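import Cfsg.Statements.S1473
import Cfsg.Agent.Lib.Coprime.Action
import Cfsg.Agent.Lib.Hall.Basic
import Cfsg.Agent.Lib.Hall.Carter
import Cfsg.Agent.Lib.Suzuki.Cover

set_option autoImplicit false
set_option linter.style.haveILetI false
open Cfsg

namespace Cfsg.Agent.S1473

universe u

/-- Nilpotency passes to smaller subgroups. -/
theorem nilp_of_le {G : Type*} [Group G] {H K : Subgroup G} (h : H ≤ K) (hK : Group.IsNilpotent K) :
    Group.IsNilpotent H :=
  haveI := hK
  CfsgLib.Suzuki.isNilpotent_of_injective' (Subgroup.inclusion h) (Subgroup.inclusion_injective h)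

/-- A prime power element of an image lifts to a prime power element. -/
theorem exists_lift {G Q : Type*} [Group G] [Finite G] [Group Q] (f : G →* Q) (g : G) {q : ℕ} [Fact q.Prime]
    {b : ℕ} (hb : orderOf (f g) ∣ q ^ b) : ∃ y : G, f y = f g ∧ ∃ a, orderOf y ∣ q ^ a := by
  classical
  obtain ⟨a, m, hm, hn⟩ := Nat.exists_eq_pow_mul_and_not_dvd (orderOf_pos g).ne' q (Fact.out : q.Prime).ne_one
  have hcop : m.Coprime (orderOf (f g)) :=
    Nat.Coprime.coprime_dvd_right hb (((Fact.out : q.Prime).coprime_iff_not_dvd.mpr hm).symm.pow_right b)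
  obtain ⟨t, -, ht⟩ := Nat.exists_mul_mod_eq_of_coprime (k := orderOf (f g)) (n := m) 1 hcop
    (orderOf_pos_iff.mpr (f.isOfFinOrder (isOfFinOrder_of_finite g))).ne'
  refine ⟨g ^ (m * t), ?_, a, orderOf_dvd_of_pow_eq_one ?_⟩
  · rw [map_pow, ← pow_mod_orderOf, ht, pow_mod_orderOf, pow_one]
  · rw [← pow_mul]
    exact orderOf_dvd_iff_pow_eq_one.mp (hn ▸ ⟨t, by ring⟩)

/-- The quotient of a CN-group by a normal abelian `p`-subgroup is a CN-group. -/
theorem cn_quotient {G : Type u} [Group G] [Finite G] (hCN : Cfsg.IsCNGroup G) {p : ℕ} [Fact p.Prime]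
    (N : Subgroup G) [N.Normal] (hNb : N ≠ ⊥) (hN : IsPGroup p N) (hab : IsMulCommutative N) :
    Cfsg.IsCNGroup (G ⧸ N) := by
  classical
  have hp := (Fact.out : p.Prime)
  set π := QuotientGroup.mk' N with hπ
  have hsurj : Function.Surjective π := QuotientGroup.mk'_surjective N
  have hker : ∀ x, π x = 1 ↔ x ∈ N := fun x => QuotientGroup.eq_one_iff x
  -- it suffices to treat elements of prime order
  suffices key : ∀ (r : ℕ) [Fact r.Prime] (z : G ⧸ N), orderOf z = r →
      Group.IsNilpotent (Subgroup.centralizer ({z} : Set (G ⧸ N))) by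
    intro x hx
    obtain ⟨r, hr, hrd⟩ := Nat.exists_prime_and_dvd (mt orderOf_eq_one_iff.mp hx)
    haveI := Fact.mk hr
    refine nilp_of_le ?_ (key r (x ^ (orderOf x / r)) (orderOf_pow_orderOf_div (orderOf_pos x).ne' hrd))
    intro c hc
    rw [Subgroup.mem_centralizer_singleton_iff] at hc ⊢
    exact ((show Commute c x from hc).pow_right _).eq
  intro r _ z hz
  obtain ⟨g, rfl⟩ := hsurj z
  obtain ⟨x, hx, a, hxa⟩ := exists_lift π g (q := r) (b := 1) (by rw [hz, pow_one])
  rw [← hx] at hz ⊢
  have hx1 : π x ≠ 1 := fun h => (Fact.out : r.Prime).ne_one (by rw [← hz, h, orderOf_one])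
  set C := (Subgroup.centralizer ({π x} : Set (G ⧸ N))).comap π with hC
  have hmemC : ∀ y : G, y ∈ C ↔ π y * π x = π x * π y := fun y => Subgroup.mem_centralizer_singleton_iff
  -- it suffices that the preimage lies over a nilpotent group
  suffices h : ∃ D : Subgroup G, Group.IsNilpotent D ∧ Subgroup.centralizer ({π x} : Set (G ⧸ N)) ≤ D.map π by
    obtain ⟨D, hD, hle⟩ := h
    exact nilp_of_le hle (Group.nilpotent_of_surjective (h := hD) (π.subgroupMap D) (π.subgroupMap_surjective D))
  by_cases hrp : r = p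
  swap
  · refine ⟨_, hCN x (fun h => hx1 (by rw [h, map_one])), fun w hw => ?_⟩
    obtain ⟨c₀, rfl⟩ := hsurj w
    have hA : (Nat.card (Subgroup.zpowers x)).Coprime (Nat.card N) := by
      rw [Nat.card_zpowers]
      obtain ⟨n, hn⟩ := IsPGroup.iff_card.mp hN
      rw [hn]
      exact ((((Nat.coprime_primes (Fact.out : r.Prime) hp).mpr hrp).pow_left a).coprime_dvd_left hxa).pow_right n
    set K := N ⊔ Subgroup.zpowers x with hK
    have hxK : x ∈ K := Subgroup.mem_sup_right (Subgroup.mem_zpowers x)
    have hcard : Nat.card K = Nat.card N * orderOf x := by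
      have h := CfsgLib.Coprime.card_sup_mul_card_inf (K := N) (S := Subgroup.zpowers x) Subgroup.le_normalizer_of_normal
      rw [CfsgLib.Coprime.inf_eq_bot_of_coprime_card hA.symm, Subgroup.card_bot, mul_one, Nat.card_zpowers] at h
      exact h
    -- both `x` and its conjugate generate complements of `N` in `K`
    set y := c₀ * x * c₀⁻¹ with hy
    have hyx : x⁻¹ * y ∈ N := by
      rw [← hker, map_mul, map_inv, hy, map_mul, map_mul, map_inv, Subgroup.mem_centralizer_singleton_iff.mp hw,
        mul_inv_cancel_right, inv_mul_cancel]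
    have hyK : y ∈ K := by
      have := mul_mem hxK (Subgroup.mem_sup_left (T := Subgroup.zpowers x) hyx)
      rwa [mul_inv_cancel_left] at this
    obtain ⟨k, hkN, hk⟩ := CfsgLib.Hall.exists_conj_le_of_complement (N := N) (H := Subgroup.zpowers x)
      (K := Subgroup.zpowers y) (by haveI := hN.isNilpotent; infer_instance) hA.symm
      (by rw [Nat.card_zpowers, hy, show c₀ * x * c₀⁻¹ = MulAut.conj c₀ x from rfl, MulEquiv.orderOf_eq,
        ← Nat.card_zpowers]; exact hA.symm) (Subgroup.zpowers_le.mpr hyK)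
    obtain ⟨u, hu, hue⟩ := hk (Subgroup.mem_zpowers y)
    -- `k⁻¹ c₀` centralizes `x`
    refine ⟨k⁻¹ * c₀, Subgroup.mem_centralizer_singleton_iff.mpr ?_, by
      rw [map_mul, map_inv, (hker k).mpr hkN, inv_one, one_mul]⟩
    have hu' : u = k⁻¹ * y * k := by
      rw [← hue]
      show u = k⁻¹ * (k * u * k⁻¹) * k
      group
    have hux : x⁻¹ * u ∈ N ⊓ Subgroup.zpowers x := by
      refine Subgroup.mem_inf.mpr ⟨(hker _).mp ?_, mul_mem (inv_mem (Subgroup.mem_zpowers x)) hu⟩
      rw [hu', map_mul, map_mul, map_mul, map_inv, map_inv, (hker k).mpr hkN, inv_one, one_mul, mul_one, ← map_inv, ← map_mul]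
      exact (hker _).mpr hyx
    rw [CfsgLib.Coprime.inf_eq_bot_of_coprime_card hA.symm, Subgroup.mem_bot, inv_mul_eq_one] at hux
    rw [hy] at hu'
    rw [← mul_inv_eq_iff_eq_mul]
    conv_rhs => rw [hux, hu']
    group
  · subst hrp
    set M := (Subgroup.zpowers (π x)).comap π with hM
    have hMp : IsPGroup r M := IsPGroup.comap_of_ker_isPGroup
      (IsPGroup.of_card (n := 1) (by rw [Nat.card_zpowers, hz, pow_one])) π (by rwa [hπ, QuotientGroup.ker_mk'])
    have hxM : x ∈ M := Subgroup.mem_zpowers (π x)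
    have hNM : N ≤ M := fun n hn => by
      rw [hM, Subgroup.mem_comap, (hker n).mpr hn]
      exact one_mem _
    have hMC : M ≤ C := fun m hm => by
      obtain ⟨k, hk⟩ := Subgroup.mem_zpowers_iff.mp (hm : π m ∈ Subgroup.zpowers (π x))
      rw [hmemC, ← hk]
      exact (Commute.refl (π x)).zpow_left k
    have hCM : C ≤ Subgroup.normalizer (M : Set G) := by
      intro c hc
      have hfix : π c * π x * (π c)⁻¹ = π x := by rw [(hmemC c).mp hc, mul_inv_cancel_right]
      have hcomm : ∀ m : G, m ∈ M → π (c * m * c⁻¹) = π m := fun m hm => by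
        obtain ⟨k, hk⟩ := Subgroup.mem_zpowers_iff.mp (hm : π m ∈ Subgroup.zpowers (π x))
        rw [map_mul, map_mul, map_inv, ← hk, ← conj_zpow, hfix]
      refine Subgroup.mem_normalizer_iff.mpr fun m => ⟨fun hm => ?_, fun hm => ?_⟩
      · show π (c * m * c⁻¹) ∈ Subgroup.zpowers (π x)
        rw [hcomm m hm]; exact hm
      · obtain ⟨k, hk⟩ := Subgroup.mem_zpowers_iff.mp (hm : π (c * m * c⁻¹) ∈ Subgroup.zpowers (π x))
        refine Subgroup.mem_zpowers_iff.mpr ⟨k, ?_⟩
        rw [← hfix, conj_zpow] at hk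
        rw [map_mul, map_mul, map_inv] at hk
        exact mul_left_cancel (mul_right_cancel hk)
    -- a Sylow subgroup of `C` contains `M`
    obtain ⟨S, hS⟩ := (hMp.comap_of_injective C.subtype C.subtype_injective).exists_le_sylow
    set P := (S : Subgroup C).map C.subtype with hP
    have hMP : M ≤ P := fun m hm => ⟨⟨m, hMC hm⟩, hS hm, rfl⟩
    have hPp : IsPGroup r P := S.2.map _
    letI : MulAction P N := MulAction.compHom N ((MulAut.conjNormal (H := N)).comp P.subtype)
    haveI : Nontrivial N := (Subgroup.nontrivial_iff_ne_bot N).mpr hNb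
    have hdvd : r ∣ Nat.card N := hN.card_eq_or_dvd.resolve_left (Finite.one_lt_card (α := N)).ne'
    obtain ⟨⟨z₀, hz₀⟩, hzfix, hz1⟩ := hPp.exists_fixed_point_of_prime_dvd_card_of_fixed_point N hdvd
      (a := 1) (fun s => map_one (MulAut.conjNormal (s : G)))
    have hzP : ∀ s ∈ P, s * z₀ = z₀ * s := fun s hs =>
      mul_inv_eq_iff_eq_mul.mp (congrArg Subtype.val (hzfix ⟨s, hs⟩))
    have hz01 : z₀ ≠ 1 := fun h => hz1 (Subtype.ext h).symm
    refine ⟨_, hCN z₀ hz01, fun w hw => ?_⟩
    obtain ⟨c₀, rfl⟩ := hsurj w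
    refine ⟨c₀, ?_, rfl⟩
    -- `C` centralizes `z₀`
    suffices hle : C ≤ Subgroup.centralizer ({z₀} : Set G) from hle hw
    have heq : C ⊓ Subgroup.centralizer ({z₀} : Set G) = C := by
      refine Subgroup.eq_of_le_of_card_ge inf_le_left (Nat.le_of_dvd Nat.card_pos ?_)
      refine (Nat.factorization_prime_le_iff_dvd Nat.card_pos.ne' Nat.card_pos.ne').mp fun q hq => ?_
      haveI := Fact.mk hq
      have hle : ∀ (T : Sylow q C), (T : Subgroup C).map C.subtype ≤ Subgroup.centralizer ({z₀} : Set G) →
          (Nat.card C).factorization q ≤ (Nat.card ↥(C ⊓ Subgroup.centralizer ({z₀} : Set G))).factorization q := by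
        intro T hT
        refine (hq.pow_dvd_iff_le_factorization Nat.card_pos.ne').mp ?_
        rw [← T.card_eq_multiplicity, ← Subgroup.card_map_of_injective C.subtype_injective]
        exact Subgroup.card_dvd_of_le (le_inf (Subgroup.map_subtype_le _) hT)
      by_cases hqr : q = r
      · subst hqr
        exact hle S fun s hs => Subgroup.mem_centralizer_singleton_iff.mpr (hzP s hs)
      obtain ⟨T⟩ := (inferInstance : Nonempty (Sylow q C))
      refine hle T ?_
      rintro _ ⟨t, ht, rfl⟩
      rw [Subgroup.mem_centralizer_singleton_iff]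
      obtain ⟨k, hk⟩ := IsPGroup.iff_orderOf.mp T.2 ⟨t, ht⟩
      rw [← Subgroup.orderOf_coe, ← Subgroup.orderOf_coe] at hk
      set y : G := (t : G) with hy
      have hyC : y ∈ C := t.2
      have hycop : (orderOf y).Coprime r := by
        rw [hy]
        exact hk ▸ ((Nat.coprime_primes hq hp).mpr hqr).pow_left k
      have hA : (Nat.card (Subgroup.zpowers y)).Coprime (Nat.card M) := by
        obtain ⟨n, hn⟩ := IsPGroup.iff_card.mp hMp
        rw [hn, Nat.card_zpowers]
        exact hycop.pow_right n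
      obtain ⟨c, hc, hcN⟩ := CfsgLib.Coprime.exists_centralizer_mem_coset (A := Subgroup.zpowers y)
        ((Subgroup.zpowers_le.mpr hyC).trans hCM) hA
        (Or.inr (by haveI := hMp.isNilpotent; infer_instance)) hNM Subgroup.le_normalizer_of_normal hxM
        (fun v hv => by
          have hvC : π v * π x = π x * π v := (hmemC v).mp (Subgroup.zpowers_le.mpr hyC hv)
          rw [← hker, map_mul, map_mul, map_mul, map_inv, map_inv, hvC, mul_inv_cancel_right, inv_mul_cancel])
      obtain ⟨hcM, hcA⟩ := Subgroup.mem_inf.mp hc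
      have hc1 : c ≠ 1 := fun h => hx1 (by
        have := (hker _).mpr hcN
        rwa [h, mul_one, map_inv, inv_eq_one] at this)
      have hzc : z₀ * c = c * z₀ := (hzP c (hMP hcM)).symm
      have hyc : y * c = c * y := Subgroup.mem_centralizer_iff.mp hcA y (Subgroup.mem_zpowers y)
      haveI := hCN c hc1
      obtain ⟨j, hj⟩ := IsPGroup.iff_orderOf.mp hN ⟨z₀, hz₀⟩
      have hcomm := CfsgLib.Hall.commute_of_coprime_orderOf
        (x := (⟨z₀, Subgroup.mem_centralizer_singleton_iff.mpr hzc⟩ : Subgroup.centralizer ({c} : Set G)))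
        (y := ⟨y, Subgroup.mem_centralizer_singleton_iff.mpr hyc⟩) (p := r) (j := j)
        (dvd_of_eq (by rw [← hj, ← Subgroup.orderOf_coe, ← Subgroup.orderOf_coe]))
        (by rwa [← Subgroup.orderOf_coe])
      exact (congrArg Subtype.val hcomm).symm
    exact fun c hc => (heq.ge hc).2

theorem cn_of_equiv {A B : Type*} [Group A] [Group B] (e : A ≃* B) (h : Cfsg.IsCNGroup A) :
    Cfsg.IsCNGroup B := by
  intro b hb
  haveI := h (e.symm b) (fun h' => hb (e.symm.injective (h'.trans (map_one _).symm)))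
  refine CfsgLib.Suzuki.isNilpotent_of_injective'
    ((e.symm.toMonoidHom.comp (Subgroup.centralizer ({b} : Set B)).subtype).codRestrict
      (Subgroup.centralizer ({e.symm b} : Set A)) fun c => Subgroup.mem_centralizer_singleton_iff.mpr ?_)
    (fun c d hcd => Subtype.ext (e.symm.injective (congrArg Subtype.val hcd)))
  show e.symm c * e.symm b = e.symm b * e.symm c
  rw [← map_mul, ← map_mul, Subgroup.mem_centralizer_singleton_iff.mp c.2]

theorem aux (n : ℕ) : ∀ (G : Type u) [Group G] [Finite G], Nat.card G ≤ n → Cfsg.IsCNGroup G →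
    ∀ (H : Subgroup G) [H.Normal], Group.IsSolvable H → Cfsg.IsCNGroup (G ⧸ H) := by
  induction n with
  | zero => intro G _ _ hn; exact absurd hn (by have := Nat.card_pos (α := G); omega)
  | succ n ih =>
    intro G _ _ hn hCN H _ hH
    by_cases hHb : H = ⊥
    · exact cn_of_equiv ((QuotientGroup.quotientBot (G := G)).symm.trans
        (QuotientGroup.quotientMulEquivOfEq hHb.symm)) hCN
    obtain ⟨V, ⟨hV, hVb, hVH⟩, hVmin⟩ := (wellFounded_lt (α := Subgroup G)).has_min
      {M : Subgroup G | M.Normal ∧ M ≠ ⊥ ∧ M ≤ H} ⟨H, inferInstance, hHb, le_rfl⟩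
    haveI := hV
    haveI := hH
    haveI : Group.IsSolvable V := solvable_of_solvable_injective (Subgroup.inclusion_injective hVH)
    haveI : Nontrivial V := (Subgroup.nontrivial_iff_ne_bot V).mpr hVb
    have hVc : IsMulCommutative V := by
      refine Subgroup.commutator_self_eq_bot_iff.mp (not_not.mp fun hne => hVmin ⁅V, V⁆
        ⟨inferInstance, hne, (Subgroup.commutator_le_left V V).trans hVH⟩ ?_)
      have h := Subgroup.map_lt_map_iff_of_injective V.subtype_injective
        |>.mpr (IsSolvable.commutator_lt_top_of_nontrivial V)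
      rwa [Subgroup.map_subtype_commutator, ← MonoidHom.range_eq_map, Subgroup.range_subtype] at h
    obtain ⟨p, hp, hpd⟩ := Nat.exists_prime_and_dvd (Finite.one_lt_card (α := V)).ne'
    haveI := Fact.mk hp
    obtain ⟨P⟩ := (inferInstance : Nonempty (Sylow p V))
    haveI := Sylow.characteristic_of_normal P
      ⟨fun x hx g => by rwa [mul_comm' g x, mul_inv_cancel_right]⟩
    set N := (P : Subgroup V).map V.subtype with hN
    have hNb : N ≠ ⊥ := by
      rw [hN, Ne, Subgroup.map_eq_bot_iff_of_injective _ V.subtype_injective]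
      exact P.ne_bot_of_dvd_card hpd
    have hNH : N ≤ H := (Subgroup.map_subtype_le _).trans hVH
    have hNc : IsMulCommutative N := ⟨⟨by
      rintro ⟨_, a, -, rfl⟩ ⟨_, b, -, rfl⟩
      exact Subtype.ext (congrArg Subtype.val (mul_comm' a b) :)⟩⟩
    haveI : (H.map (QuotientGroup.mk' N)).Normal :=
      Subgroup.Normal.map inferInstance _ (QuotientGroup.mk'_surjective N)
    have hcard : Nat.card (G ⧸ N) ≤ n := by
      haveI : Nontrivial N := (Subgroup.nontrivial_iff_ne_bot N).mpr hNb
      have h1 := N.card_mul_index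
      have h2 : 2 ≤ Nat.card N := Finite.one_lt_card
      have h3 : 0 < N.index := Nat.pos_of_ne_zero Subgroup.index_ne_zero_of_finite
      have : N.index * 2 ≤ n + 1 := by nlinarith
      change N.index ≤ n
      omega
    exact cn_of_equiv (QuotientGroup.quotientQuotientEquivQuotient N H hNH)
      (ih (G ⧸ N) hcard (cn_quotient hCN N hNb (P.2.map _) hNc) (H.map (QuotientGroup.mk' N))
        (solvable_of_surjective ((QuotientGroup.mk' N).subgroupMap_surjective H)))


/-- Let G be a finite group in which the centralizer of every non-identity element is nilpotent, and H a solvable normal subgroup of G. Then in G/H the centralizer of every non-identity element is nilpotent. -/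
theorem result {G : Type*} [Group G] [Finite G] (hCN : Cfsg.IsCNGroup G) (H : Subgroup G) [H.Normal] (hH : Group.IsSolvable H) :
    Cfsg.IsCNGroup (G ⧸ H) := by
  exact aux (Nat.card G) G le_rfl hCN H hH
end Cfsg.Agent.S1473
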