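import Cfsg.Statements.S0144
import Cfsg.Agent.Lib.Char.Gallagher
import Cfsg.Agent.Lib.Char.Burnside

set_option autoImplicit false
open Cfsg

namespace Cfsg.Agent.S0144

open CfsgLib.Char

universe w

theorem aux (p q : ℕ) (hp : p.Prime) (hq : q.Prime) : ∀ (n : ℕ) (G : Type w) [Group G] [Finite G],
    Nat.card G = n → (∃ a b, n ∣ p ^ a * q ^ b) → Group.IsSolvable G := by
  classical
  intro n
  induction n using Nat.strong_induction_on with
  | _ n ih => ?_
  intro G _ _ hn hdiv
  obtain ⟨a, b, hdiv⟩ := hdiv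
  rcases subsingleton_or_nontrivial G with hG | hG
  · infer_instance
  by_cases hs : IsSimpleGroup G
  · suffices (Nat.card G).Prime by
      have := Fact.mk this
      have : IsCyclic G := isCyclic_of_prime_card rfl
      have hcomm : ∀ x y : G, x * y = y * x := fun x y => by
        obtain ⟨g, hg⟩ := IsCyclic.exists_generator (α := G)
        obtain ⟨i, rfl⟩ := hg x
        obtain ⟨j, rfl⟩ := hg y
        exact zpow_mul_comm g i j
      exact isSolvable_of_comm hcomm
    set r := (Nat.card G).minFac
    have hr : r.Prime := Nat.minFac_prime Finite.one_lt_card.ne'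
    have hrd : r ∣ Nat.card G := Nat.minFac_dvd _
    have := Fact.mk hr
    let P : Sylow r G := default
    have : Nontrivial (P : Subgroup G) := by
      refine (Subgroup.nontrivial_iff_ne_bot _).mpr ?_
      exact P.ne_bot_of_dvd_card hrd
    have := P.isPGroup'.center_nontrivial
    obtain ⟨z, hz⟩ := exists_ne (1 : Subgroup.center (P : Subgroup G))
    have hz' : ((z : (P : Subgroup G)) : G) ≠ 1 := fun e => hz (Subtype.ext (Subtype.ext e))
    have hPC : (P : Subgroup G) ≤ Subgroup.centralizer ({((z : (P : Subgroup G)) : G)} : Set G) := by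
      intro x hx
      rw [Subgroup.mem_centralizer_singleton_iff]
      exact (congrArg Subtype.val (Subgroup.mem_center_iff.mp z.2 ⟨x, hx⟩))
    have hidx : (Subgroup.centralizer ({((z : (P : Subgroup G)) : G)} : Set G)).index ∣ (P : Subgroup G).index :=
      Subgroup.index_dvd_of_le hPC
    have hPd : (P : Subgroup G).index ∣ p ^ a * q ^ b :=
      ((P : Subgroup G).index_dvd_card.trans (dvd_of_eq hn)).trans hdiv
    obtain ⟨d1, d2, h1, h2, h12⟩ := (Nat.dvd_mul).mp (hidx.trans hPd)
    obtain ⟨i, hi, rfl⟩ := (Nat.dvd_prime_pow hp).mp h1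
    obtain ⟨j, hj, rfl⟩ := (Nat.dvd_prime_pow hq).mp h2
    have hrpq : r = p ∨ r = q := by
      rcases (Nat.Prime.dvd_mul hr).mp ((hrd.trans (dvd_of_eq hn)).trans hdiv) with h | h
      · exact Or.inl ((Nat.prime_dvd_prime_iff_eq hr hp).mp (hr.dvd_of_dvd_pow h))
      · exact Or.inr ((Nat.prime_dvd_prime_iff_eq hr hq).mp (hr.dvd_of_dvd_pow h))
    have hnd : ¬ r ∣ p ^ i * q ^ j := fun h =>
      P.not_dvd_index ((h.trans (dvd_of_eq h12)).trans hidx)
    rcases hrpq with e | e
    · have : i = 0 := by
        by_contra h; exact hnd ((dvd_of_eq e).trans ((dvd_pow_self p h).mul_right _))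
      exact prime_card_of_prime_power_class q j hq _ hz' (by rw [← h12, this, pow_zero, one_mul])
    · have : j = 0 := by
        by_contra h; exact hnd ((dvd_of_eq e).trans ((dvd_pow_self q h).mul_left _))
      exact prime_card_of_prime_power_class p i hp _ hz' (by rw [← h12, this, pow_zero, mul_one])
  · obtain ⟨N, hN, hbot, htop⟩ : ∃ N : Subgroup G, N.Normal ∧ N ≠ ⊥ ∧ N ≠ ⊤ := by
      by_contra h
      push_neg at h
      exact hs ⟨fun N hN => or_iff_not_imp_left.mpr fun hb => h N hN hb⟩
    have hlt1 : Nat.card N < n := by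
      rw [← hn]
      exact lt_of_le_of_ne (Subgroup.card_le_card_group N) (fun e => htop (Subgroup.eq_top_of_card_eq N e))
    have hlt2 : Nat.card (G ⧸ N) < n := by
      have h1 : 1 < Nat.card N := (Subgroup.one_lt_card_iff_ne_bot N).mpr hbot
      have h3 : 0 < Nat.card (G ⧸ N) := Nat.card_pos
      rw [← hn, Subgroup.card_eq_card_quotient_mul_card_subgroup N]
      nlinarith
    have s1 := ih _ hlt1 N rfl ⟨a, b, ((Subgroup.card_subgroup_dvd_card N).trans (dvd_of_eq hn)).trans hdiv⟩
    have s2 := ih _ hlt2 (G ⧸ N) rfl ⟨a, b, ((Subgroup.card_quotient_dvd_card N).trans (dvd_of_eq hn)).trans hdiv⟩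
    exact solvable_of_ker_le_range N.subtype (QuotientGroup.mk' N) (by simp)

/-- The Burnside two-prime Theorem: a finite group of order p ^ a * q ^ b, for primes p and q, is solvable. -/
theorem result {G : Type*} [Group G] [Finite G] (p q a b : ℕ) (hp : p.Prime) (hq : q.Prime) (hcard : Nat.card G = p ^ a * q ^ b) : Group.IsSolvable G := by
  exact aux p q hp hq _ G rfl ⟨a, b, dvd_of_eq hcard⟩

end Cfsg.Agent.S0144
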