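import Cfsg.Statements.S0033
import Cfsg.Agent.Lib.Splitting.Nilpotent

set_option autoImplicit false
open Cfsg

namespace Cfsg.Agent.S0033

/-- Thompson's Theorem on fixed-point-free automorphisms: a finite group with an automorphism of prime order fixing only the identity is nilpotent. -/
theorem result {G : Type*} [Group G] [Finite G] (φ : G ≃* G)
    (hφ : MonoidHom.FixedPointFree (φ : G →* G)) (p : ℕ) (hp : p.Prime) (hord : orderOf φ = p) :
    Group.IsNilpotent G := by
  have := Fact.mk hp
  have hit : ∀ (n : ℕ) (g : G), (φ ^ n : MulAut G) g = (⇑φ)^[n] g := by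
    intro n
    induction n with
    | zero => intro g; rfl
    | succ n ih => intro g; rw [pow_succ, MulAut.mul_apply, ih, Function.iterate_succ_apply]
  let A : Subgroup (MulAut G) := Subgroup.zpowers φ
  let y : SemidirectProduct G A A.subtype := SemidirectProduct.inr ⟨φ, Subgroup.mem_zpowers φ⟩
  have : Finite (SemidirectProduct G A A.subtype) := Finite.of_equiv _ SemidirectProduct.equivProd.symm
  let ι : G →* SemidirectProduct G A A.subtype := SemidirectProduct.inl
  have : ι.range.Normal := by
    show (SemidirectProduct.inl : G →* SemidirectProduct G A A.subtype).range.Normal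
    rw [SemidirectProduct.range_inl_eq_ker_rightHom]; infer_instance
  have key : Group.IsNilpotent ι.range := by
    refine CfsgLib.Splitting.isNilpotent_of_splitting (p := p) ι.range y
      (by rw [Subgroup.normalizer_eq_top]; exact Subgroup.mem_top _) ?_
    rintro _ ⟨g, rfl⟩
    have hpow : ∀ n : ℕ, (ι g * y) ^ n =
        ι (((List.range n).map fun k => (⇑φ)^[k] g).prod) * y ^ n := by
      intro n
      induction n with
      | zero => simp
      | succ n ih =>
        rw [pow_succ (ι g * y), ih, List.prod_range_succ, map_mul, pow_succ y]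
        have hconj : y ^ n * ι g = ι ((⇑φ)^[n] g) * y ^ n := by
          have : y ^ n * ι g * (y ^ n)⁻¹ = ι ((⇑φ)^[n] g) := by
            rw [← map_pow, ← map_inv, ← hit]
            exact (SemidirectProduct.inl_aut (⟨φ, Subgroup.mem_zpowers φ⟩ ^ n : A) g).symm
          rw [← this]; group
        simp only [mul_assoc]
        rw [← mul_assoc (y ^ n), hconj]
        simp only [mul_assoc]
    have hφ' : MonoidHom.FixedPointFree φ := hφ
    rw [hpow, hφ'.prod_pow_eq_one ?_ g, map_one, one_mul]
    · show (SemidirectProduct.inr _) ^ p = 1
      rw [← map_pow]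
      have : (⟨φ, Subgroup.mem_zpowers φ⟩ : A) ^ p = 1 :=
        Subtype.ext (by rw [SubgroupClass.coe_pow, ← hord, pow_orderOf_eq_one]; rfl)
      rw [this, map_one]
    · funext g'
      show (⇑φ)^[p] g' = g'
      rw [← hit, ← hord, pow_orderOf_eq_one]
      rfl
  exact CfsgLib.Splitting.isNilpotent_congr
    (MonoidHom.ofInjective (f := ι) SemidirectProduct.inl_injective).symm key

end Cfsg.Agent.S0033
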