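import Cfsg.Statements.S0009
import Mathlib
import Cfsg.Agent.Lib.Fitting.Basic

set_option autoImplicit false
set_option linter.style.haveILetI false
open Cfsg

namespace Cfsg.Agent.S0009

/-- The Fitting subgroup of a finite group is generated by the p-cores, p ranging over the primes. -/
theorem result {G : Type*} [Group G] [Finite G] :
    Cfsg.fittingSubgroup G = ⨆ p : Nat.Primes, Cfsg.pCore (p : ℕ) G := by
  classical
  refine le_antisymm ?_ (iSup_le fun p => ?_)
  · intro x hx
    haveI := CfsgLib.Fitting.fittingSubgroup_isNilpotent (G := G)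
    haveI := CfsgLib.Fitting.fittingSubgroup_normal (G := G)
    set F := Cfsg.fittingSubgroup G
    have key : ∀ (q : ℕ) [Fact q.Prime] (P : Sylow q F),
        (P : Subgroup F).map F.subtype ≤ ⨆ p : Nat.Primes, Cfsg.pCore (p : ℕ) G := by
      intro q hq P
      haveI : (P : Subgroup F).Characteristic := Sylow.characteristic_of_normal P inferInstance
      exact le_iSup_of_le (⟨q, hq.out⟩ : Nat.Primes) (CfsgLib.Fitting.le_pCore
        ConjAct.normal_of_characteristic_of_normal (P.2.map _))
    have htop : (⊤ : Subgroup F) ≤ (⨆ p : Nat.Primes, Cfsg.pCore (p : ℕ) G).subgroupOf F := by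
      rw [← Subgroup.index_eq_one.mp (?_ : Subgroup.index
        ((⨆ p : Nat.Primes, Cfsg.pCore (p : ℕ) G).subgroupOf F) = 1)]
      by_contra h
      obtain ⟨q, hq, hdvd⟩ := Nat.exists_prime_and_dvd h
      haveI := Fact.mk hq
      let P : Sylow q F := default
      refine P.not_dvd_index (hdvd.trans (Subgroup.index_dvd_of_le ?_))
      intro y hy
      exact key q P (Subgroup.mem_map_of_mem _ hy)
    exact htop (Subgroup.mem_top (⟨x, hx⟩ : F))
  · haveI := Fact.mk p.2
    exact CfsgLib.Fitting.pCore_le_fittingSubgroup (p : ℕ)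

end Cfsg.Agent.S0009
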