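import Cfsg.Statements.S0043
import Mathlib
import Cfsg.Agent.Lib.Hall.Chief

set_option autoImplicit false
set_option linter.style.haveILetI false
open Cfsg

namespace Cfsg.Agent.S0043

/-- A minimal normal subgroup of a finite solvable group is abelian, and for some prime p all of its elements have order dividing p. -/
theorem result {G : Type*} [Group G] [Finite G] [Group.IsSolvable G]
    (N : Subgroup G) [N.Normal] (hN : N ≠ ⊥) (hmin : ∀ M : Subgroup G, M.Normal → M ≤ N → M = ⊥ ∨ M = N) :
    IsMulCommutative N ∧ ∃ p : ℕ, p.Prime ∧ ∀ x ∈ N, x ^ p = 1 := by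
  obtain ⟨p, hp, hN'⟩ := CfsgLib.Hall.exists_prime_isPGroup_of_minimal hN hmin
  haveI := Fact.mk hp
  have hc : IsMulCommutative N := by
    rcases hmin ⁅N, N⁆ inferInstance (Subgroup.commutator_le_left N N) with h | h
    · exact Subgroup.commutator_self_eq_bot_iff.mp h
    · exfalso
      obtain ⟨m, hm⟩ := (inferInstance : Group.IsSolvable G).solvable
      have : ∀ k, N ≤ derivedSeries G k := by
        intro k
        induction k with
        | zero => simp
        | succ k ih => rw [derivedSeries_succ, ← h]; exact Subgroup.commutator_mono ih ih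
      exact hN (le_bot_iff.mp (hm ▸ this m))
  refine ⟨hc, p, hp, ?_⟩
  let M : Subgroup G :=
    { carrier := {x | x ∈ N ∧ x ^ p = 1}
      one_mem' := ⟨N.one_mem, one_pow p⟩
      mul_mem' := fun {x y} hx hy => ⟨N.mul_mem hx.1 hy.1, by
        rw [(show Commute x y from congrArg Subtype.val (mul_comm' (⟨x, hx.1⟩ : N) ⟨y, hy.1⟩)).mul_pow,
          hx.2, hy.2, one_mul]⟩
      inv_mem' := fun {x} hx => ⟨N.inv_mem hx.1, by rw [inv_pow, hx.2, inv_one]⟩ }
  haveI : M.Normal := ⟨fun x hx g => ⟨(inferInstance : N.Normal).conj_mem x hx.1 g, by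
    rw [conj_pow, hx.2, mul_one, mul_inv_cancel]⟩⟩
  rcases hmin M inferInstance (fun x hx => hx.1) with h | h
  · exfalso
    haveI : Nontrivial N := (Subgroup.nontrivial_iff_ne_bot N).mpr hN
    have hd : p ∣ Nat.card N := by
      obtain ⟨k, hk⟩ := IsPGroup.iff_card.mp hN'
      rcases k with _ | k
      · rw [pow_zero] at hk
        exact absurd hk (Finite.one_lt_card (α := N)).ne'
      · exact hk ▸ dvd_pow_self p (Nat.succ_ne_zero k)
    obtain ⟨y, hy⟩ := exists_prime_orderOf_dvd_card' p hd
    have hyM : (y : G) ∈ M := ⟨y.2, by rw [← hy, ← Subgroup.orderOf_coe]; exact pow_orderOf_eq_one _⟩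
    rw [h, Subgroup.mem_bot] at hyM
    rw [show y = 1 from Subtype.ext hyM, orderOf_one] at hy
    exact hp.ne_one hy.symm
  · intro x hx
    rw [← h] at hx
    exact hx.2

end Cfsg.Agent.S0043
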