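import Cfsg.Statements.S3909
import Mathlib

set_option autoImplicit false
set_option linter.style.haveILetI false
open Cfsg

namespace Cfsg.Agent.S3909

/-- Let G be a finite group in which any two abelian subgroups of the same order are conjugate. Let M be a normal subgroup of G. If M contains an element of the same order as a ∈ G, then a ∈ M; and if M is elementary abelian of order p^t with p prime and t ≥ 2, then M is the unique Sylow p-subgroup of G. -/
theorem result {G : Type*} [Group G] [Finite G] (hB : ∀ A B : Subgroup G, IsMulCommutative ↥A → IsMulCommutative ↥B → Nat.card ↥A = Nat.card ↥B → ∃ g : G, B = A.map (MulAut.conj g).toMonoidHom) (M : Subgroup G) [M.Normal] :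
    (∀ a : G, (∃ m ∈ M, orderOf m = orderOf a) → a ∈ M) ∧
    ∀ (p t : ℕ) [Fact p.Prime], 2 ≤ t → Nat.card ↥M = p ^ t → Cfsg.IsElementaryAbelian p M → ∀ P : Sylow p G, (P : Subgroup G) = M := by
  classical
  have hcyc : ∀ a : G, IsMulCommutative ↥(Subgroup.zpowers a) := fun a => inferInstance
  refine ⟨fun a ⟨m, hm, hma⟩ => ?_, fun p t hp ht hM hME P => ?_⟩
  · obtain ⟨g, hg⟩ := hB (Subgroup.zpowers m) (Subgroup.zpowers a) (hcyc m) (hcyc a)
      (by rw [Nat.card_zpowers, Nat.card_zpowers, hma])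
    have ha : a ∈ (Subgroup.zpowers m).map (MulAut.conj g).toMonoidHom := hg ▸ Subgroup.mem_zpowers a
    obtain ⟨y, hy, rfl⟩ := ha
    exact (inferInstance : M.Normal).conj_mem y (Subgroup.zpowers_le.mpr hm hy) g
  have hMP : M ≤ (P : Subgroup G) := by
    obtain ⟨Q, hQ⟩ := (IsPGroup.of_card hM).exists_le_sylow
    obtain ⟨g, rfl⟩ := MulAction.exists_smul_eq G Q P
    intro x hx
    have h1 := Subgroup.smul_mem_pointwise_smul _ (MulAut.conj g) (Q : Subgroup G)
      (hQ ((inferInstance : M.Normal).conj_mem x hx g⁻¹))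
    have h2 : g * (g⁻¹ * x * g⁻¹⁻¹) * g⁻¹ ∈ ((g • Q : Sylow p G) : Subgroup G) := h1
    rwa [show g * (g⁻¹ * x * g⁻¹⁻¹) * g⁻¹ = x by group] at h2
  refine le_antisymm (fun x hx => ?_) hMP
  by_contra hxM
  have hd : ∃ k, orderOf x = p ^ k := by
    obtain ⟨k, hk⟩ := P.2 ⟨x, hx⟩
    obtain ⟨j, -, hj⟩ := (Nat.dvd_prime_pow hp.out).mp (orderOf_dvd_of_pow_eq_one
      (congrArg Subtype.val hk : x ^ p ^ k = 1))
    exact ⟨j, hj⟩
  obtain ⟨k, hk⟩ := hd
  obtain ⟨m, hm, hm1⟩ : ∃ m ∈ M, orderOf m = p := by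
    obtain ⟨m, hm⟩ := exists_prime_orderOf_dvd_card' (G := M) p (by rw [hM]; exact dvd_pow_self p (by omega))
    exact ⟨m.1, m.2, by rw [Subgroup.orderOf_coe]; exact hm⟩
  have part1 : ∀ a : G, orderOf a = p → a ∈ M := by
    intro a ha
    obtain ⟨g, hg⟩ := hB (Subgroup.zpowers m) (Subgroup.zpowers a) (hcyc m) (hcyc a)
      (by rw [Nat.card_zpowers, Nat.card_zpowers, hm1, ha])
    obtain ⟨y, hy, rfl⟩ := (hg ▸ Subgroup.mem_zpowers a :
      a ∈ (Subgroup.zpowers m).map (MulAut.conj g).toMonoidHom)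
    exact (inferInstance : M.Normal).conj_mem y (Subgroup.zpowers_le.mpr hm hy) g
  rcases Nat.lt_or_ge k 2 with hk2 | hk2
  · interval_cases k
    · rw [pow_zero, orderOf_eq_one_iff] at hk
      exact hxM (hk ▸ M.one_mem)
    · exact hxM (part1 x (by rw [hk, pow_one]))
  · set y := x ^ p ^ (k - 2) with hy
    have hyo : orderOf y = p ^ 2 := by
      rw [hy, orderOf_pow_of_dvd (pow_ne_zero _ hp.out.ne_zero) (by rw [hk]; exact pow_dvd_pow p (by omega)),
        hk, Nat.pow_div (by omega) hp.out.pos]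
      congr 1
      omega
    obtain ⟨S, hS⟩ := Sylow.exists_subgroup_card_pow_prime p (n := 2) (G := M) (by
      rw [hM]; exact pow_dvd_pow p ht)
    obtain ⟨g, hg⟩ := hB (S.map M.subtype) (Subgroup.zpowers y) (by
        haveI : IsMulCommutative ↥M := hME.1
        exact Subgroup.map_isMulCommutative S M.subtype) (hcyc y)
      (by rw [Subgroup.card_map_of_injective M.subtype_injective, hS, Nat.card_zpowers, hyo])
    obtain ⟨z, hz, hzy⟩ := (hg ▸ Subgroup.mem_zpowers y :
      y ∈ (S.map M.subtype).map (MulAut.conj g).toMonoidHom)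
    have h1 : z ^ p = 1 := hME.2 z (Subgroup.map_subtype_le S hz)
    have h2 : y ^ p = 1 := by rw [← hzy, ← map_pow, h1, map_one]
    have h3 := orderOf_dvd_of_pow_eq_one h2
    rw [hyo] at h3
    have := Nat.le_of_dvd hp.out.pos h3
    nlinarith [hp.out.two_le]

end Cfsg.Agent.S3909
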