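import Cfsg.Statements.S3912
import Mathlib
import Cfsg.Agent.Lib.ZStar.Recognize
import Cfsg.Agent.S0043

-- statement Cfsg.CfsgFrozen.S3912

set_option autoImplicit false

universe u

namespace Cfsg.Agent.S3912

open scoped commutatorElement
variable {G : Type u} [Group G] [Finite G]

/-- All abelian subgroups of the same order are conjugate. -/
def AbConj (G : Type u) [Group G] : Prop :=
  ∀ A B : Subgroup G, IsMulCommutative ↥A → IsMulCommutative ↥B → Nat.card ↥A = Nat.card ↥B →
      ∃ g : G, B = A.map (MulAut.conj g).toMonoidHom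

lemma comm_of {H : Subgroup G} (h : ∀ x ∈ H, ∀ y ∈ H, x * y = y * x) : IsMulCommutative ↥H :=
  ⟨⟨fun x y => Subtype.ext (h x x.2 y y.2)⟩⟩

lemma mem_of_comm {H : Subgroup G} (h : IsMulCommutative ↥H) {x y : G} (hx : x ∈ H) (hy : y ∈ H) :
    x * y = y * x :=
  congrArg Subtype.val (h.is_comm.comm (⟨x, hx⟩ : H) ⟨y, hy⟩)

lemma zpowers_comm (x : G) : IsMulCommutative ↥(Subgroup.zpowers x) :=
  comm_of fun a ha b hb => by
    obtain ⟨i, rfl⟩ := ha
    obtain ⟨j, rfl⟩ := hb
    exact zpow_mul_comm x i j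

lemma mem_of_same_order (hB : AbConj G) {L : Subgroup G} [L.Normal] {x y : G}
    (h : orderOf x = orderOf y) (hx : x ∈ L) : y ∈ L := by
  obtain ⟨g, hg⟩ := hB _ _ (zpowers_comm x) (zpowers_comm y)
    (by rw [Nat.card_zpowers, Nat.card_zpowers, h])
  have hy : y ∈ (Subgroup.zpowers x).map (MulAut.conj g).toMonoidHom :=
    hg ▸ Subgroup.mem_zpowers y
  obtain ⟨z, hz, rfl⟩ := hy
  have : z ∈ L := by
    obtain ⟨i, rfl⟩ := hz
    exact zpow_mem hx i
  exact Subgroup.Normal.conj_mem (inferInstance : L.Normal) z this g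

/-- In a solvable group with all cyclic subgroups of order 4 conjugate, no subgroup is
generalized quaternion of order at least 16. -/
lemma no_large_quaternion (hsol : Group.IsSolvable G) (hB : AbConj G) {P : Subgroup G} {m : ℕ}
    [NeZero m] (hm : 4 ∣ m) (e : QuaternionGroup m ≃* ↥P) : False := by
  set f : QuaternionGroup m →* G := P.subtype.comp e.toMonoidHom
  have hfi : Function.Injective f := fun a b h => e.injective (Subtype.ext h)
  have hall : ∀ n : ℕ, ∀ q : QuaternionGroup m, f q ∈ derivedSeries G n := by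
    intro n
    induction n with
    | zero => intro q; simp
    | succ n ih =>
      haveI : (derivedSeries G (n + 1)).Normal := inferInstance
      have h2 : f (QuaternionGroup.a 2) ∈ derivedSeries G (n + 1) := by
        rw [derivedSeries_succ]
        have hc : QuaternionGroup.a 2 = ⁅(QuaternionGroup.a 1 : QuaternionGroup m), (QuaternionGroup.xa 0 : QuaternionGroup m)⁆ := by
          rw [commutatorElement_def]
          show QuaternionGroup.a 2 = QuaternionGroup.a 1 * QuaternionGroup.xa 0 * (QuaternionGroup.a 1)⁻¹ * (QuaternionGroup.xa 0)⁻¹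
          have hn : ((2 * m : ℕ) : ZMod (2 * m)) = 0 := ZMod.natCast_self _
          have h3 : (QuaternionGroup.a 1 : QuaternionGroup m)⁻¹ = QuaternionGroup.a (-1) := rfl
          have h4 : (QuaternionGroup.xa 0 : QuaternionGroup m)⁻¹ = QuaternionGroup.xa ((m : ZMod (2 * m)) + 0) := rfl
          rw [h3, h4, QuaternionGroup.a_mul_xa, QuaternionGroup.xa_mul_a, QuaternionGroup.xa_mul_xa]
          congr 1
          push_cast at hn
          linear_combination -hn
        rw [hc, map_commutatorElement]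
        exact Subgroup.commutator_mem_commutator (ih _) (ih _)
      obtain ⟨s, hs⟩ := hm
      have ho2 : orderOf (QuaternionGroup.a 2 : QuaternionGroup m) = m := by
        have : (QuaternionGroup.a 2 : QuaternionGroup m) = QuaternionGroup.a 1 ^ 2 := by
          rw [QuaternionGroup.a_one_pow]; norm_num
        rw [this, orderOf_pow_of_dvd (by norm_num)
          (by rw [QuaternionGroup.orderOf_a_one]; exact dvd_mul_right 2 m),
          QuaternionGroup.orderOf_a_one, Nat.mul_div_cancel_left _ (by norm_num)]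
      -- an element of order four
      obtain ⟨u, hu, huo⟩ : ∃ u : G, u ∈ derivedSeries G (n + 1) ∧ orderOf u = 4 := by
        refine ⟨f (QuaternionGroup.a 2) ^ s, pow_mem h2 s, ?_⟩
        have hs0 : 0 < s := Nat.pos_of_ne_zero fun h => NeZero.ne m (by rw [hs, h, mul_zero])
        rw [← map_pow, orderOf_injective f hfi, orderOf_pow_of_dvd hs0.ne'
          (by rw [ho2, hs]; exact dvd_mul_left s 4), ho2, hs, Nat.mul_div_cancel _ hs0]
      intro q
      have hxa : ∀ i : ZMod (2 * m), f (QuaternionGroup.xa i) ∈ derivedSeries G (n + 1) := fun i =>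
        mem_of_same_order hB (by rw [huo, orderOf_injective f hfi, QuaternionGroup.orderOf_xa]) hu
      rcases q with i | i
      · have : (QuaternionGroup.a i : QuaternionGroup m) = QuaternionGroup.xa (m : ZMod (2 * m)) * QuaternionGroup.xa i := by
          rw [QuaternionGroup.xa_mul_xa]; congr 1; ring
        rw [this, map_mul]
        exact mul_mem (hxa _) (hxa _)
      · exact hxa i
  obtain ⟨n, hn⟩ := hsol.solvable
  have := hall n (QuaternionGroup.a 1)
  rw [hn, Subgroup.mem_bot, map_eq_one_iff f hfi] at this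
  have h1 := QuaternionGroup.orderOf_a_one (n := m)
  rw [this, orderOf_one] at h1
  omega

lemma push {N : Subgroup G} [N.Normal] {C C' : Subgroup G} {g : G}
    (h : C' = C.map (MulAut.conj g).toMonoidHom) :
    C'.map (QuotientGroup.mk' N) =
      (C.map (QuotientGroup.mk' N)).map (MulAut.conj (QuotientGroup.mk' N g)).toMonoidHom := by
  rw [h, Subgroup.map_map, Subgroup.map_map]
  congr 1

lemma card_comap (N : Subgroup G) [N.Normal] (A : Subgroup (G ⧸ N)) :
    Nat.card ↥(A.comap (QuotientGroup.mk' N)) = Nat.card A * Nat.card N := by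
  have h1 := Subgroup.index_comap_of_surjective A (QuotientGroup.mk'_surjective N)
  have h2 := (A.comap (QuotientGroup.mk' N)).card_mul_index
  have h3 := A.card_mul_index
  have h4 := Subgroup.card_eq_card_quotient_mul_card_subgroup N
  rw [h1] at h2
  have hi : 0 < A.index := Nat.pos_of_ne_zero Subgroup.index_ne_zero_of_finite
  apply Nat.eq_of_mul_eq_mul_right hi
  calc Nat.card ↥(A.comap (QuotientGroup.mk' N)) * A.index = Nat.card (G ⧸ N) * Nat.card N := by
        rw [h2, h4]
    _ = Nat.card A * Nat.card N * A.index := by rw [← h3]; ring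

/-- Coprime lift of an abelian subgroup of a quotient. -/
lemma lift (N : Subgroup G) [N.Normal] (A : Subgroup (G ⧸ N)) (hA : IsMulCommutative ↥A)
    (hc : (Nat.card N).Coprime (Nat.card A)) :
    ∃ C : Subgroup G, C.map (QuotientGroup.mk' N) = A ∧ Nat.card C = Nat.card A ∧
      IsMulCommutative ↥C := by
  set X : Subgroup G := A.comap (QuotientGroup.mk' N)
  have hNX : N ≤ X := fun n hn => by
    show QuotientGroup.mk' N n ∈ A
    rw [show QuotientGroup.mk' N n = 1 from (QuotientGroup.eq_one_iff n).mpr hn]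
    exact one_mem _
  have hNcard : Nat.card ↥(N.subgroupOf X) = Nat.card N :=
    Nat.card_congr (Subgroup.subgroupOfEquivOfLe hNX).toEquiv
  have hidx : (N.subgroupOf X).index = Nat.card A := by
    have h1 := (N.subgroupOf X).card_mul_index
    rw [hNcard, card_comap N A, mul_comm (Nat.card A)] at h1
    exact Nat.eq_of_mul_eq_mul_left Nat.card_pos h1
  obtain ⟨C0, hC0⟩ := Subgroup.exists_right_complement'_of_coprime (N := N.subgroupOf X)
    (by rw [hNcard, hidx]; exact hc)
  set C : Subgroup G := C0.map X.subtype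
  have hCcard : Nat.card C = Nat.card A := by
    rw [Subgroup.card_subtype, ← hidx]
    exact hC0.symm.index_eq_card.symm
  have hCX : C ≤ X := by
    rintro _ ⟨c, -, rfl⟩; exact c.2
  have hCN : ∀ c ∈ C, c ∈ N → c = 1 := by
    rintro _ ⟨c, hc0, rfl⟩ hn
    have : c ∈ (⊥ : Subgroup X) := hC0.disjoint.le_bot ⟨hn, hc0⟩
    rw [Subgroup.mem_bot] at this
    rw [this]; rfl
  have hmap : C.map (QuotientGroup.mk' N) = A := by
    refine Subgroup.eq_of_le_of_card_ge ?_ ?_
    · rintro _ ⟨c, hc0, rfl⟩; exact hCX hc0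
    · rw [← hCcard]
      refine Nat.card_le_card_of_injective
        (fun c : C => (⟨QuotientGroup.mk' N c, Subgroup.mem_map_of_mem _ c.2⟩ :
          C.map (QuotientGroup.mk' N))) ?_
      intro a b hab
      have h1 : QuotientGroup.mk' N (a : G) = QuotientGroup.mk' N b := congrArg Subtype.val hab
      have h2 := hCN _ (mul_mem (inv_mem a.2) b.2) (QuotientGroup.eq.mp h1)
      exact Subtype.ext (inv_mul_eq_one.mp h2)
  refine ⟨C, hmap, hCcard, comm_of fun x hx y hy => ?_⟩
  refine inv_mul_eq_one.mp (hCN _ (mul_mem (inv_mem (mul_mem hy hx)) (mul_mem hx hy))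
    (QuotientGroup.eq.mp ?_)) |>.symm
  show QuotientGroup.mk' N (y * x) = QuotientGroup.mk' N (x * y)
  rw [map_mul, map_mul]
  exact mem_of_comm hA (hmap ▸ ⟨y, hy, rfl⟩) (hmap ▸ ⟨x, hx, rfl⟩)

lemma conj_of_coprime (hB : AbConj G) {N : Subgroup G} [N.Normal] {A B : Subgroup (G ⧸ N)}
    (hA : IsMulCommutative ↥A) (hBc : IsMulCommutative ↥B) (hcard : Nat.card A = Nat.card B)
    (hc : (Nat.card N).Coprime (Nat.card A)) :
    ∃ g : G ⧸ N, B = A.map (MulAut.conj g).toMonoidHom := by
  obtain ⟨C, h1, h2, h3⟩ := lift N A hA hc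
  obtain ⟨C', k1, k2, k3⟩ := lift N B hBc (hcard ▸ hc)
  obtain ⟨g, hg⟩ := hB C C' h3 k3 (by rw [h2, k2, hcard])
  exact ⟨_, by rw [← k1, ← h1]; exact push hg⟩

lemma quat_one_comm : ∀ x y : QuaternionGroup 1, x * y = y * x := by decide

section prime

variable {p : ℕ} [hp : Fact p.Prime] {N : Subgroup G} [hNn : N.Normal]

lemma eq_zpowers (hN : Nat.card N = p) {w : G} (hw : w ∈ N) (hw1 : w ≠ 1) :
    Subgroup.zpowers w = N := by
  refine Subgroup.eq_of_le_of_card_ge (by rwa [Subgroup.zpowers_le]) ?_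
  rw [Nat.card_zpowers, hN]
  have h1 : orderOf (⟨w, hw⟩ : N) ∣ p := hN ▸ orderOf_dvd_natCard _
  rw [Subgroup.orderOf_mk] at h1
  rcases hp.out.eq_one_or_self_of_dvd _ h1 with h | h
  · exact absurd (orderOf_eq_one_iff.mp h) hw1
  · exact h.ge

lemma commute_core (hN : Nat.card N = p) {x : G} {e : ℕ} (hx : orderOf x = p ^ e) {n : G}
    (hn : n ∈ N) : Commute x n := by
  haveI : IsCyclic N := isCyclic_of_prime_card hN
  have h1 : orderOf (MulAut.conjNormal (H := N) x) ∣ p ^ e :=
    hx ▸ orderOf_map_dvd _ x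
  have h2 : orderOf (MulAut.conjNormal (H := N) x) ∣ p - 1 := by
    have := orderOf_dvd_natCard (MulAut.conjNormal (H := N) x)
    rwa [IsCyclic.card_mulAut, hN, Nat.totient_prime hp.out] at this
  have hcop : (p ^ e).Coprime (p - 1) := by
    refine Nat.Coprime.pow_left _ (hp.out.coprime_iff_not_dvd.mpr fun h => ?_)
    have := Nat.le_of_dvd (by have := hp.out.two_le; omega) h
    have := hp.out.two_le
    omega
  have h3 := Nat.eq_one_of_dvd_coprimes hcop h1 h2
  rw [orderOf_eq_one_iff] at h3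
  have := congrArg Subtype.val (DFunLike.congr_fun h3 ⟨n, hn⟩)
  rw [MulAut.conjNormal_apply, MulAut.one_apply] at this
  exact mul_inv_eq_iff_eq_mul.mp this

lemma pow_eq_one_core (hN : Nat.card N = p) {n : G} (hn : n ∈ N) : n ^ p = 1 := by
  have h := pow_card_eq_one' (x := (⟨n, hn⟩ : N))
  rw [hN] at h
  exact congrArg Subtype.val h

/-- The shape of the preimage of an abelian subgroup. -/
lemma decomp (hB : AbConj G) (hN : Nat.card N = p) (A : Subgroup (G ⧸ N))
    (hA : IsMulCommutative ↥A) (hdvd : p ∣ Nat.card A) :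
    ∃ (PA C : Subgroup G), IsPGroup p PA ∧ Nat.card PA = p * p ^ (Nat.card A).factorization p ∧
      IsMulCommutative ↥C ∧ Nat.card C = ordCompl[p] (Nat.card A) ∧
      PA ⊔ C = A.comap (QuotientGroup.mk' N) ∧ (∀ x ∈ PA, ∀ c ∈ C, x * c = c * x) ∧
      (∀ x ∈ PA, ∀ y ∈ PA, x * y * x⁻¹ * y⁻¹ ∈ N) ∧
      (IsMulCommutative ↥PA → IsMulCommutative ↥(A.comap (QuotientGroup.mk' N))) := by
  set v := (Nat.card A).factorization p
  let S : Sylow p A := default
  haveI : (S : Subgroup A).Normal := ⟨fun a ha b => by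
    have : b * a * b⁻¹ = a := by rw [hA.is_comm.comm b a, mul_inv_cancel_right]
    rw [this]; exact ha⟩
  have hScard : Nat.card S = p ^ v := S.card_eq_multiplicity
  have hSidx : (S : Subgroup A).index = ordCompl[p] (Nat.card A) := by
    have h := (S : Subgroup A).card_mul_index
    rw [hScard] at h
    rw [← Nat.ordProj_mul_ordCompl_eq_self (Nat.card A) p] at h
    exact Nat.eq_of_mul_eq_mul_left (pow_pos hp.out.pos _) (h.trans (by rw [Nat.ordProj_mul_ordCompl_eq_self]))
  obtain ⟨U0, hU0⟩ := Subgroup.exists_right_complement'_of_coprime (N := (S : Subgroup A))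
    S.card_coprime_index
  set T : Subgroup (G ⧸ N) := (S : Subgroup A).map A.subtype
  set U : Subgroup (G ⧸ N) := U0.map A.subtype
  have hTA : T ≤ A := by rintro _ ⟨a, -, rfl⟩; exact a.2
  have hUA : U ≤ A := by rintro _ ⟨a, -, rfl⟩; exact a.2
  have hTcard : Nat.card T = p ^ v := by rw [Subgroup.card_subtype]; exact hScard
  have hUcard : Nat.card U = ordCompl[p] (Nat.card A) := by
    rw [Subgroup.card_subtype, ← hSidx]; exact hU0.symm.index_eq_card.symm
  have hcopU : (Nat.card N).Coprime (Nat.card U) := by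
    rw [hN, hUcard]; exact Nat.coprime_ordCompl hp.out Nat.card_pos.ne'
  obtain ⟨C, hCmap, hCcard, hCc⟩ := lift N U
    (comm_of fun x hx y hy => mem_of_comm hA (hUA hx) (hUA hy)) hcopU
  set PA : Subgroup G := T.comap (QuotientGroup.mk' N)
  have hPAcard : Nat.card PA = p * p ^ v := by rw [card_comap, hTcard, hN, mul_comm]
  have hPA : IsPGroup p PA := IsPGroup.of_card (n := v + 1) (by rw [hPAcard, pow_succ']) 
  have hcommN : ∀ x ∈ A.comap (QuotientGroup.mk' N), ∀ y ∈ A.comap (QuotientGroup.mk' N),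
      x * y * x⁻¹ * y⁻¹ ∈ N := fun x hx y hy => by
    rw [← QuotientGroup.eq_one_iff]
    show QuotientGroup.mk' N _ = 1
    rw [map_mul, map_mul, map_mul, map_inv, map_inv, mem_of_comm hA hx hy]
    group
  have hPX : PA ≤ A.comap (QuotientGroup.mk' N) := fun x hx => hTA hx
  have hCX : C ≤ A.comap (QuotientGroup.mk' N) := fun c hc => hUA (hCmap ▸ Subgroup.mem_map_of_mem _ hc)
  have hsplit : ∀ y ∈ A.comap (QuotientGroup.mk' N), ∃ x ∈ PA, ∃ c ∈ C, y = x * c := by
    intro y hy
    obtain ⟨⟨t, u⟩, htu, -⟩ := hU0.existsUnique (⟨QuotientGroup.mk' N y, hy⟩ : A)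
    have h1 : ((u : A) : G ⧸ N) ∈ C.map (QuotientGroup.mk' N) := by
      rw [hCmap]; exact ⟨u, u.2, rfl⟩
    obtain ⟨c, hc, hcu⟩ := h1
    refine ⟨y * c⁻¹, ?_, c, hc, by group⟩
    show QuotientGroup.mk' N (y * c⁻¹) ∈ T
    rw [map_mul, map_inv, hcu]
    have h2 : ((t : A) : G ⧸ N) * ((u : A) : G ⧸ N) = QuotientGroup.mk' N y :=
      congrArg Subtype.val htu
    rw [← h2, mul_inv_cancel_right]
    exact ⟨t, t.2, rfl⟩
  have hsup : PA ⊔ C = A.comap (QuotientGroup.mk' N) := by
    refine le_antisymm (sup_le hPX hCX) fun y hy => ?_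
    obtain ⟨x, hx, c, hc, rfl⟩ := hsplit y hy
    exact Subgroup.mul_mem_sup hx hc
  -- the p'-part centralizes
  have horder : ∀ x ∈ PA, ∃ e, orderOf x = p ^ e := fun x hx => by
    obtain ⟨e, he⟩ := IsPGroup.iff_orderOf.mp hPA ⟨x, hx⟩
    exact ⟨e, by rwa [Subgroup.orderOf_mk] at he⟩
  have hstep : ∀ x ∈ PA, ∀ c ∈ C, ∃ n ∈ N, c * x * c⁻¹ = x * n := fun x hx c hc => by
    refine ⟨x⁻¹ * (c * x * c⁻¹), ?_, by group⟩
    have h := hNn.conj_mem _ (hcommN c (hCX hc) x (hPX hx)) x⁻¹
    convert h using 1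
    group
  have hpow : ∀ x ∈ PA, ∀ c ∈ C, Commute c (x ^ p) := fun x hx c hc => by
    obtain ⟨n, hn, h⟩ := hstep x hx c hc
    obtain ⟨e, he⟩ := horder x hx
    have h1 : (c * x * c⁻¹) ^ p = x ^ p := by
      rw [h, (commute_core hN he hn).mul_pow, pow_eq_one_core hN hn, mul_one]
    rw [conj_pow] at h1
    exact mul_inv_eq_iff_eq_mul.mp h1
  have hv : 1 ≤ v := hp.out.factorization_pos_of_dvd Nat.card_pos.ne' hdvd
  obtain ⟨x0, hx0, hx0N⟩ : ∃ x ∈ PA, x ∉ N := by
    by_contra h
    push Not at h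
    have := Nat.card_le_card_of_injective (Subgroup.inclusion (K := N) h) (Subgroup.inclusion_injective h)
    rw [hPAcard, hN] at this
    have h2 : 2 ≤ p ^ v := hp.out.two_le.trans (Nat.le_self_pow (by omega) p)
    have := hp.out.pos
    nlinarith
  obtain ⟨w, hwN, hw1, hwc⟩ : ∃ w, w ∈ N ∧ w ≠ 1 ∧ ∀ c ∈ C, Commute c w := by
    obtain ⟨e, he⟩ := horder x0 hx0
    obtain ⟨n0, hn0⟩ := exists_prime_orderOf_dvd_card' (G := N) p (by rw [hN])
    rw [← Subgroup.orderOf_coe] at hn0
    match e, he with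
    | 0, he => exact absurd ((orderOf_eq_one_iff.mp (by simpa using he)) ▸ one_mem N) hx0N
    | 1, he => exact absurd (mem_of_same_order hB (hn0.trans (by simpa using he.symm)) n0.2) hx0N
    | (e + 2), he =>
      have ho : orderOf (x0 ^ p ^ (e + 1)) = p := by
        rw [orderOf_pow_of_dvd (pow_ne_zero _ hp.out.ne_zero) (he ▸ pow_dvd_pow p (by omega)), he,
          Nat.pow_div (by omega) hp.out.pos, show e + 2 - (e + 1) = 1 by omega, pow_one]
      refine ⟨x0 ^ p ^ (e + 1), mem_of_same_order hB (hn0.trans ho.symm) n0.2, ?_, fun c hc => ?_⟩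
      · intro h1; rw [h1, orderOf_one] at ho; exact hp.out.one_lt.ne ho
      · rw [pow_succ', pow_mul]
        exact (hpow x0 hx0 c hc).pow_right _
  have hcN : ∀ c ∈ C, ∀ n ∈ N, Commute c n := fun c hc n hn => by
    rw [← eq_zpowers hN hwN hw1] at hn
    obtain ⟨i, rfl⟩ := hn
    exact (hwc c hc).zpow_right i
  have hcomm : ∀ x ∈ PA, ∀ c ∈ C, x * c = c * x := fun x hx c hc => by
    obtain ⟨n, hn, h⟩ := hstep x hx c hc
    have hit : ∀ t : ℕ, c ^ t * x * (c ^ t)⁻¹ = x * n ^ t := by
      intro t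
      induction t with
      | zero => simp
      | succ t ih =>
        calc c ^ (t + 1) * x * (c ^ (t + 1))⁻¹ = c * (c ^ t * x * (c ^ t)⁻¹) * c⁻¹ := by
              rw [pow_succ']; group
          _ = (c * x * c⁻¹) * (c * n ^ t * c⁻¹) := by rw [ih]; group
          _ = x * n ^ (t + 1) := by
              rw [h, ((hcN c hc n hn).pow_right t).eq, mul_inv_cancel_right, pow_succ', mul_assoc]
    have h1 := hit (orderOf c)
    rw [pow_orderOf_eq_one, one_mul, inv_one, mul_one, left_eq_mul] at h1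
    have h3 : orderOf c ∣ Nat.card U := hCcard ▸ (Subgroup.orderOf_mk c hc ▸ orderOf_dvd_natCard (⟨c, hc⟩ : C))
    have h4 := Nat.eq_one_of_dvd_coprimes hcopU (orderOf_dvd_of_pow_eq_one (hN ▸ pow_eq_one_core hN hn))
      ((orderOf_dvd_of_pow_eq_one h1).trans h3)
    rw [orderOf_eq_one_iff] at h4
    rw [h4, mul_one] at h
    exact (mul_inv_eq_iff_eq_mul.mp h).symm
  refine ⟨PA, C, hPA, hPAcard, hCc, hCcard.trans hUcard, hsup, hcomm,
    fun x hx y hy => hcommN x (hPX hx) y (hPX hy), fun hP => comm_of fun a ha b hb => ?_⟩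
  obtain ⟨x, hx, c, hc, rfl⟩ := hsplit a ha
  obtain ⟨y, hy, d, hd, rfl⟩ := hsplit b hb
  have e1 := mem_of_comm hP hx hy
  have e2 := mem_of_comm hCc hc hd
  have e3 := hcomm y hy c hc
  have e4 := hcomm x hx d hd
  calc x * c * (y * d) = x * (c * y) * d := by group
    _ = (x * y) * (c * d) := by rw [← e3]; group
    _ = y * (x * d) * c := by rw [e1, e2]; group
    _ = y * d * (x * c) := by rw [e4]; group

lemma card_eight (hsol : Group.IsSolvable G) (hB : AbConj G) (hN : Nat.card N = p) {PA : Subgroup G}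
    (hP : IsPGroup p PA) (hcN : ∀ x ∈ PA, ∀ y ∈ PA, x * y * x⁻¹ * y⁻¹ ∈ N)
    (hnc : ¬ IsMulCommutative ↥PA) :
    p = 2 ∧ Nat.card PA = 8 ∧ ∀ P : Sylow p G, Nat.card P = 8 := by
  have hmemN : ∀ z : G, orderOf z = p → z ∈ N := fun z hz => by
    obtain ⟨n0, hn0⟩ := exists_prime_orderOf_dvd_card' (G := N) p (by rw [hN])
    rw [← Subgroup.orderOf_coe] at hn0
    exact mem_of_same_order hB (hn0.trans hz.symm) n0.2
  have hcyc : ∀ {Q : Subgroup G}, IsCyclic ↥Q → IsMulCommutative ↥Q := fun {Q} h => by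
    haveI := h
    exact ⟨⟨fun a b => (IsCyclic.commGroup (α := ↥Q)).mul_comm a b⟩⟩
  by_cases hp2 : p = 2
  · subst hp2
    have huniq : ∀ (Q : Subgroup G) (x y : Q), orderOf x = 2 → orderOf y = 2 → x = y := by
      intro Q x y hx hy
      rw [← Subgroup.orderOf_coe] at hx hy
      have hy1 : (y : G) ≠ 1 := fun h => by rw [h, orderOf_one] at hy; omega
      have hx2 := hmemN _ hx
      rw [← eq_zpowers hN (hmemN _ hy) hy1] at hx2
      obtain ⟨i, hi⟩ := hx2
      simp only at hi
      have h2 : (y : G) ^ (2 : ℤ) = 1 := by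
        rw [show (2 : ℤ) = ((2 : ℕ) : ℤ) by rfl, zpow_natCast, ← hy, pow_orderOf_eq_one]
      rcases Int.even_or_odd' i with ⟨k, rfl | rfl⟩
      · rw [zpow_mul, h2, one_zpow] at hi
        rw [← hi, orderOf_one] at hx; omega
      · rw [zpow_add, zpow_mul, h2, one_zpow, one_mul, zpow_one] at hi
        exact Subtype.ext hi.symm
    rcases CfsgLib.ZStar.cyclic_or_quaternion hP (huniq PA) with h | ⟨i, ⟨e⟩⟩
    · exact absurd (hcyc h) hnc
    haveI : NeZero (2 ^ i) := ⟨by positivity⟩
    have hi : i = 1 := by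
      have hne0 : i ≠ 0 := by
        rintro rfl
        exact hnc ⟨⟨fun a b => e.injective (by rw [map_mul, map_mul]; exact quat_one_comm _ _)⟩⟩
      by_contra hne
      have h2 : 2 ≤ i := by omega
      set a : G := ((e.symm (QuaternionGroup.a 1) : PA) : G)
      set b : G := ((e.symm (QuaternionGroup.xa 0) : PA) : G)
      have hab := pow_eq_one_core hN (hcN a (e.symm _).2 b (e.symm _).2)
      have hc : (e.symm (QuaternionGroup.a 1) * e.symm (QuaternionGroup.xa 0) *
          (e.symm (QuaternionGroup.a 1))⁻¹ * (e.symm (QuaternionGroup.xa 0))⁻¹) ^ 2 = 1 :=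
        Subtype.ext hab
      rw [← map_inv, ← map_inv, ← map_mul, ← map_mul, ← map_mul, ← map_pow, map_eq_one_iff _ e.symm.injective] at hc
      have hq : (QuaternionGroup.a 1 : QuaternionGroup (2 ^ i)) * QuaternionGroup.xa 0 *
          (QuaternionGroup.a 1)⁻¹ * (QuaternionGroup.xa 0)⁻¹ = QuaternionGroup.a 1 ^ 2 := by
        have hn : ((2 * 2 ^ i : ℕ) : ZMod (2 * 2 ^ i)) = 0 := ZMod.natCast_self _
        rw [QuaternionGroup.a_one_pow]
        show QuaternionGroup.a 1 * QuaternionGroup.xa 0 * QuaternionGroup.a (-1) * QuaternionGroup.xa (((2 ^ i : ℕ) : ZMod (2 * 2 ^ i)) + 0) = _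
        rw [QuaternionGroup.a_mul_xa, QuaternionGroup.xa_mul_a, QuaternionGroup.xa_mul_xa]
        congr 1
        push_cast at hn ⊢
        linear_combination hn
      rw [hq, ← pow_mul] at hc
      have := Nat.le_of_dvd (by norm_num) (orderOf_dvd_of_pow_eq_one hc)
      rw [QuaternionGroup.orderOf_a_one] at this
      have : 2 ^ 2 ≤ 2 ^ i := Nat.pow_le_pow_right (by norm_num) h2
      omega
    have hPA8 : Nat.card PA = 8 := by
      rw [Nat.card_congr e.toEquiv, Nat.card_eq_fintype_card, QuaternionGroup.card, hi]; norm_num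
    refine ⟨rfl, hPA8, fun P0 => ?_⟩
    obtain ⟨P, hPle⟩ := hP.exists_le_sylow
    rw [show Nat.card P0 = Nat.card P from P0.card_eq_multiplicity.trans P.card_eq_multiplicity.symm]
    rcases CfsgLib.ZStar.cyclic_or_quaternion P.2 (huniq P) with h | ⟨j, ⟨e'⟩⟩
    · exact absurd (comm_of fun x hx y hy => mem_of_comm (hcyc h) (hPle hx) (hPle hy)) hnc
    haveI : NeZero (2 ^ j) := ⟨by positivity⟩
    have hcardP : Nat.card P = 4 * 2 ^ j := by
      rw [Nat.card_congr e'.toEquiv, Nat.card_eq_fintype_card, QuaternionGroup.card]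
    have hle : Nat.card PA ≤ Nat.card P := Subgroup.card_le_of_le hPle
    rw [hPA8, hcardP] at hle
    have : j < 2 := by
      by_contra hj
      exact no_large_quaternion hsol hB (m := 2 ^ j) (pow_dvd_pow 2 (show 2 ≤ j by omega)) e'.symm
    interval_cases j <;> simp_all
  · refine absurd (hcyc (CfsgLib.ZStar.cyclic_of_unique_subgroup hp2 hP fun H K hH hK => ?_)) hnc
    have key : ∀ H : Subgroup PA, Nat.card H = p → H.map PA.subtype = N := fun H hH => by
      have hc : Nat.card ↥(H.map PA.subtype) = p := by rw [Subgroup.card_subtype, hH]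
      refine Subgroup.eq_of_le_of_card_ge (fun z hz => ?_) (by rw [hN, hc])
      by_cases hz1 : z = 1
      · rw [hz1]; exact one_mem _
      have h1 : orderOf (⟨z, hz⟩ : H.map PA.subtype) ∣ p := hc ▸ orderOf_dvd_natCard _
      rw [Subgroup.orderOf_mk] at h1
      rcases hp.out.eq_one_or_self_of_dvd _ h1 with h | h
      · exact absurd (orderOf_eq_one_iff.mp h) hz1
      · exact hmemN z h
    exact Subgroup.map_injective PA.subtype_injective ((key H hH).trans (key K hK).symm)

lemma conj_of_prime (hsol : Group.IsSolvable G) (hB : AbConj G) (hN : Nat.card N = p)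
    {A B : Subgroup (G ⧸ N)} (hA : IsMulCommutative ↥A) (hBc : IsMulCommutative ↥B)
    (hcard : Nat.card A = Nat.card B) (hdvd : p ∣ Nat.card A) :
    ∃ g : G ⧸ N, B = A.map (MulAut.conj g).toMonoidHom := by
  obtain ⟨PA, C, a1, a2, a3, a4, a5, a6, a7, a8⟩ := decomp hB hN A hA hdvd
  obtain ⟨PB, C', b1, b2, b3, b4, b5, b6, b7, b8⟩ := decomp hB hN B hBc (hcard ▸ hdvd)
  have finish : ∀ g : G, PB ⊔ C' = (PA ⊔ C).map (MulAut.conj g).toMonoidHom →
      ∃ g : G ⧸ N, B = A.map (MulAut.conj g).toMonoidHom := fun g hg => by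
    have := push (N := N) hg
    rw [a5, b5, Subgroup.map_comap_eq_self_of_surjective (QuotientGroup.mk'_surjective N),
      Subgroup.map_comap_eq_self_of_surjective (QuotientGroup.mk'_surjective N)] at this
    exact ⟨_, this⟩
  by_cases hboth : IsMulCommutative ↥PA ∧ IsMulCommutative ↥PB
  · obtain ⟨g, hg⟩ := hB _ _ (a8 hboth.1) (b8 hboth.2) (by rw [card_comap, card_comap, hcard])
    exact finish g (by rw [a5, b5]; exact hg)
  have h8 : ∀ P : Sylow p G, Nat.card P = 8 := by
    rcases not_and_or.mp hboth with h | h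
    · exact (card_eight hsol hB hN a1 a7 h).2.2
    · exact (card_eight hsol hB hN b1 b7 h).2.2
  have hPA8 : Nat.card PA = 8 := by
    rcases not_and_or.mp hboth with h | h
    · exact (card_eight hsol hB hN a1 a7 h).2.1
    · rw [a2, hcard, ← b2]; exact (card_eight hsol hB hN b1 b7 h).2.1
  have hPB8 : Nat.card PB = 8 := by rw [b2, ← hcard, ← a2]; exact hPA8
  obtain ⟨g, hg⟩ := hB C C' a3 b3 (by rw [a4, b4, hcard])
  set PA' : Subgroup G := PA.map (MulAut.conj g).toMonoidHom
  set H : Subgroup G := Subgroup.centralizer (C' : Set G)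
  have h1 : PA' ≤ H := by
    rintro _ ⟨x, hx, rfl⟩
    rw [Subgroup.mem_centralizer_iff]
    intro c hc
    rw [SetLike.mem_coe, hg] at hc
    obtain ⟨d, hd, rfl⟩ := hc
    rw [← map_mul, ← map_mul, a6 x hx d hd]
  have h2 : PB ≤ H := fun x hx => by
    rw [Subgroup.mem_centralizer_iff]; intro c hc; exact (b6 x hx c hc).symm
  have hA'8 : Nat.card PA' = 8 := by
    rw [Subgroup.card_map_of_injective (MulAut.conj g).injective, hPA8]
  have key : ∀ K : Subgroup G, K ≤ H → IsPGroup p K → Nat.card K = 8 →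
      ∃ Q : Sylow p H, (Q : Subgroup H).map H.subtype = K := by
    intro K hK hKp hK8
    obtain ⟨Q, hQ⟩ := (IsPGroup.of_equiv hKp (Subgroup.subgroupOfEquivOfLe hK).symm).exists_le_sylow
    refine ⟨Q, (Subgroup.eq_of_le_of_card_ge ?_ ?_).symm⟩
    · intro x hx; exact ⟨⟨x, hK hx⟩, hQ hx, rfl⟩
    · obtain ⟨P, hP⟩ := (Q.2.map H.subtype).exists_le_sylow
      rw [hK8, ← h8 P]
      exact Subgroup.card_le_of_le hP
  obtain ⟨Q1, hQ1⟩ := key PA' h1 (a1.map _) hA'8
  obtain ⟨Q2, hQ2⟩ := key PB h2 b1 hPB8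
  obtain ⟨h, hh⟩ := MulAction.exists_smul_eq H Q1 Q2
  have hPB : PB = PA'.map (MulAut.conj (h : G)).toMonoidHom := by
    rw [← hQ2, ← hh, ← hQ1, Sylow.coe_subgroup_smul, Subgroup.pointwise_smul_def]
    refine (Subgroup.map_map _ _ _).trans ((Subgroup.map_map _ _ _).trans ?_).symm
    rfl
  have hC' : C' = C'.map (MulAut.conj (h : G)).toMonoidHom := by
    ext c
    constructor
    · intro hc
      exact ⟨c, hc, by simp [← Subgroup.mem_centralizer_iff.mp h.2 c hc]⟩
    · rintro ⟨d, hd, rfl⟩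
      simpa [← Subgroup.mem_centralizer_iff.mp h.2 d hd] using hd
  refine finish ((h : G) * g) ?_
  rw [Subgroup.map_sup]
  conv_lhs => rw [hPB, hC', hg]
  rw [Subgroup.map_map, Subgroup.map_map]
  congr 1 <;> congr 1 <;> ext z <;> simp

end prime

/-- One minimal normal step. -/
lemma step (hsol : Group.IsSolvable G) (hB : AbConj G) (N : Subgroup G) [hNn : N.Normal] (hN : N ≠ ⊥)
    (hmin : ∀ M : Subgroup G, M.Normal → M ≤ N → M = ⊥ ∨ M = N) : AbConj (G ⧸ N) := by
  haveI := hsol
  obtain ⟨hNc, p, hpp, hexp⟩ := Cfsg.Agent.S0043.result N hN hmin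
  haveI : Fact p.Prime := ⟨hpp⟩
  have hNp : IsPGroup p N := fun x => ⟨1, Subtype.ext (by simpa using hexp x x.2)⟩
  obtain ⟨k, hk⟩ := IsPGroup.iff_card.mp hNp
  have hk0 : k ≠ 0 := by
    rintro rfl
    exact hN (Subgroup.eq_bot_of_card_eq N (by simpa using hk))
  intro A B hA hBc hcard
  by_cases hdvd : p ∣ Nat.card A
  · by_cases hk1 : k = 1
    · exact conj_of_prime hsol hB (p := p) (by rw [hk, hk1, pow_one]) hA hBc hcard hdvd
    exfalso
    obtain ⟨a, ha⟩ := exists_prime_orderOf_dvd_card' (G := A) p hdvd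
    rw [← Subgroup.orderOf_coe] at ha
    obtain ⟨y, hy⟩ := QuotientGroup.mk'_surjective N (a : G ⧸ N)
    have hy0 : orderOf y ≠ 0 := (orderOf_pos y).ne'
    set r := ordCompl[p] (orderOf y)
    have hr : r ≠ 0 := (Nat.ordCompl_pos p hy0).ne'
    have ho : orderOf (y ^ r) = p ^ (orderOf y).factorization p := by
      rw [orderOf_pow_of_dvd hr (Nat.ordCompl_dvd _ _), Nat.div_div_self (Nat.ordProj_dvd _ _) hy0]
    have hnot : y ^ r ∉ N := fun h => by
      rw [← QuotientGroup.eq_one_iff] at h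
      change QuotientGroup.mk' N (y ^ r) = 1 at h
      rw [map_pow, hy] at h
      have := orderOf_dvd_of_pow_eq_one h
      rw [ha] at this
      exact hpp.not_dvd_one (Nat.eq_one_of_dvd_coprimes
        (Nat.coprime_ordCompl hpp hy0) dvd_rfl this ▸ dvd_rfl)
    obtain ⟨n0, hn0⟩ := exists_prime_orderOf_dvd_card' (G := N) p (hk ▸ dvd_pow_self p hk0)
    rw [← Subgroup.orderOf_coe] at hn0
    match hm : (orderOf y).factorization p with
    | 0 => exact hnot ((orderOf_eq_one_iff.mp (by rw [ho, hm, pow_zero])) ▸ one_mem N)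
    | 1 => exact hnot (mem_of_same_order hB (hn0.trans (by rw [ho, hm, pow_one])) n0.2)
    | (e + 2) =>
      set w := (y ^ r) ^ p ^ e
      have how : orderOf w = p ^ 2 := by
        rw [orderOf_pow_of_dvd (pow_ne_zero _ hpp.ne_zero) (by rw [ho, hm]; exact pow_dvd_pow p (by omega)),
          ho, hm, Nat.pow_div (by omega) hpp.pos, show e + 2 - e = 2 by omega]
      obtain ⟨E, hE⟩ := Sylow.exists_subgroup_card_pow_prime p (n := 2) (G := N)
        (hk ▸ pow_dvd_pow p (by omega))
      obtain ⟨g, hg⟩ := hB (E.map N.subtype) (Subgroup.zpowers w)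
        (comm_of fun x hx y hy => by
          obtain ⟨x, -, rfl⟩ := hx
          obtain ⟨y, -, rfl⟩ := hy
          exact mem_of_comm hNc x.2 y.2) (zpowers_comm w)
        (by rw [Subgroup.card_subtype, hE, Nat.card_zpowers, how])
      have hw : w ∈ (E.map N.subtype).map (MulAut.conj g).toMonoidHom := hg ▸ Subgroup.mem_zpowers w
      obtain ⟨z, ⟨n, -, rfl⟩, hzw⟩ := hw
      have hwp : w ^ p = 1 := by
        rw [← hzw, ← map_pow, Subgroup.subtype_apply, hexp n n.2, map_one]
      have := Nat.le_of_dvd hpp.pos (how ▸ orderOf_dvd_of_pow_eq_one hwp)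
      have := hpp.two_le
      nlinarith
  · refine conj_of_coprime hB hA hBc hcard ?_
    rw [hk]
    exact Nat.Coprime.pow_left _ (hpp.coprime_iff_not_dvd.mpr hdvd)

lemma abConj_map {G' : Type u} [Group G'] [Finite G'] (e : G ≃* G') (hB : AbConj G) : AbConj G' := by
  intro A B hA hBc hcard
  have hc : ∀ A : Subgroup G', IsMulCommutative ↥A → IsMulCommutative ↥(A.comap e.toMonoidHom) :=
    fun A h => comm_of fun x hx y hy => e.injective (by
      rw [map_mul, map_mul]; exact mem_of_comm h hx hy)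
  have hn : ∀ A : Subgroup G', Nat.card ↥(A.comap e.toMonoidHom) = Nat.card A := fun A => by
    rw [← Subgroup.card_map_of_injective (f := e.toMonoidHom) e.injective,
      Subgroup.map_comap_eq_self_of_surjective e.surjective]
  obtain ⟨g, hg⟩ := hB _ _ (hc A hA) (hc B hBc) (by rw [hn, hn, hcard])
  refine ⟨e g, ?_⟩
  have h2 := congrArg (Subgroup.map e.toMonoidHom) hg
  rw [Subgroup.map_comap_eq_self_of_surjective e.surjective, Subgroup.map_map] at h2
  rw [h2]
  conv_rhs => rw [← Subgroup.map_comap_eq_self_of_surjective (f := e.toMonoidHom) e.surjective A,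
    Subgroup.map_map]
  congr 1
  ext z
  simp

lemma main : ∀ (n : ℕ) (G : Type u) [Group G] [Finite G], Group.IsSolvable G → AbConj G →
    ∀ (M : Subgroup G) [M.Normal], Nat.card M = n → AbConj (G ⧸ M) := by
  intro n
  induction n using Nat.strong_induction_on with
  | _ n ih =>
    intro G _ _ hsol hB M hMn hn
    by_cases hM : M = ⊥
    · subst hM
      exact abConj_map QuotientGroup.quotientBot.symm hB
    obtain ⟨N, hN, hNmin⟩ : ∃ N : Subgroup G, (N.Normal ∧ N ≤ M ∧ N ≠ ⊥) ∧
        ∀ K : Subgroup G, K.Normal → K ≤ N → K ≠ ⊥ → K = N := by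
      obtain ⟨N, hN, hmin⟩ := (Set.toFinite {N : Subgroup G | N.Normal ∧ N ≤ M ∧ N ≠ ⊥}).exists_minimal
        ⟨M, hMn, le_rfl, hM⟩
      exact ⟨N, hN, fun K h1 h2 h3 => le_antisymm h2 (hmin ⟨h1, h2.trans hN.2.1, h3⟩ h2)⟩
    obtain ⟨hNn, hNM, hN0⟩ := hN
    haveI := hNn
    have hstep := step hsol hB N hN0 (fun K h1 h2 => or_iff_not_imp_left.mpr (hNmin K h1 h2))
    haveI := hsol
    have hlt : Nat.card ↥(M.map (QuotientGroup.mk' N)) < n := by
      have h1 := card_comap N (M.map (QuotientGroup.mk' N))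
      rw [Subgroup.comap_map_eq, QuotientGroup.ker_mk', sup_eq_left.mpr hNM, hn] at h1
      rw [h1]
      have : 1 < Nat.card N := Finite.one_lt_card_iff_nontrivial.mpr ((Subgroup.nontrivial_iff_ne_bot N).mpr hN0)
      exact lt_mul_of_one_lt_right Nat.card_pos this
    haveI : (M.map (QuotientGroup.mk' N)).Normal := hMn.map _ (QuotientGroup.mk'_surjective N)
    exact abConj_map (QuotientGroup.quotientQuotientEquivQuotient N M hNM)
      (ih _ hlt (G ⧸ N) inferInstance hstep (M.map (QuotientGroup.mk' N)) rfl)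

theorem result {G : Type*} [Group G] [Finite G] (hB : ∀ A B : Subgroup G, IsMulCommutative ↥A → IsMulCommutative ↥B → Nat.card ↥A = Nat.card ↥B → ∃ g : G, B = A.map (MulAut.conj g).toMonoidHom) (hsol : Group.IsSolvable G) (M : Subgroup G) [M.Normal] :
    ∀ A B : Subgroup (G ⧸ M), IsMulCommutative ↥A → IsMulCommutative ↥B → Nat.card ↥A = Nat.card ↥B →
      ∃ g : G ⧸ M, B = A.map (MulAut.conj g).toMonoidHom :=
  main _ G hsol hB M rfl

end Cfsg.Agent.S3912

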