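import Cfsg.Statements.S2896
import Cfsg.Agent.Lib.Layer.CharP
import Cfsg.Agent.Lib.Transfer.Sylow

set_option autoImplicit false
open Cfsg CfsgLib CfsgLib.CharCore

namespace Cfsg.Agent.S2896

/-- Let p be a prime dividing the order of the finite group G, S a Sylow p-subgroup of G and X a subgroup of S. (i) If some nontrivial element z of the centre of X has F*(C_G(z)) = O_p(C_G(z)), then F*(N_G(X)) = O_p(N_G(X)). (ii) G has parabolic characteristic p if and only if F*(C_G(z)) = O_p(C_G(z)) for every nontrivial z ∈ Ω₁(Z(S)). (iii) If F*(C_G(z)) = O_p(C_G(z)) for every element z of S of order p, then G has local characteristic p. -/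
theorem result {G : Type*} [Group G] [Finite G] {p : ℕ} [Fact p.Prime] (hdiv : p ∣ Nat.card G) (S : Sylow p G) (X : Subgroup G) (hX : X ≤ (S : Subgroup G)) : (∀ z : G, z ≠ 1 → z ∈ X → (∀ x ∈ X, x * z = z * x) → Cfsg.generalizedFittingSubgroup ↥(Subgroup.centralizer ({z} : Set G)) = Cfsg.pCore p ↥(Subgroup.centralizer ({z} : Set G)) → Cfsg.generalizedFittingSubgroup ↥(Subgroup.normalizer (X : Set G)) = Cfsg.pCore p ↥(Subgroup.normalizer (X : Set G))) ∧ (Cfsg.IsOfParabolicCharacteristic p G ↔ ∀ z : G, z ≠ 1 → z ∈ Cfsg.omegaOne p ((S : Subgroup G) ⊓ Subgroup.centralizer ((S : Subgroup G) : Set G)) → Cfsg.generalizedFittingSubgroup ↥(Subgroup.centralizer ({z} : Set G)) = Cfsg.pCore p ↥(Subgroup.centralizer ({z} : Set G))) ∧ ((∀ z : G, z ∈ (S : Subgroup G) → orderOf z = p → Cfsg.generalizedFittingSubgroup ↥(Subgroup.centralizer ({z} : Set G)) = Cfsg.pCore p ↥(Subgroup.centralizer ({z} : Set G))) → Cfsg.IsOfLocalCharacteristic p G) := by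
  simp only [generalizedFitting_iff]
  refine ⟨fun z _ hz _ h => cp_normalizer_of_mem (S.2.to_le hX) hz h, ⟨?_, ?_⟩, fun h => ⟨hdiv, ?_⟩⟩
  · -- parabolic characteristic gives the centralizers
    intro hpar z hz1 hz
    have hZ : z ∈ (S : Subgroup G) ⊓ Subgroup.centralizer ((S : Subgroup G) : Set G) :=
      (Subgroup.closure_le _).mpr (fun x hx => hx.1) hz
    have hSC : (S : Subgroup G) ≤ Subgroup.centralizer ({z} : Set G) := fun s hs =>
      Subgroup.mem_centralizer_singleton_iff.mpr (hZ.2 s hs)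
    have e : Subgroup.centralizer ((Subgroup.zpowers z : Subgroup G) : Set G) =
        Subgroup.centralizer ({z} : Set G) := by
      rw [Subgroup.zpowers_eq_closure, Subgroup.centralizer_closure]
    have hCN : Subgroup.centralizer ({z} : Set G) ≤
        Subgroup.normalizer ((Subgroup.zpowers z : Subgroup G) : Set G) :=
      e ▸ Subgroup.centralizer_le_normalizer _
    refine cp_of_normal hCN (e ▸ Coprime.le_normalizer_centralizer le_rfl)
      (hpar (Subgroup.zpowers z) (S.2.to_le (Subgroup.zpowers_le.mpr hZ.1)) ?_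
        ⟨S, hSC.trans hCN⟩)
    exact fun h0 => hz1 (Subgroup.zpowers_eq_bot.mp h0)
  · -- and conversely
    rintro h R hR hR1 ⟨T, hT⟩
    have hRT : R ≤ (T : Subgroup G) := by
      have h1 : IsPGroup p ↥((T : Subgroup G) ⊔ R) :=
        IsPGroup.to_sup_of_normal_right' T.2 hR hT
      exact (le_sup_right : R ≤ _).trans (T.3 h1 le_sup_left).le
    obtain ⟨z, hzR, hzp, hzc⟩ := exists_central_orderOf T.2 hR1 hRT hT
    obtain ⟨g, rfl⟩ := MulAction.exists_smul_eq G S T
    have hmem : ∀ {w : G}, w ∈ ((g • S : Sylow p G) : Subgroup G) ↔ g⁻¹ * w * g ∈ (S : Subgroup G) := by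
      intro w
      rw [Sylow.coe_subgroup_smul, Subgroup.mem_pointwise_smul_iff_inv_smul_mem]
      simp [MulAut.smul_def, MulAut.conj_apply]
    refine cp_normalizer_of_mem hR hzR ?_
    have hz1 : g⁻¹ * z * g ≠ 1 := by
      intro h0
      have : z = 1 := by simpa [mul_assoc] using congrArg (fun w => g * w * g⁻¹) h0
      rw [this, orderOf_one] at hzp
      exact (Fact.out : p.Prime).ne_one hzp.symm
    have h2 := h (g⁻¹ * z * g) hz1 (Subgroup.subset_closure ⟨⟨hmem.mp (hRT hzR), fun s hs => ?_⟩, ?_⟩)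
    · have h3 := cp_centralizer_conj g h2
      rwa [show g * (g⁻¹ * z * g) * g⁻¹ = z by group] at h3
    · have h3 := hzc (g * s * g⁻¹) (hmem.mpr (by
        rwa [show g⁻¹ * (g * s * g⁻¹) * g = s by group]))
      calc s * (g⁻¹ * z * g) = g⁻¹ * (g * s * g⁻¹ * z) * g := by group
        _ = g⁻¹ * (z * (g * s * g⁻¹)) * g := by rw [h3]
        _ = g⁻¹ * z * g * s := by group
    · calc (g⁻¹ * z * g) ^ p = g⁻¹ * z ^ p * g := by
            simpa using (conj_pow (a := g⁻¹) (b := z) (i := p))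
        _ = 1 := by rw [← hzp, pow_orderOf_eq_one]; group
  · intro R hR hR1
    obtain ⟨z, hzR, hzp, -⟩ := exists_central_orderOf hR hR1 le_rfl Subgroup.le_normalizer
    obtain ⟨g, hg⟩ := Transfer.exists_map_conj_le_sylow (hR.to_le (Subgroup.zpowers_le.mpr hzR)) S
    refine cp_normalizer_of_mem hR hzR ?_
    have h2 := h (g * z * g⁻¹) (hg (Subgroup.mem_map_of_mem _ (Subgroup.mem_zpowers z)))
      ((Transfer.orderOf_conj g z).trans hzp)
    have h3 := cp_centralizer_conj g⁻¹ h2
    rwa [show g⁻¹ * (g * z * g⁻¹) * g⁻¹⁻¹ = z by group] at h3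

end Cfsg.Agent.S2896
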