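import Cfsg.Statements.S0081
import Cfsg.Agent.Lib.Transfer.TateFrattini
import Cfsg.Agent.Lib.Fusion.MetacyclicTwo

set_option autoImplicit false
open Cfsg

namespace Cfsg.Agent.S0081

/-- If a normal subgroup meets a Sylow p-subgroup P inside the Frattini subgroup of P, then it has a normal p-complement. -/
theorem result {G : Type*} [Group G] [Finite G] {p : ℕ} [Fact p.Prime] (P : Sylow p G) (N : Subgroup G) [N.Normal] (h : N ⊓ (P : Subgroup G) ≤ (frattini P).map (P : Subgroup G).subtype) : Cfsg.HasNormalPComplement p N := by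
  set M := (P : Subgroup G) ⊔ N with hM
  have hPM : (P : Subgroup G) ≤ M := le_sup_left
  let S : Sylow p M := P.subtype hPM
  have hS : (S : Subgroup M) = (P : Subgroup G).subgroupOf M := Sylow.coe_subtype ..
  haveI := CfsgLib.Transfer.pResidual_normal p M
  have hq : IsPGroup p (M ⧸ N.subgroupOf M) := by
    intro x
    obtain ⟨⟨m, hm⟩, rfl⟩ := QuotientGroup.mk'_surjective (N.subgroupOf M) x
    obtain ⟨a, ha, b, hb, rfl⟩ := Subgroup.mem_sup_of_normal_right.mp hm
    obtain ⟨k, hk⟩ := P.2 ⟨a, ha⟩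
    have hmk : QuotientGroup.mk' (N.subgroupOf M) ⟨a * b, hm⟩
        = QuotientGroup.mk' (N.subgroupOf M) ⟨a, hPM ha⟩ := by
      rw [QuotientGroup.mk'_apply, QuotientGroup.mk'_apply, QuotientGroup.eq,
        Subgroup.mem_subgroupOf]
      show (a * b)⁻¹ * a ∈ N
      simpa using inv_mem hb
    refine ⟨k, ?_⟩
    rw [hmk, ← map_pow, show (⟨a, hPM ha⟩ : M) ^ p ^ k = 1 from
      Subtype.ext (show a ^ p ^ k = 1 from congrArg Subtype.val hk), map_one]
  have hres : Cfsg.pResidual p M ≤ N.subgroupOf M :=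
    CfsgLib.Transfer.pResidual_le_of_isPGroup_quotient _ hq
  have hnpc : Cfsg.HasNormalPComplement p M := by
    refine CfsgLib.Transfer.hasNormalPComplement_of_le_frattini S fun x hx => ?_
    have hxP : (x : G) ∈ (P : Subgroup G) := Subgroup.mem_subgroupOf.mp (hS.le hx.1)
    obtain ⟨y, hy, hye⟩ := h ⟨Subgroup.mem_subgroupOf.mp (hres hx.2), hxP⟩
    let e : ↥(P : Subgroup G) ≃* ↥(S : Subgroup M) :=
      (Subgroup.subgroupOfEquivOfLe hPM).symm.trans (MulEquiv.subgroupCongr hS.symm)
    exact ⟨e y, (CfsgLib.Fusion.frattini_mem_iff_of_equiv e y).mpr hy, Subtype.ext hye⟩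
  exact CfsgLib.Transfer.hasNormalPComplement_of_injective (Subgroup.inclusion le_sup_right)
    (Subgroup.inclusion_injective _) hnpc

end Cfsg.Agent.S0081
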