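import Cfsg.Statements.S0560
import Mathlib
import Cfsg.Agent.Lib.Hall.System

set_option autoImplicit false
set_option linter.style.haveILetI false
open Pointwise
open Cfsg
open scoped Pointwise commutatorElement

namespace Cfsg.Agent.S0560

/-- Let the finite group G be the product HK of two subgroups and p a prime. Then there are Sylow p-subgroups P of H and Q of K and a Sylow p-subgroup R of G whose underlying set is the product set of P and Q. -/
theorem result {G : Type*} [Group G] [Finite G] (H K : Subgroup G) (hHK : ∀ g : G, ∃ h ∈ H, ∃ k ∈ K, g = h * k) (p : ℕ) [Fact p.Prime] : ∃ (P : Sylow p H) (Q : Sylow p K) (R : Sylow p G), ((R : Subgroup G) : Set G) = (((P : Subgroup H).map H.subtype : Subgroup G) : Set G) * (((Q : Subgroup K).map K.subtype : Subgroup G) : Set G) := by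
  classical
  have hp : p.Prime := Fact.out
  obtain ⟨P₁⟩ := (inferInstance : Nonempty (Sylow p H))
  obtain ⟨Q₁⟩ := (inferInstance : Nonempty (Sylow p K))
  obtain ⟨R₁, hR₁⟩ := (show IsPGroup p ((P₁ : Subgroup H).map H.subtype) from P₁.2.map _).exists_le_sylow
  obtain ⟨R₂, hR₂⟩ := (show IsPGroup p ((Q₁ : Subgroup K).map K.subtype) from Q₁.2.map _).exists_le_sylow
  obtain ⟨g, hg⟩ := MulAction.exists_smul_eq G R₂ R₁
  obtain ⟨h, hh, k, hk, rfl⟩ := hHK g
  set R : Sylow p G := k • R₂ with hR
  have hRR₁ : R = h⁻¹ • R₁ := by rw [hR, ← hg, mul_smul, inv_smul_smul]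
  set P : Sylow p H := (⟨h, hh⟩ : H)⁻¹ • P₁
  set Q : Sylow p K := (⟨k, hk⟩ : K) • Q₁
  refine ⟨P, Q, R, ?_⟩
  set P' := (P : Subgroup H).map H.subtype with hP'
  set Q' := (Q : Subgroup K).map K.subtype with hQ'
  have hPR : P' ≤ (R : Subgroup G) := by
    rintro _ ⟨x, hx, rfl⟩
    rw [Sylow.coe_subgroup_smul, SetLike.mem_coe, Subgroup.mem_pointwise_smul_iff_inv_smul_mem] at hx
    rw [hRR₁, Sylow.coe_subgroup_smul, Subgroup.mem_pointwise_smul_iff_inv_smul_mem]
    have := hR₁ ⟨_, hx, rfl⟩
    simpa [MulAut.smul_def, mul_assoc] using this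
  have hQR : Q' ≤ (R : Subgroup G) := by
    rintro _ ⟨x, hx, rfl⟩
    rw [Sylow.coe_subgroup_smul, SetLike.mem_coe, Subgroup.mem_pointwise_smul_iff_inv_smul_mem] at hx
    rw [hR, Sylow.coe_subgroup_smul, Subgroup.mem_pointwise_smul_iff_inv_smul_mem]
    have := hR₂ ⟨_, hx, rfl⟩
    simpa [MulAut.smul_def, mul_assoc] using this
  have hsurj : K.index ≤ K.relIndex H := by
    refine Nat.card_le_card_of_surjective
      (Quotient.map' (fun x : H => (x : G)) (fun a b hab => by
        rw [QuotientGroup.leftRel_apply] at hab ⊢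
        exact hab) : H ⧸ K.subgroupOf H → G ⧸ K) ?_
    intro q
    obtain ⟨u, rfl⟩ := QuotientGroup.mk_surjective q
    obtain ⟨a, ha, b, hb, rfl⟩ := hHK u
    exact ⟨QuotientGroup.mk ⟨a, ha⟩, QuotientGroup.eq.mpr (by simpa using hb)⟩
  have hrel : K.relIndex H = K.index :=
    le_antisymm ((Subgroup.relIndex_le_of_le_right (le_top : H ≤ ⊤) Subgroup.index_ne_zero_of_finite).trans_eq (Subgroup.relIndex_top_right _)) hsurj
  -- compare `p`-parts
  have hG : Nat.card G * Nat.card ↥(K ⊓ H) = Nat.card H * Nat.card K := by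
    rw [← K.card_mul_index, ← hrel, ← Subgroup.inf_relIndex_right, ← Subgroup.relIndex_bot_left (H := H),
      ← Subgroup.relIndex_mul_relIndex ⊥ (K ⊓ H) H bot_le inf_le_right]
    simp only [Subgroup.relIndex_bot_left]
    ring
  obtain ⟨i, hi⟩ := IsPGroup.iff_card.mp (show IsPGroup p ↥(Q' ⊓ P') from (Q.2.map _).to_le inf_le_left)
  have hile : i ≤ (Nat.card ↥(K ⊓ H)).factorization p := by
    rw [← hp.pow_dvd_iff_le_factorization Nat.card_pos.ne', ← hi]
    exact Subgroup.card_dvd_of_le (inf_le_inf (Subgroup.map_subtype_le _) (Subgroup.map_subtype_le _))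
  have hfac := congrArg (fun n => n.factorization p) hG
  simp only [Nat.factorization_mul Nat.card_pos.ne' Nat.card_pos.ne', Finsupp.add_apply] at hfac
  have hcR := R.card_eq_multiplicity
  have hcP : Nat.card P' = p ^ (Nat.card H).factorization p := by
    rw [hP', Subgroup.card_map_of_injective H.subtype_injective]; exact P.card_eq_multiplicity
  have hcQ : Nat.card Q' = p ^ (Nat.card K).factorization p := by
    rw [hQ', Subgroup.card_map_of_injective K.subtype_injective]; exact Q.card_eq_multiplicity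
  set f : (P'.subgroupOf (R : Subgroup G)) → (R : Subgroup G) ⧸ Q'.subgroupOf (R : Subgroup G) :=
    fun x => QuotientGroup.mk x.1
  have hrelR : (Q'.subgroupOf (R : Subgroup G)).relIndex (P'.subgroupOf (R : Subgroup G)) =
      (Q'.subgroupOf (R : Subgroup G)).index := by
    rw [Subgroup.relIndex_subgroupOf hPR]
    have e1 := Subgroup.relIndex_mul_relIndex ⊥ (Q' ⊓ P') P' bot_le inf_le_right
    rw [Subgroup.relIndex_bot_left, Subgroup.relIndex_bot_left, Subgroup.inf_relIndex_right, hi, hcP] at e1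
    have e2 := (Q'.subgroupOf (R : Subgroup G)).card_mul_index
    rw [Nat.card_congr (Subgroup.subgroupOfEquivOfLe hQR).toEquiv, hcQ, hcR] at e2
    refine le_antisymm ?_ ?_
    · refine (le_of_eq ?_).trans ((Subgroup.relIndex_le_of_le_right (H := Q'.subgroupOf (R : Subgroup G))
        (le_top : P'.subgroupOf (R : Subgroup G) ≤ ⊤) Subgroup.index_ne_zero_of_finite).trans_eq (Subgroup.relIndex_top_right _))
      rw [Subgroup.relIndex_subgroupOf hPR]
    · refine Nat.le_of_mul_le_mul_left ?_ (pow_pos hp.pos (i + (Nat.card K).factorization p))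
      calc p ^ (i + (Nat.card K).factorization p) * (Q'.subgroupOf (R : Subgroup G)).index
          = p ^ (i + (Nat.card G).factorization p) := by rw [pow_add, mul_assoc, e2, ← pow_add]
        _ ≤ p ^ ((Nat.card H).factorization p + (Nat.card K).factorization p) :=
            Nat.pow_le_pow_right hp.pos (by omega)
        _ = _ := by rw [pow_add, ← e1, pow_add]; ring
  ext x
  constructor
  · intro hx
    obtain ⟨a, ha, b, hb, e⟩ := CfsgLib.Hall.exists_eq_mul_of_relIndex_eq hrelR ⟨x, hx⟩
    exact ⟨a, ha, b, hb, (congrArg Subtype.val e).symm⟩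
  · rintro ⟨a, ha, b, hb, rfl⟩
    exact Subgroup.mul_mem _ (hPR ha) (hQR hb)

end Cfsg.Agent.S0560
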