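import Cfsg.Statements.S0566
import Cfsg.Agent.Lib.FrobCompl.Counting

set_option autoImplicit false
set_option linter.style.haveILetI false
open Pointwise
open Cfsg

namespace Cfsg.Agent.S0566

open scoped Pointwise

universe u

theorem main {G : Type u} [Group G] [Finite G] (B : Subgroup G) (n : ℕ) :
    ∀ A : Subgroup G, Nat.card G - Nat.card A = n →
    (∀ x : G, ∃ S : Subgroup G, S ≠ ⊤ ∧ (S : Set G) = (A : Set G) * ((MulAut.conj x • B : Subgroup G) : Set G)) →
    ∃ N : Subgroup G, N.Normal ∧ N ≠ ⊤ ∧ (A ≤ N ∨ B ≤ N) := by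
  induction n using Nat.strong_induction_on with
  | _ n IH =>
  intro A hn h
  classical
  by_cases hB : Subgroup.normalClosure (B : Set G) = ⊤
  swap
  · exact ⟨_, inferInstance, hB, Or.inr Subgroup.subset_normalClosure⟩
  by_cases hAn : A.Normal
  · refine ⟨A, hAn, fun e => ?_, Or.inl le_rfl⟩
    obtain ⟨S, hS, hSeq⟩ := h 1
    refine hS (Subgroup.eq_top_iff' S |>.mpr fun g => ?_)
    rw [← SetLike.mem_coe, hSeq]
    exact ⟨g, by rw [e]; trivial, 1, one_mem _, mul_one g⟩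
  -- some conjugate of `B` does not normalize `A`
  obtain ⟨x, b, hb, hbA⟩ : ∃ x : G, ∃ b ∈ MulAut.conj x • B, b ∉ Subgroup.normalizer (A : Set G) := by
    by_contra hc
    push Not at hc
    apply hAn
    rw [← Subgroup.normalizer_eq_top_iff, eq_top_iff, ← hB, Subgroup.normalClosure, Subgroup.closure_le]
    intro y hy
    obtain ⟨z, hz, hconj⟩ := Group.mem_conjugatesOfSet_iff.mp hy
    obtain ⟨c, rfl⟩ := isConj_iff.mp hconj
    exact hc c _ (by rw [CfsgLib.FrobCompl.mem_conj_smul]; simpa [mul_assoc] using hz)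
  obtain ⟨S, hS, hSeq⟩ := h x
  have hAS : A ≤ S := fun a ha => by
    rw [← SetLike.mem_coe, hSeq]; exact ⟨a, ha, 1, one_mem _, mul_one a⟩
  have hBS : MulAut.conj x • B ≤ S := fun a ha => by
    rw [← SetLike.mem_coe, hSeq]; exact ⟨1, one_mem _, a, ha, one_mul a⟩
  set A' := A ⊔ MulAut.conj b • A with hA'
  have hA'S : A' ≤ S := sup_le hAS fun a ha => by
    rw [CfsgLib.FrobCompl.mem_conj_smul] at ha
    have := S.mul_mem (S.mul_mem (hBS hb) (hAS ha)) (S.inv_mem (hBS hb))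
    simpa [mul_assoc] using this
  -- `A'` permutes with all conjugates of `B`
  have perm : ∀ y : G, ∀ c ∈ MulAut.conj y • B, ∀ a ∈ A', ∃ a' ∈ A', ∃ c' ∈ MulAut.conj y • B, c * a = a' * c' := by
    have base : ∀ y : G, ∀ c ∈ MulAut.conj y • B, ∀ a ∈ A, ∃ a' ∈ A, ∃ c' ∈ MulAut.conj y • B, c * a = a' * c' := by
      intro y c hc a ha
      obtain ⟨T, -, hT⟩ := h y
      have h1 : c * a ∈ (T : Set G) := T.mul_mem
        (by rw [← SetLike.mem_coe, hT]; exact ⟨1, one_mem _, c, hc, one_mul c⟩)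
        (by rw [← SetLike.mem_coe, hT]; exact ⟨a, ha, 1, one_mem _, mul_one a⟩)
      rw [hT] at h1
      obtain ⟨a', ha', c', hc', he⟩ := h1
      exact ⟨a', ha', c', hc', he.symm⟩
    intro y c hc a ha
    rw [hA', Subgroup.sup_eq_closure] at ha
    induction ha using Subgroup.closure_induction_right generalizing c with
    | one => exact ⟨1, one_mem _, c, hc, by simp⟩
    | mul_right u hu v hv ih =>
      obtain ⟨u', hu', c₁, hc₁, e₁⟩ := ih c hc
      rcases hv with hv | hv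
      · obtain ⟨v', hv', c₂, hc₂, e₂⟩ := base y c₁ hc₁ v hv
        exact ⟨u' * v', A'.mul_mem hu' (Subgroup.mem_sup_left hv'), c₂, hc₂,
          by rw [← mul_assoc, e₁, mul_assoc, e₂, mul_assoc]⟩
      · rw [SetLike.mem_coe, CfsgLib.FrobCompl.mem_conj_smul] at hv
        have hc₁' : b⁻¹ * c₁ * b ∈ MulAut.conj (b⁻¹ * y) • B := by
          rw [CfsgLib.FrobCompl.mem_conj_smul] at hc₁ ⊢
          simpa [mul_assoc] using hc₁
        obtain ⟨w, hw, c₂, hc₂, e₂⟩ := base _ _ hc₁' _ hv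
        have e3 : c₁ * v = (b * w * b⁻¹) * (b * c₂ * b⁻¹) := by
          calc c₁ * v = b * ((b⁻¹ * c₁ * b) * (b⁻¹ * v * b)) * b⁻¹ := by group
            _ = _ := by rw [e₂]; group
        refine ⟨u' * (b * w * b⁻¹), A'.mul_mem hu' (Subgroup.mem_sup_right ?_), b * c₂ * b⁻¹, ?_,
          by rw [← mul_assoc, e₁, mul_assoc, e3]; simp only [mul_assoc]⟩
        · rw [CfsgLib.FrobCompl.mem_conj_smul]; simpa [mul_assoc] using hw
        · rw [CfsgLib.FrobCompl.mem_conj_smul] at hc₂ ⊢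
          simpa [mul_assoc] using hc₂
    | mul_inv_cancel u hu v hv ih =>
      obtain ⟨u', hu', c₁, hc₁, e₁⟩ := ih c hc
      rcases hv with hv | hv
      · obtain ⟨v', hv', c₂, hc₂, e₂⟩ := base y c₁ hc₁ v⁻¹ (inv_mem hv)
        exact ⟨u' * v', A'.mul_mem hu' (Subgroup.mem_sup_left hv'), c₂, hc₂,
          by rw [← mul_assoc, e₁, mul_assoc, e₂, mul_assoc]⟩
      · rw [SetLike.mem_coe, CfsgLib.FrobCompl.mem_conj_smul] at hv
        have hv' : b⁻¹ * v⁻¹ * b ∈ A := by
          have := inv_mem hv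
          simpa [mul_assoc] using this
        have hc₁' : b⁻¹ * c₁ * b ∈ MulAut.conj (b⁻¹ * y) • B := by
          rw [CfsgLib.FrobCompl.mem_conj_smul] at hc₁ ⊢
          simpa [mul_assoc] using hc₁
        obtain ⟨w, hw, c₂, hc₂, e₂⟩ := base _ _ hc₁' _ hv'
        have e3 : c₁ * v⁻¹ = (b * w * b⁻¹) * (b * c₂ * b⁻¹) := by
          calc c₁ * v⁻¹ = b * ((b⁻¹ * c₁ * b) * (b⁻¹ * v⁻¹ * b)) * b⁻¹ := by group
            _ = _ := by rw [e₂]; group
        refine ⟨u' * (b * w * b⁻¹), A'.mul_mem hu' (Subgroup.mem_sup_right ?_), b * c₂ * b⁻¹, ?_,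
          by rw [← mul_assoc, e₁, mul_assoc, e3]; simp only [mul_assoc]⟩
        · rw [CfsgLib.FrobCompl.mem_conj_smul]; simpa [mul_assoc] using hw
        · rw [CfsgLib.FrobCompl.mem_conj_smul] at hc₂ ⊢
          simpa [mul_assoc] using hc₂
  have hlt : Nat.card A < Nat.card A' := by
    refine lt_of_le_of_ne (Subgroup.card_le_of_le le_sup_left) fun e => hbA ?_
    have h1 : A' = A := (Subgroup.eq_of_le_of_card_ge le_sup_left e.ge).symm
    have h2 : MulAut.conj b • A = A := Subgroup.eq_of_le_of_card_ge (le_sup_right.trans h1.le)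
      (Nat.card_congr (Subgroup.equivSMul (MulAut.conj b) A).toEquiv).le
    rw [Subgroup.mem_normalizer_iff]
    intro z
    conv_rhs => rw [← h2]
    rw [CfsgLib.FrobCompl.mem_conj_smul]
    simp [mul_assoc]
  have h' : ∀ y : G, ∃ T : Subgroup G, T ≠ ⊤ ∧
      (T : Set G) = (A' : Set G) * ((MulAut.conj y • B : Subgroup G) : Set G) := by
    intro y
    let T : Subgroup G :=
      { carrier := (A' : Set G) * ((MulAut.conj y • B : Subgroup G) : Set G)
        one_mem' := ⟨1, one_mem _, 1, one_mem _, one_mul 1⟩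
        mul_mem' := by
          rintro _ _ ⟨a, ha, c, hc, rfl⟩ ⟨a₂, ha₂, c₂, hc₂, rfl⟩
          obtain ⟨a₃, ha₃, c₃, hc₃, e⟩ := perm y c hc a₂ ha₂
          refine ⟨a * a₃, mul_mem ha ha₃, c₃ * c₂, mul_mem hc₃ hc₂, ?_⟩
          simp only [mul_assoc]
          rw [← mul_assoc c a₂, e, mul_assoc]
        inv_mem' := by
          rintro _ ⟨a, ha, c, hc, rfl⟩
          obtain ⟨a₃, ha₃, c₃, hc₃, e⟩ := perm y c⁻¹ (inv_mem hc) a⁻¹ (inv_mem ha)
          exact ⟨a₃, ha₃, c₃, hc₃, by simp only [mul_inv_rev]; exact e.symm⟩ }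
    refine ⟨T, fun htop => hS ?_, rfl⟩
    -- then every conjugate of `B` lies in `S`
    have hdec : ∀ g : G, ∃ s ∈ S, ∃ c ∈ MulAut.conj y • B, s * c = g := fun g => by
      obtain ⟨a, ha, c, hc, e⟩ := (show g ∈ T by rw [htop]; trivial : g ∈ T)
      exact ⟨a, hA'S ha, c, hc, e⟩
    rw [eq_top_iff]
    intro g _
    obtain ⟨s, hs, c, hc, rfl⟩ := hdec g
    refine S.mul_mem hs ?_
    obtain ⟨t, ht, d, hd, e⟩ := hdec (x * y⁻¹)
    rw [CfsgLib.FrobCompl.mem_conj_smul] at hc hd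
    have h3 : t * c * t⁻¹ ∈ MulAut.conj x • B := by
      rw [CfsgLib.FrobCompl.mem_conj_smul]
      rw [show t = x * y⁻¹ * d⁻¹ by rw [← e]; group]
      have := B.mul_mem (B.mul_mem (inv_mem hd) hc) hd
      simpa [mul_assoc] using this
    have := S.mul_mem (S.mul_mem (S.inv_mem ht) (hBS h3)) ht
    simpa [mul_assoc] using this
  obtain ⟨N, hN, hNt, hc⟩ := IH (Nat.card G - Nat.card A') (by
    subst hn
    have := Nat.le_of_dvd Nat.card_pos A'.card_subgroup_dvd_card
    omega) A' rfl h'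
  exact ⟨N, hN, hNt, hc.imp_left (le_trans le_sup_left)⟩

/-- Let A and B be nontrivial subgroups of a finite group G such that for every x the product set of A and xBx⁻¹ is a proper subgroup of G. Then there is a proper normal subgroup of G containing A or containing B. -/
theorem result {G : Type*} [Group G] [Finite G] (A B : Subgroup G) (hA : A ≠ ⊥) (hB : B ≠ ⊥) (h : ∀ x : G, ∃ S : Subgroup G, S ≠ ⊤ ∧ (S : Set G) = (A : Set G) * ((MulAut.conj x • B : Subgroup G) : Set G)) : ∃ N : Subgroup G, N.Normal ∧ N ≠ ⊤ ∧ (A ≤ N ∨ B ≤ N) := by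
  exact main B _ A rfl h

end Cfsg.Agent.S0566
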