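import Cfsg.Statements.S0496
import Cfsg.Agent.Lib.BrauerTuan.RangeCertsSmall
import Cfsg.Agent.Lib.BrauerTuan.TenEighty
import Cfsg.Agent.Lib.BrauerTuan.FiveRational

set_option autoImplicit false
open Cfsg

namespace Cfsg.Agent.S0496

/-- A non-abelian finite simple group of order at most 1092 has order 60, 168, 360, 504, 660 or 1092. -/
theorem result {G : Type*} [Group G] [Finite G] [IsSimpleGroup G]
    (hG : ¬ IsMulCommutative G) (h : Nat.card G ≤ 1092) :
    Nat.card G = 60 ∨ Nat.card G = 168 ∨ Nat.card G = 360 ∨ Nat.card G = 504 ∨ Nat.card G = 660 ∨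
      Nat.card G = 1092 := by
  classical
  obtain ⟨c, hc⟩ : ∃ c, CfsgLib.BrauerTuan.Range1092.checkSmall (Nat.card G) c = true := by
    have h1 := Finite.one_lt_card (α := G)
    rcases Nat.lt_or_ge (Nat.card G) 184 with h0 | hlo
    · exact CfsgLib.BrauerTuan.Range1092.exists_cert _ 2 CfsgLib.BrauerTuan.Range1092.certs0_ok _ (by omega)
        (by rw [show CfsgLib.BrauerTuan.Range1092.certs0.length = 182 from rfl]; omega)
    rcases Nat.lt_or_ge (Nat.card G) 366 with h0 | hlo
    · exact CfsgLib.BrauerTuan.Range1092.exists_cert _ 184 CfsgLib.BrauerTuan.Range1092.certs1_ok _ (by omega)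
        (by rw [show CfsgLib.BrauerTuan.Range1092.certs1.length = 182 from rfl]; omega)
    rcases Nat.lt_or_ge (Nat.card G) 548 with h0 | hlo
    · exact CfsgLib.BrauerTuan.Range1092.exists_cert _ 366 CfsgLib.BrauerTuan.Range1092.certs2_ok _ (by omega)
        (by rw [show CfsgLib.BrauerTuan.Range1092.certs2.length = 182 from rfl]; omega)
    rcases Nat.lt_or_ge (Nat.card G) 730 with h0 | hlo
    · exact CfsgLib.BrauerTuan.Range1092.exists_cert _ 548 CfsgLib.BrauerTuan.Range1092.certs3_ok _ (by omega)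
        (by rw [show CfsgLib.BrauerTuan.Range1092.certs3.length = 182 from rfl]; omega)
    rcases Nat.lt_or_ge (Nat.card G) 912 with h0 | hlo
    · exact CfsgLib.BrauerTuan.Range1092.exists_cert _ 730 CfsgLib.BrauerTuan.Range1092.certs4_ok _ (by omega)
        (by rw [show CfsgLib.BrauerTuan.Range1092.certs4.length = 182 from rfl]; omega)
    exact CfsgLib.BrauerTuan.Range1092.exists_cert _ 912 CfsgLib.BrauerTuan.Range1092.certs5_ok _ (by omega)
      (by rw [show CfsgLib.BrauerTuan.Range1092.certs5.length = 181 from rfl]; omega)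
  have hm := CfsgLib.BrauerTuan.Range1092.mem_special hG hc h
  simp only [CfsgLib.BrauerTuan.Range1092.special, List.mem_cons, List.not_mem_nil, or_false] at hm
  letI : Fintype G := Fintype.ofFinite G
  rcases hm with e | e | e | e | e | e | e | e
  · exact Or.inl e
  · exact Or.inr (Or.inl e)
  · exact Or.inr (Or.inr (Or.inl e))
  · exact Or.inr (Or.inr (Or.inr (Or.inl e)))
  · exact Or.inr (Or.inr (Or.inr (Or.inr (Or.inl e))))
  · haveI : Fact (Nat.Prime 5) := ⟨by norm_num⟩
    obtain ⟨k, T, hT⟩ := CfsgLib.BrauerTuan.exists_ctx_of_orderBad e 5 [5] 27 [(36, 4, 1)] (by norm_num)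
      (by norm_num) (by norm_num) (by norm_num) (by norm_num) (by simp <;> norm_num) (by decide +kernel)
    simp only [List.mem_singleton, Prod.mk.injEq] at hT
    obtain ⟨h1, h2, rfl⟩ := hT
    exact (CfsgLib.BrauerTuan.false_of_configsBadFive T (cc := 36) (by norm_num) h1 h2 (by decide +kernel)).elim
  · exact (CfsgLib.BrauerTuan.false_1080 e).elim
  · exact Or.inr (Or.inr (Or.inr (Or.inr (Or.inr e))))

end Cfsg.Agent.S0496
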