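import Cfsg.Statements.S0497
import Cfsg.Agent.Lib.SmallOrder.ThreeSixtyUnique

set_option autoImplicit false
set_option linter.style.haveILetI false
open Cfsg

namespace Cfsg.Agent.S0497

/-- A simple group of order 360 is isomorphic to the alternating group of degree 6. -/
theorem result {G : Type*} [Group G] [Finite G] [IsSimpleGroup G]
    (h : Nat.card G = 360) : Nonempty (G ≃* alternatingGroup (Fin 6)) := by
  haveI : Fact (Nat.Prime 3) := ⟨Nat.prime_three⟩
  haveI : IsSimpleGroup (alternatingGroup (Fin 6)) :=
    alternatingGroup.isSimpleGroup (by rw [Nat.card_fin]; norm_num)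
  have hc : Nat.card (alternatingGroup (Fin 6)) = 360 := by
    have h6 := CfsgLib.SmallOrder.card_alternating_fin (n := 6) (by norm_num)
    rw [show (6 : ℕ).factorial = 720 by rfl] at h6
    omega
  obtain ⟨e⟩ := CfsgLib.ThreeSixty.nonempty_equiv_model h
  obtain ⟨e'⟩ := CfsgLib.ThreeSixty.nonempty_equiv_model hc
  exact ⟨e.trans e'.symm⟩

end Cfsg.Agent.S0497
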