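import Cfsg.Statements.S0494
import Mathlib
import Cfsg.Agent.Lib.SmallOrder.Exclude
import Cfsg.Agent.Lib.SmallOrder.Klein

set_option autoImplicit false
open Cfsg

namespace Cfsg.Agent.S0494

/-- A simple group of order 60 is isomorphic to the alternating group of degree 5. -/
theorem result {G : Type*} [Group G] [Finite G] [IsSimpleGroup G]
    (h : Nat.card G = 60) : Nonempty (G ≃* alternatingGroup (Fin 5)) := by
  have hG : ¬ IsMulCommutative G :=
    CfsgLib.SmallOrder.not_comm_of_not_prime (by rw [h]; norm_num)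
  have h2 : 2 ∣ Nat.card G := by rw [h]; norm_num
  obtain ⟨H, hHtop, hH5⟩ : ∃ H : Subgroup G, H ≠ ⊤ ∧ H.index = 5 := by
    obtain ⟨P⟩ := (inferInstance : Nonempty (Sylow 2 G))
    have hPc : Nat.card (P : Subgroup G) = 2 ^ 2 := by
      rw [P.card_eq_multiplicity, h, show (60 : ℕ) = 2 ^ 2 * 15 by norm_num,
        Nat.factorization_mul (by norm_num) (by norm_num), Finsupp.add_apply,
        Nat.Prime.factorization_pow (by norm_num), Finsupp.single_eq_same,
        Nat.factorization_eq_zero_of_not_dvd (by norm_num : ¬ 2 ∣ 15), add_zero]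
    have hPi : (P : Subgroup G).index = 15 := by
      have := (P : Subgroup G).card_mul_index
      rw [h, hPc] at this
      omega
    have hd : Nat.card (Sylow 2 G) ∣ 15 := hPi ▸ Sylow.card_dvd_index P
    have hn1 := CfsgLib.SmallOrder.card_sylow_ne_one (p := 2) hG h2
    have hN := CfsgLib.SmallOrder.normalizer_sylow_ne_top hG h2 P
    have hi : (Subgroup.normalizer ((P : Subgroup G) : Set G)).index = Nat.card (Sylow 2 G) :=
      (Sylow.card_eq_index_normalizer P).symm
    have hbad := CfsgLib.SmallOrder.badIndex_eq_false hG hN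
    rw [hi, h] at hbad
    have hmem : Nat.card (Sylow 2 G) ∈ Nat.divisors 15 := Nat.mem_divisors.mpr ⟨hd, by norm_num⟩
    rw [show Nat.divisors 15 = {1, 3, 5, 15} by decide] at hmem
    simp only [Finset.mem_insert, Finset.mem_singleton] at hmem
    rcases hmem with h' | h' | h' | h'
    · exact absurd h' hn1
    · rw [h'] at hbad
      exact absurd hbad (by decide)
    · exact ⟨_, hN, hi.trans h'⟩
    · obtain ⟨N, s, hNtop, hNs, ht2, hts⟩ :=
        CfsgLib.SmallOrder.exists_subgroup_of_not_modEq_sq hG (a := 2) le_rfl P hPc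
          (by rw [h']; decide)
      have hi' := N.card_mul_index
      rw [hNs, h] at hi'
      have hs0 : 0 < s := Nat.pos_of_ne_zero fun h0 => by simp [h0] at hi'
      have hs2 : 2 ≤ s := le_trans ht2 (Nat.le_of_dvd hs0 hts)
      have hdvd : N.index ∣ 15 := ⟨s, by
        have : 2 ^ 2 * (N.index * s) = 2 ^ 2 * 15 := by rw [← mul_assoc, mul_right_comm, hi']; norm_num
        exact (Nat.eq_of_mul_eq_mul_left (by norm_num) this).symm⟩
      have hbad' := CfsgLib.SmallOrder.badIndex_eq_false hG hNtop
      rw [h] at hbad'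
      have hmem : N.index ∈ Nat.divisors 15 := Nat.mem_divisors.mpr ⟨hdvd, by norm_num⟩
      rw [show Nat.divisors 15 = {1, 3, 5, 15} by decide] at hmem
      simp only [Finset.mem_insert, Finset.mem_singleton] at hmem
      rcases hmem with h' | h' | h' | h'
      · exact absurd (Subgroup.index_eq_one.mp h') hNtop
      · rw [h'] at hbad'
        exact absurd hbad' (by decide)
      · exact ⟨N, hNtop, h'⟩
      · rw [h'] at hi'
        norm_num at hi'
        omega
  obtain ⟨f, hf⟩ := CfsgLib.SmallOrder.exists_injective_alternating hG H hHtop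
  generalize H.index = n at f hf hH5
  subst hH5
  have := Fintype.ofFinite G
  refine ⟨MulEquiv.ofBijective f (Nat.bijective_iff_injective_and_card _ |>.mpr ⟨hf, ?_⟩)⟩
  rw [h, Nat.card_eq_fintype_card]
  decide +kernel

end Cfsg.Agent.S0494
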