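import Cfsg.Statements.S0088
import Cfsg.Agent.Lib.Transfer.Basic

set_option autoImplicit false
set_option linter.style.haveILetI false
set_option linter.unusedVariables false
open Cfsg

namespace Cfsg.Agent.S0088

/-- An abelian Hall subgroup meets G' ∩ Z(G) trivially. -/
theorem result {G : Type*} [Group G] [Finite G] (H : Subgroup G) (hc : IsMulCommutative H) (hHall : Nat.Coprime (Nat.card H) H.index) : H ⊓ commutator G ⊓ Subgroup.center G = ⊥ := by
  haveI := hc
  open scoped IsMulCommutative in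
    rw [eq_bot_iff]
    intro z hz
    obtain ⟨⟨hzH, hzG⟩, hzZ⟩ := hz
    have key : ∀ (k : ℕ) (g₀ : G), g₀⁻¹ * z ^ k * g₀ ∈ H → g₀⁻¹ * z ^ k * g₀ = z ^ k := by
      intro k g₀ _
      have := Subgroup.mem_center_iff.mp (Subgroup.pow_mem _ hzZ k) g₀
      rw [mul_assoc, ← this, inv_mul_cancel_left]
    have h1 : MonoidHom.transfer (MonoidHom.id H) z = 1 :=
      Abelianization.commutator_subset_ker _ hzG
    rw [MonoidHom.transfer_eq_pow (MonoidHom.id H) z key] at h1
    have h2 : z ^ H.index = 1 := congrArg Subtype.val h1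
    rw [Subgroup.mem_bot, ← orderOf_eq_one_iff]
    exact Nat.eq_one_of_dvd_coprimes hHall (H.orderOf_dvd_natCard hzH) (orderOf_dvd_of_pow_eq_one h2)

end Cfsg.Agent.S0088
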