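import Mathlib
import Cfsg.Statements.S2822
import Cfsg.Agent.Lib.PReduced.Largest
import Cfsg.Agent.Lib.Coprime.Action

set_option autoImplicit false
set_option linter.style.haveILetI false
set_option linter.unusedVariables false
open Cfsg

namespace Cfsg.Agent.S2822

/-- Let H be a finite group, p a prime, T a Sylow p-subgroup, and L, M subgroups of characteristic p containing T, with largest p-reduced normal subgroups Y_L, Y_M. If L·C_H(Y_M) = M·C_H(Y_M), then Y_M ≤ Y_L. -/
theorem result {H : Type*} [Group H] [Finite H] {p : ℕ} [Fact p.Prime] (T : Sylow p H) (L M : Subgroup H) (hTL : (T : Subgroup H) ≤ L) (hTM : (T : Subgroup H) ≤ M) (hL : Subgroup.centralizer (Cfsg.pCore p ↥L : Set ↥L) ≤ Cfsg.pCore p ↥L) (hM : Subgroup.centralizer (Cfsg.pCore p ↥M : Set ↥M) ≤ Cfsg.pCore p ↥M) : L ⊔ Subgroup.centralizer (((Cfsg.largestPReducedOf p M) : Subgroup H) : Set H) = M ⊔ Subgroup.centralizer (((Cfsg.largestPReducedOf p M) : Subgroup H) : Set H) → (Cfsg.largestPReducedOf p M) ≤ (Cfsg.largestPReducedOf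 p L) := by
  intro heq
  set Y := Cfsg.largestPReducedOf p M with hY
  set C := Subgroup.centralizer ((Y : Subgroup H) : Set H) with hC
  have hM' := CfsgLib.PReduced.le_normalizer_largestOf p M
  have hLN : L ≤ Subgroup.normalizer (Y : Set H) :=
    (le_sup_left.trans heq.le).trans (sup_le hM' (Subgroup.centralizer_le_normalizer _))
  refine CfsgLib.PReduced.le_largestOf (((CfsgLib.PReduced.largestOf_le_pCoreOf p M).trans
    (CfsgLib.PReduced.pCoreOf_le_sylow T hTM)).trans hTL) hLN (CfsgLib.PReduced.largestOf_elementary p M) ?_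
  intro D hDL hDn hDp
  have hCn : Subgroup.normalizer (Y : Set H) ≤ Subgroup.normalizer (C : Set H) :=
    CfsgLib.Coprime.le_normalizer_centralizer le_rfl
  have hK : M ≤ Subgroup.normalizer ((D ⊔ C : Subgroup H) : Set H) := by
    refine (le_sup_left.trans heq.ge).trans (sup_le ?_ ?_)
    · exact CfsgLib.Coprime.le_normalizer_sup_of_le hDn (hLN.trans hCn)
    · exact le_sup_right.trans Subgroup.le_normalizer
  have hDN : D ≤ Subgroup.normalizer (C : Set H) := hDL.trans (hLN.trans hCn)
  have h1 : (D ⊔ C) ⊓ M ≤ C := by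
    refine CfsgLib.PReduced.le_centralizer_largestOf inf_le_right (CfsgLib.Coprime.le_normalizer_inf_of_le hK Subgroup.le_normalizer) ?_
    rintro x ⟨hx, -⟩
    obtain ⟨d, hd, c, hc, rfl⟩ := CfsgLib.PReduced.exists_mul_of_mem_sup hDN hx
    obtain ⟨k, hk⟩ := hDp d hd
    refine ⟨k, ?_⟩
    have := C.mul_mem (CfsgLib.PReduced.mul_pow_mul_inv_mem (hDN hd) hc (p ^ k)) hk
    simpa using this
  intro d hd
  have hd' : d ∈ M ⊔ C := heq.le (Subgroup.mem_sup_left (hDL hd))
  have hmn : M ≤ Subgroup.normalizer (C : Set H) := hM'.trans hCn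
  obtain ⟨m, hm, c, hc, rfl⟩ := CfsgLib.PReduced.exists_mul_of_mem_sup hmn hd'
  have : m ∈ D ⊔ C := by
    have := (D ⊔ C).mul_mem (Subgroup.mem_sup_left (T := C) hd) (Subgroup.mem_sup_right (C.inv_mem hc))
    simpa using this
  exact C.mul_mem (h1 ⟨this, hm⟩) hc

end Cfsg.Agent.S2822
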