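import Cfsg.Statements.S2824
import Cfsg.Agent.S2822
import Cfsg.Agent.Lib.Layer.CharP
import Cfsg.Agent.Lib.Transfer.Sylow
import Cfsg.Agent.Lib.Coprime.Action
-- import your own Cfsg.Agent.* helpers here

set_option autoImplicit false
open Cfsg CfsgLib

namespace Cfsg.Agent.S2824

/-- Let H be a finite group, p a prime, T a Sylow p-subgroup, L and M subgroups of characteristic p containing T, Y_L the largest p-reduced normal subgroup of L and T₀ = C_T(Y_L). If M·C_H(Y_L) = L·C_H(Y_L), then L* := N_M(T₀) has Y_{L*} = Y_L and L·C_H(Y_L) = L*·C_H(Y_L). -/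
theorem result {H : Type*} [Group H] [Finite H] {p : ℕ} [Fact p.Prime] (T : Sylow p H) (L M : Subgroup H) (hTL : (T : Subgroup H) ≤ L) (hTM : (T : Subgroup H) ≤ M) (hL : Subgroup.centralizer (Cfsg.pCore p ↥L : Set ↥L) ≤ Cfsg.pCore p ↥L) (hM : Subgroup.centralizer (Cfsg.pCore p ↥M : Set ↥M) ≤ Cfsg.pCore p ↥M) (T₀ : Subgroup H) (hT₀ : T₀ = (T : Subgroup H) ⊓ Subgroup.centralizer (((Cfsg.largestPReducedOf p L) : Subgroup H) : Set H)) (hfac : M ⊔ Subgroup.centralizer (((Cfsg.largestPReducedOf p L) : Subgroup H) : Set H) = L ⊔ Subgroup.centralizer (((Cfsg.largestPReducedOf p L) : Subgroup H) : Set H)) (Ls : Subgroup H) (hLs : Ls = M ⊓ Subgroup.normalizer ((T₀ : Subgroup H) : Set H)) : (Cfsg.largestPReducedOf p Ls) = (Cfsg.largestPReducedOf p L) ∧ L ⊔ Subgroup.centralizer (((Cfsg.largestPReducedOf p L) : Subgroup H) : Set H) = Ls ⊔ Subgroup.centralizer (((Cfsg.largestPReducedOf p L) : Subgroup H) : Set H) := by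
  set Y := Cfsg.largestPReducedOf p L with hY
  have hLY : L ≤ Subgroup.normalizer (Y : Set H) := PReduced.le_normalizer_largestOf p L
  have hMY : M ≤ Subgroup.normalizer (Y : Set H) :=
    (le_sup_left.trans hfac.le).trans (sup_le hLY (Subgroup.centralizer_le_normalizer _))
  set C := Subgroup.centralizer (Y : Set H) with hC
  have hT₀T : T₀ ≤ (T : Subgroup H) := hT₀ ▸ inf_le_left
  have hT₀C : T₀ ≤ C := hT₀ ▸ inf_le_right
  have hsyl : ∀ N : Subgroup H, (T : Subgroup H) ≤ N → N ≤ Subgroup.normalizer (Y : Set H) →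
      N ≤ (N ⊓ C) ⊔ (N ⊓ Subgroup.normalizer (T₀ : Set H)) := by
    intro N hTN hNY x hx
    haveI : ((N ⊓ C).subgroupOf N).Normal := (Subgroup.normal_subgroupOf_iff_le_normalizer inf_le_left).mpr
      (Coprime.le_normalizer_inf_of_le Subgroup.le_normalizer (Coprime.le_normalizer_centralizer hNY))
    let Q : Sylow p ((N ⊓ C).subgroupOf N) := (((T.subtype hTN).2.comap_of_injective _
      ((N ⊓ C).subgroupOf N).subtype_injective)).toSylow
      (fun hd => (T.subtype hTN).not_dvd_index (hd.trans (Transfer.relIndex_dvd_index_of_normal _ _)))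
    have hQ : (Q : Subgroup ((N ⊓ C).subgroupOf N)).map ((N ⊓ C).subgroupOf N).subtype = T₀.subgroupOf N := by
      refine (Subgroup.subgroupOf_map_subtype _ _).trans ?_
      ext w
      rw [hT₀]
      exact ⟨fun h => ⟨h.1, h.2.2⟩, fun h => ⟨h.1, w.2, h.2⟩⟩
    have h := Sylow.normalizer_sup_eq_top Q
    rw [hQ, ← Subgroup.subgroupOf_normalizer_eq (hT₀T.trans hTN)] at h
    have h2 := congrArg (Subgroup.map N.subtype) h
    rw [Subgroup.map_sup, ← MonoidHom.range_eq_map, Subgroup.range_subtype,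
      Subgroup.map_subgroupOf_eq_of_le inf_le_left, Subgroup.subgroupOf_map_subtype, inf_comm, sup_comm] at h2
    exact h2.ge hx
  have hTLs : (T : Subgroup H) ≤ Ls := by
    rw [hLs]
    refine le_inf hTM fun t ht => Subgroup.mem_normalizer_fintype fun y hy => ?_
    rw [hT₀, SetLike.mem_coe] at hy ⊢
    exact ⟨Subgroup.mul_mem _ (Subgroup.mul_mem _ ht hy.1) (Subgroup.inv_mem _ ht),
      (Subgroup.mem_normalizer_iff.mp (Coprime.le_normalizer_centralizer hLY (hTL ht)) y).mp hy.2⟩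
  have hfac' : L ⊔ C = Ls ⊔ C := by
    rw [← hfac]
    refine le_antisymm (sup_le ?_ le_sup_right) (sup_le (le_sup_of_le_left (hLs ▸ inf_le_left)) le_sup_right)
    exact (hsyl M hTM hMY).trans (sup_le (inf_le_right.trans le_sup_right) (hLs ▸ le_sup_left))
  refine ⟨?_, hfac'⟩
  have hLsC : Subgroup.centralizer (Cfsg.pCore p ↥Ls : Set ↥Ls) ≤ Cfsg.pCore p ↥Ls :=
    CharCore.cp_of_eq hLs.symm (CharCore.cp_inf_normalizer (hT₀T.trans hTM) (T.2.to_le hT₀T) hM)
  have hYY : Y ≤ Cfsg.largestPReducedOf p Ls :=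
    S2822.result T Ls L hTLs hTL hLsC hL hfac'.symm
  set Y' := Cfsg.largestPReducedOf p Ls with hY'
  refine le_antisymm ?_ hYY
  have hY'T : Y' ≤ (T : Subgroup H) :=
    (PReduced.largestOf_le_pCoreOf p Ls).trans (PReduced.pCoreOf_le_sylow T hTLs)
  have hY'T₀ : Y' ≤ T₀ := by
    rw [hT₀]
    exact le_inf hY'T fun y hy z hz => PReduced.largestOf_comm p Ls z (hYY hz) y hy
  have hT₀Y' : T₀ ≤ Subgroup.centralizer (Y' : Set H) := by
    refine le_trans (PReduced.le_pCoreOf (hT₀T.trans hTLs) ?_ (T.2.to_le hT₀T))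
      (PReduced.pCoreOf_le_centralizer_largestOf p Ls)
    exact hLs ▸ inf_le_right
  have hPT₀ : Cfsg.pCoreOf p L ≤ T₀ := by
    rw [hT₀]
    exact le_inf (PReduced.pCoreOf_le_sylow T hTL) (PReduced.pCoreOf_le_centralizer_largestOf p L)
  let Z1 : Subgroup H :=
    { carrier := {x | x ∈ Cfsg.pCoreOf p L ∧ x ∈ Subgroup.centralizer (Cfsg.pCoreOf p L : Set H) ∧ x ^ p = 1}
      one_mem' := ⟨one_mem _, one_mem _, one_pow p⟩
      inv_mem' := fun h => ⟨inv_mem h.1, inv_mem h.2.1, by rw [inv_pow, h.2.2, inv_one]⟩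
      mul_mem' := fun {a b} ha hb => ⟨mul_mem ha.1 hb.1, mul_mem ha.2.1 hb.2.1, by
        rw [(show Commute a b from hb.2.1 a ha.1).mul_pow, ha.2.2, hb.2.2, one_mul]⟩ }
  have hY'Z : Y' ≤ Z1 := by
    intro y hy
    have hc : y ∈ Subgroup.centralizer (Cfsg.pCoreOf p L : Set H) :=
      fun z hz => (hT₀Y' (hPT₀ hz) y hy).symm
    refine ⟨?_, hc, (PReduced.largestOf_elementary p Ls).2 y hy⟩
    exact ⟨⟨y, hTL (hY'T hy)⟩, hL fun z hz => Subtype.ext (hc (z : H) ⟨z, hz, rfl⟩), rfl⟩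
  set U := ⨆ l : L, Y'.map (MulAut.conj (l : H)).toMonoidHom with hU
  have hUZ : U ≤ Z1 := by
    refine iSup_le fun l => ?_
    rintro _ ⟨y, hy, rfl⟩
    obtain ⟨h1, h2, h3⟩ := hY'Z hy
    have hn := PReduced.le_normalizer_pCoreOf p L l.2
    refine ⟨(Subgroup.mem_normalizer_iff.mp hn y).mp h1, ?_, ?_⟩
    · exact (Subgroup.mem_normalizer_iff.mp (Coprime.le_normalizer_centralizer le_rfl hn) y).mp h2
    · rw [← map_pow, h3, map_one]
  have hY'U : Y' ≤ U := fun y hy => le_iSup (fun l : L => Y'.map (MulAut.conj (l : H)).toMonoidHom) 1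
    ⟨y, hy, by simp⟩
  have hLU : L ≤ Subgroup.normalizer (U : Set H) := fun x hx => Subgroup.mem_normalizer_fintype fun u hu => by
    have hle : U ≤ U.comap (MulAut.conj x).toMonoidHom := iSup_le fun j => by
      rw [← Subgroup.map_le_iff_le_comap, Subgroup.map_map]
      refine le_trans (le_of_eq ?_) (le_iSup (fun j : L => Y'.map (MulAut.conj (j : H)).toMonoidHom) (⟨x, hx⟩ * j))
      refine congrArg (fun φ => Subgroup.map φ Y') ?_
      ext w
      simp [mul_assoc]
    exact hle hu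
  refine hY'U.trans (PReduced.le_largestOf
    (hUZ.trans fun x hx => (Subgroup.map_subtype_le _ : Cfsg.pCoreOf p L ≤ L) hx.1) hLU ?_ ?_)
  · refine ⟨⟨⟨fun a b => Subtype.ext ?_⟩⟩, fun a ha => (hUZ ha).2.2⟩
    exact (hUZ b.2).2.1 (a : H) (hUZ a.2).1
  · intro D hDL hLD hDp
    have hDC : D ≤ C := PReduced.le_centralizer_largestOf hDL hLD fun d hd =>
      (hDp d hd).imp fun k hk => Subgroup.centralizer_le (SetLike.coe_subset_coe.mpr (hYY.trans hY'U)) hk
    set K := (Subgroup.centralizer (U : Set H)).subgroupOf D with hK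
    haveI hKn : K.Normal := by
      have h1 : D ⊓ Subgroup.centralizer (U : Set H) ≤ D := inf_le_left
      have h2 := (Subgroup.normal_subgroupOf_iff_le_normalizer h1).mpr
        (Coprime.le_normalizer_inf_of_le Subgroup.le_normalizer
          (Coprime.le_normalizer_centralizer (hDL.trans hLU)))
      rwa [Subgroup.inf_subgroupOf_left] at h2
    have hq : IsPGroup p (D ⧸ K) := by
      intro y
      induction y using QuotientGroup.induction_on with
      | H d =>
        obtain ⟨k, hk⟩ := hDp d d.2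
        exact ⟨k, by rw [← QuotientGroup.mk_pow, QuotientGroup.eq_one_iff]; exact hk⟩
    haveI : (D.subgroupOf L).Normal := (Subgroup.normal_subgroupOf_iff_le_normalizer hDL).mpr hLD
    have hidx : ¬ p ∣ ((T : Subgroup H).subgroupOf D).index := by
      have h1 := Transfer.relIndex_dvd_index_of_normal ((T.subtype hTL : Sylow p L) : Subgroup L) (D.subgroupOf L)
      rw [Sylow.coe_subtype, Subgroup.relIndex_subgroupOf hDL] at h1
      exact fun hd => (T.subtype hTL).not_dvd_index (by rw [Sylow.coe_subtype]; exact hd.trans h1)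
    let S : Sylow p D := (T.2.comap_of_injective D.subtype D.subtype_injective).toSylow hidx
    have hsup := Transfer.sylow_sup_eq_top_of_isPGroup_quotient S K hq
    have hDY' : D ≤ Subgroup.centralizer (Y' : Set H) := by
      intro d hd
      have hmem : (⟨d, hd⟩ : D) ∈ (S : Subgroup D) ⊔ K := hsup.ge (Subgroup.mem_top _)
      have hle : (S : Subgroup D) ⊔ K ≤ (Subgroup.centralizer (Y' : Set H)).subgroupOf D := by
        refine sup_le (fun w hw => hT₀Y' ?_) (Subgroup.comap_mono (Subgroup.centralizer_le (SetLike.coe_subset_coe.mpr hY'U)))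
        rw [hT₀]
        exact ⟨hw, hDC w.2⟩
      exact hle hmem
    rw [Subgroup.le_centralizer_iff]
    refine iSup_le fun l => ?_
    rintro _ ⟨y, hy, rfl⟩ d hd
    have h1 : (l : H)⁻¹ * d * l ∈ D := (Subgroup.mem_normalizer_iff''.mp (hLD l.2) d).mp hd
    have h2 : y * ((l : H)⁻¹ * d * l) = (l : H)⁻¹ * d * l * y := hDY' h1 y hy
    show d * ((l : H) * y * (l : H)⁻¹) = (l : H) * y * (l : H)⁻¹ * d
    calc d * ((l : H) * y * (l : H)⁻¹) = (l : H) * ((l : H)⁻¹ * d * l * y) * (l : H)⁻¹ := by group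
      _ = (l : H) * (y * ((l : H)⁻¹ * d * l)) * (l : H)⁻¹ := by rw [h2]
      _ = (l : H) * y * (l : H)⁻¹ * d := by group

end Cfsg.Agent.S2824
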