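import Cfsg.Statements.S2845
import Cfsg.Agent.Lib.Layer.Large

set_option autoImplicit false
open Cfsg CfsgLib

namespace Cfsg.Agent.S2845

/-- Let Q be a nontrivial large p-subgroup of the finite group H. Then for every subgroup L ≥ Q with O_p(L) ≠ 1, C_H(O_p(L)) is a p-group and L has characteristic p, and either the weak closure L° of Q in L equals Q or C_H(L°) = 1; for every subgroup R of H containing a Sylow p-subgroup of H with O_p(R) ≠ 1, C_H(O_p(R)) ≤ O_p(R); and H has parabolic characteristic p. -/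
theorem result {H : Type*} [Group H] [Finite H] {p : ℕ} [Fact p.Prime] (Q : Subgroup H) (hQp : IsPGroup p ↥Q) (hQ1 : Q ≠ ⊥) (hL : Cfsg.IsLarge Q) : (∀ L : Subgroup H, Q ≤ L → Cfsg.pCore p ↥L ≠ ⊥ → IsPGroup p ↥(Subgroup.centralizer (((Cfsg.pCoreOf p L) : Subgroup H) : Set H)) ∧ Subgroup.centralizer (Cfsg.pCore p ↥L : Set ↥L) ≤ Cfsg.pCore p ↥L ∧ (Cfsg.weakClosure Q L = Q ∨ Subgroup.centralizer (((Cfsg.weakClosure Q L) : Subgroup H) : Set H) = ⊥)) ∧ (∀ R : Subgroup H, Cfsg.IsParabolic p R → Cfsg.pCore p ↥R ≠ ⊥ → Subgroup.centralizer (((Cfsg.pCoreOf p R) : Subgroup H) : Set H) ≤ (Cfsg.pCoreOf p R)) ∧ Cfsg.IsOfParabolicCharacteristic p H := by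
  have hcp : ∀ L : Subgroup H, IsPGroup p ↥(Subgroup.centralizer ((pCoreOf p L : Subgroup H) : Set H)) →
      Subgroup.centralizer (pCore p ↥L : Set ↥L) ≤ pCore p ↥L := by
    intro L hp
    haveI := Fitting.pCore_normal (G := ↥L) p
    refine Fitting.le_pCore inferInstance (hp.comap_of_injective L.subtype L.subtype_injective
      |>.to_le fun x hx => ?_)
    rintro _ ⟨a, ha, rfl⟩
    exact congrArg Subtype.val (hx a ha)
  have hpar : ∀ R : Subgroup H, IsParabolic p R → pCore p ↥R ≠ ⊥ →
      IsPGroup p ↥(Subgroup.centralizer ((pCoreOf p R : Subgroup H) : Set H)) ∧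
      Subgroup.centralizer ((pCoreOf p R : Subgroup H) : Set H) ≤ pCoreOf p R := by
    rintro R ⟨T, hT⟩ hR
    obtain ⟨g, hg⟩ := Transfer.exists_map_conj_le_sylow hQp T
    -- transport largeness to the conjugate of `Q` inside `T`
    set Q' := Q.map (MulAut.conj g).toMonoidHom with hQ'
    have hL' : IsLarge Q' := Large.isLarge_map g hL
    have h1 := Large.isPGroup_centralizer (hQp.map _) hL' (hg.trans hT) hR
    refine ⟨h1, ?_⟩
    set K := Subgroup.centralizer ((pCoreOf p R : Subgroup H) : Set H) with hK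
    have hRK : R ≤ Subgroup.normalizer (K : Set H) :=
      Coprime.le_normalizer_centralizer (PReduced.le_normalizer_pCoreOf p R)
    have hKT : K ≤ (T : Subgroup H) :=
      (le_sup_right : K ≤ _).trans (T.3 (IsPGroup.to_sup_of_normal_right' T.2 h1
        (hT.trans hRK)) le_sup_left).le
    exact PReduced.le_pCoreOf (hKT.trans hT) hRK h1
  refine ⟨fun L hQL hA => ?_, fun R hR hA => (hpar R hR hA).2, ?_⟩
  · have h1 := Large.isPGroup_centralizer hQp hL hQL hA
    refine ⟨h1, hcp L h1, ?_⟩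
    by_contra hcon
    rw [not_or] at hcon
    obtain ⟨hne, hC⟩ := hcon
    have hQW : Q ≤ weakClosure Q L := by
      refine le_trans ?_ (le_iSup _ (⟨1, ?_⟩ : {g : H // Q.map (MulAut.conj g).toMonoidHom ≤ L}))
      · exact fun x hx => ⟨x, hx, by simp⟩
      · rintro _ ⟨x, hx, rfl⟩
        simpa using hQL hx
    apply hne
    refine le_antisymm (iSup_le fun g => ?_) hQW
    refine (Large.eq_of_conj hQp hQ1 hL (le_trans ?_
      (hL.2 _ (Subgroup.centralizer_le hQW) hC))).le
    refine le_trans ?_ (Subgroup.centralizer_le_normalizer _)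
    intro x hx c hc
    exact (hc x (le_iSup (fun g : {g : H // Q.map (MulAut.conj g).toMonoidHom ≤ L} =>
      Q.map (MulAut.conj (g : H)).toMonoidHom) g hx)).symm
  · intro R hR hR1 hRp
    set N := Subgroup.normalizer (R : Set H) with hN
    have hA : pCore p ↥N ≠ ⊥ := by
      intro e
      apply hR1
      have h2 : R ≤ pCoreOf p N := PReduced.le_pCoreOf Subgroup.le_normalizer le_rfl hR
      rwa [pCoreOf, e, Subgroup.map_bot, le_bot_iff] at h2
    exact hcp N (hpar N hRp hA).1

end Cfsg.Agent.S2845
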