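import Cfsg.Statements.S1453
import Cfsg.Agent.Lib.PGroup.AlperinElementary
import Cfsg.Agent.Lib.PGroup.NormalRankTwo

set_option autoImplicit false
open Cfsg
open scoped commutatorElement

namespace Cfsg.Agent.S1453

/-- Let p be an odd prime and R a finite p-group with an elementary abelian subgroup of order p ^ 3 and an elementary abelian subgroup E of order p ^ 2 contained in no larger elementary abelian subgroup. Let Z₂ be the second centre of R, W the subgroup generated by the elements of Z₂ of order dividing p, and T = C_R(W). Then E is not contained in T; the elements of order dividing p of the centre of R generate a group of order p; W is elementary abelian of order p ^ 2; and T is characteristic in R of index p. -/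
theorem result {R : Type*} [Group R] [Finite R] (p : ℕ) [Fact p.Prime] (hp : p ≠ 2) (hR : IsPGroup p R) (hr : ¬ Cfsg.PRankLE p 2 R)
    (E : Subgroup R) (hE : Cfsg.IsElementaryAbelian p E) (hE2 : Nat.card E = p ^ 2)
    (hEmax : ∀ B : Subgroup R, Cfsg.IsElementaryAbelian p B → E ≤ B → B = E) :
    ¬ E ≤ Subgroup.centralizer ((Subgroup.closure {x : R | x ∈ Subgroup.upperCentralSeries R 2 ∧ x ^ p = 1} : Subgroup R) : Set R) ∧
      Nat.card ↥(Subgroup.closure {x : R | x ∈ Subgroup.center R ∧ x ^ p = 1}) = p ∧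
      (Cfsg.IsElementaryAbelian p (Subgroup.closure {x : R | x ∈ Subgroup.upperCentralSeries R 2 ∧ x ^ p = 1}) ∧
        Nat.card ↥(Subgroup.closure {x : R | x ∈ Subgroup.upperCentralSeries R 2 ∧ x ^ p = 1}) = p ^ 2) ∧
      (Subgroup.centralizer ((Subgroup.closure {x : R | x ∈ Subgroup.upperCentralSeries R 2 ∧ x ^ p = 1} : Subgroup R) : Set R)).Characteristic ∧
      (Subgroup.centralizer ((Subgroup.closure {x : R | x ∈ Subgroup.upperCentralSeries R 2 ∧ x ^ p = 1} : Subgroup R) : Set R)).index = p := by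
  have hp1 : p.Prime := Fact.out
  have hcE := hE.1
  have hadd : ∀ x ∈ Subgroup.centralizer (E : Set R), x ^ p = 1 → x ∈ E := by
    intro x hx hxp
    set E' := Subgroup.closure ((E : Set R) ∪ {x}) with hE'
    have hc : IsMulCommutative E' := Subgroup.isMulCommutative_closure (by
      rintro u (hu | rfl) v (hv | rfl)
      · exact congrArg Subtype.val (mul_comm' (⟨u, hu⟩ : E) ⟨v, hv⟩)
      · exact hx u hu
      · exact (hx v hv).symm
      · rfl)
    have he : Cfsg.IsElementaryAbelian p E' := ⟨hc, fun u hu => by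
      induction hu using Subgroup.closure_induction with
      | mem v hv =>
        rcases hv with hv | rfl
        · exact hE.2 v hv
        · exact hxp
      | one => exact one_pow p
      | mul v w hv hw iv iw =>
        haveI := hc
        have hvw : Commute v w := congrArg Subtype.val (mul_comm' (⟨v, hv⟩ : E') ⟨w, hw⟩)
        rw [hvw.mul_pow, iv, iw, one_mul]
      | inv v _ iv => rw [inv_pow, iv, inv_one]⟩
    exact (hEmax E' he fun u hu => Subgroup.subset_closure (Or.inl hu)).le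
      (Subgroup.subset_closure (Or.inr rfl))
  obtain ⟨A, ⟨hAc, hAe⟩, hA⟩ := CfsgLib.AlperinElem.exists_large_elementary hR hr
  set Z0 := Subgroup.closure {x : R | x ∈ Subgroup.center R ∧ x ^ p = 1} with hZ0
  have hZ0c : Z0 ≤ Subgroup.center R := (Subgroup.closure_le _).mpr fun x hx => hx.1
  have hZ0E : Z0 ≤ E := (Subgroup.closure_le _).mpr fun x hx =>
    hadd x (fun u _ => Subgroup.mem_center_iff.mp hx.1 u) hx.2
  have hZ0lt : Z0 < E := by
    refine lt_of_le_of_ne hZ0E fun heq => ?_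
    have hAE : A ≤ E := fun a ha => hadd a (fun u hu =>
      ((Subgroup.mem_center_iff.mp (hZ0c (heq.ge hu))) a).symm) (hAe a ha)
    have := hA.trans (Subgroup.card_le_of_le hAE)
    rw [hE2, Nat.pow_le_pow_iff_right hp1.one_lt] at this
    omega
  haveI : Nontrivial R := by
    by_contra h
    haveI := not_nontrivial_iff_subsingleton.mp h
    have h1 := Nat.card_of_subsingleton (1 : E)
    rw [hE2] at h1
    exact (Nat.one_lt_pow two_ne_zero hp1.one_lt).ne' h1
  haveI := hR.center_nontrivial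
  have hZ0card : Nat.card Z0 = p := by
    obtain ⟨a, ha⟩ := IsPGroup.iff_card.mp (hR.to_subgroup Z0)
    obtain ⟨n, hn0, hn⟩ := (hR.to_subgroup (Subgroup.center R)).nontrivial_iff_card.mp inferInstance
    obtain ⟨z, hz⟩ := exists_prime_orderOf_dvd_card' (G := Subgroup.center R) p (hn ▸ dvd_pow_self p hn0.ne')
    have hzmem : (z : R) ∈ Z0 := Subgroup.subset_closure ⟨z.2, by
      rw [← Subgroup.orderOf_coe] at hz; rw [← hz]; exact pow_orderOf_eq_one _⟩
    have ha1 : 1 ≤ a := by
      by_contra h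
      have h0 := Subgroup.card_eq_one.mp (show Nat.card Z0 = 1 by rw [ha, show a = 0 by omega, pow_zero])
      rw [h0, Subgroup.mem_bot] at hzmem
      rw [← Subgroup.orderOf_coe, hzmem, orderOf_one] at hz
      exact hp1.one_lt.ne hz
    have ha2 : a < 2 := by
      by_contra h
      refine hZ0lt.ne (Subgroup.eq_of_le_of_card_ge hZ0E ?_)
      rw [ha, hE2]
      exact Nat.pow_le_pow_right hp1.pos (by omega)
    rw [ha, show a = 1 by omega, pow_one]
  set Z2 := Subgroup.upperCentralSeries R 2 with hZ2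
  have hZ2c : ∀ x ∈ Z2, ∀ r : R, ⁅x, r⁆ ∈ Subgroup.center R := fun x hx r => by
    have := (Subgroup.mem_upperCentralSeries_succ_iff (n := 1)).mp hx r
    rwa [Subgroup.upperCentralSeries_one] at this
  set W := Subgroup.closure {x : R | x ∈ Z2 ∧ x ^ p = 1} with hW
  let Ω : Subgroup R :=
    { carrier := {x | x ∈ Z2 ∧ x ^ p = 1}
      one_mem' := ⟨one_mem _, one_pow p⟩
      mul_mem' := fun {x y} hx hy => ⟨mul_mem hx.1 hy.1, by
        have hc := hZ2c y hy.1 x
        have h1 : Commute ⁅y, x⁆ x := ((Subgroup.mem_center_iff.mp hc) x).symm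
        have h2 : Commute ⁅y, x⁆ y := ((Subgroup.mem_center_iff.mp hc) y).symm
        have hcp : ⁅y, x⁆ ^ p = 1 := by
          have h3 : (⁅y, x⁆ * x) ^ p = 1 := by
            rw [show ⁅y, x⁆ * x = y * x * y⁻¹ by rw [commutatorElement_def]; group, conj_pow, hx.2,
              mul_one, mul_inv_cancel]
          rwa [h1.mul_pow, hx.2, mul_one] at h3
        obtain ⟨r, hr⟩ : p ∣ p.choose 2 :=
          hp1.dvd_choose_self (by norm_num) (lt_of_le_of_ne hp1.two_le hp.symm)
        rw [CfsgLib.PSolvable.mul_pow_of_comm h1 h2, hx.2, hy.2, hr, pow_mul, hcp, one_pow, one_mul,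
          one_mul]⟩
      inv_mem' := fun {x} hx => ⟨inv_mem hx.1, by rw [inv_pow, hx.2, inv_one]⟩ }
  have hWΩ : W ≤ Ω := (Subgroup.closure_le _).mpr fun x hx => hx
  have hWcom : ∀ x ∈ W, ∀ r : R, ⁅x, r⁆ ∈ Z0 := by
    intro x hx r
    have hc := hZ2c x (hWΩ hx).1 r
    refine Subgroup.subset_closure ⟨hc, ?_⟩
    have h3 : (⁅x, r⁆⁻¹ * x) ^ p = 1 := by
      rw [show ⁅x, r⁆⁻¹ * x = r * x * r⁻¹ by rw [commutatorElement_def]; group, conj_pow,
        (hWΩ hx).2, mul_one, mul_inv_cancel]
    have hcx : Commute ⁅x, r⁆ x := ((Subgroup.mem_center_iff.mp hc) x).symm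
    rw [hcx.inv_left.mul_pow, (hWΩ hx).2, mul_one, inv_pow, inv_eq_one] at h3
    exact h3
  obtain ⟨E₀, -, hE₀n, hE₀e, hE₀c⟩ := CfsgLib.CyclicMax.exists_normal_rank_two hR hp
    (⊤ : Subgroup R) inferInstance fun h => by
      haveI := h
      haveI : IsCyclic E := isCyclic_of_surjective (Subgroup.subgroupOfEquivOfLe (le_top : E ≤ ⊤)) (MulEquiv.surjective _)
      obtain ⟨g, hg⟩ := IsCyclic.exists_ofOrder_eq_natCard (α := E)
      have h1 : orderOf g ∣ p := orderOf_dvd_of_pow_eq_one (Subtype.ext (hE.2 g g.2))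
      rw [hg, hE2] at h1
      have h2 := Nat.le_of_dvd hp1.pos h1
      nlinarith [hp1.one_lt]
  haveI := hE₀n
  have hE₀W : E₀ ≤ W := by
    intro x hx
    refine Subgroup.subset_closure ⟨?_, hE₀e.2 x hx⟩
    refine (Subgroup.mem_upperCentralSeries_succ_iff (n := 1)).mpr fun r => ?_
    rw [Subgroup.upperCentralSeries_one]
    set Z := ⁅E₀, (⊤ : Subgroup R)⁆ with hZ
    have hne : E₀ ≠ ⊥ := fun h => by
      rw [h, Subgroup.card_bot] at hE₀c
      exact (Nat.one_lt_pow two_ne_zero hp1.one_lt).ne hE₀c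
    have hle := CfsgLib.Uniserial.card_mul_le (G := (⊤ : Subgroup R)) (hR.to_subgroup _)
      (hR.to_subgroup E₀) (by rw [Subgroup.normalizer_eq_top]) hne
    rw [hE₀c, pow_two] at hle
    have hZp := Nat.le_of_mul_le_mul_right hle hp1.pos
    have hxr : ⁅x, r⁆ ∈ Z := Subgroup.commutator_mem_commutator hx (Subgroup.mem_top r)
    by_cases hZb : Z = ⊥
    · rw [hZb, Subgroup.mem_bot] at hxr
      rw [hxr]; exact one_mem _
    have h1 := CfsgLib.Uniserial.card_mul_le (G := (⊤ : Subgroup R)) (hR.to_subgroup _)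
      (hR.to_subgroup Z) (by rw [Subgroup.normalizer_eq_top]) hZb
    have h2 : Nat.card ↥⁅Z, (⊤ : Subgroup R)⁆ ≤ 1 :=
      Nat.le_of_mul_le_mul_right ((h1.trans hZp).trans (one_mul p).ge) hp1.pos
    refine Subgroup.mem_center_iff.mpr fun s => (commutatorElement_eq_one_iff_commute.mp
      (Subgroup.mem_bot.mp ((Subgroup.eq_bot_of_card_le _ h2) ▸
        Subgroup.commutator_mem_commutator hxr (Subgroup.mem_top s)))).symm.eq
  have hEW : ¬ E ≤ W := by
    intro hle
    have hEn : E.Normal := ⟨fun u hu r => by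
      rw [show r * u * r⁻¹ = ⁅u, r⁆⁻¹ * u by rw [commutatorElement_def]; group]
      exact mul_mem (inv_mem (hZ0E (hWcom u (hle hu) r))) hu⟩
    haveI := hEn
    obtain ⟨B, hEB, -, hBe, hB3⟩ := CfsgLib.AlperinElem.exists_normal_rank_three hR hp hr hE hE2
    rw [hEmax B hBe hEB, hE2, Nat.pow_le_pow_iff_right hp1.one_lt] at hB3
    omega
  obtain ⟨e, heE, heZ⟩ := SetLike.exists_of_lt hZ0lt
  have hcent : ∀ x, x ∈ Subgroup.centralizer (E : Set R) ↔ Commute x e := by
    intro x
    refine ⟨fun hx => (hx e heE).symm, fun hx u hu => ?_⟩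
    have hsup : Z0 ⊔ Subgroup.zpowers e = E := by
      refine Subgroup.eq_of_le_of_card_ge (sup_le hZ0E (Subgroup.zpowers_le.mpr heE)) ?_
      obtain ⟨a, ha⟩ := IsPGroup.iff_card.mp (hR.to_subgroup (Z0 ⊔ Subgroup.zpowers e))
      have h1 : Nat.card Z0 < p ^ a := by
        rw [← ha]
        by_contra hge
        exact heZ ((Subgroup.eq_of_le_of_card_ge le_sup_left (not_lt.mp hge)).ge
          (Subgroup.mem_sup_right (Subgroup.mem_zpowers e)))
      rw [hZ0card] at h1
      rw [ha, hE2]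
      refine Nat.pow_le_pow_right hp1.pos ?_
      have := (Nat.pow_lt_pow_iff_right hp1.one_lt).mp (lt_of_eq_of_lt (pow_one p) h1)
      omega
    haveI : Z0.Normal := ⟨fun z hz r => by
      rw [(Subgroup.mem_center_iff.mp (hZ0c hz)) r, mul_inv_cancel_right]
      exact hz⟩
    rw [SetLike.mem_coe, ← hsup] at hu
    obtain ⟨z, hz, w, hw, rfl⟩ := Subgroup.mem_sup_of_normal_left.mp hu
    obtain ⟨j, rfl⟩ := Subgroup.mem_zpowers_iff.mp hw
    have hzx : Commute z x := ((Subgroup.mem_center_iff.mp (hZ0c hz)) x).symm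
    exact (hzx.mul_left (hx.symm.zpow_left j)).eq
  have hWcard : Nat.card W ≤ p ^ 2 := by
    haveI : IsMulCommutative Z0 := ⟨⟨fun u v => Subtype.ext
      ((Subgroup.mem_center_iff.mp (hZ0c v.2)) u)⟩⟩
    let g : W →* Z0 := MonoidHom.mk' (fun x => ⟨⁅(x : R), e⁆, hWcom x x.2 e⟩) fun x y => Subtype.ext (by
      show ⁅(x : R) * y, e⁆ = ⁅(x : R), e⁆ * ⁅(y : R), e⁆
      have hc := Subgroup.mem_center_iff.mp (hZ0c (hWcom y y.2 e))
      rw [show ⁅(x : R) * y, e⁆ = x * ⁅(y : R), e⁆ * (x : R)⁻¹ * ⁅(x : R), e⁆ by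
        simp only [commutatorElement_def]; group, hc x, mul_inv_cancel_right, ← hc])
    have hker : g.ker.map W.subtype ≤ W ⊓ E := by
      rintro _ ⟨x, hx, rfl⟩
      exact Subgroup.mem_inf.mpr ⟨x.2, hadd x ((hcent x).mpr
        (commutatorElement_eq_one_iff_commute.mp (congrArg Subtype.val hx))) (hWΩ x.2).2⟩
    have hWE : Nat.card ↥(W ⊓ E) ≤ p := by
      obtain ⟨a, ha⟩ := IsPGroup.iff_card.mp (hR.to_subgroup (W ⊓ E))
      rw [ha]
      have : a < 2 := by
        by_contra h
        refine hEW ((Subgroup.eq_of_le_of_card_ge (inf_le_right : W ⊓ E ≤ E) ?_).ge.trans inf_le_left)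
        rw [ha, hE2]
        exact Nat.pow_le_pow_right hp1.pos (by omega)
      exact (Nat.pow_le_pow_right hp1.pos (show a ≤ 1 by omega)).trans (pow_one p).le
    rw [← g.ker.card_mul_index, Subgroup.index_ker, pow_two]
    refine Nat.mul_le_mul ?_ ((Subgroup.card_le_card_group g.range).trans hZ0card.le)
    rw [← Subgroup.card_map_of_injective W.subtype_injective]
    exact (Subgroup.card_le_of_le hker).trans hWE
  have hWeq : E₀ = W := Subgroup.eq_of_le_of_card_ge hE₀W (hE₀c ▸ hWcard)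
  have hWe : Cfsg.IsElementaryAbelian p W := hWeq ▸ hE₀e
  have hWc2 : Nat.card W = p ^ 2 := hWeq ▸ hE₀c
  haveI hWn : W.Normal := hWeq ▸ hE₀n
  have hnot : ¬ E ≤ Subgroup.centralizer (W : Set R) := by
    intro hle
    have hWE : W ≤ E := fun x hx => hadd x (fun u hu => (hle hu x hx).symm) (hWΩ hx).2
    exact hEW (Subgroup.eq_of_le_of_card_ge hWE (by rw [hE2, hWc2])).ge
  haveI hWchar : W.Characteristic := by
    refine Subgroup.characteristic_iff_map_eq.mpr fun σ => ?_
    refine Subgroup.eq_of_le_of_card_ge ?_ (Subgroup.card_map_of_injective σ.injective).ge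
    rw [hW, MonoidHom.map_closure]
    refine Subgroup.closure_mono ?_
    rintro _ ⟨x, ⟨hx, hxp⟩, rfl⟩
    refine ⟨?_, by rw [← map_pow, hxp, map_one]⟩
    have h1 := Subgroup.characteristic_iff_map_eq.mp (inferInstance : Z2.Characteristic) σ
    exact h1.le ⟨x, hx, rfl⟩
  refine ⟨hnot, hZ0card, ⟨hWe, hWc2⟩, inferInstance, ?_⟩
  rcases (Nat.dvd_prime hp1).mp (CfsgLib.AlperinElem.centralizer_index_le hR hWe hWc2) with h | h
  · exact absurd (le_top.trans (Subgroup.index_eq_one.mp h).ge) hnot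
  · exact h

end Cfsg.Agent.S1453
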