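import Cfsg.Statements.S0521
import Cfsg.Agent.Lib.Quadratic.Stable
import Cfsg.Agent.Lib.PSolvable.Core

set_option autoImplicit false
open Cfsg
open scoped commutatorElement
set_option linter.style.haveILetI false

namespace Cfsg.Agent.S0521

theorem sylow_le_pCore {Y : Type*} [Group Y] [Finite Y] {p : ℕ} [Fact p.Prime] (hp2 : p ≠ 2)
    (hodd : Odd (Nat.card Y)) (hs : Cfsg.IsPSolvable p Y) (hO : Cfsg.pPrimeCore p Y = ⊥) (S : Sylow p Y)
    (hcyc : IsCyclic ↥⁅(S : Subgroup Y), (S : Subgroup Y)⁆) :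
    (S : Subgroup Y) ≤ Cfsg.pCore p Y := by
  haveI := CfsgLib.Fitting.pCore_normal (G := Y) p
  set Q := Cfsg.pCore p Y with hQ
  set N := (frattini ↥Q).map Q.subtype with hN
  haveI : N.Normal := CfsgLib.PSolvable.normal_map_of_characteristic Q (frattini ↥Q)
  have hQp : IsPGroup p Q := CfsgLib.Fitting.pCore_isPGroup p
  have hQS : Q ≤ (S : Subgroup Y) := IsPGroup.le_sylow_of_normal hQp S
  set C := Q ⊓ ⁅(S : Subgroup Y), (S : Subgroup Y)⁆ with hC
  have hCcyc : IsCyclic C := isCyclic_of_injective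
    (Subgroup.inclusion (inf_le_right : C ≤ _)) (Subgroup.inclusion_injective _)
  have hCn : ∀ b ∈ (S : Subgroup Y), ∀ c ∈ C, b * c * b⁻¹ ∈ C := by
    intro b hb c hc
    refine ⟨(inferInstance : Q.Normal).conj_mem _ hc.1 b, ?_⟩
    have hle : ⁅(S : Subgroup Y), (S : Subgroup Y)⁆ ≤
        ⁅(S : Subgroup Y), (S : Subgroup Y)⁆.comap (MulAut.conj b).toMonoidHom := by
      rw [Subgroup.commutator_le]
      intro x hx y hy
      change b * ⁅x, y⁆ * b⁻¹ ∈ ⁅(S : Subgroup Y), (S : Subgroup Y)⁆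
      rw [← MulAut.conj_apply, map_commutatorElement]
      exact Subgroup.commutator_mem_commutator
        ((S : Subgroup Y).mul_mem ((S : Subgroup Y).mul_mem hb hx) ((S : Subgroup Y).inv_mem hb))
        ((S : Subgroup Y).mul_mem ((S : Subgroup Y).mul_mem hb hy) ((S : Subgroup Y).inv_mem hb))
    exact hle hc.2
  have hstep : ∀ c ∈ C, ∀ b ∈ (S : Subgroup Y), ⁅c, b⁆ ∈ N := by
    intro c hc b hb
    obtain ⟨g, hg⟩ := hCcyc.exists_generator
    obtain ⟨i, hi⟩ := Subgroup.mem_zpowers_iff.mp (hg ⟨c, hc⟩)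
    obtain ⟨m, hm⟩ := Subgroup.mem_zpowers_iff.mp (hg ⟨b * (g : Y) * b⁻¹, hCn b hb g g.2⟩)
    have hci : (g : Y) ^ i = c := by simpa using congrArg Subtype.val hi
    have hbg : MulAut.conj b (g : Y) = (g : Y) ^ m := by
      simpa using (congrArg Subtype.val hm).symm
    have hiter : ∀ n : ℕ, MulAut.conj (b ^ n) (g : Y) = (g : Y) ^ (m ^ n) := by
      intro n
      induction n with
      | zero => simp
      | succ n ih => rw [pow_succ', map_mul, MulAut.mul_apply, ih, map_zpow, hbg, ← zpow_mul, pow_succ']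
    by_cases hg1 : (g : Y) = 1
    · have : c = 1 := by rw [← hci, hg1, one_zpow]
      rw [this, commutatorElement_one_left]
      exact N.one_mem
    obtain ⟨j, hj⟩ := S.2 ⟨b, hb⟩
    have hbj : b ^ p ^ j = 1 := congrArg Subtype.val hj
    have hfix := hiter (p ^ j)
    rw [hbj, map_one, MulAut.one_apply] at hfix
    have hdvd : (p : ℤ) ∣ m ^ (p ^ j) - 1 := by
      have h1 : (orderOf (g : Y) : ℤ) ∣ m ^ (p ^ j) - 1 := by
        rw [orderOf_dvd_iff_zpow_eq_one, zpow_sub, ← hfix, zpow_one, mul_inv_cancel]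
      refine dvd_trans (Int.natCast_dvd_natCast.mpr ?_) h1
      obtain ⟨k, hk⟩ := IsPGroup.iff_orderOf.mp hQp ⟨(g : Y), (inf_le_left : C ≤ Q) g.2⟩
      rw [Subgroup.orderOf_mk] at hk
      rw [hk]
      refine dvd_pow_self p fun h0 => hg1 ?_
      rw [h0, pow_zero] at hk
      exact orderOf_eq_one_iff.mp hk
    rw [← ZMod.intCast_zmod_eq_zero_iff_dvd, Int.cast_sub, Int.cast_pow, Int.cast_one,
      ZMod.pow_card_pow, sub_eq_zero] at hdvd
    obtain ⟨t, ht⟩ : (p : ℤ) ∣ m - 1 := by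
      rw [← ZMod.intCast_zmod_eq_zero_iff_dvd, Int.cast_sub, Int.cast_one, hdvd, sub_self]
    have hcomm : ⁅c, b⁆ = ((g : Y) ^ (-(i * t))) ^ p := by
      have h2 : b * c⁻¹ * b⁻¹ = (g : Y) ^ (-(m * i)) := by
        rw [← MulAut.conj_apply, ← hci, map_inv, map_zpow, hbg, ← zpow_mul, ← zpow_neg]
      rw [commutatorElement_def, ← zpow_natCast ((g : Y) ^ (-(i * t))), ← zpow_mul,
        show c * b * c⁻¹ * b⁻¹ = c * (b * c⁻¹ * b⁻¹) by group, h2, ← hci, ← zpow_add]
      congr 1
      linear_combination (-i) * ht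
    rw [hcomm]
    have hmem : (g : Y) ^ (-(i * t)) ∈ Q := Q.zpow_mem ((inf_le_left : C ≤ Q) g.2) _
    exact ⟨(⟨_, hmem⟩ : Q) ^ p, (CfsgLib.PSolvable.commutator_le_frattini hQp).2 _, rfl⟩
  have hker : ∀ x ∈ Cfsg.sectionKernel Q N, ∃ n : ℕ, x ^ p ^ n = 1 := by
    intro x hx
    obtain ⟨i, -, -, -, hco, -⟩ := CfsgLib.Transfer.exists_pow_coprime_part (p := p) x
    refine ⟨i, ?_⟩
    have hcop : (Nat.card (Subgroup.zpowers (x ^ p ^ i))).Coprime (Nat.card (frattini ↥Q)) := by
      obtain ⟨k, hk⟩ := (hQp.to_subgroup (frattini ↥Q)).exists_card_eq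
      rw [Nat.card_zpowers, hk]
      exact hco.pow_right k
    have hcent : Subgroup.zpowers (x ^ p ^ i) ≤ Subgroup.centralizer (Q : Set Y) := by
      refine CfsgLib.Coprime.le_centralizer_of_frattini Subgroup.le_normalizer_of_normal hcop
        fun a ha k hk => ?_
      have hxa : a ∈ Cfsg.sectionKernel Q N := Subgroup.zpowers_le.mpr (Subgroup.pow_mem _ hx _) ha
      have h2 := Subgroup.mem_centralizer_iff.mp hxa (QuotientGroup.mk' N k) ⟨k, hk, rfl⟩
      rw [← hN, ← QuotientGroup.eq_one_iff]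
      change QuotientGroup.mk' N (a * k * a⁻¹ * k⁻¹) = 1
      rw [map_mul, map_mul, map_mul, map_inv, map_inv, ← h2]
      group
    have hq := CfsgLib.PSolvable.centralizer_pCore_le hs hO (hcent (Subgroup.mem_zpowers _))
    obtain ⟨k, hk⟩ := IsPGroup.iff_orderOf.mp hQp ⟨_, hq⟩
    rw [Subgroup.orderOf_mk] at hk
    exact orderOf_eq_one_iff.mp (Nat.eq_one_of_dvd_coprimes (hco.pow_right k) dvd_rfl (hk ▸ dvd_rfl))
  intro a ha
  have hquad : ⁅⁅Q, Subgroup.zpowers a⁆, Subgroup.zpowers a⁆ ≤ N := by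
    have haS : Subgroup.zpowers a ≤ (S : Subgroup Y) := Subgroup.zpowers_le.mpr ha
    have h1 : ⁅Q, Subgroup.zpowers a⁆ ≤ C :=
      le_inf (Subgroup.commutator_le_left _ _) (Subgroup.commutator_mono hQS haS)
    rw [Subgroup.commutator_le]
    exact fun c hc b hb => hstep c (h1 hc) b (haS hb)
  have hst := (CfsgLib.Quadratic.isActionPStable_of_sectionsStable
    (CfsgLib.Quadratic.sectionsStable_of_odd hp2 hodd)).2.1
  obtain ⟨D, hDn, hKD, ⟨k, hk⟩, haD⟩ := hst a hquad
  refine CfsgLib.Fitting.le_pCore hDn ?_ haD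
  intro d
  haveI hKn : (Cfsg.sectionKernel Q N).Normal := by
    haveI : (Q.map (QuotientGroup.mk' N)).Normal :=
      Subgroup.Normal.map inferInstance _ (QuotientGroup.mk'_surjective N)
    exact Subgroup.Normal.comap inferInstance _
  haveI : ((Cfsg.sectionKernel Q N).subgroupOf D).Normal := inferInstance
  have hd := Subgroup.pow_index_mem ((Cfsg.sectionKernel Q N).subgroupOf D) d
  rw [show ((Cfsg.sectionKernel Q N).subgroupOf D).index = p ^ k from hk] at hd
  obtain ⟨n, hn⟩ := hker _ hd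
  refine ⟨k + n, Subtype.ext ?_⟩
  rw [pow_add, pow_mul, Subgroup.coe_pow]
  exact hn


/-- Let X be a finite solvable group of odd order, p a prime and S a Sylow p-subgroup of X whose commutator subgroup is
cyclic. Then the product of the largest normal subgroup of X of order prime to p with S is a normal subgroup of X. -/
theorem result {X : Type*} [Group X] [Finite X] [Group.IsSolvable X]
    (hX : Odd (Nat.card X)) (p : ℕ) [Fact p.Prime] (S : Sylow p X) (hS : IsCyclic (commutator (S : Subgroup X))) :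
    (Cfsg.pPrimeCore p X ⊔ (S : Subgroup X)).Normal := by
  haveI := CfsgLib.Transfer.pPrimeCore_normal p X
  by_cases hp2 : p = 2
  · subst hp2
    have hS1 : (S : Subgroup X) = ⊥ := by
      obtain ⟨k, hk⟩ := S.2.exists_card_eq
      rcases Nat.eq_zero_or_pos k with rfl | hk0
      · exact Subgroup.card_eq_one.mp hk
      · have h2 : 2 ∣ Nat.card X :=
          ((hk ▸ dvd_pow_self 2 hk0.ne' : 2 ∣ Nat.card S)).trans (Subgroup.card_subgroup_dvd_card _)
        exact absurd hX (Nat.not_odd_iff_even.mpr (even_iff_two_dvd.mpr h2))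
    rw [hS1, sup_bot_eq]
    infer_instance
  set f := QuotientGroup.mk' (Cfsg.pPrimeCore p X) with hf
  have hsurj : Function.Surjective f := QuotientGroup.mk'_surjective _
  let Sb := S.mapSurjective hsurj
  have hcyc : IsCyclic ↥⁅(Sb : Subgroup (X ⧸ Cfsg.pPrimeCore p X)), (Sb : Subgroup (X ⧸ Cfsg.pPrimeCore p X))⁆ := by
    have h1 : IsCyclic ↥((commutator (S : Subgroup X)).map (S : Subgroup X).subtype) :=
      isCyclic_of_surjective ((S : Subgroup X).subtype.subgroupMap (commutator (S : Subgroup X)))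
        (MonoidHom.subgroupMap_surjective _ _)
    rw [Subgroup.map_subtype_commutator] at h1
    change IsCyclic ↥⁅(S : Subgroup X).map f, (S : Subgroup X).map f⁆
    rw [← Subgroup.map_commutator]
    exact isCyclic_of_surjective (f.subgroupMap ⁅(S : Subgroup X), (S : Subgroup X)⁆)
      (MonoidHom.subgroupMap_surjective _ _)
  have hle := sylow_le_pCore hp2
    (hX.of_dvd_nat (Subgroup.card_quotient_dvd_card _))
    (CfsgLib.PSolvable.isPSolvable_of_surjective f hsurj
      (CfsgLib.PSolvable.isPSolvable_of_isSolvable inferInstance))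
    (CfsgLib.PSolvable.pPrimeCore_eq_bot_of_ker hsurj (QuotientGroup.ker_mk' _)) Sb hcyc
  have heq : (Sb : Subgroup (X ⧸ Cfsg.pPrimeCore p X)) = Cfsg.pCore p (X ⧸ Cfsg.pPrimeCore p X) :=
    le_antisymm hle (by
      haveI := CfsgLib.Fitting.pCore_normal (G := X ⧸ Cfsg.pPrimeCore p X) p
      exact IsPGroup.le_sylow_of_normal (CfsgLib.Fitting.pCore_isPGroup p) Sb)
  have heq2 : Cfsg.pPrimeCore p X ⊔ (S : Subgroup X) = ((S : Subgroup X).map f).comap f := by
    rw [Subgroup.comap_map_eq, hf, QuotientGroup.ker_mk', sup_comm]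
  rw [heq2, show (S : Subgroup X).map f = Cfsg.pCore p (X ⧸ Cfsg.pPrimeCore p X) from heq]
  exact (CfsgLib.Fitting.pCore_normal p).comap f

end Cfsg.Agent.S0521
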