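import Cfsg.Statements.S0731
import Cfsg.Agent.Lib.Zassenhaus.OddExtreme
import Cfsg.Agent.Lib.Zassenhaus.FeitAbelianReduce
import Cfsg.Agent.Lib.Zassenhaus.LargeStab

set_option autoImplicit false
set_option linter.style.haveILetI false
open Cfsg

namespace Cfsg.Agent.S0731

/-- A finite Zassenhaus group whose point stabiliser has an abelian regular normal subgroup on the remaining points is sharply triply transitive or isomorphic to `PSL(2, F)` for a finite field `F` of odd characteristic. -/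
theorem result {G Ω : Type*} [Group G] [Finite G] [MulAction G Ω] [Finite Ω] (hZ : Cfsg.IsZassenhausGroup G Ω) (x : Ω) (F : Subgroup G) (hFle : F ≤ MulAction.stabilizer G x) (hFn : (F.subgroupOf (MulAction.stabilizer G x)).Normal) (hFab : IsMulCommutative F) (hreg : ∀ y z : Ω, y ≠ x → z ≠ x → ∃! u : F, (u : G) • y = z) : (MulAction.IsMultiplyPretransitive G Ω 3 ∧ ∀ t : Fin 3 ↪ Ω, MulAction.stabilizer G t = ⊥) ∨ ∃ (K : Type) (_ : Field K) (_ : Fintype K), ringChar K ≠ 2 ∧ Nonempty (G ≃* Matrix.ProjectiveSpecialLinearGroup (Fin 2) K) := by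
  classical
  have hz : CfsgLib.Zassenhaus.ZG G Ω := CfsgLib.Zassenhaus.ZG.mk' hZ.1 hZ.2.1 hZ.2.2.1 hZ.2.2.2.1
  obtain ⟨y, hyx, -⟩ := CfsgLib.Zassenhaus.exists_third hz x x
  have hne : CfsgLib.Zassenhaus.D2 G x y ≠ ⊥ := by
    obtain ⟨g, hg1, c, d, hcd, hgc, hgd⟩ := hZ.2.2.2.1
    obtain ⟨t, hta, htb⟩ := hz.trans c d x y hcd hyx.symm
    intro h
    have hm : t * g * t⁻¹ ∈ CfsgLib.Zassenhaus.D2 G x y := CfsgLib.Zassenhaus.mem_D2.mpr
      ⟨by rw [← hta, mul_smul, mul_smul, inv_smul_smul, hgc],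
       by rw [← htb, mul_smul, mul_smul, inv_smul_smul, hgd]⟩
    rw [h, Subgroup.mem_bot] at hm
    exact hg1 (conj_eq_one_iff.mp hm)
  have hU := CfsgLib.Zassenhaus.regKernel_of_reg hz hyx.symm hne hFle hreg
  have hcU : ∀ u w : F, u * w = w * u := fun u w => hFab.is_comm.comm u w
  have hn := hz.three
  have hcardeq : ∀ c d : Ω, c ≠ d →
      Nat.card (CfsgLib.Zassenhaus.D2 G c d) = Nat.card (CfsgLib.Zassenhaus.D2 G x y) := by
    intro c d hcd
    have e := CfsgLib.Zassenhaus.card_group hz hyx.symm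
    rw [CfsgLib.Zassenhaus.card_group hz hcd] at e
    exact Nat.eq_of_mul_eq_mul_left (Nat.mul_pos (by omega) (by omega)) e
  set k := Nat.card (CfsgLib.Zassenhaus.D2 G x y) with hk
  by_cases hk2 : k + 2 = Nat.card Ω
  · left
    refine ⟨⟨fun s t => ?_⟩, fun t => ?_⟩
    · have hs : ∀ (s : Fin 3 ↪ Ω) {i j : Fin 3}, i ≠ j → s i ≠ s j := fun s _ _ h => s.injective.ne h
      have hne1 : ∀ i : Fin 3, i ≠ 2 → (2 : Fin 3) ≠ i := fun i h => h.symm
      obtain ⟨g, hg0, hg1⟩ := hz.trans (s 0) (s 1) (t 0) (t 1) (hs s (by decide)) (hs t (by decide))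
      obtain ⟨h, hh, hh2⟩ := CfsgLib.Zassenhaus.D2_transitive hz (hs t (by decide : (0 : Fin 3) ≠ 1))
        (by rw [hcardeq _ _ (hs t (by decide))]; exact hk2)
        (c := g • s 2) (d := t 2)
        (fun e => hs s (by decide : (2 : Fin 3) ≠ 0) ((smul_left_cancel_iff g).mp (e.trans hg0.symm)))
        (fun e => hs s (by decide : (2 : Fin 3) ≠ 1) ((smul_left_cancel_iff g).mp (e.trans hg1.symm)))
        (hs t (by decide)) (hs t (by decide))
      refine ⟨h * g, ?_⟩
      ext i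
      show (h * g) • s i = t i
      fin_cases i
      · show (h * g) • s 0 = t 0
        rw [mul_smul, hg0]; exact hh.1
      · show (h * g) • s 1 = t 1
        rw [mul_smul, hg1]; exact hh.2
      · show (h * g) • s 2 = t 2
        rw [mul_smul]; exact hh2
    · rw [Subgroup.eq_bot_iff_forall]
      intro g hg
      have hg' : ∀ i, g • t i = t i := fun i => congrArg (fun e : Fin 3 ↪ Ω => e i) hg
      exact hz.free g (t 0) (t 1) (t 2) (t.injective.ne (by decide)) (t.injective.ne (by decide))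
        (t.injective.ne (by decide)) (hg' 0) (hg' 1) (hg' 2)
  right
  obtain ⟨r, hr⟩ := CfsgLib.Zassenhaus.card_D2_dvd hz hyx.symm
  rw [← hk] at hr
  have hk0 : 0 < k := Nat.card_pos
  have hk1 : 1 < k := by
    haveI := (CfsgLib.Zassenhaus.D2 G x y).nontrivial_iff_ne_bot.mpr hne
    exact Finite.one_lt_card
  have hr2 : 2 ≤ r := by
    rcases r with _ | _ | r
    · exfalso
      rw [mul_zero] at hr
      obtain ⟨g, hg, hg1⟩ := (CfsgLib.Zassenhaus.D2 G x y).bot_or_exists_ne_one.resolve_left hne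
      exact hg1 (CfsgLib.Zassenhaus.eq_one_of_fixes_all hz fun z => by
        haveI := Fintype.ofFinite Ω
        by_cases hzx : z = x
        · rw [hzx]; exact hg.1
        by_cases hzy : z = y
        · rw [hzy]; exact hg.2
        have h3 := Finset.card_le_univ ({x, y, z} : Finset Ω)
        rw [Finset.card_eq_three.mpr ⟨x, y, z, hyx.symm, Ne.symm hzx, Ne.symm hzy, rfl⟩,
          ← Nat.card_eq_fintype_card] at h3
        omega)
    · omega
    · omega
  rcases Nat.even_or_odd k with heven | hodd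
  · have hb := (CfsgLib.Zassenhaus.even_bound hz hyx.symm heven).1
    rw [← hk] at hb
    have hx := CfsgLib.Zassenhaus.Ext.of_le hz hyx.symm heven (by
      rw [← hk, hr, mul_comm 2]; exact Nat.mul_le_mul_left k hr2)
    obtain ⟨K, instK, instF, hK2, -, hiso⟩ := CfsgLib.Zassenhaus.iso_PSL hx hyx.symm
    exact ⟨K, instK, instF, hK2, hiso⟩
  · obtain ⟨hle, hnc⟩ := CfsgLib.Zassenhaus.feit_abelian hz hZ.2.2.2.2 hyx.symm hne hodd hU hcU
    rw [hU.card_eq hz hyx, ← hk] at hle hnc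
    have h2k : 2 * k ≤ Nat.card Ω - 1 - 1 := by
      rw [show Nat.card Ω - 1 - 1 = Nat.card Ω - 2 by omega, hr, mul_comm 2]
      exact Nat.mul_le_mul_left k hr2
    obtain ⟨hcyc, hinv⟩ := CfsgLib.Zassenhaus.odd_stab' hz hyx.symm hne hodd (hnc h2k)
    obtain ⟨t, ta, tb⟩ := CfsgLib.Zassenhaus.exists_swapping hz hyx.symm
    set v := t ^ k with hv
    obtain ⟨i, hi⟩ := hodd
    have ht2 : t * t ∈ CfsgLib.Zassenhaus.D2 G x y := CfsgLib.Zassenhaus.mem_D2.mpr
      ⟨by rw [mul_smul, ta, tb], by rw [mul_smul, tb, ta]⟩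
    have hmem := Subgroup.pow_mem _ ht2 i
    have hv' : v = t * (t * t) ^ i := by rw [hv, hi, pow_succ', pow_mul, pow_two]
    have hva : v • x = y := by rw [hv', mul_smul, show (t * t) ^ i • x = x from hmem.1, ta]
    have hvb : v • y = x := by rw [hv', mul_smul, show (t * t) ^ i • y = y from hmem.2, tb]
    have hvv : v * v = 1 := by
      rw [hv, ← pow_two, ← pow_mul, mul_comm, pow_mul, pow_two, hk]
      exact congrArg Subtype.val (pow_card_eq_one' (x := (⟨t * t, ht2⟩ : CfsgLib.Zassenhaus.D2 G x y)))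
    exact CfsgLib.Zassenhaus.AbExt.iso_PSL_odd
      (⟨hz, hyx.symm, hU, hcU, fun g h => (IsCyclic.commGroup (α := CfsgLib.Zassenhaus.D2 G x y)).mul_comm g h,
        by rw [← hk]; omega⟩ : CfsgLib.Zassenhaus.AbExt G Ω x y F)
      ⟨i, hi⟩ hva hvb hvv (hinv v hva hvb)

end Cfsg.Agent.S0731
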