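import Cfsg.Statements.S5083
import Cfsg.Agent.Lib.Fusion.Alperin

set_option autoImplicit false
open Cfsg

namespace Cfsg.Agent.S5083

/-- If F is a saturated fusion system over a finite p-group S in which Aut_F(P) is a p-group for every P ≤ S, then F is the inner fusion system of S (all its maps are conjugations by elements of S). -/
theorem result {Ω : Type*} [Group Ω] {S : Subgroup Ω} [Finite S] (p : ℕ) [Fact p.Prime] (hS : IsPGroup p S) (F : Cfsg.FusionSystem S) (hF : F.IsSaturated p) (h : ∀ P : Subgroup Ω, P ≤ S → IsPGroup p (F.autGroup P)) : F = Cfsg.innerFusionSystem S := by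
  have hle : F ≤ Cfsg.innerFusionSystem S := by
    refine CfsgLib.Fusion.le_of_autGroup_le' hS hF fun P hP => ?_
    rcases hP with rfl | hess
    · intro α hα
      have := CfsgLib.Fusion.finite_mulAut P
      have htop : F.IsFullyAutomized p P :=
        ((CfsgLib.Fusion.isSaturated_iff_top_automized_receptive hS).1 hF).1
      obtain ⟨-, R, hR⟩ := htop
      have hRtop : (R : Subgroup (F.autGroup P)) = ⊤ :=
        (R.is_maximal' ((h P le_rfl).of_equiv Subgroup.topEquiv.symm) le_top).symm
      have hm : (⟨α, hα⟩ : F.autGroup P) ∈ (Cfsg.autInducedBy P P).subgroupOf (F.autGroup P) :=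
        hR ▸ hRtop ▸ Subgroup.mem_top _
      obtain ⟨g, hg, hv⟩ := (CfsgLib.Fusion.mem_autInducedBy_iff P P α).1 hm
      exact CfsgLib.Fusion.mem_autGroup_of_isMap (CfsgLib.Fusion.isMap_conj le_rfl hg) α hv
    · obtain ⟨-, hfn, hn, E, hE⟩ := hess
      have := CfsgLib.Fusion.finite_of_le hfn.1
      have := CfsgLib.Fusion.finite_mulAut P
      have htop : (⊤ : Subgroup (F.autGroup P ⧸ (Cfsg.Inn P).subgroupOf (F.autGroup P))) = ⊥ :=
        CfsgLib.Fusion.eq_bot_of_isStronglyPEmbedded hE
          ((((h P hfn.1).of_surjective (QuotientGroup.mk' _)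
            (QuotientGroup.mk'_surjective _))).of_equiv Subgroup.topEquiv.symm)
      have : Subsingleton (Subgroup (F.autGroup P ⧸ (Cfsg.Inn P).subgroupOf (F.autGroup P))) :=
        subsingleton_of_bot_eq_top htop.symm
      exact absurd (Subsingleton.elim E ⊤) hE.2.1
  have heq : F.Hom = (Cfsg.innerFusionSystem S).Hom := by
    funext P
    refine Set.Subset.antisymm (hle P) ?_
    rintro φ ⟨hP, g, hg, hv⟩
    exact CfsgLib.Fusion.mem_hom_of_isMap (CfsgLib.Fusion.isMap_conj hP hg) hv
  obtain ⟨H, _, _, _, _, _⟩ := F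
  subst heq
  rfl

end Cfsg.Agent.S5083
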