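import Cfsg.Statements.S4437
import Cfsg.Agent.Lib.Blocks.MaxCriterion
import Cfsg.Agent.Lib.Blocks.DefectZeroCount

set_option autoImplicit false
open Cfsg CfsgLib.Blocks
open scoped CfsgLib.Char

namespace Cfsg.Agent.S4437

variable {p : ℕ} {M : Ideal AlgInt} {G : Type*} [Group G] [Fintype G]

theorem isBrauerPairOf_of_induced [M.IsPrime] (hM : IsPModular p M) {P H : Subgroup G} [Fintype H]
    (hP : IsPGroup p P) (hPH : P ≤ H) (hCH : Subgroup.centralizer (P : Set G) ≤ H)
    (hHN : H ≤ Subgroup.normalizer (P : Set G))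
    {e : Set (IrrCharacter (Subgroup.centralizer (P : Set G)))} (he : IsPBlock M e)
    {b : Set (IrrCharacter H)} (hb : IsPBlock M b)
    (hbc : ∀ t : H, blockCoeff b t =
      subgroupBlockCoeff (Subgroup.centralizer (P : Set G)) e (t : G))
    {B : Set (IrrCharacter G)} (hind : IsInducedBlock M H b B) : IsBrauerPairOf p M B P e := by
  classical
  obtain ⟨B₂, hB₂, -⟩ := existsUnique_isBrauerPairOf hM (P := P) (e := e) ⟨hP, he⟩
  suffices h : IsInducedBlock M H b B₂ by rwa [IsInducedBlock.unique hind h]
  haveI : ((Subgroup.centralizer (P : Set G)).subgroupOf H).Normal := ⟨fun a ha y => by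
    simpa [Subgroup.mem_subgroupOf] using
      (conj_mem_iff_of_mem_normalizer (mem_normalizer_centralizer (hHN y.2)) a).mpr ha⟩
  let φ := (Subgroup.subgroupOfEquivOfLe hCH).symm
  haveI := Fintype.ofFinite ((Subgroup.centralizer (P : Set G)).subgroupOf H)
  haveI := Fintype.ofFinite (Subgroup.centralizer (P : Set G))
  have he' : IsPBlock M (irrEquiv φ '' e) := isPBlock_image_irrEquiv φ he
  have hc : ∀ t : H, blockCoeff b t =
      subgroupBlockCoeff ((Subgroup.centralizer (P : Set G)).subgroupOf H) (irrEquiv φ '' e) t := by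
    intro t
    rw [hbc, subgroupBlockCoeff_eq, subgroupBlockCoeff_eq]
    by_cases ht : (t : G) ∈ Subgroup.centralizer (P : Set G)
    · have h1 := extendByZero_apply (Subgroup.centralizer (P : Set G)) (blockCoeff e) ⟨t, ht⟩
      have h2 := extendByZero_apply ((Subgroup.centralizer (P : Set G)).subgroupOf H)
        (blockCoeff (irrEquiv φ '' e)) (φ ⟨t, ht⟩)
      rw [blockCoeff_image_irrEquiv] at h2
      exact h1.trans h2.symm
    · rw [extendByZero_eq_zero _ _ ht,
        extendByZero_eq_zero _ _ fun h => ht (Subgroup.mem_subgroupOf.mp h)]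
  obtain ⟨ξ, hξ⟩ := IsPBlock.nonempty he
  refine (isInducedBlock_iff_brauer hM hP hPH hHN hb hB₂.2.1).mpr fun η hη χ hχ g => ?_
  have hcl : IsClassFunction H (brauerFun P H (classInd g)) := fun a y => by
    by_cases ha : (a : G) ∈ Subgroup.centralizer (P : Set G)
    · rw [brauerFun_of_mem ha, brauerFun_of_mem]
      · simp only [Subgroup.coe_mul, Subgroup.coe_inv]
        exact isClassFunction_classInd g (a : G) (y : G)
      · simp only [Subgroup.coe_mul, Subgroup.coe_inv]
        exact (conj_mem_centralizer_iff (hHN y.2)).mpr ha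
    · rw [brauerFun_of_notMem ha, brauerFun_of_notMem]
      simp only [Subgroup.coe_mul, Subgroup.coe_inv]
      exact fun h => ha ((conj_mem_centralizer_iff (hHN y.2)).mp h)
  have hloc : ∀ t : H, MemLocalRing M (brauerFun P H (classInd g) t) := fun t => by
    by_cases ht : (t : G) ∈ Subgroup.centralizer (P : Set G)
    · rw [brauerFun_of_mem ht]; exact memLocalRing_classInd g _
    · rw [brauerFun_of_notMem ht]; exact memLocalRing_zero
  rw [← omega_brauerFun_classInd, ← omega_classInd,
    ← res_eq_iff (memLocalRing_omega η hcl hloc)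
      (memLocalRing_omega χ (isClassFunction_classInd g) (memLocalRing_classInd g))]
  rw [res_omega_eq_res_brauerOmega hM hB₂ hξ hχ (isClassFunction_classInd g)
      (memLocalRing_classInd g),
    res_omega_restrict he' hb hc hη (Set.mem_image_of_mem _ hξ) hcl hloc fun t ht =>
      brauerFun_of_notMem fun h => ht (Subgroup.mem_subgroupOf.mpr h)]
  congr 1
  rw [brauerOmega_eq]
  simp only [omega]
  congr 1
  refine (Fintype.sum_equiv φ.toEquiv _ _ fun c => ?_).symm
  simp only [MulEquiv.toEquiv_eq_coe, MulEquiv.coe_toEquiv, irrEquiv_apply]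
  have hcC : ((φ c : H) : G) = (c : G) := rfl
  rw [brauerFun_of_mem (by rw [hcC]; exact c.2), hcC]



/-- Let P be a p-subgroup of the finite group G, H = P·C_G(P), and b a block of H (relative to a maximal ideal M of the algebraic integers containing p) having P as a defect group; let B be the block of G induced by b. Let T be the stabilizer of b in N_G(P): the elements g of N_G(P) such that the g-conjugate of every member of b is again a member of b. Then B has defect group P if and only if p does not divide the index of H in T. -/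
theorem result {G : Type*} [Group G] [Fintype G] (p : ℕ) [Fact p.Prime] (M : Ideal Cfsg.AlgInt) (hM : Cfsg.IsPModular p M) (P : Subgroup G) (hP : IsPGroup p P) (H : Subgroup G) [Fintype H] (hH : H = P ⊔ Subgroup.centralizer (P : Set G)) (b : Set (Cfsg.IrrCharacter H)) (hb : Cfsg.IsPBlock M b) (hbP : Cfsg.IsDefectGroup p M b (P.subgroupOf H)) (B : Set (Cfsg.IrrCharacter G)) (hind : Cfsg.IsInducedBlock M H b B) (T : Subgroup G) (hT : ∀ g : G, g ∈ T ↔ (g ∈ Subgroup.normalizer (P : Set G) ∧ ∀ θ ∈ b, ∀ θ' : Cfsg.IrrCharacter H, (∀ h h' : H, (h' : G) = g * h * g⁻¹ → (θ' : H → ℂ) h' = (θ : H → ℂ) h) → θ' ∈ b)) : Cfsg.IsDefectGroup p M B P ↔ ¬ p ∣ H.relIndex T := by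
  classical
  have := isPrime_of_isPModular hM
  have hPH : P ≤ H := hH ▸ le_sup_left
  have hCH : Subgroup.centralizer (P : Set G) ≤ H := hH ▸ le_sup_right
  have hHN : H ≤ Subgroup.normalizer (P : Set G) :=
    hH ▸ sup_le Subgroup.le_normalizer (Subgroup.centralizer_le_normalizer _)
  have hstab : ∀ (e : Set (IrrCharacter (Subgroup.centralizer (P : Set G)))),
      ∀ y ∈ H, StabilizesBlock (Subgroup.centralizer (P : Set G)) e y := fun e y hy => by
    have h2 : H ≤ blockStab (Subgroup.centralizer (P : Set G)) e := hH ▸ sup_le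
      (fun q hq => mem_blockStab.mpr (stabilizes_self_of_mem hq e))
      ((centralizer_le_blockT (Q := P) (f := e)).trans inf_le_right)
    exact mem_blockStab.mp (h2 hy)
  haveI := Fintype.ofFinite (Subgroup.centralizer (P : Set G))
  -- the block of the centralizer
  obtain ⟨e, he, hbc⟩ : ∃ e : Set (IrrCharacter (Subgroup.centralizer (P : Set G))),
      IsPBlock M e ∧ ∀ t : H, blockCoeff b t =
        subgroupBlockCoeff (Subgroup.centralizer (P : Set G)) e (t : G) := by
    obtain ⟨χ, hχ⟩ := IsPBlock.nonempty hb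
    by_contra hcon
    push Not at hcon
    have hall : ∀ e ∈ blocks M (Subgroup.centralizer (P : Set G)),
        omega (χ : H → ℂ)
          (fun t : H => subgroupBlockCoeff (Subgroup.centralizer (P : Set G)) e (t : G)) = 0 := by
      intro e he
      obtain ⟨F, hF, hFc⟩ := exists_block_of_stabilizer hM hP (mem_blocks.mp he) hCH hPH hHN
        (hstab e)
      rw [← show blockCoeff F = _ from funext hFc, omega_blockCoeff, indVec_of_notMem]
      intro hmem
      obtain rfl := IsPBlock.eq_of_mem_of_mem hF hb hmem hχ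
      obtain ⟨t, ht⟩ := hcon e (mem_blocks.mp he)
      exact ht (hFc t)
    have hsum : (fun t : H => ∑ e ∈ blocks M (Subgroup.centralizer (P : Set G)),
        subgroupBlockCoeff (Subgroup.centralizer (P : Set G)) e (t : G)) = deltaOne := by
      funext t
      by_cases ht : (t : G) ∈ Subgroup.centralizer (P : Set G)
      · have : ∀ e : Set (IrrCharacter (Subgroup.centralizer (P : Set G))),
            subgroupBlockCoeff (Subgroup.centralizer (P : Set G)) e (t : G) =
              blockCoeff e ⟨t, ht⟩ := fun e => by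
          rw [subgroupBlockCoeff, dif_pos ht]
        simp only [this, sum_blockCoeff_blocks, deltaOne_apply, Subtype.ext_iff,
          OneMemClass.coe_one]
      · have h1 : t ≠ 1 := fun h => ht (h ▸ one_mem _)
        simp only [deltaOne_apply, if_neg h1]
        refine Finset.sum_eq_zero fun e _ => ?_
        rw [subgroupBlockCoeff, dif_neg ht]
    have h1 := omega_deltaOne χ
    rw [← hsum, show (fun t : H => ∑ e ∈ blocks M (Subgroup.centralizer (P : Set G)),
        subgroupBlockCoeff (Subgroup.centralizer (P : Set G)) e (t : G)) =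
      ∑ e ∈ blocks M (Subgroup.centralizer (P : Set G)),
        fun t : H => subgroupBlockCoeff (Subgroup.centralizer (P : Set G)) e (t : G) from
      funext fun t => by rw [Finset.sum_apply], omega_sum, Finset.sum_eq_zero hall] at h1
    exact zero_ne_one h1
  have hPe : IsBrauerPair p M P e := ⟨hP, he⟩
  have hpair := isBrauerPairOf_of_induced hM hP hPH hCH hHN he hb hbc hind
  -- the stabilizer
  have hT' : T = blockT P e := by
    ext g
    rw [hT, mem_blockT]
    refine and_congr_right fun hg => ?_
    have hC := conj_mem_iff_of_mem_normalizer (mem_normalizer_centralizer hg)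
    have hgH : g ∈ Subgroup.normalizer (H : Set G) := by
      refine Subgroup.mem_normalizer_iff_map_conj_eq.mpr ?_
      rw [hH, Subgroup.map_sup, Subgroup.mem_normalizer_iff_map_conj_eq.mp hg,
        Subgroup.mem_normalizer_iff_map_conj_eq.mp (mem_normalizer_centralizer hg)]
    have hHc := conj_mem_iff_of_mem_normalizer hgH
    have e1 : (∀ θ ∈ b, ∀ θ' : IrrCharacter H, (∀ h h' : H, (h' : G) = g * h * g⁻¹ →
        (θ' : H → ℂ) h' = (θ : H → ℂ) h) → θ' ∈ b) ↔ conjSet g H H b = b := by
      constructor
      · intro h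
        have hsub : conjSet g H H b ⊆ b := fun θ' ⟨θ, hθ, hv⟩ => h θ hθ θ' hv
        refine Set.eq_of_subset_of_ncard_le hsub ?_ (Set.toFinite _)
        rw [conjSet_eq_image hHc, Set.ncard_image_of_injective _ (conjIrr_injective hHc)]
      · intro h θ hθ θ' hv
        rw [← h]
        exact ⟨θ, hθ, hv⟩
    rw [e1, stabilizesBlock_iff, and_iff_right (mem_normalizer_centralizer hg)]
    constructor
    · intro h
      refine eq_of_blockCoeff_eq fun c' => ?_
      have h3 : (c' : G) = g * (g⁻¹ * (c' : G) * g) * g⁻¹ := by group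
      have hm : g⁻¹ * (c' : G) * g ∈ Subgroup.centralizer (P : Set G) :=
        (hC _).mp (by rw [← h3]; exact c'.2)
      rw [blockCoeff_conjSet hC e (c := ⟨_, hm⟩) (c' := c') h3]
      have h4 := congrFun (congrArg blockCoeff h) (⟨(c' : G), hCH c'.2⟩ : H)
      rw [blockCoeff_conjSet hHc b (c := ⟨_, hCH hm⟩) h3, hbc, hbc] at h4
      simp only [subgroupBlockCoeff, dif_pos hm, dif_pos c'.2] at h4
      exact h4
    · intro h
      refine eq_of_blockCoeff_eq fun t => ?_
      have h3 : (t : G) = g * (g⁻¹ * (t : G) * g) * g⁻¹ := by group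
      have hm : g⁻¹ * (t : G) * g ∈ H := (hHc _).mp (by rw [← h3]; exact t.2)
      rw [blockCoeff_conjSet hHc b (c := ⟨_, hm⟩) h3, hbc, hbc]
      conv_rhs => rw [h3, ← h]
      exact (subgroupBlockCoeff_conjSet hC e _).symm
  subst hT'
  haveI := Fintype.ofFinite (blockT P e)
  obtain ⟨F, hF, hFc⟩ := exists_blockT_block hM hPe
  have hmaxiff : IsDefectGroup p M B P ↔ ∃ B', IsMaximalBrauerPair p M B' P e := by
    constructor
    · intro hd
      refine ⟨B, hpair, fun R g hRg hle => ?_⟩
      obtain ⟨⟨S, k⟩, hS, hle'⟩ := exists_maximal_pair_above hM hRg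
      obtain ⟨x, hx⟩ := IsDefectGroup.exists_conj_eq hM hind.2.1 hd
        (isDefectGroup_of_maximal hM hS)
      have h1 : Nat.card S = Nat.card P := by rw [show S = _ from hx, card_map_conj]
      exact (Subgroup.eq_of_le_of_card_ge (SubpairLE.le hle)
        ((Subgroup.card_le_of_le (SubpairLE.le hle')).trans h1.le)).symm
    · rintro ⟨B', hB'⟩
      have : B' = B := (existsUnique_isBrauerPairOf hM hPe).unique hB'.1 hpair
      exact this ▸ isDefectGroup_of_maximal hM hB'
  rw [hmaxiff, exists_maximal_iff hM hPe (fun g => mem_blockT) hF hFc,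
    isDefectGroup_stab_iff hM hP he le_blockT centralizer_le_blockT blockT_le_normalizer hF hFc]
  obtain ⟨hd, -⟩ := (isDefectGroup_stab_iff hM hP he hPH hCH hHN hb hbc).mp hbP
  have hle : P ⊔ Subgroup.centralizer (P : Set G) ≤ blockT P e :=
    sup_le le_blockT centralizer_le_blockT
  haveI : ((P ⊔ Subgroup.centralizer (P : Set G)).subgroupOf (blockT P e)).Normal := by
    refine Subgroup.normal_subgroupOf_of_le_normalizer fun x hx => ?_
    have hxN := blockT_le_normalizer hx
    refine Subgroup.mem_normalizer_iff_map_conj_eq.mpr ?_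
    rw [Subgroup.map_sup, Subgroup.mem_normalizer_iff_map_conj_eq.mp hxN,
      Subgroup.mem_normalizer_iff_map_conj_eq.mp (mem_normalizer_centralizer hxN)]
  rw [and_iff_right hd, hH]
  exact (not_dvd_relIndex_iff hle).symm


end Cfsg.Agent.S4437
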