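import Cfsg.Statements.S4652
import Cfsg.Agent.Lib.Blocks.Defect

set_option autoImplicit false
open Cfsg
open scoped CfsgLib.Char

set_option autoImplicit false
open Cfsg

namespace Cfsg.Agent.S4652

/-- Fix a prime p and a maximal ideal M of the algebraic integers containing p. The defect groups of the principal p-block of a finite group G are exactly the Sylow p-subgroups of G: a subgroup D is a defect group of the principal block if and only if D is a Sylow p-subgroup. -/
theorem result {G : Type*} [Group G] [Fintype G] (p : ℕ) [Fact p.Prime] (M : Ideal Cfsg.AlgInt) (hM : Cfsg.IsPModular p M) (D : Subgroup G) : Cfsg.IsDefectGroup p M (Cfsg.principalBlock M G) D ↔ ∃ S : Sylow p G, (S : Subgroup G) = D := by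
  classical
  have := CfsgLib.Blocks.isPrime_of_isPModular hM
  have hB := CfsgLib.Blocks.isPBlock_principalBlock (M := M) (G := G)
  have hone : CfsgLib.Blocks.trivIrr G ∈ principalBlock M G := by
    rw [CfsgLib.Blocks.principalBlock_eq]; exact CfsgLib.Blocks.mem_blockOf_self _
  have ha : blockDefect p (principalBlock M G) = (Nat.card G).factorization p := by
    obtain ⟨hle, -, hall, -⟩ := CfsgLib.Blocks.blockDefect_le_and_degree hM hB
    have h := hall (CfsgLib.Blocks.trivIrr G) hone
    have h1 : charDegree (CfsgLib.Blocks.trivIrr G : G → ℂ) = 1 := by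
      rw [charDegree, show (CfsgLib.Blocks.trivIrr G : G → ℂ) 1 = 1 from rfl]; simp
    rw [h1, Nat.factorization_one, Finsupp.zero_apply] at h
    omega
  have hsyl : ∀ D', IsDefectGroup p M (principalBlock M G) D' → ∃ S : Sylow p G, (S : Subgroup G) = D' :=
    fun D' hD' => ⟨Sylow.ofCard D'
      ((CfsgLib.Blocks.IsDefectGroup.card_eq hM hB hD').trans (by rw [ha])), rfl⟩
  refine ⟨hsyl D, fun ⟨S, hS⟩ => ?_⟩
  obtain ⟨D', hD'⟩ := CfsgLib.Blocks.exists_isDefectGroup hM hB
  obtain ⟨T, hT⟩ := hsyl D' hD'
  obtain ⟨g, hg⟩ := MulAction.exists_smul_eq G T S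
  have h := CfsgLib.Blocks.IsDefectGroup.conj hM hD' g
  rw [← hT] at h
  rw [← hS, ← hg, Sylow.coe_subgroup_smul]
  exact h

end Cfsg.Agent.S4652
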