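import Cfsg.Statements.S4733
import Cfsg.Agent.Lib.Blocks.Rank

set_option autoImplicit false
open Cfsg

namespace Cfsg.Agent.S4733

/-- Let p be a prime, M a maximal ideal of the algebraic integers containing p, and B a p-block of the finite group G with k irreducible characters and p-regular rank l (the number of irreducible Brauer characters). Then l ≤ k, and the following are equivalent: B has defect 0; k = l = 1; k = l. -/
theorem result {G : Type*} [Group G] [Finite G] (p : ℕ) [Fact p.Prime] (M : Ideal Cfsg.AlgInt) (hM : Cfsg.IsPModular p M) (B : Set (Cfsg.IrrCharacter G)) (hB : Cfsg.IsPBlock M B) : Cfsg.blockRank p B ≤ Nat.card B ∧ (Cfsg.blockDefect p B = 0 ↔ (Nat.card B = 1 ∧ Cfsg.blockRank p B = 1)) ∧ (Cfsg.blockDefect p B = 0 ↔ Nat.card B = Cfsg.blockRank p B) := by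
  classical
  have := Fintype.ofFinite G
  have := CfsgLib.Blocks.isPrime_of_isPModular hM
  have hle := CfsgLib.Blocks.blockRank_le_card (p := p) B
  have hpos := CfsgLib.Blocks.blockRank_pos (p := p) (CfsgLib.Blocks.IsPBlock.nonempty hB) hM.1.ne_one
  have hU := CfsgLib.Blocks.IsPBlock.isBlockUnion hB
  obtain ⟨D, hD⟩ := CfsgLib.Blocks.exists_isDefectGroup hM hB
  have hback : Nat.card B = Cfsg.blockRank p B → Cfsg.blockDefect p B = 0 := by
    intro h
    by_contra hd
    have hcard := CfsgLib.Blocks.IsDefectGroup.card_eq hM hB hD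
    obtain ⟨u, hu⟩ := exists_prime_orderOf_dvd_card' p (G := D) (by
      rw [hcard]; exact dvd_pow_self p hd)
    obtain ⟨c, hc, hsyl⟩ := CfsgLib.Blocks.isDefectGroup_iff.mp hD
    obtain ⟨χ, hχ, h0⟩ := CfsgLib.Blocks.exists_blockHeight_eq_zero hM hB
    have hu' : orderOf (u : G) = p := by rw [Subgroup.orderOf_coe, hu]
    refine CfsgLib.Blocks.not_memLocalIdeal_value_of_height_zero hM hB hχ h0 hc ?_
    rw [← CfsgLib.Blocks.memLocalIdeal_value_mul_pElement_iff hM χ.2
      (show Commute (u : G) c from Subgroup.mem_centralizer_singleton_iff.mp (hsyl.1 u.2))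
      ⟨1, by rw [hu', pow_one]⟩,
      CfsgLib.Blocks.singular_zero_of_blockRank_eq_card hM hU h.symm hχ ?_]
    · exact CfsgLib.Blocks.memLocalIdeal_zero
    · intro hreg
      have hcomm : Commute (u : G) c := Subgroup.mem_centralizer_singleton_iff.mp (hsyl.1 u.2)
      have hcu : Nat.Coprime (orderOf (u : G)) (orderOf c) := by
        rw [hu']
        exact (hM.1.coprime_iff_not_dvd).mpr (CfsgLib.Blocks.IsDefectClass.isPRegular hM hB hc)
      refine hreg ?_
      rw [hcomm.orderOf_mul_eq_mul_orderOf_of_coprime hcu, hu']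
      exact dvd_mul_right _ _
  have hfwd : Cfsg.blockDefect p B = 0 → Nat.card B = 1 ∧ Cfsg.blockRank p B = 1 := by
    intro hd
    have hbot : D = ⊥ := by
      rw [← Subgroup.card_eq_one, CfsgLib.Blocks.IsDefectGroup.card_eq hM hB hD, hd, pow_zero]
    have hzero : ∀ χ ∈ B, ∀ g : G, ¬ Cfsg.IsPRegular p g → (χ : G → ℂ) g = 0 := by
      intro χ hχ g hg
      obtain ⟨x, hx, -⟩ := CfsgLib.Blocks.exists_isPPart hM.1 g
      refine CfsgLib.Blocks.value_eq_zero_of_not_mem_defectGroup hM hx fun D' hD' hxD => ?_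
      rw [← CfsgLib.Blocks.IsPBlock.eq_blockOf hB hχ] at hD'
      obtain ⟨a, rfl⟩ := CfsgLib.Blocks.IsDefectGroup.exists_conj_eq hM hB hD hD'
      rw [hbot, Subgroup.map_bot, Subgroup.mem_bot] at hxD
      obtain ⟨w, hw1, -, -, hw4⟩ := hx
      rw [hxD, one_mul] at hw1
      exact hg (hw1 ▸ hw4)
    obtain ⟨χ, hχ⟩ := CfsgLib.Blocks.IsPBlock.nonempty hB
    have hreg : ∀ ψ ∈ B, CfsgLib.Blocks.regPart p (ψ : G → ℂ) = (ψ : G → ℂ) := fun ψ hψ => funext fun g => by
      by_cases hg : Cfsg.IsPRegular p g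
      · exact CfsgLib.Blocks.regPart_of_regular hg
      · rw [CfsgLib.Blocks.regPart_of_singular hg, hzero ψ hψ g hg]
    have hsub : B = {χ} := by
      have hsing : CfsgLib.Blocks.IsBlockUnion M ({χ} : Set (Cfsg.IrrCharacter G)) := by
        refine CfsgLib.Blocks.isBlockUnion_of_regPart_orthogonal hM fun ψ hψ η hη => ?_
        rw [Set.mem_singleton_iff.mp hψ, hreg χ hχ]
        exact CfsgLib.Char.classInner_irr_ne χ.2 η.2 fun h => hη (Subtype.ext h.symm)
      exact Set.Subset.antisymm (fun ψ hψ => hsing χ rfl ψ (CfsgLib.Blocks.IsPBlock.sameBlock hB hχ hψ))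
        (Set.singleton_subset_iff.mpr hχ)
    have h1 : Nat.card B = 1 := by rw [hsub]; simp
    exact ⟨h1, le_antisymm (h1 ▸ hle) hpos⟩
  exact ⟨hle, ⟨hfwd, fun h => hback (h.1.trans h.2.symm)⟩,
    ⟨fun h => (hfwd h).1.trans (hfwd h).2.symm, hback⟩⟩
end Cfsg.Agent.S4733
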