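import Cfsg.Statements.S4491
import Cfsg.Agent.Lib.Blocks.HeightZero
import Cfsg.Agent.Lib.Blocks.BrauerFeit

set_option autoImplicit false
open Cfsg
open scoped CfsgLib.Char

set_option autoImplicit false
open Cfsg

namespace Cfsg.Agent.S4491

/-- Let B be a p-block of defect d of the finite group G (relative to a maximal ideal M of the algebraic integers containing p), and let p^a be the p-part of the order of G. Then the exact power of p dividing the sum of the squares of the degrees of the irreducible characters in B is p^(2a − d). -/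
theorem result {G : Type*} [Group G] [Finite G] (p : ℕ) [Fact p.Prime] (M : Ideal Cfsg.AlgInt) (hM : Cfsg.IsPModular p M) (B : Set (Cfsg.IrrCharacter G)) (hB : Cfsg.IsPBlock M B) : (∑ᶠ χ ∈ B, Cfsg.charDegree (χ : G → ℂ) ^ 2).factorization p = 2 * (Nat.card G).factorization p - Cfsg.blockDefect p B := by
  classical
  have := Fintype.ofFinite G
  have := CfsgLib.Blocks.isPrime_of_isPModular hM
  obtain ⟨χ, hχ, h0⟩ := CfsgLib.Blocks.exists_blockHeight_eq_zero hM hB
  obtain ⟨hda, -, -, -⟩ := CfsgLib.Blocks.blockDefect_le_and_degree hM hB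
  have hdeg := (CfsgLib.Blocks.blockHeight_eq_zero_iff hM hB hχ).mp h0
  obtain ⟨u, m, hu, -, hsum⟩ := CfsgLib.Blocks.exists_blockCoeff_eq_sum hM hB
  set c0 := CfsgLib.Blocks.omega (χ : G → ℂ) (CfsgLib.Blocks.dualReg p (χ : G → ℂ))
  have hexp : blockCoeff B =
      ∑ η ∈ Finset.univ.filter (· ∈ B), (u * (m η : ℂ)) • CfsgLib.Blocks.dualReg p (η : G → ℂ) := by
    funext y
    simp only [Finset.sum_apply, Pi.smul_apply, smul_eq_mul]
    by_cases hy : IsPRegular p y
    · rw [hsum y hy, CfsgLib.Blocks.sum_mem_eq_filter, Finset.mul_sum]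
      refine Finset.sum_congr rfl fun η _ => ?_
      rw [CfsgLib.Blocks.dualReg, CfsgLib.Blocks.regPart_of_regular hy,
        CfsgLib.Blocks.irr_value_inv η.2, mul_assoc]
    · rw [CfsgLib.Blocks.blockCoeff_eq_zero_of_not_regular hM
        (CfsgLib.Blocks.IsPBlock.isBlockUnion hB) hy]
      refine (Finset.sum_eq_zero fun η _ => ?_).symm
      rw [CfsgLib.Blocks.dualReg, CfsgLib.Blocks.regPart_of_singular hy, mul_zero]
  set s : ℕ := ∑ η : IrrCharacter G with η ∈ B, charDegree (η : G → ℂ) ^ 2 with hs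
  set d0 := charDegree (χ : G → ℂ) with hd0def
  set w : ℂ := blockCoeff B 1 / (χ : G → ℂ) 1 with hw
  have hw1 : w = ∑ η : IrrCharacter G with η ∈ B,
      (u * (m η : ℂ)) * ((η : G → ℂ) 1 / (χ : G → ℂ) 1) := by
    rw [hw, hsum 1 (by simp [IsPRegular, (Fact.out : p.Prime).ne_one]),
      CfsgLib.Blocks.sum_mem_eq_filter, Finset.mul_sum, Finset.sum_div]
    refine Finset.sum_congr rfl fun η _ => ?_
    rw [(CfsgLib.Blocks.irr_degree_eq η).1, Complex.conj_natCast]
    ring
  have hloc : ∀ η ∈ Finset.univ.filter (· ∈ B),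
      MemLocalRing M ((u * (m η : ℂ)) * ((η : G → ℂ) 1 / (χ : G → ℂ) 1)) := fun η hη =>
    CfsgLib.Blocks.memLocalRing_mul
      (CfsgLib.Blocks.memLocalRing_mul hu (CfsgLib.Blocks.memLocalRing_natCast _))
      (CfsgLib.Blocks.memLocalRing_degree_div hM hB hχ h0 (Finset.mem_filter.mp hη).2)
  have hwl : MemLocalRing M w := hw1 ▸ CfsgLib.Blocks.memLocalRing_sum _ _ hloc
  have hcong : MemLocalIdeal M (1 - c0 * w) := by
    have h1 : CfsgLib.Blocks.omega (χ : G → ℂ) (blockCoeff B) = 1 := by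
      rw [CfsgLib.Blocks.omega_blockCoeff, CfsgLib.Blocks.indVec_of_mem hχ]
    rw [← h1, hexp, CfsgLib.Blocks.omega_sum, hw1, Finset.mul_sum, ← Finset.sum_sub_distrib]
    refine CfsgLib.Blocks.memLocalIdeal_sum _ _ fun η hη => ?_
    have hswap : CfsgLib.Blocks.omega (χ : G → ℂ) (CfsgLib.Blocks.dualReg p (η : G → ℂ)) =
        CfsgLib.Blocks.omega (η : G → ℂ) (CfsgLib.Blocks.dualReg p (χ : G → ℂ)) *
          ((η : G → ℂ) 1 / (χ : G → ℂ) 1) := by
      rw [CfsgLib.Blocks.omega_dualReg, CfsgLib.Blocks.omega_dualReg,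
        CfsgLib.Blocks.classInner_regPart_comm]
      have := CfsgLib.Char.irr_degree_ne_zero η.2
      field_simp
    rw [CfsgLib.Blocks.omega_smul, hswap,
      show ∀ a b c : ℂ, a * (b * c) - c0 * (a * c) = (a * c) * (b - c0) from fun _ _ _ => by ring]
    exact CfsgLib.Blocks.memLocalIdeal_mul_left (hloc η hη)
      (CfsgLib.Blocks.sub_mem_localIdeal_of_sameBlock
        (CfsgLib.Blocks.IsPBlock.sameBlock hB (Finset.mem_filter.mp hη).2 hχ)
        (CfsgLib.Blocks.isClassFunction_dualReg (CfsgLib.Blocks.irr_classFunction χ))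
        (CfsgLib.Blocks.memLocalRing_dualReg χ))
  have hc0 : MemLocalRing M c0 := CfsgLib.Blocks.memLocalRing_omega χ
    (CfsgLib.Blocks.isClassFunction_dualReg (CfsgLib.Blocks.irr_classFunction χ))
    (CfsgLib.Blocks.memLocalRing_dualReg χ)
  have hnw : ¬ MemLocalIdeal M w := fun h => CfsgLib.Blocks.not_memLocalIdeal_one (M := M) (by
    simpa using CfsgLib.Blocks.memLocalIdeal_add hcong (CfsgLib.Blocks.memLocalIdeal_mul_left hc0 h))
  have hwval : w = (((s : ℤ)) : ℂ) / ((Nat.card G * d0 : ℕ) : ℂ) := by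
    rw [hw, blockCoeff, CfsgLib.Blocks.sum_mem_eq_filter, (CfsgLib.Blocks.irr_degree_eq χ).1]
    simp only [fun η : IrrCharacter G => (CfsgLib.Blocks.irr_degree_eq η).1, Complex.conj_natCast]
    rw [hs, hd0def]
    push_cast
    simp only [sq]
    field_simp
  have hd0 : d0 ≠ 0 := (CfsgLib.Blocks.irr_degree_eq χ).2.ne'
  rw [hwval] at hwl hnw
  have hfac := (CfsgLib.Blocks.factorization_eq_of_unit_div hM
    (mul_ne_zero Nat.card_pos.ne' hd0) hwl hnw).2
  rw [Int.natAbs_natCast, Nat.factorization_mul Nat.card_pos.ne' hd0, Finsupp.add_apply] at hfac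
  have hfin : (∑ᶠ η ∈ B, charDegree (η : G → ℂ) ^ 2) = s :=
    finsum_mem_eq_sum_of_inter_support_eq _ (by simp)
  rw [hfin, hfac, hdeg]
  omega

end Cfsg.Agent.S4491
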