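import Cfsg.Statements.S0914
import Cfsg.Agent.Lib.Blocks.Defect
import Cfsg.Agent.Lib.Char.Central

set_option autoImplicit false
open Cfsg

namespace Cfsg.Agent.S0914

/-- Let χ be an irreducible character of the finite group G, p a prime and M a maximal ideal of the algebraic integers containing p. Then p does not divide the integer (Nat.card G) / χ(1) if and only if the block of χ relative to M consists of χ alone. -/
theorem result {G : Type*} [Group G] [Finite G] (p : ℕ) [Fact p.Prime] (M : Ideal Cfsg.AlgInt) (hM : Cfsg.IsPModular p M) (χ : Cfsg.IrrCharacter G) : ¬ p ∣ Nat.card G / Cfsg.charDegree (χ : G → ℂ) ↔ Cfsg.blockOf M (χ : G → ℂ) = {χ} := by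
  classical
  have := Fintype.ofFinite G
  have := CfsgLib.Blocks.isPrime_of_isPModular hM
  obtain ⟨d, hd1, hd0, hdd⟩ := CfsgLib.Char.exists_degree_dvd_card χ.2
  have hdeg : Cfsg.charDegree (χ : G → ℂ) = d := by
    rw [Cfsg.charDegree, hd1, Complex.natCast_re, Nat.floor_natCast]
  obtain ⟨q, hq⟩ := hdd
  have hdiv : Nat.card G / Cfsg.charDegree (χ : G → ℂ) = q := by
    rw [hdeg, hq, Nat.mul_div_cancel_left _ hd0]
  rw [hdiv]
  constructor
  · intro hnp
    have hmem : CfsgLib.Blocks.indVec {χ} ∈ CfsgLib.Blocks.ZO M G := fun g => by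
      rw [CfsgLib.Blocks.ofOmega_indVec, Cfsg.blockCoeff, finsum_mem_singleton, hd1, hq,
        Nat.cast_mul]
      have he : ((d : ℂ) * q)⁻¹ * ((d : ℂ) * (starRingEnd ℂ) ((χ : G → ℂ) g))
          = (q : ℂ)⁻¹ * (starRingEnd ℂ) ((χ : G → ℂ) g) := by
        have : (d : ℂ) ≠ 0 := Nat.cast_ne_zero.mpr hd0.ne'
        field_simp
      rw [he]
      exact CfsgLib.Blocks.memLocalRing_mul (CfsgLib.Blocks.memLocalRing_natCast_inv hM hnp)
        (CfsgLib.Blocks.memLocalRing_of_isIntegral (CfsgLib.Blocks.irr_conj_isIntegral χ.2 g))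
    refine Set.eq_singleton_iff_unique_mem.mpr
      ⟨CfsgLib.Blocks.mem_blockOf_self χ, fun ψ hψ => ?_⟩
    by_contra hne
    have h := CfsgLib.Blocks.ZO_congr (CfsgLib.Blocks.mem_blockOf_iff.mp hψ) hmem
    rw [CfsgLib.Blocks.indVec_of_mem (Set.mem_singleton χ),
      CfsgLib.Blocks.indVec_of_notMem (by simpa using hne), sub_zero] at h
    exact CfsgLib.Blocks.not_memLocalIdeal_one h
  · intro hB
    set P : Sylow p G := default
    have hvan : ∀ v : (P : Subgroup G), v ≠ 1 → (χ : G → ℂ) v = 0 := fun v hv => by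
      have hvs : ¬ Cfsg.IsPRegular p (v : G) := by
        rw [Cfsg.IsPRegular, not_not, Subgroup.orderOf_coe]
        obtain ⟨k, hk⟩ := IsPGroup.iff_orderOf.mp P.2 v
        rw [hk]
        exact dvd_pow_self p fun h0 => hv (orderOf_eq_one_iff.mp (by rw [hk, h0, pow_zero]))
      have h1 : Cfsg.IsPRegular p (1 : G) := by
        rw [Cfsg.IsPRegular, orderOf_one]
        exact hM.1.not_dvd_one
      have h := CfsgLib.Blocks.sum_block_mul_conj_eq_zero hM (S := {χ})
        (by rw [Finset.coe_singleton, ← hB]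
            exact CfsgLib.Blocks.IsPBlock.isBlockUnion (CfsgLib.Blocks.isPBlock_blockOf χ)) h1 hvs
      rw [Finset.sum_singleton, mul_eq_zero,
        or_iff_right (CfsgLib.Char.irr_degree_ne_zero χ.2)] at h
      simpa using h
    obtain ⟨m, hm⟩ := CfsgLib.Char.exists_nat_classInner
      (CfsgLib.Char.isCharacter_restrict (P : Subgroup G) (CfsgLib.Char.isCharacter_of_isIrr χ.2))
      CfsgLib.Char.isCharacter_one
    rw [Cfsg.classInner, Finset.sum_eq_single_of_mem (1 : (P : Subgroup G)) (Finset.mem_univ _)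
      (fun v _ hv => by simp [hvan v hv])] at hm
    simp only [OneMemClass.coe_one, map_one, mul_one, hd1] at hm
    rw [inv_mul_eq_iff_eq_mul₀ (Nat.cast_ne_zero.mpr Nat.card_pos.ne')] at hm
    have hm' : d = Nat.card (P : Subgroup G) * m := by exact_mod_cast hm
    intro hpq
    obtain ⟨r, rfl⟩ := hpq
    refine P.not_dvd_index ⟨m * r, ?_⟩
    have := (P : Subgroup G).card_mul_index
    rw [hq, hm'] at this
    exact Nat.eq_of_mul_eq_mul_left Nat.card_pos (this.trans (by ring))
end Cfsg.Agent.S0914
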