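import Cfsg.Statements.S4648
import Cfsg.Agent.Lib.Blocks.RankOneSmall.Degrees
import Cfsg.Agent.Lib.Blocks.EqualDegree.Inertia
import Cfsg.Agent.Lib.Blocks.NilpotentStar
import Cfsg.Agent.Lib.Char.Artin
import Mathlib.GroupTheory.SpecificGroups.Cyclic

set_option linter.style.haveILetI false

set_option autoImplicit false
open Cfsg CfsgLib.Blocks
open scoped CfsgLib.Char

namespace Cfsg.Agent.S4648

/-- Let B be a block of the finite group G relative to a maximal ideal M of the algebraic integers containing the prime p, with a nontrivial defect group D. If B has p-regular rank 1 and at most four irreducible characters, then B is nilpotent, D has exactly as many elements as B has irreducible characters, and p is 2 or 3. -/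
theorem result {G : Type*} [Group G] [Finite G] (p : ℕ) [Fact p.Prime] (M : Ideal Cfsg.AlgInt) (hM : Cfsg.IsPModular p M) (B : Set (Cfsg.IrrCharacter G)) (hB : Cfsg.IsPBlock M B) (D : Subgroup G) (hD : Cfsg.IsDefectGroup p M B D) (hD1 : D ≠ ⊥) (hl : Cfsg.blockRank p B = 1) (hk : Nat.card B ≤ 4) : Cfsg.IsNilpotentBlock p M B ∧ Nat.card D = Nat.card B ∧ (p = 2 ∨ p = 3) := by
  classical
  have := isPrime_of_isPModular hM
  haveI := Fintype.ofFinite G
  obtain ⟨f, hdeg⟩ := RankOneSmall.exists_degree hM hB hD hl hk
  obtain ⟨S⟩ := Decomp.nonempty_simples M G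
  obtain ⟨b, -, -, -, hcard, -⟩ := EqualDegree.single_component hM hB hdeg S
  have hDc := IsDefectGroup.card_eq hM hB hD
  set d := blockDefect p B
  have hd0 : d ≠ 0 := fun h0 => hD1 (Subgroup.card_eq_one.mp (by rw [hDc, h0, pow_zero]))
  have hp := hM.1
  have hp4 : p ≤ 4 := (Nat.le_self_pow hd0 p).trans (hcard ▸ hk)
  have hd2 : d ≤ 2 := by
    by_contra h
    have h8 : 2 ^ 3 ≤ p ^ d := le_trans (Nat.pow_le_pow_left hp.two_le 3)
      (Nat.pow_le_pow_right hp.pos (by omega))
    omega
  have hab : ∀ x ∈ D, ∀ y ∈ D, x * y = y * x := fun x hx y hy => by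
    haveI : IsMulCommutative D := by
      rcases (show d = 1 ∨ d = 2 by omega) with h | h
      · haveI : IsCyclic D := isCyclic_of_prime_card (p := p) (by rw [hDc, h, pow_one])
        infer_instance
      · exact IsPGroup.isMulCommutative_of_card_eq_prime_sq (p := p) (by rw [hDc, h])
    exact congrArg Subtype.val (mul_comm' (⟨x, hx⟩ : D) ⟨y, hy⟩)
  obtain ⟨c, hc⟩ := exists_pair_of_defectGroup hM hB hD
  have hmax := isMaximalBrauerPair_of_defectGroup hM hD hc
  refine ⟨EqualDegree.isNilpotentBlock hM hmax hab hdeg, hDc.trans hcard.symm, ?_⟩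
  interval_cases p <;> first | exact Or.inl rfl | exact Or.inr rfl | exact absurd hp (by norm_num)

end Cfsg.Agent.S4648
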