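import Cfsg.Statements.S4503
import Cfsg.Agent.Lib.SmallDegree.Reduction

set_option autoImplicit false
open Cfsg

namespace Cfsg.Agent.S4503

/-- Let G be a finite group whose order is divisible by the prime p exactly once and which has no normal subgroup of order p. Then every faithful character χ of G has degree at least (p − 1)/2: 2·χ(1) + 1 ≥ p. -/
theorem result {G : Type*} [Group G] [Finite G] (p : ℕ) (hp : p.Prime) (hdiv : p ∣ Nat.card G) (hsq : ¬ p ^ 2 ∣ Nat.card G) (hnn : ∀ H : Subgroup G, H.Normal → Nat.card H ≠ p) (χ : G → ℂ) (hχ : Cfsg.IsCharacter G χ) (hfaith : ∀ g : G, χ g = χ 1 → g = 1) : p ≤ 2 * Cfsg.charDegree χ + 1 := by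
  classical
  haveI := Fact.mk hp
  obtain ⟨n, ρ, hn, hinj⟩ := CfsgLib.SmallDegree.exists_faithful_rep hχ hfaith
  rw [hn]
  by_contra hlt
  obtain ⟨x, hx⟩ := exists_prime_orderOf_dvd_card' p hdiv
  have hn0 : n ≠ 0 := by
    rintro rfl
    have h1 : x = 1 := hinj x (LinearMap.ext fun v => Subsingleton.elim _ _)
    rw [h1, orderOf_one] at hx
    exact hp.one_lt.ne hx
  have h4 : p ≠ 4 := fun h => by rw [h] at hp; norm_num at hp
  have hp5 : 5 ≤ p := by omega
  have hfin : Module.finrank ℂ (Fin n → ℂ) = n := by simp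
  obtain ⟨k, _, _, φ, h1, h2, h3, h4'⟩ := CfsgLib.SmallDegree.exists_orthogonal_of_complex ρ hinj hx
    hsq hnn hp5 (by rw [hfin]; omega)
  obtain ⟨b, μ, ζ, f, -, -, hf, -⟩ := CfsgLib.SmallDegree.exists_square_eigen ρ hinj hx fun r hr =>
    CfsgLib.SmallDegree.exists_square hp5 φ h1 h2 hx h3 hsq h4' hr
  have hle := Fintype.card_le_of_injective f hf
  rw [Fintype.card_fin, Fintype.card_fin, hfin] at hle
  have hodd : p % 2 = 1 := Nat.odd_iff.mp (hp.odd_of_ne_two (by omega))
  omega

end Cfsg.Agent.S4503
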