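import Cfsg.Statements.S4504
import Cfsg.Agent.Lib.SmallDegree.HalfDegree

set_option autoImplicit false
open Cfsg

namespace Cfsg.Agent.S4504

/-- Let G be a finite group whose order is divisible by the prime p exactly once and which has no normal subgroup of order p. If G has a faithful character of degree exactly (p − 1)/2, then G modulo its centre is isomorphic to PSL(2, p). -/
theorem result {G : Type*} [Group G] [Finite G] (p : ℕ) (hp : p.Prime) (hdiv : p ∣ Nat.card G) (hsq : ¬ p ^ 2 ∣ Nat.card G) (hnn : ∀ H : Subgroup G, H.Normal → Nat.card H ≠ p) (χ : G → ℂ) (hχ : Cfsg.IsCharacter G χ) (hfaith : ∀ g : G, χ g = χ 1 → g = 1) (hdeg : 2 * Cfsg.charDegree χ + 1 = p) : Nonempty ((G ⧸ Subgroup.center G) ≃* Matrix.ProjectiveSpecialLinearGroup (Fin 2) (ZMod p)) := by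
  classical
  haveI := Fact.mk hp
  obtain ⟨n, ρ, hn, hinj⟩ := CfsgLib.SmallDegree.exists_faithful_rep hχ hfaith
  rw [hn] at hdeg
  obtain ⟨x, hx⟩ := exists_prime_orderOf_dvd_card' p hdiv
  have hfin : Module.finrank ℂ (Fin n → ℂ) = n := by simp
  by_cases hn1 : n ≤ 1
  · exfalso
    have hcomm : ∀ g h : G, g * h = h * g := by
      intro g h
      haveI : Subsingleton (Fin n) := by
        interval_cases n <;> infer_instance
      have he : ρ (g * h) = ρ (h * g) := by
        rw [map_mul, map_mul]
        refine LinearMap.toMatrix'.injective ?_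
        ext i j
        rw [LinearMap.toMatrix'_mul, LinearMap.toMatrix'_mul, Matrix.mul_apply, Matrix.mul_apply]
        refine Finset.sum_congr rfl fun l _ => ?_
        rw [Subsingleton.elim l i, Subsingleton.elim j i, mul_comm]
      refine mul_inv_eq_one.mp (hinj _ ?_)
      rw [map_mul, he, ← map_mul, mul_inv_cancel, MonoidHom.map_one ρ]
    refine hnn (Subgroup.zpowers x) ⟨fun a ha g => ?_⟩ (by rw [Nat.card_zpowers, hx])
    rwa [hcomm g a, mul_inv_cancel_right]
  exact CfsgLib.SmallDegree.psl_of_half_degree ρ hinj hx hsq hnn (by omega) (by rw [hfin]; exact hdeg)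

end Cfsg.Agent.S4504
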