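import Cfsg.Statements.S0910
import Cfsg.Agent.Lib.Blocks.Idempotent
import Cfsg.Agent.Lib.Blocks.PPart
import Cfsg.Agent.Lib.Char.Burnside
import Cfsg.Agent.Lib.Char.Eigen
import Cfsg.Agent.Lib.Char.Central

set_option autoImplicit false
open Cfsg

namespace Cfsg.Agent.S0910

open CfsgLib CfsgLib.Blocks
open scoped ComplexConjugate CfsgLib.Char

/-- Let G be a non-abelian finite simple group and p a prime. If an irreducible character χ lies in the principal block (relative to a maximal ideal of the algebraic integers containing p) and χ 1 is a power of p, then χ is the principal character. -/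
theorem result {G : Type*} [Group G] [Finite G] (p : ℕ) [Fact p.Prime] (M : Ideal Cfsg.AlgInt) (hM : Cfsg.IsPModular p M) [IsSimpleGroup G] (hna : ∃ a b : G, a * b ≠ b * a) (χ : Cfsg.IrrCharacter G) (hχ : χ ∈ Cfsg.principalBlock M G) (k : ℕ) (hdeg : (χ : G → ℂ) 1 = (p : ℂ) ^ k) : (χ : G → ℂ) = fun _ => 1 := by
  classical
  have : Fintype G := Fintype.ofFinite G
  have := isPrime_of_isPModular hM
  obtain ⟨m, hm, -, hmdvd⟩ := Char.exists_degree_dvd_card χ.2
  obtain ⟨n, ρ, hρ, hρχ⟩ := χ.2
  have hn : n = p ^ k := by
    have h : ((n : ℕ) : ℂ) = (p : ℂ) ^ k := by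
      rw [← hdeg, ← hρχ, Representation.char_one, Module.finrank_fin_fun]
    exact_mod_cast h
  let f : G →* Module.End ℂ (Fin n → ℂ) := ρ
  by_contra hne
  have hinj : Function.Injective f := by
    rcases (MonoidHom.normal_ker f).eq_bot_or_eq_top with h0 | h1
    · exact (MonoidHom.ker_eq_bot_iff f).mp h0
    · exfalso
      have hone : ∀ x, ρ x = 1 := fun x => (MonoidHom.mem_ker (f := f)).mp (h1 ▸ Subgroup.mem_top x)
      rcases Nat.eq_zero_or_pos k with rfl | hk
      · refine hne (funext fun x => ?_)
        rw [← hρχ]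
        show LinearMap.trace ℂ _ (ρ x) = 1
        rw [hone, LinearMap.trace_one, Module.finrank_fin_fun, hn, pow_zero, Nat.cast_one]
      · have h2 := Char.classInner_coe χ (trivIrr G)
        have hne' : χ ≠ trivIrr G := fun e => hne (by rw [e]; rfl)
        rw [if_neg hne', classInner, mul_eq_zero,
          or_iff_right (inv_ne_zero (Nat.cast_ne_zero.mpr Nat.card_pos.ne')),
          Finset.sum_congr rfl (g := fun _ => (n : ℂ)) fun x _ => by
            show (χ : G → ℂ) x * conj (1 : ℂ) = _
            rw [map_one, mul_one, ← hρχ]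
            show LinearMap.trace ℂ _ (ρ x) = _
            rw [hone, LinearMap.trace_one, Module.finrank_fin_fun],
          Finset.sum_const, Finset.card_univ, nsmul_eq_mul, mul_eq_zero] at h2
        rcases h2 with h2 | h2
        · exact Fintype.card_ne_zero (by exact_mod_cast h2)
        · rw [hn] at h2
          exact (pow_pos hM.1.pos k).ne' (by exact_mod_cast h2)
  have hscal : ∀ z : G, (∃ ω : ℂ, ρ z = ω • LinearMap.id) → z = 1 := by
    rintro z ⟨ω, hω⟩
    have hc : z ∈ Subgroup.center G := Subgroup.mem_center_iff.mpr fun x => hinj (by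
      show f (x * z) = f (z * x)
      rw [map_mul, map_mul]
      show ρ x * ρ z = ρ z * ρ x
      rw [hω]
      ext v; simp)
    by_contra hz
    have htop := ((inferInstance : (Subgroup.center G).Normal).eq_bot_or_eq_top).resolve_left
      (fun e => hz (by rw [e] at hc; exact Subgroup.mem_bot.mp hc))
    obtain ⟨a, b, hab⟩ := hna
    exact hab (Subgroup.mem_center_iff.mp (htop ▸ Subgroup.mem_top b) a)
  rcases Nat.eq_zero_or_pos k with rfl | hk
  · have hall : ∀ x : G, x = 1 := fun x => hscal x (by
      refine ⟨ρ.character x, ?_⟩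
      have h1 : Module.finrank ℂ (Fin n → ℂ) = 1 := by rw [Module.finrank_fin_fun, hn, pow_zero]
      obtain ⟨c, hc, -⟩ := LinearMap.existsUnique_eq_smul_id_of_finrank_eq_one h1 (ρ x)
      have ht : ρ.character x = c := by
        show LinearMap.trace ℂ _ (ρ x) = c
        rw [hc, map_smul, show (LinearMap.id : (Fin n → ℂ) →ₗ[ℂ] _) = 1 from rfl,
          LinearMap.trace_one, h1, Nat.cast_one, smul_eq_mul, mul_one]
      rw [ht, hc])
    obtain ⟨a, b, hab⟩ := hna
    exact hab (by rw [hall a, hall b])
  · set P : Sylow p G := default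
    have hpG : p ∣ Nat.card G := by
      refine dvd_trans ?_ hmdvd
      have : (m : ℂ) = ((p ^ k : ℕ) : ℂ) := by push_cast; rw [← hm, hdeg]
      rw [Nat.cast_injective this]
      exact dvd_pow_self p hk.ne'
    have : Nontrivial (P : Subgroup G) := Finite.one_lt_card_iff_nontrivial.mp (by
      have h := P.dvd_card_of_dvd_card hpG
      exact lt_of_lt_of_le hM.1.one_lt (Nat.le_of_dvd Nat.card_pos h))
    have := P.2.center_nontrivial
    obtain ⟨z, hz⟩ := exists_ne (1 : Subgroup.center (P : Subgroup G))
    set y : G := ((z : (P : Subgroup G)) : G)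
    have hidx : ¬ p ∣ (Subgroup.centralizer ({y} : Set G)).index := by
      refine fun h => P.not_dvd_index (h.trans (Subgroup.index_dvd_of_le fun w hw =>
        Subgroup.mem_centralizer_singleton_iff.mpr ?_))
      exact congrArg Subtype.val (Subgroup.mem_center_iff.mp z.2 ⟨w, hw⟩)
    rcases Char.burnside_zero_or_scalar ρ y (by
      rw [Module.finrank_fin_fun, hn]
      exact Nat.Coprime.pow_left k ((hM.1.coprime_iff_not_dvd).mpr hidx)) with h | h
    · have h1 := mem_principalBlock_iff.mp hχ y
      rw [centralChar, ← hρχ, h, mul_zero, zero_div, zero_sub] at h1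
      have h2 := memLocalIdeal_neg h1
      rw [neg_neg] at h2
      exact hidx ((memLocalIdeal_natCast_iff hM).mp h2)
    · refine hz (Subtype.ext (Subtype.ext ?_))
      exact hscal y ((Char.norm_character_eq_iff ρ y).mp h)
end Cfsg.Agent.S0910
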