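import Cfsg.Statements.S0185
import Cfsg.Agent.Lib.Char.FrobeniusGroup
import Cfsg.Agent.Lib.Char.Virtual
import Cfsg.Agent.Lib.Char.Central
import Cfsg.Agent.Lib.Char.Eigen
import Cfsg.Agent.Lib.Coprime.SchurZassenhaus

set_option autoImplicit false
open Cfsg

namespace Cfsg.Agent.S0185

open CfsgLib.Char
open scoped CfsgLib.Char

/-- If a finite group has a faithful complex representation of degree less than the smallest prime dividing its order, the group is abelian. -/
theorem result {G : Type*} [Group G] [Finite G] {V : Type*} [AddCommGroup V] [Module ℂ V] [FiniteDimensional ℂ V] (ρ : Representation ℂ G V) (hfaithful : Function.Injective ρ) (hdeg : ∀ p : ℕ, p.Prime → p ∣ Nat.card G → Module.finrank ℂ V < p) (a b : G) : a * b = b * a := by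
  classical
  have : Fintype G := Fintype.ofFinite G
  obtain ⟨m, hm⟩ := exists_multiplicities (isCharacter_character ρ)
  have hlin : ∀ ψ : Cfsg.IrrCharacter G, m ψ ≠ 0 → (ψ : G → ℂ) 1 = 1 := by
    intro ψ hne
    choose d hd hd0 hdvd using fun ξ : Cfsg.IrrCharacter G => exists_degree_dvd_card ξ.2
    have h1 := congrFun hm 1
    rw [Representation.char_one] at h1
    simp only [Finset.sum_apply, Pi.smul_apply, smul_eq_mul, hd] at h1
    have h2 : Module.finrank ℂ V = ∑ ξ : Cfsg.IrrCharacter G, m ξ * d ξ := by exact_mod_cast h1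
    have h3 : d ψ ≤ Module.finrank ℂ V := by
      rw [h2]
      exact (Nat.le_mul_of_pos_left _ (Nat.pos_of_ne_zero hne)).trans
        (Finset.single_le_sum (f := fun ξ => m ξ * d ξ) (fun _ _ => Nat.zero_le _) (Finset.mem_univ ψ))
    have h4 : d ψ = 1 := by
      by_contra hd1
      obtain ⟨q, hq, hqd⟩ := Nat.exists_prime_and_dvd hd1
      exact absurd ((hdeg q hq (hqd.trans (hdvd ψ))).trans_le (Nat.le_of_dvd (hd0 ψ) hqd)) (not_lt.mpr h3)
    rw [hd, h4, Nat.cast_one]
  have hc : ρ.character (a * b * a⁻¹ * b⁻¹) = ρ.character 1 := by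
    rw [hm]
    simp only [Finset.sum_apply, Pi.smul_apply, smul_eq_mul]
    refine Finset.sum_congr rfl fun ψ _ => ?_
    by_cases hne : m ψ = 0
    · simp [hne]
    congr 1
    have h1 := hlin ψ hne
    have hψc := isCharacter_of_isIrr ψ.2
    have hl : (linearHom hψc h1 (a * b * a⁻¹ * b⁻¹)) = 1 := by
      simp only [map_mul, map_inv]
      rw [mul_comm (linearHom hψc h1 a), mul_inv_cancel_right, mul_inv_cancel]
    rw [h1, ← linearHom_apply hψc h1, hl]; rfl
  rw [Representation.char_one] at hc
  have h1 : a * b * a⁻¹ * b⁻¹ = 1 := hfaithful (by rw [(character_eq_finrank_iff ρ _).mp hc, map_one]; rfl)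
  exact commutatorElement_eq_one_iff_mul_comm.mp (by rw [commutatorElement_def]; exact h1)

end Cfsg.Agent.S0185
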