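import Cfsg.Statements.S0257
import Cfsg.Agent.Lib.Classical.Card

set_option autoImplicit false
open Cfsg

namespace Cfsg.Agent.S0257

def qI : Matrix.SpecialLinearGroup (Fin 2) (ZMod 3) := ⟨!![0, -1; 1, 0], by decide⟩

def qJ : Matrix.SpecialLinearGroup (Fin 2) (ZMod 3) := ⟨!![1, 1; 1, -1], by decide⟩

def qMap : QuaternionGroup 2 → Matrix.SpecialLinearGroup (Fin 2) (ZMod 3)
  | .a k => qI ^ k.val
  | .xa k => qJ * qI ^ k.val

theorem qMap_mul : ∀ x y : QuaternionGroup 2, qMap (x * y) = qMap x * qMap y := by decide +kernel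

theorem qMap_injective : ∀ x y : QuaternionGroup 2, qMap x = qMap y → x = y := by decide +kernel

theorem qMap_normal : ∀ (g : Matrix.SpecialLinearGroup (Fin 2) (ZMod 3)) (x : QuaternionGroup 2),
    ∃ y : QuaternionGroup 2, g * qMap x = qMap y * g := by decide +kernel

/-- SL_2(3) has a normal subgroup of index 3 isomorphic to the quaternion group of order 8, and its centre has order 2. -/
theorem result {F : Type*} [Field F] [Fintype F] (hF : Fintype.card F = 3) : (∃ Q : Subgroup (Matrix.SpecialLinearGroup (Fin 2) F), Q.Normal ∧ Q.index = 3 ∧ Nonempty (Q ≃* QuaternionGroup 2)) ∧ Nat.card (Subgroup.center (Matrix.SpecialLinearGroup (Fin 2) F)) = 2 := by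
  classical
  have : Fact (Nat.Prime 3) := ⟨Nat.prime_three⟩
  let e : ZMod 3 ≃+* F := ZMod.ringEquivOfPrime F Nat.prime_three hF
  let E : Matrix.SpecialLinearGroup (Fin 2) (ZMod 3) →* Matrix.SpecialLinearGroup (Fin 2) F :=
    Matrix.SpecialLinearGroup.map e.toRingHom
  have hEi : Function.Injective E := by
    intro a b h
    apply Subtype.ext
    ext i j
    exact e.injective (congrFun (congrFun (congrArg Subtype.val h) i) j)
  have hEs : Function.Surjective E := by
    have hb : Function.Bijective E := by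
      refine (Nat.bijective_iff_injective_and_card E).mpr ⟨hEi, ?_⟩
      rw [CfsgLib.Classical.card_SL_two, CfsgLib.Classical.card_SL_two, ZMod.card, hF]
    exact hb.2
  let φ : QuaternionGroup 2 →* Matrix.SpecialLinearGroup (Fin 2) F :=
    E.comp (MonoidHom.mk' qMap qMap_mul)
  have hφ : Function.Injective φ := hEi.comp (fun x y h => qMap_injective x y h)
  refine ⟨⟨φ.range, ⟨fun n hn g => ?_⟩, ?_, ⟨(MonoidHom.ofInjective hφ).symm⟩⟩, ?_⟩
  · obtain ⟨x, rfl⟩ := hn
    obtain ⟨g', rfl⟩ := hEs g
    obtain ⟨y, hy⟩ := qMap_normal g' x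
    refine ⟨y, ?_⟩
    show E (qMap y) = E g' * E (qMap x) * (E g')⁻¹
    rw [← map_mul, hy, map_mul, mul_inv_cancel_right]
  · have h := φ.range.card_mul_index
    rw [← Nat.card_congr (MonoidHom.ofInjective hφ).toEquiv, CfsgLib.Classical.card_SL_two, hF,
      Nat.card_eq_fintype_card, QuaternionGroup.card] at h
    omega
  · rw [CfsgLib.Classical.card_center_SL, Nat.card_eq_fintype_card, hF]
    decide

end Cfsg.Agent.S0257
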