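import Cfsg.Statements.S0106
import Cfsg.Agent.Lib.Transfer.Frobenius
import Cfsg.Agent.Lib.GL2.QuaternionEight
import Cfsg.Agent.Lib.ZStar.Recognize
import Cfsg.Agent.Lib.Fusion.CyclicIndexTwo
import Cfsg.Agent.Lib.Quadratic.Section
import Cfsg.Agent.S0257

set_option autoImplicit false
open Cfsg

namespace Cfsg.Agent.S0106

open CfsgLib.GL2 (ext8 all8 agree validPair mem_all8 ext8_eq)
open Cfsg.Agent.S0257 (qMap)

local notation "Q8" => QuaternionGroup 2

/-- The automorphism of order three coming from `SL(2,3)`. -/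
def theta : Q8 → Q8 := ext8 (.xa 0) (.xa 3)

/-- The unipotent element of order three. -/
def tau : Matrix.SpecialLinearGroup (Fin 2) (ZMod 3) := ⟨!![1, 1; 0, 1], by decide⟩

/-- Normal form in `SL(2,3)`. -/
def nf (u : Q8 × Fin 3) : Matrix.SpecialLinearGroup (Fin 2) (ZMod 3) := qMap u.1 * tau ^ u.2.val

/-- Multiplication of normal forms. -/
def star (u v : Q8 × Fin 3) : Q8 × Fin 3 := (u.1 * theta^[u.2.val] v.1, u.2 + v.2)

theorem nf_star : ∀ u v, nf (star u v) = nf u * nf v := by decide +kernel

theorem nf_bij : (∀ u v, nf u = nf v → u = v) ∧ ∀ s, ∃ u, nf u = s := by decide +kernel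

theorem theta_three : ∀ x, theta^[3] x = x := by decide +kernel

theorem theta_one : nf (1, 0) = 1 := by decide +kernel

/-- Classification of automorphisms, as a Boolean. -/
def classify : Bool :=
  all8.all fun A => all8.all fun B => !validPair A B || agree ((ext8 A B)^[4]) id ||
    (agree ((ext8 A B)^[3]) id && all8.any fun C => all8.any fun D =>
      agree (ext8 A B ∘ ext8 C D) (ext8 C D ∘ theta) && validPair C D)

theorem classify_eq : classify = true := by decide +kernel

theorem exists_conj_theta (α : MulAut Q8) :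
    α ^ 4 = 1 ∨ ∃ s : Q8 →* Q8, Function.Injective s ∧ ∀ x, α (s x) = s (theta x) := by
  have hit : ∀ (φ : MulAut Q8) (n : ℕ), (φ ^ n : MulAut Q8) = (φ : Q8 → Q8)^[n] := by
    intro φ n
    induction n with
    | zero => rfl
    | succ n ih => rw [pow_succ, MulAut.coe_mul, ih, Function.iterate_succ]
  have hvalid : validPair (α (.a 1)) (α (.xa 0)) = true := by
    simp only [validPair, ext8_eq, Bool.and_eq_true, List.all_eq_true, List.any_eq_true,
      decide_eq_true_eq]
    exact ⟨fun x _ y _ => map_mul α x y, fun y _ => ⟨α.symm y, mem_all8 _, by simp⟩⟩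
  have h := classify_eq
  simp only [classify, List.all_eq_true, Bool.or_eq_true, Bool.not_eq_true', Bool.and_eq_true,
    List.any_eq_true] at h
  rcases h (α (.a 1)) (mem_all8 _) (α (.xa 0)) (mem_all8 _) with (h1 | h1) |
      ⟨-, C, -, D, -, h1, h2⟩
  · rw [hvalid] at h1; exact absurd h1 Bool.noConfusion
  · left
    refine MulEquiv.ext fun x => ?_
    simp only [ext8_eq, agree, List.all_eq_true, decide_eq_true_eq] at h1
    rw [hit]
    exact h1 x (mem_all8 x)
  · right
    simp only [validPair, Bool.and_eq_true, List.all_eq_true, List.any_eq_true,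
      decide_eq_true_eq] at h2
    refine ⟨MonoidHom.mk' (ext8 C D) fun x y => h2.1 x (mem_all8 x) y (mem_all8 y),
      Finite.injective_iff_surjective.mpr fun y =>
        let ⟨x, _, hx⟩ := h2.2 y (mem_all8 y); ⟨x, hx⟩, fun x => ?_⟩
    simp only [ext8_eq, agree, List.all_eq_true, decide_eq_true_eq] at h1
    exact h1 x (mem_all8 x)

/-- `Q8` with an element of odd order inducing `theta` gives a section `SL(2,3)`. -/
theorem section_of_theta {G : Type*} [Group G] [Finite G] (ι : Q8 →* G) (hι : Function.Injective ι)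
    (g : G) (hodd : (orderOf g).Coprime 2) (hg : ∀ x, g * ι x * g⁻¹ = ι (theta x)) :
    ∃ (H K : Subgroup G) (_ : (K.subgroupOf H).Normal),
      Nonempty ((H ⧸ K.subgroupOf H) ≃* Matrix.SpecialLinearGroup (Fin 2) (ZMod 3)) := by
  have hpow : ∀ (k : ℕ) x, g ^ k * ι x = ι (theta^[k] x) * g ^ k := by
    intro k
    induction k with
    | zero => simp
    | succ k ih =>
      intro x
      calc g ^ (k + 1) * ι x = g ^ k * (g * ι x * g⁻¹) * g := by rw [pow_succ]; group
        _ = g ^ k * ι (theta x) * g := by rw [hg]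
        _ = _ := by rw [ih, Function.iterate_succ_apply, pow_succ, mul_assoc]
  set H := ι.range ⊔ Subgroup.zpowers g with hH
  have hιH : ∀ x, ι x ∈ H := fun x => (le_sup_left : _ ≤ H) ⟨x, rfl⟩
  have hgH : g ∈ H := (le_sup_right : _ ≤ H) (Subgroup.mem_zpowers g)
  set Z := (Subgroup.zpowers (g ^ 3)).subgroupOf H with hZ
  have hcen : Subgroup.zpowers (g ^ 3) ≤ Subgroup.centralizer (H : Set G) := by
    rw [Subgroup.le_centralizer_iff, hH, sup_le_iff]
    constructor
    · rintro _ ⟨x, rfl⟩
      rw [Subgroup.zpowers_eq_closure, Subgroup.centralizer_closure,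
        Subgroup.mem_centralizer_singleton_iff, hpow, theta_three]
    · rw [Subgroup.zpowers_le, Subgroup.zpowers_eq_closure, Subgroup.centralizer_closure,
        Subgroup.mem_centralizer_singleton_iff]
      group
  haveI hZn : Z.Normal := by
    refine ⟨fun z hz y => ?_⟩
    have h1 : (y : G) * z * (y : G)⁻¹ = z := by
      rw [hcen (Subgroup.mem_subgroupOf.mp hz) y y.2, mul_inv_cancel_right]
    rw [hZ, Subgroup.mem_subgroupOf, Subgroup.coe_mul, Subgroup.coe_mul, Subgroup.coe_inv, h1]
    exact hz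
  let M : Q8 × Fin 3 → H ⧸ Z := fun u =>
    QuotientGroup.mk (⟨ι u.1 * g ^ u.2.val, H.mul_mem (hιH _) (H.pow_mem hgH _)⟩ : H)
  have hM : ∀ u v, M (star u v) = M u * M v := by
    intro u v
    simp only [M, ← QuotientGroup.mk_mul]
    rw [QuotientGroup.eq, hZ, Subgroup.mem_subgroupOf]
    simp only [star, Subgroup.coe_mul, Subgroup.coe_inv]
    refine Subgroup.mem_zpowers_iff.mpr ⟨((u.2.val + v.2.val) / 3 : ℕ), ?_⟩
    rw [eq_inv_mul_iff_mul_eq, zpow_natCast, ← pow_mul, mul_assoc, ← pow_add, Fin.val_add,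
      Nat.mod_add_div, map_mul, pow_add, mul_assoc, ← mul_assoc _ (g ^ u.2.val), ← hpow]
    simp only [mul_assoc]
  have hsurj := nf_bij.2
  choose dec hdec using hsurj
  let Φ : Matrix.SpecialLinearGroup (Fin 2) (ZMod 3) →* H ⧸ Z :=
    MonoidHom.mk' (fun s => M (dec s)) fun s t => by
      show M (dec (s * t)) = M (dec s) * M (dec t)
      rw [← hM]
      exact congrArg M (nf_bij.1 _ _ (by rw [nf_star, hdec, hdec, hdec]))
  have hinj : Function.Injective Φ := by
    refine (injective_iff_map_eq_one Φ).mpr fun s hs => ?_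
    rw [← hdec s]
    change M (dec s) = 1 at hs
    generalize dec s = u at hs ⊢
    obtain ⟨x, k⟩ := u
    rw [show M (x, k) = QuotientGroup.mk _ from rfl, QuotientGroup.eq_one_iff, hZ,
      Subgroup.mem_subgroupOf] at hs
    change ι x * g ^ k.val ∈ Subgroup.zpowers (g ^ 3) at hs
    have hxg : ι x ∈ Subgroup.zpowers g := by
      have := Subgroup.mul_mem _ (Subgroup.zpowers_le.mpr (Subgroup.pow_mem _
        (Subgroup.mem_zpowers g) 3) hs) (Subgroup.inv_mem _ (Subgroup.pow_mem _
          (Subgroup.mem_zpowers g) k.val))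
      rwa [mul_inv_cancel_right] at this
    have hx : x = 1 := by
      apply hι
      rw [map_one, ← orderOf_eq_one_iff]
      have h1 : orderOf (ι x) ∣ 8 := (orderOf_map_dvd ι x).trans (by
        have := orderOf_dvd_natCard x
        rwa [Nat.card_eq_fintype_card, QuaternionGroup.card] at this)
      refine Nat.eq_one_of_dvd_coprimes (Nat.Coprime.pow_left 3
        (Nat.coprime_comm.mp hodd)) (h1.trans (by norm_num)) ?_
      rw [← Nat.card_zpowers g]
      exact (Subgroup.zpowers g).orderOf_dvd_natCard hxg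
    subst hx
    rw [map_one, one_mul] at hs
    rcases eq_or_ne k 0 with rfl | hk
    · exact theta_one
    exfalso
    obtain ⟨j, hj⟩ := Subgroup.mem_zpowers_iff.mp hs
    have hgK : g ∈ Subgroup.zpowers (g ^ 3) := by
      have hkv : k.val = 1 ∨ k.val = 2 := by
        have := k.isLt
        have : k.val ≠ 0 := fun e => hk (Fin.ext e)
        omega
      rcases hkv with e | e
      · rwa [e, pow_one] at hs
      · rw [e] at hs
        have := Subgroup.mul_mem _ (Subgroup.inv_mem _ hs) (Subgroup.mem_zpowers (g ^ 3))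
        rwa [show (g ^ 2)⁻¹ * g ^ 3 = g by group] at this
    have hfix : ∀ y, theta y = y := fun y => by
      apply hι
      rw [← hg y, ← hcen hgK (ι y) (hιH y), mul_inv_cancel_right]
    exact absurd (hfix (QuaternionGroup.a 1)) (by decide)
  obtain ⟨H', K', hn, -, he⟩ := CfsgLib.Quadratic.exists_section_of_hom H (QuotientGroup.mk' Z) Φ
    hinj (fun q _ => QuotientGroup.mk'_surjective Z q)
  exact ⟨H', K', hn, he⟩

/-- A finite group with generalized quaternion Sylow 2-subgroups either has a normal 2-complement or has a section isomorphic to SL(2,3). -/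
theorem result {G : Type*} [Group G] [Finite G] (T : Sylow 2 G) (n : ℕ) (hn : 1 ≤ n) (hT : Nonempty ((T : Subgroup G) ≃* QuaternionGroup (2 ^ n))) : Cfsg.HasNormalPComplement 2 G ∨ ∃ (H K : Subgroup G) (hK : (K.subgroupOf H).Normal), Nonempty ((H ⧸ K.subgroupOf H) ≃* Matrix.SpecialLinearGroup (Fin 2) (ZMod 3)) := by
  classical
  have h2 : Fact (Nat.Prime 2) := ⟨Nat.prime_two⟩
  rw [or_iff_not_imp_left]
  intro hno
  have hP : ¬ ∀ Q : Subgroup G, Q ≤ (T : Subgroup G) → ∀ g ∈ Subgroup.normalizer (Q : Set G),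
      (orderOf g).Coprime 2 → g ∈ Subgroup.centralizer (Q : Set G) := fun h =>
    hno (CfsgLib.Transfer.hasNormalPComplement_of_pAutomizers
      (CfsgLib.Transfer.pAutomizers_of_sylow T h))
  simp only [not_forall] at hP
  obtain ⟨Q, hQT, g, hg, hgc, hgC⟩ := hP
  obtain ⟨e⟩ := hT
  have : NeZero (2 ^ n) := ⟨by positivity⟩
  -- a single involution
  have hone : ∀ x : QuaternionGroup (2 ^ n), orderOf x = 2 →
      x = QuaternionGroup.a ((2 ^ n : ℕ) : ZMod (2 * 2 ^ n)) := by
    rintro (i | i) hx
    · have h1 : (QuaternionGroup.a i) ^ 2 = 1 := by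
        have h1 := pow_orderOf_eq_one (QuaternionGroup.a i)
        simpa only [hx] using h1
      rw [pow_two, QuaternionGroup.a_mul_a, QuaternionGroup.one_def] at h1
      have h3 : i + i = 0 := QuaternionGroup.a.inj h1
      have h4 : i ≠ 0 := fun e0 => by
        rw [e0, ← QuaternionGroup.one_def, orderOf_one] at hx
        omega
      congr 1
      rw [← ZMod.natCast_zmod_val i, ← Nat.cast_add, ZMod.natCast_eq_zero_iff] at h3
      rw [← ZMod.natCast_zmod_val i]
      congr 1
      have h5 := ZMod.val_lt i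
      have h6 : i.val ≠ 0 := fun e0 => h4 ((ZMod.val_eq_zero i).mp e0)
      obtain ⟨c, hc⟩ := h3
      rcases c with _ | _ | c
      · omega
      · omega
      · nlinarith
    · rw [QuaternionGroup.orderOf_xa] at hx
      omega
  have huniq : ∀ x y : Q, orderOf x = 2 → orderOf y = 2 → x = y := by
    intro x y hx hy
    have hi : ∀ z : Q, orderOf (e (Subgroup.inclusion hQT z)) = orderOf z := fun z => by
      rw [MulEquiv.orderOf_eq, orderOf_injective _ (Subgroup.inclusion_injective hQT)]
    exact Subgroup.inclusion_injective hQT (e.injective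
      ((hone _ ((hi x).trans hx)).trans (hone _ ((hi y).trans hy)).symm))
  set α : MulAut Q := Q.normalizerMonoidHom ⟨g, hg⟩ with hα
  have hαc : (orderOf α).Coprime 2 :=
    Nat.Coprime.coprime_dvd_left (orderOf_map_dvd _ _) (by rwa [← Subgroup.orderOf_coe])
  have hα1 : α ≠ 1 := fun h1 => hgC fun q hq => by
    have h3 : g * q * g⁻¹ = q :=
      congrArg Subtype.val (show α ⟨q, hq⟩ = ⟨q, hq⟩ by rw [h1]; rfl)
    exact (mul_inv_eq_iff_eq_mul.mp h3).symm
  have hno2 : ¬ IsPGroup 2 (MulAut Q) := fun h =>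
    hα1 (CfsgLib.Transfer.orderOf_eq_one_of_coprime_of_isPGroup h hαc)
  have hQ : IsPGroup 2 Q := T.2.to_le hQT
  rcases CfsgLib.ZStar.cyclic_or_quaternion hQ huniq with hc | ⟨m, ⟨f⟩⟩
  · exfalso
    refine hno2 ((IsPGroup.of_equiv ?_) (IsCyclic.mulAutMulEquiv Q).symm)
    obtain ⟨k, hk⟩ := hQ.exists_card_eq
    have : NeZero (Nat.card Q) := ⟨Nat.card_pos.ne'⟩
    rcases k with _ | k
    · refine IsPGroup.of_card (n := 0) ?_
      rw [Nat.card_eq_fintype_card, ZMod.card_units_eq_totient, hk]
      rfl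
    · refine IsPGroup.of_card (n := k) ?_
      rw [Nat.card_eq_fintype_card, ZMod.card_units_eq_totient, hk,
        Nat.totient_prime_pow_succ Nat.prime_two]
      simp
  obtain rfl : m = 1 := by
    by_contra hm1
    apply hno2
    refine IsPGroup.of_equiv ?_ (MulAut.congr f).symm
    have : NeZero (2 ^ m) := ⟨by positivity⟩
    rcases Nat.eq_zero_or_pos m with rfl | hm
    · haveI : IsCyclic (QuaternionGroup (2 ^ 0)) := QuaternionGroup.quaternionGroup_one_isCyclic
      refine (IsPGroup.of_card (n := 1) ?_).of_equiv (IsCyclic.mulAutMulEquiv _).symm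
      rw [Nat.card_eq_fintype_card (α := QuaternionGroup (2 ^ 0)), QuaternionGroup.card,
        Nat.card_eq_fintype_card, ZMod.card_units_eq_totient]
      decide
    refine CfsgLib.Fusion.isPGroup_mulAut_of_cyclic_index_two (k := m + 1) (QuaternionGroup.a 1)
      ?_ (by omega) ?_ ?_
    · rw [QuaternionGroup.orderOf_a_one, pow_succ']
    · have h := Subgroup.card_mul_index
        (Subgroup.zpowers (QuaternionGroup.a 1 : QuaternionGroup (2 ^ m)))
      rw [Nat.card_zpowers, QuaternionGroup.orderOf_a_one, Nat.card_eq_fintype_card,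
        QuaternionGroup.card, show 4 * 2 ^ m = 2 * 2 ^ m * 2 by ring] at h
      exact Nat.eq_of_mul_eq_mul_left (by positivity) h
    · intro x hx
      cases x with
      | a i =>
        exfalso
        apply hx
        rw [Subgroup.mem_zpowers_iff]
        exact ⟨i.val, by rw [zpow_natCast, QuaternionGroup.a_one_pow]; simp⟩
      | xa i =>
        rw [QuaternionGroup.orderOf_xa]
        calc 4 < 2 ^ 3 := by norm_num
          _ ≤ 2 ^ (m + 1) := Nat.pow_le_pow_right two_pos (by omega)
  set f' : Q ≃* QuaternionGroup 2 := f with hf'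
  set β : MulAut (QuaternionGroup 2) := MulAut.congr f' α with hβ
  have hβc : (orderOf β).Coprime 2 := by rwa [hβ, MulEquiv.orderOf_eq]
  rcases exists_conj_theta β with h4 | ⟨s, hs, hsθ⟩
  · exfalso
    refine hα1 ((MulAut.congr f').injective ?_)
    rw [map_one, ← hβ, ← orderOf_eq_one_iff]
    exact Nat.eq_one_of_dvd_coprimes (Nat.Coprime.pow_right 2 hβc) dvd_rfl
      ((orderOf_dvd_of_pow_eq_one h4).trans (by norm_num))
  refine section_of_theta ((Q.subtype.comp f'.symm.toMonoidHom).comp s)
    ((Q.subtype_injective.comp f'.symm.injective).comp hs) g hgc fun x => ?_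
  show g * (f'.symm (s x) : G) * g⁻¹ = (f'.symm (s (theta x)) : G)
  rw [← hsθ x]
  show _ = ((f'.symm (f' (α (f'.symm (s x))))) : G)
  rw [MulEquiv.symm_apply_apply]
  rfl

end Cfsg.Agent.S0106
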