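import Cfsg.Statements.S3742
import Cfsg.Agent.Lib.GL2.QuaternionEight

set_option autoImplicit false
open Cfsg

namespace Cfsg.Agent.S3742

open QuaternionGroup CfsgLib.GL2

local notation "Q8" => QuaternionGroup 2

/-- The four signed frames. -/
def frame : Fin 4 → List Q8
  | 0 => [a 1, xa 0, xa 3]
  | 1 => [a 1, xa 2, xa 1]
  | 2 => [a 3, xa 0, xa 1]
  | 3 => [a 3, xa 2, xa 3]

/-- Whether `f` sends frame `d` to frame `e`, up to the central sign. -/
def sends (f : Q8 → Q8) (d e : Fin 4) : Bool :=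
  (frame d).all (fun x => (frame e).contains (f x)) ||
    (frame d).all (fun x => (frame e).contains (f x * a 2))

/-- The induced map on frames. -/
def toFour (f : Q8 → Q8) (d : Fin 4) : Fin 4 :=
  ((List.finRange 4).find? (sends f d)).getD 0

/-- The image pairs of automorphisms. -/
def pairs : List (Q8 × Q8) :=
  (all8.flatMap fun A => all8.map fun B => (A, B)).filter fun u => validPair u.1 u.2

/-- All checks, as a Boolean. -/
def checks : Bool :=
  pairs.all (fun u => pairs.all fun v => (List.finRange 4).all fun d =>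
    decide (toFour (ext8 (ext8 u.1 u.2 v.1) (ext8 u.1 u.2 v.2)) d
      = toFour (ext8 u.1 u.2) (toFour (ext8 v.1 v.2) d))) &&
  pairs.all (fun u => !((List.finRange 4).all fun d => decide (toFour (ext8 u.1 u.2) d = d)) ||
    decide (u = (a 1, xa 0))) &&
  decide (pairs.length = 24)

theorem checks_eq : checks = true := by decide +kernel

theorem toFour_id : ∀ d, toFour (ext8 (a 1) (xa 0)) d = d := by decide +kernel

theorem pairs_nodup : pairs.Nodup := by decide +kernel

theorem mem_pairs (φ : MulAut Q8) : (φ (a 1), φ (xa 0)) ∈ pairs := by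
  simp only [pairs, List.mem_filter, List.mem_flatMap, List.mem_map]
  refine ⟨⟨_, mem_all8 _, _, mem_all8 _, rfl⟩, ?_⟩
  simp only [validPair, ext8_eq, Bool.and_eq_true, List.all_eq_true, List.any_eq_true, decide_eq_true_eq]
  exact ⟨fun x _ y _ => map_mul φ x y, fun y _ => ⟨φ.symm y, mem_all8 _, by simp⟩⟩

theorem valid_hom {u : Q8 × Q8} (hu : u ∈ pairs) :
    ∃ φ : MulAut Q8, φ (a 1) = u.1 ∧ φ (xa 0) = u.2 := by
  simp only [pairs, List.mem_filter, validPair, Bool.and_eq_true, List.all_eq_true, List.any_eq_true,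
    decide_eq_true_eq] at hu
  let f : Q8 →* Q8 := MonoidHom.mk' (ext8 u.1 u.2) fun x y => hu.2.1 x (mem_all8 x) y (mem_all8 y)
  have hs : Function.Surjective f := fun y => by
    obtain ⟨x, -, hx⟩ := hu.2.2 y (mem_all8 y)
    exact ⟨x, hx⟩
  refine ⟨MulEquiv.ofBijective f (Finite.surjective_iff_bijective.mp hs), ?_, ?_⟩
  · show u.1 ^ (1 : ZMod (2 * 2)).val = u.1
    rw [show (1 : ZMod (2 * 2)).val = 1 from rfl, pow_one]
  · show u.2 * u.1 ^ (0 : ZMod (2 * 2)).val = u.2
    rw [ZMod.val_zero, pow_zero, mul_one]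


/-- The automorphism group of the quaternion group of order 8 is isomorphic to the symmetric group of degree 4. -/
theorem result : Nonempty (MulAut (QuaternionGroup 2) ≃* Equiv.Perm (Fin 4)) := by
  obtain ⟨hhom, hker, hlen⟩ : (∀ u ∈ pairs, ∀ v ∈ pairs, ∀ d,
      toFour (ext8 (ext8 u.1 u.2 v.1) (ext8 u.1 u.2 v.2)) d = toFour (ext8 u.1 u.2) (toFour (ext8 v.1 v.2) d)) ∧
      (∀ u ∈ pairs, (∀ d, toFour (ext8 u.1 u.2) d = d) → u = (QuaternionGroup.a 1, QuaternionGroup.xa 0)) ∧
      pairs.length = 24 := by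
    have h := checks_eq
    simp only [checks, Bool.and_eq_true, List.all_eq_true, Bool.or_eq_true, Bool.not_eq_true',
      decide_eq_true_eq] at h
    refine ⟨fun u hu v hv d => h.1.1 u hu v hv d (List.mem_finRange d), fun u hu hd => ?_, h.2⟩
    refine (h.1.2 u hu).resolve_left fun hf => ?_
    rw [← Bool.not_eq_true] at hf
    exact hf (List.all_eq_true.mpr fun d _ => decide_eq_true (hd d))
  have hmul : ∀ (φ ψ : MulAut (QuaternionGroup 2)) d, toFour ⇑(φ * ψ) d = toFour φ (toFour ψ d) := by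
    intro φ ψ d
    have h := hhom _ (mem_pairs φ) _ (mem_pairs ψ) d
    rw [CfsgLib.GL2.ext8_eq φ, CfsgLib.GL2.ext8_eq ψ] at h
    rw [← CfsgLib.GL2.ext8_eq (φ * ψ)]
    exact h
  have hone : ∀ d, toFour ⇑(1 : MulAut (QuaternionGroup 2)) d = d := fun d => by
    rw [← CfsgLib.GL2.ext8_eq (1 : MulAut (QuaternionGroup 2))]
    exact toFour_id d
  let F : MulAut (QuaternionGroup 2) →* Equiv.Perm (Fin 4) :=
    { toFun := fun φ => ⟨toFour φ, toFour ⇑φ⁻¹,
        fun d => by rw [← hmul, inv_mul_cancel, hone],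
        fun d => by rw [← hmul, mul_inv_cancel, hone]⟩
      map_one' := Equiv.ext hone
      map_mul' := fun φ ψ => Equiv.ext (hmul φ ψ) }
  have hF : Function.Injective F := by
    rw [← MonoidHom.ker_eq_bot_iff, Subgroup.eq_bot_iff_forall]
    intro φ hφ
    have h := hker _ (mem_pairs φ) fun d => by
      rw [CfsgLib.GL2.ext8_eq φ]
      exact Equiv.congr_fun (MonoidHom.mem_ker.mp hφ) d
    have h2 := CfsgLib.GL2.ext8_eq φ
    rw [(Prod.mk.inj h).1, (Prod.mk.inj h).2] at h2
    refine MulEquiv.ext fun x => ?_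
    rw [← congrFun h2 x]
    exact congrFun (CfsgLib.GL2.ext8_eq (1 : MulAut (QuaternionGroup 2))) x
  have hcard : Nat.card (MulAut (QuaternionGroup 2)) = Nat.card (Equiv.Perm (Fin 4)) := by
    rw [Nat.card_perm, Nat.card_fin]
    have hb : Function.Bijective
        (fun φ : MulAut (QuaternionGroup 2) => (⟨_, mem_pairs φ⟩ : {u // u ∈ pairs})) := by
      refine ⟨fun φ ψ h => ?_, fun u => ?_⟩
      · have h1 : φ (QuaternionGroup.a 1) = ψ (QuaternionGroup.a 1) ∧
            φ (QuaternionGroup.xa 0) = ψ (QuaternionGroup.xa 0) := Prod.mk.inj (congrArg Subtype.val h)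
        refine MulEquiv.ext fun x => ?_
        rw [← congrFun (CfsgLib.GL2.ext8_eq φ) x, h1.1, h1.2, congrFun (CfsgLib.GL2.ext8_eq ψ) x]
      · obtain ⟨φ, h1, h2⟩ := valid_hom u.2
        exact ⟨φ, Subtype.ext (Prod.ext h1 h2)⟩
    rw [Nat.card_eq_of_bijective _ hb,
      ← Nat.card_congr (List.Nodup.getEquiv _ pairs_nodup), Nat.card_fin, hlen]
    rfl
  exact ⟨MulEquiv.ofBijective F ((Nat.bijective_iff_injective_and_card _).mpr ⟨hF, hcard⟩)⟩

end Cfsg.Agent.S3742
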