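import Cfsg.Statements.S0495
import Cfsg.Agent.Lib.SmallOrder.OneSixEightUnique
import Cfsg.Agent.Lib.Classical.Transvection
import Cfsg.Agent.Lib.Classical.Card

set_option autoImplicit false
set_option linter.style.haveILetI false
open Cfsg

namespace Cfsg.Agent.S0495

/-- A simple group of order 168 is isomorphic to the projective special linear group of dimension 2 over the field with
7 elements. -/
theorem result {G : Type*} [Group G] [Finite G] [IsSimpleGroup G]
    (h : Nat.card G = 168) {F : Type*} [Field F] [Fintype F] (hF : Fintype.card F = 7) :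
    Nonempty (G ≃* Matrix.ProjectiveSpecialLinearGroup (Fin 2) F) := by
  have hc : Nat.card (Matrix.ProjectiveSpecialLinearGroup (Fin 2) F) = 168 := by
    have := CfsgLib.Classical.card_PSL_two (F := F)
    rw [hF] at this
    norm_num at this
    omega
  have hne : ((2 : ℕ) : F) ≠ 0 ∧ ((3 : ℕ) : F) ≠ 0 := by
    obtain ⟨p, hp⟩ := CharP.exists F
    obtain ⟨n, hpp, hn⟩ := FiniteField.card F p
    have h7 : p = 7 := by
      have : p ∣ 7 := hF ▸ hn ▸ dvd_pow_self p n.pos.ne'
      exact ((Nat.prime_dvd_prime_iff_eq hpp (by norm_num)).mp this)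
    subst h7
    constructor <;> rw [Ne, CharP.cast_eq_zero_iff F 7] <;> norm_num
  haveI : IsSimpleGroup (Matrix.ProjectiveSpecialLinearGroup (Fin 2) F) := by
    refine CfsgLib.Classical.isSimpleGroup_PSL (Or.inr ⟨((2 : ℕ) : F), hne.1, fun e => hne.2 ?_⟩)
    have : ((2 : ℕ) : F) ^ 2 - 1 = 0 := by rw [e, sub_self]
    rw [← this]; push_cast; norm_num
  obtain ⟨e⟩ := CfsgLib.OneSixEight.nonempty_equiv_model h
  obtain ⟨e'⟩ := CfsgLib.OneSixEight.nonempty_equiv_model hc
  exact ⟨e.trans e'.symm⟩

end Cfsg.Agent.S0495
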