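import Cfsg.Statements.S0988
import Mathlib
import Cfsg.Agent.Lib.SmallOrder.Exclude
import Cfsg.Agent.Lib.SmallOrder.Klein

set_option autoImplicit false
open Cfsg

namespace Cfsg.Agent.S0988

theorem not_simple_cube {G : Type*} [Group G] [Finite G] [IsSimpleGroup G]
    (hna : ¬ IsMulCommutative G) {p r : ℕ} (hr : r.Prime) (hp : p.Prime) (hrp : r ≠ p)
    (hmin : (Nat.card G).minFac = p) (hG : Nat.card G = p ^ 3 * r) : False := by
  have := Fact.mk hr
  have := Fact.mk hp
  obtain ⟨R⟩ := (inferInstance : Nonempty (Sylow r G))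
  have hRc : Nat.card (R : Subgroup G) = r := by
    rw [R.card_eq_multiplicity, hG, Nat.factorization_mul (pow_ne_zero _ hp.ne_zero) hr.ne_zero,
      Finsupp.add_apply, Nat.Prime.factorization_pow hp, hr.factorization_self,
      Finsupp.single_eq_of_ne hrp, zero_add, pow_one]
  have hRi : (R : Subgroup G).index = p ^ 3 := by
    have h1 := (R : Subgroup G).card_mul_index
    rw [hRc, hG, mul_comm _ r] at h1
    exact Nat.eq_of_mul_eq_mul_left hr.pos h1
  obtain ⟨i, hi, hic⟩ := (Nat.dvd_prime_pow hp).mp (hRi ▸ Sylow.card_dvd_index R)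
  have hlt : p < r := lt_of_le_of_ne (hmin ▸ Nat.minFac_le_of_dvd hr.two_le (hG ▸ Dvd.intro_left _ rfl))
    hrp.symm
  have hmod : Nat.card (Sylow r G) % r = 1 := by
    have h' : Nat.card (Sylow r G) % r = 1 % r := card_sylow_modEq_one r G
    rw [h', Nat.mod_eq_of_lt hr.one_lt]
  have hn1 := CfsgLib.SmallOrder.card_sylow_ne_one (p := r) hna (hG ▸ Dvd.intro_left _ rfl)
  have hnc := CfsgLib.SmallOrder.not_coprime_of_card_sylow_eq hna R hRc (m := p ^ (3 - i))
    (by rw [hic, hG, show p ^ 3 = p ^ i * p ^ (3 - i) by rw [← pow_add, Nat.add_sub_cancel' hi]]; ring)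
  rw [hic] at hmod hn1
  interval_cases i
  · exact hn1 (pow_zero p)
  · rw [pow_one, Nat.mod_eq_of_lt hlt] at hmod
    exact hp.ne_one hmod
  · -- `r ∣ p ^ 2 - 1`, so `p = 2`, `r = 3`
    have hsd : r ∣ (p + 1) * (p - 1) := by
      rw [← Nat.sq_sub_sq p 1, one_pow]
      have := Nat.div_add_mod (p ^ 2) r
      exact ⟨p ^ 2 / r, by omega⟩
    rcases hr.dvd_mul.mp hsd with h | h
    · have hle := Nat.le_of_dvd (by omega) h
      have heq : r = p + 1 := by omega
      have hp2 : p = 2 := by
        by_contra hne
        have h3 : Even r := heq ▸ (hp.odd_of_ne_two hne).add_one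
        have := (Nat.Prime.even_iff hr).mp h3
        have := hp.two_le
        omega
      subst hp2
      subst heq
      exact CfsgLib.SmallOrder.false_of_excludedAt hna 0 3 1 8 (Or.inl rfl) Nat.prime_three
        one_ne_zero (by norm_num) (by rw [hG]; norm_num) (by decide +kernel)
    · have := hp.two_le
      have := Nat.le_of_dvd (by omega) h
      omega
  · exact hnc (Nat.coprime_one_left _)

/-- If a finite simple group has order p^2 * q * r with p, q and r prime, then its order is 60. -/
theorem result {G : Type*} [Group G] [Finite G] [IsSimpleGroup G] (p q r : ℕ) (hp : p.Prime) (hq : q.Prime) (hr : r.Prime) (hG : Nat.card G = p ^ 2 * q * r) : Nat.card G = 60 := by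
  have := Fact.mk hp
  have := Fact.mk hq
  have := Fact.mk hr
  have hnp : ¬ (Nat.card G).Prime := by
    rw [hG, mul_assoc]
    exact Nat.not_prime_mul (Nat.one_lt_pow two_ne_zero hp.one_lt).ne'
      (Nat.one_lt_mul_iff.mpr ⟨hq.pos, hr.pos, Or.inl hq.one_lt⟩).ne'
  have hna : ¬ IsMulCommutative G := CfsgLib.SmallOrder.not_comm_of_not_prime hnp
  have hp0 : p ^ 2 ≠ 0 := pow_ne_zero _ hp.ne_zero
  have fac : ∀ s : ℕ, s.Prime → (Nat.card G).factorization s =
      (if s = p then 2 else 0) + (if s = q then 1 else 0) + (if s = r then 1 else 0) := by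
    intro s _
    rw [hG, Nat.factorization_mul (Nat.mul_ne_zero hp0 hq.ne_zero) hr.ne_zero,
      Nat.factorization_mul hp0 hq.ne_zero, Nat.Prime.factorization_pow hp, Nat.Prime.factorization hq,
      Nat.Prime.factorization hr]
    simp [Finsupp.single_apply, eq_comm]
  -- the smallest prime is `p`
  have hne1 : Nat.card G ≠ 1 := by
    have := Finite.one_lt_card (α := G)
    omega
  set m := (Nat.card G).minFac with hm
  have hmp : m.Prime := Nat.minFac_prime hne1
  have := Fact.mk hmp
  obtain ⟨M⟩ := (inferInstance : Nonempty (Sylow m G))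
  have hMnc := CfsgLib.SmallOrder.not_isCyclic_minFac hna hm.symm M
  have h2m : 2 ≤ (Nat.card G).factorization m := by
    by_contra hlt
    apply hMnc
    rcases Nat.eq_zero_or_pos ((Nat.card G).factorization m) with h0 | h0
    · have h1 : Nat.card (M : Subgroup G) = 1 := by rw [M.card_eq_multiplicity, h0, pow_zero]
      have := (Nat.card_eq_one_iff_unique.mp h1).1
      exact isCyclic_of_subsingleton
    · exact isCyclic_of_prime_card (p := m) (by
        rw [M.card_eq_multiplicity, show (Nat.card G).factorization m = 1 by omega, pow_one])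
  -- otherwise the order has shape `s ^ 2 * (…)` with a prime repeated
  have hmain : ∀ p' q' r' : ℕ, p'.Prime → q'.Prime → r'.Prime → m = p' → q' ≠ p' → r' ≠ p' →
      Nat.card G = p' ^ 2 * q' * r' → Nat.card G = 60 := by
    intro p' q' r' hp' hq' hr' hmp' hqp hrp hG'
    subst hmp'
    have hMc : Nat.card (M : Subgroup G) = m ^ 2 := by
      rw [M.card_eq_multiplicity, hG', Nat.factorization_mul (Nat.mul_ne_zero (pow_ne_zero _ hp'.ne_zero) hq'.ne_zero) hr'.ne_zero,
        Nat.factorization_mul (pow_ne_zero _ hp'.ne_zero) hq'.ne_zero, Nat.Prime.factorization_pow hp',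
        Nat.Prime.factorization hq', Nat.Prime.factorization hr']
      simp [Finsupp.single_apply, hqp, hrp]
    have hcomm := IsPGroup.isMulCommutative_of_card_eq_prime_sq hMc
    set N := Subgroup.normalizer ((M : Subgroup G) : Set G) with hN
    set C := Subgroup.centralizer ((M : Subgroup G) : Set G) with hC
    have hMC : (M : Subgroup G) ≤ C := fun a ha b hb =>
      congrArg Subtype.val (hcomm.is_comm.comm (⟨b, hb⟩ : (M : Subgroup G)) ⟨a, ha⟩)
    obtain ⟨x, hxN, hxC⟩ := Set.not_subset.mp
      (CfsgLib.SmallOrder.not_normalizer_le_centralizer hna (hm ▸ Nat.minFac_dvd _) M)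
    -- an element of prime order `s ≠ m` acting nontrivially
    obtain ⟨s, hs, hsm, y, hy, hyN, hyC⟩ : ∃ s : ℕ, s.Prime ∧ s ≠ m ∧ ∃ y : G, orderOf y = s ∧ y ∈ N ∧ y ∉ C := by
      have hMi : (M : Subgroup G).index = q' * r' := by
        have h1 := (M : Subgroup G).card_mul_index
        rw [hMc, hG', mul_assoc] at h1
        exact Nat.eq_of_mul_eq_mul_left (pow_pos hp'.pos 2) h1
      set k := C.relIndex N with hk
      have hk1 : k ≠ 1 := fun h => hxC (Subgroup.relIndex_eq_one.mp h hxN)
      obtain ⟨s, hs, hsk⟩ := Nat.exists_prime_and_dvd hk1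
      have hkd : k ∣ q' * r' := hMi ▸ (Subgroup.relIndex_dvd_of_le_left _ hMC).trans
        (Subgroup.relIndex_dvd_index_of_le Subgroup.le_normalizer)
      have hsm : s ≠ m := by
        intro h
        subst h
        rcases hs.dvd_mul.mp (hsk.trans hkd) with h | h
        · exact hqp ((Nat.prime_dvd_prime_iff_eq hs hq').mp h).symm
        · exact hrp ((Nat.prime_dvd_prime_iff_eq hs hr').mp h).symm
      have := Fact.mk hs
      obtain ⟨S⟩ := (inferInstance : Nonempty (Sylow s N))
      have hSC : ¬ (S : Subgroup N) ≤ C.subgroupOf N := by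
        intro hle
        exact S.not_dvd_index (hsk.trans (Subgroup.index_dvd_of_le hle))
      obtain ⟨y, hyS, hyC⟩ := Set.not_subset.mp hSC
      have hScard : Nat.card (S : Subgroup N) ∣ s := by
        obtain ⟨j, hj⟩ := S.2.exists_card_eq
        rw [hj]
        have hd : s ^ j ∣ Nat.card G := hj ▸ (Subgroup.card_subgroup_dvd_card _).trans (Subgroup.card_subgroup_dvd_card N)
        have hj1 : j ≤ 1 := by
          by_contra hj2
          have hd2 : s ^ 2 ∣ q' * r' := by
            have h0 : s ^ 2 ∣ m ^ 2 * (q' * r') := by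
              rw [← mul_assoc, ← hG']; exact (pow_dvd_pow s (by omega)).trans hd
            exact (Nat.Coprime.pow 2 2 ((Nat.coprime_primes hs hp').mpr hsm)).dvd_of_dvd_mul_left h0
          have hqr : q' = s ∧ r' = s := by
            rcases hs.dvd_mul.mp ((dvd_pow_self s two_ne_zero).trans hd2) with h | h <;>
              obtain rfl := (Nat.prime_dvd_prime_iff_eq hs (by assumption)).mp h
            · rw [pow_two, Nat.mul_dvd_mul_iff_left hs.pos] at hd2
              exact ⟨rfl, ((Nat.prime_dvd_prime_iff_eq hs hr').mp hd2).symm⟩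
            · rw [pow_two, mul_comm q', Nat.mul_dvd_mul_iff_left hs.pos] at hd2
              exact ⟨((Nat.prime_dvd_prime_iff_eq hs hq').mp hd2).symm, rfl⟩
          -- `|G| = m ^ 2 * s ^ 2` is solvable by counting
          obtain ⟨e1, e2⟩ := hqr
          rw [e1, e2] at hG'
          have hms : m < s := lt_of_le_of_ne
            (Nat.minFac_le_of_dvd hs.two_le (hG' ▸ Dvd.intro_left _ rfl)) hsm.symm
          obtain ⟨T⟩ := (inferInstance : Nonempty (Sylow s G))
          have hTc : Nat.card (T : Subgroup G) = s ^ 2 := by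
            rw [T.card_eq_multiplicity, hG', Nat.factorization_mul (Nat.mul_ne_zero (pow_ne_zero _ hp'.ne_zero) hs.ne_zero) hs.ne_zero,
              Nat.factorization_mul (pow_ne_zero _ hp'.ne_zero) hs.ne_zero, Nat.Prime.factorization_pow hp',
              Nat.Prime.factorization hs]
            simp [Finsupp.single_apply, hsm.symm]
          have hTi : (T : Subgroup G).index = m ^ 2 := by
            have h1 := (T : Subgroup G).card_mul_index
            rw [hTc, hG', show m ^ 2 * s * s = s ^ 2 * m ^ 2 by ring] at h1
            exact Nat.eq_of_mul_eq_mul_left (pow_pos hs.pos 2) h1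
          obtain ⟨i, hi, hic⟩ := (Nat.dvd_prime_pow hp').mp (hTi ▸ Sylow.card_dvd_index T)
          have hmod : Nat.card (Sylow s G) % s = 1 := by
            have h' : Nat.card (Sylow s G) % s = 1 % s := card_sylow_modEq_one s G
            rw [h', Nat.mod_eq_of_lt hs.one_lt]
          have hn1 := CfsgLib.SmallOrder.card_sylow_ne_one (p := s) hna (hG' ▸ Dvd.intro_left _ rfl)
          rw [hic] at hmod hn1
          interval_cases i
          · exact hn1 (pow_zero m)
          · rw [pow_one, Nat.mod_eq_of_lt hms] at hmod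
            exact hp'.ne_one hmod
          · obtain ⟨c, hc⟩ : s ∣ m ^ 2 - 1 := by
              have := Nat.div_add_mod (m ^ 2) s
              exact ⟨m ^ 2 / s, by omega⟩
            have hsd : s ∣ (m + 1) * (m - 1) := by
              rw [← Nat.sq_sub_sq m 1, one_pow]
              exact ⟨c, hc⟩
            rcases hs.dvd_mul.mp hsd with h | h
            · have hle := Nat.le_of_dvd (by omega) h
              have heq : s = m + 1 := by omega
              have hm2 : m = 2 := by
                by_contra hne
                have h2 := hp'.odd_of_ne_two hne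
                have h3 : Even s := heq ▸ h2.add_one
                have := (Nat.Prime.even_iff hs).mp h3
                have := hp'.two_le
                omega
              subst heq
              rw [hm2] at hG'
              exact CfsgLib.SmallOrder.false_of_excludedAt hna 0 3 2 4 (Or.inl rfl) Nat.prime_three
                two_ne_zero (by norm_num) (hG'.trans (by norm_num)) (by decide +kernel)
            · have := hp'.two_le
              have := Nat.le_of_dvd (by omega) h
              omega
        interval_cases j <;> simp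
      refine ⟨s, hs, hsm, y, ?_, y.2, hyC⟩
      have hy1 : y ≠ 1 := fun h => hyC (by rw [h]; exact one_mem (C.subgroupOf N))
      refine orderOf_eq_prime (orderOf_dvd_iff_pow_eq_one.mp ?_) fun h => hy1 (Subtype.ext h)
      have h1 : orderOf y ∣ s := by
        rw [← Subgroup.orderOf_mk y hyS]
        exact (orderOf_dvd_natCard _).trans hScard
      rwa [Subgroup.orderOf_coe]
    have := Fact.mk hs
    have hd : s ∣ Nat.card G := hy ▸ orderOf_dvd_natCard y
    have hsle : m ≤ s := Nat.minFac_le_of_dvd hs.two_le hd
    have hlt : m < s := lt_of_le_of_ne hsle hsm.symm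
    have hmm : 2 ≤ m := hp'.two_le
    have hsm1 : s = m + 1 := by
      rcases CfsgLib.SmallOrder.dvd_of_acts_on_card_sq (M : Subgroup G) hMc y hy hyN hyC with h | h
      · rw [← one_pow 2, Nat.sq_sub_sq] at h
        rcases hs.dvd_mul.mp h with h | h
        · have := Nat.le_of_dvd (by omega) h
          omega
        · have := Nat.le_of_dvd (by omega) h
          omega
      · rw [pow_two, ← Nat.mul_sub_one] at h
        rcases hs.dvd_mul.mp h with h | h
        · have := Nat.le_of_dvd (by omega) h
          omega
        · have := Nat.le_of_dvd (by omega) h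
          omega
    have hm2 : m = 2 := by
      by_contra hne
      have h3 : Even s := hsm1 ▸ (hp'.odd_of_ne_two hne).add_one
      have := (Nat.Prime.even_iff hs).mp h3
      omega
    have hs3 : s = 3 := by omega
    subst hs3
    rw [hm2] at hG' hqp hrp
    -- `3` is one of `q'`, `r'`
    obtain ⟨t, ht, ht2, hGt⟩ : ∃ t : ℕ, t.Prime ∧ t ≠ 2 ∧ Nat.card G = 2 ^ 2 * 3 * t := by
      have h3 : 3 ∣ 2 ^ 2 * q' * r' := hG' ▸ hd
      rcases hs.dvd_mul.mp h3 with h | h
      · rcases hs.dvd_mul.mp h with h' | h'
        · norm_num at h'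
        · obtain rfl := (Nat.prime_dvd_prime_iff_eq hs hq').mp h'
          exact ⟨r', hr', hrp, hG'⟩
      · obtain rfl := (Nat.prime_dvd_prime_iff_eq hs hr').mp h
        exact ⟨q', hq', hqp, by rw [hG']; ring⟩
    have := Fact.mk ht
    by_cases ht3 : t = 3
    · exact (CfsgLib.SmallOrder.false_of_excludedAt hna 0 3 2 4 (Or.inl rfl) Nat.prime_three two_ne_zero
        (by norm_num) (by rw [hGt, ht3]; norm_num) (by decide +kernel)).elim
    by_cases ht5 : t = 5
    · rw [hGt, ht5]; norm_num
    exfalso
    have ht7 : 7 ≤ t := by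
      have := ht.two_le
      by_contra hcon
      interval_cases t <;> revert ht <;> norm_num <;> omega
    obtain ⟨T⟩ := (inferInstance : Nonempty (Sylow t G))
    have htd : ¬ t ∣ 12 := fun h => by
      have := Nat.le_of_dvd (by norm_num) h
      interval_cases t <;> revert h <;> revert ht <;> norm_num
    have hTc : Nat.card (T : Subgroup G) = t := by
      rw [T.card_eq_multiplicity, hGt, Nat.factorization_mul (by norm_num) ht.ne_zero, Finsupp.add_apply,
        Nat.factorization_eq_zero_of_not_dvd (by simpa using htd), ht.factorization_self, zero_add,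
        pow_one]
    have hTi : (T : Subgroup G).index = 12 := by
      have h1 := (T : Subgroup G).card_mul_index
      rw [hTc, hGt, mul_comm _ t] at h1
      exact (Nat.eq_of_mul_eq_mul_left ht.pos h1).trans (by norm_num)
    have hd12 : Nat.card (Sylow t G) ∣ 12 := hTi ▸ Sylow.card_dvd_index T
    have hmod : Nat.card (Sylow t G) % t = 1 := by
      have h' : Nat.card (Sylow t G) % t = 1 % t := card_sylow_modEq_one t G
      rw [h', Nat.mod_eq_of_lt ht.one_lt]
    have hn1 := CfsgLib.SmallOrder.card_sylow_ne_one (p := t) hna (hGt ▸ Dvd.intro_left _ rfl)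
    have h12 : Nat.card (Sylow t G) = 12 := by
      have hle := Nat.le_of_dvd (by norm_num) hd12
      rcases Nat.lt_or_ge (Nat.card (Sylow t G)) t with hlt' | hge
      · exact absurd ((Nat.mod_eq_of_lt hlt').symm.trans hmod) hn1
      · interval_cases hc : Nat.card (Sylow t G) <;> omega
    exact CfsgLib.SmallOrder.not_coprime_of_card_sylow_eq hna T hTc (m := 1)
      (by rw [h12, hGt]; ring) (Nat.coprime_one_left _)
  have hcases : m = p ∨ (m ≠ p ∧ q = m ∧ r = m) := by
    by_cases h : m = p
    · exact Or.inl h
    · refine Or.inr ⟨h, ?_⟩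
      rw [fac m hmp, if_neg h] at h2m
      split_ifs at h2m with ha hb <;> first | omega | exact ⟨ha.symm, hb.symm⟩
  rcases hcases with h | ⟨h, hq', hr'⟩
  · by_cases hqp : q = p
    · -- `|G| = p ^ 3 * r`
      exfalso
      by_cases hrp : r = p
      · obtain ⟨P⟩ := (inferInstance : Nonempty (Sylow p G))
        apply CfsgLib.SmallOrder.sylow_ne_top hna P
        apply Subgroup.eq_top_of_card_eq
        rw [P.card_eq_multiplicity, hG, hqp, hrp, show p ^ 2 * p * p = p ^ 4 by ring,
          Nat.Prime.factorization_pow hp, Finsupp.single_eq_same]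
      · exact not_simple_cube hna hr hp hrp (h ▸ hm.symm ▸ rfl) (by rw [hG, hqp]; ring)
    · by_cases hrp : r = p
      · exact (not_simple_cube hna hq hp hqp (h ▸ hm.symm ▸ rfl) (by rw [hG, hrp]; ring)).elim
      · exact hmain p q r hp hq hr h hqp hrp hG
  · exact hmain m p p hmp hp hp rfl (Ne.symm h) (Ne.symm h) (by rw [hG, hq', hr']; ring)

end Cfsg.Agent.S0988
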