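import Cfsg.Statements.S4500
import Cfsg.Agent.Lib.Blocks.BrauerFeit
import Cfsg.Agent.Lib.Blocks.PairConj
import Cfsg.Agent.S0907
import Cfsg.Agent.S0144
import Cfsg.Agent.Lib.Char.Basic

set_option autoImplicit false
open Cfsg
open scoped CfsgLib.Char

namespace Cfsg.Agent.S4500

/-- Let G be a non-trivial finite group of order p^a · q^b · r^c with p, q, r distinct primes and a ≤ 2. Then G has a non-principal irreducible character whose degree is a power of q, and a non-principal irreducible character whose degree is a power of r; the power may be the zeroth, so a non-principal linear character serves for both. -/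
theorem result {G : Type*} [Group G] [Finite G] [Nontrivial G] (p q r a b c : ℕ) (hp : p.Prime) (hq : q.Prime) (hr : r.Prime) (hpq : p ≠ q) (hpr : p ≠ r) (hqr : q ≠ r) (ha : a ≤ 2) (hG : Nat.card G = p ^ a * q ^ b * r ^ c) : (∃ χ : Cfsg.IrrCharacter G, (χ : G → ℂ) ≠ (fun _ => 1) ∧ ∃ k : ℕ, Cfsg.charDegree (χ : G → ℂ) = q ^ k) ∧ ∃ χ : Cfsg.IrrCharacter G, (χ : G → ℂ) ≠ (fun _ => 1) ∧ ∃ k : ℕ, Cfsg.charDegree (χ : G → ℂ) = r ^ k := by
  classical
  haveI := Fintype.ofFinite G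
  haveI := Fact.mk hp
  by_cases hlin : ∃ f : G →* ℂˣ, f ≠ 1
  · obtain ⟨f, hf⟩ := hlin
    have hne : (fun g => (f g : ℂ)) ≠ fun _ => 1 := fun h => hf (MonoidHom.ext fun g => Units.ext (congrFun h g))
    have hd : Cfsg.charDegree (fun g : G => (f g : ℂ)) = 1 := by simp [Cfsg.charDegree]
    exact ⟨⟨⟨_, CfsgLib.Char.isIrrCharacter_monoidHom f⟩, hne, 0, by rw [pow_zero]; exact hd⟩,
      ⟨⟨_, CfsgLib.Char.isIrrCharacter_monoidHom f⟩, hne, 0, by rw [pow_zero]; exact hd⟩⟩
  have hsol : ¬ Group.IsSolvable G := fun hs => by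
    haveI := hs
    have hlt : commutator G < ⊤ := Group.IsSolvable.commutator_lt_top_of_nontrivial G
    obtain ⟨g, -, hg⟩ := SetLike.exists_of_lt hlt
    have hg' : Abelianization.of g ≠ 1 := fun h => hg (by
      rw [← Abelianization.ker_of G, MonoidHom.mem_ker, h])
    haveI : Finite (Abelianization G) := inferInstance
    haveI : HasEnoughRootsOfUnity ℂ (Monoid.exponent (Abelianization G)) := inferInstance
    obtain ⟨φ, hφ⟩ := CommGroup.exists_apply_ne_one_of_hasEnoughRootsOfUnity (Abelianization G) ℂ hg'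
    exact hlin ⟨φ.comp Abelianization.of, fun h => hφ (DFunLike.congr_fun h g)⟩
  have ha0 : a ≠ 0 := fun h => hsol (Cfsg.Agent.S0144.result q r b c hq hr (by rw [hG, h, pow_zero, one_mul]))
  obtain ⟨M, hM⟩ := CfsgLib.Blocks.exists_isPModular (p := p) hp
  obtain ⟨y, hy⟩ := exists_prime_orderOf_dvd_card' (G := G) p
    (by rw [hG]; exact ((dvd_pow_self p ha0).mul_right _).mul_right _)
  haveI := CfsgLib.Blocks.isPrime_of_isPModular hM
  set B := Cfsg.principalBlock M G with hB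
  have hBB : Cfsg.IsPBlock M B := ⟨CfsgLib.Blocks.trivIrr G, rfl⟩
  have hT : CfsgLib.Blocks.trivIrr G ∈ B := CfsgLib.Blocks.trivIrr_mem_principalBlock G
  have hfac : (Nat.card G).factorization p ≤ 2 := by
    have h1 : ¬ p ∣ q ^ b * r ^ c := fun h => by
      rcases hp.dvd_mul.mp h with h' | h'
      · exact hpq ((Nat.prime_dvd_prime_iff_eq hp hq).mp (hp.dvd_of_dvd_pow h'))
      · exact hpr ((Nat.prime_dvd_prime_iff_eq hp hr).mp (hp.dvd_of_dvd_pow h'))
    rw [hG, mul_assoc, Nat.factorization_mul (pow_ne_zero _ hp.ne_zero)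
      (mul_ne_zero (pow_ne_zero _ hq.ne_zero) (pow_ne_zero _ hr.ne_zero)), Finsupp.add_apply,
      Nat.factorization_eq_zero_of_not_dvd h1, Nat.Prime.factorization_pow hp, Finsupp.single_eq_same]
    omega
  have hinf : sInf ((fun χ : Cfsg.IrrCharacter G => (Cfsg.charDegree (χ : G → ℂ)).factorization p) '' B) = 0 :=
    Nat.le_zero.mp (Nat.sInf_le ⟨CfsgLib.Blocks.trivIrr G, hT, by simp [CfsgLib.Blocks.trivIrr, Cfsg.charDegree]⟩)
  have hp' : ∀ χ ∈ B, ¬ p ∣ Cfsg.charDegree ((χ : Cfsg.IrrCharacter G) : G → ℂ) := by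
    intro χ hχ hdvd
    have hd0 := (CfsgLib.Blocks.irr_degree_eq χ).2
    have hpos : Cfsg.blockHeight p B (χ : G → ℂ) ≠ 0 := by
      rw [Cfsg.blockHeight, hinf, Nat.sub_zero]
      exact (hp.factorization_pos_of_dvd hd0.ne' hdvd).ne'
    have h2 := (CfsgLib.Blocks.height_lt_and_sum_height_zero_le hM hBB hχ hpos).1
    rw [Cfsg.blockDefect, hinf, Nat.sub_zero] at h2
    have : 1 ≤ Cfsg.blockHeight p B (χ : G → ℂ) := Nat.one_le_iff_ne_zero.mpr hpos
    omega
  have h0 := Cfsg.Agent.S0907.result p M hM B hBB 1 y (by rw [orderOf_one]; exact hp.not_dvd_one)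
    (by rw [hy])
  rw [finsum_mem_eq_finite_toFinset_sum _ (Set.toFinite _)] at h0
  have hTm : CfsgLib.Blocks.trivIrr G ∈ (Set.toFinite B).toFinset := (Set.Finite.mem_toFinset _).mpr hT
  rw [← Finset.add_sum_erase _ _ hTm] at h0
  have main : ∀ (s t β γ : ℕ), s.Prime → t.Prime → Nat.card G = p ^ a * s ^ β * t ^ γ →
      ∃ χ : Cfsg.IrrCharacter G, (χ : G → ℂ) ≠ (fun _ => 1) ∧ ∃ k : ℕ, Cfsg.charDegree (χ : G → ℂ) = s ^ k := by
    intro s t β γ hs ht hcard
    by_contra hno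
    push Not at hno
    have hterm : ∀ χ ∈ (Set.toFinite B).toFinset.erase (CfsgLib.Blocks.trivIrr G),
        IsIntegral ℤ ((χ : G → ℂ) 1 * (starRingEnd ℂ) ((χ : G → ℂ) y) / (t : ℂ)) := by
      intro χ hχ
      obtain ⟨hne, hχB⟩ := Finset.mem_erase.mp hχ
      rw [Set.Finite.mem_toFinset] at hχB
      obtain ⟨d, hd, -, hdvd⟩ := CfsgLib.Char.exists_degree_dvd_card χ.2
      have hdeg : Cfsg.charDegree (χ : G → ℂ) = d := by
        have h1 := (CfsgLib.Blocks.irr_degree_eq χ).1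
        rw [hd] at h1
        exact_mod_cast h1.symm
      rw [hcard] at hdvd
      by_cases htd : t ∣ d
      · obtain ⟨e, rfl⟩ := htd
        rw [hd, Nat.cast_mul, mul_assoc, mul_div_cancel_left₀ _ (Nat.cast_ne_zero.mpr ht.ne_zero : (t : ℂ) ≠ 0)]
        exact (by simpa using isIntegral_algebraMap (R := ℤ) (A := ℂ) (x := (e : ℤ)) :
          IsIntegral ℤ ((e : ℕ) : ℂ)).mul (CfsgLib.Blocks.irr_conj_isIntegral χ.2 _)
      · exfalso
        have h1 : Nat.Coprime d (t ^ γ) := ((ht.coprime_iff_not_dvd.mpr htd).pow_left γ).symm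
        have h2 : Nat.Coprime d (p ^ a) :=
          ((hp.coprime_iff_not_dvd.mpr (hdeg ▸ hp' χ hχB)).pow_left a).symm
        obtain ⟨k, -, hk⟩ := (Nat.dvd_prime_pow hs).mp
          (h2.dvd_of_dvd_mul_left (h1.dvd_of_dvd_mul_right hdvd))
        exact hno χ (fun h => hne (Subtype.ext h)) k (hdeg.trans hk)
    have hint := IsIntegral.sum _ hterm
    rw [← Finset.sum_div, eq_neg_of_add_eq_zero_right h0] at hint
    have h1 : IsIntegral ℤ (((1 : ℕ) : ℂ) / ((t : ℕ) : ℂ)) := by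
      have h := hint.neg
      simpa [CfsgLib.Blocks.trivIrr, neg_div] using h
    exact ht.not_dvd_one (CfsgLib.Char.dvd_of_isIntegral_div ht.ne_zero h1)
  exact ⟨main q r b c hq hr hG, main r q c b hr hq (by rw [hG]; ring)⟩

end Cfsg.Agent.S4500
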