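import Cfsg.Statements.S3007
import Cfsg.Agent.Lib.CD.Basic

set_option autoImplicit false
open Cfsg CfsgLib

namespace Cfsg.Agent.S3007

open scoped commutatorElement

variable {P : Type*} [Group P] [Finite P]

/-- `Q = (Q ∩ R) Z(Q)`. -/
theorem split (Q R : Subgroup P) (hQ : Cfsg.IsMinimalCentrallyLarge Q)
    (hR : Cfsg.IsMinimalCentrallyLarge R) :
    (Q ⊓ R) ⊔ Subgroup.centralizer (Q : Set P) = Q := by
  obtain ⟨hQl, hCQ⟩ := CD.centrallyLarge_iff.mp hQ.1
  obtain ⟨hRl, hCR⟩ := CD.centrallyLarge_iff.mp hR.1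
  obtain ⟨-, hI, -, hset, hCI⟩ := CD.large_pair hQl hRl
  set X := (Q ⊓ R) ⊔ Subgroup.centralizer (Q : Set P) with hX
  refine hQ.2 X (sup_le inf_le_left hCQ) (CD.centrallyLarge_iff.mpr
    ⟨(CD.large_pair hI (CD.large_centralizer hQl).1).1, ?_⟩)
  rw [hX, CD.centralizer_sup, ← (CD.large_centralizer hQl).2, hCI]
  rintro y ⟨hy, hyQ⟩
  replace hy : y ∈ ((Subgroup.centralizer (Q : Set P) ⊔ Subgroup.centralizer (R : Set P) : Subgroup P) : Set P) := hy
  rw [hset] at hy
  obtain ⟨u, hu, v, hv, rfl⟩ := hy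
  refine Subgroup.mul_mem _ (Subgroup.mem_sup_right hu) (Subgroup.mem_sup_left ⟨?_, hCR hv⟩)
  simpa using Q.mul_mem (Q.inv_mem (hCQ hu)) hyQ

theorem inf_centralizer_eq (Q R : Subgroup P) (hQ : Cfsg.IsMinimalCentrallyLarge Q)
    (hR : Cfsg.IsMinimalCentrallyLarge R) :
    Subgroup.centralizer (Q : Set P) ⊓ R =
      Subgroup.centralizer (Q : Set P) ⊓ Subgroup.centralizer (R : Set P) := by
  refine le_antisymm (le_inf inf_le_left ?_) (inf_le_inf_left _ (CD.centrallyLarge_iff.mp hR.1).2)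
  have hsplit := split R Q hR hQ
  rintro x ⟨hxZ, hxR⟩
  suffices h : R ≤ Subgroup.centralizer ({x} : Set P) from fun r hr =>
    Subgroup.mem_centralizer_singleton_iff.mp (h hr)
  refine hsplit.symm.trans_le (sup_le (fun r hr => ?_) fun r hr => ?_)
  · exact Subgroup.mem_centralizer_singleton_iff.mpr (hxZ r hr.2)
  · exact Subgroup.mem_centralizer_singleton_iff.mpr (hr x hxR).symm

theorem uniform (Q R : Subgroup P) (hQ : Cfsg.IsMinimalCentrallyLarge Q)
    (hR : Cfsg.IsMinimalCentrallyLarge R) :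
    ⁅Q, Q⁆ = ⁅R, R⁆ ∧ Nat.card Q = Nat.card R ∧
      Nat.card (Subgroup.centralizer (Q : Set P)) = Nat.card (Subgroup.centralizer (R : Set P)) := by
  have hder : ∀ Q R : Subgroup P, Cfsg.IsMinimalCentrallyLarge Q → Cfsg.IsMinimalCentrallyLarge R →
      ⁅Q, Q⁆ ≤ ⁅R, R⁆ := by
    intro Q R hQ hR
    have hs := split Q R hQ hR
    set Z := Subgroup.centralizer (Q : Set P) with hZdef
    have hCQ := (CD.centrallyLarge_iff.mp hQ.1).2
    rw [Subgroup.commutator_le]
    intro a ha b hb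
    have hn : Z ≤ Subgroup.normalizer ((Q ⊓ R : Subgroup P) : Set P) :=
      (Subgroup.centralizer_le inf_le_left).trans (Subgroup.centralizer_le_normalizer _)
    rw [← hs, sup_comm, ← SetLike.mem_coe,
      Subgroup.coe_mul_of_left_le_normalizer_right Z (Q ⊓ R) hn] at ha hb
    obtain ⟨z, hz, x, hx, rfl⟩ := ha
    obtain ⟨w, hw, y, hy, rfl⟩ := hb
    have e : ⁅z * x, w * y⁆ = ⁅x, y⁆ := by
      have h1 : Commute x w := hw x hx.1
      have h2 : Commute z y := (hz y hy.1).symm
      have h3 : Commute z x := (hz x hx.1).symm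
      have h4 : Commute z w := (hz w (hCQ hw)).symm
      have h5 : Commute w y := (hw y hy.1).symm
      have k1 : ⁅z * x, w * y⁆ = ⁅x, w * y⁆ := by
        rw [show ⁅z * x, w * y⁆ = z * ⁅x, w * y⁆ * z⁻¹ * ⁅z, w * y⁆ by
          simp only [commutatorElement_def]; group,
          commutatorElement_eq_one_iff_commute.mpr (h4.mul_right h2), mul_one]
        have : Commute z ⁅x, w * y⁆ := by
          rw [commutatorElement_def]
          exact ((h3.mul_right (h4.mul_right h2)).mul_right h3.inv_right).mul_right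
            (h4.mul_right h2).inv_right
        rw [this.eq, mul_inv_cancel_right]
      rw [k1, show ⁅x, w * y⁆ = ⁅x, w⁆ * (w * ⁅x, y⁆ * w⁻¹) by
        simp only [commutatorElement_def]; group,
        commutatorElement_eq_one_iff_commute.mpr h1, one_mul]
      have : Commute w ⁅x, y⁆ := by
        rw [commutatorElement_def]
        exact ((h1.symm.mul_right h5).mul_right h1.symm.inv_right).mul_right h5.inv_right
      rw [this.eq, mul_inv_cancel_right]
    rw [e]
    exact Subgroup.commutator_mem_commutator hx.2 hy.2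
  have hcount : ∀ Q R : Subgroup P, Cfsg.IsMinimalCentrallyLarge Q →
      Cfsg.IsMinimalCentrallyLarge R →
      Nat.card ↥(Q ⊓ R) * Nat.card (Subgroup.centralizer (Q : Set P)) =
        Nat.card Q * Nat.card ↥(Subgroup.centralizer (Q : Set P) ⊓ Subgroup.centralizer (R : Set P)) := by
    intro Q R hQ hR
    have hs := split Q R hQ hR
    obtain ⟨hQl, hCQ⟩ := CD.centrallyLarge_iff.mp hQ.1
    obtain ⟨hRl, -⟩ := CD.centrallyLarge_iff.mp hR.1
    obtain ⟨-, hI, -, -, -⟩ := CD.large_pair hQl hRl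
    obtain ⟨-, -, hset, -, -⟩ := CD.large_pair hI (CD.large_centralizer hQl).1
    have h := CD.card_mul_set (Q ⊓ R) (Subgroup.centralizer (Q : Set P))
    rw [← hset, SetLike.coe_sort_coe] at h
    rw [h, hs]
    congr 2
    rw [inf_right_comm, inf_eq_right.mpr hCQ, inf_centralizer_eq Q R hQ hR]
  refine ⟨le_antisymm (hder Q R hQ hR) (hder R Q hR hQ), ?_⟩
  have h1 := hcount Q R hQ hR
  have h2 := hcount R Q hR hQ
  rw [inf_comm R Q, inf_comm (Subgroup.centralizer (R : Set P))] at h2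
  have hm : Nat.card Q * Nat.card (Subgroup.centralizer (Q : Set P)) =
      Nat.card R * Nat.card (Subgroup.centralizer (R : Set P)) :=
    (CD.centrallyLarge_iff.mp hQ.1).1.trans (CD.centrallyLarge_iff.mp hR.1).1.symm
  set q := Nat.card Q
  set r := Nat.card R
  set z := Nat.card (Subgroup.centralizer (Q : Set P))
  set w := Nat.card (Subgroup.centralizer (R : Set P))
  set i := Nat.card ↥(Q ⊓ R)
  set j := Nat.card ↥(Subgroup.centralizer (Q : Set P) ⊓ Subgroup.centralizer (R : Set P))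
  have hi : 0 < i := Nat.card_pos
  have hj : 0 < j := Nat.card_pos
  have hqr : q * q = r * r := by
    refine Nat.eq_of_mul_eq_mul_right hj ?_
    calc q * q * j = q * (q * j) := by ring
      _ = q * (i * z) := by rw [h1]
      _ = i * (q * z) := by ring
      _ = i * (r * w) := by rw [hm]
      _ = r * (i * w) := by ring
      _ = r * (r * j) := by rw [h2]
      _ = r * r * j := by ring
  have hq : q = r := Nat.mul_self_inj.mp hqr
  exact ⟨hq, Nat.eq_of_mul_eq_mul_left hi (by rw [h1, h2, hq])⟩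

/-- Let P be a finite p-group and Q, R minimal centrally large subgroups of P (centrally large: |Q|·|Z(Q)| maximal among subgroups of P; minimal among such under inclusion). Then Q = (Q ∩ R)·Z(Q), the derived subgroups [Q, Q] and [R, R] coincide, |Q| = |R| and |Z(Q)| = |Z(R)|; and if Q is abelian then the minimal centrally large subgroups of P are exactly the abelian subgroups of P of largest order. -/
theorem result {p : ℕ} [Fact p.Prime] (P : Type*) [Group P] [Finite P] (hP : IsPGroup p P) (Q R : Subgroup P) (hQ : Cfsg.IsMinimalCentrallyLarge Q) (hR : Cfsg.IsMinimalCentrallyLarge R) : (Q ⊓ R) ⊔ (Q ⊓ Subgroup.centralizer (Q : Set P)) = Q ∧ ⁅Q, Q⁆ = ⁅R, R⁆ ∧ Nat.card ↥Q = Nat.card ↥R ∧ Nat.card ↥(Q ⊓ Subgroup.centralizer (Q : Set P)) = Nat.card ↥(R ⊓ Subgroup.centralizer (R : Set P)) ∧ (IsMulCommutative ↥Q → ∀ X : Subgroup P, Cfsg.IsMinimalCentrallyLarge X ↔ X ∈ Cfsg.maxAbelianSubgroups P) := by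
  obtain ⟨hQl, hCQ⟩ := CD.centrallyLarge_iff.mp hQ.1
  obtain ⟨hRl, hCR⟩ := CD.centrallyLarge_iff.mp hR.1
  have eQ : Q ⊓ Subgroup.centralizer (Q : Set P) = Subgroup.centralizer (Q : Set P) := inf_eq_right.mpr hCQ
  have eR : R ⊓ Subgroup.centralizer (R : Set P) = Subgroup.centralizer (R : Set P) := inf_eq_right.mpr hCR
  have e1 := split Q R hQ hR
  obtain ⟨h2, h3, h4⟩ := uniform Q R hQ hR
  rw [eQ, eR]
  refine ⟨e1, h2, h3, h4, fun hab X => ?_⟩
  have hQc : Subgroup.centralizer (Q : Set P) = Q := le_antisymm hCQ fun a ha b hb =>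
    congrArg Subtype.val (mul_comm' (⟨b, hb⟩ : Q) ⟨a, ha⟩)
  have hM : Nat.card Q * Nat.card Q = maxCentralizerProduct P := by
    have : Nat.card Q * Nat.card (Subgroup.centralizer (Q : Set P)) = _ := hQl
    rwa [hQc] at this
  have hle : ∀ B : Subgroup P, IsMulCommutative B → Nat.card B ≤ Nat.card Q := by
    intro B hB
    have h := (Nat.mul_le_mul_left (Nat.card B) (Subgroup.card_le_of_le
      (show B ≤ Subgroup.centralizer (B : Set P) from fun a ha b hb =>
        congrArg Subtype.val (mul_comm' (⟨b, hb⟩ : B) ⟨a, ha⟩)))).trans (CD.le_max B)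
    rw [← hM] at h
    exact Nat.mul_self_le_mul_self_iff.mp h
  constructor
  · intro hX
    obtain ⟨hd, hc, -⟩ := uniform Q X hQ hX
    have hQQ : ⁅Q, Q⁆ = ⊥ := Subgroup.commutator_eq_bot_iff_le_centralizer.mpr hQc.ge
    rw [hd, Subgroup.commutator_eq_bot_iff_le_centralizer] at hQQ
    exact ⟨⟨⟨fun a b => Subtype.ext (hQQ b.2 a a.2)⟩⟩, fun B hB => hc ▸ hle B hB⟩
  · rintro ⟨hXc, hXm⟩
    have hcard : Nat.card X = Nat.card Q := le_antisymm (hle X hXc) (hXm Q hab)
    have hXC : X ≤ Subgroup.centralizer (X : Set P) := fun a ha b hb =>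
      congrArg Subtype.val (mul_comm' (⟨b, hb⟩ : X) ⟨a, ha⟩)
    have h := (Nat.mul_le_mul_left (Nat.card X) (Subgroup.card_le_of_le hXC)).trans (CD.le_max X)
    have hCX : Subgroup.centralizer (X : Set P) = X := by
      refine (Subgroup.eq_of_le_of_card_ge hXC ?_).symm
      have h' := CD.le_max X
      rw [CD.meas, ← hM, ← hcard] at h'
      exact Nat.le_of_mul_le_mul_left h' Nat.card_pos
    refine ⟨CD.centrallyLarge_iff.mpr ⟨?_, hCX.le⟩, fun R' hR' hR'l => le_antisymm hR' ?_⟩
    · show Nat.card X * Nat.card (Subgroup.centralizer (X : Set P)) = _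
      rw [hCX, hcard, hM]
    · exact (hXC.trans (Subgroup.centralizer_le hR')).trans (CD.centrallyLarge_iff.mp hR'l).2

end Cfsg.Agent.S3007
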