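import Cfsg.Statements.S0606
import Cfsg.Agent.Lib.Coprime.Action
-- import your own Cfsg.Agent.* helpers here

set_option autoImplicit false
open Cfsg

namespace Cfsg.Agent.S0606

theorem elem_sup {G : Type*} [Group G] {p : ℕ} {A B : Subgroup G} (hA : IsElementaryAbelian p A)
    (hB : IsElementaryAbelian p B) (hc : B ≤ Subgroup.centralizer (A : Set G)) :
    IsElementaryAbelian p (A ⊔ B : Subgroup G) := by
  have hle : B ≤ Subgroup.normalizer (A : Set G) := hc.trans (Subgroup.centralizer_le_normalizer _)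
  have hmem : ∀ x ∈ A ⊔ B, ∃ a ∈ A, ∃ b ∈ B, a * b = x := by
    intro x hx
    rw [← SetLike.mem_coe, Subgroup.coe_mul_of_right_le_normalizer_left A B hle] at hx
    exact hx
  obtain ⟨hAc, hAp⟩ := hA
  obtain ⟨hBc, hBp⟩ := hB
  refine ⟨⟨⟨fun x y => ?_⟩⟩, fun x hx => ?_⟩
  · obtain ⟨a, ha, b, hb, e⟩ := hmem x x.2
    obtain ⟨c, hc', d, hd, e'⟩ := hmem y y.2
    have h1 : Commute a c := congrArg Subtype.val (mul_comm' (⟨a, ha⟩ : A) ⟨c, hc'⟩)
    have h2 : Commute b d := congrArg Subtype.val (mul_comm' (⟨b, hb⟩ : B) ⟨d, hd⟩)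
    have h3 : Commute a d := hc hd a ha
    have h4 : Commute c b := hc hb c hc'
    refine Subtype.ext ?_
    show (x : G) * y = y * x
    rw [← e, ← e']
    exact ((h1.mul_right h3).mul_left (h4.symm.mul_right h2)).eq
  · obtain ⟨a, ha, b, hb, rfl⟩ := hmem x hx
    have hab : Commute a b := hc hb a ha
    rw [hab.mul_pow, hAp a ha, hBp b hb, one_mul]

/-- Elementary abelian p-subgroups of maximal order are best offenders on any normal elementary abelian p-subgroup. -/
theorem result {G : Type*} [Group G] [Finite G] {p : ℕ} [Fact p.Prime] (V : Subgroup G) [V.Normal] (hV : Cfsg.IsElementaryAbelian p V) (A : Subgroup G) (hA : A ∈ Cfsg.maxElementaryAbelianSubgroups p G) : Cfsg.IsBestOffenderOn p V A := by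
  have hsub : ∀ {X Y : Subgroup G}, X ≤ Y → IsElementaryAbelian p Y → IsElementaryAbelian p X :=
    fun {X Y} hXY hY => ⟨⟨⟨fun a b => Subtype.ext (show (a : G) * b = b * a from congrArg Subtype.val
      (hY.1.is_comm.comm (⟨a, hXY a.2⟩ : Y) ⟨b, hXY b.2⟩))⟩⟩, fun a ha => hY.2 a (hXY ha)⟩
  obtain ⟨hAe, hAm⟩ := hA
  have hAA : A ≤ Subgroup.centralizer (A : Set G) := fun a ha b hb =>
    congrArg Subtype.val (hAe.1.is_comm.comm (⟨b, hb⟩ : A) ⟨a, ha⟩)
  have hW : V ⊓ Subgroup.centralizer (A : Set G) = A ⊓ V := by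
    refine le_antisymm (le_inf ?_ inf_le_left) (le_inf inf_le_right (inf_le_left.trans hAA))
    have h := Subgroup.eq_of_le_of_card_ge le_sup_left
      (hAm _ (elem_sup hAe (hsub inf_le_left hV) inf_le_right))
    exact le_sup_right.trans h.ge
  refine ⟨fun B hB => ?_, ?_, fun a ha => by rw [hAe.2 a ha]; exact one_mem _⟩
  · set U := V ⊓ Subgroup.centralizer (B : Set G) with hU
    have hE := hAm _ (elem_sup (hsub hB hAe) (hsub (inf_le_left : U ≤ V) hV) inf_le_right)
    have hc := CfsgLib.Coprime.card_sup_mul_card_inf (K := B) (S := U)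
      (inf_le_right.trans (Subgroup.centralizer_le_normalizer _))
    rw [← hc, hW]
    exact Nat.mul_le_mul hE (Subgroup.card_le_of_le (inf_le_inf hB inf_le_left))
  · have h : ⁅A, A⁆ = ⊥ := Subgroup.commutator_eq_bot_iff_le_centralizer.mpr hAA
    rw [h]
    exact bot_le

end Cfsg.Agent.S0606
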