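import Cfsg.Statements.S0107
import Cfsg.Agent.Lib.Transfer.Thompson

set_option autoImplicit false
set_option linter.style.haveILetI false
set_option linter.unusedVariables false
open Cfsg

namespace Cfsg.Agent.S0107

open CfsgLib.Transfer in
theorem conj_into_rotations {G : Type*} [Group G] [Finite G] (T : Sylow 2 G) (n : ℕ)
    (e : (T : Subgroup G) ≃* DihedralGroup (2 ^ n)) (hO : Cfsg.pResidual 2 G = ⊤) (u : G)
    (hu : u * u = 1) : ∃ (g : G) (h : g * u * g⁻¹ ∈ (T : Subgroup G)),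
      e ⟨_, h⟩ ∈ Subgroup.zpowers (DihedralGroup.r (1 : ZMod (2 ^ n))) := by
  haveI := Fact.mk Nat.prime_two
  set R := Subgroup.zpowers (DihedralGroup.r (1 : ZMod (2 ^ n))) with hR
  set Q := (R.comap e.toMonoidHom).map (T : Subgroup G).subtype with hQ
  have hQi : Q.relIndex (T : Subgroup G) = 2 := by
    change (Q.comap (T : Subgroup G).subtype).index = 2
    rw [hQ, Subgroup.comap_map_eq_self_of_injective (T : Subgroup G).subtype_injective,
      Subgroup.index_comap_of_surjective _ e.surjective]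
    have h := R.card_mul_index
    rw [hR, Nat.card_zpowers, DihedralGroup.orderOf_r_one, DihedralGroup.nat_card, ← hR,
      mul_comm 2] at h
    exact Nat.eq_of_mul_eq_mul_left (by positivity) h
  have hpow : ∃ k : ℕ, orderOf u = 2 ^ k := by
    rcases eq_or_ne u 1 with rfl | h1
    · exact ⟨0, by simp⟩
    · exact ⟨1, by rw [pow_one]; exact orderOf_eq_prime (by rw [pow_two, hu]) h1⟩
  obtain ⟨k, hk⟩ := exists_map_conj_le_sylow (isPGroup_zpowers (p := 2) hpow) T
  have hkT : k * u * k⁻¹ ∈ (T : Subgroup G) := hk ⟨u, Subgroup.mem_zpowers u, rfl⟩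
  have key : ∀ (g : G), g * u * g⁻¹ ∈ Q → ∃ h : g * u * g⁻¹ ∈ (T : Subgroup G), e ⟨_, h⟩ ∈ R := by
    rintro g ⟨⟨y, hy⟩, hy', e1 : y = g * u * g⁻¹⟩
    subst e1
    exact ⟨hy, hy'⟩
  by_cases hkQ : k * u * k⁻¹ ∈ Q
  · exact ⟨k, key k hkQ⟩
  have hku : k * u * k⁻¹ * (k * u * k⁻¹) = 1 := by
    calc _ = k * (u * u) * k⁻¹ := by group
      _ = 1 := by rw [hu]; group
  rcases thompson_transfer T hQi hku hkT hkQ with ⟨M, -, hM, -⟩ | ⟨g, -, hg⟩
  · exact absurd hO (pResidual_ne_top_of_index_two hM)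
  · rw [show g * (k * u * k⁻¹) * g⁻¹ = (g * k) * u * (g * k)⁻¹ by group] at hg
    exact ⟨g * k, key _ hg⟩

/-- A finite group with no nontrivial 2-group quotient and dihedral Sylow 2-subgroups of order at least 8 has a single class of involutions. -/
theorem result {G : Type*} [Group G] [Finite G] (T : Sylow 2 G) (n : ℕ) (hn : 2 ≤ n) (hT : Nonempty ((T : Subgroup G) ≃* DihedralGroup (2 ^ n))) (hO : Cfsg.pResidual 2 G = ⊤) (x y : G) (hx : orderOf x = 2) (hy : orderOf y = 2) : ∃ g : G, g * x * g⁻¹ = y := by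
  obtain ⟨e⟩ := hT
  have hx2 := CfsgLib.Transfer.sq_eq_one_of_orderOf_eq_two hx
  have hy2 := CfsgLib.Transfer.sq_eq_one_of_orderOf_eq_two hy
  obtain ⟨a, ha, ha'⟩ := conj_into_rotations T n e hO x hx2
  obtain ⟨b, hb, hb'⟩ := conj_into_rotations T n e hO y hy2
  have key : ∀ (z : G) (c : G) (h : c * z * c⁻¹ ∈ (T : Subgroup G)), orderOf z = 2 →
      z * z = 1 → e ⟨_, h⟩ * e ⟨_, h⟩ = 1 ∧ e ⟨_, h⟩ ≠ 1 := by
    intro z c h hz hz2
    refine ⟨?_, fun h1 => ?_⟩
    · rw [← map_mul]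
      refine (congrArg e (Subtype.ext ?_)).trans e.map_one
      change c * z * c⁻¹ * (c * z * c⁻¹) = 1
      calc _ = c * (z * z) * c⁻¹ := by group
        _ = 1 := by rw [hz2]; group
    · rw [MulEquiv.map_eq_one_iff, Subtype.ext_iff] at h1
      change c * z * c⁻¹ = 1 at h1
      rw [conj_eq_one_iff] at h1
      rw [h1, orderOf_one] at hz
      omega
  obtain ⟨a1, a2⟩ := key x a ha hx hx2
  obtain ⟨b1, b2⟩ := key y b hb hy hy2
  have h := CfsgLib.Transfer.eq_of_sq_eq_one_of_isCyclic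
    (A := Subgroup.zpowers (DihedralGroup.r (1 : ZMod (2 ^ n)))) ⟨_, ha'⟩ ⟨_, hb'⟩
    (Subtype.ext a1) (Subtype.ext b1) (fun h => a2 (congrArg Subtype.val h))
    (fun h => b2 (congrArg Subtype.val h))
  have h2 : a * x * a⁻¹ = b * y * b⁻¹ :=
    congrArg Subtype.val (e.injective (congrArg Subtype.val h))
  refine ⟨b⁻¹ * a, ?_⟩
  calc b⁻¹ * a * x * (b⁻¹ * a)⁻¹ = b⁻¹ * (a * x * a⁻¹) * b := by group
    _ = y := by rw [h2]; group

end Cfsg.Agent.S0107
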