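import Cfsg.Statements.S0514
import Cfsg.Agent.Lib.Transfer.Frobenius
import Cfsg.Agent.Lib.Transfer.Cyclic
-- import your own Cfsg.Agent.* helpers here

set_option autoImplicit false
open Cfsg CfsgLib

namespace Cfsg.Agent.S0514

open DihedralGroup in
theorem relIndex_rotations {X : Type*} [Group X] [Finite X] {n : ℕ} {W : Subgroup X}
    (ψ : W →* DihedralGroup n) (hψ : Function.Injective ψ) :
    ∃ C : Subgroup X, C ≤ W ∧ C.relIndex W ≤ 2 ∧ IsCyclic C ∧ ∀ w ∈ W, w ∉ C → w * w = 1 := by
  set R : Subgroup (DihedralGroup n) := Subgroup.zpowers (r 1) with hR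
  have hr : ∀ i : ZMod n, r i ∈ R := fun i => by
    obtain ⟨j, rfl⟩ := ZMod.intCast_surjective i
    exact ⟨j, r_one_zpow j⟩
  set C := R.comap ψ with hC
  refine ⟨C.map W.subtype, Subgroup.map_subtype_le _, ?_, ?_, ?_⟩
  · rw [Subgroup.relIndex, Subgroup.subgroupOf, Subgroup.comap_map_eq_self_of_injective W.subtype_injective]
    by_cases hall : ∀ w : W, w ∈ C
    · rw [(eq_top_iff.mpr fun w _ => hall w : C = ⊤), Subgroup.index_top]
      norm_num
    push Not at hall
    obtain ⟨w, hw⟩ := hall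
    refine (Subgroup.index_eq_two_iff.mpr ⟨w⁻¹, fun v => ?_⟩).le
    rcases hi : ψ w with i | i
    · exact absurd (show ψ w ∈ R by rw [hi]; exact hr i) hw
    rcases hj : ψ v with j | j
    · refine Or.inr ⟨(show ψ v ∈ R by rw [hj]; exact hr j), ?_⟩
      intro hm
      apply hw
      have h := mul_mem ((inv_mem (show ψ v ∈ R by rw [hj]; exact hr j))) (show ψ (v * w⁻¹) ∈ R from hm)
      rw [map_mul, map_inv, inv_mul_cancel_left, inv_mem_iff] at h
      exact h
    · refine Or.inl ⟨?_, ?_⟩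
      · show ψ (v * w⁻¹) ∈ R
        rw [map_mul, map_inv, hj, hi, inv_sr, sr_mul_sr]
        exact hr _
      · intro hm
        have hm' : ψ v ∈ R := hm
        rw [hj] at hm'
        obtain ⟨k, hk⟩ := hm'
        simp only [r_one_zpow] at hk
        exact absurd hk (by simp)
  · have h1 : C.map ψ ≤ R := Subgroup.map_comap_le _ _
    have : IsCyclic (C.map ψ) := isCyclic_of_injective (Subgroup.inclusion h1) (Subgroup.inclusion_injective h1)
    have e := (C.equivMapOfInjective W.subtype W.subtype_injective).symm.trans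
      (C.equivMapOfInjective ψ hψ)
    exact isCyclic_of_injective e.toMonoidHom e.injective
  · intro w hw hwC
    rcases hi : ψ ⟨w, hw⟩ with i | i
    · exact absurd ⟨⟨w, hw⟩, (show ψ ⟨w, hw⟩ ∈ R by rw [hi]; exact hr i), rfl⟩ hwC
    · have h : ψ (⟨w, hw⟩ * ⟨w, hw⟩) = ψ 1 := by rw [map_mul, map_one, hi, sr_mul_self]
      exact congrArg Subtype.val (hψ h)

theorem centralizes_of_index_two {X : Type*} [Group X] [Finite X] {W C : Subgroup X}
    (hW : IsPGroup 2 W) (hCW : C ≤ W) (hidx : C.relIndex W ≤ 2) {g : X}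
    (hg : g ∈ Subgroup.normalizer (W : Set X)) (hgo : (orderOf g).Coprime 2)
    (hfix : ∀ c ∈ C, Commute g c) : g ∈ Subgroup.centralizer (W : Set X) := by
  intro q hq
  have hgq : g * q * g⁻¹ ∈ W := (Subgroup.mem_normalizer_iff.mp hg q).mp hq
  have hfix' : ∀ c ∈ C, g * c * g⁻¹ = c := fun c hc => by rw [(hfix c hc).eq, mul_inv_cancel_right]
  set d := q⁻¹ * (g * q * g⁻¹) with hd
  have hdC : d ∈ C := by
    have hne : C.relIndex W ≠ 0 := Subgroup.index_ne_zero_of_finite
    rcases (by omega : C.relIndex W = 1 ∨ C.relIndex W = 2) with h | h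
    · exact Subgroup.relIndex_eq_one.mp h (mul_mem (inv_mem hq) hgq)
    · by_cases hqC : q ∈ C
      · rw [hd, hfix' q hqC, inv_mul_cancel]
        exact one_mem _
      · have h1 : g * q * g⁻¹ ∉ C := fun hmem => hqC (by
          have e : q = g * q * g⁻¹ := by
            have := hfix' _ hmem
            exact mul_left_cancel (mul_right_cancel this).symm
          exact e ▸ hmem)
        exact (Subgroup.mul_mem_iff_of_index_two (H := C.subgroupOf W) h
          (a := ⟨q⁻¹, inv_mem hq⟩) (b := ⟨_, hgq⟩)).mpr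
          (iff_of_false (fun hmem => hqC (inv_mem_iff.mp hmem)) h1)
  have hpow : ∀ k : ℕ, g ^ k * q * (g ^ k)⁻¹ = q * d ^ k := by
    intro k
    induction k with
    | zero => simp
    | succ k ih =>
      calc g ^ (k + 1) * q * (g ^ (k + 1))⁻¹ = g * (g ^ k * q * (g ^ k)⁻¹) * g⁻¹ := by
            rw [pow_succ']; group
        _ = g * q * g⁻¹ * (g * d ^ k * g⁻¹) := by rw [ih]; group
        _ = q * d ^ (k + 1) := by
            rw [hfix' _ (pow_mem hdC k), show g * q * g⁻¹ = q * d by rw [hd, mul_inv_cancel_left],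
              mul_assoc, ← pow_succ']
  have h := hpow (orderOf g)
  rw [pow_orderOf_eq_one, one_mul, inv_one, mul_one, left_eq_mul] at h
  obtain ⟨j, hj⟩ := hW ⟨d, hCW hdC⟩
  have hd1 : d = 1 := orderOf_eq_one_iff.mp (Nat.eq_one_of_dvd_coprimes
    (Nat.Coprime.pow_right j hgo) (orderOf_dvd_of_pow_eq_one h)
    (orderOf_dvd_of_pow_eq_one (congrArg Subtype.val hj)))
  have h2 : g * q * g⁻¹ = q := by
    calc g * q * g⁻¹ = q * d := by rw [hd, mul_inv_cancel_left]
      _ = q := by rw [hd1, mul_one]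
  calc q * g = g * q * g⁻¹ * g := by rw [h2]
    _ = g * q := inv_mul_cancel_right _ _

theorem centralizes_of_dihedral {X : Type*} [Group X] [Finite X] {n : ℕ} {W : Subgroup X}
    (hW : IsPGroup 2 W) (ψ : W →* DihedralGroup n) (hψ : Function.Injective ψ) {t g : X}
    (htW : t ∈ W) (ht : orderOf t = 2) (hgt : Commute g t)
    (hg : g ∈ Subgroup.normalizer (W : Set X)) (hgo : (orderOf g).Coprime 2) :
    g ∈ Subgroup.centralizer (W : Set X) := by
  obtain ⟨C, hCW, hidx, hcyc, hout⟩ := relIndex_rotations ψ hψ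
  obtain ⟨c, rfl⟩ := Transfer.exists_zpowers_eq_of_isCyclic C hcyc
  by_cases hall : ∀ w ∈ W, w * w = 1
  · refine centralizes_of_index_two hW (Subgroup.zpowers_le.mpr htW) ?_ hg hgo ?_
    · have h1 := Subgroup.relIndex_mul_relIndex ⊥ (Subgroup.zpowers t) W bot_le (Subgroup.zpowers_le.mpr htW)
      have h2 := Subgroup.relIndex_mul_relIndex ⊥ (Subgroup.zpowers c) W bot_le hCW
      have h3 : orderOf c ≤ 2 := Nat.le_of_dvd two_pos
        (orderOf_dvd_of_pow_eq_one (by rw [pow_two]; exact hall c (hCW (Subgroup.mem_zpowers c))))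
      simp only [Subgroup.relIndex_bot_left, Nat.card_zpowers, ht] at h1 h2
      nlinarith [Nat.mul_le_mul h3 hidx]
    · intro c' hc'
      obtain ⟨k, rfl⟩ := Subgroup.mem_zpowers_iff.mp hc'
      exact hgt.zpow_right k
  · push Not at hall
    obtain ⟨w, hwW, hw⟩ := hall
    refine centralizes_of_index_two hW hCW hidx hg hgo ?_
    have hcW := hCW (Subgroup.mem_zpowers c)
    obtain ⟨k, hk⟩ := hW ⟨c, hcW⟩
    have hk' : c ^ 2 ^ k = 1 := congrArg Subtype.val hk
    have hc2 : c * c ≠ 1 := by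
      intro e
      obtain ⟨i, hi⟩ := Subgroup.mem_zpowers_iff.mp
        (show w ∈ Subgroup.zpowers c from by_contra fun h => hw (hout w hwW h))
      apply hw
      rw [← hi, ← zpow_add, ← two_mul, zpow_mul, zpow_two, e, one_zpow]
    have hgc : g * c * g⁻¹ ∈ Subgroup.zpowers c := by
      by_contra h
      have h1 := hout _ ((Subgroup.mem_normalizer_iff.mp hg c).mp hcW) h
      apply hc2
      calc c * c = g⁻¹ * (g * c * g⁻¹ * (g * c * g⁻¹)) * g := by group
        _ = 1 := by rw [h1]; group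
    obtain ⟨i, hi⟩ := Subgroup.mem_zpowers_iff.mp hgc
    have hodd : (2 : ℤ) ∣ i - 1 := by
      by_contra hn
      obtain ⟨s, rfl⟩ : (2 : ℤ) ∣ i := by omega
      have h1 : orderOf c = orderOf (g * c * g⁻¹) := (Transfer.orderOf_conj g c).symm
      rw [← hi] at h1
      obtain ⟨a, ha, hoc⟩ := (Nat.dvd_prime_pow Nat.prime_two).mp (orderOf_dvd_of_pow_eq_one hk')
      rcases a with - | a'
      · exact hc2 (by rw [orderOf_eq_one_iff.mp (hoc.trans (pow_zero 2)), mul_one])
      have h2 : (c ^ (2 * s)) ^ (2 ^ a' : ℕ) = 1 := by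
        rw [← zpow_natCast, ← zpow_mul,
          show (2 : ℤ) * s * ((2 ^ a' : ℕ) : ℤ) = ((2 ^ (a' + 1) : ℕ) : ℤ) * s by push_cast; ring,
          zpow_mul, zpow_natCast, ← hoc, pow_orderOf_eq_one, one_zpow]
      have h3 := Nat.le_of_dvd (pow_pos two_pos _) (orderOf_dvd_of_pow_eq_one h2)
      rw [← h1, hoc, pow_succ] at h3
      have := pow_pos (two_pos (α := ℕ)) a'
      omega
    intro c' hc'
    obtain ⟨j, rfl⟩ := Subgroup.mem_zpowers_iff.mp hc'
    exact (Transfer.commute_of_conj_eq_zpow (p := 2) hi.symm (by exact_mod_cast hodd) ⟨k, hk'⟩ hgo).zpow_right j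

/-- In a finite group whose Sylow 2-subgroups are dihedral of order at least 4, the centralizer of any involution has a
normal subgroup of odd order whose index in the centralizer is a power of 2. -/
theorem result {X : Type*} [Group X] [Finite X]
    (S : Sylow 2 X) (n : ℕ) (hn : 2 ≤ n) (hS : Nonempty ((S : Subgroup X) ≃* DihedralGroup n)) (t : X)
    (ht : orderOf t = 2) :
    ∃ N : Subgroup (Subgroup.centralizer ({t} : Set X)), N.Normal ∧ Odd (Nat.card N) ∧ ∃ k : ℕ, N.index = 2 ^ k := by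
  obtain ⟨e⟩ := hS
  set C := Subgroup.centralizer ({t} : Set X) with hC
  have hpa : Transfer.PAutomizers 2 C := by
    intro Q hQ g hg hgo
    set Q₀ := Q.map C.subtype with hQ₀
    have hQc : Q₀ ≤ Subgroup.centralizer (Subgroup.zpowers t : Set X) := by
      rintro _ ⟨q, -, rfl⟩ w hw
      obtain ⟨i, rfl⟩ := Subgroup.mem_zpowers_iff.mp hw
      exact (Commute.zpow_right (Subgroup.mem_centralizer_singleton_iff.mp q.2 : Commute (q : X) t) i).eq.symm
    set W := Subgroup.zpowers t ⊔ Q₀ with hW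
    have hWp : IsPGroup 2 W := (Transfer.isPGroup_zpowers ⟨1, by rw [ht, pow_one]⟩).to_sup_of_normal_left'
      (hQ.map _) (hQc.trans (Subgroup.centralizer_le_normalizer _))
    obtain ⟨R, hR⟩ := hWp.exists_le_sylow
    let ψ : W →* DihedralGroup n :=
      e.toMonoidHom.comp ((R.equiv S).toMonoidHom.comp (Subgroup.inclusion hR))
    have hψ : Function.Injective ψ :=
      e.injective.comp ((R.equiv S).injective.comp (Subgroup.inclusion_injective hR))
    have hgt : Commute (g : X) t := Subgroup.mem_centralizer_singleton_iff.mp g.2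
    have hgW : (g : X) ∈ Subgroup.normalizer (W : Set X) := by
      refine Transfer.map_conj_eq_self_iff.mp ?_
      rw [hW, Subgroup.map_sup, MonoidHom.map_zpowers]
      congr 1
      · show Subgroup.zpowers ((g : X) * t * (g : X)⁻¹) = _
        rw [hgt.eq, mul_inv_cancel_right]
      · exact Transfer.map_conj_eq_self_iff.mpr (Subgroup.le_normalizer_map _ (Subgroup.mem_map_of_mem _ hg))
    have h := centralizes_of_dihedral hWp ψ hψ (Subgroup.mem_sup_left (Subgroup.mem_zpowers t)) ht hgt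
      hgW (by rwa [Subgroup.orderOf_coe])
    exact fun q hq => Subtype.ext (h (q : X) (Subgroup.mem_sup_right ⟨q, hq, rfl⟩))
  obtain ⟨P, N, hN, hc⟩ := Transfer.hasNormalPComplement_of_pAutomizers hpa
  have := hN
  obtain ⟨k, hk⟩ := P.2.exists_card_eq
  exact ⟨N, hN, Nat.coprime_two_right.mp (Transfer.coprime_card_of_isComplement' hc), k,
    hc.symm.index_eq_card.trans hk⟩

end Cfsg.Agent.S0514
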