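import Cfsg.Statements.S0508
import Cfsg.Agent.Lib.BSW.Recognition
import Cfsg.Agent.Lib.BSW.DihedralSylow
import Cfsg.Agent.Lib.Invol.KleinSylow
import Cfsg.Agent.S0107
import Cfsg.Agent.S0514

set_option autoImplicit false
set_option linter.style.haveILetI false
open Cfsg

namespace Cfsg.Agent.S0508

/-- Let G be a finite simple group with a dihedral Sylow 2-subgroup S (of order at least 4), t an involution in the
centre of S, C the centralizer of t and O the core of C (its largest normal subgroup of odd order). Suppose that: if O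
is nontrivial then the centralizer of O in S is cyclic of index 2 in S; every element of S not centralizing O inverts
every element of O; and the normalizer of every nontrivial subgroup of O lies in C. Then G is isomorphic to a projective
special linear group of dimension 2 over a field of odd order. -/
theorem result {G : Type*} [Group G] [Finite G] [IsSimpleGroup G] (S : Sylow 2 G) (n : ℕ)
    (hn : 2 ≤ n) (hS : Nonempty ((S : Subgroup G) ≃* DihedralGroup n)) (t : G) (ht : orderOf t = 2)
    (htS : t ∈ (S : Subgroup G))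
    (htZ : ∀ s ∈ (S : Subgroup G), s * t = t * s) (O : Subgroup G)
    (hO : O = (Cfsg.oddCore (Subgroup.centralizer ({t} : Set G))).map (Subgroup.centralizer ({t} : Set G)).subtype)
    (ha : O ≠ ⊥ → IsCyclic ((S : Subgroup G) ⊓ Subgroup.centralizer (O : Set G) : Subgroup G) ∧
      ((S : Subgroup G) ⊓ Subgroup.centralizer (O : Set G)).relIndex (S : Subgroup G) = 2)
    (hb : ∀ s ∈ (S : Subgroup G), s ∉ Subgroup.centralizer (O : Set G) → ∀ y ∈ O, s * y * s⁻¹ = y⁻¹)
    (hc : ∀ Y : Subgroup G, Y ≤ O → Y ≠ ⊥ → Subgroup.normalizer (Y : Set G) ≤ Subgroup.centralizer ({t} : Set G)) :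
    ∃ (F : Type) (_ : Field F) (_ : Fintype F), Odd (Fintype.card F) ∧ Nonempty (G ≃* Matrix.ProjectiveSpecialLinearGroup (Fin 2) F) := by
  classical
  obtain ⟨e⟩ := hS
  haveI := Fact.mk Nat.prime_two
  haveI : NeZero n := ⟨by omega⟩
  have hScard : Nat.card (S : Subgroup G) = 2 * n := by
    rw [Nat.card_congr e.toEquiv, DihedralGroup.nat_card]
  obtain ⟨m, -, rfl⟩ : ∃ m ≤ (Nat.card G).factorization 2, n = 2 ^ m :=
    (Nat.dvd_prime_pow Nat.prime_two).mp (by
      rw [← S.card_eq_multiplicity, hScard]; exact dvd_mul_left _ _)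
  have ht1 : t ≠ 1 := (CfsgLib.BSW.orderOf_two_iff.mp ht).2
  have htop2 : ∀ M : Subgroup G, M.Normal → M ≠ ⊥ → M = ⊤ := fun M hM hne =>
    hM.eq_bot_or_eq_top.resolve_left hne
  have hconj : ∀ x y : G, orderOf x = 2 → orderOf y = 2 → IsConj x y := by
    rcases (by
      rcases m with _ | _ | m
      · simp at hn
      · exact Or.inl rfl
      · exact Or.inr (by omega) : m = 1 ∨ 2 ≤ m) with rfl | hm
    · have hsq : ∀ w : (S : Subgroup G), w * w = 1 := fun w => e.injective (by
        rw [map_mul, map_one]; exact CfsgLib.BSW.dihedral_two_sq _)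
      have hK : IsKleinFour (S : Subgroup G) := by
        refine ⟨by rw [hScard]; norm_num, ?_⟩
        haveI : Nontrivial (S : Subgroup G) := Finite.one_lt_card_iff_nontrivial.mp (by
          rw [hScard]; norm_num)
        rw [Monoid.exponent_eq_prime_iff Nat.prime_two |>.mpr]
        intro w hw
        exact orderOf_eq_prime (by rw [pow_two, hsq]) hw
      refine (CfsgLib.Invol.klein_complement_or_one_class S hK).resolve_left ?_
      rintro ⟨N, hN, hc⟩
      have hc' := hc.card_mul_card
      rcases hN.eq_bot_or_eq_top with rfl | rfl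
      · rw [Subgroup.card_bot, one_mul, hScard] at hc'
        have hStop : (S : Subgroup G) = ⊤ := Subgroup.eq_top_of_card_eq _ (by rw [hScard]; omega)
        have hnorm : (Subgroup.zpowers t).Normal := ⟨fun x hx g => by
          obtain ⟨j, rfl⟩ := Subgroup.mem_zpowers_iff.mp hx
          have hgt : Commute g t := htZ g (hStop ▸ Subgroup.mem_top g)
          rw [(hgt.zpow_right j).eq, mul_inv_cancel_right]
          exact Subgroup.zpow_mem _ (Subgroup.mem_zpowers t) j⟩
        have := htop2 _ hnorm (fun h => ht1 (Subgroup.zpowers_eq_bot.mp h))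
        have h2 : Nat.card (Subgroup.zpowers t) = 2 := by rw [Nat.card_zpowers, ht]
        rw [this, Subgroup.card_top] at h2
        omega
      · rw [Subgroup.card_top, hScard] at hc'
        have hpos : 0 < Nat.card G := Nat.card_pos
        nlinarith
    · have hO : Cfsg.pResidual 2 G = ⊤ := by
        have hcop : ∀ g : G, Nat.Coprime (orderOf g) 2 → g ∈ Cfsg.pResidual 2 G :=
          fun g hg => Subgroup.subset_closure hg
        refine htop2 _ ⟨fun x hx c => ?_⟩ fun hbot => ?_
        · have hle : (Cfsg.pResidual 2 G).map (MulAut.conj c).toMonoidHom ≤ Cfsg.pResidual 2 G := by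
            rw [Cfsg.pResidual, MonoidHom.map_closure]
            refine Subgroup.closure_mono ?_
            rintro _ ⟨y, hy, rfl⟩
            show Nat.Coprime (orderOf (c * y * c⁻¹)) 2
            rw [CfsgLib.BSW.orderOf_conj]; exact hy
          exact hle ⟨x, hx, rfl⟩
        · have hp : IsPGroup 2 G := by
            intro g
            obtain ⟨k, r, hr, -, hcr, hpart⟩ := CfsgLib.Transfer.exists_pow_coprime_part (p := 2) g
            exact ⟨k, Subgroup.mem_bot.mp (hbot ▸ hcop _ hcr)⟩
          have hC : Subgroup.center G = ⊤ := by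
            haveI := hp.center_nontrivial
            exact htop2 _ inferInstance ((Subgroup.nontrivial_iff_ne_bot _).mp this)
          have hnorm : (Subgroup.zpowers t).Normal := ⟨fun x hx g => by
            have := Subgroup.mem_center_iff.mp (hC ▸ Subgroup.mem_top x) g
            rwa [this, mul_inv_cancel_right]⟩
          have h2 : Nat.card (Subgroup.zpowers t) = 2 := by rw [Nat.card_zpowers, ht]
          rw [htop2 _ hnorm (fun h => ht1 (Subgroup.zpowers_eq_bot.mp h)), Subgroup.card_top] at h2
          have hle := Subgroup.card_le_card_group (S : Subgroup G)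
          have : 4 ≤ 2 ^ m := by
            calc 4 = 2 ^ 2 := rfl
              _ ≤ 2 ^ m := Nat.pow_le_pow_right (by omega) hm
          omega
      exact fun x y hx hy => isConj_iff.mpr (Cfsg.Agent.S0107.result S m hm ⟨e⟩ hO x y hx hy)
  -- the centraliser of `t`
  set H := Subgroup.centralizer ({t} : Set G) with hH
  haveI hOn : (Cfsg.oddCore H).Normal := CfsgLib.SelfCent.pPrimeCore_normal' 2
  have hOc : Nat.Coprime (Nat.card (Cfsg.oddCore H)) 2 := CfsgLib.SelfCent.pPrimeCore_coprime 2
  have hOodd : Odd (Nat.card O) := by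
    rw [hO, Nat.card_congr ((Cfsg.oddCore H).equivMapOfInjective H.subtype H.subtype_injective).toEquiv.symm]
    exact Nat.coprime_two_right.mp hOc
  have hOH : O ≤ H := hO ▸ Subgroup.map_subtype_le _
  have hOt : ∀ a ∈ O, a * t = t * a := fun a ha => Subgroup.mem_centralizer_singleton_iff.mp (hOH ha)
  have hSH : (S : Subgroup G) ≤ H := fun x hx => Subgroup.mem_centralizer_singleton_iff.mpr (htZ x hx)
  have hgen : ∀ g, g * t = t * g → ∃ a ∈ O, ∃ b ∈ (S : Subgroup G), a * b = g := by
    intro g hg
    obtain ⟨N, hN, hNodd, k, hk⟩ := Cfsg.Agent.S0514.result S (2 ^ m) hn ⟨e⟩ t ht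
    have hNle : N ≤ Cfsg.oddCore H :=
      CfsgLib.SelfCent.le_pPrimeCore hN (Nat.coprime_two_right.mpr hNodd)
    have hsup : Cfsg.oddCore H ⊔ (S : Subgroup G).subgroupOf H = ⊤ := by
      rw [← Subgroup.index_eq_one]
      have h1 : (Cfsg.oddCore H ⊔ (S : Subgroup G).subgroupOf H).index ∣ 2 ^ k :=
        hk ▸ Subgroup.index_dvd_of_le (hNle.trans le_sup_left)
      have h2 : (Cfsg.oddCore H ⊔ (S : Subgroup G).subgroupOf H).index ∣ (S : Subgroup G).index :=
        (Subgroup.index_dvd_of_le le_sup_right).trans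
          ⟨H.index, (Subgroup.relIndex_mul_index hSH).symm⟩
      exact Nat.eq_one_of_dvd_coprimes
        ((Nat.prime_two.coprime_iff_not_dvd.mpr S.not_dvd_index).pow_left k) h1 h2
    have hm' : (⟨g, Subgroup.mem_centralizer_singleton_iff.mpr hg⟩ : H) ∈
        Cfsg.oddCore H ⊔ (S : Subgroup G).subgroupOf H := hsup ▸ Subgroup.mem_top _
    rw [Subgroup.mem_sup_of_normal_left] at hm'
    obtain ⟨a, ha, b, hb, hab⟩ := hm'
    exact ⟨a, hO ▸ ⟨a, ha, rfl⟩, b, hb, congrArg Subtype.val hab⟩
  obtain ⟨R, hR, hcyc, hidx, htR, hRO, hSO⟩ : ∃ R ≤ (S : Subgroup G), IsCyclic R ∧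
      R.relIndex (S : Subgroup G) = 2 ∧ t ∈ R ∧ (∀ r ∈ R, ∀ a ∈ O, r * a = a * r) ∧
      ∀ s ∈ (S : Subgroup G), s ∉ R → ∀ a ∈ O, s * a * s⁻¹ = a⁻¹ := by
    by_cases hO1 : O = ⊥
    · obtain ⟨R, h1, h2, h3, h4⟩ := CfsgLib.BSW.exists_cyclic_of_dihedral hn _ e ht htS htZ
      refine ⟨R, h1, h2, h3, h4, fun r _ a ha => ?_, fun s _ _ a ha => ?_⟩ <;>
        rw [hO1, Subgroup.mem_bot] at ha <;> subst ha <;> simp
    · obtain ⟨h2, h3⟩ := ha hO1
      refine ⟨_, inf_le_left, h2, h3, ⟨htS, Subgroup.mem_centralizer_iff.mpr hOt⟩,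
        fun r hr a ha' => (Subgroup.mem_centralizer_iff.mp hr.2 a ha').symm,
        fun s hs hsR a ha' => hb s hs (fun h => hsR ⟨hs, h⟩) a ha'⟩
  obtain ⟨K, s, hset, hKs⟩ := CfsgLib.BSW.Setting.of_dihedral hn S e ht O hOodd hgen hOt htZ R hR
    hcyc hidx htR hRO hSO hc hconj
  exact hset.isPSL hKs

end Cfsg.Agent.S0508
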