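import Cfsg.Statements.S0001
import Mathlib
import Cfsg.Agent.Lib.Coprime.SchurZassenhaus

set_option autoImplicit false
open Pointwise
open Cfsg

namespace Cfsg.Agent.S0001

/-- Conjugacy half of the Schur–Zassenhaus Theorem, under a solvability assumption on the normal Hall subgroup or on its quotient. -/
theorem result {G : Type*} [Group G] [Finite G] (N : Subgroup G) [N.Normal]
    (hN : (Nat.card N).Coprime N.index) (hsolv : Group.IsSolvable N ∨ Group.IsSolvable (G ⧸ N))
    (H K : Subgroup G) (hH : Subgroup.IsComplement' N H) (hK : Subgroup.IsComplement' N K) :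
    ∃ g : G, MulAut.conj g • H = K := by
  have cH : (Nat.card N).Coprime (Nat.card H) := by rw [← hH.symm.index_eq_card]; exact hN
  have cK : (Nat.card N).Coprime (Nat.card K) := by rw [← hK.symm.index_eq_card]; exact hN
  have hs : Group.IsSolvable N ∨ Group.IsSolvable H := hsolv.imp_right fun h => by
    haveI := h
    refine Group.isSolvable_of_isSolvable_injective (f := (QuotientGroup.mk' N).comp H.subtype) ?_
    rw [injective_iff_map_eq_one]
    intro x hx
    have h1 : (x : G) ∈ N ⊓ H := Subgroup.mem_inf.mpr ⟨(QuotientGroup.eq_one_iff _).mp hx, x.2⟩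
    rw [hH.disjoint.eq_bot, Subgroup.mem_bot] at h1
    exact Subtype.ext h1
  obtain ⟨x, -, hx⟩ := CfsgLib.Coprime.exists_conj_of_coprime Subgroup.le_normalizer_of_normal cH cK
    (hH.sup_eq_top.trans hK.sup_eq_top.symm) hs
  exact ⟨x, hx⟩

end Cfsg.Agent.S0001
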