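import Cfsg.Statements.S0344
import Cfsg.Agent.Lib.Zassenhaus.SimpleEven

set_option autoImplicit false
set_option linter.style.haveILetI false
open Cfsg

namespace Cfsg.Agent.S0344

/-- A finite simple Zassenhaus group with a two-point stabiliser of even order is isomorphic to `PSL₂(F)` for a finite
field `F` with more than three elements. -/
theorem result {G Ω : Type*} [Group G] [Finite G] [MulAction G Ω] [Finite Ω]
    (hZ : Cfsg.IsZassenhausGroup G Ω) [IsSimpleGroup G]
    {a b : Ω} (hab : a ≠ b) (heven : Even (Nat.card ↥(MulAction.stabilizer G a ⊓ MulAction.stabilizer G b))) :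
    ∃ (F : Type) (_ : Field F) (_ : Fintype F), 3 < Fintype.card F ∧ Nonempty (G ≃* Matrix.ProjectiveSpecialLinearGroup (Fin 2) F) := by
  classical
  have hz : CfsgLib.Zassenhaus.ZG G Ω := CfsgLib.Zassenhaus.ZG.mk' hZ.1 hZ.2.1 hZ.2.2.1 hZ.2.2.2.1
  have hx := CfsgLib.Zassenhaus.ext_of_simple hz hab heven
  obtain ⟨K, instK, instF, hK2, hcard, hiso⟩ := CfsgLib.Zassenhaus.iso_PSL hx hab
  refine ⟨K, instK, instF, ?_, hiso⟩
  have h2 := hx.two_mul a b hab
  obtain ⟨r, hr⟩ := hx.even a b hab
  have : 0 < Nat.card (CfsgLib.Zassenhaus.D2 G a b) := Nat.card_pos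
  omega

end Cfsg.Agent.S0344
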