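import Cfsg.Statements.S0727
import Cfsg.Agent.Lib.Perm.SharplyThreeComm

set_option autoImplicit false
open Cfsg

namespace Cfsg.Agent.S0727

open MulAction

theorem exists_triple {α : Type*} [Fintype α] (h : 3 ≤ Fintype.card α) :
    ∃ a b c : α, a ≠ b ∧ a ≠ c ∧ b ≠ c := by
  obtain ⟨x⟩ : Nonempty (Fin 3 ↪ α) := Function.Embedding.nonempty_of_card_le (by simpa using h)
  exact ⟨x 0, x 1, x 2, x.injective.ne (by decide), x.injective.ne (by decide), x.injective.ne (by decide)⟩


/-- A sharply triply transitive permutation group of degree `2^f + 1` is isomorphic to the projective general linear group of degree 2 over the field with `2^f` elements. -/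
theorem result {α : Type*} [Fintype α] [DecidableEq α] {f : ℕ} (hf : 1 ≤ f) (hα : Fintype.card α = 2 ^ f + 1) (G : Subgroup (Equiv.Perm α)) (h3 : MulAction.IsMultiplyPretransitive G α 3) (hsharp : ∀ x : Fin 3 ↪ α, MulAction.stabilizer G x = ⊥) : ∃ (F : Type) (_ : Field F) (_ : Fintype F), Fintype.card F = 2 ^ f ∧ Nonempty (G ≃* Matrix.ProjGenLinGroup (Fin 2) F) := by
  classical
  have hn : 3 ≤ Fintype.card α := by
    have : 2 ^ 1 ≤ 2 ^ f := Nat.pow_le_pow_right (by norm_num) hf
    omega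
  have hodd : Odd (Fintype.card α) := by
    rw [hα]
    exact ⟨2 ^ (f - 1), by rw [← pow_succ', Nat.sub_add_cancel hf]⟩
  obtain ⟨a, b, c, hab, hac, hbc⟩ := exists_triple hn
  obtain ⟨w, wa, wb, wc, ww⟩ := Cfsg.Agent.Lib.Perm.SharplyThree.exists_swap h3 hsharp hab hac hbc
  obtain ⟨F, hF, hFf, hcard, he⟩ := Cfsg.Agent.Lib.Perm.SharplyThree.exists_pgl h3 hsharp hn hab hac hbc
    (Cfsg.Agent.Lib.Perm.SharplyThree.comm_of_odd hsharp hab hac hbc hodd wa wb wc ww)
  exact ⟨F, hF, hFf, by omega, he⟩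

end Cfsg.Agent.S0727
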