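import Cfsg.Statements.S0658
import Cfsg.Agent.Lib.ZJ.Complement
import Cfsg.Agent.Lib.ZJ.Centers
import Cfsg.Agent.Lib.PSolvable.Constrained
import Cfsg.Agent.Lib.Transfer.Sylow

set_option autoImplicit false
open Cfsg

namespace Cfsg.Agent.S0658

/-- In a group of characteristic p type all of whose p-locals are p-stable (p odd), the normalizer of Z(J(P)) contains the normalizer of every nontrivial subgroup of the Sylow p-subgroup P. -/
theorem result {G : Type*} [Group G] [Finite G] {p : ℕ} [Fact p.Prime] (hp : p ≠ 2) (hloc : ∀ Q : Subgroup G, IsPGroup p Q → Q ≠ ⊥ → Cfsg.pPrimeCore p ↥(Subgroup.normalizer (Q : Set G)) = ⊥ ∧ Cfsg.IsPConstrained p ↥(Subgroup.normalizer (Q : Set G)) ∧ Cfsg.IsPStable p ↥(Subgroup.normalizer (Q : Set G))) (P : Sylow p G) (Q : Subgroup G) (hQP : Q ≤ (P : Subgroup G)) (hQ1 : Q ≠ ⊥) : Subgroup.normalizer (Q : Set G) ≤ Subgroup.normalizer (Cfsg.centerThompsonAOf ((P : Subgroup G)) : Set G) := by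
  classical
  rw [CfsgLib.ZJ.centerThompsonAOf_eq]
  set M := Subgroup.normalizer (CfsgLib.ZJ.zJ 0 (P : Subgroup G) : Set G) with hM
  suffices key : ∀ (n : ℕ) (Q : Subgroup G), Q ≤ (P : Subgroup G) → Q ≠ ⊥ →
      Nat.card P - Nat.card ↥((P : Subgroup G) ⊓ Subgroup.normalizer (Q : Set G)) = n →
      Subgroup.normalizer (Q : Set G) ≤ M from key _ Q hQP hQ1 rfl
  intro n
  induction n using Nat.strong_induction_on with
  | _ n IH =>
  intro Q hQ hQ1 hn
  set H := Subgroup.normalizer (Q : Set G) with hH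
  set R := (P : Subgroup G) ⊓ H with hR
  have hQR : Q ≤ R := le_inf hQ Subgroup.le_normalizer
  obtain ⟨hO, hcon, hst⟩ := hloc Q (P.2.to_le hQ) hQ1
  have hc : Subgroup.centralizer (Cfsg.pCore p H : Set H) ≤ Cfsg.pCore p H := by
    exact (CfsgLib.PSolvable.isPConstrained_iff_of_surjective (f := MonoidHom.id H)
      Function.surjective_id (by rw [hO]; exact MonoidHom.ker_id)).mp hcon
  -- an element-wise form of the ZJ theorem in `H`
  have hZJ : ∀ T : Sylow p H,
      H ≤ Subgroup.normalizer (CfsgLib.ZJ.zJ 0 ((T : Subgroup H).map H.subtype) : Set G) := by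
    intro T
    have h1 := CfsgLib.ZJ.zJ_characteristic hp (Or.inl rfl) T hc
      (CfsgLib.ZJ.stableAt_of_isPStable hst T)
    have h2 : (CfsgLib.ZJ.zJ 0 (T : Subgroup H)).map H.subtype
        = CfsgLib.ZJ.zJ 0 ((T : Subgroup H).map H.subtype) :=
      CfsgLib.ZJ.map_zJ 0 H.subtype H.subtype_injective.injOn
    rw [← h2]
    intro h hh
    haveI : (CfsgLib.ZJ.zJ 0 (T : Subgroup H)).Normal := inferInstance
    exact Subgroup.le_normalizer_map (H := CfsgLib.ZJ.zJ 0 (T : Subgroup H)) H.subtype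
      ⟨⟨h, hh⟩, (Subgroup.normalizer_eq_top (CfsgLib.ZJ.zJ 0 (T : Subgroup H))).symm ▸
        Subgroup.mem_top _, rfl⟩
  -- a larger `P ⊓ N(Q')` finishes by induction
  have hbig : ∀ Q' : Subgroup G, Q' ≤ (P : Subgroup G) → Q' ≠ ⊥ →
      Nat.card R < Nat.card ↥((P : Subgroup G) ⊓ Subgroup.normalizer (Q' : Set G)) →
      Subgroup.normalizer (Q' : Set G) ≤ M := by
    intro Q' hQ' hQ'1 hlt
    refine IH _ ?_ Q' hQ' hQ'1 rfl
    have := Subgroup.card_le_of_le (inf_le_left :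
      (P : Subgroup G) ⊓ Subgroup.normalizer (Q' : Set G) ≤ (P : Subgroup G))
    omega
  by_cases hPR : (P : Subgroup G) ≤ H
  · have := hZJ (P.subtype hPR)
    rwa [Sylow.coe_subtype, Subgroup.map_subgroupOf_eq_of_le hPR] at this
  have hRP : R < (P : Subgroup G) := lt_of_le_of_ne inf_le_left fun h => hPR (inf_eq_left.mp h)
  haveI hnil : Group.IsNilpotent P := P.2.isNilpotent
  have hgrow : R < (P : Subgroup G) ⊓ Subgroup.normalizer (R : Set G) :=
    CfsgLib.Transfer.lt_inf_normalizer P.2 hRP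
  have hR1 : R ≠ ⊥ := fun h => hQ1 (le_bot_iff.mp (h ▸ hQR))
  have hNR : Subgroup.normalizer (R : Set G) ≤ M :=
    hbig R inf_le_left hR1 (Set.ncard_lt_ncard hgrow (Set.toFinite _))
  -- a Sylow subgroup of `H` containing `R`
  obtain ⟨T, hT⟩ := (P.2.to_le (inf_le_left : R ≤ P)).comap_of_injective H.subtype
    H.subtype_injective |>.exists_le_sylow
  set T' := (T : Subgroup H).map H.subtype with hT'
  have hRT : R ≤ T' := fun x hx => ⟨⟨x, hx.2⟩, hT hx, rfl⟩
  rcases hRT.eq_or_lt with heq | hlt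
  · obtain ⟨z, hzm, hz1, -⟩ := CfsgLib.ZJ.zJ_ne_bot (e := 0) (Or.inl rfl) (P.2.to_le inf_le_left) hR1
    have hz : CfsgLib.ZJ.zJ 0 R ≠ ⊥ := fun h => hz1 (Subgroup.mem_bot.mp (h ▸ hzm))
    have hzle : CfsgLib.ZJ.zJ 0 R ≤ (P : Subgroup G) :=
      (CfsgLib.ZJ.zJ_le 0 R).trans inf_le_left
    have h1 : Subgroup.normalizer (CfsgLib.ZJ.zJ 0 R : Set G) ≤ M := by
      refine hbig _ hzle hz ((Set.ncard_lt_ncard hgrow (Set.toFinite _)).trans_le
        (Subgroup.card_le_of_le (inf_le_inf_left _ (CfsgLib.ZJ.normalizer_le_normalizer_zJ 0 R))))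
    have h2 := hZJ T
    rw [← hT', ← heq] at h2
    exact h2.trans h1
  · -- `T'` meets `M` in more than `R`
    have hT'p : IsPGroup p T' := T.2.map _
    set R₁ := T' ⊓ M with hR₁
    have hR₁R : R < R₁ := lt_of_lt_of_le (CfsgLib.Transfer.lt_inf_normalizer hT'p hlt)
      (inf_le_inf_left _ hNR)
    have hR₁H : R₁ ≤ H := inf_le_left.trans (Subgroup.map_subtype_le _)
    have hPM : (P : Subgroup G) ≤ M :=
      (Subgroup.le_normalizer (H := (P : Subgroup G))).trans
        (CfsgLib.ZJ.normalizer_le_normalizer_zJ 0 _)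
    obtain ⟨S, hS⟩ := ((hT'p.to_le inf_le_left : IsPGroup p R₁).comap_of_injective M.subtype
      M.subtype_injective).exists_le_sylow
    obtain ⟨⟨m, hm⟩, hmS⟩ := MulAction.exists_smul_eq M S (P.subtype hPM)
    have hmap : R₁.map (MulAut.conj m).toMonoidHom ≤ (P : Subgroup G) := by
      rintro _ ⟨x, hx, rfl⟩
      have h1 : (⟨m, hm⟩ : M) * ⟨x, hx.2⟩ * ⟨m, hm⟩⁻¹ ∈
          ((P.subtype hPM : Sylow p M) : Subgroup M) :=
        hmS ▸ ⟨⟨x, hx.2⟩, hS (show (⟨x, hx.2⟩ : M) ∈ R₁.comap M.subtype from hx), rfl⟩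
      rw [Sylow.coe_subtype, Subgroup.mem_subgroupOf] at h1
      exact h1
    have hQ' : Q.map (MulAut.conj m).toMonoidHom ≤ (P : Subgroup G) :=
      (Subgroup.map_mono (hQR.trans hR₁R.le)).trans hmap
    have hN' : H.map (MulAut.conj m).toMonoidHom
        = Subgroup.normalizer (Q.map (MulAut.conj m).toMonoidHom : Set G) :=
      Subgroup.map_equiv_normalizer_eq Q (MulAut.conj m)
    have h1 : Subgroup.normalizer (Q.map (MulAut.conj m).toMonoidHom : Set G) ≤ M := by
      refine hbig _ hQ' (fun h => hQ1 ((Subgroup.map_eq_bot_iff_of_injective _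
        (MulAut.conj m).injective).mp h)) ?_
      refine (Set.ncard_lt_ncard hR₁R (Set.toFinite _)).trans_le ?_
      show Nat.card R₁ ≤ _
      rw [← Subgroup.card_map_of_injective (K := R₁) (show Function.Injective (MulAut.conj m).toMonoidHom from (MulAut.conj m).injective)]
      exact Subgroup.card_le_of_le (le_inf hmap (hN' ▸ Subgroup.map_mono hR₁H))
    intro x hx
    have h2 : m * x * m⁻¹ ∈ M := h1 (hN' ▸ ⟨x, hx, rfl⟩)
    have := M.mul_mem (M.mul_mem (M.inv_mem hm) h2) hm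
    simpa [mul_assoc] using this

end Cfsg.Agent.S0658
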