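import Cfsg.Statements.S1464
import Cfsg.Agent.Lib.Quadratic.Stable
import Cfsg.Agent.Lib.ZJ.Core
import Cfsg.Agent.Lib.PSolvable.Core

set_option autoImplicit false
set_option linter.style.haveILetI false
open Cfsg

namespace Cfsg.Agent.S1464

open scoped commutatorElement

/-- Let p be an odd prime and G a solvable group of odd order, P a p-subgroup with O_{p'}(G)P normal in G, and A a p-subgroup of N_G(P) with [[P, A], A] = 1. Then the image of A in the quotient N_G(P)/C_G(P) is contained in the p-core of that quotient. -/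
theorem result {G : Type*} [Group G] [Finite G] [Group.IsSolvable G] (hodd : Odd (Nat.card G)) (p : ℕ) [Fact p.Prime] (hp : p ≠ 2) (P A : Subgroup G) (hP : IsPGroup p P) (hPn : (Cfsg.pPrimeCore p G ⊔ P).Normal)
    (hA : IsPGroup p A) (hAN : A ≤ Subgroup.normalizer (P : Set G)) (hquad : ⁅⁅P, A⁆, A⁆ = ⊥) :
    (A.subgroupOf (Subgroup.normalizer (P : Set G))).map
        (QuotientGroup.mk' ((Subgroup.centralizer (P : Set G)).subgroupOf (Subgroup.normalizer (P : Set G))))
      ≤ Cfsg.pCore p _ := by
  haveI : (P.subgroupOf (Subgroup.normalizer (P : Set G))).Normal := Subgroup.normal_in_normalizer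
  set N := Subgroup.normalizer (P : Set G) with hN
  set V := P.subgroupOf N with hV
  have hPN : P ≤ N := Subgroup.le_normalizer
  rintro _ ⟨a, ha, rfl⟩
  have haA : (a : G) ∈ A := ha
  have hq : ⁅⁅V, Subgroup.zpowers a⁆, Subgroup.zpowers a⁆ = ⊥ := by
    refine Subgroup.map_injective N.subtype_injective ?_
    rw [Subgroup.map_commutator, Subgroup.map_commutator, Subgroup.map_bot, hV,
      Subgroup.map_subgroupOf_eq_of_le hPN, MonoidHom.map_zpowers, eq_bot_iff, ← hquad]
    have hz : Subgroup.zpowers (N.subtype a) ≤ A := Subgroup.zpowers_le.mpr haA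
    exact Subgroup.commutator_mono (Subgroup.commutator_mono le_rfl hz) hz
  have hVp : IsPGroup p V := hP.comap_of_injective N.subtype N.subtype_injective
  have hoddN : Odd (Nat.card N) := Odd.of_dvd_nat hodd (Subgroup.card_subgroup_dvd_card N)
  have hmem := CfsgLib.Quadratic.isPStableOn_isPGroup_of_sectionsStable
    (CfsgLib.Quadratic.sectionsStable_of_odd hp hoddN) V hVp a hq
  have hle : Subgroup.centralizer (V : Set N) ≤ (Subgroup.centralizer (P : Set G)).subgroupOf N := by
    intro c hc x hx
    exact congrArg Subtype.val (hc ⟨x, hPN hx⟩ hx)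
  let ψ := QuotientGroup.map (Subgroup.centralizer (V : Set N))
    ((Subgroup.centralizer (P : Set G)).subgroupOf N) (MonoidHom.id N) hle
  have hψ : Function.Surjective ψ := fun y => by
    obtain ⟨x, rfl⟩ := QuotientGroup.mk'_surjective _ y
    exact ⟨QuotientGroup.mk x, rfl⟩
  exact CfsgLib.Fitting.le_pCore ((CfsgLib.Fitting.pCore_normal p).map ψ hψ)
    ((CfsgLib.Fitting.pCore_isPGroup p).map ψ) ⟨_, hmem, rfl⟩
end Cfsg.Agent.S1464
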