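import Cfsg.Statements.S0346
import Cfsg.Agent.Lib.Zassenhaus.FrobeniusKernel

set_option autoImplicit false
set_option linter.style.haveILetI false
open Cfsg

namespace Cfsg.Agent.S0346

/-- The number of points of a finite simple Zassenhaus group is `p^k + 1` for some prime power `p^k` (the regular normal
subgroup of a point stabiliser is a `p`-group). -/
theorem result {G Ω : Type*} [Group G] [Finite G] [MulAction G Ω] [Fintype Ω]
    (hZ : Cfsg.IsZassenhausGroup G Ω) [IsSimpleGroup G] :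
    IsPrimePow (Fintype.card Ω - 1) := by
  classical
  obtain ⟨hf, h2, h3, h4, -⟩ := hZ
  have hz := CfsgLib.Zassenhaus.ZG.mk' hf h2 h3 h4
  obtain ⟨g, hg1, a, b, hab, ha, hb⟩ := h4
  have hne : CfsgLib.Zassenhaus.D2 G a b ≠ ⊥ := fun h => hg1 ((Subgroup.eq_bot_iff_forall _).mp h g ⟨ha, hb⟩)
  obtain ⟨U, hU⟩ := CfsgLib.Zassenhaus.exists_regKernel hz hab hne
  haveI := hU.nil
  haveI := (CfsgLib.Zassenhaus.D2 G a b).nontrivial_iff_ne_bot.mpr hne
  obtain ⟨p, hp, hpU⟩ := CfsgLib.Char.TINilpotent.exists_isPGroup (hU.setting hz hab.symm) Finite.one_lt_card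
  haveI := Fact.mk hp
  obtain ⟨n, hn⟩ := hpU.exists_card_eq
  rw [hU.card_eq hz hab.symm, Nat.card_eq_fintype_card] at hn
  rw [hn]
  refine ⟨p, n, hp.prime, Nat.pos_of_ne_zero fun h0 => ?_, rfl⟩
  have := hz.three
  rw [h0, pow_zero] at hn
  rw [Nat.card_eq_fintype_card] at this
  omega

end Cfsg.Agent.S0346
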