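import Cfsg.Statements.S1477
import Cfsg.Agent.Lib.CNOdd.Kernel

set_option autoImplicit false
open Cfsg

namespace Cfsg.Agent.S1477

open Cfsg.Agent.CNOdd

theorem eq_kernelOf {G : Type*} [Group G] [Finite G] (hCN : Cfsg.IsCNGroup G) (H : Subgroup G)
    (hH : Group.IsNilpotent H)
    (hmax : ∀ L : Subgroup G, Group.IsNilpotent L → H ≤ L → L = H) (hne : H ≠ ⊥) :
    ∃ (p : ℕ) (_ : Fact p.Prime) (P : Sylow p G), (P : Subgroup G) ≠ ⊥ ∧
      H = kernelOf (P : Subgroup G) := by
  haveI := hH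
  haveI : Nontrivial H := (Subgroup.nontrivial_iff_ne_bot H).2 hne
  obtain ⟨p, hp, hd⟩ := Nat.exists_prime_and_dvd (Finite.one_lt_card (α := H)).ne'
  haveI := Fact.mk hp
  obtain ⟨s, hs⟩ := exists_prime_orderOf_dvd_card' p hd
  obtain ⟨S⟩ : Nonempty (Sylow p H) := inferInstance
  obtain ⟨P, hP⟩ := (S.2.map H.subtype).exists_le_sylow
  have hz : IsPGroup p (Subgroup.zpowers s) :=
    IsPGroup.of_card (n := 1) (by rw [Nat.card_zpowers, hs, pow_one])
  have hin : ∀ u : H, IsPGroup p (Subgroup.zpowers u) → (u : G) ∈ (P : Subgroup G) := by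
    intro u hu
    haveI : (S : Subgroup H).Normal := inferInstance
    have hle : Subgroup.zpowers u ≤ (S : Subgroup H) :=
      le_sup_left.trans (S.3 (hu.to_sup_of_normal_right S.2) le_sup_right).le
    exact hP ⟨u, hle (Subgroup.mem_zpowers u), rfl⟩
  have hsP : (s : G) ∈ (P : Subgroup G) := hin s hz
  have hs1 : (s : G) ≠ 1 := fun h => hp.ne_one (by rw [← hs, show s = 1 from Subtype.ext h, orderOf_one])
  have hP1 : (P : Subgroup G) ≠ ⊥ := fun h => hs1 (Subgroup.mem_bot.1 (h ▸ hsP))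
  refine ⟨p, inferInstance, P, hP1, (hmax _ (kernelOf_nilpotent hCN P hP1) ?_).symm⟩
  intro g hg
  obtain ⟨u, v, rfl, hu, hv, ⟨k, hk⟩, hvc⟩ := exists_parts g p
  have huH : u ∈ H := (Subgroup.zpowers_le.2 hg) hu
  have hvH : v ∈ H := (Subgroup.zpowers_le.2 hg) hv
  refine mul_mem (le_kernelOf _ (hin ⟨u, huH⟩ ?_)) (centralizer_le_kernelOf _ ?_)
  · obtain ⟨j, -, hj⟩ := (Nat.dvd_prime_pow hp).1 (orderOf_dvd_of_pow_eq_one hk)
    refine IsPGroup.of_card (n := j) ?_
    rw [Nat.card_zpowers, Subgroup.orderOf_mk, hj]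
  · have hcop : ∀ a ∈ (P : Subgroup G), (orderOf a).Coprime (orderOf v) := fun a ha => by
      obtain ⟨j, hj⟩ := sylow_pow_eq_one P ha
      exact ((hvc.pow_right j).coprime_dvd_right (orderOf_dvd_of_pow_eq_one hj)).symm
    obtain ⟨z, hz, hz1, hzc⟩ := exists_central P hP1
    have hsv : (s : G) * v = v * s := commute_in_nilpotent hH s.2 hvH (hcop s hsP)
    have hzv : z * v = v * z := commute_of_cn hCN hs1 (hzc s hsP).symm hsv.symm (hcop z hz)
    exact Subgroup.mem_centralizer_iff.2 fun a ha =>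
      commute_of_cn hCN hz1 (hzc a ha) hzv.symm (hcop a ha)

/-- Let G be a finite group in which every non-identity element has nilpotent centralizer, and H a nilpotent subgroup not properly contained in any nilpotent subgroup. Then the order of H is coprime to its index; if the order of H is not a prime power then H ∩ gHg⁻¹ = 1 whenever gHg⁻¹ ≠ H; and if H ∩ gHg⁻¹ = 1 whenever gHg⁻¹ ≠ H, then C_G(x) ≤ H for every non-identity x ∈ H. -/
theorem result {G : Type*} [Group G] [Finite G] (hCN : Cfsg.IsCNGroup G) (H : Subgroup G) (hH : Group.IsNilpotent H)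
    (hmax : ∀ L : Subgroup G, Group.IsNilpotent L → H ≤ L → L = H) :
    (Nat.card H).Coprime H.index ∧
      (¬ IsPrimePow (Nat.card H) → Nat.card H ≠ 1 → ∀ g : G, H.map (MulAut.conj g).toMonoidHom ≠ H → H ⊓ H.map (MulAut.conj g).toMonoidHom = ⊥) ∧
      ((∀ g : G, H.map (MulAut.conj g).toMonoidHom ≠ H → H ⊓ H.map (MulAut.conj g).toMonoidHom = ⊥) → ∀ x ∈ H, x ≠ 1 → Subgroup.centralizer ({x} : Set G) ≤ H) := by
  classical
  rcases eq_or_ne H ⊥ with rfl | hne
  · refine ⟨by simp, fun _ h => absurd Subgroup.card_bot h, fun _ x hx hx1 => ?_⟩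
    exact absurd (Subgroup.mem_bot.1 hx) hx1
  obtain ⟨p, hp, P, hP, rfl⟩ := eq_kernelOf hCN H hH hmax hne
  have hmap : ∀ g : G, g ∈ Subgroup.normalizer (kernelOf (P : Subgroup G) : Set G) →
      (kernelOf (P : Subgroup G)).map (MulAut.conj g).toMonoidHom = kernelOf (P : Subgroup G) :=
    fun g hg => Subgroup.mem_normalizer_iff_map_conj_eq.1 hg
  refine ⟨kernelOf_hall hCN P hP, fun hpp h1 g hg => ?_, fun hTI x hx hx1 => ?_⟩
  · have hK : kernelOf (P : Subgroup G) ≠ P := by
      intro h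
      apply hpp
      obtain ⟨n, hn⟩ := IsPGroup.iff_card.1 P.2
      rw [h, hn]
      refine hp.out.isPrimePow.pow ?_
      rintro rfl
      exact h1 (by rw [h, hn, pow_zero])
    by_contra hne'
    obtain ⟨⟨y, hy⟩, hy1⟩ := Subgroup.ne_bot_iff_exists_ne_one.1 hne'
    obtain ⟨x, hx, rfl⟩ := hy.2
    refine hg (hmap g (ti_of_not_pgroup hCN P hP hK hx hy.1 fun h => hy1 (Subtype.ext ?_)))
    subst h
    simp
  · rcases centralizer_le_or hCN P hP hx hx1 with h | ⟨hK, hC⟩
    · exact h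
    intro c hc
    have hcN : c ∈ Subgroup.normalizer (kernelOf (P : Subgroup G) : Set G) := by
      by_contra hcN
      have h := hTI c fun h => hcN (Subgroup.mem_normalizer_iff_map_conj_eq.2 h)
      have hxm : x ∈ kernelOf (P : Subgroup G) ⊓
          (kernelOf (P : Subgroup G)).map (MulAut.conj c).toMonoidHom := by
        refine Subgroup.mem_inf.2 ⟨hx, x, hx, ?_⟩
        show c * x * c⁻¹ = x
        rw [Subgroup.mem_centralizer_singleton_iff.1 hc, mul_inv_cancel_right]
      rw [h, Subgroup.mem_bot] at hxm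
      exact hx1 hxm
    rw [hK] at hcN ⊢
    have hz : IsPGroup p (Subgroup.zpowers c) := hC.to_le (Subgroup.zpowers_le.2 hc)
    have hsup := IsPGroup.to_sup_of_normal_right' hz P.2 (Subgroup.zpowers_le.2 hcN)
    exact (le_sup_left.trans (P.3 hsup le_sup_right).le) (Subgroup.mem_zpowers c)
end Cfsg.Agent.S1477
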