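import Cfsg.Statements.S0670
import Mathlib

set_option autoImplicit false
open Cfsg

namespace Cfsg.Agent.S0670

/-- In characteristic `p`, the permutation module of a transitive action of degree `p ^ f` has the line of constant functions as its only irreducible submodule: every non-zero subrepresentation contains it. -/
theorem result {G : Type*} [Group G] [Finite G] {K : Type*} [Field K] {p f : ℕ} [Fact p.Prime] [CharP K p] {Ω : Type*} [Fintype Ω] [MulAction G Ω] [MulAction.IsPretransitive G Ω] (hf : 1 ≤ f) (hcard : Fintype.card Ω = p ^ f) (W : Subrepresentation (Cfsg.permRep K G Ω)) (hW : W.toSubmodule ≠ ⊥) : (Cfsg.permConstants K G Ω).toSubmodule ≤ W.toSubmodule := by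
  classical
  obtain ⟨P⟩ : Nonempty (Sylow p G) := inferInstance
  have hΩ : Nonempty Ω := by
    rw [← Fintype.card_pos_iff, hcard]
    exact pow_pos (Fact.out : p.Prime).pos f
  obtain ⟨x₀⟩ := hΩ
  -- the Sylow subgroup is transitive
  have hPt : ∀ y : Ω, ∃ g ∈ (P : Subgroup G), g • x₀ = y := by
    have h1 : (MulAction.stabilizer G x₀).index = p ^ f := by
      rw [MulAction.index_stabilizer_of_transitive, Nat.card_eq_fintype_card, hcard]
    have h2 : (MulAction.stabilizer G x₀).relIndex (P : Subgroup G) * (P : Subgroup G).index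
        = (MulAction.stabilizer G x₀ ⊓ (P : Subgroup G)).index := by
      rw [← Subgroup.inf_relIndex_right, Subgroup.relIndex_mul_index inf_le_right]
    have h3 : p ^ f ∣ (MulAction.stabilizer G x₀).relIndex (P : Subgroup G) := by
      have h4 : p ^ f ∣ (MulAction.stabilizer G x₀ ⊓ (P : Subgroup G)).index :=
        h1 ▸ Subgroup.index_dvd_of_le inf_le_left
      rw [← h2] at h4
      exact (Nat.Coprime.pow_left f
        (((Fact.out : p.Prime).coprime_iff_not_dvd).2 P.not_dvd_index)).dvd_of_dvd_mul_right h4
    have h5 : (MulAction.stabilizer G x₀).relIndex (P : Subgroup G)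
        = (MulAction.orbit (P : Subgroup G) x₀).ncard := by
      rw [← MulAction.index_stabilizer]
      exact congrArg Subgroup.index (by ext g; exact Iff.rfl)
    have h6 : MulAction.orbit (P : Subgroup G) x₀ = Set.univ := by
      refine Set.eq_of_subset_of_ncard_le (Set.subset_univ _) ?_
      rw [Set.ncard_univ, Nat.card_eq_fintype_card, hcard, ← h5]
      refine Nat.le_of_dvd ?_ h3
      rw [h5]
      exact (Set.ncard_pos (Set.toFinite _)).2 (MulAction.nonempty_orbit x₀)
    intro y
    obtain ⟨g, hg⟩ : y ∈ MulAction.orbit (P : Subgroup G) x₀ := by rw [h6]; trivial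
    exact ⟨g, g.2, hg⟩
  obtain ⟨v, hvW, hv0⟩ := Submodule.exists_mem_ne_zero_of_ne_bot hW
  let _ : Algebra (ZMod p) K := ZMod.algebra K p
  let A : Submodule (ZMod p) K := Submodule.span (ZMod p) (Set.range v)
  have hA : Finite A := by
    have : Module.Finite (ZMod p) A :=
      Module.Finite.span_of_finite (ZMod p) (Set.finite_range v)
    exact Module.finite_of_finite (ZMod p)
  let S : AddSubgroup (Ω → K) :=
    { carrier := {w | w ∈ W.toSubmodule ∧ ∀ x, w x ∈ A}
      zero_mem' := ⟨W.toSubmodule.zero_mem, fun x => A.zero_mem⟩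
      add_mem' := fun ha hb => ⟨W.toSubmodule.add_mem ha.1 hb.1, fun x => A.add_mem (ha.2 x) (hb.2 x)⟩
      neg_mem' := fun ha => ⟨W.toSubmodule.neg_mem ha.1, fun x => A.neg_mem (ha.2 x)⟩ }
  have hS : Finite S := Finite.of_injective
    (fun w : S => fun x => (⟨(w : Ω → K) x, w.2.2 x⟩ : A)) (fun w w' h => by
      apply Subtype.ext
      funext x
      exact congrArg Subtype.val (congrFun h x))
  let _ : MulAction (P : Subgroup G) S :=
    { smul := fun g w => ⟨permRep K G Ω (g : G) (w : Ω → K),
        W.apply_mem_toSubmodule (g : G) w.2.1, fun x => w.2.2 _⟩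
      one_smul := fun w => Subtype.ext (by
        show permRep K G Ω ((1 : (P : Subgroup G)) : G) (w : Ω → K) = _
        simp)
      mul_smul := fun g h w => Subtype.ext (by
        show permRep K G Ω ((g * h : (P : Subgroup G)) : G) (w : Ω → K)
          = permRep K G Ω (g : G) (permRep K G Ω (h : G) (w : Ω → K))
        simp [map_mul]) }
  have hvS : v ∈ S := ⟨hvW, fun x => Submodule.subset_span ⟨x, rfl⟩⟩
  have hdvd : p ∣ Nat.card S := by
    have hord : addOrderOf (⟨v, hvS⟩ : S) = p := by
      apply addOrderOf_eq_prime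
      · apply Subtype.ext
        funext x
        show ((p • v) x) = 0
        simp
      · exact fun h => hv0 (congrArg Subtype.val h)
    exact hord ▸ addOrderOf_dvd_natCard _
  obtain ⟨w, hw, hw0⟩ := P.isPGroup'.exists_fixed_point_of_prime_dvd_card_of_fixed_point S hdvd
    (a := 0) (fun g => Subtype.ext (map_zero (permRep K G Ω (g : G))))
  have hconst : ∀ y, (w : Ω → K) y = (w : Ω → K) x₀ := fun y => by
    obtain ⟨g, hg, rfl⟩ := hPt y
    have h := congrFun (congrArg Subtype.val (hw ⟨g, hg⟩)) (g • x₀)
    have h' : (w : Ω → K) (g⁻¹ • g • x₀) = (w : Ω → K) (g • x₀) := h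
    rw [inv_smul_smul] at h'
    exact h'.symm
  have hc : (w : Ω → K) x₀ ≠ 0 := fun h => hw0 (Subtype.ext (funext fun y => by
    show (0 : K) = (w : Ω → K) y
    rw [hconst, h]))
  show Submodule.span K {fun _ => (1 : K)} ≤ W.toSubmodule
  rw [Submodule.span_singleton_le_iff_mem]
  have := W.toSubmodule.smul_mem ((w : Ω → K) x₀)⁻¹ w.2.1
  convert this using 1
  funext y
  simp [hconst y, hc]

end Cfsg.Agent.S0670
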