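import Cfsg.Statements.S0675
import Cfsg.Agent.Lib.Perm.PermModule

set_option autoImplicit false
open Cfsg

namespace Cfsg.Agent.S0675

/-- Burnside's Theorem on permutation groups of prime degree: a transitive permutation group of prime degree that is not solvable is doubly transitive. -/
theorem result {α : Type*} [Fintype α] [DecidableEq α] (hα : (Fintype.card α).Prime) (G : Subgroup (Equiv.Perm α)) [MulAction.IsPretransitive G α] : Group.IsSolvable G ∨ MulAction.IsMultiplyPretransitive G α 2 := by
  classical
  haveI := Fact.mk hα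
  rw [or_iff_not_imp_left]
  intro hG
  set p := Fintype.card α with hp
  refine CfsgLib.PermModule.two_transitive (K := ZMod p) (p := p) (f := 1) le_rfl (pow_one p).symm ?_
  intro W W' hC hlt hS
  have hW : W = Cfsg.permConstants (ZMod p) G α := by
    rcases CfsgLib.PermModule.heart_irreducible rfl G hG W hC (hlt.le.trans hS) with h | h
    · exact h
    · exact absurd (h ▸ hlt) (not_lt_of_ge hS)
  have hW' : W' = Cfsg.permSumZero (ZMod p) G α := by
    rcases CfsgLib.PermModule.heart_irreducible rfl G hG W' (hC.trans hlt.le) hS with h | h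
    · exact absurd (h ▸ hlt) (not_lt_of_ge hC)
    · exact h
  subst hW hW'
  by_contra hcon
  push Not at hcon
  refine hG ?_
  have hp5 : 5 ≤ p := by
    by_contra h5
    refine hG ?_
    haveI : Group.IsSolvable (Equiv.Perm α) := by
      have hp4 : p < 5 := by omega
      have h2 := hα.two_le
      rcases (show p = 2 ∨ p = 3 ∨ p = 4 by omega) with h | h | h
      · exact CfsgLib.PermModule.isSolvable_perm_of_card_le_three (by omega)
      · exact CfsgLib.PermModule.isSolvable_perm_of_card_le_three (by omega)
      · rw [h] at hα; norm_num at hα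
    infer_instance
  have htriv : ∀ g : G, g = 1 := by
    intro g
    refine Subtype.ext (Equiv.ext fun x => ?_)
    by_contra hne
    obtain ⟨y, hy⟩ : ∃ y, y ∉ [x, (g : Equiv.Perm α) x, (g : Equiv.Perm α)⁻¹ x] := by
      by_contra h
      push Not at h
      have : (Finset.univ : Finset α) ⊆ [x, (g : Equiv.Perm α) x, (g : Equiv.Perm α)⁻¹ x].toFinset :=
        fun z _ => List.mem_toFinset.mpr (h z)
      have := (Finset.card_le_card this).trans (List.toFinset_card_le _)
      simp at this
      omega
    simp only [List.mem_cons, List.not_mem_nil, or_false, not_or] at hy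
    obtain ⟨hyx, hygx, hyg⟩ := hy
    let v : α → ZMod p := Pi.single x 1 - Pi.single y 1
    have hv : v ∈ (Cfsg.permSumZero (ZMod p) G α).toSubmodule :=
      CfsgLib.PermModule.mem_sumZero.mpr (by simp [v, Finset.sum_sub_distrib])
    obtain ⟨c, hc⟩ := Submodule.mem_span_singleton.mp (hcon g v hv)
    obtain ⟨z, hz⟩ : ∃ z, z ∉ [x, y, (g : Equiv.Perm α) x, (g : Equiv.Perm α) y] := by
      by_contra h
      push Not at h
      have : (Finset.univ : Finset α) ⊆ [x, y, (g : Equiv.Perm α) x, (g : Equiv.Perm α) y].toFinset :=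
        fun z _ => List.mem_toFinset.mpr (h z)
      have := (Finset.card_le_card this).trans (List.toFinset_card_le _)
      simp at this
      omega
    simp only [List.mem_cons, List.not_mem_nil, or_false, not_or] at hz
    obtain ⟨hzx, hzy, hzgx, hzgy⟩ := hz
    have hval : ∀ w, c = v ((g : Equiv.Perm α)⁻¹ w) - v w := fun w => by
      have := congrFun hc w
      simpa [CfsgLib.PermModule.rep_apply, Subgroup.smul_def] using this
    have hc0 : c = 0 := by
      rw [hval z]
      have h1 : (g : Equiv.Perm α)⁻¹ z ≠ x := fun h => hzgx (Equiv.Perm.inv_eq_iff_eq.mp h)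
      have h2 : (g : Equiv.Perm α)⁻¹ z ≠ y := fun h => hzgy (Equiv.Perm.inv_eq_iff_eq.mp h)
      simp only [v, Pi.sub_apply, Pi.single_eq_of_ne h1, Pi.single_eq_of_ne h2, Pi.single_eq_of_ne hzx,
        Pi.single_eq_of_ne hzy, sub_zero]
    have h1 : (g : Equiv.Perm α)⁻¹ x ≠ x := fun h => hne (Equiv.Perm.inv_eq_iff_eq.mp h).symm
    have h2 : (g : Equiv.Perm α)⁻¹ x ≠ y := fun h => hyg h.symm
    have hx' := hval x
    simp only [hc0, v, Pi.sub_apply, Pi.single_eq_of_ne h1, Pi.single_eq_of_ne h2, Pi.single_eq_same,
      Pi.single_eq_of_ne (Ne.symm hyx), sub_zero, zero_sub] at hx'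
    exact one_ne_zero (neg_eq_zero.mp hx'.symm)
  haveI : Subsingleton G := ⟨fun a b => by rw [htriv a, htriv b]⟩
  infer_instance

end Cfsg.Agent.S0675
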