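import Cfsg.Statements.S1475
import Cfsg.Agent.Lib.Hall.Basic

set_option autoImplicit false
open Cfsg

namespace Cfsg.Agent.S1475

/-- Lines through a point add up to nothing: a group with such a configuration of subgroups of prime order
cannot act freely on an abelian group of order prime to `s`. -/
theorem eq_one_of_config {V : Type*} [CommGroup V] {G : Type*} [Group G] [MulDistribMulAction G V] {s t : ℕ}
    (hs : s.Prime) (ht : t.Prime) (x y : G) (hx : orderOf x = s) (hy : ∀ j : ℕ, (x ^ j * y) ^ t = 1)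
    (hny : y ∉ Subgroup.zpowers x) (hnorm : y * x * y⁻¹ ∈ Subgroup.zpowers x)
    (hfree : ∀ g ∈ Subgroup.zpowers x ⊔ Subgroup.zpowers y, g ≠ 1 → ∀ v : V, g • v = v → v = 1)
    (v : V) : v ^ s = 1 := by
  classical
  -- the product over a subgroup of prime order is fixed, hence trivial
  have hline : ∀ g ∈ Subgroup.zpowers x ⊔ Subgroup.zpowers y, ∀ r : ℕ, g ^ r = 1 → g ≠ 1 → ∀ w : V,
      ∏ k ∈ Finset.range r, g ^ k • w = 1 := by
    intro g hg r hr hg1 w
    refine hfree g hg hg1 _ ?_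
    rw [Finset.smul_prod']
    have h1 := Finset.prod_range_succ' (fun k => g ^ k • w) r
    rw [Finset.prod_range_succ, hr, one_smul, pow_zero, one_smul] at h1
    calc ∏ k ∈ Finset.range r, g • g ^ k • w = ∏ k ∈ Finset.range r, g ^ (k + 1) • w :=
          Finset.prod_congr rfl fun k _ => by rw [← mul_smul, ← pow_succ']
      _ = _ := (mul_right_cancel h1).symm
  have hxmem : x ∈ Subgroup.zpowers x ⊔ Subgroup.zpowers y := Subgroup.mem_sup_left (Subgroup.mem_zpowers x)
  have hymem : y ∈ Subgroup.zpowers x ⊔ Subgroup.zpowers y := Subgroup.mem_sup_right (Subgroup.mem_zpowers y)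
  have hzy : ∀ j : ℕ, x ^ j * y ≠ 1 := fun j h => hny (by
    rw [eq_inv_of_mul_eq_one_right h]
    exact inv_mem (pow_mem (Subgroup.mem_zpowers x) j))
  have hxs : x ^ s = 1 := by rw [← hx, pow_orderOf_eq_one]
  have hx1 : x ≠ 1 := fun h => hs.ne_one (by rw [← hx, h, orderOf_one])
  -- the lines through the powers
  have hmaps : ∀ k j : ℕ, (x ^ j * y) ^ k * (y ^ k)⁻¹ ∈ Subgroup.zpowers x := by
    intro k
    induction k with
    | zero => simp
    | succ k ih =>
      intro j
      have hN : ∀ z ∈ Subgroup.zpowers x, y * z * y⁻¹ ∈ Subgroup.zpowers x := by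
        intro z hz
        obtain ⟨i, rfl⟩ := Subgroup.mem_zpowers_iff.mp hz
        rw [← conj_zpow]
        exact zpow_mem hnorm i
      have := mul_mem (pow_mem (Subgroup.mem_zpowers x) j) (hN _ (ih j))
      rw [pow_succ' (x ^ j * y), pow_succ' y]
      convert this using 1
      group
  have hrow : ∀ k ∈ Finset.Ico 1 t, ∀ w : V, ∏ j ∈ Finset.range s, (x ^ j * y) ^ k • w = 1 := by
    intro k hk w
    rw [Finset.mem_Ico] at hk
    have hsel : ∀ j, ∃ i : ℕ, i < s ∧ (x ^ j * y) ^ k = x ^ i * y ^ k := by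
      intro j
      have h1 := hmaps k j
      rw [(orderOf_pos_iff.mp (hx ▸ hs.pos)).mem_zpowers_iff_mem_range_orderOf, hx] at h1
      obtain ⟨i, hi, he⟩ := Finset.mem_image.mp h1
      exact ⟨i, Finset.mem_range.mp hi, by rw [show x ^ i = (x ^ j * y) ^ k * (y ^ k)⁻¹ from he, inv_mul_cancel_right]⟩
    choose f hf1 hf2 using hsel
    calc ∏ j ∈ Finset.range s, (x ^ j * y) ^ k • w = ∏ i ∈ Finset.range s, x ^ i • (y ^ k • w) := by
          have hinj : ∀ a < s, ∀ b < s, f a = f b → a = b := by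
            intro a ha b hb h
            have hcop : k.Coprime t := (((Nat.Prime.coprime_iff_not_dvd ht).mpr fun h => by
                have := Nat.le_of_dvd (by omega) h
                omega).symm)
            obtain ⟨m, hm⟩ : ∃ m : ℕ, k * m ≡ 1 [MOD t] := ⟨(Nat.gcdA k t % (t : ℤ)).toNat, by
              have hb := Nat.gcd_eq_gcd_ab k t
              rw [hcop.gcd_eq_one, Nat.cast_one] at hb
              rw [← Int.natCast_modEq_iff]
              push_cast
              rw [Int.toNat_of_nonneg (Int.emod_nonneg _ (by exact_mod_cast ht.ne_zero))]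
              refine (Int.ModEq.mul_left _ (Int.mod_modEq _ _)).trans (Int.modEq_iff_dvd.mpr ⟨Nat.gcdB k t, ?_⟩)
              linarith⟩
            have e : ∀ c, ((x ^ c * y) ^ k) ^ m = x ^ c * y := fun c => by
              rw [← pow_mul, pow_eq_pow_mod (k * m) (hy c), show k * m % t = 1 % t from hm, ← pow_eq_pow_mod 1 (hy c), pow_one]
            have h3 : x ^ a * y = x ^ b * y := by rw [← e a, ← e b, hf2, hf2 b, h]
            exact (pow_injOn_Iio_orderOf (by simpa [hx] using ha) (by simpa [hx] using hb) (mul_right_cancel h3))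
          refine Finset.prod_bij (fun j _ => f j) (fun j _ => Finset.mem_range.mpr (hf1 j))
            (fun a ha b hb h => hinj a (Finset.mem_range.mp ha) b (Finset.mem_range.mp hb) h) ?_ (fun j _ => by rw [hf2, mul_smul])
          intro c hc
          obtain ⟨a, ha, e⟩ := Finset.surj_on_of_inj_on_of_card_le (fun j _ => f j) (fun j _ => Finset.mem_range.mpr (hf1 j))
            (fun a b ha hb h => hinj a (Finset.mem_range.mp ha) b (Finset.mem_range.mp hb) h) le_rfl c hc
          exact ⟨a, ha, e.symm⟩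
      _ = 1 := hline x hxmem s hxs hx1 _
  have hall : ∏ j ∈ Finset.range s, ∏ k ∈ Finset.range t, (x ^ j * y) ^ k • v = 1 :=
    Finset.prod_eq_one fun j _ => hline _ (mul_mem (pow_mem hxmem j) hymem) t (hy j) (hzy j) v
  rw [Finset.prod_comm, Finset.range_eq_Ico, Finset.prod_eq_prod_Ico_succ_bot ht.pos,
    Finset.prod_eq_one (s := Finset.Ico (0 + 1) t) fun k hk => hrow k hk v, mul_one] at hall
  simpa using hall


/-- Let G be a finite solvable group such that the order of every element is a prime power (1 included). Then at most two distinct primes divide the order of G. -/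
theorem result {G : Type*} [Group G] [Finite G] [Group.IsSolvable G] (h : ∀ g : G, IsPrimePow (orderOf g) ∨ g = 1) :
    (Nat.card G).primeFactors.card ≤ 2 := by
  classical
  rcases subsingleton_or_nontrivial G with hsub | hnt
  · rw [Nat.card_unique]; simp
  obtain ⟨p, hp, N, hN, hN1, hNp, hNc⟩ := CfsgLib.Hall.exists_normal_pgroup_ne_bot (G := G)
  haveI := hN
  haveI := Fact.mk hp
  by_contra hgt
  push Not at hgt
  -- orders are prime powers
  have hord : ∀ (g : G) {s t : ℕ}, s.Prime → t.Prime → s ∣ orderOf g → t ∣ orderOf g → s = t := by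
    intro g s t hs ht hsd htd
    rcases h g with hpp | h1
    · obtain ⟨r, i, hr, -, e⟩ := hpp
      rw [← e] at hsd htd
      exact ((Nat.prime_dvd_prime_iff_eq hs hr.nat_prime).mp (hs.dvd_of_dvd_pow hsd)).trans
        ((Nat.prime_dvd_prime_iff_eq ht hr.nat_prime).mp (ht.dvd_of_dvd_pow htd)).symm
    · rw [h1, orderOf_one] at hsd
      exact absurd (Nat.dvd_one.mp hsd) hs.ne_one
  have hcomm2 : ∀ (a b : G) {s t : ℕ}, s.Prime → t.Prime → orderOf a = s → orderOf b = t → Commute a b → s = t := by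
    intro a b s t hs ht ha hb hc
    by_contra hst
    have ho := hc.orderOf_mul_eq_mul_orderOf_of_coprime (by rw [ha, hb]; exact (Nat.coprime_primes hs ht).mpr hst)
    rw [ha, hb] at ho
    exact hst (hord (a * b) hs ht (ho ▸ dvd_mul_right s t) (ho ▸ dvd_mul_left t s))
  -- two further primes
  obtain ⟨q, hq, r, hr, hqr⟩ : ∃ q ∈ (Nat.card G).primeFactors.erase p, ∃ r ∈ (Nat.card G).primeFactors.erase p, q ≠ r :=
    Finset.one_lt_card.mp (by have := Finset.pred_card_le_card_erase (a := p) (s := (Nat.card G).primeFactors); omega)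
  obtain ⟨hqp, hq'⟩ := Finset.mem_erase.mp hq
  obtain ⟨hrp, hr'⟩ := Finset.mem_erase.mp hr
  have hqP := Nat.prime_of_mem_primeFactors hq'
  have hrP := Nat.prime_of_mem_primeFactors hr'
  set a := (Nat.card G).factorization q
  set b := (Nat.card G).factorization r
  obtain ⟨n, hn⟩ : q ^ a * r ^ b ∣ Nat.card G :=
    (((Nat.coprime_primes hqP hrP).mpr hqr).pow a b).mul_dvd_of_dvd_of_dvd (Nat.ordProj_dvd _ _) (Nat.ordProj_dvd _ _)
  have hcop : (q ^ a * r ^ b).Coprime n := by
    have key : ∀ s : ℕ, s.Prime → s = q ∨ s = r → s.Coprime n := by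
      intro s hs hcase
      refine hs.coprime_iff_not_dvd.mpr fun hd => ?_
      refine Nat.pow_succ_factorization_not_dvd (Nat.card_pos (α := G)).ne' hs ?_
      rw [pow_succ]
      conv_rhs => rw [hn]
      rcases hcase with rfl | rfl
      · exact mul_dvd_mul (dvd_mul_right _ _) hd
      · exact mul_dvd_mul (dvd_mul_left _ _) hd
    exact Nat.Coprime.mul_left ((key q hqP (Or.inl rfl)).pow_left a) ((key r hrP (Or.inr rfl)).pow_left b)
  obtain ⟨K, hK⟩ := CfsgLib.Hall.exists_hall hn hcop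
  have hKprimes : ∀ g ∈ K, ∀ s : ℕ, s.Prime → s ∣ orderOf g → s ≠ p := by
    intro g hg s hs hsd hsp
    subst hsp
    have := hsd.trans (hK ▸ Subgroup.orderOf_dvd_natCard K hg)
    rcases hs.dvd_mul.mp this with h' | h'
    · exact hqp ((Nat.prime_dvd_prime_iff_eq hs hqP).mp (hs.dvd_of_dvd_pow h')).symm
    · exact hrp ((Nat.prime_dvd_prime_iff_eq hs hrP).mp (hs.dvd_of_dvd_pow h')).symm
  -- `K` acts freely on `N`
  have hfree : ∀ g ∈ K, g ≠ 1 → ∀ v ∈ N, Commute g v → v = 1 := by
    intro g hg hg1 v hv hc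
    by_contra hv1
    obtain ⟨s, hs, hsd⟩ := Nat.exists_prime_and_dvd (fun e => hg1 (orderOf_eq_one_iff.mp e))
    obtain ⟨i, hi⟩ := IsPGroup.iff_orderOf.mp hNp ⟨v, hv⟩
    rw [← Subgroup.orderOf_coe] at hi
    rcases i with _ | i
    · exact hv1 (orderOf_eq_one_iff.mp (by simpa using hi))
    refine hKprimes g hg s hs hsd (hcomm2 (g ^ (orderOf g / s)) (v ^ p ^ i) hs hp ?_ ?_ (hc.pow_pow _ _))
    · exact orderOf_pow_orderOf_div (orderOf_pos g).ne' hsd
    · rw [orderOf_pow' v (pow_ne_zero _ hp.ne_zero), hi, Nat.gcd_eq_right (pow_dvd_pow p i.le_succ), Nat.pow_div i.le_succ hp.pos]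
      simp
  haveI := hNc
  letI : CommGroup N := { (inferInstance : Group N) with mul_comm := mul_comm' }
  letI : MulDistribMulAction G N := MulDistribMulAction.compHom N (MulAut.conjNormal (H := N))
  have hno : ∀ x ∈ K, ∀ y ∈ K, ∀ {s t : ℕ}, s.Prime → t.Prime → orderOf x = s → (∀ j : ℕ, (x ^ j * y) ^ t = 1) →
      y ∉ Subgroup.zpowers x → y * x * y⁻¹ ∈ Subgroup.zpowers x → False := by
    intro x hx y hy s t hs ht hxo hyt hny hnorm
    obtain ⟨⟨v, hv⟩, hv1⟩ := Subgroup.ne_bot_iff_exists_ne_one.mp hN1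
    have hcfg := eq_one_of_config (V := N) hs ht x y hxo hyt hny hnorm (fun g hg hg1 w hw => by
      refine Subtype.ext (hfree g (sup_le (Subgroup.zpowers_le.mpr hx) (Subgroup.zpowers_le.mpr hy) hg) hg1 w w.2 ?_)
      exact mul_inv_eq_iff_eq_mul.mp (congrArg Subtype.val hw)) ⟨v, hv⟩
    obtain ⟨i, hi⟩ := IsPGroup.iff_orderOf.mp hNp ⟨v, hv⟩
    have hd := orderOf_dvd_of_pow_eq_one hcfg
    rw [hi] at hd
    rcases i with _ | i
    · exact hv1 (orderOf_eq_one_iff.mp (by simpa using hi))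
    · exact hKprimes x hx s hs (dvd_of_eq hxo.symm) ((Nat.prime_dvd_prime_iff_eq hp hs).mp ((dvd_pow_self p i.succ_ne_zero).trans hd)).symm
  -- a minimal normal subgroup of `K`
  haveI : Nontrivial K := by
    haveI := Fact.mk hqP
    obtain ⟨x, hx⟩ := exists_prime_orderOf_dvd_card' (G := K) q (hK ▸ dvd_mul_of_dvd_left
      (dvd_pow_self q (Nat.ne_of_gt (hqP.factorization_pos_of_dvd Nat.card_pos.ne' (Nat.dvd_of_mem_primeFactors hq')))) _)
    exact ⟨x, 1, fun h => by rw [h, orderOf_one] at hx; exact hqP.ne_one hx.symm⟩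
  obtain ⟨s, hs, L, hLn, hL1, hLs, hLc⟩ := CfsgLib.Hall.exists_normal_pgroup_ne_bot (G := K)
  haveI := hLn
  haveI := Fact.mk hs
  obtain ⟨x, hxo⟩ := exists_prime_orderOf_dvd_card' (G := L) s (by
    obtain ⟨i, hi⟩ := IsPGroup.iff_card.mp hLs
    rcases i with _ | i
    · exact absurd (Subgroup.eq_bot_of_card_eq L (by simpa using hi)) hL1
    · exact hi ▸ dvd_pow_self s i.succ_ne_zero)
  set x' : G := ((x : K) : G) with hx'
  have hx'o : orderOf x' = s := by rw [hx', Subgroup.orderOf_coe, Subgroup.orderOf_coe]; exact hxo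
  by_cases hcyc : ∀ y : L, y ^ s = 1 → y ∈ Subgroup.zpowers x
  swap
  · push Not at hcyc
    obtain ⟨y, hys, hyx⟩ := hcyc
    haveI := hLc
    have hcy : x * y = y * x := mul_comm' x y
    refine hno x' (x : K).2 ((y : K) : G) (y : K).2 hs hs hx'o (fun j => ?_) ?_ ?_
    · have e : (x ^ j * y) ^ s = 1 := by
        rw [Commute.mul_pow (show Commute (x ^ j) y from mul_comm' _ _), hys, mul_one, ← pow_mul, mul_comm, pow_mul,
          ← hxo, pow_orderOf_eq_one, one_pow]
      exact congrArg (fun z : L => ((z : K) : G)) e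
    · intro hmem
      obtain ⟨i, hi⟩ := Subgroup.mem_zpowers_iff.mp hmem
      exact hyx (Subgroup.mem_zpowers_iff.mpr ⟨i, Subtype.ext (Subtype.ext (by push_cast; exact hi))⟩)
    · have e : y * x * y⁻¹ = x := by rw [← hcy, mul_inv_cancel_right]
      exact Subgroup.mem_zpowers_iff.mpr ⟨1, by rw [zpow_one]; exact (congrArg (fun z : L => ((z : K) : G)) e).symm⟩
  -- the other prime
  obtain ⟨t, ht, htK, hts⟩ : ∃ t : ℕ, t.Prime ∧ t ∣ Nat.card K ∧ t ≠ s := by
    have hpos : ∀ {w}, w ∈ (Nat.card G).primeFactors → w ∣ w ^ (Nat.card G).factorization w := fun {w} hw =>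
      dvd_pow_self w (Nat.ne_of_gt ((Nat.prime_of_mem_primeFactors hw).factorization_pos_of_dvd Nat.card_pos.ne' (Nat.dvd_of_mem_primeFactors hw)))
    by_cases hsq : q = s
    · exact ⟨r, hrP, hK ▸ dvd_mul_of_dvd_right (hpos hr') _, fun e => hqr (hsq.trans e.symm)⟩
    · exact ⟨q, hqP, hK ▸ dvd_mul_of_dvd_left (hpos hq') _, hsq⟩
  haveI := Fact.mk ht
  obtain ⟨y, hyo⟩ := exists_prime_orderOf_dvd_card' (G := K) t htK
  have hnormK : y * (x : K) * y⁻¹ ∈ (Subgroup.zpowers x).map L.subtype := by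
    refine ⟨⟨y * x * y⁻¹, hLn.conj_mem x x.2 y⟩, hcyc _ (Subtype.ext ?_), rfl⟩
    push_cast
    rw [conj_pow, ← SubmonoidClass.coe_pow, ← hxo, pow_orderOf_eq_one]
    simp
  obtain ⟨z, hz, hze⟩ := hnormK
  obtain ⟨i, hi⟩ := Subgroup.mem_zpowers_iff.mp hz
  have hnorm : (y : G) * x' * (y : G)⁻¹ ∈ Subgroup.zpowers x' :=
    Subgroup.mem_zpowers_iff.mpr ⟨i, by
      have e2 := congrArg (fun w : K => (w : G)) hze
      rw [← hi] at e2
      push_cast at e2 ⊢
      exact e2⟩
  have hyx : (y : G) ∉ Subgroup.zpowers x' := fun hm => by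
    have := Subgroup.orderOf_dvd_natCard _ hm
    rw [Nat.card_zpowers, hx'o, Subgroup.orderOf_coe, hyo] at this
    exact hts ((Nat.prime_dvd_prime_iff_eq ht hs).mp this)
  refine hno x' (x : K).2 y y.2 hs ht hx'o (fun j => ?_) hyx hnorm
  -- an element of order dividing `s * t` outside the normal line has order `t`
  set Z := Subgroup.zpowers x' with hZ
  set g := x' ^ j * (y : G) with hg
  have hyN : (y : G) ∈ Subgroup.normalizer (Z : Set G) := by
    rw [Subgroup.mem_normalizer_iff_map_conj_eq]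
    refine Subgroup.eq_of_le_of_card_ge ?_ (le_of_eq (Nat.card_congr
      (Z.equivMapOfInjective _ (MulAut.conj (y : G)).injective).toEquiv))
    rw [hZ, MonoidHom.map_zpowers, Subgroup.zpowers_le]
    exact hnorm
  have hgt' : g ^ t ∈ Z := by
    have hsup : g ∈ Z ⊔ Subgroup.zpowers (y : G) := Subgroup.mul_mem_sup (pow_mem (Subgroup.mem_zpowers x') j) (Subgroup.mem_zpowers _)
    set D := Subgroup.normalizer (Z : Set G)
    haveI : (Z.subgroupOf D).Normal := Subgroup.normal_in_normalizer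
    have hgD : g ∈ D := sup_le Subgroup.le_normalizer (Subgroup.zpowers_le.mpr hyN) hsup
    have hyt : (y : G) ^ t = 1 := by
      rw [← SubmonoidClass.coe_pow, ← hyo, pow_orderOf_eq_one]; rfl
    have key : (((⟨g, hgD⟩ : D) : D ⧸ Z.subgroupOf D)) = ((⟨(y : G), hyN⟩ : D) : D ⧸ Z.subgroupOf D) := by
      rw [QuotientGroup.eq_iff_div_mem, Subgroup.mem_subgroupOf]
      simp [hg, div_eq_mul_inv, hZ]
    have h1 := congrArg (fun w => w ^ t) key
    simp only [← QuotientGroup.mk_pow] at h1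
    rw [show (⟨(y : G), hyN⟩ : D) ^ t = 1 from Subtype.ext (by simpa using hyt), QuotientGroup.mk_one, QuotientGroup.eq_one_iff,
      Subgroup.mem_subgroupOf] at h1
    simpa using h1
  have hgst : g ^ (t * s) = 1 := by
    rw [pow_mul]
    exact orderOf_dvd_iff_pow_eq_one.mp ((Subgroup.orderOf_dvd_natCard Z hgt').trans (by rw [hZ, Nat.card_zpowers, hx'o]))
  by_contra hne
  have hsd : s ∣ orderOf g := by
    by_contra hnd
    exact hne (orderOf_dvd_iff_pow_eq_one.mp
      (Nat.Coprime.dvd_of_dvd_mul_right ((hs.coprime_iff_not_dvd.mpr hnd).symm) (orderOf_dvd_of_pow_eq_one hgst)))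
  have hgs : g ^ s = 1 := by
    refine orderOf_dvd_iff_pow_eq_one.mp (Nat.Coprime.dvd_of_dvd_mul_left ((ht.coprime_iff_not_dvd.mpr fun htd => ?_).symm) (orderOf_dvd_of_pow_eq_one hgst))
    exact hts (hord g hs ht hsd htd).symm
  refine hyx ?_
  have hgZ : g ∈ Z := by
    obtain ⟨m, hm⟩ := exists_pow_eq_self_of_coprime (show t.Coprime (orderOf g) from
      (Nat.Coprime.coprime_dvd_right (orderOf_dvd_of_pow_eq_one hgs) ((Nat.coprime_primes ht hs).mpr hts)))
    rw [← hm]; exact pow_mem hgt' m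
  have := mul_mem (inv_mem (pow_mem (Subgroup.mem_zpowers x') j)) hgZ
  rwa [hg, inv_mul_cancel_left] at this
end Cfsg.Agent.S1475
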