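import Cfsg.Statements.S3992
import Cfsg.Agent.Lib.PrimePower.Nonsolvable
import Cfsg.Agent.S1475

set_option autoImplicit false
open Cfsg

namespace Cfsg.Agent.S3992

/-- Let G be a finite non-solvable group in which every element has prime-power order, and let R be its largest solvable normal subgroup. Then R is a p-group for some prime p; G/R has a non-abelian simple normal subgroup contained in every nontrivial normal subgroup of G/R (its unique minimal normal subgroup); and the order of every solvable subgroup of G has at most two prime divisors. -/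
theorem result {G : Type*} [Group G] [Finite G] (hns : ¬ Group.IsSolvable G) (hpp : ∀ g : G, g ≠ 1 → IsPrimePow (orderOf g))
    (R : Subgroup G) [R.Normal] (hRs : Group.IsSolvable ↥R) (hRmax : ∀ N : Subgroup G, N.Normal → Group.IsSolvable ↥N → N ≤ R) :
    (∃ p : ℕ, p.Prime ∧ IsPGroup p ↥R) ∧
      (∃ M : Subgroup (G ⧸ R), M.Normal ∧ IsSimpleGroup ↥M ∧ ¬ IsMulCommutative ↥M ∧
        ∀ N : Subgroup (G ⧸ R), N.Normal → N ≠ ⊥ → M ≤ N) ∧
      ∀ H : Subgroup G, Group.IsSolvable ↥H → (Nat.card ↥H).primeFactors.card ≤ 2 := by
  refine ⟨CfsgLib.PrimePower.IsPP.exists_isPGroup hpp hns R hRs, ?_, fun H hH => ?_⟩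
  · haveI : Nontrivial (G ⧸ R) := QuotientGroup.nontrivial_iff.mpr fun e => hns (by
      subst e
      exact Group.isSolvable_of_surjective (f := (Subgroup.topEquiv : (⊤ : Subgroup G) ≃* G).toMonoidHom)
        Subgroup.topEquiv.surjective)
    refine CfsgLib.PrimePower.IsPP.exists_simple (CfsgLib.PrimePower.IsPP.quotient hpp R) fun N hN hNs => ?_
    haveI := hN
    haveI := hNs
    set π := QuotientGroup.mk' R
    let f : ↥(N.comap π) →* ↥N := (π.comp (N.comap π).subtype).codRestrict N fun x => x.2
    haveI : Group.IsSolvable ↥f.ker := by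
      haveI := hRs
      refine Group.isSolvable_of_isSolvable_injective (f := ((N.comap π).subtype.comp f.ker.subtype).codRestrict R
        fun x => (QuotientGroup.eq_one_iff _).mp (congrArg Subtype.val x.2)) ?_
      exact fun a b hab => Subtype.ext (Subtype.ext (congrArg Subtype.val hab :))
    have hsol : Group.IsSolvable ↥(N.comap π) := by
      have hf : Function.Surjective f := fun y => by
        obtain ⟨g, hg⟩ := QuotientGroup.mk'_surjective R y.1
        exact ⟨⟨g, show π g ∈ N from hg.symm ▸ y.2⟩, Subtype.ext hg⟩
      haveI : Group.IsSolvable (↥(N.comap π) ⧸ f.ker) :=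
        Group.isSolvable_of_surjective (f := (QuotientGroup.quotientKerEquivOfSurjective f hf).symm.toMonoidHom)
          (QuotientGroup.quotientKerEquivOfSurjective f hf).symm.surjective
      exact (Group.isSolvable_iff_subgroup_quotient f.ker).mpr ⟨inferInstance, inferInstance⟩
    have hle := hRmax _ inferInstance hsol
    rw [eq_bot_iff]
    intro x hx
    obtain ⟨g, rfl⟩ := QuotientGroup.mk'_surjective R x
    exact Subgroup.mem_bot.mpr ((QuotientGroup.eq_one_iff g).mpr (hle hx))
  · haveI := hH
    refine Cfsg.Agent.S1475.result fun g => ?_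
    by_cases hg : g = 1
    · exact Or.inr hg
    · left
      rw [← Subgroup.orderOf_coe]
      exact hpp _ fun e => hg (Subtype.ext e)

end Cfsg.Agent.S3992
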