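import Cfsg.Statements.S4337
import Cfsg.Agent.Lib.Perm.PermModule

set_option autoImplicit false
open Cfsg


namespace CfsgLib.SmallPerm

theorem isSolvable_perm_fin_four : Group.IsSolvable (Equiv.Perm (Fin 4)) := by
  have h4 : Nat.card (Fin 4) = 4 := Nat.card_fin 4
  haveI := alternatingGroup.normal_kleinFour (α := Fin 4) h4
  haveI hV : Group.IsSolvable (alternatingGroup.kleinFour (Fin 4)) := by
    haveI := alternatingGroup.kleinFour_isKleinFour (α := Fin 4) h4
    exact Group.isSolvable_of_comm fun a b => mul_comm_of_exponent_two IsKleinFour.exponent_two a b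
  have hcard : Nat.card (alternatingGroup (Fin 4) ⧸ alternatingGroup.kleinFour (Fin 4)) = 3 := by
    have := Subgroup.card_eq_card_quotient_mul_card_subgroup (alternatingGroup.kleinFour (Fin 4))
    rw [alternatingGroup.kleinFour_card_of_card_eq_four h4, nat_card_alternatingGroup, h4] at this
    simp [Nat.factorial] at this
    omega
  haveI := Fact.mk Nat.prime_three
  haveI : IsCyclic (alternatingGroup (Fin 4) ⧸ alternatingGroup.kleinFour (Fin 4)) :=
    isCyclic_of_prime_card hcard
  haveI : Group.IsSolvable (alternatingGroup (Fin 4) ⧸ alternatingGroup.kleinFour (Fin 4)) :=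
    Group.isSolvable_of_comm fun a b => IsCyclic.commutative.is_comm.comm a b
  haveI : Group.IsSolvable (alternatingGroup (Fin 4)) :=
    Group.isSolvable_of_ker_le_range (alternatingGroup.kleinFour (Fin 4)).subtype
      (QuotientGroup.mk' (alternatingGroup.kleinFour (Fin 4))) (by rw [QuotientGroup.ker_mk', Subgroup.range_subtype])
  exact Group.isSolvable_of_ker_le_range (alternatingGroup (Fin 4)).subtype
    (Equiv.Perm.sign : Equiv.Perm (Fin 4) →* ℤˣ) (by rw [Subgroup.range_subtype]; rfl)

theorem isSolvable_perm_card_le_four {α : Type*} [Fintype α] [DecidableEq α]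
    (h : Fintype.card α ≤ 4) : Group.IsSolvable (Equiv.Perm α) := by
  rcases Nat.lt_or_ge (Fintype.card α) 4 with h3 | h4
  · exact CfsgLib.PermModule.isSolvable_perm_of_card_le_three (by omega)
  · haveI := isSolvable_perm_fin_four
    exact Group.isSolvable_of_isSolvable_injective
      (f := (Equiv.permCongrHom (Fintype.equivFinOfCardEq (show Fintype.card α = 4 by omega))).toMonoidHom)
      (MulEquiv.injective _)

theorem isSolvable_closure_support {n : ℕ} (X : Finset (Fin n)) (hX : X.card ≤ 4)
    (S : Set (Equiv.Perm (Fin n))) (hS : ∀ g ∈ S, g.support ⊆ X) :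
    Group.IsSolvable (Subgroup.closure S) := by
  haveI : Group.IsSolvable (Equiv.Perm {x // x ∈ X}) := isSolvable_perm_card_le_four (by simpa using hX)
  have hle : Subgroup.closure S ≤ (Equiv.Perm.ofSubtype (p := fun x => x ∈ X)).range := by
    rw [Subgroup.closure_le]
    intro g hg
    exact Equiv.Perm.mem_range_ofSubtype_iff.mpr fun x hx => hS g hg hx
  haveI : Group.IsSolvable (Equiv.Perm.ofSubtype (p := fun x => x ∈ X)).range :=
    Group.isSolvable_of_surjective (MonoidHom.rangeRestrict_surjective _)
  exact Group.isSolvable_of_isSolvable_injective (Subgroup.inclusion_injective hle)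

/-- Two swaps commute or their supports meet in at most three points. -/
theorem card_support_union {n : ℕ} {a b : Equiv.Perm (Fin n)} (ha : a.IsSwap) (hb : b.IsSwap)
    (h : ¬ Commute a b) : (a.support ∪ b.support).card ≤ 3 := by
  have ha2 := Equiv.Perm.card_support_eq_two.mpr ha
  have hb2 := Equiv.Perm.card_support_eq_two.mpr hb
  have : ¬ Disjoint a.support b.support :=
    fun hd => h (Equiv.Perm.disjoint_iff_disjoint_support.mpr hd).commute
  rw [Finset.disjoint_iff_inter_eq_empty, ← Finset.card_eq_zero] at this
  have := Finset.card_union_add_card_inter a.support b.support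
  omega

theorem isSolvable_of_central {G : Type*} [Group G] {a b c : G} (hb : b * b = 1) (hc : c * c = 1)
    (hab : Commute a b) (hac : Commute a c) : Group.IsSolvable (Subgroup.closure ({a, b, c} : Set G)) := by
  set H := Subgroup.closure ({a, b, c} : Set G)
  -- the subgroup generated by `a` and `b * c` is commutative of index at most two
  set A := Subgroup.closure ({a, b * c} : Set G)
  have hAH : A ≤ H := (Subgroup.closure_le _).mpr (by
    rintro x (rfl | rfl)
    · exact Subgroup.subset_closure (by simp)
    · exact mul_mem (Subgroup.subset_closure (by simp)) (Subgroup.subset_closure (by simp)))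
  have hcomm : ∀ x ∈ A, ∀ y ∈ A, x * y = y * x := by
    have key : ∀ x ∈ ({a, b * c} : Set G), ∀ y ∈ ({a, b * c} : Set G), x * y = y * x := by
      rintro x (rfl | rfl) y (rfl | rfl)
      · rfl
      · exact (hab.mul_right hac).eq
      · exact (hab.mul_right hac).eq.symm
      · rfl
    intro x hx y hy
    exact Subgroup.mem_centralizer_iff.mp
      (((Subgroup.closure_le _).mpr fun u hu => Subgroup.mem_centralizer_iff.mpr fun v hv =>
        (Subgroup.closure_le (K := Subgroup.centralizer {u})).mpr (fun w hw =>
          Subgroup.mem_centralizer_singleton_iff.mpr (key w hw u hu)) hv |>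
          Subgroup.mem_centralizer_singleton_iff.mp) hy) x hx
  have hcinv : c⁻¹ = c := inv_eq_of_mul_eq_one_right hc
  have hbinv : b⁻¹ = b := inv_eq_of_mul_eq_one_right hb
  have hconj : ∀ x ∈ A, c * x * c⁻¹ ∈ A := by
    intro x hx
    induction hx using Subgroup.closure_induction with
    | mem x hx =>
      rcases hx with rfl | rfl
      · rw [hac.symm.eq, mul_inv_cancel_right]; exact Subgroup.subset_closure (by simp)
      · have e : c * (b * c) * c⁻¹ = (b * c)⁻¹ := by
          rw [mul_inv_rev, hcinv, hbinv, mul_assoc, mul_assoc, hc, mul_one]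
        rw [e]; exact inv_mem (Subgroup.subset_closure (by simp))
    | one => rw [mul_one, mul_inv_cancel]; exact one_mem _
    | mul x y _ _ hx hy =>
      rw [show c * (x * y) * c⁻¹ = (c * x * c⁻¹) * (c * y * c⁻¹) by group]
      exact mul_mem hx hy
    | inv x _ hx =>
      rw [show c * x⁻¹ * c⁻¹ = (c * x * c⁻¹)⁻¹ by group]
      exact inv_mem hx
  have hnorm : (A.subgroupOf H).Normal := by
    rw [Subgroup.normal_subgroupOf_iff_le_normalizer hAH, Subgroup.closure_le]
    have hCA : ∀ x : G, (∀ y ∈ A, x * y * x⁻¹ ∈ A) → (∀ y ∈ A, x⁻¹ * y * x ∈ A) →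
        x ∈ Subgroup.normalizer (A : Set G) := fun x h1 h2 => Subgroup.mem_normalizer_iff.mpr fun y =>
      ⟨h1 y, fun hy => by simpa [mul_assoc] using h2 _ hy⟩
    have hnA : A ≤ Subgroup.normalizer (A : Set G) := Subgroup.le_normalizer
    have hcN : c ∈ Subgroup.normalizer (A : Set G) := hCA c hconj (fun y hy => by
      have := hconj y hy
      rw [hcinv] at this ⊢; exact this)
    rintro x (hx | hx | hx) <;> rw [hx]
    · exact hnA (Subgroup.subset_closure (by simp))
    · have := mul_mem (hnA (Subgroup.subset_closure (show b * c ∈ ({a, b * c} : Set G) by simp))) hcN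
      rwa [mul_assoc, hc, mul_one] at this
    · exact hcN
  haveI := hnorm
  haveI : Group.IsSolvable (A.subgroupOf H) := isSolvable_of_comm fun x y =>
    Subtype.ext (Subtype.ext (hcomm _ x.2 _ y.2))
  haveI : Group.IsSolvable (H ⧸ A.subgroupOf H) := by
    -- generated by the image of `c`
    have hgen : ∀ x : H ⧸ A.subgroupOf H, x ∈ Subgroup.zpowers
        ((⟨c, Subgroup.subset_closure (by simp)⟩ : H) : H ⧸ A.subgroupOf H) := by
      intro x
      obtain ⟨⟨y, hy⟩, rfl⟩ := QuotientGroup.mk_surjective x
      induction hy using Subgroup.closure_induction with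
      | mem y hy =>
        rcases hy with e | e | e
        · have e0 : ((⟨y, Subgroup.subset_closure (by simp [e])⟩ : H) : H ⧸ A.subgroupOf H) = 1 := by
            rw [QuotientGroup.eq_one_iff, Subgroup.mem_subgroupOf]
            exact Subgroup.subset_closure (by simp [e])
          exact e0 ▸ one_mem _
        · have e0 : ((⟨y, Subgroup.subset_closure (by simp [e])⟩ : H) : H ⧸ A.subgroupOf H) =
              ((⟨c, Subgroup.subset_closure (by simp)⟩ : H) : H ⧸ A.subgroupOf H) := by
            rw [QuotientGroup.eq, Subgroup.mem_subgroupOf]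
            show y⁻¹ * c ∈ A
            rw [e, hbinv]
            exact Subgroup.subset_closure (by simp)
          exact e0 ▸ Subgroup.mem_zpowers _
        · have e0 : ((⟨y, Subgroup.subset_closure (by simp [e])⟩ : H) : H ⧸ A.subgroupOf H) =
              ((⟨c, Subgroup.subset_closure (by simp)⟩ : H) : H ⧸ A.subgroupOf H) :=
            congrArg QuotientGroup.mk (Subtype.ext e)
          exact e0 ▸ Subgroup.mem_zpowers _
      | one => exact one_mem _
      | mul y z hy hz h1 h2 => exact mul_mem h1 h2
      | inv y hy h1 => exact inv_mem h1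
    refine isSolvable_of_comm fun x y => ?_
    obtain ⟨i, rfl⟩ := Subgroup.mem_zpowers_iff.mp (hgen x)
    obtain ⟨j, rfl⟩ := Subgroup.mem_zpowers_iff.mp (hgen y)
    exact (Commute.refl _).zpow_zpow i j
  exact Group.isSolvable_of_ker_le_range (A.subgroupOf H).subtype (QuotientGroup.mk' (A.subgroupOf H))
    (by rw [QuotientGroup.ker_mk', Subgroup.range_subtype])

end CfsgLib.SmallPerm

namespace Cfsg.Agent.S4337

/-- In a finite symmetric group, any three transpositions generate a solvable subgroup. -/
theorem result (n : ℕ) (a b c : Equiv.Perm (Fin n))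
    (ha : a.IsSwap) (hb : b.IsSwap) (hc : c.IsSwap) :
    Group.IsSolvable (Subgroup.closure ({a, b, c} : Set (Equiv.Perm (Fin n)))) := by
  have h2 : ∀ x : Equiv.Perm (Fin n), x.IsSwap → x * x = 1 := by
    rintro x ⟨i, j, -, rfl⟩
    exact Equiv.swap_mul_self i j
  have sub : ∀ x ∈ ({a, b, c} : Set (Equiv.Perm (Fin n))), x.support ⊆ a.support ∪ b.support ∪ c.support := by
    rintro x (rfl | rfl | rfl) i hi <;> simp [hi]
  have hbig : (¬ Commute a b ∧ ¬ Commute a c) ∨ (¬ Commute b a ∧ ¬ Commute b c) ∨
      (¬ Commute c a ∧ ¬ Commute c b) → (a.support ∪ b.support ∪ c.support).card ≤ 4 := by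
    intro h
    have key : ∀ x y z : Equiv.Perm (Fin n), x.IsSwap → y.IsSwap → z.IsSwap → ¬ Commute x y →
        ¬ Commute x z → (x.support ∪ y.support ∪ z.support).card ≤ 4 := by
      intro x y z hx hy hz h1 h2
      have e1 := CfsgLib.SmallPerm.card_support_union hx hy h1
      have e2 := CfsgLib.SmallPerm.card_support_union hx hz h2
      have e3 := Equiv.Perm.card_support_eq_two.mpr hx
      have e4 := Finset.card_union_add_card_inter (x.support ∪ y.support) (x.support ∪ z.support)
      have e5 : x.support ⊆ (x.support ∪ y.support) ∩ (x.support ∪ z.support) :=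
        fun i hi => by simp [hi]
      have e6 := Finset.card_le_card e5
      have e7 : (x.support ∪ y.support) ∪ (x.support ∪ z.support) = x.support ∪ y.support ∪ z.support := by
        ext i; simp; tauto
      rw [e7] at e4
      omega
    rcases h with ⟨h1, h2⟩ | ⟨h1, h2⟩ | ⟨h1, h2⟩
    · exact key a b c ha hb hc h1 h2
    · have := key b a c hb ha hc h1 h2
      rwa [Finset.union_comm b.support] at this
    · have := key c a b hc ha hb h1 h2
      rwa [show c.support ∪ a.support ∪ b.support = a.support ∪ b.support ∪ c.support by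
        ext i; simp; tauto] at this
  by_cases h : (¬ Commute a b ∧ ¬ Commute a c) ∨ (¬ Commute b a ∧ ¬ Commute b c) ∨
      (¬ Commute c a ∧ ¬ Commute c b)
  · exact CfsgLib.SmallPerm.isSolvable_closure_support _ (hbig h) _ sub
  · by_cases h1 : Commute a b <;> by_cases h3 : Commute a c
    · exact CfsgLib.SmallPerm.isSolvable_of_central (h2 b hb) (h2 c hc) h1 h3
    · have h4 : Commute b c := by
        by_contra h4
        exact h (Or.inr (Or.inr ⟨fun e => h3 e.symm, fun e => h4 e.symm⟩))
      rw [show ({a, b, c} : Set (Equiv.Perm (Fin n))) = {b, a, c} from Set.insert_comm a b {c}]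
      exact CfsgLib.SmallPerm.isSolvable_of_central (h2 a ha) (h2 c hc) h1.symm h4
    · have h4 : Commute b c := by
        by_contra h4
        exact h (Or.inr (Or.inl ⟨fun e => h1 e.symm, h4⟩))
      rw [show ({a, b, c} : Set (Equiv.Perm (Fin n))) = {c, a, b} by ext; simp; tauto]
      exact CfsgLib.SmallPerm.isSolvable_of_central (h2 a ha) (h2 b hb) h3.symm h4.symm
    · exact absurd (Or.inl ⟨h1, h3⟩) h

end Cfsg.Agent.S4337
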