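import Cfsg.Statements.S2426
import Cfsg.Agent.Lib.SLPres.Bruhat
import Cfsg.Agent.Lib.SL2.Unipotent
import Cfsg.Agent.Lib.SL2.Facts
-- import your own Cfsg.Agent.* helpers here

set_option autoImplicit false
open Cfsg

namespace Cfsg.Agent.S2426

open scoped MatrixGroups
open Matrix

universe u v

section Abstract

variable {K : Type u} [Field K] {G : Type v} [Group G]

/-- The data of the presentation. -/
structure Rels (X Y : K → G) : Prop where
  addX : ∀ t u, X (t + u) = X t * X u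
  addY : ∀ t u, Y (t + u) = Y t * Y u
  relX : ∀ t u, t ≠ 0 → X t * Y (-t⁻¹) * X t * X u * (X t * Y (-t⁻¹) * X t)⁻¹ = Y (-(t⁻¹ ^ 2 * u))
  relY : ∀ t u, t ≠ 0 → Y t * X (-t⁻¹) * Y t * Y u * (Y t * X (-t⁻¹) * Y t)⁻¹ = X (-(t⁻¹ ^ 2 * u))
  gen : Subgroup.closure (Set.range X ∪ Set.range Y) = ⊤

variable {X Y : K → G}

def W (X Y : K → G) (t : K) : G := X t * Y (-t⁻¹) * X t

def Hh (X Y : K → G) (t : K) : G := W X Y t * W X Y (-1)

variable (R : Rels X Y)
include R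

theorem X0 : X 0 = 1 := by
  have h := R.addX 0 0
  rw [add_zero] at h
  exact left_eq_mul.mp h

theorem Y0 : Y 0 = 1 := by
  have h := R.addY 0 0
  rw [add_zero] at h
  exact left_eq_mul.mp h

theorem Xneg (t : K) : X (-t) = (X t)⁻¹ :=
  eq_inv_of_mul_eq_one_left (by rw [← R.addX, neg_add_cancel, X0 R])

theorem Yneg (t : K) : Y (-t) = (Y t)⁻¹ :=
  eq_inv_of_mul_eq_one_left (by rw [← R.addY, neg_add_cancel, Y0 R])

theorem W_neg (t : K) : W X Y (-t) = (W X Y t)⁻¹ := by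
  simp only [W, inv_neg, neg_neg, _root_.mul_inv_rev, Xneg R, Yneg R, inv_inv, mul_assoc]

theorem W_X (t u : K) (ht : t ≠ 0) : W X Y t * X u * (W X Y t)⁻¹ = Y (-(t⁻¹ ^ 2 * u)) := R.relX t u ht

theorem W_Y (t u : K) (ht : t ≠ 0) : W X Y t * Y u * (W X Y t)⁻¹ = X (-(t ^ 2 * u)) := by
  have h := W_X R (-t) (-(t ^ 2 * u)) (neg_ne_zero.mpr ht)
  rw [show -((-t)⁻¹ ^ 2 * -(t ^ 2 * u)) = u by field_simp, W_neg R, inv_inv] at h
  rw [← h]; group

theorem V_eq (a : K) (ha : a ≠ 0) : Y a * X (-a⁻¹) * Y a = W X Y (-a⁻¹) := by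
  have hb : (-a⁻¹ : K) ≠ 0 := neg_ne_zero.mpr (inv_ne_zero ha)
  have hW : W X Y (-a⁻¹) = X (-a⁻¹) * Y a * X (-a⁻¹) := by rw [W]; simp
  have h := W_X R (-a⁻¹) (-(-a⁻¹)) hb
  rw [show -((-a⁻¹)⁻¹ ^ 2 * -(-a⁻¹)) = -a by field_simp, Yneg R, Xneg R] at h
  calc Y a * X (-a⁻¹) * Y a
      = Y a * (W X Y (-a⁻¹) * (X (-a⁻¹))⁻¹) := by rw [hW]; group
    _ = Y a * (W X Y (-a⁻¹) * (X (-a⁻¹))⁻¹ * (W X Y (-a⁻¹))⁻¹) * W X Y (-a⁻¹) := by group
    _ = W X Y (-a⁻¹) := by rw [h]; group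

theorem W_W (t s : K) (ht : t ≠ 0) (hs : s ≠ 0) :
    W X Y t * W X Y s * (W X Y t)⁻¹ = W X Y (t ^ 2 * s⁻¹) := by
  have e : W X Y t * W X Y s * (W X Y t)⁻¹ = (W X Y t * X s * (W X Y t)⁻¹) *
      (W X Y t * Y (-s⁻¹) * (W X Y t)⁻¹) * (W X Y t * X s * (W X Y t)⁻¹) := by
    rw [show W X Y s = X s * Y (-s⁻¹) * X s from rfl]; group
  rw [e, W_X R t s ht, W_Y R t _ ht]
  have h := V_eq R (-(t⁻¹ ^ 2 * s)) (neg_ne_zero.mpr (mul_ne_zero (pow_ne_zero _ (inv_ne_zero ht)) hs))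
  rw [show -(-(t⁻¹ ^ 2 * s))⁻¹ = t ^ 2 * s⁻¹ by field_simp] at h
  rw [show -(t ^ 2 * -s⁻¹) = t ^ 2 * s⁻¹ by ring]
  exact h

theorem W_one_inv : (W X Y (1 : K))⁻¹ = W X Y (-1) := (W_neg R 1).symm

theorem Hh_one : Hh X Y (1 : K) = 1 := by
  rw [Hh, ← W_one_inv R, mul_inv_cancel]

theorem W_eq (a : K) : W X Y a = Hh X Y a * W X Y 1 := by
  rw [Hh, ← W_one_inv R]; group

theorem Hh_inv (a : K) : (Hh X Y a)⁻¹ = W X Y 1 * W X Y (-a) := by
  rw [Hh, _root_.mul_inv_rev, W_neg R a, ← W_one_inv R, inv_inv]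

theorem Hh_conj (t s : K) (ht : t ≠ 0) (hs : s ≠ 0) :
    Hh X Y t * Hh X Y s * (Hh X Y t)⁻¹ = Hh X Y (t ^ 2 * s) * (Hh X Y (t ^ 2))⁻¹ := by
  have hW : ∀ a : K, a ≠ 0 → Hh X Y t * W X Y a * (Hh X Y t)⁻¹ = W X Y (t ^ 2 * a) := by
    intro a ha
    have h1 := W_W R (-1) a (by norm_num) ha
    rw [show ((-1 : K)) ^ 2 * a⁻¹ = a⁻¹ by ring] at h1
    calc Hh X Y t * W X Y a * (Hh X Y t)⁻¹
        = W X Y t * (W X Y (-1) * W X Y a * (W X Y (-1))⁻¹) * (W X Y t)⁻¹ := by rw [Hh]; group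
      _ = W X Y (t ^ 2 * a) := by rw [h1, W_W R t _ ht (inv_ne_zero ha), inv_inv]
  have e : Hh X Y t * Hh X Y s * (Hh X Y t)⁻¹ = (Hh X Y t * W X Y s * (Hh X Y t)⁻¹) *
      (Hh X Y t * W X Y (-1) * (Hh X Y t)⁻¹) := by
    conv_lhs => rw [show Hh X Y s = W X Y s * W X Y (-1) from rfl]
    group
  rw [e, hW s hs, hW (-1) (by norm_num), Hh_inv R, mul_neg_one, W_eq R (t ^ 2 * s)]
  group

theorem Hh_X (t u : K) (ht : t ≠ 0) : Hh X Y t * X u * (Hh X Y t)⁻¹ = X (t ^ 2 * u) := by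
  have h1 := W_X R (-1) u (by norm_num)
  rw [show -((-1 : K)⁻¹ ^ 2 * u) = -u by norm_num] at h1
  calc Hh X Y t * X u * (Hh X Y t)⁻¹
      = W X Y t * (W X Y (-1) * X u * (W X Y (-1))⁻¹) * (W X Y t)⁻¹ := by rw [Hh]; group
    _ = X (t ^ 2 * u) := by rw [h1, W_Y R t _ ht, mul_neg, neg_neg]

theorem W_Hh (a : K) (ha : a ≠ 0) : W X Y 1 * Hh X Y a * (W X Y 1)⁻¹ = Hh X Y a⁻¹ := by
  have h1 := W_W R 1 a one_ne_zero ha
  rw [one_pow, one_mul] at h1
  calc W X Y 1 * Hh X Y a * (W X Y 1)⁻¹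
      = (W X Y 1 * W X Y a * (W X Y 1)⁻¹) * (W X Y 1 * W X Y (-1) * (W X Y 1)⁻¹) := by
        rw [Hh]; group
    _ = Hh X Y a⁻¹ := by rw [h1, ← W_one_inv R]; rw [Hh, ← W_one_inv R]; group

theorem comm_sq (t : K) (ht : t ≠ 0) :
    Hh X Y t * Hh X Y (t ^ 2) = Hh X Y (t ^ 2) * Hh X Y t ∧
      Hh X Y (t ^ 3) = Hh X Y t * Hh X Y (t ^ 2) := by
  have h2 : ∀ a : K, a ≠ 0 → Hh X Y (a ^ 3) = Hh X Y a * Hh X Y (a ^ 2) := by
    intro a ha
    have h := Hh_conj R a a ha ha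
    rw [mul_inv_cancel_right, ← pow_succ] at h
    rw [h]; group
  refine ⟨?_, h2 t ht⟩
  -- evaluate `h (t⁻³)` in two ways
  set H := Hh X Y t
  set A := Hh X Y (t ^ 2)
  set H' := Hh X Y t⁻¹
  set A' := Hh X Y (t⁻¹ ^ 2)
  have ht' : t⁻¹ ≠ 0 := inv_ne_zero ht
  have e1 : H * H' * H⁻¹ = H * A⁻¹ := by
    have h := Hh_conj R t t⁻¹ ht ht'
    rwa [show t ^ 2 * t⁻¹ = t by field_simp] at h
  have e2 : H * A' * H⁻¹ = A⁻¹ := by
    have h := Hh_conj R t (t⁻¹ ^ 2) ht (pow_ne_zero _ ht')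
    rwa [show t ^ 2 * t⁻¹ ^ 2 = 1 by field_simp, Hh_one R, one_mul] at h
  have e3 : H * Hh X Y (t⁻¹ ^ 3) * H⁻¹ = H' * A⁻¹ := by
    have h := Hh_conj R t (t⁻¹ ^ 3) ht (pow_ne_zero _ ht')
    rwa [show t ^ 2 * t⁻¹ ^ 3 = t⁻¹ by field_simp] at h
  have e4 : H' = A⁻¹ * H := by
    calc H' = H⁻¹ * (H * H' * H⁻¹) * H := by group
      _ = A⁻¹ * H := by rw [e1]; group
  have e5 : H * A⁻¹ * A⁻¹ = A⁻¹ * H * A⁻¹ := by
    rw [← e4, ← e3, h2 t⁻¹ ht']
    calc H * A⁻¹ * A⁻¹ = (H * H' * H⁻¹) * (H * A' * H⁻¹) := by rw [e1, e2]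
      _ = H * (H' * A') * H⁻¹ := by group
  have e6 : H * A⁻¹ = A⁻¹ * H := mul_right_cancel e5
  calc H * A = A * (A⁻¹ * H) * A := by group
    _ = A * (H * A⁻¹) * A := by rw [e6]
    _ = A * H := by group

theorem Hh_pow (μ : K) (hμ : μ ≠ 0) : ∀ n : ℕ,
    Hh X Y (μ ^ (2 * n)) = Hh X Y (μ ^ 2) ^ n ∧
      Hh X Y (μ ^ (2 * n + 1)) = Hh X Y μ * Hh X Y (μ ^ 2) ^ n := by
  have hc : Commute (Hh X Y μ) (Hh X Y (μ ^ 2)) := (comm_sq R μ hμ).1
  have step : ∀ m : ℕ, Hh X Y (μ ^ (m + 2)) = Hh X Y μ * Hh X Y (μ ^ m) * (Hh X Y μ)⁻¹ * Hh X Y (μ ^ 2) := by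
    intro m
    rw [Hh_conj R μ _ hμ (pow_ne_zero m hμ), inv_mul_cancel_right, ← pow_add, add_comm]
  intro n
  induction n with
  | zero => simp [Hh_one R]
  | succ n ih =>
    constructor
    · rw [show 2 * (n + 1) = 2 * n + 2 by ring, step, ih.1, (hc.pow_right n).eq, mul_inv_cancel_right,
        ← pow_succ]
    · rw [show 2 * (n + 1) + 1 = 2 * n + 1 + 2 by ring, step, ih.2, pow_succ (Hh X Y (μ ^ 2)),
        (hc.pow_right n).eq]
      group

theorem Z_central : ∀ g : G, W X Y 1 * W X Y 1 * g = g * (W X Y 1 * W X Y 1) := by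
  intro g
  have hg : g ∈ Subgroup.centralizer ({W X Y 1 * W X Y 1} : Set G) := by
    have : (⊤ : Subgroup G) ≤ Subgroup.centralizer ({W X Y 1 * W X Y 1} : Set G) := by
      rw [← R.gen, Subgroup.closure_le]
      rintro _ (⟨t, rfl⟩ | ⟨t, rfl⟩) <;> rw [SetLike.mem_coe, Subgroup.mem_centralizer_singleton_iff]
      · have h : W X Y 1 * (W X Y 1 * X t * (W X Y 1)⁻¹) * (W X Y 1)⁻¹ = X t := by
          rw [W_X R 1 t one_ne_zero, W_Y R 1 _ one_ne_zero]; simp
        conv_lhs => rw [← h]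
        group
      · have h : W X Y 1 * (W X Y 1 * Y t * (W X Y 1)⁻¹) * (W X Y 1)⁻¹ = Y t := by
          rw [W_Y R 1 t one_ne_zero, W_X R 1 _ one_ne_zero]; simp
        conv_lhs => rw [← h]
        group
    exact this (Subgroup.mem_top g)
  exact (Subgroup.mem_centralizer_singleton_iff.mp hg).symm

theorem Z_eq : W X Y (1 : K) * W X Y 1 = (Hh X Y (-1 : K))⁻¹ := by
  rw [Hh, ← W_one_inv R]; simp [mul_assoc]

theorem Y_eq (a : K) : Y (-a⁻¹) = X (-a) * W X Y a * X (-a) := by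
  rw [Xneg R, W]; group

/-- `w x(t) w` in Bruhat form. -/
theorem bruhat (t : K) (ht : t ≠ 0) :
    W X Y 1 * X t * W X Y 1 = X (-t⁻¹) * W X Y t⁻¹ * (W X Y 1 * W X Y 1) * X (-t⁻¹) := by
  have h := Y_eq R t⁻¹
  rw [inv_inv] at h
  calc W X Y 1 * X t * W X Y 1 = (W X Y 1 * X t * (W X Y 1)⁻¹) * (W X Y 1 * W X Y 1) := by group
    _ = X (-t⁻¹) * W X Y t⁻¹ * X (-t⁻¹) * (W X Y 1 * W X Y 1) := by
        rw [W_X R 1 t one_ne_zero, ← h]; simp
    _ = X (-t⁻¹) * W X Y t⁻¹ * (X (-t⁻¹) * (W X Y 1 * W X Y 1)) := by group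
    _ = _ := by rw [← Z_central R (X (-t⁻¹))]; group

/-- The relation coming from `s + t = 1`. -/
theorem symbol (s t : K) (hs : s ≠ 0) (ht : t ≠ 0) (hst : s + t = 1) :
    Hh X Y (-t * s⁻¹) * Hh X Y s * Hh X Y t⁻¹ = Hh X Y (-1) := by
  obtain ⟨Z, hZ⟩ : ∃ Z, Z = W X Y (1 : K) * W X Y 1 := ⟨_, rfl⟩
  -- two evaluations of `W X Y 1 x(1) w`
  have hL : W X Y 1 * X 1 * W X Y 1 = X (-1) * W X Y 1 * Z * X (-1) := by
    have h := bruhat R (1 : K) one_ne_zero
    rwa [inv_one, ← hZ] at h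
  have hsplit : W X Y 1 * X 1 * W X Y 1 = (W X Y 1 * X s * W X Y 1) * Z⁻¹ * (W X Y 1 * X t * W X Y 1) := by
    rw [show X (1 : K) = X s * X t by rw [← R.addX, hst], hZ]; group
  rw [bruhat R s hs, bruhat R t ht, ← hZ] at hsplit
  have hmid : X (-s⁻¹) * W X Y s⁻¹ * Z * X (-s⁻¹) * Z⁻¹ * (X (-t⁻¹) * W X Y t⁻¹ * Z * X (-t⁻¹))
      = X (-s⁻¹) * W X Y s⁻¹ * X (-(s * t)⁻¹) * W X Y t⁻¹ * Z * X (-t⁻¹) := by
    have e : (-(s * t)⁻¹ : K) = -s⁻¹ + -t⁻¹ := by
      field_simp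
      linear_combination hst
    rw [e, R.addX]
    have hc : Z * X (-s⁻¹) = X (-s⁻¹) * Z := by rw [hZ]; exact Z_central R _
    rw [mul_assoc (X (-s⁻¹) * W X Y s⁻¹) Z, hc]
    group
  have hy : W X Y s⁻¹ * X (-(s * t)⁻¹) * (W X Y s⁻¹)⁻¹ = X (t * s⁻¹) * W X Y (-t * s⁻¹) * X (t * s⁻¹) := by
    rw [W_X R s⁻¹ _ (inv_ne_zero hs)]
    have h := Y_eq R (-t * s⁻¹)
    rw [show -(-t * s⁻¹) = t * s⁻¹ by ring] at h
    rw [← h]
    congr 1
    field_simp
  -- move the last unipotent to the right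
  have hmove : X (t * s⁻¹) * (W X Y s⁻¹ * W X Y t⁻¹) = W X Y s⁻¹ * W X Y t⁻¹ * X (s * t⁻¹) := by
    have h1 : (W X Y s⁻¹)⁻¹ * X (t * s⁻¹) * W X Y s⁻¹ = Y (-(s * t)) := by
      rw [← W_neg R]
      conv_lhs => arg 2; rw [show W X Y s⁻¹ = (W X Y (-s⁻¹))⁻¹ by rw [W_neg R, inv_inv]]
      rw [W_X R _ _ (neg_ne_zero.mpr (inv_ne_zero hs))]
      congr 1
      field_simp
    have h2 : (W X Y t⁻¹)⁻¹ * Y (-(s * t)) * W X Y t⁻¹ = X (s * t⁻¹) := by
      rw [← W_neg R]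
      conv_lhs => arg 2; rw [show W X Y t⁻¹ = (W X Y (-t⁻¹))⁻¹ by rw [W_neg R, inv_inv]]
      rw [W_Y R _ _ (neg_ne_zero.mpr (inv_ne_zero ht))]
      congr 1
      field_simp
    calc X (t * s⁻¹) * (W X Y s⁻¹ * W X Y t⁻¹)
        = W X Y s⁻¹ * ((W X Y s⁻¹)⁻¹ * X (t * s⁻¹) * W X Y s⁻¹) * W X Y t⁻¹ := by group
      _ = W X Y s⁻¹ * Y (-(s * t)) * W X Y t⁻¹ := by rw [h1]
      _ = W X Y s⁻¹ * W X Y t⁻¹ * ((W X Y t⁻¹)⁻¹ * Y (-(s * t)) * W X Y t⁻¹) := by group
      _ = _ := by rw [h2]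
  have hR : (X (-s⁻¹) * W X Y s⁻¹ * X (-(s * t)⁻¹) * W X Y t⁻¹ * Z * X (-t⁻¹))
      = X (-1) * (W X Y (-t * s⁻¹) * W X Y s⁻¹ * W X Y t⁻¹) * Z * X (-1) := by
    calc X (-s⁻¹) * W X Y s⁻¹ * X (-(s * t)⁻¹) * W X Y t⁻¹ * Z * X (-t⁻¹)
        = X (-s⁻¹) * (W X Y s⁻¹ * X (-(s * t)⁻¹) * (W X Y s⁻¹)⁻¹) *
            (W X Y s⁻¹ * W X Y t⁻¹) * Z * X (-t⁻¹) := by group
      _ = X (-s⁻¹) * X (t * s⁻¹) * W X Y (-t * s⁻¹) *
            (X (t * s⁻¹) * (W X Y s⁻¹ * W X Y t⁻¹)) * Z * X (-t⁻¹) := by rw [hy]; group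
      _ = (X (-s⁻¹) * X (t * s⁻¹)) * (W X Y (-t * s⁻¹) * W X Y s⁻¹ * W X Y t⁻¹) *
            (X (s * t⁻¹) * Z) * X (-t⁻¹) := by rw [hmove]; group
      _ = (X (-s⁻¹) * X (t * s⁻¹)) * (W X Y (-t * s⁻¹) * W X Y s⁻¹ * W X Y t⁻¹) *
            Z * (X (s * t⁻¹) * X (-t⁻¹)) := by rw [hZ, ← Z_central R (X (s * t⁻¹))]; group
      _ = _ := by
        rw [← R.addX, ← R.addX, show -s⁻¹ + t * s⁻¹ = -1 by field_simp; linear_combination hst,
          show s * t⁻¹ + -t⁻¹ = -1 by field_simp; linear_combination hst]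
  have key : W X Y (-t * s⁻¹) * W X Y s⁻¹ * W X Y t⁻¹ = W X Y 1 := by
    have e := hsplit
    rw [hL, hmid, hR] at e
    have e1 := mul_right_cancel e
    have e2 := mul_right_cancel e1
    exact (mul_left_cancel e2).symm
  have e := W_Hh R s⁻¹ (inv_ne_zero hs)
  rw [inv_inv] at e
  have hmain : Hh X Y (-t * s⁻¹) * Hh X Y s * Z * Hh X Y t⁻¹ = 1 := by
    apply mul_right_cancel (b := W X Y 1)
    rw [one_mul]
    calc Hh X Y (-t * s⁻¹) * Hh X Y s * Z * Hh X Y t⁻¹ * W X Y 1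
        = Hh X Y (-t * s⁻¹) * (Hh X Y s * W X Y 1) * W X Y 1 * Hh X Y t⁻¹ * W X Y 1 := by rw [hZ]; group
      _ = Hh X Y (-t * s⁻¹) * (W X Y 1 * Hh X Y s⁻¹) * W X Y 1 * Hh X Y t⁻¹ * W X Y 1 := by rw [← e]; group
      _ = W X Y (-t * s⁻¹) * W X Y s⁻¹ * W X Y t⁻¹ := by
          rw [W_eq R (-t * s⁻¹), W_eq R s⁻¹, W_eq R t⁻¹]; group
      _ = W X Y 1 := key
  calc Hh X Y (-t * s⁻¹) * Hh X Y s * Hh X Y t⁻¹
      = (Hh X Y (-t * s⁻¹) * Hh X Y s * Z * Hh X Y t⁻¹) * Z⁻¹ := by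
        rw [hZ, mul_assoc (Hh X Y (-t * s⁻¹) * Hh X Y s) (W X Y 1 * W X Y 1),
          Z_central R (Hh X Y t⁻¹)]; group
    _ = Hh X Y (-1) := by rw [hmain, hZ, Z_eq R, one_mul, inv_inv]

theorem exists_gen_torus [Fintype K] :
    ∃ (g : G) (ν : K), ν ≠ 0 ∧ (∀ u, g * X u * g⁻¹ = X (ν * u)) ∧ g ^ (Fintype.card K - 1) = 1 ∧
      W X Y 1 * g * (W X Y 1)⁻¹ = g⁻¹ ∧ (∀ a : K, a ≠ 0 → ∃ i : ℤ, Hh X Y a = g ^ i) ∧
      ∀ u : K, ∀ S : AddSubgroup K, (∀ i : ℕ, ν ^ i ∈ S) → u ∈ S := by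
  classical
  obtain ⟨μu, hgen⟩ := IsCyclic.exists_generator (α := Kˣ)
  set μ : K := (μu : K) with hμdef
  have hμ : μ ≠ 0 := μu.ne_zero
  have hq : orderOf μ = Fintype.card K - 1 := by
    rw [hμdef, orderOf_units, orderOf_eq_card_of_forall_mem_zpowers hgen, Nat.card_eq_fintype_card,
      Fintype.card_units]
  have hpow : ∀ a : K, a ≠ 0 → ∃ n : ℕ, a = μ ^ n := by
    intro a ha
    obtain ⟨n, hn⟩ := (isOfFinOrder_of_finite μu).mem_powers_iff_mem_zpowers.mpr (hgen (Units.mk0 a ha))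
    exact ⟨n, by rw [hμdef, ← Units.val_pow_eq_pow_val]; exact (congrArg Units.val hn).symm⟩
  have hq1 : μ ^ (Fintype.card K - 1) = 1 := hq ▸ pow_orderOf_eq_one μ
  set H := Hh X Y μ
  set A := Hh X Y (μ ^ 2)
  have hT := Hh_pow R μ hμ
  have hHA : Commute H A := (comm_sq R μ hμ).1
  have hsq : ∀ a : K, a ≠ 0 → ∀ n : ℕ, Hh X Y a ^ n * X 1 * (Hh X Y a ^ n)⁻¹ = X ((a ^ 2) ^ n) := by
    intro a ha n
    induction n with
    | zero => simp
    | succ n ih =>
      rw [pow_succ' (Hh X Y a), _root_.mul_inv_rev, pow_succ' (a ^ 2), ← Hh_X R a _ ha, ← ih]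
      group
  have hinv : ∀ a : K, a ≠ 0 → Hh X Y a * Hh X Y a⁻¹ = 1 →
      W X Y 1 * Hh X Y a * (W X Y 1)⁻¹ = (Hh X Y a)⁻¹ := fun a ha h => by
    rw [W_Hh R a ha]; exact eq_inv_of_mul_eq_one_right h
  by_cases h2 : ringChar K = 2
  · -- even case
    obtain ⟨k, hk⟩ : Even (Fintype.card K) :=
      Nat.even_iff.mpr (by
        have := FiniteField.even_card_iff_char_two.mp h2
        exact this)
    have hK2 : 2 ≤ Fintype.card K := Fintype.one_lt_card
    have hA1 : A ^ (Fintype.card K - 1) = 1 := by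
      rw [← (hT _).1, mul_comm, pow_mul, hq1, one_pow, Hh_one R]
    have hAi : A * Hh X Y (μ ^ 2)⁻¹ = 1 := by
      have e : ((μ ^ 2)⁻¹ : K) = μ ^ (2 * (Fintype.card K - 2)) := by
        apply inv_eq_of_mul_eq_one_right
        rw [← pow_add, show 2 + 2 * (Fintype.card K - 2) = (Fintype.card K - 1) * 2 by omega, pow_mul,
          hq1, one_pow]
      rw [e, (hT _).1, ← pow_succ', show Fintype.card K - 2 + 1 = Fintype.card K - 1 by omega]
      exact hA1
    refine ⟨A, (μ ^ 2) ^ 2, pow_ne_zero _ (pow_ne_zero _ hμ), fun u => Hh_X R _ u (pow_ne_zero _ hμ),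
      hA1, hinv _ (pow_ne_zero _ hμ) hAi, ?_, ?_⟩
    · intro a ha
      obtain ⟨n, rfl⟩ := hpow a ha
      rcases Nat.even_or_odd' n with ⟨j, rfl | rfl⟩
      · exact ⟨j, by rw [(hT j).1, zpow_natCast]⟩
      · refine ⟨(j + k : ℕ), ?_⟩
        rw [zpow_natCast, ← (hT (j + k)).1,
          show 2 * (j + k) = 2 * j + 1 + (Fintype.card K - 1) by omega, pow_add μ (2 * j + 1), hq1, mul_one]
    · intro u S hS
      by_cases hu : u = 0
      · rw [hu]; exact zero_mem S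
      obtain ⟨n, rfl⟩ := hpow u hu
      have key : ∀ m, 4 ∣ m → μ ^ m ∈ S := by
        rintro m ⟨i, rfl⟩
        have := hS i
        rw [← pow_mul, ← pow_mul] at this
        rwa [show 4 * i = 2 * (2 * i) by ring]
      have hmod : ∀ j, μ ^ n = μ ^ (n + (Fintype.card K - 1) * j) := fun j => by
        rw [pow_add, pow_mul, hq1, one_pow, mul_one]
      have : ∃ j, 4 ∣ n + (Fintype.card K - 1) * j := by
        have h4 : (n + (Fintype.card K - 1) * 0) % 4 = 0 ∨ (n + (Fintype.card K - 1) * 1) % 4 = 0 ∨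
          (n + (Fintype.card K - 1) * 2) % 4 = 0 ∨ (n + (Fintype.card K - 1) * 3) % 4 = 0 := by
          have hd : (Fintype.card K - 1) % 4 = 1 ∨ (Fintype.card K - 1) % 4 = 3 := by omega
          rw [Nat.add_mod n, Nat.mul_mod, Nat.add_mod n ((Fintype.card K - 1) * 1),
            Nat.mul_mod _ 1, Nat.add_mod n ((Fintype.card K - 1) * 2), Nat.mul_mod _ 2,
            Nat.add_mod n ((Fintype.card K - 1) * 3), Nat.mul_mod _ 3]
          have hn : n % 4 = 0 ∨ n % 4 = 1 ∨ n % 4 = 2 ∨ n % 4 = 3 := by omega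
          rcases hd with h | h <;> rcases hn with h' | h' | h' | h' <;> simp [h, h']
        rcases h4 with h | h | h | h <;> exact ⟨_, Nat.dvd_of_mod_eq_zero h⟩
      obtain ⟨j, hj⟩ := this
      rw [hmod j]
      exact key _ hj
  · -- odd case
    have h2' : (2 : K) ≠ 0 := Ring.two_ne_zero h2
    obtain ⟨m, hm⟩ : Odd (Fintype.card K) := Nat.odd_iff.mpr (FiniteField.odd_card_of_char_ne_two h2)
    have hm1 : 1 ≤ m := by have := Fintype.one_lt_card (α := K); omega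
    have hsub : Fintype.card K - 1 = 2 * m := by omega
    rw [hsub] at hq hq1
    have hAm : A ^ m = 1 := by rw [← (hT m).1, hq1, Hh_one R]
    have hns : ∀ a : K, ∀ n : ℕ, a = μ ^ n → (IsSquare a ↔ Even n) := by
      rintro a n rfl
      constructor
      · rintro ⟨b, hb⟩
        by_cases hb0 : b = 0
        · rw [hb0, mul_zero] at hb
          exact absurd hb (pow_ne_zero n hμ)
        obtain ⟨i, rfl⟩ := hpow b hb0
        rw [← pow_add] at hb
        have hb2 : μu ^ n = μu ^ (i + i) := Units.ext (by simpa [hμdef] using hb)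
        rw [pow_eq_pow_iff_modEq, ← orderOf_units, ← hμdef, hq] at hb2
        replace hb := hb2
        have hb' : n ≡ i + i [MOD 2] := hb.of_mul_right m
        rw [Nat.ModEq] at hb'
        exact Nat.even_iff.mpr (by omega)
      · rintro ⟨i, rfl⟩
        exact ⟨μ ^ i, pow_add μ i i⟩
    obtain ⟨t, ht⟩ := FiniteField.exists_nonsquare h2
    -- two nonsquares summing to one
    obtain ⟨t, ht, hs⟩ : ∃ t : K, ¬ IsSquare t ∧ ¬ IsSquare (1 - t) := by
      by_contra hc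
      push Not at hc
      let N := {a : K // ¬ IsSquare a}
      let S := {a : K // a ≠ 0 ∧ IsSquare a}
      let f : N → S := fun a => ⟨1 - a.1, fun h => a.2 (by rw [← sub_eq_zero.mp h]; exact IsSquare.one),
        hc _ a.2⟩
      have hf : Function.Injective f := fun a b h => Subtype.ext (sub_right_injective (congrArg Subtype.val h))
      let g : S → N := fun a => ⟨a.1 * t, fun h => ht (by
        have hh := h.mul (isSquare_inv.mpr a.2.2)
        rwa [mul_comm a.1, mul_inv_cancel_right₀ a.2.1] at hh)⟩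
      have ht0 : t ≠ 0 := fun h => ht (h ▸ IsSquare.zero)
      have hg : Function.Injective g := fun a b h =>
        Subtype.ext (mul_right_cancel₀ ht0 (congrArg Subtype.val h))
      have hb : Function.Bijective f := (Fintype.bijective_iff_injective_and_card f).mpr
        ⟨hf, le_antisymm (Fintype.card_le_of_injective f hf) (Fintype.card_le_of_injective g hg)⟩
      obtain ⟨a, ha⟩ := hb.2 ⟨1, one_ne_zero, IsSquare.one⟩
      have : (1 : K) - a.1 = 1 := congrArg Subtype.val ha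
      rw [sub_eq_self] at this
      exact a.2 (this ▸ IsSquare.zero)
    set s := 1 - t
    have ht0 : t ≠ 0 := fun h => ht (h ▸ IsSquare.zero)
    have hs0 : s ≠ 0 := fun h => hs (h ▸ IsSquare.zero)
    obtain ⟨i, hi⟩ := hpow s hs0
    obtain ⟨j, hj⟩ := hpow t ht0
    obtain ⟨i, rfl⟩ := Nat.not_even_iff_odd.mp (fun h => hs ((hns _ _ hi).mpr h))
    obtain ⟨j, rfl⟩ := Nat.not_even_iff_odd.mp (fun h => ht ((hns _ _ hj).mpr h))
    have hneg : μ ^ m = -1 := by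
      have hne : μ ^ m ≠ 1 := fun h => by
        have := Nat.le_of_dvd hm1 (hq ▸ orderOf_dvd_of_pow_eq_one h)
        omega
      refine (mul_self_eq_one_iff.mp ?_).resolve_left hne
      rw [← pow_add, ← two_mul, hq1]
    have hprod := symbol R s t hs0 ht0 (sub_add_cancel 1 t)
    have key : A = H * H := by
      have hall : ∀ n j, μ ^ n = μ ^ (2 * j) → Hh X Y (μ ^ n) = A ^ j := fun n j h => by rw [h, (hT j).1]
      have hall' : ∀ n j, μ ^ n = μ ^ (2 * j + 1) → Hh X Y (μ ^ n) = H * A ^ j :=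
        fun n j h => by rw [h, (hT j).2]
      have h1 : t⁻¹ = μ ^ (2 * (2 * m * (j + 1) - j - 1) + 1) := by
        apply inv_eq_of_mul_eq_one_right
        rw [hj, ← pow_add]
        have hle : j + 1 ≤ 2 * m * (j + 1) := Nat.le_mul_of_pos_left _ (by omega)
        rw [show 2 * j + 1 + (2 * (2 * m * (j + 1) - j - 1) + 1) = 2 * m * (2 * (j + 1)) by
          have : 2 * m * (2 * (j + 1)) = 2 * (2 * m * (j + 1)) := by ring
          omega, pow_mul, hq1, one_pow]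
      have hsi : s⁻¹ = μ ^ (2 * (2 * m * (i + 1) - i - 1) + 1) := by
        apply inv_eq_of_mul_eq_one_right
        rw [hi, ← pow_add]
        have hle : i + 1 ≤ 2 * m * (i + 1) := Nat.le_mul_of_pos_left _ (by omega)
        rw [show 2 * i + 1 + (2 * (2 * m * (i + 1) - i - 1) + 1) = 2 * m * (2 * (i + 1)) by
          have : 2 * m * (2 * (i + 1)) = 2 * (2 * m * (i + 1)) := by ring
          omega, pow_mul, hq1, one_pow]
      set j' := 2 * m * (j + 1) - j - 1 with hj'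
      set i' := 2 * m * (i + 1) - i - 1 with hi'
      have hts : -t * s⁻¹ = μ ^ (m + (2 * j + 1) + (2 * i' + 1)) := by
        rw [pow_add, pow_add, hneg, ← hj, ← hsi]; ring
      have hjj : A ^ (j + j' + 1) = 1 := by
        have : t * t⁻¹ = 1 := mul_inv_cancel₀ ht0
        rw [h1, hj, ← pow_add] at this
        rw [← (hT _).1, show 2 * (j + j' + 1) = 2 * j + 1 + (2 * j' + 1) by ring, this, Hh_one R]
      have hii : A ^ (i + i' + 1) = 1 := by
        have : s * s⁻¹ = 1 := mul_inv_cancel₀ hs0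
        rw [hsi, hi, ← pow_add] at this
        rw [← (hT _).1, show 2 * (i + i' + 1) = 2 * i + 1 + (2 * i' + 1) by ring, this, Hh_one R]
      rw [hts, h1, ← hneg] at hprod
      rw [show Hh X Y s = H * A ^ i by rw [hi, (hT i).2], (hT j').2] at hprod
      have hc := fun n : ℕ => (hHA.pow_right n).eq
      rcases Nat.even_or_odd' m with ⟨r, hr | hr⟩
      · rw [hall _ (r + j + i' + 1) (by congr 1; omega), hall m r (by rw [hr])] at hprod
        have e : A ^ (r + j + i' + 1) * (H * A ^ i) * (H * A ^ j') = H * H * A ^ (r + j + i' + 1 + i + j') := by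
          calc A ^ (r + j + i' + 1) * (H * A ^ i) * (H * A ^ j')
              = (A ^ (r + j + i' + 1) * H) * (A ^ i * H) * A ^ j' := by group
            _ = (H * A ^ (r + j + i' + 1)) * (H * A ^ i) * A ^ j' := by rw [← hc, ← hc]
            _ = H * (A ^ (r + j + i' + 1) * H) * A ^ i * A ^ j' := by group
            _ = _ := by rw [← hc, pow_add _ _ j', pow_add _ _ i]; group
        rw [e] at hprod
        have h3 : A ^ (r + j + i' + 1 + i + j') * A = A ^ r := by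
          rw [← pow_succ, show r + j + i' + 1 + i + j' + 1 = r + ((j + j' + 1) + (i + i' + 1)) by ring,
            pow_add, pow_add, hjj, hii, one_mul, mul_one]
        rw [← h3, (Commute.self_pow A _).symm.eq] at hprod
        exact (mul_right_cancel hprod).symm
      · rw [hall' _ (r + j + i' + 1) (by congr 1; omega), hall' m r (by rw [hr])] at hprod
        have e : H * A ^ (r + j + i' + 1) * (H * A ^ i) * (H * A ^ j') =
            H * (H * H * A ^ (r + j + i' + 1 + i + j')) := by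
          calc H * A ^ (r + j + i' + 1) * (H * A ^ i) * (H * A ^ j')
              = H * ((A ^ (r + j + i' + 1) * H) * (A ^ i * H) * A ^ j') := by group
            _ = H * ((H * A ^ (r + j + i' + 1)) * (H * A ^ i) * A ^ j') := by rw [← hc, ← hc]
            _ = H * (H * (A ^ (r + j + i' + 1) * H) * A ^ i * A ^ j') := by group
            _ = _ := by rw [← hc, pow_add _ _ j', pow_add _ _ i]; group
        rw [e] at hprod
        have h3 : A ^ (r + j + i' + 1 + i + j') * A = A ^ r := by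
          rw [← pow_succ, show r + j + i' + 1 + i + j' + 1 = r + ((j + j' + 1) + (i + i' + 1)) by ring,
            pow_add, pow_add, hjj, hii, one_mul, mul_one]
        have hprod' := mul_left_cancel hprod
        rw [← h3, (Commute.self_pow A _).symm.eq] at hprod'
        exact (mul_right_cancel hprod').symm
    have hH : ∀ n : ℕ, Hh X Y (μ ^ n) = H ^ n := by
      intro n
      rcases Nat.even_or_odd' n with ⟨l, rfl | rfl⟩
      · rw [(hT l).1]
        show A ^ l = _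
        rw [key, ← pow_two, ← pow_mul]
      · rw [(hT l).2]
        show H * A ^ l = _
        rw [key, ← pow_two, ← pow_mul, ← pow_succ']
    have hH1 : H ^ (2 * m) = 1 := by rw [← hH, hq1, Hh_one R]
    refine ⟨H, μ ^ 2, pow_ne_zero _ hμ, fun u => Hh_X R _ u hμ, by rw [hsub]; exact hH1,
      hinv _ hμ ?_, ?_, ?_⟩
    · have e : μ⁻¹ = μ ^ (2 * m - 1) := inv_eq_of_mul_eq_one_right (by
        rw [← pow_succ', show 2 * m - 1 + 1 = 2 * m by omega, hq1])
      rw [e, hH, ← pow_succ', show 2 * m - 1 + 1 = 2 * m by omega, hH1]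
    · intro a ha
      obtain ⟨n, rfl⟩ := hpow a ha
      exact ⟨n, by rw [hH, zpow_natCast]⟩
    · intro u S hS
      have hsqS : ∀ b : K, b ^ 2 ∈ S := by
        intro b
        by_cases hb : b = 0
        · rw [hb, zero_pow two_ne_zero]; exact zero_mem S
        obtain ⟨n, rfl⟩ := hpow b hb
        rw [← pow_mul, mul_comm, pow_mul]
        exact hS n
      have : u = ((u + 1) / 2) ^ 2 - ((u - 1) / 2) ^ 2 := by field_simp; ring
      rw [this]
      exact sub_mem (hsqS _) (hsqS _)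

theorem card_bound [Fintype K] :
    Finite G ∧ Nat.card G ≤ (Fintype.card K - 1) * Fintype.card K * (1 + Fintype.card K) := by
  obtain ⟨g, ν, hν, hgX, hgN, hgw, hHh, hspan⟩ := exists_gen_torus R
  refine CfsgLib.SLPres.card_le (X 1) g (W X Y 1) X ν hν (Fintype.card K - 1)
    (by have := Fintype.one_lt_card (α := K); omega) ?_ R.addX rfl hgX hgN hgw ?_ ?_
  · set C := Subgroup.closure ({X 1, g, W X Y 1} : Set G) with hC
    have h1 : X 1 ∈ C := Subgroup.subset_closure (by simp)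
    have hg : g ∈ C := Subgroup.subset_closure (by simp)
    have hw : W X Y 1 ∈ C := Subgroup.subset_closure (by simp)
    let S : AddSubgroup K :=
      { carrier := {u | X u ∈ C}
        add_mem' := fun {a b} ha hb => by simp only [Set.mem_setOf_eq] at *; rw [R.addX]; exact mul_mem ha hb
        zero_mem' := by simp only [Set.mem_setOf_eq, X0 R]; exact one_mem C
        neg_mem' := fun {a} ha => by simp only [Set.mem_setOf_eq] at *; rw [Xneg R]; exact inv_mem ha }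
    have hS : ∀ i : ℕ, ν ^ i ∈ S := by
      intro i
      induction i with
      | zero => show X (ν ^ 0) ∈ C; rw [pow_zero]; exact h1
      | succ i ih =>
        show X (ν ^ (i + 1)) ∈ C
        rw [pow_succ', ← hgX]
        exact mul_mem (mul_mem hg ih) (inv_mem hg)
    have hX : ∀ u, X u ∈ C := fun u => hspan u S hS
    rw [eq_top_iff, ← R.gen, Subgroup.closure_le]
    rintro _ (⟨u, rfl⟩ | ⟨u, rfl⟩)
    · exact hX u
    · have : Y u = W X Y 1 * X (-u) * (W X Y 1)⁻¹ := by rw [W_X R 1 _ one_ne_zero]; simp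
      rw [this]
      exact mul_mem (mul_mem hw (hX _)) (inv_mem hw)
  · obtain ⟨i, hi⟩ := hHh (-1) (neg_ne_zero.mpr one_ne_zero)
    exact ⟨-i, by rw [Z_eq R, hi, _root_.zpow_neg]⟩
  · intro t ht
    obtain ⟨i, hi⟩ := hHh t⁻¹ (inv_ne_zero ht)
    obtain ⟨j, hj⟩ := hHh (-1) (neg_ne_zero.mpr one_ne_zero)
    refine ⟨-t⁻¹, -t⁻¹, i + -j, ?_⟩
    rw [bruhat R t ht, W_eq R t⁻¹, hi, mul_assoc (X (-t⁻¹)) _ (W X Y 1 * W X Y 1),
      mul_assoc (g ^ i), ← Z_central R (W X Y 1), Z_eq R, hj, _root_.zpow_add, _root_.zpow_neg]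
    group

end Abstract

section Model

variable {K : Type*} [Field K]

def up (t : K) : SL(2, K) := ⟨!![1, t; 0, 1], by simp [Matrix.det_fin_two_of]⟩

def lo (t : K) : SL(2, K) := ⟨!![1, 0; t, 1], by simp [Matrix.det_fin_two_of]⟩

def gens (x : Bool × K) : SL(2, K) := bif x.1 then up x.2 else lo x.2

theorem gens_true (t : K) : gens (true, t) = up t := rfl

theorem gens_false (t : K) : gens (false, t) = lo t := rfl

@[simp] theorem coe_up (t : K) : ((up t : SL(2, K)) : Matrix (Fin 2) (Fin 2) K) = !![1, t; 0, 1] := rfl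

@[simp] theorem coe_lo (t : K) : ((lo t : SL(2, K)) : Matrix (Fin 2) (Fin 2) K) = !![1, 0; t, 1] := rfl

theorem gens_add (b : Bool) (t u : K) : gens (b, t) * gens (b, u) = gens (b, t + u) := by
  cases b <;> ext i j <;> fin_cases i <;> fin_cases j <;> simp [gens_true, gens_false, Matrix.mul_fin_two, add_comm]

theorem gens_weyl (b : Bool) (t u : K) (ht : t ≠ 0) :
    gens (b, t) * gens (!b, -t⁻¹) * gens (b, t) * gens (b, u) =
      gens (!b, -(t⁻¹ ^ 2 * u)) * (gens (b, t) * gens (!b, -t⁻¹) * gens (b, t)) := by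
  cases b <;> ext i j <;> fin_cases i <;> fin_cases j <;>
    simp [gens_true, gens_false, Matrix.mul_fin_two] <;> field_simp <;> ring_nf <;> simp

theorem main (K : Type*) [Field K] [Finite K] :
    ∃ e : PresentedGroup
        ({g : FreeGroup (Bool × K) | ∃ (b : Bool) (t u : K), g = FreeGroup.of (b, t) * FreeGroup.of (b, u) * (FreeGroup.of (b, t + u))⁻¹} ∪
          {g | ∃ (b : Bool) (t u : K), t ≠ 0 ∧
            g = (FreeGroup.of (b, t) * FreeGroup.of (!b, -t⁻¹) * FreeGroup.of (b, t)) * FreeGroup.of (b, u) *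
                  (FreeGroup.of (b, t) * FreeGroup.of (!b, -t⁻¹) * FreeGroup.of (b, t))⁻¹ * (FreeGroup.of (!b, -(t⁻¹ ^ 2 * u)))⁻¹})
        ≃* SL(2, K),
      (∀ t : K, ((e (PresentedGroup.of (true, t)) : Matrix (Fin 2) (Fin 2) K)) = !![1, t; 0, 1]) ∧
      (∀ t : K, ((e (PresentedGroup.of (false, t)) : Matrix (Fin 2) (Fin 2) K)) = !![1, 0; t, 1]) := by
  classical
  haveI := Fintype.ofFinite K
  set rels : Set (FreeGroup (Bool × K)) :=
    {g : FreeGroup (Bool × K) | ∃ (b : Bool) (t u : K), g = FreeGroup.of (b, t) * FreeGroup.of (b, u) * (FreeGroup.of (b, t + u))⁻¹} ∪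
      {g | ∃ (b : Bool) (t u : K), t ≠ 0 ∧
        g = (FreeGroup.of (b, t) * FreeGroup.of (!b, -t⁻¹) * FreeGroup.of (b, t)) * FreeGroup.of (b, u) *
              (FreeGroup.of (b, t) * FreeGroup.of (!b, -t⁻¹) * FreeGroup.of (b, t))⁻¹ * (FreeGroup.of (!b, -(t⁻¹ ^ 2 * u)))⁻¹}
    with hrels
  have hh : ∀ r ∈ rels, FreeGroup.lift (gens (K := K)) r = 1 := by
    rintro r (⟨b, t, u, rfl⟩ | ⟨b, t, u, ht, rfl⟩)
    · simp only [map_mul, map_inv, FreeGroup.lift_apply_of]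
      rw [gens_add, mul_inv_cancel]
    · simp only [map_mul, map_inv, FreeGroup.lift_apply_of]
      rw [gens_weyl b t u ht]; group
  have hr : ∀ r ∈ rels, (PresentedGroup.mk rels) r = 1 := fun r hr =>
    (PresentedGroup.one_of_mem hr)
  have hadd : ∀ (b : Bool) (t u : K), (PresentedGroup.of (b, t + u) : PresentedGroup rels) =
      PresentedGroup.of (b, t) * PresentedGroup.of (b, u) := by
    intro b t u
    have := hr _ (Or.inl ⟨b, t, u, rfl⟩)
    simp only [map_mul, map_inv] at this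
    exact (mul_inv_eq_one.mp this).symm
  have hrel : ∀ (b : Bool) (t u : K), t ≠ 0 →
      (PresentedGroup.of (b, t) * PresentedGroup.of (!b, -t⁻¹) * PresentedGroup.of (b, t)) *
        PresentedGroup.of (b, u) *
        (PresentedGroup.of (b, t) * PresentedGroup.of (!b, -t⁻¹) * PresentedGroup.of (b, t))⁻¹ =
      (PresentedGroup.of (!b, -(t⁻¹ ^ 2 * u)) : PresentedGroup rels) := by
    intro b t u ht
    have := hr _ (Or.inr ⟨b, t, u, ht, rfl⟩)
    simp only [map_mul, map_inv] at this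
    exact mul_inv_eq_one.mp this
  have R : Rels (fun t : K => (PresentedGroup.of (true, t) : PresentedGroup rels))
      (fun t => PresentedGroup.of (false, t)) :=
    { addX := hadd true
      addY := hadd false
      relX := hrel true
      relY := hrel false
      gen := by
        rw [eq_top_iff, ← PresentedGroup.closure_range_of rels, Subgroup.closure_le]
        rintro _ ⟨⟨b, t⟩, rfl⟩
        cases b
        · exact Subgroup.subset_closure (Or.inr ⟨t, rfl⟩)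
        · exact Subgroup.subset_closure (Or.inl ⟨t, rfl⟩) }
  obtain ⟨hfin, hcard⟩ := card_bound R
  let π : PresentedGroup rels →* SL(2, K) := PresentedGroup.toGroup hh
  have hsurj : Function.Surjective π := by
    rw [← MonoidHom.range_eq_top]
    have hU : ∀ b : Multiplicative K, CfsgLib.SL2.upperHom b ∈ π.range := fun b =>
      ⟨PresentedGroup.of (true, b.toAdd), by
        rw [show π (PresentedGroup.of (true, b.toAdd)) = gens (true, b.toAdd) from PresentedGroup.toGroup.of hh]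
        apply Subtype.ext
        rw [CfsgLib.SL2.upperHom_coe]; rfl⟩
    have hl : lo (1 : K) ∈ π.range := ⟨PresentedGroup.of (false, 1), PresentedGroup.toGroup.of hh⟩
    exact CfsgLib.SL2.eq_top_of_upper_and_conj _ (lo 1) (by simp [lo]) hU
      fun b => mul_mem (mul_mem hl (hU b)) (inv_mem hl)
  haveI := hfin
  have hq := CfsgLib.SL2.card_SL_two' (F := K)
  rw [Nat.card_eq_fintype_card (α := K)] at hq
  have hb : Function.Bijective π := (Nat.bijective_iff_surjective_and_card π).mpr ⟨hsurj, le_antisymm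
    (hcard.trans (le_of_eq (by rw [hq]; ring))) (Nat.card_le_card_of_surjective π hsurj)⟩
  refine ⟨MulEquiv.ofBijective π hb, fun t => ?_, fun t => ?_⟩
  · show ((π (PresentedGroup.of (true, t))) : Matrix (Fin 2) (Fin 2) K) = _
    rw [show π (PresentedGroup.of (true, t)) = gens (true, t) from PresentedGroup.toGroup.of hh]; rfl
  · show ((π (PresentedGroup.of (false, t))) : Matrix (Fin 2) (Fin 2) K) = _
    rw [show π (PresentedGroup.of (false, t)) = gens (false, t) from PresentedGroup.toGroup.of hh]; rfl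

end Model

/-- The rank-one Steinberg presentation of `SL₂` over a finite field `K`: generators `x(t)`, `y(t)` (`t ∈ K`; the two opposite root subgroups) subject to additivity `x(t)x(u) = x(t+u)`, `y(t)y(u) = y(t+u)` and, with `w(t) = x(t) y(−t⁻¹) x(t)` and `w'(t) = y(t) x(−t⁻¹) y(t)` for `t ≠ 0`, the relations `w(t) x(u) w(t)⁻¹ = y(−t⁻² u)` and `w'(t) y(u) w'(t)⁻¹ = x(−t⁻² u)`, present `SL₂(K)`, with `x(t) ↦ (1 t; 0 1)` and `y(t) ↦ (1 0; t 1)`. -/
theorem result {K : Type*} [Field K] [Finite K] :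
    ∃ e : PresentedGroup
        ({g : FreeGroup (Bool × K) | ∃ (b : Bool) (t u : K), g = FreeGroup.of (b, t) * FreeGroup.of (b, u) * (FreeGroup.of (b, t + u))⁻¹} ∪
          {g | ∃ (b : Bool) (t u : K), t ≠ 0 ∧
            g = (FreeGroup.of (b, t) * FreeGroup.of (!b, -t⁻¹) * FreeGroup.of (b, t)) * FreeGroup.of (b, u) *
                  (FreeGroup.of (b, t) * FreeGroup.of (!b, -t⁻¹) * FreeGroup.of (b, t))⁻¹ * (FreeGroup.of (!b, -(t⁻¹ ^ 2 * u)))⁻¹})
        ≃* Matrix.SpecialLinearGroup (Fin 2) K,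
      (∀ t : K, ((e (PresentedGroup.of (true, t)) : Matrix (Fin 2) (Fin 2) K)) = !![1, t; 0, 1]) ∧
      (∀ t : K, ((e (PresentedGroup.of (false, t)) : Matrix (Fin 2) (Fin 2) K)) = !![1, 0; t, 1]) := by
  exact main K

end Cfsg.Agent.S2426
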