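import Cfsg.Statements.S4155
import Cfsg.Agent.Lib.Fitting.Basic
import Cfsg.Agent.Lib.FrobCompl.Noncyclic
import Cfsg.Agent.Lib.ZStar.Recognize
import Cfsg.Agent.Lib.Char.PiPart
import Cfsg.Agent.Lib.Critical.Basic

set_option autoImplicit false
open Cfsg
set_option linter.style.haveILetI false

namespace Cfsg.Agent.S4155

open scoped commutatorElement

theorem no_commute {G : Type*} [Group G] [Finite G] (N : Subgroup G)
    (heq : ∀ x : G, x ∉ N → ∀ n ∈ N, orderOf (x * n) = orderOf x) {x n : G} (hx : x ∉ N) (hn : n ∈ N)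
    (hc : Commute x n) (hcop : (orderOf x).Coprime (orderOf n)) : n = 1 := by
  have h := heq x hx n hn
  rw [hc.orderOf_mul_eq_mul_orderOf_of_coprime hcop] at h
  exact orderOf_eq_one_iff.mp ((Nat.mul_eq_left (orderOf_pos x).ne').mp h)

theorem exists_central_prime_order {G : Type*} [Group G] [Finite G] (N : Subgroup G)
    (hnil : Group.IsNilpotent N) {s : ℕ} [Fact s.Prime] (hs : s ∣ Nat.card N) :
    ∃ v : N, v ∈ Subgroup.center N ∧ orderOf v = s := by
  haveI := hnil
  obtain ⟨S⟩ : Nonempty (Sylow s N) := inferInstance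
  have hne : (S : Subgroup N) ≠ ⊥ := fun e => by
    have := S.pow_dvd_card_of_pow_dvd_card (n := 1) (by rwa [pow_one])
    rw [e, Subgroup.card_bot, pow_one] at this
    exact (Fact.out : s.Prime).not_dvd_one this
  have h := CfsgLib.Critical.inf_center_ne_bot (S : Subgroup N) hne
  haveI := (Subgroup.nontrivial_iff_ne_bot _).mpr h
  obtain ⟨j, hj⟩ := IsPGroup.iff_card.mp (S.2.to_le (inf_le_left : (S : Subgroup N) ⊓ Subgroup.center N ≤ S))
  obtain ⟨v, hv⟩ := exists_prime_orderOf_dvd_card' s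
    (show s ∣ Nat.card ↥((S : Subgroup N) ⊓ Subgroup.center N) by
      rcases Nat.eq_zero_or_pos j with hj0 | hj0
      · rw [hj0, pow_zero] at hj
        have := Finite.one_lt_card (α := ↥((S : Subgroup N) ⊓ Subgroup.center N))
        omega
      · rw [hj]; exact dvd_pow_self s (by omega))
  exact ⟨v, v.2.2, by rw [Subgroup.orderOf_coe, hv]⟩

/-- Let G be a finite group and N a proper non-trivial normal nilpotent subgroup whose order is not a prime power, such that for every x outside N all elements of the coset xN have the same order as x. Then N is the Fitting subgroup of G, and for every prime q every Sylow q-subgroup of G/N is cyclic or generalized quaternion. -/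
theorem result {G : Type*} [Group G] [Finite G] (N : Subgroup G) [N.Normal] (hN1 : N ≠ ⊥) (hN2 : N ≠ ⊤)
    (heq : ∀ x : G, x ∉ N → ∀ n ∈ N, orderOf (x * n) = orderOf x)
    (hnil : Group.IsNilpotent N) (hnpp : ¬ IsPrimePow (Nat.card N)) :
    N = Cfsg.fittingSubgroup G ∧
    ∀ (q : ℕ) [Fact q.Prime] (Q : Sylow q (G ⧸ N)), IsCyclic (Q : Subgroup (G ⧸ N)) ∨ ∃ n : ℕ, Nonempty ((Q : Subgroup (G ⧸ N)) ≃* QuaternionGroup (2 ^ n)) := by
  classical
  have hother : ∀ q : ℕ, q.Prime → ∃ s : ℕ, s.Prime ∧ s ≠ q ∧ s ∣ Nat.card N := by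
    intro q hq
    by_contra hno
    push Not at hno
    have h1 : Nat.card N ≠ 1 := fun h => hN1 (Subgroup.eq_bot_of_card_eq N h)
    obtain ⟨s, hs, hsd⟩ := Nat.exists_prime_and_dvd h1
    refine hnpp (isPrimePow_iff_unique_prime_dvd.mpr ⟨s, ⟨hs, hsd⟩, fun t ht => ?_⟩)
    have e1 : t = q := by_contra fun h => hno t ht.1 h ht.2
    have e2 : s = q := by_contra fun h => hno s hs h hsd
    rw [e1, e2]
  refine ⟨le_antisymm (CfsgLib.Fitting.le_fittingSubgroup inferInstance hnil) fun x hxF => ?_, fun q _ Q => ?_⟩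
  · by_contra hxN
    have hm : orderOf (QuotientGroup.mk' N x) ≠ 1 := fun h => hxN ((QuotientGroup.eq_one_iff x).mp (orderOf_eq_one_iff.mp h))
    obtain ⟨q, hq, hqd⟩ := Nat.exists_prime_and_dvd hm
    haveI := Fact.mk hq
    have hq' : q ∣ orderOf x := hqd.trans (orderOf_map_dvd _ x)
    set y := x ^ (orderOf x / q ^ (orderOf x).factorization q) with hy
    have hyo : orderOf y = q ^ (orderOf x).factorization q :=
      orderOf_pow_orderOf_div (orderOf_pos x).ne' (Nat.ordProj_dvd _ q)
    have hyN : y ∉ N := fun h => by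
      have h2 : orderOf (QuotientGroup.mk' N x) ∣ orderOf x / q ^ (orderOf x).factorization q :=
        orderOf_dvd_of_pow_eq_one (by rw [← map_pow]; exact (QuotientGroup.eq_one_iff _).mpr h)
      exact Nat.not_dvd_ordCompl hq (orderOf_pos x).ne' (hqd.trans h2)
    obtain ⟨s, hs, hsq, hsN⟩ := hother q hq
    haveI := Fact.mk hs
    obtain ⟨v, hv⟩ := exists_prime_orderOf_dvd_card' s hsN
    haveI := CfsgLib.Fitting.fittingSubgroup_isNilpotent (G := G)
    have hcop : (orderOf y).Coprime (orderOf (v : G)) := by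
      rw [hyo, Subgroup.orderOf_coe, hv]
      exact ((Nat.coprime_primes hq hs).mpr (Ne.symm hsq)).pow_left _
    have hvF : (v : G) ∈ Cfsg.fittingSubgroup G := CfsgLib.Fitting.le_fittingSubgroup inferInstance hnil v.2
    have hc : Commute y (v : G) := congrArg Subtype.val
      (CfsgLib.Char.PiPart.commute_of_coprime (G := Cfsg.fittingSubgroup G) (x := ⟨y, pow_mem hxF _⟩) (y := ⟨v, hvF⟩)
        (by rw [Subgroup.orderOf_mk, Subgroup.orderOf_mk]; exact hcop) : Commute _ _).eq
    have := no_commute N heq hyN v.2 hc hcop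
    rw [← Subgroup.orderOf_coe, this, orderOf_one] at hv
    exact hs.one_lt.ne hv
  · have hq : q.Prime := Fact.out
    obtain ⟨s, hs, hsq, hsN⟩ := hother q hq
    haveI := Fact.mk hs
    haveI := hnil
    obtain ⟨SM⟩ : Nonempty (Sylow q N) := inferInstance
    haveI : (SM : Subgroup N).Characteristic := Sylow.characteristic_of_normal SM inferInstance
    set M := (SM : Subgroup N).map N.subtype with hM
    haveI : M.Normal := ConjAct.normal_of_characteristic_of_normal
    have hMp : IsPGroup q M := SM.2.map _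
    have hMmem : ∀ n ∈ N, (∃ j : ℕ, n ^ q ^ j = 1) → n ∈ M := by
      intro n hn ⟨j, hj⟩
      obtain ⟨S', hS'⟩ := (IsPGroup.iff_card.mpr (by
        obtain ⟨i, -, hi⟩ := (Nat.dvd_prime_pow hq).mp (orderOf_dvd_of_pow_eq_one
          (show (⟨n, hn⟩ : N) ^ q ^ j = 1 from Subtype.ext hj))
        exact ⟨i, (Nat.card_zpowers _).trans hi⟩) : IsPGroup q (Subgroup.zpowers (⟨n, hn⟩ : N))).exists_le_sylow
      haveI := Sylow.unique_of_normal SM inferInstance
      rw [Subsingleton.elim S' SM] at hS'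
      exact ⟨⟨n, hn⟩, hS' (Subgroup.mem_zpowers _), rfl⟩
    set Qh := (Q : Subgroup (G ⧸ N)).comap (QuotientGroup.mk' N) with hQh
    let f : Qh →* (Q : Subgroup (G ⧸ N)) := ((QuotientGroup.mk' N).comp Qh.subtype).codRestrict _ fun x => x.2
    have hf : Function.Surjective f := fun y => by
      obtain ⟨x, hx⟩ := QuotientGroup.mk'_surjective N (y : G ⧸ N)
      exact ⟨⟨x, by rw [hQh, Subgroup.mem_comap, hx]; exact y.2⟩, Subtype.ext hx⟩
    obtain ⟨P⟩ : Nonempty (Sylow q Qh) := inferInstance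
    let g : (P : Subgroup Qh) →* (Q : Subgroup (G ⧸ N)) := f.comp (P : Subgroup Qh).subtype
    have hg : Function.Surjective g := fun y => by
      have htop : ((P.mapSurjective hf : Sylow q (Q : Subgroup (G ⧸ N))) : Subgroup (Q : Subgroup (G ⧸ N))) = ⊤ := by
        obtain ⟨j, hj⟩ := IsPGroup.iff_card.mp Q.2
        refine Subgroup.eq_top_of_card_eq _ ?_
        rw [Sylow.card_eq_multiplicity, hj, hq.factorization_pow, Finsupp.single_eq_same]
      have h1 : y ∈ (P : Subgroup Qh).map f := by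
        rw [← Sylow.coe_mapSurjective hf P, htop]; exact Subgroup.mem_top _
      obtain ⟨x, hx, hxy⟩ := h1
      exact ⟨⟨x, hx⟩, hxy⟩
    let h : (P : Subgroup Qh) →* G ⧸ M := (QuotientGroup.mk' M).comp (Qh.subtype.comp (P : Subgroup Qh).subtype)
    have hker : g.ker = h.ker := by
      ext x
      rw [MonoidHom.mem_ker, MonoidHom.mem_ker]
      constructor
      · intro e
        have hxN : ((x : Qh) : G) ∈ N := (QuotientGroup.eq_one_iff _).mp (congrArg Subtype.val e :)
        obtain ⟨j, hj⟩ := P.2 x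
        exact (QuotientGroup.eq_one_iff _).mpr (hMmem _ hxN ⟨j, congrArg (fun z : (P : Subgroup Qh) => ((z : Qh) : G)) hj⟩)
      · intro e
        exact Subtype.ext ((QuotientGroup.eq_one_iff _).mpr
          (Subgroup.map_subtype_le _ ((QuotientGroup.eq_one_iff _).mp e : ((x : Qh) : G) ∈ M)))
    let e : h.range ≃* (Q : Subgroup (G ⧸ N)) := (QuotientGroup.quotientKerEquivRange h).symm.trans
      ((QuotientGroup.quotientMulEquivOfEq hker.symm).trans (QuotientGroup.quotientKerEquivOfSurjective g hg))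
    -- the module
    let V0 : Subgroup G :=
      { carrier := {x | x ∈ N ∧ (∀ n ∈ N, x * n = n * x) ∧ x ^ s = 1}
        one_mem' := ⟨N.one_mem, by simp, one_pow _⟩
        mul_mem' := fun {a b} ha hb => ⟨N.mul_mem ha.1 hb.1,
          fun n hn => by rw [mul_assoc, hb.2.1 n hn, ← mul_assoc, ha.2.1 n hn, mul_assoc],
          by rw [Commute.mul_pow (ha.2.1 b hb.1), ha.2.2, hb.2.2, one_mul]⟩
        inv_mem' := fun {a} ha => ⟨N.inv_mem ha.1,
          fun n hn => ((Commute.inv_left (ha.2.1 n hn))).eq, by rw [inv_pow, ha.2.2, inv_one]⟩ }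
    haveI : V0.Normal := ⟨fun x hx c => ⟨(inferInstance : N.Normal).conj_mem x hx.1 c, fun n hn => by
      have h0 := hx.2.1 (c⁻¹ * n * c) (by simpa using (inferInstance : N.Normal).conj_mem n hn c⁻¹)
      calc c * x * c⁻¹ * n = c * (x * (c⁻¹ * n * c)) * c⁻¹ := by simp [mul_assoc]
        _ = c * (c⁻¹ * n * c * x) * c⁻¹ := by rw [h0]
        _ = n * (c * x * c⁻¹) := by simp [mul_assoc],
      by rw [conj_pow, hx.2.2, mul_one, mul_inv_cancel]⟩⟩
    set V := V0.map (QuotientGroup.mk' M) with hV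
    haveI : V.Normal := Subgroup.Normal.map inferInstance _ (QuotientGroup.mk'_surjective M)
    haveI : IsMulCommutative V := ⟨⟨fun ⟨a, ha⟩ ⟨b, hb⟩ => by
      obtain ⟨a, ha, rfl⟩ := ha
      obtain ⟨b, hb, rfl⟩ := hb
      exact Subtype.ext (by show _ * _ = _ * _; rw [← map_mul, ← map_mul, ha.2.1 b hb.1])⟩⟩
    have hinj : ∀ x : G, x ∈ M → x ^ s = 1 → x = 1 := fun x hx hxs => by
      obtain ⟨j, hj⟩ := hMp ⟨x, hx⟩
      exact orderOf_eq_one_iff.mp (Nat.eq_one_of_dvd_coprimes
        (((Nat.coprime_primes hq hs).mpr (Ne.symm hsq)).pow_left j)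
        (orderOf_dvd_of_pow_eq_one (congrArg Subtype.val hj)) (orderOf_dvd_of_pow_eq_one hxs))
    have hVne : V ≠ ⊥ := by
      obtain ⟨v, hvc, hvo⟩ := exists_central_prime_order N hnil hsN
      intro e0
      have hv0 : (v : G) ∈ V0 := ⟨v.2, fun n hn => (congrArg Subtype.val (Subgroup.mem_center_iff.mp hvc ⟨n, hn⟩)).symm,
        by rw [← Subgroup.coe_pow, ← hvo, pow_orderOf_eq_one, Subgroup.coe_one]⟩
      have h1 : QuotientGroup.mk' M (v : G) ∈ V := ⟨_, hv0, rfl⟩
      rw [e0, Subgroup.mem_bot] at h1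
      have := hinj _ ((QuotientGroup.eq_one_iff _).mp h1) hv0.2.2
      rw [← Subgroup.orderOf_coe, this, orderOf_one] at hvo
      exact hs.one_lt.ne hvo
    have hfpf : ∀ a ∈ h.range, a ≠ 1 → V ⊓ Subgroup.centralizer {a} = ⊥ := by
      rintro _ ⟨x, rfl⟩ hx1
      rw [eq_bot_iff]
      rintro _ ⟨⟨v, hv, rfl⟩, hc⟩
      rw [Subgroup.mem_bot]
      obtain ⟨j, hj⟩ := P.2 x
      have hxN : ((x : Qh) : G) ∉ N := fun hn => hx1 ((QuotientGroup.eq_one_iff _).mpr
        (hMmem _ hn ⟨j, congrArg (fun z : (P : Subgroup Qh) => ((z : Qh) : G)) hj⟩))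
      have hcomm : ⁅((x : Qh) : G), v⁆ ∈ M := by
        rw [← QuotientGroup.eq_one_iff]
        show QuotientGroup.mk' M _ = 1
        rw [map_commutatorElement, commutatorElement_eq_one_iff_mul_comm]
        exact (Subgroup.mem_centralizer_singleton_iff.mp hc).symm
      have hV0mem : ⁅((x : Qh) : G), v⁆ ∈ V0 := by
        rw [commutatorElement_def]
        exact V0.mul_mem ((inferInstance : V0.Normal).conj_mem v hv _) (V0.inv_mem hv)
      have hc' : Commute ((x : Qh) : G) v :=
        commutatorElement_eq_one_iff_mul_comm.mp (hinj _ hcomm hV0mem.2.2)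
      have hv1 : v = 1 := no_commute N heq hxN hv.1 hc'
        ((((Nat.coprime_primes hq hs).mpr (Ne.symm hsq)).pow_left j).coprime_dvd_left
          (orderOf_dvd_of_pow_eq_one (congrArg (fun z : (P : Subgroup Qh) => ((z : Qh) : G)) hj))
          |>.coprime_dvd_right (orderOf_dvd_of_pow_eq_one hv.2.2))
      rw [hv1, map_one]
    have hRp : IsPGroup q h.range := Q.2.of_equiv e.symm
    have hstr := CfsgLib.FrobCompl.sylow_structure hVne
      (show h.range ≤ Subgroup.normalizer (V : Set (G ⧸ M)) by rw [Subgroup.normalizer_eq_top]; exact le_top)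
      hfpf hRp le_rfl
    by_cases hq2 : q = 2
    · subst hq2
      rcases CfsgLib.ZStar.cyclic_or_quaternion hRp (hstr.2 rfl) with hc | ⟨n, ⟨e'⟩⟩
      · haveI := hc
        exact Or.inl (isCyclic_of_surjective e e.surjective)
      · exact Or.inr ⟨n, ⟨e.symm.trans e'⟩⟩
    · haveI := hstr.1 hq2
      exact Or.inl (isCyclic_of_surjective e e.surjective)

end Cfsg.Agent.S4155
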