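import Cfsg.Statements.S0040
import Cfsg.Agent.Lib.FrobCompl.Center

set_option autoImplicit false
set_option linter.style.haveILetI false
open Cfsg

namespace Cfsg.Agent.S0040

/-- Sylow subgroups of Frobenius complements: if H complements a nontrivial normal subgroup K and every nonidentity element of H has trivial centraliser in K, then each Sylow subgroup of H is cyclic or isomorphic to a generalized quaternion group. -/
theorem result {G : Type*} [Group G] [Finite G] (K H : Subgroup G) [K.Normal]
    (hc : Subgroup.IsComplement' K H) (hK : K ≠ ⊥) (hfpf : ∀ h ∈ H, h ≠ 1 → K ⊓ Subgroup.centralizer {h} = ⊥)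
    (p : ℕ) [Fact p.Prime] (P : Sylow p H) :
    IsCyclic P ∨ ∃ n : ℕ, Nonempty (P ≃* QuaternionGroup (2 ^ n)) := by
  rcases eq_or_ne H ⊥ with rfl | hH
  · exact Or.inl (isCyclic_of_subsingleton)
  obtain ⟨V, hVc, hV, hHV, hfV⟩ := CfsgLib.FrobCompl.exists_abelian_module hc hK hH hfpf
  haveI := hVc
  have hs := CfsgLib.FrobCompl.sylow_structure hV hHV hfV (P.2.map H.subtype) (Subgroup.map_subtype_le _)
  let e := (P : Subgroup H).equivMapOfInjective H.subtype H.subtype_injective
  rcases eq_or_ne p 2 with rfl | hp
  · refine CfsgLib.ZStar.cyclic_or_quaternion P.2 fun x y hx hy => e.injective ?_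
    exact hs.2 rfl _ _ (by rw [MulEquiv.orderOf_eq, hx]) (by rw [MulEquiv.orderOf_eq, hy])
  · haveI := hs.1 hp
    exact Or.inl (isCyclic_of_surjective e.symm e.symm.surjective)

end Cfsg.Agent.S0040
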