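import Cfsg.Statements.S0041
import Cfsg.Agent.Lib.FrobCompl.Noncyclic

set_option autoImplicit false
set_option linter.style.haveILetI false
open Cfsg

namespace Cfsg.Agent.S0041

theorem pq_case {G : Type*} [Group G] [Finite G] (A V : Subgroup G) [IsMulCommutative V]
    (hV : V ≠ ⊥) (hAV : A ≤ Subgroup.normalizer (V : Set G))
    (hfpf : ∀ a ∈ A, a ≠ 1 → V ⊓ Subgroup.centralizer {a} = ⊥) {p q : ℕ} (hp : p.Prime)
    (hq : q.Prime) (hlt : p < q) (hA : Nat.card A = p * q) : IsCyclic A := by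
  haveI : Fact p.Prime := ⟨hp⟩
  haveI : Fact q.Prime := ⟨hq⟩
  obtain ⟨x, hx⟩ := exists_prime_orderOf_dvd_card' (G := A) p (hA ▸ dvd_mul_right p q)
  obtain ⟨y, hy⟩ := exists_prime_orderOf_dvd_card' (G := A) q (hA ▸ dvd_mul_left q p)
  have hidx : (Subgroup.zpowers y).index = p := by
    have h := (Subgroup.zpowers y).index_mul_card
    rw [Nat.card_zpowers, hy, hA] at h
    exact Nat.eq_of_mul_eq_mul_right hq.pos h
  have hmin : (Nat.card A).minFac = p := by
    rw [hA]
    refine le_antisymm (Nat.minFac_le_of_dvd hp.two_le (dvd_mul_right p q)) ?_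
    have h1 := Nat.minFac_prime (n := p * q) (by
      intro h; exact hp.ne_one (Nat.eq_one_of_mul_eq_one_right h))
    rcases (h1.dvd_mul).mp (Nat.minFac_dvd (p * q)) with h | h
    · exact ((Nat.prime_dvd_prime_iff_eq h1 hp).mp h).ge
    · rw [(Nat.prime_dvd_prime_iff_eq h1 hq).mp h]; exact hlt.le
  haveI hN : (Subgroup.zpowers y).Normal := Subgroup.normal_of_index_eq_minFac_card (hidx.trans hmin.symm)
  have hc : Commute x y := by
    apply Subtype.ext
    refine (CfsgLib.FrobCompl.mem_zpowers_or_commute hp hq hV hAV hfpf x.2 y.2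
      (by rw [Subgroup.orderOf_coe, hx]) (by rw [Subgroup.orderOf_coe, hy]) ?_).2
    have hmap : (Subgroup.zpowers y).map A.subtype = Subgroup.zpowers (y : G) := MonoidHom.map_zpowers _ _
    have key : ∀ u : A, ∀ c ∈ Subgroup.zpowers (y : G), (u : G) * c * (u : G)⁻¹ ∈ Subgroup.zpowers (y : G) := by
      intro u c hc
      rw [← hmap] at hc ⊢
      obtain ⟨d, hd, rfl⟩ := hc
      exact ⟨u * d * u⁻¹, hN.conj_mem d hd u, rfl⟩
    rw [Subgroup.mem_normalizer_iff]
    refine fun c => ⟨key x c, fun h => ?_⟩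
    have h2 := key x⁻¹ _ h
    simpa [mul_assoc] using h2
  refine isCyclic_of_orderOf_eq_card (x * y) ?_
  rw [hc.orderOf_mul_eq_mul_orderOf_of_coprime
    (by rw [hx, hy]; exact (Nat.coprime_primes hp hq).mpr hlt.ne), hx, hy, hA]

/-- A group acting on a nontrivial abelian group so that no nonidentity element has a nonidentity fixed point is cyclic, provided it is abelian or its order is a product of two (possibly equal) primes. -/
theorem result {G : Type*} [Group G] [Finite G] (A V : Subgroup G) [IsMulCommutative V]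
    (hV : V ≠ ⊥) (hAV : A ≤ Subgroup.normalizer (V : Set G)) (hfpf : ∀ a ∈ A, a ≠ 1 → V ⊓ Subgroup.centralizer {a} = ⊥)
    (hA : IsMulCommutative A ∨ ∃ p q : ℕ, p.Prime ∧ q.Prime ∧ Nat.card A = p * q) : IsCyclic A := by
  rcases hA with hA | ⟨p, q, hp, hq, hA⟩
  · haveI := hA
    exact CfsgLib.FrobCompl.isCyclic_of_comm hV hAV hfpf
  rcases lt_trichotomy p q with h | h | h
  · exact pq_case A V hV hAV hfpf hp hq h hA
  · subst h
    haveI : Fact p.Prime := ⟨hp⟩
    haveI : IsMulCommutative A := IsPGroup.isMulCommutative_of_card_eq_prime_sq (p := p) (by rw [hA, pow_two])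
    exact CfsgLib.FrobCompl.isCyclic_of_comm hV hAV hfpf
  · exact pq_case A V hV hAV hfpf hq hp h (hA.trans (mul_comm p q))

end Cfsg.Agent.S0041
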