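import Cfsg.Statements.S0813
import Cfsg.Agent.Lib.AutPSL.Out
import Cfsg.Agent.Lib.AutPSL.Predicates

set_option autoImplicit false
open Cfsg

namespace Cfsg.Agent.S0813

/-- |Aut(PSL_n(q))|, q = p^f: for n ≥ 3 it is 2 f |PGL_n(q)|, and for n = 2 (q ≥ 4) it is f |PGL_2(q)|. -/
theorem result {F : Type*} [Field F] [Fintype F] (p f : ℕ) [Fact p.Prime] (hf : 1 ≤ f) (hF : Fintype.card F = p ^ f) (n : ℕ) (hn : 2 ≤ n) (h2 : n = 2 → 4 ≤ p ^ f) : Nat.card (MulAut (Matrix.ProjectiveSpecialLinearGroup (Fin n) F)) = (if n = 2 then 1 else 2) * f * Nat.card (Matrix.ProjGenLinGroup (Fin n) F) := by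
  have := CfsgLib.AutPSL.charP_of_card (F := F) hF
  obtain ⟨-, hA⟩ := CfsgLib.AutPSL.card_ringAut_isCyclic hF hf
  have hP := CfsgLib.AutPSL.card_range_delta (F := F) p hn
  by_cases h : n = 2
  · subst h
    rw [if_pos rfl, one_mul, Subgroup.card_eq_card_quotient_mul_card_subgroup
      (CfsgLib.AutPSL.componentTwo (F := F) p).ker, Nat.card_congr
      (QuotientGroup.quotientKerEquivOfSurjective _
        (CfsgLib.AutPSL.componentTwo_surjective (F := F) p)).toEquiv,
      CfsgLib.AutPSL.ker_componentTwo, hP, hA]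
  · have h3 : 3 ≤ n := by omega
    rw [if_neg h, Subgroup.card_eq_card_quotient_mul_card_subgroup
      (CfsgLib.AutPSL.component (F := F) p h3).ker, Nat.card_congr
      (QuotientGroup.quotientKerEquivOfSurjective _
        (CfsgLib.AutPSL.component_surjective (F := F) p h3)).toEquiv,
      CfsgLib.AutPSL.ker_component, hP, Nat.card_prod, hA, Nat.card_congr Multiplicative.toAdd,
      Nat.card_zmod, mul_comm f 2]

end Cfsg.Agent.S0813
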