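import Cfsg.Statements.S3189
import Cfsg.Agent.Lib.EightSylow.Chars

set_option autoImplicit false
open Cfsg

namespace Cfsg.Agent.S3189

/-- Let G be a non-abelian finite simple group whose Sylow 2-subgroup S is elementary abelian of order 8, and suppose the centralizer of every involution of G is solvable. Then the normalizer of S modulo the centralizer of S has order 7. -/
theorem result {G : Type*} [Group G] [Finite G]
    [IsSimpleGroup G] (hG : ¬ IsMulCommutative G) (S : Sylow 2 G)
    (hS : Cfsg.IsElementaryAbelian 2 (S : Subgroup G)) (hS8 : Nat.card ↥(S : Subgroup G) = 8)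
    (hC : ∀ t : G, orderOf t = 2 → Group.IsSolvable ↥(Subgroup.centralizer ({t} : Set G))) :
    (Subgroup.centralizer ((S : Subgroup G) : Set G)).relIndex (Subgroup.normalizer ((S : Subgroup G) : Set G)) = 7 := by
  open CfsgLib.EightSylow in
  rcases automizer_cases hG S hS hS8 with h | ⟨h21, htrans⟩
  · exact (card_act_range S).symm.trans h
  · exfalso
    haveI : Nontrivial ↥(S : Subgroup G) := Finite.one_lt_card_iff_nontrivial.mp (by rw [hS8]; norm_num)
    obtain ⟨t, ht1⟩ := exists_ne (1 : ↥(S : Subgroup G))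
    have ht1' : (t : G) ≠ 1 := fun e => ht1 (Subtype.ext e)
    have hto : orderOf (t : G) = 2 := orderOf_eq_prime (hS.2 t.1 t.2) ht1'
    have hsol := hC (t : G) hto
    obtain ⟨sec⟩ := exists_section S hS.1 hS8 h21 htrans t.2 ht1' hsol
    refine absurd_of_section hG S hS8 ht1' ?_ hsol (fun u hu hu1 => ?_) sec
    · rw [← sq]; exact hS.2 t.1 t.2
    · obtain ⟨g, -, hg⟩ := htrans t.1 t.2 u hu ht1' hu1
      exact isConj_iff.mpr ⟨g, hg⟩

end Cfsg.Agent.S3189
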