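import Cfsg.Statements.S2999
import Cfsg.Agent.Lib.SL2Module.Offender
import Cfsg.Agent.Lib.Offender.Timmesfeld
import Cfsg.Agent.Lib.Quadratic.Groups

set_option autoImplicit false
open Cfsg

namespace Cfsg.Agent.S2999

open CfsgLib CfsgLib.Quadratic CfsgLib.SL2Module.Offender
open scoped IsMulCommutative commutatorElement MatrixGroups

theorem mem_fixS_iff {G : Type*} [Group G] [Finite G] (V P : Subgroup G) [IsMulCommutative V]
    (hPV : P ≤ Subgroup.normalizer (V : Set G)) (B : Subgroup P) (v : Additive V) :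
    v ∈ fixS (act V P hPV) B ↔ ((v.toMul : V) : G) ∈ Subgroup.centralizer ((B.map P.subtype : Subgroup G) : Set G) := by
  rw [mem_fixS, Subgroup.mem_centralizer_iff]
  constructor
  · rintro h _ ⟨g, hg, rfl⟩
    exact mul_inv_eq_iff_eq_mul.1 (congrArg (fun v : Additive V => ((v.toMul : V) : G)) (h g hg))
  · intro h g hg
    apply Additive.toMul.injective
    apply Subtype.ext
    rw [act_apply, mul_inv_eq_iff_eq_mul]
    exact h _ ⟨g, hg, rfl⟩

theorem card_fixS {G : Type*} [Group G] [Finite G] (V P : Subgroup G) [IsMulCommutative V]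
    (hPV : P ≤ Subgroup.normalizer (V : Set G)) (B : Subgroup P) :
    Nat.card (fixS (act V P hPV) B) =
      Nat.card ↥(V ⊓ Subgroup.centralizer ((B.map P.subtype : Subgroup G) : Set G)) :=
  Nat.card_congr
    { toFun := fun v => ⟨((v.1.toMul : V) : G), Subgroup.mem_inf.2
        ⟨(v.1.toMul : V).2, (mem_fixS_iff V P hPV B v.1).1 v.2⟩⟩
      invFun := fun v => ⟨Additive.ofMul (⟨v.1, (Subgroup.mem_inf.1 v.2).1⟩ : V),
        (mem_fixS_iff V P hPV B _).2 (Subgroup.mem_inf.1 v.2).2⟩
      left_inv := fun v => rfl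
      right_inv := fun v => rfl }

/-- Let p be a prime and let P and V be subgroups of a finite group with V elementary abelian, P normalizing V and acting faithfully on it (P ∩ C(V) = 1). Suppose P is p-minimal (a Sylow p-subgroup T of P is not normal and lies in a unique maximal subgroup M of P) and A ≤ T is an elementary abelian subgroup such that: |V/C_V(A)| ≤ |A| while |A₀|·|C_V(A₀)| < |A|·|C_V(A)| for every nontrivial proper subgroup A₀ of A; [C_V(T), P] ≠ 1; and P = ⟨A, xAx⁻¹⟩ for every x ∈ P outside M. Then, with q = |A|, there is a field F with q elements such that P ≅ SL₂(F), C_V(A) = [V, A]·C_V(P), and P acts on V/C_V(P) as SL₂(F) on its natural two-dimensional module. -/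
theorem result {G : Type*} [Group G] [Finite G] {p : ℕ} [Fact p.Prime] (V P : Subgroup G) (hV : Cfsg.IsElementaryAbelian p V) (hPV : P ≤ Subgroup.normalizer (V : Set G)) (hfaith : P ⊓ Subgroup.centralizer (V : Set G) = ⊥) (hmin : Cfsg.IsPMinimal p ↥P) (T : Sylow p ↥P) (M : Subgroup ↥P) (hM : IsCoatom M) (hTM : (T : Subgroup ↥P) ≤ M) (A : Subgroup G) (hAT : A ≤ ((T : Subgroup ↥P).map P.subtype)) (hAel : Cfsg.IsElementaryAbelian p A) (hi : Nat.card ↥V ≤ Nat.card ↥A * Nat.card ↥(V ⊓ Subgroup.centralizer ((A : Subgroup G) : Set G)) ∧ ∀ A₀ : Subgroup G, A₀ ≤ A → A₀ ≠ ⊥ → A₀ ≠ A → Nat.card ↥A₀ * Nat.card ↥(V ⊓ Subgroup.centralizer ((A₀ : Subgroup G) : Set G)) < Nat.card ↥A * Nat.card ↥(V ⊓ Subgroup.centralizer ((A : Subgroup G) : Set G))) (hii : ⁅(V ⊓ Subgroup.centralizer ((((T : Subgroup ↥P).map P.subtype) : Subgroup G) : Set G)), P⁆ ≠ ⊥) (hiii : ∀ x : ↥P, x ∉ M → A ⊔ A.map (MulAut.conj (x : G)).toMonoidHom = P) : ∃ (F : Type) (_ : Field F) (_ : Fintype F), Fintype.card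 F = Nat.card ↥A ∧ Nonempty (↥P ≃* Matrix.SpecialLinearGroup (Fin 2) F) ∧ (V ⊓ Subgroup.centralizer ((A : Subgroup G) : Set G)) = ⁅V, A⁆ ⊔ (V ⊓ Subgroup.centralizer ((P : Subgroup G) : Set G)) ∧ Cfsg.ActsAsSL2OnSection F ⊤ P V (V ⊓ Subgroup.centralizer ((P : Subgroup G) : Set G)) := by
  haveI := hV.1
  haveI hAc := hAel.1
  set φ := act V P hPV with hφdef
  have hAP : A ≤ P := hAT.trans (Subgroup.map_subtype_le _)
  set A' := A.subgroupOf P with hA'def
  have hA'map : A'.map P.subtype = A := Subgroup.map_subgroupOf_eq_of_le hAP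
  have htop : (⊤ : Subgroup P).map P.subtype = P := by
    rw [← MonoidHom.range_eq_map, Subgroup.range_subtype]
  have hcardA : Nat.card A' = Nat.card A := by
    conv_rhs => rw [← hA'map]
    exact (Subgroup.card_map_of_injective P.subtype_injective).symm
  have hA'T : A' ≤ (T : Subgroup P) := fun a ha => by
    obtain ⟨t, ht, e⟩ := hAT (Subgroup.mem_subgroupOf.1 ha)
    rwa [← P.subtype_injective e]
  obtain ⟨hi1, hi2⟩ := hi
  have hVc : ∀ x ∈ V, ∀ y ∈ V, Commute x y := fun x hx y hy =>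
    congrArg Subtype.val (mul_comm (⟨x, hx⟩ : V) ⟨y, hy⟩)
  have hab : ∀ x ∈ A, ∀ y ∈ A, Commute x y := fun x hx y hy =>
    congrArg Subtype.val (mul_comm (⟨x, hx⟩ : A) ⟨y, hy⟩)
  have hab' : ⁅A, A⁆ ≤ Subgroup.centralizer (V : Set G) := Subgroup.commutator_le.2 fun x hx y hy => by
    rw [commutatorElement_eq_one_iff_commute.2 (hab x hx y hy)]
    exact one_mem _
  have hx : ∃ x : P, x ∉ M := by
    by_contra h
    push Not at h
    exact hM.1 (eq_top_iff.2 fun g _ => h g)
  have hAne : A ≠ ⊥ := by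
    intro h
    obtain ⟨x, hx'⟩ := hx
    have h2 := hiii x hx'
    rw [h, Subgroup.map_bot, bot_sup_eq] at h2
    apply hx'
    have h3 : ((x : P) : G) ∈ (⊥ : Subgroup G) := h2.ge x.2
    rw [Subgroup.mem_bot, OneMemClass.coe_eq_one] at h3
    rw [h3]
    exact one_mem M
  have hmax : ∀ B ≤ A, CfsgLib.Offender.Timmesfeld.meas V B ≤ CfsgLib.Offender.Timmesfeld.meas V A := by
    intro B hB
    by_cases hb : B = ⊥
    · subst hb
      unfold CfsgLib.Offender.Timmesfeld.meas CfsgLib.Offender.Timmesfeld.fix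
      rw [Subgroup.card_bot, one_mul]
      exact (Subgroup.card_le_of_le inf_le_left).trans hi1
    · by_cases hb' : B = A
      · rw [hb']
      · exact (hi2 B hB hb hb').le
  have hAV : A ≤ Subgroup.normalizer (V : Set G) := hAP.trans hPV
  have hVA : ⁅V, A⁆ ≠ ⊥ := by
    intro h
    apply hAne
    rw [eq_bot_iff, ← hfaith]
    refine le_inf hAP ?_
    rw [Subgroup.commutator_eq_bot_iff_le_centralizer, Subgroup.le_centralizer_iff] at h
    exact h
  have hq : A ≤ Subgroup.centralizer ((⁅V, A⁆ : Subgroup G) : Set G) := by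
    obtain ⟨hm, -⟩ := CfsgLib.Offender.Timmesfeld.replacement hVc hAV hab' hmax (le_refl V)
    have hne := CfsgLib.Offender.Timmesfeld.commutator_ne_bot hVc hAV hab' (p := p)
      (V := V) (A := A) (fun v => ⟨1, by rw [pow_one]; exact Subtype.ext (hV.2 _ v.2)⟩)
      (fun a ha => by rw [hAel.2 a ha]; exact one_mem _) hmax (le_refl V) hVA
    set B := A ⊓ Subgroup.centralizer ((⁅V, A⁆ : Subgroup G) : Set G) with hB
    have hB0 : B ≠ ⊥ := fun h => hne (by rw [h, Subgroup.commutator_bot_right])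
    by_contra hcon
    have hBA : B ≠ A := fun h => hcon (h.ge.trans inf_le_right)
    exact absurd hm (hi2 B inf_le_left hB0 hBA).ne
  have hVAV : ⁅V, A⁆ ≤ V := Subgroup.commutator_le.mpr fun v hv a ha => by
    rw [commutatorElement_def, mul_assoc v a, mul_assoc]
    exact mul_mem hv ((Subgroup.mem_normalizer_iff.mp (hAV ha) _).mp (inv_mem hv))
  have hcom : ∀ (a : P), a ∈ A' → ∀ v : Additive V,
      (((φ a v - v).toMul : V) : G) ∈ ⁅V, A⁆ := fun a ha v => by
    rw [Subgroup.commutator_comm]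
    have h1 : (((φ a v - v).toMul : V) : G) = ⁅(a : G), ((v.toMul : V) : G)⁆ := by
      rw [toMul_sub, Subgroup.coe_div, hφdef, act_apply, commutatorElement_def, div_eq_mul_inv]
    rw [h1]
    exact Subgroup.commutator_mem_commutator ha (v.toMul : V).2
  obtain ⟨hTn, M', -, huniq⟩ := hmin T
  have hkey : ∀ X : Subgroup ↥P, (T : Subgroup ↥P) ≤ X → X ≠ ⊤ → X ≤ M := by
    intro X hSX hX
    obtain ⟨C, hC, hXC⟩ := (eq_top_or_exists_le_coatom X).resolve_left hX
    rw [huniq M ⟨hM, hTM⟩, ← huniq C ⟨hC, hSX.trans hXC⟩]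
    exact hXC
  obtain ⟨F, iF, iFin, hcard, ψ, ρ, hψs, hψ0, hψ, hfix⟩ := exists_natural_sl2 (p := p)
    (act_nsmul hV) φ (act_injective V P hPV hfaith) T hTn M hM.1 hTM hkey A' hA'T
    (fun a ha b hb v => by
      apply Additive.toMul.injective
      apply Subtype.ext
      rw [hφdef, act_apply, ← hφdef, mul_inv_eq_iff_eq_mul]
      exact (Subgroup.mem_centralizer_iff.1 (hq (Subgroup.mem_subgroupOf.1 hb)) _ (hcom a ha v)).symm)
    (by
      rw [hφdef, card_fixS, hA'map, hcardA]
      exact (Nat.card_congr Additive.toMul).trans_le hi1)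
    (fun A₀ h1 h2 h3 => by
      rw [hφdef, card_fixS, card_fixS, hA'map, hcardA,
        ← Subgroup.card_map_of_injective (K := A₀) P.subtype_injective]
      refine hi2 _ ((Subgroup.map_mono h1).trans_eq hA'map) ?_ ?_
      · exact fun h => h2 ((Subgroup.map_eq_bot_iff_of_injective _ P.subtype_injective).1 h)
      · exact fun h => h3 (Subgroup.map_injective P.subtype_injective (h.trans hA'map.symm)))
    (by
      by_contra h
      push Not at h
      apply hii
      rw [Subgroup.commutator_eq_bot_iff_le_centralizer]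
      intro v hv
      obtain ⟨hv1, hv2⟩ := Subgroup.mem_inf.1 hv
      have h1 := h (Additive.ofMul (⟨v, hv1⟩ : V)) ((mem_fixS_iff V P hPV _ _).2 hv2)
      rw [mem_fixS_iff, htop] at h1
      exact h1)
    (fun x hx => by
      apply Subgroup.map_injective P.subtype_injective
      rw [htop, Subgroup.map_sup, hA'map]
      conv_rhs => rw [← hiii x hx]
      congr 1
      rw [Subgroup.map_map]
      conv_rhs => rw [← hA'map, Subgroup.map_map]
      exact congrArg (Subgroup.map · A') (MonoidHom.ext fun y => rfl))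
  have hfixA : ∀ v : Additive V,
      v ∈ fixS φ A' ↔ ((v.toMul : V) : G) ∈ Subgroup.centralizer (A : Set G) := fun v => by
    rw [hφdef, mem_fixS_iff, hA'map]
  have hfixP : ∀ v : Additive V,
      v ∈ fixS φ ⊤ ↔ ((v.toMul : V) : G) ∈ Subgroup.centralizer (P : Set G) := fun v => by
    rw [hφdef, mem_fixS_iff, htop]
  refine ⟨F, iF, iFin, hcard.trans hcardA, ⟨ρ⟩, le_antisymm ?_ (sup_le (le_inf hVAV ?_)
    (inf_le_inf_left V (Subgroup.centralizer_le hAP))), ?_⟩
  · intro v hv
    obtain ⟨hv1, hv2⟩ := Subgroup.mem_inf.1 hv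
    let R : AddSubgroup (Additive V) :=
      Subgroup.toAddSubgroup ((⁅V, A⁆ ⊔ V ⊓ Subgroup.centralizer (P : Set G)).subgroupOf V)
    have hR : AddSubgroup.closure {w | ∃ a ∈ A', ∃ u, φ a u - u = w} ⊔ fixS φ ⊤ ≤ R := by
      refine sup_le ((AddSubgroup.closure_le _).2 ?_) fun u hu => ?_
      · rintro _ ⟨a, ha, u, rfl⟩
        exact Subgroup.mem_sup_left (hcom a ha u)
      · exact Subgroup.mem_sup_right (Subgroup.mem_inf.2 ⟨(u.toMul : V).2, (hfixP u).1 hu⟩)
    exact hR (hfix ▸ (hfixA (Additive.ofMul (⟨v, hv1⟩ : V))).2 hv2)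
  · exact Subgroup.le_centralizer_iff.1 hq
  · refine ⟨hPV, inf_le_left, ρ.toMonoidHom,
      { toFun := fun u => Multiplicative.ofAdd (ψ (Additive.ofMul u))
        map_one' := by rw [ofMul_one, map_zero, ofAdd_zero]
        map_mul' := fun a b => by rw [ofMul_mul, map_add, ofAdd_add] },
      MonoidHom.range_eq_top.2 ρ.surjective, ?_, ?_, ?_⟩
    · intro y
      obtain ⟨u, hu⟩ := hψs y.toAdd
      exact ⟨u.toMul, congrArg Multiplicative.ofAdd hu⟩
    · intro u
      show ψ (Additive.ofMul u) = 0 ↔ _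
      rw [hψ0, hfixP, Subgroup.mem_inf]
      exact (and_iff_right u.2).symm
    · intro e u
      exact ⟨(φ e (Additive.ofMul u)).toMul, rfl, hψ e (Additive.ofMul u)⟩

end Cfsg.Agent.S2999
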