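import Cfsg.Statements.S1505
import Cfsg.Agent.Lib.Char.CyclicTI

set_option autoImplicit false
open Cfsg

namespace Cfsg.Agent.S1505

open CfsgLib.Char
open scoped CfsgLib.Char

open Classical in
/-- Let W₁, W₂ ≤ G form a self-normalising cyclic subgroup W = W₁ ⊔ W₂. For nontrivial linear characters φ, φ' of W trivial on W₂ and ψ, ψ' trivial on W₁, put α = (1 − φ)(1 − ψ) and α' = (1 − φ')(1 − ψ'). Then the function induced from α to G has inner product 1 with the principal character, and the inner product of the functions induced from α and α' is 1 + a + b + ab where a = 1 if φ = φ' (else 0) and b = 1 if ψ = ψ' (else 0). -/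
theorem result {G : Type*} [Group G] [Fintype G] (W₁ W₂ : Subgroup G) (hW : Cfsg.IsSelfNormalizingCyclic W₁ W₂) (φ φ' ψ ψ' : ↥(W₁ ⊔ W₂) →* ℂˣ) (hφ : φ ≠ 1) (hφ' : φ' ≠ 1) (hψ : ψ ≠ 1) (hψ' : ψ' ≠ 1) (hφ₂ : ∀ w : ↥(W₁ ⊔ W₂), (w : G) ∈ W₂ → φ w = 1 ∧ φ' w = 1) (hψ₁ : ∀ w : ↥(W₁ ⊔ W₂), (w : G) ∈ W₁ → ψ w = 1 ∧ ψ' w = 1) : Cfsg.classInner (Cfsg.indFun (W₁ ⊔ W₂) (fun w => 1 - (φ w : ℂ) - (ψ w : ℂ) + (φ w : ℂ) * (ψ w : ℂ))) (fun _ => 1) = 1 ∧ Cfsg.classInner (Cfsg.indFun (W₁ ⊔ W₂) (fun w => 1 - (φ w : ℂ) - (ψ w : ℂ) + (φ w : ℂ) * (ψ w : ℂ))) (Cfsg.indFun (W₁ ⊔ W₂) (fun w => 1 - (φ' w : ℂ) - (ψ' w : ℂ) + (φ' w : ℂ) * (ψ' w : ℂ))) = 1 + (if φ = φ' then 1 else 0) + (if ψ = ψ' then 1 else 0) + (if φ = φ' then 1 else 0) * (if ψ = ψ' then 1 else 0) := by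
  classical
  haveI := Fintype.ofFinite ↥(W₁ ⊔ W₂)
  haveI := CyclicTI.commutative_of hW
  have hφR : ∀ w : ↥(W₁ ⊔ W₂), (w : G) ∈ W₂ → φ w = 1 := fun w hw => (hφ₂ w hw).1
  have hφR' : ∀ w : ↥(W₁ ⊔ W₂), (w : G) ∈ W₂ → φ' w = 1 := fun w hw => (hφ₂ w hw).2
  have hψL : ∀ w : ↥(W₁ ⊔ W₂), (w : G) ∈ W₁ → ψ w = 1 := fun w hw => (hψ₁ w hw).1
  have hψL' : ∀ w : ↥(W₁ ⊔ W₂), (w : G) ∈ W₁ → ψ' w = 1 := fun w hw => (hψ₁ w hw).2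
  have key : ∀ (a : ↥(W₁ ⊔ W₂) →* ℂˣ) (b : ↥(W₁ ⊔ W₂) →* ℂˣ),
      (∀ w : ↥(W₁ ⊔ W₂), (w : G) ∈ W₂ → a w = 1) → (∀ w : ↥(W₁ ⊔ W₂), (w : G) ∈ W₁ → b w = 1) →
      (φ * ψ = a * b ↔ φ = a ∧ ψ = b) := fun a b ha hb =>
    ⟨fun h => CyclicTI.split_unique hφR ha hψL hb h, fun h => by rw [h.1, h.2]⟩
  have t1 : ∀ f : ↥(W₁ ⊔ W₂) →* ℂˣ, (∀ w : ↥(W₁ ⊔ W₂), (w : G) ∈ W₂ → f w = 1) →
      ∀ g : ↥(W₁ ⊔ W₂) →* ℂˣ, (∀ w : ↥(W₁ ⊔ W₂), (w : G) ∈ W₁ → g w = 1) → f = g → f = 1 := by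
    intro f hf g hg e
    exact CyclicTI.hom_ext_of_agree (fun w hw => by rw [e]; exact hg w hw) (fun w hw => hf w hw)
  have u1 : ∀ f : ↥(W₁ ⊔ W₂) →* ℂˣ, ∀ g : ↥(W₁ ⊔ W₂) →* ℂˣ,
      (∀ w : ↥(W₁ ⊔ W₂), (w : G) ∈ W₂ → f w = 1) → (∀ w : ↥(W₁ ⊔ W₂), (w : G) ∈ W₁ → g w = 1) →
      f ≠ 1 → f ≠ g := fun f g hf hg h1 e => h1 (t1 f hf g hg e)
  constructor
  · rw [frobenius_reciprocity _ _ (isClassFunction_of_isCharacter isCharacter_one)]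
    have h := CyclicTI.classInner_alpha_hom φ ψ (1 : ↥(W₁ ⊔ W₂) →* ℂˣ)
    rw [if_pos rfl, if_neg hφ, if_neg hψ, if_neg fun e => hφ ((key 1 1 (fun _ _ => rfl) (fun _ _ => rfl)).mp (by rw [CyclicTI.hom_one_mul]; exact e)).1] at h
    rw [sub_zero, sub_zero, add_zero] at h
    have e1 : (fun w : ↥(W₁ ⊔ W₂) => (fun _ : G => (1 : ℂ)) w) = fun w => (((1 : ↥(W₁ ⊔ W₂) →* ℂˣ) w : ℂˣ) : ℂ) := by
      funext w; simp
    rw [e1]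
    exact h
  · show classInner (indFun (W₁ ⊔ W₂) (CyclicTI.alpha φ ψ)) (indFun (W₁ ⊔ W₂) (CyclicTI.alpha φ' ψ')) = _
    rw [classInner_indFun_of_ti _ (CyclicTI.tiPart W₁ W₂) (CyclicTI.ti hW) _ _
      (fun a b => congrArg _ (by rw [IsMulCommutative.is_comm.comm b a, mul_inv_cancel_right]))
      (fun w hw => CyclicTI.alpha_zero hφR hψL w hw) (fun w hw => CyclicTI.alpha_zero hφR' hψL' w hw)
      (by simp [CyclicTI.alpha])]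
    have e : CyclicTI.alpha φ' ψ' = (fun w => ((1 : ↥(W₁ ⊔ W₂) →* ℂˣ) w : ℂ)) - (fun w => (φ' w : ℂ)) -
        (fun w => (ψ' w : ℂ)) + fun w => ((φ' * ψ') w : ℂ) := by
      funext w; simp [CyclicTI.alpha]
    rw [e, classInner_add_right, classInner_sub_right, classInner_sub_right]
    simp only [CyclicTI.classInner_alpha_hom]
    have one : ∀ {a b : ↥(W₁ ⊔ W₂) →* ℂˣ}, a ≠ 1 → (∀ w : ↥(W₁ ⊔ W₂), (w : G) ∈ W₂ → a w = 1) →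
        (∀ w : ↥(W₁ ⊔ W₂), (w : G) ∈ W₁ → b w = 1) → (1 : ↥(W₁ ⊔ W₂) →* ℂˣ) ≠ a * b := by
      intro a b ha haR hbL e
      exact ha (CyclicTI.split_unique (φ := (1 : ↥(W₁ ⊔ W₂) →* ℂˣ)) (ψ := (1 : ↥(W₁ ⊔ W₂) →* ℂˣ)) (fun _ _ => rfl) haR (fun _ _ => rfl) hbL (by rw [CyclicTI.hom_one_mul]; exact e)).1.symm
    have left : φ * ψ ≠ φ' := fun e => hψ ((key φ' 1 hφR' (fun _ _ => rfl)).mp (by rw [CyclicTI.hom_mul_one]; exact e)).2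
    have right : φ * ψ ≠ ψ' := fun e => hφ ((key 1 ψ' (fun _ _ => rfl) hψL').mp (by rw [CyclicTI.hom_one_mul]; exact e)).1
    have left' : φ ≠ φ' * ψ' := fun e =>
      hψ' (CyclicTI.split_unique (ψ := (1 : ↥(W₁ ⊔ W₂) →* ℂˣ)) hφR hφR' (fun _ _ => rfl) hψL' (by rw [CyclicTI.hom_mul_one]; exact e)).2.symm
    have right' : ψ ≠ φ' * ψ' := fun e =>
      hφ' (CyclicTI.split_unique (φ := (1 : ↥(W₁ ⊔ W₂) →* ℂˣ)) (fun _ _ => rfl) hφR' hψL hψL' (by rw [CyclicTI.hom_one_mul]; exact e)).1.symm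
    simp only [Ne.symm hφ', Ne.symm hψ', hφ, hψ, (fun e => one hφ hφR hψL (Eq.symm e) : φ * ψ ≠ 1),
      one hφ' hφR' hψL', u1 φ ψ' hφR hψL' hφ, (u1 φ' ψ hφR' hψL hφ').symm, left, right, left', right',
      key φ' ψ' hφR' hψL', if_false, if_true]
    have hne : φ * ψ ≠ 1 := fun e => one hφ hφR hψL e.symm
    have hne' : φ' * ψ ≠ 1 := fun e => one hφ' hφR' hψL e.symm
    have hne'' : φ * ψ' ≠ 1 := fun e => one hφ hφR hψL' e.symm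
    by_cases h1 : φ = φ' <;> by_cases h2 : ψ = ψ' <;> simp [h1, h2, hne, hne', hne''] <;> norm_num
    all_goals simp_all

end Cfsg.Agent.S1505
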