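import Cfsg.Statements.S1496
import Cfsg.Agent.Lib.Char.FrobeniusGroup
import Cfsg.Agent.Lib.Char.Virtual
import Cfsg.Agent.Lib.Char.Central
import Cfsg.Agent.Lib.Char.Eigen
import Cfsg.Agent.Lib.Coprime.SchurZassenhaus

set_option autoImplicit false
open Cfsg

namespace Cfsg.Agent.S1496

open CfsgLib.Char
open scoped CfsgLib.Char

/-- Let H be a subgroup of the finite group G and g an element normalising H whose order is coprime to the order of H. Then for every h ∈ H there are x ∈ H and c ∈ H commuting with g such that x * (h * g) * x⁻¹ = c * g. -/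
theorem result {G : Type*} [Group G] [Finite G] (H : Subgroup G) (g : G) (hg : g ∈ Subgroup.normalizer (H : Set G)) (hcop : Nat.Coprime (orderOf g) (Nat.card H)) (h : G) (hh : h ∈ H) : ∃ x ∈ H, ∃ c ∈ H, c * g = g * c ∧ x * (h * g) * x⁻¹ = c * g := by
  classical
  set y := h * g with hy
  have hK : (Nat.card H).Coprime (orderOf g) := hcop.symm
  obtain ⟨e, he0, he1⟩ := Nat.chineseRemainder hK 0 1
  have hzg : Subgroup.zpowers g ≤ Subgroup.normalizer (H : Set G) := Subgroup.zpowers_le.mpr hg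
  have hpow : ∀ n : ℕ, ∃ c ∈ H, y ^ n = c * g ^ n := by
    intro n
    induction n with
    | zero => exact ⟨1, H.one_mem, by simp⟩
    | succ n ih =>
      obtain ⟨c, hc, hcy⟩ := ih
      refine ⟨c * (g ^ n * h * (g ^ n)⁻¹), H.mul_mem hc
        ((Subgroup.mem_normalizer_iff.mp (Subgroup.pow_mem _ hg n) h).mp hh), ?_⟩
      rw [pow_succ, hcy, hy, pow_succ]; group
  obtain ⟨c₁, hc₁, hye⟩ := hpow e
  have hge : g ^ e = g := by
    conv_rhs => rw [← pow_one g]
    exact pow_eq_pow_iff_modEq.mpr he1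
  rw [hge] at hye
  set t := y ^ e with ht
  have hord : orderOf t ∣ orderOf g := by
    obtain ⟨c₂, hc₂, hy2⟩ := hpow (orderOf g)
    rw [pow_orderOf_eq_one, mul_one] at hy2
    refine orderOf_dvd_of_pow_eq_one ?_
    obtain ⟨k, hk⟩ := Nat.modEq_zero_iff_dvd.mp he0
    rw [ht, ← pow_mul, hk, mul_comm (Nat.card H) k, mul_comm, pow_mul, hy2, mul_comm k, pow_mul,
      orderOf_dvd_iff_pow_eq_one.mp (H.orderOf_dvd_natCard hc₂), one_pow]
  have hcT : (Nat.card H).Coprime (Nat.card (Subgroup.zpowers t)) := by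
    rw [Nat.card_zpowers]; exact hK.coprime_dvd_right hord
  have hsup : H ⊔ Subgroup.zpowers g = H ⊔ Subgroup.zpowers t := by
    refine le_antisymm (sup_le le_sup_left (Subgroup.zpowers_le.mpr ?_))
      (sup_le le_sup_left (Subgroup.zpowers_le.mpr ?_))
    · rw [show g = c₁⁻¹ * t by rw [hye, inv_mul_cancel_left]]
      exact Subgroup.mul_mem _ (Subgroup.mem_sup_left (H.inv_mem hc₁)) (Subgroup.mem_sup_right (Subgroup.mem_zpowers _))
    · rw [hye]
      exact Subgroup.mul_mem _ (Subgroup.mem_sup_left hc₁) (Subgroup.mem_sup_right (Subgroup.mem_zpowers _))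
  have hsol : Group.IsSolvable (Subgroup.zpowers g) := inferInstance
  obtain ⟨x, hx, hxe⟩ := CfsgLib.Coprime.exists_conj_of_coprime (N := H) (H := Subgroup.zpowers g) (K := Subgroup.zpowers t) hzg
    (by rwa [Nat.card_zpowers]) hcT hsup (Or.inr hsol)
  have htmem : x⁻¹ * t * x ∈ Subgroup.zpowers g := by
    rw [← CfsgLib.Coprime.mem_conj_smul_iff, hxe]; exact Subgroup.mem_zpowers t
  have hdiff : x⁻¹ * t * x * g⁻¹ ∈ H ⊓ Subgroup.zpowers g := by
    refine ⟨?_, Subgroup.mul_mem _ htmem (Subgroup.inv_mem _ (Subgroup.mem_zpowers g))⟩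
    have e2 : x⁻¹ * t * x * g⁻¹ = x⁻¹ * c₁ * (g * x * g⁻¹) := by rw [hye]; group
    rw [e2]
    exact H.mul_mem (H.mul_mem (H.inv_mem hx) hc₁) ((Subgroup.mem_normalizer_iff.mp hg x).mp hx)
  rw [CfsgLib.Coprime.inf_eq_bot_of_coprime_card (by rwa [Nat.card_zpowers]), Subgroup.mem_bot,
    mul_inv_eq_one] at hdiff
  set z := x⁻¹ * y * x with hz
  have hcomm : Commute z g := by
    have hzt : Commute y t := Commute.self_pow y e
    rw [← hdiff]
    show z * (x⁻¹ * t * x) = x⁻¹ * t * x * z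
    rw [hz]
    calc x⁻¹ * y * x * (x⁻¹ * t * x) = x⁻¹ * (y * t) * x := by group
      _ = _ := by rw [hzt.eq]; group
  refine ⟨x⁻¹, H.inv_mem hx, z * g⁻¹, ?_, ?_, ?_⟩
  · rw [hz, hy, show x⁻¹ * (h * g) * x * g⁻¹ = x⁻¹ * h * (g * x * g⁻¹) by group]
    exact H.mul_mem (H.mul_mem (H.inv_mem hx) hh) ((Subgroup.mem_normalizer_iff.mp hg x).mp hx)
  · rw [inv_mul_cancel_right, ← mul_assoc, ← hcomm.eq, mul_inv_cancel_right]
  · rw [inv_inv, inv_mul_cancel_right]

end Cfsg.Agent.S1496
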