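import Cfsg.Statements.S1498
import Cfsg.Agent.Lib.Char.FrobeniusGroup
import Cfsg.Agent.Lib.Char.Virtual
import Cfsg.Agent.Lib.Char.Central
import Cfsg.Agent.Lib.Char.Eigen
import Cfsg.Agent.Lib.Coprime.SchurZassenhaus

set_option autoImplicit false
open Cfsg

namespace Cfsg.Agent.S1498

theorem mem_H_of_coprime {G : Type*} [Group G] [Finite G] {A : Set G} {L : Subgroup G} {H : G → Subgroup G}
    (hD : Cfsg.DadeHypothesis A L H) {b : G} (hb : b ∈ A) {u : G}
    (hu : u ∈ Subgroup.centralizer ({b} : Set G))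
    (hcop : (orderOf u).Coprime (Nat.card ↥(L ⊓ Subgroup.centralizer ({b} : Set G)))) : u ∈ H b := by
  set C := L ⊓ Subgroup.centralizer ({b} : Set G)
  have hnorm : C ≤ Subgroup.normalizer ((H b : Subgroup G) : Set G) := by
    intro c hc
    refine Subgroup.mem_normalizer_iff.mpr fun h => ⟨hD.conj_mem_H b hb c hc.2 h, fun h' => ?_⟩
    have := hD.conj_mem_H b hb c⁻¹ (Subgroup.inv_mem _ hc.2) _ h'
    simpa [mul_assoc] using this
  have hu' : u ∈ (↑(H b ⊔ C) : Set G) := by rw [hD.sup_eq b hb]; exact hu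
  rw [Subgroup.coe_mul_of_right_le_normalizer_left _ _ hnorm] at hu'
  obtain ⟨h, hh, c, hc, rfl⟩ := Set.mem_mul.mp hu'
  have hpow : ∀ n : ℕ, ∃ k ∈ H b, (h * c) ^ n = k * c ^ n := by
    intro n
    induction n with
    | zero => exact ⟨1, (H b).one_mem, by simp⟩
    | succ n ih =>
      obtain ⟨k, hk, hke⟩ := ih
      refine ⟨k * (c ^ n * h * (c ^ n)⁻¹), (H b).mul_mem hk
        ((Subgroup.mem_normalizer_iff.mp (Subgroup.pow_mem _ (hnorm hc) n) h).mp hh), ?_⟩
      rw [pow_succ, hke, pow_succ]; group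
  obtain ⟨k, hk, hke⟩ := hpow (Nat.card C)
  rw [orderOf_dvd_iff_pow_eq_one.mp (C.orderOf_dvd_natCard hc), mul_one] at hke
  obtain ⟨m, hm⟩ := exists_pow_eq_self_of_coprime hcop.symm
  rw [← hm, hke]
  exact (H b).pow_mem hk m

open scoped Pointwise

/-- Under the Dade hypothesis for (A, L, H): for a ∈ A and x ∈ L, the subgroup attached to x * a * x⁻¹ is the conjugate of H a by x. -/
theorem result {G : Type*} [Group G] [Finite G] (A : Set G) (L : Subgroup G) (H : G → Subgroup G) (hD : Cfsg.DadeHypothesis A L H) (a : G) (ha : a ∈ A) (x : G) (hx : x ∈ L) : H (x * a * x⁻¹) = (H a).map (MulAut.conj x).toMonoidHom := by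
  classical
  have hb := hD.conj_mem x hx a ha
  have key : ∀ (a : G), a ∈ A → ∀ x ∈ L, ∀ u ∈ H a, x * u * x⁻¹ ∈ H (x * a * x⁻¹) := by
    intro a ha x hx u hu
    refine mem_H_of_coprime hD (hD.conj_mem x hx a ha) ?_ ?_
    · rw [Subgroup.mem_centralizer_singleton_iff]
      have := Subgroup.mem_centralizer_singleton_iff.mp (hD.le_centralizer a ha hu)
      calc x * u * x⁻¹ * (x * a * x⁻¹) = x * (u * a) * x⁻¹ := by group
        _ = _ := by rw [this]; group
    · have h1 : orderOf (x * u * x⁻¹) = orderOf u := by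
        rw [← MulAut.conj_apply, MulEquiv.orderOf_eq]
      rw [h1]
      exact (hD.coprime a ha _ (hD.conj_mem x hx a ha)).coprime_dvd_left ((H a).orderOf_dvd_natCard hu)
  ext u
  rw [Subgroup.mem_map]
  constructor
  · intro hu
    refine ⟨x⁻¹ * u * x, ?_, by simp [mul_assoc]⟩
    have := key _ hb x⁻¹ (L.inv_mem hx) u hu
    simpa [mul_assoc] using this
  · rintro ⟨v, hv, rfl⟩
    exact key a ha x hx v hv

end Cfsg.Agent.S1498
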