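import Cfsg.Statements.S4447
import Cfsg.Agent.Lib.Char.Constituents
import Cfsg.Agent.Lib.Coprime.Action

set_option autoImplicit false
open Cfsg

namespace Cfsg.Agent.S4447

open CfsgLib.Char
open scoped CfsgLib.Char

/-- Inside a finite group Γ let S normalise G and also normalise a normal subgroup N of G, with the order of S coprime to the index of N in G and S or G/N solvable. Then for every S-invariant irreducible character χ of G, the restriction of χ to N has an S-invariant irreducible constituent. -/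
theorem result {Γ : Type*} [Group Γ] [Fintype Γ] (G S N : Subgroup Γ) [Fintype G] [Fintype N] (hnorm : ∀ s ∈ S, ∀ g ∈ G, s * g * s⁻¹ ∈ G) (hNG : N ≤ G) [hNn : (N.subgroupOf G).Normal] (hNS : ∀ s ∈ S, ∀ n ∈ N, s * n * s⁻¹ ∈ N) (hcop : (N.relIndex G).Coprime (Nat.card S)) (hsolv : Group.IsSolvable S ∨ Group.IsSolvable (G ⧸ N.subgroupOf G)) (χ : Cfsg.IrrCharacter G) (hinv : (∀ s ∈ S, ∀ g g' : G, (g' : Γ) = s * g * s⁻¹ → (χ : G → ℂ) g' = (χ : G → ℂ) g)) : ∃ θ : Cfsg.IrrCharacter N, Cfsg.classInner (fun n : N => (χ : G → ℂ) ⟨n, hNG n.2⟩) (θ : N → ℂ) ≠ 0 ∧ (∀ s ∈ S, ∀ g g' : N, (g' : Γ) = s * g * s⁻¹ → (θ : N → ℂ) g' = (θ : N → ℂ) g) := by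
  classical
  set W := Subgroup.normalizer (N : Set Γ) with hW
  have hGW : G ≤ W := (Subgroup.normal_subgroupOf_iff_le_normalizer hNG).mp hNn
  have hSW : S ≤ W := fun s hs => Subgroup.mem_normalizer_iff.mpr fun n => ⟨hNS s hs n, fun h => by
    have := hNS s⁻¹ (S.inv_mem hs) _ h
    simpa [mul_assoc] using this⟩
  set N' := N.subgroupOf W with hN'
  haveI hN'n : N'.Normal := Subgroup.normal_in_normalizer
  have hmem : ∀ (w : W) (n : N), (w : Γ)⁻¹ * n * w ∈ N := fun w n => by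
    have := (Subgroup.mem_normalizer_iff''.mp w.2 (n : Γ)).mp n.2
    exact this
  let cj : W → N ≃* N := fun w =>
    { toFun := fun n => ⟨(w : Γ)⁻¹ * n * w, hmem w n⟩
      invFun := fun n => ⟨(w : Γ) * n * (w : Γ)⁻¹, by
        have := hmem w⁻¹ n
        rwa [Subgroup.coe_inv, inv_inv] at this⟩
      left_inv := fun n => Subtype.ext (by simp [mul_assoc])
      right_inv := fun n => Subtype.ext (by simp [mul_assoc])
      map_mul' := fun a b => Subtype.ext (by simp [mul_assoc]) }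
  let act : W → Cfsg.IrrCharacter N → Cfsg.IrrCharacter N := fun w φ =>
    ⟨fun n => (φ : N → ℂ) (cj w n), isIrrCharacter_comp_mulEquiv (cj w) φ.2⟩
  letI mW : MulAction W (Cfsg.IrrCharacter N) :=
    { smul := act
      one_smul := fun φ => Subtype.ext (funext fun n => congrArg (φ : N → ℂ) (Subtype.ext (by simp [cj])))
      mul_smul := fun a b φ => Subtype.ext (funext fun n =>
        congrArg (φ : N → ℂ) (Subtype.ext (by simp [cj, mul_assoc]))) }
  have hker : N' ≤ (MulAction.toPermHom W (Cfsg.IrrCharacter N)).ker := by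
    intro w hw
    rw [MonoidHom.mem_ker]
    refine Equiv.ext fun φ => Subtype.ext (funext fun n => ?_)
    show (φ : N → ℂ) (cj w n) = (φ : N → ℂ) n
    have hwN : (w : Γ) ∈ N := hw
    have h := isClassFunction_irr φ n (⟨(w : Γ), hwN⟩ : N)⁻¹
    rw [← h]
    exact congrArg (φ : N → ℂ) (Subtype.ext (by simp [cj]))
  letI mQ : MulAction (W ⧸ N') (Cfsg.IrrCharacter N) :=
    MulAction.compHom _ (QuotientGroup.lift N' (MulAction.toPermHom W (Cfsg.IrrCharacter N)) hker)
  set π := QuotientGroup.mk' N' with hπ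
  set A := (S.subgroupOf W).map π with hA
  set K := (G.subgroupOf W).map π with hK
  have hAK : A ≤ Subgroup.normalizer (K : Set (W ⧸ N')) := by
    refine (Subgroup.map_mono ?_).trans (Subgroup.le_normalizer_map π)
    intro s hs
    refine Subgroup.mem_normalizer_iff.mpr fun g => ⟨fun hg => hnorm _ hs _ hg, fun hg => ?_⟩
    have := hnorm (s : Γ)⁻¹ (S.inv_mem hs) _ hg
    simpa [Subgroup.mem_subgroupOf, mul_assoc] using this
  have hKcard : Nat.card K = N.relIndex G := by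
    rw [hK, ← Subgroup.relIndex_bot_left, ← Subgroup.map_bot π, Subgroup.relIndex_map_map, bot_sup_eq,
      hπ, QuotientGroup.ker_mk', sup_eq_left.mpr (show N' ≤ G.subgroupOf W from Subgroup.comap_mono hNG),
      Subgroup.relIndex_subgroupOf hGW]
  have hcop' : (Nat.card A).Coprime (Nat.card K) := by
    rw [hKcard]
    refine hcop.symm.coprime_dvd_left ?_
    rw [← Nat.card_congr (Subgroup.subgroupOfEquivOfLe hSW).toEquiv]
    exact Subgroup.card_map_dvd (S.subgroupOf W) π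
  have hsolv' : Group.IsSolvable A ∨ Group.IsSolvable K := by
    rcases hsolv with h | h
    · refine Or.inl ?_
      haveI := h
      haveI : Group.IsSolvable (S.subgroupOf W) :=
        Group.isSolvable_of_surjective (f := (Subgroup.subgroupOfEquivOfLe hSW).symm.toMonoidHom)
          (Subgroup.subgroupOfEquivOfLe hSW).symm.surjective
      exact Group.isSolvable_of_surjective (π.subgroupMap_surjective (S.subgroupOf W))
    · refine Or.inr ?_
      haveI := h
      let f : G →* W ⧸ N' := π.comp (Subgroup.inclusion hGW)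
      have hf : N.subgroupOf G ≤ f.ker := fun g hg => by
        rw [MonoidHom.mem_ker]
        exact (QuotientGroup.eq_one_iff _).mpr hg
      have hr : (QuotientGroup.lift _ f hf).range = K := by
        ext q
        constructor
        · rintro ⟨g, rfl⟩
          induction g using QuotientGroup.induction_on with
          | _ g => exact ⟨Subgroup.inclusion hGW g, g.2, rfl⟩
        · rintro ⟨w, hw, rfl⟩
          exact ⟨QuotientGroup.mk' _ ⟨(w : Γ), hw⟩, rfl⟩
      rw [← hr]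
      exact Group.isSolvable_of_surjective (QuotientGroup.lift _ f hf).rangeRestrict_surjective
  -- constituents
  set NG := N.subgroupOf G with hNGdef
  haveI : Fintype NG := Fintype.ofFinite NG
  set ι : NG ≃* N := Subgroup.subgroupOfEquivOfLe hNG with hι
  have hcon : ∀ φ : Cfsg.IrrCharacter N,
      Cfsg.classInner (fun n : NG => (χ : G → ℂ) n) (fun n => (φ : N → ℂ) (ι n)) =
      Cfsg.classInner (fun n : N => (χ : G → ℂ) ⟨n, hNG n.2⟩) (φ : N → ℂ) := fun φ =>
    classInner_comp_mulEquiv ι (fun n : N => (χ : G → ℂ) ⟨n, hNG n.2⟩) (φ : N → ℂ)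
  have hmove : ∀ (w : W) (φ : Cfsg.IrrCharacter N), (∀ g g' : G, (g' : Γ) = (w : Γ)⁻¹ * g * w →
        (χ : G → ℂ) g' = (χ : G → ℂ) g) →
      Cfsg.classInner (fun n : N => (χ : G → ℂ) ⟨n, hNG n.2⟩) ((w • φ : Cfsg.IrrCharacter N) : N → ℂ) =
      Cfsg.classInner (fun n : N => (χ : G → ℂ) ⟨n, hNG n.2⟩) (φ : N → ℂ) := by
    intro w φ hw
    rw [← classInner_comp_mulEquiv (cj w) (fun n : N => (χ : G → ℂ) ⟨n, hNG n.2⟩) (φ : N → ℂ)]
    congr 1
    funext n
    exact (hw _ _ rfl).symm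
  obtain ⟨θ₀, hθ₀⟩ := exists_constituent NG (isCharacter_of_isIrr χ.2) (irr_degree_ne_zero χ.2)
  set ω₀ : Cfsg.IrrCharacter N := ⟨_, isIrrCharacter_comp_mulEquiv ι.symm θ₀.2⟩
  have hω₀ : Cfsg.classInner (fun n : N => (χ : G → ℂ) ⟨n, hNG n.2⟩) (ω₀ : N → ℂ) ≠ 0 := by
    rw [← hcon]
    simpa [ω₀] using hθ₀
  have horbit : ∀ a ∈ A, ∃ k ∈ K, a • ω₀ = k • ω₀ := by
    rintro _ ⟨s, hs, rfl⟩
    have h1 : Cfsg.classInner (fun n : N => (χ : G → ℂ) ⟨n, hNG n.2⟩) ((s • ω₀ : Cfsg.IrrCharacter N) : N → ℂ) ≠ 0 := by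
      rw [hmove s ω₀ fun g g' e => hinv ((s : Γ)⁻¹) (S.inv_mem hs) g g' (by rw [e, inv_inv])]
      exact hω₀
    rw [← hcon] at h1
    obtain ⟨g, hg⟩ := exists_conjBy_of_constituents NG χ.2 θ₀.2
      (isIrrCharacter_comp_mulEquiv ι (s • ω₀).2) hθ₀ h1
    refine ⟨π (Subgroup.inclusion hGW g)⁻¹, K.inv_mem ⟨Subgroup.inclusion hGW g, g.2, rfl⟩, ?_⟩
    refine Subtype.ext (funext fun n => ?_)
    have h2 := (congrFun hg (ι.symm n)).symm
    rw [MulEquiv.apply_symm_apply] at h2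
    refine h2.trans (congrArg (θ₀ : NG → ℂ) (Subtype.ext (Subtype.ext ?_)))
    show (g : Γ) * n * (g : Γ)⁻¹ = ((g : Γ)⁻¹)⁻¹ * n * (g : Γ)⁻¹
    rw [inv_inv]
  obtain ⟨k, hk, hfix⟩ := CfsgLib.Coprime.exists_fixed_of_coprime hAK hcop' hsolv' ω₀ horbit
  obtain ⟨w, hw, rfl⟩ := hk
  refine ⟨w • ω₀, ?_, ?_⟩
  · rw [hmove w ω₀ fun g g' e => ?_]
    · exact hω₀
    · have hw' : (w : Γ) ∈ G := hw
      have := isClassFunction_irr χ g (⟨(w : Γ), hw'⟩ : G)⁻¹
      rw [← this]
      exact congrArg (χ : G → ℂ) (Subtype.ext (by simp [e]))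
  · intro s hs g g' e
    have h3 := hfix (π ⟨s⁻¹, W.inv_mem (hSW hs)⟩) ⟨⟨s⁻¹, W.inv_mem (hSW hs)⟩, S.inv_mem hs, rfl⟩
    have h4 := congrFun (congrArg Subtype.val h3) g
    refine Eq.trans ?_ h4
    refine congrArg ((w • ω₀ : Cfsg.IrrCharacter N) : N → ℂ) (Subtype.ext ?_)
    show (g' : Γ) = (s⁻¹)⁻¹ * g * s⁻¹
    rw [inv_inv, e]

end Cfsg.Agent.S4447
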