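import Cfsg.Statements.S1510
import Cfsg.Agent.Lib.Char.AutClasses
import Cfsg.Agent.Lib.Char.AbelianQuotient
import Cfsg.Agent.Lib.Char.CyclicW
import Cfsg.Agent.Lib.Char.Twist

set_option autoImplicit false
open Cfsg

namespace Cfsg.Agent.S1510

open CfsgLib.Char
open scoped CfsgLib.Char

/-- Let L be a finite group with a normal subgroup K and a nontrivial cyclic subgroup W₁ of order coprime to its index, K ⊓ W₁ = ⊥ and K ⊔ W₁ = ⊤; let W₂ ≠ ⊥ be a cyclic subgroup of K with K ⊓ C_L(x) = W₂ for every non-identity x ∈ W₁, and suppose W₁ ⊔ W₂ has odd order. Then (W₁, W₂) is a self-normalising cyclic pair in L. -/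
theorem result {L : Type*} [Group L] [Fintype L] (K W₁ W₂ : Subgroup L) [hK : K.Normal] (hKW₁ : K ⊓ W₁ = ⊥) (hKW₁' : K ⊔ W₁ = ⊤) (hW₁ : W₁ ≠ ⊥) (hW₁c : IsCyclic W₁) (hHall : Nat.Coprime (Nat.card W₁) W₁.index) (hW₂ : W₂ ≠ ⊥) (hW₂c : IsCyclic W₂) (hW₂K : W₂ ≤ K) (hC : ∀ x ∈ W₁, x ≠ 1 → K ⊓ Subgroup.centralizer ({x} : Set L) = W₂) (hodd : Odd (Nat.card ↥(W₁ ⊔ W₂))) : Cfsg.IsSelfNormalizingCyclic W₁ W₂ := by
  haveI := hW₁c
  haveI := hW₂c
  have hdisj : W₁ ⊓ W₂ = ⊥ := le_bot_iff.mp (hKW₁ ▸ le_inf (inf_le_right.trans hW₂K) inf_le_left)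
  have hcomm : ∀ a ∈ W₁, ∀ b ∈ W₂, a * b = b * a := by
    intro a ha b hb
    by_cases ha1 : a = 1
    · simp [ha1]
    have hb' : b ∈ K ⊓ Subgroup.centralizer ({a} : Set L) := by rw [hC a ha ha1]; exact hb
    exact (Subgroup.mem_centralizer_singleton_iff.mp hb'.2).symm
  have hidx : W₁.index = Nat.card K :=
    (Subgroup.isComplement'_of_disjoint_and_mul_eq_univ (disjoint_iff.mpr hKW₁) (by
      rw [← Subgroup.normal_mul, hKW₁', Subgroup.coe_top])).index_eq_card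
  have hcop : (Nat.card W₁).Coprime (Nat.card W₂) :=
    hHall.coprime_dvd_right (hidx ▸ Subgroup.card_dvd_of_le hW₂K)
  obtain ⟨u, hu⟩ := IsCyclic.exists_generator (α := W₁)
  obtain ⟨v, hv⟩ := IsCyclic.exists_generator (α := W₂)
  have hcuv : Commute (u : L) (v : L) := hcomm u u.2 v v.2
  have hou : orderOf (u : L) = Nat.card W₁ := by
    rw [Subgroup.orderOf_coe, orderOf_eq_card_of_forall_mem_zpowers hu]
  have hov : orderOf (v : L) = Nat.card W₂ := by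
    rw [Subgroup.orderOf_coe, orderOf_eq_card_of_forall_mem_zpowers hv]
  have part : ∀ a ∈ W₁, ∀ b ∈ W₂, ∃ n : ℕ, (a * b) ^ n = a := by
    intro a ha b hb
    obtain ⟨n, hn1, hn2⟩ := Nat.chineseRemainder hcop 1 0
    refine ⟨n, ?_⟩
    rw [(show Commute a b from hcomm a ha b hb).mul_pow,
      pow_eq_self_of_modEq_one (Subgroup.orderOf_dvd_natCard _ ha) hn1,
      orderOf_dvd_iff_pow_eq_one.mp ((Subgroup.orderOf_dvd_natCard _ hb).trans (Nat.modEq_zero_iff_dvd.mp hn2)),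
      mul_one]
  have hsplit : ∀ w ∈ W₁ ⊔ W₂, ∃ a ∈ W₁, ∃ b ∈ W₂, w = a * b := by
    intro w hw
    obtain ⟨p, q, hp, hq, hpq, -⟩ := CyclicTI.exists_proj hdisj hcomm
    exact ⟨p ⟨w, hw⟩, hp _, q ⟨w, hw⟩, hq _, (congrArg Subtype.val (hpq ⟨w, hw⟩)).symm⟩
  have hcyc : IsCyclic ↥(W₁ ⊔ W₂) := by
    refine ⟨⟨⟨(u : L) * v, Subgroup.mul_mem_sup u.2 v.2⟩, fun w => ?_⟩⟩
    obtain ⟨a, ha, b, hb, e⟩ := hsplit w w.2
    obtain ⟨n, hn⟩ := part u u.2 v v.2
    obtain ⟨i, hi⟩ := Subgroup.mem_zpowers_iff.mp (hu ⟨a, ha⟩)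
    obtain ⟨j, hj⟩ := Subgroup.mem_zpowers_iff.mp (hv ⟨b, hb⟩)
    have hu' : (u : L) ∈ Subgroup.zpowers ((u : L) * v) :=
      ⟨n, (zpow_natCast _ _).trans hn⟩
    have hv' : (v : L) ∈ Subgroup.zpowers ((u : L) * v) := by
      have := Subgroup.mul_mem _ (Subgroup.inv_mem _ hu') (Subgroup.mem_zpowers ((u : L) * v))
      rwa [inv_mul_cancel_left] at this
    have hw : (w : L) ∈ Subgroup.zpowers ((u : L) * v) := by
      rw [e, show a = ((u : L) ^ i) from (congrArg Subtype.val hi).symm, show b = ((v : L) ^ j) from (congrArg Subtype.val hj).symm]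
      exact Subgroup.mul_mem _ (Subgroup.zpow_mem _ hu' i) (Subgroup.zpow_mem _ hv' j)
    obtain ⟨m, hm⟩ := Subgroup.mem_zpowers_iff.mp hw
    exact ⟨m, Subtype.ext (by simpa using hm)⟩
  refine ⟨hW₁, hW₂, hdisj, hcomm, hcyc, fun X hX hXne => le_antisymm ?_ ?_⟩
  · intro g hg
    obtain ⟨x, hx⟩ := hXne
    have hgx : g * x * g⁻¹ ∈ X := by
      rw [Subgroup.mem_normalizer_iff_conj_image_eq] at hg
      have h : MulAut.conj g x ∈ MulAut.conj g '' X := ⟨x, hx, rfl⟩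
      rw [hg] at h
      simpa using h
    obtain ⟨a, ha, b, hb, e⟩ := hsplit x (hX hx).1
    obtain ⟨a', ha', b', hb', e'⟩ := hsplit _ (hX hgx).1
    have ha1 : a ≠ 1 := fun h => (hX hx).2 (Or.inr (by rw [e, h, one_mul]; exact hb))
    obtain ⟨n, hn⟩ := part a ha b hb
    have hga : g * a * g⁻¹ ∈ W₁ := by
      rw [← hn, ← conj_pow, ← e, e']
      have : (a' * b') ^ n = a' ^ n * b' ^ n := (show Commute a' b' from hcomm a' ha' b' hb').mul_pow n
      have hb0 : b' ^ n = 1 := by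
        have h2 : (a * b) ^ n = a ^ n * b ^ n := (show Commute a b from hcomm a ha b hb).mul_pow n
        have hpow : b ^ n ∈ W₁ ⊓ W₂ := by
          refine ⟨?_, W₂.pow_mem hb n⟩
          have h3 : b ^ n = (a ^ n)⁻¹ * a := by rw [eq_inv_mul_iff_mul_eq, ← h2]; exact hn
          rw [h3]; exact W₁.mul_mem (W₁.inv_mem (W₁.pow_mem ha n)) ha
        have hz : (g * x * g⁻¹) ^ (n * Nat.card W₁) = 1 := by
          rw [conj_pow, e, pow_mul, hn,
            orderOf_dvd_iff_pow_eq_one.mp (Subgroup.orderOf_dvd_natCard _ ha)]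
          simp
        rw [e', pow_mul, this, (show Commute (a' ^ n) (b' ^ n) from hcomm _ (W₁.pow_mem ha' n) _ (W₂.pow_mem hb' n)).mul_pow,
          orderOf_dvd_iff_pow_eq_one.mp (Subgroup.orderOf_dvd_natCard _ (W₁.pow_mem ha' n)), one_mul] at hz
        have h4 : orderOf (b' ^ n) = 1 := Nat.eq_one_of_dvd_coprimes hcop.symm
          (Subgroup.orderOf_dvd_natCard _ (W₂.pow_mem hb' n)) (orderOf_dvd_of_pow_eq_one hz)
        exact orderOf_eq_one_iff.mp h4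
      rw [this, hb0, mul_one]
      exact W₁.pow_mem ha' n
    obtain ⟨k, hk, w, hw, rfl⟩ := Subgroup.mem_sup_of_normal_left.mp (show g ∈ K ⊔ W₁ by rw [hKW₁']; trivial)
    have hwa : w * a * w⁻¹ = a := by
      have hc : IsMulCommutative W₁ := ⟨⟨fun p q => (IsCyclic.commGroup (α := W₁)).mul_comm p q⟩⟩
      have := congrArg Subtype.val (hc.is_comm.comm (⟨w, hw⟩ : W₁) ⟨a, ha⟩)
      simp only [Subgroup.coe_mul] at this
      rw [this, mul_inv_cancel_right]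
    have hka : k * a * k⁻¹ ∈ W₁ := by
      have e2 : k * w * a * (k * w)⁻¹ = k * (w * a * w⁻¹) * k⁻¹ := by group
      rw [e2, hwa] at hga
      exact hga
    have hcm : k * a * k⁻¹ * a⁻¹ ∈ K ⊓ W₁ := by
      refine ⟨?_, W₁.mul_mem hka (W₁.inv_mem ha)⟩
      have : k * a * k⁻¹ * a⁻¹ = k * (a * k⁻¹ * a⁻¹) := by group
      rw [this]
      exact K.mul_mem hk (hK.conj_mem _ (K.inv_mem hk) a)
    rw [hKW₁, Subgroup.mem_bot, mul_inv_eq_one, mul_inv_eq_iff_eq_mul] at hcm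
    have hkW₂ : k ∈ W₂ := by
      rw [← hC a ha ha1]
      exact ⟨hk, Subgroup.mem_centralizer_singleton_iff.mpr hcm⟩
    exact Subgroup.mul_mem _ (Subgroup.mem_sup_right hkW₂) (Subgroup.mem_sup_left hw)
  · intro g hg
    rw [Subgroup.mem_normalizer_iff_conj_image_eq]
    have : ∀ x ∈ X, MulAut.conj g x = x := by
      intro x hx
      haveI := hcyc
      have h := congrArg Subtype.val
        ((IsCyclic.commGroup (α := ↥(W₁ ⊔ W₂))).mul_comm (⟨g, hg⟩ : ↥(W₁ ⊔ W₂)) ⟨x, (hX hx).1⟩)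
      simp only [Subgroup.coe_mul] at h
      show g * x * g⁻¹ = x
      rw [h, mul_inv_cancel_right]
    rw [Set.image_congr this, Set.image_id']

end Cfsg.Agent.S1510
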