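import Cfsg.Statements.S2326
import Cfsg.Agent.Lib.Chev.All
import Cfsg.Agent.Lib.Chev.OrderData
-- import your own Cfsg.Agent.* helpers here

set_option autoImplicit false
open Cfsg

namespace Cfsg.Agent.S2326

/-- In a Chevalley group of type G₂, B₂, D₄, F₄, E₆, E₇ or E₈ over a finite field of characteristic p, the subgroup U generated by the positive root elements is a Sylow p-subgroup. -/
theorem result {F : Type*} [Field F] [Fintype F] (p : ℕ) [Fact p.Prime] [CharP F p] (D : Cfsg.Lie.ChevalleyDatum) (hD : D ∈ [Cfsg.Lie.chevG2, Cfsg.Lie.chevB2, Cfsg.Lie.chevD4, Cfsg.Lie.chevF4, Cfsg.Lie.chevE6, Cfsg.Lie.chevE7, Cfsg.Lie.chevE8]) :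
    ∃ P : Sylow p ↥(D.group F), (P : Subgroup ↥(D.group F)) = (D.posUnipotent F).subgroupOf (D.group F) := by
  classical
  have key : ∀ {D : Cfsg.Lie.ChevalleyDatum} {T : CfsgLib.Chev.Tab} {C : CfsgLib.Chev.Tab.Cover},
      CfsgLib.Chev.Cert D T C → ∀ (c P : ℕ),
      c * Nat.card (D.group F) = Fintype.card F ^ T.half * P → ¬ p ∣ P →
      ∃ S : Sylow p ↥(D.group F),
        (S : Subgroup ↥(D.group F)) = (D.posUnipotent F).subgroupOf (D.group F) := by
    intro D T C h c P hc hP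
    obtain ⟨n, -, hn⟩ := FiniteField.card F p
    have hU : Nat.card ((D.posUnipotent F).subgroupOf (D.group F)) =
        p ^ ((n : ℕ) * T.half) := by
      rw [Nat.card_congr (Subgroup.subgroupOfEquivOfLe h.posUnipotent_le_group).toEquiv,
        h.card_posUnipotent, hn, pow_mul]
    refine ⟨(IsPGroup.of_card hU).toSylow fun hdvd => hP ?_, by simp⟩
    rw [← Subgroup.card_mul_index ((D.posUnipotent F).subgroupOf (D.group F)), hU, hn, ← pow_mul,
      mul_left_comm] at hc
    rw [← Nat.eq_of_mul_eq_mul_left (pow_pos (Fact.out : p.Prime).pos _) hc]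
    exact dvd_mul_of_dvd_right hdvd c
  have hq : p ∣ Fintype.card F := by
    obtain ⟨n, hp, hn⟩ := FiniteField.card F p
    rw [hn]; exact dvd_pow_self _ n.ne_zero
  have hd : ∀ d, 0 < d → ¬ p ∣ Fintype.card F ^ d - 1 := fun d hd hdvd => by
    have h1 : p ∣ Fintype.card F ^ d := hq.trans (dvd_pow_self _ hd.ne')
    have h2 := Nat.dvd_sub h1 hdvd
    rw [Nat.sub_sub_self (Nat.one_le_pow _ _ Fintype.card_pos)] at h2
    exact (Fact.out : p.Prime).one_lt.ne' (Nat.dvd_one.1 h2)
  simp only [List.mem_cons, List.not_mem_nil, or_false] at hD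
  rcases hD with rfl | rfl | rfl | rfl | rfl | rfl | rfl
  · refine key CfsgLib.Chev.certG2 _ _ ((one_mul _).trans CfsgLib.Chev.card_groupG2) ?_
    simp only [Nat.Prime.dvd_mul (Fact.out : p.Prime)]
    simp [hd]
  · refine key CfsgLib.Chev.certB2 _ _ CfsgLib.Chev.card_groupB2 ?_
    simp only [Nat.Prime.dvd_mul (Fact.out : p.Prime)]
    simp [hd]
  · refine key CfsgLib.Chev.certD4 _ _ CfsgLib.Chev.card_groupD4 ?_
    simp only [Nat.Prime.dvd_mul (Fact.out : p.Prime)]
    simp [hd]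
  · refine key CfsgLib.Chev.certF4 _ _ ((one_mul _).trans CfsgLib.Chev.card_groupF4) ?_
    simp only [Nat.Prime.dvd_mul (Fact.out : p.Prime)]
    simp [hd]
  · refine key CfsgLib.Chev.certE6 _ _ CfsgLib.Chev.card_groupE6 ?_
    simp only [Nat.Prime.dvd_mul (Fact.out : p.Prime)]
    simp [hd]
  · refine key CfsgLib.Chev.certE7 _ _ CfsgLib.Chev.card_groupE7 ?_
    simp only [Nat.Prime.dvd_mul (Fact.out : p.Prime)]
    simp [hd]
  · refine key CfsgLib.Chev.certE8 _ _ ((one_mul _).trans CfsgLib.Chev.card_groupE8) ?_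
    simp only [Nat.Prime.dvd_mul (Fact.out : p.Prime)]
    simp [hd]

end Cfsg.Agent.S2326
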