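import Cfsg.Statements.S1050
import Cfsg.Agent.Lib.Chev.All
import Cfsg.Agent.Lib.Chev.Unipotent
-- import your own Cfsg.Agent.* helpers here

set_option autoImplicit false
open Cfsg

namespace Cfsg.Agent.S1050

/-- `B = UH` is solvable (U nilpotent, H abelian, U ⊴ B). -/
theorem result {F : Type*} [Field F] (D : Cfsg.Lie.ChevalleyDatum) (hD : D ∈ [Cfsg.Lie.chevG2, Cfsg.Lie.chevB2, Cfsg.Lie.chevD4, Cfsg.Lie.chevF4, Cfsg.Lie.chevE6, Cfsg.Lie.chevE7, Cfsg.Lie.chevE8]) : Group.IsSolvable ↥(D.borelSubgroup F) := by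
  obtain ⟨T, C, h⟩ := CfsgLib.Chev.exists_cert hD
  haveI : Group.IsNilpotent ↥(D.posUnipotent F) :=
    CfsgLib.Chev.isNilpotent_of_le_lowGroup (fun a => h.pos_lt a) h.posUnipotent_le_lowGroup
  have hle : D.posUnipotent F ≤ D.borelSubgroup F := le_sup_left
  let U' := (D.posUnipotent F).subgroupOf (D.borelSubgroup F)
  have hn : U'.Normal := Subgroup.normal_subgroupOf_iff_le_normalizer hle |>.2
    (sup_le Subgroup.le_normalizer h.diagonal_le_normalizer_posUnipotent)
  haveI : U'.Normal := hn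
  have hU : Group.IsSolvable ↥U' :=
    Group.isSolvable_of_isSolvable_injective
      (f := (Subgroup.subgroupOfEquivOfLe hle).toMonoidHom) (Subgroup.subgroupOfEquivOfLe hle).injective
  have hQ : Group.IsSolvable (↥(D.borelSubgroup F) ⧸ U') := by
    refine Group.isSolvable_of_comm ?_
    intro a b
    induction a using QuotientGroup.induction_on with | H a => ?_
    induction b using QuotientGroup.induction_on with | H b => ?_
    obtain ⟨u, hu, t, ht, ea⟩ := h.mem_borel_iff.1 a.2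
    obtain ⟨u', hu', t', ht', eb⟩ := h.mem_borel_iff.1 b.2
    have htm : t ∈ D.borelSubgroup F := Subgroup.mem_sup_right ht
    have htm' : t' ∈ D.borelSubgroup F := Subgroup.mem_sup_right ht'
    have qa : (a : ↥(D.borelSubgroup F) ⧸ U') = ((⟨t, htm⟩ : ↥(D.borelSubgroup F)) : _ ⧸ U') := by
      rw [show a = ⟨u, hle hu⟩ * ⟨t, htm⟩ from Subtype.ext ea, QuotientGroup.mk_mul,
        (QuotientGroup.eq_one_iff _).2 (show (⟨u, hle hu⟩ : ↥(D.borelSubgroup F)) ∈ U' from hu),
        one_mul]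
    have qb : (b : ↥(D.borelSubgroup F) ⧸ U') = ((⟨t', htm'⟩ : ↥(D.borelSubgroup F)) : _ ⧸ U') := by
      rw [show b = ⟨u', hle hu'⟩ * ⟨t', htm'⟩ from Subtype.ext eb, QuotientGroup.mk_mul,
        (QuotientGroup.eq_one_iff _).2 (show (⟨u', hle hu'⟩ : ↥(D.borelSubgroup F)) ∈ U' from hu'),
        one_mul]
    rw [qa, qb, ← QuotientGroup.mk_mul, ← QuotientGroup.mk_mul]
    congr 1
    refine Subtype.ext (Units.ext ?_)
    obtain ⟨c, -, ec⟩ := h.mem_diagonalSubgroup_iff.1 ht
    obtain ⟨c', -, ec'⟩ := h.mem_diagonalSubgroup_iff.1 ht'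
    show ((t * t' : GL D.Idx F) : Matrix D.Idx D.Idx F) = ((t' * t : GL D.Idx F) : Matrix D.Idx D.Idx F)
    rw [Units.val_mul, Units.val_mul, ec, ec', CfsgLib.Chev.torus_mul, CfsgLib.Chev.torus_mul]
    exact CfsgLib.Chev.torus_congr D fun s _ => mul_comm _ _
  exact Group.isSolvable_of_ker_le_range U'.subtype (QuotientGroup.mk' U') (by simp)

end Cfsg.Agent.S1050
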