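import Cfsg.Statements.S1082
import Cfsg.Agent.Lib.Chev.All
import Cfsg.Agent.Lib.Chev.SimpleData
import Cfsg.Agent.Lib.Chev.OrthModels
import Cfsg.Agent.S1050
-- import your own Cfsg.Agent.* helpers here

set_option autoImplicit false
open Cfsg

namespace Cfsg.Agent.S1082

/-- D₄(F) ≅ PΩ₈⁺(F), the commutator subgroup of the orthogonal group of `Σ xᵢ yᵢ` modulo its centre. -/
theorem result {F : Type*} [Field F] : Nonempty (↥(Cfsg.Lie.chevD4.group F) ≃* Cfsg.POmega F (Cfsg.quadFormPlus 4 F)) := by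
  have hperf := CfsgLib.Chev.perfectD4 (F := F)
  have hsim := (CfsgLib.Chev.certD4.simple_group CfsgLib.Chev.connectedD4 hperf
    (Cfsg.Agent.S1050.result _ (by simp))).1
  refine (CfsgLib.ChevOrth.fitsD4 F).iso (a₀ := Sum.inl 0)
    (edges := [(.inl 0, .inl 1), (.inl 0, .inl 2), (.inl 0, .inl 3), (.inl 0, .inr 1), (.inl 0, .inr 2),
      (.inl 0, .inr 3), (.inl 1, .inr 0)])
    (by decide +kernel) (by decide +kernel) (r₀ := ⟨0, by decide⟩) (j₀ := Sum.inr ⟨14, by decide⟩)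
    (x₀ := Sum.inr 2) (y₀ := Sum.inl 0) (by decide +kernel) hsim hperf
    (by show 2 ≤ 4; norm_num) fun r t => ⟨CfsgLib.Chev.X Cfsg.Lie.chevD4 r.val t, ?_⟩
  rw [CfsgLib.Chev.certD4.coe_X]
  simp [Cfsg.Lie.ChevalleyDatum.x, r.isLt]

end Cfsg.Agent.S1082
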