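import Cfsg.Statements.S4200
import Mathlib
import Cfsg.Agent.Lib.Elem.PrimaryParts

set_option autoImplicit false
set_option linter.style.haveILetI false
open Cfsg

namespace Cfsg.Agent.S4200

theorem pairs_eq {A B : Type*} [Finite A] [Finite B] (R : A → B → Prop) :
    Nat.card {p : A × B // R p.1 p.2} = ∑ᶠ a, Nat.card {b : B // R a b} := by
  classical
  haveI := Fintype.ofFinite A
  rw [finsum_eq_sum_of_fintype, ← Nat.card_sigma]
  exact Nat.card_congr (Equiv.subtypeProdEquivSigmaSubtype R)

/-- Let Y be a subgroup of the finite group X, of index m. Then the numbers of conjugacy classes satisfy k(Y) ≤ m·k(X) and k(X) ≤ m·k(Y), and the second inequality is strict unless Y is normal in X. -/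
theorem result {X : Type*} [Group X] [Finite X] (Y : Subgroup X) : Nat.card (ConjClasses Y) ≤ Y.index * Nat.card (ConjClasses X) ∧ Nat.card (ConjClasses X) ≤ Y.index * Nat.card (ConjClasses Y) ∧ (¬ Y.Normal → Nat.card (ConjClasses X) < Y.index * Nat.card (ConjClasses Y)) := by
  classical
  haveI := Fintype.ofFinite X
  haveI := Fintype.ofFinite Y
  set n := Y.index
  have hn : 0 < n := Nat.pos_of_ne_zero Subgroup.index_ne_zero_of_finite
  set C : X → Subgroup X := fun x => Subgroup.centralizer {x}
  have hC : ∀ x, Nat.card {b : X // Commute x b} = Nat.card ↥(C x) := fun x =>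
    Nat.card_congr (Equiv.subtypeEquivRight fun b =>
      (Subgroup.mem_centralizer_singleton_iff.trans ⟨fun h => h.symm, fun h => h.symm⟩).symm)
  have hCY : ∀ x, Nat.card {b : Y // Commute x (b : X)} = Nat.card ↥(Y.subgroupOf (C x)) := fun x =>
    Nat.card_congr
      { toFun := fun b => ⟨⟨b.1.1, Subgroup.mem_centralizer_singleton_iff.mpr b.2.symm⟩, b.1.2⟩
        invFun := fun b => ⟨⟨b.1.1, b.2⟩, (Subgroup.mem_centralizer_singleton_iff.mp b.1.2).symm⟩
        left_inv := fun b => rfl
        right_inv := fun b => rfl }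
  have hle : ∀ x, Nat.card {b : X // Commute x b} ≤ n * Nat.card {b : Y // Commute x (b : X)} := fun x => by
    rw [hC, hCY, ← Subgroup.index_mul_card (Y.subgroupOf (C x))]
    refine Nat.mul_le_mul_right _ ?_
    have h := Subgroup.relIndex_le_of_le_right (H := Y) (le_top : C x ≤ ⊤)
      (by rw [Subgroup.relIndex_top_right]; exact hn.ne')
    rwa [Subgroup.relIndex_top_right] at h
  have hXX : Nat.card (ConjClasses X) * Nat.card X = ∑ x : X, Nat.card {b : X // Commute x b} := by
    rw [← card_comm_eq_card_conjClasses_mul_card, pairs_eq, finsum_eq_sum_of_fintype]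
  have hYY : Nat.card (ConjClasses Y) * Nat.card Y = ∑ y : Y, Nat.card {b : Y // Commute (y : X) (b : X)} := by
    rw [← card_comm_eq_card_conjClasses_mul_card, pairs_eq, finsum_eq_sum_of_fintype]
    exact Finset.sum_congr rfl fun y _ => Nat.card_congr (Equiv.subtypeEquivRight fun b =>
      ⟨fun h => congrArg Subtype.val h, fun h => Subtype.ext h⟩)
  have hXY : ∑ x : X, Nat.card {b : Y // Commute x (b : X)} = ∑ y : Y, Nat.card {b : X // Commute (y : X) b} := by
    rw [← finsum_eq_sum_of_fintype, ← finsum_eq_sum_of_fintype, ← pairs_eq, ← pairs_eq]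
    exact Nat.card_congr
      { toFun := fun p => ⟨(p.1.2, p.1.1), p.2.symm⟩
        invFun := fun p => ⟨(p.1.2, p.1.1), p.2.symm⟩
        left_inv := fun p => rfl
        right_inv := fun p => rfl }
  have hcard : Nat.card X = n * Nat.card Y := (Subgroup.index_mul_card Y).symm
  have hYpos : 0 < Nat.card Y := Nat.card_pos
  have h2 : Nat.card (ConjClasses X) * Nat.card X ≤ n * ∑ y : Y, Nat.card {b : X // Commute (y : X) b} := by
    rw [hXX, ← hXY, Finset.mul_sum]
    exact Finset.sum_le_sum fun x _ => hle x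
  refine ⟨?_, ?_, fun hY => ?_⟩
  · refine Nat.le_of_mul_le_mul_right ?_ hYpos
    calc Nat.card (ConjClasses Y) * Nat.card Y
        = ∑ y : Y, Nat.card {b : Y // Commute (y : X) (b : X)} := hYY
      _ ≤ ∑ y : Y, Nat.card {b : X // Commute (y : X) b} := Finset.sum_le_sum fun y _ =>
          Nat.card_le_card_of_injective (fun b => ⟨(b.1 : X), b.2⟩)
            (fun b c h => Subtype.ext (Subtype.ext (congrArg Subtype.val h :)))
      _ = ∑ x : X, Nat.card {b : Y // Commute x (b : X)} := hXY.symm
      _ ≤ ∑ x : X, Nat.card {b : X // Commute x b} := Finset.sum_le_sum fun x _ =>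
          Nat.card_le_card_of_injective (fun b => ⟨(b.1 : X), b.2⟩)
            (fun b c h => Subtype.ext (Subtype.ext (congrArg Subtype.val h :)))
      _ = n * Nat.card (ConjClasses X) * Nat.card Y := by rw [← hXX, hcard]; ring
  · refine Nat.le_of_mul_le_mul_right ?_ (Nat.mul_pos hn hYpos)
    calc Nat.card (ConjClasses X) * (n * Nat.card Y)
        ≤ n * ∑ y : Y, Nat.card {b : X // Commute (y : X) b} := hcard ▸ h2
      _ ≤ n * ∑ y : Y, n * Nat.card {b : Y // Commute (y : X) (b : X)} :=
          Nat.mul_le_mul_left _ (Finset.sum_le_sum fun y _ => hle y)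
      _ = n * Nat.card (ConjClasses Y) * (n * Nat.card Y) := by rw [← Finset.mul_sum, ← hYY]; ring
  · obtain ⟨y, g, hgy⟩ : ∃ y : Y, ∃ g : X, g * y * g⁻¹ ∉ Y := by
      by_contra h
      push Not at h
      exact hY ⟨fun w hw g => h ⟨w, hw⟩ g⟩
    have hlt : Nat.card {b : X // Commute (y : X) b} < n * Nat.card {b : Y // Commute (y : X) (b : X)} := by
      refine lt_of_le_of_ne (hle y) fun heq => hgy ?_
      rw [hC, hCY, ← Subgroup.index_mul_card (Y.subgroupOf (C y))] at heq
      have hi : (Y.subgroupOf (C y)).index = n := Nat.eq_of_mul_eq_mul_right Nat.card_pos heq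
      let f : ↥(C y) ⧸ Y.subgroupOf (C y) → X ⧸ Y :=
        Quotient.map' Subtype.val fun a b h => by
          rw [QuotientGroup.leftRel_apply] at h ⊢
          exact h
      have hf : Function.Injective f := by
        intro a b
        induction a using QuotientGroup.induction_on with
        | _ a =>
          induction b using QuotientGroup.induction_on with
          | _ b =>
            intro h
            exact QuotientGroup.eq.mpr (QuotientGroup.eq.mp h :)
      obtain ⟨q, hq⟩ := (hf.bijective_of_nat_card_le (le_of_eq hi.symm)).2 (QuotientGroup.mk g⁻¹)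
      induction q using QuotientGroup.induction_on with
      | _ c =>
        have h1 : (c : X)⁻¹ * g⁻¹ ∈ Y := QuotientGroup.eq.mp hq
        have h3 : (c : X) * y = y * c := Subgroup.mem_centralizer_singleton_iff.mp c.2
        have h4 := Y.mul_mem (Y.mul_mem (Y.inv_mem h1) y.2) h1
        rwa [show ((c : X)⁻¹ * g⁻¹)⁻¹ * y * ((c : X)⁻¹ * g⁻¹) = g * y * g⁻¹ by
          calc ((c : X)⁻¹ * g⁻¹)⁻¹ * y * ((c : X)⁻¹ * g⁻¹) = g * ((c : X) * y) * (c : X)⁻¹ * g⁻¹ := by group
            _ = g * y * g⁻¹ := by rw [h3]; group] at h4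
    refine Nat.lt_of_mul_lt_mul_right (a := n * Nat.card Y) ?_
    calc Nat.card (ConjClasses X) * (n * Nat.card Y)
        ≤ n * ∑ y : Y, Nat.card {b : X // Commute (y : X) b} := hcard ▸ h2
      _ < n * ∑ y : Y, n * Nat.card {b : Y // Commute (y : X) (b : X)} :=
          Nat.mul_lt_mul_of_pos_left (Finset.sum_lt_sum (fun y _ => hle y) ⟨y, Finset.mem_univ _, hlt⟩) hn
      _ = n * Nat.card (ConjClasses Y) * (n * Nat.card Y) := by rw [← Finset.mul_sum, ← hYY]; ring

end Cfsg.Agent.S4200
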