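import Cfsg.Statements.S4201
import Mathlib

set_option autoImplicit false
open Cfsg

namespace Cfsg.Agent.S4201

/-- If N is a normal subgroup of the finite group X then k(X) ≤ k(N)·k(X ⧸ N), where k denotes the number of conjugacy classes. -/
theorem result {X : Type*} [Group X] [Finite X] (N : Subgroup X) [N.Normal] : Nat.card (ConjClasses X) ≤ Nat.card (ConjClasses N) * Nat.card (ConjClasses (X ⧸ N)) := by
  classical
  have := Fintype.ofFinite X
  have key : ∀ (x : X) (b : X ⧸ N),
      (Finset.univ.filter fun y : X => (y : X ⧸ N) = b ∧ Commute x y).card ≤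
        (Finset.univ.filter fun n : N => Commute x n).card := by
    intro x b
    rcases Finset.eq_empty_or_nonempty (Finset.univ.filter fun y : X => (y : X ⧸ N) = b ∧ Commute x y)
      with he | ⟨y₀, hy₀⟩
    · simp [he]
    simp only [Finset.mem_filter, Finset.mem_univ, true_and] at hy₀
    refine Finset.card_le_card_of_injOn (fun y => if h : y₀⁻¹ * y ∈ N then (⟨y₀⁻¹ * y, h⟩ : N) else 1)
      ?_ ?_
    · intro y hy
      simp only [Finset.coe_filter, Finset.mem_univ, true_and, Set.mem_ofPred_eq] at hy ⊢
      have h : y₀⁻¹ * y ∈ N := QuotientGroup.eq.mp (hy₀.1.trans hy.1.symm)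
      rw [dif_pos h]
      exact hy₀.2.inv_right.mul_right hy.2
    · intro y hy z hz e
      simp only [Finset.coe_filter, Finset.mem_univ, true_and, Set.mem_ofPred_eq] at hy hz
      simp only [dif_pos (QuotientGroup.eq.mp (hy₀.1.trans hy.1.symm) : y₀⁻¹ * y ∈ N),
        dif_pos (QuotientGroup.eq.mp (hy₀.1.trans hz.1.symm) : y₀⁻¹ * z ∈ N), Subtype.mk.injEq] at e
      exact mul_left_cancel e
  set B := (Finset.univ.filter fun p : N × N => Commute (p.1 : X) p.2).card with hB
  have hfib : ∀ p : (X ⧸ N) × (X ⧸ N),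
      (Finset.univ.filter fun q : X × X => ((q.1 : X ⧸ N), (q.2 : X ⧸ N)) = p ∧ Commute q.1 q.2).card ≤ B := by
    rintro ⟨a, b⟩
    have h1 : (Finset.univ.filter fun q : X × X => ((q.1 : X ⧸ N), (q.2 : X ⧸ N)) = (a, b) ∧ Commute q.1 q.2).card =
        ∑ x ∈ Finset.univ.filter (fun x : X => (x : X ⧸ N) = a),
          (Finset.univ.filter fun y : X => (y : X ⧸ N) = b ∧ Commute x y).card := by
      rw [← Finset.card_sigma]
      refine Finset.card_equiv (Equiv.sigmaEquivProd X X).symm fun q => ?_
      simp [Prod.ext_iff, and_assoc]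
    have h2 : ∑ x ∈ Finset.univ.filter (fun x : X => (x : X ⧸ N) = a),
          (Finset.univ.filter fun n : N => Commute x n).card =
        ∑ n : N, (Finset.univ.filter fun x : X => (x : X ⧸ N) = a ∧ Commute (n : X) x).card := by
      simp only [Finset.card_filter]
      rw [Finset.sum_comm]
      refine Finset.sum_congr rfl fun n _ => ?_
      rw [Finset.sum_filter]
      refine Finset.sum_congr rfl fun x _ => ?_
      by_cases hxa : (x : X ⧸ N) = a <;> simp [hxa, Commute.symm_iff (a := x)]
    rw [h1]
    refine (Finset.sum_le_sum fun x _ => key x b).trans ?_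
    rw [h2]
    refine (Finset.sum_le_sum (s := (Finset.univ : Finset N)) fun n _ => key (n : X) a).trans (le_of_eq ?_)
    rw [hB, ← Finset.card_sigma]
    refine Finset.card_equiv (Equiv.sigmaEquivProd N N) fun q => ?_
    simp
  have hN : B = Nat.card (ConjClasses N) * Nat.card N := by
    rw [hB, ← card_comm_eq_card_conjClasses_mul_card, Nat.card_eq_fintype_card, Fintype.card_subtype]
    congr 1
    ext p
    simp only [Finset.mem_filter, Finset.mem_univ, true_and]
    exact ⟨fun h => Subtype.ext h, fun h => congrArg Subtype.val h⟩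
  have hX : Nat.card (ConjClasses X) * Nat.card X ≤
      Nat.card (ConjClasses (X ⧸ N)) * Nat.card (X ⧸ N) * B := by
    rw [← card_comm_eq_card_conjClasses_mul_card, ← card_comm_eq_card_conjClasses_mul_card,
      Nat.card_eq_fintype_card, Nat.card_eq_fintype_card, Fintype.card_subtype, Fintype.card_subtype,
      Finset.card_eq_sum_card_fiberwise (f := fun q : X × X => ((q.1 : X ⧸ N), (q.2 : X ⧸ N)))
        (t := Finset.univ.filter fun p : (X ⧸ N) × (X ⧸ N) => Commute p.1 p.2) (fun q hq => by
          simp only [Finset.coe_filter, Finset.mem_univ, true_and, Set.mem_ofPred_eq] at hq ⊢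
          exact hq.map (QuotientGroup.mk' N))]
    refine Finset.sum_le_card_nsmul _ _ _ fun p _ => le_trans (Finset.card_le_card ?_) (hfib p)
    intro q hq
    simp only [Finset.mem_filter, Finset.mem_univ, true_and] at hq ⊢
    exact ⟨hq.2, hq.1⟩
  rw [hN, Subgroup.card_eq_card_quotient_mul_card_subgroup N] at hX
  refine Nat.le_of_mul_le_mul_right (c := Nat.card (X ⧸ N) * Nat.card N) (hX.trans (le_of_eq ?_))
    (Nat.mul_pos Nat.card_pos Nat.card_pos)
  ring

end Cfsg.Agent.S4201
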