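import Cfsg.Statements.S2507
import Cfsg.Agent.Lib.SL2.PSL

set_option autoImplicit false
open Cfsg

namespace Cfsg.Agent.S2507

/-- Let F be a finite field with q = 2^f ≥ 4 elements. The conjugacy class sizes of PSL(2,F) are exactly 1, q(q − 1), q² − 1 and q(q + 1). -/
theorem result {F : Type*} [Field F] [Fintype F]
    (h2 : 2 ∣ Fintype.card F) (h4 : 4 ≤ Fintype.card F) :
    Set.range (fun g : (Matrix.ProjectiveSpecialLinearGroup (Fin 2) F) => (Subgroup.centralizer ({g} : Set (Matrix.ProjectiveSpecialLinearGroup (Fin 2) F))).index) =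
      {1, Fintype.card F * (Fintype.card F - 1), Fintype.card F ^ 2 - 1, Fintype.card F * (Fintype.card F + 1)} := by
  classical
  set q := Fintype.card F with hq
  have hF : Nat.card F = q := Nat.card_eq_fintype_card
  have hchar : ringChar F = 2 := by
    by_contra h
    have := FiniteField.odd_card_of_char_ne_two h
    omega
  have : CharP F 2 := ringChar.of_eq hchar
  have h20 : (2 : F) = 0 := CharTwo.two_eq_zero
  have hgcd : Nat.gcd 2 (q - 1) = 1 := by
    have h1 : ¬ 2 ∣ q - 1 := by omega
    exact (Nat.prime_two.coprime_iff_not_dvd).mpr h1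
  set P := Matrix.ProjectiveSpecialLinearGroup (Fin 2) F
  have hP : Nat.card P = q * ((q - 1) * (q + 1)) := by
    have h := CfsgLib.SL2.card_PSL (F := F)
    rwa [hF, hgcd, one_mul] at h
  have hidx : ∀ g : Matrix.SpecialLinearGroup (Fin 2) F,
      Nat.card (CfsgLib.SL2.cent g) * (Subgroup.centralizer ({CfsgLib.SL2.proj g} : Set P)).index =
        q * ((q - 1) * (q + 1)) := by
    intro g
    rw [← hP, ← Subgroup.card_mul_index (Subgroup.centralizer ({CfsgLib.SL2.proj g} : Set P)),
      CfsgLib.SL2.centralizer_proj_of_trace_ne (Or.inr h20)]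
    congr 1
    have h := CfsgLib.SL2.card_map_proj (CfsgLib.SL2.center_le_cent g)
    rw [hF, hgcd, one_mul] at h
    exact h.symm
  have hq0 : 0 < q := by omega
  have hsq : q ^ 2 - 1 = (q - 1) * (q + 1) := by
    rw [mul_comm, ← Nat.sq_sub_sq, one_pow]
  ext m
  constructor
  · rintro ⟨x, rfl⟩
    obtain ⟨g, rfl⟩ := CfsgLib.SL2.proj_surjective x
    simp only [Set.mem_insert_iff, Set.mem_singleton_iff]
    by_cases hn : CfsgLib.SL2.NonScalar (g : Matrix (Fin 2) (Fin 2) F)
    · by_cases hg : CfsgLib.SL2.Regular g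
      · rcases (CfsgLib.SL2.cent_regular hg).2 with e | e <;> rw [hF] at e
        · right; right; right
          refine Nat.eq_of_mul_eq_mul_left (show 0 < q - 1 by omega) ?_
          have h := hidx g
          rw [e] at h
          rw [h]; ring
        · right; left
          refine Nat.eq_of_mul_eq_mul_left (show 0 < q + 1 by omega) ?_
          have h := hidx g
          rw [e] at h
          rw [h]; ring
      · right; right; left
        refine Nat.eq_of_mul_eq_mul_left hq0 ?_
        have h := hidx g
        rw [CfsgLib.SL2.card_cent_unipotent hn hg, hF, hgcd, mul_one] at h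
        rw [h, hsq]
    · left
      rw [(CfsgLib.SL2.proj_eq_one_iff g).mpr ((CfsgLib.SL2.mem_center_iff_not_nonScalar g).mpr hn),
        Subgroup.index_eq_one, eq_top_iff]
      intro y _
      simp [Subgroup.mem_centralizer_iff]
  · simp only [Set.mem_insert_iff, Set.mem_singleton_iff, Set.mem_range]
    rintro (rfl | rfl | rfl | rfl)
    · refine ⟨1, ?_⟩
      rw [Subgroup.index_eq_one, eq_top_iff]
      intro y _
      simp [Subgroup.mem_centralizer_iff]
    · obtain ⟨g, -, -, e⟩ := CfsgLib.SL2.exists_regular_nonsplit (F := F)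
      rw [hF] at e
      refine ⟨CfsgLib.SL2.proj g, Nat.eq_of_mul_eq_mul_left (show 0 < q + 1 by omega) ?_⟩
      have h := hidx g
      rw [e] at h
      rw [h]; ring
    · refine ⟨CfsgLib.SL2.proj (CfsgLib.SL2.companion 2), Nat.eq_of_mul_eq_mul_left hq0 ?_⟩
      have hreg : ¬ CfsgLib.SL2.Regular (CfsgLib.SL2.companion (2 : F)) := by
        intro h
        apply h
        rw [CfsgLib.SL2.companion_trace]
        norm_num
      have h := hidx (CfsgLib.SL2.companion 2)
      rw [CfsgLib.SL2.card_cent_unipotent (CfsgLib.SL2.companion_nonScalar _) hreg, hF, hgcd, mul_one] at h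
      rw [h, hsq]
    · obtain ⟨g, -, -, e⟩ := CfsgLib.SL2.exists_regular_split (F := F) (by omega)
      rw [hF] at e
      refine ⟨CfsgLib.SL2.proj g, Nat.eq_of_mul_eq_mul_left (show 0 < q - 1 by omega) ?_⟩
      have h := hidx g
      rw [e] at h
      rw [h]; ring

end Cfsg.Agent.S2507
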