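import Cfsg.Statements.S2508
import Cfsg.Agent.Lib.SL2.PSL

set_option autoImplicit false
open Cfsg

namespace Cfsg.Agent.S2508

/-- Let F be a finite field with q elements, q odd and q ≥ 7. If q ≡ 1 (mod 4) the conjugacy class sizes of PSL(2,F) are exactly 1, (q² − 1)/2, q(q + 1)/2, q(q − 1) and q(q + 1); if q ≡ 3 (mod 4) they are exactly 1, (q² − 1)/2, q(q − 1)/2, q(q + 1) and q(q − 1). -/
theorem result {F : Type*} [Field F] [Fintype F]
    (hodd : ¬ 2 ∣ Fintype.card F) (h7 : 7 ≤ Fintype.card F) :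
    (Fintype.card F % 4 = 1 →
      Set.range (fun g : (Matrix.ProjectiveSpecialLinearGroup (Fin 2) F) => (Subgroup.centralizer ({g} : Set (Matrix.ProjectiveSpecialLinearGroup (Fin 2) F))).index) =
        {1, (Fintype.card F ^ 2 - 1) / 2, Fintype.card F * (Fintype.card F + 1) / 2,
          Fintype.card F * (Fintype.card F - 1), Fintype.card F * (Fintype.card F + 1)}) ∧
    (Fintype.card F % 4 = 3 →
      Set.range (fun g : (Matrix.ProjectiveSpecialLinearGroup (Fin 2) F) => (Subgroup.centralizer ({g} : Set (Matrix.ProjectiveSpecialLinearGroup (Fin 2) F))).index) =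
        {1, (Fintype.card F ^ 2 - 1) / 2, Fintype.card F * (Fintype.card F - 1) / 2,
          Fintype.card F * (Fintype.card F + 1), Fintype.card F * (Fintype.card F - 1)}) := by
  classical
  set q := Fintype.card F with hq
  have hF : Nat.card F = q := Nat.card_eq_fintype_card
  have h20 : (2 : F) ≠ 0 := CfsgLib.SL2.odd_card_two_ne_zero (by rw [hF]; exact Nat.odd_iff.mpr (by omega))
  have hgcd : Nat.gcd 2 (q - 1) = 2 := Nat.gcd_eq_left (by omega)
  set P := Matrix.ProjectiveSpecialLinearGroup (Fin 2) F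
  have hP : 2 * Nat.card P = q * ((q - 1) * (q + 1)) := by
    have h := CfsgLib.SL2.card_PSL (F := F)
    rwa [hF, hgcd] at h
  have hidx1 : ∀ g : Matrix.SpecialLinearGroup (Fin 2) F, (g : Matrix (Fin 2) (Fin 2) F).trace ≠ 0 →
      Nat.card (CfsgLib.SL2.cent g) * (Subgroup.centralizer ({CfsgLib.SL2.proj g} : Set P)).index =
        q * ((q - 1) * (q + 1)) := by
    intro g hg
    rw [← hP, ← Subgroup.card_mul_index (Subgroup.centralizer ({CfsgLib.SL2.proj g} : Set P)),
      CfsgLib.SL2.centralizer_proj_of_trace_ne (Or.inl hg)]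
    have h := CfsgLib.SL2.card_map_proj (CfsgLib.SL2.center_le_cent g)
    rw [hF, hgcd] at h
    rw [← mul_assoc, h]
  have hidx0 : ∀ g : Matrix.SpecialLinearGroup (Fin 2) F, (g : Matrix (Fin 2) (Fin 2) F).trace = 0 →
      2 * Nat.card (CfsgLib.SL2.cent g) * (Subgroup.centralizer ({CfsgLib.SL2.proj g} : Set P)).index =
        q * ((q - 1) * (q + 1)) := by
    intro g hg
    rw [← hP, ← Subgroup.card_mul_index (Subgroup.centralizer ({CfsgLib.SL2.proj g} : Set P)),
      CfsgLib.SL2.centralizer_proj_of_trace_eq h20 hg]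
    have h := CfsgLib.SL2.card_map_proj
      ((CfsgLib.SL2.center_le_cent g).trans Subgroup.le_normalizer : _ ≤ Subgroup.normalizer (CfsgLib.SL2.cent g : Set (Matrix.SpecialLinearGroup (Fin 2) F)))
    rw [hF, hgcd] at h
    rw [← mul_assoc 2, h, CfsgLib.SL2.card_normalizer_cent (CfsgLib.SL2.regular_of_trace_zero h20 hg)]
  have hsq : q ^ 2 - 1 = (q - 1) * (q + 1) := by
    rw [mul_comm, ← Nat.sq_sub_sq, one_pow]
  obtain ⟨A, hA⟩ : 2 ∣ q * (q + 1) := Dvd.dvd.mul_left (by omega) q
  obtain ⟨B, hB⟩ : 2 ∣ q * (q - 1) := Dvd.dvd.mul_left (by omega) q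
  obtain ⟨C, hC⟩ : 2 ∣ (q - 1) * (q + 1) := Dvd.dvd.mul_left (by omega) (q - 1)
  have hdA : q * (q + 1) / 2 = A := by rw [hA]; omega
  have hdB : q * (q - 1) / 2 = B := by rw [hB]; omega
  have hdC : (q ^ 2 - 1) / 2 = C := by rw [hsq, hC]; omega
  -- the possible values
  have htr0 : ∀ g : Matrix.SpecialLinearGroup (Fin 2) F, (g : Matrix (Fin 2) (Fin 2) F).trace = 0 →
      (q % 4 = 1 → (Subgroup.centralizer ({CfsgLib.SL2.proj g} : Set P)).index = A) ∧
      (q % 4 = 3 → (Subgroup.centralizer ({CfsgLib.SL2.proj g} : Set P)).index = B) := by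
    intro g hg
    have hreg := CfsgLib.SL2.regular_of_trace_zero h20 hg
    constructor
    · intro h4
      obtain ⟨c, hc⟩ : IsSquare (-1 : F) := FiniteField.isSquare_neg_one_iff.mpr (by omega)
      have e := (CfsgLib.SL2.cent_split (c := c) (by rw [hg, ← hc]; ring) hreg).2
      have h := hidx0 g hg
      rw [e, hF] at h
      refine Nat.eq_of_mul_eq_mul_left (show 0 < 2 * (q - 1) by omega) ?_
      rw [h, mul_comm 2 (q - 1), mul_assoc, ← hA]; ring
    · intro h4
      have e := (CfsgLib.SL2.cent_nonsplit (g := g) (fun c hc => by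
        rw [hg, zero_mul, sub_zero] at hc
        exact FiniteField.isSquare_neg_one_iff.mp ⟨c, by linear_combination -hc⟩ h4)).2
      have h := hidx0 g hg
      rw [e, hF] at h
      refine Nat.eq_of_mul_eq_mul_left (show 0 < 2 * (q + 1) by omega) ?_
      rw [h, mul_comm 2 (q + 1), mul_assoc, ← hB]; ring
  have hunip : ∀ g : Matrix.SpecialLinearGroup (Fin 2) F, CfsgLib.SL2.NonScalar (g : Matrix (Fin 2) (Fin 2) F) →
      ¬ CfsgLib.SL2.Regular g → (Subgroup.centralizer ({CfsgLib.SL2.proj g} : Set P)).index = C := by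
    intro g hn hg
    have ht : (g : Matrix (Fin 2) (Fin 2) F).trace ≠ 0 := fun h => hg (CfsgLib.SL2.regular_of_trace_zero h20 h)
    have h := hidx1 g ht
    rw [CfsgLib.SL2.card_cent_unipotent hn hg, hF, hgcd] at h
    refine Nat.eq_of_mul_eq_mul_left (show 0 < q * 2 by omega) ?_
    rw [h, mul_assoc, ← hC]
  have hregs : ∀ g : Matrix.SpecialLinearGroup (Fin 2) F, CfsgLib.SL2.Regular g → (g : Matrix (Fin 2) (Fin 2) F).trace ≠ 0 →
      (Subgroup.centralizer ({CfsgLib.SL2.proj g} : Set P)).index = q * (q + 1) ∨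
      (Subgroup.centralizer ({CfsgLib.SL2.proj g} : Set P)).index = q * (q - 1) := by
    intro g hg ht
    have h := hidx1 g ht
    rcases (CfsgLib.SL2.cent_regular hg).2 with e | e <;> rw [e, hF] at h
    · left
      refine Nat.eq_of_mul_eq_mul_left (show 0 < q - 1 by omega) ?_
      rw [h]; ring
    · right
      refine Nat.eq_of_mul_eq_mul_left (show 0 < q + 1 by omega) ?_
      rw [h]; ring
  have hone : (Subgroup.centralizer ({(1 : P)} : Set P)).index = 1 := by
    rw [Subgroup.index_eq_one, eq_top_iff]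
    intro y _
    simp [Subgroup.mem_centralizer_iff]
  have hall : ∀ x : P, (Subgroup.centralizer ({x} : Set P)).index = 1 ∨
      (Subgroup.centralizer ({x} : Set P)).index = C ∨
      ((q % 4 = 1 → (Subgroup.centralizer ({x} : Set P)).index = A) ∧
       (q % 4 = 3 → (Subgroup.centralizer ({x} : Set P)).index = B)) ∨
      (Subgroup.centralizer ({x} : Set P)).index = q * (q + 1) ∨
      (Subgroup.centralizer ({x} : Set P)).index = q * (q - 1) := by
    intro x
    obtain ⟨g, rfl⟩ := CfsgLib.SL2.proj_surjective x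
    by_cases hn : CfsgLib.SL2.NonScalar (g : Matrix (Fin 2) (Fin 2) F)
    · by_cases hg : CfsgLib.SL2.Regular g
      · by_cases ht : (g : Matrix (Fin 2) (Fin 2) F).trace = 0
        · exact Or.inr (Or.inr (Or.inl (htr0 g ht)))
        · exact Or.inr (Or.inr (Or.inr (hregs g hg ht)))
      · exact Or.inr (Or.inl (hunip g hn hg))
    · left
      rw [(CfsgLib.SL2.proj_eq_one_iff g).mpr ((CfsgLib.SL2.mem_center_iff_not_nonScalar g).mpr hn)]
      exact hone
  -- all values occur
  have hex : (∃ x : P, (Subgroup.centralizer ({x} : Set P)).index = C) ∧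
      (∃ x : P, (q % 4 = 1 → (Subgroup.centralizer ({x} : Set P)).index = A) ∧
        (q % 4 = 3 → (Subgroup.centralizer ({x} : Set P)).index = B)) ∧
      (∃ x : P, (Subgroup.centralizer ({x} : Set P)).index = q * (q + 1)) ∧
      (∃ x : P, (Subgroup.centralizer ({x} : Set P)).index = q * (q - 1)) := by
    refine ⟨⟨CfsgLib.SL2.proj (CfsgLib.SL2.companion 2), hunip _ (CfsgLib.SL2.companion_nonScalar _) ?_⟩,
      ⟨CfsgLib.SL2.proj (CfsgLib.SL2.companion 0), htr0 _ (CfsgLib.SL2.companion_trace 0)⟩, ?_, ?_⟩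
    · intro h
      apply h
      rw [CfsgLib.SL2.companion_trace]
      norm_num
    all_goals
      have mk : ∀ g : Matrix.SpecialLinearGroup (Fin 2) F, CfsgLib.SL2.Regular g → IsCyclic (CfsgLib.SL2.cent g) →
          4 < Nat.card (CfsgLib.SL2.cent g) → ∃ y : Matrix.SpecialLinearGroup (Fin 2) F,
            (y : Matrix (Fin 2) (Fin 2) F).trace ≠ 0 ∧ CfsgLib.SL2.Regular y ∧
              Nat.card (CfsgLib.SL2.cent y) = Nat.card (CfsgLib.SL2.cent g) := by
        intro g hg hc hbig
        obtain ⟨y, hy⟩ := hc.exists_ofOrder_eq_natCard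
        rw [← Subgroup.orderOf_coe] at hy
        have hns : CfsgLib.SL2.NonScalar ((y : Matrix.SpecialLinearGroup (Fin 2) F) : Matrix (Fin 2) (Fin 2) F) := by
          by_contra hn
          have h2 : orderOf (y : Matrix.SpecialLinearGroup (Fin 2) F) ∣ 2 := by
            rcases CfsgLib.SL2.eq_one_or_eq_neg_one_of_mem_center _
              ((CfsgLib.SL2.mem_center_iff_not_nonScalar _).mpr hn) with h | h <;> rw [h]
            · rw [orderOf_one]; exact one_dvd 2
            · rw [CfsgLib.SL2.orderOf_neg_one h20]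
          have := Nat.le_of_dvd two_pos h2
          omega
        have hc' := CfsgLib.SL2.cent_eq_of_mem hg.nonScalar hns y.2
        have ht : ((y : Matrix.SpecialLinearGroup (Fin 2) F) : Matrix (Fin 2) (Fin 2) F).trace ≠ 0 := by
          intro h
          have := CfsgLib.SL2.orderOf_of_mul_self h20 (CfsgLib.SL2.mul_self_eq_neg_one_of_trace h)
          omega
        refine ⟨y, ht, ?_, by rw [hc']⟩
        by_contra hreg
        have e := CfsgLib.SL2.card_cent_unipotent hns hreg
        rw [hc', hF, hgcd] at e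
        rcases (CfsgLib.SL2.cent_regular hg).2 with e' | e' <;> rw [e', hF] at e <;> omega
    · obtain ⟨g, hg, hc, e⟩ := CfsgLib.SL2.exists_regular_split (F := F) (by omega)
      obtain ⟨y, ht, -, hy⟩ := mk g hg hc (by rw [e, hF]; omega)
      refine ⟨CfsgLib.SL2.proj y, Nat.eq_of_mul_eq_mul_left (show 0 < q - 1 by omega) ?_⟩
      have h := hidx1 y ht
      rw [hy, e, hF] at h
      rw [h]; ring
    · obtain ⟨g, hg, hc, e⟩ := CfsgLib.SL2.exists_regular_nonsplit (F := F)
      obtain ⟨y, ht, -, hy⟩ := mk g hg hc (by rw [e, hF]; omega)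
      refine ⟨CfsgLib.SL2.proj y, Nat.eq_of_mul_eq_mul_left (show 0 < q + 1 by omega) ?_⟩
      have h := hidx1 y ht
      rw [hy, e, hF] at h
      rw [h]; ring
  obtain ⟨⟨xC, exC⟩, ⟨x0, ex0⟩, ⟨xp, exp⟩, ⟨xm, exm⟩⟩ := hex
  rw [hdA, hdB, hdC]
  constructor <;> intro h4 <;> ext m <;>
    simp only [Set.mem_range, Set.mem_insert_iff, Set.mem_singleton_iff] <;> constructor
  · rintro ⟨x, rfl⟩
    rcases hall x with h | h | h | h | h
    · exact Or.inl h
    · exact Or.inr (Or.inl h)
    · exact Or.inr (Or.inr (Or.inl (h.1 h4)))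
    · exact Or.inr (Or.inr (Or.inr (Or.inr h)))
    · exact Or.inr (Or.inr (Or.inr (Or.inl h)))
  · rintro (rfl | rfl | rfl | rfl | rfl)
    exacts [⟨1, hone⟩, ⟨xC, exC⟩, ⟨x0, ex0.1 h4⟩, ⟨xm, exm⟩, ⟨xp, exp⟩]
  · rintro ⟨x, rfl⟩
    rcases hall x with h | h | h | h | h
    · exact Or.inl h
    · exact Or.inr (Or.inl h)
    · exact Or.inr (Or.inr (Or.inl (h.2 h4)))
    · exact Or.inr (Or.inr (Or.inr (Or.inl h)))
    · exact Or.inr (Or.inr (Or.inr (Or.inr h)))
  · rintro (rfl | rfl | rfl | rfl | rfl)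
    exacts [⟨1, hone⟩, ⟨xC, exC⟩, ⟨x0, ex0.2 h4⟩, ⟨xp, exp⟩, ⟨xm, exm⟩]

end Cfsg.Agent.S2508
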