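import Cfsg.Statements.S0563
import Cfsg.Agent.Lib.NilProduct.Solvable
-- import your own Cfsg.Agent.* helpers here

set_option autoImplicit false
open Pointwise
open Cfsg

namespace Cfsg.Agent.S0563


/-- If a finite group G is the product AB of two nilpotent subgroups of coprime orders, then G is solvable, and for every Sylow p-subgroup P of A and Sylow q-subgroup Q of B the product set PQ is a subgroup. -/
theorem result {G : Type*} [Group G] [Finite G] (A B : Subgroup G) (hA : Group.IsNilpotent A) (hB : Group.IsNilpotent B) (hcop : (Nat.card A).Coprime (Nat.card B)) (hAB : ∀ g : G, ∃ a ∈ A, ∃ b ∈ B, g = a * b) : Group.IsSolvable G ∧ ∀ (p q : ℕ) [Fact p.Prime] [Fact q.Prime] (P : Sylow p A) (Q : Sylow q B), ∃ S : Subgroup G, (S : Set G) = (((P : Subgroup A).map A.subtype : Subgroup G) : Set G) * (((Q : Subgroup B).map B.subtype : Subgroup G) : Set G) := by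
  haveI hsol : Group.IsSolvable G := CfsgLib.NilProduct.isSolvable_of_coprime A B hA hB hcop hAB
  refine ⟨hsol, fun p q _ _ P Q => ?_⟩
  have hinf : A ⊓ B = ⊥ := Subgroup.inf_eq_bot_of_coprime hcop
  have hc : A.IsComplement' B := Subgroup.isComplement'_of_disjoint_and_mul_eq_univ
    (disjoint_iff.mpr hinf) (Set.eq_univ_of_forall fun g => by
      obtain ⟨a, ha, b, hb, rfl⟩ := hAB g
      exact Set.mul_mem_mul ha hb)
  have key : ∀ (C : Subgroup G) (r : ℕ) [Fact r.Prime], Group.IsNilpotent C →
      (Nat.card C).Coprime C.index → ∀ R : Sylow r C,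
      (((R : Subgroup C).map C.subtype).subgroupOf C).Normal ∧
        (Nat.card ((R : Subgroup C).map C.subtype)).Coprime ((R : Subgroup C).map C.subtype).index := by
    intro C r _ hC hCc R
    haveI := hC
    refine ⟨?_, ?_⟩
    · rw [Subgroup.subgroupOf, Subgroup.comap_map_eq_self_of_injective C.subtype_injective]
      exact CfsgLib.Transfer.sylow_normal_of_isNilpotent R
    · rw [Subgroup.card_map_of_injective C.subtype_injective, Subgroup.index_map_subtype]
      exact Nat.Coprime.mul_right R.card_coprime_index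
        (hCc.coprime_dvd_left (R : Subgroup C).card_subgroup_dvd_card)
  obtain ⟨hPn, hPc⟩ := key A p hA (by rw [hc.symm.index_eq_card]; exact hcop) P
  obtain ⟨hQn, hQc⟩ := key B q hB (by rw [hc.index_eq_card]; exact hcop.symm) Q
  obtain ⟨S, hS⟩ := Cfsg.Agent.S0561.result A B ((P : Subgroup A).map A.subtype)
    ((Q : Subgroup B).map B.subtype) hAB (Subgroup.map_subtype_le _) hPn (Subgroup.map_subtype_le _) hQn
    hPc hQc 1 1
  rw [map_one, one_smul, one_smul] at hS
  exact ⟨S, hS⟩

end Cfsg.Agent.S0563
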