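import Cfsg.Statements.S4037
import Cfsg.Agent.Lib.Blocks.Kazarin

set_option linter.style.haveILetI false

set_option autoImplicit false
open Cfsg

namespace Cfsg.Agent.S4037

/-- If an element x of a finite group G has a conjugacy class of prime-power size, then the normal closure of x in G (the subgroup generated by the conjugacy class of x) is solvable. -/
theorem result {G : Type*} [Group G] [Finite G]
    (x : G) {p : ℕ} (hp : p.Prime) (k : ℕ) (hx : (ConjClasses.mk x).carrier.ncard = p ^ k) :
    Group.IsSolvable ↥(Subgroup.normalClosure ({x} : Set G)) := by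
  haveI := Fact.mk hp
  haveI := CfsgLib.Fitting.pCore_normal (G := G) p
  have hidx : (Subgroup.centralizer ({x} : Set G)).index = p ^ k := by
    rw [CfsgLib.Blocks.index_centralizer_eq_card, ← hx, ← Nat.card_coe_set_eq]
    exact Nat.card_congr (Equiv.subtypeEquivRight fun u => by
      rw [ConjClasses.mem_carrier_iff_mk_eq, ConjClasses.mk_eq_mk_iff_isConj]
      exact isConj_comm)
  obtain ⟨A, hA, hmem⟩ := CfsgLib.Blocks.Kazarin.exists_abelian_mod_pCore x hidx
  set N := Subgroup.normalClosure ({x} : Set G)
  have hle : N ≤ A.comap (QuotientGroup.mk' (Cfsg.pCore p G)) := by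
    refine (Subgroup.closure_le _).mpr fun u hu => ?_
    obtain ⟨b, hb, hc⟩ := Group.mem_conjugatesOfSet_iff.mp hu
    rw [Set.mem_singleton_iff] at hb
    subst hb
    obtain ⟨c, rfl⟩ := isConj_iff.mp hc
    exact hmem c
  let φ : N →* A := ((QuotientGroup.mk' (Cfsg.pCore p G)).comp N.subtype).codRestrict A
    fun u => hle u.2
  haveI hAs : Group.IsSolvable A :=
    Group.isSolvable_of_comm fun u v => Subtype.ext (hA _ u.2 _ v.2)
  haveI hker : Group.IsSolvable φ.ker := by
    have hk : IsPGroup p φ.ker := by
      refine ((CfsgLib.Fitting.pCore_isPGroup (G := G) p).comap_of_injective N.subtype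
        N.subtype_injective).to_le fun u hu => ?_
      exact (QuotientGroup.eq_one_iff (u : G)).mp (congrArg Subtype.val hu)
    haveI := hk.isNilpotent
    infer_instance
  exact Group.isSolvable_of_ker_le_range φ.ker.subtype φ (by rw [Subgroup.range_subtype])

end Cfsg.Agent.S4037
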