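import Cfsg.Statements.S0016
import Cfsg.Agent.Lib.ZStar.Recognize

set_option autoImplicit false
open Cfsg

namespace Cfsg.Agent.S0016

/-- A finite p-group in which only one subgroup has order p is either cyclic or (with p = 2) isomorphic to a generalized quaternion group. -/
theorem result {G : Type*} [Group G] [Finite G] (p : ℕ) [Fact p.Prime]
    (hG : IsPGroup p G) (huniq : ∀ H K : Subgroup G, Nat.card H = p → Nat.card K = p → H = K) :
    IsCyclic G ∨ (p = 2 ∧ ∃ n : ℕ, Nonempty (G ≃* QuaternionGroup (2 ^ n))) := by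
  by_cases hp : p = 2
  · subst hp
    refine (CfsgLib.ZStar.cyclic_or_quaternion hG fun x y hx hy => ?_).imp id fun h => ⟨rfl, h⟩
    have h := huniq (Subgroup.zpowers x) (Subgroup.zpowers y) (by rw [Nat.card_zpowers, hx])
      (by rw [Nat.card_zpowers, hy])
    obtain ⟨k, rfl⟩ := Subgroup.mem_zpowers_iff.mp (h.ge (Subgroup.mem_zpowers y))
    rcases Int.even_or_odd' k with ⟨j, rfl | rfl⟩
    · exfalso
      rw [zpow_mul, show x ^ (2 : ℤ) = 1 by rw [show (2 : ℤ) = ((2 : ℕ) : ℤ) from rfl, zpow_natCast, ← hx, pow_orderOf_eq_one], one_zpow,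
        orderOf_one] at hy
      omega
    · rw [zpow_add_one, zpow_mul, show x ^ (2 : ℤ) = 1 by rw [show (2 : ℤ) = ((2 : ℕ) : ℤ) from rfl, zpow_natCast, ← hx, pow_orderOf_eq_one],
        one_zpow, one_mul]
  · exact Or.inl (CfsgLib.ZStar.cyclic_of_unique_subgroup hp hG huniq)
end Cfsg.Agent.S0016
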