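import Cfsg.Statements.S0201
import Cfsg.Agent.Lib.ZStar.Main

set_option autoImplicit false
open Cfsg

namespace Cfsg.Agent.S0201

theorem quaternion_involution {m : ℕ} [NeZero m] (x : QuaternionGroup m) (hx : orderOf x = 2) :
    x = QuaternionGroup.a (m : ZMod (2 * m)) := by
  rcases x with i | i
  · rw [QuaternionGroup.orderOf_a] at hx
    congr 1
    have hv := i.val_lt
    have hd := Nat.gcd_dvd_left (2 * m) i.val
    have hd' := Nat.gcd_dvd_right (2 * m) i.val
    obtain ⟨q, hq⟩ := hd
    have hg : Nat.gcd (2 * m) i.val = m := by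
      have h1 := Nat.div_mul_cancel (Nat.gcd_dvd_left (2 * m) i.val)
      rw [hx] at h1
      omega
    rw [hg] at hd'
    obtain ⟨r, hr⟩ := hd'
    rw [← ZMod.natCast_zmod_val i]
    congr 1
    rcases r with _ | _ | r
    · exfalso
      rw [show i.val = 0 by simpa using hr, Nat.gcd_zero_right] at hg
      have := NeZero.ne m
      omega
    · simpa using hr
    · nlinarith
  · rw [QuaternionGroup.orderOf_xa] at hx
    omega

theorem quaternion_center {m : ℕ} [NeZero m] (hm : 2 ≤ m) (x : QuaternionGroup m)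
    (h : ∀ y, x * y = y * x) : x = 1 ∨ orderOf x = 2 := by
  rcases x with i | i
  · have h1 := h (QuaternionGroup.xa 0)
    rw [QuaternionGroup.a_mul_xa, QuaternionGroup.xa_mul_a] at h1
    injection h1 with h2
    by_cases h0 : QuaternionGroup.a i = (1 : QuaternionGroup m)
    · exact Or.inl h0
    · refine Or.inr (CfsgLib.Invol.orderOf_two_of_mul_self ?_ h0)
      rw [QuaternionGroup.a_mul_a, show i + i = 0 by linear_combination -h2]
      rfl
  · exfalso
    have h1 := h (QuaternionGroup.a 1)
    rw [QuaternionGroup.xa_mul_a, QuaternionGroup.a_mul_xa] at h1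
    injection h1 with h2
    have h3 : ((2 : ℕ) : ZMod (2 * m)) = 0 := by push_cast; linear_combination h2
    rw [ZMod.natCast_eq_zero_iff] at h3
    have := Nat.le_of_dvd two_pos h3
    omega

/-- Brauer–Suzuki Theorem: if a Sylow 2-subgroup of a finite group is generalized quaternion (of order at least 8) and the group has no nontrivial normal subgroup of odd order, then its centre has order 2. -/
theorem result {G : Type*} [Group G] [Finite G] (S : Sylow 2 G) (n : ℕ) (e : (S : Subgroup G) ≃* QuaternionGroup (2 ^ (n + 1))) (hO : ∀ N : Subgroup G, N.Normal → Odd (Nat.card N) → N = ⊥) : Nat.card (Subgroup.center G) = 2 := by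
  classical
  set m := 2 ^ (n + 1) with hmdef
  have hm : 2 ≤ m := by
    rw [hmdef, pow_succ]
    have := Nat.two_pow_pos n
    omega
  have : NeZero m := ⟨by omega⟩
  set a : QuaternionGroup m := QuaternionGroup.a (m : ZMod (2 * m))
  have ha : orderOf a = 2 := by
    rw [QuaternionGroup.orderOf_a, ZMod.val_natCast_of_lt (by omega),
      Nat.gcd_eq_right ⟨2, by ring⟩, Nat.mul_div_cancel _ (by omega)]
  set u : G := ((e.symm a : (S : Subgroup G)) : G) with hudef
  have hu : orderOf u = 2 := by
    rw [hudef, Subgroup.orderOf_coe, MulEquiv.orderOf_eq, ha]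
  have huniq : ∀ x ∈ (S : Subgroup G), orderOf x = 2 → x = u := by
    intro x hx hx2
    have h := quaternion_involution (e ⟨x, hx⟩) (by rw [MulEquiv.orderOf_eq, ← Subgroup.orderOf_coe]; exact hx2)
    rw [hudef, show a = e ⟨x, hx⟩ from h.symm, e.symm_apply_apply]
  have hiso : ∀ g : G, g * u * g⁻¹ ∈ S → g * u * g⁻¹ = u := fun g hg =>
    huniq _ hg (CfsgLib.Invol.conj_orderOf_two hu g)
  have hO' : Cfsg.pPrimeCore 2 G = ⊥ :=
    hO _ (CfsgLib.Transfer.pPrimeCore_normal 2 G) CfsgLib.ZStar.odd_card_core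
  have huc : ∀ g, Commute u g := CfsgLib.ZStar.commute_of_commutatorsInCore hO'
    (CfsgLib.ZStar.commutatorsInCore_of_isolated
      (CfsgLib.Invol.isolated_of_sylow S hu (e.symm a).2 hiso))
  have hcz : ∀ z ∈ Subgroup.center G, ∀ g, Commute z g := fun z hz g =>
    (Subgroup.mem_center_iff.mp hz g).symm
  have hnormal : ∀ z ∈ Subgroup.center G, (Subgroup.zpowers z).Normal := fun z hz =>
    ⟨fun x hx g => by
      obtain ⟨k, rfl⟩ := hx
      show g * z ^ k * g⁻¹ ∈ _
      rw [← ((hcz z hz g).zpow_left k).eq, mul_inv_cancel_right]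
      exact ⟨k, rfl⟩⟩
  suffices h : Subgroup.center G = Subgroup.zpowers u by rw [h, Nat.card_zpowers, hu]
  refine le_antisymm (fun z hz => ?_)
    (Subgroup.zpowers_le.mpr (Subgroup.mem_center_iff.mpr fun g => (huc g).eq.symm))
  obtain ⟨k, j, hj, -, hq, -⟩ := CfsgLib.Transfer.exists_pow_coprime_part (p := 2) z
  have h1 : z ^ 2 ^ k = 1 := by
    have h := hO _ (hnormal _ (pow_mem hz (2 ^ k)))
      (by rw [Nat.card_zpowers]; exact Nat.coprime_two_right.mp hq)
    rwa [Subgroup.zpowers_eq_bot] at h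
  obtain ⟨r, -, hr⟩ := (Nat.dvd_prime_pow Nat.prime_two).mp (orderOf_dvd_of_pow_eq_one h1)
  have := hnormal z hz
  have hzS : z ∈ (S : Subgroup G) := by
    rw [← S.is_maximal' ((CfsgLib.Transfer.isPGroup_zpowers ⟨r, hr⟩).to_sup_of_normal_left S.2)
      le_sup_right]
    exact Subgroup.mem_sup_left (Subgroup.mem_zpowers z)
  rcases quaternion_center hm (e ⟨z, hzS⟩) (fun y => by
    obtain ⟨w, rfl⟩ := e.surjective y
    rw [← map_mul, ← map_mul]
    exact congrArg e (Subtype.ext (hcz z hz (w : G)).eq)) with h | h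
  · have : z = 1 := congrArg Subtype.val ((map_eq_one_iff e e.injective).mp h)
    rw [this]
    exact one_mem _
  · rw [huniq z hzS (by rwa [MulEquiv.orderOf_eq, ← Subgroup.orderOf_coe] at h)]
    exact Subgroup.mem_zpowers u

end Cfsg.Agent.S0201
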