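import Cfsg.Statements.S0581
import Cfsg.Agent.Lib.Schmidt.Solvable
import Cfsg.Agent.Lib.Fitting.Basic

set_option autoImplicit false
set_option linter.style.haveILetI false
open Pointwise
open Cfsg

namespace Cfsg.Agent.S0581

open scoped Pointwise commutatorElement

universe u

variable {G : Type u} [Group G]

/-- A nontrivial finite solvable group has a normal subgroup of prime index. -/
theorem exists_normal_prime_card {K : Type*} [Group K] [Finite K] [Nontrivial K]
    (hK : Group.IsSolvable K) : ∃ M : Subgroup K, M.Normal ∧ M ≠ ⊤ ∧ ∃ p : ℕ, p.Prime ∧ M.index = p := by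
  haveI := hK
  obtain ⟨M, hM, hcM⟩ := (IsCoatomic.eq_top_or_exists_le_coatom (commutator K)).resolve_left
    (Group.IsSolvable.commutator_lt_top_of_nontrivial K).ne
  haveI : M.Normal := ⟨fun m hm g => by
    rw [show g * m * g⁻¹ = ⁅g, m⁆ * m by rw [commutatorElement_def]; group]
    exact M.mul_mem (hcM (Subgroup.commutator_mem_commutator (Subgroup.mem_top g) (Subgroup.mem_top m))) hm⟩
  have hidx : M.index ≠ 1 := fun e => hM.1 (Subgroup.index_eq_one.mp e)
  obtain ⟨p, hp, hdvd⟩ := Nat.exists_prime_and_dvd hidx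
  haveI : Fact p.Prime := ⟨hp⟩
  obtain ⟨x, hx⟩ := exists_prime_orderOf_dvd_card' (G := K ⧸ M) p hdvd
  refine ⟨M, inferInstance, hM.1, p, hp, ?_⟩
  have hf := QuotientGroup.mk'_surjective M
  have h1 : (Subgroup.zpowers x).comap (QuotientGroup.mk' M) = ⊤ := by
    refine hM.2 _ (lt_of_le_of_ne ?_ fun e => ?_)
    · conv_lhs => rw [← QuotientGroup.ker_mk' M]
      exact Subgroup.ker_le_comap _ _
    · obtain ⟨y, rfl⟩ := hf x
      have hy : y ∈ M := by rw [e]; exact Subgroup.mem_zpowers _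
      have e1 : QuotientGroup.mk' M y = 1 := (QuotientGroup.eq_one_iff y).mpr hy
      rw [e1, orderOf_one] at hx
      exact hp.ne_one hx.symm
  have h2 : Subgroup.zpowers x = ⊤ := by
    rw [← Subgroup.map_comap_eq_self_of_surjective hf (Subgroup.zpowers x), h1,
      Subgroup.map_top_of_surjective _ hf]
  rw [← hx, ← Nat.card_zpowers, h2, Subgroup.card_top, Subgroup.index]

/-- The elements of order prime to p of a finite nilpotent group form a subgroup centralized by
the Sylow p-subgroup. -/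
theorem exists_pPrime_part {N : Type*} [Group N] [Finite N] [Group.IsNilpotent N] {p : ℕ}
    [Fact p.Prime] (P : Sylow p N) :
    ∃ T : Subgroup N, (∀ x : N, x ∈ T ↔ (orderOf x).Coprime p) ∧
      ∀ x ∈ T, ∀ y ∈ (P : Subgroup N), x * y = y * x := by
  haveI hP : (P : Subgroup N).Normal :=
    ((Group.isNilpotent_of_finite_tfae (G := N)).out 0 3 : Group.IsNilpotent N ↔
      ∀ (p : ℕ) (_hp : Fact p.Prime) (P : Sylow p N), (P : Subgroup N).Normal).mp inferInstance p
      inferInstance P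
  obtain ⟨T, hT⟩ := Subgroup.exists_right_complement'_of_coprime (Sylow.card_coprime_index P)
  have hTc : (Nat.card T).Coprime p := by
    rw [← hT.symm.index_eq_card]
    exact (Nat.coprime_comm.mp (((Fact.out : p.Prime).coprime_iff_not_dvd).mpr P.not_dvd_index))
  have hTi : T.index = Nat.card (P : Subgroup N) := hT.index_eq_card
  have hmem : ∀ x : N, x ∈ T ↔ (orderOf x).Coprime p := by
    refine fun x => ⟨fun hx => Nat.Coprime.coprime_dvd_left ?_ hTc, fun hx => ?_⟩
    · exact (Subgroup.orderOf_mk (a := x) (ha := hx)) ▸ orderOf_dvd_natCard (⟨x, hx⟩ : T)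
    · obtain ⟨a, ha⟩ := IsPGroup.iff_card.mp P.2
      have h1 := CfsgLib.Fitting.pow_index_mem_of_isNilpotent T x
      rw [hTi, ha] at h1
      obtain ⟨m, hm⟩ := exists_pow_eq_self_of_coprime (Nat.Coprime.pow_left a hx.symm)
      rw [← hm]
      exact T.pow_mem h1 m
  haveI : T.Normal := ⟨fun x hx g => by
    rw [hmem] at hx ⊢
    rwa [show g * x * g⁻¹ = MulAut.conj g x from rfl, MulEquiv.orderOf_eq]⟩
  exact ⟨T, hmem, fun x hx y hy => Subgroup.commute_of_normal_of_disjoint T P inferInstance hP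
    hT.symm.disjoint x y hx hy⟩

theorem main [Finite G] (H : Subgroup G) (hH : Group.IsNilpotent H)
    (hHall : (Nat.card H).Coprime H.index) (n : ℕ) :
    ∀ K : Subgroup G, Nat.card K = n → (∀ p : ℕ, p.Prime → p ∣ Nat.card K → p ∣ Nat.card H) →
      ∃ x : G, K ≤ MulAut.conj x • H := by
  induction n using Nat.strong_induction_on with
  | _ n IH =>
  intro K hn hπ
  haveI := hH
  rcases subsingleton_or_nontrivial K with hs | hs
  · exact ⟨1, (Subgroup.eq_bot_of_subsingleton K) ▸ bot_le⟩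
  have hsub : ∀ M : Subgroup K, M ≠ ⊤ → ∃ x : G, M.map K.subtype ≤ MulAut.conj x • H := by
    intro M hM
    refine IH _ ?_ _ rfl fun p hp hd => hπ p hp (hd.trans ?_)
    · rw [← hn, Subgroup.card_map_of_injective Subtype.val_injective]
      exact lt_of_le_of_ne (Nat.le_of_dvd Nat.card_pos M.card_subgroup_dvd_card)
        fun e => hM (Subgroup.eq_top_of_card_eq M e)
    · exact Subgroup.card_dvd_of_le (Subgroup.map_subtype_le M)
  have hK : Group.IsSolvable K := CfsgLib.Schmidt.isSolvable fun M hM => by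
    obtain ⟨x, hx⟩ := hsub M hM.1
    haveI : Group.IsNilpotent (MulAut.conj x • H : Subgroup G) :=
      Group.nilpotent_of_mulEquiv (Subgroup.equivSMul (MulAut.conj x) H)
    haveI : Group.IsNilpotent ((M.map K.subtype).subgroupOf (MulAut.conj x • H)) :=
      Subgroup.isNilpotent _
    haveI := Group.nilpotent_of_mulEquiv (Subgroup.subgroupOfEquivOfLe hx)
    exact Group.nilpotent_of_mulEquiv
      (M.equivMapOfInjective K.subtype Subtype.val_injective).symm
  obtain ⟨M, hMn, hMt, p, hp, hMi⟩ := exists_normal_prime_card hK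
  haveI : Fact p.Prime := ⟨hp⟩
  obtain ⟨x, hx⟩ := hsub M hMt
  -- conjugate so that `M` lies in `H`
  suffices h : ∃ y : G, MulAut.conj x⁻¹ • K ≤ MulAut.conj y • H by
    obtain ⟨y, hy⟩ := h
    refine ⟨x * y, ?_⟩
    rw [map_mul, mul_smul, Subgroup.subset_pointwise_smul_iff, ← map_inv]
    exact hy
  have hMH : ∀ m : K, m ∈ M → x⁻¹ * (m : G) * x ∈ H := fun m hm =>
    CfsgLib.FrobCompl.mem_conj_smul.mp (hx (Subgroup.mem_map_of_mem _ hm))
  have hpH : p ∣ Nat.card H := hπ p hp (hMi ▸ M.index_dvd_card)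
  obtain ⟨P⟩ := (inferInstance : Nonempty (Sylow p H))
  obtain ⟨T, hTmem, hTP⟩ := exists_pPrime_part P
  set K' : Subgroup G := MulAut.conj x⁻¹ • K with hK'
  -- the elements of order prime to `p` of the conjugate of `M`
  set Q : Subgroup G := (MulAut.conj x⁻¹ • M.map K.subtype) ⊓ T.map H.subtype with hQ
  have hQmem : ∀ y : G, y ∈ Q ↔ y ∈ MulAut.conj x⁻¹ • M.map K.subtype ∧ (orderOf y).Coprime p := by
    intro y
    refine ⟨fun hy => ⟨hy.1, ?_⟩, fun hy => ⟨hy.1, ?_⟩⟩
    · obtain ⟨t, ht, rfl⟩ := hy.2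
      rw [Subgroup.coe_subtype, Subgroup.orderOf_coe]
      exact (hTmem t).mp ht
    · obtain ⟨m, hm, hmy⟩ := CfsgLib.FrobCompl.mem_conj_smul.mp hy.1
      have hyH : y ∈ H := by
        have h1 := hMH m hm
        rw [show (m : G) = x⁻¹⁻¹ * y * x⁻¹ from hmy] at h1
        simpa [mul_assoc] using h1
      exact ⟨⟨y, hyH⟩, (hTmem _).mpr (by rw [← Subgroup.orderOf_coe]; exact hy.2), rfl⟩
  set N := Subgroup.normalizer (Q : Set G)
  have hKN : K' ≤ N := by
    intro k hk
    have hconj : ∀ g : G, g ∈ K' → ∀ y ∈ Q, g * y * g⁻¹ ∈ Q := by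
      intro g hg y hy
      rw [hQmem] at hy ⊢
      refine ⟨?_, by rw [show g * y * g⁻¹ = MulAut.conj g y from rfl, MulEquiv.orderOf_eq]; exact hy.2⟩
      rw [CfsgLib.FrobCompl.mem_conj_smul] at hy ⊢
      obtain ⟨⟨m, hm, hmy⟩, -⟩ := hy
      have hg' : x⁻¹⁻¹ * g * x⁻¹ ∈ K := CfsgLib.FrobCompl.mem_conj_smul.mp hg
      refine ⟨(⟨_, hg'⟩ : K) * m * (⟨_, hg'⟩ : K)⁻¹, hMn.conj_mem m hm _, ?_⟩
      rw [map_mul, map_mul, map_inv, hmy]
      simp [mul_assoc]
    rw [Subgroup.mem_normalizer_iff]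
    refine fun y => ⟨hconj k hk y, fun hy => ?_⟩
    have h1 := hconj k⁻¹ (K'.inv_mem hk) _ hy
    simpa [mul_assoc] using h1
  -- a Sylow subgroup of `G` inside `N`
  set Hp : Subgroup G := (P : Subgroup H).map H.subtype with hHp
  have hHpN : Hp ≤ N := by
    refine le_trans ?_ (Subgroup.centralizer_le_normalizer _)
    rintro _ ⟨y, hy, rfl⟩
    rw [Subgroup.mem_centralizer_iff]
    rintro z ⟨-, t, ht, rfl⟩
    exact congrArg Subtype.val (hTP t ht y hy)
  have hndvd : ¬ p ∣ Hp.index := by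
    rw [hHp, Subgroup.index_map_subtype]
    exact fun hd => (hp.dvd_mul.mp hd).elim P.not_dvd_index fun h2 =>
      hp.ne_one (Nat.eq_one_of_dvd_coprimes hHall hpH h2)
  let SN : Sylow p N := IsPGroup.toSylow
    (show IsPGroup p (Hp.subgroupOf N) from
      (P.2.map H.subtype).of_equiv (Subgroup.subgroupOfEquivOfLe hHpN).symm)
    (fun hd => hndvd (hd.trans (Subgroup.relIndex_dvd_index_of_le hHpN)))
  obtain ⟨PK⟩ := (inferInstance : Nonempty (Sylow p K'))
  obtain ⟨R, hR⟩ := (PK.2.map (Subgroup.inclusion hKN)).exists_le_sylow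
  obtain ⟨g, hg⟩ := MulAction.exists_smul_eq N SN R
  refine ⟨(g : G), ?_⟩
  set X : Subgroup G := MulAut.conj (g : G) • H
  rw [← Subgroup.subgroupOf_eq_top, ← Subgroup.index_eq_one]
  by_contra hne
  obtain ⟨q, hq, hqd⟩ := Nat.exists_prime_and_dvd hne
  haveI : Fact q.Prime := ⟨hq⟩
  by_cases hqp : q = p
  · rw [hqp] at hqd
    have hle : (PK : Subgroup K') ≤ X.subgroupOf K' := by
      intro k hk
      have h1 : Subgroup.inclusion hKN k ∈ ((R : Sylow p N) : Subgroup N) :=
        hR (Subgroup.mem_map_of_mem _ hk)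
      rw [← hg, Sylow.coe_subgroup_smul, Subgroup.mem_pointwise_smul_iff_inv_smul_mem] at h1
      rw [Subgroup.mem_subgroupOf, CfsgLib.FrobCompl.mem_conj_smul]
      have h2 : g⁻¹ * Subgroup.inclusion hKN k * g ∈ Hp.subgroupOf N := by
        simp [MulAut.smul_def, SN] at h1
        exact h1
      exact Subgroup.map_subtype_le _ (Subgroup.mem_subgroupOf.mp h2)
    exact PK.not_dvd_index (hqd.trans (Subgroup.index_dvd_of_le hle))
  · obtain ⟨S⟩ := (inferInstance : Nonempty (Sylow q K'))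
    have hle : (S : Subgroup K') ≤ X.subgroupOf K' := by
      intro s hs
      obtain ⟨j, hj⟩ := S.2 ⟨s, hs⟩
      have hj' : s ^ q ^ j = 1 := congrArg Subtype.val hj
      have hjG : (s : G) ^ q ^ j = 1 := congrArg Subtype.val hj'
      have hcop : (orderOf (s : G)).Coprime p :=
        ((Nat.coprime_primes hq hp).mpr hqp).pow_left j |>.coprime_dvd_left (orderOf_dvd_of_pow_eq_one hjG)
      have hsK : x⁻¹⁻¹ * (s : G) * x⁻¹ ∈ K := CfsgLib.FrobCompl.mem_conj_smul.mp s.2
      have hsM : (⟨_, hsK⟩ : K) ∈ M := by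
        haveI := hMn
        set k : K := ⟨_, hsK⟩
        have h1 : (k : K ⧸ M) ^ p = 1 := by
          rw [← hMi, Subgroup.index, pow_card_eq_one']
        have h2 : orderOf (k : K ⧸ M) ∣ orderOf (s : G) := by
          refine (orderOf_map_dvd (QuotientGroup.mk' M) k).trans (dvd_of_eq ?_)
          rw [← Subgroup.orderOf_coe k]
          show orderOf (x⁻¹⁻¹ * (s : G) * x⁻¹) = _
          rw [inv_inv]
          exact MulEquiv.orderOf_eq (MulAut.conj x) (s : G)
        have h3 : orderOf (k : K ⧸ M) = 1 := Nat.eq_one_of_dvd_coprimes hcop h2 (orderOf_dvd_of_pow_eq_one h1)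
        exact (QuotientGroup.eq_one_iff k).mp (orderOf_eq_one_iff.mp h3)
      have hsQ : (s : G) ∈ Q := (hQmem _).mpr
        ⟨CfsgLib.FrobCompl.mem_conj_smul.mpr ⟨⟨_, hsK⟩, hsM, rfl⟩, hcop⟩
      rw [Subgroup.mem_subgroupOf, CfsgLib.FrobCompl.mem_conj_smul]
      have h4 := (Subgroup.mem_normalizer_iff'.mp g.2 ((g : G)⁻¹ * s)).mpr (by simpa [mul_assoc] using hsQ)
      exact Subgroup.map_subtype_le _ h4.2
    exact S.not_dvd_index (hqd.trans (Subgroup.index_dvd_of_le hle))

/-- Let H be a nilpotent subgroup of a finite group G whose order is coprime to its index, and K a subgroup every prime divisor of whose order divides the order of H. Then K lies in some conjugate of H. -/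
theorem result {G : Type*} [Group G] [Finite G] (H K : Subgroup G) (hH : Group.IsNilpotent H) (hHall : (Nat.card H).Coprime H.index) (hK : ∀ p : ℕ, p.Prime → p ∣ Nat.card K → p ∣ Nat.card H) : ∃ x : G, K ≤ MulAut.conj x • H := by
  exact main H hH hHall _ K rfl hK

end Cfsg.Agent.S0581
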