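import Cfsg.Statements.S4034
import Cfsg.Agent.Lib.Char.Burnside
import Cfsg.Agent.Lib.Coprime.SchurZassenhaus
import Cfsg.Agent.Lib.Coprime.Action
import Cfsg.Agent.Lib.Fitting.Basic
import Cfsg.Agent.Lib.Transfer.Basic

set_option autoImplicit false
set_option linter.style.haveILetI false
set_option linter.deprecated false
set_option linter.unusedVariables false
set_option linter.unusedSectionVars false
open Cfsg
open scoped commutatorElement Pointwise

namespace Cfsg.Agent.S4034

universe u

variable {G : Type u} [Group G] [Finite G] {p : ℕ}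

theorem carrier_ncard (x : G) :
    (ConjClasses.mk x).carrier.ncard = (Subgroup.centralizer ({x} : Set G)).index := by
  have e : Nat.card (ConjAct G) = Nat.card G := rfl
  have h1 := Subgroup.card_mul_index (MulAction.stabilizer (ConjAct G) x)
  have h2 := Subgroup.card_mul_index (Subgroup.centralizer ({x} : Set G))
  rw [← Subgroup.nat_card_centralizer_nat_card_stabilizer, MulAction.index_stabilizer,
    ConjAct.orbit_eq_carrier_conjClasses, e, ← h2] at h1
  exact Nat.eq_of_mul_eq_mul_left Nat.card_pos h1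

theorem le_pPrimeCore_of_centralizer [Group.IsSolvable G] (hp : p.Prime)
    (hO : Cfsg.pCore p G = ⊥) :
    Subgroup.centralizer (Cfsg.pPrimeCore p G : Set G) ≤ Cfsg.pPrimeCore p G := by
  haveI := Fact.mk hp
  haveI := CfsgLib.Transfer.pPrimeCore_normal p G
  set M := Cfsg.pPrimeCore p G with hM
  set C := Subgroup.centralizer (M : Set G) with hC
  haveI : C.Normal := by rw [hC]; infer_instance
  -- by descending induction along the derived series
  obtain ⟨n, hn⟩ := (isSolvable_def G).mp inferInstance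
  have key : ∀ j, C ⊓ derivedSeries G (n - j) ≤ M := by
    intro j
    induction j with
    | zero => simp [hn]
    | succ j ih =>
      rcases le_or_gt n j with h | h
      · simpa [Nat.sub_eq_zero_of_le (Nat.le_succ_of_le h), Nat.sub_eq_zero_of_le h] using ih
      have he : n - j = n - (j + 1) + 1 := by omega
      set L := C ⊓ derivedSeries G (n - (j + 1)) with hL
      haveI := derivedSeries_normal G (n - (j + 1))
      haveI : L.Normal := by rw [hL]; infer_instance
      have hcomm : ∀ a b : L, ∀ c : L, ⁅a, b⁆ * c = c * ⁅a, b⁆ := by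
        intro a b c
        have h1 : ((⁅a, b⁆ : L) : G) ∈ M := by
          refine ih (Subgroup.mem_inf.mpr ⟨(⁅a, b⁆ : L).2.1, ?_⟩)
          rw [he, derivedSeries_succ]
          exact Subgroup.commutator_mem_commutator a.2.2 b.2.2
        exact Subtype.ext (c.2.1 _ h1)
      haveI : Group.IsNilpotent L := by
        refine (nilpotent_iff_lowerCentralSeries (G := L)).mpr ⟨2, ?_⟩
        rw [eq_bot_iff]
        intro x hx
        rw [show (2 : ℕ) = 1 + 1 from rfl] at hx
        simp only [Subgroup.lowerCentralSeries_succ, Subgroup.lowerCentralSeries_zero] at hx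
        revert hx
        suffices ⁅⁅(⊤ : Subgroup L), ⊤⁆, (⊤ : Subgroup L)⁆ = ⊥ from fun hx => this ▸ hx
        rw [Subgroup.commutator_eq_bot_iff_le_centralizer, Subgroup.commutator_le]
        intro a _ b _ c _
        exact (hcomm a b c).symm
      -- the Sylow p-subgroup of L is normal in G, hence trivial
      refine CfsgLib.Transfer.le_pPrimeCore inferInstance ?_
      rw [Nat.coprime_comm, hp.coprime_iff_not_dvd]
      intro hdvd
      obtain ⟨P⟩ := (inferInstance : Nonempty (Sylow p L))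
      haveI : (P : Subgroup L).Normal := P.normal_of_normalizerCondition Group.normalizerCondition_of_isNilpotent
      haveI : (P : Subgroup L).Characteristic := P.characteristic_of_normal inferInstance
      have h1 : (P : Subgroup L).map L.subtype ≤ ⊥ :=
        hO ▸ CfsgLib.Fitting.le_pCore inferInstance (P.isPGroup'.map L.subtype)
      have h2 : (P : Subgroup L) = ⊥ :=
        (Subgroup.map_eq_bot_iff_of_injective _ L.subtype_injective).mp (le_bot_iff.mp h1)
      exact P.ne_bot_of_dvd_card hdvd h2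
  intro x hx
  exact key n (Subgroup.mem_inf.mpr ⟨hx, by simp⟩)

theorem index_dvd_of_le_normal (H N : Subgroup G) [N.Normal] : H.relIndex N ∣ H.index :=
  CfsgLib.Fitting.relIndex_dvd_index_of_normal_right H N

/-- A group all of whose `p`-regular classes have `p`-power size is solvable; likewise one with an
abelian `p`-complement. -/
theorem not_simple [IsSimpleGroup G] (hp : p.Prime)
    (h : ∃ x : G, x ≠ 1 ∧ ∃ k, (Subgroup.centralizer ({x} : Set G)).index = p ^ k) :
    Group.IsSolvable G := by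
  obtain ⟨x, hx, k, hk⟩ := h
  haveI := Fact.mk (CfsgLib.Char.prime_card_of_prime_power_class p k hp x hx hk)
  haveI : IsCyclic G := isCyclic_of_prime_card (p := Nat.card G) rfl
  exact Group.isSolvable_of_comm fun a b => mul_comm' a b

def Classes (p : ℕ) (G : Type u) [Group G] : Prop :=
  ∀ x : G, (orderOf x).Coprime p → ∃ k, (Subgroup.centralizer ({x} : Set G)).index = p ^ k

theorem exists_pRegular (hp : p.Prime) (hG : ¬ IsPGroup p G) :
    ∃ x : G, x ≠ 1 ∧ (orderOf x).Coprime p := by
  haveI := Fact.mk hp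
  by_contra! hno
  refine hG fun g => ?_
  obtain ⟨a, m, hm, hor, hc, -⟩ := CfsgLib.Transfer.exists_pow_coprime_part (p := p) g
  exact ⟨a, by by_contra hne; exact (hno _ hne) hc⟩

theorem classes_quotient (hp : p.Prime) (hG : Classes p G) (N : Subgroup G) [N.Normal] :
    Classes p (G ⧸ N) := by
  haveI := Fact.mk hp
  intro x hx
  obtain ⟨g, rfl⟩ := QuotientGroup.mk_surjective x
  obtain ⟨a, m, -, hor, hc, -⟩ := CfsgLib.Transfer.exists_pow_coprime_part (p := p) g
  obtain ⟨k, hk⟩ := hG _ hc
  set f := QuotientGroup.mk' N with hf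
  have hle : (Subgroup.centralizer ({g ^ p ^ a} : Set G)).map f ≤
      Subgroup.centralizer ({f g} : Set (G ⧸ N)) := by
    rintro _ ⟨c, hc', rfl⟩
    rw [Subgroup.mem_centralizer_singleton_iff]
    obtain ⟨z, hz⟩ := exists_pow_eq_self_of_coprime (x := f g) (n := p ^ a)
      (Nat.Coprime.pow_left a hx.symm)
    rw [← hz]
    refine (Commute.pow_right ?_ z).eq
    rw [← map_pow]
    have h4 := congrArg f (Subgroup.mem_centralizer_singleton_iff.mp hc')
    rwa [map_mul, map_mul] at h4
  obtain ⟨j, -, hj⟩ := (Nat.dvd_prime_pow hp).mp (hk ▸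
    (Subgroup.index_dvd_of_le hle).trans (Subgroup.index_map_dvd _ (QuotientGroup.mk'_surjective N)))
  exact ⟨j, hj⟩

theorem isMulCommutative_mul_comm {H : Subgroup G} (h : IsMulCommutative H) {a b : G}
    (ha : a ∈ H) (hb : b ∈ H) : a * b = b * a :=
  congrArg Subtype.val (mul_comm' (⟨a, ha⟩ : H) ⟨b, hb⟩)

theorem solvable_of_classes (hp : p.Prime) : ∀ n, ∀ (G : Type u) [Group G] [Finite G],
    Nat.card G = n → Classes p G → Group.IsSolvable G := by
  haveI := Fact.mk hp
  intro n
  induction n using Nat.strong_induction_on with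
  | _ n ih =>
    intro G _ _ hn hG
    rcases subsingleton_or_nontrivial G with h | h
    · exact Group.isSolvable_of_comm fun a b => Subsingleton.elim _ _
    by_cases hs : IsSimpleGroup G
    · by_cases hpg : IsPGroup p G
      · haveI := hpg.isNilpotent; infer_instance
      · obtain ⟨x, hx, hc⟩ := exists_pRegular hp hpg
        exact not_simple hp ⟨x, hx, hG x hc⟩
    obtain ⟨N, hN, hN1, hN2⟩ : ∃ N : Subgroup G, N.Normal ∧ N ≠ ⊥ ∧ N ≠ ⊤ := by
      by_contra! hh
      exact hs ⟨fun N hN => or_iff_not_imp_left.mpr (hh N hN)⟩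
    haveI := hN
    have h1 : Nat.card N < n := hn ▸ (Nat.lt_of_le_of_ne (Subgroup.card_le_card_group N)
      fun e => hN2 ((Subgroup.card_eq_iff_eq_top N).mp e))
    have h2 : Nat.card (G ⧸ N) < n := by
      rw [← hn, Subgroup.card_eq_card_quotient_mul_card_subgroup N]
      exact lt_mul_of_one_lt_right Nat.card_pos ((Subgroup.one_lt_card_iff_ne_bot N).mpr hN1)
    haveI : Group.IsSolvable N := ih _ h1 N rfl fun x hx => by
      rw [← Subgroup.orderOf_coe] at hx
      obtain ⟨k, hk⟩ := hG (x : G) hx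
      obtain ⟨j, -, hj⟩ := (Nat.dvd_prime_pow hp).mp
        (hk ▸ index_dvd_of_le_normal (Subgroup.centralizer ({(x : G)} : Set G)) N)
      refine ⟨j, ?_⟩
      rw [← hj, Subgroup.relIndex]
      congr 1
      ext y
      simp [Subgroup.mem_subgroupOf, Subgroup.mem_centralizer_singleton_iff, Subtype.ext_iff]
    haveI : Group.IsSolvable (G ⧸ N) := ih _ h2 _ rfl (classes_quotient hp hG N)
    exact Group.isSolvable_of_ker_le_range N.subtype (QuotientGroup.mk' N)
      (le_of_eq (by rw [QuotientGroup.ker_mk', Subgroup.range_subtype]))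

theorem solvable_of_complement (hp : p.Prime) : ∀ n, ∀ (G : Type u) [Group G] [Finite G],
    Nat.card G = n → ∀ H : Subgroup G, IsMulCommutative H → ¬ p ∣ Nat.card H →
      (∃ k, H.index = p ^ k) → Group.IsSolvable G := by
  haveI := Fact.mk hp
  intro n
  induction n using Nat.strong_induction_on with
  | _ n ih =>
    intro G _ _ hn H hab hcop ⟨k, hk⟩
    haveI := hab
    rcases subsingleton_or_nontrivial G with h | h
    · exact Group.isSolvable_of_comm fun a b => Subsingleton.elim _ _
    by_cases hs : IsSimpleGroup G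
    · by_cases hH : H = ⊥
      · subst hH
        rw [Subgroup.index_bot] at hk
        haveI := (IsPGroup.of_card (p := p) hk).isNilpotent
        infer_instance
      · obtain ⟨x, hx, hx1⟩ := (Subgroup.bot_or_exists_ne_one H).resolve_left hH
        have hle : H ≤ Subgroup.centralizer ({x} : Set G) := fun y hy =>
          Subgroup.mem_centralizer_singleton_iff.mpr (Subgroup.mul_comm_of_mem_isMulCommutative H hy hx)
        obtain ⟨j, -, hj⟩ := (Nat.dvd_prime_pow hp).mp (hk ▸ Subgroup.index_dvd_of_le hle)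
        exact not_simple hp ⟨x, hx1, j, hj⟩
    obtain ⟨N, hN, hN1, hN2⟩ : ∃ N : Subgroup G, N.Normal ∧ N ≠ ⊥ ∧ N ≠ ⊤ := by
      by_contra! hh
      exact hs ⟨fun N hN => or_iff_not_imp_left.mpr (hh N hN)⟩
    haveI := hN
    have h1 : Nat.card N < n := hn ▸ (Nat.lt_of_le_of_ne (Subgroup.card_le_card_group N)
      fun e => hN2 ((Subgroup.card_eq_iff_eq_top N).mp e))
    have h2 : Nat.card (G ⧸ N) < n := by
      rw [← hn, Subgroup.card_eq_card_quotient_mul_card_subgroup N]
      exact lt_mul_of_one_lt_right Nat.card_pos ((Subgroup.one_lt_card_iff_ne_bot N).mpr hN1)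
    haveI : Group.IsSolvable N := ih _ h1 N rfl (H.subgroupOf N)
      ⟨⟨fun a b => Subtype.ext (Subtype.ext (Subgroup.mul_comm_of_mem_isMulCommutative H a.2 b.2))⟩⟩
      (fun hd => hcop (hd.trans (by
        rw [← Subgroup.card_map_of_injective N.subtype_injective, Subgroup.subgroupOf_map_subtype]
        exact Subgroup.card_dvd_of_le inf_le_left)))
      (by
        obtain ⟨j, -, hj⟩ := (Nat.dvd_prime_pow hp).mp (hk ▸ index_dvd_of_le_normal H N)
        exact ⟨j, hj⟩)
    haveI : Group.IsSolvable (G ⧸ N) := ih _ h2 _ rfl (H.map (QuotientGroup.mk' N))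
      inferInstance (fun hd => hcop (hd.trans (Subgroup.card_map_dvd _ _)))
      (by
        obtain ⟨j, -, hj⟩ := (Nat.dvd_prime_pow hp).mp
          (hk ▸ Subgroup.index_map_dvd H (QuotientGroup.mk'_surjective N))
        exact ⟨j, hj⟩)
    exact Group.isSolvable_of_ker_le_range N.subtype (QuotientGroup.mk' N)
      (le_of_eq (by rw [QuotientGroup.ker_mk', Subgroup.range_subtype]))

theorem le_of_relIndex (hp : p.Prime) {H M : Subgroup G} [M.Normal]
    (hM : (Nat.card M).Coprime p) (hH : ∃ k, H.index = p ^ k) : M ≤ H := by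
  obtain ⟨k, hk⟩ := hH
  exact Subgroup.relIndex_eq_one.mp (Nat.eq_one_of_dvd_coprimes (hM.pow_right k)
    (Subgroup.relIndex_dvd_card H M) (hk ▸ index_dvd_of_le_normal H M))

theorem pCore_quotient_pCore (hp : p.Prime) [(Cfsg.pCore p G).Normal] :
    Cfsg.pCore p (G ⧸ Cfsg.pCore p G) = ⊥ := by
  haveI := Fact.mk hp
  set f := QuotientGroup.mk' (Cfsg.pCore p G) with hf
  set Q := Cfsg.pCore p (G ⧸ Cfsg.pCore p G) with hQ
  haveI : Q.Normal := CfsgLib.Fitting.pCore_normal p
  have h1 : Q.comap f ≤ Cfsg.pCore p G :=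
    CfsgLib.Fitting.le_pCore inferInstance
      ((CfsgLib.Fitting.pCore_isPGroup p).comap_of_ker_isPGroup f
        (by rw [hf, QuotientGroup.ker_mk']; exact CfsgLib.Fitting.pCore_isPGroup p))
  rw [eq_bot_iff, ← Subgroup.map_comap_eq_self_of_surjective (QuotientGroup.mk'_surjective _) Q]
  rintro _ ⟨x, hx, rfl⟩
  exact Subgroup.mem_bot.mpr ((QuotientGroup.eq_one_iff _).mpr (h1 hx))

/-- In a solvable group with trivial `p`-core and `p`-power classes of `p`-regular elements,
`O_{p'}` is abelian of `p`-power index. -/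
theorem core_of_classes (hp : p.Prime) [Group.IsSolvable G] (hO : Cfsg.pCore p G = ⊥)
    (hG : Classes p G) : IsMulCommutative (Cfsg.pPrimeCore p G) ∧
      ∃ k, (Cfsg.pPrimeCore p G).index = p ^ k := by
  haveI := Fact.mk hp
  haveI := CfsgLib.Transfer.pPrimeCore_normal p G
  have hc := CfsgLib.Transfer.pPrimeCore_coprime (G := G) p
  have key : ∀ x : G, (orderOf x).Coprime p → x ∈ Subgroup.centralizer (Cfsg.pPrimeCore p G : Set G) :=
    fun x hx y hy => (Subgroup.mem_centralizer_singleton_iff.mp (le_of_relIndex hp hc (hG x hx) hy))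
  refine ⟨⟨⟨fun a b => Subtype.ext ?_⟩⟩, ?_⟩
  · exact (key a (CfsgLib.Transfer.coprime_orderOf_of_mem hc a.2) b b.2).symm
  · refine (IsPGroup.iff_card (p := p)).mp fun g => ?_
    obtain ⟨g, rfl⟩ := QuotientGroup.mk_surjective g
    obtain ⟨a, m, -, -, hco, -⟩ := CfsgLib.Transfer.exists_pow_coprime_part (p := p) g
    refine ⟨a, ?_⟩
    rw [← QuotientGroup.mk_pow, QuotientGroup.eq_one_iff]
    exact le_pPrimeCore_of_centralizer hp hO (key _ hco)

/-- In a solvable group with trivial `p`-core, an abelian `p`-complement is `O_{p'}`. -/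
theorem core_of_complement (hp : p.Prime) [Group.IsSolvable G] (hO : Cfsg.pCore p G = ⊥)
    (H : Subgroup G) (hH : IsMulCommutative H) (hI : ∃ k, H.index = p ^ k) :
    IsMulCommutative (Cfsg.pPrimeCore p G) ∧ ∃ k, (Cfsg.pPrimeCore p G).index = p ^ k := by
  haveI := CfsgLib.Transfer.pPrimeCore_normal p G
  have h1 : Cfsg.pPrimeCore p G ≤ H :=
    le_of_relIndex hp (CfsgLib.Transfer.pPrimeCore_coprime p) hI
  have h2 : H ≤ Cfsg.pPrimeCore p G := fun x hx => le_pPrimeCore_of_centralizer hp hO
    fun y hy => isMulCommutative_mul_comm hH (h1 hy) hx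
  rw [le_antisymm h1 h2]
  exact ⟨hH, hI⟩

/-- Both directions meet here: `O_{p'}(G/O_p(G))` is abelian and of `p`-power index. -/
theorem classes_of_core (hp : p.Prime) [(Cfsg.pCore p G).Normal]
    (hA : IsMulCommutative (Cfsg.pPrimeCore p (G ⧸ Cfsg.pCore p G)))
    (hI : ∃ k, (Cfsg.pPrimeCore p (G ⧸ Cfsg.pCore p G)).index = p ^ k) : Classes p G := by
  haveI := Fact.mk hp
  intro x hx
  set P := Cfsg.pCore p G with hP
  set f := QuotientGroup.mk' P with hf
  set M := Cfsg.pPrimeCore p (G ⧸ P) with hM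
  haveI : M.Normal := CfsgLib.Transfer.pPrimeCore_normal p _
  obtain ⟨k, hk⟩ := hI
  have hxM : f x ∈ M := by
    have h1 : f x ^ p ^ k ∈ M := hk ▸ Subgroup.pow_index_mem M (f x)
    obtain ⟨z, hz⟩ := exists_pow_eq_self_of_coprime (x := f x) (n := p ^ k)
      (Nat.Coprime.pow_left k ((hx.coprime_dvd_left (orderOf_map_dvd f x)).symm))
    exact hz ▸ pow_mem h1 z
  set Y := (Subgroup.centralizer ({f x} : Set (G ⧸ P))).comap f with hY
  obtain ⟨i, -, hi⟩ : ∃ i ≤ k, Y.index = p ^ i := by
    rw [hY, Subgroup.index_comap_of_surjective _ (QuotientGroup.mk'_surjective P)]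
    exact (Nat.dvd_prime_pow hp).mp (hk ▸ Subgroup.index_dvd_of_le fun y hy =>
      Subgroup.mem_centralizer_singleton_iff.mpr (isMulCommutative_mul_comm hA hy hxM))
  obtain ⟨j, hj⟩ := (IsPGroup.iff_card (p := p)).mp (CfsgLib.Fitting.pCore_isPGroup (G := G) p)
  set C := Subgroup.centralizer ({x} : Set G) with hC
  have hYC : Y ≤ P ⊔ C := by
    intro y hy
    set x' := y * x * y⁻¹ with hx'
    have h1 : f x' = f x := by
      rw [hY, Subgroup.mem_comap, Subgroup.mem_centralizer_singleton_iff] at hy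
      rw [hx', map_mul, map_mul, map_inv, hy, mul_inv_cancel_right]
    have hz : ∀ z : G, Nat.card (Subgroup.zpowers z) = orderOf z := fun z => Nat.card_zpowers z
    have hox : orderOf x' = orderOf x := CfsgLib.Transfer.orderOf_conj y x
    have hcop : (Nat.card P).Coprime (orderOf x) := hj ▸ Nat.Coprime.pow_left j hx.symm
    have hsup : P ⊔ Subgroup.zpowers x = P ⊔ Subgroup.zpowers x' := by
      have : ∀ z : G, ((Subgroup.zpowers z).map f).comap f = P ⊔ Subgroup.zpowers z := fun z => by
        rw [Subgroup.comap_map_eq, hf, QuotientGroup.ker_mk', sup_comm]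
      rw [← this, ← this, MonoidHom.map_zpowers, MonoidHom.map_zpowers, h1]
    have hPs : Group.IsSolvable P := by
      haveI : Group.IsNilpotent P := (CfsgLib.Fitting.pCore_isPGroup (G := G) p).isNilpotent
      infer_instance
    obtain ⟨π, hπ, hπe⟩ := CfsgLib.Coprime.exists_conj_of_coprime
      (Subgroup.le_normalizer_of_normal (H := P)) (by rw [hz]; exact hcop)
      (by rw [hz, hox]; exact hcop) hsup (Or.inl hPs)
    -- `π⁻¹ y` normalizes `⟨x⟩` and centralizes `x` modulo `P`
    have hmem : π⁻¹ * x' * π ∈ Subgroup.zpowers x := by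
      have h2 : x' ∈ MulAut.conj π • Subgroup.zpowers x := hπe ▸ Subgroup.mem_zpowers x'
      rwa [CfsgLib.Coprime.mem_conj_smul_iff] at h2
    have hin : (π⁻¹ * x' * π) * x⁻¹ ∈ P ⊓ Subgroup.zpowers x := by
      refine Subgroup.mem_inf.mpr ⟨?_, mul_mem hmem (inv_mem (Subgroup.mem_zpowers x))⟩
      have hπ1 : f π = 1 := (QuotientGroup.eq_one_iff π).mpr hπ
      rw [← QuotientGroup.eq_one_iff]
      show f _ = 1
      simp [map_mul, map_inv, hπ1, h1]
    rw [CfsgLib.Coprime.inf_eq_bot_of_coprime_card (by rw [hz]; exact hcop), Subgroup.mem_bot,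
      mul_inv_eq_one] at hin
    have hc : π⁻¹ * y ∈ C := by
      rw [hC, Subgroup.mem_centralizer_singleton_iff]
      calc π⁻¹ * y * x = (π⁻¹ * x' * π) * (π⁻¹ * y) := by rw [hx']; group
        _ = x * (π⁻¹ * y) := by rw [hin]
    rw [show y = π * (π⁻¹ * y) by group]
    exact mul_mem (Subgroup.mem_sup_left hπ) (Subgroup.mem_sup_right hc)
  have hdvd : Nat.card Y ∣ Nat.card P * Nat.card C :=
    (Subgroup.card_dvd_of_le hYC).trans
      ⟨Nat.card ↥(P ⊓ C), (CfsgLib.Coprime.card_sup_mul_card_inf Subgroup.le_normalizer_of_normal).symm⟩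
  have h3 : C.index * Nat.card C ∣ (p ^ i * p ^ j) * Nat.card C := by
    rw [Subgroup.index_mul_card, ← Subgroup.index_mul_card Y, hi, mul_assoc, ← hj]
    exact Nat.mul_dvd_mul_left _ hdvd
  obtain ⟨l, -, hl⟩ := (Nat.dvd_prime_pow hp).mp
    ((pow_add p i j).symm ▸ Nat.dvd_of_mul_dvd_mul_right Nat.card_pos h3)
  exact ⟨l, hl⟩

theorem complement_of_core (hp : p.Prime) [(Cfsg.pCore p G).Normal]
    (hA : IsMulCommutative (Cfsg.pPrimeCore p (G ⧸ Cfsg.pCore p G)))
    (hI : ∃ k, (Cfsg.pPrimeCore p (G ⧸ Cfsg.pCore p G)).index = p ^ k) :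
    ∃ H : Subgroup G, IsMulCommutative H ∧ ¬ p ∣ Nat.card H ∧ ∃ k : ℕ, H.index = p ^ k := by
  haveI := Fact.mk hp
  set P := Cfsg.pCore p G with hP
  set f := QuotientGroup.mk' P with hf
  set M := Cfsg.pPrimeCore p (G ⧸ P) with hM
  obtain ⟨k, hk⟩ := hI
  obtain ⟨j, hj⟩ := (IsPGroup.iff_card (p := p)).mp (CfsgLib.Fitting.pCore_isPGroup (G := G) p)
  have hPW : P ≤ M.comap f := by
    intro y hy
    rw [Subgroup.mem_comap, show f y = 1 from (QuotientGroup.eq_one_iff y).mpr hy]
    exact one_mem M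
  have hmc := CfsgLib.Transfer.pPrimeCore_coprime (G := G ⧸ P) p
  have hrel : P.relIndex (M.comap f) = Nat.card M := by
    have hker : (⊥ : Subgroup (G ⧸ P)).comap f = P := by rw [MonoidHom.comap_bot, hf, QuotientGroup.ker_mk']
    have h := Subgroup.relIndex_comap (⊥ : Subgroup (G ⧸ P)) f (M.comap f)
    rw [hker, Subgroup.map_comap_eq_self_of_surjective (QuotientGroup.mk'_surjective P),
      Subgroup.relIndex_bot_left] at h
    exact h
  obtain ⟨B, hBW, hsup, hinf, hcard⟩ := CfsgLib.Coprime.exists_complement_of_coprime (N := P)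
    (S := M.comap f) Subgroup.le_normalizer_of_normal (by
      rw [inf_eq_left.mpr hPW, hrel, hj]
      exact Nat.Coprime.pow_left j hmc.symm)
  rw [inf_eq_left.mpr hPW] at hinf
  rw [hrel] at hcard
  refine ⟨B, ⟨⟨fun a b => Subtype.ext ?_⟩⟩, ?_, k + j, ?_⟩
  · have h1 : ((a : G) * b) * ((b : G) * a)⁻¹ ∈ P ⊓ B := by
      refine Subgroup.mem_inf.mpr ⟨?_, mul_mem (mul_mem a.2 b.2) (inv_mem (mul_mem b.2 a.2))⟩
      rw [← QuotientGroup.eq_one_iff]
      show f _ = 1
      rw [map_mul, map_inv, mul_inv_eq_one, map_mul, map_mul]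
      exact isMulCommutative_mul_comm hA (hBW a.2) (hBW b.2)
    rw [hinf, Subgroup.mem_bot, mul_inv_eq_one] at h1
    exact h1
  · rw [hcard]
    exact hp.coprime_iff_not_dvd.mp hmc.symm
  · have h1 := Subgroup.index_mul_card B
    rw [Subgroup.card_eq_card_quotient_mul_card_subgroup P, ← Subgroup.index_mul_card M, hcard, hk, hj] at h1
    rw [pow_add]
    apply Nat.eq_of_mul_eq_mul_right (Nat.card_pos (α := M))
    rw [h1]; ring

theorem result {G : Type*} [Group G] [Finite G] {p : ℕ} (hp : p.Prime) :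
    (∀ x : G, (orderOf x).Coprime p → ∃ k : ℕ, (ConjClasses.mk x).carrier.ncard = p ^ k) ↔
    (∃ H : Subgroup G, IsMulCommutative H ∧ ¬ p ∣ Nat.card H ∧ ∃ k : ℕ, H.index = p ^ k) := by
  haveI := Fact.mk hp
  haveI := CfsgLib.Fitting.pCore_normal (G := G) p
  simp_rw [carrier_ncard]
  constructor
  · intro h
    haveI := solvable_of_classes hp _ G rfl h
    obtain ⟨hA, hI⟩ := core_of_classes hp (pCore_quotient_pCore hp)
      (classes_quotient hp h (Cfsg.pCore p G))
    exact complement_of_core hp hA hI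
  · rintro ⟨H, hH, hcop, k, hk⟩
    haveI := solvable_of_complement hp _ G rfl H hH hcop ⟨k, hk⟩
    obtain ⟨j, -, hj⟩ := (Nat.dvd_prime_pow hp).mp
      (hk ▸ Subgroup.index_map_dvd H (QuotientGroup.mk'_surjective (Cfsg.pCore p G)))
    obtain ⟨hA, hI⟩ := core_of_complement hp (pCore_quotient_pCore (G := G) hp)
      (H.map (QuotientGroup.mk' (Cfsg.pCore p G))) inferInstance ⟨j, hj⟩
    exact classes_of_core hp hA hI

end Cfsg.Agent.S4034
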