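import Cfsg.Statements.S4035
import Cfsg.Agent.Lib.Transfer.Basic
import Cfsg.Agent.Lib.Invol.Dihedral
import Cfsg.Agent.Lib.Coprime.SchurZassenhaus

set_option autoImplicit false
open Cfsg

namespace Cfsg.Agent.S4035

theorem index_centralizer_eq {G : Type*} [Group G] [Finite G] (x : G) :
    (ConjClasses.mk x).carrier.ncard = (Subgroup.centralizer ({x} : Set G)).index := by
  refine Nat.eq_of_mul_eq_mul_right (show 0 < Nat.card (Subgroup.centralizer ({x} : Set G)) from Nat.card_pos) ?_
  rw [Subgroup.index_mul_card, ← CfsgLib.Invol.card_isConj_mul_card_centralizer x, ← Nat.card_coe_set_eq]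
  rfl

theorem eq_one_of_all_fix {G α : Type*} [Group G] [Finite G] [MulAction G α] [Finite α] [Nonempty α]
    [MulAction.IsPretransitive G α] (h : ∀ g : G, ∃ a : α, g • a = a) : Nat.card α = 1 := by
  classical
  haveI := Fintype.ofFinite G
  haveI := Fintype.ofFinite α
  haveI := Fintype.ofFinite (MulAction.orbitRel.Quotient G α)
  haveI : Subsingleton (MulAction.orbitRel.Quotient G α) := ⟨fun a b => by
    induction a using Quotient.inductionOn' with
    | h x => induction b using Quotient.inductionOn' with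
      | h y => exact Quotient.sound' (MulAction.orbitRel_apply.mpr (MulAction.exists_smul_eq G y x))⟩
  obtain ⟨a₀⟩ := (inferInstance : Nonempty α)
  haveI : Nonempty (MulAction.orbitRel.Quotient G α) := ⟨Quotient.mk'' a₀⟩
  have hsum := MulAction.sum_card_fixedBy_eq_card_orbits_mul_card_group G α
  have h1 : Fintype.card (MulAction.orbitRel.Quotient G α) = 1 := Fintype.card_eq_one_iff.mpr
    ⟨Quotient.mk'' a₀, fun y => Subsingleton.elim _ _⟩
  rw [h1, one_mul] at hsum
  rw [Nat.card_eq_fintype_card]
  by_contra hne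
  have hlt : ∑ g : G, 1 < ∑ g : G, Fintype.card (MulAction.fixedBy α g) := by
    refine Finset.sum_lt_sum (fun g _ => ?_) ⟨1, Finset.mem_univ _, ?_⟩
    · obtain ⟨a, ha⟩ := h g
      exact Fintype.card_pos_iff.mpr ⟨⟨a, ha⟩⟩
    · have : Fintype.card (MulAction.fixedBy α (1 : G)) = Fintype.card α :=
        Fintype.card_congr (Equiv.subtypeUnivEquiv fun a => one_smul G a)
      have := Fintype.card_pos_iff.mpr (inferInstance : Nonempty α)
      omega
  rw [hsum, Finset.sum_const, Finset.card_univ, smul_eq_mul, mul_one] at hlt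
  exact lt_irrefl _ hlt

/-- Let G be a finite group and p a prime such that p divides the size of no conjugacy class of p-regular elements (elements of order prime to p). Then G is the internal direct product of a Sylow p-subgroup P and a normal subgroup H of order prime to p: P is normal, P ⊓ H = 1 and PH = G. -/
theorem result {G : Type*} [Group G] [Finite G] {p : ℕ} [Fact p.Prime]
    (h : ∀ x : G, (orderOf x).Coprime p → ¬ p ∣ (ConjClasses.mk x).carrier.ncard) (P : Sylow p G) :
    (P : Subgroup G).Normal ∧ ∃ H : Subgroup G, H.Normal ∧ ¬ p ∣ Nat.card H ∧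
      (P : Subgroup G) ⊓ H = ⊥ ∧ (P : Subgroup G) ⊔ H = ⊤ := by
  classical
  have hfix : ∀ g : G, ∃ T : Sylow p G, g ∈ Subgroup.normalizer ((T : Subgroup G) : Set G) := by
    intro g
    obtain ⟨a, m, hm, hord, hsc, huo⟩ := CfsgLib.Transfer.exists_pow_coprime_part (p := p) g
    set C := Subgroup.centralizer ({g ^ p ^ a} : Set G) with hC
    have hidx : ¬ p ∣ C.index := by rw [hC, ← index_centralizer_eq]; exact h _ hsc
    have huC : g ^ m ∈ C := Subgroup.mem_centralizer_singleton_iff.mpr ((Commute.refl g).pow_pow m (p ^ a)).eq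
    have hup : IsPGroup p (Subgroup.zpowers (⟨g ^ m, huC⟩ : C)) :=
      IsPGroup.of_card (n := a) (by rw [Nat.card_zpowers, Subgroup.orderOf_mk, huo])
    obtain ⟨T₀, hT₀⟩ := hup.exists_le_sylow
    refine ⟨Sylow.ofCard ((T₀ : Subgroup C).map C.subtype) ?_, ?_⟩
    · rw [Subgroup.card_map_of_injective C.subtype_injective]
      have hsx : Nat.card (T₀ : Subgroup C) = p ^ (Nat.card C).factorization p := T₀.card_eq_multiplicity
      rw [hsx, ← Subgroup.card_mul_index C, Nat.factorization_mul Nat.card_pos.ne' C.index_ne_zero_of_finite,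
        Finsupp.add_apply, Nat.factorization_eq_zero_of_not_dvd hidx, add_zero]
    · show g ∈ Subgroup.normalizer (((T₀ : Subgroup C).map C.subtype : Subgroup G) : Set G)
      set N := Subgroup.normalizer (((T₀ : Subgroup C).map C.subtype : Subgroup G) : Set G)
      have h1 : g ^ m ∈ N := Subgroup.le_normalizer ⟨_, hT₀ (Subgroup.mem_zpowers _), rfl⟩
      have h2 : g ^ p ^ a ∈ N := by
        refine Subgroup.centralizer_le_normalizer _ (Subgroup.mem_centralizer_iff.mpr ?_)
        rintro _ ⟨⟨c, hc⟩, -, rfl⟩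
        exact Subgroup.mem_centralizer_singleton_iff.mp hc
      have hgcd : m.Coprime (p ^ a) := ((Fact.out : p.Prime).coprime_iff_not_dvd.mpr hm).symm.pow_right a
      have hb := Nat.gcd_eq_gcd_ab m (p ^ a)
      rw [Nat.Coprime.gcd_eq_one hgcd] at hb
      rw [← zpow_one g, show (1 : ℤ) = ((1 : ℕ) : ℤ) from rfl, hb, zpow_add, zpow_mul, zpow_mul,
        zpow_natCast, zpow_natCast]
      exact mul_mem (zpow_mem h1 _) (zpow_mem h2 _)
  have hone : Nat.card (Sylow p G) = 1 := eq_one_of_all_fix (G := G) fun g => by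
    obtain ⟨T, hT⟩ := hfix g
    exact ⟨T, Sylow.smul_eq_iff_mem_normalizer.mpr hT⟩
  haveI hPn : (P : Subgroup G).Normal := by
    haveI : Subsingleton (Sylow p G) := (Nat.card_eq_one_iff_unique.mp hone).1
    exact Sylow.normal_of_subsingleton P
  obtain ⟨K, hK⟩ := Subgroup.exists_right_complement'_of_coprime (N := (P : Subgroup G)) P.card_coprime_index
  have hKc : ¬ p ∣ Nat.card K := by rw [← hK.symm.index_eq_card]; exact P.not_dvd_index
  have hcen : ∀ k ∈ K, ∀ y ∈ (P : Subgroup G), k * y = y * k := by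
    intro k hk y hy
    have hco : (orderOf k).Coprime p := CfsgLib.Transfer.coprime_orderOf_of_mem
      ((Fact.out : p.Prime).coprime_iff_not_dvd.mpr hKc).symm hk
    have hidx : ¬ p ∣ (Subgroup.centralizer ({k} : Set G)).index := by
      rw [← index_centralizer_eq]; exact h k hco
    obtain ⟨T₀⟩ := (inferInstance : Nonempty (Sylow p (Subgroup.centralizer ({k} : Set G))))
    have heq : (T₀ : Subgroup _).map (Subgroup.centralizer ({k} : Set G)).subtype = (P : Subgroup G) := by
      haveI : Subsingleton (Sylow p G) := (Nat.card_eq_one_iff_unique.mp hone).1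
      obtain ⟨Q, hQ⟩ := (T₀.2.map (Subgroup.centralizer ({k} : Set G)).subtype).exists_le_sylow
      rw [Subsingleton.elim Q P] at hQ
      refine Subgroup.eq_of_le_of_card_ge hQ ?_
      rw [Subgroup.card_map_of_injective (Subgroup.subtype_injective _)]
      have hsx : Nat.card (T₀ : Subgroup (Subgroup.centralizer ({k} : Set G))) = p ^ (Nat.card (Subgroup.centralizer ({k} : Set G))).factorization p := T₀.card_eq_multiplicity
      rw [hsx, P.card_eq_multiplicity, ← Subgroup.card_mul_index (Subgroup.centralizer ({k} : Set G)),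
        Nat.factorization_mul Nat.card_pos.ne' (Subgroup.index_ne_zero_of_finite),
        Finsupp.add_apply, Nat.factorization_eq_zero_of_not_dvd hidx, add_zero]
    obtain ⟨⟨c, hc⟩, -, rfl⟩ := heq.ge hy
    exact (Subgroup.mem_centralizer_singleton_iff.mp hc).symm
  refine ⟨hPn, K, ⟨fun x hx g => ?_⟩, hKc, hK.disjoint.eq_bot, hK.sup_eq_top⟩
  have hg : g ∈ (P : Subgroup G) ⊔ K := by rw [hK.sup_eq_top]; trivial
  obtain ⟨y, hy, k, hk, rfl⟩ := Subgroup.mem_sup_of_normal_left.mp hg
  have h3 : k * x * k⁻¹ ∈ K := mul_mem (mul_mem hk hx) (inv_mem hk)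
  have : y * k * x * (y * k)⁻¹ = k * x * k⁻¹ := by
    calc y * k * x * (y * k)⁻¹ = y * (k * x * k⁻¹) * y⁻¹ := by group
      _ = k * x * k⁻¹ := by rw [← hcen _ h3 y hy, mul_inv_cancel_right]
  rw [this]
  exact h3
end Cfsg.Agent.S4035
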