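import Cfsg.Statements.S0281
import Mathlib
import Cfsg.Prelude.Def_Classical

set_option autoImplicit false
set_option linter.style.haveILetI false
open Cfsg

namespace Cfsg.Agent.S0281

theorem frob {F : Type*} [Field F] [Fintype F] {q : ℕ} (hF : Fintype.card F = q ^ 2) :
    ∃ (p f : ℕ), p.Prime ∧ CharP F p ∧ q = p ^ f ∧ 1 ≤ f := by
  obtain ⟨p, hp⟩ := CharP.exists F
  obtain ⟨k, hpr, hk⟩ := FiniteField.card F p
  obtain ⟨f, -, hf⟩ := (Nat.dvd_prime_pow hpr).1 (show q ∣ p ^ (k : ℕ) from hk ▸ hF ▸ dvd_pow_self q two_ne_zero)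
  refine ⟨p, f, hpr, hp, hf, ?_⟩
  by_contra h
  have : f = 0 := by omega
  subst this
  rw [hf, pow_zero, one_pow] at hF
  exact absurd hF (Fintype.one_lt_card (α := F)).ne'

/-- SU_2(q) is isomorphic to SL_2(q). -/
theorem result {F K : Type*} [Field F] [Fintype F] [Field K] [Fintype K] {q : ℕ} (hF : Fintype.card F = q ^ 2) (hK : Fintype.card K = q) : Nonempty (Cfsg.SU 2 F q ≃* Matrix.SpecialLinearGroup (Fin 2) K) := by
  classical
  obtain ⟨p, f, hp, hchar, hq, hf1⟩ := frob hF
  haveI := Fact.mk hp
  haveI := hchar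
  have hq2 : 2 ≤ q := by
    rw [hq]; exact le_trans hp.two_le (Nat.le_self_pow (by omega) p)
  -- the embedding of `K` onto the fixed field of `x ↦ x ^ q`
  haveI : CharP K p := by
    obtain ⟨p', hp'⟩ := CharP.exists K
    obtain ⟨a, hpr', ha⟩ := FiniteField.card K p'
    have : p' = p := (Nat.prime_dvd_prime_iff_eq hpr' hp).mp (hpr'.dvd_of_dvd_pow
      (n := f) (by rw [← hq, ← hK, ha]; exact dvd_pow_self p' a.ne_zero))
    exact this ▸ hp'
  letI := ZMod.algebra K p
  letI := ZMod.algebra F p
  have hdimK : Module.finrank (ZMod p) K = f := by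
    have h := FiniteField.pow_finrank_eq_card p K
    rw [hK, hq] at h
    exact Nat.pow_right_injective hp.two_le h
  have hdimF : Module.finrank (ZMod p) F = 2 * f := by
    have h := FiniteField.pow_finrank_eq_card p F
    rw [hF, hq, ← pow_mul, mul_comm f 2] at h
    exact Nat.pow_right_injective hp.two_le h
  obtain ⟨ι⟩ := FiniteField.nonempty_algHom_of_finrank_dvd (F := ZMod p) (K := K) (L := F)
    (by rw [hdimK, hdimF]; exact dvd_mul_left f 2)
  let bar : F →+* F := iterateFrobenius F p f
  have hbar : ∀ x, bar x = x ^ q := fun x => by rw [hq]; exact iterateFrobenius_def p f x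
  have hι : ∀ k : K, bar (ι k) = ι k := fun k => by
    rw [hbar, ← map_pow, ← hK, FiniteField.pow_card]
  have hfix : ∀ x : F, bar x = x → ∃ k : K, ι k = x := by
    intro x hx
    by_contra hne
    push Not at hne
    have hroots : (insert x (Finset.univ.image ι)) ⊆ ((Polynomial.X ^ q - Polynomial.X : Polynomial F)).roots.toFinset := by
      intro y hy
      rw [Multiset.mem_toFinset, Polynomial.mem_roots (FiniteField.X_pow_card_sub_X_ne_zero F hq2)]
      rw [Finset.mem_insert, Finset.mem_image] at hy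
      rcases hy with rfl | ⟨k, -, rfl⟩
      · simp [← hbar, hx]
      · simp [← hbar, hι]
    have h1 := (Finset.card_le_card hroots).trans ((Multiset.toFinset_card_le _).trans (Polynomial.card_roots' _))
    rw [Finset.card_insert_of_notMem (by simpa using hne), Finset.card_image_of_injective _ (show Function.Injective ι from ι.toRingHom.injective),
      Finset.card_univ, hK, FiniteField.X_pow_card_sub_X_natDegree_eq F hq2] at h1
    omega
  have hbb : ∀ x : F, bar (bar x) = x := fun x => by
    rw [hbar, hbar, ← pow_mul, ← sq, ← hF, FiniteField.pow_card]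
  -- constants
  obtain ⟨z, hz⟩ := IsCyclic.exists_generator (α := Fˣ)
  have hzo : orderOf z = q ^ 2 - 1 := by
    rw [orderOf_eq_card_of_forall_mem_zpowers hz, Nat.card_units, Nat.card_eq_fintype_card, hF]
  have hq2' : 4 ≤ q ^ 2 := by nlinarith
  obtain ⟨e, he, c, hc0, hc⟩ : ∃ e : F, e * bar e = -1 ∧ ∃ c : F, c ≠ 0 ∧ bar c = -c := by
    rcases hp.eq_two_or_odd' with rfl | hodd
    · exact ⟨1, by rw [map_one, mul_one, CharTwo.neg_eq], 1, one_ne_zero, by rw [map_one, CharTwo.neg_eq]⟩
    · obtain ⟨r, hr⟩ : Odd q := hq ▸ hodd.pow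
      subst hr
      have hfac : (2 * r + 1) ^ 2 - 1 = 2 * (2 * r * (r + 1)) := by
        rw [show (2 * r + 1) ^ 2 = 2 * (2 * r * (r + 1)) + 1 by ring]; omega
      have hhalf : (z : F) ^ (2 * r * (r + 1)) = -1 := by
        have h1 : ((z : F) ^ (2 * r * (r + 1))) * ((z : F) ^ (2 * r * (r + 1))) = 1 := by
          rw [← pow_add, ← Units.val_pow_eq_pow_val, ← two_mul, ← hfac, ← hzo, pow_orderOf_eq_one, Units.val_one]
        rcases mul_self_eq_one_iff.mp h1 with h | h
        · exfalso
          rw [← Units.val_pow_eq_pow_val, Units.val_eq_one, ← orderOf_dvd_iff_pow_eq_one, hzo, hfac] at h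
          have hpos : 0 < 2 * r * (r + 1) := Nat.mul_pos (by omega) (by omega)
          have := Nat.le_of_dvd hpos h
          omega
        · exact h
      refine ⟨(z : F) ^ r, ?_, (z : F) ^ (r + 1), pow_ne_zero _ z.ne_zero, ?_⟩
      · rw [hbar, ← pow_mul, ← pow_add, show r + r * (2 * r + 1) = 2 * r * (r + 1) by ring, hhalf]
      · rw [hbar, ← pow_mul, show (r + 1) * (2 * r + 1) = 2 * r * (r + 1) + (r + 1) by ring, pow_add, hhalf, neg_one_mul]
  obtain ⟨ζ, hζ, hζ1⟩ : ∃ ζ : F, ζ * bar ζ = 1 ∧ ζ ≠ 1 := by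
    refine ⟨(z : F) ^ (q - 1), ?_, ?_⟩
    · rw [hbar, ← pow_mul, ← pow_add, ← Units.val_pow_eq_pow_val]
      have : (q - 1) + (q - 1) * q = q ^ 2 - 1 := by
        obtain ⟨w, rfl⟩ : ∃ w, q = w + 1 := ⟨q - 1, by omega⟩
        rw [show (w + 1) ^ 2 = w + w * (w + 1) + 1 by ring]
        simp
      rw [this, ← hzo, pow_orderOf_eq_one, Units.val_one]
    · intro h
      rw [← Units.val_pow_eq_pow_val, Units.val_eq_one, ← orderOf_dvd_iff_pow_eq_one, hzo] at h
      have := Nat.le_of_dvd (by omega) h
      have : q < q ^ 2 := by nlinarith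
      omega
  set e' := e * ζ with he'
  have he'n : e' * bar e' = -1 := by rw [he', map_mul]; linear_combination ζ * bar ζ * he + (-1 : F) * hζ
  set δ := 1 + e * bar e' with hδ
  have hδ0 : δ ≠ 0 := by
    intro h
    have hbz : bar ζ = 1 := by
      rw [hδ, he', map_mul] at h
      linear_combination bar ζ * he - h
    exact hζ1 (by rw [hbz, mul_one] at hζ; exact hζ)
  set lam := bar (c / δ) with hlam
  have hlamb : bar lam = c / δ := hbb _
  have hcoef : δ * bar lam = c := by rw [hlamb, mul_div_cancel₀ _ hδ0]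
  let P : Matrix (Fin 2) (Fin 2) F := !![1, lam; e, lam * e']
  let ω : Matrix (Fin 2) (Fin 2) F := !![0, 1; -1, 0]
  have hPP : P.transpose * P.map bar = c • ω := by
    have h2 : lam * (1 + e' * bar e) = -c := by
      have h3 := congrArg bar hcoef
      rw [map_mul, hbb, hc, hδ, map_add, map_one, map_mul, hbb] at h3
      linear_combination h3
    ext i j
    fin_cases i <;> fin_cases j <;> simp [P, ω, Matrix.mul_apply, Fin.sum_univ_two]
    · linear_combination he
    · linear_combination hcoef
    · linear_combination h2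
    · linear_combination lam * bar lam * he'n
  have hPdet : P.det ≠ 0 := by
    intro h
    have h1 := congrArg Matrix.det hPP
    rw [Matrix.det_mul, Matrix.det_transpose, h, zero_mul, Matrix.det_smul] at h1
    rw [show ω.det = 1 by simp [ω, Matrix.det_fin_two_of], mul_one] at h1
    exact pow_ne_zero _ hc0 h1.symm
  have hPu : IsUnit P.det := isUnit_iff_ne_zero.mpr hPdet
  have hmapmul : ∀ A B : Matrix (Fin 2) (Fin 2) F, (A * B).map bar = A.map bar * B.map bar := fun A B => Matrix.map_mul
  have hω : ∀ M : Matrix (Fin 2) (Fin 2) F, M.det = 1 → M.transpose * ω * M = ω := fun M hM => by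
    rw [Matrix.det_fin_two] at hM
    ext i j
    fin_cases i <;> fin_cases j <;> simp [ω, Matrix.mul_apply, Fin.sum_univ_two] <;>
      first | linear_combination hM | linear_combination -hM | ring
  -- membership
  have hmem : ∀ g : Matrix.SpecialLinearGroup (Fin 2) F, g ∈ Cfsg.SU 2 F q ↔
      (g : Matrix (Fin 2) (Fin 2) F).transpose * (g : Matrix (Fin 2) (Fin 2) F).map bar = 1 := by
    intro g
    have key : ∀ u v : Fin 2 → F, Cfsg.hermForm 2 F q ((g : Matrix (Fin 2) (Fin 2) F).mulVec u) ((g : Matrix (Fin 2) (Fin 2) F).mulVec v) =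
        dotProduct u (((g : Matrix (Fin 2) (Fin 2) F).transpose * (g : Matrix (Fin 2) (Fin 2) F).map bar).mulVec (bar ∘ v)) := by
      intro u v
      rw [← Matrix.mulVec_mulVec, Matrix.dotProduct_mulVec, Matrix.vecMul_transpose, Cfsg.hermForm]
      simp only [← hbar]
      rw [dotProduct]
      exact Finset.sum_congr rfl fun i _ => by rw [RingHom.map_mulVec]
    have hone : ∀ u v : Fin 2 → F, Cfsg.hermForm 2 F q u v = dotProduct u (bar ∘ v) := fun u v => by
      simp [Cfsg.hermForm, dotProduct, hbar]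
    constructor
    · intro h
      ext i j
      have h1 := h (Pi.single i 1) (Pi.single j 1)
      rw [show Cfsg.slToMat 2 F g = (g : Matrix (Fin 2) (Fin 2) F) from rfl, key, hone] at h1
      have hs : (bar ∘ Pi.single j 1 : Fin 2 → F) = Pi.single j 1 := by
        funext l; by_cases hl : l = j <;> simp [hl]
      rw [hs] at h1
      simpa [Matrix.mulVec_single, single_dotProduct, Matrix.one_apply, Pi.single_apply, eq_comm] using h1
    · intro h u v
      rw [show Cfsg.slToMat 2 F g = (g : Matrix (Fin 2) (Fin 2) F) from rfl, key, h, Matrix.one_mulVec, hone]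
  have hiff : ∀ M : Matrix (Fin 2) (Fin 2) F, M.det = 1 →
      ((P * M * P⁻¹).transpose * (P * M * P⁻¹).map bar = 1 ↔ M.map bar = M) := by
    intro M hM
    have e1 : (P * M * P⁻¹).transpose * (P * M * P⁻¹).map bar =
        P⁻¹.transpose * (M.transpose * (c • ω) * M.map bar) * P⁻¹.map bar := by
      rw [← hPP, hmapmul, hmapmul, Matrix.transpose_mul, Matrix.transpose_mul]
      simp only [Matrix.mul_assoc]
    have hPl : P.transpose * P⁻¹.transpose = 1 := by
      rw [← Matrix.transpose_mul, Matrix.nonsing_inv_mul _ hPu, Matrix.transpose_one]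
    have hPr : P⁻¹.map bar * P.map bar = 1 := by
      rw [← hmapmul, Matrix.nonsing_inv_mul _ hPu, Matrix.map_one _ (map_zero bar) (map_one bar)]
    have hPl' : P⁻¹.transpose * P.transpose = 1 := by
      rw [← Matrix.transpose_mul, Matrix.mul_nonsing_inv _ hPu, Matrix.transpose_one]
    have hPr' : P.map bar * P⁻¹.map bar = 1 := by
      rw [← hmapmul, Matrix.mul_nonsing_inv _ hPu, Matrix.map_one _ (map_zero bar) (map_one bar)]
    rw [e1]
    constructor
    · intro h
      have h1 := congrArg (fun X => P.transpose * X * P.map bar) h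
      simp only [Matrix.mul_assoc, hPr, Matrix.mul_one] at h1
      rw [← Matrix.mul_assoc P.transpose, hPl, Matrix.one_mul, hPP] at h1
      rw [Matrix.smul_mul, Matrix.mul_smul] at h1
      have h2 : M.transpose * (ω * M.map bar) = ω := smul_right_injective _ hc0 h1
      have h3 : M.transpose * (ω * M) = ω := by rw [← Matrix.mul_assoc]; exact hω M hM
      have hMt : IsUnit M.transpose := (Matrix.isUnit_iff_isUnit_det _).mpr (by rw [Matrix.det_transpose, hM]; exact isUnit_one)
      have hωu : IsUnit ω := (Matrix.isUnit_iff_isUnit_det _).mpr (by simp [ω, Matrix.det_fin_two_of])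
      exact hωu.mul_left_cancel (hMt.mul_left_cancel (h2.trans h3.symm))
    · intro h
      rw [h, Matrix.mul_smul, Matrix.smul_mul, hω M hM, ← hPP]
      simp only [Matrix.mul_assoc]
      rw [hPr', Matrix.mul_one, hPl']
  -- the isomorphism
  let Φ : Matrix.SpecialLinearGroup (Fin 2) K →* Matrix.SpecialLinearGroup (Fin 2) F := MonoidHom.mk'
    (fun M => ⟨P * (M : Matrix (Fin 2) (Fin 2) K).map ι * P⁻¹, by
      rw [Matrix.det_conj ((Matrix.isUnit_iff_isUnit_det P).mpr hPu)]
      have h1 := (Matrix.SpecialLinearGroup.map ι.toRingHom M).det_coe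
      exact h1⟩)
    (fun M N => Subtype.ext (by
      show P * ((M * N : Matrix.SpecialLinearGroup (Fin 2) K) : Matrix (Fin 2) (Fin 2) K).map ι * P⁻¹ = (P * _ * P⁻¹) * (P * _ * P⁻¹)
      rw [Matrix.SpecialLinearGroup.coe_mul, Matrix.map_mul (f := ι)]
      simp only [Matrix.mul_assoc]
      rw [← Matrix.mul_assoc P⁻¹ P, Matrix.nonsing_inv_mul _ hPu, Matrix.one_mul]))
  have hΦinj : Function.Injective Φ := by
    intro M N h
    have h1 : P * (M : Matrix (Fin 2) (Fin 2) K).map ι * P⁻¹ = P * (N : Matrix (Fin 2) (Fin 2) K).map ι * P⁻¹ := congrArg Subtype.val h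
    have h2 := congrArg (fun X => P⁻¹ * X * P) h1
    simp only [Matrix.mul_assoc, Matrix.nonsing_inv_mul _ hPu, Matrix.mul_one] at h2
    rw [← Matrix.mul_assoc, ← Matrix.mul_assoc, Matrix.nonsing_inv_mul _ hPu, Matrix.one_mul, Matrix.one_mul] at h2
    exact Subtype.ext (Matrix.map_injective ι.toRingHom.injective h2)
  have hrange : Φ.range = Cfsg.SU 2 F q := by
    ext g
    constructor
    · rintro ⟨M, rfl⟩
      rw [hmem]
      refine (hiff _ ?_).mpr ?_
      · exact (Matrix.SpecialLinearGroup.map ι.toRingHom M).det_coe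
      · ext i j; exact hι _
    · intro hg
      rw [hmem] at hg
      set M := P⁻¹ * (g : Matrix (Fin 2) (Fin 2) F) * P with hMdef
      have hgM : P * M * P⁻¹ = (g : Matrix (Fin 2) (Fin 2) F) := by
        rw [hMdef]
        simp only [Matrix.mul_assoc]
        rw [Matrix.mul_nonsing_inv _ hPu, Matrix.mul_one, ← Matrix.mul_assoc, Matrix.mul_nonsing_inv _ hPu, Matrix.one_mul]
      have hMd : M.det = 1 := by
        rw [hMdef, Matrix.det_conj' ((Matrix.isUnit_iff_isUnit_det P).mpr hPu)]
        exact g.det_coe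
      have hMb := (hiff M hMd).mp (by rw [hgM]; exact hg)
      choose k hk using fun i j => hfix (M i j) (congrFun (congrFun hMb i) j)
      have hkM : (Matrix.of k).map ι = M := by ext i j; exact hk i j
      have hkd : (Matrix.of k).det = 1 := ι.toRingHom.injective (by
        rw [map_one, RingHom.map_det]
        show ((Matrix.of k).map ι).det = 1
        rw [hkM, hMd])
      exact ⟨⟨Matrix.of k, hkd⟩, Subtype.ext (by show P * (Matrix.of k).map ι * P⁻¹ = _; rw [hkM, hgM])⟩
  exact ⟨((MonoidHom.ofInjective hΦinj).trans (MulEquiv.subgroupCongr hrange)).symm⟩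

end Cfsg.Agent.S0281
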