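import Cfsg.Statements.S0803
import Cfsg.Agent.Lib.SL2.Exist

set_option autoImplicit false
open Cfsg

namespace Cfsg.Agent.S0803

/-- PSL_2(q) has a subgroup isomorphic to S_4 iff q² ≡ 1 (mod 16). -/
theorem result {F : Type*} [Field F] [Fintype F] {q : ℕ} (hF : Fintype.card F = q) : (∃ H : Subgroup (Matrix.ProjectiveSpecialLinearGroup (Fin 2) F), Nonempty (H ≃* Equiv.Perm (Fin 4))) ↔ q ^ 2 % 16 = 1 := by
  rw [Fintype.card_eq_nat_card] at hF
  subst hF
  have h1 : 1 < Nat.card F := Finite.one_lt_card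
  rcases Nat.even_or_odd (Nat.card F) with he | hodd
  · constructor
    · rintro ⟨H, ⟨e⟩⟩
      refine absurd ?_ (CfsgLib.SL2.orderOf_ne_four_of_even he (e.symm (finRotate 4) : Matrix.ProjectiveSpecialLinearGroup (Fin 2) F))
      rw [Subgroup.orderOf_coe, MulEquiv.orderOf_eq, orderOf_eq_iff (by norm_num)]
      decide
    · intro h
      obtain ⟨j, hj⟩ := he
      rw [hj, show (j + j) ^ 2 = 4 * (j * j) by ring] at h
      omega
  · obtain ⟨j, hj⟩ := hodd
    have hodd : Odd (Nat.card F) := ⟨j, hj⟩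
    have hsq : Nat.card F ^ 2 = 4 * (j * (j + 1)) + 1 := by rw [hj]; ring
    have hiff : Nat.card F ^ 2 % 16 = 1 ↔ 4 ∣ j * (j + 1) := by rw [hsq]; omega
    rw [hiff]
    constructor
    · rintro ⟨H, ⟨e⟩⟩
      have hd := H.card_subgroup_dvd_card
      rw [Nat.card_congr e.toEquiv, CfsgLib.SL2.card_perm_four] at hd
      have hG := CfsgLib.SL2.card_PSL (F := F)
      rw [show Nat.gcd 2 (Nat.card F - 1) = 2 from CfsgLib.SL2.dd_of_odd hodd, hj, Nat.add_sub_cancel,
        show (2 * j + 1) * (2 * j * (2 * j + 1 + 1)) = 2 * (2 * ((2 * j + 1) * (j * (j + 1)))) by ring] at hG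
      have h8 : 8 ∣ 2 * ((2 * j + 1) * (j * (j + 1))) :=
        Nat.eq_of_mul_eq_mul_left two_pos hG ▸ (dvd_trans (by norm_num) hd)
      have h4 : 4 ∣ (2 * j + 1) * (j * (j + 1)) :=
        Nat.dvd_of_mul_dvd_mul_left two_pos (show 2 * 4 ∣ _ from h8)
      exact (Nat.Coprime.pow_left 2 (Nat.coprime_two_left.2 ⟨j, rfl⟩) : Nat.Coprime (2 ^ 2) (2 * j + 1)).dvd_of_dvd_mul_left h4
    · intro h
      have hj1 : 1 ≤ j := by omega
      have h4 : 4 ∣ j ∨ 4 ∣ j + 1 := by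
        rcases Nat.even_or_odd j with hev | hod
        · exact Or.inl ((Nat.Coprime.pow_left 2 (Nat.coprime_two_left.2 hev.add_one) :
            Nat.Coprime (2 ^ 2) (j + 1)).dvd_of_dvd_mul_right h)
        · exact Or.inr ((Nat.Coprime.pow_left 2 (Nat.coprime_two_left.2 hod) :
            Nat.Coprime (2 ^ 2) j).dvd_of_dvd_mul_left h)
      have h5 : 4 ≤ Nat.card F := by omega
      obtain ⟨c, hc⟩ := CfsgLib.SL2.exists_orderOf_of_dvd (F := F) h5 (n := 4) (by
        rw [show CfsgLib.SL2.dd F = 2 from CfsgLib.SL2.dd_of_odd hodd, hj]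
        rcases h4 with ⟨i, hi⟩ | ⟨i, hi⟩
        · exact Or.inl ⟨i, by omega⟩
        · exact Or.inr ⟨i, by omega⟩)
      obtain ⟨s, hs⟩ := CfsgLib.SL2.exists_sq_two hodd hc
      exact CfsgLib.SL2.exists_perm_four_of_sq hodd hs

end Cfsg.Agent.S0803
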