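import Cfsg.Statements.S0804
import Cfsg.Agent.Lib.SL2.Exist

set_option autoImplicit false
open Cfsg

namespace Cfsg.Agent.S0804

/-- PSL_2(q) has a subgroup isomorphic to A_5 iff 5 ∣ q(q² − 1). -/
theorem result {F : Type*} [Field F] [Fintype F] {q : ℕ} (hF : Fintype.card F = q) : (∃ H : Subgroup (Matrix.ProjectiveSpecialLinearGroup (Fin 2) F), Nonempty (H ≃* alternatingGroup (Fin 5))) ↔ 5 ∣ q * (q ^ 2 - 1) := by
  rw [Fintype.card_eq_nat_card] at hF
  subst hF
  have hG := CfsgLib.SL2.card_PSL (F := F)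
  have hsq : Nat.card F ^ 2 - 1 = (Nat.card F - 1) * (Nat.card F + 1) := by
    rw [mul_comm, ← Nat.sq_sub_sq, one_pow]
  rw [hsq]
  constructor
  · rintro ⟨H, ⟨e⟩⟩
    have hd := H.card_subgroup_dvd_card
    rw [Nat.card_congr e.toEquiv, CfsgLib.SL2.card_alternating_five] at hd
    exact hG ▸ dvd_mul_of_dvd_right (dvd_trans (by norm_num) hd) _
  · intro h
    rcases Nat.even_or_odd (Nat.card F) with he | hodd
    · obtain ⟨p, hchar⟩ := CharP.exists F
      let _ := Fintype.ofFinite F
      obtain ⟨n, hp, hn⟩ := FiniteField.card F p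
      rw [Fintype.card_eq_nat_card] at hn
      have hp2 : p = 2 := ((Nat.prime_dvd_prime_iff_eq Nat.prime_two hp).1
        (Nat.prime_two.dvd_of_dvd_pow (hn ▸ even_iff_two_dvd.1 he))).symm
      subst hp2
      rcases Nat.even_or_odd (n : ℕ) with ⟨m, hm⟩ | ⟨m, hm⟩
      · exact CfsgLib.SL2.exists_alternating_five_of_pow_four m (by rw [hn, hm, ← two_mul, pow_mul]; norm_num)
      · exfalso
        obtain ⟨r, hr⟩ : ∃ r, 4 ^ m = r := ⟨_, rfl⟩
        have hq : Nat.card F = 2 * r := by rw [hn, hm, pow_succ, pow_mul, ← hr]; ring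
        have hr5 : r % 5 = 1 ∨ r % 5 = 4 := by
          subst hr
          clear hm hq
          induction m with
          | zero => simp
          | succ i ih => rw [pow_succ]; omega
        rcases (Nat.Prime.dvd_mul Nat.prime_five).1 h with h' | h'
        · omega
        rcases (Nat.Prime.dvd_mul Nat.prime_five).1 h' with h' | h' <;> omega
    · have hd : CfsgLib.SL2.dd F = 2 := CfsgLib.SL2.dd_of_odd hodd
      have h5 : 5 ∣ Nat.card (Matrix.ProjectiveSpecialLinearGroup (Fin 2) F) := by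
        rw [← hG] at h
        exact ((Nat.coprime_primes Nat.prime_five Nat.prime_two).2 (by norm_num)).dvd_of_dvd_mul_left
          (m := 2) (by rwa [show Nat.gcd 2 (Nat.card F - 1) = 2 from hd] at h)
      have : Fact (Nat.Prime 5) := ⟨Nat.prime_five⟩
      obtain ⟨c, hc⟩ := exists_prime_orderOf_dvd_card' 5 h5
      obtain ⟨s, hs⟩ := CfsgLib.SL2.exists_sq_five hc
      exact CfsgLib.SL2.exists_alternating_five_of_sq hodd hs

end Cfsg.Agent.S0804
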