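import Mathlib
import Cfsg.Statements.S0801
import Cfsg.Agent.Lib.SL2.SolubilizerCount
import Cfsg.Agent.Lib.SL2.TransvectionF9

set_option autoImplicit false
set_option maxHeartbeats 800000
set_option linter.unusedSectionVars false
open Cfsg CfsgLib.SL2
open Matrix
open scoped MatrixGroups

namespace Cfsg.Agent.S0801

variable {F : Type*} [Field F] [Finite F]

local notation "PSL" => ProjectiveSpecialLinearGroup (Fin 2) F

theorem trace_order_five {g : SL(2, F)} (h : proj g ^ 5 = 1) (hg : proj g ≠ 1) :
    let t := Solubilizer.tr g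
    (t * t - t - 1) * (t * t + t - 1) = 0 := by
  intro t
  have ht : (g : Matrix (Fin 2) (Fin 2) F).trace = t := by rw [Matrix.trace_fin_two]; rfl
  have hgn : NonScalar (g : Matrix (Fin 2) (Fin 2) F) := by
    by_contra h'
    exact hg ((proj_eq_one_iff _).2 ((mem_center_iff_not_nonScalar _).2 h'))
  have h5 : g * ((g * g) * (g * g)) ∈ Subgroup.center SL(2, F) := by
    rw [← proj_eq_one_iff, ← h, ← map_pow]
    simp [pow_succ, mul_assoc]
  have hM : ((g * ((g * g) * (g * g)) : SL(2, F)) : Matrix (Fin 2) (Fin 2) F) =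
      (t ^ 4 - 3 * t ^ 2 + 1) • (g : Matrix (Fin 2) (Fin 2) F) - (t ^ 3 - 2 * t) • 1 := by
    have hm := cayley (g : Matrix (Fin 2) (Fin 2) F)
    rw [g.det_coe, one_smul, ht] at hm
    rw [Matrix.SpecialLinearGroup.coe_mul, Matrix.SpecialLinearGroup.coe_mul, Matrix.SpecialLinearGroup.coe_mul]
    generalize (g : Matrix (Fin 2) (Fin 2) F) = X at hm ⊢
    simp only [hm, mul_sub, sub_mul, mul_add, add_mul, smul_mul_assoc, mul_smul_comm, smul_sub,
      smul_add, mul_one, one_mul, smul_smul]
    ext i j
    simp only [Matrix.sub_apply, Matrix.add_apply, Matrix.smul_apply, smul_eq_mul]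
    ring
  by_contra h0
  have h' : t ^ 4 - 3 * t ^ 2 + 1 ≠ 0 := fun e => h0 (by linear_combination e)
  refine (mem_center_iff_not_nonScalar _).1 h5 ?_
  rw [nonScalar_iff, hM]
  rw [nonScalar_iff] at hgn
  simp only [Matrix.sub_apply, Matrix.smul_apply, smul_eq_mul, Matrix.one_apply_ne (show (0 : Fin 2) ≠ 1 by decide),
    Matrix.one_apply_ne (show (1 : Fin 2) ≠ 0 by decide), Matrix.one_apply_eq, mul_zero, sub_zero]
  rcases hgn with e | e | e
  · exact Or.inl (mul_ne_zero h' e)
  · exact Or.inr (Or.inl (mul_ne_zero h' e))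
  · exact Or.inr (Or.inr fun e' => e (mul_left_cancel₀ h' (sub_left_injective e')))

/-- A subgroup of `SL(2, F)` mapping onto `PSL(2, F)` is everything. -/
theorem eq_top_of_map (hodd : Odd (Nat.card F)) {H : Subgroup SL(2, F)} (h : H.map proj = ⊤) : H = ⊤ := by
  have h2 : (2 : F) ≠ 0 := two_ne_zero_of_odd_card hodd
  have hdvd : 2 ∣ Nat.card PSL := by
    obtain ⟨j, hj⟩ := hodd
    obtain ⟨i, hi⟩ := (Nat.even_mul_succ_self j).two_dvd
    have hc := card_PSL (F := F)
    rw [hj, show 2 * j + 1 - 1 = 2 * j by omega, show Nat.gcd 2 (2 * j) = 2 from Nat.gcd_eq_left (dvd_mul_right _ _)] at hc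
    refine ⟨(2 * j + 1) * i * 2, ?_⟩
    have h1 : j * (2 * j + 1 + 1) = 2 * (j * (j + 1)) := by ring
    have h3 : 2 * Nat.card PSL = 2 * (2 * ((2 * j + 1) * i * 2)) := by
      rw [hc, mul_assoc 2 j, h1, hi]; ring
    exact Nat.eq_of_mul_eq_mul_left two_pos h3
  haveI : Fact (Nat.Prime 2) := ⟨Nat.prime_two⟩
  obtain ⟨w, hw⟩ := exists_prime_orderOf_dvd_card' 2 hdvd
  obtain ⟨g, hg, rfl⟩ : w ∈ H.map proj := h ▸ Subgroup.mem_top _
  have hne : proj g ≠ 1 := fun e => by rw [e, orderOf_one] at hw; omega
  have htr : Solubilizer.tr g = 0 := (Solubilizer.trace_of_proj_sq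
    (by rw [← pow_two]; exact orderOf_dvd_iff_pow_eq_one.1 hw.dvd)).resolve_right hne
  have hneg : (-1 : SL(2, F)) ∈ H := by
    have hgg : g * g = -1 := by
      refine eq_neg_one_of_mul_self h2 ?_ fun e => ?_
      · have hm := cayley (g : Matrix (Fin 2) (Fin 2) F)
        rw [g.det_coe, one_smul, Matrix.trace_fin_two, show g 0 0 + g 1 1 = 0 from htr, zero_smul, zero_sub] at hm
        apply Subtype.ext
        simp only [Matrix.SpecialLinearGroup.coe_mul, hm, Matrix.SpecialLinearGroup.coe_one]
        simp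
      · have hm := cayley (g : Matrix (Fin 2) (Fin 2) F)
        rw [g.det_coe, one_smul, Matrix.trace_fin_two, show g 0 0 + g 1 1 = 0 from htr, zero_smul, zero_sub,
          ← Matrix.SpecialLinearGroup.coe_mul, e, Matrix.SpecialLinearGroup.coe_one] at hm
        have := congrFun (congrFun hm 0) 0
        simp at this
        exact h2 (by linear_combination this)
    exact hgg ▸ mul_mem hg hg
  refine (Subgroup.eq_top_iff' H).2 fun x => ?_
  obtain ⟨y, hy, hxy⟩ : proj x ∈ H.map proj := h ▸ Subgroup.mem_top _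
  rcases eq_or_eq_neg_of_proj_eq hxy with e | e
  · exact e ▸ hy
  · rw [e, ← neg_one_mul]; exact mul_mem hneg hy

theorem orderOf_alternating_five_ne_four (v : alternatingGroup (Fin 5)) : orderOf v ≠ 4 := by
  intro h
  have h1 : ∀ v : alternatingGroup (Fin 5), v * v * (v * v) = 1 → v * v = 1 := by decide +kernel
  have := orderOf_dvd_of_pow_eq_one (show v ^ 2 = 1 by
    rw [pow_two]
    have h4 := orderOf_dvd_iff_pow_eq_one.1 h.dvd
    rw [pow_succ, pow_succ, pow_succ, pow_one] at h4
    exact h1 v (by rwa [← mul_assoc]))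
  rw [h] at this
  norm_num at this

theorem anisotropic_three : ∀ w : ZMod 3 × ZMod 3, w.1 * w.1 + w.2 * w.2 = 0 → w = 0 := by decide

theorem card_alternating_four : Nat.card (alternatingGroup (Fin 4)) = 12 := by
  rw [Nat.card_eq_fintype_card]; decide

/-- Either everything is generated, or the field has nine elements and `λ² = -1`. -/
theorem dickson_lemma (p : ℕ) [hp : Fact p.Prime] [CharP F p] (h2 : (2 : F) ≠ 0) (lam : F) (hlam : lam ≠ 0) (hgen : Subfield.closure ({lam} : Set F) = ⊤) :
    Subgroup.closure ({lo 1, up lam} : Set SL(2, F)) = ⊤ ∨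
      (Nat.card F = 9 ∧ lam ^ 2 = -1 ∧ Nat.card (Subgroup.closure ({lo 1, up lam} : Set SL(2, F))) = 120) := by
  classical
  haveI := Fintype.ofFinite F
  have hp2 : p ≠ 2 := fun e => h2 (by subst e; exact_mod_cast CharP.cast_eq_zero F 2)
  have hodd : Odd (Nat.card F) := by
    rw [Nat.card_eq_fintype_card]
    exact Nat.odd_iff.2 (FiniteField.odd_card_of_char_ne_two (by rw [ringChar.eq F p]; exact hp2))
  have hp3 : 3 ≤ p := by have := hp.out.two_le; omega
  set H := Subgroup.closure ({lo 1, up lam} : Set SL(2, F)) with hH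
  set Hb := H.map (proj : SL(2, F) →* PSL) with hHb
  have hloH : lo 1 ∈ H := Subgroup.subset_closure (Or.inl rfl)
  have hupH : up lam ∈ H := Subgroup.subset_closure (Or.inr rfl)
  set x := proj (lo (1 : F))
  set y := proj (up lam)
  have hxH : x ∈ Hb := ⟨_, hloH, rfl⟩
  have hyH : y ∈ Hb := ⟨_, hupH, rfl⟩
  -- the generators have order `p` and do not commute
  have hlo : (lo (1 : F)) 0 0 = 1 ∧ (lo (1 : F)) 0 1 = 0 ∧ (lo (1 : F)) 1 0 = 1 ∧ (lo (1 : F)) 1 1 = 1 := by
    simp [lo_coe]
  have hup : (up lam) 0 0 = 1 ∧ (up lam) 0 1 = lam ∧ (up lam) 1 0 = 0 ∧ (up lam) 1 1 = 1 := by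
    simp [up_coe]
  have hy1 : y ≠ 1 := fun e => hlam (hup.2.1 ▸ ((Solubilizer.proj_eq_one_iff' _).1 e).1)
  have hx1 : x ≠ 1 := fun e => one_ne_zero (α := F) (hlo.2.2.1 ▸ ((Solubilizer.proj_eq_one_iff' _).1 e).2.1)
  have hyp : y ^ p = 1 := by rw [← map_pow, up_pow, map_one]
  have hxp : x ^ p = 1 := by
    have hlocoe : ∀ n : ℕ, ((lo (1 : F)) ^ n : SL(2, F)).1 = !![1, 0; (n : F), 1] := by
      intro n
      induction n with
      | zero => simp [Matrix.one_fin_two]
      | succ n ih => rw [pow_succ, Matrix.SpecialLinearGroup.coe_mul, ih, lo_coe]; simp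
    rw [← map_pow, Solubilizer.proj_eq_one_iff']
    simp [hlocoe]
  have hxo : orderOf x = p := orderOf_eq_prime hxp hx1
  have hyo : orderOf y = p := orderOf_eq_prime hyp hy1
  have htr1 : Solubilizer.tr (lo 1 * up lam) = 2 + lam := by
    simp only [Solubilizer.tr, Solubilizer.mul_entry', hlo, hup]; ring
  have htr2 : Solubilizer.tr ((lo 1)⁻¹ * up lam) = 2 - lam := by
    obtain ⟨i0, i1, i2, i3⟩ := inv_entries (lo (1 : F))
    simp only [Solubilizer.tr, Solubilizer.mul_entry', i0, i1, i2, i3, hlo, hup]; ring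
  have hm1 : proj (lo 1 * up lam) ∈ Hb := ⟨_, mul_mem hloH hupH, rfl⟩
  have hm2 : proj ((lo 1)⁻¹ * up lam) ∈ Hb := ⟨_, mul_mem (inv_mem hloH) hupH, rfl⟩
  -- `lam` in a proper subfield is impossible
  have hfull : ∀ K : Subfield F, lam ∈ K → ∀ a : F, a ∈ K := fun K hK a => by
    have : Subfield.closure ({lam} : Set F) ≤ K := Subfield.closure_le.2 (Set.singleton_subset_iff.2 hK)
    rw [hgen] at this
    exact this (Subfield.mem_top a)
  have hprime : (∃ n : ℕ, lam = (n : F) ∨ lam = -(n : F)) → Nat.card F = p := by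
    intro hn
    let f : ZMod p →+* F := ZMod.castHom (dvd_refl p) F
    have hl : lam ∈ f.fieldRange := by
      obtain ⟨n, e | e⟩ := hn
      · exact e ▸ ⟨n, map_natCast f n⟩
      · exact e ▸ ⟨-n, by rw [map_neg, map_natCast]⟩
    have hs : Function.Surjective f := fun a => hfull f.fieldRange hl a
    rw [← Nat.card_congr (Equiv.ofBijective f ⟨f.injective, hs⟩), Nat.card_zmod]
  have htop : Hb = ⊤ → H = ⊤ := eq_top_of_map hodd
  rcases dickson_maximal_in p Hb with ⟨c, -, hc, hle⟩ | ⟨k, hk⟩ | ⟨⟨e⟩⟩ | ⟨⟨e⟩⟩ | ⟨⟨e⟩⟩ | hsub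
  · exfalso
    by_cases hyT : y ∈ torus c
    · exact not_dvd_card_torus p hc (hyo ▸ Subgroup.orderOf_dvd_natCard _ hyT)
    · have := mul_self_of_normalizer_torus p hc (hle hyH) hyT
      rw [← pow_two] at this
      have := Nat.le_of_dvd two_pos (orderOf_dvd_of_pow_eq_one this)
      omega
  · exfalso
    have h1 := mem_upperPSL_of_pow p (hk x hxH) (by rw [conj_pow, hxp, mul_one, mul_inv_cancel])
    have h3 := mem_upperPSL_of_pow p (hk y hyH) (by rw [conj_pow, hyp, mul_one, mul_inv_cancel])
    have hc := (upperPSL_comm h1 h3).eq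
    rw [conj_mul, conj_mul] at hc
    have hc' : proj (lo 1 * up lam) = proj (up lam * lo 1) := by
      rw [map_mul, map_mul]; exact mul_left_cancel (mul_right_cancel hc)
    rcases eq_or_eq_neg_of_proj_eq hc' with e | e
    · have := congrArg (fun m : SL(2, F) => m 0 0) e
      simp [Solubilizer.mul_entry', Matrix.mul_apply, Fin.sum_univ_two, hlo, hup] at this
      exact hlam this
    · have := congrArg (fun m : SL(2, F) => m 1 0) e
      simp [Solubilizer.mul_entry', Matrix.mul_apply, Fin.sum_univ_two, hlo, hup] at this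
      exact h2 (by linear_combination this)
  · -- `A₄`
    left; apply htop
    have hp3' : p = 3 := by
      have h12 := hyo ▸ Subgroup.orderOf_dvd_natCard Hb hyH
      rw [Nat.card_congr e.toEquiv, card_alternating_four] at h12
      have : p ∣ 12 := h12
      have := Nat.le_of_dvd (by norm_num) this
      interval_cases p <;> first | rfl | omega | exact absurd hp.out (by norm_num)
    have hF : Nat.card F = 3 := by
      rw [← hp3']
      refine hprime ?_
      rcases Solubilizer.trace_of_order_le hp3' (g := lo 1 * up lam)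
        (orderOf_le_of_mulEquiv e orderOf_alternating_four_le hm1) with h | h | h <;> rw [htr1] at h
      · exact ⟨2, Or.inr (by push_cast; linear_combination h)⟩
      · exact ⟨1, Or.inr (by push_cast; linear_combination h)⟩
      · exact ⟨3, Or.inr (by push_cast; linear_combination h)⟩
    refine Subgroup.eq_top_of_card_eq _ ?_
    rw [card_three hF, Nat.card_congr e.toEquiv, card_alternating_four]
  · -- `S₄` is not generated by elements of odd order
    exfalso
    have hdvd : p ∣ 24 := by
      have := hyo ▸ Subgroup.orderOf_dvd_natCard Hb hyH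
      rwa [Nat.card_congr e.toEquiv, card_perm_four] at this
    let σ : Hb →* ℤˣ := Equiv.Perm.sign.comp e.toMonoidHom
    have hkill : ∀ w : Hb, (w : PSL) ^ p = 1 → σ w = 1 := fun w hw => by
      have h1 : σ w ^ p = 1 := by rw [← map_pow, show w ^ p = 1 from Subtype.ext (by simpa using hw), map_one]
      rcases Int.units_eq_one_or (σ w) with h | h
      · exact h
      · rw [h, (hp.out.odd_of_ne_two hp2).neg_one_pow] at h1
        exact h.trans h1
    have hall : Hb ≤ σ.ker.map Hb.subtype := by
      refine Subgroup.map_le_iff_le_comap.2 ((Subgroup.closure_le _).2 ?_)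
      rintro w (rfl | rfl)
      · exact ⟨⟨x, hxH⟩, hkill ⟨x, hxH⟩ hxp, rfl⟩
      · exact ⟨⟨y, hyH⟩, hkill ⟨y, hyH⟩ hyp, rfl⟩
    obtain ⟨w, hw⟩ := (Equiv.Perm.sign.comp e.toMonoidHom).range.eq_bot_iff_forall.not.1 (by
      intro hb
      have := hb.le ⟨e.symm (Equiv.swap 0 1), rfl⟩
      simp at this) |> fun h => (show ∃ w : Hb, σ w ≠ 1 by
        push Not at h
        obtain ⟨u, ⟨w, rfl⟩, hu⟩ := h
        exact ⟨w, hu⟩)
    obtain ⟨w', hw', hwe⟩ := hall w.2
    exact hw (Subtype.ext hwe ▸ hw')
  · -- `A₅`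
    have h60 : Nat.card Hb = 60 := by
      rw [Nat.card_congr e.toEquiv, card_alternating_five]
    have hdvd : p ∣ 60 := h60 ▸ (hyo ▸ Subgroup.orderOf_dvd_natCard Hb hyH)
    have hp35 : p = 3 ∨ p = 5 := by
      have := Nat.le_of_dvd (by norm_num) hdvd
      by_contra h
      push Not at h
      interval_cases p <;> first | omega | exact absurd hp.out (by norm_num)
    have hord : ∀ g : SL(2, F), proj g ∈ Hb → Solubilizer.tr g = 0 ∨ Solubilizer.tr g * Solubilizer.tr g = 1 ∨
        proj g = 1 ∨ (Solubilizer.tr g * Solubilizer.tr g - Solubilizer.tr g - 1) *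
          (Solubilizer.tr g * Solubilizer.tr g + Solubilizer.tr g - 1) = 0 := by
      intro g hg
      have h5 := orderOf_le_of_mulEquiv e orderOf_alternating_five_le hg
      have hd : orderOf (proj g) ∣ 60 := h60 ▸ Subgroup.orderOf_dvd_natCard Hb hg
      have h0 := orderOf_pos (proj g)
      by_cases h1 : proj g = 1
      · exact Or.inr (Or.inr (Or.inl h1))
      interval_cases ho : orderOf (proj g)
      · exact absurd (orderOf_eq_one_iff.1 ho) h1
      · exact Or.inl ((Solubilizer.trace_of_proj_sq (by rw [← pow_two]; exact orderOf_dvd_iff_pow_eq_one.1 ho.dvd)).resolve_right h1)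
      · exact Or.inr (Or.inl ((Solubilizer.trace_of_proj_cube
          (by rw [← pow_two, ← pow_succ]; exact orderOf_dvd_iff_pow_eq_one.1 ho.dvd)).resolve_right h1))
      · exfalso
        exact absurd ho (by
          intro ho
          exact orderOf_alternating_five_ne_four _ ((MulEquiv.orderOf_eq e ⟨_, hg⟩).trans (by rw [← Subgroup.orderOf_coe]; exact ho)))
      · exact Or.inr (Or.inr (Or.inr (trace_order_five (orderOf_dvd_iff_pow_eq_one.1 ho.dvd) h1)))
    have hone : ∀ g : SL(2, F), proj g = 1 → Solubilizer.tr g = 2 ∨ Solubilizer.tr g = -2 := by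
      intro g hg
      rcases eq_or_eq_neg_of_proj_eq (g := 1) (h := g) (hg.trans (map_one proj).symm).symm with rfl | rfl
      · left; simp [Solubilizer.tr]; norm_num
      · right; simp [Solubilizer.tr]; norm_num
    rcases hp35 with rfl | rfl
    · -- characteristic three
      have h3 : (3 : F) = 0 := Solubilizer.three_eq_zero rfl
      by_cases hl : ∃ n : ℕ, lam = (n : F) ∨ lam = -(n : F)
      · exfalso
        have hF := hprime hl
        have := Subgroup.card_le_card_group Hb
        rw [h60, card_three hF] at this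
        omega
      push Not at hl
      have l0 : lam ≠ 0 := hlam
      have l1 : lam ≠ 1 := by simpa using (hl 1).1
      have l2 : lam ≠ -1 := by simpa using (hl 1).2
      have hroot : ∀ g : SL(2, F), proj g ∈ Hb → (Solubilizer.tr g = 2 + lam ∨ Solubilizer.tr g = 2 - lam) →
          Solubilizer.tr g ^ 4 = -1 := by
        intro g hg hgl
        rcases hord g hg with h | h | h | h
        · rw [h] at hgl
          rcases hgl with e | e
          · exact absurd (show lam = 1 by linear_combination -e - h3) l1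
          · exact absurd (show lam = -1 by linear_combination e + h3) l2
        · rcases mul_self_eq_one_iff.1 h with h | h <;> rw [h] at hgl <;> rcases hgl with e | e
          · exact absurd (show lam = -1 by linear_combination -e) l2
          · exact absurd (show lam = 1 by linear_combination e) l1
          · exact absurd (show lam = 0 by linear_combination -e - h3) l0
          · exact absurd (show lam = 0 by linear_combination e + h3) l0
        · rcases hone g h with h | h <;> rw [h] at hgl <;> rcases hgl with e | e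
          · exact absurd (show lam = 0 by linear_combination -e) l0
          · exact absurd (show lam = 0 by linear_combination e) l0
          · exact absurd (show lam = -1 by linear_combination -e - h3) l2
          · exact absurd (show lam = 1 by linear_combination e + h3) l1
        · linear_combination h + Solubilizer.tr g ^ 2 * h3
      have e1 := hroot _ hm1 (Or.inl htr1)
      have e2 := hroot _ hm2 (Or.inr htr2)
      rw [htr1] at e1
      rw [htr2] at e2
      have hsq : lam ^ 2 = -1 := by
        have h8 : lam * (lam ^ 2 + 1) * 2 = 0 := by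
          linear_combination -(e1 - e2) + (6 * lam * (lam ^ 2 + 1) + 16 * lam) * h3 - (0 : F) * h3
        have := (mul_eq_zero.1 h8).resolve_right h2
        linear_combination (mul_eq_zero.1 this).resolve_left hlam
      have hF9 : Nat.card F = 9 := by
        let φ : ZMod 3 × ZMod 3 → F := fun v => ZMod.castHom (dvd_refl 3) F v.1 + ZMod.castHom (dvd_refl 3) F v.2 * lam
        have hinj : Function.Injective φ := by
          rintro ⟨a, b⟩ ⟨a', b'⟩ he
          simp only [φ] at he
          by_cases hb : b = b'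
          · subst hb
            rw [add_left_inj] at he
            exact Prod.ext ((ZMod.castHom (dvd_refl 3) F).injective he) rfl
          · exfalso
            have hb' : ZMod.castHom (dvd_refl 3) F (b - b') ≠ 0 := (map_ne_zero _).2 (sub_ne_zero.2 hb)
            obtain ⟨m, hm⟩ : ∃ m : ZMod 3, lam = ZMod.castHom (dvd_refl 3) F m := ⟨(a' - a) / (b - b'), by
              rw [map_div₀, eq_div_iff hb', map_sub, map_sub]; linear_combination he⟩
            exact (hl m.val).1 (by rw [hm]; simp)
        let K : Subfield F :=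
          { carrier := Set.range φ
            zero_mem' := ⟨(0, 0), by simp [φ]⟩
            one_mem' := ⟨(1, 0), by simp [φ]⟩
            add_mem' := by rintro _ _ ⟨v, rfl⟩ ⟨w, rfl⟩; exact ⟨v + w, by simp only [φ, Prod.fst_add, Prod.snd_add, map_add]; ring⟩
            neg_mem' := by rintro _ ⟨v, rfl⟩; exact ⟨-v, by simp only [φ, Prod.fst_neg, Prod.snd_neg, map_neg]; ring⟩
            mul_mem' := by
              rintro _ _ ⟨v, rfl⟩ ⟨w, rfl⟩
              exact ⟨(v.1 * w.1 - v.2 * w.2, v.1 * w.2 + v.2 * w.1), by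
                simp only [φ, map_add, map_sub, map_mul]
                linear_combination (-(ZMod.castHom (dvd_refl 3) F v.2) * ZMod.castHom (dvd_refl 3) F w.2) * hsq⟩
            inv_mem' := by
              rintro _ ⟨v, rfl⟩
              rcases eq_or_ne (φ v) 0 with h0 | h0
              · exact ⟨(0, 0), by rw [h0, _root_.inv_zero]; simp [φ]⟩
              have hN : ZMod.castHom (dvd_refl 3) F (v.1 * v.1 + v.2 * v.2) ≠ 0 := (map_ne_zero _).2 fun e => by
                have : v = 0 := anisotropic_three v e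
                exact h0 (by rw [this]; simp [φ])
              refine ⟨(v.1 / (v.1 * v.1 + v.2 * v.2), -v.2 / (v.1 * v.1 + v.2 * v.2)), eq_inv_of_mul_eq_one_left ?_⟩
              simp only [φ, map_div₀, map_neg, map_add, map_mul] at hN ⊢
              rw [div_mul_eq_mul_div, ← add_div, div_mul_eq_mul_div, div_eq_one_iff_eq hN]
              linear_combination (-(ZMod.castHom (dvd_refl 3) F v.2) * ZMod.castHom (dvd_refl 3) F v.2) * hsq }
        have hs : Function.Surjective φ := fun a => hfull K ⟨(0, 1), by simp [φ]⟩ a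
        rw [← Nat.card_congr (Equiv.ofBijective φ ⟨hinj, hs⟩), Nat.card_prod, Nat.card_zmod]
      refine Or.inr ⟨hF9, hsq, le_antisymm (NineTable.card_closure_le hsq) ?_⟩
      obtain ⟨g, hg, hgo⟩ : ∃ g ∈ H, orderOf (proj g) = 2 := by
        haveI : Fact (Nat.Prime 2) := ⟨Nat.prime_two⟩
        obtain ⟨w, hw⟩ := exists_prime_orderOf_dvd_card' (G := Hb) 2 (by rw [h60]; norm_num)
        obtain ⟨g, hg, hgw⟩ := w.2
        exact ⟨g, hg, by rw [hgw, Subgroup.orderOf_coe, hw]⟩
      have hker : 2 ≤ Nat.card (proj.comp H.subtype).ker := by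
        refine Finite.one_lt_card_iff_nontrivial.2 (Subgroup.nontrivial_iff_exists_ne_one _ |>.2 ⟨⟨g * g, mul_mem hg hg⟩, ?_, fun e => ?_⟩)
        · show proj (g * g) = 1
          rw [map_mul, ← pow_two]
          exact orderOf_dvd_iff_pow_eq_one.1 hgo.dvd
        · have e' : g * g = 1 := congrArg Subtype.val e
          by_cases hg1 : g = 1
          · rw [hg1, map_one, orderOf_one] at hgo; omega
          · rw [eq_neg_one_of_mul_self h2 e' hg1, (proj_eq_one_iff _).2 neg_one_mem_center, orderOf_one] at hgo; omega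
      have hc := Subgroup.card_eq_card_quotient_mul_card_subgroup (proj.comp H.subtype).ker
      rw [Nat.card_congr (QuotientGroup.quotientKerEquivRange (proj.comp H.subtype)).toEquiv, MonoidHom.range_comp,
        Subgroup.range_subtype] at hc
      change Nat.card H = Nat.card Hb * _ at hc
      rw [h60] at hc
      show 120 ≤ Nat.card H
      rw [hc]; omega
    · -- characteristic five
      left; apply htop
      have h5 : (5 : F) = 0 := by exact_mod_cast CharP.cast_eq_zero F 5
      have hF : Nat.card F = 5 := by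
        refine hprime ?_
        rcases hord _ hm1 with h | h | h | h
        · rw [htr1] at h; exact ⟨2, Or.inr (by push_cast; linear_combination h)⟩
        · rcases mul_self_eq_one_iff.1 h with h | h <;> rw [htr1] at h
          · exact ⟨1, Or.inr (by push_cast; linear_combination h)⟩
          · exact ⟨3, Or.inr (by push_cast; linear_combination h)⟩
        · rcases hone _ h with h | h <;> rw [htr1] at h
          · exact ⟨0, Or.inl (by push_cast; linear_combination h)⟩
          · exact ⟨4, Or.inr (by push_cast; linear_combination h)⟩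
        · rw [htr1] at h
          rcases mul_eq_zero.1 h with h | h
          · have : (2 + lam + 2) ^ 2 = 0 := by linear_combination h + ((2 + lam) + 1) * h5
            exact ⟨4, Or.inr (by push_cast; linear_combination pow_eq_zero_iff two_ne_zero |>.1 this)⟩
          · have : (2 + lam - 2) ^ 2 = 0 := by linear_combination h + (1 - (2 + lam)) * h5
            exact ⟨0, Or.inl (by push_cast; linear_combination pow_eq_zero_iff two_ne_zero |>.1 this)⟩
      refine Subgroup.eq_top_of_card_eq _ ?_
      rw [h60, card_five hF]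
  · -- subfield
    left; apply htop
    obtain ⟨K, fK, fT, m, hm, hd, f, D, hz⟩ := hsub
    have hinv : ∀ g : SL(2, F), proj g ∈ Hb → ∃ a : K, Solubilizer.tr g * Solubilizer.tr g = f a := by
      intro g hg
      obtain ⟨z, hz⟩ := hz ⟨_, hg⟩
      change ProjGenLinGroup.mk (Matrix.SpecialLinearGroup.toGL g) = _ at hz
      obtain ⟨u, hu⟩ := ProjGenLinGroup.mk_eq_mk_iff.1 hz.symm
      set Z : Matrix (Fin 2) (Fin 2) K := (z : Matrix (Fin 2) (Fin 2) K)
      refine ⟨Z.trace * Z.trace / Z.det, ?_⟩
      have hval : (g : Matrix (Fin 2) (Fin 2) F) =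
          (u : F) • ((D : Matrix (Fin 2) (Fin 2) F) * Z.map f * ((D⁻¹ : GL (Fin 2) F) : Matrix (Fin 2) (Fin 2) F)) := by
        have := congrArg Units.val hu
        simp only [Units.val_mul, GeneralLinearGroup.coe_scalar] at this
        rw [Matrix.smul_eq_mul_diagonal]
        exact this.symm
      have hDi : ((D⁻¹ : GL (Fin 2) F) : Matrix (Fin 2) (Fin 2) F) * (D : Matrix (Fin 2) (Fin 2) F) = 1 := by
        rw [← Units.val_mul, inv_mul_cancel, Units.val_one]
      have ht : Solubilizer.tr g = (u : F) * f Z.trace := by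
        have h1 : (g : Matrix (Fin 2) (Fin 2) F).trace = (u : F) * (Z.map f).trace := by
          rw [hval, Matrix.trace_smul, smul_eq_mul, Matrix.trace_mul_cycle, hDi, one_mul]
        rw [Solubilizer.tr, ← Matrix.trace_fin_two, h1]
        congr 1
        simp [Matrix.trace_fin_two]
      have hdet : (u : F) * (u : F) * f Z.det = 1 := by
        have h1 := g.det_coe
        rw [hval, Matrix.det_smul, Fintype.card_fin, Matrix.det_mul, Matrix.det_mul, mul_comm (D : Matrix (Fin 2) (Fin 2) F).det,
          mul_assoc, ← Matrix.det_mul, ← Units.val_mul, mul_inv_cancel, Units.val_one, Matrix.det_one, mul_one] at h1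
        rw [RingHom.map_det, RingHom.mapMatrix_apply]
        linear_combination h1
      have hd0 : f Z.det ≠ 0 := fun e => by rw [e, mul_zero] at hdet; exact zero_ne_one hdet
      rw [map_div₀, map_mul, ht, eq_div_iff hd0]
      linear_combination (f Z.trace * f Z.trace) * hdet
    obtain ⟨a, ha⟩ := hinv _ hm1
    obtain ⟨b, hb⟩ := hinv _ hm2
    rw [htr1] at ha
    rw [htr2] at hb
    have h8 : (8 : F) ≠ 0 := by
      rw [show (8 : F) = 2 * 2 * 2 by norm_num]
      exact mul_ne_zero (mul_ne_zero h2 h2) h2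
    have hl : lam ∈ f.fieldRange := ⟨(a - b) / 8, by
      rw [map_div₀, map_sub, map_ofNat, div_eq_iff h8]; linear_combination hb - ha⟩
    have hK : Nat.card K = Nat.card F :=
      Nat.card_congr (Equiv.ofBijective f ⟨f.injective, fun c => hfull f.fieldRange hl c⟩)
    refine Subgroup.eq_top_of_le_card _ ?_
    rcases hd with ⟨⟨e⟩⟩ | ⟨⟨e⟩⟩
    · rw [Nat.card_congr e.toEquiv]
      have h1 := card_PSL (F := K)
      rw [hK, ← card_PSL (F := F)] at h1
      exact (Nat.eq_of_mul_eq_mul_left dd_pos h1).ge
    · rw [Nat.card_congr e.toEquiv, CfsgLib.Classical.card_PGL_eq_card_SL, card_SL_two', hK, ← card_PSL (F := F)]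
      exact Nat.le_mul_of_pos_left _ dd_pos

/-- Let F be a finite field of odd characteristic and λ ≠ 0 an element generating F as a field. Then the lower and upper unitriangular matrices with off-diagonal entries 1 and λ generate SL_2(F), unless |F| = 9 and λ² = −1, in which case they generate a subgroup of order 120. -/
theorem result {F : Type*} [Field F] [Fintype F] (h2 : (2 : F) ≠ 0) (lam : F) (hlam : lam ≠ 0) (hgen : Subfield.closure ({lam} : Set F) = ⊤) : (Subgroup.closure {g : Matrix.SpecialLinearGroup (Fin 2) F | (g : Matrix (Fin 2) (Fin 2) F) = !![1, 0; 1, 1] ∨ (g : Matrix (Fin 2) (Fin 2) F) = !![1, lam; 0, 1]} = ⊤ ∧ ¬ (Fintype.card F = 9 ∧ lam ^ 2 = -1)) ∨ (Fintype.card F = 9 ∧ lam ^ 2 = -1 ∧ Nat.card ↥(Subgroup.closure {g : Matrix.SpecialLinearGroup (Fin 2) F | (g : Matrix (Fin 2) (Fin 2) F) = !![1, 0; 1, 1] ∨ (g : Matrix (Fin 2) (Fin 2) F) = !![1, lam; 0, 1]}) = 120) := by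
  classical
  obtain ⟨p, hp⟩ := CharP.exists F
  haveI : Fact p.Prime := ⟨CharP.char_is_prime F p⟩
  have hset : {g : Matrix.SpecialLinearGroup (Fin 2) F | (g : Matrix (Fin 2) (Fin 2) F) = !![1, 0; 1, 1] ∨
      (g : Matrix (Fin 2) (Fin 2) F) = !![1, lam; 0, 1]} = {lo 1, up lam} := by
    ext g
    simp only [Set.mem_ofPred_eq, Set.mem_insert_iff, Set.mem_singleton_iff]
    rw [← lo_coe, ← up_coe]
    exact or_congr ⟨fun e => Subtype.ext e, fun e => congrArg Subtype.val e⟩ ⟨fun e => Subtype.ext e, fun e => congrArg Subtype.val e⟩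
  rw [hset]
  rcases dickson_lemma p h2 lam hlam hgen with h | ⟨h9, hl, hc⟩
  · refine Or.inl ⟨h, fun ⟨h9, hl⟩ => ?_⟩
    haveI : Fact (Nat.Prime 3) := ⟨by norm_num⟩
    haveI : CharP F 3 := charP_of_card_eq_prime_pow (f := 2) (by rw [h9]; norm_num)
    have hle := NineTable.card_closure_le hl
    rw [h, Nat.card_congr Subgroup.topEquiv.toEquiv, card_SL_two', Nat.card_eq_fintype_card, h9] at hle
    omega
  · exact Or.inr ⟨by rw [← Nat.card_eq_fintype_card]; exact h9, hl, hc⟩

end Cfsg.Agent.S0801
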