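import Cfsg.Statements.S0246
import Cfsg.Agent.Lib.Classical.SympOrder
import Cfsg.Agent.Lib.FormRep.Symplectic

set_option autoImplicit false
open Cfsg

namespace Cfsg.Agent.S0246

/-- The centre of Sp_{2m}(q), m at least 1, is {1, -1}: it has order gcd(2, q-1). -/
theorem result {F : Type*} [Field F] [Fintype F] {q : ℕ} (hF : Fintype.card F = q) (m : ℕ) (hm : 1 ≤ m) : Nat.card (Subgroup.center (Matrix.symplecticGroup (Fin m) F)) = Nat.gcd 2 (q - 1) := by
  classical
  have hmem : ∀ c : F, c * c = 1 → (c • 1 : Matrix (Fin m ⊕ Fin m) (Fin m ⊕ Fin m) F) ∈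
      Matrix.symplecticGroup (Fin m) F := fun c hc => by
    rw [SymplecticGroup.mem_iff, Matrix.transpose_smul, Matrix.transpose_one, Matrix.smul_mul,
      Matrix.one_mul, Matrix.mul_smul, Matrix.mul_one, smul_smul, hc, one_smul]
  let i₀ : Fin m ⊕ Fin m := .inl ⟨0, hm⟩
  have key : ∀ g : Subgroup.center (Matrix.symplecticGroup (Fin m) F),
      ∃ c : F, c * c = 1 ∧ ((g : Matrix.symplecticGroup (Fin m) F) : Matrix (Fin m ⊕ Fin m) (Fin m ⊕ Fin m) F) = c • 1 := by
    intro g
    obtain ⟨c, hc⟩ := (CfsgLib.FormRep.Symplectic.center_iff (g : Matrix.symplecticGroup (Fin m) F)).1 g.2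
    refine ⟨c, ?_, hc⟩
    have h := SymplecticGroup.mem_iff.1 (g : Matrix.symplecticGroup (Fin m) F).2
    rw [hc, Matrix.transpose_smul, Matrix.transpose_one, Matrix.smul_mul, Matrix.one_mul,
      Matrix.mul_smul, Matrix.mul_one, smul_smul] at h
    have h' := congrFun (congrFun h (.inr ⟨0, hm⟩)) (.inl ⟨0, hm⟩)
    simpa [Matrix.J, Matrix.fromBlocks] using h'
  let e : Subgroup.center (Matrix.symplecticGroup (Fin m) F) ≃ {c : F // c * c = 1} :=
    { toFun := fun g => ⟨((g : Matrix.symplecticGroup (Fin m) F) : Matrix (Fin m ⊕ Fin m) (Fin m ⊕ Fin m) F) i₀ i₀, by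
        obtain ⟨c, hc, hg⟩ := key g
        rw [hg]
        simpa using hc⟩
      invFun := fun c => ⟨⟨_, hmem c.1 c.2⟩, (CfsgLib.FormRep.Symplectic.center_iff _).2 ⟨c.1, rfl⟩⟩
      left_inv := fun g => by
        obtain ⟨c, -, hg⟩ := key g
        refine Subtype.ext (Subtype.ext ?_)
        show (((g : Matrix.symplecticGroup (Fin m) F) : Matrix (Fin m ⊕ Fin m) (Fin m ⊕ Fin m) F) i₀ i₀) • 1 = _
        rw [hg]
        simp
      right_inv := fun c => Subtype.ext (by simp) }
  rw [Nat.card_congr e]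
  have hq1 : 1 < q := hF ▸ Fintype.one_lt_card
  by_cases h2 : (2 : F) = 0
  · have hp : CharP F 2 := CharP.charP_iff_prime_eq_zero Nat.prime_two |>.2 (by simpa using h2)
    have heven : 2 ∣ q := by
      obtain ⟨n, -, hn⟩ := FiniteField.card F 2
      rw [← hF, hn]
      exact dvd_pow_self 2 n.ne_zero
    have hg : Nat.gcd 2 (q - 1) = 1 := (Nat.prime_two.coprime_iff_not_dvd).2 (by omega)
    rw [hg, Nat.card_eq_one_iff_unique]
    refine ⟨⟨fun a b => Subtype.ext ?_⟩, ⟨⟨1, one_mul 1⟩⟩⟩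
    have h1 : ∀ c : F, c * c = 1 → c = 1 := fun c hc => by
      rcases mul_self_eq_one_iff.1 hc with h | h
      · exact h
      · rw [h, neg_eq_iff_add_eq_zero, one_add_one_eq_two, h2]
    rw [h1 _ a.2, h1 _ b.2]
  · have hodd : ¬ 2 ∣ q := fun hd => h2 (by
      have hz : (q : F) = 0 := hF ▸ Nat.cast_card_eq_zero F
      obtain ⟨p, hp⟩ := CharP.exists F
      have := Fact.mk (CharP.char_is_prime F p)
      obtain ⟨n, -, hn⟩ := FiniteField.card F p
      rw [← hF, hn] at hd
      have : p = 2 := ((Nat.prime_dvd_prime_iff_eq Nat.prime_two Fact.out).1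
        (Nat.prime_two.dvd_of_dvd_pow hd)).symm
      subst this
      simpa using CharP.cast_eq_zero F 2)
    have hg : Nat.gcd 2 (q - 1) = 2 := Nat.gcd_eq_left (by omega)
    rw [hg, Nat.card_eq_two_iff]
    refine ⟨⟨1, one_mul 1⟩, ⟨-1, by simp⟩, ?_, ?_⟩
    · intro h
      have : (1 : F) = -1 := congrArg Subtype.val h
      exact h2 (by linear_combination this)
    · refine Set.eq_univ_of_forall fun c => ?_
      rcases mul_self_eq_one_iff.1 c.2 with h | h
      · exact Or.inl (Subtype.ext h)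
      · exact Or.inr (Subtype.ext h)

end Cfsg.Agent.S0246
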