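import Cfsg.Statements.S2071
import Cfsg.Agent.Lib.Leech.OutStab.ThreeChecks

set_option autoImplicit false
open Cfsg

namespace Cfsg.Agent.S2071

open CfsgLib.Golay CfsgLib.Leech CfsgLib.Leech.Mult CfsgLib.Leech.OutStab CfsgLib.Golay.AutTwo Cfsg.Spor

attribute [local irreducible] dL bL key keyL coord packB linL bits stabOK threeCert

theorem sqNorm_threeV : sqNorm (vec threeV) = 48 := by
  rw [sqNorm_vec (inL_length threeV_inL)]
  decide +kernel

theorem sqNorm_leechV : sqNorm (leechV : GolayPt → ℤ) = 48 := by
  simp [leechV, vecV, sqNorm, Fintype.sum_option]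

/-- The group is the stabilizer of a vector. -/
theorem exists_equiv : Nonempty (↥(stabL threeV_inL) ≃* ↥Cfsg.Spor.Co3) := by
  obtain ⟨g, hg⟩ := transitive_small (t := 2) (by norm_num) (v := ⟨vec threeV, vec_mem threeV_inL⟩)
    (w := leechV) sqNorm_threeV sqNorm_leechV
  refine ⟨(MulAction.stabilizerEquivStabilizer hg.symm).trans ?_⟩
  refine {
    toFun := fun x => ⟨(x : ↥Co0).1, x.1.2, MulAction.mem_stabilizer_iff.2 x.2⟩
    invFun := fun y => ⟨⟨y.1, y.2.1⟩, MulAction.mem_stabilizer_iff.2 (MulAction.mem_stabilizer_iff.1 y.2.2)⟩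
    left_inv := fun _ => rfl
    right_inv := fun _ => rfl
    map_mul' := fun _ _ => rfl }


/-- The outer automorphism group of the Conway group Co₃ (the stabiliser of a vector of the second shortest length in the rank-24 lattice) is trivial: every automorphism is inner. -/
theorem result : Nat.card (Cfsg.Out ↥Cfsg.Spor.Co3) = 1 := by
  obtain ⟨e⟩ := exists_equiv
  rw [← out_congr e]
  have hcard : Nat.card ↥(stabL threeV_inL) = 23 * 21555072000 :=
    (natCard_stab48 sqNorm_threeV).trans (by norm_num)
  exact card_out_eq_one threeV_inL threeCert three_elts three_fixed hcard (by norm_num) three_prog three_levs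
    (by rw [three_bound]) three_word three_comm

end Cfsg.Agent.S2071
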