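import Cfsg.Statements.S5388
import Cfsg.Agent.Lib.Leech.CoOneInvol.Core
-- import your own Cfsg.Agent.* helpers here

set_option autoImplicit false
set_option maxRecDepth 100000
set_option linter.style.haveILetI false
open Cfsg

namespace Cfsg.Agent.S5388

open CfsgLib.Golay CfsgLib.Leech CfsgLib.Leech.Octad

attribute [local irreducible] dL bL key keyL coord packB linL bits

theorem off_ok : octOff ∈ offL ∧ inM24 octOffP = true ∧ mimg octOffP oct0 = octOff ∧ octOff ≠ d16 ∧
    octOff ≠ 0 := by decide +kernel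

theorem witness : ∃ (x : ↥Co0) (k : ↥KT), x * tO * x⁻¹ = negAut * valK k ∧
    valK k ≠ tO ∧ negAut * valK k ≠ tO := by
  obtain ⟨hm, hP, himg, -, -⟩ := off_ok
  obtain ⟨Q, hQ, hQ1⟩ := exists_one
  obtain ⟨k, hk⟩ := inK_smul hQ hm
  have hv : validP octOffP = true := by
    have h := hP
    simp only [inM24, Bool.and_eq_true] at h
    exact h.1
  have hσ : (toPerm octOffP)⁻¹ ∈ M24 := inv_mem (toPerm_mem_M24 hP)
  refine ⟨mono hσ empty_mem_CS, k, ?_, ?_⟩
  · rw [mul_inv_eq_iff_eq_mul]
    refine aut_ext fun v => Subtype.ext (funext fun i => ?_)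
    have hl : ∀ w : ↥leechLattice, ((mono hσ empty_mem_CS • w : ↥leechLattice) : GolayPt → ℤ) i =
        (w : GolayPt → ℤ) ((toPerm octOffP)⁻¹ i) := fun w => by
      show (((monoIso hσ empty_mem_CS).aut • w : ↥leechLattice) : GolayPt → ℤ) i = _
      rw [Iso.aut_smul]
      simp [monoIso, monoFun]
    rw [mul_smul, hl, tO_smul, mul_smul, mul_smul, negAut_smul, AddSubgroup.coe_neg, Pi.neg_apply,
      show valK k = (inK k : ↥Co0) from rfl, hk, hQ1, Equiv.Perm.coe_one, id_eq, hl]
    have e : (toPerm octOffP)⁻¹ i ∈ dec oct0 ↔ octOff.testBit (idx i) = true := by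
      rw [← mem_dec, ← himg, ← mem_dec_mimg hv oct0,
        show toPerm octOffP ((toPerm octOffP)⁻¹ i) = i from (toPerm octOffP).apply_symm_apply i]
    by_cases hi : octOff.testBit (idx i) = true
    · rw [if_pos (e.2 hi), if_pos hi, neg_neg]
    · rw [if_neg (mt e.1 hi), if_neg hi]
  · have h4 : ∀ w : ↥leechLattice, ∀ i, (((valK k) • w : ↥leechLattice) : GolayPt → ℤ) i =
        if octOff.testBit (idx i) then -(w : GolayPt → ℤ) i else (w : GolayPt → ℤ) i := fun w i => by
      rw [show valK k = (inK k : ↥Co0) from rfl, hk, hQ1]; rfl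
    constructor
    · intro h
      obtain ⟨p, hp, hpo⟩ : ∃ p : GolayPt, p ∉ dec oct0 ∧ octOff.testBit (idx p) = false := by
        obtain ⟨p, hp⟩ := (show ∃ p : Fin 24, oct0.testBit p.val = false ∧ octOff.testBit p.val = false by
          decide +kernel)
        exact ⟨pt p.val, out_iff.2 (by rw [idx_pt _ p.2]; exact hp.1), by rw [idx_pt _ p.2]; exact hp.2⟩
      have e := h4 (eightL p) p
      rw [h, tO_smul, if_neg hp, hpo] at e
      simp [eightL, eight] at e
    · intro h
      have hp : pt 14 ∈ dec oct0 := by rw [mem_dec, idx_pt 14 (by norm_num)]; decide +kernel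
      have e := tO_smul (eightL (pt 14)) (pt 14)
      rw [← h, mul_smul, negAut_smul, AddSubgroup.coe_neg, Pi.neg_apply, h4, if_pos hp, idx_pt 14 (by norm_num),
        show octOff.testBit 14 = false by decide +kernel] at e
      simp [eightL, eight] at e

/-- The first Conway group, the automorphism group of the Leech lattice modulo its centre, satisfies the large extraspecial hypothesis of plus type in dimension 8: it has an involution z whose centralizer C has generalized Fitting subgroup Q extraspecial of order 2^9, with C/Q isomorphic to the commutator subgroup of the isometry group of the hyperbolic quadratic form in dimension 8 over the field with two elements, and some conjugate of z other than z lies in Q. -/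
theorem result : ∃ z : Cfsg.Spor.Co1, orderOf z = 2 ∧ ∃ (Q : Subgroup (Subgroup.centralizer ({z} : Set Cfsg.Spor.Co1))) (_ : Q.Normal), Cfsg.generalizedFittingSubgroup (Subgroup.centralizer ({z} : Set Cfsg.Spor.Co1)) = Q ∧ Cfsg.IsExtraspecial 2 Q ∧ Nat.card Q = 2 ^ 9 ∧ Nonempty ((Subgroup.centralizer ({z} : Set Cfsg.Spor.Co1)) ⧸ Q ≃* Cfsg.Omega (ZMod 2) (Cfsg.quadFormPlus 4 (ZMod 2))) ∧ ∃ g : Cfsg.Spor.Co1, (∃ hq : g * z * g⁻¹ ∈ Subgroup.centralizer ({z} : Set Cfsg.Spor.Co1), (⟨g * z * g⁻¹, hq⟩ : Subgroup.centralizer ({z} : Set Cfsg.Spor.Co1)) ∈ Q) ∧ g * z * g⁻¹ ≠ z := by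
  haveI : Finite ↥Co0 := finite_Co0
  haveI : Fact (Nat.Prime 2) := ⟨Nat.prime_two⟩
  have hne : pz tO ≠ 1 := fun h => by
    rcases center_or ((QuotientGroup.eq_one_iff _).1 h) with e | e
    · exact tO_ne_one e
    · have h' := congrArg (fun g : ↥Co0 => g • Octad.uV) e
      simp only [inO_iff.1 Octad.InO.uV, negAut_smul] at h'
      have e0 : (Octad.uV : ↥leechLattice) = 0 := Subtype.ext (funext fun p => by
        have := congrFun (congrArg Subtype.val h') p
        simp only [AddSubgroup.coe_neg, Pi.neg_apply] at this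
        show (Octad.uV : GolayPt → ℤ) p = 0
        omega)
      have := Octad.sqNorm_uV
      rw [e0] at this
      simp [sqNorm] at this
  refine ⟨pz tO, orderOf_eq_prime (by rw [pow_two, ← map_mul, tO_sq, map_one]) hne, theta.ker, inferInstance,
    fstar_CZ, CfsgLib.Extraspecial.isExtraspecial_congr kerEquiv isExtraspecial_KT, natCard_thetaKer,
    ⟨(QuotientGroup.quotientKerEquivRange theta).trans (MulEquiv.subgroupCongr range_theta)⟩, ?_⟩
  obtain ⟨x, k, hx, hk1, hk2⟩ := witness
  have hpe : pz x * pz tO * (pz x)⁻¹ = pz (valK k) := by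
    rw [← map_inv, ← map_mul, ← map_mul, hx, map_mul,
      (QuotientGroup.eq_one_iff negAut).2 negAut_mem_center |> fun h => show pz negAut = 1 from h, one_mul]
  refine ⟨pz x, ⟨?_, ?_⟩, ?_⟩
  · rw [hpe]; exact (psi (inK k)).2
  · rw [show (⟨pz x * pz tO * (pz x)⁻¹, _⟩ : ↥CZ) = kz k from Subtype.ext hpe, ← range_kz]
    exact ⟨k, rfl⟩
  · rw [hpe]
    intro h
    rcases center_or (QuotientGroup.eq.1 h) with e | e
    · exact hk1 (inv_mul_eq_one.1 e)
    · refine hk2 ?_
      rw [inv_mul_eq_iff_eq_mul.1 e]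
      exact (Subgroup.mem_center_iff.1 negAut_mem_center _).symm

end Cfsg.Agent.S5388
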