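import Mathlib
import Cfsg.Statements.S1980

set_option autoImplicit false
set_option linter.style.haveILetI false
set_option linter.unusedVariables false
open Cfsg

open scoped commutatorElement

namespace Cfsg.Agent.S1980

/-- Let P be a finite p-group and A an abelian normal subgroup of P. Then A belongs to every family used to build the K-sequence of P: the class-two family, every lower-star family relative to an odd-indexed term, and every upper-star family relative to an even-indexed term. In particular A lies in every term of the K-sequence. -/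
theorem result {P : Type*} [Group P] [Finite P] {p : ℕ} [Fact p.Prime] (hP : IsPGroup p P) (A : Subgroup P) [A.Normal] (hA : IsMulCommutative ↥A) : A ∈ Cfsg.classTwoSubgroups P ∧ ∀ n : ℕ, A ∈ Cfsg.kLowerStarFamily (Cfsg.kSeqOdd P n) ∧ A ∈ Cfsg.kUpperStarFamily (Cfsg.kSeqEven P n) := by
  have hAc : A ≤ Subgroup.centralizer (A : Set P) := Subgroup.le_centralizer_iff_isMulCommutative.mpr hA
  have h2 : A ∈ Cfsg.classTwoSubgroups P :=
    le_of_eq_of_le (Subgroup.commutator_eq_bot_iff_le_centralizer.mpr hAc) bot_le
  have hle : ∀ Q : Subgroup P, ⁅A, Q⁆ ≤ A ⊓ Subgroup.centralizer (A : Set P) := fun Q =>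
    (Subgroup.commutator_mono le_rfl le_top).trans
      ((Subgroup.commutator_le_left A ⊤).trans (le_inf le_rfl hAc))
  exact ⟨h2, fun n => ⟨⟨h2, by rw [Subgroup.normalizer_eq_top]; exact le_top, fun B _ _ _ _ _ => hle B⟩,
    h2, hle _⟩⟩

end Cfsg.Agent.S1980
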