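import Cfsg.Statements.S3073
import Cfsg.Agent.Lib.Conjugacy.KInfComplement

set_option autoImplicit false
universe u
open Cfsg

namespace Cfsg.Agent.S3073

/-- For an odd prime p, every finite p-group S has a characteristic subgroup K with C_S(K) ≤ K such that, whenever S is (isomorphic to) a Sylow p-subgroup of a finite group G, G has a normal p-complement if and only if N_G(K)/C_G(K) is a p-group, i.e. every element of N_G(K) of order prime to p centralizes K (K transported into G along the isomorphism). -/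
theorem result (p : ℕ) [Fact p.Prime] (hp : p ≠ 2)
    (S : Type u) [Group S] [Finite S] (hS : IsPGroup p S) :
    ∃ K : Subgroup S, K.Characteristic ∧ Subgroup.centralizer (K : Set S) ≤ K ∧
      ∀ (G : Type u) [Group G] [Finite G] (P : Sylow p G) (e : ↥(P : Subgroup G) ≃* S),
        Cfsg.HasNormalPComplement p G ↔
          ∀ g ∈ Subgroup.normalizer (((K.comap (e : ↥(P : Subgroup G) →* S)).map (P : Subgroup G).subtype : Subgroup G) : Set G),
            (orderOf g).Coprime p →
              g ∈ Subgroup.centralizer (((K.comap (e : ↥(P : Subgroup G) →* S)).map (P : Subgroup G).subtype : Subgroup G) : Set G) := by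
  refine ⟨Cfsg.kInfLower S, ?_, CfsgLib.Conjugacy.centralizer_kInfLower_le hS, fun G _ _ P e => ?_⟩
  · exact Subgroup.characteristic_iff_map_eq.mpr fun φ =>
      (CfsgLib.Conjugacy.isCharPFunctor_kInfLower p).2 S S hS φ
  have hK : (Cfsg.kInfLower S).comap (e : ↥(P : Subgroup G) →* S) = Cfsg.kInfLower ↥(P : Subgroup G) := by
    rw [← (CfsgLib.Conjugacy.isCharPFunctor_kInfLower p).2 _ S P.2 e]
    exact Subgroup.comap_map_eq_self_of_injective e.injective _
  rw [hK]
  constructor
  · rintro ⟨R, N, hN, hc⟩ g hg hgp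
    have hgN : g ∈ N := by
      rw [← QuotientGroup.eq_one_iff, ← orderOf_eq_one_iff]
      obtain ⟨k, hk⟩ := IsPGroup.iff_card.mp R.2
      have h1 : Nat.card (G ⧸ N) = p ^ k := by
        rw [← Subgroup.index_eq_card, hc.symm.index_eq_card]
        exact hk
      exact Nat.eq_one_of_dvd_coprimes (hgp.pow_right k) (orderOf_map_dvd (QuotientGroup.mk' N) g)
        (h1 ▸ orderOf_dvd_natCard _)
    intro y hy
    have h1 : g * y * g⁻¹ * y⁻¹ ∈ N := by
      rw [show g * y * g⁻¹ * y⁻¹ = g * (y * g⁻¹ * y⁻¹) by group]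
      exact mul_mem hgN (hN.conj_mem _ (inv_mem hgN) y)
    have h2 : g * y * g⁻¹ * y⁻¹ ∈ (P : Subgroup G) :=
      mul_mem ((Subgroup.map_subtype_le _) ((Subgroup.mem_normalizer_iff.mp hg y).mp hy))
        (inv_mem ((Subgroup.map_subtype_le _) hy))
    have h3 : g * y * g⁻¹ * y⁻¹ = 1 := by
      obtain ⟨k, hk⟩ := IsPGroup.iff_orderOf.mp P.2 ⟨_, h2⟩
      rw [← Subgroup.orderOf_coe] at hk
      rw [← orderOf_eq_one_iff, hk]
      have h4 := Subgroup.orderOf_dvd_natCard N h1
      rw [hk, ← hc.index_eq_card] at h4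
      by_contra hne
      have hk0 : k ≠ 0 := fun h => hne (by rw [h, pow_zero])
      exact R.not_dvd_index ((dvd_pow_self p hk0).trans h4)
    exact (mul_inv_eq_iff_eq_mul.mp (mul_inv_eq_one.mp h3)).symm
  · intro h
    exact CfsgLib.Conjugacy.hasNormalPComplement_kInf hp P (CfsgLib.Conjugacy.hyp_of_centralizes P h)

end Cfsg.Agent.S3073
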