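import Cfsg.Statements.S2086
import Cfsg.Agent.Lib.Schur.SLLift
import Cfsg.Agent.Lib.Schur.SLRank
import Cfsg.Agent.Lib.Schur.SLTwo
import Cfsg.Agent.Lib.Classical.Card
import Cfsg.Agent.Lib.Classical.Transvection
-- import your own Cfsg.Agent.* helpers here

set_option autoImplicit false
open Cfsg

namespace Cfsg.Agent.S2086

open scoped MatrixGroups commutatorElement

/-- If every finite stem extension of a perfect `G` is trivial, the kernel of `q : G → Q` maps onto
the kernel of each finite stem extension of `Q`. -/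
theorem ker_onto {G Q Γ : Type*} [Group G] [Finite G] [Group Q] [Group Γ] [Finite Γ]
    (hperf : commutator G = ⊤)
    (hinj : ∀ (Δ : Subgroup (G × Γ)), Cfsg.IsStemExtension ((MonoidHom.fst G Γ).comp Δ.subtype) →
      Function.Injective ((MonoidHom.fst G Γ).comp Δ.subtype))
    {q : G →* Q} (hq : Function.Surjective q) {τ : Γ →* Q} (hτ : Cfsg.IsStemExtension τ) :
    ∃ π : q.ker →* τ.ker, Function.Surjective π := by
  obtain ⟨hs, hc, hk⟩ := hτ
  let D₀ : Subgroup (G × Γ) := (q.comp (MonoidHom.fst G Γ)).eqLocus (τ.comp (MonoidHom.snd G Γ))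
  let D : Subgroup (G × Γ) := ⁅D₀, D₀⁆
  have hDle : D ≤ D₀ := by
    rw [Subgroup.commutator_le]
    intro a ha b hb
    rw [commutatorElement_def]
    exact mul_mem (mul_mem (mul_mem ha hb) (inv_mem ha)) (inv_mem hb)
  have hfst : D₀.map (MonoidHom.fst G Γ) = ⊤ := by
    rw [eq_top_iff]
    intro x _
    obtain ⟨y, hy⟩ := hs (q x)
    exact ⟨(x, y), hy.symm, rfl⟩
  have hD : D.map (MonoidHom.fst G Γ) = ⊤ := by
    rw [Subgroup.map_commutator, hfst, ← commutator_def, hperf]
  have hcen : ∀ x ∈ D₀, x.1 = 1 → x ∈ Subgroup.center (G × Γ) := by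
    intro x hx h1
    have h2 : x.2 ∈ τ.ker := by
      have : q x.1 = τ x.2 := hx
      rw [MonoidHom.mem_ker, ← this, h1, map_one]
    refine Subgroup.mem_center_iff.mpr fun y => Prod.ext ?_ ?_
    · simp [h1]
    · exact Subgroup.mem_center_iff.mp (hc h2) y.2
  have hDD : D ≤ ⁅D, D⁆ := by
    rw [Subgroup.commutator_le]
    intro a ha b hb
    obtain ⟨a', ha', ea⟩ : a.1 ∈ D.map (MonoidHom.fst G Γ) := hD ▸ Subgroup.mem_top _
    obtain ⟨b', hb', eb⟩ : b.1 ∈ D.map (MonoidHom.fst G Γ) := hD ▸ Subgroup.mem_top _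
    have key : ∀ z w : G × Γ, z ∈ D₀ → z.1 = 1 → w * z = z * w := fun z w hz h1 =>
      Subgroup.mem_center_iff.mp (hcen z hz h1) w
    obtain ⟨z, hz, hz1, rfl⟩ : ∃ z, z ∈ D₀ ∧ z.1 = 1 ∧ a = a' * z :=
      ⟨a'⁻¹ * a, mul_mem (inv_mem (hDle ha')) ha, by
        show (a'.1)⁻¹ * a.1 = 1
        rw [show a'.1 = a.1 from ea, inv_mul_cancel], by group⟩
    obtain ⟨w, hw, hw1, rfl⟩ : ∃ w, w ∈ D₀ ∧ w.1 = 1 ∧ b = b' * w :=
      ⟨b'⁻¹ * b, mul_mem (inv_mem (hDle hb')) hb, by
        show (b'.1)⁻¹ * b.1 = 1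
        rw [show b'.1 = b.1 from eb, inv_mul_cancel], by group⟩
    rw [show ⁅a' * z, b' * w⁆ = ⁅a', b'⁆ by
      simp only [commutatorElement_def, _root_.mul_inv_rev]
      calc a' * z * (b' * w) * (z⁻¹ * a'⁻¹) * (w⁻¹ * b'⁻¹)
          = a' * (z * (b' * w)) * (z⁻¹ * a'⁻¹) * (w⁻¹ * b'⁻¹) := by group
        _ = a' * b' * (w * a'⁻¹) * (w⁻¹ * b'⁻¹) := by rw [← key z _ hz hz1]; group
        _ = a' * b' * a'⁻¹ * b'⁻¹ := by rw [← key w _ hw hw1]; group]
    exact Subgroup.commutator_mem_commutator ha' hb'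
  set p := (MonoidHom.fst G Γ).comp D.subtype with hp
  have hps : Function.Surjective p := fun x => by
    obtain ⟨y, hy, e⟩ : x ∈ D.map (MonoidHom.fst G Γ) := hD ▸ Subgroup.mem_top x
    exact ⟨⟨y, hy⟩, e⟩
  have hi : Function.Injective p := by
    refine hinj D ⟨hps, fun x hx => ?_, fun x _ => ?_⟩
    · refine Subgroup.mem_center_iff.mpr fun y => Subtype.ext ?_
      exact Subgroup.mem_center_iff.mp (hcen x (hDle x.2) hx) y
    · rw [← Subgroup.mem_map_iff_mem (f := D.subtype) D.subtype_injective, commutator_def,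
        Subgroup.map_commutator, ← MonoidHom.range_eq_map, Subgroup.range_subtype]
      exact hDD x.2
  let e := MulEquiv.ofBijective p ⟨hi, hps⟩
  let φ : G →* Γ := ((MonoidHom.snd G Γ).comp D.subtype).comp e.symm.toMonoidHom
  have hφ : ∀ x, τ (φ x) = q x := fun x => by
    have h : q ((e.symm x : D) : G × Γ).1 = τ ((e.symm x : D) : G × Γ).2 := hDle (e.symm x).2
    rw [show ((e.symm x : D) : G × Γ).1 = x from e.apply_symm_apply x] at h
    exact h.symm
  have hcom : commutator Γ ≤ φ.range := by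
    rw [commutator_def, Subgroup.commutator_le]
    intro a _ b _
    obtain ⟨x, hx⟩ := hq (τ a)
    obtain ⟨y, hy⟩ := hq (τ b)
    rw [CfsgLib.Schur.commutatorElement_congr τ hc (a' := φ x) (b' := φ y) (by rw [hφ, hx]) (by rw [hφ, hy]),
      commutatorElement_def]
    exact mul_mem (mul_mem (mul_mem ⟨x, rfl⟩ ⟨y, rfl⟩) (inv_mem ⟨x, rfl⟩)) (inv_mem ⟨y, rfl⟩)
  refine ⟨MonoidHom.mk' (fun z => ⟨φ (z : G), by
    rw [MonoidHom.mem_ker, hφ]; exact z.2⟩) (fun a b => Subtype.ext (map_mul φ (a : G) b)), fun z => ?_⟩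
  obtain ⟨x, hx⟩ := hcom (hk z.2)
  exact ⟨⟨x, by rw [MonoidHom.mem_ker, ← hφ, hx]; exact z.2⟩, Subtype.ext hx⟩


/-- Schur multipliers of the linear groups: for n ≥ 2 and a field F with q elements (q ≥ 4 when n = 2), apart from the five exceptional pairs (n, q) = (2, 4), (2, 9), (3, 2), (3, 4), (4, 2), the Schur multiplier of PSL_n(F) is cyclic of order gcd(n, q − 1); here the Schur multiplier is described through stem extensions, as in the definitions. -/
theorem result {F : Type*} [Field F] [Fintype F] {q : ℕ} (hF : Fintype.card F = q) (n : ℕ) (hn : 2 ≤ n) (h2 : n = 2 → 4 ≤ q) (hexc : (n, q) ∉ ({(2, 4), (2, 9), (3, 2), (3, 4), (4, 2)} : Set (ℕ × ℕ))) : Cfsg.HasCyclicSchurMultiplier (Matrix.ProjectiveSpecialLinearGroup (Fin n) F) (Nat.gcd n (q - 1)) := by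
  classical
  subst hF
  simp only [Set.mem_insert_iff, Set.mem_singleton_iff, Prod.mk.injEq, not_or] at hexc
  obtain ⟨e24, e29, e32, e34, e42⟩ := hexc
  haveI : Nontrivial (Fin n) := Fin.nontrivial_iff_two_le.2 hn
  haveI : Nonempty (Fin n) := ⟨⟨0, by omega⟩⟩
  have hperf : commutator SL(n, F) = ⊤ := by
    refine CfsgLib.Classical.commutator_SL_eq_top ?_
    rw [Fintype.card_fin]
    rcases Nat.lt_or_ge n 3 with h | h
    · right
      have h4 := h2 (by omega)
      by_contra hx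
      push Not at hx
      have hu : (Finset.univ : Finset F) ⊆ {0, 1, -1} := fun x _ => by
        rcases eq_or_ne x 0 with h0 | h0
        · simp [h0]
        · rcases sq_eq_one_iff.1 (hx x h0) with h' | h' <;> simp [h']
      have := (Finset.card_le_card hu).trans Finset.card_le_three
      rw [Finset.card_univ] at this
      omega
    · exact Or.inl h
  have hgcd : Nat.card (Subgroup.center SL(n, F)) = Nat.gcd n (Fintype.card F - 1) := by
    rw [CfsgLib.Classical.card_center_SL, Fintype.card_fin, Nat.card_eq_fintype_card]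
  haveI : IsCyclic (Subgroup.center SL(n, F)) :=
    isCyclic_of_injective
      ((Subgroup.subtype _).comp
        (Matrix.SpecialLinearGroup.center_equiv_rootsOfUnity' (R := F) (Classical.arbitrary (Fin n))).toMonoidHom)
      (Subtype.val_injective.comp (MulEquiv.injective _))
  have hker : (QuotientGroup.mk' (Subgroup.center SL(n, F))).ker = Subgroup.center SL(n, F) :=
    QuotientGroup.ker_mk' _
  let E : Multiplicative (ZMod (Nat.gcd n (Fintype.card F - 1))) ≃*
      (QuotientGroup.mk' (Subgroup.center SL(n, F))).ker :=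
    ((hgcd ▸ (zmodCyclicMulEquiv (inferInstance : IsCyclic (Subgroup.center SL(n, F))))) :
      Multiplicative (ZMod (Nat.gcd n (Fintype.card F - 1))) ≃* Subgroup.center SL(n, F)).trans
      (MulEquiv.subgroupCongr hker.symm)
  refine ⟨⟨SL(n, F), inferInstance, inferInstance, QuotientGroup.mk' _,
    ⟨QuotientGroup.mk'_surjective _, hker.le, by rw [hperf]; exact le_top⟩, ⟨E.symm⟩⟩, ?_⟩
  intro Γ _ _ τ hτ
  have hinj : ∀ Δ : Subgroup (SL(n, F) × Γ),
      Cfsg.IsStemExtension ((MonoidHom.fst SL(n, F) Γ).comp Δ.subtype) →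
      Function.Injective ((MonoidHom.fst SL(n, F) Γ).comp Δ.subtype) := by
    intro Δ hΔ
    by_cases hn2 : n = 2
    · subst hn2
      obtain ⟨f, hf⟩ := (CfsgLib.Schur.hasTrivialMultiplier_SL_two (F := F) (fun e => e24 ⟨rfl, e⟩)
        (fun e => e29 ⟨rfl, e⟩)).2 Δ _ hΔ
      rw [← MonoidHom.ker_eq_bot_iff]
      haveI := hf.subsingleton
      exact Subgroup.eq_bot_of_subsingleton _
    · obtain ⟨Y, hY⟩ := CfsgLib.Schur.SLFam.exists_fam hΔ.1 hΔ.2.1 hΔ.2.2 (by omega)
        (fun e => e32 e) (fun e => e34 e) (fun e => e42 e)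
      exact hY.injective (by omega)
  obtain ⟨π, hπ⟩ := ker_onto hperf hinj (QuotientGroup.mk'_surjective _) hτ
  exact ⟨π.comp E.toMonoidHom, hπ.comp E.surjective⟩

end Cfsg.Agent.S2086
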