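import Cfsg.Statements.S2092
import Cfsg.Agent.Lib.Schur.SpLift
import Cfsg.Agent.Lib.Schur.SpTwo
import Cfsg.Agent.Lib.Schur.SpFour
import Cfsg.Agent.Lib.Schur.Hopf
import Cfsg.Agent.Lib.FormRep.Symplectic
-- import your own Cfsg.Agent.* helpers here

set_option autoImplicit false
open Cfsg

namespace Cfsg.Agent.S2092
open CfsgLib.Schur CfsgLib.Classical Matrix in
/-- The scalar matrices in the symplectic group are the centre. -/
theorem center_equiv {F : Type*} [Field F] (m : ℕ) (hm : 1 ≤ m) :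
    Nonempty ((powMonoidHom 2 : Fˣ →* Fˣ).ker ≃* Subgroup.center (Matrix.symplecticGroup (Fin m) F)) := by
  classical
  have hmem : ∀ u : (powMonoidHom 2 : Fˣ →* Fˣ).ker,
      (((u : Fˣ) : F) • (1 : Matrix (Fin m ⊕ Fin m) (Fin m ⊕ Fin m) F)) ∈ symplecticGroup (Fin m) F := fun u => by
    rw [SympTrans.mem_iff_f]
    intro x y
    have h : (u : Fˣ) ^ 2 = 1 := u.2
    have h' : ((u : Fˣ) : F) * ((u : Fˣ) : F) = 1 := by rw [← Units.val_mul, ← sq, h, Units.val_one]
    simp only [smul_mulVec, one_mulVec, SympTrans.f_smul_left, SympTrans.f_smul_right, ← mul_assoc, h',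
      one_mul]
  have hc : ∀ u, (⟨_, hmem u⟩ : symplecticGroup (Fin m) F) ∈ Subgroup.center (symplecticGroup (Fin m) F) :=
    fun u => (CfsgLib.FormRep.Symplectic.center_iff _).2 ⟨_, rfl⟩
  let φ : (powMonoidHom 2 : Fˣ →* Fˣ).ker →* Subgroup.center (symplecticGroup (Fin m) F) :=
    MonoidHom.mk' (fun u => ⟨⟨_, hmem u⟩, hc u⟩) fun u v => Subtype.ext (Subtype.ext (by
      show (((u * v : (powMonoidHom 2 : Fˣ →* Fˣ).ker) : Fˣ) : F) •
          (1 : Matrix (Fin m ⊕ Fin m) (Fin m ⊕ Fin m) F) =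
        ((u : Fˣ) : F) • 1 * (((v : Fˣ) : F) • 1)
      rw [smul_mul_smul_comm, one_mul, Subgroup.coe_mul, Units.val_mul]))
  refine ⟨MulEquiv.ofBijective φ ⟨fun u v e => ?_, fun z => ?_⟩⟩
  · have := congrArg (fun z : Subgroup.center (symplecticGroup (Fin m) F) =>
      ((z : symplecticGroup (Fin m) F) : Matrix (Fin m ⊕ Fin m) (Fin m ⊕ Fin m) F)
        (.inl ⟨0, hm⟩) (.inl ⟨0, hm⟩)) e
    exact Subtype.ext (Units.ext (by simpa [φ] using this))
  · obtain ⟨c, hcz⟩ := (CfsgLib.FormRep.Symplectic.center_iff (z : symplecticGroup (Fin m) F)).1 z.2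
    have h := SympTrans.f_app (z : symplecticGroup (Fin m) F) (Pi.single (.inr ⟨0, hm⟩) 1) (Pi.single (.inl ⟨0, hm⟩) 1)
    simp only [SympTrans.app, hcz, smul_mulVec, one_mulVec, SympTrans.f_smul_left,
      SympTrans.f_smul_right] at h
    rw [SympTrans.f_inl] at h
    have hcc : c * c = 1 := by simpa using h
    refine ⟨⟨⟨c, c, hcc, hcc⟩, ?_⟩, Subtype.ext (Subtype.ext hcz.symm)⟩
    rw [MonoidHom.mem_ker, powMonoidHom_apply]
    exact Units.ext (by simpa [sq] using hcc)


/-- Schur multipliers of the symplectic groups: for m ≥ 2 and a field F with q elements (q ≥ 3 when m = 2), with (m, q) ≠ (3, 2), the Schur multiplier of PSp_2m(F) is cyclic of order gcd(2, q − 1); here the Schur multiplier is described through stem extensions, as in the definitions. -/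
theorem result {F : Type*} [Field F] [Fintype F] {q : ℕ} (hF : Fintype.card F = q) (m : ℕ) (hm : 2 ≤ m) (h2 : m = 2 → 3 ≤ q) (hexc : ¬ (m = 3 ∧ q = 2)) : Cfsg.HasCyclicSchurMultiplier (Cfsg.PSp m F) (Nat.gcd 2 (q - 1)) := by
  classical
  subst hF
  have hperf : commutator (Matrix.symplecticGroup (Fin m) F) = ⊤ :=
    CfsgLib.Classical.SympTrans.commutator_of_card (by
      rw [Nat.card_eq_fintype_card]
      rcases Nat.lt_or_ge m 3 with h | h
      · exact Or.inr (Or.inl ⟨by omega, h2 (by omega)⟩)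
      · exact Or.inl h)
  set Z := Subgroup.center (Matrix.symplecticGroup (Fin m) F) with hZ
  have hker : (QuotientGroup.mk' Z).ker = Z := QuotientGroup.ker_mk' Z
  obtain ⟨e₀⟩ := center_equiv (F := F) m (by omega)
  have hgcd : Nat.card (powMonoidHom 2 : Fˣ →* Fˣ).ker = Nat.gcd 2 (Fintype.card F - 1) := by
    rw [IsCyclic.card_powMonoidHom_ker, Nat.card_eq_fintype_card, Fintype.card_units, Nat.gcd_comm]
  let E : Multiplicative (ZMod (Nat.gcd 2 (Fintype.card F - 1))) ≃* (QuotientGroup.mk' Z).ker :=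
    ((hgcd ▸ (zmodCyclicMulEquiv (inferInstance : IsCyclic (powMonoidHom 2 : Fˣ →* Fˣ).ker))) :
      Multiplicative (ZMod (Nat.gcd 2 (Fintype.card F - 1))) ≃* (powMonoidHom 2 : Fˣ →* Fˣ).ker).trans
      (e₀.trans (MulEquiv.subgroupCongr hker.symm))
  refine ⟨⟨Matrix.symplecticGroup (Fin m) F, inferInstance, inferInstance, QuotientGroup.mk' Z,
    ⟨QuotientGroup.mk'_surjective _, hker.le, by rw [hperf]; exact le_top⟩, ⟨E.symm⟩⟩, ?_⟩
  intro Γ _ _ τ hτ
  have hinj : ∀ Δ : Subgroup (Matrix.symplecticGroup (Fin m) F × Γ),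
      Cfsg.IsStemExtension ((MonoidHom.fst (Matrix.symplecticGroup (Fin m) F) Γ).comp Δ.subtype) →
      Function.Injective ((MonoidHom.fst (Matrix.symplecticGroup (Fin m) F) Γ).comp Δ.subtype) := by
    intro Δ hΔ
    have hΔp := CfsgLib.Chev.commutator_eq_top_of_stem hΔ hperf
    rcases Nat.lt_or_ge m 3 with hm3 | hm3
    · obtain rfl : m = 2 := by omega
      exact CfsgLib.Schur.SpFour.injective_of_stem (by have := h2 rfl; omega) _ hΔ
    by_cases hq : Fintype.card F = 2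
    · have hm4 : 4 ≤ m := by
        by_contra h
        exact hexc ⟨by omega, hq⟩
      obtain ⟨n, rfl⟩ : ∃ n, m = 1 + n := ⟨m - 1, by omega⟩
      have hF2 : ∀ c : F, c = 0 ∨ c = 1 := by
        intro c
        by_contra hc
        push Not at hc
        have h3 : ({0, 1, c} : Finset F).card = 3 := Finset.card_eq_three.2
          ⟨0, 1, c, zero_ne_one, hc.1.symm, hc.2.symm, rfl⟩
        have := Finset.card_le_univ ({0, 1, c} : Finset F)
        omega
      exact CfsgLib.Schur.SpFam.injective_two hF2 (by omega)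
        (CfsgLib.Classical.SympTrans.commutator_of_card (Or.inl (by omega))) _ hΔ.1 hΔ.2.1 hΔp
    · obtain ⟨k, rfl⟩ : ∃ k, m = k + 2 := ⟨m - 2, by omega⟩
      have h1 : 1 < Fintype.card F := Fintype.one_lt_card
      obtain ⟨t, -, ht⟩ := Finset.exists_mem_notMem_of_card_lt_card (s := ({0, 1} : Finset F))
        (t := Finset.univ) (lt_of_le_of_lt Finset.card_le_two (by rw [Finset.card_univ]; omega))
      simp only [Finset.mem_insert, Finset.mem_singleton, not_or] at ht
      refine CfsgLib.Schur.SpFam.injective_of_four ?_ (fun Δ' hΔ' =>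
        CfsgLib.Schur.SpFour.injective_of_stem hq _ hΔ') ⟨t, ht⟩ _ hΔ.1 hΔ.2.1 hΔp
      exact CfsgLib.Classical.SympTrans.commutator_of_card (Or.inr (Or.inl ⟨rfl, by
        rw [Nat.card_eq_fintype_card]; omega⟩))
  obtain ⟨φ, hφ⟩ := CfsgLib.Schur.SpFam.exists_lift_hom hperf hinj (QuotientGroup.mk' Z) hτ.1 hτ.2.1
  have hcom : commutator Γ ≤ φ.range := by
    rw [commutator_def, Subgroup.commutator_le]
    intro a _ b _
    obtain ⟨x, hx⟩ := QuotientGroup.mk'_surjective Z (τ a)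
    obtain ⟨y, hy⟩ := QuotientGroup.mk'_surjective Z (τ b)
    rw [CfsgLib.Schur.commutatorElement_congr τ hτ.2.1 (a' := φ x) (b' := φ y) (by rw [hφ, hx])
      (by rw [hφ, hy]), commutatorElement_def]
    exact mul_mem (mul_mem (mul_mem ⟨x, rfl⟩ ⟨y, rfl⟩) (inv_mem ⟨x, rfl⟩)) (inv_mem ⟨y, rfl⟩)
  let π : (QuotientGroup.mk' Z).ker →* τ.ker := MonoidHom.mk' (fun z => ⟨φ z.1, by
    rw [MonoidHom.mem_ker, hφ]; exact z.2⟩) (fun a b => Subtype.ext (map_mul φ _ _))
  have hπ : Function.Surjective π := fun z => by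
    obtain ⟨x, hx⟩ := hcom (hτ.2.2 z.2)
    exact ⟨⟨x, by rw [MonoidHom.mem_ker, ← hφ, hx]; exact z.2⟩, Subtype.ext hx⟩
  exact ⟨π.comp E.toMonoidHom, hπ.comp E.surjective⟩
end Cfsg.Agent.S2092
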