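import Cfsg.Statements.S3559
import Mathlib.GroupTheory.GroupAction.MultipleTransitivity
import Mathlib.GroupTheory.GroupAction.Primitive
import Mathlib.Algebra.CharP.Lemmas
import Mathlib.Algebra.MonoidAlgebra.Defs
import Mathlib.Algebra.MonoidAlgebra.Basic

set_option autoImplicit false
open Cfsg
open scoped Pointwise

namespace Cfsg.Agent.S3559

variable {G Ω : Type*} [Group G] [MulAction G Ω] {C : Subgroup G} {α : Ω}

/-- A function on a regular subgroup constant on the suborbits at `α`. -/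
def Invariant (α : Ω) {R : Type*} (f : C → R) : Prop :=
  ∀ g : G, g • α = α → ∀ c d : C, g • ((c : G) • α) = (d : G) • α → f c = f d

/-- The regular subgroup labels the points. -/
structure Labelled (C : Subgroup G) (α : Ω) : Prop where
  inj : ∀ c d : C, (c : G) • α = (d : G) • α → c = d
  surj : ∀ ω : Ω, ∃ c : C, (c : G) • α = ω

theorem Invariant.pair (hL : Labelled C α) {R : Type*} {f : C → R} (hf : Invariant α f) (k : G)
    {u v u' v' : C} (hu : k • ((u : G) • α) = (u' : G) • α)
    (hv : k • ((v : G) • α) = (v' : G) • α) : f (u⁻¹ * v) = f (u'⁻¹ * v') := by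
  refine hf ((u' : G)⁻¹ * k * u) ?_ _ _ ?_
  · rw [mul_smul, mul_smul, hu, inv_smul_smul]
  · rw [Subgroup.coe_mul, Subgroup.coe_mul, Subgroup.coe_inv, Subgroup.coe_inv, mul_smul, mul_smul,
      mul_smul, smul_inv_smul, hv, ← mul_smul]

theorem invariant_delta (hL : Labelled C α) {R : Type*} [Zero R] [One R] [DecidableEq C] :
    Invariant α (fun c : C => if c = 1 then (1 : R) else 0) := by
  intro g hg c d hcd
  have h : c = 1 ↔ d = 1 := by
    constructor
    · rintro rfl
      exact hL.inj d 1 (by rw [← hcd, Subgroup.coe_one, one_smul, hg])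
    · rintro rfl
      refine hL.inj c 1 ?_
      rw [Subgroup.coe_one, one_smul] at hcd ⊢
      exact smul_left_cancel g (hcd.trans hg.symm)
  simp only [h]

theorem invariant_conv [Fintype C] (hL : Labelled C α) {R : Type*} [CommSemiring R] {f g : C → R}
    (hf : Invariant α f) (hg : Invariant α g) :
    Invariant α (fun z : C => ∑ x : C, f x * g (x⁻¹ * z)) := by
  intro k hk c d hcd
  choose π hπ using fun x : C => hL.surj (k • ((x : G) • α))
  have hinj : Function.Injective π := by
    intro x y h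
    refine hL.inj x y (smul_left_cancel k ?_)
    rw [← hπ x, ← hπ y, h]
  refine Fintype.sum_bijective π (Finite.injective_iff_bijective.mp hinj) _ _ fun x => ?_
  rw [hf k hk x (π x) (hπ x).symm, hg.pair hL k (hπ x).symm hcd]

/-- A subgroup with invariant indicator is trivial in a primitive action. -/
theorem trivial_of_invariant [MulAction.IsPreprimitive G Ω] (hL : Labelled C α) (H : Subgroup C)
    (h : Invariant α (fun c : C => c ∈ H)) : H = ⊥ ∨ H = ⊤ := by
  have hblock : MulAction.IsBlock G ((fun c : C => (c : G) • α) '' (H : Set C)) := by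
    set B := (fun c : C => (c : G) • α) '' (H : Set C) with hB
    have key : ∀ g₁ g₂ : G, (g₁ • B ∩ g₂ • B).Nonempty → g₁ • B ⊆ g₂ • B := by
      rintro g₁ g₂ ⟨z, ⟨_, ⟨a, ha, rfl⟩, rfl⟩, ⟨_, ⟨b, hb, rfl⟩, hz⟩⟩ w ⟨_, ⟨e, he, rfl⟩, rfl⟩
      obtain ⟨e', he'⟩ := hL.surj ((g₂⁻¹ * g₁) • ((e : G) • α))
      have hab : (g₂⁻¹ * g₁) • ((a : G) • α) = (b : G) • α := by
        rw [mul_smul, inv_smul_eq_iff]; exact hz.symm
      have h1 : (a⁻¹ * e ∈ H) = (b⁻¹ * e' ∈ H) := h.pair hL _ hab he'.symm
      refine ⟨_, ⟨e', ?_, rfl⟩, ?_⟩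
      · have h2 : b⁻¹ * e' ∈ H := h1 ▸ mul_mem (inv_mem ha) he
        simpa using mul_mem (SetLike.mem_coe.mp hb) h2
      · show g₂ • ((e' : G) • α) = g₁ • ((e : G) • α)
        rw [he', mul_smul, smul_inv_smul]
    rw [MulAction.isBlock_iff_smul_eq_smul_of_nonempty]
    exact fun g₁ g₂ hne => Set.Subset.antisymm (key g₁ g₂ hne) (key g₂ g₁ (Set.inter_comm _ _ ▸ hne))
  rcases MulAction.IsPreprimitive.isTrivialBlock_of_isBlock hblock with hs | hu
  · left
    rw [eq_bot_iff]
    intro c hc
    exact Subgroup.mem_bot.mpr (hL.inj c 1 (hs ⟨c, hc, rfl⟩ ⟨1, H.one_mem, rfl⟩))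
  · right
    rw [eq_top_iff]
    intro c _
    obtain ⟨e, he, hec⟩ := hu.symm ▸ Set.mem_univ ((c : G) • α)
    exact hL.inj e c hec ▸ he

theorem invariant_closure [Finite C] (hL : Labelled C α) (S : Set C)
    (hS : Invariant α (fun c : C => c ∈ S)) :
    Invariant α (fun c : C => c ∈ Subgroup.closure S) := by
  have main : ∀ z ∈ Subgroup.closure S, ∀ (k : G) (u u' v' : C),
      k • ((u : G) • α) = (u' : G) • α → k • (((u * z : C) : G) • α) = (v' : G) • α →
        u'⁻¹ * v' ∈ Subgroup.closure S := by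
    intro z hz
    induction hz using Subgroup.closure_induction with
    | mem z hz =>
      intro k u u' v' hu hv
      refine Subgroup.subset_closure ?_
      have h := hS.pair hL k hu hv
      rw [inv_mul_cancel_left] at h
      exact h ▸ hz
    | one =>
      intro k u u' v' hu hv
      rw [mul_one, hu] at hv
      rw [hL.inj _ _ hv, inv_mul_cancel]
      exact one_mem _
    | mul x y _ _ hx hy =>
      intro k u u' v' hu hv
      obtain ⟨w, hw⟩ := hL.surj (k • (((u * x : C) : G) • α))
      have h1 := hx k u u' w hu hw.symm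
      have h2 := hy k (u * x) w v' hw.symm (by rw [mul_assoc]; exact hv)
      simpa [mul_assoc] using mul_mem h1 h2
    | inv x _ hx =>
      intro k u u' v' hu hv
      have h1 := hx k (u * x⁻¹) v' u' hv (by rw [inv_mul_cancel_right]; exact hu)
      simpa using inv_mem h1
  intro g hg c d hcd
  refine propext ⟨fun hc => ?_, fun hd => ?_⟩
  · have := main c hc g 1 1 d (by simpa using hg) (by rw [one_mul]; exact hcd)
    simpa using this
  · have := main d hd g⁻¹ 1 1 c (by simpa [inv_smul_eq_iff] using hg.symm)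
      (by rw [one_mul, inv_smul_eq_iff]; exact hcd.symm)
    simpa using this

/-- The left stabiliser of an invariant set. -/
def radical (X : Set C) : Subgroup C where
  carrier := {z | ∀ w, w ∈ X ↔ z * w ∈ X}
  one_mem' := fun w => by rw [one_mul]
  mul_mem' := fun {a b} ha hb w => by rw [mul_assoc, hb w, ha (b * w)]
  inv_mem' := fun {a} ha w => by rw [ha (a⁻¹ * w), mul_inv_cancel_left]

theorem invariant_radical (hL : Labelled C α) (X : Set C) (hX : Invariant α (fun c : C => c ∈ X)) :
    Invariant α (fun c : C => c ∈ radical X) := by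
  have main : ∀ (g : G) (c d : C), g • α = α → g • ((c : G) • α) = (d : G) • α →
      c ∈ radical X → d ∈ radical X := by
    intro g c d hg hcd hc w
    obtain ⟨e, he⟩ := hL.surj (g⁻¹ • (((d * w : C) : G) • α))
    have he' : g • ((e : G) • α) = ((d * w : C) : G) • α := by rw [he, smul_inv_smul]
    have h1 : (c⁻¹ * e ∈ X) = (d⁻¹ * (d * w) ∈ X) := hX.pair hL g hcd he'
    have h2 : (e ∈ X) = (d * w ∈ X) := hX g hg e _ he'
    rw [inv_mul_cancel_left] at h1
    rw [← h1, ← h2]
    simpa using hc (c⁻¹ * e)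
  intro g hg c d hcd
  refine propext ⟨main g c d hg hcd, main g⁻¹ d c (inv_smul_eq_iff.mpr hg.symm) ?_⟩
  rw [inv_smul_eq_iff]; exact hcd.symm

open scoped MonoidAlgebra in
/-- Off the elements of order dividing `p` an invariant set is a union of cosets of those
elements. -/
theorem coset_closed {M : Subgroup G} [Fintype M] [DecidableEq M]
    (hcomm : ∀ a b : M, a * b = b * a) (hL : Labelled M α) [MulAction.IsPreprimitive G Ω]
    {p : ℕ} [Fact p.Prime] (P : Subgroup M) (hP : Nat.card P = p)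
    (hPmem : ∀ z : M, z ∈ P ↔ z ^ p = 1) (X : Set M) (hX : Invariant α (fun c : M => c ∈ X))
    {x : M} (hx : x ∈ X) (hxP : x ^ p ≠ 1) {z : M} (hz : z ∈ P) : x * z ∈ X := by
  classical
  letI : CommMonoid M := { (inferInstance : Monoid M) with mul_comm := hcomm }
  haveI : CharP (MonoidAlgebra (ZMod p) M) p :=
    charP_of_injective_ringHom (f := MonoidAlgebra.singleOneRingHom)
      (fun a b h => by
        have h2 := congrArg (fun t : MonoidAlgebra (ZMod p) M => t.coeff 1) h
        simpa using h2) p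
  set F : MonoidAlgebra (ZMod p) M :=
    ∑ c ∈ Finset.univ.filter (fun c : M => c ∈ X), MonoidAlgebra.single c 1 with hF
  have hFc : ∀ c, F.coeff c = if c ∈ X then 1 else 0 := by
    intro c
    simp [hF, MonoidAlgebra.coeff_sum, Finsupp.single_apply]
  have hinv : ∀ k : ℕ, Invariant α (fun c : M => (F ^ k).coeff c) := by
    intro k
    induction k with
    | zero =>
      have h1 : (fun c : M => ((F ^ 0 : MonoidAlgebra (ZMod p) M)).coeff c) =
          fun c : M => if c = 1 then (1 : ZMod p) else 0 := by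
        funext c
        simp [MonoidAlgebra.one_def, Finsupp.single_apply, eq_comm]
      rw [h1]
      exact invariant_delta hL
    | succ k ih =>
      have h1 : (fun c : M => (F ^ (k + 1)).coeff c) =
          fun z : M => ∑ y : M, (F ^ k).coeff y * F.coeff (y⁻¹ * z) := by
        funext c
        rw [pow_succ, MonoidAlgebra.coeff_mul_apply_left, Finsupp.sum_fintype _ _ (by simp)]
      rw [h1]
      refine invariant_conv hL ih ?_
      intro g hg c d hcd
      have h2 : (c ∈ X) = (d ∈ X) := hX g hg c d hcd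
      simp only [hFc, h2]
  have hpow : ∀ g : M, (F ^ p).coeff g =
      (((Finset.univ.filter fun c : M => c ∈ X).filter fun c => c ^ p = g).card : ZMod p) := by
    intro g
    rw [hF, sum_pow_char, MonoidAlgebra.coeff_sum, Finsupp.finsetSum_apply, Finset.card_filter,
      Nat.cast_sum]
    refine Finset.sum_congr rfl fun c _ => ?_
    simp [MonoidAlgebra.single_pow, Finsupp.single_apply, apply_ite]
  set S : Set M := {g | g ≠ 1 ∧ (F ^ p).coeff g ≠ 0} with hS
  have hSinv : Invariant α (fun c : M => c ∈ S) := by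
    intro g hg c d hcd
    have h1 := hinv p g hg c d hcd
    have h2 : c = 1 ↔ d = 1 := by
      have := invariant_delta (R := ZMod p) hL g hg c d hcd
      by_cases hc : c = 1 <;> by_cases hd : d = 1 <;> simp_all
    simp only [hS, Set.mem_setOf_eq, ne_eq, h2]
    simp only at h1
    rw [h1]
  have hPne : P ≠ ⊥ := fun h => (Fact.out : p.Prime).ne_one (by rw [← hP, h, Subgroup.card_bot])
  have hbot : Subgroup.closure S = ⊥ := by
    refine (trivial_of_invariant hL _ (invariant_closure hL S hSinv)).resolve_right fun h => ?_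
    let R : Subgroup M :=
      { carrier := Set.range fun c : M => c ^ p
        one_mem' := ⟨1, one_pow p⟩
        mul_mem' := by rintro _ _ ⟨a, rfl⟩ ⟨b, rfl⟩; exact ⟨a * b, mul_pow a b p⟩
        inv_mem' := by rintro _ ⟨a, rfl⟩; exact ⟨a⁻¹, inv_pow a p⟩ }
    have hle : Subgroup.closure S ≤ R := by
      refine (Subgroup.closure_le _).mpr fun g hg => ?_
      obtain ⟨-, hne⟩ := hg
      rw [hpow] at hne
      obtain ⟨c, hc⟩ := Finset.card_ne_zero.mp (fun h0 => hne (by rw [h0, Nat.cast_zero]))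
      exact ⟨c, (Finset.mem_filter.mp hc).2⟩
    rw [h, top_le_iff] at hle
    have hsurj : Function.Surjective fun c : M => c ^ p := fun c => by
      have hc : c ∈ R := hle ▸ Subgroup.mem_top c
      exact hc
    apply hPne
    rw [eq_bot_iff]
    intro c hc
    refine Subgroup.mem_bot.mpr ((Finite.injective_iff_surjective.mpr hsurj) ?_)
    simp [(hPmem c).mp hc]
  have h0 : (F ^ p).coeff (x ^ p) = 0 := by
    by_contra hne
    have : x ^ p ∈ Subgroup.closure S := Subgroup.subset_closure ⟨hxP, hne⟩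
    rw [hbot, Subgroup.mem_bot] at this
    exact hxP this
  rw [hpow, ZMod.natCast_eq_zero_iff] at h0
  set T := (Finset.univ.filter fun c : M => c ∈ X).filter fun c => c ^ p = x ^ p with hT
  set U := (Finset.univ.filter fun c : M => c ∈ P).map ⟨fun c => x * c, mul_right_injective x⟩ with hU
  have hTU : T ⊆ U := by
    intro c hc
    refine Finset.mem_map.mpr ⟨x⁻¹ * c, Finset.mem_filter.mpr ⟨Finset.mem_univ _, ?_⟩, ?_⟩
    · rw [hPmem, mul_pow, inv_pow, (Finset.mem_filter.mp hc).2, inv_mul_cancel]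
    · simp
  have hUc : U.card = p := by
    rw [hU, Finset.card_map, ← hP, Nat.card_eq_fintype_card, ← Fintype.card_subtype]
  have hxT : x ∈ T := by simp [hT, hx]
  have hTc : p ≤ T.card := Nat.le_of_dvd (Finset.card_pos.mpr ⟨x, hxT⟩) h0
  have hEq : T = U := Finset.eq_of_subset_of_card_le hTU (hUc ▸ hTc)
  have hxz : x * z ∈ T :=
    hEq ▸ Finset.mem_map.mpr ⟨z, Finset.mem_filter.mpr ⟨Finset.mem_univ _, hz⟩, rfl⟩
  exact (Finset.mem_filter.mp (Finset.mem_filter.mp hxz).1).2


/-- Let G act faithfully and transitively on a finite set whose number of points n ≥ 2 is not a prime power, and suppose G has a cyclic subgroup acting regularly (transitively with trivial point stabilizers). Then G is imprimitive or doubly transitive. -/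
theorem result {G Ω : Type*} [Group G] [Finite G] [MulAction G Ω] [FaithfulSMul G Ω] [Finite Ω]
    (htrans : MulAction.IsPretransitive G Ω) (hn : 2 ≤ Nat.card Ω) (hnp : ¬ IsPrimePow (Nat.card Ω))
    (C : Subgroup G) (hcyc : IsCyclic ↥C) (hC : MulAction.IsPretransitive ↥C Ω ∧ ∀ a : Ω, MulAction.stabilizer ↥C a = ⊥) :
    ¬ MulAction.IsPreprimitive G Ω ∨ MulAction.IsMultiplyPretransitive G Ω 2 := by
  classical
  by_cases hprim : MulAction.IsPreprimitive G Ω
  swap
  · exact Or.inl hprim
  refine Or.inr ?_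
  obtain ⟨α⟩ : Nonempty Ω := (Finite.card_pos_iff.mp (by omega))
  haveI := Fintype.ofFinite C
  haveI := hC.1
  have hL : Labelled C α := by
    refine ⟨fun c d h => ?_, fun ω => MulAction.exists_smul_eq C α ω⟩
    have h1 : c⁻¹ * d ∈ MulAction.stabilizer C α := by
      rw [MulAction.mem_stabilizer_iff, mul_smul, inv_smul_eq_iff]
      exact h.symm
    rw [hC.2 α, Subgroup.mem_bot] at h1
    exact inv_mul_eq_one.mp h1
  have hcard : Nat.card C = Nat.card Ω :=
    Nat.card_congr (Equiv.ofBijective (fun c : C => (c : G) • α)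
      ⟨fun c d h => hL.inj c d h, hL.surj⟩)
  -- two prime divisors
  obtain ⟨p, hp, hpd⟩ := Nat.exists_prime_and_dvd (show Nat.card C ≠ 1 by omega)
  obtain ⟨q, hq, hqd, hqp⟩ : ∃ q : ℕ, q.Prime ∧ q ∣ Nat.card C ∧ q ≠ p := by
    by_contra h
    push_neg at h
    refine hnp ?_
    have := Nat.eq_prime_pow_of_unique_prime_dvd (p := p) (show Nat.card C ≠ 0 by omega)
      fun {d} hd hdn => h d hd hdn
    rw [← hcard, this]
    refine hp.isPrimePow.pow fun h0 => ?_
    rw [h0, pow_zero] at this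
    omega
  have hsub : ∀ r : ℕ, r.Prime → r ∣ Nat.card C → ∃ P : Subgroup C, Nat.card P = r ∧
      ∀ z, z ∈ P ↔ z ^ r = 1 := by
    intro r hr hrd
    haveI := Fact.mk hr
    obtain ⟨a, ha⟩ := exists_prime_orderOf_dvd_card' (G := C) r hrd
    refine ⟨Subgroup.zpowers a, by rw [Nat.card_zpowers, ha], fun z => ⟨fun hz => ?_, fun hz => ?_⟩⟩
    · obtain ⟨i, rfl⟩ := Subgroup.mem_zpowers_iff.mp hz
      rw [← zpow_natCast, ← zpow_mul, mul_comm, zpow_mul, zpow_natCast, ← ha, pow_orderOf_eq_one,
        one_zpow]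
    · have h1 : (Finset.univ.filter fun y : C => y ^ r = 1).card ≤ r :=
        IsCyclic.card_pow_eq_one_le hr.pos
      have h2 : (Finset.univ.filter fun y : C => y ∈ Subgroup.zpowers a).card = r := by
        rw [← Fintype.card_subtype, ← Nat.card_eq_fintype_card]
        exact (Nat.card_zpowers a).trans ha
      have h3 : (Finset.univ.filter fun y : C => y ∈ Subgroup.zpowers a) ⊆
          Finset.univ.filter fun y : C => y ^ r = 1 := by
        intro y hy
        obtain ⟨i, rfl⟩ := Subgroup.mem_zpowers_iff.mp (Finset.mem_filter.mp hy).2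
        refine Finset.mem_filter.mpr ⟨Finset.mem_univ _, ?_⟩
        rw [← zpow_natCast, ← zpow_mul, mul_comm, zpow_mul, zpow_natCast, ← ha, pow_orderOf_eq_one,
          one_zpow]
      have h4 := Finset.eq_of_subset_of_card_le h3 (h2 ▸ h1)
      have h5 : z ∈ Finset.univ.filter fun y : C => y ∈ Subgroup.zpowers a :=
        h4 ▸ Finset.mem_filter.mpr ⟨Finset.mem_univ z, hz⟩
      exact (Finset.mem_filter.mp h5).2
  obtain ⟨P, hPc, hPm⟩ := hsub p hp hpd
  obtain ⟨Q, hQc, hQm⟩ := hsub q hq hqd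
  haveI := Fact.mk hp
  have hqf := Fact.mk hq
  have hcomm : ∀ a b : C, a * b = b * a := fun a b => mul_comm' a b
  have hclP : ∀ X : Set C, Invariant α (fun c : C => c ∈ X) → ∀ x ∈ X, x ∉ P → ∀ z ∈ P, x * z ∈ X :=
    fun X hX x hx hxP z hz => coset_closed hcomm hL P hPc hPm X hX hx (fun e => hxP ((hPm x).mpr e)) hz
  have hclQ : ∀ X : Set C, Invariant α (fun c : C => c ∈ X) → ∀ x ∈ X, x ∉ Q → ∀ z ∈ Q, x * z ∈ X :=
    fun X hX x hx hxQ z hz =>
      coset_closed (p := q) hcomm hL Q hQc hQm X hX hx (fun e => hxQ ((hQm x).mpr e)) hz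
  have hPQ : ∀ z, z ∈ P → z ∈ Q → z = 1 := by
    intro z h1 h2
    have := pow_gcd_eq_one.mpr ⟨(hPm z).mp h1, (hQm z).mp h2⟩
    rwa [(Nat.coprime_primes hp hq).mpr hqp.symm, pow_one] at this
  obtain ⟨a, haP, ha1⟩ := P.bot_or_exists_ne_one.resolve_left
    fun h => hp.ne_one (by rw [← hPc, h, Subgroup.card_bot])
  -- the suborbit of `a`
  let orb : C → Set C := fun b => {c | ∃ g : G, g • α = α ∧ g • ((b : G) • α) = (c : G) • α}
  have horb : ∀ b, Invariant α (fun c : C => c ∈ orb b) := by
    intro b g hg c d hcd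
    refine propext ⟨?_, ?_⟩
    · rintro ⟨k, hk, hkc⟩
      exact ⟨g * k, by rw [mul_smul, hk, hg], by rw [mul_smul, hkc, hcd]⟩
    · rintro ⟨k, hk, hkd⟩
      exact ⟨g⁻¹ * k, by rw [mul_smul, hk, inv_smul_eq_iff, hg],
        by rw [mul_smul, hkd, inv_smul_eq_iff, hcd]⟩
  have hself : ∀ b, b ∈ orb b := fun b => ⟨1, one_smul _ _, one_smul _ _⟩
  have hone : ∀ b, b ≠ 1 → (1 : C) ∉ orb b := by
    rintro b hb ⟨g, hg, hgb⟩
    refine hb (hL.inj b 1 ?_)
    rw [Subgroup.coe_one, one_smul] at hgb ⊢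
    exact smul_left_cancel g (hgb.trans hg.symm)
  set X := orb a with hX
  have hXi := horb a
  have haQ : a ∉ Q := fun h => ha1 (hPQ a haP h)
  have hab : ∀ b ∈ Q, b ≠ 1 → a * b ∈ X ∧ a * b ∉ P ∧ a * b ∉ Q := fun b hb hb1 =>
    ⟨hclQ X hXi a (hself a) haQ b hb,
      fun h => hb1 (hPQ b ((Subgroup.mul_mem_cancel_left P haP).mp h) hb),
      fun h => ha1 (hPQ a haP ((Subgroup.mul_mem_cancel_right Q hb).mp h))⟩
  have hQX : ∀ b ∈ Q, b ≠ 1 → b ∈ X := by
    intro b hb hb1
    obtain ⟨h1, h2, -⟩ := hab b hb hb1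
    have := hclP X hXi _ h1 h2 a⁻¹ (inv_mem haP)
    rwa [mul_comm' a b, mul_inv_cancel_right] at this
  have hPX : ∀ z ∈ P, z ≠ 1 → z ∈ X := by
    intro z hz hz1
    obtain ⟨b, hb, hb1⟩ := Q.bot_or_exists_ne_one.resolve_left
      fun h => hq.ne_one (by rw [← hQc, h, Subgroup.card_bot])
    have hbP : b ∉ P := fun h => hb1 (hPQ b h hb)
    have h1 := hclP X hXi b (hQX b hb hb1) hbP z hz
    have h2 : b * z ∉ Q := fun h => hz1 (hPQ z hz ((Subgroup.mul_mem_cancel_left Q hb).mp h))
    have := hclQ X hXi _ h1 h2 b⁻¹ (inv_mem hb)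
    rwa [mul_comm' b z, mul_inv_cancel_right] at this
  have hall : ∀ y : C, y ≠ 1 → y ∈ X := by
    intro y hy
    by_contra hyX
    have hdis : ∀ c ∈ orb y, c ∉ X := by
      intro c ⟨g, hg, hgc⟩ hcX
      have h1 : (y ∈ X) = (c ∈ X) := hXi g hg y c hgc
      exact hyX (h1.mpr hcX)
    have hnP : ∀ c ∈ orb y, c ∉ P := fun c hc hcP =>
      hdis c hc (hPX c hcP fun h => hone y hy (h ▸ hc))
    have hrad : radical (orb y) ≠ ⊥ := by
      intro h
      have h1 : a ∈ radical (orb y) := by
        intro w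
        refine ⟨fun hw => ?_, fun hw => ?_⟩
        · rw [mul_comm' a w]; exact hclP _ (horb y) w hw (hnP w hw) a haP
        · have := hclP _ (horb y) _ hw (hnP _ hw) a⁻¹ (inv_mem haP)
          rwa [mul_comm' a w, mul_inv_cancel_right] at this
      rw [h, Subgroup.mem_bot] at h1
      exact ha1 h1
    have htop := (trivial_of_invariant hL _ (invariant_radical hL _ (horb y))).resolve_left hrad
    have h1 : y⁻¹ ∈ radical (orb y) := htop ▸ Subgroup.mem_top _
    have := (h1 y).mp (hself y)
    rw [inv_mul_cancel] at this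
    exact hone y hy this
  have hfix : ∀ v : Ω, v ≠ α → ∃ g : G, g • α = α ∧ g • ((a : G) • α) = v := by
    intro v hv
    obtain ⟨c, rfl⟩ := hL.surj v
    exact hall c fun h => hv (by rw [h, Subgroup.coe_one, one_smul])
  rw [MulAction.is_two_pretransitive_iff]
  intro u v u' v' huv hu'v'
  haveI := htrans
  obtain ⟨g, hg⟩ := MulAction.exists_smul_eq G u α
  obtain ⟨g', hg'⟩ := MulAction.exists_smul_eq G u' α
  obtain ⟨k, hk, hkv⟩ := hfix (g • v) fun h => huv (smul_left_cancel g (hg.trans h.symm))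
  obtain ⟨k', hk', hkv'⟩ := hfix (g' • v') fun h => hu'v' (smul_left_cancel g' (hg'.trans h.symm))
  refine ⟨g'⁻¹ * k' * k⁻¹ * g, ?_, ?_⟩
  · rw [mul_smul, mul_smul, mul_smul, hg, inv_smul_eq_iff.mpr hk.symm, hk', inv_smul_eq_iff, hg']
  · rw [mul_smul, mul_smul, mul_smul, inv_smul_eq_iff.mpr hkv.symm, hkv', inv_smul_smul]

end Cfsg.Agent.S3559
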