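import Cfsg.Statements.S3972
import Mathlib
-- import your own Cfsg.Agent.* helpers here

set_option autoImplicit false
set_option linter.style.haveILetI false
open Cfsg
open scoped Pointwise

namespace Cfsg.Agent.S3972

theorem arith (p N j₁ j₂ a₁ a₂ : ℕ) (hj₁ : 1 ≤ j₁) (hj₂ : 1 ≤ j₂) (ha₁ : 0 < a₁) (ha₂ : 0 < a₂)
    (hA : a₁ + a₂ + 1 ≤ p) (hN : j₁ * p + j₂ * p + p ≤ N) (hNsq : p * p ≤ N)
    (h₁ : (N - 1) * (j₁ * p) + (j₁ * p + a₁) ≤ (j₁ * p + a₁) * (j₁ * p + a₁))
    (h₂ : (N - 1) * (j₂ * p) + (j₂ * p + a₂) ≤ (j₂ * p + a₂) * (j₂ * p + a₂)) : False := by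
  wlog hle : j₁ ≤ j₂ generalizing j₁ j₂ a₁ a₂
  · exact this j₂ j₁ a₂ a₁ hj₂ hj₁ ha₂ ha₁ (by omega) (by omega) h₂ h₁ (by omega)
  have hM : (N - 1) * (j₁ * p) = N * (j₁ * p) - j₁ * p := by rw [Nat.sub_mul, one_mul]
  rw [hM] at h₁
  have hge : j₁ * p ≤ N * (j₁ * p) := Nat.le_mul_of_pos_left _ (by nlinarith)
  rcases Nat.lt_or_ge j₁ 2 with hj | hj
  · obtain rfl : j₁ = 1 := by omega
    rw [one_mul] at h₁ hge
    have h3 : N * p + a₁ ≤ (p + a₁) * (p + a₁) := by omega
    nlinarith [Nat.mul_le_mul_right p hNsq, Nat.mul_le_mul (show a₁ + 2 ≤ p by omega) (show a₁ + 2 ≤ p by omega)]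
  · have h3 : N * (j₁ * p) + a₁ ≤ (j₁ * p + a₁) * (j₁ * p + a₁) := by omega
    have h4 : 2 * (j₁ * p) + p ≤ N := by nlinarith
    have h5 := Nat.mul_le_mul_right (j₁ * p) h4
    have h6 : 2 * p ≤ j₁ * p := Nat.mul_le_mul_right p hj
    nlinarith [Nat.mul_le_mul h6 h6, Nat.mul_le_mul (show a₁ + 2 ≤ p by omega) (show a₁ + 2 ≤ p by omega)]


open MulAction

/-- An invariant equivalence relation which is neither trivial nor universal gives a nontrivial
block. -/
theorem not_preprimitive_of_rel {G X : Type*} [Group G] [MulAction G X] (r : X → X → Prop)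
    (hr : Equivalence r) (hinv : ∀ (h : G) a b, r a b → r (h • a) (h • b)) {a b c : X}
    (hab : r a b) (hne : a ≠ b) (hac : ¬ r a c) : ¬ MulAction.IsPreprimitive G X := by
  intro hP
  have hB : MulAction.IsBlock G {z | r a z} := by
    rw [MulAction.isBlock_iff_smul_eq_smul_of_nonempty]
    rintro g₁ g₂ ⟨z, ⟨u, hu, rfl⟩, ⟨v, hv, hvz⟩⟩
    have key : ∀ g : G, g • {z | r a z} = {z | r (g • a) z} := by
      intro g
      ext z
      rw [Set.mem_smul_set_iff_inv_smul_mem]
      constructor
      · intro h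
        have := hinv g _ _ h
        rwa [smul_inv_smul] at this
      · intro h
        have := hinv g⁻¹ _ _ h
        rwa [inv_smul_smul] at this
    rw [key, key]
    have h1 : r (g₁ • a) (g₁ • u) := hinv g₁ _ _ hu
    have h2 : r (g₂ • a) (g₁ • u) := by
      have := hinv g₂ _ _ hv
      simp only at hvz
      rwa [hvz] at this
    ext w
    exact ⟨fun h => hr.trans h2 (hr.trans (hr.symm h1) h),
      fun h => hr.trans h1 (hr.trans (hr.symm h2) h)⟩
  rcases hP.isTrivialBlock_of_isBlock hB with h | h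
  · exact hne (h (hr.refl a) hab)
  · exact hac (h.symm ▸ Set.mem_univ c : c ∈ {z | r a z})

/-- A group with a regular cyclic subgroup of order `p ^ m`, `m ≥ 2`, is doubly transitive or
imprimitive. -/
theorem schur {G Ω : Type*} [Group G] [Fintype Ω] [DecidableEq Ω] [MulAction G Ω] {p m : ℕ}
    (hp : p.Prime) (hm : 2 ≤ m) (hΩ : Fintype.card Ω = p ^ m) (σ : G) (o : Ω)
    (hsurj : ∀ z, ∃ i : ℕ, σ ^ i • o = z)
    (hper : ∀ i j : ℕ, σ ^ i • o = σ ^ j • o ↔ i ≡ j [MOD p ^ m])
    (h2 : ¬ MulAction.IsMultiplyPretransitive G Ω 2) : ¬ MulAction.IsPreprimitive G Ω := by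
  classical
  haveI : Fact p.Prime := ⟨hp⟩
  intro hP
  choose τ hτ using hsurj
  have hstep : ∀ i j : ℕ, σ ^ i • (σ ^ j • o) = σ ^ (i + j) • o := fun i j => by
    rw [← mul_smul, ← pow_add]
  have hswap : ∀ i : ℕ, ∀ w, σ ^ (τ w) • (σ ^ i • o) = σ ^ i • w := fun i w => by
    rw [hstep, add_comm, ← hstep, hτ]
  have hpN : p ∣ p ^ m := dvd_pow_self p (by omega)
  have hτmod : ∀ i, τ (σ ^ i • o) ≡ i [MOD p ^ m] := fun i => (hper _ _).1 (hτ _)
  set φ : Ω → Ω := fun z => σ ^ (p * τ z) • o with hφ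
  have hφσ : ∀ i, φ (σ ^ i • o) = σ ^ (p * i) • o := fun i =>
    (hper _ _).2 ((hτmod i).mul_left p)
  set P := p ^ (m - 1) with hPdef
  have hpP : p * P = p ^ m := by rw [hPdef, ← pow_succ']; congr 1; omega
  set k := σ ^ P with hk
  -- fibres of `φ`
  have hφk : ∀ z, φ (k • z) = φ z := fun z => by
    conv_lhs => rw [← hτ z, hk, hstep, hφσ]
    show σ ^ (p * (P + τ z)) • o = σ ^ (p * τ z) • o
    rw [hper, mul_add, hpP]
    exact Nat.add_modEq_left
  have hfib : ∀ w z, φ z = φ w → ∃ i < p, z = k ^ i • w := by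
    intro w z h
    have h1 : τ z ≡ τ w [MOD P] :=
      Nat.ModEq.mul_left_cancel' hp.ne_zero (hpP.symm ▸ (hper _ _).1 h)
    obtain ⟨i, hi⟩ : ∃ i : ℕ, τ w + P * i ≡ τ z [MOD p ^ m] := by
      refine ⟨((τ z + p ^ m * τ w - τ w) / P), ?_⟩
      have hle : τ w ≤ τ z + p ^ m * τ w := le_add_left (Nat.le_mul_of_pos_left _ (pow_pos hp.pos m))
      have hdvd : P ∣ τ z + p ^ m * τ w - τ w := by
        refine (Nat.modEq_iff_dvd' hle).1 ?_
        calc τ w ≡ τ z [MOD P] := h1.symm
          _ ≡ τ z + p ^ m * τ w [MOD P] := by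
            rw [← hpP, mul_comm p P, mul_assoc]
            exact Nat.left_modEq_add_iff.2 (dvd_mul_right _ _)
      rw [Nat.mul_div_cancel' hdvd, Nat.add_sub_cancel' hle]
      exact Nat.add_modEq_left_iff.2 (dvd_mul_right _ _)
    refine ⟨i % p, Nat.mod_lt _ hp.pos, ?_⟩
    conv_rhs => rw [← hτ w]
    rw [hk, ← pow_mul, hstep]
    conv_lhs => rw [← hτ z]
    rw [hper]
    refine hi.symm.trans ?_
    rw [add_comm (P * (i % p))]
    refine Nat.ModEq.add_left _ ?_
    rw [← hpP, mul_comm p P]
    exact (Nat.mod_modEq i p).symm.mul_left' P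
  -- images of `o` under conjugates of stabilizer orbits
  have hclosed : ∀ y, y ≠ o → (∀ s : G, s • o = o → p ∣ τ (s • y)) → False := by
    intro y hy hdiv
    let E : Ω → Ω → Prop := fun a b => ∃ u : G, u • o = a ∧ u • y = b
    have hE : ∀ a b, Relation.EqvGen E a b → τ a ≡ τ b [MOD p] := by
      intro a b h
      induction h with
      | rel a b h =>
        obtain ⟨u, hu, rfl⟩ := h
        set s := (σ ^ τ a)⁻¹ * u with hs
        have hso : s • o = o := by rw [hs, mul_smul, hu, inv_smul_eq_iff, hτ]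
        have hb : σ ^ (τ a + τ (s • y)) • o = u • y := by
          rw [← hstep, hτ, ← mul_smul, hs, mul_inv_cancel_left]
        calc τ a ≡ τ a + τ (s • y) [MOD p] :=
              Nat.left_modEq_add_iff.2 (hdiv s hso)
          _ ≡ τ (u • y) [MOD p] := by
              rw [← hb]; exact ((hτmod _).of_dvd hpN).symm
      | refl a => exact Nat.ModEq.refl _
      | symm a b _ ih => exact ih.symm
      | trans a b c _ _ ih1 ih2 => exact ih1.trans ih2
    have hinv : ∀ (h : G) a b, Relation.EqvGen E a b → Relation.EqvGen E (h • a) (h • b) := by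
      intro h a b hab
      induction hab with
      | rel a b h' =>
        obtain ⟨u, rfl, rfl⟩ := h'
        exact Relation.EqvGen.rel _ _ ⟨h * u, mul_smul _ _ _, mul_smul _ _ _⟩
      | refl a => exact Relation.EqvGen.refl _
      | symm a b _ ih => exact Relation.EqvGen.symm _ _ ih
      | trans a b c _ _ ih1 ih2 => exact Relation.EqvGen.trans _ _ _ ih1 ih2
    refine not_preprimitive_of_rel _ (Relation.EqvGen.is_equivalence E) hinv
      (Relation.EqvGen.rel o y ⟨1, one_smul G o, one_smul G y⟩) hy.symm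
      (c := σ ^ 1 • o) (fun h => ?_) hP
    have h0 : τ o ≡ 0 [MOD p] := by
      have := (hτmod 0).of_dvd hpN
      rwa [pow_zero, one_smul] at this
    have h1 := (h0.symm.trans (hE _ _ h)).trans ((hτmod 1).of_dvd hpN)
    exact hp.ne_one (Nat.dvd_one.1 (Nat.modEq_zero_iff_dvd.1 h1.symm))
  let K : Finset Ω := Finset.univ.filter fun z => φ z = o
  have hφo : φ o = o := by
    have := hφσ 0
    rwa [pow_zero, one_smul, mul_zero, pow_zero, one_smul] at this
  have hko : k • o ≠ o := fun h => by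
    rw [hk, show σ ^ P • o = o ↔ σ ^ P • o = σ ^ 0 • o by rw [pow_zero, one_smul], hper,
      Nat.modEq_zero_iff_dvd] at h
    exact absurd (Nat.le_of_dvd (pow_pos hp.pos _) h)
      (not_le.2 (Nat.pow_lt_pow_right hp.one_lt (by omega)))
  have hkK : ∀ i, k ^ i • o ∈ K := by
    intro i
    induction i with
    | zero => simp [K, hφo]
    | succ i ih =>
      simp only [K, Finset.mem_filter, Finset.mem_univ, true_and] at ih ⊢
      rw [pow_succ', mul_smul, hφk, ih]
  have hKcard : K.card = p := by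
    refine le_antisymm ?_ ?_
    · refine le_trans (Finset.card_le_card (t := (Finset.range p).image fun i => k ^ i • o)
        fun z hz => ?_) (Finset.card_image_le.trans (Finset.card_range p).le)
      obtain ⟨i, hi, rfl⟩ := hfib o z (((Finset.mem_filter.1 hz).2).trans hφo.symm)
      exact Finset.mem_image.2 ⟨i, Finset.mem_range.2 hi, rfl⟩
    · refine le_trans (Finset.card_range p).ge (Finset.card_le_card_of_injOn (fun i => k ^ i • o)
        (fun i _ => hkK i) fun a ha b hb h => ?_)
      simp only [hk, ← pow_mul] at h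
      have := Nat.ModEq.mul_left_cancel' (c := P) (pow_ne_zero _ hp.ne_zero)
        (show P * a ≡ P * b [MOD P * p] by rw [mul_comm P p, hpP]; exact (hper _ _).1 h)
      exact this.eq_of_lt_of_lt (Finset.mem_coe.1 ha |> Finset.mem_range.1)
        (Finset.mem_coe.1 hb |> Finset.mem_range.1)
  -- the analysis of one suborbit
  have main : ∀ T : Finset Ω, T.Nonempty → o ∉ T → (∀ s : G, s • o = o → ∀ w ∈ T, s • w ∈ T) →
      (∀ w ∈ T \ K, k • w ∈ T \ K) ∧ (∃ j, 1 ≤ j ∧ (T \ K).card = j * p) ∧ (T ∩ K).Nonempty := by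
    intro T hTne hoT hT
    have hTiff : ∀ s : G, s • o = o → ∀ w, s • w ∈ T ↔ w ∈ T := fun s hs w =>
      ⟨fun h => by
        have := hT s⁻¹ (inv_smul_eq_iff.2 hs.symm) _ h
        rwa [inv_smul_smul] at this, hT s hs w⟩
    let A : Module.End (ZMod p) (Ω → ZMod p) :=
      ∑ w ∈ T, LinearMap.funLeft (ZMod p) (ZMod p) (fun z => σ ^ τ w • z)
    have hA : ∀ (f : Ω → ZMod p) z, A f z = ∑ w ∈ T, f (σ ^ τ w • z) := fun f z => by
      simp [A, LinearMap.sum_apply, Finset.sum_apply, LinearMap.funLeft_apply]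
    have hAeq : ∀ (h : G) (f : Ω → ZMod p) z, A (fun x => f (h • x)) z = A f (h • z) := by
      intro h f z
      rw [hA, hA]
      set u := (σ ^ τ (h • z))⁻¹ * h * σ ^ τ z with hu
      have huo : u • o = o := by rw [hu, mul_smul, hτ, mul_smul, inv_smul_eq_iff, hτ]
      refine Finset.sum_equiv (MulAction.toPerm u) (fun w => (hTiff u huo w).symm) fun w _ => ?_
      refine congrArg f ?_
      show h • σ ^ τ w • z = σ ^ τ (u • w) • (h • z)
      conv_rhs => arg 2; rw [← hτ (h • z)]
      rw [hswap, hu, mul_smul, mul_smul, smul_inv_smul]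
      conv_lhs => arg 2; arg 2; rw [← hτ z]
      rw [hswap]
    have hApow : ∀ (n : ℕ) (h : G) (f : Ω → ZMod p) z,
        (A ^ n) (fun x => f (h • x)) z = (A ^ n) f (h • z) := by
      intro n
      induction n with
      | zero => intro h f z; rfl
      | succ n ih =>
        intro h f z
        have e : A (fun x => f (h • x)) = fun x => A f (h • x) := funext fun x => hAeq h f x
        rw [pow_succ, Module.End.mul_apply, Module.End.mul_apply, e, ih]
    haveI : Nonempty Ω := ⟨o⟩
    haveI : CharP (Module.End (ZMod p) (Ω → ZMod p)) p :=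
      charP_of_injective_algebraMap (R := ZMod p) (FaithfulSMul.algebraMap_injective _ _) p
    let Pt : ℕ → Module.End (ZMod p) (Ω → ZMod p) := fun j =>
      LinearMap.funLeft (ZMod p) (ZMod p) (fun z => σ ^ j • z)
    have hPmul : ∀ a b, Pt a * Pt b = Pt (b + a) := fun a b => LinearMap.ext fun f => funext fun z => by
      simp [Pt, LinearMap.funLeft_apply, pow_add, mul_smul]
    have hPpow : ∀ n a, Pt a ^ n = Pt (n * a) := by
      intro n a
      induction n with
      | zero =>
        refine LinearMap.ext fun f => funext fun z => ?_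
        simp [Pt, LinearMap.funLeft_apply]
      | succ n ih =>
        rw [pow_succ, ih, hPmul]
        congr 1
        ring
    have hfrob : ∀ U : Finset Ω, (∑ w ∈ U, Pt (τ w)) ^ p = ∑ w ∈ U, Pt (p * τ w) := by
      intro U
      induction U using Finset.induction_on with
      | empty => simp [hp.ne_zero]
      | insert a U ha ih =>
        rw [Finset.sum_insert ha, Finset.sum_insert ha, add_pow_char_of_commute _ ?_, ih, hPpow]
        exact Commute.sum_right _ _ _ fun b _ => by
          rw [Commute, SemiconjBy, hPmul, hPmul, add_comm]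
    have hcount : ∀ y, (A ^ p) (fun x => if x = y then (1 : ZMod p) else 0) o =
        ((T.filter fun w => φ w = y).card : ZMod p) := by
      intro y
      have hAp : A ^ p = ∑ w ∈ T, Pt (p * τ w) := hfrob T
      rw [hAp, LinearMap.sum_apply, Finset.sum_apply, Finset.card_filter, Nat.cast_sum]
      refine Finset.sum_congr rfl fun w _ => ?_
      simp only [Pt, LinearMap.funLeft_apply, hφ]
      split_ifs <;> simp
    have hcinv : ∀ (s : G), s • o = o → ∀ y, ((T.filter fun w => φ w = s • y).card : ZMod p) =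
        ((T.filter fun w => φ w = y).card : ZMod p) := by
      intro s hs y
      rw [← hcount, ← hcount]
      have e := hApow p s (fun x => if x = s • y then (1 : ZMod p) else 0) o
      simp only [smul_left_cancel_iff, hs] at e
      exact e.symm
    have hc0 : ∀ y, y ≠ o → ((T.filter fun w => φ w = y).card : ZMod p) = 0 := by
      intro y hy
      by_contra hne
      refine hclosed y hy fun s hs => ?_
      obtain ⟨w, hw⟩ : (T.filter fun w => φ w = s • y).Nonempty := by
        rw [Finset.nonempty_iff_ne_empty]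
        intro h
        apply hne
        rw [← hcinv s hs y, h]
        simp
      rw [← (Finset.mem_filter.1 hw).2]
      exact Nat.modEq_zero_iff_dvd.1 (((hτmod _).of_dvd hpN).trans
        (Nat.modEq_zero_iff_dvd.2 (dvd_mul_right _ _)))
    have hfull : ∀ w ∈ T, φ w ≠ o →
        (T.filter fun x => φ x = φ w) = Finset.univ.filter (fun x => φ x = φ w) ∧
          (T.filter fun x => φ x = φ w).card = p := by
      intro w hw hwo
      have hsub : (T.filter fun x => φ x = φ w) ⊆ Finset.univ.filter (fun x => φ x = φ w) :=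
        Finset.filter_subset_filter _ (Finset.subset_univ T)
      have hle : (Finset.univ.filter (fun x => φ x = φ w)).card ≤ p := by
        refine le_trans (Finset.card_le_card (t := (Finset.range p).image fun i => k ^ i • w)
          fun z hz => ?_) (Finset.card_image_le.trans (Finset.card_range p).le)
        obtain ⟨i, hi, rfl⟩ := hfib w z (Finset.mem_filter.1 hz).2
        exact Finset.mem_image.2 ⟨i, Finset.mem_range.2 hi, rfl⟩
      have hge : p ≤ (T.filter fun x => φ x = φ w).card := Nat.le_of_dvd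
        (Finset.card_pos.2 ⟨w, Finset.mem_filter.2 ⟨hw, rfl⟩⟩)
        ((ZMod.natCast_eq_zero_iff _ _).1 (hc0 _ hwo))
      exact ⟨Finset.eq_of_subset_of_card_le hsub (hle.trans hge),
        le_antisymm ((Finset.card_le_card hsub).trans hle) hge⟩
    have hmemS : ∀ w, w ∈ T \ K ↔ w ∈ T ∧ φ w ≠ o := fun w => by simp [K]
    have hkS : ∀ w ∈ T \ K, k • w ∈ T \ K := by
      intro w hw
      obtain ⟨hwT, hwo⟩ := (hmemS w).1 hw
      refine (hmemS _).2 ⟨?_, by rwa [hφk]⟩
      have : k • w ∈ T.filter fun x => φ x = φ w := by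
        rw [(hfull w hwT hwo).1]; simp [hφk]
      exact (Finset.mem_filter.1 this).1
    have hSne : (T \ K).Nonempty := by
      rw [Finset.nonempty_iff_ne_empty]
      intro h
      rw [Finset.sdiff_eq_empty_iff_subset] at h
      obtain ⟨w, hw⟩ := hTne
      refine hclosed w (fun e => hoT (e ▸ hw)) fun s hs => ?_
      have hK : φ (s • w) = o := (Finset.mem_filter.1 (h (hT s hs w hw))).2
      have h1 : p * τ (s • w) ≡ 0 [MOD p * P] := by
        rw [hpP, ← hper, pow_zero, one_smul]; exact hK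
      have h2 : P ∣ τ (s • w) :=
        Nat.modEq_zero_iff_dvd.1 (Nat.ModEq.mul_left_cancel' hp.ne_zero (by simpa using h1))
      exact (dvd_pow_self p (by omega : m - 1 ≠ 0)).trans h2
    refine ⟨hkS, ⟨((T \ K).image φ).card, Finset.card_pos.2 (hSne.image φ), ?_⟩, ?_⟩
    · rw [Finset.card_eq_sum_card_image φ (T \ K),
        Finset.sum_congr rfl (g := fun _ => p) fun y hy => ?_, Finset.sum_const, smul_eq_mul]
      obtain ⟨w, hw, rfl⟩ := Finset.mem_image.1 hy
      obtain ⟨hwT, hwo⟩ := (hmemS w).1 hw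
      rw [← (hfull w hwT hwo).2]
      congr 1
      ext x
      simp only [Finset.mem_filter, hmemS]
      exact ⟨fun h => ⟨h.1.1, h.2⟩, fun h => ⟨⟨h.1, h.2 ▸ hwo⟩, h.2⟩⟩
    · rw [Finset.nonempty_iff_ne_empty]
      intro hTK
      have hTS : T \ K = T := Finset.sdiff_eq_self_iff_disjoint.2
        (Finset.disjoint_iff_inter_eq_empty.2 hTK)
      let R : Ω → Ω → Prop := fun a w => ∀ u : G, u • o = a → u⁻¹ • w ∈ T
      have hRinv : ∀ (h : G) a w, R a w → R (h • a) (h • w) := fun h a w hR u hu => by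
        have := hR (h⁻¹ * u) (by rw [mul_smul, hu, inv_smul_smul])
        rwa [mul_inv_rev, inv_inv, mul_smul] at this
      have hRiff : ∀ u : G, ∀ w, R (u • o) w ↔ u⁻¹ • w ∈ T := fun u w => by
        refine ⟨fun hR => hR u rfl, fun h v hv => ?_⟩
        have hs : (v⁻¹ * u) • o = o := by rw [mul_smul, ← hv, inv_smul_smul]
        have := hT _ hs _ h
        rwa [mul_smul, smul_inv_smul] at this
      have hkT : ∀ w, k⁻¹ • w ∈ T ↔ w ∈ T := by
        have himg : T.image (fun w => k • w) = T := by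
          refine Finset.eq_of_subset_of_card_le (fun x hx => ?_)
            (by rw [Finset.card_image_of_injective _ (MulAction.injective k)])
          obtain ⟨w, hw, rfl⟩ := Finset.mem_image.1 hx
          exact hTS.le (hkS w (hTS.ge hw))
        intro w
        constructor
        · intro h
          rw [← himg]
          exact Finset.mem_image.2 ⟨_, h, smul_inv_smul k w⟩
        · intro h
          rw [← himg] at h
          obtain ⟨v, hv, rfl⟩ := Finset.mem_image.1 h
          rwa [inv_smul_smul]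
      obtain ⟨t, ht⟩ := hTne
      refine not_preprimitive_of_rel (fun a b => ∀ w, R a w ↔ R b w)
        ⟨fun a w => Iff.rfl, fun h w => (h w).symm, fun h h' w => (h w).trans (h' w)⟩
        (fun h a b hab w => ?_) (a := o) (b := k • o) (c := t) (fun w => ?_) hko.symm (fun h => ?_) hP
      · constructor
        · intro hw
          have := hRinv h _ _ ((hab (h⁻¹ • w)).1 (by
            have := hRinv h⁻¹ _ _ hw; rwa [inv_smul_smul] at this))
          rwa [smul_inv_smul] at this
        · intro hw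
          have := hRinv h _ _ ((hab (h⁻¹ • w)).2 (by
            have := hRinv h⁻¹ _ _ hw; rwa [inv_smul_smul] at this))
          rwa [smul_inv_smul] at this
      · have h1 := hRiff 1 w
        rw [one_smul, inv_one, one_smul] at h1
        rw [h1, hRiff k w, hkT]
      · have h1 := hRiff 1 t
        rw [one_smul, inv_one, one_smul] at h1
        have h3 := (hRiff (σ ^ τ t) t)
        rw [hτ] at h3
        have h4 := h3.1 ((h t).1 (h1.2 ht))
        rw [inv_smul_eq_iff.2 (hτ t).symm] at h4
        exact hoT h4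
  -- suborbits
  let orb : Ω → Finset Ω := fun y => Finset.univ.filter fun z => ∃ s : G, s • o = o ∧ s • y = z
  have horb_inv : ∀ y, ∀ s : G, s • o = o → ∀ w ∈ orb y, s • w ∈ orb y := by
    intro y s hs w hw
    obtain ⟨t, ht, rfl⟩ := (Finset.mem_filter.1 hw).2
    exact Finset.mem_filter.2 ⟨Finset.mem_univ _, s * t, by rw [mul_smul, ht, hs], mul_smul _ _ _⟩
  have horb_self : ∀ y, y ∈ orb y := fun y =>
    Finset.mem_filter.2 ⟨Finset.mem_univ _, 1, one_smul G o, one_smul G y⟩
  have horb_o : ∀ y, y ≠ o → o ∉ orb y := fun y hy h => by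
    obtain ⟨s, hs, hsy⟩ := (Finset.mem_filter.1 h).2
    exact hy (MulAction.injective s (hsy.trans hs.symm))
  have hmeet : ∀ y, y ≠ o → (orb y ∩ K).Nonempty := fun y hy =>
    (main _ ⟨y, horb_self y⟩ (horb_o y hy) (horb_inv y)).2.2
  -- counting the paths of length two
  have count : ∀ T : Finset Ω, o ∉ T → (∀ s : G, s • o = o → ∀ w ∈ T, s • w ∈ T) →
      (∀ w ∈ T \ K, k • w ∈ T \ K) →
      (p ^ m - 1) * (T \ K).card + T.card ≤ T.card * T.card := by
    intro T hoT hT hkS
    let Q : Ω → Ω → Prop := fun x w => (σ ^ τ x)⁻¹ • w ∈ T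
    have hQiff : ∀ (u : G) w, Q (u • o) w ↔ u⁻¹ • w ∈ T := fun u w => by
      have hs : ((σ ^ τ (u • o))⁻¹ * u) • o = o := by rw [mul_smul, inv_smul_eq_iff, hτ]
      constructor
      · intro h
        have := hT _ (inv_smul_eq_iff.2 hs.symm) _ h
        rwa [mul_inv_rev, inv_inv, mul_smul, smul_inv_smul] at this
      · intro h
        have := hT _ hs _ h
        rwa [mul_smul, smul_inv_smul] at this
    let D : Ω → ℕ := fun x => (T.filter fun w => Q x w).card
    have hDinv : ∀ (s : G) x, s • o = o → D (s • x) = D x := by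
      intro s x hs
      refine (Finset.card_equiv (MulAction.toPerm s) fun w => ?_).symm
      simp only [Finset.mem_filter, MulAction.toPerm_apply]
      refine and_congr ⟨hT s hs w, fun h => ?_⟩ ?_
      · have := hT s⁻¹ (inv_smul_eq_iff.2 hs.symm) _ h
        rwa [inv_smul_smul] at this
      · have e := hQiff (s * σ ^ τ x) (s • w)
        rw [mul_smul, hτ, mul_inv_rev, mul_smul, inv_smul_smul] at e
        exact e.symm
    have hDo : D o = T.card := by
      refine congrArg Finset.card (Finset.filter_true_of_mem fun w hw => ?_)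
      have e := hQiff 1 w
      rw [one_smul, inv_one, one_smul] at e
      exact e.2 hw
    have hDK : ∀ x, x ≠ o → (T \ K).card ≤ D x := by
      intro x hx
      obtain ⟨y, hy⟩ := hmeet x hx
      obtain ⟨hy1, hy2⟩ := Finset.mem_inter.1 hy
      obtain ⟨s, hs, rfl⟩ := (Finset.mem_filter.1 hy1).2
      obtain ⟨i, -, hi⟩ := hfib o (s • x) (((Finset.mem_filter.1 hy2).2).trans hφo.symm)
      rw [← hDinv s x hs, hi]
      refine Finset.card_le_card fun w hw => Finset.mem_filter.2 ⟨(Finset.mem_sdiff.1 hw).1, ?_⟩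
      rw [hQiff]
      have himg : (T \ K).image (fun w => k • w) = T \ K :=
        Finset.eq_of_subset_of_card_le (fun z hz => by
          obtain ⟨v, hv, rfl⟩ := Finset.mem_image.1 hz; exact hkS v hv)
          (by rw [Finset.card_image_of_injective _ (MulAction.injective k)])
      have hback : ∀ n : ℕ, ∀ v ∈ T \ K, (k ^ n)⁻¹ • v ∈ T \ K := by
        intro n
        induction n with
        | zero => intro v hv; simpa using hv
        | succ n ih =>
          intro v hv
          rw [← himg] at hv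
          obtain ⟨u, hu, rfl⟩ := Finset.mem_image.1 hv
          rw [pow_succ', mul_inv_rev, mul_smul, inv_smul_smul]
          exact ih u hu
      exact (Finset.mem_sdiff.1 (hback i w hw)).1
    have hsum : ∑ x, D x = T.card * T.card := by
      simp only [D, Finset.card_filter]
      rw [Finset.sum_comm, Finset.sum_const_nat fun w _ => ?_]
      rw [← Finset.card_filter]
      have hinj : Function.Injective fun x => (σ ^ τ x)⁻¹ • w := fun x x' h => by
        simp only [inv_smul_eq_iff] at h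
        have h' : σ ^ τ x' • w = σ ^ τ x • w := by
          conv_lhs => rw [h]
          rw [← mul_smul, ← mul_smul]
          congr 1
          rw [← pow_add, add_comm, pow_add, mul_inv_cancel_right]
        have h3 : τ x' ≡ τ x [MOD p ^ m] := by
          refine Nat.ModEq.add_right_cancel' (τ w) ((hper _ _).1 ?_)
          rw [← hstep, ← hstep, hτ, h']
        rw [← hτ x, ← hτ x']
        exact ((hper _ _).2 h3).symm
      refine (Finset.card_equiv (Equiv.ofBijective _ (Finite.injective_iff_bijective.1 hinj))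
        fun x => ?_)
      simp [Q]
    rw [← Finset.add_sum_erase _ _ (Finset.mem_univ o), hDo] at hsum
    have h3 : (Finset.univ.erase o).card * (T \ K).card ≤ ∑ x ∈ Finset.univ.erase o, D x := by
      rw [← smul_eq_mul]
      exact Finset.card_nsmul_le_sum _ _ _ fun x hx => hDK x (Finset.ne_of_mem_erase hx)
    rw [Finset.card_erase_of_mem (Finset.mem_univ o), Finset.card_univ, hΩ] at h3
    omega
  -- two suborbits
  obtain ⟨y₁, hy₁, y₂, hy₂, hy₁₂⟩ : ∃ y₁, y₁ ≠ o ∧ ∃ y₂, y₂ ≠ o ∧ y₂ ∉ orb y₁ := by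
    by_contra hno
    push Not at hno
    apply h2
    rw [MulAction.is_two_pretransitive_iff]
    intro a b c d hab hcd
    have key : ∀ a b : Ω, a ≠ b → (σ ^ τ a)⁻¹ • b ≠ o := fun a b h e =>
      h ((hτ a).symm.trans ((inv_smul_eq_iff.1 e).symm))
    obtain ⟨s, hs, hsy⟩ := (Finset.mem_filter.1
      (hno _ (key a b hab) _ (key c d hcd))).2
    refine ⟨σ ^ τ c * s * (σ ^ τ a)⁻¹, ?_, ?_⟩
    · rw [mul_smul, mul_smul, inv_smul_eq_iff.2 (hτ a).symm, hs, hτ]
    · rw [mul_smul, mul_smul, hsy, smul_inv_smul]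
  have hdisj : Disjoint (orb y₁) (orb y₂) := by
    rw [Finset.disjoint_left]
    intro z h1 h2'
    obtain ⟨s, hs, rfl⟩ := (Finset.mem_filter.1 h1).2
    obtain ⟨t, ht, hty⟩ := (Finset.mem_filter.1 h2').2
    refine hy₁₂ (Finset.mem_filter.2 ⟨Finset.mem_univ _, t⁻¹ * s, ?_, ?_⟩)
    · rw [mul_smul, hs, inv_smul_eq_iff, ht]
    · rw [mul_smul, ← hty, inv_smul_smul]
  obtain ⟨hk1, ⟨j₁, hj₁, hn₁⟩, ha₁⟩ :=
    main _ ⟨y₁, horb_self y₁⟩ (horb_o y₁ hy₁) (horb_inv y₁)
  obtain ⟨hk2, ⟨j₂, hj₂, hn₂⟩, ha₂⟩ :=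
    main _ ⟨y₂, horb_self y₂⟩ (horb_o y₂ hy₂) (horb_inv y₂)
  set T₁ := orb y₁ with hT₁
  set T₂ := orb y₂ with hT₂
  have hN : (T₁ \ K).card + (T₂ \ K).card + p ≤ p ^ m := by
    rw [← hΩ, ← Finset.card_union_of_disjoint (hdisj.mono Finset.sdiff_subset Finset.sdiff_subset),
      ← hKcard]
    rw [← Finset.card_union_of_disjoint]
    · exact Finset.card_le_univ _
    · exact Finset.disjoint_union_left.2 ⟨Finset.sdiff_disjoint, Finset.sdiff_disjoint⟩
  have hA : (T₁ ∩ K).card + (T₂ ∩ K).card + 1 ≤ p := by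
    rw [← hKcard, ← Finset.card_union_of_disjoint
      (hdisj.mono Finset.inter_subset_left Finset.inter_subset_left),
      ← Finset.card_erase_add_one (hkK 0)]
    refine Nat.add_le_add_right (Finset.card_le_card fun z hz => ?_) 1
    rw [pow_zero, one_smul]
    rcases Finset.mem_union.1 hz with h | h <;> obtain ⟨h1, h2'⟩ := Finset.mem_inter.1 h
    · exact Finset.mem_erase.2 ⟨fun e => horb_o y₁ hy₁ (e ▸ h1), h2'⟩
    · exact Finset.mem_erase.2 ⟨fun e => horb_o y₂ hy₂ (e ▸ h1), h2'⟩
  have hc₁ := count T₁ (horb_o y₁ hy₁) (horb_inv y₁) hk1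
  have hc₂ := count T₂ (horb_o y₂ hy₂) (horb_inv y₂) hk2
  rw [← Finset.card_sdiff_add_card_inter T₁ K, hn₁] at hc₁
  rw [← Finset.card_sdiff_add_card_inter T₂ K, hn₂] at hc₂
  rw [hn₁, hn₂] at hN
  have hNsq : p * p ≤ p ^ m := by
    rw [← pow_two]; exact Nat.pow_le_pow_right hp.pos hm
  exact arith p (p ^ m) j₁ j₂ _ _ hj₁ hj₂ (Finset.card_pos.2 ha₁) (Finset.card_pos.2 ha₂)
    hA hN hNsq hc₁ hc₂

/-- Let `p` be a prime, `m ≥ 2`, and `G` a transitive but not doubly transitive permutation group on `p ^ m` points containing a permutation of order `p ^ m` (necessarily a full cycle). Then `G` is imprimitive, and the normal closure in `G` of the `p ^ (m - 1)`-th power of that permutation is an intransitive normal subgroup. -/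
theorem result {Ω : Type*} [Fintype Ω] [DecidableEq Ω] (p m : ℕ) (hp : p.Prime) (hm : 2 ≤ m) (hΩ : Fintype.card Ω = p ^ m) (G : Subgroup (Equiv.Perm Ω)) (htr : MulAction.IsPretransitive G Ω) (h2 : ¬ MulAction.IsMultiplyPretransitive G Ω 2) (g : G) (hg : orderOf g = p ^ m) : ¬ MulAction.IsPreprimitive G Ω ∧ ¬ MulAction.IsPretransitive (Subgroup.normalClosure ({g ^ (p ^ (m - 1))} : Set G)) Ω := by
  classical
  haveI := htr
  haveI : Fact p.Prime := ⟨hp⟩
  have hk1 : g ^ p ^ (m - 1) ≠ 1 := fun h => by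
    have := orderOf_dvd_of_pow_eq_one h
    rw [hg, Nat.pow_dvd_pow_iff_le_right hp.one_lt] at this
    omega
  obtain ⟨o, ho⟩ : ∃ o : Ω, g ^ p ^ (m - 1) • o ≠ o := by
    by_contra h
    push Not at h
    exact hk1 (Subtype.ext (Equiv.ext fun z => h z))
  have hperiod : MulAction.period g o = p ^ m := by
    obtain ⟨i, hi, hi'⟩ := (Nat.dvd_prime_pow hp).1 (hg ▸ MulAction.period_dvd_orderOf g o)
    rcases hi.lt_or_eq with hlt | heq
    · refine absurd ?_ ho
      rw [MulAction.pow_smul_eq_iff_period_dvd, hi']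
      exact pow_dvd_pow p (by omega)
    · rw [hi', heq]
  have hper : ∀ i j : ℕ, g ^ i • o = g ^ j • o ↔ i ≡ j [MOD p ^ m] := by
    have key : ∀ i j : ℕ, i ≤ j → (g ^ i • o = g ^ j • o ↔ i ≡ j [MOD p ^ m]) := by
      intro i j hij
      obtain ⟨d, rfl⟩ := Nat.exists_eq_add_of_le hij
      rw [pow_add, mul_smul, (MulAction.injective (g ^ i)).eq_iff, eq_comm,
        MulAction.pow_smul_eq_iff_period_dvd, hperiod, Nat.left_modEq_add_iff]
    intro i j
    rcases Nat.le_total i j with h | h
    · exact key i j h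
    · rw [eq_comm, key j i h]; exact ⟨Nat.ModEq.symm, Nat.ModEq.symm⟩
  have hinj : Function.Injective fun i : Fin (p ^ m) => g ^ (i : ℕ) • o := fun i j h =>
    Fin.ext (((hper _ _).1 h).eq_of_lt_of_lt i.2 j.2)
  have hbij := (Fintype.bijective_iff_injective_and_card _).2 ⟨hinj, by rw [Fintype.card_fin, hΩ]⟩
  have hsurj : ∀ z, ∃ i : ℕ, g ^ i • o = z := fun z => by
    obtain ⟨i, hi⟩ := hbij.2 z
    exact ⟨i, hi⟩
  have hnp := schur hp hm hΩ g o hsurj hper h2
  refine ⟨hnp, fun htrans => ?_⟩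
  have hblock : ∃ B : Set Ω, o ∈ B ∧ MulAction.IsBlock G B ∧ ¬ MulAction.IsTrivialBlock B := by
    by_contra h
    push Not at h
    exact hnp (MulAction.IsPreprimitive.of_isTrivialBlock_base o fun hoB hB => h _ hoB hB)
  obtain ⟨B, hoB, hB, hBtriv⟩ := hblock
  rw [MulAction.IsTrivialBlock, not_or] at hBtriv
  obtain ⟨b, hb, hbo⟩ := (Set.not_subsingleton_iff.1 hBtriv.1).exists_ne o
  obtain ⟨i, rfl⟩ := hsurj b
  -- the translations fixing the block
  set H := (MulAction.stabilizer G B).comap (Subgroup.zpowers g).subtype with hH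
  have hfix : ∀ h : G, h • o ∈ B → h • B = B := by
    intro h hh
    have := hB.smul_eq_smul_of_nonempty (g₁ := h) (g₂ := 1)
      ⟨h • o, Set.smul_mem_smul_set hoB, by rwa [one_smul]⟩
    rwa [one_smul] at this
  have hiB : g ^ i • B = B := hfix _ hb
  have hnd : ¬ p ^ m ∣ i := fun h => hbo (by
    have := (hper i 0).2 (Nat.modEq_zero_iff_dvd.2 h)
    rwa [pow_zero, one_smul] at this)
  have hkB : g ^ p ^ (m - 1) • B = B := by
    have hmem : g ^ p ^ (m - 1) ∈ Subgroup.zpowers (g ^ i) := by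
      obtain ⟨e, he, hgcd⟩ := (Nat.dvd_prime_pow hp).1 (Nat.gcd_dvd_right i (p ^ m))
      have hlt : e ≤ m - 1 := by
        by_contra hc
        obtain rfl : e = m := by omega
        exact hnd (hgcd ▸ Nat.gcd_dvd_left i (p ^ e))
      obtain ⟨c, hc⟩ := pow_dvd_pow p hlt
      rw [hc, pow_mul]
      refine Subgroup.pow_mem _ ?_ c
      rw [← hgcd, ← zpow_natCast g (i.gcd (p ^ m)), Nat.gcd_eq_gcd_ab, zpow_add, zpow_mul, zpow_mul,
        zpow_natCast, zpow_natCast, ← hg, pow_orderOf_eq_one, one_zpow, mul_one]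
      exact Subgroup.zpow_mem _ (Subgroup.mem_zpowers _) _
    obtain ⟨c, hc⟩ := Subgroup.mem_zpowers_iff.1 hmem
    rw [← hc]
    exact (MulAction.stabilizer G B).zpow_mem hiB c
  -- the kernel of the action on the translates of the block
  let Kr : Subgroup G := ⨅ h : G, MulAction.stabilizer G (h • B)
  have hKr : Kr.Normal := ⟨fun x hx h => by
    simp only [Kr, Subgroup.mem_iInf, MulAction.mem_stabilizer_iff] at hx ⊢
    intro u
    rw [mul_smul, mul_smul, ← mul_smul h⁻¹ u B, hx, ← mul_smul, mul_inv_cancel_left]⟩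
  have hkK : g ^ p ^ (m - 1) ∈ Kr := by
    simp only [Kr, Subgroup.mem_iInf, MulAction.mem_stabilizer_iff]
    intro h
    obtain ⟨j, hj⟩ := hsurj (h • o)
    have hB' : g ^ j • B = h • B := hB.smul_eq_smul_of_nonempty
      ⟨h • o, by rw [← hj]; exact Set.smul_mem_smul_set hoB, Set.smul_mem_smul_set hoB⟩
    rw [← hB', ← mul_smul, ← pow_add, add_comm, pow_add, mul_smul, hkB]
  have hle : Subgroup.normalClosure ({g ^ p ^ (m - 1)} : Set G) ≤ Kr :=
    Subgroup.normalClosure_le_normal (Set.singleton_subset_iff.2 hkK)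
  apply hBtriv.2
  refine Set.eq_univ_of_forall fun z => ?_
  haveI := htrans
  obtain ⟨u, hu⟩ := MulAction.exists_smul_eq
    (Subgroup.normalClosure ({g ^ p ^ (m - 1)} : Set G)) o z
  have h1 := Subgroup.mem_iInf.1 (hle u.2) 1
  rw [MulAction.mem_stabilizer_iff, one_smul] at h1
  rw [← hu, ← h1]
  exact Set.smul_mem_smul_set hoB

end Cfsg.Agent.S3972
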