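import Cfsg.Statements.S0338
import Cfsg.Agent.Lib.Zassenhaus.NormalSubgroup

set_option autoImplicit false
set_option linter.style.haveILetI false
open Cfsg

namespace Cfsg.Agent.S0338

/-- A Zassenhaus group of odd degree is a simple group. -/
theorem result {G Ω : Type*} [Group G] [MulAction G Ω] [Fintype Ω]
    (hZ : Cfsg.IsZassenhausGroup G Ω) (hodd : Odd (Fintype.card Ω)) : IsSimpleGroup G := by
  classical
  obtain ⟨hf, h2, h3, h4, h5⟩ := hZ
  have hz := CfsgLib.Zassenhaus.ZG.mk' hf h2 h3 h4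
  haveI := CfsgLib.Zassenhaus.finite_group hz
  haveI : Nontrivial G := by
    obtain ⟨g, hg, -⟩ := h4
    exact ⟨g, 1, hg⟩
  refine ⟨fun N hN => or_iff_not_imp_left.mpr fun hne => ?_⟩
  haveI := hN
  haveI : Fact (Nat.Prime 2) := ⟨Nat.prime_two⟩
  -- no involution fixes two points
  have hno : ∀ τ : G, τ * τ = 1 → ∀ a b : Ω, a ≠ b → τ • a = a → τ • b = b → τ = 1 := by
    intro τ hτ a b hab ha hb
    have hperm : (MulAction.toPerm τ : Equiv.Perm Ω) ^ 2 ^ 1 = 1 := by
      rw [pow_one, pow_two]; exact Equiv.ext fun z => by simp [smul_smul, hτ]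
    have hcard : (Finset.univ.filter fun z : Ω => τ • z = z).card % 2 = Fintype.card Ω % 2 := by
      have h := Equiv.Perm.card_compl_support_modEq (p := 2) (n := 1) hperm
      rw [show (Finset.univ.filter fun z : Ω => τ • z = z) =
        (MulAction.toPerm τ : Equiv.Perm Ω).supportᶜ by ext z; simp]
      exact h
    obtain ⟨c, hc, hca, hcb⟩ : ∃ c, τ • c = c ∧ c ≠ a ∧ c ≠ b := by
      by_contra h
      push Not at h
      have hset : (Finset.univ.filter fun z : Ω => τ • z = z) = {a, b} := by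
        ext z
        simp only [Finset.mem_filter, Finset.mem_univ, true_and, Finset.mem_insert, Finset.mem_singleton]
        refine ⟨fun hz => (em (z = a)).imp_right (h z hz), ?_⟩
        rintro (rfl | rfl)
        exacts [ha, hb]
      rw [hset, Finset.card_pair hab, Nat.odd_iff.mp hodd] at hcard
      omega
    exact hz.free τ a b c hab (Ne.symm hcb) (Ne.symm hca) ha hb hc
  have h2N := fun (x y x' y' : Ω) h h' =>
    CfsgLib.Zassenhaus.normal_two_transitive hz h5 N hne (x := x) (y := y) (x' := x') (y' := y') h h'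
  obtain ⟨a, b, hab⟩ : ∃ a b : Ω, a ≠ b := by
    obtain ⟨_, -, a, b, hab, -, -⟩ := h4
    exact ⟨a, b, hab⟩
  -- an involution of `N` exchanging the two points
  obtain ⟨g, hgN, hga, hgb⟩ := h2N a b b a hab hab.symm
  obtain ⟨k, m, hm, hgo⟩ := Nat.exists_eq_two_pow_mul_odd (orderOf_pos g).ne'
  set t := g ^ m with ht
  have hsw : ∀ i : ℕ, (Odd i → g ^ i • a = b ∧ g ^ i • b = a) ∧ (Even i → g ^ i • a = a ∧ g ^ i • b = b) := by
    intro i
    induction i with
    | zero => simp
    | succ i ih =>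
      rw [pow_succ', mul_smul, mul_smul, Nat.odd_add_one, Nat.even_add_one, Nat.not_odd_iff_even,
        Nat.not_even_iff_odd]
      exact ⟨fun h => by rw [(ih.2 h).1, (ih.2 h).2]; exact ⟨hga, hgb⟩,
        fun h => by rw [(ih.1 h).1, (ih.1 h).2]; exact ⟨hgb, hga⟩⟩
  have hta : t • a = b := ((hsw m).1 hm).1
  have htb : t • b = a := ((hsw m).1 hm).2
  have ht2 : t * t = 1 := by
    by_contra hne2
    have ho : orderOf (t * t) ∣ 2 ^ k := by
      refine orderOf_dvd_of_pow_eq_one ?_
      rw [← pow_two, ht, ← pow_mul, ← pow_mul, show m * (2 * 2 ^ k) = 2 ^ k * m * 2 by ring, ← hgo,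
        pow_mul, pow_orderOf_eq_one, one_pow]
    obtain ⟨j, -, hj⟩ := (Nat.dvd_prime_pow Nat.prime_two).mp ho
    obtain ⟨j', rfl⟩ : ∃ j', j = j' + 1 := Nat.exists_eq_succ_of_ne_zero fun e => by
      rw [e, pow_zero, orderOf_eq_one_iff] at hj; exact hne2 hj
    have hτ := hno ((t * t) ^ 2 ^ j') (by rw [← pow_add, ← two_mul, ← pow_succ', ← hj, pow_orderOf_eq_one])
      a b hab (CfsgLib.Zassenhaus.fix_pow (by rw [mul_smul, hta, htb]) _)
      (CfsgLib.Zassenhaus.fix_pow (by rw [mul_smul, htb, hta]) _)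
    have := Nat.le_of_dvd (by positivity) (orderOf_dvd_of_pow_eq_one hτ)
    rw [hj, pow_succ] at this
    have : 0 < 2 ^ j' := by positivity
    omega
  have ht1 : t ≠ 1 := fun e => hab (by rw [e, one_smul] at hta; exact hta)
  -- it inverts the two-point stabilizer
  obtain ⟨c, hc⟩ : ∃ c : Ω, t • c = c := by
    have hperm : (MulAction.toPerm t : Equiv.Perm Ω) ^ 2 ^ 1 = 1 := by
      rw [pow_one, pow_two]; exact Equiv.ext fun z => by simp [smul_smul, ht2]
    exact Equiv.Perm.exists_fixed_point_of_prime (p := 2) (n := 1)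
      (fun h => Nat.not_even_iff_odd.mpr hodd (even_iff_two_dvd.mpr h)) hperm
  let f : CfsgLib.Zassenhaus.D2 G a b →* CfsgLib.Zassenhaus.D2 G a b :=
    { toFun := fun h => ⟨t * h * t, CfsgLib.Zassenhaus.mem_D2.mpr
        ⟨by rw [mul_smul, mul_smul, hta, show (h : G) • b = b from h.2.2, htb],
         by rw [mul_smul, mul_smul, htb, show (h : G) • a = a from h.2.1, hta]⟩⟩
      map_one' := Subtype.ext (by simp [ht2])
      map_mul' := fun x y => Subtype.ext (by
        show t * ((x : G) * y) * t = t * x * t * (t * y * t)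
        calc t * ((x : G) * y) * t = t * x * 1 * y * t := by group
          _ = _ := by rw [← ht2]; group) }
  have hfpf : MonoidHom.FixedPointFree f := fun x hx => by
    have e1 : t * (x : G) * t = x := congrArg Subtype.val hx
    have e : t * (x : G) = x * t := by
      calc t * (x : G) = t * x * (t * t) := by rw [ht2, mul_one]
        _ = _ := by rw [← mul_assoc, e1]
    have hxc : (x : G) • c = c := by
      by_contra hne'
      exact ht1 (hno t ht2 _ c hne' (by rw [smul_smul, e, mul_smul, hc]) hc)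
    exact Subtype.ext (hz.free x a b c hab (fun e => hab (by rw [← e] at hc; rw [← hc, htb]))
      (fun e => hab (by rw [← e] at hc; rw [← hta, hc])) x.2.1 x.2.2 hxc)
  have hinv : Function.Involutive f := fun x => Subtype.ext (by
    show t * (t * x * t) * t = x
    rw [← mul_assoc, ← mul_assoc, ht2, one_mul, mul_assoc, ht2, mul_one])
  have hD : ∀ h ∈ CfsgLib.Zassenhaus.D2 G a b, h ∈ N := by
    intro h hh
    have e : t * h * t = h⁻¹ := congrArg Subtype.val (congrFun (hfpf.coe_eq_inv_of_involutive hinv) ⟨h, hh⟩)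
    have htN : t ∈ N := N.pow_mem hgN m
    have hh2 : h ^ 2 ∈ N := by
      have hmem : h * t * h⁻¹ * t ∈ N := N.mul_mem (hN.conj_mem t htN h) htN
      have e' : h * t * h⁻¹ * t = h ^ 2 := by
        have : t * h⁻¹ * t = h := by
          calc t * h⁻¹ * t = t * (t * h * t) * t := by rw [e]
            _ = h := by rw [← mul_assoc, ← mul_assoc, ht2, one_mul, mul_assoc, ht2, mul_one]
        rw [pow_two]
        conv_rhs => rw [← this]
        rw [show h * t * h⁻¹ * t = h * (t * h⁻¹ * t) by group, this]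
      rwa [e'] at hmem
    have hodd' : Odd (orderOf h) := by
      rw [Nat.odd_iff]
      by_contra h'
      have hev : 2 ∣ orderOf h := by omega
      obtain ⟨l, hl⟩ := hev
      have hτ := hno (h ^ l) (by rw [← pow_add, ← two_mul, ← hl, pow_orderOf_eq_one]) a b hab
        (CfsgLib.Zassenhaus.fix_pow hh.1 _) (CfsgLib.Zassenhaus.fix_pow hh.2 _)
      have h0 := orderOf_pos h
      have := Nat.le_of_dvd (by omega) (orderOf_dvd_of_pow_eq_one hτ)
      omega
    obtain ⟨l, hl⟩ := hodd'
    have : (h ^ 2) ^ (l + 1) = h := by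
      rw [← pow_mul, show 2 * (l + 1) = orderOf h + 1 by omega, pow_succ, pow_orderOf_eq_one, one_mul]
    exact this ▸ N.pow_mem hh2 _
  rw [eq_top_iff]
  intro x _
  obtain ⟨n, hn, h1, h2'⟩ := h2N a b (x • a) (x • b) hab fun e => hab ((smul_left_cancel_iff x).mp e)
  have := hD (n⁻¹ * x) (CfsgLib.Zassenhaus.mem_D2.mpr
    ⟨by rw [mul_smul, inv_smul_eq_iff, h1], by rw [mul_smul, inv_smul_eq_iff, h2']⟩)
  simpa using N.mul_mem hn this

end Cfsg.Agent.S0338
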