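import Cfsg.Statements.S3864
import Cfsg.Agent.Lib.SmallTwo.DihedralClasses

set_option autoImplicit false
set_option linter.style.haveILetI false
open Cfsg CfsgLib.SmallTwo CfsgLib.SmallTwo.Dih CfsgLib.Transfer

namespace Cfsg.Agent.S3864

theorem zmod_two_pair : ∀ u v : ZMod 2, v = u ∨ v = u + 1 := by decide

/-- Let G be a finite group whose Sylow 2-subgroups are dihedral of order 2 ^ n with n ≥ 3, and count the conjugacy classes of involutions of G. Then exactly one of the following holds: there is one class of involutions and no normal subgroup of index 2; there are two classes of involutions, a normal subgroup of index 2 and none of index 4; there are three classes of involutions and G has a normal 2-complement. -/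
theorem result {G : Type*} [Group G] [Finite G] (P : Sylow 2 G) (n : ℕ) (hn : 3 ≤ n) (hdih : Nonempty (↥(P : Subgroup G) ≃* DihedralGroup (2 ^ (n - 1)))) : (Nat.card {C : ConjClasses G // ∃ g : G, ConjClasses.mk g = C ∧ orderOf g = 2} = 1 ∧ ∀ N : Subgroup G, N.Normal → N.index ≠ 2) ∨ (Nat.card {C : ConjClasses G // ∃ g : G, ConjClasses.mk g = C ∧ orderOf g = 2} = 2 ∧ (∃ N : Subgroup G, N.Normal ∧ N.index = 2) ∧ ∀ N : Subgroup G, N.Normal → N.index ≠ 4) ∨ (Nat.card {C : ConjClasses G // ∃ g : G, ConjClasses.mk g = C ∧ orderOf g = 2} = 3 ∧ Cfsg.HasNormalPComplement 2 G) := by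
  classical
  obtain ⟨eS⟩ := hdih
  have hm : 4 ≤ 2 ^ (n - 1) := by
    calc 4 = 2 ^ 2 := by norm_num
      _ ≤ _ := Nat.pow_le_pow_right (by norm_num) (by omega)
  obtain ⟨h, hh, ⟨d⟩⟩ := CfsgLib.SmallTwo.Dih.frame_exists P (by omega) eS
  have h1 : h ≠ 1 := by omega
  have := d.neZero
  haveI := Fact.mk Nat.prime_two
  set c := d.ι (DihedralGroup.r (h : ZMod (2 * h))) with hc
  let a : ZMod 2 → G := fun ε => d.ι (DihedralGroup.sr (ε.val : ZMod (2 * h)))
  have hχ : ∀ ε : ZMod 2, χ h (ε.val : ZMod (2 * h)) = ε := fun ε => by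
    rw [map_natCast, ZMod.natCast_zmod_val]
  have hc2 : orderOf c = 2 := by
    rw [hc, orderOf_injective d.ι d.ι_injective]
    refine orderOf_eq_prime (by rw [pow_two, DihedralGroup.r_mul_r, h_add_h, DihedralGroup.r_zero]) fun e => ?_
    rw [DihedralGroup.one_def, DihedralGroup.r.injEq] at e
    exact h_ne_zero e
  have ha2 : ∀ ε, orderOf (a ε) = 2 := fun ε => by
    rw [orderOf_injective d.ι d.ι_injective, DihedralGroup.orderOf_sr]
  have hsr : ∀ i, IsConj (d.ι (DihedralGroup.sr i)) (a (χ h i)) := by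
    intro i
    obtain ⟨k, hk⟩ := exists_double (hχ (χ h i)).symm
    refine d.ι_isConj (isConj_iff.mpr ⟨DihedralGroup.r k, ?_⟩)
    rw [r_conj_sr]
    congr 1
    conv_lhs => rw [hk]
    abel
  -- every involution is conjugate to one of the three representatives
  have hall : ∀ t : G, orderOf t = 2 → IsConj t c ∨ ∃ ε, IsConj t (a ε) := by
    intro t ht
    obtain ⟨s, hs, hts⟩ := exists_conj_mem P (k := 1) (by rw [pow_one]; exact ht)
    obtain ⟨g, hg⟩ := isConj_iff.mp hts
    obtain ⟨v, rfl⟩ := d.exists_ι hs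
    have hv : orderOf v = 2 := by
      rw [← orderOf_injective d.ι d.ι_injective v, ← hg, ← MulAut.conj_apply, MulEquiv.orderOf_eq, ht]
    rcases v with i | i
    · have h2 : DihedralGroup.r i * DihedralGroup.r i = 1 := by
        rw [← pow_two]
        exact orderOf_dvd_iff_pow_eq_one.mp hv.dvd
      rw [DihedralGroup.r_mul_r, DihedralGroup.one_def, DihedralGroup.r.injEq] at h2
      rcases eq_zero_or_h h2 with rfl | rfl
      · rw [← DihedralGroup.one_def, orderOf_one] at hv; omega
      · exact Or.inl hts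
    · exact Or.inr ⟨_, hts.trans (hsr i)⟩
  -- moved four-groups fuse their reflections with `c`
  let Moves := fun i : ZMod (2 * h) => (Subgroup.centralizer (d.fourG i : Set G)).relIndex
    (Subgroup.normalizer (d.fourG i : Set G)) = (if h = 1 then 3 else 6)
  have hmove : ∀ i, Moves i → IsConj (a (χ h i)) c := by
    intro i hi
    obtain ⟨m, hm, hodd, hmC⟩ := d.exists_odd hi
    obtain ⟨e, he⟩ := four_moves (d.klein_fourG i).card_four hm hodd hmC
      (d.ι_mem_fourG.mpr (mem_four.mpr (Or.inr (Or.inr (Or.inl rfl)))))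
      (d.ι_mem_fourG.mpr (mem_four.mpr (Or.inr (Or.inl rfl))))
      (fun e => by have := d.ι_injective (e.trans (map_one d.ι).symm); cases this)
      (fun e => by
        have := d.ι_injective (e.trans (map_one d.ι).symm)
        rw [DihedralGroup.one_def, DihedralGroup.r.injEq] at this
        exact h_ne_zero this)
    exact (hsr i).symm.trans (isConj_iff.mpr ⟨_, he⟩)
  have hacts : ∀ i, ¬ Moves i → ∃ K : Subgroup G, K.Normal ∧ K.index = 2 ∧
      c ∈ K ∧ ∀ ε, a ε ∈ K ↔ ε ≠ χ h i := by
    intro i hi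
    obtain ⟨he, -⟩ := (d.index_cases i).resolve_right hi
    obtain ⟨K, hKn, hK, hKm⟩ := d.par_index_two_of_acts (actsLike_of_normalizer_eq he)
    refine ⟨K, hKn, hK, (hKm _).mpr (r_mem_par.mpr (d.χ_h h1)), fun ε => ?_⟩
    rw [hKm, sr_mem_par, hχ]
    generalize χ h i = u
    revert u ε
    decide
  have hclass : ∀ ε i, Moves i → χ h i = ε → IsConj (a ε) c := fun ε i hi e => e ▸ hmove i hi
  by_cases hM : ∀ i, Moves i
  · -- one class
    left
    have hone : ∀ x y : G, orderOf x = 2 → orderOf y = 2 → IsConj x y := fun x y hx hy =>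
      d.one_class_of_moves hM hx hy
    refine ⟨?_, fun N _ => Frame.no_index_two_of_one_class hone d N⟩
    rw [Nat.card_eq_one_iff_unique]
    refine ⟨⟨fun C D => ?_⟩, ⟨⟨ConjClasses.mk c, c, rfl, hc2⟩⟩⟩
    obtain ⟨C, g, rfl, hg⟩ := C
    obtain ⟨D, g', rfl, hg'⟩ := D
    exact Subtype.ext (ConjClasses.mk_eq_mk_iff_isConj.mpr (hone g g' hg hg'))
  push Not at hM
  obtain ⟨i₀, hi₀⟩ := hM
  set ε₀ := χ h i₀
  obtain ⟨K, hKn, hK, hcK, haK⟩ := hacts i₀ hi₀
  have hεcases : ∀ ε, ε = ε₀ ∨ ε = ε₀ + 1 := by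
    exact zmod_two_pair ε₀
  have hca₀ : ¬ IsConj (a ε₀) c := fun e => (haK ε₀).mp ((mem_iff_of_conj hK e).mpr hcK) rfl
  have hcases : ∀ t : G, orderOf t = 2 → IsConj t c ∨ IsConj t (a ε₀) ∨ IsConj t (a (ε₀ + 1)) := by
    intro t ht
    rcases hall t ht with e | ⟨ε, e⟩
    · exact Or.inl e
    · rcases hεcases ε with rfl | rfl
      exacts [Or.inr (Or.inl e), Or.inr (Or.inr e)]
  by_cases hM' : ∃ i, Moves i
  · -- two classes
    right; left
    obtain ⟨i₁, hi₁⟩ := hM'
    have hconj : ∀ ε, ε ≠ ε₀ → IsConj (a ε) c := by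
      intro ε hε
      refine hclass ε i₁ hi₁ ((hεcases (χ h i₁)).elim (fun e => absurd (hmove i₁ hi₁) (by rw [e]; exact hca₀)) fun e => ?_)
      exact e.trans ((hεcases ε).resolve_left hε).symm
    refine ⟨?_, ⟨K, hKn, hK⟩, fun N hN hN4 => ?_⟩
    · refine (Nat.card_eq_two_iff).mpr ⟨⟨ConjClasses.mk c, c, rfl, hc2⟩, ⟨ConjClasses.mk (a ε₀), a ε₀, rfl, ha2 _⟩,
        fun e => hca₀ (ConjClasses.mk_eq_mk_iff_isConj.mp (congrArg Subtype.val e)).symm, ?_⟩
      refine Set.eq_univ_of_forall ?_
      rintro ⟨C, t, rfl, ht⟩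
      simp only [Set.mem_insert_iff, Set.mem_singleton_iff, Subtype.mk.injEq, ConjClasses.mk_eq_mk_iff_isConj]
      rcases hcases t ht with e | e | e
      · exact Or.inl e
      · exact Or.inr e
      · exact Or.inl (e.trans (hconj _ (fun e' => by rw [add_eq_left] at e'; exact one_ne_zero e')))
    · -- no normal subgroup of index four
      set f := QuotientGroup.mk' N with hf
      have hfS : ∀ q : G ⧸ N, ∃ v, f (d.ι v) = q := by
        intro q
        have htop : (P : Subgroup G) ⊔ N = ⊤ := by
          rw [← Subgroup.index_eq_one]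
          by_contra hne
          have h4 : ((P : Subgroup G) ⊔ N).index ∣ 2 ^ 2 := by
            have := Subgroup.index_dvd_of_le (le_sup_right : N ≤ (P : Subgroup G) ⊔ N)
            rwa [hN4] at this
          obtain ⟨j, -, hj⟩ := (Nat.dvd_prime_pow Nat.prime_two).mp h4
          rcases j with _ | j
          · exact hne hj
          · exact P.not_dvd_index ((Dvd.intro_left (2 ^ j) (by rw [hj, pow_succ]) : 2 ∣ _).trans
              (Subgroup.index_dvd_of_le le_sup_left))
        obtain ⟨g, rfl⟩ := QuotientGroup.mk'_surjective N q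
        obtain ⟨p, hp, m, hm, rfl⟩ := Subgroup.mem_sup_of_normal_right.mp (htop.ge (Subgroup.mem_top g))
        obtain ⟨v, rfl⟩ := d.exists_ι hp
        exact ⟨v, by rw [map_mul, (show f m = 1 from (QuotientGroup.eq_one_iff m).mpr hm), mul_one]⟩
      haveI : IsMulCommutative (G ⧸ N) := IsPGroup.isMulCommutative_of_card_eq_prime_sq (p := 2)
        (by rw [← Subgroup.index_eq_card, hN4]; norm_num)
      have hcomm : ∀ x y : G ⧸ N, x * y = y * x := fun x y => mul_comm' x y
      set φ := f.comp d.ι with hφ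
      have hr2 : ∀ j, φ (DihedralGroup.r (j + j)) = 1 := by
        intro j
        have e := sr_conj_r (h := h) 0 j
        have e2 : φ (DihedralGroup.r j) = φ (DihedralGroup.r (-j)) := by
          rw [← e, map_mul, map_mul, map_inv, hcomm (φ (DihedralGroup.sr 0)), mul_inv_cancel_right]
        rw [← DihedralGroup.r_mul_r, map_mul]
        nth_rewrite 1 [e2]
        rw [← map_mul, DihedralGroup.r_mul_r, neg_add_cancel, DihedralGroup.r_zero, map_one]
      have hc1 : φ (DihedralGroup.r (h : ZMod (2 * h))) = 1 := by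
        obtain ⟨l, hl⟩ := d.even_h h1
        rw [show ((h : ZMod (2 * h))) = (l : ZMod (2 * h)) + l by rw [← Nat.cast_add, ← hl]]
        exact hr2 _
      set i := (((ε₀ + 1).val : ℕ) : ZMod (2 * h)) with hi
      have hsr1 : φ (DihedralGroup.sr i) = 1 := by
        obtain ⟨w, hw⟩ := isConj_iff.mp (hconj (ε₀ + 1) (fun e' => by rw [add_eq_left] at e'; exact one_ne_zero e'))
        have e : f w * f (d.ι (DihedralGroup.sr i)) * (f w)⁻¹ = 1 := by
          rw [← map_inv, ← map_mul, ← map_mul]
          exact (congrArg f hw).trans hc1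
        exact conj_eq_one_iff.mp e
      have htwo : ∀ q : G ⧸ N, q = 1 ∨ q = φ (DihedralGroup.r 1) := by
        intro q
        obtain ⟨v, rfl⟩ := hfS q
        have hr : ∀ j, φ (DihedralGroup.r j) = 1 ∨ φ (DihedralGroup.r j) = φ (DihedralGroup.r 1) := by
          intro j
          rcases zmod_two_cases (χ h j) with e | e
          · obtain ⟨k, rfl⟩ := exists_double (e.trans (map_zero (χ h)).symm)
            rw [zero_add]; exact Or.inl (hr2 k)
          · obtain ⟨k, rfl⟩ := exists_double (e.trans (map_one (χ h)).symm)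
            rw [← DihedralGroup.r_mul_r, map_mul, hr2, mul_one]; exact Or.inr rfl
        rcases v with j | j
        · exact hr j
        · show φ (DihedralGroup.sr j) = 1 ∨ φ (DihedralGroup.sr j) = _
          rw [show DihedralGroup.sr j = DihedralGroup.sr i * DihedralGroup.r (j - i) by
            rw [DihedralGroup.sr_mul_r]; congr 1; abel, map_mul, hsr1, one_mul]
          exact hr _
      have hle : Nat.card (G ⧸ N) ≤ 2 := by
        refine (Nat.card_le_card_of_surjective (fun b : Bool => if b then φ (DihedralGroup.r 1) else 1) ?_).trans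
          (by simp)
        intro q
        rcases htwo q with rfl | rfl
        exacts [⟨false, rfl⟩, ⟨true, rfl⟩]
      rw [← Subgroup.index_eq_card, hN4] at hle
      omega
  · -- three classes
    right; right
    push Not at hM'
    refine ⟨?_, (d.all_eq_iff eS).mpr fun U hUS hU => ?_⟩
    · have hnc : ∀ ε, ¬ IsConj (a ε) c := by
        intro ε e
        obtain ⟨K', -, hK', hcK', haK'⟩ := hacts _ (hM' (ε.val : ZMod (2 * h)))
        exact (haK' ε).mp ((mem_iff_of_conj hK' e).mpr hcK') (hχ ε).symm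
      have hne : ¬ IsConj (a ε₀) (a (ε₀ + 1)) := fun e =>
        (haK ε₀).mp ((mem_iff_of_conj hK e).mpr ((haK _).mpr (fun e' => by rw [add_eq_left] at e'; exact one_ne_zero e'))) rfl
      let r : Fin 3 → G := ![c, a ε₀, a (ε₀ + 1)]
      have hr : ∀ j, orderOf (r j) = 2 := by
        intro j; fin_cases j
        exacts [hc2, ha2 _, ha2 _]
      rw [← Nat.card_fin 3]
      symm
      refine Nat.card_eq_of_bijective (fun j => ⟨ConjClasses.mk (r j), r j, rfl, hr j⟩) ⟨?_, ?_⟩
      · intro j k hjk
        have e : IsConj (r j) (r k) := ConjClasses.mk_eq_mk_iff_isConj.mp (congrArg Subtype.val hjk)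
        fin_cases j <;> fin_cases k <;>
          first
            | rfl
            | exact absurd e (hnc _)
            | exact absurd e.symm (hnc _)
            | exact absurd e hne
            | exact absurd e.symm hne
      · rintro ⟨C, t, rfl, ht⟩
        rcases hcases t ht with e | e | e
        exacts [⟨0, Subtype.ext (ConjClasses.mk_eq_mk_iff_isConj.mpr e.symm)⟩,
          ⟨1, Subtype.ext (ConjClasses.mk_eq_mk_iff_isConj.mpr e.symm)⟩,
          ⟨2, Subtype.ext (ConjClasses.mk_eq_mk_iff_isConj.mpr e.symm)⟩]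
    · obtain ⟨i, rfl⟩ := d.eq_fourG hUS hU
      exact ((d.index_cases i).resolve_right (hM' i)).1

end Cfsg.Agent.S3864
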