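import Mathlib
import Cfsg.Statements.S0213


set_option autoImplicit false
open Cfsg

namespace Cfsg.Agent.S0213

/-- Two involutions with product of odd order are conjugate. -/
theorem isConj_of_odd {G : Type*} [Group G] {u v : G} (hu : u * u = 1) (hv : v * v = 1) (h : Odd (orderOf (u * v))) :
    IsConj u v := by
  obtain ⟨k, hk⟩ := h
  have hui : u⁻¹ = u := inv_eq_of_mul_eq_one_left hu
  have hvi : v⁻¹ = v := inv_eq_of_mul_eq_one_left hv
  have hinv : ∀ n : ℕ, u * (u * v) ^ n * u⁻¹ = ((u * v) ^ n)⁻¹ := fun n => by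
    rw [← conj_pow, ← inv_pow]
    congr 1
    rw [mul_inv_rev, hui, hvi, ← mul_assoc, hu, one_mul]
  refine isConj_iff.mpr ⟨(u * v) ^ k, ?_⟩
  have h1 : (u * v) * ((u * v) ^ k * (u * v) ^ k) = 1 := by
    rw [← pow_add, ← pow_succ', ← two_mul, ← hk, pow_orderOf_eq_one]
  have h2 : (u * v) ^ k * u = u * ((u * v) ^ k)⁻¹ := by
    rw [← hinv k, hui, mul_assoc u, ← mul_assoc u u, hu, one_mul]
  rw [h2, mul_assoc, ← mul_inv_rev, inv_eq_of_mul_eq_one_left h1, ← mul_assoc, hu, one_mul]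

/-- The class size times the centralizer order. -/
theorem card_class_mul {G : Type*} [Group G] [Finite G] (x : G) :
    Nat.card {y : G // IsConj x y} * Nat.card (Subgroup.centralizer ({x} : Set G)) = Nat.card G := by
  haveI := Fintype.ofFinite {y : G // IsConj x y}
  let f : G → {y : G // IsConj x y} := fun g => ⟨g * x * g⁻¹, isConj_iff.mpr ⟨g, rfl⟩⟩
  rw [← Nat.card_congr (Equiv.sigmaFiberEquiv f), Nat.card_sigma, Finset.sum_congr rfl fun y _ => ?_, Finset.sum_const,
    Finset.card_univ, smul_eq_mul, ← Nat.card_eq_fintype_card]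
  obtain ⟨c, hc⟩ := isConj_iff.mp y.2
  refine Nat.card_congr
    { toFun := fun g => ⟨c⁻¹ * g.1, Subgroup.mem_centralizer_singleton_iff.mpr ?_⟩
      invFun := fun z => ⟨c * z.1, Subtype.ext ?_⟩
      left_inv := fun g => Subtype.ext (by simp)
      right_inv := fun z => Subtype.ext (by simp) }
  · have h : g.1 * x * g.1⁻¹ = c * x * c⁻¹ := (congrArg Subtype.val g.2).trans hc.symm
    calc c⁻¹ * g.1 * x = c⁻¹ * (g.1 * x * g.1⁻¹) * g.1 := by group
      _ = c⁻¹ * (c * x * c⁻¹) * g.1 := by rw [h]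
      _ = x * (c⁻¹ * g.1) := by group
  · show c * z.1 * x * (c * z.1)⁻¹ = y.1
    rw [← hc, mul_inv_rev, mul_assoc c, Subgroup.mem_centralizer_singleton_iff.mp z.2]
    group

/-- The number of pairs above a given involution depends only on its class. -/
theorem card_pairs_congr {G : Type*} [Group G] [Finite G] (a b : G) {x y : G} (h : IsConj x y) :
    Nat.card {p : G × G // IsConj a p.1 ∧ IsConj b p.2 ∧ y ∈ Subgroup.zpowers (p.1 * p.2)} =
      Nat.card {p : G × G // IsConj a p.1 ∧ IsConj b p.2 ∧ x ∈ Subgroup.zpowers (p.1 * p.2)} := by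
  obtain ⟨c, rfl⟩ := isConj_iff.mp h
  symm
  refine Nat.card_congr (Equiv.subtypeEquiv ((MulAut.conj c).toEquiv.prodCongr (MulAut.conj c).toEquiv) fun p => ?_)
  show _ ↔ IsConj a (c * p.1 * c⁻¹) ∧ IsConj b (c * p.2 * c⁻¹) ∧ c * x * c⁻¹ ∈ Subgroup.zpowers (c * p.1 * c⁻¹ * (c * p.2 * c⁻¹))
  have hc : ∀ z w : G, IsConj z w ↔ IsConj z (c * w * c⁻¹) := fun z w =>
    ⟨fun h => h.trans (isConj_iff.mpr ⟨c, rfl⟩), fun h => h.trans (IsConj.symm (isConj_iff.mpr ⟨c, rfl⟩))⟩
  rw [← hc, ← hc, show c * p.1 * c⁻¹ * (c * p.2 * c⁻¹) = MulAut.conj c (p.1 * p.2) by simp]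
  have hz : ∀ w : G, Subgroup.zpowers (MulAut.conj c w) = (Subgroup.zpowers w).map (MulAut.conj c).toMonoidHom := fun w =>
    (MonoidHom.map_zpowers (MulAut.conj c).toMonoidHom w).symm
  rw [hz]
  exact and_congr_right fun _ => and_congr_right fun _ =>
    (Subgroup.mem_map_iff_mem (f := (MulAut.conj c).toMonoidHom) (MulAut.conj c).injective).symm


/-- Thompson Order Formula, two-class case: if every involution of the finite group G is conjugate to exactly one of the non-conjugate involutions x₁, x₂, and nᵢ is the number of pairs (u, v) with u conjugate to x₁, v conjugate to x₂ and xᵢ in the cyclic group generated by uv, then |G| = |C(x₂)| n₁ + |C(x₁)| n₂. -/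
theorem result {G : Type*} [Group G] [Finite G] (x₁ x₂ : G) (h₁ : orderOf x₁ = 2) (h₂ : orderOf x₂ = 2) (hnc : ¬ IsConj x₁ x₂) (hall : ∀ t : G, orderOf t = 2 → IsConj x₁ t ∨ IsConj x₂ t) : Nat.card G = Nat.card (Subgroup.centralizer ({x₂} : Set G)) * Nat.card {p : G × G // IsConj x₁ p.1 ∧ IsConj x₂ p.2 ∧ x₁ ∈ Subgroup.zpowers (p.1 * p.2)} + Nat.card (Subgroup.centralizer ({x₁} : Set G)) * Nat.card {p : G × G // IsConj x₁ p.1 ∧ IsConj x₂ p.2 ∧ x₂ ∈ Subgroup.zpowers (p.1 * p.2)} := by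
  classical
  haveI := Fintype.ofFinite G
  let P := {p : G × G // IsConj x₁ p.1 ∧ IsConj x₂ p.2}
  have hcard : Nat.card P = Nat.card {y : G // IsConj x₁ y} * Nat.card {y : G // IsConj x₂ y} := by
    rw [← Nat.card_prod]; exact Nat.card_congr Equiv.subtypeProdEquivProd
  have hord : ∀ {x y : G}, IsConj x y → orderOf x = 2 → orderOf y = 2 := fun {x y} h hx => by
    obtain ⟨c, rfl⟩ := isConj_iff.mp h
    rw [← hx]
    exact orderOf_injective (MulAut.conj c).toMonoidHom (MulAut.conj c).injective x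
  have hsq : ∀ {y : G}, orderOf y = 2 → y * y = 1 := fun {y} hy => by
    have := pow_orderOf_eq_one y
    rwa [hy, sq] at this
  have heven : ∀ p : P, ∃ t, orderOf t = 2 ∧ t ∈ Subgroup.zpowers (p.1.1 * p.1.2) ∧
      ∀ s, orderOf s = 2 → s ∈ Subgroup.zpowers (p.1.1 * p.1.2) → s = t := by
    intro p
    set w := p.1.1 * p.1.2 with hw
    have he : Even (orderOf w) := Nat.not_odd_iff_even.mp fun ho =>
      hnc (p.2.1.trans ((isConj_of_odd (hsq (hord p.2.1 h₁)) (hsq (hord p.2.2 h₂)) ho).trans p.2.2.symm))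
    obtain ⟨t, ht⟩ := exists_prime_orderOf_dvd_card' (G := Subgroup.zpowers w) 2 (by rw [Nat.card_zpowers]; exact he.two_dvd)
    refine ⟨t, by rw [Subgroup.orderOf_coe]; exact ht, t.2, fun s hs hsw => ?_⟩
    have hu : ((Finset.univ : Finset (Subgroup.zpowers w)).filter fun z => orderOf z = 2).card = Nat.totient 2 :=
      IsCyclic.card_orderOf_eq_totient (by rw [← Nat.card_eq_fintype_card, Nat.card_zpowers]; exact he.two_dvd)
    have := Finset.card_le_one.mp (hu.le.trans (by decide)) ⟨s, hsw⟩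
      (Finset.mem_filter.mpr ⟨Finset.mem_univ _, by rw [← Subgroup.orderOf_coe]; exact hs⟩) t
      (Finset.mem_filter.mpr ⟨Finset.mem_univ _, ht⟩)
    exact congrArg Subtype.val this
  choose t ht2 htmem htuniq using heven
  let T := {y : G // IsConj x₁ y} ⊕ {y : G // IsConj x₂ y}
  have e : P ≃ Σ y : T, {p : G × G // IsConj x₁ p.1 ∧ IsConj x₂ p.2 ∧ (Sum.elim Subtype.val Subtype.val y : G) ∈ Subgroup.zpowers (p.1 * p.2)} :=
    { toFun := fun p => if h : IsConj x₁ (t p) then ⟨Sum.inl ⟨t p, h⟩, p.1, p.2.1, p.2.2, htmem p⟩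
        else ⟨Sum.inr ⟨t p, (hall _ (ht2 p)).resolve_left h⟩, p.1, p.2.1, p.2.2, htmem p⟩
      invFun := fun q => ⟨q.2.1, q.2.2.1, q.2.2.2.1⟩
      left_inv := fun p => by
        dsimp only
        by_cases h : IsConj x₁ (t p)
        · rw [dif_pos h]
        · rw [dif_neg h]
      right_inv := by
        rintro ⟨(⟨y, hy⟩ | ⟨y, hy⟩), p, hp1, hp2, hp3⟩
        · have hty : t ⟨p, hp1, hp2⟩ = y := (htuniq ⟨p, hp1, hp2⟩ y (hord hy h₁) hp3).symm
          subst hty
          dsimp only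
          rw [dif_pos hy]
        · have hty : t ⟨p, hp1, hp2⟩ = y := (htuniq ⟨p, hp1, hp2⟩ y (hord hy h₂) hp3).symm
          subst hty
          dsimp only
          rw [dif_neg fun h : IsConj x₁ (t ⟨p, hp1, hp2⟩) => hnc (h.trans hy.symm)] }
  have hsum := Nat.card_congr e
  rw [Nat.card_sigma, Fintype.sum_sum_type] at hsum
  dsimp only [Sum.elim_inl, Sum.elim_inr] at hsum
  rw [Finset.sum_congr rfl fun y _ => card_pairs_congr x₁ x₂ y.2,
    Finset.sum_congr (s₁ := (Finset.univ : Finset {y : G // IsConj x₂ y})) rfl fun y _ => card_pairs_congr x₁ x₂ y.2,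
    Finset.sum_const, Finset.sum_const, Finset.card_univ, Finset.card_univ, smul_eq_mul, smul_eq_mul, hcard,
    ← Nat.card_eq_fintype_card, ← Nat.card_eq_fintype_card] at hsum
  have hc1 := card_class_mul x₁
  have hc2 := card_class_mul x₂
  refine Nat.eq_of_mul_eq_mul_left (Nat.card_pos (α := G)) ?_
  set a := Nat.card {y : G // IsConj x₁ y}
  set b := Nat.card {y : G // IsConj x₂ y}
  set c1 := Nat.card (Subgroup.centralizer ({x₁} : Set G))
  set c2 := Nat.card (Subgroup.centralizer ({x₂} : Set G))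
  set n1 := Nat.card {p : G × G // IsConj x₁ p.1 ∧ IsConj x₂ p.2 ∧ x₁ ∈ Subgroup.zpowers (p.1 * p.2)}
  set n2 := Nat.card {p : G × G // IsConj x₁ p.1 ∧ IsConj x₂ p.2 ∧ x₂ ∈ Subgroup.zpowers (p.1 * p.2)}
  calc Nat.card G * Nat.card G = a * c1 * (b * c2) := by rw [hc1, hc2]
    _ = a * b * (c1 * c2) := by ring
    _ = (a * n1 + b * n2) * (c1 * c2) := by rw [hsum]
    _ = a * c1 * (c2 * n1) + b * c2 * (c1 * n2) := by ring
    _ = Nat.card G * (c2 * n1 + c1 * n2) := by rw [hc1, hc2]; ring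
end Cfsg.Agent.S0213
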