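import Cfsg.Statements.S4480
import Cfsg.Agent.Lib.Invol.KleinIndicator

set_option autoImplicit false
open Cfsg
open scoped CfsgLib.Char

namespace Cfsg.Agent.S4480

/-- Same setting as the Klein-four order formula: G of order 4·g₀ (g₀ odd) with no normal 2-complement, P a Sylow 2-subgroup, J an involution of P, M over 2, principal 2-block {1, χ₁, χ₂, χ₃} with χ_i(J) = ε_i = ±1. Suppose ε₁ε₂ε₃ = −1 and ε₃ = −1, and put q = x₃ = χ₃(1). Then there is a natural number m with 4·c(J) = m·c(P)·(q + 1), and the order of G equals (m³·c(P)/4)·(q³ − q)/2, that is 8·#G = m³·c(P)·(q³ − q). -/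
theorem result {G : Type*} [Group G] [Finite G] (M : Ideal Cfsg.AlgInt) (hM : Cfsg.IsPModular 2 M) (g₀ : ℕ) (hg₀ : Odd g₀) (hG : Nat.card G = 4 * g₀) (hnc : ¬ ∃ N : Subgroup G, N.Normal ∧ Nat.card N = g₀) (P : Sylow 2 G) (J : G) (hJ : J ∈ (P : Subgroup G)) (hJ2 : orderOf J = 2) (χ₁ χ₂ χ₃ : Cfsg.IrrCharacter G) (ε₁ ε₂ ε₃ : ℤ) (hB : Cfsg.principalBlock M G = {χ : Cfsg.IrrCharacter G | (χ : G → ℂ) = (fun _ => 1) ∨ χ = χ₁ ∨ χ = χ₂ ∨ χ = χ₃}) (hdist : (χ₁ : G → ℂ) ≠ (fun _ => 1) ∧ (χ₂ : G → ℂ) ≠ (fun _ => 1) ∧ (χ₃ : G → ℂ) ≠ (fun _ => 1) ∧ χ₁ ≠ χ₂ ∧ χ₁ ≠ χ₃ ∧ χ₂ ≠ χ₃) (hε : (ε₁ = 1 ∨ ε₁ = -1) ∧ (ε₂ = 1 ∨ ε₂ = -1) ∧ (ε₃ = 1 ∨ ε₃ = -1)) (hval : (χ₁ : G → ℂ) J = ε₁ ∧ (χ₂ : G → ℂ) J = ε₂ ∧ (χ₃ : G → ℂ) J = ε₃) (hprod : ε₁ * ε₂ * ε₃ = -1) (hε₃ : ε₃ = -1) : ∃ m : ℕ, 4 * Nat.card (Subgroup.centralizer ({J} : Set G)) = m * Nat.card (Subgroup.centralizer ((P : Subgroup G) : Set G)) * (Cfsg.charDegree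 (χ₃ : G → ℂ) + 1) ∧ 8 * Nat.card G = m ^ 3 * Nat.card (Subgroup.centralizer ((P : Subgroup G) : Set G)) * (Cfsg.charDegree (χ₃ : G → ℂ) ^ 3 - Cfsg.charDegree (χ₃ : G → ℂ)) := by
  classical
  have := Fintype.ofFinite G
  obtain ⟨hK, hone⟩ := CfsgLib.Invol.klein_of_order hg₀ hG hnc P
  have hform := CfsgLib.Invol.klein_order_formula hM P hK hone hJ hJ2
  have hind := CfsgLib.Invol.klein_indicator_sum hM P hK hone hJ hJ2
  obtain ⟨Z, a, -, hmem, -, hT1, -, hcong, hvalZ, hrel⟩ := CfsgLib.Invol.klein_block hM P hK hone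
  set t := CfsgLib.Blocks.trivIrr G
  obtain ⟨hd1, hd2, hd3, hd12, hd13, hd23⟩ := hdist
  have ht : ∀ χ : Cfsg.IrrCharacter G, (χ : G → ℂ) ≠ (fun _ => 1) → t ≠ χ :=
    fun χ hχ e => hχ (by rw [← e]; rfl)
  have hset : ∀ χ, χ ∈ Cfsg.principalBlock M G ↔
      χ ∈ ({t, χ₁, χ₂, χ₃} : Finset (Cfsg.IrrCharacter G)) := by
    intro χ
    rw [hB]
    simp only [Set.mem_ofPred_eq, Finset.mem_insert, Finset.mem_singleton]
    exact or_congr ⟨fun e => Subtype.ext e, fun e => by rw [e]; rfl⟩ Iff.rfl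
  have hsum : ∀ f : Cfsg.IrrCharacter G → ℂ,
      ∑ χ ∈ ({t, χ₁, χ₂, χ₃} : Finset (Cfsg.IrrCharacter G)), f χ = f t + (f χ₁ + (f χ₂ + f χ₃)) := by
    intro f
    rw [Finset.sum_insert (by simp [ht χ₁ hd1, ht χ₂ hd2, ht χ₃ hd3]),
      Finset.sum_insert (by simp [hd12, hd13]), Finset.sum_pair hd23]
  have hfil : (Finset.univ.filter fun χ : Cfsg.IrrCharacter G => χ ∈ Cfsg.principalBlock M G) =
      {t, χ₁, χ₂, χ₃} := Finset.ext fun χ => by rw [Finset.mem_filter, hset χ]; simp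
  have hZ : Z = {t, χ₁, χ₂, χ₃} := Finset.ext fun χ => by rw [hmem, hset]
  have h2 : 2 ∣ orderOf J := by rw [hJ2]
  have ha : ∀ χ ∈ Z, (χ : G → ℂ) J = a χ := fun χ hχ => hvalZ χ hχ J h2
  have h1 := hrel 1 (by simp)
  rw [hZ, hsum, ← ha χ₁ (by simp [hZ]), ← ha χ₂ (by simp [hZ]), ← ha χ₃ (by simp [hZ]), hT1,
    hval.1, hval.2.1, hval.2.2] at h1
  simp only [show ∀ g, (t : G → ℂ) g = 1 from fun _ => rfl, (CfsgLib.Blocks.irr_degree_eq χ₁).1,
    (CfsgLib.Blocks.irr_degree_eq χ₂).1, (CfsgLib.Blocks.irr_degree_eq χ₃).1] at h1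
  have hr : (1 : ℤ) + (ε₁ * Cfsg.charDegree (χ₁ : G → ℂ) + (ε₂ * Cfsg.charDegree (χ₂ : G → ℂ) +
      ε₃ * Cfsg.charDegree (χ₃ : G → ℂ))) = 0 := by
    have h1' : ((1 + (ε₁ * Cfsg.charDegree (χ₁ : G → ℂ) + (ε₂ * Cfsg.charDegree (χ₂ : G → ℂ) +
        ε₃ * Cfsg.charDegree (χ₃ : G → ℂ))) : ℤ) : ℂ) = 0 := by
      push_cast
      simpa using h1
    exact_mod_cast h1'
  have hx1 := (CfsgLib.Blocks.irr_degree_eq χ₁).2
  have hx2 := (CfsgLib.Blocks.irr_degree_eq χ₂).2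
  have hx3 := (CfsgLib.Blocks.irr_degree_eq χ₃).2
  -- both signs are positive
  subst hε₃
  have he : ε₁ = 1 ∧ ε₂ = 1 := by
    rcases hε.1 with e | e <;> rcases hε.2.1 with e' | e' <;> subst e <;> subst e' <;>
      first | exact ⟨rfl, rfl⟩ | (exfalso; omega) | (norm_num at hprod)
  obtain ⟨rfl, rfl⟩ := he
  -- odd degrees
  have hodd : ∀ χ ∈ Z, Odd (Cfsg.charDegree (χ : G → ℂ)) := by
    intro χ hχ
    have h := hcong χ hχ
    have hv := ha χ hχ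
    rw [hZ] at hχ
    simp only [Finset.mem_insert, Finset.mem_singleton] at hχ
    have haχ : a χ = 1 ∨ a χ = -1 := by
      rcases hχ with e | e | e | e <;> subst e
      · exact Or.inl hT1
      · left; rw [hval.1] at hv; exact_mod_cast hv.symm
      · left; rw [hval.2.1] at hv; exact_mod_cast hv.symm
      · right; rw [hval.2.2] at hv; exact_mod_cast hv.symm
    rw [Nat.odd_iff]
    rcases haχ with e | e <;> rw [e] at h <;> omega
  have hν : ∀ χ ∈ Z, CfsgLib.Char.indicator (χ : G → ℂ) = 1 ∨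
      (CfsgLib.Char.indicator (χ : G → ℂ) = 0 ∧ ∃ g, ((χ : G → ℂ) g).im ≠ 0) := by
    intro χ hχ
    rcases CfsgLib.Char.indicator_cases χ.2 with ⟨hr', -⟩ | ⟨hn, h0⟩
    · exact Or.inl (CfsgLib.Char.indicator_eq_one_of_odd χ.2 hr'
        (CfsgLib.Blocks.irr_degree_eq χ).1 (hodd χ hχ))
    · exact Or.inr ⟨h0, hn⟩
  -- the third character is real
  have hmem4 : ∀ χ ∈ ({t, χ₁, χ₂, χ₃} : Finset (Cfsg.IrrCharacter G)),
      χ = t ∨ χ = χ₁ ∨ χ = χ₂ ∨ χ = χ₃ := fun χ hχ => by simpa using hχ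
  have hconj : ∀ χ : Cfsg.IrrCharacter G, χ ∈ Cfsg.principalBlock M G →
      ∀ s : ℤ, (χ : G → ℂ) J = s → s ≠ 0 →
      ∃ ξ ∈ ({t, χ₁, χ₂, χ₃} : Finset (Cfsg.IrrCharacter G)),
        (ξ : G → ℂ) = fun g => starRingEnd ℂ ((χ : G → ℂ) g) := fun χ hχ s hs hs0 =>
    ⟨_, (hset _).mp (CfsgLib.Invol.klein_conj_mem hM P hK hone hJ hJ2 hχ
      (by rw [hs]; exact_mod_cast hs0)), rfl⟩
  have hreal3 : CfsgLib.Char.indicator (χ₃ : G → ℂ) = 1 := by
    refine (hν χ₃ (by simp [hZ])).resolve_right ?_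
    rintro ⟨-, g, hg⟩
    obtain ⟨ξ, hξ, hξe⟩ := hconj χ₃ ((hset _).mpr (by simp)) (-1) hval.2.2 (by norm_num)
    have hJv : (ξ : G → ℂ) J = -1 := by rw [hξe]; simp [hval.2.2]
    rcases hmem4 ξ hξ with rfl | rfl | rfl | rfl
    · rw [show (t : G → ℂ) J = 1 from rfl] at hJv; norm_num at hJv
    · rw [hval.1] at hJv; norm_num at hJv
    · rw [hval.2.1] at hJv; norm_num at hJv
    · exact hg (Complex.conj_eq_iff_im.mp (congrFun hξe g).symm)
  have hνt : CfsgLib.Char.indicator (t : G → ℂ) = 1 := CfsgLib.Char.SquareRoots.indicator_one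
  rw [hfil, hsum, hval.1, hval.2.1, hval.2.2, hνt, hreal3,
    show (t : G → ℂ) J = 1 from rfl] at hind
  -- so the first two are not real
  have hn1 : ∃ g, ((χ₁ : G → ℂ) g).im ≠ 0 := by
    rcases hν χ₁ (by simp [hZ]) with e | ⟨-, hn⟩
    · exfalso
      rcases hν χ₂ (by simp [hZ]) with e' | ⟨e', -⟩ <;> rw [e, e'] at hind <;> norm_num at hind
    · exact hn
  have heq : Cfsg.charDegree (χ₂ : G → ℂ) = Cfsg.charDegree (χ₁ : G → ℂ) := by
    obtain ⟨g, hg⟩ := hn1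
    obtain ⟨ξ, hξ, hξe⟩ := hconj χ₁ ((hset _).mpr (by simp)) 1 hval.1 one_ne_zero
    rcases hmem4 ξ hξ with rfl | rfl | rfl | rfl
    · exact absurd (Complex.conj_eq_iff_im.mp (by
        have h := congrFun hξe g
        rw [show (t : G → ℂ) g = 1 from rfl] at h
        have h' := congrArg (starRingEnd ℂ) h
        rw [map_one, Complex.conj_conj] at h'
        rw [← h', map_one])) hg
    · exact absurd (Complex.conj_eq_iff_im.mp (congrFun hξe g).symm) hg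
    · show ⌊((ξ : G → ℂ) 1).re⌋₊ = ⌊((χ₁ : G → ℂ) 1).re⌋₊
      rw [hξe, Complex.conj_re]
    · have h := congrFun hξe J
      rw [hval.2.2, hval.1] at h
      norm_num at h
  rw [hfil, hsum, hval.1, hval.2.1, hval.2.2] at hform
  simp only [show ∀ g, (t : G → ℂ) g = 1 from fun _ => rfl, (CfsgLib.Blocks.irr_degree_eq χ₁).1,
    (CfsgLib.Blocks.irr_degree_eq χ₂).1, (CfsgLib.Blocks.irr_degree_eq χ₃).1, heq] at hform
  rw [heq] at hr
  set x := Cfsg.charDegree (χ₁ : G → ℂ)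
  set q := Cfsg.charDegree (χ₃ : G → ℂ)
  set c := Nat.card (Subgroup.centralizer ({J} : Set G))
  set d := Nat.card (Subgroup.centralizer ((P : Subgroup G) : Set G))
  have hq : q = 2 * x + 1 := by omega
  obtain ⟨n, hn⟩ : d ∣ c := Subgroup.card_dvd_of_le
    (Subgroup.centralizer_le (Set.singleton_subset_iff.mpr hJ))
  have hd0 : (d : ℂ) ≠ 0 := Nat.cast_ne_zero.mpr Nat.card_pos.ne'
  have hx0 : (x : ℂ) ≠ 0 := Nat.cast_ne_zero.mpr hx1.ne'
  have hq0 : (q : ℂ) ≠ 0 := Nat.cast_ne_zero.mpr hx3.ne'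
  set k := (Subgroup.centralizer ({J} : Set G)).index
  have hck : c * k = Nat.card G := Subgroup.card_mul_index _
  have hnat : k * (x + 1) ^ 2 = (2 * n) ^ 2 * (x * q) := by
    have hn' : (c : ℂ) = d * n := by exact_mod_cast hn
    have hk' : (Nat.card G : ℂ) = c * k := by exact_mod_cast hck.symm
    have hc0 : (c : ℂ) ≠ 0 := Nat.cast_ne_zero.mpr Nat.card_pos.ne'
    apply Nat.cast_injective (R := ℂ)
    push_cast
    have hqc : (q : ℂ) = 2 * x + 1 := by exact_mod_cast hq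
    rw [hk'] at hform
    push_cast at hform
    field_simp at hform
    rw [hqc] at hform ⊢
    refine mul_left_cancel₀ (mul_ne_zero (mul_ne_zero (two_ne_zero (α := ℂ)) hc0) (pow_ne_zero 2 hd0)) ?_
    linear_combination (c : ℂ) * hform + 8 * (c : ℂ) * x * (2 * x + 1) * ((c : ℂ) + d * n) * hn'
  have hcop : Nat.Coprime ((x + 1) ^ 2) (x * q) := by
    refine Nat.Coprime.pow_left 2 (Nat.Coprime.mul_right ?_ ?_)
    · exact Nat.coprime_self_add_left.mpr (Nat.coprime_one_left x)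
    · rw [hq, show 2 * x + 1 = (x + 1) + x by omega, Nat.coprime_self_add_right]
      exact Nat.coprime_self_add_left.mpr (Nat.coprime_one_left x)
  obtain ⟨m, hm⟩ : x + 1 ∣ 2 * n :=
    (Nat.pow_dvd_pow_iff two_ne_zero).mp (hcop.dvd_of_dvd_mul_right (Dvd.intro_left k hnat))
  refine ⟨m, ?_, ?_⟩
  · rw [hn, hq]
    linear_combination 2 * d * hm
  · have hk : k = m ^ 2 * (x * q) := by
      rw [hm] at hnat
      refine Nat.eq_of_mul_eq_mul_right (pow_pos (by omega : 0 < x + 1) 2) (hnat.trans ?_)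
      ring
    have hq3 : q ^ 3 - q = 4 * (x * q) * (x + 1) := by
      refine Nat.sub_eq_of_eq_add ?_
      rw [hq]; ring
    rw [hq3, ← hck, hn, hk]
    linear_combination (4 * d * m ^ 2 * (x * q)) * hm
end Cfsg.Agent.S4480
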