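import Cfsg.Statements.S4482
import Cfsg.Agent.Lib.DihBlock.Formula
import Cfsg.Agent.Lib.DihBlock.Setup

set_option autoImplicit false
open Cfsg
open scoped CfsgLib.Char

namespace Cfsg.Agent.S4482

/-- An order formula for groups with dihedral Sylow 2-subgroups and one class of involutions. Let G be a finite group whose Sylow 2-subgroup P = ⟨σ, τ⟩ is dihedral of order 2^n ≥ 8 (σ of order 2^(n−1), τ an involution inverting σ), let J be the central involution σ^(2^(n−2)), and suppose J, τ and στ are conjugate in G. Fix M over 2 and let χ₁ be an irreducible character in the principal 2-block taking one constant value δ₁ = ±1 at every non-identity power of σ, with χ₁ ≠ 1. Then, with x₁ = χ₁(1) and c(·) denoting orders of centralizers, x₁ ≠ δ₁ and #G · (x₁ − δ₁)² = 2·x₁(x₁ + δ₁)·c(J)³·(1/c(J, τ) + 1/c(J, στ))², where c(J, y) is the order of the joint centralizer of J and y. -/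
theorem result {G : Type*} [Group G] [Finite G] (M : Ideal Cfsg.AlgInt) (hM : Cfsg.IsPModular 2 M) (n : ℕ) (hn : 3 ≤ n) (P : Sylow 2 G) (σ τ : G) (hσ : σ ∈ (P : Subgroup G)) (hτ : τ ∈ (P : Subgroup G)) (hσo : orderOf σ = 2 ^ (n - 1)) (hτo : orderOf τ = 2) (hrel : τ * σ * τ⁻¹ = σ⁻¹) (hgen : Subgroup.closure ({σ, τ} : Set G) = (P : Subgroup G)) (hconj : IsConj (σ ^ (2 ^ (n - 2))) τ ∧ IsConj (σ ^ (2 ^ (n - 2))) (σ * τ)) (χ₁ : Cfsg.IrrCharacter G) (hχ₁ : χ₁ ∈ Cfsg.principalBlock M G) (h1 : (χ₁ : G → ℂ) ≠ (fun _ => 1)) (δ₁ : ℤ) (hδ₁ : δ₁ = 1 ∨ δ₁ = -1) (hval : ∀ l : ℕ, 0 < l → l < 2 ^ (n - 1) → (χ₁ : G → ℂ) (σ ^ l) = δ₁) : (Cfsg.charDegree (χ₁ : G → ℂ) : ℤ) ≠ δ₁ ∧ (Nat.card G : ℚ) * ((Cfsg.charDegree (χ₁ : G → ℂ) : ℚ) - δ₁) ^ 2 = 2 * (Cfsg.charDegree (χ₁ : G → ℂ) : ℚ) * ((Cfsg.charDegree (χ₁ : G → ℂ) : ℚ) + δ₁) * (Nat.card (Subgroup.centralizer ({σ ^ (2 ^ (n - 2))} : Set G)) : ℚ) ^ 3 * (1 / (Nat.card (Subgroup.centralizer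 ({σ ^ (2 ^ (n - 2)), τ} : Set G)) : ℚ) + 1 / (Nat.card (Subgroup.centralizer ({σ ^ (2 ^ (n - 2)), σ * τ} : Set G)) : ℚ)) ^ 2 := by
  classical
  letI := Fintype.ofFinite G
  haveI := CfsgLib.Blocks.isPrime_of_isPModular hM
  obtain ⟨k, rfl⟩ : ∃ k, n = k + 3 := ⟨n - 3, by omega⟩
  rw [show k + 3 - 2 = k + 1 by omega] at hconj ⊢
  rw [show k + 3 - 1 = k + 2 by omega, show 2 ^ (k + 2) = 2 * 2 ^ (k + 1) from pow_succ' 2 (k + 1)] at hσo hval
  have D := CfsgLib.DihBlock.data_of_generators P (Nat.succ_pos k) hσ hτ hσo hτo hrel hgen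
  rw [show Nat.succ k = k + 1 from rfl] at D
  set m := 2 ^ (k + 1) with hm
  have hm2 : 2 ≤ m := CfsgLib.DihBlock.two_le D
  have hζ : IsPrimitiveRoot (Complex.exp (2 * Real.pi * Complex.I / (2 * m : ℕ))) (2 * m) :=
    Complex.isPrimitiveRoot_exp _ (by omega)
  obtain ⟨R⟩ := CfsgLib.DihBlock.exists_rotations D hM hζ
  -- the given character is the constant one
  have hmz : (χ₁ : G → ℂ) (σ ^ m) = δ₁ := hval m (by omega) (by omega)
  have h11 : (χ₁ : G → ℂ) (σ ^ 1) = δ₁ := hval 1 one_pos (by omega)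
  have hne : χ₁ ≠ CfsgLib.Blocks.trivIrr G := fun e => h1 (by rw [e]; rfl)
  have hsign0 : (δ₁ : ℂ) ≠ 0 := by rcases hδ₁ with h | h <;> simp [h]
  have hce : ∀ (s : ℤ) (χ : Cfsg.IrrCharacter G), (s = 1 ∨ s = -1) →
      (∀ l, 0 < l → l < 2 * m → (χ : G → ℂ) (σ ^ l) = s * (-1) ^ (l + 1)) → χ₁ ≠ χ := by
    intro s χ hs hv e
    rw [e, hv m (by omega) (by omega), pow_succ,
      (even_iff_two_dvd.mpr (CfsgLib.DihBlock.even D)).neg_one_pow] at hmz
    rw [e, hv 1 one_pos (by omega)] at h11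
    norm_num at hmz h11
    rw [← h11] at hmz
    rcases hs with rfl | rfl <;> norm_num at hmz
  have hχa : χ₁ = R.a := by
    by_contra hna
    by_cases hb : ∃ j, 0 < j ∧ j < m ∧ χ₁ = R.b j
    · obtain ⟨j, hj, hjm, e⟩ := hb
      have hzm : (Complex.exp (2 * Real.pi * Complex.I / (2 * m : ℕ))) ^ m = -1 := by
        have h2 : (Complex.exp (2 * Real.pi * Complex.I / (2 * m : ℕ))) ^ m *
            (Complex.exp (2 * Real.pi * Complex.I / (2 * m : ℕ))) ^ m = 1 := by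
          rw [← pow_add, ← two_mul, hζ.pow_eq_one]
        exact (mul_self_eq_one_iff.mp h2).resolve_left (hζ.pow_ne_one_of_pos_of_lt (by omega) (by omega))
      rw [e, R.val_b j hj hjm m (by omega) (by omega), mul_comm j m, pow_mul, hzm, ← inv_pow,
        show ((-1 : ℂ))⁻¹ = -1 by norm_num, ← two_mul] at hmz
      have h4 := congrArg (fun x => ‖x‖) hmz
      rcases R.signδ with h | h <;> rcases hδ₁ with h' | h' <;> simp [h, h'] at h4
    · push Not at hb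
      refine hsign0 ?_
      rw [← hmz, R.val_other χ₁ hχ₁ hne hna (hce _ _ R.signc R.val_c) (hce _ _ R.signe R.val_e) hb m
        (by omega) (by omega)]
  have hδ : δ₁ = R.δ := by
    rw [hχa, R.val_a m (by omega) (by omega)] at hmz
    exact_mod_cast hmz.symm
  subst hχa hδ
  -- the two counts
  obtain ⟨hE, hsum⟩ := CfsgLib.DihBlock.sum_char D hM R hζ
  have hsp := CfsgLib.DihBlock.sum_invs_products D
  have hpm := CfsgLib.DihBlock.pairs_character D hM hconj.1 hconj.2 (l := m) (by omega) (by omega)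
  have hp1 := CfsgLib.DihBlock.pairs_character D hM hconj.1 hconj.2 (l := 1) one_pos (by omega)
  have key := congrArg (Nat.cast : ℕ → ℂ) hsp
  rw [Nat.cast_add, hpm, hp1, ← mul_add, ← mul_add, hsum] at key
  -- the centralizers
  have hpair : ∀ t : G, Subgroup.centralizer ({σ ^ m, t} : Set G) =
      CfsgLib.DihBlock.cz σ m ⊓ Subgroup.centralizer ({t} : Set G) := fun t => by
    ext g
    simp only [Subgroup.mem_inf, CfsgLib.DihBlock.cz, Subgroup.mem_centralizer_iff, Set.mem_insert_iff,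
      Set.mem_singleton_iff]
    exact ⟨fun h => ⟨fun x hx => h x (Or.inl hx), fun x hx => h x (Or.inr hx)⟩,
      fun h x hx => hx.elim (h.1 x) (h.2 x)⟩
  have hA := CfsgLib.DihBlock.invs_card D hτ
  have hB := CfsgLib.DihBlock.invs_card (CfsgLib.DihBlock.swap D) (mul_mem hσ hτ)
  have hC := CfsgLib.DihBlock.card_cz D
  have hI := (CfsgLib.DihBlock.cz σ m).card_mul_index
  rw [hpair τ, hpair (σ * τ), show Subgroup.centralizer ({σ ^ m} : Set G) = CfsgLib.DihBlock.cz σ m from rfl]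
  set A := (CfsgLib.DihBlock.invs σ m τ).card with hAdef
  set B := (CfsgLib.DihBlock.invs σ m (σ * τ)).card
  set c := Nat.card (CfsgLib.DihBlock.cz σ m)
  set cτ := Nat.card ↥(CfsgLib.DihBlock.cz σ m ⊓ Subgroup.centralizer ({τ} : Set G))
  set cσ := Nat.card ↥(CfsgLib.DihBlock.cz σ m ⊓ Subgroup.centralizer ({σ * τ} : Set G))
  set W := Nat.card (CfsgLib.DihBlock.core σ m)
  set I := (CfsgLib.DihBlock.cz σ m).index
  set x := Cfsg.charDegree (R.a : G → ℂ)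
  rw [(CfsgLib.Blocks.irr_degree_eq R.a).1] at key hE
  have hx0 : 0 < x := (CfsgLib.Blocks.irr_degree_eq R.a).2
  have hx : (x : ℚ) ≠ 0 := Nat.cast_ne_zero.mpr hx0.ne'
  have hWpos : 0 < W := Nat.card_pos
  have hGpos : 0 < Nat.card G := Nat.card_pos
  have hδ2 : (R.δ : ℚ) * R.δ = 1 := by rcases R.signδ with h | h <;> simp [h]
  have hEq : 1 + (R.δ : ℚ) * x ≠ 0 := fun h => hE (by exact_mod_cast h)
  have keyQ : (I : ℚ) * I / (Nat.card G : ℚ) * ((W : ℚ) * (2 + 2 * R.δ / x - 8 / (1 + R.δ * x))) =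
      m * ((A : ℚ) + B) ^ 2 := by
    apply Rat.cast_injective (α := ℂ)
    push_cast
    push_cast at key
    linear_combination key
  have hxδ : (x : ℚ) + R.δ ≠ 0 := fun h => hEq (by linear_combination (R.δ : ℚ) * h - hδ2)
  have hsimp : (2 + 2 * (R.δ : ℚ) / x - 8 / (1 + R.δ * x)) * ((x : ℚ) * (x + R.δ)) = 2 * ((x : ℚ) - R.δ) ^ 2 := by
    have e : (x : ℚ) + R.δ = R.δ * (1 + R.δ * x) := by linear_combination -(x : ℚ) * hδ2
    have e2 : (8 / (1 + (R.δ : ℚ) * x)) * (1 + R.δ * x) = 8 := div_mul_cancel₀ 8 hEq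
    have e3 : (2 * (R.δ : ℚ) / x) * x = 2 * R.δ := div_mul_cancel₀ _ hx
    calc (2 + 2 * (R.δ : ℚ) / x - 8 / (1 + R.δ * x)) * ((x : ℚ) * (x + R.δ))
        = 2 * x * (x + R.δ) + (2 * R.δ / x * x) * (x + R.δ) - 8 / (1 + R.δ * x) * (1 + R.δ * x) * (x * R.δ) := by
          rw [e]; ring
      _ = _ := by rw [e2, e3]; ring
  have hApos : 0 < A := Finset.card_pos.mpr ⟨τ, CfsgLib.DihBlock.mem_invs.mpr
    ⟨hτo, by rw [mul_inv_cancel]; exact one_mem _⟩⟩
  have hkey2 : (I : ℚ) * I * W * (2 * ((x : ℚ) - R.δ) ^ 2) =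
      (Nat.card G : ℚ) * m * ((A : ℚ) + B) ^ 2 * ((x : ℚ) * (x + R.δ)) := by
    have hG0 : (Nat.card G : ℚ) ≠ 0 := Nat.cast_ne_zero.mpr hGpos.ne'
    rw [← hsimp, mul_assoc (Nat.card G : ℚ) m, ← keyQ]
    field_simp
  refine ⟨fun h => ?_, ?_⟩
  · have h' : (x : ℚ) = R.δ := by exact_mod_cast h
    rw [h', sub_self] at hkey2
    have hpos : (Nat.card G : ℚ) * m * ((A : ℚ) + B) ^ 2 * ((x : ℚ) * (x + R.δ)) ≠ 0 := by
      have : (A : ℚ) + B ≠ 0 := by positivity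
      have : (m : ℚ) ≠ 0 := Nat.cast_ne_zero.mpr (by omega)
      have : (Nat.card G : ℚ) ≠ 0 := Nat.cast_ne_zero.mpr hGpos.ne'
      positivity
    exact hpos (by rw [h']; linear_combination -hkey2)
  · have hAQ : (A : ℚ) * cτ = 4 * W := by exact_mod_cast hA
    have hBQ : (B : ℚ) * cσ = 4 * W := by exact_mod_cast hB
    have hCQ : (c : ℚ) = W * (4 * m) := by exact_mod_cast hC
    have hIQ : (c : ℚ) * I = Nat.card G := by exact_mod_cast hI
    have hcτ : (cτ : ℚ) ≠ 0 := Nat.cast_ne_zero.mpr Nat.card_pos.ne'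
    have hcσ : (cσ : ℚ) ≠ 0 := Nat.cast_ne_zero.mpr Nat.card_pos.ne'
    have hW : (W : ℚ) ≠ 0 := Nat.cast_ne_zero.mpr hWpos.ne'
    have hI0 : (I : ℚ) ≠ 0 := Nat.cast_ne_zero.mpr Subgroup.index_ne_zero_of_finite
    have hA' : (A : ℚ) = 4 * W / cτ := (eq_div_iff hcτ).mpr hAQ
    have hB' : (B : ℚ) = 4 * W / cσ := (eq_div_iff hcσ).mpr hBQ
    rw [hA', hB', ← hIQ, hCQ] at hkey2
    rw [← hIQ, hCQ]
    field_simp at hkey2 ⊢
    linear_combination (1 / 2 : ℚ) * hkey2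

end Cfsg.Agent.S4482
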