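import Cfsg.Statements.S1279
import Cfsg.Agent.Lib.Signalizer.CoreBalance

set_option autoImplicit false
open Cfsg

namespace Cfsg.Agent.S1279

/-- Let A be a noncyclic elementary abelian p-subgroup of the finite group G such that C_G(a) is solvable for every non-identity a ∈ A. Then a ↦ O_{p'}(C_G(a)) is a solvable A-signalizer functor on G. -/
theorem result {G : Type*} [Group G] [Finite G] (p : ℕ) [Fact p.Prime] (A : Subgroup G) (hA : Cfsg.IsElementaryAbelian p A) (hA2 : p ^ 2 ≤ Nat.card ↥A) (hsolv : ∀ a ∈ A, a ≠ 1 → Group.IsSolvable ↥(Subgroup.centralizer ({a} : Set G))) : Cfsg.IsSolvableSignalizerFunctor p A (fun a => Cfsg.centralizerPPrimeCore p a) := by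
  have hord : ∀ a ∈ A, a ^ p = 1 := hA.2
  have hcomm : ∀ a ∈ A, ∀ b ∈ A, a * b = b * a := fun a ha b hb =>
    congrArg Subtype.val (hA.1.1.comm ⟨a, ha⟩ ⟨b, hb⟩)
  have hsol : ∀ a ∈ A, a ≠ 1 → Group.IsSolvable ↥(Cfsg.centralizerPPrimeCore p a) := fun a ha h1 => by
    haveI := hsolv a ha h1
    exact solvable_of_solvable_injective (Subgroup.inclusion_injective
      (show Cfsg.centralizerPPrimeCore p a ≤ Subgroup.centralizer ({a} : Set G) from
        Subgroup.map_subtype_le _))
  refine ⟨⟨fun a _ _ => Subgroup.map_subtype_le _, fun a _ _ hd => ?_, fun a ha _ b hb x hx => ?_,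
    fun a ha _ b hb hb1 => ?_⟩, hsol⟩
  · exact (Fact.out : p.Prime).ne_one (Nat.eq_one_of_dvd_coprimes
      (CfsgLib.Signalizer.coprime_centralizerPPrimeCore a) hd (dvd_refl p))
  · have hba : b * a * b⁻¹ = a := by
      rw [hcomm b hb a ha]; group
    show b * x * b⁻¹ ∈ Cfsg.centralizerPPrimeCore p a
    rw [← hba, CfsgLib.Signalizer.centralizerPPrimeCore_conj]
    exact ⟨x, hx, rfl⟩
  · exact CfsgLib.Signalizer.centralizerPPrimeCore_balance (hcomm a ha b hb) (hord a ha)
      (CfsgLib.PSolvable.isPConstrained_of_isPSolvable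
        (CfsgLib.PSolvable.isPSolvable_of_isSolvable (hsolv b hb hb1)))

end Cfsg.Agent.S1279
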