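import Cfsg.Statements.S3730
import Cfsg.Agent.Lib.CyclicNorm.GenDihedral
import Cfsg.Agent.Lib.CyclicNorm.PGL
import Cfsg.Agent.S0144

set_option autoImplicit false
set_option linter.style.haveILetI false
open Cfsg

namespace Cfsg.Agent.S3730

/-- Let G be a nontrivial finite group with no nontrivial solvable normal subgroup, such that for every cyclic subgroup X of even order and every nontrivial subgroup Y of X one has N_G(X) = N_G(Y) (every nontrivial subgroup of a cyclic subgroup of even order has the same normalizer as the whole cyclic subgroup). Then G is isomorphic to PSL(2, q) or to PGL(2, q) for some prime power q > 3. -/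
theorem result
    {G : Type*} [Group G] [Finite G] [Nontrivial G]
    (hss : ∀ N : Subgroup G, N.Normal → Group.IsSolvable ↥N → N = ⊥)
    (hii : ∀ X : Subgroup G, IsCyclic ↥X → Even (Nat.card ↥X) → ∀ Y : Subgroup G, Y ≤ X → Y ≠ ⊥ →
      Subgroup.normalizer (X : Set G) = Subgroup.normalizer (Y : Set G)) :
    ∃ (F : Type) (_ : Field F) (_ : Fintype F), 3 < Fintype.card F ∧
      (Nonempty (G ≃* Matrix.ProjectiveSpecialLinearGroup (Fin 2) F) ∨
        Nonempty (G ≃* Matrix.ProjGenLinGroup (Fin 2) F)) := by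
  classical
  open CfsgLib.CyclicNorm in
  have hcases : IsPSLTwo G ∨ ∃ (F : Type) (_ : Field F) (_ : Fintype F),
      Nonempty (G ≃* Matrix.ProjGenLinGroup (Fin 2) F) := by
    have hH : Hyp G := hii
    have hsem : Sem G := hss
    haveI := Fact.mk Nat.prime_two
    obtain ⟨S⟩ : Nonempty (Sylow 2 G) := inferInstance
    have hdih : IsPSLTwo G ∨ ∃ A z, Dih S A z := by
      rcases shape hH hsem S with hab | ⟨A, hAS, hcomm, hbig, hex, hout, hprod⟩
      · exact abelian_case hH hsem S hab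
      · obtain ⟨z, d⟩ := gen_dihedral hH hsem S hAS hcomm hbig hex hout hprod
        exact Or.inr ⟨A, z, d⟩
    rcases hdih with h | ⟨A, z, d⟩
    · exact Or.inl h
    by_cases hno : ∀ M : Subgroup G, M.index ≠ 2
    · obtain ⟨F, i1, i2, -, he⟩ := dih_simple hH hsem d hno
      exact Or.inl ⟨F, i1, i2, he⟩
    push Not at hno
    obtain ⟨M, hM⟩ := hno
    haveI := Subgroup.normal_of_index_eq_two hM
    obtain ⟨hz, dM, hnoM⟩ := dih_index_two hH hsem d hM
    haveI : Nontrivial M := ⟨⟨z, hz⟩, 1, fun h => d.z_ne (congrArg Subtype.val h)⟩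
    obtain ⟨F, i1, i2, hodd, ⟨e⟩⟩ := dih_simple (hH.subgroup M) (hsem.subgroup M) dM hnoM
    exact Or.inr ⟨F, i1, i2, pgl_of_index_two hH hsem d hM hodd e⟩
  have hsmall : ∀ (F : Type) [Field F] [Fintype F],
      Nat.card G ∣ Nat.card (Matrix.ProjGenLinGroup (Fin 2) F) → 3 < Fintype.card F := by
    intro F _ _ hle
    by_contra h
    rw [CfsgLib.SL2.PGLMax.card_pgl, Nat.card_eq_fintype_card (α := F)] at hle
    have h24 : Nat.card G ∣ 2 ^ 3 * 3 ^ 1 := by
      refine hle.trans ?_
      have := Fintype.one_lt_card (α := F)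
      rcases (show Fintype.card F = 2 ∨ Fintype.card F = 3 by omega) with e | e <;> rw [e] <;>
        norm_num
    obtain ⟨x, y, hx, hy, hxy⟩ := Nat.dvd_mul.mp h24
    obtain ⟨a, -, rfl⟩ := (Nat.dvd_prime_pow Nat.prime_two).mp hx
    obtain ⟨b, -, rfl⟩ := (Nat.dvd_prime_pow Nat.prime_three).mp hy
    exact CfsgLib.CyclicNorm.not_isSolvable hss
      (Cfsg.Agent.S0144.result 2 3 a b Nat.prime_two Nat.prime_three hxy.symm)
  rcases hcases with ⟨F, i1, i2, ⟨e⟩⟩ | ⟨F, i1, i2, ⟨e⟩⟩
  · refine ⟨F, i1, i2, hsmall F ?_, Or.inl ⟨e⟩⟩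
    rw [Nat.card_congr e.toEquiv]
    exact Subgroup.card_dvd_of_injective _
      (Matrix.ProjectiveSpecialLinearGroup.toPGL_injective (n := Fin 2) (R := F))
  · exact ⟨F, i1, i2, hsmall F (dvd_of_eq (Nat.card_congr e.toEquiv)), Or.inr ⟨e⟩⟩

end Cfsg.Agent.S3730
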