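import Cfsg.Statements.S4420
import Mathlib

set_option autoImplicit false
set_option linter.style.haveILetI false
open Cfsg

namespace Cfsg.Agent.S4420

/-- Structure of groups in which every element outside some proper subgroup has square 1. Let H be a finite group with a proper subgroup A such that every element outside A has square 1. Then H has an abelian normal subgroup B of index 2 such that every element outside B is an involution inverting every element of B; and if H is not an elementary abelian 2-group, B is the only abelian normal subgroup of index 2 with this property. -/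
theorem result {H : Type*} [Group H] [Finite H] (A : Subgroup H) (hA : A ≠ ⊤) (hD : ∀ x : H, x ∉ A → x ^ 2 = 1) :
    ∃ B : Subgroup H, B.Normal ∧ IsMulCommutative ↥B ∧ B.index = 2 ∧
      (∀ x : H, x ∉ B → x ^ 2 = 1 ∧ ∀ b ∈ B, x * b * x⁻¹ = b⁻¹) ∧
      (¬ (IsMulCommutative H ∧ ∀ x : H, x ^ 2 = 1) →
        ∀ B' : Subgroup H, B'.Normal → IsMulCommutative ↥B' → B'.index = 2 →
          (∀ x : H, x ∉ B' → x ^ 2 = 1 ∧ ∀ b ∈ B', x * b * x⁻¹ = b⁻¹) → B' = B) := by
  classical
  have hout : ∀ x, x ∉ A → ∀ y, y ∉ A → x * y ∉ A → x * y = y * x := by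
    intro x hx y hy hxy
    have h1 := hD _ hxy
    have hxi : x⁻¹ = x := inv_eq_of_mul_eq_one_right (by rw [← pow_two]; exact hD x hx)
    have hyi : y⁻¹ = y := inv_eq_of_mul_eq_one_right (by rw [← pow_two]; exact hD y hy)
    have h2 := inv_eq_of_mul_eq_one_right (a := x * y) (by rw [← pow_two]; exact h1)
    rw [mul_inv_rev, hxi, hyi] at h2
    exact h2.symm
  have hinv : ∀ x, x ∉ A → ∀ a ∈ A, x * a * x⁻¹ = a⁻¹ := by
    intro x hx a ha
    have hxa : x * a ∉ A := fun e => hx (by
      have := mul_mem e (A.inv_mem ha); rwa [mul_inv_cancel_right] at this)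
    have h1 := hD _ hxa
    have hxi : x⁻¹ = x := inv_eq_of_mul_eq_one_right (by rw [← pow_two]; exact hD x hx)
    rw [pow_two] at h1
    rw [hxi]
    exact eq_inv_of_mul_eq_one_left (by rw [← h1]; group)
  obtain ⟨x₀, hx₀⟩ : ∃ x, x ∉ A := by
    by_contra! h
    exact hA ((Subgroup.eq_top_iff' A).mpr h)
  by_cases helem : IsMulCommutative H ∧ ∀ x : H, x ^ 2 = 1
  · obtain ⟨hc, h2⟩ := helem
    obtain ⟨B, hB⟩ : ∃ B : Subgroup H, B.index = 2 := by
      have h1 : IsPGroup 2 H := fun g => ⟨1, by rw [pow_one]; exact h2 g⟩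
      obtain ⟨n, hn⟩ := IsPGroup.iff_card.mp h1
      rcases n with _ | n
      · exfalso
        rw [pow_zero, Nat.card_eq_one_iff_unique] at hn
        haveI := hn.1
        exact hx₀ (Subsingleton.elim x₀ 1 ▸ A.one_mem)
      · obtain ⟨B, hB⟩ := Sylow.exists_subgroup_card_pow_prime 2 (n := n) (G := H)
          (by rw [hn]; exact pow_dvd_pow 2 (Nat.le_succ n))
        refine ⟨B, ?_⟩
        have := B.card_mul_index
        rw [hB, hn, pow_succ] at this
        exact Nat.eq_of_mul_eq_mul_left (Nat.two_pow_pos n) this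
    refine ⟨B, Subgroup.normal_of_index_eq_two hB, inferInstance, hB, fun x _ => ⟨h2 x, fun b _ => ?_⟩,
      fun h => absurd ⟨hc, h2⟩ h⟩
    rw [hc.is_comm.comm x b, mul_inv_cancel_right,
      inv_eq_of_mul_eq_one_right (by rw [← pow_two]; exact h2 b)]
  · have hcommA : ∀ a ∈ A, ∀ b ∈ A, a * b = b * a := by
      intro a ha b hb
      have h1 := hinv x₀ hx₀ _ (mul_mem ha hb)
      rw [show x₀ * (a * b) * x₀⁻¹ = (x₀ * a * x₀⁻¹) * (x₀ * b * x₀⁻¹) by group, hinv x₀ hx₀ a ha,
        hinv x₀ hx₀ b hb, mul_inv_rev] at h1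
      have := congrArg (·⁻¹) h1
      simpa using this.symm
    have htwo : ∀ x y, x ∉ A → y ∉ A → x * y ∈ A := by
      intro x y hx hy
      by_contra hxy
      apply helem
      have hA2 : ∀ a ∈ A, a ^ 2 = 1 := by
        intro a ha
        have h1 := hinv (x * y) hxy a ha
        rw [show x * y * a * (x * y)⁻¹ = x * (y * a * y⁻¹) * x⁻¹ by group, hinv y hy a ha,
          hinv x hx _ (A.inv_mem ha), inv_inv] at h1
        rw [pow_two]
        exact mul_eq_one_iff_eq_inv.mpr h1
      have hall : ∀ z : H, z ^ 2 = 1 := fun z => by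
        by_cases hz : z ∈ A
        · exact hA2 z hz
        · exact hD z hz
      refine ⟨⟨⟨fun u v => ?_⟩⟩, hall⟩
      have h1 := inv_eq_of_mul_eq_one_right (a := u * v) (by rw [← pow_two]; exact hall _)
      rw [mul_inv_rev, inv_eq_of_mul_eq_one_right (a := u) (by rw [← pow_two]; exact hall u),
        inv_eq_of_mul_eq_one_right (a := v) (by rw [← pow_two]; exact hall v)] at h1
      exact h1.symm
    have hidx : A.index = 2 := by
      rw [Subgroup.index_eq_two_iff]
      refine ⟨x₀, fun b => ?_⟩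
      by_cases hb : b ∈ A
      · exact Or.inr ⟨hb, fun e => hx₀ (by
          have := mul_mem (A.inv_mem hb) e; rwa [inv_mul_cancel_left] at this)⟩
      · exact Or.inl ⟨htwo b x₀ hb hx₀, hb⟩
    refine ⟨A, Subgroup.normal_of_index_eq_two hidx, ⟨⟨fun a b => Subtype.ext (hcommA a a.2 b b.2)⟩⟩,
      hidx, fun x hx => ⟨hD x hx, hinv x hx⟩, fun _ B' _ hB'c hB'i hB'o => ?_⟩
    obtain ⟨a, haA, ha2⟩ : ∃ a ∈ A, a ^ 2 ≠ 1 := by
      by_contra! h
      apply helem
      have hall : ∀ z : H, z ^ 2 = 1 := fun z => by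
        by_cases hz : z ∈ A
        · exact h z hz
        · exact hD z hz
      refine ⟨⟨⟨fun u v => ?_⟩⟩, hall⟩
      have h1 := inv_eq_of_mul_eq_one_right (a := u * v) (by rw [← pow_two]; exact hall _)
      rw [mul_inv_rev, inv_eq_of_mul_eq_one_right (a := u) (by rw [← pow_two]; exact hall u),
        inv_eq_of_mul_eq_one_right (a := v) (by rw [← pow_two]; exact hall v)] at h1
      exact h1.symm
    have haB : a ∈ B' := by
      by_contra h
      exact ha2 (hB'o a h).1
    have hle : B' ≤ A := fun x hx => by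
      by_contra hxA
      have h1 := hinv x hxA a haA
      rw [show x * a = a * x from congrArg Subtype.val (hB'c.is_comm.comm ⟨x, hx⟩ ⟨a, haB⟩),
        mul_inv_cancel_right] at h1
      exact ha2 (by rw [pow_two]; exact mul_eq_one_iff_eq_inv.mpr h1)
    refine Subgroup.eq_of_le_of_card_ge hle ?_
    have e1 := A.card_mul_index
    have e2 := B'.card_mul_index
    rw [hidx] at e1
    rw [hB'i] at e2
    omega

end Cfsg.Agent.S4420
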