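import Cfsg.Statements.S1189
import Cfsg.Agent.Lib.SmallTwo.QuasiDihedralSmall

set_option autoImplicit false
open Cfsg

namespace Cfsg.Agent.S1189

/-- A quasi-dihedral 2-group has exactly two conjugacy classes of elements of order 2 and exactly two conjugacy classes of elements of order 4. -/
theorem result {S : Type*} [Group S] [Finite S] (hS : Cfsg.IsQuasiDihedral S) : Nat.card {C : ConjClasses S // ∃ t : S, orderOf t = 2 ∧ ConjClasses.mk t = C} = 2 ∧ Nat.card {C : ConjClasses S // ∃ t : S, orderOf t = 4 ∧ ConjClasses.mk t = C} = 2 := by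
  obtain ⟨n, ⟨d⟩⟩ := CfsgLib.SmallTwo.qd_exists hS
  exact ⟨d.two_classes, d.four_classes⟩
end Cfsg.Agent.S1189
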