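import Cfsg.Statements.S3224
import Cfsg.Agent.Lib.Fusion.MetacyclicTwoSmall

set_option autoImplicit false
open Cfsg

namespace Cfsg.Agent.S3224

/-- A finite 2-group containing an involution whose centralizer has order 4 is dihedral, quasi-dihedral (semidihedral), or of order 4. -/
theorem result {S : Type*} [Group S] [Finite S] (hS : IsPGroup 2 S)
    (x : S) (hx : orderOf x = 2) (hC : Nat.card ↥(Subgroup.centralizer ({x} : Set S)) = 4) :
    (∃ n : ℕ, Nonempty (S ≃* DihedralGroup n)) ∨ Cfsg.IsQuasiDihedral S ∨ Nat.card S = 4 := by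
  haveI : Fact (Nat.Prime 2) := ⟨Nat.prime_two⟩
  have hfour : ∀ {T : Type _} [Group T] [Finite T] (x z : T), orderOf x = 2 →
      Nat.card (Subgroup.centralizer ({x} : Set T)) = 4 → orderOf z = 2 → z * x = x * z → z ≠ x →
      ∀ y : T, y * x = x * y → y = 1 ∨ y = z ∨ y = x ∨ y = z * x := by
    intro T _ _ x z hx hc hz hzx hne y hy
    classical
    have := Fintype.ofFinite T
    let s : Finset T := {1, z, x, z * x}
    have hx1 : x ≠ 1 := fun h => by simp [h] at hx
    have hz1 : z ≠ 1 := fun h => by simp [h] at hz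
    have hs : s.card = 4 := by
      have h1 : z * x ≠ 1 := fun h => hne (by
        rw [mul_eq_one_iff_eq_inv] at h
        rw [h, ← mul_eq_one_iff_inv_eq]
        rw [← pow_two, ← hx, pow_orderOf_eq_one])
      simp [s, hne, hx1.symm, hz1.symm, h1.symm, hx1, hz1, hne.symm]
    have hsub : s ⊆ (Subgroup.centralizer ({x} : Set T) : Set T).toFinset := by
      intro w hw
      simp only [s, Finset.mem_insert, Finset.mem_singleton] at hw
      rw [Set.mem_toFinset, SetLike.mem_coe, Subgroup.mem_centralizer_singleton_iff]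
      rcases hw with rfl | rfl | rfl | rfl
      · simp
      · exact hzx
      · rfl
      · rw [mul_assoc, ← mul_assoc x, ← hzx, mul_assoc]
    have heq := Finset.eq_of_subset_of_card_le hsub (by
      rw [hs, Set.toFinset_card, ← Nat.card_eq_fintype_card]
      exact hc.le)
    have : y ∈ (Subgroup.centralizer ({x} : Set T) : Set T).toFinset := by
      rw [Set.mem_toFinset, SetLike.mem_coe, Subgroup.mem_centralizer_singleton_iff]; exact hy
    rw [← heq] at this
    simpa [s] using this
  have hcentral : ∀ {T : Type _} [Group T] [Finite T] (x : T), IsPGroup 2 T → orderOf x = 2 →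
      Nat.card (Subgroup.centralizer ({x} : Set T)) = 4 → Nat.card T ≠ 4 →
      ∃ z : T, orderOf z = 2 ∧ z ∈ Subgroup.center T ∧ z ≠ x := by
    intro T _ _ x hT hx hc h4
    haveI : Nontrivial T := ⟨⟨x, 1, fun h => by simp [h] at hx⟩⟩
    obtain ⟨n, hn⟩ := IsPGroup.iff_card.mp (hT.to_subgroup (Subgroup.center T))
    haveI := hT.center_nontrivial
    obtain ⟨z, hz⟩ := exists_prime_orderOf_dvd_card' (G := Subgroup.center T) 2 (by
      rw [hn]
      refine dvd_pow_self 2 fun h0 => ?_
      rw [h0, pow_zero] at hn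
      exact (Finite.one_lt_card (α := Subgroup.center T)).ne' hn)
    refine ⟨z, (Subgroup.orderOf_coe z).trans hz, z.2, fun h => h4 ?_⟩
    rw [← hc, show Subgroup.centralizer ({x} : Set T) = ⊤ from eq_top_iff.mpr fun y _ =>
      Subgroup.mem_centralizer_singleton_iff.mpr (Subgroup.mem_center_iff.mp (h ▸ z.2) y),
      Subgroup.card_top]
  -- a cyclic subgroup of index two not containing `x`
  suffices key : ∀ N : ℕ, ∀ (T : Type u_1) [Group T] [Finite T] (x : T), Nat.card T = N → IsPGroup 2 T →
      orderOf x = 2 → Nat.card (Subgroup.centralizer ({x} : Set T)) = 4 → Nat.card T ≠ 4 →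
      ∃ ν : T, (Subgroup.zpowers ν).index = 2 ∧ x ∉ Subgroup.zpowers ν by
    by_cases h4 : Nat.card S = 4
    · exact Or.inr (Or.inr h4)
    obtain ⟨ν, hidx, hxν⟩ := key _ S x rfl hS hx hC h4
    obtain ⟨z, hz2, hzc, hzne⟩ := hcentral x hS hx hC h4
    haveI : (Subgroup.zpowers ν).Normal := Subgroup.normal_of_index_eq_two hidx
    haveI : IsCyclic (S ⧸ Subgroup.zpowers ν) :=
      isCyclic_of_prime_card (p := 2) (by rw [← Subgroup.index_eq_card, hidx])
    have hzz : z * z = 1 := by rw [← pow_two, ← hz2, pow_orderOf_eq_one]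
    have hzx : z * x = x * z := (Subgroup.mem_center_iff.mp hzc x).symm
    have hcases := hfour x z hx hC hz2 hzx hzne
    have hzν : z ∈ Subgroup.zpowers ν := by
      by_contra hzn
      have h := (Subgroup.mul_mem_iff_of_index_two hidx (a := z) (b := x)).mpr (by simp [hzn, hxν])
      -- the involution `z * x` is the one of the cyclic group, hence central
      have hsq : z * x * (z * x) = 1 := by
        rw [mul_assoc, ← mul_assoc x, ← hzx, mul_assoc z x x, ← pow_two x, ← hx, pow_orderOf_eq_one,
          mul_one, hzz]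
      have hc : ∀ y : S, y * (z * x) = z * x * y := fun y => by
        have hy := (inferInstance : (Subgroup.zpowers ν).Normal).conj_mem _ h y
        classical
        have := Fintype.ofFinite S
        have := IsCyclic.card_pow_eq_one_le (α := Subgroup.zpowers ν) (n := 2) (by norm_num)
        by_contra hne
        have hne' : y * (z * x) * y⁻¹ ≠ z * x := fun e => hne (mul_inv_eq_iff_eq_mul.mp e)
        have h1 : z * x ≠ 1 := fun e => hxν (by
          rw [mul_eq_one_iff_inv_eq, inv_eq_of_mul_eq_one_right hzz] at e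
          exact absurd e hzne)
        have hsub : ({1, ⟨_, h⟩, ⟨_, hy⟩} : Finset (Subgroup.zpowers ν)) ⊆
            Finset.univ.filter fun a => a ^ 2 = 1 := by
          intro a ha
          simp only [Finset.mem_insert, Finset.mem_singleton] at ha
          simp only [Finset.mem_filter, Finset.mem_univ, true_and, pow_two]
          rcases ha with rfl | rfl | rfl
          · simp
          · exact Subtype.ext hsq
          · exact Subtype.ext (show y * (z * x) * y⁻¹ * (y * (z * x) * y⁻¹) = 1 by
              rw [show y * (z * x) * y⁻¹ * (y * (z * x) * y⁻¹) = y * (z * x * (z * x)) * y⁻¹ by group,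
                hsq]; simp)
        have h3 := Finset.card_le_card hsub
        rw [Finset.card_insert_of_notMem (by simp only [Finset.mem_insert, Finset.mem_singleton, Subtype.ext_iff, OneMemClass.coe_one, not_or]; exact ⟨Ne.symm h1, fun e => h1 (conj_eq_one_iff.mp e.symm)⟩),
          Finset.card_insert_of_notMem (by simp [Subtype.ext_iff, Ne.symm hne']), Finset.card_singleton] at h3
        omega
      refine h4 ?_
      rw [← hC, show Subgroup.centralizer ({x} : Set S) = ⊤ from eq_top_iff.mpr fun y _ =>
        Subgroup.mem_centralizer_singleton_iff.mpr (mul_left_cancel (a := z) ?_), Subgroup.card_top]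
      calc z * (y * x) = y * (z * x) := by rw [← mul_assoc, ← Subgroup.mem_center_iff.mp hzc y, mul_assoc]
        _ = z * x * y := hc y
        _ = z * (x * y) := mul_assoc _ _ _
    have hcl : ∀ w : S, w ∈ Subgroup.closure ({z, x} : Set S) → w = 1 ∨ w = z ∨ w = x ∨ w = z * x :=
      fun w hw => hcases w (by
        have hle : Subgroup.closure ({z, x} : Set S) ≤ Subgroup.centralizer ({x} : Set S) := by
          rw [Subgroup.closure_le]
          rintro _ (rfl | rfl)
          · exact Subgroup.mem_centralizer_singleton_iff.mpr hzx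
          · exact Subgroup.mem_centralizer_singleton_iff.mpr rfl
        exact Subgroup.mem_centralizer_singleton_iff.mp (hle hw))
    rcases CfsgLib.Fusion.dihedral_quaternion_quasiDihedral_of_small hS (Subgroup.zpowers ν)
      inferInstance inferInstance hzν hxν (n := z) (t := x)
      (by rw [pow_succ, pow_succ, pow_two, hzz, one_mul, hzz])
      (by rw [← hzx, mul_inv_cancel_right, inv_eq_of_mul_eq_one_right hzz])
      (Or.inl (by rw [← pow_two, ← hx, pow_orderOf_eq_one]))
      (fun w hw hw' => by
        rcases hcl w hw' with rfl | rfl | rfl | rfl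
        · exact one_mem _
        · exact Subgroup.mem_zpowers _
        · exact absurd hw hxν
        · exact absurd (by simpa using mul_mem (inv_mem hzν) hw) hxν)
      (fun w _ hw => by
        rcases hcases w hw with rfl | rfl | rfl | rfl
        · exact one_mem _
        · exact Subgroup.subset_closure (by simp)
        · exact Subgroup.subset_closure (by simp)
        · exact mul_mem (Subgroup.subset_closure (by simp)) (Subgroup.subset_closure (by simp)))
      with h | ⟨m, ⟨e⟩⟩ | h
    · exact Or.inl h
    · refine absurd ?_ h4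
      -- every involution of a generalized quaternion group is central
      rw [← hC, show Subgroup.centralizer ({x} : Set S) = ⊤ from eq_top_iff.mpr fun y _ =>
        Subgroup.mem_centralizer_singleton_iff.mpr (e.injective ?_), Subgroup.card_top]
      rw [map_mul, map_mul]
      have h2 : e x * e x = 1 := by
        rw [← map_mul, ← pow_two, ← hx, pow_orderOf_eq_one, map_one]
      have h1 : e x ≠ 1 := fun h => by
        rw [map_eq_one_iff _ e.injective] at h
        simp [h] at hx
      rcases m with _ | m
      · haveI : Finite (QuaternionGroup 0) := Finite.of_equiv _ e.toEquiv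
        exact absurd this (not_finite_iff_infinite.mpr (Infinite.of_injective (fun i : ℤ => QuaternionGroup.a (n := 0) i)
          fun i j h => by injection h))
      rcases hk : e x with i | i
      · rw [hk, QuaternionGroup.a_mul_a, QuaternionGroup.one_def, QuaternionGroup.a.injEq] at h2
        rcases e y with j | j
        · rw [QuaternionGroup.a_mul_a, QuaternionGroup.a_mul_a]; exact congrArg QuaternionGroup.a (add_comm _ _)
        · rw [QuaternionGroup.xa_mul_a, QuaternionGroup.a_mul_xa, QuaternionGroup.xa.injEq]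
          linear_combination h2
      · rw [hk, QuaternionGroup.xa_mul_xa, QuaternionGroup.one_def, QuaternionGroup.a.injEq,
          add_sub_cancel_right] at h2
        exfalso
        have h3 := (ZMod.natCast_eq_zero_iff _ _).mp (by exact_mod_cast h2 : (((m + 1 : ℕ)) : ZMod (2 * (m + 1))) = 0)
        have := Nat.le_of_dvd (by omega) h3
        omega
    · exact Or.inr (Or.inl h)
  intro N
  induction N using Nat.strong_induction_on with
  | _ N IH =>
  intro T _ _ x hN hT hx hc h4
  obtain ⟨z, hz2, hzc, hzne⟩ := hcentral x hT hx hc h4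
  have hzz : z * z = 1 := by rw [← pow_two, ← hz2, pow_orderOf_eq_one]
  have hxx : x * x = 1 := by rw [← pow_two, ← hx, pow_orderOf_eq_one]
  have hzx : z * x = x * z := (Subgroup.mem_center_iff.mp hzc x).symm
  have hcases := hfour x z hx hc hz2 hzx hzne
  haveI : (Subgroup.zpowers z).Normal := ⟨fun w hw g => by
    obtain ⟨k, rfl⟩ := Subgroup.mem_zpowers_iff.mp hw
    rw [Subgroup.mem_center_iff.mp (zpow_mem hzc k) g, mul_inv_cancel_right]
    exact hw⟩
  set π := QuotientGroup.mk' (Subgroup.zpowers z)
  have hker : ∀ w : T, π w = 1 ↔ w = 1 ∨ w = z := fun w => by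
    rw [QuotientGroup.mk'_apply, QuotientGroup.eq_one_iff]
    refine ⟨fun h => ?_, fun h => by rcases h with rfl | rfl; exacts [one_mem _, Subgroup.mem_zpowers _]⟩
    obtain ⟨k, rfl⟩ := Subgroup.mem_zpowers_iff.mp h
    rcases Int.even_or_odd' k with ⟨j, rfl | rfl⟩
    · left; rw [zpow_mul, zpow_two, hzz, one_zpow]
    · right; rw [zpow_add, zpow_mul, zpow_two, hzz, one_zpow, one_mul, zpow_one]
  have hcard : Nat.card T = 2 * Nat.card (T ⧸ Subgroup.zpowers z) := by
    rw [Subgroup.card_eq_card_quotient_mul_card_subgroup (Subgroup.zpowers z), Nat.card_zpowers, hz2]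
    ring
  have hxbar : orderOf (π x) = 2 := orderOf_eq_prime
    (by rw [← map_pow, pow_two, hxx, map_one]) fun h => by
      rcases (hker x).mp h with h' | h'
      · simp [h'] at hx
      · exact hzne h'.symm
  obtain ⟨k, hk⟩ := IsPGroup.iff_card.mp hT
  have hx1 : x ≠ 1 := fun h => by simp [h] at hx
  by_cases h8 : Nat.card T = 8
  · obtain ⟨ν, hν⟩ : ∃ ν : T, orderOf ν = 4 := by
      by_contra hne
      push Not at hne
      have hexp : ∀ w : T, w * w = 1 := fun w => by
        obtain ⟨j, hj, hw⟩ := (Nat.dvd_prime_pow Nat.prime_two).mp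
          ((orderOf_dvd_natCard w).trans (h8.trans (by norm_num : (8 : ℕ) = 2 ^ 3)).dvd)
        have := hne w
        rw [← pow_two, ← orderOf_dvd_iff_pow_eq_one, hw]
        interval_cases j
        · simp
        · simp
        · exact absurd hw this
        · have h4' := hne (w ^ 2)
          exfalso
          exact h4' (by rw [orderOf_pow' _ (by norm_num), hw]; norm_num)
      have hab : ∀ u v : T, u * v = v * u := fun u v => by
        calc u * v = (u * v)⁻¹ := (inv_eq_of_mul_eq_one_right (hexp _)).symm
          _ = v * u := by rw [mul_inv_rev, inv_eq_of_mul_eq_one_right (hexp u), inv_eq_of_mul_eq_one_right (hexp v)]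
      rw [show Subgroup.centralizer ({x} : Set T) = ⊤ from eq_top_iff.mpr fun y _ =>
        Subgroup.mem_centralizer_singleton_iff.mpr (hab y x), Subgroup.card_top, h8] at hc
      omega
    have hidx : (Subgroup.zpowers ν).index = 2 := by
      have h := (Subgroup.zpowers ν).card_mul_index
      rw [Nat.card_zpowers, hν, h8] at h
      omega
    refine ⟨ν, hidx, fun hmem => ?_⟩
    -- the involution of a normal cyclic subgroup is central
    haveI := Subgroup.normal_of_index_eq_two hidx
    have key : ∀ w ∈ Subgroup.zpowers ν, w * w = 1 → w = 1 ∨ w = ν ^ 2 := by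
      intro w hw hw2
      obtain ⟨i, rfl⟩ := Subgroup.mem_zpowers_iff.mp hw
      rw [← zpow_add, ← orderOf_dvd_iff_zpow_eq_one, hν] at hw2
      rcases Int.even_or_odd' i with ⟨j, rfl | rfl⟩
      · rcases Int.even_or_odd' j with ⟨l, rfl | rfl⟩
        · left; rw [← orderOf_dvd_iff_zpow_eq_one, hν]; exact ⟨l, by push_cast; ring⟩
        · right
          rw [← zpow_natCast ν 2, ← mul_inv_eq_one, ← zpow_sub, ← orderOf_dvd_iff_zpow_eq_one, hν]
          exact ⟨l, by push_cast; ring⟩
      · push_cast at hw2; omega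
    rw [show Subgroup.centralizer ({x} : Set T) = ⊤ from eq_top_iff.mpr fun y _ =>
      Subgroup.mem_centralizer_singleton_iff.mpr ?_, Subgroup.card_top, h8] at hc
    · omega
    rcases key x hmem hxx with h | h
    · exact absurd h hx1
    rcases key _ ((inferInstance : (Subgroup.zpowers ν).Normal).conj_mem x hmem y)
      (by rw [show y * x * y⁻¹ * (y * x * y⁻¹) = y * (x * x) * y⁻¹ by group, hxx]; simp) with h' | h'
    · exact absurd (by simpa using h') hx1
    · exact mul_inv_eq_iff_eq_mul.mp (h'.trans h.symm)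
  have hbig : 16 ≤ Nat.card T := by
    have h := Subgroup.card_le_card_group (Subgroup.centralizer ({x} : Set T))
    rw [hc] at h
    rw [hk] at h h4 h8 ⊢
    rcases Nat.lt_or_ge k 4 with hk4 | hk4
    · interval_cases k <;> norm_num at *
    · calc 16 = 2 ^ 4 := rfl
        _ ≤ 2 ^ k := Nat.pow_le_pow_right (by norm_num) hk4
  -- elements whose image centralizes the image of `x`
  obtain ⟨g, hg⟩ : ∃ g : T, g * x * g⁻¹ = z * x := by
    obtain ⟨g, hgN, hgC⟩ : ∃ g ∈ Subgroup.normalizer (Subgroup.centralizer ({x} : Set T) : Set T),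
        g ∉ Subgroup.centralizer ({x} : Set T) := by
      haveI := hT.isNilpotent
      have hlt := Group.normalizerCondition_of_isNilpotent _
        (lt_top_iff_ne_top.mpr fun h : Subgroup.centralizer ({x} : Set T) = ⊤ => by
          rw [h, Subgroup.card_top] at hc; omega)
      exact SetLike.exists_of_lt hlt
    have hne : g * x * g⁻¹ ≠ x := fun e =>
      hgC (Subgroup.mem_centralizer_singleton_iff.mpr (mul_inv_eq_iff_eq_mul.mp e))
    have hm : g * x * g⁻¹ ∈ Subgroup.centralizer ({x} : Set T) :=
      (Subgroup.mem_normalizer_iff.mp hgN x).mp (Subgroup.mem_centralizer_singleton_iff.mpr rfl)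
    rcases hcases _ (Subgroup.mem_centralizer_singleton_iff.mp hm) with h | h | h | h
    · exact absurd (by simpa using h) hx1
    · exact absurd (show x = z by
        rw [show x = g⁻¹ * (g * x * g⁻¹) * g by group, h, mul_assoc, ← Subgroup.mem_center_iff.mp hzc g,
          inv_mul_cancel_left]) hzne.symm
    · exact absurd h hne
    · exact ⟨g, h⟩
  have hgn : π g ∉ π '' {w | w * x = x * w} := by
    rintro ⟨w, hw, hwg⟩
    have := (hker (w⁻¹ * g)).mp (by rw [map_mul, map_inv, hwg, inv_mul_cancel])
    have hg' : g * x * g⁻¹ = x := by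
      rcases this with e | e
      · rw [(inv_mul_eq_one.mp e).symm, hw, mul_inv_cancel_right]
      · rw [show g = w * z by rw [← e, mul_inv_cancel_left],
          show w * z * x * (w * z)⁻¹ = w * (z * x * z⁻¹) * w⁻¹ by group, hzx, mul_inv_cancel_right,
          hw, mul_inv_cancel_right]
    rw [hg] at hg'
    exact (fun h : z = 1 => by simp [h] at hz2) (mul_eq_right.mp hg')
  have hcbar : Nat.card (Subgroup.centralizer ({π x} : Set (T ⧸ Subgroup.zpowers z))) = 4 := by
    classical
    have := Fintype.ofFinite T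
    let s : Finset (T ⧸ Subgroup.zpowers z) := {1, π x, π g, π g * π x}
    have hgx : π g * π x = π x * π g := by
      rw [← map_mul, ← map_mul, ← mul_inv_eq_one, ← map_inv, ← map_mul, hker]
      right
      rw [show g * x * (x * g)⁻¹ = g * x * g⁻¹ * x⁻¹ by group, hg, mul_inv_cancel_right]
    have hset : ∀ q, q ∈ Subgroup.centralizer ({π x} : Set (T ⧸ Subgroup.zpowers z)) ↔ q ∈ s := by
      intro q
      rw [Subgroup.mem_centralizer_singleton_iff]
      constructor
      · obtain ⟨w, rfl⟩ : ∃ w, π w = q := QuotientGroup.mk'_surjective _ q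
        intro hw
        rw [← map_mul, ← map_mul, ← mul_inv_eq_one, ← map_inv, ← map_mul, hker,
          show w * x * (x * w)⁻¹ = w * x * w⁻¹ * x⁻¹ by group] at hw
        have hz1 : π z = 1 := (hker z).mpr (Or.inr rfl)
        rcases hw with h | h
        · rcases hcases w (mul_inv_eq_iff_eq_mul.mp (mul_inv_eq_one.mp h)) with e | e | e | e <;>
            rw [e] <;> simp only [s, map_one, map_mul, hz1, one_mul, Finset.mem_insert,
              Finset.mem_singleton, true_or, or_true]
        · have h' : g⁻¹ * w * x = x * (g⁻¹ * w) := by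
            have e1 : w * x * w⁻¹ = g * x * g⁻¹ := by
              rw [hg]; exact mul_inv_eq_iff_eq_mul.mp h
            calc g⁻¹ * w * x = g⁻¹ * (w * x * w⁻¹) * w := by group
              _ = g⁻¹ * (g * x * g⁻¹) * w := by rw [e1]
              _ = x * (g⁻¹ * w) := by group
          rw [show π w = π g * π (g⁻¹ * w) by rw [← map_mul, mul_inv_cancel_left]]
          rcases hcases _ h' with e | e | e | e <;> rw [e] <;> simp [s, hz1]
      · simp only [s, Finset.mem_insert, Finset.mem_singleton]
        rintro (rfl | rfl | rfl | rfl)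
        · simp
        · rfl
        · exact hgx
        · rw [mul_assoc, ← mul_assoc (π x), ← hgx, mul_assoc]
    have hs : s.card = 4 := by
      have h1 : π x ≠ 1 := fun h => by simp [h] at hxbar
      have h2 : π g ≠ 1 := fun h => hgn ⟨1, by simp, h.symm ▸ map_one π⟩
      have h3 : π g ≠ π x := fun h => hgn ⟨x, rfl, h.symm⟩
      have h5 : π g * π x ≠ 1 := fun h => hgn ⟨x⁻¹, by simp, by
        rw [map_inv, eq_inv_of_mul_eq_one_left h]⟩
      simp [s, h1, h1.symm, h2, h2.symm, h3, h3.symm, h5.symm]
    rw [Nat.card_congr (Equiv.subtypeEquivRight hset), Nat.card_eq_fintype_card, Fintype.card_coe, hs]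
  obtain ⟨νb, hidxb, hxνb⟩ := IH _ (by omega) (T ⧸ Subgroup.zpowers z) (π x) rfl (hT.to_quotient _)
    hxbar hcbar (by omega)
  obtain ⟨ν, rfl⟩ := QuotientGroup.mk'_surjective (Subgroup.zpowers z) νb
  have hxn : x ∉ Subgroup.zpowers ν := fun h => by
    obtain ⟨i, hi⟩ := Subgroup.mem_zpowers_iff.mp h
    exact hxνb (Subgroup.mem_zpowers_iff.mpr ⟨i, by rw [← map_zpow, hi]⟩)
  have hord := (Subgroup.zpowers (π ν)).card_mul_index
  rw [Nat.card_zpowers, hidxb] at hord
  set q := orderOf (π ν) with hq
  obtain ⟨j, -, hj⟩ : ∃ j, j ≤ k ∧ q = 2 ^ j := (Nat.dvd_prime_pow Nat.prime_two).mp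
    ((orderOf_dvd_natCard (π ν)).trans (show Nat.card (T ⧸ Subgroup.zpowers z) ∣ 2 ^ k from
      hk ▸ ⟨2, by rw [hcard]; ring⟩))
  have hνq : ν ^ q = 1 ∨ ν ^ q = z := (hker _).mp (by rw [map_pow, hq, pow_orderOf_eq_one])
  obtain ⟨r, rfl⟩ : ∃ r, j = r + 2 := by
    refine ⟨j - 2, ?_⟩
    rcases Nat.lt_or_ge j 2 with h | h
    · rw [hj] at hord
      interval_cases j <;> · norm_num at hord; omega
    · omega
  rcases hνq with h1 | hz'
  · exfalso
    set w := ν ^ 2 ^ (r + 1) with hw
    have hνord : orderOf ν = 2 ^ (r + 2) := by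
      refine Nat.dvd_antisymm (orderOf_dvd_of_pow_eq_one (hj ▸ h1)) ?_
      rw [← hj]
      exact orderOf_map_dvd π ν
    haveI := Subgroup.normal_of_index_eq_two hidxb
    obtain ⟨i, hi⟩ := Subgroup.mem_zpowers_iff.mp
      ((inferInstance : (Subgroup.zpowers (π ν)).Normal).conj_mem _ (Subgroup.mem_zpowers (π ν)) (π x))
    rw [← map_zpow, ← map_inv, ← map_mul, ← map_mul, eq_comm, ← inv_mul_eq_one, ← map_inv, ← map_mul,
      hker] at hi
    obtain ⟨c, hcc, hxν'⟩ : ∃ c : T, c * c = 1 ∧ ν ^ i = x * ν * x⁻¹ * c ∧ c ∈ Subgroup.center T := by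
      rcases hi with e | e
      · exact ⟨1, one_mul 1, by rw [mul_one]; exact (inv_mul_eq_one.mp e).symm, one_mem _⟩
      · exact ⟨z, hzz, by rw [← e, mul_inv_cancel_left], hzc⟩
    obtain ⟨hxν', hcC⟩ := hxν'
    have hx' : x * w * x⁻¹ = (ν ^ i) ^ (2 ^ (r + 1)) := by
      rw [hxν', Commute.mul_pow (Subgroup.mem_center_iff.mp hcC _), hw, conj_pow, pow_succ' 2 r,
        pow_mul c, pow_two, hcc, one_pow, mul_one]
    have hwne : w ≠ 1 := fun h => by
      have := orderOf_dvd_of_pow_eq_one (hw ▸ h : ν ^ 2 ^ (r + 1) = 1)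
      rw [hνord, Nat.pow_dvd_pow_iff_le_right (by norm_num)] at this
      omega
    rcases Int.even_or_odd' i with ⟨l, rfl | rfl⟩
    · refine hwne (mul_left_cancel (a := x) (mul_right_cancel (b := x⁻¹) ?_))
      rw [hx', mul_one, mul_inv_cancel, ← zpow_natCast, ← zpow_mul, ← orderOf_dvd_iff_zpow_eq_one, hνord]
      exact ⟨l, by push_cast; ring⟩
    · have hwx : x * w * x⁻¹ = w := by
        rw [hx', hw, ← zpow_natCast, ← zpow_mul, ← zpow_natCast ν, ← mul_inv_eq_one, ← zpow_sub,
          ← orderOf_dvd_iff_zpow_eq_one, hνord]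
        exact ⟨l, by push_cast; ring⟩
      have hwmem : w ∈ Subgroup.zpowers ν := Subgroup.pow_mem _ (Subgroup.mem_zpowers ν) _
      have hπw : π w ≠ 1 := fun h => by
        rw [hw, map_pow] at h
        have := orderOf_dvd_of_pow_eq_one h
        rw [show orderOf (π ν) = 2 ^ (r + 2) from hj, Nat.pow_dvd_pow_iff_le_right (by norm_num)] at this
        omega
      rcases hcases w (mul_inv_eq_iff_eq_mul.mp hwx).symm with e | e | e | e
      · exact hwne e
      · exact hπw ((hker _).mpr (Or.inr e))
      · exact hxn (e ▸ hwmem)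
      · refine hxνb (Subgroup.mem_zpowers_iff.mpr ⟨((2 ^ (r + 1) : ℕ) : ℤ), ?_⟩)
        rw [zpow_natCast, ← map_pow, ← hw, e, map_mul, (hker z).mpr (Or.inr rfl), one_mul]
  · refine ⟨ν, ?_, hxn⟩
    have hord2 : orderOf ν = 2 * q := by
      rw [hj]
      refine (orderOf_eq_prime_pow (p := 2) (n := r + 2) (x := ν) ?_ ?_).trans (pow_succ' 2 (r + 2))
      · rw [← hj, hz']; exact fun h => by simp [h] at hz2
      · rw [pow_succ, pow_mul, ← hj, hz', pow_two, hzz]
    have h := (Subgroup.zpowers ν).card_mul_index
    rw [Nat.card_zpowers, hord2, hcard, ← hord] at h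
    have hq0 : 0 < q := by rw [hj]; positivity
    exact Nat.eq_of_mul_eq_mul_left (show 0 < 2 * q by omega) (h.trans (by ring))
end Cfsg.Agent.S3224
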