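import Cfsg.Statements.S0157
import Cfsg.Agent.Lib.Char.Gallagher

set_option autoImplicit false
open Cfsg

namespace Cfsg.Agent.S0157

open CfsgLib.Char
open scoped CfsgLib.Char

/-- For a transitive action of a finite group on a finite set with at least two points: the action is 2-transitive if and only if the function sending g to (number of fixed points of g) − 1 is an irreducible character. -/
theorem result {G : Type*} [Group G] [Finite G] (X : Type*) [MulAction G X] [Finite X] [MulAction.IsPretransitive G X] (hX : 2 ≤ Nat.card X) : Cfsg.IsIrrCharacter G (fun g => (Nat.card (MulAction.fixedBy X g) : ℂ) - 1) ↔ MulAction.IsMultiplyPretransitive G X 2 := by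
  classical
  have : Fintype G := Fintype.ofFinite G
  have : Fintype X := Fintype.ofFinite X
  have : Nontrivial X := Finite.one_lt_card_iff_nontrivial.mp hX
  obtain ⟨x⟩ := (inferInstance : Nonempty X)
  set π : G → ℂ := fun g => (Nat.card (MulAction.fixedBy X g) : ℂ) with hπ
  have hπc : Cfsg.IsCharacter G π := isCharacter_perm X
  have hπ1 : Cfsg.classInner π (fun _ => (1 : ℂ)) = 1 := by
    rw [hπ, perm_eq_indFun X x, CfsgLib.Char.frobenius_reciprocity _ _ (isClassFunction_of_isCharacter isCharacter_one), classInner_irr_self isIrrCharacter_one]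
  have hnn : ∃ k : ℕ, Cfsg.classInner π π = k ∧ (k = 2 ↔ MulAction.IsMultiplyPretransitive G X 2) := by
    refine ⟨Nat.card (Quotient (MulAction.orbitRel G (X × X))), ?_, ?_⟩
    · have h := MulAction.sum_card_fixedBy_eq_card_orbits_mul_card_group G (X × X)
      have e : ∀ g : G, π g * (starRingEnd ℂ) (π g) = ((Fintype.card (MulAction.fixedBy (X × X) g) : ℕ) : ℂ) := by
        intro g
        rw [hπ, map_natCast, ← Nat.cast_mul, ← Nat.card_eq_fintype_card, ← Nat.card_prod]
        refine congrArg Nat.cast (Nat.card_congr ?_)
        exact { toFun := fun p => ⟨(p.1.1, p.2.1), Prod.ext p.1.2 p.2.2⟩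
                invFun := fun p => (⟨p.1.1, congrArg Prod.fst p.2⟩, ⟨p.1.2, congrArg Prod.snd p.2⟩)
                left_inv := fun p => rfl
                right_inv := fun p => rfl }
      show (Nat.card G : ℂ)⁻¹ * ∑ g : G, π g * (starRingEnd ℂ) (π g) = _
      rw [Finset.sum_congr rfl fun g _ => e g, ← Nat.cast_sum, h, Nat.cast_mul, Nat.card_eq_fintype_card, Nat.card_eq_fintype_card,
        mul_comm (Fintype.card _ : ℂ), inv_mul_cancel_left₀ (Nat.cast_ne_zero.mpr Fintype.card_ne_zero)]
    · let Φ : Quotient (MulAction.orbitRel G (X × X)) → Bool :=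
        Quotient.lift (fun p : X × X => decide (p.1 = p.2)) (by
          rintro a b ⟨g, rfl⟩
          simp)
      have hsurj : Function.Surjective Φ := by
        intro b
        cases b
        · obtain ⟨y, hy⟩ := exists_ne x
          exact ⟨Quotient.mk'' (x, y), decide_eq_false (Ne.symm hy)⟩
        · exact ⟨Quotient.mk'' (x, x), decide_eq_true rfl⟩
      constructor
      · intro h
        have hb := (Nat.bijective_iff_surjective_and_card Φ).mpr ⟨hsurj, by rw [h, Nat.card_eq_fintype_card, Fintype.card_bool]⟩
        rw [MulAction.is_two_pretransitive_iff]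
        intro a b c d hab hcd
        obtain ⟨g, hg⟩ := Quotient.exact (hb.1 (a₁ := Quotient.mk'' (c, d)) (a₂ := Quotient.mk'' (a, b))
          ((decide_eq_false hcd).trans (decide_eq_false hab).symm))
        exact ⟨g, congrArg Prod.fst hg, congrArg Prod.snd hg⟩
      · intro h
        rw [MulAction.is_two_pretransitive_iff] at h
        have hinj : Function.Injective Φ := by
          rintro ⟨a, b⟩ ⟨c, d⟩ e
          apply Quotient.sound
          have e' : decide (a = b) = decide (c = d) := e
          by_cases hcd : c = d
          · subst hcd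
            obtain rfl : a = b := of_decide_eq_true (e'.trans (decide_eq_true rfl))
            obtain ⟨g, hg⟩ := MulAction.exists_smul_eq G c a
            exact ⟨g, by simp [hg]⟩
          · have hab : a ≠ b := of_decide_eq_false (e'.trans (decide_eq_false hcd))
            obtain ⟨g, h1, h2⟩ := h hcd hab
            exact ⟨g, Prod.ext h1 h2⟩
        rw [Nat.card_eq_of_bijective Φ ⟨hinj, hsurj⟩, Nat.card_eq_fintype_card, Fintype.card_bool]
  obtain ⟨k, hk, hk2⟩ := hnn
  rw [← hk2]
  have e : (fun g => (Nat.card (MulAction.fixedBy X g) : ℂ) - 1) = π - fun _ => (1 : ℂ) := rfl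
  rw [e]
  have hnorm : Cfsg.classInner (π - fun _ => (1 : ℂ)) (π - fun _ => (1 : ℂ)) = (k : ℂ) - 1 := by
    rw [classInner_sub_left, classInner_sub_right, classInner_sub_right, hk, hπ1, classInner_irr_self isIrrCharacter_one, ← classInner_conj_symm π (fun _ => (1 : ℂ)), hπ1, map_one]
    ring
  constructor
  · intro h
    have := classInner_irr_self h
    rw [hnorm, sub_eq_iff_eq_add] at this
    exact_mod_cast (this.trans (by norm_num : (1 : ℂ) + 1 = (2 : ℕ)))
  · intro h
    refine isIrr_of_norm_one ?_ (by rw [hnorm, h]; norm_num)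
    rw [isCharacter_iff_classInner (isClassFunction_of_isGeneralized (isGeneralized_sub (isGeneralized_of_isCharacter hπc) isGeneralized_one))]
    intro ψ
    rw [classInner_sub_left]
    by_cases hψ : (fun _ => (1 : ℂ)) = (ψ : G → ℂ)
    · refine ⟨0, ?_⟩
      rw [← hψ, hπ1, classInner_irr_self isIrrCharacter_one, sub_self, Nat.cast_zero]
    · obtain ⟨m, hm⟩ := exists_nat_classInner hπc (isCharacter_of_isIrr ψ.2)
      exact ⟨m, by rw [hm, classInner_irr_ne isIrrCharacter_one ψ.2 hψ, sub_zero]⟩

end Cfsg.Agent.S0157
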