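import Cfsg.Statements.S1013
import Mathlib

set_option autoImplicit false
open Cfsg

namespace Cfsg.Agent.S1013

/-- Let G be a transitive permutation group of prime degree p having more than one Sylow p-subgroup, and suppose a Sylow p-subgroup P has prime index in its normalizer. Then G is simple. -/
theorem result {α : Type*} [Fintype α] [DecidableEq α] {p : ℕ} [Fact p.Prime] (hα : Fintype.card α = p) (G : Subgroup (Equiv.Perm α)) [MulAction.IsPretransitive ↥G α] (P : Sylow p ↥G) (hn : 1 < Nat.card (Sylow p ↥G)) (ht : (((P : Subgroup ↥G).subgroupOf (Subgroup.normalizer ((P : Subgroup ↥G) : Set ↥G))).index).Prime) : IsSimpleGroup ↥G := by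
  classical
  have hp : p.Prime := Fact.out
  have hpc : p ∣ Nat.card ↥G := by
    obtain ⟨a⟩ : Nonempty α := Fintype.card_pos_iff.mp (by have := hp.pos; omega)
    rw [← (MulAction.stabilizer ↥G a).card_mul_index, MulAction.index_stabilizer_of_transitive,
      Nat.card_eq_fintype_card (α := α), hα]
    exact dvd_mul_left p _
  have hPc : Nat.card (P : Subgroup ↥G) = p := by
    have hd : Nat.card (P : Subgroup ↥G) ∣ p.factorial := by
      refine (Subgroup.card_subgroup_dvd_card _).trans ((Subgroup.card_subgroup_dvd_card G).trans ?_)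
      rw [Nat.card_perm, Nat.card_eq_fintype_card, hα]
    obtain ⟨k, hk⟩ := P.2.exists_card_eq
    have hk1 : 1 ≤ k := by
      by_contra h
      exact P.ne_bot_of_dvd_card hpc (Subgroup.card_eq_one.mp (by rw [hk, show k = 0 by omega, pow_zero]))
    have hk2 : k ≤ 1 := by
      by_contra h
      have h2 : p * p ∣ p * (p - 1).factorial := by
        rw [Nat.mul_factorial_pred hp.ne_zero, ← pow_two]
        exact (pow_dvd_pow p (by omega)).trans (hk ▸ hd)
      have := hp.dvd_factorial.mp ((Nat.mul_dvd_mul_iff_left hp.pos).mp h2)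
      have := hp.pos
      omega
    rw [hk, show k = 1 by omega, pow_one]
  -- a nontrivial normal subgroup has order divisible by `p`
  have hnorm : ∀ K : Subgroup ↥G, K.Normal → K ≠ ⊥ → p ∣ Nat.card K := by
    intro K hK hKne
    obtain ⟨k, hk, hk1⟩ := (Subgroup.ne_bot_iff_exists_ne_one).mp hKne |> fun ⟨k, hk⟩ => (⟨k.1, k.2, fun e => hk (Subtype.ext e)⟩ : ∃ k, k ∈ K ∧ k ≠ 1)
    obtain ⟨a, ha⟩ : ∃ a : α, (k : ↥G) • a ≠ a := by
      by_contra hcon
      push_neg at hcon
      exact hk1 (Subtype.ext (Equiv.Perm.ext hcon))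
    have hB : MulAction.IsBlock ↥G (MulAction.orbit K a) := MulAction.IsBlock.orbit_of_normal (N := K) a
    have hd := hB.ncard_dvd_card ⟨a, MulAction.mem_orbit_self a⟩
    rw [Nat.card_eq_fintype_card, hα] at hd
    rcases (Nat.dvd_prime hp).mp hd with h | h
    · exfalso
      obtain ⟨b, hb⟩ := Set.ncard_eq_one.mp h
      have h1 : a ∈ ({b} : Set α) := hb ▸ MulAction.mem_orbit_self a
      have h2 : (k : ↥G) • a ∈ ({b} : Set α) := hb ▸ (⟨⟨k, hk⟩, rfl⟩ : (k : ↥G) • a ∈ MulAction.orbit K a)
      rw [Set.mem_singleton_iff] at h1 h2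
      exact ha (h2.trans h1.symm)
    · rw [← (MulAction.stabilizer K a).card_mul_index, MulAction.index_stabilizer, h]
      exact dvd_mul_left p _
  refine @IsSimpleGroup.mk _ _ ?_ fun K hK => ?_
  · by_contra hnt
    rw [not_nontrivial_iff_subsingleton] at hnt
    have : Subsingleton (Sylow p ↥G) := ⟨fun _ _ => Sylow.ext (Subsingleton.elim _ _)⟩
    have := Finite.card_le_one_iff_subsingleton.mpr this
    omega
  rcases eq_or_ne K ⊥ with h | hKne
  · exact Or.inl h
  right
  have hpK := hnorm K hK hKne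
  obtain ⟨b, hb⟩ := exists_prime_orderOf_dvd_card' p hpK
  have hbz : IsPGroup p (Subgroup.zpowers (b : ↥G)) :=
    IsPGroup.of_card (n := 1) (by rw [Nat.card_zpowers, Subgroup.orderOf_coe, hb, pow_one])
  obtain ⟨S, hS⟩ := hbz.exists_le_sylow
  have hSeq : Subgroup.zpowers (b : ↥G) = (S : Subgroup ↥G) := Subgroup.eq_of_le_of_card_ge hS
    (by rw [Nat.card_zpowers, Subgroup.orderOf_coe, hb, (Nat.card_congr (S.equiv P).toEquiv).trans hPc])
  have hSK : (S : Subgroup ↥G) ≤ K := hSeq ▸ Subgroup.zpowers_le.mpr b.2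
  have hPK : (P : Subgroup ↥G) ≤ K := by
    obtain ⟨g, hg⟩ := MulAction.exists_smul_eq ↥G S P
    rw [← hg]
    rintro _ ⟨c, hc, rfl⟩
    exact hK.conj_mem c (hSK hc) g
  set N := Subgroup.normalizer ((P : Subgroup ↥G) : Set ↥G) with hN
  have hfr : N ⊔ K = ⊤ := Sylow.normalizer_sup_eq_top' P hPK
  -- `K ∩ N` is `P` or `N`
  have hd : (K.subgroupOf N).index ∣ ((P : Subgroup ↥G).subgroupOf N).index :=
    Subgroup.index_dvd_of_le fun c hc => hPK hc
  rcases (Nat.dvd_prime ht).mp hd with h | h
  · rw [Subgroup.index_eq_one, Subgroup.subgroupOf_eq_top] at h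
    rwa [sup_eq_right.mpr h] at hfr
  · exfalso
    have hKN : K.subgroupOf N = (P : Subgroup ↥G).subgroupOf N := by
      have hle : (P : Subgroup ↥G).subgroupOf N ≤ K.subgroupOf N := fun c hc => hPK hc
      refine (Subgroup.eq_of_le_of_card_ge hle (le_of_eq ?_)).symm
      have e1 := (K.subgroupOf N).card_mul_index
      rw [h, ← ((P : Subgroup ↥G).subgroupOf N).card_mul_index] at e1
      exact Nat.eq_of_mul_eq_mul_right (Nat.pos_of_ne_zero Subgroup.index_ne_zero_of_finite) e1
    -- so `P` is central in its normalizer in `K`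
    let P' : Sylow p K := P.subtype hPK
    have hcen : Subgroup.normalizer ((P' : Subgroup K) : Set K) ≤
        Subgroup.centralizer ((P' : Subgroup K) : Set K) := by
      intro c hc
      have hcN : (c : ↥G) ∈ N := by
        refine Subgroup.mem_normalizer_iff.mpr fun n => ?_
        constructor
        · intro hn
          exact (Subgroup.mem_normalizer_iff.mp hc ⟨n, hPK hn⟩).mp hn
        · intro hn
          have hnK : n ∈ K := by
            have := mul_mem (mul_mem (inv_mem c.2) (hPK hn)) c.2
            simpa [mul_assoc] using this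
          exact (Subgroup.mem_normalizer_iff.mp hc ⟨n, hnK⟩).mpr hn
      have hcP : (c : ↥G) ∈ (P : Subgroup ↥G) := by
        have : (⟨c, hcN⟩ : N) ∈ K.subgroupOf N := c.2
        rw [hKN] at this
        exact this
      have hcyc : IsCyclic (P : Subgroup ↥G) := isCyclic_of_prime_card hPc
      intro d hd'
      have h' : (⟨d.1, hd'⟩ : (P : Subgroup ↥G)) * ⟨c.1, hcP⟩ = ⟨c.1, hcP⟩ * ⟨d.1, hd'⟩ :=
        IsMulCommutative.is_comm.comm _ _
      apply Subtype.ext
      simpa using congrArg Subtype.val h'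
    set L := (MonoidHom.transferSylow P' hcen).ker with hL
    have hcompl := MonoidHom.ker_transferSylow_isComplement' P' hcen
    have hLp : ¬ p ∣ Nat.card L := MonoidHom.not_dvd_card_ker_transferSylow P' hcen
    -- `L` is the set of elements of order prime to `p`, hence characteristic
    have hmem : ∀ c : K, c ∈ L ↔ ¬ p ∣ orderOf c := by
      intro c
      refine ⟨fun hcL h => hLp (h.trans ?_), fun h => ?_⟩
      · rw [← Subgroup.orderOf_mk c hcL]
        exact orderOf_dvd_natCard _
      · have h1 : orderOf (QuotientGroup.mk c : K ⧸ L) ∣ orderOf c :=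
          orderOf_map_dvd (QuotientGroup.mk' L) c
        have h2 : orderOf (QuotientGroup.mk c : K ⧸ L) ∣ p := by
          refine (orderOf_dvd_natCard _).trans (dvd_of_eq ?_)
          rw [← Subgroup.index_eq_card, hcompl.symm.index_eq_card]
          exact (Nat.card_congr (Subgroup.subgroupOfEquivOfLe hPK).toEquiv).trans hPc
        rcases (Nat.dvd_prime hp).mp h2 with e | e
        · exact (QuotientGroup.eq_one_iff c).mp (orderOf_eq_one_iff.mp e)
        · exact absurd (e ▸ h1) h
    have hLn : (L.map K.subtype).Normal := by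
      refine ⟨?_⟩
      rintro _ ⟨c, hc, rfl⟩ g
      refine ⟨⟨g * c * g⁻¹, hK.conj_mem _ c.2 g⟩, ?_, rfl⟩
      show _ ∈ L
      rw [hmem, ← Subgroup.orderOf_coe, show ((⟨g * c * g⁻¹, hK.conj_mem _ c.2 g⟩ : K) : ↥G) = MulAut.conj g (c : ↥G) from rfl,
        MulEquiv.orderOf_eq, Subgroup.orderOf_coe]
      exact (hmem c).mp hc
    have hLbot : L = ⊥ := by
      by_contra hne
      apply hLp
      rw [Nat.card_congr (L.equivMapOfInjective _ K.subtype_injective).toEquiv]
      exact hnorm _ hLn fun e => hne ((Subgroup.map_eq_bot_iff_of_injective _ K.subtype_injective).mp e)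
    rw [← hL, hLbot, Subgroup.isComplement'_bot_left] at hcompl
    have hKP : K = (P : Subgroup ↥G) :=
      le_antisymm (Subgroup.subgroupOf_eq_top.mp hcompl) hPK
    have hPn : (P : Subgroup ↥G).Normal := hKP ▸ hK
    have := Sylow.unique_of_normal P hPn
    rw [Nat.card_unique] at hn
    omega

end Cfsg.Agent.S1013
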