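import Cfsg.Statements.S4706
import Cfsg.Agent.Lib.Perm.PrimeDihedral
import Cfsg.Agent.S0494
import Cfsg.Agent.Lib.BrauerReynolds.EvenGeom
import Cfsg.Agent.Lib.Classical.Card
import Cfsg.Agent.Lib.Classical.Transvection
import Mathlib.FieldTheory.Finite.GaloisField

set_option autoImplicit false
open Cfsg

namespace Cfsg.Agent.S4706

/-- Let p > 2 be a prime and G a permutation group on p letters whose Sylow p-subgroup P has normalizer of order 2p. Then either P is normal in G, or p − 1 = 2^a for some a and G is isomorphic to SL(2, 2^a). -/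
theorem result {α : Type*} [Fintype α] [DecidableEq α] {p : ℕ} [Fact p.Prime] (hp : 2 < p) (hα : Fintype.card α = p) (G : Subgroup (Equiv.Perm α)) (P : Sylow p G) (hN : Nat.card (Subgroup.normalizer ((P : Subgroup G) : Set G)) = 2 * p) : (P : Subgroup G).Normal ∨ ∃ (a : ℕ) (F : Type) (_ : Field F) (_ : Fintype F), p = 2 ^ a + 1 ∧ Fintype.card F = 2 ^ a ∧ Nonempty (G ≃* Matrix.SpecialLinearGroup (Fin 2) F) := by
  classical
  have hpP : p.Prime := Fact.out
  refine or_iff_not_imp_left.mpr fun hnn => ?_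
  have hP : Nat.card (P : Subgroup G) = p := by
    have hfac : (Nat.card G).factorization p ≤ 1 := by
      by_contra hc
      have hd : p ^ 2 ∣ p.factorial := by
        refine ((pow_dvd_pow p (show 2 ≤ (Nat.card G).factorization p by omega)).trans (Nat.ordProj_dvd _ _)).trans ?_
        have := Subgroup.card_subgroup_dvd_card G
        rwa [Nat.card_perm, Nat.card_eq_fintype_card (α := α), hα] at this
      rw [← Nat.mul_factorial_pred hpP.pos.ne', sq] at hd
      have h3 := Nat.dvd_of_mul_dvd_mul_left hpP.pos hd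
      exact absurd (hpP.dvd_factorial.1 h3) (by have := hpP.pos; omega)
    rw [P.card_eq_multiplicity]
    rcases Nat.le_one_iff_eq_zero_or_eq_one.mp hfac with h | h
    · exfalso
      apply hnn
      have : Nat.card (P : Subgroup G) = 1 := by rw [P.card_eq_multiplicity, h, pow_zero]
      rw [Subgroup.card_eq_one.mp this]
      infer_instance
    · rw [h, pow_one]
  set N := Subgroup.normalizer ((P : Subgroup G) : Set G) with hNdef
  obtain ⟨z, hz⟩ := exists_prime_orderOf_dvd_card' (G := (P : Subgroup G)) p (dvd_of_eq hP.symm)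
  have hzo : orderOf ((z : G) : Equiv.Perm α) = p := by rw [Subgroup.orderOf_coe, Subgroup.orderOf_coe, hz]
  obtain ⟨hcyc, hfree⟩ := CfsgLib.PrimeDihedral.isCycle_of_orderOf hα hzo
  haveI : MulAction.IsPretransitive G α := ⟨fun x y => by
    obtain ⟨k, hk⟩ := hcyc.sameCycle (hfree x) (hfree y)
    refine ⟨(z : G) ^ k, ?_⟩
    show (((z : G) ^ k : G) : Equiv.Perm α) x = y
    rw [Subgroup.coe_zpow]; exact hk⟩
  have hidxN : ((P : Subgroup G).subgroupOf N).index = 2 := by
    have h := ((P : Subgroup G).subgroupOf N).card_mul_index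
    rw [Nat.card_congr (Subgroup.subgroupOfEquivOfLe (Subgroup.le_normalizer)).toEquiv, hP, hN,
      mul_comm 2 p] at h
    exact Nat.eq_of_mul_eq_mul_left hpP.pos h
  have hnp : 1 < Nat.card (Sylow p G) := by
    have h0 : Nat.card (Sylow p G) ≠ 1 := fun h => hnn (Subgroup.normalizer_eq_top_iff.mp
      (Subgroup.index_eq_one.mp (P.card_eq_index_normalizer.symm.trans h)))
    have : 0 < Nat.card (Sylow p G) := Nat.card_pos
    omega
  haveI hsimple := Cfsg.Agent.S1013.result hα G P hnp (by rw [hidxN]; exact Nat.prime_two)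
  have hcard : Nat.card G = Nat.card (Sylow p G) * (2 * p) := by
    rw [← N.card_mul_index, P.card_eq_index_normalizer, hN, mul_comm]
    rfl
  have hnc : ¬ IsMulCommutative G := fun h => hnn ⟨fun a ha g => by
    rw [h.is_comm.comm g a, mul_inv_cancel_right]; exact ha⟩
  have hG : ¬ IsCyclic G := fun h => hnc (by
    haveI := h
    exact ⟨⟨fun a b => (IsCyclic.commGroup (α := G)).mul_comm a b⟩⟩)
  have hp5 : 5 ≤ p := by
    by_contra h
    have h3 : p = 3 := by
      have : p ≠ 4 := fun e => by rw [e] at hpP; norm_num at hpP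
      omega
    have hle := Nat.le_of_dvd (Nat.factorial_pos p) (show Nat.card G ∣ p.factorial by
      have := Subgroup.card_subgroup_dvd_card G
      rwa [Nat.card_perm, Nat.card_eq_fintype_card (α := α), hα] at this)
    rw [hcard] at hle
    subst h3
    rw [show Nat.factorial 3 = 6 from rfl] at hle
    omega
  have h2 : MulAction.IsMultiplyPretransitive G α 2 :=
    (Cfsg.Agent.S0675.result (by rw [hα]; exact hpP) G).resolve_left fun hs =>
      hnc ⟨⟨fun a b => (IsSimpleGroup.comm_iff_isSolvable.mpr hs) a b⟩⟩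
  have hdvd : p ∣ Nat.card G := hP ▸ Subgroup.card_subgroup_dvd_card (P : Subgroup G)
  rcases Cfsg.Agent.S0999.result hG p hpP hdvd
    (CfsgLib.PrimeDihedral.card_lt_cube hα hp5 G P hP hN hG h2) with
    ⟨F, _, _, hF, hp3, ⟨e⟩⟩ | ⟨m, F, _, _, hF, hpm, hp3, ⟨e⟩⟩
  · -- only `p = 5` remains
    have h := CfsgLib.Classical.card_PSL_two (F := F)
    rw [hF, ← Nat.card_congr e.toEquiv, hcard, show Nat.gcd 2 (p - 1) = 2 from Nat.gcd_eq_left (by
      obtain ⟨k, hk⟩ := hpP.odd_of_ne_two (by omega)
      exact ⟨k, by omega⟩)] at h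
    have hmod := card_sylow_modEq_one p G
    set n := Nat.card (Sylow p G) with hn
    have h4 : 4 * n + 1 = p ^ 2 := by
      have hpos : 1 ≤ p ^ 2 := Nat.one_le_pow _ _ hpP.pos
      have : 4 * n = p ^ 2 - 1 := Nat.eq_of_mul_eq_mul_left hpP.pos (by rw [← h]; ring)
      omega
    obtain ⟨k, hk⟩ : ∃ k, n = p * k + 1 := ⟨n / p, by
      rw [Nat.ModEq, Nat.mod_eq_of_lt hpP.one_lt] at hmod
      conv_lhs => rw [← Nat.div_add_mod n p, hmod]⟩
    have hp5' : p = 5 := by
      have hd : p ∣ 5 := (Nat.dvd_add_right (dvd_mul_right p (4 * k))).mp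
        (show p ∣ p * (4 * k) + 5 by rw [show p * (4 * k) + 5 = p ^ 2 by rw [← h4, hk]; ring, sq]; exact dvd_mul_left p p)
      exact (Nat.prime_dvd_prime_iff_eq hpP (by norm_num)).mp hd
    subst hp5'
    have hn6 : n = 6 := by omega
    have h60 : Nat.card G = 60 := by rw [hcard, hn6]
    obtain ⟨eA⟩ := Cfsg.Agent.S0494.result h60
    letI : Fintype (GaloisField 2 2) := Fintype.ofFinite _
    have hK : Fintype.card (GaloisField 2 2) = 4 := by
      rw [← Nat.card_eq_fintype_card, GaloisField.card 2 2 two_ne_zero]; norm_num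
    obtain ⟨x, hx⟩ : ∃ x : GaloisField 2 2, x ≠ 0 ∧ x ≠ 1 := by
      by_contra hc
      push Not at hc
      have hle2 : (Finset.univ : Finset (GaloisField 2 2)) ⊆ {0, 1} := fun y _ => by
        by_cases hy : y = 0
        · simp [hy]
        · simp [hc y hy]
      have := Finset.card_le_card hle2
      rw [Finset.card_univ, hK] at this
      have h2' := Finset.card_le_two (a := (0 : GaloisField 2 2)) (b := 1)
      omega
    haveI := CfsgLib.Classical.isSimpleGroup_PSL (F := GaloisField 2 2) (ι := Fin 2) (Or.inr ⟨x, hx.1, fun h1 => hx.2 (by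
      have : (x - 1) ^ 2 = 0 := by rw [sub_pow_char, h1, one_pow, sub_self]
      exact sub_eq_zero.mp ((pow_eq_zero_iff (by norm_num)).mp this))⟩)
    have hc60 : Nat.card (Matrix.ProjectiveSpecialLinearGroup (Fin 2) (GaloisField 2 2)) = 60 := by
      have := CfsgLib.Classical.card_PSL_two (F := GaloisField 2 2)
      rw [hK] at this
      norm_num at this
      rwa [Nat.card_eq_fintype_card]
    obtain ⟨eK⟩ := Cfsg.Agent.S0494.result hc60
    exact ⟨2, GaloisField 2 2, inferInstance, inferInstance, by norm_num, by rw [hK]; norm_num,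
      ⟨(eA.trans eK.symm).trans ((QuotientGroup.quotientMulEquivOfEq
        CfsgLib.BrauerReynolds.center_SL_two_of_char_two).trans QuotientGroup.quotientBot)⟩⟩
  · have hm : m ≠ 0 := fun h => by rw [h, pow_zero] at hpm; omega
    haveI : CharP F 2 := by
      obtain ⟨q, hq⟩ := CharP.exists F
      obtain ⟨k, hq', hk⟩ := FiniteField.card F q
      rw [hF] at hk
      have hq2 : q = 2 := by
        have : q ∣ 2 ^ m := hk ▸ dvd_pow_self q k.pos.ne'
        exact (Nat.prime_dvd_prime_iff_eq hq' Nat.prime_two).mp (hq'.dvd_of_dvd_pow this)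
      exact hq2 ▸ hq
    exact ⟨m, F, inferInstance, inferInstance, hpm, hF, ⟨e.trans ((QuotientGroup.quotientMulEquivOfEq
      CfsgLib.BrauerReynolds.center_SL_two_of_char_two).trans QuotientGroup.quotientBot)⟩⟩

end Cfsg.Agent.S4706
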