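import Cfsg.Statements.S0226
import Mathlib

set_option autoImplicit false
open Cfsg

namespace Cfsg.Agent.S0226

/-- A finite group of even order has an odd number of involutions. -/
theorem result {G : Type*} [Group G] [Finite G] (heven : Even (Nat.card G)) : Odd (Nat.card {t : G // orderOf t = 2}) := by
  classical
  haveI := Fintype.ofFinite G
  have hinv : ((fun g : G => g⁻¹)^[2 ^ 1]) = id := by funext g; simp
  have h := Equiv.Perm.card_fixedPoints_modEq (p := 2) (n := 1) (f := fun g : G => g⁻¹) hinv
  have hfix : Nat.card {g : G // g⁻¹ = g} = Nat.card {t : G // orderOf t = 2} + 1 := by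
    rw [Nat.card_eq_fintype_card, Nat.card_eq_fintype_card, Fintype.card_subtype, Fintype.card_subtype]
    have hins : Finset.univ.filter (fun g : G => g⁻¹ = g) =
        insert 1 (Finset.univ.filter (fun t : G => orderOf t = 2)) := by
      ext g
      simp only [Finset.mem_insert, Finset.mem_filter, Finset.mem_univ, true_and]
      constructor
      · intro hg
        by_cases h1 : g = 1
        · exact Or.inl h1
        · refine Or.inr (orderOf_eq_prime ?_ h1)
          rw [pow_two]
          calc g * g = g⁻¹ * g := by rw [hg]
            _ = 1 := inv_mul_cancel g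
      · rintro (rfl | hg)
        · exact inv_one
        · refine inv_eq_of_mul_eq_one_right ?_
          rw [← pow_two, ← hg, pow_orderOf_eq_one]
    rw [hins, Finset.card_insert_of_notMem (by simp)]
  have h' : Nat.card G ≡ Nat.card {g : G // g⁻¹ = g} [MOD 2] := by
    rw [Nat.card_eq_fintype_card, Nat.card_eq_fintype_card, Fintype.card_subtype]
    convert h using 2
    rw [← Fintype.card_subtype]
    rfl
  rw [hfix] at h'
  obtain ⟨a, ha⟩ := heven
  rw [Nat.ModEq] at h'
  rw [Nat.odd_iff]
  omega

end Cfsg.Agent.S0226
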