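import Cfsg.Statements.S0948
import Cfsg.Agent.Lib.Invol.KleinBlock

set_option autoImplicit false
open Cfsg

namespace Cfsg.Agent.S0948

/-- Let the finite group G have a Sylow 2-subgroup P that is a Klein four-group, suppose all involutions of G are conjugate, and fix a maximal ideal M of the algebraic integers containing 2. Then the principal block consists of exactly four irreducible characters, the principal character and ζ₂, ζ₃, ζ₄, and there is a sign ε such that for every involution z: ζ₂ z = 1, ζ₃ z = ε, ζ₄ z = -1; moreover ζ₂ 1 ≡ 1, ζ₃ 1 ≡ ε, ζ₄ 1 ≡ -1 (mod 4), and 1 + ζ₂ y + ε ζ₃ y - ζ₄ y = 0 for every y of odd order. -/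
theorem result {G : Type*} [Group G] [Finite G] (M : Ideal Cfsg.AlgInt) (hM : Cfsg.IsPModular 2 M) (P : Sylow 2 G) (hP : IsKleinFour (P : Subgroup G)) (hone : ∀ s t : G, orderOf s = 2 → orderOf t = 2 → IsConj s t) : ∃ ζ₂ ζ₃ ζ₄ : Cfsg.IrrCharacter G, ∃ ε : ℤ, (ε = 1 ∨ ε = -1) ∧ (ζ₂ : G → ℂ) ≠ (fun _ => 1) ∧ (ζ₃ : G → ℂ) ≠ (fun _ => 1) ∧ ζ₂ ≠ ζ₃ ∧ ζ₂ ≠ ζ₄ ∧ ζ₃ ≠ ζ₄ ∧ Cfsg.principalBlock M G = {χ : Cfsg.IrrCharacter G | (χ : G → ℂ) = (fun _ => 1) ∨ χ = ζ₂ ∨ χ = ζ₃ ∨ χ = ζ₄} ∧ (∀ z : G, orderOf z = 2 → (ζ₂ : G → ℂ) z = 1 ∧ (ζ₃ : G → ℂ) z = (ε : ℂ) ∧ (ζ₄ : G → ℂ) z = -1) ∧ (4 : ℤ) ∣ (Cfsg.charDegree (ζ₂ : G → ℂ) : ℤ) - 1 ∧ (4 : ℤ) ∣ (Cfsg.charDegree (ζ₃ : G → ℂ) : ℤ) - ε ∧ (4 : ℤ) ∣ (Cfsg.charDegree (ζ₄ : G → ℂ) : ℤ) + 1 ∧ ∀ y : G, Odd (orderOf y) → 1 + (ζ₂ : G → ℂ) y + (ε : ℂ) * (ζ₃ : G → ℂ) y - (ζ₄ : G → ℂ) y = 0 := by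
  classical
  have := Fintype.ofFinite G
  obtain ⟨Z, a, hcard, hmem, hT, hT1, hpm, hcong, hval, hrel⟩ :=
    CfsgLib.Invol.klein_block hM P hP hone
  set t := CfsgLib.Blocks.trivIrr G with ht
  have hrest : (Z.erase t).card = 3 := by rw [Finset.card_erase_of_mem hT, hcard]
  obtain ⟨p, q, r, hpq, hpr, hqr, he⟩ := Finset.card_eq_three.mp hrest
  -- at the identity the relation forces both signs
  have hd := hrel 1 (by simp)
  rw [← Finset.add_sum_erase Z _ hT, hT1, Int.cast_one, one_mul,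
    show (t : G → ℂ) 1 = 1 from rfl] at hd
  simp only [(CfsgLib.Blocks.irr_degree_eq _).1] at hd
  have hd' : (1 : ℤ) + ∑ χ ∈ Z.erase t, a χ * (Cfsg.charDegree (χ : G → ℂ) : ℤ) = 0 := by
    exact_mod_cast hd
  obtain ⟨u, hu, hu1⟩ : ∃ u ∈ Z.erase t, a u = 1 := by
    by_contra h
    push Not at h
    have hneg : ∀ χ ∈ Z.erase t, a χ * (Cfsg.charDegree (χ : G → ℂ) : ℤ) ≤ -1 := fun χ hχ => by
      rw [(hpm χ (Finset.mem_of_mem_erase hχ)).resolve_left (h χ hχ)]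
      have := (CfsgLib.Blocks.irr_degree_eq χ).2
      omega
    have hle := Finset.sum_le_card_nsmul _ _ _ hneg
    rw [hrest] at hle
    norm_num at hle
    omega
  obtain ⟨v, hv, hv1⟩ : ∃ v ∈ Z.erase t, a v = -1 := by
    by_contra h
    push Not at h
    have hpos : ∀ χ ∈ Z.erase t, 0 ≤ a χ * (Cfsg.charDegree (χ : G → ℂ) : ℤ) := fun χ hχ => by
      rw [(hpm χ (Finset.mem_of_mem_erase hχ)).resolve_right (h χ hχ)]
      omega
    have := Finset.sum_nonneg hpos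
    omega
  have huv : u ≠ v := fun h => by rw [h, hv1] at hu1; omega
  have hv' : v ∈ (Z.erase t).erase u := Finset.mem_erase.mpr ⟨huv.symm, hv⟩
  obtain ⟨w, hw⟩ := Finset.card_eq_one.mp (show (((Z.erase t).erase u).erase v).card = 1 by
    rw [Finset.card_erase_of_mem hv', Finset.card_erase_of_mem hu, hrest])
  have hw' : w ∈ ((Z.erase t).erase u).erase v := hw ▸ Finset.mem_singleton_self w
  simp only [Finset.mem_erase] at hw'
  have hne : ∀ χ ∈ Z.erase t, (χ : G → ℂ) ≠ fun _ => 1 := fun χ hχ h =>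
    (Finset.mem_erase.mp hχ).1 (Subtype.ext h)
  have hwmem : w ∈ Z.erase t := Finset.mem_erase.mpr ⟨hw'.2.2.1, hw'.2.2.2⟩
  have huZ := Finset.mem_of_mem_erase hu
  have hvZ := Finset.mem_of_mem_erase hv
  refine ⟨u, w, v, a w, hpm w hw'.2.2.2, hne u hu, hne w hwmem, fun h => hw'.2.1 h.symm, huv,
    hw'.1, ?_, fun z hz => ?_, ?_, ?_, ?_, fun y hy => ?_⟩
  · ext χ
    rw [← hmem]
    simp only [Set.mem_ofPred_eq]
    constructor
    · intro hχ
      by_cases h1 : χ = t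
      · exact Or.inl (by rw [h1]; rfl)
      by_cases h2 : χ = u
      · exact Or.inr (Or.inl h2)
      by_cases h3 : χ = v
      · exact Or.inr (Or.inr (Or.inr h3))
      · refine Or.inr (Or.inr (Or.inl ?_))
        have : χ ∈ ((Z.erase t).erase u).erase v := by simp [h1, h2, h3, hχ]
        rw [hw] at this
        exact Finset.mem_singleton.mp this
    · rintro (h | rfl | rfl | rfl)
      · exact (show χ = t from Subtype.ext h) ▸ hT
      · exact huZ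
      · exact hw'.2.2.2
      · exact hvZ
  · have h2 : 2 ∣ orderOf z := by rw [hz]
    refine ⟨?_, hval w hw'.2.2.2 z h2, ?_⟩
    · rw [hval u huZ z h2, hu1, Int.cast_one]
    · rw [hval v hvZ z h2, hv1, Int.cast_neg, Int.cast_one]
  · simpa [hu1] using hcong u huZ
  · exact hcong w hw'.2.2.2
  · simpa [hv1] using hcong v hvZ
  · have h := hrel y (fun h => Nat.not_even_iff_odd.mpr hy (even_iff_two_dvd.mpr h))
    rw [← Finset.add_sum_erase Z _ hT, ← Finset.add_sum_erase _ _ hu,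
      ← Finset.add_sum_erase _ _ hv', hw, Finset.sum_singleton, hT1, hu1, hv1,
      show (t : G → ℂ) y = 1 from rfl] at h
    push_cast at h
    linear_combination h
end Cfsg.Agent.S0948
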