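import Cfsg.Statements.S4479
import Cfsg.Agent.Lib.Invol.KleinCount

set_option autoImplicit false
open Cfsg
open scoped CfsgLib.Char

namespace Cfsg.Agent.S4479

/-- An order formula from the principal 2-block. Let G be a finite group of order 4·g₀ with g₀ odd having no normal 2-complement (no normal subgroup of order g₀); let P be a Sylow 2-subgroup, J an involution of P, and fix a maximal ideal M of the algebraic integers containing 2. Suppose the principal 2-block consists of the principal character and three further distinct characters χ₁, χ₂, χ₃ of degrees x₁, x₂, x₃, with χ_i(J) = ε_i = ±1. Then, writing c(J) and c(P) for the orders of the centralizers of J and of P, the order of G equals 8·α·c(J)³/c(P)² with α = x₁x₂x₃ / ((x₁ + ε₁)(x₂ + ε₂)(x₃ + ε₃)). -/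
theorem result {G : Type*} [Group G] [Finite G] (M : Ideal Cfsg.AlgInt) (hM : Cfsg.IsPModular 2 M) (g₀ : ℕ) (hg₀ : Odd g₀) (hG : Nat.card G = 4 * g₀) (hnc : ¬ ∃ N : Subgroup G, N.Normal ∧ Nat.card N = g₀) (P : Sylow 2 G) (J : G) (hJ : J ∈ (P : Subgroup G)) (hJ2 : orderOf J = 2) (χ₁ χ₂ χ₃ : Cfsg.IrrCharacter G) (ε₁ ε₂ ε₃ : ℤ) (hB : Cfsg.principalBlock M G = {χ : Cfsg.IrrCharacter G | (χ : G → ℂ) = (fun _ => 1) ∨ χ = χ₁ ∨ χ = χ₂ ∨ χ = χ₃}) (hdist : (χ₁ : G → ℂ) ≠ (fun _ => 1) ∧ (χ₂ : G → ℂ) ≠ (fun _ => 1) ∧ (χ₃ : G → ℂ) ≠ (fun _ => 1) ∧ χ₁ ≠ χ₂ ∧ χ₁ ≠ χ₃ ∧ χ₂ ≠ χ₃) (hε : (ε₁ = 1 ∨ ε₁ = -1) ∧ (ε₂ = 1 ∨ ε₂ = -1) ∧ (ε₃ = 1 ∨ ε₃ = -1)) (hval : (χ₁ : G → ℂ) J = ε₁ ∧ (χ₂ : G → ℂ) J = ε₂ ∧ (χ₃ : G → ℂ) J = ε₃) : (Nat.card G : ℚ) = 8 * (((Cfsg.charDegree (χ₁ : G → ℂ) : ℚ) * Cfsg.charDegree (χ₂ : G → ℂ) * Cfsg.charDegree (χ₃ :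 G → ℂ)) / ((Cfsg.charDegree (χ₁ : G → ℂ) + ε₁) * (Cfsg.charDegree (χ₂ : G → ℂ) + ε₂) * (Cfsg.charDegree (χ₃ : G → ℂ) + ε₃))) * (Nat.card (Subgroup.centralizer ({J} : Set G)) : ℚ) ^ 3 / (Nat.card (Subgroup.centralizer ((P : Subgroup G) : Set G)) : ℚ) ^ 2 := by
  classical
  have := Fintype.ofFinite G
  obtain ⟨hK, hone⟩ := CfsgLib.Invol.klein_of_order hg₀ hG hnc P
  have h := CfsgLib.Invol.klein_order_formula hM P hK hone hJ hJ2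
  obtain ⟨Z, a, -, hmem, -, hT1, -, -, hvalZ, hrel⟩ := CfsgLib.Invol.klein_block hM P hK hone
  set t := CfsgLib.Blocks.trivIrr G
  obtain ⟨hd1, hd2, hd3, hd12, hd13, hd23⟩ := hdist
  have ht : ∀ χ : Cfsg.IrrCharacter G, (χ : G → ℂ) ≠ (fun _ => 1) → t ≠ χ := fun χ hχ e => hχ (by rw [← e]; rfl)
  have hset : ∀ χ, χ ∈ Cfsg.principalBlock M G ↔ χ ∈ ({t, χ₁, χ₂, χ₃} : Finset (Cfsg.IrrCharacter G)) := by
    intro χ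
    rw [hB]
    simp only [Set.mem_ofPred_eq, Finset.mem_insert, Finset.mem_singleton]
    exact or_congr ⟨fun e => Subtype.ext e, fun e => by rw [e]; rfl⟩ Iff.rfl
  have hsum : ∀ f : Cfsg.IrrCharacter G → ℂ, ∑ χ ∈ ({t, χ₁, χ₂, χ₃} : Finset (Cfsg.IrrCharacter G)), f χ =
      f t + (f χ₁ + (f χ₂ + f χ₃)) := by
    intro f
    rw [Finset.sum_insert (by simp [ht χ₁ hd1, ht χ₂ hd2, ht χ₃ hd3]),
      Finset.sum_insert (by simp [hd12, hd13]), Finset.sum_pair hd23]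
  have hfil : (Finset.univ.filter fun χ : Cfsg.IrrCharacter G => χ ∈ Cfsg.principalBlock M G) =
      {t, χ₁, χ₂, χ₃} := Finset.ext fun χ => by rw [Finset.mem_filter, hset χ]; simp
  have hZ : Z = {t, χ₁, χ₂, χ₃} := Finset.ext fun χ => by rw [hmem, hset]
  rw [hfil, hsum, hval.1, hval.2.1, hval.2.2] at h
  have h2 : 2 ∣ orderOf J := by rw [hJ2]
  have ha : ∀ χ ∈ Z, (χ : G → ℂ) J = a χ := fun χ hχ => hvalZ χ hχ J h2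
  have h1 := hrel 1 (by simp)
  rw [hZ, hsum, ← ha χ₁ (by simp [hZ]), ← ha χ₂ (by simp [hZ]), ← ha χ₃ (by simp [hZ]), hT1] at h1
  rw [hval.1, hval.2.1, hval.2.2] at h1
  simp only [show ∀ g, (t : G → ℂ) g = 1 from fun _ => rfl, (CfsgLib.Blocks.irr_degree_eq χ₁).1,
    (CfsgLib.Blocks.irr_degree_eq χ₂).1, (CfsgLib.Blocks.irr_degree_eq χ₃).1] at h h1
  set x₁ := Cfsg.charDegree (χ₁ : G → ℂ)
  set x₂ := Cfsg.charDegree (χ₂ : G → ℂ)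
  set x₃ := Cfsg.charDegree (χ₃ : G → ℂ)
  set c := Nat.card (Subgroup.centralizer ({J} : Set G))
  set d := Nat.card (Subgroup.centralizer ((P : Subgroup G) : Set G))
  have hx : ∀ χ : Cfsg.IrrCharacter G, 0 < Cfsg.charDegree (χ : G → ℂ) := fun χ =>
    (CfsgLib.Blocks.irr_degree_eq χ).2
  have hq : (Nat.card G : ℚ) * (1 + ((ε₁ : ℚ) / x₁ + ((ε₂ : ℚ) / x₂ + (ε₃ : ℚ) / x₃))) =
      8 * (c : ℚ) ^ 3 / (d : ℚ) ^ 2 := by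
    apply Rat.cast_injective (α := ℂ)
    push_cast
    simpa using h
  have hr : (1 : ℚ) + ((ε₁ : ℚ) * x₁ + ((ε₂ : ℚ) * x₂ + (ε₃ : ℚ) * x₃)) = 0 := by
    apply Rat.cast_injective (α := ℂ)
    push_cast
    simpa using h1
  have hd0 : (d : ℚ) ≠ 0 := Nat.cast_ne_zero.mpr Nat.card_pos.ne'
  have hc0 : (c : ℚ) ≠ 0 := Nat.cast_ne_zero.mpr Nat.card_pos.ne'
  have e₁ : (ε₁ : ℚ) * ε₁ = 1 := by rcases hε.1 with e | e <;> simp [e]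
  have e₂ : (ε₂ : ℚ) * ε₂ = 1 := by rcases hε.2.1 with e | e <;> simp [e]
  have e₃ : (ε₃ : ℚ) * ε₃ = 1 := by rcases hε.2.2 with e | e <;> simp [e]
  have hx1 : (x₁ : ℚ) ≠ 0 := Nat.cast_ne_zero.mpr (hx χ₁).ne'
  have hx2 : (x₂ : ℚ) ≠ 0 := Nat.cast_ne_zero.mpr (hx χ₂).ne'
  have hx3 : (x₃ : ℚ) ≠ 0 := Nat.cast_ne_zero.mpr (hx χ₃).ne'
  have key : ((x₁ : ℚ) + ε₁) * (x₂ + ε₂) * (x₃ + ε₃) =
      (x₁ : ℚ) * x₂ * x₃ * (1 + ((ε₁ : ℚ) / x₁ + ((ε₂ : ℚ) / x₂ + (ε₃ : ℚ) / x₃))) := by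
    field_simp
    linear_combination ((ε₁ : ℚ) * ε₂ * ε₃) * hr - ((x₁ : ℚ) * ε₂ * ε₃) * e₁ - ((x₂ : ℚ) * ε₁ * ε₃) * e₂ -
      ((x₃ : ℚ) * ε₁ * ε₂) * e₃
  have hne : (1 + ((ε₁ : ℚ) / x₁ + ((ε₂ : ℚ) / x₂ + (ε₃ : ℚ) / x₃))) ≠ 0 := by
    intro h0
    rw [h0, mul_zero] at hq
    have : 8 * (c : ℚ) ^ 3 / (d : ℚ) ^ 2 ≠ 0 := div_ne_zero (mul_ne_zero (by norm_num) (pow_ne_zero _ hc0)) (pow_ne_zero _ hd0)
    exact this hq.symm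
  rw [key]
  calc (Nat.card G : ℚ) = 8 * (c : ℚ) ^ 3 / (d : ℚ) ^ 2 /
        (1 + ((ε₁ : ℚ) / x₁ + ((ε₂ : ℚ) / x₂ + (ε₃ : ℚ) / x₃))) := by rw [← hq, mul_div_cancel_right₀ _ hne]
    _ = _ := by field_simp
end Cfsg.Agent.S4479
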