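import Cfsg.Statements.S3278
import Cfsg.Agent.Lib.Invol.KleinCentralizer

set_option autoImplicit false
open Cfsg

namespace Cfsg.Agent.S3278

/-- Let G be a finite simple group with an involution x such that a Sylow 2-subgroup of C_G(x) is a Klein four-group which is normal in C_G(x). Then G is isomorphic to the alternating group of degree 5 (that is, to PSL(2, 5)). -/
theorem result {G : Type*} [Group G] [Finite G] [IsSimpleGroup G] (x : G) (hx : orderOf x = 2)
    (S₀ : Subgroup G) (hle : S₀ ≤ Subgroup.centralizer ({x} : Set G)) (hK : IsKleinFour ↥S₀)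
    (hodd : ¬ 2 ∣ S₀.relIndex (Subgroup.centralizer ({x} : Set G))) (hn : (S₀.subgroupOf (Subgroup.centralizer ({x} : Set G))).Normal) :
    Nonempty (G ≃* ↥(alternatingGroup (Fin 5))) := by
  classical
  haveI := Fact.mk Nat.prime_two
  haveI := hK
  have hx1 := CfsgLib.Invol.ne_one_of_orderOf_two hx
  have hcardK : Nat.card S₀ = 4 := IsKleinFour.card_four
  obtain ⟨S, hS⟩ := (IsPGroup.of_card (p := 2) (G := S₀) (n := 2) (by rw [hcardK]; norm_num)).exists_le_sylow
  by_cases hne' : S₀ = (S : Subgroup G)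
  swap
  · obtain ⟨E, hE, -, hcard, htop⟩ := CfsgLib.Invol.exists_small_normal hx hle hK hodd hn S hS hne'
    exfalso
    rw [(hE.eq_bot_or_eq_top).resolve_right htop, Subgroup.card_bot] at hcard
    omega
  subst hne'
  have hxS : x ∈ (S : Subgroup G) :=
    CfsgLib.Invol.mem_of_involution hle hK hodd hn
      (IsPGroup.of_card (n := 1) (by rw [Nat.card_zpowers, hx, pow_one]))
      (Subgroup.zpowers_le.mpr (Subgroup.mem_centralizer_singleton_iff.mpr rfl)) (Subgroup.mem_zpowers x)
  have hcomm : ∀ a ∈ (S : Subgroup G), ∀ b ∈ (S : Subgroup G), a * b = b * a := fun a ha b hb =>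
    congrArg Subtype.val (IsKleinFour.isMulCommutative.is_comm.comm (⟨a, ha⟩ : (S : Subgroup G)) ⟨b, hb⟩)
  have hGdvd : 4 ∣ Nat.card G := hcardK ▸ Subgroup.card_subgroup_dvd_card _
  have hnotnorm : ¬ (S : Subgroup G).Normal := fun hnorm => by
    rcases hnorm.eq_bot_or_eq_top with h | h
    · exact hx1 (Subgroup.mem_bot.mp (h ▸ hxS))
    · haveI : (Subgroup.zpowers x).Normal := ⟨fun a ha g => by
        rw [hcomm g (h ▸ Subgroup.mem_top g) a (h ▸ Subgroup.mem_top a), mul_inv_cancel_right]
        exact ha⟩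
      rcases (inferInstance : (Subgroup.zpowers x).Normal).eq_bot_or_eq_top with h' | h'
      · exact hx1 (Subgroup.zpowers_eq_bot.mp h')
      · have h2 : Nat.card G = 2 := by rw [← Subgroup.card_top, ← h', Nat.card_zpowers, hx]
        omega
  have hnpc : ¬ Cfsg.HasNormalPComplement 2 G := by
    rintro ⟨P, N, hN, hc⟩
    have hPc : Nat.card (P : Subgroup G) = 4 := by
      rw [P.card_eq_multiplicity, ← S.card_eq_multiplicity]; exact hcardK
    have hm := hc.card_mul_card
    rw [hPc] at hm
    rcases hN.eq_bot_or_eq_top with h | h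
    · rw [h, Subgroup.card_bot, one_mul] at hm
      refine hnotnorm ?_
      rw [(Subgroup.card_eq_iff_eq_top _).mp (hcardK.trans hm)]
      infer_instance
    · rw [h, Subgroup.card_top] at hm
      have := Nat.card_pos (α := G)
      omega
  have hone := (CfsgLib.Invol.klein_complement_or_one_class S hK).resolve_left
    fun ⟨N, hN, hc⟩ => hnpc ⟨S, N, hN, hc⟩
  set C := Subgroup.centralizer ({x} : Set G) with hC
  have hCJ : C = Subgroup.centralizer ((S : Subgroup G) : Set G) := by
    refine le_antisymm (fun c hc => Subgroup.mem_centralizer_iff.mpr fun a ha => ?_)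
      (fun c hc => Subgroup.mem_centralizer_singleton_iff.mpr (Subgroup.mem_centralizer_iff.mp hc x hxS).symm)
    haveI := hn
    have hcx : c * x = x * c := Subgroup.mem_centralizer_singleton_iff.mp hc
    -- an odd power of `c` lies in `S`
    have hm := Subgroup.pow_index_mem ((S : Subgroup G).subgroupOf C) (⟨c, hc⟩ : C)
    set m := ((S : Subgroup G).subgroupOf C).index with hmdef
    obtain ⟨k, hk⟩ : Odd m := Nat.not_even_iff_odd.mp fun h => hodd (even_iff_two_dvd.mp h)
    have hmS : c ^ m ∈ (S : Subgroup G) := by simpa [Subgroup.mem_subgroupOf] using hm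
    have hsq : Commute (c ^ 2) a := by
      have hbS : c * a * c⁻¹ ∈ (S : Subgroup G) :=
        hn.conj_mem (⟨a, hle ha⟩ : C) ha ⟨c, hc⟩
      by_cases ha1 : a = 1
      · rw [ha1]; exact Commute.one_right _
      by_cases hax : a = x
      · rw [hax]; exact (show Commute c x from hcx).pow_left 2
      by_cases hba : c * a * c⁻¹ = a
      · exact (show Commute c a from mul_inv_eq_iff_eq_mul.mp hba).pow_left 2
      have hb : (⟨c * a * c⁻¹, hbS⟩ : (S : Subgroup G)) = ⟨a, ha⟩ * ⟨x, hxS⟩ :=
        IsKleinFour.eq_mul_of_ne_all (fun e => ha1 (congrArg Subtype.val e))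
          (fun e => hx1 (congrArg Subtype.val e)) (fun e => hax (congrArg Subtype.val e))
          (fun e => ha1 (conj_eq_one_iff.mp (congrArg Subtype.val e)))
          (fun e => hba (congrArg Subtype.val e))
          (fun e => hax (mul_left_cancel (mul_right_cancel ((congrArg Subtype.val e).trans
            (mul_inv_eq_iff_eq_mul.mpr hcx).symm))))
      have hb' : c * a * c⁻¹ = a * x := congrArg Subtype.val hb
      have hxx := CfsgLib.Invol.mul_self_of_orderOf_two hx
      refine mul_inv_eq_iff_eq_mul.mp ?_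
      calc c ^ 2 * a * (c ^ 2)⁻¹ = c * (c * a * c⁻¹) * c⁻¹ := by rw [pow_two]; group
        _ = c * (a * x) * c⁻¹ := by rw [hb']
        _ = c * a * c⁻¹ * (c * x * c⁻¹) := by group
        _ = a := by rw [hb', mul_inv_eq_iff_eq_mul.mpr hcx, mul_assoc, hxx, mul_one]
    have hc' : c = ((c ^ 2) ^ k)⁻¹ * c ^ m := by
      rw [← pow_mul, hk, pow_succ _ (2 * k), inv_mul_cancel_left]
    rw [hc']
    exact ((hsq.pow_left k).inv_left.mul_left (show Commute (c ^ m) a from hcomm _ hmS a ha)).eq.symm
  have hlt := CfsgLib.Invol.card_lt_of_klein S hK hone hxS hx hCJ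
  have hN3 := CfsgLib.Invol.klein_normalizer S hK hnpc
  set N := Subgroup.normalizer ((S : Subgroup G) : Set G) with hN
  set c := Nat.card (Subgroup.centralizer ((S : Subgroup G) : Set G)) with hcdef
  have hc4 : 4 ≤ c := by
    rw [← hcardK]
    refine Subgroup.card_le_of_le fun a ha => Subgroup.mem_centralizer_iff.mpr fun b hb => hcomm b hb a ha
  have hGn : Nat.card (Sylow 2 G) * Nat.card N = Nat.card G := by
    rw [S.card_eq_index_normalizer]; exact N.index_mul_card
  have hn6 : Nat.card (Sylow 2 G) < 6 := by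
    by_contra h
    have := Nat.mul_le_mul (not_lt.mp h) hN3
    omega
  have hnodd : Nat.card (Sylow 2 G) % 2 = 1 := card_sylow_modEq_one 2 G
  have hn1 : Nat.card (Sylow 2 G) ≠ 1 := fun h => hnotnorm (by
    rw [← Subgroup.normalizer_eq_top_iff, ← Subgroup.index_eq_one]; exact S.card_eq_index_normalizer.symm.trans h)
  let φ : G →* Equiv.Perm (Sylow 2 G) := MulAction.toPermHom G (Sylow 2 G)
  have hinj : Function.Injective φ := by
    rw [← MonoidHom.ker_eq_bot_iff]
    refine (inferInstance : φ.ker.Normal).eq_bot_or_eq_top.resolve_right fun h => hnotnorm ?_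
    rw [← Subgroup.normalizer_eq_top_iff]
    refine top_le_iff.mp fun g _ => ?_
    have hg : φ g = 1 := MonoidHom.mem_ker.mp (h ▸ Subgroup.mem_top g)
    exact Sylow.smul_eq_iff_mem_normalizer.mp (congrFun (congrArg DFunLike.coe hg) S)
  have hdvd : Nat.card G ∣ (Nat.card (Sylow 2 G)).factorial := by
    rw [← Nat.card_perm, Nat.card_congr (MonoidHom.ofInjective hinj).toEquiv]
    exact Subgroup.card_subgroup_dvd_card _
  rcases (show Nat.card (Sylow 2 G) = 3 ∨ Nat.card (Sylow 2 G) = 5 by omega) with h | h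
  · rw [h, show (3 : ℕ).factorial = 6 from rfl] at hdvd
    have := Nat.dvd_trans hGdvd hdvd
    norm_num at this
  haveI : FaithfulSMul G (Sylow 2 G) := ⟨fun {a b} hab => hinj (Equiv.ext hab)⟩
  refine CfsgLib.Invol.equiv_alternating_five (α := Sylow 2 G) h ?_
  have h8 : ¬ 8 ∣ Nat.card G := fun h8 => S.not_dvd_index (by
    obtain ⟨j, hj⟩ := h8
    have := (S : Subgroup G).card_mul_index
    rw [hcardK, hj] at this
    exact ⟨j, by omega⟩)
  rw [h, show (5 : ℕ).factorial = 120 from rfl] at hdvd
  have h60 : 60 ≤ Nat.card G := by rw [← hGn, h]; omega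
  have h120 := Nat.le_of_dvd (by norm_num) hdvd
  have h120' : Nat.card G ≠ 120 := fun e => h8 (e ▸ by norm_num)
  rcases hdvd with ⟨j, hj⟩
  rcases j with _ | _ | _ | j
  · omega
  · omega
  · omega
  · nlinarith
end Cfsg.Agent.S3278
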