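import Cfsg.Statements.S0439
import Cfsg.Agent.Lib.ThreeTransp.Basic
-- import your own Cfsg.Agent.* helpers here

set_option autoImplicit false
open Cfsg

namespace Cfsg.Agent.S0439

/-- In the symmetric group of degree n ≥ 2, the set of transpositions is a conjugacy class of 3-transpositions which generates the group. -/
theorem result (n : ℕ) (hn : 2 ≤ n) : Cfsg.IsThreeTranspositionClass {σ : Equiv.Perm (Fin n) | σ.IsSwap} := by
  classical
  obtain ⟨m, rfl⟩ : ∃ m, n = m + 2 := ⟨n - 2, by omega⟩
  refine ⟨⟨fun σ hσ => ?_, fun σ hσ τ hτ => ?_⟩,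
    ⟨Equiv.swap 0 1, ⟨0, 1, by simp, rfl⟩, ?_⟩, Equiv.Perm.closure_isSwap⟩
  · obtain ⟨x, y, hxy, rfl⟩ := hσ
    exact orderOf_eq_prime (by rw [pow_two, Equiv.swap_mul_self])
      (fun h => hxy (by simpa using (congrArg (fun f : Equiv.Perm _ => f x) h).symm))
  · obtain ⟨a, b, hab, rfl⟩ := hσ
    obtain ⟨c, e, hce, rfl⟩ := hτ
    by_cases hc : Commute (Equiv.swap a b) (Equiv.swap c e)
    · left
      rw [hc.mul_pow, pow_two, pow_two, Equiv.swap_mul_self, Equiv.swap_mul_self, one_mul]
    right
    have h3 : Equiv.Perm.IsThreeCycle (Equiv.swap a b * Equiv.swap c e) := by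
      rcases eq_or_ne a c with rfl | h1
      · rcases eq_or_ne b e with rfl | h2
        · exact absurd (Commute.refl _) hc
        · exact Equiv.Perm.isThreeCycle_swap_mul_swap_same hab hce h2
      rcases eq_or_ne a e with rfl | h2
      · rcases eq_or_ne b c with rfl | h3
        · exact absurd (Equiv.swap_comm a b ▸ Commute.refl _) hc
        · rw [Equiv.swap_comm c a]
          exact Equiv.Perm.isThreeCycle_swap_mul_swap_same hab hce.symm h3
      rcases eq_or_ne b c with rfl | h3
      · rw [Equiv.swap_comm a b]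
        exact Equiv.Perm.isThreeCycle_swap_mul_swap_same hab.symm hce h2
      rcases eq_or_ne b e with rfl | h4
      · rw [Equiv.swap_comm a b, Equiv.swap_comm c b]
        exact Equiv.Perm.isThreeCycle_swap_mul_swap_same hab.symm hce.symm h1
      refine absurd (Equiv.Perm.Disjoint.commute ?_) hc
      intro x
      by_cases hx : x = a ∨ x = b
      · right
        rcases hx with rfl | rfl
        · exact Equiv.swap_apply_of_ne_of_ne h1 h2
        · exact Equiv.swap_apply_of_ne_of_ne h3 h4
      · left
        push_neg at hx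
        exact Equiv.swap_apply_of_ne_of_ne hx.1 hx.2
    rw [← orderOf_dvd_iff_pow_eq_one, h3.orderOf]
  · ext σ
    constructor
    · rintro ⟨x, y, hxy, rfl⟩
      exact Equiv.Perm.isConj_swap (by simp) hxy
    · intro h
      obtain ⟨g, rfl⟩ := isConj_iff.mp h
      exact ⟨g 0, g 1, fun e => by simpa using g.injective e, by
        ext z; simp [Equiv.swap_apply_def, Equiv.Perm.mul_apply]; split_ifs <;> simp_all [Equiv.eq_symm_apply, Equiv.symm_apply_eq]⟩

end Cfsg.Agent.S0439
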