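import Cfsg.Statements.S0293
import Cfsg.Agent.Lib.Classical.OrthPOrder
import Cfsg.Agent.Lib.Classical.OrthDisc

set_option autoImplicit false
open Cfsg

namespace Cfsg.Agent.S0293

/-- gcd(4, q^m - 1) |PΩ^+_{2m}(q)| = q^(m(m-1)) (q^m - 1) prod_{i=1}^{m-1} (q^(2i) - 1), m at least 4 (type D_m). -/
theorem result {F : Type*} [Field F] [Fintype F] {q : ℕ} (hF : Fintype.card F = q) (m : ℕ) (hm : 4 ≤ m) : Nat.gcd 4 (q ^ m - 1) * Nat.card (Cfsg.POmega F (Cfsg.quadFormPlus m F)) = q ^ (m * (m - 1)) * (q ^ m - 1) * ∏ i ∈ Finset.range (m - 1), (q ^ (2 * (i + 1)) - 1) := by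
  classical
  obtain ⟨Q, hQ, hB⟩ := CfsgLib.Orth.exists_quadForm_plus (F := F) m
  have hc := CfsgLib.Orth.card_orth_plus m (by omega) hQ hB
  rw [Nat.card_eq_fintype_card (α := F), hF, mul_assoc (2 : ℕ), mul_assoc (2 : ℕ)] at hc
  have hn : Module.finrank F (Fin m ⊕ Fin m → F) = m + m := by
    rw [Module.finrank_pi, Fintype.card_sum, Fintype.card_fin]
  have hq1 : 1 ≤ q ^ m := Nat.one_le_pow _ _ (hF ▸ Fintype.card_pos)
  have hg : Nat.gcd 4 (q ^ m - 1) = Nat.gcd 4 ((q ^ m - 1) % 4) := (Nat.gcd_rec 4 _).trans (Nat.gcd_comm _ _)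
  rw [← hQ]
  by_cases hodd : Odd q
  · have h2 : (2 : F) ≠ 0 := Ring.two_ne_zero fun e =>
      Nat.not_even_iff_odd.2 (hF ▸ hodd) (Nat.even_iff.2 (FiniteField.even_card_of_char_two e))
    obtain ⟨e, he, hp, hprod⟩ := CfsgLib.Orth.frame_plus h2 m hQ
    have hiff := CfsgLib.Orth.neg_one_mem_omega_iff hB h2 (Module.finrank_pi F).symm
      ⟨m, by rw [Fintype.card_sum, Fintype.card_fin]⟩ (by omega) e he hp
    rw [hprod] at hiff
    have hqm : q ^ m % 2 = 1 := Nat.odd_iff.1 hodd.pow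
    have hsq : IsSquare ((-1 : F) ^ m) ↔ q ^ m % 4 = 1 := by
      have h4 : q % 4 = 1 ∨ q % 4 = 3 := by rw [Nat.odd_iff] at hodd; omega
      rcases Nat.even_or_odd m with h | h
      · rw [h.neg_one_pow]
        obtain ⟨j, rfl⟩ := h
        refine iff_of_true IsSquare.one ?_
        rw [← two_mul, pow_mul, Nat.pow_mod, Nat.pow_mod q 2]
        rcases h4 with h4 | h4 <;> rw [h4] <;> norm_num
      · rw [h.neg_one_pow, FiniteField.isSquare_neg_one_iff, hF]
        obtain ⟨j, rfl⟩ := h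
        rw [pow_succ, pow_mul, Nat.mul_mod, Nat.pow_mod, Nat.pow_mod q 2]
        rcases h4 with h4 | h4 <;> rw [h4] <;> norm_num
    by_cases h : IsSquare ((-1 : F) ^ m)
    · rw [CfsgLib.Orth.grp_neg hB (by omega) h2 (hiff.2 h)] at hc
      rw [hg, show (q ^ m - 1) % 4 = 0 by have := hsq.1 h; omega, Nat.gcd_zero_right]
      omega
    · rw [CfsgLib.Orth.grp_no_neg hB (by omega) h2 fun h' => h (hiff.1 h')] at hc
      rw [hg, show (q ^ m - 1) % 4 = 2 by have := mt hsq.2 h; omega, show Nat.gcd 4 2 = 2 from rfl]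
      omega
  · have h2 : (2 : F) = 0 :=
      CfsgLib.Orth.two_eq_zero_of_even (by rw [Nat.card_eq_fintype_card, hF]) hodd
    rw [CfsgLib.Orth.grp_char_two hB (by omega) h2] at hc
    have hqe : q ^ m % 2 = 0 := by
      rw [Nat.not_odd_iff_even] at hodd
      exact Nat.even_iff.1 (hodd.pow_of_ne_zero (by omega))
    have hg1 : Nat.gcd 4 (q ^ m - 1) = 1 := by
      rw [hg]
      obtain h | h : (q ^ m - 1) % 4 = 1 ∨ (q ^ m - 1) % 4 = 3 := by omega
      · rw [h]; rfl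
      · rw [h]; rfl
    rw [hg1, one_mul]
    omega

end Cfsg.Agent.S0293
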