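import Cfsg.Statements.S0296
import Cfsg.Agent.Lib.Classical.OrthSimple
import Cfsg.Agent.Lib.Classical.OrthForms

set_option autoImplicit false
open Cfsg

namespace Cfsg.Agent.S0296

/-- PΩ^+_{2m}(q) is simple for m at least 4. -/
theorem result {F : Type*} [Field F] [Fintype F] (m : ℕ) (hm : 4 ≤ m) : IsSimpleGroup (Cfsg.POmega F (Cfsg.quadFormPlus m F)) := by
  classical
  obtain ⟨Q, hQ, hB⟩ := CfsgLib.Orth.exists_quadForm_plus (F := F) m
  rw [← hQ]
  refine CfsgLib.Orth.pOmega_simple hB ?_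
  rw [Module.finrank_pi, Fintype.card_sum, Fintype.card_fin]
  omega

end Cfsg.Agent.S0296
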