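import Cfsg.Statements.S5401
import Cfsg.Agent.Lib.FischerTypes.TypeTwentyFour

set_option autoImplicit false
open Cfsg

namespace Cfsg.Agent.S5401

/-- Existence of the Fischer 3-transposition groups: there exist finite groups generated by a conjugacy class of 3-transpositions on which they act primitively that are of type M(22), of type M(23), and of type M(24) respectively. -/
theorem result : (∃ (X : Type) (_ : Group X) (_ : Finite X) (E : Set X), Cfsg.IsThreeTranspositionClass E ∧ Cfsg.IsPrimitiveUnderConj E ∧ Cfsg.IsOfTypeM22 X E) ∧ (∃ (X : Type) (_ : Group X) (_ : Finite X) (E : Set X), Cfsg.IsThreeTranspositionClass E ∧ Cfsg.IsPrimitiveUnderConj E ∧ Cfsg.IsOfTypeM23 X E) ∧ (∃ (X : Type) (_ : Group X) (_ : Finite X) (E : Set X), Cfsg.IsThreeTranspositionClass E ∧ Cfsg.IsPrimitiveUnderConj E ∧ Cfsg.IsOfTypeM24 X E) := by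
  haveI : Finite Cfsg.Spor.Fi23 :=
    Nat.finite_of_card_ne_zero (by rw [CfsgLib.Fi23Pres.card_faithful.1]; norm_num)
  exact ⟨⟨Cfsg.Spor.Fi22, inferInstance, CfsgLib.Fi22Pres.finite_and_card.1, CfsgLib.Fi22USix.transClass,
      CfsgLib.Fi22USix.transClass_three, CfsgLib.FischerTypes.fi22_primitive, CfsgLib.FischerTypes.fi22_type⟩,
    ⟨Cfsg.Spor.Fi23, inferInstance, inferInstance, CfsgLib.Fi23Pres.transClass,
      CfsgLib.Fi23Pres.transClass_three, CfsgLib.FischerTypes.fi23_primitive, CfsgLib.FischerTypes.fi23_type⟩,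
    ⟨Cfsg.Spor.Fi24, inferInstance, CfsgLib.Fi24Pres.finite_card.1, CfsgLib.Fi24Act.transClass,
      CfsgLib.Fi24Act.transClass_three, CfsgLib.FischerTypes.Full.fi24_primitive,
      CfsgLib.FischerTypes.Full.fi24_type⟩⟩

end Cfsg.Agent.S5401
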