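import Cfsg.Statements.S4691
import Cfsg.Agent.Lib.Blocks.MaxPairs
import Cfsg.Agent.Lib.Transfer.Frobenius

set_option autoImplicit false
open Cfsg

namespace Cfsg.Agent.S4691

/-- Fix a prime p and a maximal ideal M of the algebraic integers containing p. A finite group G has a normal p-complement if and only if its principal p-block is nilpotent. -/
theorem result {G : Type*} [Group G] [Fintype G] (p : ℕ) [Fact p.Prime] (M : Ideal Cfsg.AlgInt) (hM : Cfsg.IsPModular p M) : Cfsg.HasNormalPComplement p G ↔ Cfsg.IsNilpotentBlock p M (Cfsg.principalBlock M G) := by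
  classical
  have := CfsgLib.Blocks.isPrime_of_isPModular hM
  have : Fact p.Prime := ⟨hM.1⟩
  have hcop : ∀ x : G, (orderOf x).Coprime p ↔ Cfsg.IsPRegular p x := fun x =>
    Nat.coprime_comm.trans hM.1.coprime_iff_not_dvd
  rw [← CfsgLib.Transfer.pAutomizers_iff]
  constructor
  · intro h
    exact ⟨CfsgLib.Blocks.isPBlock_principalBlock,
      fun Q e he x hx _ hreg => h Q he.1.1 x hx ((hcop x).mpr hreg)⟩
  · rintro ⟨-, h⟩ Q hQ x hx hc
    refine h Q _ (CfsgLib.Blocks.isBrauerPairOf_principal hM hQ) x hx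
      (CfsgLib.Blocks.stabilizesBlock_iff.mpr
        ⟨CfsgLib.Blocks.mem_normalizer_centralizer hx, ?_⟩) ((hcop x).mp hc)
    exact CfsgLib.Blocks.conjSet_principalBlock
      (CfsgLib.Blocks.conj_mem_iff_of_mem_normalizer (CfsgLib.Blocks.mem_normalizer_centralizer hx))
end Cfsg.Agent.S4691
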