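import Cfsg.Statements.S4646
import Cfsg.Agent.S4691
import Cfsg.Agent.Lib.Blocks.Rank
import Cfsg.Agent.Lib.Blocks.KernelBlock

set_option autoImplicit false
open Cfsg

namespace Cfsg.Agent.S4646

/-- For a finite group G, a prime p and a maximal ideal M of the algebraic integers containing p: the principal block of G is nilpotent if and only if its p-regular rank is 1 (the trivial Brauer character is its only irreducible Brauer character). -/
theorem result {G : Type*} [Group G] [Finite G] (p : ℕ) [Fact p.Prime] (M : Ideal Cfsg.AlgInt) (hM : Cfsg.IsPModular p M) : Cfsg.IsNilpotentBlock p M (Cfsg.principalBlock M G) ↔ Cfsg.blockRank p (Cfsg.principalBlock M G) = 1 := by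
  classical
  have := CfsgLib.Blocks.isPrime_of_isPModular hM
  have := Fintype.ofFinite G
  have hp : p.Prime := hM.1
  rw [← Cfsg.Agent.S4691.result p M hM]
  set B := Cfsg.principalBlock M G
  have hB : Cfsg.IsPBlock M B := CfsgLib.Blocks.isPBlock_principalBlock
  have htriv : CfsgLib.Blocks.trivIrr G ∈ B := by
    show _ ∈ Cfsg.principalBlock M G
    rw [CfsgLib.Blocks.principalBlock_eq]
    exact CfsgLib.Blocks.mem_blockOf_self (CfsgLib.Blocks.trivIrr G)
  constructor
  · intro h
    refine le_antisymm ?_ (CfsgLib.Blocks.blockRank_pos (CfsgLib.Blocks.IsPBlock.nonempty hB) hp.ne_one)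
    have := CfsgLib.Transfer.pResidual_normal p G
    have hnd := CfsgLib.Transfer.hasNormalPComplement_iff_pResidual.mp h
    have hle : Submodule.span ℂ
        ((fun χ : Cfsg.IrrCharacter G => Cfsg.pRegularPart p (χ : G → ℂ)) '' B) ≤
        Submodule.span ℂ {Cfsg.pRegularPart p (fun _ : G => (1 : ℂ))} := by
      rw [Submodule.span_le]
      rintro _ ⟨χ, hχ, rfl⟩
      refine Submodule.mem_span_singleton.mpr ⟨(χ : G → ℂ) 1, funext fun g => ?_⟩
      show (χ : G → ℂ) 1 * Cfsg.pRegularPart p (fun _ : G => (1 : ℂ)) g = _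
      by_cases hg : Cfsg.IsPRegular p g
      · simp only [Cfsg.pRegularPart, if_pos hg, mul_one]
        exact (CfsgLib.Blocks.trivial_on_of_mem_principalBlock hM _ hnd hχ g
          (CfsgLib.Transfer.mem_pResidual_of_coprime
            (hp.coprime_iff_not_dvd.mpr hg).symm)).symm
      · simp only [Cfsg.pRegularPart, if_neg hg, mul_zero]
    exact (Submodule.finrank_mono hle).trans ((finrank_span_le_card _).trans (by simp))
  · intro h
    obtain ⟨K, hK, hKeq⟩ := CfsgLib.Blocks.exists_blockKer_subgroup (G := G) B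
    haveI := hK
    have hreg : ∀ g : G, Cfsg.IsPRegular p g → g ∈ K := by
      intro g hg
      rw [← SetLike.mem_coe, hKeq]
      intro χ hχ
      set v : ↥(Submodule.span ℂ
          ((fun χ : Cfsg.IrrCharacter G => Cfsg.pRegularPart p (χ : G → ℂ)) '' B)) :=
        ⟨_, Submodule.subset_span ⟨CfsgLib.Blocks.trivIrr G, htriv, rfl⟩⟩
      have h1r : Cfsg.IsPRegular p (1 : G) := by
        rw [Cfsg.IsPRegular, orderOf_one, Nat.dvd_one]; exact hp.ne_one
      have hv1 : (v : G → ℂ) 1 = 1 := by
        show Cfsg.pRegularPart p (fun _ : G => (1 : ℂ)) 1 = 1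
        simp [Cfsg.pRegularPart, h1r]
      have hv : v ≠ 0 := fun h0 => by
        rw [h0] at hv1
        simp at hv1
      obtain ⟨c, hc⟩ := exists_smul_eq_of_finrank_eq_one h hv
        ⟨_, Submodule.subset_span ⟨χ, hχ, rfl⟩⟩
      have hc' : ∀ x : G, c * Cfsg.pRegularPart p (fun _ : G => (1 : ℂ)) x =
          Cfsg.pRegularPart p (χ : G → ℂ) x := fun x => congrFun (congrArg Subtype.val hc) x
      have e1 := hc' g
      have e2 := hc' 1
      simp only [Cfsg.pRegularPart, if_pos hg, if_pos h1r, mul_one] at e1 e2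
      rw [← e1, e2]
    refine CfsgLib.Transfer.hasNormalPComplement_of_le_of_isPGroup_quotient K
      (hp.coprime_iff_not_dvd.mpr
        (CfsgLib.Blocks.not_dvd_card_of_le_blockKer hM hB K hKeq.subset)).symm ?_
    intro q
    induction q using QuotientGroup.induction_on with
    | H x =>
      refine ⟨(orderOf x).factorization p, ?_⟩
      rw [← QuotientGroup.mk_pow, QuotientGroup.eq_one_iff]
      refine hreg _ ?_
      show ¬ p ∣ orderOf _
      rw [orderOf_pow_of_dvd (pow_ne_zero _ hp.ne_zero) (Nat.ordProj_dvd _ p)]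
      exact Nat.not_dvd_ordCompl hp (orderOf_pos x).ne'
end Cfsg.Agent.S4646
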