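import Cfsg.Statements.S3494
import Mathlib
-- import your own Cfsg.Agent.* helpers here

set_option autoImplicit false
open Cfsg

namespace Cfsg.Agent.S3494

open MulAction Pointwise

/-- In a primitive action of a suitable kind, a subgroup containing two different point stabilizers
stabilizes no proper nonempty subset. -/
lemma mannAux_stab_eq {G Ω : Type*} [Group G] [MulAction G Ω] [FaithfulSMul G Ω]
    [MulAction.IsPreprimitive G Ω] (x y : Ω) (hne : stabilizer G x ≠ ⊥)
    (h : stabilizer G x = stabilizer G y) : x = y := by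
  classical
  by_contra hxy
  have : Nontrivial Ω := ⟨⟨x, y, hxy⟩⟩
  have hco := MulAction.IsPreprimitive.isCoatom_stabilizer_of_isPreprimitive (G := G) x
  obtain ⟨g, hg⟩ := exists_smul_eq G x y
  have hgN : g ∈ Subgroup.normalizer (stabilizer G x : Set G) := by
    have := stabilizer_smul_eq_stabilizer_map_conj g x
    rw [hg, ← h] at this
    rw [Subgroup.mem_normalizer_iff]
    intro k
    constructor
    · intro hk
      rw [this]
      exact ⟨k, hk, rfl⟩
    · intro hk
      rw [this] at hk
      obtain ⟨k', hk', hkk⟩ := hk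
      have : k' = k := by simpa using hkk
      exact this ▸ hk'
  rcases hco.le_iff.1 (Subgroup.le_normalizer (H := stabilizer G x)) with hN | hN
  · have hn : (stabilizer G x).Normal := Subgroup.normalizer_eq_top_iff.1 hN
    apply hne
    rw [eq_bot_iff]
    intro k hk
    rw [Subgroup.mem_bot]
    apply FaithfulSMul.eq_of_smul_eq_smul (α := Ω)
    intro z
    rw [one_smul]
    obtain ⟨a, ha⟩ := exists_smul_eq G x z
    have h2 := hn.conj_mem k hk a⁻¹
    rw [inv_inv, mem_stabilizer_iff, mul_smul, mul_smul, ha] at h2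
    rw [inv_smul_eq_iff, ha] at h2
    exact h2
  · have : g ∈ stabilizer G x := hN ▸ hgN
    exact hxy (this.symm.trans hg)

lemma mannAux_normal_orbit {G Ω : Type*} [Group G] [MulAction G Ω] (H : Subgroup G) (z : Ω)
    (hp : MulAction.IsPreprimitive H (MulAction.orbit H z)) (K : Subgroup H) [K.Normal]
    (k : H) (hk : k ∈ K) (hkz : k • z ≠ z) (y : Ω) (hy : y ∈ MulAction.orbit H z) :
    ∃ m ∈ K, m • z = y := by
  classical
  let a : orbit H z := ⟨z, mem_orbit_self z⟩
  rcases hp.isTrivialBlock_of_isBlock (IsBlock.orbit_of_normal (N := K) a) with hb | hb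
  · have := hb (mem_orbit_self a) (mem_orbit a (⟨k, hk⟩ : K))
    exact absurd (congrArg Subtype.val this).symm hkz
  · have : (⟨y, hy⟩ : orbit H z) ∈ orbit K a := by rw [hb]; trivial
    obtain ⟨m, hm⟩ := this
    exact ⟨m.1, m.2, congrArg Subtype.val hm⟩

/-- An element of a subgroup of a finite primitive group with the stated properties is trivial. -/
lemma mannAux_main {G Ω : Type*} [Group G] [Finite G] [Fintype Ω] [MulAction G Ω]
    [FaithfulSMul G Ω] [hprim : MulAction.IsPreprimitive G Ω]
    (hH : ∀ α : Ω, stabilizer G α ≠ ⊥)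
    (hep : ∀ (α : Ω) (ω : Ω), MulAction.IsPreprimitive (stabilizer G α)
      (orbit (stabilizer G α) ω))
    (α ω : Ω) (hω : ω ≠ α) (K : Subgroup (stabilizer G α)) [K.Normal]
    (hKω : ∀ k ∈ K, k • ω = ω) : K = ⊥ := by
  classical
  let d : Ω → Ω → ℕ := fun x y => (orbit (stabilizer G x) y).ncard
  let moved : Finset Ω := Finset.univ.filter fun z => ∃ k ∈ K, k • z ≠ z
  by_contra hK
  obtain ⟨k₀, hk₀, hk₀1⟩ := (Subgroup.bot_or_exists_ne_one K).resolve_left hK
  have hne : moved.Nonempty := by
    by_contra hemp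
    apply hk₀1
    apply Subtype.ext
    apply FaithfulSMul.eq_of_smul_eq_smul (α := Ω)
    intro z
    rw [OneMemClass.coe_one, one_smul]
    by_contra hz
    exact hemp ⟨z, Finset.mem_filter.2 ⟨Finset.mem_univ _, k₀, hk₀, hz⟩⟩
  obtain ⟨z, hz, hzmax⟩ := moved.exists_max_image (d α) hne
  obtain ⟨kz, hkz, hkzne⟩ := (Finset.mem_filter.1 hz).2
  have hzα : z ≠ α := fun e => hkzne (by rw [e]; exact kz.2)
  have hd_self : ∀ x : Ω, d x x = 1 := by
    intro x
    have : orbit (stabilizer G x) x = {x} := by
      ext y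
      constructor
      · rintro ⟨g, rfl⟩
        exact g.2
      · rintro rfl
        exact mem_orbit_self _
    simp only [d, this, Set.ncard_singleton]
  have hdz : 1 < d α z :=
    (Set.one_lt_ncard (Set.toFinite _)).2 ⟨z, mem_orbit_self z, kz • z, mem_orbit z kz, Ne.symm hkzne⟩
  have hequiv : ∀ (g : G) (x y : Ω), orbit (stabilizer G (g • x)) (g • y)
      = g • orbit (stabilizer G x) y := by
    intro g x y
    ext u
    constructor
    · rintro ⟨s, rfl⟩
      refine ⟨(g⁻¹ * s.1 * g) • y, ⟨⟨g⁻¹ * s.1 * g, ?_⟩, rfl⟩, ?_⟩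
      · have := s.2
        rw [mem_stabilizer_iff] at this ⊢
        rw [mul_smul, mul_smul, this, inv_smul_smul]
      · change g • ((g⁻¹ * s.1 * g) • y) = s.1 • g • y
        simp [smul_smul, mul_assoc]
    · rintro ⟨v, ⟨s, rfl⟩, rfl⟩
      refine ⟨⟨g * s.1 * g⁻¹, ?_⟩, ?_⟩
      · have := s.2
        rw [mem_stabilizer_iff] at this ⊢
        rw [mul_smul, mul_smul, inv_smul_smul, this]
      · change (g * s.1 * g⁻¹) • g • y = g • (s.1 • y)
        simp [smul_smul, mul_assoc]
  have hd_equiv : ∀ (g : G) (x y : Ω), d (g • x) (g • y) = d x y := by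
    intro g x y
    simp only [d, hequiv, Set.ncard_smul_set]
  have hd_symm : ∀ x y : Ω, d x y = d y x := by
    intro x y
    have h1 : ∀ a b : Ω, d a b * Nat.card ↥(stabilizer G a ⊓ stabilizer G b : Subgroup G)
        = Nat.card (stabilizer G a) := by
      intro a b
      have := (stabilizer (stabilizer G a) b).index_mul_card
      rw [index_stabilizer] at this
      rw [← this]
      congr 1
      apply Nat.card_congr
      exact ⟨fun s => ⟨⟨s.1, s.2.1⟩, s.2.2⟩, fun s => ⟨s.1.1, s.1.2, s.2⟩,
        fun s => rfl, fun s => rfl⟩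
    have h2 := h1 x y
    have h3 := h1 y x
    rw [inf_comm (stabilizer G y)] at h3
    have h4 : Nat.card (stabilizer G x) = Nat.card (stabilizer G y) := by
      obtain ⟨g, rfl⟩ := exists_smul_eq G x y
      exact Nat.card_congr (stabilizerEquivStabilizer (g := g) rfl).toEquiv
    rw [← h2, ← h3] at h4
    exact Nat.eq_of_mul_eq_mul_right Nat.card_pos h4
  have : Nontrivial Ω := ⟨⟨ω, α, hω⟩⟩
  -- no suborbit is invariant under a second stabilizer
  have hinv : ∀ β : Ω, β ≠ α → ∀ u : Ω, u ≠ α →
      ¬ orbit (stabilizer G β) u = orbit (stabilizer G α) u := by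
    intro β hβ u hu heq
    have hA : stabilizer G α ≤ stabilizer G (orbit (stabilizer G α) u) := by
      intro s hs
      exact mem_stabilizer_iff.2 (smul_orbit (⟨s, hs⟩ : stabilizer G α) u)
    have hB : stabilizer G β ≤ stabilizer G (orbit (stabilizer G α) u) := by
      intro s hs
      rw [← heq]
      exact mem_stabilizer_iff.2 (smul_orbit (⟨s, hs⟩ : stabilizer G β) u)
    have hlt : stabilizer G α < stabilizer G α ⊔ stabilizer G β := by
      refine lt_of_le_of_ne le_sup_left fun e => hβ ?_
      have hle : stabilizer G β ≤ stabilizer G α := e.symm ▸ le_sup_right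
      have hco := MulAction.IsPreprimitive.isCoatom_stabilizer_of_isPreprimitive (G := G) β
      rcases hco.le_iff.1 hle with h' | h'
      · exact absurd h' (MulAction.IsPreprimitive.isCoatom_stabilizer_of_isPreprimitive (G := G) α).1
      · exact mannAux_stab_eq β α (hH β) h'.symm
    have htop := (MulAction.IsPreprimitive.isCoatom_stabilizer_of_isPreprimitive (G := G) α).2 _ hlt
    obtain ⟨g, hg⟩ := exists_smul_eq G u α
    have hg' : g ∈ stabilizer G (orbit (stabilizer G α) u) := by
      apply sup_le hA hB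
      rw [htop]; trivial
    have : α ∈ orbit (stabilizer G α) u := by
      rw [← mem_stabilizer_iff.1 hg', ← hg]
      exact Set.smul_mem_smul_set (mem_orbit_self u)
    obtain ⟨s, hs⟩ := this
    apply hu
    calc u = s⁻¹ • (s • u) := (inv_smul_smul s u).symm
      _ = α := by
        have hs' : s • u = α := hs
        rw [hs']
        exact (inv_mem s.2 : (s.1)⁻¹ ∈ stabilizer G α)
  -- points fixed by K are far from z
  have key : ∀ β : Ω, β ≠ α → (∀ k ∈ K, k • β = β) → d α z < d β z := by
    intro β hβ hfix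
    have hsub : orbit (stabilizer G α) z ⊆ orbit (stabilizer G β) z := by
      intro y hy
      obtain ⟨m, hm, rfl⟩ := mannAux_normal_orbit (stabilizer G α) z (hep α z) K kz hkz hkzne y hy
      exact ⟨⟨m.1, hfix m hm⟩, rfl⟩
    apply Set.ncard_lt_ncard _ (Set.toFinite _)
    exact hsub.ssubset_of_ne fun e => hinv β hβ z hzα e.symm
  have hbig : ∀ β : Ω, d α z < d α β → β ≠ α ∧ (∀ k ∈ K, k • β = β) := by
    intro β hβ
    refine ⟨fun e => ?_, fun k hk => ?_⟩
    · rw [e, hd_self] at hβ
      omega
    · by_contra hne'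
      exact absurd (hzmax β (Finset.mem_filter.2 ⟨Finset.mem_univ _, k, hk, hne'⟩)) (by omega)
  let T : Ω → Set Ω := fun x => {y | d α z < d x y}
  have hT_equiv : ∀ (g : G) (x : Ω), T (g • x) = g • T x := by
    intro g x
    ext y
    rw [Set.mem_smul_set_iff_inv_smul_mem]
    show d α z < d (g • x) y ↔ d α z < d x (g⁻¹ • y)
    rw [← hd_equiv g x (g⁻¹ • y), smul_inv_smul]
  have hsub : T α ⊆ T z := by
    intro β hβ
    obtain ⟨h1, h2⟩ := hbig β hβ
    show d α z < d z β
    rw [hd_symm z β]
    exact key β h1 h2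
  have hTz : T z = T α := by
    refine (Set.eq_of_subset_of_ncard_le hsub ?_ (Set.toFinite _)).symm
    obtain ⟨g, rfl⟩ := exists_smul_eq G α z
    rw [hT_equiv, Set.ncard_smul_set]
  let S : Set Ω := {x | T x = T α}
  have hS : IsBlock G S := by
    rw [isBlock_iff_smul_eq_smul_of_nonempty]
    intro g₁ g₂ hg
    obtain ⟨u, ⟨a, ha, rfl⟩, ⟨b, hb, hab⟩⟩ := hg
    have hab' : g₂ • b = g₁ • a := hab
    have hgg : g₂ • T α = g₁ • T α := by
      have := congrArg T hab'
      rw [hT_equiv, hT_equiv] at this
      rwa [show T a = T α from ha, show T b = T α from hb] at this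
    have hmem : ∀ (g : G) (x : Ω), x ∈ g • S ↔ T x = g • T α := by
      intro g x
      rw [Set.mem_smul_set_iff_inv_smul_mem]
      show T (g⁻¹ • x) = T α ↔ _
      rw [hT_equiv, inv_smul_eq_iff]
    ext x
    rw [hmem, hmem, hgg]
  rcases hprim.isTrivialBlock_of_isBlock hS with hb | hb
  · exact hzα (hb hTz (rfl : T α = T α))
  · -- there is some point far from α
    have hωz : d α z < d ω z := key ω hω hKω
    obtain ⟨g, hg⟩ := exists_smul_eq G ω α
    have hβ : g • z ∈ T α := by
      show d α z < d α (g • z)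
      rw [← hg, hd_equiv, hg]
      exact hωz
    have hTβ : T (g • z) = T α := by
      have : g • z ∈ S := by rw [hb]; trivial
      exact this
    have h' : d α z < d (g • z) (g • z) := by
      have : g • z ∈ T (g • z) := by rw [hTβ]; exact hβ
      exact this
    rw [hd_self] at h'
    omega

/-- Manning's Theorem on extremely primitive groups. Let a finite group G act faithfully and primitively on a finite set Ω with non-trivial point stabilizers, and suppose every point stabilizer G_α acts primitively on each of its orbits. Then G_α acts faithfully on each of its orbits other than {α}: an element of G_α fixing every point of one such orbit is the identity. -/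
theorem result {G : Type*} [Group G] [Finite G] {Ω : Type*} [Fintype Ω] [MulAction G Ω] [FaithfulSMul G Ω] (hprim : MulAction.IsPreprimitive G Ω) (hH : ∀ α : Ω, MulAction.stabilizer G α ≠ ⊥) (hep : ∀ (α : Ω) (ω : Ω), MulAction.IsPreprimitive (MulAction.stabilizer G α) (MulAction.orbit (MulAction.stabilizer G α) ω))
    (α ω : Ω) (hω : ω ≠ α) (h : MulAction.stabilizer G α) (hfix : ∀ x ∈ MulAction.orbit (MulAction.stabilizer G α) ω, h • x = x) : h = 1 := by
  classical
  have := hprim
  let O := MulAction.orbit (MulAction.stabilizer G α) ω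
  let K : Subgroup (MulAction.stabilizer G α) :=
    { carrier := {k | ∀ x ∈ O, k • x = x}
      one_mem' := fun x _ => one_smul _ x
      mul_mem' := fun {a b} ha hb x hx => by rw [mul_smul, hb x hx, ha x hx]
      inv_mem' := fun {a} ha x hx => by rw [inv_smul_eq_iff, ha x hx] }
  have : K.Normal := by
    refine ⟨fun k hk s x hx => ?_⟩
    have hmem : s⁻¹ • x ∈ O := MulAction.mem_orbit_of_mem_orbit s⁻¹ hx
    rw [mul_smul, mul_smul, hk _ hmem, smul_inv_smul]
  have hbot : K = ⊥ := mannAux_main hH hep α ω hω K fun k hk => hk ω (MulAction.mem_orbit_self ω)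
  have : h ∈ K := hfix
  rw [hbot] at this
  exact this

end Cfsg.Agent.S3494
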