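import Cfsg.Statements.S0597
import Cfsg.Agent.Lib.Subnormal.Sup
import Cfsg.Agent.Lib.Fitting.Basic
import Cfsg.Agent.Lib.Layer.Radical

set_option autoImplicit false
open Cfsg
open scoped commutatorElement

namespace Cfsg.Agent.S0597

/-- If two subnormal subgroups of a faithful group on an elementary abelian p-group satisfy [V, E₁, E₂] = 1, then their commutator lies in the largest normal p-subgroup. -/
theorem result {G : Type*} [Group G] [Finite G] {p : ℕ} [Fact p.Prime] (V H : Subgroup G) (hV : Cfsg.IsElementaryAbelian p V) (hHV : H ≤ Subgroup.normalizer (V : Set G)) (hf : H ⊓ Subgroup.centralizer (V : Set G) = ⊥) (E₁ E₂ : Subgroup G) (h₁ : E₁ ≤ H) (h₂ : E₂ ≤ H) (hs₁ : (E₁.subgroupOf H).IsSubnormal) (hs₂ : (E₂.subgroupOf H).IsSubnormal) (hc : ⁅⁅V, E₁⁆, E₂⁆ = ⊥) : ⁅E₁, E₂⁆ ≤ (Cfsg.pCore p H).map H.subtype := by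
  set W := ⁅V, E₁⁆ with hW
  set J := E₁ ⊔ E₂ with hJ
  have hJH : J ≤ H := sup_le h₁ h₂
  have hWV : W ≤ V := by
    rw [hW, Subgroup.commutator_le]
    intro v hv e he
    rw [commutatorElement_def, mul_assoc v e, mul_assoc]
    exact mul_mem hv ((Subgroup.mem_normalizer_iff.mp (hHV (h₁ he)) _).mp (inv_mem hv))
  have hcW : E₂ ≤ Subgroup.centralizer (W : Set G) := by
    rw [Subgroup.le_centralizer_iff]
    exact Subgroup.commutator_eq_bot_iff_le_centralizer.mp hc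
  have hVc : ∀ x ∈ V, ∀ y ∈ V, x * y = y * x := fun x hx y hy =>
    congrArg Subtype.val (hV.1.is_comm.comm (⟨x, hx⟩ : ↥V) ⟨y, hy⟩)
  -- elements of `E₁` fix cosets of `W`, elements of `E₂` fix `W`
  have hE1 : ∀ e ∈ E₁, ∀ v ∈ V, v⁻¹ * (e * v * e⁻¹) ∈ W := fun e he v hv => by
    have h3 := Subgroup.commutator_mem_commutator (inv_mem hv) he
    rwa [commutatorElement_def, show v⁻¹ * e * v⁻¹⁻¹ * e⁻¹ = v⁻¹ * (e * v * e⁻¹) by group] at h3
  have hE1W : E₁ ≤ Subgroup.normalizer (W : Set G) := fun e he =>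
    Subgroup.mem_normalizer_fintype fun w hw => by
      have h := mul_mem hw (hE1 e he w (hWV hw))
      rwa [mul_inv_cancel_left] at h
  have hJW : J ≤ Subgroup.normalizer (W : Set G) :=
    sup_le hE1W (hcW.trans (Subgroup.centralizer_le_normalizer _))
  have hD : ∀ e₁ ∈ E₁, ∀ e₂ ∈ E₂, (∀ w ∈ W, ⁅e₁, e₂⁆ * w * ⁅e₁, e₂⁆⁻¹ = w) ∧
      ∀ v ∈ V, v⁻¹ * (⁅e₁, e₂⁆ * v * ⁅e₁, e₂⁆⁻¹) ∈ W := by
    intro e₁ he₁ e₂ he₂
    have hfix : ∀ e ∈ E₂, ∀ w ∈ W, e * w * e⁻¹ = w := fun e he w hw => by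
      rw [← Subgroup.mem_centralizer_iff.mp (hcW he) w hw, mul_inv_cancel_right]
    refine ⟨fun w hw => ?_, fun v hv => ?_⟩
    · have h1 : e₁⁻¹ * w * e₁ ∈ W := by
        have := (Subgroup.mem_normalizer_iff.mp (inv_mem (hE1W he₁)) w).mp hw
        rwa [inv_inv] at this
      calc ⁅e₁, e₂⁆ * w * ⁅e₁, e₂⁆⁻¹
          = e₁ * (e₂ * (e₁⁻¹ * (e₂⁻¹ * w * e₂⁻¹⁻¹) * e₁) * e₂⁻¹) * e₁⁻¹ := by
            rw [commutatorElement_def]; group
        _ = w := by rw [hfix _ (inv_mem he₂) w hw, hfix _ he₂ _ h1]; group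
    · have hN : ∀ g ∈ J, ∀ u ∈ V, g * u * g⁻¹ ∈ V := fun g hg u hu =>
        (Subgroup.mem_normalizer_iff.mp (hHV (hJH hg)) u).mp hu
      have hu := hN _ (inv_mem (Subgroup.mem_sup_right he₂)) v hv
      set u := e₂⁻¹ * v * e₂⁻¹⁻¹ with hu'
      have hw1 := hE1 _ (inv_mem he₁) u hu
      set w1 := u⁻¹ * (e₁⁻¹ * u * e₁⁻¹⁻¹) with hw1'
      have hw2 : e₂ * w1 * e₂⁻¹ = w1 := hfix e₂ he₂ w1 hw1
      have hq : e₂ * (e₁⁻¹ * u * e₁⁻¹⁻¹) * e₂⁻¹ = v * w1 := by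
        conv_rhs => rw [← hw2]
        rw [hw1', hu']; group
      have hw3 : v⁻¹ * (e₁ * v * e₁⁻¹) ∈ W := hE1 e₁ he₁ v hv
      have hw4 : e₁ * w1 * e₁⁻¹ ∈ W := (Subgroup.mem_normalizer_iff.mp (hE1W he₁) w1).mp hw1
      have e : v⁻¹ * (⁅e₁, e₂⁆ * v * ⁅e₁, e₂⁆⁻¹) = (v⁻¹ * (e₁ * v * e₁⁻¹)) * (e₁ * w1 * e₁⁻¹) := by
        calc v⁻¹ * (⁅e₁, e₂⁆ * v * ⁅e₁, e₂⁆⁻¹)
            = v⁻¹ * (e₁ * (e₂ * (e₁⁻¹ * u * e₁⁻¹⁻¹) * e₂⁻¹) * e₁⁻¹) := by
              rw [commutatorElement_def, hu']; group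
          _ = _ := by rw [hq]; group
      rw [e]
      exact mul_mem hw3 hw4
  -- the stabiliser of the series
  set D := ⁅E₁, E₂⁆ with hDdef
  have hDs : ∀ d ∈ D, (∀ w ∈ W, d * w * d⁻¹ = w) ∧ ∀ v ∈ V, v⁻¹ * (d * v * d⁻¹) ∈ W := by
    intro d hd
    induction hd using Subgroup.closure_induction with
    | mem d hd => obtain ⟨e₁, he₁, e₂, he₂, rfl⟩ := hd; exact hD e₁ he₁ e₂ he₂
    | one => exact ⟨fun w _ => by group, fun v _ => by simp⟩
    | mul a b _ _ ha hb =>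
      refine ⟨fun w hw => ?_, fun v hv => ?_⟩
      · rw [show a * b * w * (a * b)⁻¹ = a * (b * w * b⁻¹) * a⁻¹ by group, hb.1 w hw, ha.1 w hw]
      · have h1 := ha.1 _ (hb.2 v hv)
        rw [show v⁻¹ * (a * b * v * (a * b)⁻¹) =
          (v⁻¹ * (a * v * a⁻¹)) * (a * (v⁻¹ * (b * v * b⁻¹)) * a⁻¹) by group, h1]
        exact mul_mem (ha.2 v hv) (hb.2 v hv)
    | inv a _ ha =>
      refine ⟨fun w hw => by conv_lhs => rw [← ha.1 w hw]
                             group, fun v hv => ?_⟩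
      set w := v⁻¹ * (a * v * a⁻¹) with hw
      have h1 : a⁻¹ * w * a⁻¹⁻¹ = w := by
        conv_lhs => rw [← ha.1 w (ha.2 v hv)]
        group
      have h2 : v⁻¹ * (a⁻¹ * v * a⁻¹⁻¹) = (a⁻¹ * w * a⁻¹⁻¹)⁻¹ := by rw [hw]; group
      rw [h2, h1]
      exact inv_mem (ha.2 v hv)
  have hDH : D ≤ H := ((Subgroup.commutator_mono h₁ h₂).trans (Subgroup.commutator_le_self H))
  have hDp : IsPGroup p ↥D := by
    intro d
    refine ⟨1, Subtype.ext ?_⟩
    show (d : G) ^ p ^ 1 = 1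
    rw [pow_one]
    have h1 : (d : G) ^ p ∈ Subgroup.centralizer (V : Set G) := by
      refine Subgroup.mem_centralizer_iff.mpr fun v hv => ?_
      obtain ⟨hd1, hd2⟩ := hDs d d.2
      set c := v⁻¹ * ((d : G) * v * (d : G)⁻¹) with hc'
      have key : ∀ n : ℕ, (d : G) ^ n * v * ((d : G) ^ n)⁻¹ = v * c ^ n := by
        intro n
        induction n with
        | zero => simp
        | succ n ih =>
          rw [pow_succ', show (d : G) * (d : G) ^ n * v * ((d : G) * (d : G) ^ n)⁻¹ =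
              (d : G) * ((d : G) ^ n * v * ((d : G) ^ n)⁻¹) * (d : G)⁻¹ by group, ih,
            show (d : G) * (v * c ^ n) * (d : G)⁻¹ = ((d : G) * v * (d : G)⁻¹) * ((d : G) * c * (d : G)⁻¹) ^ n by
              rw [conj_pow]; group, hd1 c (hd2 v hv), pow_succ' c n, ← mul_assoc v, hc']
          group
      have h3 := key p
      rw [hV.2 c (hWV (hd2 v hv)), mul_one] at h3
      exact (mul_inv_eq_iff_eq_mul.mp h3).symm
    exact Subgroup.mem_bot.mp (hf.le ⟨pow_mem (hDH d.2) p, h1⟩)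
  -- normal in the join, which is subnormal
  have hDn : J ≤ Subgroup.normalizer (D : Set G) := sup_le (Subgroup.normalizer_commutator_ge_left E₁ E₂) (Subgroup.normalizer_commutator_ge_right E₁ E₂)
  have hDJ : D ≤ J := (Subgroup.commutator_mono le_sup_left le_sup_right).trans (Subgroup.commutator_le_self J)
  have hJs : (J.subgroupOf H).IsSubnormal := by
    rw [hJ, Subgroup.subgroupOf_sup h₁ h₂]
    exact CfsgLib.Subnormal.isSubnormal_sup hs₁ hs₂
  have hDs' : (D.subgroupOf H).IsSubnormal := by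
    refine Subgroup.IsSubnormal.step _ (J.subgroupOf H) (Subgroup.comap_mono hDJ) hJs
      ((Subgroup.normal_subgroupOf_iff_le_normalizer (Subgroup.comap_mono hDJ)).mpr fun g hg =>
        Subgroup.le_normalizer_comap H.subtype (hDn (Subgroup.mem_subgroupOf.mp hg)))
  have h4 := CfsgLib.Layer.le_pCore_of_isSubnormal hDs' (hDp.comap_of_injective H.subtype H.subtype_injective)
  exact (Subgroup.map_subgroupOf_eq_of_le hDH).ge.trans (Subgroup.map_mono h4)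

end Cfsg.Agent.S0597
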