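import Cfsg.Statements.S1009
import Mathlib

set_option autoImplicit false
open Cfsg Pointwise

namespace Cfsg.Agent.S1009

/-- Brodkey's Theorem: if a finite group has abelian Sylow p-subgroups, then there are two Sylow p-subgroups whose intersection equals the intersection of all Sylow p-subgroups. -/
theorem result {G : Type*} [Group G] [Finite G] (p : ℕ) [Fact p.Prime] (hab : ∀ P : Sylow p G, IsMulCommutative ↥(P : Subgroup G)) : ∃ P Q : Sylow p G, (P : Subgroup G) ⊓ (Q : Subgroup G) = ⨅ R : Sylow p G, (R : Subgroup G) := by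
  classical
  have : Fintype (Sylow p G) := Fintype.ofFinite _
  obtain ⟨⟨P, Q⟩, -, hmin⟩ := Finset.exists_min_image (Finset.univ : Finset (Sylow p G × Sylow p G))
    (fun x => Nat.card ↥((x.1 : Subgroup G) ⊓ (x.2 : Subgroup G))) Finset.univ_nonempty
  refine ⟨P, Q, le_antisymm (le_iInf fun R => ?_) (le_inf (iInf_le _ P) (iInf_le _ Q))⟩
  set D := (P : Subgroup G) ⊓ (Q : Subgroup G) with hD
  set C := Subgroup.centralizer (D : Set G) with hC
  have hle : ∀ S : Sylow p G, D ≤ (S : Subgroup G) → (S : Subgroup G) ≤ C := by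
    intro S hS a ha b hb
    exact congrArg Subtype.val ((hab S).is_comm.comm (⟨b, hS hb⟩ : (S : Subgroup G)) ⟨a, ha⟩)
  have hPC := hle P inf_le_left
  have hQC := hle Q inf_le_right
  obtain ⟨P', hP'⟩ := ((R.2.to_le (inf_le_left : (R : Subgroup G) ⊓ C ≤ R)).comap_subtype (K := C)).exists_le_sylow
  obtain ⟨x, hx⟩ := MulAction.exists_smul_eq C (P.subtype hPC) P'
  have hRC : (R : Subgroup G) ⊓ C ≤ ((x : G) • P : Sylow p G) := by
    intro a ha
    have h1 : (⟨a, ha.2⟩ : C) ∈ (x • P.subtype hPC : Sylow p C) := by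
      rw [hx]
      exact hP' ha
    rw [Sylow.smul_subtype hPC x] at h1
    exact h1
  have hfix : ∀ S : Sylow p G, ∀ a ∈ D, a ∈ (S : Subgroup G) → a ∈ ((x : G) • S : Sylow p G) := by
    intro S a ha haS
    have hcomm : a * (x : G) = (x : G) * a := x.2 a ha
    show a ∈ MulAut.conj (x : G) • (S : Subgroup G)
    refine ⟨a, haS, ?_⟩
    show (x : G) * a * (x : G)⁻¹ = a
    rw [← hcomm, mul_inv_cancel_right]
  -- the conjugate pair meets in `D`
  have hDx : (((x : G) • P : Sylow p G) : Subgroup G) ⊓ ((x : G) • Q : Sylow p G) = D := by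
    have hle' : D ≤ (((x : G) • P : Sylow p G) : Subgroup G) ⊓ ((x : G) • Q : Sylow p G) :=
      fun a ha => Subgroup.mem_inf.mpr ⟨hfix P a ha ha.1, hfix Q a ha ha.2⟩
    refine (Subgroup.eq_of_le_of_card_ge hle' (le_of_eq ?_)).symm
    rw [Sylow.coe_subgroup_smul, Sylow.coe_subgroup_smul, ← Subgroup.smul_inf]
    exact Nat.card_congr (Subgroup.equivSMul (MulAut.conj (x : G)) D).toEquiv.symm
  have hQxC : (((x : G) • Q : Sylow p G) : Subgroup G) ≤ C :=
    hle _ (fun a ha => hfix Q a ha ha.2)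
  have h1 : (R : Subgroup G) ⊓ ((x : G) • Q : Sylow p G) ≤ D := by
    rw [← hDx]
    exact le_inf ((inf_le_inf_left _ hQxC).trans hRC) inf_le_right
  have h2 := Subgroup.eq_of_le_of_card_ge h1 (hmin (R, (x : G) • Q) (Finset.mem_univ _))
  exact h2.symm.le.trans inf_le_left

end Cfsg.Agent.S1009
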