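import Cfsg.Statements.S4700
import Cfsg.Agent.Lib.BrauerReynolds.Reduction

set_option autoImplicit false
open Cfsg

namespace Cfsg.Agent.S4700

/-- Let G be a finite perfect group and p a prime such that a Sylow p-subgroup of G has order p, and write the number of Sylow p-subgroups as 1 + np. Let H = O_p'(G). Then either p > 3 and G/H is isomorphic to PSL(2, p); or p = 2^m + 1 > 3 and G/H is isomorphic to SL(2, 2^m); or n = (hup + u^2 + u + h)/(u + 1) for some positive integers h and u. -/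
theorem result {G : Type*} [Group G] [Finite G] (hperf : commutator G = ⊤) (p : ℕ) [Fact p.Prime] (P : Sylow p G) (hP : Nat.card P = p) (n : ℕ) (hn : Nat.card (Sylow p G) = 1 + n * p) : (∃ (F : Type) (_ : Field F) (_ : Fintype F), Fintype.card F = p ∧ 3 < p ∧ Nonempty (G ⧸ Cfsg.pPrimeCore p G ≃* Matrix.ProjectiveSpecialLinearGroup (Fin 2) F)) ∨ (∃ (m : ℕ) (F : Type) (_ : Field F) (_ : Fintype F), Fintype.card F = 2 ^ m ∧ p = 2 ^ m + 1 ∧ 3 < p ∧ Nonempty (G ⧸ Cfsg.pPrimeCore p G ≃* Matrix.SpecialLinearGroup (Fin 2) F)) ∨ (∃ h u : ℕ, 0 < h ∧ 0 < u ∧ n * (u + 1) = h * u * p + u ^ 2 + u + h) := by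
  classical
  have hp : p.Prime := Fact.out
  by_cases hnr : CfsgLib.BrauerReynolds.NonRep p n
  · rcases CfsgLib.BrauerReynolds.quotient_concl hperf P hP hn hnr with h | ⟨m, F, i1, i2, hF, hpm, h3, ⟨φ⟩⟩
    · exact Or.inl h
    · refine Or.inr (Or.inl ⟨m, F, i1, i2, hF, hpm, h3, ⟨φ.trans ?_⟩⟩)
      have hchar : (2 : F) = 0 := by
        haveI : Fact (Nat.Prime 2) := ⟨Nat.prime_two⟩
        haveI := CfsgLib.AutPSL.charP_of_card (F := F) hF
        exact CharTwo.two_eq_zero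
      have hc : Subgroup.center (Matrix.SpecialLinearGroup (Fin 2) F) = ⊥ := by
        rw [eq_bot_iff]
        intro A hA
        obtain ⟨r, hr, hA'⟩ := Matrix.SpecialLinearGroup.mem_center_iff.mp hA
        rw [Fintype.card_fin] at hr
        have hr1 : r = 1 := by
          have : (r - 1) ^ 2 = 0 := by
            rw [show (r - 1) ^ 2 = r ^ 2 - 1 + 2 * (1 - r) by ring, hr, hchar]; ring
          exact sub_eq_zero.mp (pow_eq_zero_iff two_ne_zero |>.mp this)
        rw [hr1, map_one] at hA'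
        exact Subgroup.mem_bot.mpr (Subtype.ext hA'.symm)
      exact (QuotientGroup.quotientMulEquivOfEq hc).trans QuotientGroup.quotientBot
  refine Or.inr (Or.inr ?_)
  simp only [CfsgLib.BrauerReynolds.NonRep, not_forall, not_le] at hnr
  obtain ⟨x, hx1, hmod, hdvd, hlt⟩ := hnr
  obtain ⟨u, hu⟩ : ∃ u, x = u * p + 1 := ⟨x / p, by
    have := Nat.div_add_mod x p; rw [hmod] at this; linarith⟩
  subst hu
  have hu0 : 0 < u := by
    rcases Nat.eq_zero_or_pos u with h | h
    · subst h; omega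
    · exact h
  have hun : u < n := by
    by_contra h
    have := Nat.mul_le_mul_right p (Nat.le_of_not_lt h)
    omega
  have hd : ((u * p + 1 : ℕ) : ℤ) ∣ ((u : ℤ) + 1) * ((n : ℤ) - u) := by
    have h1 : ((u * p + 1 : ℕ) : ℤ) ∣ (((p - 1) * (1 + n * p) : ℕ) : ℤ) := Int.natCast_dvd_natCast.mpr hdvd
    push_cast [Nat.cast_sub hp.one_le] at h1 ⊢
    have h2 : (u : ℤ) * p + 1 ∣ ((p : ℤ) * p) * (((u : ℤ) + 1) * ((n : ℤ) - u)) := by
      have e : ((p : ℤ) * p) * (((u : ℤ) + 1) * ((n : ℤ) - u)) =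
          ((p : ℤ) - 1) * (1 + n * p) + ((u : ℤ) * p + 1) * ((1 + n * p) - (p * ((u : ℤ) + 1))) := by ring
      rw [e]
      exact dvd_add h1 (dvd_mul_right _ _)
    have hcop : IsCoprime ((u : ℤ) * p + 1) ((p : ℤ) * p) := by
      have : IsCoprime ((u : ℤ) * p + 1) (p : ℤ) := ⟨1, -u, by ring⟩
      exact this.mul_right this
    exact hcop.dvd_of_dvd_mul_left h2
  obtain ⟨k, hk⟩ := hd
  push_cast at hk
  have hk0 : 0 < k := by
    have : (0 : ℤ) < ((u : ℤ) + 1) * ((n : ℤ) - u) := by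
      have : (u : ℤ) < n := by exact_mod_cast hun
      exact mul_pos (by positivity) (by linarith)
    rw [hk] at this
    exact (pos_iff_pos_of_mul_pos this).mp (by positivity)
  obtain ⟨h, rfl⟩ : ∃ h : ℕ, k = (h : ℤ) := ⟨k.toNat, (Int.toNat_of_nonneg hk0.le).symm⟩
  refine ⟨h, u, by exact_mod_cast hk0, hu0, ?_⟩
  have : ((n * (u + 1) : ℕ) : ℤ) = ((h * u * p + u ^ 2 + u + h : ℕ) : ℤ) := by
    push_cast
    linear_combination hk
  exact_mod_cast this

end Cfsg.Agent.S4700
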