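import Cfsg.Statements.S5365
import Cfsg.Agent.Lib.ThreeTransp.Classes
import Cfsg.Agent.Lib.ThreeTransp.StringHom
import Cfsg.Agent.Lib.ThreeTransp.WidthOne
import Cfsg.Agent.Lib.Coxeter.TypeA
import Cfsg.Agent.Lib.PSolvable.Core

set_option autoImplicit false
set_option linter.unusedSectionVars false
set_option linter.style.haveILetI false
open Cfsg CfsgLib

namespace Cfsg.Agent.S5365

open CfsgLib.ThreeTransp

variable {G : Type*} [Group G] {D : Set G}

/-- The members other than `d` commuting with `d`. -/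
def nb (D : Set G) (d : G) : Set G := {y : G | y ∈ D ∧ y ≠ d ∧ Commute d y}

theorem nb_symm {d y : G} (hd : d ∈ D) (hy : y ∈ nb D d) : d ∈ nb D y :=
  ⟨hd, hy.2.1.symm, hy.2.2.symm⟩

/-- The local hypothesis: the neighbours form a triangle of transpositions. -/
structure Local (D : Set G) : Prop where
  set : IsThreeTranspositionSet D
  conj : IsConjClosed D
  tri : ∀ d ∈ D, ∃ a b, a ∈ nb D d ∧ b ∈ nb D d ∧ ¬ Commute a b ∧ nb D d = {a, b, a * b * a}

variable {d : G}

theorem nb_conj (hL : Local D) (g : G) {d y : G} (hy : y ∈ nb D d) :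
    g * y * g⁻¹ ∈ nb D (g * d * g⁻¹) :=
  ⟨hL.conj g y hy.1, fun h => hy.2.1 (mul_left_cancel (mul_right_cancel h)),
    commute_conj.mpr hy.2.2⟩

theorem nb_flip (hL : Local D) {p d y : G} (hp : p ∈ D) (hy : y ∈ nb D d) :
    p * y * p ∈ nb D (p * d * p) := by
  have := nb_conj hL p hy
  rwa [conj_eq hL.set hp, conj_eq hL.set hp] at this

theorem nb_flip_fix (hL : Local D) {p d y : G} (hp : p ∈ nb D d) (hy : y ∈ nb D d) :
    p * y * p ∈ nb D d := by
  have := nb_flip hL hp.1 hy
  rwa [← hp.2.2.eq, mul_assoc, mul_self_eq_one hL.set hp.1, mul_one] at this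

theorem nb_ncard [Finite G] (hL : Local D) (hd : d ∈ D) : (nb D d).ncard = 3 := by
  obtain ⟨a, b, ha, hb, hab, he⟩ := hL.tri d hd
  rw [he, Set.ncard_eq_three]
  refine ⟨a, b, a * b * a, fun h => hab (h ▸ Commute.refl a), fun h => hab ?_, fun h => hab ?_, rfl⟩
  · have h1 : b * a = 1 := mul_left_cancel (a := a) (by rw [mul_one, ← mul_assoc]; exact h.symm)
    rw [eq_inv_of_mul_eq_one_left h1, inv_eq_self hL.set ha.1]
  · have h1 : a * b = b * a := by
      conv_rhs => rw [h]
      rw [mul_assoc, mul_self_eq_one hL.set ha.1, mul_one]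
    exact h1

theorem exists_nb [Finite G] (hL : Local D) (hd : d ∈ D) (e : G) : ∃ y ∈ nb D d, y ≠ e :=
  Set.exists_ne_of_one_lt_ncard (by rw [nb_ncard hL hd]; norm_num) e

theorem nb_not_commute (hL : Local D) (hd : d ∈ D) {x y : G} (hx : x ∈ nb D d) (hy : y ∈ nb D d)
    (hne : x ≠ y) : ¬ Commute x y := by
  obtain ⟨a, b, ha, hb, hab, he⟩ := hL.tri d hd
  rw [he] at hx hy
  simp only [Set.mem_insert_iff, Set.mem_singleton_iff] at hx hy
  have hac : ¬ Commute a (a * b * a) := fun h => hab (by
    have := (commute_conj_iff hL.set ha.1 a (a * b * a)).mpr h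
    rwa [mul_self_eq_one hL.set ha.1, one_mul, conj_conj hL.set ha.1] at this)
  have hbc : ¬ Commute b (a * b * a) := fun h => hab (by
    have := (commute_conj_iff hL.set hb.1 b (a * b * a)).mpr h
    rw [mul_self_eq_one hL.set hb.1, one_mul, braid hL.set ha.1 hb.1 hab,
      conj_conj hL.set hb.1] at this
    exact this.symm)
  rcases hx with rfl | rfl | rfl <;> rcases hy with rfl | rfl | rfl
  all_goals first
    | exact absurd rfl hne
    | exact hab
    | exact fun h => hab h.symm
    | exact hac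
    | exact fun h => hac h.symm
    | exact hbc
    | exact fun h => hbc h.symm

theorem eq_set_of_mem [Finite G] (hL : Local D) (hd : d ∈ D) {x y z : G} (hx : x ∈ nb D d)
    (hy : y ∈ nb D d) (hz : z ∈ nb D d) (hxy : x ≠ y) (hxz : x ≠ z) (hyz : y ≠ z) :
    nb D d = {x, y, z} := by
  refine (Set.eq_of_subset_of_ncard_le ?_ ?_ (Set.toFinite _)).symm
  · rintro w (rfl | rfl | rfl) <;> assumption
  · rw [nb_ncard hL hd, Set.ncard_eq_three.mpr ⟨x, y, z, hxy, hxz, hyz, rfl⟩]

theorem nb_eq_pair [Finite G] (hL : Local D) (hd : d ∈ D) {x y : G} (hx : x ∈ nb D d)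
    (hy : y ∈ nb D d) (hne : x ≠ y) : nb D d = {x, y, x * y * x} := by
  have hnc := nb_not_commute hL hd hx hy hne
  refine eq_set_of_mem hL hd hx hy (nb_flip_fix hL hx hy) hne (fun h => ?_) (fun h => hnc ?_)
  · refine hne ?_
    have h1 : y * x = 1 := mul_left_cancel (a := x) (by rw [mul_one, ← mul_assoc]; exact h.symm)
    rw [eq_inv_of_mul_eq_one_left h1, inv_eq_self hL.set hx.1]
  · show x * y = y * x
    conv_rhs => rw [h]
    rw [mul_assoc, mul_self_eq_one hL.set hx.1, mul_one]

/-- Conjugating a member commuting with neither of two commuting members by their product gives a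
member commuting with it. -/
theorem double_flip (hL : Local D) {x p q : G} (hx : x ∈ D) (hp : p ∈ D) (hq : q ∈ D)
    (hpq : Commute p q) (hxp : ¬ Commute x p) (hxq : ¬ Commute x q) :
    p * (q * x * q) * p ∈ D ∧ Commute x (p * (q * x * q) * p) := by
  refine ⟨conj_mem hL.set hL.conj hp (conj_mem hL.set hL.conj hq hx), ?_⟩
  have h1 : Commute (p * x * p) (q * x * q) := by
    rw [braid hL.set hp hx (fun h => hxp h.symm), braid hL.set hq hx (fun h => hxq h.symm)]
    exact (commute_conj_iff hL.set hx _ _).mpr hpq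
  have h2 := (commute_conj_iff hL.set hp (p * x * p) (q * x * q)).mpr h1
  rwa [conj_conj hL.set hp] at h2

theorem double_flip_nb (hL : Local D) {x p q : G} (hx : x ∈ D) (hp : p ∈ D) (hq : q ∈ nb D p)
    (hxp : ¬ Commute x p) (hxq : ¬ Commute x q) : p * (q * x * q) * p ∈ nb D x := by
  obtain ⟨h1, h2⟩ := double_flip hL hx hp hq.1 hq.2.2 hxp hxq
  refine ⟨h1, fun h => hxq ?_, h2⟩
  have h3 : q * x * q = p * x * p := by
    conv_rhs => rw [← h]
    rw [conj_conj hL.set hp]
  -- now `x` commutes with `p * q`, which is an involution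
  rw [braid hL.set hp hx (fun h => hxp h.symm), braid hL.set hq.1 hx (fun h => hxq h.symm)] at h3
  exact absurd (mul_left_cancel (mul_right_cancel h3)) hq.2.1

/-! ### Congruence of members of one neighbourhood class -/

theorem mul_mem_pCore_of_starEq [Finite G] (hS : IsThreeTranspositionSet D) (hc : IsConjClosed D)
    {d e : G} (hd : d ∈ D) (he : e ∈ D) (h : StarEq D d e) : d * e ∈ Cfsg.pCore 3 G := by
  haveI : Fact (Nat.Prime 3) := ⟨Nat.prime_three⟩
  have hR := starEq_isInvariantEquiv hc
  set K := classKernel hc (StarEq D) hR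
  haveI : K.Normal := classKernel_normal hc _ hR
  set S : Set G := {b | b ∈ D ∧ StarEq D d b}
  set E := Subgroup.closure S
  set T : Set E := {x : E | (x : G) ∈ S}
  have hT : IsThreeTranspositionSet T := by
    refine ⟨fun x hx => ?_, fun x hx y hy => ?_⟩
    · rw [← Subgroup.orderOf_coe]; exact hS.1 _ hx.1
    · rcases hS.2 _ hx.1 _ hy.1 with h | h
      · exact Or.inl (Subtype.ext h)
      · exact Or.inr (Subtype.ext h)
  have hTc : IsConjClosed T := class_set_conjClosed hR hc d
  have hTgen : Subgroup.closure T = ⊤ := Subgroup.closure_closure_coe_preimage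
  have hTw : ∀ x ∈ T, ∀ y ∈ T, Commute x y → x = y := by
    intro x hx y hy hxy
    by_contra hne
    exact not_commute_of_starEq hS hy.1 (fun h => hne (Subtype.ext h))
      (hR.trans (hR.symm hx.2) hy.2) (hxy.map E.subtype)
  have hdS : d ∈ E := Subgroup.subset_closure ⟨hd, hR.refl d⟩
  have heS : e ∈ E := Subgroup.subset_closure ⟨he, h⟩
  set O := (Cfsg.pCore 3 E).map E.subtype
  have hO : d * e ∈ O :=
    ⟨_, mul_mem_pCore_three hT hTc hTgen hTw (a := ⟨d, hdS⟩) (b := ⟨e, heS⟩) ⟨hd, hR.refl d⟩
      ⟨he, h⟩, rfl⟩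
  have hOnorm : ∀ k ∈ K, k ∈ Subgroup.normalizer (O : Set G) := by
    intro k hk
    have hmem : ∀ x ∈ E, k * x * k⁻¹ ∈ E := by
      intro x hx
      have hmap : E.map (MulAut.conj k).toMonoidHom ≤ E := by
        rw [MonoidHom.map_closure, Subgroup.closure_le]
        rintro _ ⟨b, hb, rfl⟩
        exact Subgroup.subset_closure ⟨hc k b hb.1, hR.trans hb.2 (hR.symm (hk b hb.1))⟩
      exact hmap ⟨x, hx, rfl⟩
    have hkE : k ∈ Subgroup.normalizer (E : Set G) :=
      Subgroup.mem_normalizer_fintype fun x hx => hmem x hx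
    haveI : (Cfsg.pCore 3 E).Characteristic := PSolvable.pCore_characteristic 3
    refine Subgroup.mem_normalizer_fintype ?_
    rintro _ ⟨x, hx, rfl⟩
    let σ : MulAut E := MulEquiv.ofBijective
      (((MulAut.conj k).toMonoidHom.comp E.subtype).codRestrict E fun x => hmem x x.2)
      (Finite.injective_iff_bijective.mp fun x y hxy => Subtype.ext
        ((MulAut.conj k).injective (congrArg Subtype.val hxy)))
    refine ⟨σ x, ?_, rfl⟩
    have := Subgroup.Characteristic.fixed (H := Cfsg.pCore 3 E) inferInstance σ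
    rw [← this] at hx
    exact hx
  have hle : O ⊓ K ≤ Cfsg.pCore 3 G :=
    le_pCore_of_normalized inf_le_right
      (fun k hk => Subgroup.mem_normalizer_fintype fun x hx =>
        ⟨(Subgroup.mem_normalizer_iff.mp (hOnorm k hk) x).mp hx.1,
          K.mul_mem (K.mul_mem hk hx.2) (K.inv_mem hk)⟩)
      (((Fitting.pCore_isPGroup 3).map E.subtype).to_inf_left)
  exact hle ⟨hO, mul_mem_classKernel_star hS hc hd he h⟩

theorem starEq_of_nb (hd : d ∈ D) {e : G} (h : nb D d = nb D e) : StarEq D d e := by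
  intro y hy
  have := Set.ext_iff.mp h y
  exact ⟨fun h1 => (this.mp ⟨hy, h1⟩).2, fun h1 => (this.mpr ⟨hy, h1⟩).2⟩

/-! ### A homomorphism from the symmetric group of degree three -/

theorem perm_three_cases (p : Equiv.Perm (Fin 3)) : p = 1 ∨ p = Equiv.swap 0 1 ∨ p = Equiv.swap 1 2
    ∨ p = Equiv.swap 0 1 * Equiv.swap 1 2 ∨ p = Equiv.swap 1 2 * Equiv.swap 0 1 ∨
    p = Equiv.swap 0 1 * Equiv.swap 1 2 * Equiv.swap 0 1 := by
  revert p
  decide

theorem perm_three_central {p : Equiv.Perm (Fin 3)} (h0 : Commute p (Equiv.swap 0 1))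
    (h1 : Commute p (Equiv.swap 1 2)) : p = 1 := by
  rcases perm_three_cases p with rfl | rfl | rfl | rfl | rfl | rfl
  · rfl
  all_goals exact absurd (And.intro h0.eq h1.eq) (by decide)

theorem hom_three_injective (hL : Local D) {a b : G} (ha : a ∈ D) (hb : b ∈ D)
    (hab : ¬ Commute a b) (φ : Equiv.Perm (Fin 3) →* G) (h0 : φ (Equiv.swap 0 1) = a)
    (h1 : φ (Equiv.swap 1 2) = b) : Function.Injective φ := by
  rw [injective_iff_map_eq_one]
  intro p hp
  have hne : a * b ≠ 1 := fun h => hab (by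
    rw [eq_inv_of_mul_eq_one_left h, inv_eq_self hL.set hb])
  rcases perm_three_cases p with rfl | rfl | rfl | rfl | rfl | rfl
  · rfl
  all_goals simp only [map_mul, h0, h1] at hp
  · exact absurd hp (ne_one_of_mem hL.set ha)
  · exact absurd hp (ne_one_of_mem hL.set hb)
  · exact absurd hp hne
  · exact absurd (mul_eq_one_comm.mp hp) hne
  · exact absurd hp (ne_one_of_mem hL.set (conj_mem hL.set hL.conj ha hb))

/-! ### The bipartite case -/

theorem case_bipartite [Finite G] (hL : Local D)
    (hcore : ∀ d ∈ D, Nat.card ↥(Cfsg.pCore 3 G ⊓ Subgroup.centralizer ({d} : Set G)) ≤ 3)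
    {d a b e : G} (hd : d ∈ D) (ha : a ∈ nb D d) (hb : b ∈ nb D d) (hab : a ≠ b)
    (hea : e ∈ nb D a) (heb : e ∈ nb D b) (hed : e ≠ d) :
    Nonempty (↥(Subgroup.closure D) ≃* Equiv.Perm (Fin 3) × Equiv.Perm (Fin 3)) := by
  have hS := hL.set
  have hde : ¬ Commute d e :=
    nb_not_commute hL ha.1 (nb_symm hd ha) hea hed.symm
  have hnc := nb_not_commute hL hd ha hb hab
  have hnd := nb_eq_pair hL hd ha hb hab
  have hae : a ∈ nb D e := nb_symm ha.1 hea
  have hbe : b ∈ nb D e := nb_symm hb.1 heb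
  have hne : nb D e = nb D d := by rw [nb_eq_pair hL hea.1 hae hbe hab, hnd]
  have hna : nb D a = {d, e, d * e * d} := nb_eq_pair hL ha.1 (nb_symm hd ha) hea hed.symm
  have hnb : nb D b = {d, e, d * e * d} := nb_eq_pair hL hb.1 (nb_symm hd hb) heb hed.symm
  set M := Cfsg.pCore 3 G with hMdef
  haveI : Fact (Nat.Prime 3) := ⟨Nat.prime_three⟩
  haveI : M.Normal := Fitting.pCore_normal 3
  have hu : d * e ∈ M := mul_mem_pCore_of_starEq hS hL.conj hd hea.1 (starEq_of_nb hd hne.symm)
  have hv : a * b ∈ M :=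
    mul_mem_pCore_of_starEq hS hL.conj ha.1 hb.1 (starEq_of_nb ha.1 (hna.trans hnb.symm))
  have hu3 := mul_pow_three_of_not_commute hS hd hea.1 hde
  have hv3 := mul_pow_three_of_not_commute hS ha.1 hb.1 hnc
  have cda : Commute d a := ha.2.2
  have cdb : Commute d b := hb.2.2
  have cea : Commute e a := hea.2.2.symm
  have ceb : Commute e b := heb.2.2.symm
  have huv : Commute (d * e) (a * b) := (cda.mul_right cdb).mul_left (cea.mul_right ceb)
  -- the size of `M`
  have hsize : Nat.card M ≤ 9 := by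
    set C := (M ⊓ Subgroup.centralizer ({d} : Set G)).subgroupOf M
    have hidx : C.index ≤ 3 := by
      let f : M ⧸ C → ↥(nb D a) := fun q => Quotient.liftOn' q
        (fun m => ⟨(m : G) * d * (m : G)⁻¹, by
          have h1 : d * ((m : G) * d * (m : G)⁻¹) ∈ M := by
            rw [show d * ((m : G) * d * (m : G)⁻¹) = d * m * d⁻¹ * (m : G)⁻¹ by
              rw [inv_eq_self hS hd]; group]
            exact mul_mem (Subgroup.Normal.conj_mem inferInstance _ m.2 d) (inv_mem m.2)
          have h2 := starEq_of_mul_mem hS (Fitting.pCore_isPGroup 3) hd (hL.conj m d hd) h1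
          have h3 := (h2 a ha.1).mp ha.2
          exact nb_symm (hL.conj m d hd) ⟨ha.1, h3⟩⟩)
        (fun m n hmn => by
          rw [QuotientGroup.leftRel_apply, Subgroup.mem_subgroupOf, Subgroup.mem_inf,
            Subgroup.mem_centralizer_singleton_iff] at hmn
          obtain ⟨-, hmn⟩ := hmn
          refine Subtype.ext ?_
          simp only [Subgroup.coe_mul, Subgroup.coe_inv] at hmn
          calc (m : G) * d * (m : G)⁻¹
              = (m : G) * (d * ((m : G)⁻¹ * n)) * (n : G)⁻¹ := by group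
            _ = (m : G) * (((m : G)⁻¹ * n) * d) * (n : G)⁻¹ := by rw [hmn]
            _ = (n : G) * d * (n : G)⁻¹ := by group)
      have hf : Function.Injective f := by
        intro x y hxy
        induction x using QuotientGroup.induction_on with | _ m => ?_
        induction y using QuotientGroup.induction_on with | _ n => ?_
        rw [QuotientGroup.eq, Subgroup.mem_subgroupOf, Subgroup.mem_inf]
        refine ⟨(m⁻¹ * n).2, Subgroup.mem_centralizer_singleton_iff.mpr ?_⟩
        have h1 : (m : G) * d * (m : G)⁻¹ = (n : G) * d * (n : G)⁻¹ := congrArg Subtype.val hxy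
        simp only [Subgroup.coe_mul, Subgroup.coe_inv]
        calc (m : G)⁻¹ * n * d = (m : G)⁻¹ * ((n : G) * d * (n : G)⁻¹) * n := by group
          _ = (m : G)⁻¹ * ((m : G) * d * (m : G)⁻¹) * n := by rw [h1]
          _ = d * ((m : G)⁻¹ * n) := by group
      have h5 := Nat.card_le_card_of_injective f hf
      rw [Nat.card_coe_set_eq, nb_ncard hL ha.1] at h5
      rw [Subgroup.index_eq_card]
      exact h5
    have h2 : Nat.card C ≤ 3 := by
      rw [Nat.card_congr (Subgroup.subgroupOfEquivOfLe inf_le_left).toEquiv]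
      exact hcore d hd
    rw [← C.card_mul_index]
    exact Nat.mul_le_mul h2 hidx
  -- every element of `M` is a product of powers of the two products
  let g : Fin 3 × Fin 3 → M := fun i =>
    ⟨(d * e) ^ (i.1 : ℕ) * (a * b) ^ (i.2 : ℕ), mul_mem (pow_mem hu _) (pow_mem hv _)⟩
  have hu1 : d * e ≠ 1 := fun h => hde (by rw [eq_inv_of_mul_eq_one_left h, inv_eq_self hS hea.1])
  have hv1 : a * b ≠ 1 := fun h => hnc (by rw [eq_inv_of_mul_eq_one_left h, inv_eq_self hS hb.1])
  have hduv : ¬ Commute d (d * e) := fun h => hde (by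
    show d * e = e * d
    exact mul_left_cancel (a := d) (by rw [h.eq, mul_assoc]))
  have hou : orderOf (d * e) = 3 := orderOf_eq_prime hu3 hu1
  have hov : orderOf (a * b) = 3 := orderOf_eq_prime hv3 hv1
  have dconj : ∀ n : ℕ, d * (d * e) ^ n * d = ((d * e) ^ n)⁻¹ := fun n => by
    rw [← conj_eq hS hd, ← conj_pow, ← inv_pow, mul_inv_rev, inv_eq_self hS hd,
      inv_eq_self hS hea.1, ← mul_assoc d d, mul_self_eq_one hS hd, one_mul]
  have cd : ∀ n : ℕ, Commute d ((a * b) ^ n) := fun n => (cda.mul_right cdb).pow_right n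
  have aconj : ∀ n : ℕ, a * (a * b) ^ n * a = ((a * b) ^ n)⁻¹ := fun n => by
    rw [← conj_eq hS ha.1, ← conj_pow, ← inv_pow, mul_inv_rev, inv_eq_self hS ha.1,
      inv_eq_self hS hb.1, ← mul_assoc a a, mul_self_eq_one hS ha.1, one_mul]
  have ca : ∀ n : ℕ, Commute a ((d * e) ^ n) := fun n => (cda.symm.mul_right cea.symm).pow_right n
  have hg : Function.Injective g := by
    rintro ⟨i, j⟩ ⟨k, l⟩ h
    have h1 : (d * e) ^ (i : ℕ) * (a * b) ^ (j : ℕ) = (d * e) ^ (k : ℕ) * (a * b) ^ (l : ℕ) :=
      congrArg Subtype.val h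
    have key : ∀ i j : ℕ, (d * e) ^ i * (a * b) ^ j * (d * ((d * e) ^ i * (a * b) ^ j) * d)⁻¹
        = (d * e) ^ (2 * i) := by
      intro i j
      have e1 : d * ((d * e) ^ i * (a * b) ^ j) * d = ((d * e) ^ i)⁻¹ * (a * b) ^ j := by
        rw [← dconj i, mul_assoc (d * (d * e) ^ i) d, (cd j).eq]
        group
      rw [e1, mul_inv_rev, inv_inv, ← mul_assoc, mul_inv_cancel_right, ← pow_add, two_mul]
    have h2 : (d * e) ^ (2 * (i : ℕ)) = (d * e) ^ (2 * (k : ℕ)) := by rw [← key _ j, ← key _ l, h1]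
    rw [pow_inj_mod, hou] at h2
    have hik : i = k := by ext; omega
    subst hik
    have h3 := mul_left_cancel h1
    rw [pow_inj_mod, hov] at h3
    have hjl : j = l := by ext; omega
    rw [hjl]
  have hg' : Function.Bijective g := hg.bijective_of_nat_card_le (by simpa using hsize)
  -- the product of two commuting members from the two parts inverts `M`
  have hinv : ∀ m ∈ M, a * m * a = d * m⁻¹ * d := by
    intro m hm
    obtain ⟨⟨i, j⟩, hij⟩ := hg'.2 ⟨m, hm⟩
    rw [show m = (d * e) ^ (i : ℕ) * (a * b) ^ (j : ℕ) from (congrArg Subtype.val hij).symm]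
    have c2 := huv.pow_pow (i : ℕ) (j : ℕ)
    calc a * ((d * e) ^ (i : ℕ) * (a * b) ^ (j : ℕ)) * a
        = (d * e) ^ (i : ℕ) * (a * (a * b) ^ (j : ℕ) * a) := by
          rw [← mul_assoc, (ca _).eq]; group
      _ = (d * e) ^ (i : ℕ) * ((a * b) ^ (j : ℕ))⁻¹ := by rw [aconj]
      _ = ((a * b) ^ (j : ℕ))⁻¹ * (d * ((d * e) ^ (i : ℕ))⁻¹ * d) := by
          rw [← dconj, c2.inv_right.eq]
          congr 1
          simp only [mul_assoc, mul_self_eq_one hS hd, mul_one, mul_self_cancel hS hd]
      _ = d * (((a * b) ^ (j : ℕ))⁻¹ * ((d * e) ^ (i : ℕ))⁻¹) * d := by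
          rw [← mul_assoc, ← mul_assoc, ← (cd _).inv_right.eq]; group
      _ = d * ((d * e) ^ (i : ℕ) * (a * b) ^ (j : ℕ))⁻¹ * d := by rw [mul_inv_rev]
  -- every member lies in one of the two parts
  have hall : ∀ x ∈ D, x ∈ nb D d ∨ x ∈ nb D a := by
    intro x hx
    by_contra! hxn
    have hxd : ¬ Commute x d := by
      intro h
      rcases eq_or_ne x d with rfl | hne'
      · exact hxn.2 (nb_symm hx ha)
      · exact hxn.1 ⟨hx, hne', h.symm⟩
    have hxa : ¬ Commute x a := by
      intro h
      rcases eq_or_ne x a with rfl | hne'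
      · exact hxn.1 ha
      · exact hxn.2 ⟨hx, hne', h.symm⟩
    have hinv' : ∀ m : G, x * m⁻¹ * x = (x * m * x)⁻¹ := fun m => by
      rw [mul_inv_rev, mul_inv_rev, inv_eq_self hS hx, mul_assoc]
    have dinv : ∀ m : G, d * m⁻¹ * d = (d * m * d)⁻¹ := fun m => by
      rw [mul_inv_rev, mul_inv_rev, inv_eq_self hS hd, mul_assoc]
    have memx : ∀ m ∈ M, x * m * x ∈ M := fun m hm => by
      simpa [inv_eq_self hS hx] using Subgroup.Normal.conj_mem inferInstance m hm x
    have memd : ∀ m ∈ M, d * m * d ∈ M := fun m hm => by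
      simpa [inv_eq_self hS hd] using Subgroup.Normal.conj_mem inferInstance m hm d
    have triv : ∀ y ∈ D, ¬ Commute x y → ∀ m : G,
        x * (y * (x * (y * (x * (y * m * y) * x) * y) * x) * y) * x = m := by
      intro y hy hxy m
      calc _ = (x * y) ^ 3 * m * ((x * y) ^ 3)⁻¹ := by
            simp only [pow_succ, pow_zero, one_mul, mul_inv_rev, inv_eq_self hS hx,
              inv_eq_self hS hy, mul_assoc]
        _ = m := by rw [mul_pow_three_of_not_commute hS hx hy hxy]; group
    have hd3 := triv d hd hxd (d * e)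
    have ha3 := triv a ha.1 hxa (d * e)
    have m1 := memx _ (memd _ hu)
    have m2 := memx _ (memd _ m1)
    have ha' : ∀ m ∈ M, a * m * a = (d * m * d)⁻¹ := fun m hm => by rw [hinv m hm, dinv]
    rw [ha' _ hu, hinv', ha' _ (inv_mem m1), dinv, inv_inv, ha' _ m2, hinv', hd3] at ha3
    refine hu1 ?_
    have h2 : (d * e) ^ 2 = 1 := by
      rw [sq]
      nth_rw 1 [← ha3]
      exact inv_mul_cancel _
    calc d * e = (d * e) ^ 3 * ((d * e) ^ 2)⁻¹ := by group
      _ = 1 := by rw [hu3, h2]; group
  obtain ⟨φ, p0, p1⟩ := exists_hom_perm_three (mul_self_eq_one hS hd) (mul_self_eq_one hS hea.1)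
    (braid hS hd hea.1 hde)
  obtain ⟨ψ, q0, q1⟩ := exists_hom_perm_three (mul_self_eq_one hS ha.1) (mul_self_eq_one hS hb.1)
    (braid hS ha.1 hb.1 hnc)
  have hperm : ∀ {H : Subgroup (Equiv.Perm (Fin 3))}, Equiv.swap 0 1 ∈ H → Equiv.swap 1 2 ∈ H →
      H = ⊤ := fun h0 h1 => eq_top_of_two_mem h0 h1
  have hcom : ∀ p q, Commute (φ p) (ψ q) := by
    have h1 : ∀ q, Commute d (ψ q) ∧ Commute e (ψ q) := by
      intro q
      have hmem : ψ q ∈ Subgroup.centralizer ({d, e} : Set G) := by
        have : (Subgroup.centralizer ({d, e} : Set G)).comap ψ = ⊤ := by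
          refine hperm ?_ ?_ <;> rw [Subgroup.mem_comap, Subgroup.mem_centralizer_iff]
          · rintro _ (rfl | rfl)
            · rw [q0]; exact cda.eq
            · rw [q0]; exact cea.eq
          · rintro _ (rfl | rfl)
            · rw [q1]; exact cdb.eq
            · rw [q1]; exact ceb.eq
        exact Subgroup.mem_comap.mp (this ▸ Subgroup.mem_top q)
      exact ⟨Subgroup.mem_centralizer_iff.mp hmem d (by simp),
        Subgroup.mem_centralizer_iff.mp hmem e (by simp)⟩
    intro p q
    have : (Subgroup.centralizer ({ψ q} : Set G)).comap φ = ⊤ := by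
      refine hperm ?_ ?_ <;> rw [Subgroup.mem_comap, Subgroup.mem_centralizer_singleton_iff]
      · rw [p0]; exact (h1 q).1.eq
      · rw [p1]; exact (h1 q).2.eq
    exact Subgroup.mem_centralizer_singleton_iff.mp (Subgroup.mem_comap.mp (this ▸ Subgroup.mem_top p))
  set Φ := MonoidHom.noncommCoprod φ ψ hcom with hΦ
  have hΦ0 : ∀ p, Φ (p, 1) = φ p := fun p => by simp [hΦ, MonoidHom.noncommCoprod_apply]
  have hΦ1 : ∀ q, Φ (1, q) = ψ q := fun q => by simp [hΦ, MonoidHom.noncommCoprod_apply]
  have hφi := hom_three_injective hL hd hea.1 hde φ p0 p1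
  have hψi := hom_three_injective hL ha.1 hb.1 hnc ψ q0 q1
  have hinj : Function.Injective Φ := by
    rw [injective_iff_map_eq_one]
    rintro ⟨p, q⟩ hpq
    rw [hΦ, MonoidHom.noncommCoprod_apply] at hpq
    have hp : φ p = (ψ q)⁻¹ := eq_inv_of_mul_eq_one_left hpq
    have hp1 : p = 1 := perm_three_central
      (hφi (by rw [map_mul, map_mul, hp]; exact (hcom (Equiv.swap 0 1) q).symm.inv_left.eq))
      (hφi (by rw [map_mul, map_mul, hp]; exact (hcom (Equiv.swap 1 2) q).symm.inv_left.eq))
    subst hp1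
    rw [map_one, one_mul] at hpq
    exact Prod.ext rfl (hψi (hpq.trans (map_one ψ).symm))
  have hrange : Φ.range = Subgroup.closure D := by
    have m0 : ∀ p, φ p ∈ Φ.range := fun p => ⟨(p, 1), hΦ0 p⟩
    have m1 : ∀ q, ψ q ∈ Φ.range := fun q => ⟨(1, q), hΦ1 q⟩
    refine le_antisymm ?_ ((Subgroup.closure_le _).mpr fun x hx => ?_)
    · rintro _ ⟨⟨p, q⟩, rfl⟩
      rw [hΦ, MonoidHom.noncommCoprod_apply]
      have h1 : (Subgroup.closure D).comap φ = ⊤ := by
        refine hperm ?_ ?_ <;> rw [Subgroup.mem_comap]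
        · rw [p0]; exact Subgroup.subset_closure hd
        · rw [p1]; exact Subgroup.subset_closure hea.1
      have h2 : (Subgroup.closure D).comap ψ = ⊤ := by
        refine hperm ?_ ?_ <;> rw [Subgroup.mem_comap]
        · rw [q0]; exact Subgroup.subset_closure ha.1
        · rw [q1]; exact Subgroup.subset_closure hb.1
      exact mul_mem (Subgroup.mem_comap.mp (h1 ▸ Subgroup.mem_top p))
        (Subgroup.mem_comap.mp (h2 ▸ Subgroup.mem_top q))
    · have md : d ∈ Φ.range := p0 ▸ m0 _
      have me : e ∈ Φ.range := p1 ▸ m0 _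
      have ma : a ∈ Φ.range := q0 ▸ m1 _
      have mb : b ∈ Φ.range := q1 ▸ m1 _
      rcases hall x hx with h | h
      · rw [hnd] at h
        rcases h with rfl | rfl | rfl
        exacts [ma, mb, mul_mem (mul_mem ma mb) ma]
      · rw [hna] at h
        rcases h with rfl | rfl | rfl
        exacts [md, me, mul_mem (mul_mem md me) md]
  exact ⟨((MonoidHom.ofInjective hinj).trans (MulEquiv.subgroupCongr hrange)).symm⟩

/-! ### The Petersen case -/

/-- No two non-commuting members have two common neighbours. -/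
def NoSquare (D : Set G) : Prop :=
  ∀ d ∈ D, ∀ a ∈ nb D d, ∀ b ∈ nb D d, a ≠ b → ∀ e, e ∈ nb D a → e ∈ nb D b → e = d

/-- The ball of radius two. -/
def ball (D : Set G) (d : G) : Set G :=
  {y | y = d ∨ y ∈ nb D d ∨ ∃ a ∈ nb D d, y ∈ nb D a}

theorem far_nb [Finite G] (hL : Local D) (hN : NoSquare D) {d a b e : G} (hd : d ∈ D)
    (ha : a ∈ nb D d) (hb : b ∈ nb D d) (hab : a ≠ b) (he : e ∈ nb D a) (hed : e ≠ d) :
    nb D e = {a, b * (d * e * d) * b, (a * b * a) * (d * e * d) * (a * b * a)} := by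
  have hS := hL.set
  set c := a * b * a with hc
  set f := d * e * d with hf
  have hde : ¬ Commute d e := nb_not_commute hL ha.1 (nb_symm hd ha) he hed.symm
  have hac : a ≠ c := by
    intro h
    refine nb_not_commute hL hd ha hb hab ?_
    have h1 : b * a = 1 := mul_left_cancel (a := a) (by rw [mul_one, ← mul_assoc]; exact h.symm)
    rw [eq_inv_of_mul_eq_one_left h1, inv_eq_self hS ha.1]
  have hcb : b ≠ c := by
    intro h
    refine nb_not_commute hL hd ha hb hab ?_
    show a * b = b * a
    conv_rhs => rw [h, hc]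
    rw [mul_assoc, mul_self_eq_one hS ha.1, mul_one]
  have hcd : c ∈ nb D d := nb_flip_fix hL ha hb
  have hfa : f ∈ nb D a := nb_flip_fix hL (nb_symm hd ha) he
  have hfd : f ≠ d := fun h => hed (by
    have h1 : d * f * d = e := conj_conj hS hd e
    rw [h, mul_self_eq_one hS hd, one_mul] at h1
    exact h1.symm)
  have hnfd : ¬ Commute d f := nb_not_commute hL ha.1 (nb_symm hd ha) hfa hfd.symm
  have hfe : f ≠ e := fun h => hde (commute_of_conj_eq hS hd h)
  -- the two further neighbours
  have main : ∀ p ∈ nb D d, p ≠ a → p * f * p ∈ nb D e ∧ p * f * p ≠ a := by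
    intro p hp hpa
    have hpe : ¬ Commute e p := by
      intro h
      rcases eq_or_ne e p with rfl | hne
      · exact nb_not_commute hL hd ha hp hpa.symm he.2.2
      · exact hed (hN d hd a ha p hp hpa.symm e he ⟨he.1, hne, h.symm⟩)
    refine ⟨double_flip_nb hL he.1 hp.1 (nb_symm hd hp) hpe (fun h => hde h.symm), fun h => ?_⟩
    -- conjugating back gives a neighbour of `d` equal to `f`
    have h1 : f = p * a * p := by rw [← h, conj_conj hS hp.1]
    have h3 := nb_flip_fix hL hp ha
    rw [← h1] at h3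
    exact nb_not_commute hL ha.1 (nb_symm hd ha) hfa hfd.symm h3.2.2
  obtain ⟨h1, h1'⟩ := main b hb hab.symm
  obtain ⟨h2, h2'⟩ := main c hcd hac.symm
  refine eq_set_of_mem hL he.1 (nb_symm ha.1 he) h1 h2 h1'.symm h2'.symm fun h => ?_
  -- otherwise `f` would have two common neighbours with `d`
  have hcb' : (b * c * b) = a := by
    have h3 := nb_eq_pair hL hd hb hcd hcb
    have h4 : a ∈ ({b, c, b * c * b} : Set G) := h3 ▸ ha
    rcases h4 with h4 | h4 | h4
    exacts [absurd h4 hab, absurd h4 hac, h4.symm]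
  -- `b * c` fixes `f` and moves `a` to a further neighbour of `d`
  have h5 : (b * c) * f * (b * c)⁻¹ = f := by
    rw [mul_inv_rev, inv_eq_self hS hb.1, inv_eq_self hS hcd.1,
      show b * c * f * (c * b) = b * (c * f * c) * b by group, ← h, conj_conj hS hb.1]
  have h6 := nb_conj hL (b * c) hfa
  rw [h5, mul_inv_rev, inv_eq_self hS hb.1, inv_eq_self hS hcd.1,
    show b * c * a * (c * b) = b * (c * a * c) * b by group] at h6
  have h7 : c * a * c = b := by
    have h3 := nb_eq_pair hL hd hcd ha hac.symm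
    have h4 : b ∈ ({c, a, c * a * c} : Set G) := h3 ▸ hb
    rcases h4 with h4 | h4 | h4
    exacts [absurd h4 hcb, absurd h4 hab.symm, h4.symm]
  rw [h7, mul_self_eq_one hS hb.1, one_mul] at h6
  exact hfd (hN d hd a ha b hb hab f hfa h6)

theorem ball_closed [Finite G] (hL : Local D) (hN : NoSquare D) {d x y : G} (hd : d ∈ D)
    (hx : x ∈ ball D d) (hy : y ∈ nb D x) : y ∈ ball D d := by
  rcases hx with rfl | hx | ⟨a, ha, hxa⟩
  · exact Or.inr (Or.inl hy)
  · exact Or.inr (Or.inr ⟨x, hx, hy⟩)
  · rcases eq_or_ne x d with rfl | hxd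
    · exact Or.inr (Or.inl hy)
    obtain ⟨b, hb, hba⟩ := exists_nb hL hd a
    rw [far_nb hL hN hd ha hb hba.symm hxa hxd] at hy
    have hf : d * x * d ∈ nb D a := nb_flip_fix hL (nb_symm hd ha) hxa
    rcases hy with rfl | rfl | rfl
    · exact Or.inr (Or.inl ha)
    · exact Or.inr (Or.inr ⟨_, nb_flip_fix hL hb ha, nb_flip hL hb.1 hf⟩)
    · have hc := nb_flip_fix hL ha hb
      exact Or.inr (Or.inr ⟨_, nb_flip_fix hL hc ha, nb_flip hL hc.1 hf⟩)

theorem ball_mem {d x : G} (hd : d ∈ D) (hx : x ∈ ball D d) : x ∈ D := by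
  rcases hx with rfl | hx | ⟨a, -, hxa⟩
  exacts [hd, hx.1, hxa.1]

theorem ball_eq_of_nb [Finite G] (hL : Local D) (hN : NoSquare D) {x z : G} (hx : x ∈ D)
    (hz : z ∈ nb D x) : ball D z = ball D x := by
  have key : ∀ {x z : G}, x ∈ D → z ∈ nb D x → ball D z ⊆ ball D x := by
    intro x z hx hz y hy
    have hzb : z ∈ ball D x := Or.inr (Or.inl hz)
    rcases hy with rfl | hy | ⟨a, ha, hya⟩
    exacts [hzb, ball_closed hL hN hx hzb hy,
      ball_closed hL hN hx (ball_closed hL hN hx hzb ha) hya]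
  exact (key hx hz).antisymm (key hz.1 (nb_symm hx hz))

theorem ball_conj (hL : Local D) (g : G) {x y : G} (hy : y ∈ ball D x) :
    g * y * g⁻¹ ∈ ball D (g * x * g⁻¹) := by
  rcases hy with rfl | hy | ⟨a, ha, hya⟩
  exacts [Or.inl rfl, Or.inr (Or.inl (nb_conj hL g hy)),
    Or.inr (Or.inr ⟨_, nb_conj hL g ha, nb_conj hL g hya⟩)]

set_option synthInstance.maxSize 4000 in
set_option synthInstance.maxHeartbeats 400000 in
/-- The ten vertices cannot be properly three-coloured at their edges. -/
theorem no_colouring_fin : ∀ ae af : Fin 3, ae ≠ 0 → af ≠ 0 → ae ≠ af →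
    ∀ bg bh : Fin 3, bg ≠ 1 → bh ≠ 1 → bg ≠ bh →
    ∀ ci cj : Fin 3, ci ≠ 2 → cj ≠ 2 → ci ≠ cj →
    ∀ ej eh : Fin 3, ej ≠ ae → eh ≠ ae → ej ≠ eh → ej ≠ cj → eh ≠ bh →
    ∀ hi : Fin 3, hi ≠ bh → hi ≠ eh → hi ≠ ci →
    ∀ fi : Fin 3, fi ≠ af → fi ≠ ci → fi ≠ hi →
    ∀ fg : Fin 3, fg ≠ af → fg ≠ fi → fg ≠ bg →
    ∀ gj : Fin 3, gj ≠ bg → gj ≠ fg → gj ≠ cj → gj ≠ ej → False := by
  decide

/-- The colour of an edge seen from an outside member. -/
def col (x p q : G) : G := (p * q) * x * (p * q)⁻¹

/-- Two vertices at distance two with the centralisation property. -/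
def Good (D : Set G) (x w : G) : Prop :=
  ∀ p ∈ nb D w, ∀ q ∈ nb D w, p ≠ q → ∀ y ∈ ball D x, Commute (p * q) y

theorem exists_good [Finite G] (hL : Local D) (hN : NoSquare D) {d x : G} (hd : d ∈ D)
    (hx : x ∈ D) (hxC : x ∉ ball D d) : ∃ w ∈ ball D d, Good D x w := by
  classical
  have hS := hL.set
  have hxd : ∀ {p}, p ∈ ball D d → ¬ Commute x p := by
    intro p hp h
    rcases eq_or_ne x p with rfl | hne
    · exact hxC hp
    · exact hxC (ball_closed hL hN hd hp ⟨hx, hne, h.symm⟩)
  have hcol : ∀ {p q}, p ∈ ball D d → q ∈ nb D p → col x p q ∈ nb D x := by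
    intro p q hp hq
    have := double_flip_nb hL hx (ball_mem hd hp) hq (hxd hp) (hxd (ball_closed hL hN hd hp hq))
    rwa [col, mul_inv_rev, inv_eq_self hS hq.1, inv_eq_self hS (ball_mem hd hp),
      show p * q * x * (q * p) = p * (q * x * q) * p by group]
  have hcolsymm : ∀ {p q}, q ∈ nb D p → col x p q = col x q p := fun {p q} hq => by
    rw [col, col, hq.2.2.symm.eq]
  -- some vertex sees the same colour twice
  obtain ⟨w, hw, p, hp, q, hq, hpq, heq⟩ : ∃ w ∈ ball D d, ∃ p ∈ nb D w, ∃ q ∈ nb D w,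
      p ≠ q ∧ col x w p = col x w q := by
    by_contra! hproper
    obtain ⟨a, ha, -⟩ := exists_nb hL hd d
    obtain ⟨b, hb, hba⟩ := exists_nb hL hd a
    set c := a * b * a
    have hnd := nb_eq_pair hL hd ha hb hba.symm
    have hc : c ∈ nb D d := nb_flip_fix hL ha hb
    have hac : a ≠ c := fun h => nb_not_commute hL hd ha hb hba.symm (by
      have h1 : b * a = 1 := mul_left_cancel (a := a) (by rw [mul_one, ← mul_assoc]; exact h.symm)
      rw [eq_inv_of_mul_eq_one_left h1, inv_eq_self hS ha.1])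
    have hbc : b ≠ c := fun h => nb_not_commute hL hd ha hb hba.symm (by
      show a * b = b * a
      conv_rhs => rw [h]
      rw [show c = a * b * a from rfl, mul_assoc, mul_self_eq_one hS ha.1, mul_one])
    have hcb : c * a * c = b := by
      have h4 : b ∈ ({c, a, c * a * c} : Set G) := nb_eq_pair hL hd hc ha hac.symm ▸ hb
      rcases h4 with h4 | h4 | h4
      exacts [absurd h4 hbc, absurd h4 hba, h4.symm]
    obtain ⟨e, he, hed⟩ := exists_nb hL ha.1 d
    set f := d * e * d with hf
    have hfa : f ∈ nb D a := nb_flip_fix hL (nb_symm hd ha) he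
    have hef : e ≠ f := fun h => nb_not_commute hL ha.1 (nb_symm hd ha) he hed.symm
      (commute_of_conj_eq hS hd h.symm)
    have hfd : f ≠ d := fun h => hed (by
      have h1 : d * f * d = e := conj_conj hS hd e
      rw [h, mul_self_eq_one hS hd, one_mul] at h1
      exact h1.symm)
    have hfe : d * f * d = e := conj_conj hS hd e
    have ne_e := far_nb hL hN hd ha hb hba.symm he hed
    have ne_f := far_nb hL hN hd ha hb hba.symm hfa hfd
    rw [hfe] at ne_f
    set j := b * f * b
    set h' := c * f * c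
    set i := b * e * b
    set g := c * e * c
    have hgb : g ∈ nb D b := hcb ▸ nb_flip hL hc.1 he
    have hhb : h' ∈ nb D b := hcb ▸ nb_flip hL hc.1 hfa
    have hbac : b * a * b = c := (braid hS ha.1 hb.1 (nb_not_commute hL hd ha hb hba.symm)).symm
    have hic : i ∈ nb D c := hbac ▸ nb_flip hL hb.1 he
    have hjc : j ∈ nb D c := hbac ▸ nb_flip hL hb.1 hfa
    have hij : i ≠ j := fun h => hef (mul_left_cancel (mul_right_cancel h))
    have hgh : g ≠ h' := fun h => hef (mul_left_cancel (mul_right_cancel h))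
    have hje : j ∈ nb D e := by rw [ne_e]; simp [j, f]
    have hhe : h' ∈ nb D e := by rw [ne_e]; simp [h', f, c]
    have hif : i ∈ nb D f := by rw [ne_f]; simp [i]
    have hgf : g ∈ nb D f := by rw [ne_f]; simp [g, c]
    have hgd : g ≠ d := fun h => hed (by
      have h1 : c * g * c = e := conj_conj hS hc.1 e
      rw [h, conj_eq_of_commute hS hc.1 hc.2.2.symm] at h1
      exact h1.symm)
    have hdd : d * g * d = h' := by
      show d * (c * e * c) * d = c * (d * e * d) * c
      calc d * (c * e * c) * d = (d * c) * e * (c * d) := by group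
        _ = (c * d) * e * (d * c) := by rw [hc.2.2.eq]
        _ = _ := by group
    have hdh : d * h' * d = g := by rw [← hdd, conj_conj hS hd]
    have hhd : h' ≠ d := fun h => hgd (by rw [← hdh, h, mul_self_eq_one hS hd, one_mul])
    have ne_g := far_nb hL hN hd hb ha hba hgb hgd
    have ne_h := far_nb hL hN hd hb ha hba hhb hhd
    rw [hdd] at ne_g
    rw [hdh] at ne_h
    have haca : a * c * a = b := conj_conj hS ha.1 b
    have conj2 : ∀ y, Commute a y → a * (c * y * c) * a = b * y * b := fun y hy => by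
      calc a * (c * y * c) * a = (a * c * a) * (a * y * a) * (a * c * a) := by
            simp only [mul_assoc, mul_self_cancel hS ha.1]
        _ = b * y * b := by rw [haca, conj_eq_of_commute hS ha.1 hy]
    have e1 : a * h' * a = j := conj2 f hfa.2.2
    have e2 : a * g * a = i := conj2 e he.2.2
    have hbab : b * a * b = c := hbac
    rw [hbab, e1, show c * h' * c = f from conj_conj hS hc.1 f] at ne_g
    rw [hbab, e2, show c * g * c = e from conj_conj hS hc.1 e] at ne_h
    -- the colours
    set A := col x d a with hA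
    set B := col x d b with hB
    have hdC : d ∈ ball D d := Or.inl rfl
    have hAB : A ≠ B := hproper d hdC a ha b hb hba.symm
    have hAC : A ≠ col x d c := hproper d hdC a ha c hc hac
    have hBC : B ≠ col x d c := hproper d hdC b hb c hc hbc
    have hx3 : nb D x = {A, B, col x d c} :=
      eq_set_of_mem hL hx (hcol hdC ha) (hcol hdC hb) (hcol hdC hc) hAB hAC hBC
    let K : G → Fin 3 := fun y => if y = A then 0 else if y = B then 1 else 2
    have hK : ∀ u v, u ∈ nb D x → v ∈ nb D x → u ≠ v → K u ≠ K v := by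
      intro u v hu hv huv
      rw [hx3] at hu hv
      rcases hu with hu | hu | hu <;> rcases hv with hv | hv | hv
      all_goals first
        | exact absurd (hu.trans hv.symm) huv
        | simp [K, show u = _ from hu, show v = _ from hv, hAB, hAC, hBC, hAB.symm, hAC.symm, hBC.symm]
    have hP : ∀ w ∈ ball D d, ∀ p ∈ nb D w, ∀ q ∈ nb D w, p ≠ q →
        K (col x w p) ≠ K (col x w q) :=
      fun w hw p hp q hq hne => hK _ _ (hcol hw hp) (hcol hw hq) (hproper w hw p hp q hq hne)
    have K0 : K (col x d a) = 0 := if_pos hA.symm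
    have K1 : K (col x d b) = 1 := by simp [K, B, show col x d b ≠ A from hAB.symm]
    have K2 : K (col x d c) = 2 := by simp only [K, if_neg hAC.symm, if_neg hBC.symm]
    have ba : a ∈ ball D d := Or.inr (Or.inl ha)
    have bb : b ∈ ball D d := Or.inr (Or.inl hb)
    have bc : c ∈ ball D d := Or.inr (Or.inl hc)
    have sa := nb_symm hd ha
    have sb := nb_symm hd hb
    have sc := nb_symm hd hc
    have hid : i ≠ d := fun h => hed (by
      have h1 : b * i * b = e := conj_conj hS hb.1 e
      rw [h, conj_eq_of_commute hS hb.1 hb.2.2.symm] at h1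
      exact h1.symm)
    have hjd : j ≠ d := fun h => hfd (by
      have h1 : b * j * b = f := conj_conj hS hb.1 f
      rw [h, conj_eq_of_commute hS hb.1 hb.2.2.symm] at h1
      exact h1.symm)
    have three : ∀ {w u v t : G}, w ∈ D → nb D w = {u, v, t} →
        (u ∈ nb D w ∧ v ∈ nb D w ∧ t ∈ nb D w) ∧ u ≠ v ∧ u ≠ t ∧ v ≠ t := by
      intro w u v t hw h
      refine ⟨⟨h ▸ Or.inl rfl, h ▸ Or.inr (Or.inl rfl), h ▸ Or.inr (Or.inr rfl)⟩, ?_⟩
      have h3 := nb_ncard hL hw
      rw [h] at h3
      have hp : ∀ s t : G, ({s, t} : Set G).ncard ≤ 2 := fun s t => by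
        have := Set.ncard_insert_le s ({t} : Set G)
        rw [Set.ncard_singleton] at this
        exact this
      refine ⟨?_, ?_, ?_⟩ <;> intro h4 <;> subst h4
      · have := hp u t
        simp only [Set.mem_insert_iff, true_or, Set.insert_eq_of_mem] at h3
        omega
      · have := hp v u
        simp only [Set.mem_insert_iff, Set.mem_singleton_iff, or_true, Set.insert_eq_of_mem] at h3
        omega
      · have := hp u v
        simp only [Set.mem_singleton_iff, Set.insert_eq_of_mem] at h3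
        omega
    obtain ⟨⟨-, me_j, me_h⟩, ne1, ne2, ne3⟩ := three he.1 ne_e
    obtain ⟨⟨-, mf_i, mf_g⟩, nf1, nf2, nf3⟩ := three hfa.1 ne_f
    obtain ⟨⟨-, mg_j, mg_f⟩, ng1, ng2, ng3⟩ := three hgb.1 ne_g
    obtain ⟨⟨-, mh_i, mh_e⟩, nh1, nh2, nh3⟩ := three hhb.1 ne_h
    have bal_e : e ∈ ball D d := Or.inr (Or.inr ⟨a, ha, he⟩)
    have bal_f : f ∈ ball D d := Or.inr (Or.inr ⟨a, ha, hfa⟩)
    have bal_g : g ∈ ball D d := Or.inr (Or.inr ⟨b, hb, hgb⟩)
    have bal_h : h' ∈ ball D d := Or.inr (Or.inr ⟨b, hb, hhb⟩)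
    have bal_i : i ∈ ball D d := Or.inr (Or.inr ⟨c, hc, hic⟩)
    have bal_j : j ∈ ball D d := Or.inr (Or.inr ⟨c, hc, hjc⟩)
    have se := nb_symm ha.1 he
    have sf := nb_symm ha.1 hfa
    have sg := nb_symm hb.1 hgb
    have sh := nb_symm hb.1 hhb
    have si := nb_symm hc.1 hic
    have sj := nb_symm hc.1 hjc
    -- the other directions
    have jg : g ∈ nb D j := nb_symm hgb.1 mg_j
    have je : e ∈ nb D j := nb_symm he.1 me_j
    have ih : h' ∈ nb D i := nb_symm hhb.1 mh_i
    have iF : f ∈ nb D i := nb_symm hfa.1 mf_i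
    have hce : c ≠ e := fun h => nb_not_commute hL hd ha hc hac (h ▸ he.2.2)
    have hcf : c ≠ f := fun h => nb_not_commute hL hd ha hc hac (h ▸ hfa.2.2)
    refine no_colouring_fin (K (col x a e)) (K (col x a f)) ?_ ?_ (hP a ba e he f hfa hef)
      (K (col x b g)) (K (col x b h')) ?_ ?_ (hP b bb g hgb h' hhb hgh)
      (K (col x c i)) (K (col x c j)) ?_ ?_ (hP c bc i hic j hjc hij)
      (K (col x e j)) (K (col x e h')) ?_ ?_ (hP e bal_e j me_j h' me_h ne3) ?_ ?_
      (K (col x h' i)) ?_ ?_ ?_
      (K (col x f i)) ?_ ?_ ?_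
      (K (col x f g)) ?_ ?_ ?_
      (K (col x g j)) ?_ ?_ ?_ ?_
    · rw [← K0, hcolsymm ha]; exact hP a ba e he d sa hed
    · rw [← K0, hcolsymm ha]; exact hP a ba f hfa d sa hfd
    · rw [← K1, hcolsymm hb]; exact hP b bb g hgb d sb hgd
    · rw [← K1, hcolsymm hb]; exact hP b bb h' hhb d sb hhd
    · rw [← K2, hcolsymm hc]; exact hP c bc i hic d sc hid
    · rw [← K2, hcolsymm hc]; exact hP c bc j hjc d sc hjd
    · rw [hcolsymm he]; exact hP e bal_e j me_j a se ne1.symm
    · rw [hcolsymm he]; exact hP e bal_e h' me_h a se ne2.symm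
    · rw [hcolsymm hjc, hcolsymm me_j]; exact hP j bal_j e je c sj hce.symm
    · rw [hcolsymm hhb, hcolsymm me_h]; exact hP h' bal_h e mh_e b sh nh2.symm
    · rw [hcolsymm hhb]; exact hP h' bal_h i mh_i b sh nh1.symm
    · rw [hcolsymm me_h]; exact hP h' bal_h i mh_i e mh_e nh3
    · rw [hcolsymm mh_i, hcolsymm hic]; exact hP i bal_i h' ih c si (fun h =>
        nb_not_commute hL hd hb hc hbc (h ▸ hhb.2.2))
    · rw [hcolsymm hfa]; exact hP f bal_f i mf_i a sf nf1.symm
    · rw [hcolsymm mf_i, hcolsymm hic]; exact hP i bal_i f iF c si hcf.symm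
    · rw [hcolsymm mf_i, hcolsymm mh_i]; exact hP i bal_i f iF h' ih (fun h =>
        hfd (hN d hd a ha b hb hba.symm f hfa (h ▸ hhb)))
    · rw [hcolsymm hfa]; exact hP f bal_f g mf_g a sf nf2.symm
    · exact hP f bal_f g mf_g i mf_i nf3.symm
    · rw [hcolsymm hgb, hcolsymm mf_g]; exact hP g bal_g f mg_f b sg ng2.symm
    · rw [hcolsymm hgb]; exact hP g bal_g j mg_j b sg ng1.symm
    · rw [hcolsymm mf_g]; exact hP g bal_g j mg_j f mg_f ng3
    · rw [hcolsymm mg_j, hcolsymm hjc]; exact hP j bal_j g jg c sj (fun h =>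
        nb_not_commute hL hd hb hc hbc (h ▸ hgb.2.2))
    · rw [hcolsymm mg_j, hcolsymm me_j]; exact hP j bal_j g jg e je (fun h =>
        nb_not_commute hL ha.1 hfa he hef.symm (h ▸ mf_g.2.2))
  -- the product of the two neighbours fixes `x`
  have hwD := ball_mem hd hw
  have hxfix : (p * q) * x * (p * q)⁻¹ = x := by
    have h1 : p * x * p = q * x * q := by
      have : ∀ r, r ∈ D → col x w r = w * (r * x * r) * w := fun r hr => by
        rw [col, mul_inv_rev, inv_eq_self hS hr, inv_eq_self hS hwD]; group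
      rw [this p hp.1, this q hq.1] at heq
      exact mul_left_cancel (mul_right_cancel heq)
    calc p * q * x * (p * q)⁻¹ = p * (q * x * q) * p := by
          rw [mul_inv_rev, inv_eq_self hS hp.1, inv_eq_self hS hq.1]; group
      _ = x := by rw [← h1, conj_conj hS hp.1]
  have hv3 : (p * q) ^ 3 = 1 :=
    mul_pow_three_of_not_commute hS hp.1 hq.1 (nb_not_commute hL hwD hp hq hpq)
  have comm_of : ∀ {v y : G}, v * y * v⁻¹ = y → Commute v y := fun {v y} h => mul_inv_eq_iff_eq_mul.mp h
  have hvz : Commute (p * q) (col x w p) := by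
    refine comm_of ?_
    have hvw : (p * q) * w * (p * q)⁻¹ = w := by
      rw [(hp.2.2.symm.mul_left hq.2.2.symm).eq, mul_inv_cancel_right]
    have hvp : (p * q) * p * (p * q)⁻¹ = q := by
      rw [mul_inv_rev, inv_eq_self hS hp.1, inv_eq_self hS hq.1]
      have h5 : (p * q * p * q * p) * q = 1 := by
        rw [← hv3]; simp [pow_succ, mul_assoc]
      rw [show p * q * p * (q * p) = p * q * p * q * p by group, eq_inv_of_mul_eq_one_left h5,
        inv_eq_self hS hq.1]
    calc p * q * col x w p * (p * q)⁻¹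
        = col ((p * q) * x * (p * q)⁻¹) ((p * q) * w * (p * q)⁻¹) ((p * q) * p * (p * q)⁻¹) := by
          simp only [col]; group
      _ = col x w q := by rw [hxfix, hvw, hvp]
      _ = col x w p := heq.symm
  have step : ∀ {u z : G}, u ∈ D → z ∈ nb D u → Commute (p * q) u → Commute (p * q) z →
      ∀ y ∈ nb D u, Commute (p * q) y := by
    intro u z hu hz cu cz y hy
    by_contra hny
    have hyz : y ≠ z := fun h => hny (h ▸ cz)
    have m : ∀ t ∈ nb D u, (p * q) * t * (p * q)⁻¹ ∈ nb D u := fun t ht => by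
      have := nb_conj hL (p * q) ht
      rwa [cu.eq, mul_inv_cancel_right] at this
    set y' := (p * q) * y * (p * q)⁻¹ with hy'
    have ne_z : ∀ t, t ≠ z → (p * q) * t * (p * q)⁻¹ ≠ z := fun t ht h => ht (by
      calc t = (p * q)⁻¹ * ((p * q) * t * (p * q)⁻¹) * (p * q) := by group
        _ = (p * q)⁻¹ * z * (p * q) := by rw [h]
        _ = z := by rw [mul_assoc, ← cz.eq, inv_mul_cancel_left])
    have hy'y : y' ≠ y := fun h => hny (comm_of h)
    have hset := eq_set_of_mem hL hu hz hy (m y hy) hyz.symm (ne_z y hyz).symm hy'y.symm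
    have h2 : (p * q) * y' * (p * q)⁻¹ ∈ ({z, y, y'} : Set G) := hset ▸ m y' (m y hy)
    rcases h2 with h2 | h2 | h2
    · exact ne_z y' (ne_z y hyz) h2
    · refine hny (comm_of ?_)
      have e : ∀ t : G, (p * q) ^ 3 * t * ((p * q) ^ 3)⁻¹ = t := fun t => by rw [hv3]; group
      calc p * q * y * (p * q)⁻¹ = p * q * ((p * q) * y' * (p * q)⁻¹) * (p * q)⁻¹ := by rw [h2]
        _ = (p * q) ^ 3 * y * ((p * q) ^ 3)⁻¹ := by
          rw [hy']; simp only [pow_succ, pow_zero, one_mul, mul_inv_rev, mul_assoc]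
        _ = y := e y
    · exact hy'y (mul_left_cancel (mul_right_cancel (h2.trans hy'.symm.symm)))
  have cx : Commute (p * q) x := comm_of hxfix
  have hall : ∀ y ∈ ball D x, Commute (p * q) y := by
    rintro y (rfl | hy | ⟨t, ht, hy⟩)
    · exact cx
    · exact step hx (hcol hw hp) cx hvz y hy
    · exact step ht.1 (nb_symm hx ht) (step hx (hcol hw hp) cx hvz t ht) cx y hy
  refine ⟨w, hw, fun p' hp' q' hq' hne y hy => ?_⟩
  have hv := hall y hy
  have hset := nb_eq_pair hL hwD hp hq hpq
  have P : p' * q' = p * q ∨ p' * q' = (p * q)⁻¹ := by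
    have sp := mul_self_cancel hS hp.1
    have hvv : p * q * (p * q) = (p * q)⁻¹ := by
      rw [eq_inv_iff_mul_eq_one, ← hv3]; simp [pow_succ, mul_assoc]
    have hi : (p * q)⁻¹ = q * p := by
      rw [mul_inv_rev, inv_eq_self hS hp.1, inv_eq_self hS hq.1]
    rw [hset] at hp' hq'
    rcases hp' with e1 | e1 | e1 <;> rcases hq' with e2 | e2 | e2
    all_goals rw [show p' = _ from e1, show q' = _ from e2]
    all_goals first
      | exact absurd (e1.trans e2.symm) hne
      | exact Or.inl rfl
      | exact Or.inr hi.symm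
      | (right; rw [hi]; simp only [mul_assoc, sp]; done)
      | (left; simp only [mul_assoc, mul_self_eq_one hS hp.1, mul_one]; done)
      | (right; rw [← hvv]; simp only [mul_assoc]; done)
      | (left
         have h6 : q * (p * q * p) = (p * q * (p * q))⁻¹ * 1 := by
           rw [mul_one, mul_inv_rev, hi]; simp only [mul_assoc]
         rw [h6, hvv, inv_inv, mul_one])
  rcases P with P | P <;> rw [P]
  exacts [hv, hv.inv_left]

theorem good_nb [Finite G] (hL : Local D) (hN : NoSquare D) {d x u : G} (hd : d ∈ D)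
    (hx : x ∈ D) (hxC : x ∉ ball D d) (hu : u ∈ ball D d) (hg : Good D x u) :
    ∀ b ∈ nb D u, Good D x b := by
  have hS := hL.set
  have stable : ∀ {p q : G}, p ∈ ball D d → q ∈ nb D p → ∀ y ∈ ball D x,
      (p * q) * y * (p * q)⁻¹ ∈ ball D x := by
    intro p q hp hq y hy
    have hxp : ∀ {r}, r ∈ ball D d → ¬ Commute x r := by
      intro r hr h
      rcases eq_or_ne x r with rfl | hne
      · exact hxC hr
      · exact hxC (ball_closed hL hN hd hr ⟨hx, hne, h.symm⟩)
    have h1 := double_flip_nb hL hx (ball_mem hd hp) hq (hxp hp) (hxp (ball_closed hL hN hd hp hq))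
    have h2 := ball_conj hL (p * q) hy
    rw [mul_inv_rev, inv_eq_self hS hq.1, inv_eq_self hS (ball_mem hd hp),
      show p * q * x * (q * p) = p * (q * x * q) * p by group, ball_eq_of_nb hL hN hx h1] at h2
    rwa [mul_inv_rev, inv_eq_self hS hq.1, inv_eq_self hS (ball_mem hd hp)]
  -- transport to a member at distance two
  have two : ∀ {u a t : G}, u ∈ ball D d → Good D x u → a ∈ nb D u → t ∈ nb D a → t ≠ u →
      Good D x t := by
    intro u a t hu hg ha ht htu
    have huD := ball_mem hd hu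
    set e := u * t * u
    have he : e ∈ nb D a := nb_flip_fix hL (nb_symm huD ha) ht
    have hut : ¬ Commute u t := nb_not_commute hL ha.1 (nb_symm huD ha) ht htu.symm
    have hgt : (a * e) * u * (a * e)⁻¹ = t := by
      rw [mul_inv_rev, inv_eq_self hS ha.1, inv_eq_self hS he.1,
        show a * e * u * (e * a) = a * (e * u * e) * a by group,
        ← braid hS huD he.1 (fun h => hut (by
          have := (commute_conj_iff hS huD u e).mpr h
          rwa [conj_conj hS huD, mul_self_eq_one hS huD, one_mul] at this)),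
        conj_conj hS huD, conj_eq_of_commute hS ha.1 ht.2.2]
    intro p hp q hq hne y hy
    have back : ∀ r ∈ nb D t, (a * e)⁻¹ * r * (a * e) ∈ nb D u := by
      intro r hr
      have h1 := nb_conj hL (a * e)⁻¹ hr
      rw [inv_inv, ← hgt, show (a * e)⁻¹ * ((a * e) * u * (a * e)⁻¹) * (a * e) = u by group] at h1
      exact h1
    have hinv : (a * e)⁻¹ = a * e := by
      rw [mul_inv_rev, inv_eq_self hS ha.1, inv_eq_self hS he.1, he.2.2.eq]
    have hy' : (a * e)⁻¹ * y * (a * e) ∈ ball D x := by
      have := stable (ball_closed hL hN hd hu ha) he y hy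
      rwa [hinv] at this ⊢
    have hc := hg _ (back p hp) _ (back q hq)
      (fun h => hne (mul_left_cancel (mul_right_cancel h))) _ hy'
    have h3 := commute_conj (g := a * e) |>.mpr hc
    simpa [mul_assoc] using h3
  intro b hb
  have huD := ball_mem hd hu
  obtain ⟨a, ha, hab⟩ := exists_nb hL huD b
  obtain ⟨t, ht, htu⟩ := exists_nb hL ha.1 u
  have hgt := two hu hg ha ht htu
  -- from `t` back to `b`
  set c := a * b * a
  set m := c * (u * t * u) * c
  have hne_t := far_nb hL hN huD ha hb hab ht htu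
  have hm : m ∈ nb D t := by rw [hne_t]; exact Or.inr (Or.inr rfl)
  have hbm : b ∈ nb D m := by
    have hc := nb_flip_fix hL ha hb
    have h1 := nb_flip hL hc.1 (nb_flip_fix hL (nb_symm huD ha) ht)
    have hcb : c * a * c = b := by
      show a * b * a * a * (a * b * a) = b
      calc a * b * a * a * (a * b * a) = a * (b * a * b) * a := by
            simp only [mul_assoc, mul_self_cancel hS ha.1]
        _ = b := by
            rw [← braid hS ha.1 hb.1 (nb_not_commute hL huD ha hb hab), conj_conj hS ha.1]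
    rw [hcb] at h1
    exact nb_symm hb.1 h1
  refine two (ball_closed hL hN hd (ball_closed hL hN hd hu ha) ht) hgt hm hbm ?_
  intro h
  exact nb_not_commute hL huD ha hb hab (h ▸ ht.2.2)

theorem petersen_all [Finite G] (hL : Local D) (hN : NoSquare D) {d : G} (hd : d ∈ D) :
    ∀ x ∈ D, x ∈ ball D d := by
  intro x hx
  by_contra hxC
  have hS := hL.set
  obtain ⟨w, hw, hgw⟩ := exists_good hL hN hd hx hxC
  have prop : ∀ {u v}, u ∈ ball D d → Good D x u → v ∈ nb D u → Good D x v :=
    fun {u v} hu h hv => good_nb hL hN hd hx hxC hu h v hv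
  have hgd : Good D x d := by
    rcases hw with rfl | hw | ⟨a, ha, hwa⟩
    · exact hgw
    · exact prop (Or.inr (Or.inl hw)) hgw (nb_symm hd hw)
    · exact prop (Or.inr (Or.inl ha)) (prop (Or.inr (Or.inr ⟨a, ha, hwa⟩)) hgw (nb_symm ha.1 hwa))
        (nb_symm hd ha)
  obtain ⟨a, ha, -⟩ := exists_nb hL hd d
  obtain ⟨b, hb, hba⟩ := exists_nb hL hd a
  obtain ⟨e, he, hed⟩ := exists_nb hL ha.1 d
  set c := a * b * a
  set h := c * (d * e * d) * c
  have hgh : h ∈ nb D e := by rw [far_nb hL hN hd ha hb hba.symm he hed]; exact Or.inr (Or.inr rfl)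
  have hga := prop (Or.inl rfl) hgd ha
  have hbe : e ∈ ball D d := Or.inr (Or.inr ⟨a, ha, he⟩)
  have hgH := prop hbe (prop (Or.inr (Or.inl ha)) hga he) hgh
  have hbh : b ∈ nb D h := by
    have hc := nb_flip_fix hL ha hb
    have h1 := nb_flip hL hc.1 (nb_flip_fix hL (nb_symm hd ha) he)
    have hcb : c * a * c = b := by
      show a * b * a * a * (a * b * a) = b
      calc a * b * a * a * (a * b * a) = a * (b * a * b) * a := by
            simp only [mul_assoc, mul_self_cancel hS ha.1]
        _ = b := by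
            rw [← braid hS ha.1 hb.1 (nb_not_commute hL hd ha hb hba.symm), conj_conj hS ha.1]
    rw [hcb] at h1
    exact nb_symm hb.1 h1
  have heb : e ≠ b := fun h' => nb_not_commute hL hd ha hb hba.symm (h' ▸ he.2.2)
  have h1 := hga d (nb_symm hd ha) e he hed.symm x (Or.inl rfl)
  have h2 := hgH e (nb_symm he.1 hgh) b hbh heb x (Or.inl rfl)
  have h3 := hgd b hb a ha hba x (Or.inl rfl)
  have h4 := (h1.mul_left h2).mul_left h3
  rw [show d * e * (e * b) * (b * a) = d * (e * e) * (b * b) * a by group,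
    mul_self_eq_one hS he.1, mul_self_eq_one hS hb.1, mul_one, mul_one] at h4
  have hxd : ¬ Commute x d := fun h' => hxC (by
    rcases eq_or_ne x d with rfl | hne
    · exact Or.inl rfl
    · exact Or.inr (Or.inl ⟨hx, hne, h'.symm⟩))
  have hxa : ¬ Commute x a := fun h' => hxC (by
    rcases eq_or_ne x a with rfl | hne
    · exact Or.inr (Or.inl ha)
    · exact Or.inr (Or.inr ⟨a, ha, hx, hne, h'.symm⟩))
  have h5 := double_flip_nb hL hx hd ha hxd hxa
  refine h5.2.1 ?_
  calc d * (a * x * a) * d = (d * a) * x * (a * d) := by group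
    _ = x * (d * a) * (a * d) := by rw [h4.eq]
    _ = x := by simp only [mul_assoc, mul_self_cancel hS ha.1, mul_self_eq_one hS hd, mul_one]

theorem case_petersen [Finite G] (hL : Local D) (hN : NoSquare D) (hne : D.Nonempty) :
    Nonempty (↥(Subgroup.closure D) ≃* Equiv.Perm (Fin 5)) := by
  have hS := hL.set
  obtain ⟨d, hd⟩ := hne
  obtain ⟨a, ha, -⟩ := exists_nb hL hd d
  obtain ⟨b, hb, hba⟩ := exists_nb hL hd a
  obtain ⟨e, he, hed⟩ := exists_nb hL ha.1 d
  have hde : ¬ Commute d e := nb_not_commute hL ha.1 (nb_symm hd ha) he hed.symm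
  have hab := nb_not_commute hL hd ha hb hba.symm
  have heb : ¬ Commute e b := by
    intro h
    rcases eq_or_ne e b with rfl | hne
    · exact hab he.2.2
    · exact hed (hN d hd a ha b hb hba.symm e he ⟨he.1, hne, h.symm⟩)
  have cd : Commute d b := hb.2.2
  have ca : Commute d a := ha.2.2
  have ce : Commute e a := he.2.2.symm
  have braid3 : ∀ {s t : G}, s ∈ D → t ∈ D → ¬ Commute s t → (s * t) ^ 3 = 1 :=
    fun hs ht h => mul_pow_three_of_not_commute hS hs ht h
  have pow2 : ∀ {s t : G}, s ∈ D → t ∈ D → Commute s t → (s * t) ^ 2 = 1 :=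
    fun hs ht h => (commute_iff_mul_pow_two hS hs ht).mp h
  let r : Fin 4 → G := ![d, e, b, a]
  have hl : (CoxeterMatrix.A 4).IsLiftable r := by
    intro i k
    fin_cases i <;> fin_cases k <;> simp [CoxeterA.A_apply, r]
    all_goals first
      | exact mul_self_eq_one hS hd
      | exact mul_self_eq_one hS he.1
      | exact mul_self_eq_one hS hb.1
      | exact mul_self_eq_one hS ha.1
      | exact pow2 hd hb.1 cd
      | exact pow2 hb.1 hd cd.symm
      | exact pow2 hd ha.1 ca
      | exact pow2 ha.1 hd ca.symm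
      | exact pow2 he.1 ha.1 ce
      | exact pow2 ha.1 he.1 ce.symm
      | exact braid3 hd he.1 hde
      | exact braid3 he.1 hd (fun h => hde h.symm)
      | exact braid3 he.1 hb.1 heb
      | exact braid3 hb.1 he.1 (fun h => heb h.symm)
      | exact braid3 hb.1 ha.1 (fun h => hab h.symm)
      | exact braid3 ha.1 hb.1 hab
  obtain ⟨cs, hcs⟩ := CoxeterA.exists_system 4
  set φ := cs.lift ⟨r, hl⟩
  have hφ : ∀ i, φ (Equiv.swap (Fin.castSucc i) i.succ) = r i := fun i => by
    rw [← hcs]; exact CoxeterSystem.lift_apply_simple cs hl i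
  have hsimple : ∀ i, cs.simple i ∈ φ.range.comap φ := fun i => ⟨_, rfl⟩
  have mr : ∀ i, r i ∈ φ.range := fun i => ⟨_, hφ i⟩
  have hrange : φ.range = Subgroup.closure D := by
    refine le_antisymm ?_ ((Subgroup.closure_le _).mpr fun y hy => ?_)
    · rw [MonoidHom.range_eq_map, ← cs.subgroup_closure_range_simple, MonoidHom.map_closure,
        Subgroup.closure_le]
      rintro _ ⟨_, ⟨i, rfl⟩, rfl⟩
      rw [hcs, hφ]
      fin_cases i <;> simp [r]
      exacts [Subgroup.subset_closure hd, Subgroup.subset_closure he.1,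
        Subgroup.subset_closure hb.1, Subgroup.subset_closure ha.1]
    · have md : d ∈ φ.range := mr 0
      have me : e ∈ φ.range := mr 1
      have mb : b ∈ φ.range := mr 2
      have ma : a ∈ φ.range := mr 3
      have hnd := nb_eq_pair hL hd ha hb hba.symm
      have hna := nb_eq_pair hL ha.1 (nb_symm hd ha) he hed.symm
      have mconj : ∀ {s t}, s ∈ φ.range → t ∈ φ.range → s * t * s ∈ φ.range :=
        fun hs ht => mul_mem (mul_mem hs ht) hs
      have hA : ∀ t ∈ nb D a, t ∈ φ.range := by
        rw [hna]; rintro t (rfl | rfl | rfl)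
        exacts [md, me, mconj md me]
      have hbabc : b * a * b = a * b * a := (braid hS ha.1 hb.1 hab).symm
      have hC : ∀ t ∈ nb D (a * b * a), t ∈ φ.range := by
        intro t ht
        have h1 := nb_flip hL hb.1 ht
        rw [← hbabc, conj_conj hS hb.1] at h1
        rw [← conj_conj hS hb.1 t]
        exact mconj mb (hA _ h1)
      have hB : ∀ t ∈ nb D b, t ∈ φ.range := by
        intro t ht
        have h1 := nb_flip hL ha.1 ht
        rw [← conj_conj hS ha.1 t]
        exact mconj ma (hC _ h1)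
      rcases petersen_all hL hN hd y hy with rfl | h | ⟨t, ht, hyt⟩
      · exact md
      · rw [hnd] at h
        rcases h with rfl | rfl | rfl
        exacts [ma, mb, mconj ma mb]
      · rw [hnd] at ht
        rcases ht with rfl | rfl | rfl
        exacts [hA y hyt, hB y hyt, hC y hyt]
  have hinj : Function.Injective φ := by
    rw [← MonoidHom.ker_eq_bot_iff]
    haveI := alternatingGroup.isSimpleGroup_five
    set K := φ.ker.subgroupOf (alternatingGroup (Fin 5))
    rcases IsSimpleGroup.eq_bot_or_eq_top_of_normal K inferInstance with h | h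
    · rw [Subgroup.eq_bot_iff_forall]
      intro p hp
      have hA : ∀ m ∈ φ.ker, m ∈ alternatingGroup (Fin 5) → m = 1 := fun m h1 h2 =>
        congrArg Subtype.val ((Subgroup.eq_bot_iff_forall _).mp h ⟨m, h2⟩ h1)
      have hc : ∀ s : Equiv.Perm (Fin 5), p * s = s * p := by
        intro s
        have h1 : p * s * p⁻¹ * s⁻¹ = 1 := by
          refine hA _ ?_ ?_
          · rw [show p * s * p⁻¹ * s⁻¹ = p * (s * p⁻¹ * s⁻¹) by group]
            exact mul_mem hp (Subgroup.Normal.conj_mem inferInstance _ (inv_mem hp) s)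
          · rw [Equiv.Perm.mem_alternatingGroup]
            simp [mul_comm, mul_left_comm]
        calc p * s = (p * s * p⁻¹ * s⁻¹) * (s * p) := by group
          _ = s * p := by rw [h1, one_mul]
      ext i : 1
      by_contra hi
      obtain ⟨j, hji, hjp⟩ : ∃ j : Fin 5, j ≠ i ∧ j ≠ p i := by
        have : ∀ u v : Fin 5, ∃ j, j ≠ u ∧ j ≠ v := by decide
        exact this i (p i)
      have h1 := congrArg (fun σ : Equiv.Perm (Fin 5) => σ i) (hc (Equiv.swap i j))
      simp only [Equiv.Perm.mul_apply, Equiv.swap_apply_left] at h1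
      rw [Equiv.swap_apply_of_ne_of_ne (by simpa using hi) hjp.symm] at h1
      exact hji (p.injective h1)
    · exfalso
      have hmem : Equiv.swap (0 : Fin 5) 1 * Equiv.swap 1 2 ∈ alternatingGroup (Fin 5) := by
        rw [Equiv.Perm.mem_alternatingGroup]; decide
      have h1 : φ (Equiv.swap (0 : Fin 5) 1 * Equiv.swap 1 2) = 1 :=
        Subgroup.mem_subgroupOf.mp (show (⟨_, hmem⟩ : alternatingGroup (Fin 5)) ∈ K from
          h ▸ Subgroup.mem_top _)
      rw [map_mul, show φ (Equiv.swap (0 : Fin 5) 1) = d from hφ 0,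
        show φ (Equiv.swap (1 : Fin 5) 2) = e from hφ 1] at h1
      exact hde (by rw [eq_inv_of_mul_eq_one_left h1, inv_eq_self hS he.1])
  exact ⟨((MonoidHom.ofInjective hinj).trans (MulEquiv.subgroupCongr hrange)).symm⟩

/-- Let D be a non-empty conjugation-invariant set of involutions of a finite group G satisfying the 3-transposition order conditions, and suppose that for every d in D the members of D other than d commuting with d generate a subgroup isomorphic to the symmetric group of degree 3, and the largest normal 3-subgroup of the centralizer of d has order 3. Then the subgroup generated by D is isomorphic to the symmetric group of degree 5 or to the direct product of two symmetric groups of degree 3. -/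
theorem result {G : Type*} [Group G] [Finite G] {D : Set G} (hD : Cfsg.IsThreeTranspositionSet D) (hconj : ∀ g : G, ∀ d ∈ D, g * d * g⁻¹ ∈ D) (hne : D.Nonempty) (hloc : ∀ d ∈ D, Nonempty (↥(Subgroup.closure {y : G | y ∈ D ∧ y ≠ d ∧ Commute d y}) ≃* Equiv.Perm (Fin 3)) ∧ Nat.card (Cfsg.pCore 3 ↥(Subgroup.centralizer ({d} : Set G))) = 3) : Nonempty (↥(Subgroup.closure D) ≃* Equiv.Perm (Fin 5)) ∨ Nonempty (↥(Subgroup.closure D) ≃* Equiv.Perm (Fin 3) × Equiv.Perm (Fin 3)) := by
  have hL : Local D := by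
    refine ⟨hD, hconj, fun d hd => ?_⟩
    obtain ⟨ψ⟩ := (hloc d hd).1
    have hmem : ∀ y : ↥(Subgroup.closure (nb D d)), Commute d (y : G) := by
      rintro ⟨y, hy⟩
      induction hy using Subgroup.closure_induction with
      | mem z hz => exact hz.2.2
      | one => exact Commute.one_right d
      | mul z w _ _ h1 h2 => exact h1.mul_right h2
      | inv z _ h1 => exact h1.inv_right
    change ↥(Subgroup.closure (nb D d)) ≃* Equiv.Perm (Fin 3) at ψ
    set T : Set (Equiv.Perm (Fin 3)) := {s | ((ψ.symm s : ↥(Subgroup.closure (nb D d))) : G) ∈ nb D d}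
    -- `T` is a conjugation-invariant nonempty set of involutions
    have hTinv : ∀ s ∈ T, s * s = 1 ∧ s ≠ 1 := by
      intro s hs
      refine ⟨ψ.symm.injective (Subtype.ext ?_), fun h => ?_⟩
      · rw [map_mul, map_one]; exact mul_self_eq_one hD hs.1
      · subst h
        exact ne_one_of_mem hD hs.1 (by rw [map_one]; rfl)
    have hTconj : ∀ g, ∀ s ∈ T, g * s * g⁻¹ ∈ T := by
      intro g s hs
      show _ ∈ nb D d
      rw [map_mul, map_mul, map_inv]
      refine ⟨hconj _ _ hs.1, fun h => hs.2.1 ?_, ?_⟩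
      · have h2 := hmem (ψ.symm g)
        simp only [Subgroup.coe_mul, Subgroup.coe_inv] at h
        rw [← mul_left_cancel_iff (a := ((ψ.symm g : ↥(Subgroup.closure (nb D d))) : G)),
          ← mul_right_cancel_iff (a := ((ψ.symm g : ↥(Subgroup.closure (nb D d))) : G)⁻¹), h,
          h2.symm.eq, mul_inv_cancel_right]
      · exact hmem _
    obtain ⟨s, hs⟩ : T.Nonempty := by
      by_contra hT
      rw [Set.not_nonempty_iff_eq_empty] at hT
      have hnil : nb D d = ∅ := by
        rw [Set.eq_empty_iff_forall_notMem]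
        intro y hy
        have : ψ ⟨y, Subgroup.subset_closure hy⟩ ∈ T := by
          show _ ∈ nb D d
          rw [MulEquiv.symm_apply_apply]; exact hy
        rw [hT] at this
        exact this
      have hsub : Subsingleton ↥(Subgroup.closure (nb D d)) := by
        rw [hnil, Subgroup.closure_empty]; infer_instance
      exact absurd (ψ.symm.injective (Subsingleton.elim (ψ.symm (Equiv.swap (0 : Fin 3) 1))
        (ψ.symm 1))) (by decide)
    have hall : ∀ t, t * t = 1 → t ≠ 1 → t ∈ T := by
      intro t ht ht1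
      have key : ∀ s t : Equiv.Perm (Fin 3), s * s = 1 → s ≠ 1 → t * t = 1 → t ≠ 1 →
          ∃ g, g * s * g⁻¹ = t := by decide
      obtain ⟨g, rfl⟩ := key s t (hTinv s hs).1 (hTinv s hs).2 ht ht1
      exact hTconj g s hs
    refine ⟨((ψ.symm (Equiv.swap 0 1) : ↥(Subgroup.closure (nb D d))) : G),
      ((ψ.symm (Equiv.swap 1 2) : ↥(Subgroup.closure (nb D d))) : G),
      hall _ (by decide) (by decide), hall _ (by decide) (by decide), fun h => ?_, ?_⟩
    · have h2 : Equiv.swap (0 : Fin 3) 1 * Equiv.swap 1 2 = Equiv.swap 1 2 * Equiv.swap 0 1 :=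
        ψ.symm.injective (by rw [map_mul, map_mul]; exact Subtype.ext h.eq)
      exact absurd h2 (by decide)
    · ext y
      constructor
      · intro hy
        set t := ψ ⟨y, Subgroup.subset_closure hy⟩ with ht
        have hyt : y = ((ψ.symm t : ↥(Subgroup.closure (nb D d))) : G) := by
          rw [ht, MulEquiv.symm_apply_apply]
        have htT : t ∈ T := by
          show _ ∈ nb D d
          rw [← hyt]; exact hy
        have key : ∀ t : Equiv.Perm (Fin 3), t * t = 1 → t ≠ 1 → t = Equiv.swap 0 1 ∨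
            t = Equiv.swap 1 2 ∨ t = Equiv.swap 0 1 * Equiv.swap 1 2 * Equiv.swap 0 1 := by decide
        rw [hyt]
        rcases key t (hTinv t htT).1 (hTinv t htT).2 with h | h | h <;> rw [h]
        · exact Or.inl rfl
        · exact Or.inr (Or.inl rfl)
        · right; right
          rw [map_mul, map_mul]
          rfl
      · rintro (rfl | rfl | rfl)
        · exact hall _ (by decide) (by decide)
        · exact hall _ (by decide) (by decide)
        · have := hall (Equiv.swap (0 : Fin 3) 1 * Equiv.swap 1 2 * Equiv.swap 0 1)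
            (by decide) (by decide)
          simpa [T, map_mul] using this
  by_cases hN : NoSquare D
  · exact Or.inl (case_petersen hL hN hne)
  · right
    simp only [NoSquare, not_forall] at hN
    obtain ⟨d, hd, a, ha, b, hb, hab, e, hea, heb, hed⟩ := hN
    refine case_bipartite hL (fun d hd => ?_) hd ha hb hab hea heb hed
    haveI : (Cfsg.pCore 3 G).Normal := Fitting.pCore_normal 3
    set C := Subgroup.centralizer ({d} : Set G)
    have h1 : (Cfsg.pCore 3 G).subgroupOf C ≤ Cfsg.pCore 3 C :=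
      Fitting.le_pCore inferInstance (by
        exact (Fitting.pCore_isPGroup 3).comap_of_injective C.subtype C.subtype_injective)
    have h2 := Subgroup.card_le_of_le h1
    rw [(hloc d hd).2] at h2
    refine le_trans (le_of_eq ?_) h2
    rw [← Subgroup.inf_subgroupOf_right (Cfsg.pCore 3 G) C]
    exact (Nat.card_congr (Subgroup.subgroupOfEquivOfLe inf_le_right).toEquiv).symm

end Cfsg.Agent.S5365
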