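import Cfsg.Statements.S1615
import Cfsg.Agent.Lib.ThreeTransp.StarPairs
import Cfsg.Agent.S5365

set_option autoImplicit false
open Cfsg

namespace Cfsg.Agent.S1615

open CfsgLib.ThreeTransp.StarPairs

/-- If O(⟨D_x⟩) is not central in ⟨D_x⟩ for some transposition x, the 3-transposition group is the symmetric group of degree 5. -/
theorem result {G : Type*} [Group G] [Finite G] (hsol : ∀ N : Subgroup G, N.Normal → Group.IsSolvable ↥N → N = ⊥) (hperf : ⁅commutator G, commutator G⁆ = commutator G) {D : Set G} (hD : Cfsg.IsThreeTranspositionClass D) (x : G) (hx : x ∈ D) (h : ¬ Cfsg.oddCore ↥(Subgroup.closure {y : G | y ∈ D ∧ y ≠ x ∧ Commute x y}) ≤ Subgroup.center ↥(Subgroup.closure {y : G | y ∈ D ∧ y ≠ x ∧ Commute x y})) : Nonempty (G ≃* Equiv.Perm (Fin 5)) := by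
  have hS := hD.1
  have hc := CfsgLib.ThreeTransp.class_conjClosed hD
  obtain ⟨hG, hprim, hw⟩ := CfsgLib.ThreeTransp.primitive_of_no_solvable hsol hperf hD
  set H := Subgroup.closure {y : G | y ∈ D ∧ y ≠ x ∧ Commute x y} with hH
  set O := Cfsg.oddCore ↥H with hOdef
  haveI : O.Normal := CfsgLib.Transfer.pPrimeCore_normal 2 _
  set T : Set H := {u : H | (u : G) ∈ nbr D x}
  have hgen : Subgroup.closure T = ⊤ := Subgroup.closure_closure_coe_preimage
  obtain ⟨u, hu, g, hg, hne⟩ : ∃ u ∈ T, ∃ g ∈ O, g * u * g⁻¹ ≠ u := by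
    by_contra! hall
    exact h (CfsgLib.ThreeTransp.le_center_of_forall hgen fun g hg u hu =>
      (mul_inv_eq_iff_eq_mul.mp (hall u hu g hg)).symm)
  -- two neighbours congruent modulo the odd core
  have hv : (g * u * g⁻¹ : H) ∈ T := by
    show ((g : G) * (u : G) * (g : G)⁻¹) ∈ nbr D x
    exact closure_conj hS (fun p hp => hp.1) (fun p hp q hq => nbr_flip_fix hS hc hp hq) g.2 _ hu
  set v := g * u * g⁻¹ with hvdef
  have hu2 : u * u = 1 := Subtype.ext (CfsgLib.ThreeTransp.mul_self_eq_one hS hu.1)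
  have huv : u * v ∈ O := by
    rw [hvdef, show u * (g * u * g⁻¹) = (u * g * u⁻¹) * (u * u) * g⁻¹ by group, hu2, mul_one]
    exact O.mul_mem (Subgroup.Normal.conj_mem inferInstance g hg u) (O.inv_mem hg)
  have hodd : ∀ w ∈ O, w * w = 1 → w = 1 := by
    intro w hw hw2
    have h1 : orderOf w ∣ 2 := orderOf_dvd_of_pow_eq_one (by rw [pow_two, hw2])
    have h2 : orderOf w ∣ Nat.card O := Subgroup.orderOf_dvd_natCard _ hw
    have h3 := Nat.dvd_gcd h2 h1
    rw [(CfsgLib.Transfer.pPrimeCore_coprime 2 : (Nat.card O).Coprime 2).gcd_eq_one] at h3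
    exact orderOf_eq_one_iff.mp (Nat.dvd_one.mp h3)
  have hncomm : ¬ Commute (u : G) (v : G) := by
    intro hcm
    refine hne ?_
    have h1 : u * v = 1 := hodd _ huv (Subtype.ext (by
      simpa [pow_two] using (CfsgLib.ThreeTransp.commute_iff_mul_pow_two hS hu.1 hv.1).mp hcm))
    show v = u
    calc v = (u * u) * v := by rw [hu2, one_mul]
      _ = u := by rw [mul_assoc, h1, mul_one]
  set π := QuotientGroup.mk' O
  have hπ : π u = π v := by
    refine QuotientGroup.eq.mpr ?_
    rw [inv_eq_of_mul_eq_one_right hu2]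
    exact huv
  have hTS : IsThreeTranspositionSet T := by
    refine CfsgLib.ThreeTransp.restrict_set (D := nbr D x) ⟨fun d hd => hS.1 d hd.1,
      fun d hd e he => hS.2 d hd.1 e he.1⟩ H
  have key : ∀ p ∈ T, ∀ q ∈ T, π p = π q → ∀ e ∈ T, e ≠ p → Commute p e → Commute q e := by
    intro p hp q hq hpq e he hep hpe
    rcases CfsgLib.ThreeTransp.eq_or_commute_of_map_commute π hTS hq he
      (hpq ▸ hpe.map π) with h1 | h1
    · exfalso
      refine hep ?_
      have hp2 : p * p = 1 := Subtype.ext (CfsgLib.ThreeTransp.mul_self_eq_one hS hp.1)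
      have h2 : p * e ∈ O := by
        have h3 := QuotientGroup.eq.mp (hpq.trans h1)
        rwa [inv_eq_of_mul_eq_one_right hp2] at h3
      have h3 := hodd _ h2 (Subtype.ext (by
        simpa [pow_two] using
          (CfsgLib.ThreeTransp.commute_iff_mul_pow_two hS hp.1 he.1).mp (hpe.map H.subtype)))
      calc e = (p * p) * e := by rw [hp2, one_mul]
        _ = p := by rw [mul_assoc, h3, mul_one]
    · exact h1
  have hpair : Pair D x (u : G) (v : G) := by
    refine ⟨hu, hv, hncomm, fun e he hea heb => ?_⟩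
    have heH : e ∈ H := Subgroup.subset_closure he
    constructor <;> intro hce
    · exact (key u hu v hv hπ ⟨e, heH⟩ he (fun h' => hea (congrArg Subtype.val h'))
        (Subtype.ext hce.eq)).map H.subtype
    · exact (key v hv u hu hπ.symm ⟨e, heH⟩ he (fun h' => heb (congrArg Subtype.val h'))
        (Subtype.ext hce.eq)).map H.subtype
  have hno : ∀ z ∈ D, ∀ p ∈ nbr D z, ∀ q ∈ nbr D z, Commute p q → p = q :=
    fun z hz p hp q hq hpq => no_triangle hG hprim hw hx hpair hz hp hq hpq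
  have h3 : ∀ z ∈ D, (nbr D z).ncard = 3 := fun z hz =>
    (nbr_ncard hG hprim hz hx).trans (three_neighbours hG hprim hw hx hu hv
      (fun h' => hncomm (h' ▸ Commute.refl _)) hno)
  have htri : ∀ z ∈ D, ∀ a ∈ nbr D z, ∀ b ∈ nbr D z, a ≠ b → nbr D z = {a, b, a * b * a} := by
    intro z hz a ha b hb hab
    have hnc : ¬ Commute a b := fun h' => hab (hno z hz a ha b hb h')
    refine (Set.eq_of_subset_of_ncard_le ?_ ?_ (Set.toFinite _)).symm
    · rintro w (rfl | rfl | rfl)
      exacts [ha, hb, nbr_flip_fix hS hc ha hb]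
    · rw [h3 z hz, Set.ncard_eq_three.mpr]
      refine ⟨a, b, a * b * a, hab, fun h' => hab ?_, fun h' => hnc ?_, rfl⟩
      · calc a = a * a * a := by rw [CfsgLib.ThreeTransp.mul_self_eq_one hS ha.1, one_mul]
          _ = a * (a * b * a) * a := by rw [← h']
          _ = b := CfsgLib.ThreeTransp.conj_conj hS ha.1 b
      · exact CfsgLib.ThreeTransp.commute_of_conj_eq hS ha.1 h'.symm
  have hL : S5365.Local D := ⟨hS, hc, fun z hz => by
    obtain ⟨a, b, ha, hb, hab⟩ :=
      (Set.one_lt_ncard_iff (Set.toFinite _)).mp (by rw [h3 z hz]; norm_num : 1 < (nbr D z).ncard)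
    exact ⟨a, b, ha, hb, fun h' => hab (hno z hz a ha b hb h'), htri z hz a ha b hb hab⟩⟩
  have hN : S5365.NoSquare D := by
    intro d hd a ha b hb hab e hea heb
    have hnc : ¬ Commute a b := fun h' => hab (hno d hd a ha b hb h')
    have hsub : nbr D d ⊆ nbr D e := by
      rw [htri d hd a ha b hb hab]
      have hae : a ∈ nbr D e := nbr_symm ha.1 hea
      have hbe : b ∈ nbr D e := nbr_symm hb.1 heb
      rintro w (rfl | rfl | rfl)
      exacts [hae, hbe, nbr_flip_fix hS hc hae hbe]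
    exact (eq_of_starEq hG hprim hw hd hea.1 (starEq_of_nbr
      (Set.eq_of_subset_of_ncard_le hsub (by rw [h3 e hea.1, h3 d hd]) (Set.toFinite _)))).symm
  obtain ⟨e⟩ := S5365.case_petersen hL hN ⟨x, hx⟩
  exact ⟨(Subgroup.topEquiv.symm.trans (MulEquiv.subgroupCongr hD.2.2.symm)).trans e⟩

end Cfsg.Agent.S1615
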