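import Cfsg.Statements.S0949
import Cfsg.Agent.Lib.Blocks.FreeQuotient.HomocyclicBrauer
import Cfsg.Agent.Lib.Blocks.BrauerFeit
import Cfsg.Agent.Lib.PSolvable.Core
import Cfsg.Agent.Lib.Transfer.Basic

set_option autoImplicit false
open Cfsg
open scoped CfsgLib.Char

namespace Cfsg.Agent.S0949

open CfsgLib CfsgLib.Blocks

universe u

theorem normal_of_no_odd : ∀ (n : ℕ) (G : Type u) [Group G] [Finite G], Nat.card G = n →
    ∀ (P : Sylow 2 G) (m : ℕ), 2 ≤ m →
      ((P : Subgroup G) ≃* Multiplicative (ZMod (2 ^ m) × ZMod (2 ^ m))) →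
      (∀ N : Subgroup G, N.Normal → Odd (Nat.card N) → N = ⊥) → (P : Subgroup G).Normal := by
  intro n
  induction n using Nat.strong_induction_on with
  | _ n ih =>
  intro G _ _ hn P m hm e hO
  classical
  have : Fintype G := Fintype.ofFinite G
  have : Fact (Nat.Prime 2) := ⟨Nat.prime_two⟩
  obtain ⟨M, hM⟩ := exists_isPModular Nat.prime_two
  have := isPrime_of_isPModular hM
  have hab : ∀ x ∈ (P : Subgroup G), ∀ y ∈ (P : Subgroup G), x * y = y * x := fun x hx y hy => by
    have h : (⟨x, hx⟩ : (P : Subgroup G)) * ⟨y, hy⟩ = ⟨y, hy⟩ * ⟨x, hx⟩ :=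
      e.injective (by rw [map_mul, map_mul, mul_comm])
    exact congrArg Subtype.val h
  set c := principalBlock M (Subgroup.centralizer ((P : Subgroup G) : Set G))
  have hmax := FreeQuot.Homocyclic.max_principal hM P
  obtain ⟨-, hodd⟩ := maximal_of_induced hM (isDefectGroup_of_maximal hM hmax) hab
    (FreeQuot.induced_of_maximal hM hmax hab)
  obtain ⟨hfree, he⟩ := FreeQuot.Homocyclic.inertial_data hm e P.2 hodd
  have hT : blockT (P : Subgroup G) c = Subgroup.normalizer ((P : Subgroup G) : Set G) :=
    FreeQuot.Homocyclic.blockT_principal P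
  rcases he with he | he
  · -- a normal complement
    rw [hT] at he
    have hP : Subgroup.normalizer ((P : Subgroup G) : Set G) ≤
        Subgroup.centralizer ((P : Subgroup G) : Set G) := Subgroup.relIndex_eq_one.mp he
    have hc := MonoidHom.ker_transferSylow_isComplement' P hP
    have hK : (MonoidHom.transferSylow P hP).ker = ⊥ :=
      hO _ inferInstance (Nat.not_even_iff_odd.mp fun h =>
        MonoidHom.not_dvd_card_ker_transferSylow P hP (even_iff_two_dvd.mp h))
    rw [hK, Subgroup.isComplement'_bot_left] at hc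
    rw [hc]
    infer_instance
  · have hE : Nat.card (FreeQuot.inertAut (P : Subgroup G) c) = 3 := FreeQuot.card_inertAut.trans he
    have hcard : Nat.card (P : Subgroup G) = 4 ^ m := by
      rw [Nat.card_congr e.toEquiv, Nat.card_congr (Multiplicative.toAdd), Nat.card_prod,
        Nat.card_zmod, show (4 : ℕ) = 2 * 2 from rfl, mul_pow]
    have h16 : 16 ∣ Nat.card (P : Subgroup G) := hcard ▸ (pow_dvd_pow 4 hm : 4 ^ 2 ∣ 4 ^ m)
    have hne : ((1 : ZMod (2 ^ m)) + 1) ≠ 0 := by
      intro h
      have h2 : ((2 : ℕ) : ZMod (2 ^ m)) = 0 := by rw [← h]; push_cast; ring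
      rw [ZMod.natCast_eq_zero_iff] at h2
      have : 2 ^ 2 ≤ 2 ^ m := Nat.pow_le_pow_right (by norm_num) hm
      have := Nat.le_of_dvd two_pos h2
      omega
    set u := e.symm (Multiplicative.ofAdd ((1, 0) : ZMod (2 ^ m) × ZMod (2 ^ m))) with hu
    have hu2 : (u : G) * (u : G) ≠ 1 := fun h => hne (by
      have h1 : u * u = 1 := Subtype.ext h
      have h2 := congrArg (fun z => (Multiplicative.toAdd (e z)).1) h1
      simpa [hu] using h2)
    obtain ⟨f, hf, hfP⟩ :=
      FreeQuot.Homocyclic.exists_linear hM P hab hfree hE h16 u.2 hu2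
    set N := f.ker
    have hPN : (P : Subgroup G) ≤ N := fun v hv => MonoidHom.mem_ker.mpr (hfP v hv)
    have hNtop : N ≠ ⊤ := fun h => hf (MonoidHom.ext fun g =>
      MonoidHom.mem_ker.mp (show g ∈ N by rw [h]; trivial))
    have hlt : Nat.card N < n := by
      rw [← hn, ← Nat.card_congr (Subgroup.topEquiv (G := G)).toEquiv]
      refine lt_of_le_of_ne (Subgroup.card_le_of_le le_top) fun h =>
        hNtop (Subgroup.eq_of_le_of_card_ge le_top h.ge)
    have hON : ∀ K : Subgroup N, K.Normal → Odd (Nat.card K) → K = ⊥ := by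
      intro K hKn hK
      have hle : K ≤ pPrimeCore 2 N := Transfer.le_pPrimeCore hKn hK.coprime_two_right
      have hcore : (pPrimeCore 2 N).map N.subtype = ⊥ := hO _ inferInstance (by
        rw [Subgroup.card_map_of_injective N.subtype_injective]
        exact Nat.not_even_iff_odd.mp fun h =>
          Transfer.not_dvd_card_pPrimeCore (p := 2) (G := N) (even_iff_two_dvd.mp h))
      rw [Subgroup.map_eq_bot_iff_of_injective _ N.subtype_injective] at hcore
      exact le_bot_iff.mp (hcore ▸ hle)
    have hPs : (P.subtype hPN : Subgroup N).Normal :=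
      ih (Nat.card N) hlt N rfl (P.subtype hPN) m hm
        ((Subgroup.subgroupOfEquivOfLe hPN).trans e) hON
    have := Sylow.unique_of_normal (P.subtype hPN) hPs
    have : (P.subtype hPN : Subgroup N).Characteristic :=
      Sylow.characteristic_of_subsingleton _
    have h : ((P.subtype hPN : Subgroup N).map N.subtype).Normal := inferInstance
    rwa [Sylow.coe_subtype, Subgroup.map_subgroupOf_eq_of_le hPN] at h

/-- Let the finite group G have a Sylow 2-subgroup P isomorphic to Z/2^m × Z/2^m with m ≥ 2, and suppose G has no nontrivial normal subgroup of odd order. Then P is normal in G, C_G(P) = P, and the index of P is 1 or 3. -/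
theorem result {G : Type*} [Group G] [Finite G] (P : Sylow 2 G) (m : ℕ) (hm : 2 ≤ m) (e : (P : Subgroup G) ≃* Multiplicative (ZMod (2 ^ m) × ZMod (2 ^ m))) (hO : ∀ N : Subgroup G, N.Normal → Odd (Nat.card N) → N = ⊥) : (P : Subgroup G).Normal ∧ Subgroup.centralizer (P : Set G) = (P : Subgroup G) ∧ ((P : Subgroup G).index = 1 ∨ (P : Subgroup G).index = 3) := by
  classical
  have := Fintype.ofFinite G
  have : Fact (Nat.Prime 2) := ⟨Nat.prime_two⟩
  have hN := normal_of_no_odd _ G rfl P m hm e hO
  obtain ⟨M, hM⟩ := exists_isPModular Nat.prime_two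
  have := isPrime_of_isPModular hM
  have hab : ∀ x ∈ (P : Subgroup G), ∀ y ∈ (P : Subgroup G), x * y = y * x := fun x hx y hy => by
    have h : (⟨x, hx⟩ : (P : Subgroup G)) * ⟨y, hy⟩ = ⟨y, hy⟩ * ⟨x, hx⟩ :=
      e.injective (by rw [map_mul, map_mul, mul_comm])
    exact congrArg Subtype.val h
  set C := Subgroup.centralizer ((P : Subgroup G) : Set G) with hCdef
  have hPC : (P : Subgroup G) ≤ C := fun v hv y hy => hab y hy v hv
  -- the centralizer
  have hP' : Subgroup.normalizer (((P.subtype hPC : Sylow 2 C) : Subgroup C) : Set C) ≤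
      Subgroup.centralizer (((P.subtype hPC : Sylow 2 C) : Subgroup C) : Set C) :=
    fun g _ a ha => Subtype.ext (g.2 (a : G) ha)
  have hc := MonoidHom.ker_transferSylow_isComplement' (P.subtype hPC) hP'
  set K := (MonoidHom.transferSylow (P.subtype hPC) hP').ker
  have hKodd : Odd (Nat.card K) := Nat.not_even_iff_odd.mp fun h =>
    MonoidHom.not_dvd_card_ker_transferSylow (P.subtype hPC) hP' (even_iff_two_dvd.mp h)
  have hCn : C.Normal := by
    rw [hCdef]; infer_instance
  have hK : K = ⊥ := by
    have hle : K ≤ pPrimeCore 2 C := Transfer.le_pPrimeCore inferInstance hKodd.coprime_two_right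
    have hcore : (pPrimeCore 2 C).map C.subtype = ⊥ := hO _ inferInstance (by
      rw [Subgroup.card_map_of_injective C.subtype_injective]
      exact Nat.not_even_iff_odd.mp fun h =>
        Transfer.not_dvd_card_pPrimeCore (p := 2) (G := C) (even_iff_two_dvd.mp h))
    rw [Subgroup.map_eq_bot_iff_of_injective _ C.subtype_injective] at hcore
    exact le_bot_iff.mp (hcore ▸ hle)
  rw [hK, Subgroup.isComplement'_bot_left] at hc
  have hCP : C = (P : Subgroup G) := by
    refine le_antisymm (fun g hg => ?_) hPC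
    have : (⟨g, hg⟩ : C) ∈ ((P.subtype hPC : Sylow 2 C) : Subgroup C) := hc ▸ Subgroup.mem_top _
    exact this
  have hmax := FreeQuot.Homocyclic.max_principal hM P
  obtain ⟨-, hodd⟩ := maximal_of_induced hM (isDefectGroup_of_maximal hM hmax) hab
    (FreeQuot.induced_of_maximal hM hmax hab)
  obtain ⟨-, he⟩ := FreeQuot.Homocyclic.inertial_data hm e P.2 hodd
  rw [FreeQuot.Homocyclic.blockT_principal P] at he
  have htop : Subgroup.normalizer ((P : Subgroup G) : Set G) = ⊤ :=
    Subgroup.normalizer_eq_top_iff.mpr hN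
  rw [htop, Subgroup.relIndex_top_right, ← hCdef, hCP] at he
  exact ⟨hN, hCP, he⟩

end Cfsg.Agent.S0949
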