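import Cfsg.Statements.S3977
import Cfsg.Agent.Lib.OddOmega.Basic

set_option autoImplicit false
open Cfsg

namespace Cfsg.Agent.S3977

universe u

set_option linter.style.haveILetI false

theorem aux {p : ℕ} (hp : p.Prime) {s : ℕ} (hs : 1 ≤ s) (h2 : p ≠ 2 ∨ 2 ≤ s) :
    ∀ (m : ℕ) (G : Type u) [Group G] [Finite G], Nat.card G = p ^ m → s < m →
      (∀ H K : Subgroup G, Nat.card H = p ^ s → Nat.card K = p ^ s → H = K) → IsCyclic G := by
  haveI : Fact p.Prime := ⟨hp⟩
  intro m
  induction m with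
  | zero => intros; omega
  | succ m ih =>
  intro G _ _ hG hsm huniq
  have hGp : IsPGroup p G := IsPGroup.of_card hG
  haveI : Group.IsNilpotent G := hGp.isNilpotent
  haveI : Nontrivial G := Finite.one_lt_card_iff_nontrivial.mp
    (hG ▸ Nat.one_lt_pow (by omega) hp.one_lt)
  by_contra hnc
  -- maximal subgroups: index `p`
  have hmaxidx : ∀ M : Subgroup G, IsCoatom M → Nat.card M = p ^ m := by
    intro M hM
    obtain ⟨a, ha⟩ := IsPGroup.iff_card.mp (hGp.to_subgroup M)
    have ham : a ≤ m := by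
      by_contra hgt
      refine hM.1 (M.eq_top_of_card_eq (le_antisymm (Subgroup.card_le_card_group M) ?_))
      rw [hG, ha]
      exact Nat.pow_le_pow_right hp.pos (by omega)
    rcases eq_or_lt_of_le ham with rfl | hlt
    · exact ha
    obtain ⟨K, hK, hMK⟩ := Sylow.exists_subgroup_card_pow_prime_le p (n := a) (m := a + 1)
      (by rw [hG]; exact pow_dvd_pow p (by omega)) M ha (by omega)
    exfalso
    have hlt' : M < K := lt_of_le_of_ne hMK fun e => by
      rw [e, hK] at ha
      have := Nat.pow_right_injective hp.two_le ha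
      omega
    have := hM.2 K hlt'
    rw [this, Subgroup.card_top, hG] at hK
    have := Nat.pow_right_injective hp.two_le hK
    omega
  -- two maximal subgroups
  obtain ⟨M, hM⟩ : ∃ M : Subgroup G, IsCoatom M :=
    ((eq_top_or_exists_le_coatom (⊥ : Subgroup G)).resolve_left bot_ne_top).imp fun _ h => h.1
  obtain ⟨w, hw⟩ : ∃ w, w ∉ M := by
    by_contra hall
    push Not at hall
    exact hM.1 ((Subgroup.eq_top_iff' M).mpr hall)
  obtain ⟨N, hN, hwN⟩ := (eq_top_or_exists_le_coatom (Subgroup.zpowers w)).resolve_left fun h =>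
    hnc ⟨w, fun x => h.ge (Subgroup.mem_top x)⟩
  have hNM : N ≠ M := fun e => hw (e ▸ hwN (Subgroup.mem_zpowers w))
  rcases eq_or_lt_of_le (Nat.lt_succ_iff.mp hsm) with rfl | hsm'
  · exact hNM (huniq N M (hmaxidx N hN) (hmaxidx M hM))
  -- the maximal subgroups are cyclic
  have hcycmax : ∀ L : Subgroup G, IsCoatom L → IsCyclic L := fun L hL =>
    ih L (hmaxidx L hL) hsm' fun H K hH hK => by
      have := huniq (H.map L.subtype) (K.map L.subtype)
        (by rw [Subgroup.card_map_of_injective L.subtype_injective, hH])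
        (by rw [Subgroup.card_map_of_injective L.subtype_injective, hK])
      exact Subgroup.map_injective L.subtype_injective this
  haveI hMc := hcycmax M hM
  haveI hNc := hcycmax N hN
  haveI hMn : M.Normal := Subgroup.NormalizerCondition.normal_of_coatom M
    (Group.normalizerCondition_of_isNilpotent (G := G)) hM
  haveI hNn : N.Normal := Subgroup.NormalizerCondition.normal_of_coatom N
    (Group.normalizerCondition_of_isNilpotent (G := G)) hN
  have hsup : M ⊔ N = ⊤ := hM.2 _ (lt_of_le_of_ne le_sup_left fun e => hNM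
    ((Subgroup.eq_of_le_of_card_ge (e ▸ le_sup_right : N ≤ M) (by rw [hmaxidx N hN, hmaxidx M hM]))))
  have hMidx : M.index = p := by
    have := M.card_mul_index
    rw [hmaxidx M hM, hG, pow_succ] at this
    exact Nat.eq_of_mul_eq_mul_left (pow_pos hp.pos m) this
  have hNidx : N.index = p := by
    have := N.card_mul_index
    rw [hmaxidx N hN, hG, pow_succ] at this
    exact Nat.eq_of_mul_eq_mul_left (pow_pos hp.pos m) this
  have hD : Nat.card ↥(M ⊓ N) = p ^ (m - 1) := by
    have h1 := Subgroup.relIndex_mul_relIndex ⊥ (M ⊓ N) N bot_le inf_le_right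
    rw [Subgroup.relIndex_bot_left, Subgroup.relIndex_bot_left, Subgroup.inf_relIndex_right,
      hmaxidx N hN, ← Subgroup.relIndex_sup_right, sup_comm, hsup, Subgroup.relIndex_top_right, hMidx,
      show m = m - 1 + 1 by omega, pow_succ] at h1
    exact Nat.eq_of_mul_eq_mul_right hp.pos h1
  obtain ⟨x, hx⟩ := hMc.exists_generator
  obtain ⟨y, hy⟩ := hNc.exists_generator
  have hxo : orderOf (x : G) = p ^ m := by
    rw [Subgroup.orderOf_coe, orderOf_eq_card_of_forall_mem_zpowers hx, hmaxidx M hM]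
  have hyo : orderOf (y : G) = p ^ m := by
    rw [Subgroup.orderOf_coe, orderOf_eq_card_of_forall_mem_zpowers hy, hmaxidx N hN]
  have hzM : M = Subgroup.zpowers (x : G) := le_antisymm (fun u hu => by
    obtain ⟨i, hi⟩ := Subgroup.mem_zpowers_iff.mp (hx ⟨u, hu⟩)
    exact Subgroup.mem_zpowers_iff.mpr ⟨i, congrArg Subtype.val hi⟩) (Subgroup.zpowers_le.mpr x.2)
  have hzN : N = Subgroup.zpowers (y : G) := le_antisymm (fun u hu => by
    obtain ⟨i, hi⟩ := Subgroup.mem_zpowers_iff.mp (hy ⟨u, hu⟩)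
    exact Subgroup.mem_zpowers_iff.mpr ⟨i, congrArg Subtype.val hi⟩) (Subgroup.zpowers_le.mpr y.2)
  have hyM : (y : G) ∉ M := fun h => hNM (Subgroup.eq_of_le_of_card_ge
    (by rw [hzN]; exact Subgroup.zpowers_le.mpr h) (by rw [hmaxidx N hN, hmaxidx M hM]))
  have hxpD : ∀ u : G, u ^ p ∈ M ⊓ N := fun u => Subgroup.mem_inf.mpr
    ⟨by rw [← QuotientGroup.eq_one_iff, QuotientGroup.mk_pow, ← hMidx, Subgroup.index_eq_card]
        exact pow_card_eq_one',
      by rw [← QuotientGroup.eq_one_iff, QuotientGroup.mk_pow, ← hNidx, Subgroup.index_eq_card]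
         exact pow_card_eq_one'⟩
  set a := (x : G) ^ p with ha
  have hao : orderOf a = p ^ (m - 1) := by
    rw [ha, orderOf_pow' _ hp.ne_zero, hxo, Nat.gcd_eq_right (dvd_pow_self p (by omega)),
      show m = m - 1 + 1 by omega, pow_succ, Nat.mul_div_cancel _ hp.pos, Nat.add_sub_cancel]
  have hDa : M ⊓ N = Subgroup.zpowers a := (Subgroup.eq_of_le_of_card_ge
    (Subgroup.zpowers_le.mpr (hxpD _)) (by rw [hD, Nat.card_zpowers, hao])).symm
  have hxa : Commute (x : G) a := Commute.self_pow _ _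
  have hcomD : ∀ u ∈ M ⊓ N, Commute (y : G) u := fun u hu => by
    obtain ⟨i, rfl⟩ := Subgroup.mem_zpowers_iff.mp (hzN.le hu.2)
    exact Commute.self_zpow _ i
  set c := (x : G) * y * (x : G)⁻¹ * (y : G)⁻¹ with hc
  have hcD : c ∈ M ⊓ N := Subgroup.mem_inf.mpr
    ⟨by rw [show c = (x : G) * ((y : G) * (x : G)⁻¹ * (y : G)⁻¹) by rw [hc]; group]
        exact mul_mem x.2 (hMn.conj_mem _ (inv_mem x.2) _),
      mul_mem (hNn.conj_mem _ y.2 _) (inv_mem y.2)⟩
  obtain ⟨t, ht⟩ := Subgroup.mem_zpowers_iff.mp (hDa.le hcD)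
  obtain ⟨u, hu⟩ := Subgroup.mem_zpowers_iff.mp (hDa.le (hxpD (y : G)))
  have hxc : Commute (x : G) c := ht ▸ hxa.zpow_right t
  have hcp : c ^ p = 1 := by
    have h1 : (x : G) * y * (x : G)⁻¹ = c * y := by rw [hc]; group
    have h2 : ∀ k : ℕ, (x : G) ^ k * y * ((x : G) ^ k)⁻¹ = c ^ k * y := by
      intro k
      induction k with
      | zero => simp
      | succ k ihk =>
        calc (x : G) ^ (k + 1) * y * ((x : G) ^ (k + 1))⁻¹
            = (x : G) * ((x : G) ^ k * y * ((x : G) ^ k)⁻¹) * (x : G)⁻¹ := by rw [pow_succ']; group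
          _ = ((x : G) * c ^ k) * y * (x : G)⁻¹ := by rw [ihk]; group
          _ = c ^ k * ((x : G) * y * (x : G)⁻¹) := by rw [(hxc.pow_right k).eq]; group
          _ = c ^ (k + 1) * y := by rw [h1, pow_succ c k]; group
    have h3 := h2 p
    rw [← (hcomD a (hxpD _)).eq, mul_inv_cancel_right] at h3
    exact mul_eq_right.mp h3.symm
  -- `t` is divisible by `p ^ (m - 2)`, and `u` is prime to `p`
  have hdvd : ((p ^ (m - 2) : ℕ) : ℤ) ∣ t := by
    have h1 : ((orderOf a : ℕ) : ℤ) ∣ t * p := orderOf_dvd_iff_zpow_eq_one.mpr (by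
      rw [zpow_mul, ht, zpow_natCast, hcp])
    rw [hao, show m - 1 = m - 2 + 1 by omega, pow_succ] at h1
    push_cast at h1 ⊢
    exact Int.dvd_of_mul_dvd_mul_right (by exact_mod_cast hp.ne_zero) h1
  -- `(y * x ^ j) ^ p = 1` for a suitable `j`
  have hpow : ∀ j : ℕ, ((y : G) * (x : G) ^ j) ^ p = a ^ (u + j + t * j * (p.choose 2)) := by
    intro j
    have hconj : ∀ k : ℕ, (x : G) ^ k * y = c ^ k * ((y : G) * (x : G) ^ k) := by
      intro k
      induction k with
      | zero => simp
      | succ k ihk =>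
        calc (x : G) ^ (k + 1) * y = (x : G) * ((x : G) ^ k * y) := by rw [pow_succ', mul_assoc]
          _ = ((x : G) * c ^ k) * ((y : G) * (x : G) ^ k) := by rw [ihk]; group
          _ = c ^ k * (((x : G) * y * (x : G)⁻¹ * (y : G)⁻¹) * y) * ((x : G) * (x : G) ^ k) := by
            rw [(hxc.pow_right k).eq]; group
          _ = c ^ (k + 1) * ((y : G) * (x : G) ^ (k + 1)) := by
            rw [← hc, pow_succ' (x : G), pow_succ c]; group
    have hyc : Commute (y : G) c := hcomD c hcD
    have hz : ∀ g : G, Commute c g := fun g => by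
      set E := Subgroup.centralizer ({c} : Set G)
      have hE : M ⊔ N ≤ E := sup_le (hzM ▸ Subgroup.zpowers_le.mpr
        (Subgroup.mem_centralizer_singleton_iff.mpr hxc.eq))
        (hzN ▸ Subgroup.zpowers_le.mpr (Subgroup.mem_centralizer_singleton_iff.mpr hyc.eq))
      exact (Subgroup.mem_centralizer_singleton_iff.mp (hE (hsup.ge (Subgroup.mem_top g)))).symm
    rw [CfsgLib.OddOmega.mul_pow_of_central (y : G) ((x : G) ^ j) (c ^ j)
      (Subgroup.mem_center_iff.mpr fun g => ((hz g).pow_left j).eq.symm) (hconj j) p,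
      ← hu, ← pow_mul (x : G) j p, mul_comm j p, pow_mul (x : G) p j, ← ha, ← pow_mul, ← zpow_natCast c, ← ht, ← zpow_mul,
      ← zpow_natCast a j, ← zpow_add, ← zpow_add]
    congr 1
    push_cast
    ring
  obtain ⟨j, hj⟩ : ∃ j : ℕ, (((p ^ (m - 1) : ℕ) : ℤ)) ∣ u + j + t * j * (p.choose 2) := by
    -- the coefficient of `j` is a unit modulo `p`
    have hpc : (p : ℤ) ∣ t * (p.choose 2 : ℕ) := by
      rcases h2 with h | h
      · exact dvd_mul_of_dvd_right (Int.natCast_dvd_natCast.mpr
          (hp.dvd_choose_self two_ne_zero (lt_of_le_of_ne hp.two_le h.symm))) _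
      · exact dvd_mul_of_dvd_left ((Int.natCast_dvd_natCast.mpr (dvd_pow_self p
          (show m - 2 ≠ 0 by omega))).trans hdvd) _
    set N' : ℕ := p ^ (m - 1) with hN'
    haveI : NeZero N' := ⟨(pow_pos hp.pos _).ne'⟩
    set e : ℤ := 1 + t * (p.choose 2 : ℕ) with he
    have hunit : IsCoprime e (N' : ℤ) := by
      rw [hN', Nat.cast_pow]
      refine IsCoprime.pow_right (((Nat.prime_iff_prime_int.mp hp).coprime_iff_not_dvd.mpr ?_).symm)
      intro hd
      have h1 : (p : ℤ) ∣ 1 := by
        have := Int.dvd_sub hd hpc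
        simpa [he] using this
      exact hp.one_lt.ne' (Nat.dvd_one.mp (Int.natCast_dvd_natCast.mp (by simpa using h1)))
    obtain ⟨α, β, hαβ⟩ := hunit
    obtain ⟨j, hj⟩ := ZMod.natCast_zmod_surjective ((-(u * α) : ℤ) : ZMod N')
    refine ⟨j, (ZMod.intCast_zmod_eq_zero_iff_dvd _ _).mp ?_⟩
    have h1 := congrArg (Int.cast : ℤ → ZMod N') hαβ
    push_cast at h1
    rw [ZMod.natCast_self, mul_zero, add_zero] at h1
    push_cast [he] at h1 ⊢
    rw [hj]
    push_cast
    linear_combination (-(u : ZMod N')) * h1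
  set g := (y : G) * (x : G) ^ j with hg
  have hgp : g ^ p = 1 := by
    rw [hg, hpow j, ← orderOf_dvd_iff_zpow_eq_one, hao]
    exact hj
  have hgM : g ∉ M := fun h => hyM (by simpa [hg] using mul_mem h (inv_mem (pow_mem x.2 j)))
  -- a subgroup of order `p ^ s` through `g`
  have hgo : Nat.card (Subgroup.zpowers g) = p ^ 1 := by
    rw [Nat.card_zpowers, pow_one, orderOf_eq_prime hgp fun e => hgM (e ▸ one_mem M)]
  obtain ⟨K, hK, hgK⟩ := Sylow.exists_subgroup_card_pow_prime_le p (n := 1) (m := s)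
    (by rw [hG]; exact pow_dvd_pow p (by omega)) (Subgroup.zpowers g) hgo hs
  obtain ⟨H, hH⟩ := Sylow.exists_subgroup_card_pow_prime p (n := s) (G := M)
    (by rw [hmaxidx M hM]; exact pow_dvd_pow p hsm'.le)
  have := huniq K (H.map M.subtype) hK (by rw [Subgroup.card_map_of_injective M.subtype_injective, hH])
  exact hgM (Subgroup.map_subtype_le H (this ▸ hgK (Subgroup.mem_zpowers g)))


/-- Let `p` be a prime and `G` a group of order `p ^ m` which has exactly one subgroup of order `p ^ s`, where `1 ≤ s < m`, and where `s ≥ 2` if `p = 2`. Then `G` is cyclic. (For `p = 2` and `s = 1` the generalized quaternion groups also occur; that case is the classical criterion for a unique involution.) -/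
theorem result {G : Type*} [Group G] [Finite G] (p m s : ℕ) (hp : p.Prime) (hG : Nat.card G = p ^ m) (hs : 1 ≤ s) (hsm : s < m) (h2 : p ≠ 2 ∨ 2 ≤ s) (huniq : ∀ H K : Subgroup G, Nat.card H = p ^ s → Nat.card K = p ^ s → H = K) : IsCyclic G := by
  exact aux hp hs h2 m G hG hsm huniq

end Cfsg.Agent.S3977
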