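import Cfsg.Statements.S1985
import Cfsg.Agent.Lib.Conjugacy.WeakClosureForms

set_option autoImplicit false
universe u
open Cfsg

namespace Cfsg.Agent.S1985

/-- Let p be an odd prime and G a finite group. Then the lower K-infinity subgroup controls weak closure of elements in G: the lower K-infinity subgroup of every p-subgroup P of G contains Z(P), and for some (equivalently, every) Sylow p-subgroup S of G, with K the lower K-infinity subgroup of S, every element of S commuting with all of N_G(K) is weakly closed in S with respect to G (every G-conjugate of it lying in S equals it). -/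
theorem result {G : Type u} [Group G] [Finite G] {p : ℕ} [Fact p.Prime] (hp : p ≠ 2) : Cfsg.ControlsWeakClosureOfElementsIn p (Cfsg.inducedFunctor (G := G) Cfsg.kInfLower) ⊤ := by
  open CfsgLib.Conjugacy in
  refine weakClosure_of_engel (isConjugacyFunctor_inducedFunctor (isCharPFunctor_kInfLower p))
    (fun P _ => center_le_inducedFunctor_kInfLower P) (fun H T hTH hT hidx hN => ?_) ⊤
  obtain ⟨g, hgT, hgD, hg⟩ := exists_quadratic_of_not_le H T hTH hT hidx hN
  refine ⟨g, hgT, hgD, fun U V hc hU => ?_⟩
  haveI := hc.2.1
  have h3 : 2 ≤ p - 1 := by have := (Fact.out : p.Prime).two_le; omega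
  exact (CfsgLib.PStable.iterCommutator_antitone h3).trans
    ((CfsgLib.PStable.iterCommutator_mono hU 2).trans (hg.le.trans bot_le))

end Cfsg.Agent.S1985
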