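import Cfsg.Statements.S5148
import Cfsg.Agent.Lib.Fusion.Solvable
import Cfsg.Agent.Lib.Fusion.Inner
import Cfsg.Agent.Lib.Fusion.AbelianSystem

set_option autoImplicit false
open Cfsg

namespace Cfsg.Agent.S5148

/-- A quasisimple fusion system over a finite p-group S (saturated, equal to its p-residual subsystem, with simple — in particular nontrivial — factor system modulo its centre) has S nonabelian. -/
theorem result {Ω : Type*} [Group Ω] {S : Subgroup Ω} [Finite S] (p : ℕ) [Fact p.Prime] (hS : IsPGroup p S) (F : Cfsg.FusionSystem S) (hq : F.Quasisimple p) : ¬ IsMulCommutative S := by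
  intro hab
  obtain ⟨hF, hyp, hsimple⟩ := hq
  have hZn : F.IsNormal F.center := by
    refine CfsgLib.Fusion.isNormal_iff.2 ⟨(CfsgLib.Fusion.isCentral_center F).1, fun P f hf => ?_⟩
    obtain ⟨g, hg, hag, hfix⟩ :=
      (CfsgLib.Fusion.isCentral_iff.1 (CfsgLib.Fusion.isCentral_center F)).2 P f hf
    exact ⟨g, hg, hag, by ext x; exact ⟨fun ⟨y, hy, e⟩ => e ▸ (hfix y hy).symm ▸ hy,
      fun hx => ⟨x, hx, hfix x hx⟩⟩⟩
  have hsc := CfsgLib.Fusion.stronglyClosed_of_isNormal hZn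
  obtain ⟨E, hE⟩ := CfsgLib.Fusion.exists_factorSystem
    (θ := QuotientGroup.mk' (F.center.subgroupOf S))
    (S' := (⊤ : Subgroup (S ⧸ F.center.subgroupOf S))) hsc
    (fun s => by rw [QuotientGroup.mk'_apply, QuotientGroup.eq_one_iff]; rfl)
    (MonoidHom.range_eq_top.2 (QuotientGroup.mk'_surjective _))
  obtain ⟨hEs, hne, hmax⟩ := hsimple E hE
  have hT : IsPGroup p (⊤ : Subgroup (S ⧸ F.center.subgroupOf S)) := (hS.to_quotient _).to_subgroup _
  have hcomm : ∀ x ∈ (⊤ : Subgroup (S ⧸ F.center.subgroupOf S)), ∀ y ∈ (⊤ : Subgroup (S ⧸ F.center.subgroupOf S)), x * y = y * x := fun x _ y _ => by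
    obtain ⟨a, rfl⟩ := QuotientGroup.mk'_surjective _ x
    obtain ⟨b, rfl⟩ := QuotientGroup.mk'_surjective _ y
    rw [← map_mul, ← map_mul, hab.is_comm.comm a b]
  rcases hmax (⊤ : Subgroup (S ⧸ F.center.subgroupOf S)) _ (CfsgLib.Fusion.isNormalIn_inner_of_abelian hT hEs
    (CfsgLib.Fusion.isNormal_top_of_abelian hT hEs hcomm) hcomm) with h | ⟨-, heq⟩
  · exact hne h
  have hbot : E.hyperfocalSubgroup p ≤ ⊥ :=
    CfsgLib.Fusion.hyperfocal_le_of_coprime fun P α hP hα _ x => by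
      obtain ⟨φ, hφ, hv⟩ := ((CfsgLib.Fusion.mem_autGroup_iff hP α).1 hα).isMap
      rw [← heq P] at hφ
      obtain ⟨-, g, hg, hg'⟩ := hφ
      have h1 := (hv x).symm.trans (hg' x)
      rw [CfsgLib.Fusion.autFun_coe, hcomm g hg x (hP x.2), mul_inv_cancel_right] at h1
      rw [Subgroup.mem_bot, h1, inv_mul_cancel]
  rw [CfsgLib.Fusion.hyperfocal_factor hS hF hsc hE, hyp, Subgroup.subgroupOf_self,
    ← MonoidHom.range_eq_map, hE.2.2.1] at hbot
  exact hne (le_bot_iff.1 hbot)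

end Cfsg.Agent.S5148
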