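import Cfsg.Statements.S4209
import Cfsg.Agent.Lib.Regular.Lazard
import Cfsg.Agent.Lib.Regular.Basic

set_option autoImplicit false
open Cfsg

namespace Cfsg.Agent.S4209

/-- A finite `p`-group of nilpotency class less than `p` (the term of index `p - 1` of the lower central series of the whole group, indexed from `0`, is trivial) is a regular `p`-group. -/
theorem result {G : Type*} [Group G] [Finite G] {p : ℕ} [Fact p.Prime] (hG : IsPGroup p G) (hcl : (⊤ : Subgroup G).lowerCentralSeries (p - 1) = ⊥) : Cfsg.IsRegularPGroup p G := by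
  refine CfsgLib.Regular.isRegular_of_level_one hG fun a b => ?_
  set H := Subgroup.closure ({a, b} : Set G) with hH
  have haH : a ∈ H := Subgroup.subset_closure (by simp)
  have hbH : b ∈ H := Subgroup.subset_closure (by simp)
  have hclH : (⊤ : Subgroup H).lowerCentralSeries (p - 1) = ⊥ := by
    refine Subgroup.map_injective H.subtype_injective ?_
    rw [Subgroup.map_bot, Subgroup.top_subtype_lowerCentralSeries, eq_bot_iff, ← hcl]
    have hmono : ∀ n, H.lowerCentralSeries n ≤ (⊤ : Subgroup G).lowerCentralSeries n := fun n => by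
      induction n with
      | zero => exact le_top
      | succ n ih => exact Subgroup.commutator_mono ih le_top
    exact hmono _
  obtain ⟨c, hc, e⟩ := CfsgLib.Regular.mul_pow_prime (Fact.out : p.Prime) hclH ⟨a, haH⟩ ⟨b, hbH⟩
  refine ⟨c, ?_, ?_⟩
  · have hmap : (commutator H).map H.subtype = ⁅H, H⁆ := by
      rw [commutator_def, Subgroup.map_commutator, ← MonoidHom.range_eq_map, Subgroup.range_subtype]
    have h1 : (c : G) ∈ (Cfsg.powerClosure p 1 (commutator H)).map H.subtype := ⟨c, hc, rfl⟩
    rw [Cfsg.powerClosure, MonoidHom.map_closure] at h1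
    refine (Subgroup.closure_le _).mpr ?_ h1
    rintro _ ⟨_, ⟨x, hx, rfl⟩, rfl⟩
    exact Subgroup.subset_closure ⟨x, hmap ▸ ⟨x, hx, rfl⟩, rfl⟩
  · rw [pow_one]
    exact congrArg Subtype.val e

end Cfsg.Agent.S4209
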