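import Cfsg.Statements.S5180
import Cfsg.Agent.Lib.Fusion.RankThree.Main

set_option autoImplicit false
universe u
open Cfsg

namespace Cfsg.Agent.S5180

/-- Let p ≥ 5 be a prime, S a finite p-group of sectional p-rank exactly 3, and F a saturated fusion system over S. Then every essential subgroup E of F that needs three generators (the Frattini quotient E/Φ(E) has order p³) is normal in S. -/
theorem result {Ω : Type u} [Group Ω] {S : Subgroup Ω} [Finite S] (p : ℕ) [Fact p.Prime] (hp : 5 ≤ p) (hS : IsPGroup p S) (hsr : Cfsg.SectionalPRankLE p 3 ↥S ∧ ¬ Cfsg.SectionalPRankLE p 2 ↥S)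
    (F : Cfsg.FusionSystem S) (hF : F.IsSaturated p) (E : Subgroup Ω) (hE : F.IsEssential p E)
    (hrk : (frattini ↥E).index = p ^ 3) : S ≤ Subgroup.normalizer (E : Set Ω) := by
  haveI : Finite ↥E := CfsgLib.Fusion.finite_of_le hE.1.1
  have hEp : IsPGroup p ↥E := hS.to_le hE.1.1
  letI : CommGroup (↥E ⧸ frattini ↥E) :=
    { (inferInstance : Group (↥E ⧸ frattini ↥E)) with
      mul_comm := fun a b => by
        obtain ⟨x, rfl⟩ := QuotientGroup.mk'_surjective (frattini ↥E) a
        obtain ⟨y, rfl⟩ := QuotientGroup.mk'_surjective (frattini ↥E) b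
        rw [← commutatorElement_eq_one_iff_mul_comm, ← map_commutatorElement,
          QuotientGroup.mk'_apply, QuotientGroup.eq_one_iff]
        exact CfsgLib.HSub.commutator_le_frattini hEp
          (Subgroup.commutator_mem_commutator (Subgroup.mem_top x) (Subgroup.mem_top y)) }
  exact (CfsgLib.RankThree.Ess.normal_in_S (q := QuotientGroup.mk' (frattini ↥E))
    (ρ := CfsgLib.Fusion.frattiniHom ↥E)
    { pgroup := hS
      sat := hF
      ess := hE
      card := by rw [← Subgroup.index_eq_card]; exact hrk
      surj := QuotientGroup.mk'_surjective _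
      ker := fun e => QuotientGroup.eq_one_iff e
      nat := fun α e => rfl } hp hsr.1)

end Cfsg.Agent.S5180
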