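import Cfsg.Statements.S5185
import Cfsg.Agent.Lib.Fusion.EssentialPSq

set_option autoImplicit false
universe u
open Cfsg

namespace Cfsg.Agent.S5185

/-- Let F be a saturated fusion system over a finite p-group S and H an essential subgroup of order p². Then H is elementary abelian (isomorphic to C_p × C_p) and its F-automorphism group contains a subgroup isomorphic to SL(2,p). -/
theorem result {Ω : Type u} [Group Ω] {S : Subgroup Ω} [Finite S] (p : ℕ) [Fact p.Prime] (hS : IsPGroup p S)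
    (F : Cfsg.FusionSystem S) (hF : F.IsSaturated p) (H : Subgroup Ω) (hH : F.IsEssential p H) (hcard : Nat.card H = p ^ 2) :
    Cfsg.IsElementaryAbelian p H ∧
      ∃ K : Subgroup ↥(F.autGroup H), Nonempty (↥K ≃* Matrix.SpecialLinearGroup (Fin 2) (ZMod p)) := by
  have hHS := hH.1.1
  have hfin := CfsgLib.Fusion.finite_of_le hHS
  have hfinA := CfsgLib.Fusion.finite_mulAut H
  have hcomm : ∀ x y : H, x * y = y * x :=
    CfsgLib.Fusion.comm_of_card_le_sq ⟨2, le_rfl, hcard⟩
  have hrad := CfsgLib.Fusion.isRadical_of_isEssential hS hH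
  obtain ⟨-, -, hn, E, hE⟩ := hH
  have hinn : Cfsg.Inn H = ⊥ := by
    rw [eq_bot_iff]
    intro α hα
    obtain ⟨u, hu, hv⟩ := (CfsgLib.Fusion.mem_inn_iff α).1 hα
    refine Subgroup.mem_bot.2 (MulEquiv.ext fun x => Subtype.ext ?_)
    have := congrArg Subtype.val (hcomm ⟨u, hu⟩ x)
    simp only [Subgroup.coe_mul] at this
    rw [hv, this, mul_inv_cancel_right, MulAut.one_apply]
  have hcore : Cfsg.pCore p (F.autGroup H) = ⊥ := by
    have h := hrad.2
    rwa [hinn, Subgroup.map_eq_bot_iff_of_injective _ (F.autGroup H).subtype_injective] at h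
  obtain ⟨a, ha⟩ := exists_prime_orderOf_dvd_card' p
    (hE.1.trans (Subgroup.card_quotient_dvd_card _))
  have hna : a ∉ Cfsg.pCore p (F.autGroup H) := by
    rw [hcore, Subgroup.mem_bot]
    rintro rfl
    exact (Fact.out : p.Prime).ne_one (ha.symm.trans orderOf_one)
  obtain ⟨v, w, b, hgen, hav, haw, hbw, hbv⟩ := CfsgLib.Fusion.exists_transvection_pair
    (F.autGroup H).subtype (by rw [Subgroup.ker_subtype]; exact IsPGroup.of_bot)
    ⟨2, le_rfl, hcard⟩ (a := a) (n := 1)
    (by rw [pow_one, ← map_pow, ← ha, pow_orderOf_eq_one, map_one]) hna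
  refine ⟨⟨⟨⟨hcomm⟩⟩, fun x hx => congrArg Subtype.val
    (CfsgLib.Fusion.pow_eq_one_of_transvections hcard hgen hav haw hbw hbv ⟨x, hx⟩)⟩,
    CfsgLib.Fusion.exists_sl2_of_transvections hcard hgen hav haw hbw hbv a.2 b.2⟩

end Cfsg.Agent.S5185
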