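import Cfsg.Statements.S5186
import Cfsg.Agent.Lib.Fusion.EssentialShapes

set_option autoImplicit false
universe u
open Cfsg

namespace Cfsg.Agent.S5186

open CfsgLib.Fusion.EssentialFlag

theorem card_zm (p n : ℕ) : Nat.card (Multiplicative (ZMod (p ^ n))) = p ^ n := by
  rw [Nat.card_congr Multiplicative.toAdd, Nat.card_zmod]

theorem pow_p {Y : Type*} [Group Y] {p : ℕ} (h : Nat.card Y = p ^ 1) (y : Y) : y ^ p = 1 := by
  rw [pow_one] at h
  rw [← h, pow_card_eq_one']

theorem split {p n k : ℕ} (hp : p.Prime) {H : Type*} (hn : 0 < n)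
    (hcard : Nat.card ((Multiplicative (ZMod (p ^ n)) × Multiplicative (ZMod (p ^ n))) × H) = p ^ k) :
    ∃ m, Nat.card H = p ^ m ∧ 2 * n + m = k := by
  rw [Nat.card_prod, Nat.card_prod, card_zm, ← pow_add] at hcard
  obtain ⟨m, hmk, hm⟩ := (Nat.dvd_prime_pow hp).1 ⟨_, (mul_comm _ _).trans hcard |>.symm⟩
  rw [hm, ← pow_add] at hcard
  have := Nat.pow_right_injective hp.two_le hcard
  exact ⟨m, hm, by omega⟩

theorem elementary_of_iso {Ω : Type*} [Group Ω] {P : Subgroup Ω} {p : ℕ} {X : Type*} [CommGroup X]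
    (e : P ≃* X) (hexp : ∀ x : X, x ^ p = 1) : Cfsg.IsElementaryAbelian p P := by
  refine ⟨⟨⟨fun a b => e.injective (by rw [map_mul, map_mul, mul_comm])⟩⟩, fun a ha => ?_⟩
  have : (⟨a, ha⟩ : P) ^ p = 1 := e.injective (by rw [map_pow, hexp, map_one])
  exact congrArg Subtype.val this


/-- Let F be a saturated fusion system over a finite p-group S and H an essential subgroup of order p³. Then H is elementary abelian, or p is odd and H is extraspecial of exponent p, or p = 2 and H is the quaternion group of order 8. -/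
theorem result {Ω : Type u} [Group Ω] {S : Subgroup Ω} [Finite S] (p : ℕ) [Fact p.Prime] (hS : IsPGroup p S)
    (F : Cfsg.FusionSystem S) (hF : F.IsSaturated p) (H : Subgroup Ω) (hH : F.IsEssential p H) (hcard : Nat.card H = p ^ 3) :
    Cfsg.IsElementaryAbelian p H ∨ (Odd p ∧ Cfsg.IsExtraspecial p ↥H ∧ ∀ x ∈ H, x ^ p = 1) ∨
      (p = 2 ∧ Nonempty (↥H ≃* QuaternionGroup 2)) := by
  classical
  have := CfsgLib.Fusion.finite_of_le hH.1.1
  have hp : p.Prime := Fact.out
  by_cases hab : ∀ a b : H, a * b = b * a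
  · obtain ⟨n, X, _, hn, ⟨e⟩⟩ := repeated_of_abelian hS hF hH ⟨⟨hab⟩⟩
    obtain ⟨m, hm, hnm⟩ := split hp hn (by rw [← Nat.card_congr e.toEquiv, hcard])
    obtain ⟨rfl, rfl⟩ : n = 1 ∧ m = 1 := ⟨by omega, by omega⟩
    refine .inl (elementary_of_iso e fun x => Prod.ext (Prod.ext ?_ ?_) ?_)
    · show x.1.1 ^ p = 1
      exact pow_p (card_zm p 1) x.1.1
    · show x.1.2 ^ p = 1
      exact pow_p (card_zm p 1) x.1.2
    · show x.2 ^ p = 1
      exact pow_p hm x.2
  · rcases CfsgLib.Fusion.EssentialShapes.shape_three hcard hab (not_hasFlag hS hF hH) with ⟨ho, hx, he⟩ | h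
    · exact .inr (.inl ⟨ho, hx, fun x hx => congrArg Subtype.val (he ⟨x, hx⟩)⟩)
    · exact .inr (.inr h)

end Cfsg.Agent.S5186
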