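import Mathlib
import Cfsg.Statements.S1975

set_option autoImplicit false
set_option linter.style.haveILetI false
set_option linter.unusedVariables false
open Cfsg

namespace Cfsg.Agent.S1975

theorem lower_mono {P : Type*} [Group P] {Q Q' : Subgroup P} (h : Q ≤ Q') :
    Cfsg.kLowerStarFamily Q' ⊆ Cfsg.kLowerStarFamily Q :=
  fun _ hB => ⟨hB.1, h.trans hB.2.1, fun A hA hAQ => hB.2.2 A hA (hAQ.trans h)⟩

theorem upper_mono {P : Type*} [Group P] {Q Q' : Subgroup P} (h : Q ≤ Q') :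
    Cfsg.kUpperStarFamily Q' ⊆ Cfsg.kUpperStarFamily Q :=
  fun _ hB => ⟨hB.1, (Subgroup.commutator_mono le_rfl h).trans hB.2⟩

theorem odd_step {P : Type*} [Group P] : ∀ n : ℕ, Cfsg.kSeqOdd P (n + 1) ≤ Cfsg.kSeqOdd P n
  | 0 => le_top
  | n + 1 => sSup_le_sSup (upper_mono (sSup_le_sSup (lower_mono (odd_step n))))

theorem even_step {P : Type*} [Group P] (n : ℕ) : Cfsg.kSeqEven P n ≤ Cfsg.kSeqEven P (n + 1) :=
  sSup_le_sSup (lower_mono (odd_step n))

/-- Let P be a finite p-group. In the K-sequence of P the odd-indexed terms decrease and the even-indexed terms increase: with the numbering used here, kSeqOdd P (n+1) ≤ kSeqOdd P n and kSeqEven P n ≤ kSeqEven P (n+1) for every n. -/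
theorem result {P : Type*} [Group P] [Finite P] {p : ℕ} [Fact p.Prime] (hP : IsPGroup p P) (n : ℕ) : Cfsg.kSeqOdd P (n + 1) ≤ Cfsg.kSeqOdd P n ∧ Cfsg.kSeqEven P n ≤ Cfsg.kSeqEven P (n + 1) := by
  exact ⟨odd_step n, even_step n⟩

end Cfsg.Agent.S1975
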