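import Mathlib
import Cfsg.Statements.S1976
import Cfsg.Agent.S1975

set_option autoImplicit false
set_option linter.style.haveILetI false
set_option linter.unusedVariables false
open Cfsg

namespace Cfsg.Agent.S1976

/-- Let P be a finite p-group. The K-sequence of P is eventually constant on each parity: from some index on, every even-indexed term equals the lower K-infinity subgroup and every odd-indexed term equals the upper K-infinity subgroup. -/
theorem result {P : Type*} [Group P] [Finite P] {p : ℕ} [Fact p.Prime] (hP : IsPGroup p P) : ∃ n : ℕ, ∀ m : ℕ, n ≤ m → Cfsg.kSeqEven P m = Cfsg.kInfLower P ∧ Cfsg.kSeqOdd P m = Cfsg.kInfUpper P := by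
  haveI : Finite (Subgroup P) := Finite.of_injective (fun H => (H : Set P)) SetLike.coe_injective
  have he : Monotone (Cfsg.kSeqEven P) := monotone_nat_of_le_succ Cfsg.Agent.S1975.even_step
  have ho : Antitone (Cfsg.kSeqOdd P) := antitone_nat_of_succ_le Cfsg.Agent.S1975.odd_step
  obtain ⟨_, ⟨a, rfl⟩, ha⟩ := (Set.toFinite (Set.range (Cfsg.kSeqEven P))).exists_maximal (Set.range_nonempty _)
  obtain ⟨_, ⟨b, rfl⟩, hb⟩ := (Set.toFinite (Set.range (Cfsg.kSeqOdd P))).exists_minimal (Set.range_nonempty _)
  refine ⟨max a b, fun m hm => ⟨le_antisymm (le_iSup (Cfsg.kSeqEven P) m) (iSup_le fun k => ?_),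
    le_antisymm (le_iInf fun k => ?_) (iInf_le (Cfsg.kSeqOdd P) m)⟩⟩
  · exact ((he (le_max_left k a)).trans (ha ⟨_, rfl⟩ (he (le_max_right k a)))).trans (he (le_trans (le_max_left a b) hm))
  · exact ((ho (le_trans (le_max_right a b) hm)).trans (hb ⟨_, rfl⟩ (ho (le_max_right k b)))).trans (ho (le_max_left k b))

end Cfsg.Agent.S1976
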