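import Cfsg.Statements.S4279
import Cfsg.Agent.Lib.Chev.G2Invol.Main

set_option autoImplicit false
open Cfsg

namespace Cfsg.Agent.S4279

/-- In the Chevalley group G of type G₂ over a finite field F of odd order q, the centralizer of an involution t has order q²(q² − 1)² and contains two elementwise commuting subgroups, each isomorphic to SL(2, F), which meet exactly in the subgroup generated by t and whose join has index 2 in the centralizer. -/
theorem result {F : Type*} [Field F] [Fintype F] (hF : Odd (Fintype.card F)) (t : ↥(Cfsg.Lie.chevG2.group F)) (ht : orderOf t = 2) : Nat.card (Subgroup.centralizer ({t} : Set ↥(Cfsg.Lie.chevG2.group F))) = Fintype.card F ^ 2 * (Fintype.card F ^ 2 - 1) ^ 2 ∧ ∃ L₁ L₂ : Subgroup ↥(Cfsg.Lie.chevG2.group F), Nonempty (L₁ ≃* Matrix.SpecialLinearGroup (Fin 2) F) ∧ Nonempty (L₂ ≃* Matrix.SpecialLinearGroup (Fin 2) F) ∧ (∀ x ∈ L₁, ∀ y ∈ L₂, x * y = y * x) ∧ L₁ ⊓ L₂ = Subgroup.zpowers t ∧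 L₁ ⊔ L₂ ≤ Subgroup.centralizer ({t} : Set ↥(Cfsg.Lie.chevG2.group F)) ∧ (L₁ ⊔ L₂).relIndex (Subgroup.centralizer ({t} : Set ↥(Cfsg.Lie.chevG2.group F))) = 2 := by
  have hodd : Fintype.card F % 2 = 1 := Nat.odd_iff.1 hF
  have h2 : (2 : F) ≠ 0 := CfsgLib.Chev.G2Invol.two_ne_zero_of_odd hodd
  obtain ⟨g, hg⟩ := isConj_iff.1 (CfsgLib.Chev.G2Invol.conj_zI hodd h2 t ht)
  obtain ⟨hc, L₁, L₂, ⟨e₁⟩, ⟨e₂⟩, hcomm, hinf, hle, hrel⟩ := CfsgLib.Chev.G2Invol.main_zG (F := F) h2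
  set z := CfsgLib.Chev.G2Invol.zG F with hz
  let σ : ↥(Cfsg.Lie.chevG2.group F) ≃* ↥(Cfsg.Lie.chevG2.group F) := MulAut.conj g⁻¹
  have hσ : σ z = t := by
    show g⁻¹ * z * g⁻¹⁻¹ = t
    rw [hz, CfsgLib.Chev.G2Invol.zG, ← hg]; group
  have hinj : Function.Injective σ.toMonoidHom := σ.injective
  have hC : (Subgroup.centralizer {z}).map σ.toMonoidHom =
      Subgroup.centralizer {t} := by
    ext x
    rw [Subgroup.mem_map_equiv, Subgroup.mem_centralizer_singleton_iff,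
      Subgroup.mem_centralizer_singleton_iff, ← hσ]
    constructor
    · intro h
      simpa [map_mul] using congrArg σ h
    · intro h
      exact σ.injective (by simpa [map_mul] using h)
  refine ⟨?_, L₁.map σ.toMonoidHom, L₂.map σ.toMonoidHom,
    ⟨(L₁.equivMapOfInjective _ hinj).symm.trans e₁⟩, ⟨(L₂.equivMapOfInjective _ hinj).symm.trans e₂⟩,
    ?_, ?_, ?_, ?_⟩
  · rw [← hC, Subgroup.card_map_of_injective hinj, hc]
  · rintro _ ⟨x, hx, rfl⟩ _ ⟨y, hy, rfl⟩
    rw [← map_mul, ← map_mul, hcomm x hx y hy]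
  · rw [← Subgroup.map_inf _ _ _ hinj, hinf, MonoidHom.map_zpowers]
    exact congrArg Subgroup.zpowers hσ
  · rw [← Subgroup.map_sup, ← hC]
    exact Subgroup.map_mono hle
  · rw [← Subgroup.map_sup, ← hC, Subgroup.relIndex_map_map_of_injective _ _ hinj, hrel]

end Cfsg.Agent.S4279
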