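import Cfsg.Statements.S0189
import Cfsg.Agent.Lib.Char.Counting

set_option autoImplicit false
open Cfsg

namespace Cfsg.Agent.S0189

open CfsgLib.Char
open scoped CfsgLib.Char

/-- If a complex character of a finite group vanishes at every non-identity element of a Sylow p-subgroup P, then |P| divides its degree. -/
theorem result {G : Type*} [Group G] [Finite G] (p : ℕ) [Fact p.Prime] (P : Sylow p G) (χ : G → ℂ) (hχ : Cfsg.IsCharacter G χ) (hvan : ∀ g : G, g ∈ P → g ≠ 1 → χ g = 0) : ∃ k : ℕ, χ 1 = (Nat.card P : ℂ) * k := by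
  classical
  have : Fintype G := Fintype.ofFinite G
  obtain ⟨k, hk⟩ := exists_nat_classInner (isCharacter_restrict (P : Subgroup G) hχ) (isCharacter_one (G := (P : Subgroup G)))
  refine ⟨k, ?_⟩
  rw [← hk, Cfsg.classInner, Finset.sum_eq_single 1]
  · rw [Subgroup.coe_one, map_one, mul_one, ← mul_assoc]
    show χ 1 = (Nat.card (P : Subgroup G) : ℂ) * (Nat.card (P : Subgroup G) : ℂ)⁻¹ * χ 1
    rw [mul_inv_cancel₀ (Nat.cast_ne_zero.mpr Nat.card_pos.ne'), one_mul]
  · intro x _ hx
    rw [hvan x x.2 (fun e => hx (Subtype.ext e)), zero_mul]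
  · simp

end Cfsg.Agent.S0189
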