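import Cfsg.Statements.S4441
import Cfsg.Agent.Lib.Blocks.PrimeDefect.Principal

set_option autoImplicit false
open Cfsg
open scoped CfsgLib.Char

namespace Cfsg.Agent.S4441

/-- Let p be an odd prime and G a finite group whose Sylow p-subgroup P has order p; let C = C_G(P), N = N_G(P), e the index of C in N and t = (p − 1)/e; fix a maximal ideal M of the algebraic integers containing p and let B₀ be the principal block. Then B₀ is the disjoint union of a set X of e characters and a set Y of t characters such that: each χ ∈ X has a sign ε_χ with χ(1) ≡ ε_χ (mod p) and χ(x y) = ε_χ for every non-identity x ∈ P and every p-regular y ∈ C; all members of Y agree on the p-regular elements of G; there is one sign ε with θ(1) ≡ ε e (mod p) for every θ ∈ Y; and for every θ ∈ Y and every p-regular g, ε θ(g) = Σ_{χ ∈ X} ε_χ χ(g). -/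
theorem result {G : Type*} [Group G] [Fintype G] (p : ℕ) [Fact p.Prime] (M : Ideal Cfsg.AlgInt) (hM : Cfsg.IsPModular p M) (hodd : p ≠ 2) (P : Sylow p G) (hP : Nat.card P = p) (e : ℕ) (he : (Subgroup.centralizer ((P : Subgroup G) : Set G)).relIndex (Subgroup.normalizer ((P : Subgroup G) : Set G)) = e) : ∃ X Y : Set (Cfsg.IrrCharacter G), Cfsg.principalBlock M G = X ∪ Y ∧ Disjoint X Y ∧ Nat.card X = e ∧ Nat.card Y = (p - 1) / e ∧ ∃ (εX : Cfsg.IrrCharacter G → ℤ) (ε : ℤ), (∀ χ ∈ X, (εX χ = 1 ∨ εX χ = -1) ∧ (Cfsg.charDegree (χ : G → ℂ) : ℤ) ≡ εX χ [ZMOD p] ∧ ∀ x : G, x ∈ (P : Subgroup G) → x ≠ 1 → ∀ y : G, y ∈ Subgroup.centralizer ((P : Subgroup G) : Set G) → ¬ p ∣ orderOf y → (χ : G → ℂ) (x * y) = (εX χ : ℂ)) ∧ (ε = 1 ∨ ε = -1) ∧ (∀ θ ∈ Y, (Cfsg.charDegree (θ : G → ℂ) : ℤ) ≡ ε * (e : ℤ) [ZMOD p]) ∧ (∀ θ ∈ Y, ∀ θ' ∈ Y, ∀ g : G, ¬ p ∣ orderOf g → (θ : G → ℂ) g = (θ' : G → ℂ) g) ∧ ∀ θ ∈ Y, ∀ g : G, ¬ p ∣ orderOf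 g → (ε : ℂ) * (θ : G → ℂ) g = ∑ᶠ χ ∈ X, (εX χ : ℂ) * (χ : G → ℂ) g := by
  classical
  set S := CfsgLib.Blocks.PrimeDefect.principalSetup hM P hP with hS
  have hSe : S.e = e := by
    rw [CfsgLib.Blocks.PrimeDefect.Setup.e, hS, CfsgLib.Blocks.PrimeDefect.principal_T hM P hP]
    exact he
  obtain ⟨hdvd, X, Y, δ, ε, hdisj, hmem, hXc, hYc, hε, hδ, hδa, hXdeg, hYdeg, hrel, hagree⟩ :=
    S.structure_block
  have hK : S.C.relIndex S.N / S.e * Cfsg.charDegree (S.θ : S.C → ℂ) = 1 := by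
    rw [hS, CfsgLib.Blocks.PrimeDefect.principal_degree hM P hP,
      CfsgLib.Blocks.PrimeDefect.principal_f hM P hP]
  have hf : S.C.relIndex S.N * Cfsg.charDegree (S.θ : S.C → ℂ) = e := by
    rw [hS, CfsgLib.Blocks.PrimeDefect.principal_degree hM P hP, mul_one]
    exact he
  refine ⟨(X : Set _), (Y : Set _), ?_, ?_, ?_, ?_, δ, ε, fun χ hχ => ⟨hδ χ hχ, ?_, ?_⟩, hε,
    fun θ hθ => ?_, fun θ hθ θ' hθ' g hg => hagree θ hθ θ' hθ' g hg, fun θ hθ g hg => ?_⟩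
  · ext χ
    rw [Set.mem_union, Finset.mem_coe, Finset.mem_coe, ← Finset.mem_union, ← hmem]
    rfl
  · exact_mod_cast Finset.disjoint_coe.mpr hdisj
  · rw [Nat.card_eq_card_toFinset, Finset.toFinset_coe, hXc, hSe]
  · rw [Nat.card_eq_card_toFinset, Finset.toFinset_coe, hYc, hSe]
  · have h := hXdeg χ hχ
    rwa [hK, Nat.cast_one, mul_one] at h
  · intro x hx hx1 y hy hyr
    exact CfsgLib.Blocks.PrimeDefect.principal_value hM P hP
      ((hmem χ).mpr (Finset.mem_union_left _ hχ)) (hδa χ hχ) hx hx1 hy hyr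
  · have h := hYdeg θ hθ
    rwa [hf] at h
  · rw [hrel θ hθ g hg, finsum_mem_coe_finset]

end Cfsg.Agent.S4441
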