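import Cfsg.Statements.S5623
import Mathlib
import Cfsg.Agent.Lib.SelfDual24.Basic

set_option autoImplicit false
set_option linter.style.haveILetI false
open Cfsg

namespace Cfsg.Agent.S5623

/-- Let C be a self-dual binary code of length 24 with minimum weight at least 8 (a 12-dimensional subspace of the 24-dimensional space over the field with two elements, any two of whose words have dot product zero, with no non-zero word of weight below 8 — an abstract extended binary Golay code). Then every coset w + C of C in the ambient space contains either exactly one word of weight at most 4, which then has weight at most 3, or exactly six words of weight at most 4, all of weight exactly 4 and with pairwise disjoint supports (a sextet). -/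
theorem result (C : Submodule (ZMod 2) (Fin 24 → ZMod 2)) (hdim : Module.finrank (ZMod 2) C = 12) (horth : ∀ v ∈ C, ∀ w ∈ C, ∑ i, v i * w i = 0) (hmin : ∀ w ∈ C, w ≠ 0 → 8 ≤ hammingNorm w) (w : Fin 24 → ZMod 2) : (∃ u : Fin 24 → ZMod 2, {u : Fin 24 → ZMod 2 | u - w ∈ C ∧ hammingNorm u ≤ 4} = {u} ∧ hammingNorm u ≤ 3) ∨ ({u : Fin 24 → ZMod 2 | u - w ∈ C ∧ hammingNorm u ≤ 4}.ncard = 6 ∧ ∀ u ∈ {u : Fin 24 → ZMod 2 | u - w ∈ C ∧ hammingNorm u ≤ 4}, hammingNorm u = 4 ∧ ∀ u' ∈ {u : Fin 24 → ZMod 2 | u - w ∈ C ∧ hammingNorm u ≤ 4}, u ≠ u' → Disjoint (Finset.univ.filter fun i => u i ≠ 0) (Finset.univ.filter fun i => u' i ≠ 0)) := by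
  classical
  have hC := CfsgLib.SelfDual24.Data.mk hdim horth hmin
  have hcls : ∀ u : Fin 24 → ZMod 2, u - w ∈ C ↔
      CfsgLib.SelfDual24.cls C (CfsgLib.SelfDual24.supp u) = Submodule.Quotient.mk w := fun u => by
    rw [CfsgLib.SelfDual24.cls, CfsgLib.SelfDual24.word_supp, Submodule.Quotient.eq]
  rcases hC.leaders (Submodule.Quotient.mk w) with ⟨S, hS, hSw⟩ | h6
  · refine Or.inl ⟨CfsgLib.SelfDual24.word S, ?_, by rwa [CfsgLib.SelfDual24.norm_eq, CfsgLib.SelfDual24.supp_word]⟩
    ext u
    simp only [Set.mem_setOf_eq, Set.mem_singleton_iff, hcls, CfsgLib.SelfDual24.norm_eq]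
    constructor
    · rintro ⟨h1, h2⟩
      rw [← CfsgLib.SelfDual24.word_supp u, hC.small_unique hS h2 (hSw.trans h1.symm)]
    · rintro rfl
      rw [CfsgLib.SelfDual24.supp_word]
      exact ⟨hSw, by omega⟩
  · have hset : {u : Fin 24 → ZMod 2 | u - w ∈ C ∧ hammingNorm u ≤ 4} =
        ↑((CfsgLib.SelfDual24.fours C (Submodule.Quotient.mk w)).image CfsgLib.SelfDual24.word) := by
      ext u
      simp only [Set.mem_setOf_eq, Finset.coe_image, Set.mem_image, Finset.mem_coe,
        CfsgLib.SelfDual24.mem_fours, hcls, CfsgLib.SelfDual24.norm_eq]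
      constructor
      · rintro ⟨h1, h2⟩
        refine ⟨_, ⟨?_, h1⟩, CfsgLib.SelfDual24.word_supp u⟩
        by_contra hne
        obtain ⟨T, hT⟩ := Finset.card_pos.mp (by omega : 0 < (CfsgLib.SelfDual24.fours C (Submodule.Quotient.mk w)).card)
        rw [CfsgLib.SelfDual24.mem_fours] at hT
        have h3 := hC.small_unique (show (CfsgLib.SelfDual24.supp u).card ≤ 3 by omega) hT.1.le (h1.trans hT.2.symm)
        rw [h3] at hne
        exact hne hT.1
      · rintro ⟨T, ⟨hT, hTw⟩, rfl⟩
        rw [CfsgLib.SelfDual24.supp_word]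
        exact ⟨hTw, hT.le⟩
    refine Or.inr ⟨?_, ?_⟩
    · rw [hset, Set.ncard_coe_finset, Finset.card_image_of_injective _ (Function.LeftInverse.injective CfsgLib.SelfDual24.supp_word), h6]
    · rw [hset]
      intro u hu
      simp only [Finset.coe_image, Set.mem_image, Finset.mem_coe, CfsgLib.SelfDual24.mem_fours] at hu
      obtain ⟨T, ⟨hT, hTw⟩, rfl⟩ := hu
      refine ⟨by rw [CfsgLib.SelfDual24.norm_eq, CfsgLib.SelfDual24.supp_word, hT], fun u' hu' hne => ?_⟩
      simp only [Finset.coe_image, Set.mem_image, Finset.mem_coe, CfsgLib.SelfDual24.mem_fours] at hu'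
      obtain ⟨T', ⟨hT', hTw'⟩, rfl⟩ := hu'
      show Disjoint (CfsgLib.SelfDual24.supp _) (CfsgLib.SelfDual24.supp _)
      rw [CfsgLib.SelfDual24.supp_word, CfsgLib.SelfDual24.supp_word]
      exact hC.four_disjoint hT hT' (hTw.trans hTw'.symm) (fun e => hne (congrArg _ e))

end Cfsg.Agent.S5623
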