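import Cfsg.Statements.S2072
import Cfsg.Agent.Lib.Leech.OutPair.HsChecks
import Cfsg.Agent.Lib.Leech.OutPair.Iso
-- import your own Cfsg.Agent.* helpers here

set_option autoImplicit false
open Cfsg

namespace Cfsg.Agent.S2072

open CfsgLib.Golay CfsgLib.Leech CfsgLib.Leech.Mult CfsgLib.Leech.OutPair CfsgLib.Golay.AutTwo Cfsg.Spor

attribute [local irreducible] dL bL key keyL coord packB linL bits hsCert mclCert

theorem facts : inL hsCert.V = true ∧ inL hsCert.W = true ∧ dotL hsCert.V hsCert.V = 48 ∧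
    dotL hsCert.W hsCert.W = 48 ∧ dotL hsCert.V hsCert.W = -32 := by decide +kernel

theorem vecs : vec hsCert.V = -vecV ∧ vec hsCert.V + vec hsCert.W = vecU' := by
  constructor <;> funext p <;> revert p <;> decide +kernel

theorem exists_equiv : Nonempty (↥(pairG facts.1 facts.2.1) ≃* ↥Cfsg.Spor.HS) := by
  refine ⟨pairEquiv facts.1 facts.2.1 Cfsg.Spor.HS 1 (fun g => ?_) (inf_le_left.trans inf_le_left)⟩
  set v : ↥leechLattice := ⟨vec hsCert.V, vec_mem facts.1⟩
  set w : ↥leechLattice := ⟨vec hsCert.W, vec_mem facts.2.1⟩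
  have e1 : leechV = -v := Subtype.ext (by
    show vecV = -vec hsCert.V
    rw [vecs.1, neg_neg])
  have e2 : leechU' = v + w := Subtype.ext vecs.2.symm
  simp only [one_smul]
  show ((g : Equiv.Perm ↥leechLattice) ∈ Cfsg.Co0 ∧ (g : Equiv.Perm ↥leechLattice) • leechV = leechV) ∧
    (g : Equiv.Perm ↥leechLattice) • leechU' = leechU' ↔ _
  change ((g : Equiv.Perm ↥leechLattice) ∈ Cfsg.Co0 ∧ g • leechV = leechV) ∧ g • leechU' = leechU' ↔ _
  rw [e1, e2, smul_neg', neg_inj, smul_add']
  exact ⟨fun h => ⟨h.1.2, by have := h.2; rwa [h.1.2, add_right_inj] at this⟩,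
    fun h => ⟨⟨g.2, h.1⟩, by rw [h.1, h.2]⟩⟩

/-- The outer automorphism group of the Higman–Sims group (as a two-vector stabiliser in the automorphism group of the rank-24 lattice) has order 2. -/
theorem result : Nat.card (Cfsg.Out ↥Cfsg.Spor.HS) = 2 := by
  obtain ⟨e⟩ := exists_equiv
  rw [← out_congr e]
  have hcard : Nat.card ↥(pairG facts.1 facts.2.1) = 11 * 4032000 := by
    exact (natCard_pairG facts.1 facts.2.1).trans ((natCard_hs ((sqNorm_vec (inL_length facts.1)).trans facts.2.2.1)
      ((sqNorm_vec (inL_length facts.2.1)).trans facts.2.2.2.1)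
      ((dotInt_vec (inL_length facts.1) (inL_length facts.2.1)).trans facts.2.2.2.2)).trans (by norm_num))
  exact card_out_eq_two facts.1 facts.2.1 hs_base hs_out hs_fixed hs_seps (by unfold hsCert; exact hs_prog) hs_levs hcard
    (by norm_num) (by rw [hs_bound])

end Cfsg.Agent.S2072
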