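import Cfsg.Statements.S3370
import Mathlib
-- import your own Cfsg.Agent.* helpers here

set_option autoImplicit false
open Cfsg

namespace Cfsg.Agent.S3370

open Matrix

abbrev M := GL (Fin 2) (ZMod 3)

def mX : M := ⟨!![1, 1; 1, 0], !![0, 1; 1, 2], by decide, by decide⟩

def mY : M := ⟨!![1, 0; 2, 2], !![1, 0; 2, 2], by decide, by decide⟩

def elt (i : Fin 8) (j : Fin 2) : M := mX ^ (i : ℕ) * mY ^ (j : ℕ)

theorem elt_mul : ∀ i i' : Fin 8, ∀ j j' : Fin 2, ∃ k : Fin 8, ∃ l : Fin 2,
    elt i j * elt i' j' = elt k l := by decide +kernel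

theorem elt_inv : ∀ i : Fin 8, ∀ j : Fin 2, ∃ k : Fin 8, ∃ l : Fin 2, (elt i j)⁻¹ = elt k l := by
  decide +kernel

theorem elt_inj : ∀ i i' : Fin 8, ∀ j j' : Fin 2, elt i j = elt i' j' → i = i' ∧ j = j' := by
  decide +kernel

/-- The model Sylow `2`-subgroup. -/
def P0 : Subgroup M where
  carrier := {g | ∃ i : Fin 8, ∃ j : Fin 2, g = elt i j}
  one_mem' := ⟨0, 0, by decide +kernel⟩
  mul_mem' := by
    rintro a b ⟨i, j, rfl⟩ ⟨i', j', rfl⟩
    exact elt_mul i i' j j'
  inv_mem' := by
    rintro a ⟨i, j, rfl⟩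
    exact elt_inv i j

theorem card_P0 : Nat.card P0 = 16 := by
  have e : Fin 8 × Fin 2 ≃ P0 := Equiv.ofBijective (fun z => ⟨elt z.1 z.2, z.1, z.2, rfl⟩)
    ⟨fun a b h => Prod.ext (elt_inj _ _ _ _ (congrArg Subtype.val h)).1
      (elt_inj _ _ _ _ (congrArg Subtype.val h)).2,
    fun ⟨g, i, j, h⟩ => ⟨(i, j), Subtype.ext h.symm⟩⟩
  rw [← Nat.card_congr e, Nat.card_prod, Nat.card_fin, Nat.card_fin]

def col (g : M) : Fin 2 → ZMod 3 := fun i => (g : Matrix (Fin 2) (Fin 2) (ZMod 3)) i 0

def qA : M := mX ^ 2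

def qB : M := mX * mY

def q8 : QuaternionGroup 2 → M
  | QuaternionGroup.a i => qA ^ i.val
  | QuaternionGroup.xa i => qB * qA ^ i.val

theorem q8_mul : ∀ u v : QuaternionGroup 2, q8 (u * v) = q8 u * q8 v := by decide +kernel

theorem q8_inj : ∀ u v : QuaternionGroup 2, q8 u = q8 v → u = v := by decide +kernel

theorem col_even : ∀ i : Fin 8, ∀ j : Fin 2, col (elt i j) = ![0, 1] → ¬ Even (i : ℕ) := by
  decide +kernel

theorem e10 : (![1, 0] : Fin 2 → ZMod 3) ≠ 0 := by decide

theorem e01 : (![0, 1] : Fin 2 → ZMod 3) ≠ 0 := by decide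

/-- The possible transitive subgroups of `P0`: an index two subgroup contains all squares. -/
theorem shape (T : Subgroup M) (hT : T ≤ P0) (h8 : Nat.card T = 8)
    (htr : ∃ g ∈ T, col g = ![0, 1]) :
    mX ∈ T ∨ mX * mY ∈ T := by
  classical
  have hidx : (T.subgroupOf P0).index = 2 := by
    have := Subgroup.card_mul_index (T.subgroupOf P0)
    rw [Nat.card_congr (Subgroup.subgroupOfEquivOfLe hT).toEquiv, h8, card_P0] at this
    omega
  have hX : mX ∈ P0 := ⟨1, 0, by decide +kernel⟩
  have hY : mY ∈ P0 := ⟨0, 1, by decide +kernel⟩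
  have hmul : ∀ a b : M, a ∈ P0 → b ∈ P0 → (a * b ∈ T ↔ (a ∈ T ↔ b ∈ T)) := fun a b ha hb => by
    simpa [Subgroup.mem_subgroupOf] using
      Subgroup.mul_mem_iff_of_index_two hidx (a := ⟨a, ha⟩) (b := ⟨b, hb⟩)
  by_contra hc
  push Not at hc
  obtain ⟨g, hg, hgc⟩ := htr
  obtain ⟨i, j, rfl⟩ := hT hg
  have hpow : ∀ n : ℕ, mX ^ n ∈ T ↔ Even n := by
    intro n
    induction n with
    | zero => simp [T.one_mem]
    | succ n ih =>
      rw [pow_succ, hmul _ _ (Subgroup.pow_mem _ hX n) hX, ih, Nat.even_add_one]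
      simp [hc.1]
  have hYT : mY ∈ T := by
    by_contra h
    exact hc.2 ((hmul _ _ hX hY).mpr (by simp [hc.1, h]))
  have he : Even (i : ℕ) := by
    rw [← hpow]
    have h1 : mY ^ (j : ℕ) ∈ T := Subgroup.pow_mem _ hYT _
    unfold elt at hg
    exact (Subgroup.mul_mem_cancel_right T h1).mp hg
  exact col_even i j hgc he

theorem quaternion_of_card (T : Subgroup M) (hT : T ≤ P0) (h8 : Nat.card T = 8)
    (htr : ∃ g ∈ T, col g = ![0, 1]) : IsCyclic T ∨ Nonempty (T ≃* QuaternionGroup 2) := by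
  classical
  rcases shape T hT h8 htr with h | h
  · left
    refine isCyclic_of_orderOf_eq_card (⟨mX, h⟩ : T) ?_
    rw [h8, Subgroup.orderOf_mk]
    exact orderOf_eq_prime_pow (p := 2) (n := 2) (by decide +kernel) (by decide +kernel)
  · right
    let f : QuaternionGroup 2 →* M := MonoidHom.mk' q8 q8_mul
    have hidx : (T.subgroupOf P0).index = 2 := by
      have := Subgroup.card_mul_index (T.subgroupOf P0)
      rw [Nat.card_congr (Subgroup.subgroupOfEquivOfLe hT).toEquiv, h8, card_P0] at this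
      omega
    have hA : qA ∈ T := by
      have := Subgroup.mul_self_mem_of_index_two hidx (⟨mX, ⟨1, 0, by decide +kernel⟩⟩ : P0)
      rw [qA, pow_two]
      simpa [Subgroup.mem_subgroupOf] using this
    have hB : qB ∈ T := h
    have hle : f.range ≤ T := by
      rintro _ ⟨u, rfl⟩
      cases u with
      | a i => exact Subgroup.pow_mem _ hA _
      | xa i => exact Subgroup.mul_mem _ hB (Subgroup.pow_mem _ hA _)
    have heq : f.range = T := Subgroup.eq_of_le_of_card_ge hle (by
      rw [h8, ← Nat.card_congr (MonoidHom.ofInjective (f := f) (fun u v h => q8_inj u v h)).toEquiv,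
        Nat.card_eq_fintype_card, QuaternionGroup.card])
    exact ⟨((MonoidHom.ofInjective (f := f) (fun u v h => q8_inj u v h)).trans
      (MulEquiv.subgroupCongr heq)).symm⟩

theorem qd_P0 : Cfsg.IsQuasiDihedral P0 := by
  refine ⟨3, le_rfl, by rw [card_P0]; norm_num, ⟨mX, 1, 0, by decide +kernel⟩,
    ⟨mY, 0, 1, by decide +kernel⟩, ?_, ?_, ?_⟩
  · refine (Subgroup.orderOf_coe _).symm.trans ?_
    exact orderOf_eq_prime_pow (p := 2) (n := 2) (x := mX) (by decide +kernel) (by decide +kernel)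
  · refine (Subgroup.orderOf_coe _).symm.trans ?_
    exact orderOf_eq_prime (x := mY) (by decide +kernel) (by decide +kernel)
  · exact Subtype.ext (show mY * mX * mY⁻¹ = mX ^ (2 ^ (3 - 1) - 1) by decide +kernel)

theorem prime_pow_pred_two {p a d : ℕ} (hp : p.Prime) (h : 2 ^ d - 1 = p ^ a) (ha : 0 < a) : a = 1 := by
  have h2d : 1 ≤ 2 ^ d := Nat.one_le_two_pow
  have hd : 2 ≤ d := by
    by_contra hd
    have hle : 2 ^ d ≤ 2 ^ 1 := Nat.pow_le_pow_right (by norm_num) (by omega)
    have h1 : p ≤ p ^ a := Nat.le_self_pow ha.ne' p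
    have := hp.two_le
    omega
  have h4 : 4 ∣ 2 ^ d := by
    rw [show 4 = 2 ^ 2 from rfl]; exact Nat.pow_dvd_pow 2 hd
  have hpo : Odd p := by
    rcases hp.eq_two_or_odd' with rfl | hodd
    · have : 2 ∣ 2 ^ a := dvd_pow_self 2 ha.ne'
      omega
    · exact hodd
  rcases Nat.even_or_odd a with ⟨b, hb⟩ | hao
  · exfalso
    have h1 : p ^ a % 4 = 1 := by
      rw [hb, ← mul_two, pow_mul, Nat.pow_mod]
      have hodd : p ^ b % 2 = 1 := Nat.odd_iff.mp hpo.pow
      have h41 : p ^ b % 4 = 1 ∨ p ^ b % 4 = 3 := by omega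
      rcases h41 with e | e <;> simp [e]
    omega
  · obtain ⟨k, hk⟩ : p + 1 ∣ p ^ a + 1 := by
      simpa using hao.nat_add_dvd_pow_add_pow p 1
    have hdvd : p + 1 ∣ 2 ^ d := ⟨k, by omega⟩
    obtain ⟨e, hed, he⟩ := (Nat.dvd_prime_pow Nat.prime_two).mp hdvd
    -- the cofactor is odd
    by_contra ha1
    have hlt : p + 1 < p ^ a + 1 := by
      have : p ^ 1 < p ^ a := Nat.pow_lt_pow_right hp.one_lt (by omega)
      rw [pow_one] at this
      omega
    have hk1 : k ≠ 1 := by rintro rfl; omega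
    have hkd : k ∣ 2 ^ d := ⟨p + 1, by rw [mul_comm]; omega⟩
    have hkeven : k % 2 = 0 := by
      obtain ⟨e', -, rfl⟩ := (Nat.dvd_prime_pow Nat.prime_two).mp hkd
      have : e' ≠ 0 := fun h => hk1 (by rw [h, pow_zero])
      exact Nat.dvd_iff_mod_eq_zero.mp (dvd_pow_self 2 this)
    -- but `(p ^ a + 1) / (p + 1) = 1 - p + p ^ 2 - ...` is odd
    have hz : (k : ℤ) = ∑ i ∈ Finset.range a, (-(p : ℤ)) ^ i := by
      have hg := geom_sum_mul (-(p : ℤ)) a
      have hk' : ((p : ℤ) + 1) * k = (p : ℤ) ^ a + 1 := by exact_mod_cast hk.symm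
      have hne : (p : ℤ) + 1 ≠ 0 := by positivity
      apply mul_left_cancel₀ hne
      rw [hk', hao.neg_pow] at *
      linear_combination hg
    have hz2 : ((k : ℤ) : ZMod 2) = (a : ZMod 2) := by
      rw [hz]
      push_cast
      have : ((p : ℕ) : ZMod 2) = 1 := ZMod.natCast_eq_one_iff_odd.mpr hpo
      rw [show (-(p : ZMod 2)) = 1 by rw [this]; decide]
      simp
    rw [ZMod.natCast_eq_one_iff_odd.mpr hao, Int.cast_natCast, ZMod.natCast_eq_one_iff_odd,
      Nat.odd_iff] at hz2
    omega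

theorem two_pow_add_one {q d a : ℕ} (hq : q.Prime) (h : q ^ d = 2 ^ a + 1) (hd : 0 < d) (hq2 : q ≠ 2) :
    d = 1 ∨ (q = 3 ∧ d = 2) := by
  have hqo : Odd q := hq.eq_two_or_odd'.resolve_left hq2
  have hq3 : 3 ≤ q := by have := hq.two_le; omega
  rcases Nat.even_or_odd d with ⟨b, hb⟩ | hdo
  · right
    set x := q ^ b with hx
    have hx1 : 1 ≤ x := Nat.one_le_pow _ _ hq.pos
    have hmul : (x - 1) * (x + 1) = 2 ^ a := by
      rw [mul_comm, ← Nat.sq_sub_sq, one_pow, pow_two, hx, ← pow_add, ← hb, h, Nat.add_sub_cancel]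
    have hb0 : 0 < b := by omega
    have hx3 : 3 ≤ x := le_trans hq3 (Nat.le_self_pow hb0.ne' q)
    obtain ⟨e1, -, he1⟩ := (Nat.dvd_prime_pow Nat.prime_two).mp (Dvd.intro _ hmul)
    obtain ⟨e2, -, he2⟩ := (Nat.dvd_prime_pow Nat.prime_two).mp (Dvd.intro_left _ hmul)
    have hx2 : x = 3 := by
      rcases e1 with _ | _ | e1
      · simp at he1; omega
      · simp at he1; omega
      · rcases e2 with _ | _ | e2
        · simp at he2; omega
        · simp at he2; omega
        · rw [pow_succ, pow_succ] at he1 he2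
          omega
    have hdvd : q ∣ 3 := hx2 ▸ dvd_pow_self q hb0.ne'
    have hqeq : q = 3 := (Nat.prime_dvd_prime_iff_eq hq Nat.prime_three).mp hdvd
    subst hqeq
    have : b = 1 := Nat.pow_right_injective (by norm_num) (hx2.trans (pow_one 3).symm)
    exact ⟨rfl, by omega⟩
  · left
    by_contra hd1
    have hg := geom_sum_mul (q : ℤ) d
    have h2 : ((∑ i ∈ Finset.range d, q ^ i : ℕ)) * (q - 1) = 2 ^ a := by
      have := Nat.geomSum_eq (show 2 ≤ q by omega) d
      have hdiv : q - 1 ∣ q ^ d - 1 := by simpa using Nat.sub_dvd_pow_sub_pow q 1 d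
      rw [this, Nat.div_mul_cancel hdiv, h, Nat.add_sub_cancel]
    obtain ⟨e, -, he⟩ := (Nat.dvd_prime_pow Nat.prime_two).mp (Dvd.intro _ h2)
    have hodd : ((∑ i ∈ Finset.range d, q ^ i : ℕ) : ZMod 2) = 1 := by
      push_cast
      rw [ZMod.natCast_eq_one_iff_odd.mpr hqo]
      simp [ZMod.natCast_eq_one_iff_odd.mpr hdo]
    rw [ZMod.natCast_eq_one_iff_odd, he] at hodd
    have he0 : e = 0 := by
      by_contra h0
      have h' := Nat.odd_iff.mp hodd
      have := Nat.dvd_iff_mod_eq_zero.mp (dvd_pow_self 2 h0)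
      omega
    rw [he0, pow_zero] at he
    have hle : ∑ i ∈ Finset.range 2, q ^ i ≤ ∑ i ∈ Finset.range d, q ^ i :=
      Finset.sum_le_sum_of_subset (Finset.range_mono (by omega))
    rw [he, Finset.sum_range_succ, Finset.sum_range_one, pow_zero, pow_one] at hle
    omega


/-- Let q be a prime, V a non-trivial finite vector space over the field with q elements, and G a non-trivial finite p-group (p prime) acting faithfully and linearly on V and transitively on the non-zero vectors. Then either q = 2 and G has prime order p = |V| − 1; or p = 2, V has q elements with q = 2^m + 1 and G is cyclic of order 2^m; or p = 2, q = 3, V has 9 elements and G is cyclic of order 8, quaternion of order 8, or semidihedral of order 16. -/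
theorem result (q : ℕ) [Fact q.Prime] {V : Type*} [AddCommGroup V] [Module (ZMod q) V] [Finite V] [Nontrivial V]
    {G : Type*} [Group G] [Finite G] [Nontrivial G] (p : ℕ) [Fact p.Prime] (hG : IsPGroup p G)
    (ρ : G →* (V ≃ₗ[ZMod q] V)) (hρ : Function.Injective ρ)
    (htrans : ∀ v w : V, v ≠ 0 → w ≠ 0 → ∃ g : G, ρ g v = w) :
    (q = 2 ∧ p = Nat.card V - 1 ∧ Nat.card G = p) ∨
    (p = 2 ∧ Nat.card V = q ∧ (∃ m : ℕ, q = 2 ^ m + 1 ∧ Nat.card G = 2 ^ m) ∧ IsCyclic G) ∨
    (p = 2 ∧ q = 3 ∧ Nat.card V = 9 ∧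
      ((IsCyclic G ∧ Nat.card G = 8) ∨ Nonempty (G ≃* QuaternionGroup 2) ∨ (Cfsg.IsQuasiDihedral G ∧ Nat.card G = 16))) := by
  classical
  haveI : Module.Finite (ZMod q) V := Module.Finite.of_finite
  set d := Module.finrank (ZMod q) V with hd
  have hd0 : 0 < d := Module.finrank_pos
  have hVc : Nat.card V = q ^ d := by
    rw [Module.natCard_eq_pow_finrank (K := ZMod q), Nat.card_zmod]
  letI : MulAction G V :=
    { smul := fun g v => ρ g v
      one_smul := fun v => show ρ 1 v = v by rw [map_one]; rfl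
      mul_smul := fun g h v => show ρ (g * h) v = ρ g (ρ h v) by rw [map_mul]; rfl }
  obtain ⟨v0, hv0⟩ := exists_ne (0 : V)
  have horb : MulAction.orbit G v0 = {v | v ≠ 0} := by
    ext v
    constructor
    · rintro ⟨g, rfl⟩
      exact fun h => hv0 ((ρ g).injective (by rw [map_zero]; exact h))
    · intro hv
      exact htrans v0 v hv0 hv
  obtain ⟨n, hn⟩ := hG.exists_card_eq
  obtain ⟨a, han, ha⟩ : ∃ a, a ≤ n ∧ q ^ d - 1 = p ^ a := by
    have h1 : Nat.card (MulAction.orbit G v0) = q ^ d - 1 := by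
      rw [horb, ← hVc]
      haveI := Fintype.ofFinite V
      show Nat.card {v : V // v ≠ 0} = _
      simp only [Nat.card_eq_fintype_card, Fintype.card_subtype_compl, Fintype.card_subtype_eq]
    obtain ⟨a, han, ha⟩ := (Nat.dvd_prime_pow (Fact.out : p.Prime)).mp
      (by rw [← hn, Nat.card_coe_set_eq, ← MulAction.index_stabilizer]; exact Subgroup.index_dvd_card _ :
        Nat.card (MulAction.orbit G v0) ∣ p ^ n)
    exact ⟨a, han, h1 ▸ ha⟩
  have hqd : 2 ≤ q ^ d := le_trans (Fact.out : q.Prime).two_le (Nat.le_self_pow hd0.ne' q)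
  by_cases hq2 : q = 2
  · subst hq2
    left
    have ha0 : 0 < a := by
      by_contra h
      have ha' : a = 0 := by omega
      rw [ha', pow_zero] at ha
      -- `|V| = 2` makes the group trivial
      have hone : ∀ g : G, ρ g = 1 := by
        intro g
        refine LinearEquiv.ext fun v => ?_
        show ρ g v = v
        by_cases hv : v = 0
        · rw [hv, map_zero]
        · by_contra hne
          have h3 : ({0, v, ρ g v} : Set V).ncard = 3 := by
            rw [Set.ncard_eq_three]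
            exact ⟨0, v, ρ g v, Ne.symm hv, fun e => hv ((ρ g).injective (by rw [← e, map_zero])),
              Ne.symm hne, rfl⟩
          have := Set.ncard_le_ncard (Set.subset_univ ({0, v, ρ g v} : Set V)) (Set.toFinite _)
          rw [h3, Set.ncard_univ, hVc] at this
          omega
      exact not_nontrivial_iff_subsingleton.mpr
        ⟨fun x y => hρ ((hone x).trans (hone y).symm)⟩ inferInstance
    have ha1 := prime_pow_pred_two (Fact.out : p.Prime) ha ha0
    rw [ha1, pow_one] at ha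
    refine ⟨rfl, by rw [hVc, ha], ?_⟩
    -- a `p`-group of permutations of `p` points
    let φ : G →* Equiv.Perm {v : V // v ≠ 0} :=
      { toFun := fun g => (ρ g).toEquiv.subtypeEquiv fun v => by simp
        map_one' := Equiv.ext fun v => Subtype.ext (by simp)
        map_mul' := fun g h => Equiv.ext fun v => Subtype.ext (by simp) }
    have hφ : Function.Injective φ := fun g h e => hρ (LinearEquiv.ext fun v => by
      by_cases hv : v = 0
      · rw [hv, map_zero, map_zero]
      · exact congrArg Subtype.val (DFunLike.congr_fun e ⟨v, hv⟩))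
    have hdvd := Subgroup.card_dvd_of_injective φ hφ
    rw [Nat.card_perm, hn] at hdvd
    have hcard : Nat.card {v : V // v ≠ 0} = p := by
      haveI := Fintype.ofFinite V
      simp only [Nat.card_eq_fintype_card, Fintype.card_subtype_compl, Fintype.card_subtype_eq]
      rw [← Nat.card_eq_fintype_card, hVc, ha]
    rw [hcard] at hdvd
    have hp := (Fact.out : p.Prime)
    have hn1 : n ≤ 1 := by
      by_contra h
      have h2 : p ^ 2 ∣ p.factorial := (Nat.pow_dvd_pow p (by omega)).trans hdvd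
      rw [← Nat.mul_factorial_pred hp.ne_zero, pow_two] at h2
      have h3 := Nat.dvd_of_mul_dvd_mul_left hp.pos h2
      rw [hp.dvd_factorial] at h3
      have := hp.two_le
      omega
    rw [hn, show n = 1 by omega, pow_one]
  have hqo : Odd q := (Fact.out : q.Prime).eq_two_or_odd'.resolve_left hq2
  have hp2 : p = 2 := by
    have h1 : 2 ∣ q ^ d - 1 := by
      have := Nat.odd_iff.mp (hqo.pow (n := d))
      omega
    rw [ha] at h1
    exact ((Nat.prime_dvd_prime_iff_eq Nat.prime_two Fact.out).mp (Nat.prime_two.dvd_of_dvd_pow h1)).symm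
  subst hp2
  rcases two_pow_add_one (Fact.out : q.Prime) (a := a) (by omega) hd0 hq2 with hd1 | ⟨hq3, hd2⟩
  · right; left
    rw [hd1, pow_one] at ha hVc hqd
    have hline : ∀ v : V, ∃ c : ZMod q, c • v0 = v :=
      (finrank_eq_one_iff_of_nonzero' v0 hv0).mp hd1
    have hscal : ∀ g : G, ∃ c : ZMod q, ρ g v0 = c • v0 := fun g => by
      obtain ⟨c, hc⟩ := hline (ρ g v0); exact ⟨c, hc.symm⟩
    choose c hc using hscal
    have hcinj : Function.Injective c := fun g h e => hρ (LinearEquiv.ext fun v => by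
      obtain ⟨s, rfl⟩ := hline v
      rw [map_smul, map_smul, hc, hc, e])
    let χ : G →* ZMod q := MonoidHom.mk
      ⟨c, smul_left_injective (ZMod q) hv0 (show c 1 • v0 = (1 : ZMod q) • v0 by
          rw [← hc, one_smul, map_one]; rfl)⟩
      fun g h => smul_left_injective (ZMod q) hv0 (show c (g * h) • v0 = (c g * c h) • v0 by
          rw [← hc, map_mul]
          show ρ g (ρ h v0) = _
          rw [hc, map_smul, hc, smul_smul, mul_comm])
    haveI : IsCyclic G := isCyclic_of_subgroup_isDomain χ hcinj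
    refine ⟨rfl, hVc, ⟨a, by omega, ?_⟩, inferInstance⟩
    have hstab : MulAction.stabilizer G v0 = ⊥ := by
      rw [Subgroup.eq_bot_iff_forall]
      intro g hg
      have hg' : ρ g v0 = v0 := hg
      apply hcinj
      apply smul_left_injective (ZMod q) hv0
      show c g • v0 = c 1 • v0
      rw [← hc, ← hc, hg', map_one]
      rfl
    have h2 := MulAction.index_stabilizer G v0
    rw [hstab, Subgroup.index_bot, ← Nat.card_coe_set_eq, horb] at h2
    rw [h2]
    show Nat.card {v : V // v ≠ 0} = _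
    haveI := Fintype.ofFinite V
    simp only [Nat.card_eq_fintype_card, Fintype.card_subtype_compl, Fintype.card_subtype_eq]
    rw [← Nat.card_eq_fintype_card, hVc, ha]
  · right; right
    subst hq3
    rw [hd2] at ha hVc
    refine ⟨rfl, rfl, by rw [hVc]; norm_num, ?_⟩
    let b : Module.Basis (Fin 2) (ZMod 3) V := Module.finBasisOfFinrankEq (ZMod 3) V hd2
    let toM : (V ≃ₗ[ZMod 3] V) →* M :=
      ((LinearMap.GeneralLinearGroup.generalLinearEquiv (ZMod 3) V).symm.trans
        (Units.mapEquiv (LinearMap.toMatrixAlgEquiv b).toMulEquiv)).toMonoidHom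
    have htoM : Function.Injective toM :=
      ((LinearMap.GeneralLinearGroup.generalLinearEquiv (ZMod 3) V).symm.trans
        (Units.mapEquiv (LinearMap.toMatrixAlgEquiv b).toMulEquiv)).injective
    have hval : ∀ (f : V ≃ₗ[ZMod 3] V) (v : V) (i : Fin 2),
        ((toM f : Matrix (Fin 2) (Fin 2) (ZMod 3)) *ᵥ (b.repr v : Fin 2 → ZMod 3)) i = b.repr (f v) i :=
      fun f v i => congrFun (LinearMap.toMatrix_mulVec_repr b b (f : V →ₗ[ZMod 3] V) v) i
    let ψ : G →* M := toM.comp ρ
    have hψ : Function.Injective ψ := htoM.comp hρ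
    haveI : Fact (Nat.Prime 2) := ⟨Nat.prime_two⟩
    obtain ⟨S, hS⟩ := (hG.of_equiv (MonoidHom.ofInjective hψ)).exists_le_sylow
    have hMc : Nat.card M = 48 := by
      rw [Matrix.card_GL_field]
      simp [Fin.prod_univ_two]
    let P : Sylow 2 M := Sylow.ofCard P0 (by rw [card_P0, hMc]; decide +kernel)
    obtain ⟨t, ht⟩ := MulAction.exists_smul_eq M S P
    let ψ' : G →* M := (MulAut.conj t).toMonoidHom.comp ψ
    have hψ' : Function.Injective ψ' := (MulAut.conj t).injective.comp hψ
    have hle : ψ'.range ≤ P0 := by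
      rintro _ ⟨g, rfl⟩
      have h1 : ψ g ∈ (S : Subgroup M) := hS ⟨g, rfl⟩
      have h2 : (MulAut.conj t) (ψ g) ∈ ((t • S : Sylow 2 M) : Subgroup M) :=
        Subgroup.smul_mem_pointwise_smul _ (MulAut.conj t) _ h1
      rw [ht] at h2
      exact h2
    have e : G ≃* ψ'.range := MonoidHom.ofInjective hψ'
    have hdvd : Nat.card G ∣ 16 := by
      rw [Nat.card_congr e.toEquiv, ← card_P0]
      exact Subgroup.card_dvd_of_le hle
    have h8 : 8 ∣ Nat.card G := by
      rw [hn]
      have : 2 ^ a = 8 := by simpa using ha.symm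
      have ha3 : a = 3 := Nat.pow_right_injective (le_refl 2) (this.trans (by norm_num))
      exact Dvd.dvd.trans (by rw [ha3]) (Nat.pow_dvd_pow 2 han)
    have htr : ∃ g ∈ ψ'.range, col g = ![0, 1] := by
      set w : Fin 2 → ZMod 3 := ((t⁻¹ : M) : Matrix (Fin 2) (Fin 2) (ZMod 3)) *ᵥ ![0, 1] with hw
      set u : Fin 2 → ZMod 3 := ((t⁻¹ : M) : Matrix (Fin 2) (Fin 2) (ZMod 3)) *ᵥ ![1, 0] with hu
      have hne : ∀ x : Fin 2 → ZMod 3, x ≠ 0 → ((t⁻¹ : M) : Matrix (Fin 2) (Fin 2) (ZMod 3)) *ᵥ x ≠ 0 := by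
        intro x hx h
        apply hx
        have := congrArg (fun y => (t : Matrix (Fin 2) (Fin 2) (ZMod 3)) *ᵥ y) h
        simp only [Matrix.mulVec_mulVec, Matrix.mulVec_zero] at this
        rwa [← Units.val_mul, mul_inv_cancel, Units.val_one, Matrix.one_mulVec] at this
      obtain ⟨g, hg⟩ := htrans (b.equivFun.symm u) (b.equivFun.symm w)
        (fun h => hne _ e10 (b.equivFun.symm.injective (h.trans (map_zero _).symm)))
        (fun h => hne _ e01 (b.equivFun.symm.injective (h.trans (map_zero _).symm)))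
      refine ⟨ψ' g, ⟨g, rfl⟩, ?_⟩
      have h1 : (ψ g : Matrix (Fin 2) (Fin 2) (ZMod 3)) *ᵥ u = w := by
        funext i
        have := hval (ρ g) (b.equivFun.symm u) i
        rw [hg] at this
        rw [← Module.Basis.equivFun_apply, ← Module.Basis.equivFun_apply, LinearEquiv.apply_symm_apply,
          LinearEquiv.apply_symm_apply] at this
        exact this
      have h2 : ((ψ' g : M) : Matrix (Fin 2) (Fin 2) (ZMod 3)) *ᵥ ![1, 0] = ![0, 1] := by
        show (((t * ψ g * t⁻¹ : M)) : Matrix (Fin 2) (Fin 2) (ZMod 3)) *ᵥ ![1, 0] = _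
        rw [Units.val_mul, Units.val_mul, ← Matrix.mulVec_mulVec, ← Matrix.mulVec_mulVec, ← hu, h1, hw,
          Matrix.mulVec_mulVec, ← Units.val_mul, mul_inv_cancel, Units.val_one, Matrix.one_mulVec]
      funext i
      have h3 := congrFun h2 i
      simpa [col, Matrix.mulVec, dotProduct, Fin.sum_univ_two] using h3
    by_cases h16 : Nat.card G = 16
    · refine Or.inr (Or.inr ⟨?_, h16⟩)
      have heq : ψ'.range = P0 := Subgroup.eq_of_le_of_card_ge hle (by
        rw [card_P0, ← Nat.card_congr e.toEquiv, h16])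
      let E : P0 ≃* G := (MulEquiv.subgroupCongr heq).symm.trans e.symm
      obtain ⟨m, h3, hm, x, y, hx, hy, hxy⟩ := qd_P0
      refine ⟨m, h3, by rw [← Nat.card_congr E.toEquiv, hm], E x, E y, by rw [MulEquiv.orderOf_eq, hx],
        by rw [MulEquiv.orderOf_eq, hy], by rw [← map_pow, ← map_inv, ← map_mul, ← map_mul, hxy]⟩
    · have hG8 : Nat.card G = 8 := by
        have := Nat.le_of_dvd (by norm_num) hdvd
        obtain ⟨r, hr⟩ := h8
        have h0 : 0 < Nat.card G := Nat.card_pos
        omega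
      obtain h | h := quaternion_of_card ψ'.range hle (by rw [← Nat.card_congr e.toEquiv, hG8]) htr
      · haveI := h
        exact Or.inl ⟨isCyclic_of_surjective e.symm.toMonoidHom e.symm.surjective, hG8⟩
      · obtain ⟨f⟩ := h
        exact Or.inr (Or.inl ⟨e.trans f⟩)

end Cfsg.Agent.S3370
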