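import Cfsg.Statements.S0519
import Cfsg.Agent.Lib.Fusion.DStar
import Cfsg.Agent.Lib.PGroup.NormalRankTwo
import Cfsg.Agent.Lib.Classical.QuaternionRec
import Cfsg.Agent.Lib.SmallTwo.DihedralRec

set_option autoImplicit false
set_option linter.style.haveILetI false
open Cfsg

namespace Cfsg.Agent.S0519


theorem isCoprime_two {y : ℤ} (hy : Odd y) (m : ℕ) : IsCoprime ((2 : ℤ) ^ m) y := by
  obtain ⟨c, rfl⟩ := hy
  exact IsCoprime.pow_left ⟨-c, 1, by ring⟩

theorem four_contradiction {P : Type*} [Group P]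
    (hn : ∀ A : Subgroup P, A.Normal → IsMulCommutative A → IsCyclic A) {z y : P} (hz : z ≠ 1)
    (hz2 : z * z = 1) (hy : y ≠ 1) (hy2 : y * y = 1) (hne : y ≠ z) (hzc : ∀ h : P, h * z = z * h)
    (hyc : ∀ h : P, h * y * h⁻¹ = y ∨ h * y * h⁻¹ = y * z) : False := by
  set E := Subgroup.closure ({z, y} : Set P) with hE
  have hzE : z ∈ E := Subgroup.subset_closure (by simp)
  have hyE : y ∈ E := Subgroup.subset_closure (by simp)
  have hcomm : IsMulCommutative E := by
    refine Subgroup.isMulCommutative_closure ?_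
    rintro x (rfl | rfl) w (rfl | rfl)
    · rfl
    · exact (hzc w).symm
    · exact hzc x
    · rfl
  have hnor : E.Normal := ⟨fun x hx g => by
    have hle : E ≤ E.comap (MulAut.conj g).toMonoidHom := by
      refine (Subgroup.closure_le _).mpr ?_
      rintro w (rfl | rfl)
      · show g * w * g⁻¹ ∈ E
        rw [hzc g, mul_inv_cancel_right]; exact hzE
      · show g * w * g⁻¹ ∈ E
        rcases hyc g with e | e <;> rw [e]
        · exact hyE
        · exact mul_mem hyE hzE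
    exact hle hx⟩
  haveI hcyc : IsCyclic E := hn E hnor hcomm
  obtain ⟨⟨e, heE⟩, he⟩ := hcyc.exists_generator
  haveI := hcomm
  have hsq : ∀ x ∈ E, x * x = 1 := by
    intro x hx
    refine Subgroup.closure_induction (p := fun x _ => x * x = 1) ?_ ?_ ?_ ?_ hx
    · rintro w (rfl | rfl)
      · exact hz2
      · exact hy2
    · exact one_mul 1
    · intro a b ha hb h1 h2
      have hab : a * b = b * a := congrArg Subtype.val (mul_comm' (⟨a, ha⟩ : E) ⟨b, hb⟩)
      rw [show a * b * (a * b) = a * (b * a) * b by group, ← hab,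
        show a * (a * b) * b = (a * a) * (b * b) by group, h1, h2, one_mul]
    · intro a _ h1
      rw [← mul_inv_rev, h1, inv_one]
  have key : ∀ x ∈ E, x = 1 ∨ x = e := by
    intro x hx
    obtain ⟨i, hi⟩ := Subgroup.mem_zpowers_iff.mp (he ⟨x, hx⟩)
    have hi' : e ^ i = x := congrArg Subtype.val hi
    rcases Int.even_or_odd' i with ⟨c, rfl | rfl⟩
    · left
      rw [← hi', zpow_mul, zpow_two, hsq e heE, one_zpow]
    · right
      rw [← hi', zpow_add, zpow_mul, zpow_two, hsq e heE, one_zpow, one_mul, zpow_one]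
  rcases key z hzE with h | h
  · exact hz h
  rcases key y hyE with h' | h'
  · exact hy h'
  exact hne (h'.trans h.symm)

/-- Let P be a finite p-group in which every abelian normal subgroup is cyclic, but which has a non-cyclic abelian
subgroup. Then p = 2 and P is generalized quaternion, dihedral of order at least 16, or quasi-dihedral. -/
theorem result {P : Type*} [Group P] [Finite P] (p : ℕ) [Fact p.Prime]
    (hP : IsPGroup p P) (hn : ∀ A : Subgroup P, A.Normal → IsMulCommutative A → IsCyclic A)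
    (hm : ∃ B : Subgroup P, IsMulCommutative B ∧ ¬ IsCyclic B) :
    p = 2 ∧ ((∃ n : ℕ, Nonempty (P ≃* QuaternionGroup n)) ∨ (∃ n : ℕ, 8 ≤ n ∧ Nonempty (P ≃* DihedralGroup n)) ∨
      Cfsg.IsQuasiDihedral P) := by
  haveI : Group.IsNilpotent P := hP.isNilpotent
  obtain ⟨B, hBc, hBn⟩ := hm
  have hnotcyc : ¬ IsCyclic P := fun h => hBn inferInstance
  have hp2 : p = 2 := by
    by_contra hne
    obtain ⟨A, -, hAn, hAe, hAc⟩ := CfsgLib.CyclicMax.exists_normal_rank_two hP hne ⊤ inferInstance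
      fun h => hnotcyc (isCyclic_of_surjective Subgroup.topEquiv (MulEquiv.surjective _))
    haveI := hn A hAn hAe.1
    obtain ⟨g, hg⟩ := IsCyclic.exists_ofOrder_eq_natCard (α := A)
    have h1 : orderOf g ∣ p := orderOf_dvd_of_pow_eq_one (Subtype.ext (hAe.2 g g.2))
    rw [hg, hAc] at h1
    have h2 := Nat.le_of_dvd (Fact.out : p.Prime).pos h1
    nlinarith [(Fact.out : p.Prime).one_lt]
  refine ⟨hp2, ?_⟩
  subst hp2
  haveI : Group.IsNilpotent (⊤ : Subgroup P) := Subgroup.isNilpotent (⊤ : Subgroup P)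
  obtain ⟨A, -, hAn, hAc, hAC⟩ := CfsgLib.DStar.exists_self_centralizing (⊤ : Subgroup P)
  haveI hAN : A.Normal := Subgroup.normalizer_eq_top_iff.mp (top_le_iff.mp hAn)
  haveI hAcyc : IsCyclic A := hn A hAN ⟨⟨fun x y => Subtype.ext (hAc x x.2 y y.2).eq⟩⟩
  obtain ⟨a0, ha0⟩ := IsCyclic.exists_ofOrder_eq_natCard (α := A)
  obtain ⟨n, hn2⟩ := IsPGroup.iff_card.mp (hP.to_subgroup A)
  set a : P := (a0 : P) with ha_def
  have haA : a ∈ A := a0.2
  have hoa : orderOf a = 2 ^ n := by rw [Subgroup.orderOf_coe, ha0, hn2]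
  have hA_eq : A = Subgroup.zpowers a := (Subgroup.eq_of_le_of_card_ge (Subgroup.zpowers_le.mpr haA)
    (by rw [Nat.card_zpowers, hoa, hn2])).symm
  have h1iff : ∀ i : ℤ, a ^ i = 1 ↔ (2 : ℤ) ^ n ∣ i := fun i => by
    rw [← orderOf_dvd_iff_zpow_eq_one, hoa, Nat.cast_pow]; rfl
  have heq : ∀ i j : ℤ, a ^ i = a ^ j ↔ (2 : ℤ) ^ n ∣ i - j := fun i j => by
    rw [← h1iff, zpow_sub, mul_inv_eq_one]
  have hcent : ∀ x : P, x * a * x⁻¹ = a → x ∈ A := by
    intro x hx
    refine hAC ⟨trivial, fun b hb => ?_⟩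
    rw [hA_eq] at hb
    obtain ⟨i, rfl⟩ := hb
    exact (Commute.zpow_right (mul_inv_eq_iff_eq_mul.mp hx) i).eq.symm
  have hact : ∀ g : P, ∃ i : ℤ, g * a * g⁻¹ = a ^ i := fun g => by
    obtain ⟨i, hi⟩ := Subgroup.mem_zpowers_iff.mp (hA_eq ▸ hAN.conj_mem a haA g :
      g * a * g⁻¹ ∈ Subgroup.zpowers a)
    exact ⟨i, hi.symm⟩
  have hpowj : ∀ (g : P) (i : ℤ), g * a * g⁻¹ = a ^ i → ∀ j : ℤ, g * a ^ j * g⁻¹ = a ^ (i * j) :=
    fun g i hg j => by rw [← conj_zpow, hg, zpow_mul]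
  have hmul : ∀ (g h : P) (i j : ℤ), g * a * g⁻¹ = a ^ i → h * a * h⁻¹ = a ^ j →
      g * h * a * (g * h)⁻¹ = a ^ (i * j) := fun g h i j hg hh => by
    rw [show g * h * a * (g * h)⁻¹ = g * (h * a * h⁻¹) * g⁻¹ by group, hh, hpowj g i hg]
  have hn1 : 1 ≤ n := by
    by_contra hlt
    refine hnotcyc ?_
    have : A = ⊤ := top_le_iff.mp fun x _ => hcent x (by
      obtain ⟨i, hi⟩ := hact x
      rw [hi]
      conv_rhs => rw [← zpow_one a]
      rw [heq, show n = 0 by omega, pow_zero]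
      exact one_dvd _)
    exact isCyclic_of_surjective ((MulEquiv.subgroupCongr this).trans Subgroup.topEquiv) (MulEquiv.surjective _)
  set z : P := a ^ ((2 : ℤ) ^ (n - 1)) with hz_def
  have hz1 : z ≠ 1 := fun e => by
    rw [hz_def, h1iff] at e
    have := Int.le_of_dvd (by positivity) e
    have hlt : (2 : ℤ) ^ (n - 1) < 2 ^ n := pow_lt_pow_right₀ (by norm_num) (by omega)
    omega
  have hz2 : z * z = 1 := by
    rw [hz_def, ← zpow_add, h1iff, ← two_mul, ← pow_succ', Nat.sub_add_cancel hn1]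
  have hodd : ∀ (g : P) (i : ℤ), g * a * g⁻¹ = a ^ i → Odd i := by
    intro g i hg
    rcases Int.even_or_odd i with ⟨c, hc⟩ | h
    · exfalso
      have e : g * z * g⁻¹ = 1 := by
        rw [hz_def, hpowj g i hg, h1iff, hc,
          show (c + c) * 2 ^ (n - 1) = c * 2 ^ (n - 1 + 1) by rw [pow_succ]; ring,
          Nat.sub_add_cancel hn1]
        exact dvd_mul_left _ _
      exact hz1 (conj_eq_one_iff.mp e)
    · exact h
  have hzc : ∀ h : P, h * z = z * h := by
    intro h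
    obtain ⟨i, hi⟩ := hact h
    obtain ⟨c, rfl⟩ := hodd h i hi
    have e : h * z * h⁻¹ = z := by
      rw [hz_def, hpowj h _ hi, heq, show (2 * c + 1) * 2 ^ (n - 1) - 2 ^ (n - 1) = c * 2 ^ (n - 1 + 1) by
        rw [pow_succ]; ring, Nat.sub_add_cancel hn1]
      exact dvd_mul_left _ _
    exact mul_inv_eq_iff_eq_mul.mp e
  have fact1 : 3 ≤ n → ∀ g : P, g * a * g⁻¹ ≠ a ^ (1 + 2 ^ (n - 1) : ℤ) := by
    intro h3 g hg
    obtain ⟨m, rfl⟩ : ∃ m, n = m + 3 := ⟨n - 3, by omega⟩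
    simp only [show m + 3 - 1 = m + 2 by omega] at hg hz_def hz1
    have hgg : g * g * a * (g * g)⁻¹ = a := by
      rw [hmul g g _ _ hg hg]
      conv_rhs => rw [← zpow_one a]
      rw [heq]
      exact ⟨1 + 2 ^ (m + 1), by ring⟩
    obtain ⟨k, hk⟩ := Subgroup.mem_zpowers_iff.mp (hA_eq ▸ hcent _ hgg : g * g ∈ Subgroup.zpowers a)
    obtain ⟨c, rfl⟩ : Even k := by
      have e : g * (g * g) * g⁻¹ = g * g := by group
      rw [← hk, hpowj g _ hg, heq] at e
      obtain ⟨d, hd⟩ := e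
      have h2 : (2 : ℤ) ^ (m + 2) * k = 2 ^ (m + 2) * (2 * d) := by linear_combination hd
      exact ⟨d, by rw [mul_left_cancel₀ (pow_ne_zero _ two_ne_zero) h2]; ring⟩
    set j : ℤ := -c * (1 + 2 ^ (m + 1)) with hj
    set y := g * a ^ j with hy
    have hy2 : y * y = 1 := by
      rw [hy, show g * a ^ j * (g * a ^ j) = g * a ^ j * g⁻¹ * (g * g) * a ^ j by group,
        hpowj g _ hg, ← hk, ← zpow_add, ← zpow_add, h1iff]
      exact ⟨-c * (1 + 2 ^ m), by rw [hj]; ring⟩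
    have hya : y * a * y⁻¹ = a ^ (1 + 2 ^ (m + 2) : ℤ) := by
      rw [hy, show g * a ^ j * a * (g * a ^ j)⁻¹ = g * a * g⁻¹ by group, hg]
    have hyA : y ∉ A := fun hy' => by
      rw [hA_eq] at hy'
      obtain ⟨i, hi⟩ := Subgroup.mem_zpowers_iff.mp hy'
      have e : y * a * y⁻¹ = a := by rw [← hi]; group
      rw [hya] at e
      conv_rhs at e => rw [← zpow_one a]
      rw [heq, show (1 + 2 ^ (m + 2) : ℤ) - 1 = 2 ^ (m + 2) by ring] at e
      have := Int.le_of_dvd (by positivity) e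
      have hlt : (2 : ℤ) ^ (m + 2) < 2 ^ (m + 3) := pow_lt_pow_right₀ (by norm_num) (by omega)
      omega
    refine four_contradiction hn hz1 hz2 (fun e => hyA (by rw [e]; exact A.one_mem)) hy2
      (fun e => hyA (by rw [e, hz_def, hA_eq]; exact zpow_mem (Subgroup.mem_zpowers a) _)) hzc fun h => ?_
    obtain ⟨i, hi⟩ := hact h
    obtain ⟨i', hi'⟩ := hact h⁻¹
    have hii : (2 : ℤ) ^ (m + 3) ∣ i * i' - 1 := by
      rw [← heq, zpow_one, ← hmul h h⁻¹ i i' hi hi']; group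
    have hw : h * y * h⁻¹ * a * (h * y * h⁻¹)⁻¹ = a ^ (1 + 2 ^ (m + 2) : ℤ) := by
      rw [hmul _ _ _ _ (hmul h y _ _ hi hya) hi', heq]
      obtain ⟨d, hd⟩ := hii
      exact ⟨(1 + 2 ^ (m + 2)) * d, by linear_combination (1 + 2 ^ (m + 2) : ℤ) * hd⟩
    have hmem : y⁻¹ * (h * y * h⁻¹) ∈ A := hcent _ (by
      rw [show y⁻¹ * (h * y * h⁻¹) * a * (y⁻¹ * (h * y * h⁻¹))⁻¹ =
        y⁻¹ * (h * y * h⁻¹ * a * (h * y * h⁻¹)⁻¹) * y by group, hw, ← hya]
      group)
    rw [hA_eq] at hmem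
    obtain ⟨l, hl⟩ := Subgroup.mem_zpowers_iff.mp hmem
    have hw2 : y * a ^ l * (y * a ^ l) = 1 := by
      rw [hl, mul_inv_cancel_left, show h * y * h⁻¹ * (h * y * h⁻¹) = h * (y * y) * h⁻¹ by group, hy2]
      group
    rw [show y * a ^ l * (y * a ^ l) = y * a ^ l * y⁻¹ * (y * y) * a ^ l by group, hpowj y _ hya, hy2,
      mul_one, ← zpow_add, h1iff] at hw2
    have hl2 : (2 : ℤ) ^ (m + 2) ∣ l := by
      have h2 : (2 : ℤ) ^ (m + 2) ∣ l * (1 + 2 ^ (m + 1)) := by
        obtain ⟨d, hd⟩ := hw2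
        exact ⟨d, mul_left_cancel₀ (two_ne_zero (α := ℤ)) (by linear_combination hd)⟩
      exact (isCoprime_two ⟨2 ^ m, by ring⟩ _).dvd_of_dvd_mul_right h2
    have e : h * y * h⁻¹ = y * a ^ l := by rw [hl, mul_inv_cancel_left]
    rw [e]
    obtain ⟨d, rfl⟩ := hl2
    rcases Int.even_or_odd' d with ⟨d', rfl | rfl⟩
    · left
      rw [show a ^ ((2 : ℤ) ^ (m + 2) * (2 * d')) = 1 by rw [h1iff]; exact ⟨d', by ring⟩, mul_one]
    · right
      congr 1
      rw [hz_def, heq]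
      exact ⟨d', by ring⟩
  have fact2 : ∀ (k : ℕ) (g : P) (i : ℤ), g * a * g⁻¹ = a ^ i → g ^ 2 ^ k = 1 →
      (2 : ℤ) ^ n ∣ i * i - 1 := by
    intro k
    induction k with
    | zero =>
      intro g i hg h1
      rw [pow_zero, pow_one] at h1
      rw [h1] at hg
      have : a ^ i = a ^ (1 : ℤ) := by rw [← hg]; group
      rw [heq] at this
      exact dvd_trans this ⟨i + 1, by ring⟩
    | succ k ih =>
      intro g i hg h1
      have h4 := ih (g * g) (i * i) (hmul g g i i hg hg) (by rw [← pow_two, ← pow_mul, ← pow_succ', h1])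
      obtain ⟨c, rfl⟩ := hodd g i hg
      have hd : (2 : ℤ) ^ n ∣ 2 * ((2 * c + 1) * (2 * c + 1) - 1) := by
        refine (isCoprime_two (y := 2 * c * c + 2 * c + 1) ⟨c * c + c, by ring⟩ n).dvd_of_dvd_mul_right ?_
        refine dvd_trans h4 (dvd_of_eq ?_)
        ring
      obtain ⟨d, hd⟩ := hd
      obtain ⟨m, rfl⟩ : ∃ m, n = m + 1 := ⟨n - 1, by omega⟩
      have he : (2 * c + 1) * (2 * c + 1) - 1 = 2 ^ m * d := by
        refine mul_left_cancel₀ (two_ne_zero (α := ℤ)) ?_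
        rw [hd]; ring
      rcases Int.even_or_odd' d with ⟨d', rfl | rfl⟩
      · exact ⟨d', by rw [he]; ring⟩
      · rcases Nat.lt_or_ge (m + 1) 3 with hlt | h3
        · refine dvd_trans (pow_dvd_pow 2 (show m + 1 ≤ 2 by omega)) ?_
          exact ⟨c * c + c, by ring⟩
        · exfalso
          refine fact1 h3 (g * g) ((hmul g g _ _ hg hg).trans ((heq _ _).mpr ?_))
          rw [Nat.add_sub_cancel]
          exact ⟨d', by linear_combination he⟩
  obtain ⟨g, hgA⟩ : ∃ g : P, g ∉ A := by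
    by_contra! hall
    exact hnotcyc (isCyclic_of_surjective ((MulEquiv.subgroupCongr (top_le_iff.mp fun x _ => hall x)).trans
      Subgroup.topEquiv) (MulEquiv.surjective _))
  obtain ⟨m, hm⟩ : ∃ m, n = m + 1 := ⟨n - 1, by omega⟩
  subst hm
  rw [Nat.add_sub_cancel] at hz_def
  -- the possible actions of elements outside `A`
  have hout : ∀ x : P, x ∉ A → ∃ ε : ℤ, (ε = 0 ∨ ε = 1) ∧ x * a * x⁻¹ = a ^ (-1 + ε * 2 ^ m) ∧
      (ε = 1 → 2 ≤ m) ∧ 1 ≤ m := by
    intro x hx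
    obtain ⟨i, hi⟩ := hact x
    obtain ⟨k, hk⟩ := hP x
    have h2 := fact2 k x i hi hk
    obtain ⟨c, rfl⟩ := hodd x i hi
    have hne1 : ¬ (2 : ℤ) ^ (m + 1) ∣ (2 * c + 1) - 1 := fun hd => hx (hcent x (by
      rw [hi]; conv_rhs => rw [← zpow_one a]
      rw [heq]; exact hd))
    have hm1 : 1 ≤ m := by
      by_contra hlt
      refine hne1 ?_
      rw [show m = 0 by omega]
      exact ⟨c, by ring⟩
    have hdiv : (2 : ℤ) ^ (m + 1) ∣ 2 * (2 * (c * (c + 1))) := dvd_trans h2 ⟨1, by ring⟩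
    rcases Nat.lt_or_ge m 2 with hlt | h2m
    · obtain rfl : m = 1 := by omega
      refine ⟨0, Or.inl rfl, hi.trans ((heq _ _).mpr ?_), fun h => absurd h (by norm_num), le_rfl⟩
      rcases Int.even_or_odd' c with ⟨d, rfl | rfl⟩
      · exact absurd ⟨d, by ring⟩ hne1
      · exact ⟨d + 1, by ring⟩
    obtain ⟨l, rfl⟩ : ∃ l, m = l + 1 := ⟨m - 1, by omega⟩
    have hc2 : (2 : ℤ) ^ l ∣ c * (c + 1) := by
      obtain ⟨d, hd⟩ := hdiv
      exact ⟨d, mul_left_cancel₀ (mul_ne_zero two_ne_zero two_ne_zero : (2 : ℤ) * 2 ≠ 0)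
        (by linear_combination hd)⟩
    rcases Int.even_or_odd c with hc | hc
    · obtain ⟨d, hd⟩ := (isCoprime_two hc.add_one l).dvd_of_dvd_mul_right hc2
      rcases Int.even_or_odd' d with ⟨d', rfl | rfl⟩
      · exact absurd ⟨d', by rw [hd]; ring⟩ hne1
      · refine absurd (hi.trans ((heq _ _).mpr ?_)) (fact1 (by omega) x)
        rw [show l + 1 + 1 - 1 = l + 1 by omega]
        exact ⟨d', by rw [hd]; ring⟩
    · obtain ⟨d, hd⟩ := (isCoprime_two hc l).dvd_of_dvd_mul_left hc2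
      rcases Int.even_or_odd' d with ⟨d', rfl | rfl⟩
      · refine ⟨0, Or.inl rfl, hi.trans ((heq _ _).mpr ?_), fun h => absurd h (by norm_num), by omega⟩
        exact ⟨d', by linear_combination (2 : ℤ) * hd⟩
      · refine ⟨1, Or.inr rfl, hi.trans ((heq _ _).mpr ?_), fun _ => h2m, by omega⟩
        exact ⟨d', by linear_combination (2 : ℤ) * hd⟩
  obtain ⟨ε, hε, hga, hε2, hm1⟩ := hout g hgA
  have hsqd : (2 : ℤ) ^ (m + 1) ∣ (-1 + ε * 2 ^ m) * (-1 + ε * 2 ^ m) - 1 := by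
    obtain ⟨l, rfl⟩ : ∃ l, m = l + 1 := ⟨m - 1, by omega⟩
    exact ⟨ε * (ε * 2 ^ l - 1), by ring⟩
  have hxg : ∀ x : P, x ∉ A → x * g ∈ A := by
    intro x hx
    obtain ⟨ε', hε', hxa, hε2', -⟩ := hout x hx
    by_cases he : ε' = ε
    · subst he
      refine hcent _ ((hmul x g _ _ hxa hga).trans ?_)
      conv_rhs => rw [← zpow_one a]
      exact (heq _ _).mpr hsqd
    · exfalso
      have hm2 : 2 ≤ m := by
        rcases hε with h | h
        · exact hε2' (hε'.resolve_left fun h' => he (h'.trans h.symm))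
        · exact hε2 h
      refine fact1 (by omega) (x * g) ((hmul x g _ _ hxa hga).trans ((heq _ _).mpr ?_))
      rw [Nat.add_sub_cancel]
      rcases hε with rfl | rfl <;> rcases hε' with rfl | rfl <;>
        first
          | exact absurd rfl he
          | exact ⟨-1, by ring⟩
  have hidx : A.index = 2 := by
    refine Subgroup.index_eq_two_iff.mpr ⟨g, fun b => ?_⟩
    by_cases hb : b ∈ A
    · exact Or.inr ⟨hb, fun h => hgA ((A.mul_mem_cancel_left hb).mp h)⟩
    · exact Or.inl ⟨hxg b hb, hb⟩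
  have hcardP : Nat.card P = 2 ^ (m + 1 + 1) := by
    rw [← A.card_mul_index, hidx, hn2, pow_succ 2 (m + 1)]
  have htop : Subgroup.closure ({a, g} : Set P) = ⊤ := by
    refine top_le_iff.mp fun x _ => ?_
    have hAle : A ≤ Subgroup.closure ({a, g} : Set P) := by
      rw [hA_eq]; exact Subgroup.zpowers_le.mpr (Subgroup.subset_closure (by simp))
    by_cases hx : x ∈ A
    · exact hAle hx
    · rw [← mul_inv_cancel_right x g]
      exact mul_mem (hAle (hxg x hx)) (inv_mem (Subgroup.subset_closure (by simp)))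
  have hgg : g * g = 1 ∨ g * g = z := by
    have hmem : g * g ∈ Subgroup.zpowers a := hA_eq ▸ hxg g hgA
    obtain ⟨k, hk⟩ := Subgroup.mem_zpowers_iff.mp hmem
    have e : g * (g * g) * g⁻¹ = g * g := by group
    rw [← hk, hpowj g _ hga, heq] at e
    have hkd : (2 : ℤ) ^ m ∣ k := by
      obtain ⟨d, hd⟩ := e
      rcases hε with rfl | rfl
      · exact ⟨-d, mul_left_cancel₀ (two_ne_zero (α := ℤ)) (by linear_combination -hd)⟩
      · obtain ⟨l, rfl⟩ : ∃ l, m = l + 2 := ⟨m - 2, by have := hε2 rfl; omega⟩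
        exact (isCoprime_two (y := -1 + 2 ^ (l + 1)) ⟨2 ^ l - 1, by ring⟩ _).dvd_of_dvd_mul_right
          ⟨d, mul_left_cancel₀ (two_ne_zero (α := ℤ)) (by linear_combination hd)⟩
    obtain ⟨d, rfl⟩ := hkd
    rcases Int.even_or_odd' d with ⟨d', rfl | rfl⟩
    · left
      rw [← hk, h1iff]; exact ⟨d', by ring⟩
    · right
      rw [← hk, hz_def, heq]; exact ⟨d', by ring⟩
  have hgz : g ∉ Subgroup.zpowers a := hA_eq ▸ hgA
  rcases hε with rfl | rfl
  · have hinv : g * a * g⁻¹ = a⁻¹ := by rw [hga, zero_mul, add_zero, zpow_neg_one]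
    rcases hgg with h1 | hz
    · by_cases hm2 : 2 ≤ m
      · refine Or.inr (Or.inl ⟨2 ^ (m + 1), le_trans (by norm_num) (Nat.pow_le_pow_right two_pos
          (show 3 ≤ m + 1 by omega)), ?_⟩)
        obtain ⟨f, hf, hfr⟩ := CfsgLib.SmallTwo.exists_dihedral_hom_injective hoa h1 hinv hgz
        exact ⟨(MulEquiv.ofBijective f ⟨hf, MonoidHom.range_eq_top.mp (hfr.trans htop)⟩).symm⟩
      · exfalso
        obtain rfl : m = 1 := by omega
        refine four_contradiction hn hz1 hz2 (fun e => hgA (by rw [e]; exact A.one_mem)) h1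
          (fun e => hgA (by rw [e, hz_def, hA_eq]; exact zpow_mem (Subgroup.mem_zpowers a) _)) hzc fun h => ?_
        obtain ⟨i, hi⟩ : ∃ i : ℤ, h * g * h⁻¹ = a ^ i * g * (a ^ i)⁻¹ := by
          by_cases hh : h ∈ A
          · rw [hA_eq] at hh
            obtain ⟨i, rfl⟩ := hh
            exact ⟨i, rfl⟩
          · have hmem : h * g ∈ Subgroup.zpowers a := hA_eq ▸ hxg h hh
            obtain ⟨i, hi⟩ := Subgroup.mem_zpowers_iff.mp hmem
            exact ⟨i, by rw [hi]; group⟩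
        have hgi : g⁻¹ = g := inv_eq_of_mul_eq_one_right h1
        rw [hi, show a ^ i * g * (a ^ i)⁻¹ = g * (g⁻¹ * a ^ i * g⁻¹⁻¹ * a ^ (-i)) by group,
          hgi, ← hgi, hgi, hpowj g _ hga, ← zpow_add]
        rcases Int.even_or_odd' i with ⟨d, rfl | rfl⟩
        · left
          rw [show a ^ ((-1 + 0 * 2 ^ 1) * (2 * d) + -(2 * d)) = 1 from (h1iff _).mpr ⟨-d, by ring⟩, mul_one]
        · right
          congr 1
          rw [hz_def, heq]
          exact ⟨-d - 1, by ring⟩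
    · refine Or.inl ⟨2 ^ m, ?_⟩
      haveI : NeZero (2 ^ m) := ⟨(Nat.two_pow_pos m).ne'⟩
      obtain ⟨f, hf, hfr⟩ := CfsgLib.Classical.exists_quaternion_hom (n := 2 ^ m) (a := a) (w := g)
        (by rw [hoa, pow_succ, mul_comm]) (hz.trans (by rw [hz_def, ← zpow_natCast]; push_cast; rfl))
        hinv hgz
      exact ⟨(MulEquiv.ofBijective f ⟨hf, MonoidHom.range_eq_top.mp (hfr.trans htop)⟩).symm⟩
  · refine Or.inr (Or.inr ⟨m + 1, by have := hε2 rfl; omega, hcardP, a, ?_⟩)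
    have hpow : a ^ (-1 + (1 : ℤ) * 2 ^ m) = a ^ (2 ^ (m + 1 - 1) - 1) := by
      rw [Nat.add_sub_cancel, ← zpow_natCast, Nat.cast_sub Nat.one_le_two_pow]
      push_cast
      congr 1
      ring
    rcases hgg with h1 | hz
    · exact ⟨g, hoa, orderOf_eq_prime (by rw [pow_two]; exact h1) (fun e => hgA (by rw [e]; exact A.one_mem)),
        hga.trans hpow⟩
    · refine ⟨g * a, hoa, orderOf_eq_prime ?_ (fun e => hgA ?_), ?_⟩
      · rw [pow_two, show g * a * (g * a) = g * a * g⁻¹ * (g * g) * a by group, hga, hz, hz_def,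
          ← zpow_add, ← zpow_add_one, h1iff]
        exact ⟨1, by ring⟩
      · rw [eq_inv_of_mul_eq_one_left e]; exact A.inv_mem haA
      · rw [show g * a * a * (g * a)⁻¹ = g * a * g⁻¹ by group]
        exact hga.trans hpow

end Cfsg.Agent.S0519
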