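import Cfsg.Statements.S3380
import Cfsg.Agent.S0519
import Cfsg.Agent.S0016
import Cfsg.Agent.Lib.IsolatedMin.Basic
import Cfsg.Agent.Lib.PGroup.NormalFour
-- import your own Cfsg.Agent.* helpers here

set_option autoImplicit false
open Cfsg

namespace Cfsg.Agent.S3380

universe u

theorem card_le_of_pow {A : Type*} [Group A] (J : Subgroup A) [Finite A] {p : ℕ} (hp : p.Prime)
    [IsCyclic J] (H : Subgroup A) (hHJ : H ≤ J) (hH : Nat.card H = p) (x : A) (hx : x ∈ J)
    (hxp : x ^ p = 1) : x ∈ H := by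
  classical
  have := Fintype.ofFinite J
  have h1 := IsCyclic.card_pow_eq_one_le (α := J) hp.pos
  let f : H → {j : J // j ^ p = 1} := fun h => ⟨⟨h.1, hHJ h.2⟩, Subtype.ext (by
    have h2 : h ^ p = 1 := orderOf_dvd_iff_pow_eq_one.mp (hH ▸ orderOf_dvd_natCard h)
    have h3 : ((h ^ p : H) : A) = 1 := by rw [h2]; rfl
    simpa using h3)⟩
  have hf : Function.Injective f := fun a b h =>
    Subtype.ext (congrArg (fun j : {j : J // j ^ p = 1} => ((j.1 : J) : A)) h)
  have h2 : Nat.card {j : J // j ^ p = 1} ≤ Nat.card H := by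
    rw [hH, Nat.card_eq_fintype_card, Fintype.card_subtype]
    exact h1
  have hb : Function.Bijective f := (Nat.bijective_iff_injective_and_card f).mpr
    ⟨hf, le_antisymm (Nat.card_le_card_of_injective f hf) h2⟩
  obtain ⟨h, he⟩ := hb.2 ⟨⟨x, hx⟩, Subtype.ext hxp⟩
  have : (h : A) = x := congrArg (fun j : {j : J // j ^ p = 1} => ((j.1 : J) : A)) he
  exact this ▸ h.2

theorem exists_normal_plane {p : ℕ} [hp : Fact p.Prime] {G : Type u} [Group G] [Finite G]
    (hG : IsPGroup p G) (hnc : ¬ IsCyclic G) (hnq : ∀ n : ℕ, ¬ Nonempty (G ≃* QuaternionGroup n))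
    (hnd : ∀ n : ℕ, ¬ Nonempty (G ≃* DihedralGroup n)) (hnsd : ¬ Cfsg.IsQuasiDihedral G) :
    ∃ E : Subgroup G, E.Normal ∧ Cfsg.IsElementaryAbelian p E ∧ Nat.card E = p ^ 2 := by
  classical
  by_cases hn : ∀ A : Subgroup G, A.Normal → IsMulCommutative A → IsCyclic A
  · exfalso
    by_cases hm : ∃ B : Subgroup G, IsMulCommutative B ∧ ¬ IsCyclic B
    · obtain ⟨-, ⟨n, hq⟩ | ⟨n, -, hd⟩ | hs⟩ := Cfsg.Agent.S0519.result p hG hn hm
      · exact hnq n hq
      · exact hnd n hd
      · exact hnsd hs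
    push Not at hm
    have huniq : ∀ H K : Subgroup G, Nat.card H = p → Nat.card K = p → H = K := by
      intro H K hH hK
      haveI : Nontrivial G := not_subsingleton_iff_nontrivial.mp fun h => hnc isCyclic_of_subsingleton
      haveI := hG.center_nontrivial
      obtain ⟨k, hk⟩ := IsPGroup.iff_card.mp (hG.to_subgroup (Subgroup.center G))
      have hk0 : k ≠ 0 := fun h => by
        rw [h, pow_zero] at hk
        exact absurd Finite.one_lt_card (by rw [hk]; omega)
      obtain ⟨z, hz⟩ := exists_prime_orderOf_dvd_card' (G := Subgroup.center G) p (by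
        rw [hk]; exact dvd_pow_self p hk0)
      have key : ∀ L : Subgroup G, Nat.card L = p → L = Subgroup.zpowers (z : G) := by
        intro L hL
        haveI : IsCyclic L := isCyclic_of_prime_card hL
        set J := Subgroup.closure ((L : Set G) ∪ {(z : G)}) with hJ
        haveI : IsMulCommutative J := Subgroup.isMulCommutative_closure (by
          rintro a (ha | rfl) b (hb | rfl)
          · exact congrArg Subtype.val
              ((IsCyclic.isMulCommutative : IsMulCommutative L).is_comm.comm ⟨a, ha⟩ ⟨b, hb⟩)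
          · exact Subgroup.mem_center_iff.mp z.2 a
          · exact (Subgroup.mem_center_iff.mp z.2 b).symm
          · rfl)
        haveI : IsCyclic J := hm J inferInstance
        have hzo : orderOf (z : G) = p := by rw [Subgroup.orderOf_coe, hz]
        have hzJ : Subgroup.zpowers (z : G) ≤ J :=
          Subgroup.zpowers_le.mpr (Subgroup.subset_closure (Or.inr rfl))
        refine Subgroup.eq_of_le_of_card_ge (fun x hx => ?_) (by rw [Nat.card_zpowers, hzo, hL])
        refine card_le_of_pow J hp.out (Subgroup.zpowers (z : G)) hzJ (by rw [Nat.card_zpowers, hzo]) x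
          (Subgroup.subset_closure (Or.inl hx)) ?_
        have : (⟨x, hx⟩ : L) ^ p = 1 := orderOf_dvd_iff_pow_eq_one.mp (hL ▸ orderOf_dvd_natCard _)
        exact congrArg Subtype.val this
      rw [key H hH, key K hK]
    rcases Cfsg.Agent.S0016.result p hG huniq with h | ⟨-, n, hq⟩
    · exact hnc h
    · exact hnq _ hq
  · push Not at hn
    obtain ⟨A, hAn, hAc, hAnc⟩ := hn
    haveI := hAn
    have hcm : ∀ a ∈ A, ∀ b ∈ A, Commute a b := fun a ha b hb =>
      congrArg Subtype.val (hAc.is_comm.comm ⟨a, ha⟩ ⟨b, hb⟩)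
    let W : Subgroup G :=
      { carrier := {g | g ∈ A ∧ g ^ p = 1}
        mul_mem' := fun {a b} ha hb => ⟨mul_mem ha.1 hb.1, by
          rw [(hcm a ha.1 b hb.1).mul_pow, ha.2, hb.2, one_mul]⟩
        one_mem' := ⟨one_mem _, one_pow _⟩
        inv_mem' := fun {a} ha => ⟨inv_mem ha.1, by rw [inv_pow, ha.2, inv_one]⟩ }
    haveI : W.Normal := ⟨fun a ha g =>
      ⟨hAn.conj_mem a ha.1 g, by rw [conj_pow, ha.2, mul_one, mul_inv_cancel]⟩⟩
    refine CfsgLib.NormalFour.exists_normal_sq hG W
      ⟨⟨⟨fun u v => Subtype.ext (hcm u u.2.1 v v.2.1).eq⟩⟩, fun u hu => hu.2⟩ ?_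
    by_contra hlt
    obtain ⟨k, hk⟩ := IsPGroup.iff_card.mp (hG.to_subgroup W)
    have hk1 : k ≤ 1 := by
      by_contra h
      exact hlt (hk ▸ Nat.pow_le_pow_right hp.out.pos (by omega))
    apply hAnc
    have huniq : ∀ H K : Subgroup A, Nat.card H = p → Nat.card K = p → H = K := by
      intro H K hH hK
      have key : ∀ L : Subgroup A, Nat.card L = p → L.map A.subtype = W := by
        intro L hL
        refine Subgroup.eq_of_le_of_card_ge ?_ ?_
        · rintro _ ⟨x, hx, rfl⟩
          have : (⟨x, hx⟩ : L) ^ p = 1 := orderOf_dvd_iff_pow_eq_one.mp (hL ▸ orderOf_dvd_natCard _)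
          exact ⟨x.2, congrArg (fun y : L => ((y : A) : G)) this⟩
        · rw [Subgroup.card_map_of_injective A.subtype_injective, hL, hk]
          exact (Nat.pow_le_pow_right hp.out.pos hk1).trans (pow_one p).le
      exact Subgroup.map_injective A.subtype_injective ((key H hH).trans (key K hK).symm)
    rcases Cfsg.Agent.S0016.result p (hG.to_subgroup A) huniq with h | ⟨-, n₀, ⟨e⟩⟩
    · exact h
    · revert e
      generalize 2 ^ n₀ = n
      intro e
      rcases n with _ | _ | n
      · haveI : Finite (QuaternionGroup 0) := Finite.of_equiv _ e.toEquiv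
        haveI : Finite ℤ := Finite.of_injective (fun i : ℤ => (QuaternionGroup.a i : QuaternionGroup 0))
          fun u v h => QuaternionGroup.a.inj h
        exact (not_finite ℤ).elim
      · haveI : IsCyclic (QuaternionGroup 1) := QuaternionGroup.quaternionGroup_one_isCyclic
        exact isCyclic_of_surjective e.symm.toMonoidHom e.symm.surjective
      · exfalso
        have h := congrArg e (hAc.is_comm.comm (e.symm (.a 1)) (e.symm (.xa 0)))
        simp only [map_mul, MulEquiv.apply_symm_apply, QuaternionGroup.a_mul_xa,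
          QuaternionGroup.xa_mul_a, zero_sub, zero_add, QuaternionGroup.xa.injEq] at h
        have h2 : ((2 : ℕ) : ZMod (2 * (n + 1 + 1))) = 0 := by
          rw [Nat.cast_ofNat, ← one_add_one_eq_two]
          exact neg_eq_iff_add_eq_zero.mp h
        rw [ZMod.natCast_eq_zero_iff] at h2
        have := Nat.le_of_dvd two_pos h2
        omega

theorem exists_center_mem {p : ℕ} [Fact p.Prime] {G : Type*} [Group G] [Finite G] (hG : IsPGroup p G)
    (N : Subgroup G) [N.Normal] (hN : N ≠ ⊥) : ∃ z, z ∈ N ⊓ Subgroup.center G ∧ z ≠ 1 := by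
  haveI : Nontrivial ↥(N ⊓ Subgroup.center G) :=
    (Subgroup.nontrivial_iff_ne_bot _).mpr (CfsgLib.IsolatedMin.inf_center_ne_bot hG N hN)
  obtain ⟨⟨z, hz⟩, h1⟩ := exists_ne (1 : ↥(N ⊓ Subgroup.center G))
  exact ⟨z, hz, fun h => h1 (Subtype.ext h)⟩

theorem main {q : ℕ} [hq : Fact q.Prime] {V : Type*} [AddCommGroup V] [Module (ZMod q) V] [Finite V]
    [Nontrivial V] {G : Type u} [Group G] [Finite G] {p : ℕ} [hp : Fact p.Prime] (hG : IsPGroup p G)
    (ρ : G →* (V ≃ₗ[ZMod q] V)) (hρ : Function.Injective ρ)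
    (hirr : ∀ W : Submodule (ZMod q) V, (∀ g : G, ∀ w ∈ W, ρ g w ∈ W) → W = ⊥ ∨ W = ⊤)
    (hG1 : Nontrivial G) (E : Subgroup G) [hEn : E.Normal] (hE : Cfsg.IsElementaryAbelian p E)
    (hE2 : Nat.card E = p ^ 2) :
    ∃ (H : Subgroup G) (W : Fin p → Submodule (ZMod q) V), H.index = p ∧
      iSup W = ⊤ ∧ iSupIndep W ∧
      (∀ h ∈ H, ∀ i, ∀ w ∈ W i, ρ h w ∈ W i) ∧
      (∀ i, ∃ h ∈ H, h ≠ 1 ∧ ∀ w ∈ W i, ρ h w = w) ∧
      ∀ g : G, g ∉ H → ∃ σ : Equiv.Perm (Fin p), orderOf σ = p ∧
        ∀ i, (W i).map (ρ g : V →ₗ[ZMod q] V) = W (σ i) := by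
  classical
  haveI : NeZero p := ⟨hp.out.ne_zero⟩
  let Fx : G → Submodule (ZMod q) V := fun y =>
    { carrier := {v | ρ y v = v}
      add_mem' := fun {a b} ha hb => by simp only [Set.mem_setOf_eq, map_add] at *; rw [ha, hb]
      zero_mem' := by simp
      smul_mem' := fun c v hv => by simp only [Set.mem_setOf_eq, map_smul] at *; rw [hv] }
  have hFx : ∀ y v, v ∈ Fx y ↔ ρ y v = v := fun y v => Iff.rfl
  have hmul : ∀ a b v, ρ (a * b) v = ρ a (ρ b v) := fun a b v => by rw [map_mul]; rfl
  have hinv : ∀ a v, ρ a⁻¹ (ρ a v) = v := fun a v => by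
    rw [← hmul, inv_mul_cancel, map_one]; rfl
  -- coprimality
  have hpq : p ≠ q := by
    rintro rfl
    letI : MulAction G V :=
      { smul := fun g v => ρ g v
        one_smul := fun v => show ρ 1 v = v by rw [map_one]; rfl
        mul_smul := fun a b v => hmul a b v }
    obtain ⟨k, hk⟩ : ∃ k, Nat.card V = p ^ k := ⟨_, Module.natCard_eq_pow_finrank (K := ZMod p)
      |>.trans (by rw [Nat.card_zmod])⟩
    have hk0 : k ≠ 0 := fun h => by
      rw [h, pow_zero] at hk
      exact absurd (Finite.one_lt_card (α := V)) (by rw [hk]; omega)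
    have h0 : (0 : V) ∈ MulAction.fixedPoints G V := fun g => show ρ g 0 = 0 from map_zero _
    obtain ⟨v, hv, hv0⟩ := hG.exists_fixed_point_of_prime_dvd_card_of_fixed_point V
      (hk ▸ dvd_pow_self p hk0) h0
    let F : Submodule (ZMod p) V := ⨅ g, Fx g
    have hF : ∀ w, w ∈ F ↔ ∀ g, ρ g w = w := fun w => by simp [F, Submodule.mem_iInf, hFx]
    rcases hirr F (fun g w hw => by rwa [(hF w).mp hw g]) with h | h
    · have : v ∈ F := (hF v).mpr hv
      rw [h, Submodule.mem_bot] at this
      exact hv0 this.symm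
    · obtain ⟨g, hg⟩ := exists_ne (1 : G)
      exact hg (hρ (LinearEquiv.ext fun w => by
        rw [(hF w).mp (h ▸ Submodule.mem_top) g, map_one]; rfl))
  have hpu : (p : ZMod q) ≠ 0 := by
    rw [Ne, ZMod.natCast_eq_zero_iff]
    exact fun h => hpq ((Nat.prime_dvd_prime_iff_eq hq.out hp.out).mp h).symm
  have hpV : ∀ v : V, p • v = 0 → v = 0 := fun v h => by
    rw [← Nat.cast_smul_eq_nsmul (ZMod q)] at h
    exact (smul_eq_zero.mp h).resolve_left hpu
  -- the central element of `E`
  have hne : E ≠ ⊥ := fun h => by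
    rw [h, Subgroup.card_bot] at hE2
    exact absurd hE2.symm (Nat.one_lt_pow two_ne_zero hp.out.one_lt).ne'
  obtain ⟨z, hzE, hzZ, hzo⟩ : ∃ z : G, z ∈ E ∧ z ∈ Subgroup.center G ∧ orderOf z = p := by
    obtain ⟨z, ⟨hzE, hzZ⟩, hz1⟩ := exists_center_mem hG E hne
    exact ⟨z, hzE, hzZ, orderOf_eq_prime (hE.2 z hzE) hz1⟩
  obtain ⟨x, hxE, hxz⟩ := SetLike.exists_of_lt (lt_of_le_of_ne (Subgroup.zpowers_le.mpr hzE)
    fun h => absurd (congrArg (fun J : Subgroup G => Nat.card J) h) (by
      rw [Nat.card_zpowers, hzo, hE2]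
      exact (by nlinarith [hp.out.one_lt] : p < p ^ 2).ne))
  have hEc : ∀ a ∈ E, ∀ b ∈ E, Commute a b := fun a ha b hb =>
    congrArg Subtype.val (hE.1.is_comm.comm ⟨a, ha⟩ ⟨b, hb⟩)
  have hzc : ∀ g, Commute g z := fun g => Subgroup.mem_center_iff.mp hzZ g
  have hzv : ∀ v, ρ z v = v → v = 0 := by
    rcases hirr (Fx z) (fun g w hw => show ρ z (ρ g w) = ρ g w by
      rw [← hmul, ← (hzc g).eq, hmul, hw]) with h | h
    · intro v hv
      exact (Submodule.mem_bot (ZMod q)).mp (h ▸ (hFx z v).mpr hv)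
    · exfalso
      have : z = 1 := hρ (LinearEquiv.ext fun w => by
        rw [(hFx z w).mp (h ▸ Submodule.mem_top), map_one]; rfl)
      rw [this, orderOf_one] at hzo
      exact hp.out.ne_one hzo.symm
  -- powers of `z` indexed by `ZMod p`
  let zp : ZMod p → G := fun i => z ^ i.val
  have zp_add : ∀ i j, zp (i + j) = zp i * zp j := fun i j => by
    show z ^ (i + j).val = z ^ i.val * z ^ j.val
    rw [ZMod.val_add, ← pow_add]
    exact (pow_eq_pow_mod _ (by rw [← hzo]; exact pow_orderOf_eq_one z)).symm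
  have zp_zero : zp 0 = 1 := by simp [zp]
  have zp_cast : ∀ n : ℕ, zp n = z ^ n := fun n => by
    show z ^ (n : ZMod p).val = z ^ n
    rw [ZMod.val_natCast]
    exact (pow_eq_pow_mod _ (by rw [← hzo]; exact pow_orderOf_eq_one z)).symm
  have zp_inj : Function.Injective zp := fun i j h => by
    apply ZMod.val_injective p
    exact (pow_injOn_Iio_orderOf (by simpa [hzo] using ZMod.val_lt i)
      (by simpa [hzo] using ZMod.val_lt j) h)
  -- the fixed spaces
  let y : ZMod p → G := fun i => x * zp i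
  have hyE : ∀ i, y i ∈ E := fun i => mul_mem hxE (pow_mem hzE _)
  let W : ZMod p → Submodule (ZMod q) V := fun i => Fx (y i)
  let P : ZMod p → V → V := fun i v => ∑ k ∈ Finset.range p, ρ (y i ^ k) v
  have hPmem : ∀ i v, P i v ∈ W i := by
    intro i v
    show ρ (y i) (∑ k ∈ Finset.range p, ρ (y i ^ k) v) = _
    rw [map_sum]
    have hsh : ∀ k, ρ (y i) (ρ (y i ^ k) v) = ρ (y i ^ (k + 1)) v := fun k => by
      rw [pow_succ' (y i) k, ← hmul]
    rw [Finset.sum_congr rfl fun k _ => hsh k]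
    have h1 := Finset.sum_range_succ' (fun k => ρ (y i ^ k) v) p
    rw [Finset.sum_range_succ, hE.2 _ (hyE i), pow_zero] at h1
    exact (add_right_cancel h1).symm
  have hPadd : ∀ i a b, P i (a + b) = P i a + P i b := fun i a b => by
    simp only [P, map_add, Finset.sum_add_distrib]
  -- identity decomposition
  have hsum : ∀ v, ∑ i, P i v = p • v := by
    intro v
    show ∑ i, ∑ k ∈ Finset.range p, ρ (y i ^ k) v = _
    rw [Finset.sum_comm]
    rw [Finset.sum_eq_single_of_mem 0 (Finset.mem_range.mpr hp.out.pos)]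
    · simp [ZMod.card]
    intro k hk hk0
    have e : ∀ i, ρ (y i ^ k) v = ρ (x ^ k) (ρ (zp (i * k)) v) := fun i => by
      show ρ ((x * zp i) ^ k) v = _
      rw [(hEc x hxE _ (pow_mem hzE _)).mul_pow, hmul,
        show zp i ^ k = zp (i * k) by rw [← ZMod.natCast_zmod_val i, ← Nat.cast_mul, zp_cast, zp_cast, pow_mul]]
    rw [Finset.sum_congr rfl fun i _ => e i, ← map_sum]
    have hkne : (k : ZMod p) ≠ 0 := by
      rw [Ne, ZMod.natCast_eq_zero_iff]
      exact fun h => absurd (Nat.le_of_dvd (by omega) h) (by have := Finset.mem_range.mp hk; omega)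
    rw [Fintype.sum_equiv (Equiv.mulRight₀ (k : ZMod p) hkne) (fun i => ρ (zp (i * (k : ZMod p))) v)
      (fun j => ρ (zp j) v) fun i => rfl]
    have hfix : ρ z (∑ j, ρ (zp j) v) = ∑ j, ρ (zp j) v := by
      rw [map_sum]
      exact Fintype.sum_equiv (Equiv.addLeft (1 : ZMod p)) _ _ fun j => by
        show ρ z (ρ (zp j) v) = ρ (zp (1 + j)) v
        rw [zp_add, hmul, ← Nat.cast_one, zp_cast, pow_one]
    rw [hzv _ hfix, map_zero]
  have hW0 : ∀ i j, i ≠ j → ∀ w, ρ (y i) w = w → ρ (y j) w = w → w = 0 := by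
    intro i j hij w hi hj
    have hd : ρ (zp (i - j)) w = w := by
      have : y i = y j * zp (i - j) := by
        show x * zp i = x * zp j * zp (i - j)
        rw [mul_assoc, ← zp_add, add_sub_cancel]
      rw [this, hmul] at hi
      exact (ρ (y j)).injective (hi.trans hj.symm)
    have hk : ∀ n : ℕ, ρ (zp (i - j) ^ n) w = w := fun n => by
      induction n with
      | zero => rw [pow_zero, map_one]; rfl
      | succ n ih => rw [pow_succ, hmul, hd, ih]
    apply hzv
    have hz : z = zp (i - j) ^ ((i - j)⁻¹).val := by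
      rw [← ZMod.natCast_zmod_val (i - j), zp_cast, ← pow_mul, ← zp_cast, Nat.cast_mul,
        ZMod.natCast_zmod_val, ZMod.natCast_zmod_val, mul_inv_cancel₀ (sub_ne_zero.mpr hij),
        ← Nat.cast_one, zp_cast, pow_one]
    rw [hz]
    exact hk _
  have hPkill : ∀ i j, i ≠ j → ∀ w ∈ W j, P i w = 0 := by
    intro i j hij w hw
    apply hW0 i j hij _ (hPmem i w)
    show ρ (y j) (∑ k ∈ Finset.range p, ρ (y i ^ k) w) = _
    rw [map_sum]
    refine Finset.sum_congr rfl fun k _ => ?_
    rw [← hmul, ((hEc _ (hyE j) _ (hyE i)).pow_right k).eq, hmul, hw]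
  have hPid : ∀ i, ∀ w ∈ W i, P i w = p • w := by
    intro i w hw
    have hk : ∀ k : ℕ, ρ (y i ^ k) w = w := fun k => by
      induction k with
      | zero => rw [pow_zero, map_one]; rfl
      | succ k ih => rw [pow_succ, hmul, hw, ih]
    simp only [P, hk, Finset.sum_const, Finset.card_range]
  have htop : iSup W = ⊤ := by
    rw [eq_top_iff]
    intro v _
    have h1 : p • v ∈ iSup W := by
      rw [← hsum v]
      exact Submodule.sum_mem _ fun i _ => Submodule.mem_iSup_of_mem i (hPmem i v)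
    rw [← Nat.cast_smul_eq_nsmul (ZMod q)] at h1
    have := (iSup W).smul_mem ((p : ZMod q)⁻¹) h1
    rwa [smul_smul, inv_mul_cancel₀ hpu, one_smul] at this
  have hind : iSupIndep W := by
    intro i
    rw [Submodule.disjoint_def]
    intro w hwi hw
    apply hpV
    rw [← hPid i w hwi]
    refine Submodule.iSup_induction _ (motive := fun w => P i w = 0) hw ?_ ?_ ?_
    · intro j u hu
      by_cases h : j ≠ i
      · rw [iSup_pos h] at hu
        exact hPkill i j (Ne.symm h) u hu
      · rw [iSup_neg h, Submodule.mem_bot] at hu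
        subst hu
        simp [P]
    · simp [P]
    · intro a b ha hb
      rw [hPadd, ha, hb, add_zero]
  -- the action on `E`
  have hEgen : ∀ e ∈ E, ∃ a b : ℕ, e = x ^ a * z ^ b := by
    set J := Subgroup.zpowers z ⊔ Subgroup.zpowers x with hJ
    have hJE : J = E := by
      have hle : J ≤ E := sup_le (Subgroup.zpowers_le.mpr hzE) (Subgroup.zpowers_le.mpr hxE)
      refine Subgroup.eq_of_le_of_card_ge hle ?_
      obtain ⟨k, hk⟩ := IsPGroup.iff_card.mp (hG.to_subgroup J)
      rw [hE2, hk]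
      refine Nat.pow_le_pow_right hp.out.pos ?_
      by_contra h
      have h2 : Subgroup.zpowers z = J := Subgroup.eq_of_le_of_card_ge le_sup_left (by
        rw [Nat.card_zpowers, hzo, hk]
        exact (Nat.pow_le_pow_right hp.out.pos (show k ≤ 1 by omega)).trans (pow_one p).le)
      exact hxz (h2 ▸ (le_sup_right : Subgroup.zpowers x ≤ J) (Subgroup.mem_zpowers x))
    intro e he
    rw [← hJE, hJ, sup_comm] at he
    haveI : (Subgroup.zpowers z).Normal := ⟨fun n hn g => by
      obtain ⟨i, rfl⟩ := hn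
      show g * z ^ i * g⁻¹ ∈ _
      rw [((hzc g).zpow_right i).eq, mul_inv_cancel_right]
      exact ⟨i, rfl⟩⟩
    rw [← SetLike.mem_coe, Subgroup.mul_normal] at he
    obtain ⟨a, ha, b, hb, rfl⟩ := he
    rw [SetLike.mem_coe, ← (isOfFinOrder_of_finite x).mem_powers_iff_mem_zpowers] at ha
    rw [SetLike.mem_coe, ← (isOfFinOrder_of_finite z).mem_powers_iff_mem_zpowers] at hb
    obtain ⟨a, rfl⟩ := ha
    obtain ⟨b, rfl⟩ := hb
    exact ⟨a, b, rfl⟩
  haveI hZn : (Subgroup.zpowers z).Normal := ⟨fun n hn g => by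
      obtain ⟨i, rfl⟩ := hn
      show g * z ^ i * g⁻¹ ∈ _
      rw [((hzc g).zpow_right i).eq, mul_inv_cancel_right]
      exact ⟨i, rfl⟩⟩
  have hconj : ∀ g, ∃ c : ZMod p, g * x * g⁻¹ = x * zp c := by
    intro g
    set π := QuotientGroup.mk' (Subgroup.zpowers z)
    have hQ : IsPGroup p (G ⧸ Subgroup.zpowers z) := hG.to_quotient _
    set Eb := E.map π
    haveI : Eb.Normal := hEn.map _ (QuotientGroup.mk'_surjective _)
    have hEb : Nat.card Eb = p := by
      have h := Subgroup.relIndex_mul_relIndex (⊥ : Subgroup G) (Subgroup.zpowers z) E bot_le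
        (Subgroup.zpowers_le.mpr hzE)
      rw [Subgroup.relIndex_bot_left, Subgroup.relIndex_bot_left, Nat.card_zpowers, hzo, hE2,
        pow_two] at h
      have hk := Subgroup.relIndex_ker (K := E) π
      rw [QuotientGroup.ker_mk'] at hk
      change _ = Nat.card Eb at hk
      rw [← hk]
      exact Nat.eq_of_mul_eq_mul_left hp.out.pos h
    have hcen : Eb ≤ Subgroup.center (G ⧸ Subgroup.zpowers z) := by
      have hne' : Eb ≠ ⊥ := fun h => by
        rw [h, Subgroup.card_bot] at hEb
        exact hp.out.ne_one hEb.symm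
      obtain ⟨u, ⟨huE, huZ⟩, hu1⟩ := exists_center_mem hQ Eb hne'
      haveI : Fact (Nat.card Eb).Prime := ⟨hEb ▸ hp.out⟩
      have : Subgroup.zpowers u = Eb := Subgroup.eq_of_le_of_card_ge (Subgroup.zpowers_le.mpr huE) (by
        rw [Nat.card_zpowers, hEb]
        have h2 : orderOf (⟨u, huE⟩ : Eb) = p := orderOf_eq_prime
          (orderOf_dvd_iff_pow_eq_one.mp (hEb ▸ orderOf_dvd_natCard _))
          (fun h => hu1 (congrArg Subtype.val h))
        rw [← Subgroup.orderOf_coe] at h2
        exact h2.ge)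
      exact this ▸ Subgroup.zpowers_le.mpr huZ
    have hx' := Subgroup.mem_center_iff.mp (hcen ⟨x, hxE, rfl⟩) (π g)
    rw [← map_mul, ← map_mul, QuotientGroup.mk'_eq_mk'] at hx'
    obtain ⟨n, hn, he⟩ := hx'
    rw [← (isOfFinOrder_of_finite z).mem_powers_iff_mem_zpowers] at hn
    obtain ⟨n, rfl⟩ := hn
    refine ⟨-(n : ZMod p), ?_⟩
    have h1 : zp (-(n : ZMod p)) = (z ^ n)⁻¹ := eq_inv_of_mul_eq_one_left (by
      rw [← zp_cast, ← zp_add, neg_add_cancel, zp_zero])
    rw [h1]
    have h2 : g * x = x * g * (z ^ n)⁻¹ := by rw [← he]; group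
    rw [h2, mul_assoc x, ((hzc g).pow_right n).inv_right.eq]
    group
  choose c hc using hconj
  have hc_mul : ∀ g h, c (g * h) = c g + c h := by
    intro g h
    apply zp_inj
    apply mul_left_cancel (a := x)
    rw [← hc, zp_add, ← mul_assoc, ← hc g]
    calc g * h * x * (g * h)⁻¹ = g * (h * x * h⁻¹) * g⁻¹ := by group
      _ = g * x * (zp (c h) * g⁻¹) := by rw [hc h]; group
      _ = g * x * g⁻¹ * zp (c h) := by
        rw [show zp (c h) * g⁻¹ = g⁻¹ * zp (c h) from (((hzc g⁻¹).pow_right _).eq).symm]; group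
  let φ : G →* Multiplicative (ZMod p) :=
    { toFun := fun g => Multiplicative.ofAdd (c g)
      map_one' := by
        have := hc_mul 1 1
        rw [one_mul, left_eq_add] at this
        rw [this]; rfl
      map_mul' := fun g h => by rw [hc_mul]; rfl }
  have hφ : ∀ g, g ∈ φ.ker ↔ c g = 0 := fun g => by
    rw [MonoidHom.mem_ker]
    exact ⟨fun h => by simpa [φ] using congrArg Multiplicative.toAdd h, fun h => by simp [φ, h]⟩
  have hWmap : ∀ g i, (W i).map (ρ g : V →ₗ[ZMod q] V) = W (i + c g) := by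
    intro g i
    have hy : g * y i * g⁻¹ = y (i + c g) := by
      show g * (x * zp i) * g⁻¹ = x * zp (i + c g)
      rw [add_comm, zp_add, ← mul_assoc x, ← hc g]
      calc g * (x * zp i) * g⁻¹ = g * x * (zp i * g⁻¹) := by group
        _ = g * x * g⁻¹ * zp i := by
          rw [show zp i * g⁻¹ = g⁻¹ * zp i from (((hzc g⁻¹).pow_right _).eq).symm]; group
    ext w
    constructor
    · rintro ⟨v, hv, rfl⟩
      show ρ (y (i + c g)) (ρ g v) = ρ g v
      rw [← hmul, ← hy, inv_mul_cancel_right, hmul, hv]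
    · intro hw
      refine ⟨ρ g⁻¹ w, ?_, ?_⟩
      · show ρ (y i) (ρ g⁻¹ w) = ρ g⁻¹ w
        rw [← hmul, show y i * g⁻¹ = g⁻¹ * y (i + c g) by rw [← hy]; group, hmul, hw]
      · show ρ g (ρ g⁻¹ w) = w
        rw [← hmul, mul_inv_cancel, map_one]; rfl
  have hnoncentral : ∃ g, c g ≠ 0 := by
    by_contra h
    push Not at h
    -- then every element of `E` outside `⟨z⟩` would act without fixed points
    have hxc : ∀ g, Commute g x := fun g => by
      have := hc g
      rw [h g, zp_zero, mul_one] at this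
      exact (mul_inv_eq_iff_eq_mul.mp this)
    have hbot : ∀ i, W i = ⊥ := by
      intro i
      rcases hirr (W i) (fun g w hw => by
        have h1 : ρ g w ∈ (W i).map (ρ g : V →ₗ[ZMod q] V) := ⟨w, hw, rfl⟩
        rwa [hWmap, h g, add_zero] at h1) with h1 | h1
      · exact h1
      · exfalso
        have : y i = 1 := hρ (LinearEquiv.ext fun w => by
          rw [show ρ (y i) w = w from (SetLike.ext_iff.mp h1 w).mpr Submodule.mem_top, map_one]; rfl)
        apply hxz
        rw [show x = (zp i)⁻¹ from eq_inv_of_mul_eq_one_left this]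
        exact inv_mem (pow_mem (Subgroup.mem_zpowers z) _)
    have : (⊤ : Submodule (ZMod q) V) = ⊥ := by rw [← htop]; simp [hbot]
    exact top_ne_bot this
  let e : Fin p ≃ ZMod p := (ZMod.finEquiv p).toEquiv
  refine ⟨φ.ker, W ∘ e, ?_, ?_, hind.comp e.injective, ?_, ?_, ?_⟩
  · have hr : φ.range = ⊤ := by
      obtain ⟨g, hg⟩ := hnoncentral
      haveI : Fact (Nat.card (Multiplicative (ZMod p))).Prime :=
        ⟨by rw [Nat.card_congr Multiplicative.toAdd, Nat.card_zmod]; exact hp.out⟩
      rcases Subgroup.eq_bot_or_eq_top_of_prime_card φ.range with h | h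
      · have : φ g ∈ φ.range := ⟨g, rfl⟩
        rw [h, Subgroup.mem_bot] at this
        exact absurd ((hφ g).mp this) hg
      · exact h
    rw [Subgroup.index_ker, hr, Subgroup.card_top, Nat.card_congr Multiplicative.toAdd, Nat.card_zmod]
  · rw [← htop]
    exact e.surjective.iSup_comp W
  · intro h hh i w hw
    have h1 : ρ h w ∈ (W (e i)).map (ρ h : V →ₗ[ZMod q] V) := ⟨w, hw, rfl⟩
    rwa [hWmap, (hφ h).mp hh, add_zero] at h1
  · intro i
    refine ⟨y (e i), (hφ _).mpr ?_, ?_, fun w hw => hw⟩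
    · apply zp_inj
      apply mul_left_cancel (a := x)
      rw [← hc, zp_zero, mul_one, (hEc _ (hyE _) x hxE).eq, mul_inv_cancel_right]
    · intro h
      apply hxz
      rw [show x = (zp (e i))⁻¹ from eq_inv_of_mul_eq_one_left h]
      exact inv_mem (pow_mem (Subgroup.mem_zpowers z) _)
  · intro g hg
    have hcg : c g ≠ 0 := fun h => hg ((hφ g).mpr h)
    refine ⟨e.symm.permCongr (Equiv.addRight (c g)), ?_, fun i => ?_⟩
    · have h1 : e.symm.permCongr (Equiv.addRight (c g)) =
          e.symm.permCongrHom (Equiv.addRight (c g)) := rfl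
      rw [h1, MulEquiv.orderOf_eq]
      apply orderOf_eq_prime
      · ext i
        simp
      · intro h
        apply hcg
        simpa using congrArg (fun π : Equiv.Perm (ZMod p) => π 0) h
    · show (W (e i)).map _ = W (e (e.symm.permCongr (Equiv.addRight (c g)) i))
      rw [hWmap]
      simp

/-- Let a finite p-group G act faithfully and irreducibly on a non-trivial finite vector space V over the field with q elements (q prime), and suppose G is not cyclic, generalized quaternion, dihedral or semidihedral. Then G has a subgroup H of index p and V is the direct sum of p subspaces, each invariant under H, on none of which H acts faithfully, and which every element of G outside H permutes in a single p-cycle. -/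
theorem result
    (q : ℕ) [Fact q.Prime] {V : Type*} [AddCommGroup V] [Module (ZMod q) V] [Finite V] [Nontrivial V]
    {G : Type*} [Group G] [Finite G] (p : ℕ) [Fact p.Prime] (hG : IsPGroup p G)
    (ρ : G →* (V ≃ₗ[ZMod q] V)) (hρ : Function.Injective ρ)
    (hirr : ∀ W : Submodule (ZMod q) V, (∀ g : G, ∀ w ∈ W, ρ g w ∈ W) → W = ⊥ ∨ W = ⊤)
    (hnc : ¬ IsCyclic G) (hnq : ∀ n : ℕ, ¬ Nonempty (G ≃* QuaternionGroup n))
    (hnd : ∀ n : ℕ, ¬ Nonempty (G ≃* DihedralGroup n)) (hnsd : ¬ Cfsg.IsQuasiDihedral G) :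
    ∃ (H : Subgroup G) (W : Fin p → Submodule (ZMod q) V), H.index = p ∧
      iSup W = ⊤ ∧ iSupIndep W ∧
      (∀ h ∈ H, ∀ i, ∀ w ∈ W i, ρ h w ∈ W i) ∧
      (∀ i, ∃ h ∈ H, h ≠ 1 ∧ ∀ w ∈ W i, ρ h w = w) ∧
      ∀ g : G, g ∉ H → ∃ σ : Equiv.Perm (Fin p), orderOf σ = p ∧ ∀ i, (W i).map (ρ g : V →ₗ[ZMod q] V) = W (σ i) := by
  obtain ⟨E, hEn, hE, hE2⟩ := exists_normal_plane hG hnc hnq hnd hnsd
  haveI := hEn
  exact main hG ρ hρ hirr (not_subsingleton_iff_nontrivial.mp fun h => hnc isCyclic_of_subsingleton)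
    E hE hE2

end Cfsg.Agent.S3380
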