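import Cfsg.Statements.S3179
import Cfsg.Agent.Lib.Classical.UnitaryOrder
import Cfsg.Agent.Lib.Classical.Card
import Cfsg.Agent.Lib.Suzuki.LieEquiv

set_option autoImplicit false
set_option linter.style.haveILetI false
open Cfsg

namespace Cfsg.Agent.S3179

open Matrix
open scoped MatrixGroups

abbrev G5 : Type := GL (Fin 5) (ZMod 2)

/-- Two commuting matrices of order three. -/
def mA : Matrix (Fin 5) (Fin 5) (ZMod 2) :=
  !![0, 1, 0, 0, 0; 1, 1, 0, 0, 0; 0, 0, 1, 0, 0; 0, 0, 0, 1, 0; 0, 0, 0, 0, 1]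

/-- The second matrix. -/
def mB : Matrix (Fin 5) (Fin 5) (ZMod 2) :=
  !![1, 0, 0, 0, 0; 0, 1, 0, 0, 0; 0, 0, 0, 1, 0; 0, 0, 1, 1, 0; 0, 0, 0, 0, 1]

theorem mA_cube : mA * (mA * mA) = 1 ∧ mA * mA * mA = 1 := by decide +kernel
theorem mB_cube : mB * (mB * mB) = 1 ∧ mB * mB * mB = 1 := by decide +kernel
theorem mAB : mA * mB = mB * mA := by decide +kernel

/-- `mA` as a unit. -/
def uA : G5 := ⟨mA, mA * mA, mA_cube.1, mA_cube.2⟩
/-- `mB` as a unit. -/
def uB : G5 := ⟨mB, mB * mB, mB_cube.1, mB_cube.2⟩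

theorem card_G5 : Nat.card G5 = 9999360 := by
  rw [CfsgLib.Classical.card_GL_fin, ZMod.card]
  decide +kernel

/-- The elementary abelian group they generate, as a family. -/
def el (v : Fin 3 × Fin 3) : G5 := uA ^ (v.1 : ℕ) * uB ^ (v.2 : ℕ)

theorem el_injective : Function.Injective el := by
  have : ∀ v w, el v = el w → v = w := by decide +kernel
  exact this

theorem el_mul : ∀ v w, el v * el w = el (v + w) := by decide +kernel
theorem el_cube : ∀ v, el v ^ 3 = 1 := by decide +kernel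
theorem el_zero : el (0, 0) = 1 := by decide +kernel
theorem el_inv : ∀ v, (el v)⁻¹ = el (v + v) := fun v => by
  refine inv_eq_of_mul_eq_one_right ?_
  rw [← el_mul, ← pow_three, el_cube]

/-- `GL(5, 2)` has no element of order nine. -/
theorem no_nine (g : G5) : orderOf g ≠ 9 := by
  intro hg
  haveI : Fact (Nat.Prime 3) := ⟨Nat.prime_three⟩
  let P : Subgroup G5 :=
    { carrier := Set.range el
      one_mem' := ⟨(0, 0), el_zero⟩
      mul_mem' := by rintro _ _ ⟨v, rfl⟩ ⟨w, rfl⟩; exact ⟨v + w, (el_mul v w).symm⟩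
      inv_mem' := by rintro _ ⟨v, rfl⟩; exact ⟨v + v, (el_inv v).symm⟩ }
  have hP : Nat.card P = 3 ^ (Nat.card G5).factorization 3 := by
    have h1 : Nat.card P = 9 := by
      rw [show Nat.card P = Nat.card (Fin 3 × Fin 3) from
        (Nat.card_congr (Equiv.ofInjective el el_injective)).symm]
      simp
    rw [h1, card_G5, show (9999360 : ℕ) = 3 ^ 2 * 1111040 from rfl,
      Nat.factorization_mul (by norm_num) (by norm_num), Finsupp.add_apply,
      Nat.Prime.factorization_pow Nat.prime_three, Finsupp.single_eq_same,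
      Nat.factorization_eq_zero_of_not_dvd (by norm_num : ¬ 3 ∣ 1111040)]
    norm_num
  let T : Sylow 3 G5 := Sylow.ofCard P hP
  have hC : IsPGroup 3 (Subgroup.zpowers g) :=
    IsPGroup.of_card (n := 2) (by rw [Nat.card_zpowers, hg]; norm_num)
  obtain ⟨S, hS⟩ := hC.exists_le_sylow
  let e := S.equiv T
  obtain ⟨⟨u, v, rfl⟩, hu⟩ : ∃ u : P, u = e ⟨g, hS (Subgroup.mem_zpowers g)⟩ := ⟨_, rfl⟩
  have h3 : (⟨g, hS (Subgroup.mem_zpowers g)⟩ : (S : Subgroup G5)) ^ 3 = 1 := by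
    apply e.injective
    rw [map_pow, map_one, ← hu]
    exact Subtype.ext (el_cube v)
  have h9 : g ^ 3 = 1 := congrArg Subtype.val h3
  have := orderOf_dvd_of_pow_eq_one h9
  rw [hg] at this
  norm_num at this

/-- `PSL(2, 8)` has an element of order nine. -/
theorem exists_nine {F : Type} [Field F] [Fintype F] (hF : Fintype.card F = 8) :
    ∃ x : ProjectiveSpecialLinearGroup (Fin 2) F, orderOf x = 9 := by
  classical
  haveI : Fact (Nat.Prime 3) := ⟨Nat.prime_three⟩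
  have h2 : (2 : F) = 0 := by
    have h := FiniteField.cast_card_eq_zero F
    rw [hF] at h
    have h' : (2 : F) ^ 3 = 0 := by norm_num at h ⊢; exact h
    exact pow_eq_zero_iff (by norm_num) |>.mp h'
  obtain ⟨t, ht⟩ : ∃ t : F, t ^ 3 + t + 1 = 0 := by
    obtain ⟨s, hs0, hs1⟩ : ∃ s : F, s ≠ 0 ∧ s ≠ 1 := by
      by_contra h
      push Not at h
      have hle : Fintype.card F ≤ ({0, 1} : Finset F).card := by
        refine Finset.card_le_card_of_injOn id (fun x _ => ?_) (fun _ _ _ _ h => h)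
        by_cases hx : x = 0
        · simp [hx]
        · simp [h x hx]
      rw [hF, Finset.card_pair zero_ne_one] at hle
      omega
    have h8 : s ^ 8 = s := by
      have := FiniteField.pow_card s
      rwa [hF] at this
    have hmul : (s ^ 3 + s + 1) * (s ^ 3 + s ^ 2 + 1) * (s * (s - 1)) = 0 := by
      linear_combination h8 + (s ^ 5 - s ^ 4) * h2
    rcases mul_eq_zero.mp hmul with h | h
    · rcases mul_eq_zero.mp h with h | h
      · exact ⟨s, h⟩
      · refine ⟨s⁻¹, ?_⟩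
        field_simp
        linear_combination h
    · rcases mul_eq_zero.mp h with h | h
      · exact absurd h hs0
      · exact absurd (sub_eq_zero.mp h) hs1
  let M : SpecialLinearGroup (Fin 2) F :=
    ⟨!![0, 1; 1, t], by rw [det_fin_two]; simp; linear_combination (-1 : F) * h2⟩
  let N : SpecialLinearGroup (Fin 2) F :=
    ⟨!![t, t ^ 2 + 1; t ^ 2 + 1, t ^ 3 + 2 * t], by
      rw [det_fin_two]; simp; linear_combination (-1 : F) * h2⟩
  have hM3 : M * M * M = N := by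
    refine Subtype.ext ?_
    show !![0, 1; 1, t] * !![0, 1; 1, t] * !![0, 1; 1, t] =
      !![t, t ^ 2 + 1; t ^ 2 + 1, t ^ 3 + 2 * t]
    ext i j; fin_cases i <;> fin_cases j <;> simp [Matrix.mul_apply, Fin.sum_univ_two] <;> ring
  have hN3 : N * N * N = 1 := by
    refine Subtype.ext ?_
    show !![t, t ^ 2 + 1; t ^ 2 + 1, t ^ 3 + 2 * t] * !![t, t ^ 2 + 1; t ^ 2 + 1, t ^ 3 + 2 * t] *
      !![t, t ^ 2 + 1; t ^ 2 + 1, t ^ 3 + 2 * t] = 1
    ext i j
    fin_cases i <;> fin_cases j <;> simp [Matrix.mul_apply, Fin.sum_univ_two]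
    · linear_combination ((5) * t ^ 0 + (-1) * t ^ 1 + (5) * t ^ 2 + (1) * t ^ 4) * ht + ((-3) * t ^ 0 + (-2) * t ^ 2) * h2
    · linear_combination ((-5) * t ^ 0 + (9) * t ^ 1 + (-1) * t ^ 2 + (6) * t ^ 3 + (1) * t ^ 5) * ht + ((3) * t ^ 0 + (-2) * t ^ 1 + (1) * t ^ 2) * h2
    · linear_combination ((-5) * t ^ 0 + (9) * t ^ 1 + (-1) * t ^ 2 + (6) * t ^ 3 + (1) * t ^ 5) * ht + ((3) * t ^ 0 + (-2) * t ^ 1 + (1) * t ^ 2) * h2
    · linear_combination ((7) * t ^ 0 + (-6) * t ^ 1 + (14) * t ^ 2 + (-1) * t ^ 3 + (7) * t ^ 4 + (1) * t ^ 6) * ht + ((-4) * t ^ 0 + (2) * t ^ 1 + (-4) * t ^ 2) * h2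
  have hnc : N ∉ Subgroup.center (SpecialLinearGroup (Fin 2) F) := by
    intro h
    rw [Subgroup.mem_center_iff] at h
    have hne : t ^ 2 + 1 ≠ 0 := fun h => one_ne_zero (show (1 : F) = 0 by
      linear_combination ht - t * h)
    have hM := h ⟨!![1, 1; 0, 1], by simp [det_fin_two]⟩
    have e2 : ((!![1, 1; 0, 1] : Matrix (Fin 2) (Fin 2) F) *
        (!![t, t ^ 2 + 1; t ^ 2 + 1, t ^ 3 + 2 * t] : Matrix (Fin 2) (Fin 2) F)) 0 0 =
        ((!![t, t ^ 2 + 1; t ^ 2 + 1, t ^ 3 + 2 * t] : Matrix (Fin 2) (Fin 2) F) * (!![1, 1; 0, 1] : Matrix (Fin 2) (Fin 2) F)) 0 0 :=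
      congrArg (fun A : SpecialLinearGroup (Fin 2) F => A.1 0 0) hM
    simp [Matrix.mul_apply, Fin.sum_univ_two] at e2
    exact hne e2
  refine ⟨QuotientGroup.mk M, ?_⟩
  have h9 : (QuotientGroup.mk M : ProjectiveSpecialLinearGroup (Fin 2) F) ^ 3 ^ (1 + 1) = 1 := by
    rw [← QuotientGroup.mk_pow, show M ^ 3 ^ (1 + 1) = N * N * N by
      rw [← hM3]; simp only [show (3 : ℕ) ^ (1 + 1) = 9 from rfl, pow_succ, pow_zero, one_mul, mul_assoc],
      hN3, QuotientGroup.mk_one]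
  have h3 : ¬ (QuotientGroup.mk M : ProjectiveSpecialLinearGroup (Fin 2) F) ^ 3 ^ 1 = 1 := by
    rw [pow_one, ← QuotientGroup.mk_pow, QuotientGroup.eq_one_iff, pow_succ, pow_two, hM3]
    exact hnc
  exact orderOf_eq_prime_pow h3 h9

theorem dvd_cases : ∀ n < 11, 2 ≤ n → 2 ^ n * ((2 ^ n) ^ 2 - 1) ∣ 9999360 → n = 2 ∨ n = 3 := by
  decide +kernel

theorem sz_cases : ∀ m < 3, 1 ≤ m →
    ¬ (2 ^ (2 * m + 1)) ^ 2 * ((2 ^ (2 * m + 1)) ^ 2 + 1) * (2 ^ (2 * m + 1) - 1) ∣ 9999360 := by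
  decide +kernel

theorem psu_cases : ∀ n < 4, 2 ≤ n →
    ¬ (2 ^ n) ^ 3 * (((2 ^ n) ^ 2 - 1) * ((2 ^ n) ^ 3 + 1)) ∣ 3 * 9999360 := by
  decide +kernel

theorem exp_le {k : ℕ} (h : 2 ^ k ∣ 9999360) : k ≤ 10 := by
  by_contra hk
  have h' : 2 ^ 11 ∣ 9999360 := (pow_dvd_pow 2 (by omega)).trans h
  norm_num at h'


/-- Let X be a section of the general linear group GL(5, 2), that is, a quotient of a subgroup of it. If X is isomorphic to PSL(2, 2^n) for some n ≥ 2, to a Suzuki group over the field with 2^(2m+1) elements for some m ≥ 1, or to PSU(3, 2^n) for some n ≥ 2, then X is isomorphic to PSL(2, 4). -/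
theorem result {H : Subgroup (GL (Fin 5) (ZMod 2))}
    {K : Subgroup ↥H} [K.Normal]
    (hX : (∃ (n : ℕ) (F : Type) (_ : Field F) (_ : Fintype F), 2 ≤ n ∧ Fintype.card F = 2 ^ n ∧
        Nonempty (↥H ⧸ K ≃* Matrix.ProjectiveSpecialLinearGroup (Fin 2) F)) ∨
      (∃ (m : ℕ) (F : Type) (_ : Field F) (_ : Fintype F), 1 ≤ m ∧ Fintype.card F = 2 ^ (2 * m + 1) ∧
        Nonempty (↥H ⧸ K ≃* ↥(Cfsg.Lie.Sz F (2 ^ (m + 1))))) ∨
      (∃ (n : ℕ) (F : Type) (_ : Field F) (_ : Fintype F), 2 ≤ n ∧ Fintype.card F = 4 ^ n ∧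
        Nonempty (↥H ⧸ K ≃* Cfsg.PSU 3 F (2 ^ n)))) :
    ∃ (F : Type) (_ : Field F) (_ : Fintype F), Fintype.card F = 4 ∧
      Nonempty (↥H ⧸ K ≃* Matrix.ProjectiveSpecialLinearGroup (Fin 2) F) := by
  classical
  have hdvd : Nat.card (↥H ⧸ K) ∣ 9999360 := card_G5 ▸
    (Subgroup.card_quotient_dvd_card K).trans (Subgroup.card_subgroup_dvd_card H)
  rcases hX with ⟨n, F, _, _, hn, hF, ⟨e⟩⟩ | ⟨m, F, _, _, hm, hF, ⟨e⟩⟩ | ⟨n, F, _, _, hn, hF, ⟨e⟩⟩
  · rw [Nat.card_congr e.toEquiv] at hdvd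
    have h := CfsgLib.Classical.card_PSL_two (F := F)
    rw [hF, ((Nat.coprime_two_left).mpr
      (Nat.Even.sub_odd Nat.one_le_two_pow (Nat.even_pow.mpr ⟨even_two, by omega⟩) odd_one)).gcd_eq_one,
      one_mul] at h
    rw [h] at hdvd
    rcases dvd_cases n (by have := exp_le ((dvd_mul_right _ _).trans hdvd); omega) hn hdvd with
      rfl | rfl
    · exact ⟨F, _, _, hF, ⟨e⟩⟩
    · exfalso
      obtain ⟨x, hx⟩ := exists_nine hF
      obtain ⟨h', hh'⟩ := QuotientGroup.mk_surjective (e.symm x)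
      have hx' : orderOf (e.symm x) = 9 := (e.symm.orderOf_eq x).trans hx
      have hd : 9 ∣ orderOf (h' : G5) := by
        rw [Subgroup.orderOf_coe, ← hx', ← hh']
        exact orderOf_map_dvd (QuotientGroup.mk' K) h'
      obtain ⟨c, hc⟩ := hd
      have hc0 : c ≠ 0 := by
        rintro rfl
        exact (orderOf_pos (h' : G5)).ne' hc
      exact no_nine ((h' : G5) ^ c) (by
        rw [orderOf_pow_of_dvd hc0 (hc ▸ dvd_mul_left c 9), hc,
          Nat.mul_div_cancel _ (Nat.pos_of_ne_zero hc0)])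
  · exfalso
    haveI : Fact (Nat.Prime 2) := ⟨Nat.prime_two⟩
    haveI : CharP F 2 := charP_of_card_eq_prime_pow hF
    haveI : CfsgLib.Suzuki.Param F m := ⟨hm, hF⟩
    have e2 : Nat.card ↥(Cfsg.Lie.Sz F (2 ^ (m + 1))) = Nat.card (CfsgLib.Suzuki.Gp F m) := by
      rw [← CfsgLib.Suzuki.range_toGLEmb]
      exact (Nat.card_congr (MonoidHom.ofInjective CfsgLib.Suzuki.toGLEmb_injective).toEquiv).symm
    rw [Nat.card_congr e.toEquiv, e2, CfsgLib.Suzuki.natCard_group, hF] at hdvd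
    have h2 := exp_le (k := (2 * m + 1) * 2)
      ((pow_mul 2 (2 * m + 1) 2) ▸ (((dvd_mul_right _ _).trans (dvd_mul_right _ _)).trans hdvd))
    exact sz_cases m (by omega) hm hdvd
  · exfalso
    rw [Nat.card_congr e.toEquiv] at hdvd
    have hF2 : Fintype.card F = (2 ^ n) ^ 2 := by
      rw [hF, ← pow_mul, show (4 : ℕ) = 2 ^ 2 from rfl, ← pow_mul, mul_comm]
    haveI : Finite F := Finite.of_fintype F
    obtain ⟨J⟩ := CfsgLib.Classical.Herm.exists_conj_of_card (F := F) (q := 2 ^ n) hF2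
    have hGU := CfsgLib.Classical.Herm.card_GU J (n := 3)
    norm_num [Finset.prod_range_succ, Nat.even_iff, -Nat.card_eq_fintype_card] at hGU
    have hSU := CfsgLib.Classical.Herm.card_SU J (n := 3) (by norm_num)
    rw [hGU, Subgroup.card_eq_card_quotient_mul_card_subgroup
      (Subgroup.center (Cfsg.SU 3 F (2 ^ n))),
      CfsgLib.Classical.Herm.card_center J (n := 3) (by norm_num)] at hSU
    have hkey : Nat.card (Cfsg.PSU 3 F (2 ^ n)) * Nat.gcd 3 (2 ^ n + 1) =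
        (2 ^ n) ^ 3 * (((2 ^ n) ^ 2 - 1) * ((2 ^ n) ^ 3 + 1)) :=
      mul_left_cancel₀ (Nat.add_one_ne_zero (2 ^ n)) (hSU.trans (by ring))
    have hd3 : (2 ^ n) ^ 3 * (((2 ^ n) ^ 2 - 1) * ((2 ^ n) ^ 3 + 1)) ∣ 3 * 9999360 := by
      rw [← hkey, mul_comm 3]
      exact Nat.mul_dvd_mul hdvd (Nat.gcd_dvd_left 3 _)
    have h2 := exp_le (k := n * 3) ((Nat.Coprime.dvd_of_dvd_mul_left
      (Nat.Coprime.pow_left _ (by norm_num : Nat.Coprime 2 3))
      ((pow_mul 2 n 3) ▸ (dvd_mul_right _ _).trans hd3)))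
    exact psu_cases n (by omega) hn hd3

end Cfsg.Agent.S3179
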