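import Cfsg.Statements.S2905
import Cfsg.Agent.Lib.Subnormal.Join
import Cfsg.Agent.Lib.Fitting.Basic
import Cfsg.Agent.Lib.Transfer.Basic
import Cfsg.Agent.Lib.Transfer.Sylow
import Cfsg.Agent.Lib.Coprime.Action
-- import your own Cfsg.Agent.* helpers here

set_option autoImplicit false
open Cfsg CfsgLib

namespace Cfsg.Agent.S2905

/-- Let P be a finite p-minimal group (a Sylow p-subgroup S is not normal and lies in a unique maximal subgroup M of P) and let F be the normal core of M. Then: every subnormal subgroup N of P contained in M satisfies N ∩ S ≤ O_p(P); if O^p(P) has a normal Sylow p-subgroup then the order of P has at most two prime divisors; every normal subgroup N of P either contains O^p(P) or is contained in F; and O^p(P)F ⧸ F is a minimal normal subgroup of P ⧸ F. -/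
theorem result {P : Type*} [Group P] [Finite P] {p : ℕ} [Fact p.Prime] (hP : Cfsg.IsPMinimal p P) (S : Sylow p P) (M : Subgroup P) (hM : IsCoatom M) (hSM : (S : Subgroup P) ≤ M) [hF : M.normalCore.Normal] : (∀ N : Subgroup P, N.IsSubnormal → N ≤ M → N ⊓ (S : Subgroup P) ≤ Cfsg.pCore p P) ∧ ((∀ T : Sylow p ↥(Cfsg.pResidual p P), (T : Subgroup ↥(Cfsg.pResidual p P)).Normal) → (Nat.card P).primeFactors.card ≤ 2) ∧ (∀ N : Subgroup P, N.Normal → Cfsg.pResidual p P ≤ N ∨ N ≤ M.normalCore) ∧ (∀ N : Subgroup P, N.Normal → M.normalCore ≤ N → N ≤ Cfsg.pResidual p P ⊔ M.normalCore → N = M.normalCore ∨ N = Cfsg.pResidual p P ⊔ M.normalCore) ∧ M.normalCore < Cfsg.pResidual p P ⊔ M.normalCore := by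
  have hpp := (Fact.out : p.Prime)
  obtain ⟨hSn, M', -, huniq⟩ := hP S
  have hMM : M = M' := huniq M ⟨hM, hSM⟩
  have hkey : ∀ X : Subgroup P, (S : Subgroup P) ≤ X → X ≠ ⊤ → X ≤ M := by
    intro X hSX hX
    obtain ⟨C, hC, hXC⟩ := (eq_top_or_exists_le_coatom X).resolve_left hX
    rw [hMM, ← huniq C ⟨hC, hSX.trans hXC⟩]
    exact hXC
  set K := Cfsg.pResidual p P with hKdef
  haveI hKn : K.Normal := Transfer.pResidual_normal p P
  have hKS : (S : Subgroup P) ⊔ K = ⊤ := Transfer.sylow_sup_pResidual S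
  have hKM : ¬ K ≤ M := fun h => hM.1 (top_le_iff.mp (hKS ▸ sup_le hSM h))
  have h3 : ∀ N : Subgroup P, N.Normal → K ≤ N ∨ N ≤ M.normalCore := by
    intro N hN
    haveI := hN
    by_cases hNM : N ≤ M
    · exact Or.inr (Subgroup.normal_le_normalCore.mpr hNM)
    refine Or.inl (Transfer.pResidual_le_of_isPGroup_quotient N ?_)
    have htop : (S : Subgroup P) ⊔ N = ⊤ := by
      by_contra hne
      exact hNM (le_sup_right.trans (hkey _ le_sup_left hne))
    refine IsPGroup.of_surjective S.2 ((QuotientGroup.mk' N).comp (S : Subgroup P).subtype) fun y => ?_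
    obtain ⟨x, rfl⟩ := QuotientGroup.mk'_surjective N y
    have hx : x ∈ (((S : Subgroup P) ⊔ N : Subgroup P) : Set P) := by rw [htop]; trivial
    rw [Subgroup.mul_normal] at hx
    obtain ⟨s, hs, n, hn, rfl⟩ := hx
    exact ⟨⟨s, hs⟩, by
      show QuotientGroup.mk' N s = QuotientGroup.mk' N (s * n)
      rw [map_mul, show QuotientGroup.mk' N n = 1 from (QuotientGroup.eq_one_iff n).mpr hn, mul_one]⟩
  have hclosed : ∀ N : Subgroup P, N.Normal → N ≤ M →
      N ⊓ (S : Subgroup P) ≤ Cfsg.pCore p P := by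
    intro N hN hNM
    haveI := hN
    refine Fitting.le_pCore ?_ (S.2.to_le inf_le_right)
    let Q : Sylow p N := (S.2.comap_of_injective N.subtype N.subtype_injective).toSylow
      (fun hd => S.not_dvd_index (hd.trans (Transfer.relIndex_dvd_index_of_normal _ N)))
    have hQ : (Q : Subgroup N).map N.subtype = N ⊓ (S : Subgroup P) :=
      (Subgroup.subgroupOf_map_subtype _ _).trans (inf_comm _ _)
    have hsup := Sylow.normalizer_sup_eq_top Q
    rw [hQ] at hsup
    refine Subgroup.normalizer_eq_top_iff.mp ?_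
    by_contra hne
    have hSN : (S : Subgroup P) ≤ Subgroup.normalizer ((N ⊓ (S : Subgroup P) : Subgroup P) : Set P) :=
      fun t ht => Subgroup.mem_normalizer_fintype fun y hy =>
        ⟨hN.conj_mem y hy.1 t, Subgroup.mul_mem _ (Subgroup.mul_mem _ ht hy.2) (Subgroup.inv_mem _ ht)⟩
    exact hM.1 (top_le_iff.mp (hsup.ge.trans (sup_le (hkey _ hSN hne) hNM)))
  have hnot : ¬ K ≤ M.normalCore := fun h => hKM (h.trans M.normalCore_le)
  have hlt : M.normalCore < K ⊔ M.normalCore := lt_of_le_of_ne le_sup_right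
    fun e => hnot (e ▸ le_sup_left)
  refine ⟨?_, ?_, h3, fun N hN hFN hNK => ?_, hlt⟩
  · intro N hN hNM
    set N' := ⨆ j : (S : Subgroup P), N.map (MulAut.conj (j : P)).toMonoidHom with hN'
    have hN'sn : N'.IsSubnormal := CfsgLib.Subnormal.isSubnormal_iSup _ fun j =>
      hN.map (MulAut.conj (j : P)).surjective
    have hN'M : N' ≤ M := iSup_le fun j => by
      rintro _ ⟨x, hx, rfl⟩
      exact M.mul_mem (M.mul_mem (hSM j.2) (hNM hx)) (M.inv_mem (hSM j.2))
    have hNN' : N ≤ N' := fun x hx => le_iSup (fun j : (S : Subgroup P) =>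
      N.map (MulAut.conj (j : P)).toMonoidHom) 1 ⟨x, hx, by simp⟩
    have hSN' : ∀ s ∈ (S : Subgroup P), ∀ x ∈ N', s * x * s⁻¹ ∈ N' := by
      intro s hs
      have hle : N' ≤ N'.comap (MulAut.conj s).toMonoidHom := iSup_le fun j => by
        rw [← Subgroup.map_le_iff_le_comap, Subgroup.map_map]
        refine le_trans (le_of_eq ?_) (le_iSup (fun j : (S : Subgroup P) =>
          N.map (MulAut.conj (j : P)).toMonoidHom) (⟨s, hs⟩ * j))
        refine congrArg (fun φ => Subgroup.map φ N) ?_
        ext y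
        simp [mul_assoc]
      exact fun x hx => hle hx
    set X := Subgroup.normalClosure (N' : Set P) with hX
    refine le_trans (inf_le_inf_right _ (hNN'.trans Subgroup.le_normalClosure))
      (hclosed X Subgroup.normalClosure_normal ?_)
    by_contra hXM
    have hXS : (S : Subgroup P) ⊔ X = ⊤ := by
      by_contra hne
      exact hXM (le_sup_right.trans (hkey _ le_sup_left hne))
    rcases (hN'sn.subgroupOf (K := X)).lt_normal with h | ⟨K', hK', hle, hlt⟩
    · exact hXM ((Subgroup.subgroupOf_eq_top.mp h).trans hN'M)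
    haveI := hK'
    refine hlt.ne (eq_top_iff.mpr fun m _ => ?_)
    have hall : X ≤ K'.map X.subtype := by
      refine (Subgroup.closure_le _).mpr fun x hx => ?_
      obtain ⟨a, ha, hax⟩ := Group.mem_conjugatesOfSet_iff.mp hx
      obtain ⟨c, rfl⟩ := isConj_iff.mp hax
      have hc : c ∈ ((X ⊔ (S : Subgroup P) : Subgroup P) : Set P) := by rw [sup_comm, hXS]; trivial
      rw [Subgroup.normal_mul] at hc
      obtain ⟨m, hm, k, hk, rfl⟩ := hc
      have h1 : k * a * k⁻¹ ∈ N' := hSN' k hk a ha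
      refine ⟨⟨m, hm⟩ * ⟨k * a * k⁻¹, Subgroup.le_normalClosure h1⟩ * ⟨m, hm⟩⁻¹, hK'.conj_mem _ (hle h1) _, ?_⟩
      show m * (k * a * k⁻¹) * m⁻¹ = m * k * a * (m * k)⁻¹
      group
    obtain ⟨v, hv, hvm⟩ := hall m.2
    exact (Subtype.ext hvm : v = m) ▸ hv
  · intro hT
    let T₀ : Sylow p K := (S.2.comap_of_injective K.subtype K.subtype_injective).toSylow
      (fun hd => S.not_dvd_index (hd.trans (Transfer.relIndex_dvd_index_of_normal _ K)))
    set T := (S : Subgroup P) ⊓ K with hTdef
    have hT₀ : (T₀ : Subgroup K).map K.subtype = T := Subgroup.subgroupOf_map_subtype _ _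
    have hTidx : ¬ p ∣ T.relIndex K := by
      rw [hTdef, Subgroup.inf_relIndex_right]
      exact T₀.not_dvd_index
    haveI hTn : T.Normal := by
      refine Subgroup.normalizer_eq_top_iff.mp (top_le_iff.mp (hKS ▸ sup_le ?_ ?_))
      · exact fun t ht => Subgroup.mem_normalizer_fintype fun y hy =>
          ⟨Subgroup.mul_mem _ (Subgroup.mul_mem _ ht hy.1) (Subgroup.inv_mem _ ht), hKn.conj_mem y hy.2 t⟩
      · intro k hk
        refine Subgroup.mem_normalizer_fintype fun y hy => ?_
        rw [← hT₀]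
        exact ⟨⟨k, hk⟩ * ⟨y, hy.2⟩ * ⟨k, hk⟩⁻¹, (hT T₀).conj_mem ⟨y, hy.2⟩ hy.1 _, rfl⟩
    have hTconj : ∀ x : P, T.map (MulAut.conj x).toMonoidHom = T := fun x =>
      Transfer.map_conj_eq_self_iff.mpr (by rw [Subgroup.normalizer_eq_top_iff.mpr hTn]; exact Subgroup.mem_top x)
    by_contra hcard
    apply hKM
    suffices (M ⊓ K).relIndex K = 1 from (Subgroup.relIndex_eq_one.mp this).trans inf_le_left
    by_contra hi
    obtain ⟨q, hq, hqd⟩ := Nat.exists_prime_and_dvd hi
    haveI := Fact.mk hq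
    obtain ⟨R⟩ := (inferInstance : Nonempty (Sylow q K))
    set Rm := (R : Subgroup K).map K.subtype with hRm
    set B := Subgroup.normalizer ((Rm ⊔ T : Subgroup P) : Set P) with hB
    have hNR : Subgroup.normalizer (Rm : Set P) ≤ B := fun x hx =>
      Transfer.map_conj_eq_self_iff.mp (by
        rw [Subgroup.map_sup, Transfer.map_conj_eq_self_iff.mpr hx,
          hTconj x])
    have hBK : B ⊔ K = ⊤ := top_le_iff.mp
      ((Sylow.normalizer_sup_eq_top R).ge.trans (sup_le_sup_right hNR _))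
    have hTB : T ≤ B := le_sup_right.trans Subgroup.le_normalizer
    have hBi : ¬ p ∣ B.index := by
      have he : B.index = B.relIndex K := by
        have h1 := Coprime.card_sup_mul_card_inf (K := K) (S := B) Subgroup.le_normalizer_of_normal
        have h2 := Coprime.relIndex_mul_card_inf B K
        rw [sup_comm, hBK, Subgroup.card_top, ← B.card_mul_index, inf_comm] at h1
        refine Nat.eq_of_mul_eq_mul_right (Nat.card_pos : 0 < Nat.card ↥(B ⊓ K)) ?_
        rw [h2]
        refine Nat.eq_of_mul_eq_mul_left (Nat.card_pos : 0 < Nat.card B) ?_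
        rw [← mul_assoc, h1]
        ring
      rw [he]
      exact fun hd => hTidx (hd.trans (Subgroup.relIndex_dvd_of_le_left K hTB))
    obtain ⟨U⟩ := (inferInstance : Nonempty (Sylow p B))
    have hU : ¬ p ∣ ((U : Subgroup B).map B.subtype).index := by
      rw [Subgroup.index_map_subtype]
      exact fun hd => (hpp.dvd_mul.mp hd).elim U.not_dvd_index hBi
    obtain ⟨g, hg⟩ := MulAction.exists_smul_eq P S ((U.2.map B.subtype).toSylow hU)
    set R' := Rm.map (MulAut.conj g⁻¹).toMonoidHom with hR'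
    have hR'K : R' ≤ K := by
      rintro _ ⟨_, ⟨r, -, rfl⟩, rfl⟩
      exact hKn.conj_mem _ r.2 _
    have hSB : (S : Subgroup P) ≤ Subgroup.normalizer ((R' ⊔ T : Subgroup P) : Set P) := by
      have e : R' ⊔ T = (Rm ⊔ T).map (MulAut.conj g⁻¹).toMonoidHom := by
        rw [Subgroup.map_sup, hTconj g⁻¹]
      intro s hs
      have h1 : g * s * g⁻¹ ∈ B := by
        have h2 : g * s * g⁻¹ ∈ ((g • S : Sylow p P) : Subgroup P) := ⟨s, hs, rfl⟩
        rw [hg] at h2
        exact Subgroup.map_subtype_le _ h2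
      rw [e]
      refine Subgroup.le_normalizer_map _ ⟨g * s * g⁻¹, h1, ?_⟩
      show g⁻¹ * (g * s * g⁻¹) * g⁻¹⁻¹ = s
      group
    have hR'c : Nat.card R' = Nat.card R := by
      rw [hR', Subgroup.card_map_of_injective (MulAut.conj g⁻¹).injective, hRm,
        Subgroup.card_map_of_injective K.subtype_injective]
    by_cases hE : (R' ⊔ T) ⊔ (S : Subgroup P) = ⊤
    · apply hcard
      have hd1 : Nat.card ↥(R' ⊔ T) ∣ Nat.card R * Nat.card T := by
        rw [← hR'c, mul_comm, sup_comm,
          ← Coprime.card_sup_mul_card_inf (K := T) (S := R') Subgroup.le_normalizer_of_normal]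
        exact Dvd.intro _ rfl
      have hd2 : Nat.card P ∣ Nat.card ↥(R' ⊔ T) * Nat.card S := by
        rw [← Coprime.card_sup_mul_card_inf hSB, hE, Subgroup.card_top]
        exact Dvd.intro _ rfl
      obtain ⟨a, ha⟩ := IsPGroup.iff_card.mp R.2
      obtain ⟨b, hb⟩ := IsPGroup.iff_card.mp (S.2.to_le (inf_le_left : T ≤ (S : Subgroup P)))
      obtain ⟨c, hc⟩ := IsPGroup.iff_card.mp S.2
      have hd3 := hd2.trans (Nat.mul_dvd_mul_right hd1 _)
      rw [ha, hb, show Nat.card S = p ^ c from hc, mul_assoc, ← pow_add] at hd3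
      refine (Finset.card_le_card (t := {q, p}) fun r hr => ?_).trans Finset.card_le_two
      obtain ⟨hr, hrd, -⟩ := Nat.mem_primeFactors.mp hr
      rcases hr.dvd_mul.mp (hrd.trans hd3) with h | h
      · rw [(Nat.prime_dvd_prime_iff_eq hr hq).mp (hr.dvd_of_dvd_pow h)]; simp
      · rw [(Nat.prime_dvd_prime_iff_eq hr hpp).mp (hr.dvd_of_dvd_pow h)]; simp
    · apply (Fact.out : q.Prime).one_lt.ne'
      have hR'M : R' ≤ M := (le_sup_left.trans le_sup_left).trans (hkey _ le_sup_right hE)
      refine (Nat.dvd_one.mp ?_)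
      have h1 : (M ⊓ K).relIndex K ∣ R'.relIndex K := Subgroup.relIndex_dvd_of_le_left K (le_inf hR'M hR'K)
      have h2 : R'.relIndex K = (R : Subgroup K).index := by
        have e1 := R'.subgroupOf K |>.card_mul_index
        have e2 := (R : Subgroup K).card_mul_index
        rw [Nat.card_congr (Subgroup.subgroupOfEquivOfLe hR'K).toEquiv, hR'c, ← e2] at e1
        exact Nat.eq_of_mul_eq_mul_left Nat.card_pos e1
      exact absurd ((h2 ▸ h1 : _ ∣ (R : Subgroup K).index) |> hqd.trans) R.not_dvd_index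
  · rcases h3 N hN with h | h
    · exact Or.inr (le_antisymm hNK (sup_le h hFN))
    · exact Or.inl (le_antisymm h hFN)

end Cfsg.Agent.S2905
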