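import Cfsg.Statements.S1447
import Cfsg.Agent.Lib.PGroup.MetacyclicCoprime

set_option autoImplicit false
set_option linter.style.haveILetI false
open Cfsg

namespace Cfsg.Agent.S1447

open scoped commutatorElement

/-- Let G be a finite group, p an odd prime, R a metacyclic p-subgroup and A a subgroup of order coprime to p normalizing R. Then [R, A] is abelian; R is generated by [R, A] and R ∩ C_G(A), which meet trivially; and if R is non-abelian and A does not centralize R, then [R, A] and R ∩ C_G(A) are nontrivial cyclic groups and [R, R] ≤ [R, A]. -/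
theorem result {G : Type*} [Group G] [Finite G] (p : ℕ) [Fact p.Prime] (hp : p ≠ 2) (R A : Subgroup G) (hR : IsPGroup p R) (hRm : Cfsg.IsMetacyclic R)
    (hA : (A ≤ Subgroup.normalizer (R : Set G))) (hcop : (Nat.card A).Coprime p) :
    IsMulCommutative ↥⁅R, A⁆ ∧ ⁅R, A⁆ ⊔ (R ⊓ Subgroup.centralizer (A : Set G)) = R ∧ ⁅R, A⁆ ⊓ (R ⊓ Subgroup.centralizer (A : Set G)) = ⊥ ∧
      (¬ IsMulCommutative R → ¬ A ≤ Subgroup.centralizer (R : Set G) →
        ⁅R, A⁆ ≠ ⊥ ∧ IsCyclic ↥⁅R, A⁆ ∧ (R ⊓ Subgroup.centralizer (A : Set G)) ≠ ⊥ ∧ IsCyclic ↥(R ⊓ Subgroup.centralizer (A : Set G)) ∧ ⁅R, R⁆ ≤ ⁅R, A⁆) := by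
  classical
  have hpp : p.Prime := Fact.out
  haveI := hR.isNilpotent
  obtain ⟨k, hk⟩ := IsPGroup.iff_card.mp hR
  have hcopR : (Nat.card A).Coprime (Nat.card R) := hk ▸ hcop.pow_right k
  have hsolv : Group.IsSolvable A ∨ Group.IsSolvable R := Or.inr inferInstance
  set T := ⁅R, A⁆ with hT
  set C := R ⊓ Subgroup.centralizer (A : Set G) with hC
  have hTR : T ≤ R := CfsgLib.Coprime.commutator_le_left_of_le_normalizer hA
  have hTA : A ≤ Subgroup.normalizer (T : Set G) :=
    CfsgLib.Coprime.le_normalizer_commutator hA Subgroup.le_normalizer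
  have hTT : ⁅T, A⁆ = T := CfsgLib.Coprime.commutator_commutator_eq hA hcopR hsolv
  have hjoin : T ⊔ C = R := CfsgLib.Coprime.commutator_sup_centralizer hA hcopR hsolv
  have hTp : IsPGroup p T := hR.to_le hTR
  have hTm : Cfsg.IsMetacyclic T := CfsgLib.MetacyclicCoprime.isMetacyclic_congr
    (Subgroup.subgroupOfEquivOfLe hTR) (CfsgLib.Metacyclic.isMetacyclic_subgroup hRm _)
  let φ : A →* MulAut T := T.normalizerMonoidHom.comp (Subgroup.inclusion hTA)
  have hφ : ∀ (t : A) (x : T), ((φ t x : T) : G) = t * x * (t : G)⁻¹ := fun _ _ => rfl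
  have hgen : ∀ L : Subgroup T, (∀ (t : A) (x : T), x⁻¹ * φ t x ∈ L) → L = ⊤ := by
    intro L hL
    have hle : T ≤ L.map T.subtype := by
      conv_lhs => rw [← hTT]
      rw [Subgroup.commutator_le]
      intro x hx t ht
      refine ⟨_, hL ⟨t, ht⟩ (⟨x, hx⟩ : T)⁻¹, ?_⟩
      show (((⟨x, hx⟩ : T)⁻¹⁻¹ : T) : G) * ((φ ⟨t, ht⟩ (⟨x, hx⟩ : T)⁻¹ : T) : G) = ⁅x, t⁆
      rw [hφ, inv_inv, commutatorElement_def]
      simp [mul_assoc]
    refine (Subgroup.eq_top_iff' L).mpr fun x => ?_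
    obtain ⟨y, hy, hyx⟩ := hle x.2
    exact Subtype.ext hyx ▸ hy
  -- `T` has central derived subgroup
  have hcl : commutator T ≤ Subgroup.center T := by
    haveI := (CfsgLib.Metacyclic.cyclicDerived hp hTp hTm).cyclic
    obtain ⟨u, hu⟩ := IsCyclic.exists_generator (α := commutator T)
    have hpow : ∀ f : MulAut T, ∃ i : ℤ, f (u : T) = (u : T) ^ i := by
      intro f
      have h : f (u : T) ∈ commutator T :=
        Subgroup.characteristic_iff_map_le.mp (inferInstance : (commutator T).Characteristic) f ⟨u, u.2, rfl⟩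
      obtain ⟨i, hi⟩ := hu ⟨_, h⟩
      exact ⟨i, (congrArg Subtype.val hi).symm⟩
    have hcomm : ∀ f f' : MulAut T, f (f' (u : T)) = f' (f (u : T)) := by
      intro f f'
      obtain ⟨i, hi⟩ := hpow f
      obtain ⟨j, hj⟩ := hpow f'
      rw [hj, map_zpow, hi, map_zpow, hj, ← zpow_mul, ← zpow_mul, mul_comm]
    let S : Subgroup T :=
      { carrier := {x | x * (u : T) * x⁻¹ = u}
        one_mem' := by simp
        mul_mem' := fun {x y} (hx : x * (u : T) * x⁻¹ = u) (hy : y * (u : T) * y⁻¹ = u) => by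
          show x * y * (u : T) * (x * y)⁻¹ = u
          rw [show x * y * (u : T) * (x * y)⁻¹ = x * (y * (u : T) * y⁻¹) * x⁻¹ by group, hy, hx]
        inv_mem' := fun {x} (hx : x * (u : T) * x⁻¹ = u) => by
          show x⁻¹ * (u : T) * x⁻¹⁻¹ = u
          conv_lhs => rw [← hx]
          group }
    have hS := hgen S fun t x => by
      show x⁻¹ * φ t x * (u : T) * (x⁻¹ * φ t x)⁻¹ = u
      have h1 : φ t (MulAut.conj x ((φ t)⁻¹ (u : T))) = MulAut.conj x (u : T) := by
        rw [hcomm (MulAut.conj x) (φ t)⁻¹, MulAut.apply_inv_self]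
      rw [MulAut.conj_apply, map_mul, map_mul, map_inv, MulAut.apply_inv_self, MulAut.conj_apply] at h1
      calc x⁻¹ * φ t x * (u : T) * (x⁻¹ * φ t x)⁻¹ = x⁻¹ * (φ t x * (u : T) * (φ t x)⁻¹) * x := by group
        _ = x⁻¹ * (x * (u : T) * x⁻¹) * x := by rw [h1]
        _ = u := by group
    intro w hw
    obtain ⟨i, hi⟩ := hu ⟨w, hw⟩
    have hi' : (u : T) ^ i = w := congrArg Subtype.val hi
    rw [← hi']
    refine Subgroup.zpow_mem _ (Subgroup.mem_center_iff.mpr fun x => ?_) i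
    exact mul_inv_eq_iff_eq_mul.mp (hS.ge (Subgroup.mem_top x))
  have hTab : IsMulCommutative T := by
    by_contra hna
    obtain ⟨L, hL, hLmem⟩ := CfsgLib.MetacyclicCoprime.not_generated hp hTp hTm φ hcop hcl hna
    exact hL (hgen L hLmem)
  have hdisj : T ⊓ C = ⊥ := by
    letI : CommGroup T := { (inferInstance : Group T) with mul_comm := fun x y => hTab.1.comm x y }
    obtain ⟨N, hN1, hN2⟩ := CfsgLib.MetacyclicCoprime.exists_norm φ (MonoidHom.id T)
    have hNtop := hgen N.ker fun t x => MonoidHom.mem_ker.mpr (hN1 t x)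
    rw [eq_bot_iff]
    rintro v ⟨hvT, -, hvA⟩
    have h1 := hN2 ⟨v, hvT⟩ fun t => Subtype.ext (by
      show ((φ t ⟨v, hvT⟩ : T) : G) = v
      rw [hφ]
      exact mul_inv_eq_iff_eq_mul.mpr (Subgroup.mem_centralizer_iff.mp hvA t t.2))
    rw [MonoidHom.mem_ker.mp (hNtop.ge (Subgroup.mem_top (⟨v, hvT⟩ : T)))] at h1
    have h2 : v ^ Nat.card A = 1 := (congrArg Subtype.val h1).symm
    obtain ⟨m, hm⟩ := hTp ⟨v, hvT⟩
    have h3 : v ^ p ^ m = 1 := congrArg Subtype.val hm
    rw [Subgroup.mem_bot, ← orderOf_eq_one_iff]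
    exact Nat.eq_one_of_dvd_coprimes (hcop.pow_right m) (orderOf_dvd_of_pow_eq_one h2) (orderOf_dvd_of_pow_eq_one h3)
  refine ⟨hTab, hjoin, hdisj, fun hRna hAR => ?_⟩
  have hTne : T ≠ ⊥ := fun h => hAR fun t ht => Subgroup.mem_centralizer_iff.mpr fun r hr => by
    have h' : r ∈ C := by
      have : r ∈ T ⊔ C := hjoin.symm ▸ hr
      rwa [h, bot_sup_eq] at this
    exact (Subgroup.mem_centralizer_iff.mp h'.2 t ht).symm
  have hCne : C ≠ ⊥ := fun h => hRna (by
    rw [h, sup_bot_eq] at hjoin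
    exact hjoin ▸ hTab)
  have hCp : IsPGroup p C := hR.to_le inf_le_left
  have hCm : Cfsg.IsMetacyclic C := CfsgLib.MetacyclicCoprime.isMetacyclic_congr
    (Subgroup.subgroupOfEquivOfLe (inf_le_left : C ≤ R)) (CfsgLib.Metacyclic.isMetacyclic_subgroup hRm _)
  -- a noncyclic subgroup holds every solution of `x ^ p = 1`
  have hkey : ∀ X : Subgroup G, X ≤ R → IsPGroup p X → Cfsg.IsMetacyclic X → ¬ IsCyclic X →
      ∀ Y : Subgroup G, Y ≤ R → IsPGroup p Y → Y ≠ ⊥ → X ⊓ Y ≠ ⊥ := by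
    intro X hXR hXp hXm hXc Y hYR hYp hY hXY
    have hRc : ¬ IsCyclic R := fun h => hXc (haveI := h; isCyclic_of_injective (Subgroup.inclusion hXR) (Subgroup.inclusion_injective hXR))
    have heq : Cfsg.omegaOne p X = Cfsg.omegaOne p R := Subgroup.eq_of_le_of_card_ge
      (Subgroup.closure_mono fun x hx => ⟨hXR hx.1, hx.2⟩)
      (by rw [CfsgLib.MetacyclicCoprime.card_omega hp hR hRm hRc, CfsgLib.MetacyclicCoprime.card_omega hp hXp hXm hXc])
    haveI : Nontrivial Y := (Subgroup.nontrivial_iff_ne_bot Y).mpr hY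
    obtain ⟨m, hm⟩ := IsPGroup.iff_card.mp hYp
    obtain ⟨⟨y, hy⟩, hyo⟩ := exists_prime_orderOf_dvd_card' (G := Y) p (by
      rw [hm]
      refine dvd_pow_self p fun h0 => ?_
      rw [h0, pow_zero] at hm
      exact absurd hm (ne_of_gt Finite.one_lt_card))
    rw [Subgroup.orderOf_mk] at hyo
    have hyX : y ∈ X := (Subgroup.closure_le X).mpr (fun x hx => hx.1)
      (heq.ge (Subgroup.subset_closure ⟨hYR hy, by rw [← hyo, pow_orderOf_eq_one]⟩))
    have h1 : y ∈ (⊥ : Subgroup G) := hXY ▸ ⟨hyX, hy⟩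
    rw [Subgroup.mem_bot.mp h1, orderOf_one] at hyo
    exact hpp.ne_one hyo.symm
  have hTc : IsCyclic T := by
    by_contra h
    exact hkey T hTR hTp hTm h C inf_le_left hCp hCne hdisj
  have hCc : IsCyclic C := by
    by_contra h
    exact hkey C inf_le_left hCp hCm h T hTR hTp hTne (inf_comm T C ▸ hdisj)
  refine ⟨hTne, hTc, hCne, hCc, ?_⟩
  -- the derived subgroup
  have hnT : R ≤ Subgroup.normalizer (T : Set G) := by
    rw [← hjoin]
    refine sup_le Subgroup.le_normalizer ?_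
    refine CfsgLib.Coprime.le_normalizer_commutator (inf_le_left.trans Subgroup.le_normalizer) ?_
    exact inf_le_right.trans (Subgroup.centralizer_le_normalizer _)
  haveI : (T.subgroupOf R).Normal := Subgroup.normal_subgroupOf_of_le_normalizer hnT
  haveI : IsMulCommutative (C.subgroupOf R) := ⟨⟨fun x y => Subtype.ext (Subtype.ext (by
    have h := hCc.commGroup.mul_comm ⟨(x : R), x.2⟩ ⟨(y : R), y.2⟩
    exact congrArg (fun w : C => (w : G)) h))⟩⟩
  have hle := Subgroup.Normal.commutator_le_of_self_sup_commutative_eq_top (N := T.subgroupOf R)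
    (H := C.subgroupOf R) (by
      rw [← Subgroup.subgroupOf_sup hTR (inf_le_left : C ≤ R), hjoin, Subgroup.subgroupOf_self]) inferInstance
  rw [Subgroup.commutator_le]
  intro x hx y hy
  exact hle (Subgroup.commutator_mem_commutator (Subgroup.mem_top (⟨x, hx⟩ : R)) (Subgroup.mem_top (⟨y, hy⟩ : R)))

end Cfsg.Agent.S1447
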