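import Cfsg.Statements.S3888
import Cfsg.Agent.Lib.PGroup.RankTwoBlackburn
import Cfsg.Agent.Lib.PGroup.RankTwoShape
set_option autoImplicit false
open Cfsg

namespace Cfsg.Agent.S3888

/-- The classification of the p-groups of rank at most two for odd p. Let p be an odd prime and G a group of order p^n with no elementary abelian subgroup of order p³. Then one of the following holds: G is metacyclic; n ≥ 3 and G is generated by elements x, y, z with x^p = y^p = z^(p^(n−2)) = 1, z commuting with x and y, and x⁻¹yx = y z^(p^(n−3)); n ≥ 4 and G is generated by elements x, y, z with x^p = y^p = z^(p^(n−2)) = 1, yz = zy, x⁻¹yx = y z^(s p^(n−3)) and x⁻¹zx = yz, where s = 1 or s is a quadratic non-residue modulo p; or p = 3 and G has maximal class (nilpotency class n − 1). -/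
theorem result {G : Type*} [Group G] [Finite G] {p : ℕ} [Fact p.Prime] (hp : p ≠ 2) (n : ℕ) (hG : Nat.card G = p ^ n)
    (hrk : Cfsg.PRankLE p 2 G) :
    Cfsg.IsMetacyclic G ∨
    (3 ≤ n ∧ ∃ x y z : G, Subgroup.closure ({x, y, z} : Set G) = ⊤ ∧ x ^ p = 1 ∧ y ^ p = 1 ∧ z ^ p ^ (n - 2) = 1 ∧
        x * z = z * x ∧ y * z = z * y ∧ x⁻¹ * y * x = y * z ^ p ^ (n - 3)) ∨
    (4 ≤ n ∧ ∃ (s : ℕ) (x y z : G), (s = 1 ∨ ¬ IsSquare (s : ZMod p)) ∧ Subgroup.closure ({x, y, z} : Set G) = ⊤ ∧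
        x ^ p = 1 ∧ y ^ p = 1 ∧ z ^ p ^ (n - 2) = 1 ∧ y * z = z * y ∧ x⁻¹ * y * x = y * z ^ (s * p ^ (n - 3)) ∧
        x⁻¹ * z * x = y * z) ∨
    (p = 3 ∧ 2 ≤ n ∧ (⊤ : Subgroup G).lowerCentralSeries (n - 2) ≠ ⊥) := by

  have hG' : IsPGroup p G := IsPGroup.of_card hG
  have hbig : CfsgLib.RankTwoThree.Big p G ∨ (3 < p ∧ ∃ R : Subgroup G, R.Normal ∧ Nat.card R = p ^ 3 ∧ ∀ r ∈ R, r ^ p = 1) ∨
      Cfsg.IsMetacyclic G ∨ (p = 3 ∧ 2 ≤ n ∧ (⊤ : Subgroup G).lowerCentralSeries (n - 2) ≠ ⊥) := by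
    by_cases hp3 : 3 < p
    · by_cases hO : Nat.card ↥(Cfsg.omegaOne p (⊤ : Subgroup G)) ≤ p ^ 2
      · exact Or.inr (Or.inr (Or.inl (CfsgLib.Blackburn.isMetacyclic_aux hp3 _ G rfl hG' hO)))
      · obtain ⟨R, z, h⟩ := CfsgLib.RankTwoShape.exists_shape hp3 hG' (fun E hE => hrk E hE.1 hE.2) (not_le.1 hO)
        exact Or.inr (Or.inl ⟨hp3, R, h.normal, h.card, fun r hr => (h.mem r).1 hr⟩)
    · have hp3' : p = 3 := by
        have := (Fact.out : p.Prime).two_le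
        omega
      rcases CfsgLib.RankTwoBlackburn.classify_aux hp n G hG hrk with h | h | h
      · exact Or.inr (Or.inr (Or.inr ⟨hp3', h.1, h.2⟩))
      · exact Or.inr (Or.inr (Or.inl h))
      · exact Or.inl h
  have hfam : ∀ R : Subgroup G, R.Normal → Nat.card R = p ^ 3 → (∀ r ∈ R, r ^ p = 1) → _ :=
    fun R hn hc he => haveI := hn; CfsgLib.RankTwoNormal.families hp hG hrk R hc he
  rcases hbig with ⟨R, hRc, hexp, c, hc, hco⟩ | ⟨-, R, hRn, hRc, hexp⟩ | h | h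
  · rcases hfam R (CfsgLib.RankTwoThree.normal_of_big hG' hp hrk R hRc hexp hc hco) hRc hexp with h | h
    · exact Or.inr (Or.inl h)
    · exact Or.inr (Or.inr (Or.inl h))
  · rcases hfam R hRn hRc hexp with h | h
    · exact Or.inr (Or.inl h)
    · exact Or.inr (Or.inr (Or.inl h))
  · exact Or.inl h
  · exact Or.inr (Or.inr (Or.inr h))

end Cfsg.Agent.S3888
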