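import Cfsg.Statements.S3035
import Cfsg.Agent.Lib.DihBlock.EightStructure
import Cfsg.Agent.Lib.Classical.SmallExceptional
import Cfsg.Agent.S0495
import Cfsg.Agent.S0497

set_option autoImplicit false
open Cfsg

namespace Cfsg.Agent.S3035

/-- Let G be a finite group with an involution z whose centralizer is dihedral of order 8. Then G = C_G(z) O(G) with O(G) the largest normal subgroup of odd order, or G is isomorphic to the symmetric group of degree 4, the symmetric group of degree 5, the group SL₃(2), or the alternating group of degree 6. -/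
theorem result {G : Type*} [Group G] [Finite G] (z : G) (hz : orderOf z = 2)
    (hC : Nonempty (↥(Subgroup.centralizer ({z} : Set G)) ≃* DihedralGroup 4)) :
    Subgroup.centralizer ({z} : Set G) ⊔ Cfsg.oddCore G = ⊤ ∨ Nonempty (G ≃* Equiv.Perm (Fin 4)) ∨ Nonempty (G ≃* Equiv.Perm (Fin 5)) ∨
      Nonempty (G ≃* Matrix.SpecialLinearGroup (Fin 3) (ZMod 2)) ∨ Nonempty (G ≃* ↥(alternatingGroup (Fin 6))) := by
  classical
  haveI := Fact.mk Nat.prime_two
  obtain ⟨e⟩ := hC
  obtain ⟨P, σ, τ, E, rfl⟩ := CfsgLib.DihBlock.exists_eight hz e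
  by_cases h₁ : IsConj (σ ^ 2) τ <;> by_cases h₂ : IsConj (σ ^ 2) (σ * τ)
  · haveI := E.isSimple h₁ h₂
    rcases E.card_eq h₁ h₂ with h168 | h360
    · haveI : Fact (Nat.Prime 7) := ⟨by norm_num⟩
      obtain ⟨e₁⟩ := Cfsg.Agent.S0495.result (G := G) h168 (F := ZMod 7) (ZMod.card 7)
      obtain ⟨e₂⟩ := CfsgLib.Classical.SmallExceptional.psl_two_seven (F := ZMod 7) (K := ZMod 2)
        (ZMod.card 7) (ZMod.card 2)
      have hbot : Subgroup.center (Matrix.SpecialLinearGroup (Fin 3) (ZMod 2)) = ⊥ := by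
        rw [eq_bot_iff]
        intro A hA
        obtain ⟨r, hr, hrA⟩ := Matrix.SpecialLinearGroup.mem_center_iff.mp hA
        have hr1 : r = 1 := by
          rw [Fintype.card_fin] at hr
          exact (show ∀ y : ZMod 2, y ^ 3 = 1 → y = 1 by decide +revert) r hr
        rw [Subgroup.mem_bot]
        exact Subtype.ext (by rw [← hrA, hr1, map_one]; rfl)
      exact Or.inr (Or.inr (Or.inr (Or.inl ⟨e₁.trans (e₂.trans
        ((QuotientGroup.quotientMulEquivOfEq hbot).trans QuotientGroup.quotientBot))⟩)))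
    · exact Or.inr (Or.inr (Or.inr (Or.inr (Cfsg.Agent.S0497.result h360))))
  · obtain ⟨M, hMn, hM, hτ⟩ := E.swap.conj_or_index_two.resolve_left h₂
    haveI := hMn
    have h₁' : IsConj (σ ^ 2) (σ * (σ * τ)) := by
      rw [← mul_assoc, ← sq]; exact h₁.trans E.z_mul_refl_conj.2
    rcases E.swap.iso_or_complement hM hτ h₁' with h | h | h
    exacts [Or.inl h, Or.inr (Or.inl h), Or.inr (Or.inr (Or.inl h))]
  · obtain ⟨M, hMn, hM, hτ⟩ := E.conj_or_index_two.resolve_left h₁
    haveI := hMn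
    rcases E.iso_or_complement hM hτ h₂ with h | h | h
    exacts [Or.inl h, Or.inr (Or.inl h), Or.inr (Or.inr (Or.inl h))]
  · refine Or.inl (E.sup_oddCore_eq_top le_rfl ?_)
    rw [CfsgLib.Transfer.pPrimeCore_eq_pResidual (E.npc_of_no_fusion h₁ h₂)]
    exact CfsgLib.Transfer.sylow_sup_pResidual P

end Cfsg.Agent.S3035
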