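import Cfsg.Statements.S2038
import Cfsg.Agent.Lib.Golay.Mult.M24Data
import Cfsg.Agent.Lib.Golay.Mult.Odd
import Cfsg.Agent.Lib.Golay.MathieuFacts

set_option autoImplicit false
open Cfsg

namespace Cfsg.Agent.S2038

open CfsgLib.Golay CfsgLib.Golay.Mult CfsgLib.Golay.SylowTwo
open scoped commutatorElement

theorem hG : ∀ P, inM24 P = true → validP P = true ∧ toPerm P ∈ Cfsg.M24 := by
  intro P h
  refine ⟨?_, toPerm_mem_M24 h⟩
  simp only [inM24, Bool.and_eq_true] at h
  exact h.1

/-- first generator of a Sylow 3-subgroup -/
def PX : ℕ := 983021230958164580109020928760350767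
/-- second generator -/
def PY : ℕ := 652514513086511513024150158651307627
/-- an involution centralising the first and inverting the second -/
def PG : ℕ := 70972749587309759968111771289537259
/-- an involution inverting the first and centralising the second -/
def PH : ℕ := 70469314024040016421322208066341600

theorem cert_ok : twentyFourCert.ok inM24 = true := by decide +kernel

theorem cert_N : twentyFourCert.T.N = 1024 := by decide +kernel

/-- The Schur multiplier of the Mathieu group M₂₄ (the automorphism group of the length-24 binary code) is trivial; here the Schur multiplier is described through stem extensions, as in the definitions: surjective homomorphisms onto the group from a finite group, whose kernel is central in that finite group and contained in that finite group's commutator subgroup. -/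
theorem result : Cfsg.HasCyclicSchurMultiplier ↥Cfsg.M24 1 := by
  refine CfsgLib.Schur.InvolLift.trivial_multiplier_of_local_two (fun ℓ hℓ h2 => ?_) ?_
  · haveI := Fact.mk hℓ
    by_cases h3 : ℓ = 3
    · subst h3
      set x := lift Cfsg.M24 PX
      set y := lift Cfsg.M24 PY
      set g := lift Cfsg.M24 PG
      set h := lift Cfsg.M24 PH
      have eqs : ∀ (l r : List ℕ), (l.all inM24 && r.all inM24 && eqP (prodP l) (prodP r)) = true →
          (l.map (lift Cfsg.M24)).prod = (r.map (lift Cfsg.M24)).prod := fun l r => prod_lift_eq hG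
      have hx : x ^ 3 = 1 := by
        simpa [pow_succ, mul_assoc] using eqs [PX, PX, PX] [] (by decide +kernel)
      have hy : y ^ 3 = 1 := by
        simpa [pow_succ, mul_assoc] using eqs [PY, PY, PY] [] (by decide +kernel)
      have hxi : x⁻¹ = x * x := inv_eq_of_mul_eq_one_right (by rw [← hx, pow_succ, pow_two, mul_assoc])
      have hyi : y⁻¹ = y * y := inv_eq_of_mul_eq_one_right (by rw [← hy, pow_succ, pow_two, mul_assoc])
      have hc : ⁅x, y⁆ = x * y * (x * x) * (y * y) := by rw [commutatorElement_def, hxi, hyi]
      have hcx : x * ⁅x, y⁆ = ⁅x, y⁆ * x := by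
        rw [hc]
        simpa [mul_assoc] using eqs [PX, PX, PY, PX, PX, PY, PY] [PX, PY, PX, PX, PY, PY, PX] (by decide +kernel)
      have hcy : y * ⁅x, y⁆ = ⁅x, y⁆ * y := by
        rw [hc]
        simpa [mul_assoc] using eqs [PY, PX, PY, PX, PX, PY, PY] [PX, PY, PX, PX, PY, PY, PY] (by decide +kernel)
      have hne : ⁅x, y⁆ ≠ 1 := by
        rw [hc]
        simpa [mul_assoc] using prod_lift_ne hG (l := [PX, PY, PX, PX, PY, PY]) (r := [])
          (by decide +kernel) rfl (by decide +kernel)
      have conj : ∀ {a b c : Cfsg.M24}, a * b = c * a → a * b * a⁻¹ = c := fun e =>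
        mul_inv_eq_iff_eq_mul.2 e
      have hgx : g * x * g⁻¹ = x := conj (by simpa using eqs [PG, PX] [PX, PG] (by decide +kernel))
      have hgy : g * y * g⁻¹ = y⁻¹ := conj (by
        rw [hyi]; simpa [mul_assoc] using eqs [PG, PY] [PY, PY, PG] (by decide +kernel))
      have hhx : h * x * h⁻¹ = x⁻¹ := conj (by
        rw [hxi]; simpa [mul_assoc] using eqs [PH, PX] [PX, PX, PH] (by decide +kernel))
      have hhy : h * y * h⁻¹ = y := conj (by simpa using eqs [PH, PY] [PY, PH] (by decide +kernel))
      set c := ⁅x, y⁆ with hcdef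
      have hc3 : c ^ 3 = 1 := by
        rw [hc]
        simpa [pow_succ, mul_assoc] using eqs [PX, PY, PX, PX, PY, PY, PX, PY, PX, PX, PY, PY, PX, PY,
          PX, PX, PY, PY] [] (by decide +kernel)
      have hynot : y ∉ Subgroup.zpowers c := fun hm => by
        obtain ⟨i, hi⟩ := Subgroup.mem_zpowers_iff.mp hm
        refine hne ?_
        have : x * y = y * x := by rw [← hi]; exact ((show Commute x c from hcx).zpow_right i).eq
        rw [commutatorElement_eq_one_iff_mul_comm]; exact this
      have hd := CfsgLib.Schur.pow_succ_dvd_card_closure_pair (p := 3) (k := 1)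
        (by rw [pow_one]; exact orderOf_eq_prime hc3 hne) hy
        (by rw [hcy, mul_inv_cancel_right]; exact Subgroup.mem_zpowers c) hynot
      refine ⟨Subgroup.closure {x, y}, fun hi => ?_,
        fun Γ _ _ σ hσ hc z hz hzd _ => CfsgLib.Schur.preimage_commutator_inf_ker_extraThree hσ hc hx
          hy hcx hcy hne hgx hgy hhx hhy hz hzd⟩
      have hxm : x ∈ Subgroup.closure ({x, y} : Set Cfsg.M24) := Subgroup.subset_closure (Or.inl rfl)
      have hym : y ∈ Subgroup.closure ({x, y} : Set Cfsg.M24) := Subgroup.subset_closure (Or.inr rfl)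
      have hle : Subgroup.closure ({c, y} : Set Cfsg.M24) ≤ Subgroup.closure {x, y} := by
        rw [Subgroup.closure_le]
        rintro a (rfl | rfl)
        · rw [hcdef, commutatorElement_def]
          exact mul_mem (mul_mem (mul_mem hxm hym) (inv_mem hxm)) (inv_mem hym)
        · exact hym
      have hxnot : x ∉ Subgroup.closure ({c, y} : Set Cfsg.M24) := fun hm => by
        refine hne ?_
        have hcomm : ∀ a ∈ ({c, y} : Set Cfsg.M24), a * y = y * a := by
          rintro a (rfl | rfl)
          · exact hcy.symm
          · rfl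
        have : Subgroup.closure ({c, y} : Set Cfsg.M24) ≤ Subgroup.centralizer {y} := by
          rw [Subgroup.closure_le]
          intro a ha
          exact Subgroup.mem_centralizer_singleton_iff.2 (hcomm a ha)
        rw [commutatorElement_eq_one_iff_mul_comm]
        exact Subgroup.mem_centralizer_singleton_iff.1 (this hm)
      have hlt : Subgroup.closure ({c, y} : Set Cfsg.M24) < Subgroup.closure {x, y} :=
        lt_of_le_not_ge hle fun hge => hxnot (hge hxm)
      obtain ⟨k, hk⟩ := Subgroup.card_dvd_of_le hle
      have hall : 3 ^ 2 * k * 3 ∣ Nat.card Cfsg.M24 := by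
        rw [← Subgroup.card_mul_index (Subgroup.closure ({x, y} : Set Cfsg.M24)), hk]
        exact mul_dvd_mul (mul_dvd_mul hd dvd_rfl) hi
      have hk1 : k ≠ 1 := fun e => hlt.ne (Subgroup.eq_of_le_of_card_ge hle (by rw [hk, e, mul_one]))
      set A : Subgroup Cfsg.M24 := Subgroup.closure {c, y}
      have hA : IsPGroup 3 A := by
        have hA1 : IsPGroup 3 (Subgroup.zpowers c) :=
          IsPGroup.of_card (n := 1) (by rw [Nat.card_zpowers, pow_one, orderOf_eq_prime hc3 hne])
        have hy1 : y ≠ 1 := fun e => hynot (e ▸ one_mem _)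
        have hA2 : IsPGroup 3 (Subgroup.zpowers y) :=
          IsPGroup.of_card (n := 1) (by rw [Nat.card_zpowers, pow_one, orderOf_eq_prime hy hy1])
        have hn : Subgroup.zpowers y ≤ Subgroup.normalizer (Subgroup.zpowers c : Set Cfsg.M24) := by
          rw [Subgroup.zpowers_le, Subgroup.mem_normalizer_iff_map_conj_eq, MonoidHom.map_zpowers]
          show Subgroup.zpowers (y * c * y⁻¹) = _
          rw [hcy, mul_inv_cancel_right]
        have := hA2.to_sup_of_normal_right' hA1 hn
        rwa [sup_comm, Subgroup.zpowers_eq_closure, Subgroup.zpowers_eq_closure,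
          ← Subgroup.closure_union, ← Set.insert_eq] at this
      have hxA : Subgroup.zpowers x ≤ Subgroup.normalizer (A : Set Cfsg.M24) := by
        rw [Subgroup.zpowers_le, Subgroup.mem_normalizer_iff_map_conj_eq]
        refine Subgroup.eq_of_le_of_card_ge ?_ (le_of_eq
          (Subgroup.card_map_of_injective (MulAut.conj x).injective).symm)
        rw [MonoidHom.map_closure, Subgroup.closure_le]
        rintro _ ⟨a, ha, rfl⟩
        have hcA : c ∈ A := Subgroup.subset_closure (Or.inl rfl)
        have hyA : y ∈ A := Subgroup.subset_closure (Or.inr rfl)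
        rcases ha with rfl | rfl
        · show x * c * x⁻¹ ∈ A
          rw [hcx, mul_inv_cancel_right]; exact hcA
        · show x * y * x⁻¹ ∈ A
          rw [show x * y * x⁻¹ = c * y by rw [hcdef, commutatorElement_def]; group]
          exact mul_mem hcA hyA
      have hx1 : x ≠ 1 := fun e => hxnot (e ▸ one_mem _)
      have hP : IsPGroup 3 (Subgroup.closure ({x, y} : Set Cfsg.M24)) := by
        have h1 : IsPGroup 3 (Subgroup.zpowers x) :=
          IsPGroup.of_card (n := 1) (by rw [Nat.card_zpowers, pow_one, orderOf_eq_prime hx hx1])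
        refine (h1.to_sup_of_normal_right' hA hxA).to_le ?_
        rw [Subgroup.closure_le]
        rintro a (rfl | rfl)
        · exact Subgroup.mem_sup_left (Subgroup.mem_zpowers _)
        · exact Subgroup.mem_sup_right (Subgroup.subset_closure (Or.inr rfl))
      obtain ⟨n, hn⟩ := IsPGroup.iff_card.mp hP
      rw [hk] at hn
      obtain ⟨l, -, hl⟩ := (Nat.dvd_prime_pow Nat.prime_three).1 (Dvd.intro_left _ hn : k ∣ 3 ^ n)
      obtain ⟨l', rfl⟩ : ∃ l', l = l' + 1 := ⟨l - 1, by
        rcases l with _ | l
        · exact absurd hl (by simpa using hk1)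
        · rfl⟩
      rw [natCard_M24, hl] at hall
      have : 3 ^ 4 ∣ 244823040 := (Dvd.intro (3 ^ l') (by ring) : 3 ^ 4 ∣ 3 ^ 2 * 3 ^ (l' + 1) * 3).trans hall
      norm_num at this
    · refine local_of_sq_not_dvd hℓ fun hd => ?_
      rw [natCard_M24] at hd
      have h1 : ℓ ∣ 2 ^ 10 * 3 ^ 3 * 5 * 7 * 11 * 23 := (dvd_pow_self ℓ two_ne_zero).trans (by simpa using hd)
      simp only [Nat.Prime.dvd_mul hℓ] at h1
      rcases h1 with ((((h | h) | h) | h) | h) | h
      · exact h2 ((Nat.prime_dvd_prime_iff_eq hℓ Nat.prime_two).1 (hℓ.dvd_of_dvd_pow h))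
      · exact h3 ((Nat.prime_dvd_prime_iff_eq hℓ Nat.prime_three).1 (hℓ.dvd_of_dvd_pow h))
      all_goals
        have := (Nat.prime_dvd_prime_iff_eq hℓ (by norm_num)).1 h
        subst this
        norm_num at hd
  · intro E _ _ τ hτ hk
    refine no_double_of_cert hG twentyFourCert cert_ok ?_ E τ hτ hk
    intro m hm
    rw [natCard_M24, cert_N] at hm
    omega

end Cfsg.Agent.S2038
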