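import Cfsg.Statements.S2941
import Cfsg.Agent.Lib.Transfer.Basic

set_option autoImplicit false
open Cfsg
open scoped commutatorElement Pointwise
set_option linter.style.haveILetI false

namespace Cfsg.Agent.S2941

theorem normalizes_commutator {G : Type*} [Group G] (K J : Subgroup G) (h : ⁅K, J⁆ = K) :
    J ≤ Subgroup.normalizer (K : Set G) := by
  have hle : ∀ b ∈ J, ∀ x ∈ K, b * x * b⁻¹ ∈ K := by
    intro b hb
    have : ⁅K, J⁆ ≤ (⁅K, J⁆).comap (MulAut.conj b).toMonoidHom := by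
      rw [Subgroup.commutator_le]
      intro a ha c hc
      change b * ⁅a, c⁆ * b⁻¹ ∈ ⁅K, J⁆
      have e : b * ⁅a, c⁆ * b⁻¹ = ⁅a, b⁆⁻¹ * ⁅a, b * c⁆ := by
        simp only [commutatorElement_def]; group
      rw [e]
      exact Subgroup.mul_mem _ (Subgroup.inv_mem _ (Subgroup.commutator_mem_commutator ha hb))
        (Subgroup.commutator_mem_commutator ha (J.mul_mem hb hc))
    rw [h] at this
    exact this
  intro b hb
  rw [Subgroup.mem_normalizer_iff]
  refine fun x => ⟨hle b hb x, fun hx => ?_⟩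
  have := hle b⁻¹ (J.inv_mem hb) _ hx
  simpa [mul_assoc] using this


/-- Let G be a finite group of characteristic 2 type in which every 2-local subgroup is solvable and the centralizer of Ω₁(Z(S)) lies in N_G(S) for every Sylow 2-subgroup S, and let T be a nontrivial 2-subgroup and K a J(T)-component (J the Thompson subgroup generated by the elementary abelian 2-subgroups of largest order). If a subgroup Q is normalized by ⟨K, J(T)⟩ and normalizes J(T), then Q normalizes K. -/
theorem result {G : Type*} [Group G] [Finite G] (hL : Cfsg.IsCharacteristicTwoType G) (hN : ∀ N : Subgroup G, Cfsg.IsTwoLocal N → Group.IsSolvable ↥N)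
    (hZ : ∀ S : Sylow 2 G, Subgroup.centralizer (Cfsg.omegaCenterOf (S : Subgroup G) : Set G) ≤ Subgroup.normalizer ((S : Subgroup G) : Set G)) (T : Subgroup G) (hT : IsPGroup 2 ↥T) (hT1 : T ≠ ⊥) (K : Subgroup G) (hK : Cfsg.IsJComponent T K)
    (Q : Subgroup G) (hQ1 : K ⊔ Cfsg.thompsonSubgroupOf 2 T ≤ Subgroup.normalizer (Q : Set G)) (hQ2 : Q ≤ Subgroup.normalizer (Cfsg.thompsonSubgroupOf 2 T : Set G)) :
    Q ≤ Subgroup.normalizer (K : Set G) := by
  set J := Cfsg.thompsonSubgroupOf 2 T with hJ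
  obtain ⟨hgen, hKJ, -, -, -, -⟩ := hK
  have hJp : IsPGroup 2 J := hT.to_le (by
    rw [hJ]; exact Subgroup.map_subtype_le _)
  have hJK : J ≤ Subgroup.normalizer (K : Set G) := normalizes_commutator K J hKJ
  let H : Subgroup G := K ⊔ J
  haveI hKn : (K.subgroupOf H).Normal :=
    Subgroup.normal_subgroupOf_of_le_normalizer (sup_le Subgroup.le_normalizer hJK)
  have hodd : ∀ g ∈ H, Odd (orderOf g) → g ∈ K := by
    intro g hg ho
    have hmem : g ∈ ((K : Set G) * (J : Set G)) := by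
      rw [← Subgroup.coe_mul_of_right_le_normalizer_left K J hJK]
      exact hg
    obtain ⟨k, hk, j, hj, rfl⟩ := hmem
    obtain ⟨n, hn⟩ := hJp ⟨j, hj⟩
    have hj2 : j ^ 2 ^ n = 1 := congrArg Subtype.val hn
    have hq : ((⟨k * j, hg⟩ : H) : H ⧸ K.subgroupOf H) =
        ((⟨j, (le_sup_right : J ≤ H) hj⟩ : H) : H ⧸ K.subgroupOf H) := by
      have hkH : k ∈ H := (le_sup_left : K ≤ H) hk
      have he : (⟨k * j, hg⟩ : H) = ⟨k, hkH⟩ * ⟨j, (le_sup_right : J ≤ H) hj⟩ := Subtype.ext rfl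
      rw [he, QuotientGroup.mk_mul, (QuotientGroup.eq_one_iff (⟨k, hkH⟩ : H)).mpr hk, one_mul]
    have h2 : ((⟨k * j, hg⟩ : H) : H ⧸ K.subgroupOf H) ^ 2 ^ n = 1 := by
      rw [hq, ← QuotientGroup.mk_pow]
      exact (QuotientGroup.eq_one_iff _).mpr (by
        rw [Subgroup.mem_subgroupOf, Subgroup.coe_pow]
        change j ^ 2 ^ n ∈ K
        rw [hj2]; exact K.one_mem)
    have hd1 : orderOf ((⟨k * j, hg⟩ : H) : H ⧸ K.subgroupOf H) ∣ orderOf (k * j) := by
      have := orderOf_map_dvd (QuotientGroup.mk' (K.subgroupOf H)) (⟨k * j, hg⟩ : H)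
      rwa [Subgroup.orderOf_mk] at this
    have hone := Nat.eq_one_of_dvd_coprimes ((ho.coprime_two_right).pow_right n) hd1
      (orderOf_dvd_of_pow_eq_one h2)
    rw [orderOf_eq_one_iff, QuotientGroup.eq_one_iff] at hone
    exact hone
  have hconjJ : ∀ q ∈ Q, ∀ j ∈ J, q * j * q⁻¹ ∈ J := fun q hq j hj =>
    (Subgroup.mem_normalizer_iff.mp (hQ2 hq) j).mp hj
  -- K is generated by commutators of K and J, all of which stay in K ⊔ J under conjugation by Q
  have hconjK : ∀ q ∈ Q, ∀ k ∈ K, q * k * q⁻¹ ∈ H := by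
    intro q hq k hk
    have hle : ⁅K, J⁆ ≤ H.comap (MulAut.conj q).toMonoidHom := by
      rw [Subgroup.commutator_le]
      intro a ha b hb
      have hq' : a⁻¹ * q * a ∈ Q :=
        (Subgroup.mem_normalizer_iff''.mp (hQ1 ((le_sup_left : K ≤ K ⊔ J) ha)) q).mp hq
      have h1 : q * (a * b * a⁻¹) * q⁻¹ ∈ H := by
        have hb' := hconjJ _ hq' b hb
        have := H.mul_mem (H.mul_mem ((le_sup_left : K ≤ H) ha) ((le_sup_right : J ≤ H) hb'))
          (H.inv_mem ((le_sup_left : K ≤ H) ha))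
        convert this using 1
        group
      have h2 : q * b⁻¹ * q⁻¹ ∈ H := (le_sup_right : J ≤ H) (hconjJ q hq _ (J.inv_mem hb))
      change q * ⁅a, b⁆ * q⁻¹ ∈ H
      rw [commutatorElement_def]
      convert H.mul_mem h1 h2 using 1
      group
    exact hle (hKJ.symm ▸ hk)
  have hmap : ∀ q ∈ Q, ∀ k ∈ K, q * k * q⁻¹ ∈ K := by
    intro q hq
    have hle : K ≤ K.comap (MulAut.conj q).toMonoidHom := by
      conv_lhs => rw [← hgen]
      refine (Subgroup.closure_le _).mpr fun g hg => hodd _ (hconjK q hq g hg.1) ?_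
      change Odd (orderOf (q * g * q⁻¹))
      rw [CfsgLib.Transfer.orderOf_conj]
      exact hg.2
    exact fun k hk => hle hk
  intro q hq
  rw [Subgroup.mem_normalizer_iff]
  refine fun x => ⟨hmap q hq x, fun hx => ?_⟩
  have := hmap q⁻¹ (Q.inv_mem hq) _ hx
  simpa [mul_assoc] using this

end Cfsg.Agent.S2941
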