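import Cfsg.Statements.S5573
import Cfsg.Agent.Lib.JFourLocal.SevenSetup

set_option autoImplicit false
open Cfsg

namespace Cfsg.Agent.S5573

/-- Let G be a finite non-abelian simple group of Janko-four type (an involution z whose centralizer H has an extraspecial largest normal 2-subgroup E of order 2^13 containing its centralizer in H, a normal subgroup N ≥ E of H with N/E of order 3 and H/N the automorphism group of M₂₂, and a subgroup P ≤ N of order 3 with C_E(P) = ⟨z⟩, N_H(P) ≠ C_H(P) and P ≤ C_H(P)′). Let S ≤ H have order 7. Then S is a Sylow 7-subgroup of G, its centralizer is S × I with I isomorphic to the symmetric group of degree 5, and its normalizer has order three times that of its centralizer, namely 2^3·3^2·5·7. -/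
theorem result {G : Type*} [Group G] [Finite G] [IsSimpleGroup G] (hG : ¬ IsMulCommutative G) (z : G) (hJ : Cfsg.IsOfJankoFourTypeAt z) (S : Subgroup G) (hS : Nat.card ↥S = 7) (hSz : S ≤ Subgroup.centralizer ({z} : Set G)) :
    ¬ (49 ∣ Nat.card G) ∧
    (∃ I : Subgroup G, Cfsg.IsInternalDirectProduct S I (Subgroup.centralizer (S : Set G)) ∧ Nonempty (↥I ≃* Equiv.Perm (Fin 5))) ∧
    Nat.card ↥(Subgroup.normalizer (S : Set G)) = 3 * Nat.card ↥(Subgroup.centralizer (S : Set G)) ∧
    Nat.card ↥(Subgroup.normalizer (S : Set G)) = 2 ^ 3 * 3 ^ 2 * 5 * 7 := by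
  haveI := Fact.mk (show Nat.Prime 7 by norm_num)
  obtain ⟨g, hg⟩ := exists_prime_orderOf_dvd_card' (G := ↥S) 7 (dvd_of_eq hS.symm)
  rw [← Subgroup.orderOf_coe] at hg
  obtain ⟨π, s, u, x, T, hmem, hno, hsq⟩ := CfsgLib.JFourLocal.exists_seven hG hJ hg
    (Subgroup.mem_centralizer_singleton_iff.1 (hSz g.2))
  have h1 : Subgroup.zpowers (g : G) = S := Subgroup.eq_of_le_of_card_ge (Subgroup.zpowers_le.2 g.2)
    (by rw [hS, Nat.card_zpowers, hg])
  have h2 : Subgroup.zpowers (g : G) = Subgroup.zpowers s := Subgroup.eq_of_le_of_card_ge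
    (Subgroup.zpowers_le.2 hmem) (by rw [Nat.card_zpowers, Nat.card_zpowers, hg, T.s7])
  rw [← h1, h2]
  obtain ⟨h49, ⟨I, hI, hbot, hsup, he⟩, hC, hN⟩ := T.structure_seven hno hsq
  have hcs : Subgroup.centralizer ((Subgroup.zpowers s : Subgroup G) : Set G) =
      Subgroup.centralizer ({s} : Set G) := by
    rw [Subgroup.zpowers_eq_closure, Subgroup.centralizer_closure]
  rw [hcs, hN, hC]
  refine ⟨h49, ⟨I, ⟨Subgroup.zpowers_le.2 (Subgroup.mem_centralizer_singleton_iff.2 rfl), hI, ?_, hbot, hsup⟩, he⟩,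
    by norm_num, by norm_num⟩
  intro a ha b hb
  obtain ⟨n, rfl⟩ := Subgroup.mem_zpowers_iff.1 ha
  exact ((show Commute s b from (Subgroup.mem_centralizer_singleton_iff.1 (hI hb)).symm).zpow_left n).eq

end Cfsg.Agent.S5573
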