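import Cfsg.Statements.S2131
import Cfsg.Agent.Lib.J1.Invol

set_option autoImplicit false
set_option linter.style.haveILetI false
open Cfsg

namespace Cfsg.Agent.S2131

open CfsgLib.J1 in
theorem mem_alt (z : Cen) : (psi z).2 ∈ alternatingGroup (Fin 5) := by
  obtain ⟨σ, hσ, he⟩ := pimg_even (idx z)
  have : (psi z).2 = σ := Equiv.ext fun i => (he i).symm
  rw [this]; exact Equiv.Perm.mem_alternatingGroup.mpr hσ


/-- The Janko group J₁ (the group generated by two explicit 7 × 7 matrices over the integers modulo 11) has an involution whose centraliser is isomorphic to the direct product of a group of order 2 with the alternating group of degree 5. -/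
theorem result : ∃ t : ↥Cfsg.Spor.J1, orderOf t = 2 ∧ Nonempty (↥(Subgroup.centralizer ({t} : Set ↥Cfsg.Spor.J1)) ≃* Multiplicative (ZMod 2) × ↥(alternatingGroup (Fin 5))) := by
  refine ⟨CfsgLib.J1.tInv, CfsgLib.J1.elem2, ?_⟩
  let f : CfsgLib.J1.Cen →* Multiplicative (ZMod 2) × ↥(alternatingGroup (Fin 5)) :=
    MonoidHom.mk' (fun z => ((CfsgLib.J1.psi z).1, ⟨(CfsgLib.J1.psi z).2, mem_alt z⟩)) fun a b =>
      Prod.ext (by simp) (Subtype.ext (by simp))
  have hinj : Function.Injective f := fun a b h => CfsgLib.J1.psi_injective <| by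
    obtain ⟨h1, h2⟩ := Prod.ext_iff.mp h
    exact Prod.ext h1 (congrArg Subtype.val h2)
  refine ⟨MulEquiv.ofBijective f ((Nat.bijective_iff_injective_and_card f).mpr ⟨hinj, ?_⟩)⟩
  rw [CfsgLib.J1.card_cen, Nat.card_prod, nat_card_alternatingGroup, Nat.card_eq_fintype_card,
    Fintype.card_multiplicative, ZMod.card, Nat.card_eq_fintype_card, Fintype.card_fin]
  rfl

end Cfsg.Agent.S2131
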