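import Cfsg.Statements.S1644
import Cfsg.Agent.Lib.JOneUnique.Final
import Cfsg.Agent.Lib.J1.Simple
import Cfsg.Agent.S2131

set_option autoImplicit false
open Cfsg

namespace Cfsg.Agent.S1644

/-- The first Janko group recognised by an involution centraliser, at the level of isomorphism: a finite simple group with abelian Sylow 2-subgroups of order 8 and an involution whose centraliser is isomorphic to Z/2 × A₅ is isomorphic to the subgroup of GL(7, 11) generated by the two explicit Janko matrices. -/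
theorem result {G : Type*} [Group G] [Finite G] [IsSimpleGroup G] (S : Sylow 2 G) (hS : IsMulCommutative (S : Subgroup G)) (h8 : Nat.card S = 8) (t : G) (ht : orderOf t = 2) (e : (Subgroup.centralizer ({t} : Set G)) ≃* Multiplicative (ZMod 2) × alternatingGroup (Fin 5)) : Cfsg.Spor.IsoJ1 G := by
  obtain ⟨φ⟩ := CfsgLib.JOneUnique.equiv_pres t
    (CfsgLib.JOneUnique.twoCentral_of_abelian S hS ht) e
  haveI : IsSimpleGroup ↥Cfsg.Spor.J1 := CfsgLib.J1.isJ1.1
  obtain ⟨u, hu, ⟨f⟩⟩ := Cfsg.Agent.S2131.result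
  obtain ⟨ψ⟩ := CfsgLib.JOneUnique.equiv_pres u
    (CfsgLib.JOneUnique.twoCentral_of_card CfsgLib.J1.isJ1.2 hu f) f
  exact ⟨φ.symm.trans ψ⟩

end Cfsg.Agent.S1644
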