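import Cfsg.Statements.S2039
import Cfsg.Agent.Lib.Schur.SylowCriterion
import Cfsg.Agent.Lib.Schur.Eight
import Cfsg.Agent.Lib.J1.Elems
-- import your own Cfsg.Agent.* helpers here

set_option autoImplicit false
open Cfsg

namespace Cfsg.Agent.S2039

open CfsgLib.J1 CfsgLib.J1.CentData

theorem e_sq : ∀ i : Fin 7, get 16 invComm (7 * i.val + i.val) = cent2.one := by decide +kernel

theorem self_centralizing : ∀ k : Fin 120,
    (∀ l : Fin 7, ∀ i j : Fin 7, (∑ r : Fin 7, dg (cent2.C k) i r * dg (eCode l) r j) % 11 =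
      (∑ r : Fin 7, dg (eCode l) i r * dg (cent2.C k) r j) % 11) →
    k.val = cent2.one ∨ ∃ l : Fin 7, k.val = eIdx l := by
  decide +kernel

theorem nC_eq : cent2.nC = 120 := rfl

theorem eq_of_mat {X Y : ℕ} (h : mat X * mat Y = mat Y * mat X) (i j : Fin 7) :
    (∑ r : Fin 7, dg X i r * dg Y r j) % 11 = (∑ r : Fin 7, dg Y i r * dg X r j) % 11 := by
  have := congrFun (congrFun h i) j
  simp only [Matrix.mul_apply, mat, Matrix.of_apply, ← Nat.cast_mul, ← Nat.cast_sum] at this
  exact (ZMod.natCast_eq_natCast_iff' _ _ _).mp this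

theorem sq_one {x : J} (hx : x ∈ eSub) : x * x = 1 := by
  rcases mem_eSub.mp hx with rfl | ⟨i, rfl⟩
  · exact mul_one 1
  · apply matJ_inj
    rw [matJ_mul, eElem_mat, mat_mul ((e_ok.2 i).2.2.2.2 i).1, e_sq i, cent2_goodC.2.2.1, mat_one]
    rfl

theorem centralizer_eSub : Subgroup.centralizer (eSub : Set J) = eSub := by
  refine le_antisymm (fun z hz => ?_) (fun z hz => Subgroup.mem_centralizer_iff.mpr fun x hx => ?_)
  · have hc : ∀ l : Fin 7, eElem l * z = z * eElem l := fun l =>
      Subgroup.mem_centralizer_iff.mp hz _ (mem_eSub.mpr (Or.inr ⟨l, rfl⟩))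
    obtain ⟨k, hk⟩ := mem_list cent2_good (z := z) (by rw [← eElem_zero]; exact (hc 0).symm)
    have hk' : matJ z = mat (cent2.C k) := hk
    have h := self_centralizing ⟨k.val, k.2⟩ fun l i j => eq_of_mat (by
      have := congrArg matJ (hc l)
      rw [matJ_mul, matJ_mul, eElem_mat, hk'] at this
      exact this.symm) i j
    rcases h with h | ⟨l, h⟩
    · refine mem_eSub.mpr (Or.inl (matJ_inj ?_))
      rw [hk', show (k : ℕ) = cent2.one from h, cent2_goodC.2.2.1, mat_one]; rfl
    · refine mem_eSub.mpr (Or.inr ⟨l, matJ_inj ?_⟩)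
      rw [hk', eElem_mat, show (k : ℕ) = eIdx l from h]; rfl
  · have h1 := sq_one (mul_mem hx hz)
    have h2 : x⁻¹ = x := inv_eq_of_mul_eq_one_right (sq_one hx)
    have h3 : z⁻¹ = z := inv_eq_of_mul_eq_one_right (sq_one hz)
    have h4 : (x * z)⁻¹ = x * z := inv_eq_of_mul_eq_one_right h1
    rw [mul_inv_rev, h2, h3] at h4
    exact h4.symm

theorem seven_dvd : 7 ∣ Nat.card (Subgroup.normalizer (eSub : Set J)) := by
  haveI : Finite J := Nat.finite_of_card_ne_zero (by rw [card_eq]; norm_num)
  obtain ⟨s, hs⟩ := exists_seven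
  have hlt : ∀ i : Fin 6, s * eElem i.castSucc * s⁻¹ ∈ eSub := fun i =>
    mem_eSub.mpr (Or.inr ⟨i.succ, hs i⟩)
  have hlast : ∃ a b : Fin 6, eElem a.castSucc * eElem b.castSucc = eElem 6 := by
    have h : ∃ a b : Fin 6, get 16 invComm (7 * a.val + b.val) = eIdx 6 := by decide +kernel
    obtain ⟨a, b, h⟩ := h
    refine ⟨a, b, matJ_inj ?_⟩
    rw [matJ_mul, eElem_mat, eElem_mat, eElem_mat, mat_mul ((e_ok.2 a.castSucc).2.2.2.2 b.castSucc).1]
    show mat (cent2.C (get 16 invComm (7 * a.val + b.val))) = mat (cent2.C (eIdx 6))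
    rw [h]
  have hmem : s ∈ Subgroup.normalizer (eSub : Set J) := by
    have hle : ∀ x ∈ eSub, s * x * s⁻¹ ∈ eSub := by
      intro x hx
      rcases mem_eSub.mp hx with rfl | ⟨i, rfl⟩
      · rw [mul_one, mul_inv_cancel]; exact one_mem _
      · rcases Fin.eq_castSucc_or_eq_last i with ⟨j, rfl⟩ | rfl
        · exact hlt j
        · obtain ⟨a, b, hab⟩ := hlast
          rw [show Fin.last 6 = (6 : Fin 7) from rfl, ← hab, ← conj_mul]
          exact mul_mem (hlt a) (hlt b)
    exact Subgroup.mem_normalizer_fintype hle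
  let N := Subgroup.normalizer (eSub : Set J)
  let φ : N →* MulAut eSub := eSub.normalizerMonoidHom
  letI : MulAction N eSub := MulAction.compHom eSub φ
  let e0 : eSub := ⟨eElem 0, mem_eSub.mpr (Or.inr ⟨0, rfl⟩)⟩
  have horb : MulAction.orbit N e0 = {x : eSub | x ≠ 1} := by
    ext x
    constructor
    · rintro ⟨n, rfl⟩ h
      have : φ n e0 = φ n 1 := h.trans (map_one _).symm
      exact eElem_ne_one 0 (congrArg Subtype.val ((φ n).injective this))
    · intro hx
      rcases mem_eSub.mp x.2 with h | ⟨i, h⟩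
      · exact absurd (Subtype.ext h) hx
      have : ∀ k : Fin 7, ∃ n : N, (n : J) * eElem 0 * (n : J)⁻¹ = eElem k := by
        intro k
        induction k using Fin.induction with
        | zero => exact ⟨1, by simp⟩
        | succ k ih =>
          obtain ⟨n, hn⟩ := ih
          exact ⟨⟨s, hmem⟩ * n, by rw [← hs k, ← hn]; simp [mul_assoc]⟩
      obtain ⟨n, hn⟩ := this i
      exact ⟨n, Subtype.ext (hn.trans h.symm)⟩
  have hcard : Nat.card (MulAction.orbit N e0) = 7 := by
    rw [horb]
    have := Set.ncard_compl ({1} : Set eSub)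
    rw [Set.ncard_singleton, eSub_card] at this
    exact this
  have h := MulAction.index_stabilizer N e0
  rw [← Nat.card_coe_set_eq, hcard] at h
  have h2 := Subgroup.index_dvd_card (MulAction.stabilizer N e0)
  simp only [h] at h2
  exact h2

theorem small {ℓ : ℕ} (hℓ : ℓ.Prime) (h2 : ℓ ≠ 2) : (175560 : ℕ).factorization ℓ ≤ 1 := by
  by_contra h
  have hd : ℓ ^ 2 ∣ 175560 := (pow_dvd_pow ℓ (not_le.mp h)).trans (Nat.ordProj_dvd 175560 ℓ)
  have hdd : ℓ ∣ 2 ^ 3 * (3 * (5 * (7 * (11 * 19)))) :=
    (dvd_pow_self ℓ two_ne_zero).trans hd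
  have hp : ∀ {q : ℕ}, q.Prime → ℓ ∣ q → ℓ = q := fun hq h => (Nat.prime_dvd_prime_iff_eq hℓ hq).mp h
  rcases hℓ.dvd_mul.mp hdd with h | h
  · exact h2 (hp Nat.prime_two (hℓ.dvd_of_dvd_pow h))
  rcases hℓ.dvd_mul.mp h with h | h
  · rw [hp (by norm_num) h] at hd; norm_num at hd
  rcases hℓ.dvd_mul.mp h with h | h
  · rw [hp (by norm_num) h] at hd; norm_num at hd
  rcases hℓ.dvd_mul.mp h with h | h
  · rw [hp (by norm_num) h] at hd; norm_num at hd
  rcases hℓ.dvd_mul.mp h with h | h
  · rw [hp (by norm_num) h] at hd; norm_num at hd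
  · rw [hp (by norm_num) h] at hd; norm_num at hd

/-- The Schur multiplier of the Janko group J₁ (the group generated by two explicit 7 × 7 matrices over the integers modulo 11) is trivial; here the Schur multiplier is described through stem extensions, as in the definitions: surjective homomorphisms onto the group from a finite group, whose kernel is central in that finite group and contained in that finite group's commutator subgroup. -/
theorem result : Cfsg.HasCyclicSchurMultiplier ↥Cfsg.Spor.J1 1 := by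
  haveI : Finite J := Nat.finite_of_card_ne_zero (by rw [card_eq]; norm_num)
  refine CfsgLib.Schur.trivial_multiplier_of_local fun ℓ hℓ => ?_
  haveI := Fact.mk hℓ
  by_cases h2 : ℓ = 2
  · subst h2
    refine ⟨eSub, fun hi => ?_, fun Γ _ _ σ hσ hc z hz hzd _ => ?_⟩
    · have := Subgroup.card_mul_index eSub
      rw [eSub_card, card_eq] at this
      omega
    · rw [CfsgLib.Schur.preimage_commutator_eight σ hσ hc eSub eSub_card (fun x hx => sq_one hx)
        centralizer_eSub seven_dvd] at hzd
      exact Subgroup.mem_bot.mp hzd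
  · refine ⟨(default : Sylow ℓ J), Sylow.not_dvd_index _, fun Γ _ _ σ hσ hc z hz hzd _ => ?_⟩
    haveI : IsCyclic ((default : Sylow ℓ J) : Subgroup J) := by
      have hP := (default : Sylow ℓ J).card_eq_multiplicity
      rw [card_eq] at hP
      rcases Nat.le_one_iff_eq_zero_or_eq_one.mp (small hℓ h2) with hf | hf
      · rw [hf, pow_zero] at hP
        have : Subsingleton ((default : Sylow ℓ J) : Subgroup J) := (Nat.card_eq_one_iff_unique.1 hP).1
        exact isCyclic_of_subsingleton
      · rw [hf, pow_one] at hP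
        exact isCyclic_of_prime_card hP
    rw [CfsgLib.Schur.preimage_commutator_eq_bot_of_isCyclic σ hc] at hzd
    exact Subgroup.mem_bot.mp hzd

end Cfsg.Agent.S2039
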