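import Cfsg.Statements.S2065
import Cfsg.Agent.Lib.J1.OutCert
import Cfsg.Agent.Lib.Golay.AutTwoCore

set_option autoImplicit false
open Cfsg

namespace Cfsg.Agent.S2065

open CfsgLib.J1 CfsgLib.J1.OutCert CfsgLib.J1.CentData

theorem matJ_one : matJ (1 : J) = 1 := rfl

theorem matJ_pow (a : J) : ∀ n : ℕ, matJ (a ^ n) = matJ a ^ n := by
  intro n
  induction n with
  | zero => rw [pow_zero, pow_zero, matJ_one]
  | succ n ih => rw [pow_succ, pow_succ, matJ_mul, ih]

theorem canon_one : Canon oneCode := by decide +kernel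

theorem exists_word {w : List Bool} {c : List ℕ} {t : ℕ} (h : chainOK codeX codeY w c t) :
    ∃ a : J, matJ a = mat t := by
  obtain ⟨h0, hend, hstep⟩ := h
  have : ∀ i, i ≤ w.length → InJ1 (c.getD i 0) := by
    intro i
    induction i with
    | zero => intro _; rw [h0]; exact inJ1_one
    | succ i ih =>
      intro hi
      have hs := hstep ⟨i, by omega⟩
      split at hs
      · exact inJ1_mul (ih (by omega)) inJ1_Y hs
      · exact inJ1_mul (ih (by omega)) inJ1_X hs
  obtain ⟨z, hz, e⟩ := this _ le_rfl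
  exact ⟨⟨z, hz⟩, by rw [← hend]; exact e⟩

theorem exists_C {k : ℕ} (hk : k < cent2.nC) {t : ℕ} (h : cent2.C k = t) : ∃ a : J, matJ a = mat t := by
  obtain ⟨z, hz, e⟩ := inJ1_C cent2_good ⟨k, hk⟩
  exact ⟨⟨z, hz⟩, h ▸ e⟩

theorem pow_table {a : J} {c n : ℕ} {l : List ℕ} (ha : matJ a = mat c) (h0 : l.getD 0 0 = oneCode)
    (hs : ∀ i : Fin n, ok (l.getD i 0) c (l.getD (i + 1) 0)) :
    ∀ e ≤ n, matJ (a ^ e) = mat (l.getD e 0) := by
  intro e
  induction e with
  | zero => intro _; rw [pow_zero, h0, mat_one, matJ_one]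
  | succ e ih => intro he; rw [pow_succ, matJ_mul, ih (by omega), ha, mat_mul (hs ⟨e, by omega⟩)]

theorem pow_list {a : J} {l : List ℕ} {o n : ℕ} (ha : matJ a = mat (l.getD o 0))
    (hs : ∀ i : Fin n, ok (l.getD (o + i) 0) (l.getD o 0) (l.getD (o + i + 1) 0)) :
    ∀ e ≤ n, matJ (a ^ (e + 1)) = mat (l.getD (o + e) 0) := by
  intro e
  induction e with
  | zero => intro _; rw [zero_add, pow_one, Nat.add_zero, ha]
  | succ e ih =>
    intro he
    rw [pow_succ, matJ_mul, ih (by omega), ha, mat_mul (hs ⟨e, by omega⟩)]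
    rfl

/-- The outer automorphism group of the Janko group J₁ (the group generated by two explicit 7 × 7 matrices over the integers modulo 11) is trivial: every automorphism is inner. -/
theorem result : Nat.card (Cfsg.Out ↥Cfsg.Spor.J1) = 1 := by
  obtain ⟨X, hX⟩ := exists_word words_ok.1
  obtain ⟨g, hg⟩ := exists_word words_ok.2.1
  obtain ⟨Y, hY⟩ := exists_C (k := 16) (by decide +kernel) mem_ok.1
  obtain ⟨Z, hZ⟩ := exists_C (k := 26) (by decide +kernel) mem_ok.2.1
  obtain ⟨⟨hx0, hx1, hx11, hxs⟩, hy0, hy1, hy5, hy6, hys⟩ := pows_ok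
  have hXp := pow_table hX hx0 hxs
  have hYp := pow_table hY hy0 hys
  haveI : Fact (Nat.Prime 11) := ⟨by norm_num⟩
  haveI : Finite J := Nat.finite_of_card_ne_zero (by rw [card_eq]; norm_num)
  have hcanX : Canon xC := by
    have := hxs ⟨0, by norm_num⟩
    exact hx1 ▸ canon_of_ok this
  have hX1 : X ≠ 1 := fun h => mem_ok.2.2.2.2.1 (mat_inj hcanX canon_one (by
    rw [← hX, h, mat_one, matJ_one]))
  have hxo : orderOf X = 11 := orderOf_eq_prime (matJ_inj (by
    rw [hXp 11 le_rfl, hx11, mat_one, matJ_one])) hX1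
  have ht : Y ^ 5 = elem cent2_good := matJ_inj (by
    rw [hYp 5 (by norm_num), hy5]
    exact (elem_mat cent2_good).symm)
  obtain ⟨hyx, hxy, hgz, hzg, hgx, hxg⟩ := prods_ok
  refine CfsgLib.Golay.AutTwo.out_eq_one (p := 11) (n := 15960) X Y Z (by rw [card_eq]) (by norm_num) hxo
    (fun w hw => ?_) 6 ?_ (by norm_num) (by norm_num) ?_ (fun φ hφ => ?_) 1 (fun φ k hk hφx hφz => ?_) rfl
  · -- the centralizer
    obtain ⟨v, hv⟩ := conj_zpowers (q := 11) (by norm_num) hxo elem11
    obtain ⟨i, hi⟩ := Subgroup.mem_zpowers_iff.1 hv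
    have hcomm : (v⁻¹ * w * v) * elem cent11_good = elem cent11_good * (v⁻¹ * w * v) := by
      have hce : elem cent11_good = v⁻¹ * X ^ i * v := by rw [hi]; group
      have hcw : w * X ^ i = X ^ i * w := ((show Commute w X from hw).zpow_right i).eq
      rw [hce]
      calc v⁻¹ * w * v * (v⁻¹ * X ^ i * v) = v⁻¹ * (w * X ^ i) * v := by group
        _ = _ := by rw [hcw]; group
    obtain ⟨k, hk⟩ := mem_list cent11_good hcomm
    obtain ⟨e, he, hee⟩ := cent11_powers ⟨k, lt_of_lt_of_eq k.2 mem_ok.2.2.2.2.2.2⟩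
    have hpe : v⁻¹ * w * v = elem cent11_good ^ (e : ℕ) := matJ_inj (by
      rw [matJ_pow, show matJ (elem cent11_good) = mat (cent11.C cent11.self) by
        rw [cent11_good.goodC.2.2.2.1]; exact elem_mat cent11_good,
        mat_pow_C cent11_good ⟨cent11.self, cent11_good.goodC.2.1⟩ e hee]
      refine hk.trans ?_
      exact congrArg (fun t => mat (cent11.C t)) he.symm)
    have hw' : w = X ^ (i * (e : ℕ)) := by
      rw [zpow_mul, hi, zpow_natCast, conj_pow, ← hpe]; group
    exact hw' ▸ Subgroup.zpow_mem _ (Subgroup.mem_zpowers X) _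
  · exact matJ_inj (by rw [matJ_mul, matJ_mul, hY, hX, hXp 6 (by norm_num), mat_mul hyx, mat_mul hxy])
  · -- generation
    have hmem : ∀ {w : List Bool} {c : List ℕ} {t : ℕ}, chainOK xC zC w c t →
        ∀ a : J, matJ a = mat t → a ∈ Subgroup.closure ({X, Z} : Set J) := by
      intro w c t h a ha
      obtain ⟨h0, hend, hstep⟩ := h
      have : ∀ i, i ≤ w.length → ∃ b ∈ Subgroup.closure ({X, Z} : Set J), matJ b = mat (c.getD i 0) := by
        intro i
        induction i with
        | zero => intro _; exact ⟨1, one_mem _, by rw [h0, mat_one, matJ_one]⟩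
        | succ i ih =>
          intro hi
          obtain ⟨b, hb, hbm⟩ := ih (by omega)
          have hs := hstep ⟨i, by omega⟩
          split at hs
          · exact ⟨b * Z, mul_mem hb (Subgroup.subset_closure (by simp)), by rw [matJ_mul, hbm, hZ, mat_mul hs]⟩
          · exact ⟨b * X, mul_mem hb (Subgroup.subset_closure (by simp)), by rw [matJ_mul, hbm, hX, mat_mul hs]⟩
      obtain ⟨b, hb, hbm⟩ := this _ le_rfl
      rwa [show a = b from matJ_inj (by rw [ha, hbm, hend])]
    rw [eq_top_iff]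
    rintro ⟨a, ha⟩ -
    induction ha using Subgroup.closure_induction with
    | mem a ha =>
      rcases ha with rfl | rfl
      · exact hmem words_ok.2.2.1 _ jankoX_mat
      · exact hmem words_ok.2.2.2 _ jankoY_mat
    | one => exact one_mem _
    | mul a b _ _ iha ihb => exact mul_mem iha ihb
    | inv a _ iha => exact inv_mem iha
  · -- the image of `Z`
    have hZt : Z * elem cent2_good = elem cent2_good * Z := by
      refine matJ_inj ?_
      rw [matJ_mul, matJ_mul, hZ, show matJ (elem cent2_good) = mat cent2.g from elem_mat cent2_good,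
        ← mem_ok.2.1]
      exact commutes_self ⟨26, by decide +kernel⟩
    have hcomm : φ Z * elem cent2_good = elem cent2_good * φ Z := by
      have h2 : φ (elem cent2_good) = elem cent2_good := by rw [← ht, map_pow, hφ]
      have := congrArg φ hZt
      rwa [map_mul, map_mul, h2] at this
    obtain ⟨k, hk⟩ := mem_list cent2_good hcomm
    have hk120 : k.val < 120 := lt_of_lt_of_eq k.2 mem_ok.2.2.2.1
    obtain ⟨c2, c3, p, q, hcase⟩ := cubes_ok ⟨k.val, hk120⟩
    obtain ⟨d2, d3, dp, dq, -⟩ := cubes_ok ⟨26, by norm_num⟩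
    rw [mem_ok.2.1] at d2 d3 dp
    have hu : matJ (Y ^ 6) = mat uC := by rw [hYp 6 (by norm_num), hy6]
    have hZ3 : Z ^ 3 = 1 := matJ_inj (by
      rw [pow_succ, pow_two, matJ_mul, matJ_mul, hZ, mat_mul d2, mat_mul d3, z_ok.1, mat_one, matJ_one])
    have hZu : (Y ^ 6 * Z) ^ 2 = 1 := matJ_inj (by
      rw [pow_two, matJ_mul, matJ_mul, hu, hZ, mat_mul dp, mat_mul dq, z_ok.2.1, mat_one, matJ_one])
    have h3 : φ Z ^ 3 = 1 := by rw [← map_pow, hZ3, map_one]
    have h2 : (Y ^ 6 * φ Z) ^ 2 = 1 := by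
      have := congrArg φ hZu
      rwa [map_pow, map_mul, map_pow, hφ, map_one] at this
    rcases hcase with h | h | h | ⟨t, ht', htk⟩
    · refine absurd (mat_inj (canon_of_ok c3) canon_one ?_) h
      rw [← mat_mul c3, ← mat_mul c2, ← hk, mat_one, ← matJ_one, ← h3, pow_succ, pow_two, matJ_mul, matJ_mul]
    · refine absurd (mat_inj (canon_of_ok q) canon_one ?_) h
      rw [← mat_mul q, ← mat_mul p, ← hk, mat_one, ← matJ_one, ← h2, pow_two, matJ_mul, matJ_mul, hu]
    · exfalso
      have hone : φ Z = 1 := matJ_inj (by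
        show ((φ Z : GM) : Mat) = _
        rw [hk, show k.val = cent2.one from h.trans mem_ok.2.2.2.2.2.1.symm, cent2_good.goodC.2.2.1,
          mat_one, matJ_one])
      rw [map_eq_one_iff _ φ.injective] at hone
      exact z_ok.2.2 (mat_inj (mem_ok.2.1 ▸ canonC ⟨26, by decide +kernel⟩) canon_one
        (by rw [← hZ, hone, mat_one, matJ_one]))
    · obtain ⟨-, hj, hA, hB⟩ := zClass_ok t ht'
      refine ⟨t.2.1, eq_mul_inv_iff_mul_eq.2 (matJ_inj ?_)⟩
      rw [matJ_mul, matJ_mul, hYp _ (by omega), hZ, mat_mul hB, ← mat_mul hA, htk]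
      exact congrArg (· * _) hk
  · -- the exponent
    have hmod : ∀ n : ℕ, X ^ n = X ^ (n % 11) := fun n => by conv_lhs => rw [← pow_mod_orderOf, hxo]
    have hk0 : k % 11 ≠ 0 := fun h => hk (Nat.dvd_of_mod_eq_zero h)
    rw [hmod k]
    by_cases h1 : k % 11 = 1
    · exact ⟨1, by simp, Or.inl (by rw [h1]; simp)⟩
    by_cases h10 : k % 11 = 10
    · refine ⟨g, ?_, Or.inl ?_⟩
      · rw [mul_inv_eq_iff_eq_mul]
        exact matJ_inj (by rw [matJ_mul, matJ_mul, hg, hZ, mat_mul hgz, mat_mul hzg])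
      · rw [h10, mul_inv_eq_iff_eq_mul]
        exact matJ_inj (by rw [matJ_mul, matJ_mul, hg, hX, hXp 10 (by norm_num), mat_mul hgx, mat_mul hxg])
    exfalso
    obtain ⟨hrelk, hrela⟩ := rel_ok
    obtain ⟨hk1, hks, hkne⟩ := hrelk ⟨k % 11 - 1, by omega⟩
    set a := relExp (k % 11) with ha
    have haa : a = 1 ∨ a = 2 := by rw [ha, relExp]; split <;> simp
    obtain ⟨ha1, has, haone⟩ := hrela ⟨a - 1, by omega⟩
    simp only [show k % 11 - 1 + 1 = k % 11 by omega, ← ha] at hk1
    simp only [show a - 1 + 1 = a by omega] at ha1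
    have hbase : (X ^ a * Z) ^ 10 = 1 := matJ_inj (by
      rw [pow_list (l := relPow) (o := 100 + 10 * (a - 1)) (by rw [matJ_mul, hXp a (by omega), hZ, mat_mul ha1]) has 9 le_rfl,
        haone, mat_one, matJ_one])
    have himg := congrArg φ hbase
    rw [map_pow, map_mul, map_pow, map_one, hφx, hφz, hmod k, ← pow_mul, hmod (k % 11 * a)] at himg
    refine (hkne.resolve_left (by simp; omega)).resolve_left (by simp; omega) ?_
    refine mat_inj (canon_of_ok (hks ⟨8, by norm_num⟩)) canon_one ?_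
    rw [mat_one, ← matJ_one, ← himg,
      pow_list (l := relPow) (o := 10 * (k % 11 - 1)) (by rw [matJ_mul, hXp _ (by omega), hZ, mat_mul hk1]) hks 9 le_rfl]

end Cfsg.Agent.S2065
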