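import Cfsg.Statements.S4485
import Cfsg.Agent.Lib.Blocks.AbelianFrobeniusSmall

set_option autoImplicit false
set_option linter.style.haveILetI false
open Cfsg
open scoped ComplexConjugate CfsgLib.Char
open CfsgLib.Blocks

section Helpers

universe u

/-- The induction. -/
theorem small_normal {p : ℕ} [Fact p.Prime] (n : ℕ) : ∀ (G : Type u) [Group G] [Fintype G],
    Nat.card G = n → ∀ P : Sylow p G, AbelianFrob.UniformCent P → ∀ χ : G → ℂ, IsCharacter G χ →
      (∀ g : G, χ g = χ 1 → g = 1) → ∀ d : ℕ, χ 1 = d → d ^ 2 + 2 ≤ Nat.card P →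
      (P : Subgroup G).Normal := by
  classical
  induction n using Nat.strong_induction_on with
  | _ n IH =>
    intro G _ _ hG P hU χ hχ hfaith d hd hdeg
    refine AbelianFrob.sylow_normal_of_small hU hχ hfaith hd hdeg fun K hK hle => ?_
    haveI := Fintype.ofFinite K
    have hlt : Nat.card K < n := by
      rw [← hG]
      exact lt_of_le_of_ne (Subgroup.card_le_card_group K) fun e => hK (Subgroup.eq_top_of_card_eq K e)
    refine IH _ hlt K rfl (P.subtype hle) ?_ (fun k : K => χ k) (CfsgLib.Char.isCharacter_restrict K hχ)
      (fun g hg => Subtype.ext (hfaith g hg)) d hd ?_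
    · intro x hx hx1
      have hC := hU (x : G) hx fun e => hx1 (Subtype.ext e)
      ext c
      rw [Subgroup.mem_centralizer_singleton_iff, Subgroup.mem_centralizer_iff]
      constructor
      · intro hc y hy
        have hm : (c : G) ∈ Subgroup.centralizer ({(x : G)} : Set G) :=
          Subgroup.mem_centralizer_singleton_iff.mpr (congrArg Subtype.val hc)
        rw [hC] at hm
        exact Subtype.ext (Subgroup.mem_centralizer_iff.mp hm y hy)
      · intro hc
        exact (hc x hx).symm
    · exact hdeg.trans (le_of_eq (Nat.card_congr (Subgroup.subgroupOfEquivOfLe hle).toEquiv).symm)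

end Helpers


namespace Cfsg.Agent.S4485

/-- Let G be a finite group and p a prime dividing its order such that every non-identity element of a Sylow p-subgroup P has the same centralizer as P itself (so P is abelian); let p^n be the order of P. If G has a faithful character of degree x with x² < p^n − 1, then P is normal in G. -/
theorem result {G : Type*} [Group G] [Finite G] (p : ℕ) (hp : p.Prime) (hpG : p ∣ Nat.card G) (P : Sylow p G) (hstar : ∀ x ∈ (P : Subgroup G), x ≠ 1 → Subgroup.centralizer ({x} : Set G) = Subgroup.centralizer ((P : Subgroup G) : Set G)) (n : ℕ) (hn : Nat.card P = p ^ n) (χ : G → ℂ) (hχ : Cfsg.IsCharacter G χ) (hfaith : ∀ g : G, χ g = χ 1 → g = 1) (hdeg : Cfsg.charDegree χ ^ 2 + 1 < p ^ n) : (P : Subgroup G).Normal := by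
  classical
  haveI : Fact p.Prime := ⟨hp⟩
  letI := Fintype.ofFinite G
  obtain ⟨d, hd⟩ := CfsgLib.Char.exists_nat_degree hχ
  have hdd : Cfsg.charDegree χ = d := by
    simp [Cfsg.charDegree, hd]
  exact small_normal (Nat.card G) G rfl P hstar χ hχ hfaith d hd (by rw [hn]; rw [hdd] at hdeg; omega)

end Cfsg.Agent.S4485
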