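import Cfsg.Statements.S4958
import Cfsg.Agent.Lib.KGV.Count
import Cfsg.Agent.Lib.Blocks.Sections
import Cfsg.Agent.Lib.Blocks.BrauerFeit
import Cfsg.Agent.Lib.Char.Extraspecial

set_option linter.style.haveILetI false

set_option autoImplicit false
open Cfsg CfsgLib
open scoped CfsgLib.Char

namespace Cfsg.Agent.S4958

/-- Let X be a finite group and V a normal subgroup of X in which every element has order dividing the prime p, whose index in X is prime to p and which is its own centralizer in X; so V is an elementary abelian normal Sylow p-subgroup, and any complement G to V in X is a group of order prime to p acting faithfully on the vector space V by conjugation (the coprime linear setting of the k(GV) problem). Let G be a complement to V in X and suppose that for some v in V the centralizer of v in G is abelian. Then the number of conjugacy classes of X is at most the order of V (the abelian-stabilizer criterion for the k(GV) problem). -/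
theorem result {X : Type*} [Group X] [Finite X] (p : ℕ) [Fact p.Prime] (V : Subgroup X) [V.Normal] (hVexp : ∀ v ∈ V, v ^ p = 1) (hidx : ¬ p ∣ V.index) (hself : Subgroup.centralizer (V : Set X) = V) (G : Subgroup X) (hGV : Subgroup.IsComplement' V G) (v : X) (hv : v ∈ V) (hab : ∀ a ∈ G ⊓ Subgroup.centralizer ({v} : Set X), ∀ b ∈ G ⊓ Subgroup.centralizer ({v} : Set X), a * b = b * a) : Nat.card (ConjClasses X) ≤ Nat.card V := by
  classical
  haveI : Fintype X := Fintype.ofFinite X
  have hp : p.Prime := Fact.out
  set A : Subgroup X := G ⊓ Subgroup.centralizer ({v} : Set X) with hAdef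
  letI : CommGroup A :=
    { (inferInstance : Group A) with mul_comm := fun a b => Subtype.ext (hab a a.2 b b.2) }
  have hcommV : ∀ a ∈ V, ∀ b ∈ V, a * b = b * a := fun a ha b hb => by
    have hb' : b ∈ Subgroup.centralizer (V : Set X) := by rw [hself]; exact hb
    exact Subgroup.mem_centralizer_iff.mp hb' a ha
  letI : CommGroup V :=
    { (inferInstance : Group V) with mul_comm := fun a b => Subtype.ext (hcommV a a.2 b b.2) }
  letI : MulDistribMulAction A V :=
    MulDistribMulAction.compHom V ((MulAut.conjNormal (H := V)).comp A.subtype)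
  have hsmul : ∀ (a : A) (w : V), ((a • w : V) : X) = (a : X) * w * (a : X)⁻¹ := fun a w =>
    MulAut.conjNormal_apply _ w
  have hcomm : ∀ a : A, Commute v (A.subtype a) := fun a =>
    (Subgroup.mem_centralizer_iff.mp a.2.2 v rfl)
  have hpA : ¬ p ∣ Nat.card A := fun h => hidx (by
    rw [hGV.symm.index_eq_card]
    exact h.trans (Subgroup.card_dvd_of_le inf_le_left))
  have hpV : IsPGroup p V := fun w => ⟨1, Subtype.ext (by
    rw [pow_one, SubmonoidClass.coe_pow, OneMemClass.coe_one]; exact hVexp w w.2)⟩
  obtain ⟨l, hl, hwt⟩ := KGV.exists_layers (A := A) (V := V) hpV hpA ⊤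
    (fun _ _ _ => Subgroup.mem_top _)
  refine KGV.card_conjClasses_le (v := v) A.subtype hcomm l ?_ ?_ (Nat.card V) ?_
  · intro a ha
    have hfix := hl a ha
    have haV : (a : X) ∈ V := by
      rw [← hself, Subgroup.mem_centralizer_iff]
      intro w hw
      have h := congrArg Subtype.val (hfix ⟨w, hw⟩ (Subgroup.mem_top _))
      rw [hsmul] at h
      exact (mul_inv_eq_iff_eq_mul.mp h).symm
    exact Subtype.ext ((Subgroup.disjoint_def.mp hGV.disjoint) haV a.2.1)
  · intro χ h0
    obtain ⟨M, hM⟩ := Blocks.exists_isPModular hp
    haveI := Blocks.isPrime_of_isPModular hM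
    obtain ⟨d, -, hd⟩ := Char.exists_nat_degree_irr χ.2
    have hdvd : ¬ p ∣ d := fun h => hidx (h.trans (Char.Extraspecial.ito χ.2 V hcommV hd))
    have hord : ∃ k : ℕ, orderOf v = p ^ k := by
      obtain ⟨k, _, hk⟩ := (Nat.dvd_prime_pow hp).mp
        (orderOf_dvd_of_pow_eq_one (show v ^ p ^ 1 = 1 by rw [pow_one]; exact hVexp v hv))
      exact ⟨k, hk⟩
    have h := Blocks.memLocalIdeal_value_mul_pElement_iff hM χ.2 (Commute.one_right v) hord
    rw [mul_one, h0, hd] at h
    have h := (Blocks.memLocalIdeal_natCast_iff hM).mp (h.mp (Blocks.memLocalIdeal_zero))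
    exact hdvd h
  · intro a
    have hle : Nat.card (Subgroup.centralizer ({v * A.subtype a} : Set X)) ≤
        Nat.card (KGV.fixIn (⊤ : Subgroup V) a) * Nat.card A := by
      have key : ∀ y : Subgroup.centralizer ({v * A.subtype a} : Set X),
          ∃ wg : KGV.fixIn (⊤ : Subgroup V) a × A, (y : X) = ((wg.1 : V) : X) * (wg.2 : X) := by
        rintro ⟨y, hy⟩
        rw [Subgroup.mem_centralizer_singleton_iff] at hy
        have hva : Commute v (a : X) := hcomm a
        have hy' : Commute y (v * (a : X)) := hy
        have hyv : Commute y v := by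
          have hk : Nat.Coprime (orderOf (a : X)) p := by
            refine ((hp.coprime_iff_not_dvd).mpr fun h => hpA (h.trans ?_)).symm
            rw [orderOf_submonoid]
            exact orderOf_dvd_natCard a
          have h1 : Commute y (v ^ orderOf (a : X)) := by
            have := hy'.pow_right (orderOf (a : X))
            rwa [hva.mul_pow, pow_orderOf_eq_one, mul_one] at this
          obtain ⟨m, hm⟩ := exists_pow_eq_self_of_coprime (x := v)
            (Nat.Coprime.coprime_dvd_right (orderOf_dvd_of_pow_eq_one (hVexp v hv)) hk)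
          rw [← hm]
          exact h1.pow_right m
        have hya : Commute y (a : X) := by
          have := hyv.inv_right.mul_right hy'
          rwa [inv_mul_cancel_left] at this
        obtain ⟨⟨⟨w, hw⟩, ⟨g, hg⟩⟩, hwg⟩ := hGV.2 y
        simp only at hwg
        have hg' : g = w⁻¹ * y := by rw [← hwg, inv_mul_cancel_left]
        have hgv : Commute g v := by
          rw [hg']
          exact (Commute.inv_left (hcommV w hw v hv)).mul_left hyv
        have hgA : g ∈ A := ⟨hg, Subgroup.mem_centralizer_singleton_iff.mpr hgv⟩
        have hag : Commute (a : X) g := congrArg Subtype.val (mul_comm a ⟨g, hgA⟩)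
        have haw : Commute (a : X) w := by
          have := hya.symm.mul_right hag.inv_right
          rwa [← hwg, mul_inv_cancel_right] at this
        refine ⟨⟨⟨⟨w, hw⟩, Subgroup.mem_top _, Subtype.ext ?_⟩, ⟨g, hgA⟩⟩, hwg.symm⟩
        rw [hsmul, mul_inv_eq_iff_eq_mul]
        exact haw
      choose F hF using key
      rw [← Nat.card_prod]
      exact Nat.card_le_card_of_injective F fun y z h => Subtype.ext (by rw [hF y, hF z, h])
    have h1 := hwt a
    rw [Subgroup.card_top] at h1
    calc _ ≤ KGV.wt l a * (Nat.card (KGV.fixIn (⊤ : Subgroup V) a) * Nat.card A) :=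
          Nat.mul_le_mul_left _ hle
      _ = KGV.wt l a * Nat.card (KGV.fixIn (⊤ : Subgroup V) a) * Nat.card A := (mul_assoc _ _ _).symm
      _ ≤ 2 ^ l.length * Nat.card V * Nat.card A := Nat.mul_le_mul_right _ h1
      _ = _ := by rw [Nat.card_eq_fintype_card (α := A), mul_assoc]

end Cfsg.Agent.S4958
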