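import Cfsg.Statements.S4965
import Mathlib


set_option autoImplicit false
open Cfsg

namespace Cfsg.Agent.S4965

/-- Let X be a finite group with an abelian normal subgroup V (any two elements of V commute), and let φ be the action of X ⧸ V on V induced by conjugation (well defined because V is abelian; the hypothesis hφ says that the class of x acts as conjugation by x). Then X has at most as many conjugacy classes as the semidirect product of V by X ⧸ V formed with this action: the split extension has the largest class number among extensions with the given action. -/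
theorem result {X : Type*} [Group X] [Finite X] (V : Subgroup X) [V.Normal] (hab : ∀ a ∈ V, ∀ b ∈ V, a * b = b * a) (φ : X ⧸ V →* MulAut ↥V) (hφ : ∀ (x : X) (v : ↥V), ((φ (QuotientGroup.mk x) v : ↥V) : X) = x * v * x⁻¹) : Nat.card (ConjClasses X) ≤ Nat.card (ConjClasses (SemidirectProduct ↥V (X ⧸ V) φ)) := by
  classical
  haveI := Fintype.ofFinite X
  haveI : Finite (SemidirectProduct ↥V (X ⧸ V) φ) := Finite.of_equiv _ SemidirectProduct.equivProd.symm
  let Y := SemidirectProduct ↥V (X ⧸ V) φ
  let π : X →* X ⧸ V := QuotientGroup.mk' V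
  let P : Type _ := {p : X × X // Commute p.1 p.2}
  let base : (X ⧸ V) × (X ⧸ V) → X × X := fun q =>
    if h : ∃ p : P, (π p.1.1, π p.1.2) = q then h.choose.1 else 1
  have hbase : ∀ p : P, Commute (base (π p.1.1, π p.1.2)).1 (base (π p.1.1, π p.1.2)).2 ∧
      π (base (π p.1.1, π p.1.2)).1 = π p.1.1 ∧ π (base (π p.1.1, π p.1.2)).2 = π p.1.2 := by
    intro p
    have h : ∃ r : P, (π r.1.1, π r.1.2) = (π p.1.1, π p.1.2) := ⟨p, rfl⟩
    have hb : base (π p.1.1, π p.1.2) = h.choose.1 := by simp only [base]; exact dif_pos h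
    rw [hb]
    exact ⟨h.choose.2, congrArg Prod.fst h.choose_spec, congrArg Prod.snd h.choose_spec⟩
  have hmem : ∀ a a0 : X, π a0 = π a → a * a0⁻¹ ∈ V := fun a a0 h => by
    rw [← QuotientGroup.eq_one_iff]
    show π (a * a0⁻¹) = 1
    rw [map_mul, map_inv, h, mul_inv_cancel]
  let f : P → {p : Y × Y // Commute p.1 p.2} := fun p => ⟨(⟨⟨p.1.1 * (base (π p.1.1, π p.1.2)).1⁻¹, hmem _ _ (hbase p).2.1⟩, π p.1.1⟩,
      ⟨⟨p.1.2 * (base (π p.1.1, π p.1.2)).2⁻¹, hmem _ _ (hbase p).2.2⟩, π p.1.2⟩), by
    obtain ⟨hc, h1, h2⟩ := hbase p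
    set a := p.1.1
    set b := p.1.2
    set a0 := (base (π a, π b)).1
    set b0 := (base (π a, π b)).2
    show _ * _ = _ * _
    refine SemidirectProduct.ext (Subtype.ext ?_) ?_
    · show a * a0⁻¹ * ((φ (π a) ⟨b * b0⁻¹, hmem _ _ h2⟩ : V) : X) = b * b0⁻¹ * ((φ (π b) ⟨a * a0⁻¹, hmem _ _ h1⟩ : V) : X)
      have e1 : ∀ (x x0 : X) (v : V), π x0 = π x → ((φ (π x) v : V) : X) = x0 * v * x0⁻¹ := fun x x0 v h => by rw [← h]; exact hφ x0 v
      rw [e1 a a0 _ h1, e1 b b0 _ h2]
      calc a * a0⁻¹ * (a0 * (b * b0⁻¹) * a0⁻¹) = a * b * (a0 * b0)⁻¹ := by group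
        _ = b * a * (b0 * a0)⁻¹ := by rw [show a * b = b * a from p.2, show a0 * b0 = b0 * a0 from hc]
        _ = _ := by group
    · show π a * π b = π b * π a
      rw [← map_mul, ← map_mul, show a * b = b * a from p.2]⟩
  have hf : Function.Injective f := by
    intro p r h
    have h1 := congrArg (fun s => (s.1.1.right, s.1.2.right)) h
    have h2 := congrArg (fun s => ((s.1.1.left : X), (s.1.2.left : X))) h
    simp only [f, Prod.mk.injEq] at h1 h2
    rw [h1.1, h1.2] at h2
    exact Subtype.ext (Prod.ext (mul_right_cancel h2.1) (mul_right_cancel h2.2))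
  have hle := Nat.card_le_card_of_injective f hf
  rw [card_comm_eq_card_conjClasses_mul_card, card_comm_eq_card_conjClasses_mul_card, SemidirectProduct.card,
    ← Subgroup.index_eq_card, Subgroup.card_mul_index] at hle
  exact Nat.le_of_mul_le_mul_right hle Nat.card_pos
end Cfsg.Agent.S4965
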