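import Cfsg.Statements.S3339
import Cfsg.Agent.Lib.AltNineThree.Create
import Cfsg.Agent.Lib.AltNineThree.CaseC
import Cfsg.Agent.Lib.AltNineThree.Whole

set_option autoImplicit false
open Cfsg

namespace Cfsg.Agent.S3339

open CfsgLib.AltNineThree CfsgLib.AltNineThree.E9

theorem weight_one : allJ (fun j => Nat.beq j 0 || two j ||
    (List.range 24).any fun w => Nat.beq (conjC (27 * w) 1) j) = true := by decide +kernel

/-- A 3-local characterization of the alternating group of degree 9. Let G be a finite group and J ≤ G an elementary abelian subgroup of order 27 whose normalizer H = N_G(J) is isomorphic to the normalizer, in the alternating group of degree 9, of the subgroup generated by three disjoint 3-cycles. If O_{3'}(C_G(x)) = 1 for every element x of order 3 in H, then either G = H or G is isomorphic to the alternating group of degree 9. -/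
theorem result {G : Type*} [Group G] [Finite G]
    (J : Subgroup G) (hJcomm : IsMulCommutative J) (hJexp : ∀ a ∈ J, a ^ 3 = 1) (hJcard : Nat.card J = 27)
    (H : Subgroup G) (hH : H = Subgroup.normalizer (J : Set G))
    (J₀ : Subgroup (Equiv.Perm (Fin 9)))
    (hJ₀ : J₀ = Subgroup.closure {Equiv.swap (0 : Fin 9) 1 * Equiv.swap 1 2, Equiv.swap (3 : Fin 9) 4 * Equiv.swap 4 5, Equiv.swap (6 : Fin 9) 7 * Equiv.swap 7 8})
    (eH : H ≃* ↥(alternatingGroup (Fin 9) ⊓ Subgroup.normalizer (J₀ : Set (Equiv.Perm (Fin 9)))))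
    (hcores : ∀ x ∈ H, orderOf x = 3 → Cfsg.pPrimeCore 3 (Subgroup.centralizer ({x} : Set G)) = ⊥) :
    H = ⊤ ∨ Nonempty (G ≃* alternatingGroup (Fin 9)) := by
  classical
  subst hJ₀
  obtain ⟨S, hS⟩ := CfsgLib.AltNineThree.exists_setup J hJcomm hJexp hJcard H hH eH hcores
  rcases S.cent_a_cases with hle | ⟨⟨e6⟩⟩
  · refine Or.inl ?_
    have hloc : ∀ j ∈ E9.JE, j ≠ 1 →
        Subgroup.centralizer ({S.Φ j} : Set G) ≤ S.Φ.range := by
      intro j hj hj1
      have h := allJ_spec weight_one (mem_JE.mp hj)
      simp only [Bool.or_eq_true, List.any_eq_true, List.mem_range] at h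
      rcases h with (h | h) | ⟨w, hw, h⟩
      · exact absurd (E9.code_inj (y := 1) (Nat.eq_of_beq_eq_true h)) hj1
      · exact S.cent_two h
      · have e : E9.mk' (27 * w) * E9.aE *
            (E9.mk' (27 * w))⁻¹ = j := E9.code_inj (by
          rw [E9.code_conj, E9.code_mk (by omega),
            E9.code_named.1]
          exact Nat.eq_of_beq_eq_true h)
        rw [← e]
        exact S.cent_conj_le hle
    by_cases hdz : ∃ g : G, g * S.Φ E9.dE * g⁻¹ = S.Φ E9.zE
    · have := Fintype.ofFinite G
      exact (S.case_c hloc hdz).elim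
    · rw [← hS]
      exact S.range_eq_top hloc fun g hg => hdz ⟨g, hg⟩
  · obtain ⟨P⟩ := S.exists_comp e6
    obtain ⟨N⟩ := P.exists_nine
    exact Or.inr N.nonempty_mulEquiv

end Cfsg.Agent.S3339
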