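import Cfsg.Statements.S0355
import Mathlib
import Cfsg.Agent.Lib.Design.Steiner

set_option autoImplicit false
set_option linter.style.haveILetI false
open Cfsg

namespace Cfsg.Agent.S0355

/-- In a Steiner system S(4, 7, 23), two distinct blocks intersect in 1 or 3 points. -/
theorem result {α : Type*} [Fintype α] [DecidableEq α] (hα : Fintype.card α = 23) {B : Set (Finset α)} (hB : Cfsg.IsSteinerSystem 4 7 B) {b c : Finset α} (hb : b ∈ B) (hc : c ∈ B) (hbc : b ≠ c) : (b ∩ c).card = 1 ∨ (b ∩ c).card = 3 := by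
  obtain ⟨B, rfl, hB'⟩ := CfsgLib.Design.exists_finset hB
  have hb' : b ∈ B := hb
  have h0 := CfsgLib.Design.block_moment hB' hb' 0 252 (by norm_num) (fun n hn => by
    rw [hα] at hn; norm_num [Nat.choose] at hn ⊢ <;> omega)
  have h1 := CfsgLib.Design.block_moment hB' hb' 1 76 (by norm_num) (fun n hn => by
    rw [hα] at hn; norm_num [Nat.choose] at hn ⊢ <;> omega)
  have h2 := CfsgLib.Design.block_moment hB' hb' 2 20 (by norm_num) (fun n hn => by
    rw [hα] at hn; norm_num [Nat.choose] at hn ⊢ <;> omega)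
  have h3 := CfsgLib.Design.block_moment hB' hb' 3 4 (by norm_num) (fun n hn => by
    rw [hα] at hn; norm_num [Nat.choose] at hn ⊢ <;> omega)
  simp only [Finset.sum_range_succ, Finset.sum_range_zero, zero_add] at h0 h1 h2 h3
  norm_num [Nat.choose, -Finset.card_eq_zero] at h0 h1 h2 h3
  have hmem : c ∈ (B.erase b).filter (fun d => (b ∩ d).card = (b ∩ c).card) :=
    Finset.mem_filter.mpr ⟨Finset.mem_erase.mpr ⟨Ne.symm hbc, hc⟩, rfl⟩
  have hpos := Finset.card_pos.mpr ⟨c, hmem⟩
  have hlt : (b ∩ c).card < 4 := by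
    by_contra hge
    obtain ⟨S, hS, hSc⟩ := Finset.exists_subset_card_eq (not_lt.mp hge)
    obtain ⟨d, -, huniq⟩ := hB.2 S hSc
    exact hbc ((huniq b ⟨hb, hS.trans Finset.inter_subset_left⟩).trans
      (huniq c ⟨hc, hS.trans Finset.inter_subset_right⟩).symm)
  generalize (b ∩ c).card = j at hpos hlt ⊢
  interval_cases j <;> omega

end Cfsg.Agent.S0355
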