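import Cfsg.Statements.S0357
import Mathlib
import Cfsg.Agent.Lib.Design.Steiner

set_option autoImplicit false
set_option linter.style.haveILetI false
open Cfsg

namespace Cfsg.Agent.S0357

/-- In a Steiner system S(5, 6, 12), the complement of every block is again a block. -/
theorem result {α : Type*} [Fintype α] [DecidableEq α] (hα : Fintype.card α = 12) {B : Set (Finset α)} (hB : Cfsg.IsSteinerSystem 5 6 B) {b : Finset α} (hb : b ∈ B) : bᶜ ∈ B := by
  obtain ⟨B, rfl, hB'⟩ := CfsgLib.Design.exists_finset hB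
  have hb' : b ∈ B := hb
  have h0 := CfsgLib.Design.block_moment hB' hb' 0 131 (by norm_num) (fun n hn => by
    rw [hα] at hn; norm_num [Nat.choose] at hn ⊢ <;> omega)
  have h1 := CfsgLib.Design.block_moment hB' hb' 1 65 (by norm_num) (fun n hn => by
    rw [hα] at hn; norm_num [Nat.choose] at hn ⊢ <;> omega)
  have h2 := CfsgLib.Design.block_moment hB' hb' 2 29 (by norm_num) (fun n hn => by
    rw [hα] at hn; norm_num [Nat.choose] at hn ⊢ <;> omega)
  have h3 := CfsgLib.Design.block_moment hB' hb' 3 11 (by norm_num) (fun n hn => by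
    rw [hα] at hn; norm_num [Nat.choose] at hn ⊢ <;> omega)
  have h4 := CfsgLib.Design.block_moment hB' hb' 4 3 (by norm_num) (fun n hn => by
    rw [hα] at hn; norm_num [Nat.choose] at hn ⊢ <;> omega)
  simp only [Finset.sum_range_succ, Finset.sum_range_zero, zero_add] at h0 h1 h2 h3 h4
  norm_num [Nat.choose, -Finset.card_eq_zero] at h0 h1 h2 h3 h4
  have hpos : 0 < ((B.erase b).filter (fun c => (b ∩ c).card = 0)).card := by omega
  obtain ⟨c, hc⟩ := Finset.card_pos.mp hpos
  rw [Finset.mem_filter, Finset.mem_erase, Finset.card_eq_zero,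
    ← Finset.disjoint_iff_inter_eq_empty] at hc
  have he : c = bᶜ := Finset.eq_of_subset_of_card_le
    (fun x hx => Finset.mem_compl.mpr fun hxb => Finset.disjoint_left.mp hc.2 hxb hx)
    (by rw [Finset.card_compl, hα, hB'.1 b hb', hB'.1 c hc.1.2])
  rw [← he]
  exact hc.1.2

end Cfsg.Agent.S0357
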