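import Cfsg.Statements.S0292
import Cfsg.Agent.Lib.Classical.OrthPOrder
import Cfsg.Agent.Lib.Classical.OrthDisc

set_option autoImplicit false
open Cfsg

namespace Cfsg.Agent.S0292

/-- 2 |PΩ_{2m+1}(q)| = q^(m^2) prod_{i=1}^{m} (q^(2i) - 1), for q odd and m at least 3 (type B_m). -/
theorem result {F : Type*} [Field F] [Fintype F] {q : ℕ} (hF : Fintype.card F = q) (hodd : Odd q) (m : ℕ) (hm : 3 ≤ m) : 2 * Nat.card (Cfsg.POmega F (Cfsg.quadFormOdd m F)) = q ^ (m ^ 2) * ∏ i ∈ Finset.range m, (q ^ (2 * (i + 1)) - 1) := by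
  classical
  have h2 : (2 : F) ≠ 0 := Ring.two_ne_zero fun e =>
    Nat.not_even_iff_odd.2 (hF ▸ hodd) (Nat.even_iff.2 (FiniteField.even_card_of_char_two e))
  obtain ⟨Q, hQ, hB⟩ := CfsgLib.Orth.exists_quadForm_odd (F := F) h2 m
  have h := CfsgLib.Orth.card_orth_odd h2 m hQ hB
  rw [Nat.card_eq_fintype_card (α := F), hF] at h
  have hn : Module.finrank F (Unit ⊕ (Fin m ⊕ Fin m) → F) = 2 * m + 1 := by
    rw [Module.finrank_pi, Fintype.card_sum, Fintype.card_sum, Fintype.card_fin, Fintype.card_unit]; omega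
  rw [CfsgLib.Orth.grp_no_neg hB (by omega) h2
    (CfsgLib.Orth.no_neg_of_odd hB h2 ⟨m, hn⟩), mul_assoc (2 : ℕ)] at h
  rw [← hQ]
  omega

end Cfsg.Agent.S0292
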