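import Cfsg.Statements.S4014
import Mathlib


set_option autoImplicit false
set_option linter.style.haveILetI false
open Cfsg

namespace Cfsg.Agent.S4014

open scoped commutatorElement

theorem derivedSeries_add (X : Type*) [Group X] (a b : ℕ) :
    derivedSeries X (a + b) = (derivedSeries ↥(derivedSeries X a) b).map (derivedSeries X a).subtype := by
  induction b with
  | zero => rw [Nat.add_zero, derivedSeries_zero, ← MonoidHom.range_eq_map, Subgroup.range_subtype]
  | succ b ih => rw [← Nat.add_assoc, derivedSeries_succ, derivedSeries_succ, ih, Subgroup.map_commutator]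

theorem derivedSeries_eq_bot_of_injective {X Y : Type*} [Group X] [Group Y] (f : X →* Y)
    (hf : Function.Injective f) {n : ℕ} (h : derivedSeries Y n = ⊥) : derivedSeries X n = ⊥ := by
  rw [← Subgroup.map_eq_bot_iff_of_injective _ hf, eq_bot_iff, ← h]
  exact map_derivedSeries_le_derivedSeries f n

theorem derivedSeries_pi {ι D : Type*} [Group D] {n : ℕ} (h : derivedSeries D n = ⊥) :
    derivedSeries (ι → D) n = ⊥ := by
  rw [eq_bot_iff]
  intro x hx
  rw [Subgroup.mem_bot]
  funext i
  have := map_derivedSeries_le_derivedSeries (Pi.evalMonoidHom (fun _ : ι => D) i) n ⟨x, hx, rfl⟩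
  rw [h, Subgroup.mem_bot] at this
  exact this

section Wreath

variable {D Q : Type*} [Group D] [Group Q]

theorem right_eq_one (hQ : ∀ a b : Q, a * b = b * a) (x : derivedSeries (D ≀ᵣ Q) 1) :
    (x : D ≀ᵣ Q).right = 1 := by
  have h1 : derivedSeries Q 1 = ⊥ := by
    rw [derivedSeries_one, commutator_def, eq_bot_iff, Subgroup.commutator_le]
    intro a _ b _
    rw [Subgroup.mem_bot, commutatorElement_eq_one_iff_mul_comm]
    exact hQ a b
  have := map_derivedSeries_le_derivedSeries (RegularWreathProduct.rightHom (D := D) (Q := Q)) 1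
    ⟨x, x.2, rfl⟩
  rw [h1, Subgroup.mem_bot] at this
  exact this

/-- The derived subgroup inside the base group. -/
def toBase (hQ : ∀ a b : Q, a * b = b * a) : derivedSeries (D ≀ᵣ Q) 1 →* (Q → D) where
  toFun x := (x : D ≀ᵣ Q).left
  map_one' := rfl
  map_mul' x y := by
    funext q
    show (x : D ≀ᵣ Q).left q * (y : D ≀ᵣ Q).left ((x : D ≀ᵣ Q).right⁻¹ * q) = _
    rw [right_eq_one hQ x, inv_one, one_mul]; rfl

theorem toBase_injective (hQ : ∀ a b : Q, a * b = b * a) :
    Function.Injective (toBase (D := D) hQ) := fun x y h =>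
  Subtype.ext (RegularWreathProduct.ext h (by rw [right_eq_one hQ x, right_eq_one hQ y]))

theorem wreath_derived_eq_bot (hQ : ∀ a b : Q, a * b = b * a) {n : ℕ} (h : derivedSeries D n = ⊥) :
    derivedSeries (D ≀ᵣ Q) (n + 1) = ⊥ := by
  rw [Nat.add_comm, derivedSeries_add,
    derivedSeries_eq_bot_of_injective (toBase hQ) (toBase_injective hQ) (derivedSeries_pi h), Subgroup.map_bot]

theorem wreath_derived_ne_bot [Nontrivial Q] (hQ : ∀ a b : Q, a * b = b * a) {n : ℕ}
    (h : derivedSeries D n ≠ ⊥) : derivedSeries (D ≀ᵣ Q) (n + 1) ≠ ⊥ := by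
  classical
  intro he
  rw [Nat.add_comm, derivedSeries_add, Subgroup.map_eq_bot_iff_of_injective _ (Subgroup.subtype_injective _)] at he
  obtain ⟨q, hq⟩ := exists_ne (1 : Q)
  let e := (Pi.evalMonoidHom (fun _ : Q => D) 1).comp (toBase (D := D) hQ)
  have hsurj : Function.Surjective e := by
    intro d
    let u : D ≀ᵣ Q := ⟨Pi.mulSingle 1 d, 1⟩
    let v : D ≀ᵣ Q := RegularWreathProduct.inl q
    have hm : ⁅u, v⁆ ∈ derivedSeries (D ≀ᵣ Q) 1 := by
      rw [derivedSeries_one, commutator_def]
      exact Subgroup.commutator_mem_commutator (Subgroup.mem_top u) (Subgroup.mem_top v)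
    refine ⟨⟨_, hm⟩, ?_⟩
    show (⁅u, v⁆ : D ≀ᵣ Q).left 1 = d
    simp [commutatorElement_def, u, v, Pi.mulSingle_apply, hq]
  have := derivedSeries_le_map_derivedSeries hsurj n
  rw [he, Subgroup.map_bot, le_bot_iff] at this
  exact h this

end Wreath

variable {p : ℕ} [Fact p.Prime]

/-- The cyclic group of order `p`. -/
abbrev Cp (p : ℕ) := Multiplicative (ZMod p)

theorem iterated_eq_bot : ∀ m : ℕ, derivedSeries (IteratedWreathProduct (Cp p) m) m = ⊥ := by
  intro m
  induction m with
  | zero =>
    haveI : Subsingleton (IteratedWreathProduct (Cp p) 0) := inferInstanceAs (Subsingleton PUnit)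
    exact Subsingleton.elim _ _
  | succ m ih => exact wreath_derived_eq_bot (D := IteratedWreathProduct (Cp p) m) (Q := Cp p) (fun a b => mul_comm a b) ih

theorem iterated_ne_bot : ∀ m : ℕ, derivedSeries (IteratedWreathProduct (Cp p) (m + 1)) m ≠ ⊥ := by
  intro m
  induction m with
  | zero =>
    haveI : Nontrivial (IteratedWreathProduct (Cp p) 1) := Finite.one_lt_card_iff_nontrivial.mp (by
      rw [IteratedWreathProduct.card]
      simp [(Fact.out : p.Prime).one_lt])
    rw [derivedSeries_zero]
    exact top_ne_bot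
  | succ m ih => exact wreath_derived_ne_bot (D := IteratedWreathProduct (Cp p) (m + 1)) (Q := Cp p) (fun a b => mul_comm a b) ih


/-- Let p be a prime, n ≥ 1, and P a Sylow p-subgroup of the symmetric group on n letters. Then the derived length of P is exactly k = ⌊log_p n⌋ (the largest k with p^k ≤ n): the k-th derived subgroup of P is trivial and, when k ≥ 1, the (k−1)-st is not. -/
theorem result (p : ℕ) [Fact p.Prime] (n : ℕ) (hn : 1 ≤ n) (P : Sylow p (Equiv.Perm (Fin n))) : derivedSeries ↥(P : Subgroup (Equiv.Perm (Fin n))) (Nat.log p n) = ⊥ ∧ (1 ≤ Nat.log p n → derivedSeries ↥(P : Subgroup (Equiv.Perm (Fin n))) (Nat.log p n - 1) ≠ ⊥) := by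
  set k := Nat.log p n
  have hcard : Nat.card (Cp p) = p := by simp
  constructor
  · rw [eq_bot_iff]
    intro x hx
    rw [Subgroup.mem_bot]
    refine Subtype.ext (Equiv.ext fun a => ?_)
    obtain ⟨j, hj⟩ := P.isPGroup'.card_orbit a
    have hjk : j ≤ k := Nat.le_log_of_pow_le (Fact.out : p.Prime).one_lt (by
      rw [← hj]
      exact (Nat.card_le_card_of_injective (Subtype.val : MulAction.orbit ↥(P : Subgroup (Equiv.Perm (Fin n))) a → Fin n)
        Subtype.val_injective).trans (Nat.card_fin n).le)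
    let ψ := MulAction.toPermHom ↥(P : Subgroup (Equiv.Perm (Fin n))) (MulAction.orbit ↥(P : Subgroup (Equiv.Perm (Fin n))) a)
    obtain ⟨Q, hQ⟩ := (P.isPGroup'.of_surjective ψ.rangeRestrict ψ.rangeRestrict_surjective).exists_le_sylow
    have hQbot : derivedSeries ↥Q.toSubgroup k = ⊥ :=
      le_bot_iff.mp ((derivedSeries_antitone ↥Q.toSubgroup hjk).trans (derivedSeries_eq_bot_of_injective
        (Sylow.mulEquivIteratedWreathProduct p j _ hj (Cp p) hcard Q).toMonoidHom
        (MulEquiv.injective _) (iterated_eq_bot j)).le)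
    have hψ := map_derivedSeries_le_derivedSeries ((Subgroup.inclusion hQ).comp ψ.rangeRestrict) k ⟨x, hx, rfl⟩
    rw [hQbot, Subgroup.mem_bot] at hψ
    have h1 : ψ x = 1 := congrArg Subtype.val hψ
    exact congrArg Subtype.val (Equiv.congr_fun h1 ⟨a, MulAction.mem_orbit_self a⟩)
  · intro hk he
    have hle : p ^ k ≤ n := Nat.pow_log_le_self p (by omega)
    let em : Equiv.Perm (Fin (p ^ k)) →* Equiv.Perm (Fin n) :=
      Equiv.Perm.viaEmbeddingHom (Fin.castLEEmb hle)
    have hem : Function.Injective em := Equiv.Perm.viaEmbeddingHom_injective _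
    obtain ⟨P'⟩ := (inferInstance : Nonempty (Sylow p (Equiv.Perm (Fin (p ^ k)))))
    obtain ⟨R, hR⟩ := (P'.isPGroup'.map em).exists_le_sylow
    let f : ↥(P' : Subgroup (Equiv.Perm (Fin (p ^ k)))) →* ↥(P : Subgroup (Equiv.Perm (Fin n))) :=
      (R.equiv P).toMonoidHom.comp ((Subgroup.inclusion hR).comp (em.subgroupMap _))
    have hf : Function.Injective f := (R.equiv P).injective.comp ((Subgroup.inclusion_injective hR).comp fun u v h =>
      Subtype.ext (hem (congrArg Subtype.val h)))
    have h1 := derivedSeries_eq_bot_of_injective f hf he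
    have h2 := derivedSeries_eq_bot_of_injective
      (Sylow.mulEquivIteratedWreathProduct p k (Fin (p ^ k)) (Nat.card_fin _) (Cp p) hcard P').symm.toMonoidHom
      (MulEquiv.injective _) h1
    obtain ⟨m, hm⟩ : ∃ m, k = m + 1 := ⟨k - 1, by omega⟩
    rw [hm, Nat.add_sub_cancel] at h2
    exact iterated_ne_bot m h2
end Cfsg.Agent.S4014
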