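import Cfsg.Statements.S2861
import Cfsg.Agent.Lib.Asymmetric.Basic
import Cfsg.Agent.Lib.SL2.Unipotent
import Cfsg.Agent.Lib.Suzuki.Structure
import Cfsg.Agent.Lib.Suzuki.Coset
import Cfsg.Agent.Lib.Suzuki.LieEquiv

set_option autoImplicit false
open Cfsg
open scoped Pointwise MatrixGroups
set_option linter.style.haveILetI false

namespace Cfsg.Agent.S2861


section Aux

variable {K K' : Type*} [Group K] [Group K']

theorem elementary_map {p : ℕ} (f : K →* K') {A : Subgroup K} (h : Cfsg.IsElementaryAbelian p A) :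
    Cfsg.IsElementaryAbelian p (A.map f) := by
  refine ⟨⟨⟨?_⟩⟩, ?_⟩
  · rintro ⟨_, a, ha, rfl⟩ ⟨_, b, hb, rfl⟩
    haveI := h.1
    refine Subtype.ext ?_
    show f a * f b = f b * f a
    rw [← map_mul, ← map_mul]
    exact congrArg (fun z : A => f z) (mul_comm' ⟨a, ha⟩ ⟨b, hb⟩)
  · rintro _ ⟨a, ha, rfl⟩
    rw [← map_pow, h.2 a ha, map_one]

theorem map_le_normalizer_map (f : K ≃* K') {A B : Subgroup K}
    (h : A ≤ Subgroup.normalizer (B : Set K)) :
    A.map f.toMonoidHom ≤ Subgroup.normalizer ((B.map f.toMonoidHom : Subgroup K') : Set K') := by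
  rw [← Subgroup.map_equiv_normalizer_eq]
  exact Subgroup.map_mono h

theorem normalizer_map_le (f : K ≃* K') {A B : Subgroup K}
    (h : Subgroup.normalizer (A : Set K) ≤ Subgroup.normalizer (B : Set K)) :
    Subgroup.normalizer ((A.map f.toMonoidHom : Subgroup K') : Set K') ≤
      Subgroup.normalizer ((B.map f.toMonoidHom : Subgroup K') : Set K') := by
  rw [← Subgroup.map_equiv_normalizer_eq, ← Subgroup.map_equiv_normalizer_eq]
  exact Subgroup.map_mono h

theorem le_of_le_normalizer {p : ℕ} (P : Sylow p K) {V : Subgroup K} (hV : IsPGroup p V)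
    (h : (P : Subgroup K) ≤ Subgroup.normalizer (V : Set K)) : V ≤ (P : Subgroup K) :=
  le_sup_right.trans (P.is_maximal' (P.isPGroup'.to_sup_of_normal_right' hV h) le_sup_left).le

/-- An involution generating the group with its conjugates, the normalizer being the only maximal
subgroup above it: the normalizer has order two. -/
theorem two_case [Finite K] (Y V : Subgroup K) (hcard : Nat.card Y = 2)
    (hcl : Subgroup.normalClosure (Y : Set K) = ⊤)
    (hmax : ∀ X : Subgroup K, Y ≤ X → X ≠ ⊤ → X ≤ Subgroup.normalizer (Y : Set K))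
    (hne : Subgroup.normalizer (Y : Set K) ≠ ⊤)
    (hVY : V ≤ Subgroup.normalizer (Y : Set K)) (hV : V ≠ ⊥) : V = Y := by
  obtain ⟨y0, hy01, hy0u⟩ := (Nat.card_eq_two_iff' (1 : Y)).mp hcard
  set y : K := (y0 : K)
  have hy1 : y ≠ 1 := fun e => hy01 (Subtype.ext e)
  have hmem : ∀ z ∈ Y, z = 1 ∨ z = y := by
    intro z hz
    by_cases h : (⟨z, hz⟩ : Y) = 1
    · exact Or.inl (congrArg Subtype.val h)
    · exact Or.inr (congrArg Subtype.val (hy0u _ h))
  have hyy : y * y = 1 := by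
    rcases hmem _ (Y.mul_mem y0.2 y0.2) with h | h
    · exact h
    · exact absurd (mul_eq_left.mp h) hy1
  have hnorm : ∀ g : K, g ∈ Subgroup.normalizer (Y : Set K) → g * y * g⁻¹ = y := by
    intro g hg
    rcases hmem _ ((Subgroup.mem_normalizer_iff.mp hg y).mp y0.2) with h | h
    · exact absurd (conj_eq_one_iff.mp h) hy1
    · exact h
  obtain ⟨k, hk⟩ : ∃ k : K, k * y * k⁻¹ ∉ Subgroup.normalizer (Y : Set K) := by
    by_contra! hall
    refine hne (top_le_iff.mp fun g _ => ?_)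
    have hc : Subgroup.normalClosure (Y : Set K) ≤ Subgroup.centralizer {y} := by
      refine (Subgroup.closure_le _).mpr fun z hz => ?_
      obtain ⟨a, ha, hconj⟩ := Group.mem_conjugatesOfSet_iff.mp hz
      obtain ⟨c, rfl⟩ := isConj_iff.mp hconj
      rcases hmem a ha with rfl | rfl
      · simp
      · rw [SetLike.mem_coe, Subgroup.mem_centralizer_singleton_iff]
        exact (mul_inv_eq_iff_eq_mul.mp (hnorm _ (hall c)))
    have hg : g ∈ Subgroup.centralizer {y} := hc (hcl ▸ Subgroup.mem_top g)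
    rw [Subgroup.mem_centralizer_singleton_iff] at hg
    refine Subgroup.mem_normalizer_fintype fun z hz => ?_
    rcases hmem z hz with rfl | rfl
    · simp
    · rw [hg, mul_inv_cancel_right]; exact y0.2
  set y' : K := k * y * k⁻¹ with hy'
  have hyy' : y' * y' = 1 := by
    rw [hy', show k * y * k⁻¹ * (k * y * k⁻¹) = k * (y * y) * k⁻¹ by group, hyy]; group
  set t : K := y * y' with ht
  have hyi : y⁻¹ = y := inv_eq_of_mul_eq_one_right hyy
  have hyi' : y'⁻¹ = y' := inv_eq_of_mul_eq_one_right hyy'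
  have hinv : ∀ i : ℤ, y * t ^ i * y⁻¹ = t ^ (-i) := by
    intro i
    rw [← conj_zpow, zpow_neg, ← inv_zpow]
    congr 1
    rw [ht, mul_inv_rev, hyi', hyi, ← mul_assoc y y y', hyy, one_mul]
  let D : Subgroup K :=
    { carrier := {g | ∃ i : ℤ, g = t ^ i ∨ g = t ^ i * y}
      one_mem' := ⟨0, Or.inl (zpow_zero t).symm⟩
      mul_mem' := by
        rintro a b ⟨i, hi⟩ ⟨j, hj⟩
        have hji : y * t ^ j = t ^ (-j) * y := mul_inv_eq_iff_eq_mul.mp (hinv j)
        rcases hi with rfl | rfl <;> rcases hj with rfl | rfl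
        · exact ⟨i + j, Or.inl (zpow_add t i j).symm⟩
        · exact ⟨i + j, Or.inr (by rw [zpow_add, mul_assoc])⟩
        · exact ⟨i + -j, Or.inr (by rw [mul_assoc, hji, zpow_add, mul_assoc])⟩
        · exact ⟨i + -j, Or.inl (by
            rw [mul_assoc, ← mul_assoc y, hji, mul_assoc _ y y, hyy, mul_one, zpow_add])⟩
      inv_mem' := by
        rintro a ⟨i, rfl | rfl⟩
        · exact ⟨-i, Or.inl (zpow_neg t i).symm⟩
        · exact ⟨i, Or.inr (by
            rw [mul_inv_rev, hyi, ← zpow_neg, mul_inv_eq_iff_eq_mul.mp (hinv (-i)), neg_neg])⟩ }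
  have hD : D = ⊤ := by
    by_contra hne'
    refine hk (hmax D (fun z hz => ?_) hne' ⟨-1, Or.inr ?_⟩)
    · rcases hmem z hz with rfl | rfl
      · exact ⟨0, Or.inl (zpow_zero t).symm⟩
      · exact ⟨0, Or.inr (by rw [zpow_zero, one_mul])⟩
    · rw [zpow_neg_one, ht, mul_inv_rev, inv_mul_cancel_right, hyi']
  -- `t` has odd order
  obtain ⟨j, hj⟩ : ∃ j : ℤ, t ^ (2 * j + 1) = 1 := by
    have hy't : y' = t ^ (-1 : ℤ) * y := by
      rw [zpow_neg_one, ht, mul_inv_rev, inv_mul_cancel_right, hyi']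
    obtain ⟨i, hi⟩ : k ∈ D := hD ▸ Subgroup.mem_top k
    refine ⟨i, ?_⟩
    have e : k * y * k⁻¹ = t ^ (2 * i) * y := by
      have h1 : y * (t ^ i)⁻¹ = t ^ i * y := by
        rw [← zpow_neg, mul_inv_eq_iff_eq_mul.mp (hinv (-i)), neg_neg]
      have h2 : t ^ i * y * (t ^ i)⁻¹ = t ^ (2 * i) * y := by
        rw [mul_assoc, h1, ← mul_assoc, ← zpow_add, ← two_mul]
      rcases hi with hi | hi
      · rw [hi, h2]
      · rw [hi, show t ^ i * y * y * (t ^ i * y)⁻¹ = t ^ i * y * (t ^ i)⁻¹ by group, h2]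
    rw [← hy', hy't] at e
    rw [zpow_add, ← mul_right_cancel e, ← zpow_add]
    norm_num
  have hN : Subgroup.normalizer (Y : Set K) ≤ Y := by
    intro g hg
    obtain ⟨i, hi⟩ : g ∈ D := hD ▸ Subgroup.mem_top g
    have key : t ^ i = 1 := by
      have hc : t ^ i ∈ Subgroup.normalizer (Y : Set K) := by
        rcases hi with rfl | rfl
        · exact hg
        · have hm := mul_mem hg (inv_mem (Subgroup.le_normalizer y0.2 :
            y ∈ Subgroup.normalizer (Y : Set K)))
          rwa [mul_inv_cancel_right] at hm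
      have h1 := mul_inv_eq_iff_eq_mul.mp (hnorm _ hc)
      have h2 := mul_inv_eq_iff_eq_mul.mp (hinv i)
      have h3 : t ^ (2 * i) = 1 := by
        rw [two_mul, zpow_add, ← eq_inv_iff_mul_eq_one, ← zpow_neg]
        exact mul_right_cancel (h1.trans h2)
      calc t ^ i = t ^ ((2 * j + 1) * i - j * (2 * i)) := by ring_nf
        _ = 1 := by rw [zpow_sub, zpow_mul, hj, one_zpow, zpow_mul' t j, h3, one_zpow, inv_one, one_mul]
    rcases hi with rfl | rfl
    · rw [key]; exact Y.one_mem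
    · rw [key, one_mul]; exact y0.2
  refine Subgroup.eq_of_le_of_card_ge (hVY.trans hN) ?_
  rw [hcard]
  exact (Subgroup.one_lt_card_iff_ne_bot V).mpr hV

end Aux

section SLTwo

variable {F : Type*} [Field F] [Fintype F]

open CfsgLib.SL2 in
theorem sl2_case {p : ℕ} [hp : Fact p.Prime] (Y V : Subgroup SL(2, F)) (hY : IsPGroup p Y)
    (hcard : Nat.card Y = Fintype.card F) (hYV : Subgroup.normalizer (Y : Set SL(2, F)) ≤
      Subgroup.normalizer (V : Set SL(2, F))) (hV : IsPGroup p V) (hne : V ≠ ⊥) : V = Y := by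
  obtain ⟨k, hk⟩ := hY.exists_card_eq
  haveI hchar : CharP F p := by
    obtain ⟨c, hc⟩ := CharP.exists F
    obtain ⟨n, hcp, hn⟩ := FiniteField.card F c
    have hdvd : c ∣ p ^ k := by rw [← hk, hcard, hn]; exact dvd_pow_self c n.pos.ne'
    rwa [← (Nat.prime_dvd_prime_iff_eq hcp hp.out).mp (hcp.dvd_of_dvd_pow hdvd)]
  obtain ⟨P, hYP⟩ := hY.exists_le_sylow
  obtain ⟨g, hg⟩ := exists_conj_upperSL p P
  have hcU : Nat.card (upperHom (F := F)).range = Fintype.card F := by
    rw [← Nat.card_congr (MonoidHom.ofInjective upperHom_injective).toEquiv,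
      Nat.card_congr Multiplicative.toAdd, Nat.card_eq_fintype_card]
  have hYP' : Y = (P : Subgroup SL(2, F)) := Subgroup.eq_of_le_of_card_ge hYP (by
    rw [hcard, hg, Subgroup.card_map_of_injective (MulAut.conj g).injective, hcU])
  have hVY : V ≤ Y := hYP' ▸ le_of_le_normalizer P hV
    (hYP' ▸ Subgroup.le_normalizer.trans hYV)
  refine le_antisymm hVY ?_
  obtain ⟨⟨v, hv⟩, hx⟩ := (Subgroup.ne_bot_iff_exists_ne_one).mp hne
  have hv1 : v ≠ 1 := fun e => hx (Subtype.ext e)
  rw [hYP', hg] at hVY hYV ⊢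
  obtain ⟨_, ⟨b0, rfl⟩, rfl⟩ := hVY hv
  have hb0 : b0.toAdd ≠ 0 := by
    intro e
    refine hv1 ?_
    have : b0 = 1 := Multiplicative.toAdd.injective e
    rw [this, map_one, map_one]
  let S : AddSubgroup F :=
    { carrier := {c | g * upperHom (Multiplicative.ofAdd (c * b0.toAdd)) * g⁻¹ ∈ V}
      zero_mem' := by simp
      add_mem' := fun {a b} ha hb => by
        have := V.mul_mem ha hb
        simp only [Set.mem_ofPred_eq, add_mul, ofAdd_add, map_mul]
        simpa [mul_assoc] using this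
      neg_mem' := fun {a} ha => by
        have := V.inv_mem ha
        simp only [Set.mem_ofPred_eq, neg_mul, ofAdd_neg, map_inv]
        simpa [mul_assoc] using this }
  have hsq : ∀ a : F, a * a ∈ S := by
    intro a
    rcases eq_or_ne a 0 with rfl | ha
    · simp
    let d : SL(2, F) := ⟨!![a, 0; 0, a⁻¹], by rw [Matrix.det_fin_two_of]; simp [ha]⟩
    have hd : ∀ b : Multiplicative F, d * upperHom b * d⁻¹ =
        upperHom (Multiplicative.ofAdd (a * a * b.toAdd)) := by
      intro b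
      rw [mul_inv_eq_iff_eq_mul]
      apply Subtype.ext
      rw [Matrix.SpecialLinearGroup.coe_mul, Matrix.SpecialLinearGroup.coe_mul, upperHom_coe,
        upperHom_coe, toAdd_ofAdd]
      simp only [d, Matrix.mul_fin_two]
      ext i j
      fin_cases i <;> fin_cases j <;> simp
      field_simp
    have hmem : g * d * g⁻¹ ∈ Subgroup.normalizer
        (((upperHom (F := F)).range.map (MulAut.conj g).toMonoidHom : Subgroup SL(2, F)) : Set SL(2, F)) := by
      refine Subgroup.mem_normalizer_fintype fun z hz => ?_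
      obtain ⟨_, ⟨b, rfl⟩, rfl⟩ := hz
      refine ⟨_, ⟨Multiplicative.ofAdd (a * a * b.toAdd), rfl⟩, ?_⟩
      rw [← hd]
      simp [mul_assoc]
    have := (Subgroup.mem_normalizer_iff.mp (hYV hmem) _).mp hv
    show g * upperHom (Multiplicative.ofAdd (a * a * b0.toAdd)) * g⁻¹ ∈ V
    rw [← hd]
    simpa [mul_assoc] using this
  have htop : ∀ c : F, c ∈ S := by
    intro c
    by_cases h2 : ringChar F = 2
    · obtain ⟨a, rfl⟩ := FiniteField.isSquare_of_char_two h2 c
      exact hsq a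
    · have h2' : (2 : F) ≠ 0 := Ring.two_ne_zero h2
      have := sub_mem (hsq ((c + 1) / 2)) (hsq ((c - 1) / 2))
      convert this using 1
      field_simp
      ring
  rintro _ ⟨_, ⟨b, rfl⟩, rfl⟩
  have := htop (b.toAdd / b0.toAdd)
  change g * upperHom (Multiplicative.ofAdd (b.toAdd / b0.toAdd * b0.toAdd)) * g⁻¹ ∈ V at this
  rw [div_mul_cancel₀ _ hb0, ofAdd_toAdd] at this
  simpa [mul_assoc] using this

end SLTwo

section Suzuki

open CfsgLib.Suzuki

variable {F : Type*} [Field F] [Fintype F] [CharP F 2] {m : ℕ} [hP : Param F m]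

theorem mem_grpZ_of_sq {u : Gp F m} (hu : u ∈ grpU F m) (h : u ^ 2 = 1) : u ∈ grpZ F m := by
  obtain ⟨a, b, rfl⟩ := hu
  rw [pow_two, gT_sq, ← gT_zero] at h
  rcases mul_eq_zero.mp (gT_inj h).2 with h' | h'
  · exact ⟨b, by rw [(map_eq_zero (sg F m)).mp h']⟩
  · exact ⟨b, by rw [h']⟩

theorem sz_case (Y V : Subgroup (Gp F m)) (hY : Cfsg.IsElementaryAbelian 2 Y)
    (hcard : Nat.card Y = Fintype.card F) (hYV : Subgroup.normalizer (Y : Set (Gp F m)) ≤
      Subgroup.normalizer (V : Set (Gp F m))) (hV : Cfsg.IsElementaryAbelian 2 V) (hne : V ≠ ⊥) :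
    V = Y := by
  haveI : Fact (Nat.Prime 2) := ⟨Nat.prime_two⟩
  obtain ⟨P, hYP⟩ := (CfsgLib.PReduced.isPGroup_of_elementary hY).exists_le_sylow
  obtain ⟨g, hg⟩ := MulAction.exists_smul_eq (Gp F m) P (sylowU F m)
  set f : Gp F m ≃* Gp F m := MulAut.conj g
  have hY' : Y.map f.toMonoidHom = grpZ F m := by
    refine Subgroup.eq_of_le_of_card_ge ?_ (by
      rw [natCard_grpZ, Subgroup.card_map_of_injective f.injective, hcard])
    rintro _ ⟨z, hz, rfl⟩
    refine mem_grpZ_of_sq ?_ (by rw [← map_pow, hY.2 z hz, map_one])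
    rw [← coe_sylowU, ← hg]
    exact Subgroup.smul_mem_pointwise_smul z (MulAut.conj g) _ (hYP hz)
  have hYV' := normalizer_map_le f hYV
  rw [hY'] at hYV'
  set W := V.map f.toMonoidHom
  suffices hWZ : W = grpZ F m from Subgroup.map_injective f.injective (hWZ.trans hY'.symm)
  have hW := elementary_map f.toMonoidHom hV
  have hnorm : ∀ x, x • pinf F m = pinf F m →
      x ∈ Subgroup.normalizer (grpZ F m : Set (Gp F m)) := by
    intro x hx
    refine Subgroup.mem_normalizer_fintype fun z hz => mem_grpZ_of_sq ?_ ?_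
    · obtain ⟨b, rfl⟩ := hz
      exact grpU_conj_mem (gT_mem _ _) hx
    · obtain ⟨b, rfl⟩ := hz
      rw [conj_pow, pow_two, gT_sq]
      simp [gT_zero]
  have hWU : W ≤ grpU F m := by
    rw [← coe_sylowU]
    refine le_of_le_normalizer _ (CfsgLib.PReduced.isPGroup_of_elementary hW) ?_
    rintro u hu
    obtain ⟨a, b, rfl⟩ := hu
    exact hYV' (hnorm _ (gT_smul_pinf a b))
  have hWZ : W ≤ grpZ F m := fun w hw => mem_grpZ_of_sq (hWU hw) (hW.2 w hw)
  refine le_antisymm hWZ ?_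
  obtain ⟨⟨w, hw⟩, hw1⟩ := Subgroup.ne_bot_iff_exists_ne_one.mp
    (fun h => hne ((Subgroup.map_eq_bot_iff_of_injective V f.injective).mp h) : W ≠ ⊥)
  obtain ⟨b0, rfl⟩ := hWZ hw
  have hb0 : b0 ≠ 0 := fun e => hw1 (Subtype.ext (by simp [e, gT_zero]))
  have hsurj : Function.Surjective fun t : Fˣ => Units.map (sg F m : F →* F) t * (t * t) :=
    Finite.surjective_of_injective fun k l h => by
      have h' : sg F m (k : F) * ((k : F) * k) = sg F m (l : F) * ((l : F) * l) := congrArg Units.val h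
      refine div_eq_one.1 (Units.ext ?_)
      have hl : sg F m (l : F) * ((l : F) * l) ≠ 0 :=
        mul_ne_zero ((map_ne_zero (sg F m)).2 l.ne_zero) (mul_ne_zero l.ne_zero l.ne_zero)
      have h1 : sg F m (((k / l : Fˣ) : F)) * (((k / l : Fˣ) : F) * ((k / l : Fˣ) : F)) = 1 := by
        rw [Units.val_div_eq_div_val, map_div₀, div_mul_div_comm, div_mul_div_comm, h', div_self hl]
      refine eq_one_of_sg_mul_self hP.card ((sg F m).injective ?_)
      rw [map_one, map_mul, sg_sg hP.card, mul_comm, pow_two]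
      exact h1
  rintro _ ⟨b, rfl⟩
  rcases eq_or_ne b 0 with rfl | hb
  · rw [gT_zero]; exact one_mem _
  obtain ⟨t, ht⟩ := hsurj (Units.mk0 (b / b0) (div_ne_zero hb hb0))
  have := (Subgroup.mem_normalizer_iff.mp (hYV' (hnorm _ (gH_smul_pinf t))) _).mp hw
  rw [gH_conj_gT, mul_zero] at this
  have e : sg F m (t : F) * (t : F) ^ 2 = b / b0 := by
    rw [pow_two]; exact congrArg Units.val ht
  rwa [e, div_mul_cancel₀ _ hb0] at this

end Suzuki

/-- Standing hypotheses: G a finite group, S a Sylow p-subgroup, Q a nontrivial large p-subgroup of G contained in S, M a subgroup containing S with the basic property (M ∈ 𝔐_G(S)); Y_M the largest p-reduced normal subgroup of M and M† = M·C_G(Y_M). Let L ∈ 𝔏_G(Y_M) (L ∈ 𝔏_G(Y_M): Y_M ≤ L; O_p(L) is the normal closure in L of Y_M ∩ O_p(L) and normalizes Y_M; L is Y_M-minimal of characteristic p with N_L(Y_M) its unique maximal subgroup over Y_M; and L/O_p(L) ≅ SL₂(q) with q = |Y_M : Y_M ∩ O_p(L)|, or p = 2 and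 L/O_p(L) is a Suzuki group Sz(q) or dihedral of order 2r, r an odd prime) and A = O_p(L). Then Y_M·A/A is the unique nontrivial elementary abelian normal p-subgroup of N_L(Y_M)/A. -/
theorem result {G : Type*} [Group G] [Finite G] {p : ℕ} [Fact p.Prime] (S : Sylow p G) (Q : Subgroup G) (hQp : IsPGroup p ↥Q) (hQ1 : Q ≠ ⊥) (hQS : Q ≤ (S : Subgroup G)) (hQ : Cfsg.IsLarge Q) (M : Subgroup G) (hSM : (S : Subgroup G) ≤ M) (hM : Cfsg.IsInFrakM p M) (L : Subgroup G) (hL : Cfsg.IsInFrakL p M L) (NL : Subgroup G) (hNL : NL = L ⊓ Subgroup.normalizer (((Cfsg.largestPReducedOf p M) : Subgroup G) : Set G)) [hn : (((Cfsg.pCoreOf p L)).subgroupOf NL).Normal] : let Ybar : Subgroup (↥NL ⧸ ((Cfsg.pCoreOf p L)).subgroupOf NL) := (((Cfsg.largestPReducedOf p M)).subgroupOf NL).map (QuotientGroup.mk' (((Cfsg.pCoreOf p L)).subgroupOf NL)); Ybar ≠ ⊥ ∧ Ybar.Normal ∧ Cfsg.IsElementaryAbelian p Ybar ∧ ∀ (V : Subgroup (↥NL ⧸ ((Cfsg.pCoreOf p L)).subgroupOf NL)), V.Normal → Cfsg.IsElementaryAbelian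 p V → V ≠ ⊥ → V = Ybar := by
  obtain ⟨hYL, -, hON, hmin, -, ⟨hlt, hX⟩, hcases⟩ := hL
  subst hNL
  set Y := Cfsg.largestPReducedOf p M with hYdef
  intro Ybar
  haveI hpn : (Cfsg.pCore p L).Normal := CfsgLib.Fitting.pCore_normal p
  haveI hYn : (Y.subgroupOf (L ⊓ Subgroup.normalizer (Y : Set G))).Normal :=
    (Subgroup.normal_subgroupOf_iff_le_normalizer (le_inf hYL Subgroup.le_normalizer)).mpr inf_le_right
  have hYbn : Ybar.Normal := hYn.map _ (QuotientGroup.mk'_surjective _)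
  have hYbe : Cfsg.IsElementaryAbelian p Ybar := by
    refine elementary_map _ ?_
    have he := CfsgLib.PReduced.largestOf_elementary p M
    haveI := he.1
    exact ⟨⟨⟨fun a b => Subtype.ext (Subtype.ext (by
      exact congrArg (fun z : Y => (z : G)) (mul_comm' (⟨a.1.1, a.2⟩ : Y) ⟨b.1.1, b.2⟩)))⟩⟩,
      fun a ha => Subtype.ext (he.2 _ ha)⟩
  -- the embedding in `L / O_p(L)`
  set N := (Cfsg.pCoreOf p L).subgroupOf (L ⊓ Subgroup.normalizer (Y : Set G)) with hNdef
  let φ : ↥(L ⊓ Subgroup.normalizer (Y : Set G)) →* ↥L ⧸ Cfsg.pCore p L :=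
    (QuotientGroup.mk' (Cfsg.pCore p L)).comp (Subgroup.inclusion inf_le_left)
  have hmemN : ∀ x, x ∈ N ↔ φ x = 1 := by
    intro x
    show (x : G) ∈ (Cfsg.pCore p L).map L.subtype ↔ _
    rw [show φ x = QuotientGroup.mk' (Cfsg.pCore p L) ⟨(x : G), x.2.1⟩ from rfl,
      QuotientGroup.mk'_apply, QuotientGroup.eq_one_iff]
    exact Subgroup.mem_map_iff_mem L.subtype_injective (x := (⟨(x : G), x.2.1⟩ : L))
  let ψ := QuotientGroup.lift N φ fun x hx => (hmemN x).mp hx
  have hψ : Function.Injective ψ := by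
    refine (injective_iff_map_eq_one ψ).mpr fun z hz => ?_
    obtain ⟨x, rfl⟩ := QuotientGroup.mk_surjective z
    exact (QuotientGroup.eq_one_iff x).mpr ((hmemN x).mpr hz)
  have hrange : ψ.range = ((Subgroup.normalizer (Y : Set G)).subgroupOf L).map
      (QuotientGroup.mk' (Cfsg.pCore p L)) := by
    ext z
    constructor
    · rintro ⟨x, rfl⟩
      obtain ⟨x, rfl⟩ := QuotientGroup.mk_surjective x
      exact ⟨⟨(x : G), x.2.1⟩, x.2.2, rfl⟩
    · rintro ⟨x, hx, rfl⟩
      exact ⟨QuotientGroup.mk ⟨(x : G), x.2, hx⟩, rfl⟩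
  set K0 := (Y.subgroupOf L).map (QuotientGroup.mk' (Cfsg.pCore p L)) with hK0
  have hYmap : Ybar.map ψ = K0 := by
    rw [hK0, Subgroup.map_map]
    ext z
    constructor
    · rintro ⟨x, hx, rfl⟩
      exact ⟨⟨(x : G), x.2.1⟩, hx, rfl⟩
    · rintro ⟨x, hx, rfl⟩
      exact ⟨⟨(x : G), x.2, Subgroup.le_normalizer hx⟩, hx, rfl⟩
  have hcl : Subgroup.normalClosure (K0 : Set (↥L ⧸ Cfsg.pCore p L)) = ⊤ := by
    rw [hK0, Subgroup.coe_map, ← Subgroup.map_normalClosure _ _ (QuotientGroup.mk'_surjective _),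
      hmin.1, Subgroup.map_top_of_surjective _ (QuotientGroup.mk'_surjective _)]
  have hrne : ψ.range ≠ ⊤ := by
    intro e
    rw [hrange] at e
    refine hlt.ne (le_antisymm inf_le_left fun l hl => ⟨hl, ?_⟩)
    obtain ⟨x, hx, he⟩ := (e ▸ Subgroup.mem_top (QuotientGroup.mk' (Cfsg.pCore p L) ⟨l, hl⟩) :
      QuotientGroup.mk' (Cfsg.pCore p L) ⟨l, hl⟩ ∈ _)
    obtain ⟨z, hz, hze⟩ := (QuotientGroup.mk'_eq_mk' _).mp he
    have : (x : G) * (z : G) = l := congrArg Subtype.val hze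
    rw [← this]
    exact mul_mem hx (hON ⟨z, hz, rfl⟩)
  have hmax : ∀ X, K0 ≤ X → X ≠ ⊤ → X ≤ ψ.range := by
    intro X hKX hXt
    have h1 : Y ≤ (X.comap (QuotientGroup.mk' (Cfsg.pCore p L))).map L.subtype := fun y hy =>
      ⟨⟨y, hYL hy⟩, hKX ⟨⟨y, hYL hy⟩, hy, rfl⟩, rfl⟩
    have h2 : (X.comap (QuotientGroup.mk' (Cfsg.pCore p L))).map L.subtype < L :=
      lt_of_le_of_ne (Subgroup.map_subtype_le _) fun e => hXt (top_le_iff.mp fun z _ => by
        obtain ⟨x, rfl⟩ := QuotientGroup.mk_surjective z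
        obtain ⟨x', hx', he⟩ := (e.ge x.2 : (x : G) ∈ _)
        rw [Subtype.ext he] at hx'
        exact hx')
    intro z hz
    obtain ⟨x, rfl⟩ := QuotientGroup.mk_surjective z
    rw [hrange]
    exact ⟨x, (hX _ h1 h2 ⟨x, hz, rfl⟩).2, rfl⟩
  have hBN : ψ.range ≤ Subgroup.normalizer (K0 : Set (↥L ⧸ Cfsg.pCore p L)) := by
    have h := Subgroup.le_normalizer_map (H := Ybar) ψ
    rwa [Subgroup.normalizer_eq_top Ybar, ← MonoidHom.range_eq_map, hYmap] at h
  have hK0r : K0 ≤ ψ.range := hYmap ▸ Ybar.map_le_range ψ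
  have hnt : Subgroup.normalizer (K0 : Set (↥L ⧸ Cfsg.pCore p L)) ≠ ⊤ := by
    intro e
    haveI : K0.Normal := Subgroup.normalizer_eq_top_iff.mp e
    rw [Subgroup.normalClosure_eq_self] at hcl
    exact hrne (top_le_iff.mp (hcl.ge.trans hK0r))
  have hB : ψ.range = Subgroup.normalizer (K0 : Set (↥L ⧸ Cfsg.pCore p L)) :=
    le_antisymm hBN (hmax _ Subgroup.le_normalizer hnt)
  have hq : Nat.card K0 = (Y ⊓ Cfsg.pCoreOf p L).relIndex Y := by
    rw [← Subgroup.relIndex_bot_left, hK0]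
    have h := Subgroup.relIndex_map_map (f := QuotientGroup.mk' (Cfsg.pCore p L))
      (⊥ : Subgroup L) (Y.subgroupOf L)
    rw [Subgroup.map_bot, QuotientGroup.ker_mk', bot_sup_eq, Subgroup.relIndex_sup_right] at h
    rw [h, Subgroup.inf_relIndex_left]
    have h' := Subgroup.relIndex_map_map_of_injective (Cfsg.pCore p L) (Y.subgroupOf L)
      L.subtype_injective
    rw [Subgroup.map_subgroupOf_eq_of_le hYL] at h'
    exact h'.symm
  refine ⟨?_, hYbn, hYbe, ?_⟩
  · intro e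
    rw [e, Subgroup.map_bot] at hYmap
    exact hnt (by rw [← hYmap]; exact Subgroup.normalizer_eq_top ⊥)
  intro V hVn hVe hV1
  refine Subgroup.map_injective hψ (hYmap.symm ▸ ?_)
  set V' := V.map ψ
  have hV'e := elementary_map ψ hVe
  have hV'1 : V' ≠ ⊥ := fun e => hV1 ((Subgroup.map_eq_bot_iff_of_injective V hψ).mp e)
  have hV'B : V' ≤ Subgroup.normalizer (K0 : Set (↥L ⧸ Cfsg.pCore p L)) :=
    hB ▸ V.map_le_range ψ
  have hBV : Subgroup.normalizer (K0 : Set (↥L ⧸ Cfsg.pCore p L)) ≤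
      Subgroup.normalizer (V' : Set (↥L ⧸ Cfsg.pCore p L)) := by
    have h := Subgroup.le_normalizer_map (H := V) ψ
    rwa [Subgroup.normalizer_eq_top V, ← MonoidHom.range_eq_map, hB] at h
  have hK0e : Cfsg.IsElementaryAbelian p K0 := hYmap ▸ elementary_map ψ hYbe
  have htwo : Nat.card K0 = 2 → V' = K0 := fun h =>
    two_case K0 V' h hcl (fun X h1 h2 => hB ▸ hmax X h1 h2) hnt hV'B hV'1
  rcases hcases with ⟨F, _, _, hF, ⟨e⟩⟩ | ⟨rfl, F, _, _, m, hFc, hF, ⟨e⟩⟩ | ⟨rfl, r, hr, hr2, ⟨e⟩⟩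
  · refine Subgroup.map_injective e.injective (sl2_case (K0.map e.toMonoidHom) _
      ((CfsgLib.PReduced.isPGroup_of_elementary hK0e).map _) ?_ (normalizer_map_le e hBV)
      ((CfsgLib.PReduced.isPGroup_of_elementary hV'e).map _) ?_)
    · rw [Subgroup.card_map_of_injective e.injective, hq, hF]
    · exact fun h => hV'1 ((Subgroup.map_eq_bot_iff_of_injective V' e.injective).mp h)
  · rcases Nat.eq_zero_or_pos m with rfl | hm
    · exact htwo (by rw [hq, ← hF, hFc]; norm_num)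
    haveI : CharP F 2 := by
      obtain ⟨c, hc⟩ := CharP.exists F
      obtain ⟨n, hcp, hn⟩ := FiniteField.card F c
      have hdvd : c ∣ 2 ^ (2 * m + 1) := by rw [← hFc, hn]; exact dvd_pow_self c n.pos.ne'
      rwa [← (Nat.prime_dvd_prime_iff_eq hcp Nat.prime_two).mp (hcp.dvd_of_dvd_pow hdvd)]
    haveI : CfsgLib.Suzuki.Param F m := ⟨hm, hFc⟩
    let f := e.trans (CfsgLib.Suzuki.lieEquiv F m).symm
    refine Subgroup.map_injective f.injective (sz_case (K0.map f.toMonoidHom) _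
      (elementary_map _ hK0e) ?_ (normalizer_map_le f hBV) (elementary_map _ hV'e) ?_)
    · rw [Subgroup.card_map_of_injective f.injective, hq, hF]
    · exact fun h => hV'1 ((Subgroup.map_eq_bot_iff_of_injective V' f.injective).mp h)
  · refine htwo ?_
    obtain ⟨k, hk⟩ := (CfsgLib.PReduced.isPGroup_of_elementary hK0e).exists_card_eq
    have hdvd : 2 ^ k ∣ 2 * r := by
      rw [← hk, ← DihedralGroup.nat_card (n := r), ← Nat.card_congr e.toEquiv]
      exact Subgroup.card_subgroup_dvd_card K0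
    have hk0 : k ≠ 0 := by
      intro h0
      rw [h0, pow_zero, Subgroup.card_eq_one] at hk
      exact hnt (by rw [hk]; exact Subgroup.normalizer_eq_top ⊥)
    rcases Nat.lt_or_ge k 2 with h | h
    · rw [hk, show k = 1 by omega, pow_one]
    · exfalso
      have h4 : 2 * 2 ∣ 2 * r := dvd_trans (dvd_trans (by norm_num) (pow_dvd_pow 2 h)) hdvd
      exact hr2 ((Nat.prime_dvd_prime_iff_eq Nat.prime_two hr).mp
        (Nat.dvd_of_mul_dvd_mul_left two_pos h4)).symm

end Cfsg.Agent.S2861
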