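import Cfsg.Statements.S2805
import Cfsg.Agent.Lib.Layer.CharPSubnormal

set_option autoImplicit false
open Cfsg CfsgLib

namespace Cfsg.Agent.S2805

open scoped IsMulCommutative commutatorElement

variable {H : Type*} [Group H] [Finite H] {p : ℕ}

/-- The elements of order dividing `p` in the centre of `P`. -/
def zset (p : ℕ) (P : Subgroup H) : Set H :=
  {z | z ∈ P ⊓ Subgroup.centralizer (P : Set H) ∧ z ^ p = 1}

/-- The product of an orbit of `C` on an abelian subgroup `M`. -/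
theorem exists_orbit_prod [Fact p.Prime] (M C S W : Subgroup H) [IsMulCommutative M]
    (hCM : C ≤ Subgroup.normalizer (M : Set H)) (hS : ¬ p ∣ S.relIndex C)
    {x : H} (hxM : x ∈ M) (hfix : ∀ s ∈ S, s * x * s⁻¹ = x) (hxp : x ^ p = 1)
    (hW : ∀ c ∈ C, c * x * c⁻¹ * x⁻¹ ∈ W) :
    ∃ (m : ℕ) (u : H), m.Coprime p ∧ u ∈ M ∧ (∀ c ∈ C, c * u * c⁻¹ = u) ∧ u ^ p = 1 ∧
      u * (x ^ m)⁻¹ ∈ W ∧
      ∀ t : H, t ∈ Subgroup.normalizer (C : Set H) → t ∈ Subgroup.normalizer (M : Set H) →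
        t * x * t⁻¹ * x⁻¹ ∈ M → (∀ c ∈ C, c * (t * x * t⁻¹ * x⁻¹) * c⁻¹ = t * x * t⁻¹ * x⁻¹) →
        t * u * t⁻¹ = u * (t * x * t⁻¹ * x⁻¹) ^ m := by
  classical
  haveI : Fintype H := Fintype.ofFinite H
  let orb : C → M := fun c => ⟨c * x * (c : H)⁻¹, (Subgroup.mem_normalizer_iff.mp (hCM c.2) x).mp hxM⟩
  set O : Finset M := Finset.univ.image orb with hO
  -- the size of the orbit
  let f : C →* MulAut M := (Subgroup.normalizerMonoidHom M).comp (Subgroup.inclusion hCM)
  letI : MulAction C M := MulAction.compHom M f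
  have hsm : ∀ c : C, c • (⟨x, hxM⟩ : M) = orb c := fun c => rfl
  have horb : MulAction.orbit C (⟨x, hxM⟩ : M) = (O : Set M) := by
    ext y
    simp only [hO, MulAction.mem_orbit_iff, hsm, Finset.coe_image, Finset.coe_univ, Set.image_univ,
      Set.mem_range]
  have hdvd : O.card ∣ S.relIndex C := by
    have h1 := MulAction.index_stabilizer C (⟨x, hxM⟩ : M)
    rw [horb, Set.ncard_coe_finset] at h1
    rw [← h1]
    refine Subgroup.index_dvd_of_le fun c hc => ?_
    show c • (⟨x, hxM⟩ : M) = ⟨x, hxM⟩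
    exact Subtype.ext (hfix c hc)
  refine ⟨O.card, ((∏ y ∈ O, y : M) : H), ?_, (∏ y ∈ O, y : M).2, fun c hc => ?_, ?_, ?_,
    fun t htC htM hf hfC => ?_⟩
  · exact (((Fact.out : p.Prime).coprime_iff_not_dvd.mpr fun h => hS (h.trans hdvd))).symm
  · have h1 : (f ⟨c, hc⟩) (∏ y ∈ O, y) = ∏ y ∈ O, y := by
      rw [map_prod]
      refine Finset.prod_equiv (f ⟨c, hc⟩).toEquiv (fun y => ?_) fun y _ => rfl
      simp only [hO, Finset.mem_image, Finset.mem_univ, true_and, MulEquiv.toEquiv_eq_coe,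
        EquivLike.coe_coe]
      constructor
      · rintro ⟨d, rfl⟩
        exact ⟨⟨c, hc⟩ * d, Subtype.ext (by
          show c * d * x * (c * d : H)⁻¹ = c * (d * x * (d : H)⁻¹) * c⁻¹
          group)⟩
      · rintro ⟨d, hd⟩
        refine ⟨⟨c, hc⟩⁻¹ * d, (f ⟨c, hc⟩).injective (hd ▸ Subtype.ext ?_)⟩
        show c * (c⁻¹ * d * x * (c⁻¹ * d : H)⁻¹) * c⁻¹ = d * x * (d : H)⁻¹
        group
    exact congrArg Subtype.val h1
  · rw [← Subgroup.coe_pow, ← Finset.prod_pow, Finset.prod_eq_one, Subgroup.coe_one]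
    intro y hy
    obtain ⟨c, -, rfl⟩ := Finset.mem_image.mp hy
    refine Subtype.ext ?_
    show ((c : H) * x * (c : H)⁻¹) ^ p = 1
    rw [conj_pow, hxp]
    group
  · have h1 : (∏ y ∈ O, y) * ((⟨x, hxM⟩ : M) ^ O.card)⁻¹ = ∏ y ∈ O, (y * (⟨x, hxM⟩ : M)⁻¹) := by
      rw [Finset.prod_mul_distrib, Finset.prod_const, inv_pow]
    have h2 : (∏ y ∈ O, (y * (⟨x, hxM⟩ : M)⁻¹)) ∈ W.subgroupOf M := by
      refine prod_mem fun y hy => ?_
      obtain ⟨c, -, rfl⟩ := Finset.mem_image.mp hy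
      exact hW c c.2
    rw [← h1] at h2
    simpa [Subgroup.mem_subgroupOf] using h2
  · set w : M := ⟨t * x * t⁻¹ * x⁻¹, hf⟩ with hw
    let φ : MulAut M := (Subgroup.normalizerMonoidHom M) ⟨t, htM⟩
    have himg : O.image φ = O.image (· * w) := by
      simp only [hO, Finset.image_image]
      ext y
      simp only [Finset.mem_image, Finset.mem_univ, true_and, Function.comp]
      constructor
      · rintro ⟨c, rfl⟩
        refine ⟨⟨t * c * t⁻¹, (Subgroup.mem_normalizer_iff.mp htC c).mp c.2⟩, Subtype.ext ?_⟩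
        show t * c * t⁻¹ * x * (t * c * t⁻¹)⁻¹ * (t * x * t⁻¹ * x⁻¹) = t * (c * x * (c : H)⁻¹) * t⁻¹
        have h := hfC _ ((Subgroup.mem_normalizer_iff.mp htC c).mp c.2)
        rw [← h]
        have hxw : Commute x (t * x * t⁻¹ * x⁻¹) :=
          congrArg Subtype.val (mul_comm (⟨x, hxM⟩ : M) w)
        calc t * c * t⁻¹ * x * (t * c * t⁻¹)⁻¹ * (t * c * t⁻¹ * (t * x * t⁻¹ * x⁻¹) * (t * c * t⁻¹)⁻¹)
            = t * c * t⁻¹ * (x * (t * x * t⁻¹ * x⁻¹)) * (t * c * t⁻¹)⁻¹ := by group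
          _ = t * c * t⁻¹ * (t * x * t⁻¹ * x⁻¹ * x) * (t * c * t⁻¹)⁻¹ := by rw [hxw.eq]
          _ = t * (c * x * (c : H)⁻¹) * t⁻¹ := by group
      · rintro ⟨c, rfl⟩
        have hc : t⁻¹ * c * t ∈ C := (Subgroup.mem_normalizer_iff''.mp htC c).mp c.2
        refine ⟨⟨t⁻¹ * c * t, hc⟩, Subtype.ext ?_⟩
        show t * (t⁻¹ * c * t * x * (t⁻¹ * c * t)⁻¹) * t⁻¹ = c * x * (c : H)⁻¹ * (t * x * t⁻¹ * x⁻¹)
        have hxw : Commute x (t * x * t⁻¹ * x⁻¹) :=
          congrArg Subtype.val (mul_comm (⟨x, hxM⟩ : M) w)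
        calc t * (t⁻¹ * c * t * x * (t⁻¹ * c * t)⁻¹) * t⁻¹
            = c * (t * x * t⁻¹ * x⁻¹ * x) * (c : H)⁻¹ := by group
          _ = c * (x * (t * x * t⁻¹ * x⁻¹)) * (c : H)⁻¹ := by rw [hxw.eq]
          _ = c * x * (c : H)⁻¹ * (c * (t * x * t⁻¹ * x⁻¹) * (c : H)⁻¹) := by group
          _ = _ := by rw [hfC c c.2]
    have h1 : φ (∏ y ∈ O, y) = (∏ y ∈ O, y) * w ^ O.card := by
      rw [← Finset.prod_const w, ← Finset.prod_mul_distrib, map_prod,
        ← Finset.prod_image (g := φ) (f := fun y => y) φ.injective.injOn, himg,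
        Finset.prod_image (fun a _ b _ e => mul_right_cancel e)]
    exact congrArg Subtype.val h1

/-- Kieler's lemma for a normal subgroup. -/
theorem normal_case [Fact p.Prime] (hH : Subgroup.centralizer (Cfsg.pCore p H : Set H) ≤ Cfsg.pCore p H)
    (T : Sylow p H) (L : Subgroup H) [L.Normal] {c : H} (hc : c ∈ L) :
    c ∈ Subgroup.centralizer (zset p (T : Subgroup H)) ↔
      c ∈ Subgroup.centralizer (zset p ((T : Subgroup H) ⊓ L)) := by
  set S := (T : Subgroup H) ⊓ L with hSdef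
  set P := Cfsg.pCore p H with hP
  haveI := Fitting.pCore_normal (G := H) p
  have hPT : P ≤ (T : Subgroup H) := IsPGroup.le_sylow_of_normal (Fitting.pCore_isPGroup p) T
  have hSL : ∀ C : Subgroup H, S ≤ C → C ≤ L → ¬ p ∣ S.relIndex C := by
    intro C hSC hCL hd
    have h1 : S.relIndex C ∣ S.relIndex L :=
      ⟨C.relIndex L, (Subgroup.relIndex_mul_relIndex _ _ _ hSC hCL).symm⟩
    have h2 := CharCore.not_dvd_relIndex_of_isSubnormal (Subgroup.Normal.isSubnormal inferInstance : L.IsSubnormal) T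
    rw [hSdef, Subgroup.inf_relIndex_right] at h1
    exact h2 (hd.trans h1)
  constructor
  · -- from `Ω₁Z(T)` to `Ω₁Z(T ∩ L)`
    intro hcT
    set C := L ⊓ Subgroup.centralizer (zset p (T : Subgroup H)) with hC
    have hSC : S ≤ C := le_inf inf_le_right fun s hs z hz =>
      ((hz.1.2 s hs.1).symm)
    have hTC : ∀ t ∈ (T : Subgroup H), t ∈ Subgroup.normalizer (C : Set H) := by
      intro t ht
      rw [Subgroup.mem_normalizer_iff]
      have key : ∀ t ∈ (T : Subgroup H), ∀ d ∈ C, t * d * t⁻¹ ∈ C := by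
        intro t ht d hd
        refine ⟨Subgroup.Normal.conj_mem inferInstance d hd.1 t, fun z hz => ?_⟩
        have h1 : Commute z t := ((hz.1.2 t ht).symm)
        exact ((h1.mul_right (hd.2 z hz)).mul_right h1.inv_right).eq
      refine fun d => ⟨key t ht d, fun hd => ?_⟩
      have := key t⁻¹ (inv_mem ht) _ hd
      simpa [mul_assoc] using this
    set Q := (Cfsg.pCore p L).map L.subtype with hQdef
    have hQn : Q.Normal := by
      haveI : (Cfsg.pCore p L).Characteristic :=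
        Subgroup.characteristic_iff_map_eq.mpr fun φ => CharCore.map_pCore φ
      infer_instance
    set M := Q ⊓ Subgroup.centralizer (Q : Set H) with hM
    haveI : IsMulCommutative M := ⟨⟨fun a b => Subtype.ext (b.2.2 a a.2.1)⟩⟩
    have hMn : M.Normal := inferInstance
    have hQS : Q ≤ S := le_inf ((IsPGroup.le_sylow_of_normal ((Fitting.pCore_isPGroup p).map _) T))
      (Subgroup.map_subtype_le _)
    have hZM : zset p S ⊆ (M : Set H) := by
      intro z hz
      have hzC : z ∈ Subgroup.centralizer (Q : Set H) := Subgroup.centralizer_le hQS hz.1.2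
      refine ⟨⟨⟨z, hz.1.1.2⟩, PSolvable.centralizer_pCore_le_of_normal hH L fun q hq => Subtype.ext
        (hzC q (Subgroup.mem_map_of_mem L.subtype hq)), rfl⟩, hzC⟩
    obtain ⟨n, hn⟩ : ∃ n, Subgroup.upperCentralSeries (T : Subgroup H) n = ⊤ := by
      haveI := T.2.isNilpotent
      exact Group.IsNilpotent.nilpotent (G := (T : Subgroup H))
    suffices key : ∀ (k : ℕ) (x : (T : Subgroup H)), (x : H) ∈ zset p S →
        x ∈ Subgroup.upperCentralSeries (T : Subgroup H) k → ∀ d ∈ C, d * x * d⁻¹ = x by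
      intro z hz
      exact (mul_inv_eq_iff_eq_mul.mp
        (key n ⟨z, hz.1.1.1⟩ hz (hn ▸ Subgroup.mem_top _) c ⟨hc, hcT⟩)).symm
    intro k
    induction k with
    | zero =>
      intro x _ hx d _
      rw [Subgroup.upperCentralSeries_zero, Subgroup.mem_bot] at hx
      subst hx
      simp
    | succ k ih =>
      intro x hx hxk
      have hfix : ∀ t ∈ (T : Subgroup H), ∀ d ∈ C,
          d * (t * x * t⁻¹ * (x : H)⁻¹) * d⁻¹ = t * x * t⁻¹ * (x : H)⁻¹ := by
        intro t ht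
        refine ih (⟨t, ht⟩ * x * ⟨t, ht⟩⁻¹ * x⁻¹) ?_ ?_
        · have hxZ := hx
          obtain ⟨⟨hxS, hxC⟩, hxp⟩ := hxZ
          have hcom : ∀ s ∈ S, Commute s (t * x * t⁻¹) := fun s hs => by
            have h1 : t⁻¹ * s * t ∈ S := ⟨(T : Subgroup H).mul_mem ((T : Subgroup H).mul_mem (inv_mem ht) hs.1) ht,
              Subgroup.Normal.conj_mem' inferInstance s hs.2 t⟩
            have h2 := hxC _ h1
            calc s * (t * x * t⁻¹) = t * (t⁻¹ * s * t * x) * t⁻¹ := by group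
              _ = t * (x * (t⁻¹ * s * t)) * t⁻¹ := by rw [h2]
              _ = t * x * t⁻¹ * s := by group
          have hmem : t * x * t⁻¹ ∈ S := ⟨(T : Subgroup H).mul_mem
            ((T : Subgroup H).mul_mem ht x.2) (inv_mem ht),
            Subgroup.Normal.conj_mem inferInstance _ hxS.2 t⟩
          refine ⟨⟨S.mul_mem hmem (S.inv_mem hxS), fun s hs =>
            ((hcom s hs).mul_right (Commute.inv_right (hxC s hs))).eq⟩, ?_⟩
          show (t * x * t⁻¹ * (x : H)⁻¹) ^ p = 1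
          rw [(hcom _ hxS).symm.inv_right.mul_pow, conj_pow, inv_pow, hxp]
          group
        · have h1 := Subgroup.mem_upperCentralSeries_succ_iff.mp hxk ⟨t, ht⟩
          have h2 := inv_mem h1
          rwa [show (⟨t, ht⟩ * x * ⟨t, ht⟩⁻¹ * x⁻¹ : (T : Subgroup H)) = ⁅x, ⟨t, ht⟩⁆⁻¹ by
            rw [commutatorElement_def]; group]
      obtain ⟨m, u, hm, huM, huC, hup, -, hut⟩ := exists_orbit_prod M C S ⊤
        Subgroup.le_normalizer_of_normal (hSL C hSC inf_le_left) (hZM hx)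
        (fun s hs => by rw [hx.1.2 s hs, mul_inv_cancel_right]) hx.2 (fun _ _ => trivial)
      have hy : ((x : H) ^ m * u⁻¹) ∈ zset p (T : Subgroup H) := by
        have hcomm : Commute (x : H) u :=
          congrArg Subtype.val (mul_comm (⟨_, hZM hx⟩ : M) ⟨u, huM⟩)
        refine ⟨⟨(T : Subgroup H).mul_mem (pow_mem x.2 m) ((T : Subgroup H).inv_mem (hQS huM.1).1), fun t ht => ?_⟩, ?_⟩
        · have hf : t * x * t⁻¹ * (x : H)⁻¹ ∈ M :=
            M.mul_mem (hMn.conj_mem _ (hZM hx) t) (M.inv_mem (hZM hx))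
          have h1 := hut t (hTC t ht) (Subgroup.le_normalizer_of_normal (K := ⊤) trivial) hf
            (hfix t ht)
          refine mul_inv_eq_iff_eq_mul.mp ?_
          have hfx : Commute (t * x * t⁻¹ * (x : H)⁻¹) x :=
            congrArg Subtype.val (mul_comm (⟨_, hf⟩ : M) ⟨_, hZM hx⟩)
          calc t * ((x : H) ^ m * u⁻¹) * t⁻¹
              = (t * x * t⁻¹) ^ m * (t * u * t⁻¹)⁻¹ := by rw [conj_pow]; group
            _ = ((t * x * t⁻¹ * (x : H)⁻¹) * x) ^ m * (u * (t * x * t⁻¹ * (x : H)⁻¹) ^ m)⁻¹ := by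
              rw [h1, inv_mul_cancel_right]
            _ = (t * x * t⁻¹ * (x : H)⁻¹) ^ m * ((x : H) ^ m *
                  ((t * x * t⁻¹ * (x : H)⁻¹) ^ m)⁻¹) * u⁻¹ := by
              rw [hfx.mul_pow]; group
            _ = (x : H) ^ m * u⁻¹ := by
              rw [((hfx.pow_pow m m).symm.inv_right).eq]; group
        · rw [((hcomm.pow_left m).inv_right).mul_pow, inv_pow, hup, ← pow_mul, mul_comm, pow_mul,
            hx.2, one_pow, inv_one, one_mul]
      intro d hd
      have h2 := hd.2 _ hy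
      have h3 : Commute d ((x : H) ^ m) := by
        have e1 : Commute d u := mul_inv_eq_iff_eq_mul.mp (huC d hd)
        have e2 := (show Commute d ((x : H) ^ m * u⁻¹) from h2.symm).mul_right e1
        rwa [inv_mul_cancel_right] at e2
      have hcop : (orderOf (x : H)).Coprime m :=
        (Nat.Coprime.coprime_dvd_right (orderOf_dvd_of_pow_eq_one hx.2) hm).symm
      obtain ⟨j, hj⟩ := exists_pow_eq_self_of_coprime hcop.symm
      rw [← hj, ((h3.pow_right j)).eq, mul_inv_cancel_right]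
  · -- and back
    intro hcS z hz
    set M := P ⊓ Subgroup.centralizer (P : Set H) with hM
    haveI : IsMulCommutative M := ⟨⟨fun a b => Subtype.ext (b.2.2 a a.2.1)⟩⟩
    have hzC : z ∈ Subgroup.centralizer (P : Set H) := Subgroup.centralizer_le hPT hz.1.2
    have hzM : z ∈ M := ⟨hH hzC, hzC⟩
    obtain ⟨m, u, hm, huM, huC, hup, huW, -⟩ := exists_orbit_prod M L S L
      Subgroup.le_normalizer_of_normal (hSL L inf_le_right le_rfl) hzM
      (fun s hs => by rw [hz.1.2 s hs.1, mul_inv_cancel_right]) hz.2 (fun d hd => by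
        rw [show d * z * d⁻¹ * z⁻¹ = d * (z * d⁻¹ * z⁻¹) by group]
        exact L.mul_mem hd (Subgroup.Normal.conj_mem inferInstance _ (L.inv_mem hd) z))
    have hw : u * (z ^ m)⁻¹ ∈ zset p S := by
      have hcomm : Commute u z := congrArg Subtype.val (mul_comm (⟨u, huM⟩ : M) ⟨z, hzM⟩)
      refine ⟨⟨⟨(T : Subgroup H).mul_mem (hPT huM.1) (inv_mem (pow_mem hz.1.1 m)), huW⟩,
        fun s hs => ?_⟩, ?_⟩
      · exact ((show Commute s u from mul_inv_eq_iff_eq_mul.mp (huC s hs.2)).mul_right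
          ((show Commute s z from hz.1.2 s hs.1).pow_right m).inv_right).eq
      · rw [((hcomm.pow_right m).inv_right).mul_pow, inv_pow, hup, ← pow_mul, mul_comm, pow_mul,
          hz.2, one_pow, inv_one, one_mul]
    have h3 : Commute c (z ^ m) := by
      have e1 : Commute c u := mul_inv_eq_iff_eq_mul.mp (huC c hc)
      have e2 := (show Commute c (u * (z ^ m)⁻¹) from (hcS _ hw).symm).inv_right.mul_right e1
      rwa [mul_inv_rev, inv_inv, inv_mul_cancel_right] at e2
    have hcop : (orderOf z).Coprime m :=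
      (Nat.Coprime.coprime_dvd_right (orderOf_dvd_of_pow_eq_one hz.2) hm).symm
    obtain ⟨j, hj⟩ := exists_pow_eq_self_of_coprime hcop.symm
    rw [← hj]
    exact (h3.pow_right j).eq.symm

/-- Kieler's Lemma: let H be a finite group of characteristic p (C_H(O_p(H)) ≤ O_p(H)), T a Sylow p-subgroup of H and L a subnormal subgroup of H. Then C_L(Ω₁(Z(T))) = C_L(Ω₁(Z(T ∩ L))), Ω₁(Z(·)) denoting the elements of order dividing p in the centre. -/
theorem result {H : Type*} [Group H] [Finite H] {p : ℕ} [Fact p.Prime] (hH : Subgroup.centralizer (Cfsg.pCore p H : Set H) ≤ Cfsg.pCore p H) (T : Sylow p H) (L : Subgroup H) (hL : L.IsSubnormal) : L ⊓ Subgroup.centralizer ((Cfsg.omegaOne p ((T : Subgroup H) ⊓ Subgroup.centralizer ((T : Subgroup H) : Set H))) : Set H) = L ⊓ Subgroup.centralizer ((Cfsg.omegaOne p (((T : Subgroup H) ⊓ L) ⊓ Subgroup.centralizer ((((T : Subgroup H) ⊓ L) : Subgroup H) : Set H))) : Set H) := by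
  rw [omegaOne, omegaOne, Subgroup.centralizer_closure, Subgroup.centralizer_closure]
  change L ⊓ Subgroup.centralizer (zset p (T : Subgroup H)) =
    L ⊓ Subgroup.centralizer (zset p ((T : Subgroup H) ⊓ L))
  induction hL with
  | top => rw [inf_top_eq]
  | step L K hle hsub hn ih =>
    haveI := hn
    set TK := (T.2.comap_of_injective K.subtype K.subtype_injective).toSylow
      (CharCore.not_dvd_relIndex_of_isSubnormal hsub T) with hTK
    have hT1 : ∀ z : K, (z : H) ∈ zset p ((T : Subgroup H) ⊓ K) ↔ z ∈ zset p (TK : Subgroup K) := by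
      intro z
      constructor
      · rintro ⟨⟨h1, h2⟩, h3⟩
        exact ⟨⟨h1.1, fun s hs => Subtype.ext (h2 s ⟨hs, s.2⟩)⟩,
          Subtype.ext (by rw [Subgroup.coe_pow, h3]; rfl)⟩
      · rintro ⟨⟨h1, h2⟩, h3⟩
        exact ⟨⟨⟨h1, z.2⟩, fun s hs => congrArg Subtype.val (h2 ⟨s, hs.2⟩ hs.1)⟩,
          by rw [← Subgroup.coe_pow, h3]; rfl⟩
    have hT2 : ∀ z : K, (z : H) ∈ zset p ((T : Subgroup H) ⊓ L) ↔
        z ∈ zset p ((TK : Subgroup K) ⊓ L.subgroupOf K) := by
      intro z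
      constructor
      · rintro ⟨⟨h1, h2⟩, h3⟩
        exact ⟨⟨⟨h1.1, h1.2⟩, fun s hs => Subtype.ext (h2 s ⟨hs.1, hs.2⟩)⟩,
          Subtype.ext (by rw [Subgroup.coe_pow, h3]; rfl)⟩
      · rintro ⟨⟨h1, h2⟩, h3⟩
        exact ⟨⟨⟨h1.1, h1.2⟩, fun s hs => congrArg Subtype.val (h2 ⟨s, hle hs.2⟩ ⟨hs.1, hs.2⟩)⟩,
          by rw [← Subgroup.coe_pow, h3]; rfl⟩
    ext c
    refine and_congr_right fun hc => ?_
    have hK1 : c ∈ Subgroup.centralizer (zset p (T : Subgroup H)) ↔
        c ∈ Subgroup.centralizer (zset p ((T : Subgroup H) ⊓ K)) :=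
      ⟨fun h => (ih ▸ (⟨hle hc, h⟩ : c ∈ K ⊓ Subgroup.centralizer (zset p (T : Subgroup H))) :
          c ∈ K ⊓ Subgroup.centralizer (zset p ((T : Subgroup H) ⊓ K))).2,
        fun h => (ih.symm ▸ (⟨hle hc, h⟩ : c ∈ K ⊓ Subgroup.centralizer (zset p ((T : Subgroup H) ⊓ K))) :
          c ∈ K ⊓ Subgroup.centralizer (zset p (T : Subgroup H))).2⟩
    refine hK1.trans ?_
    have h := normal_case (CharCore.cp_of_isSubnormal hsub hH) TK (L.subgroupOf K)
      (c := ⟨c, hle hc⟩) hc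
    constructor
    · intro h1 z hz
      exact congrArg Subtype.val (h.mp (fun w hw => Subtype.ext (h1 w ((hT1 w).mpr hw)))
        ⟨z, hle hz.1.1.2⟩ ((hT2 _).mp hz))
    · intro h1 z hz
      exact congrArg Subtype.val (h.mpr (fun w hw => Subtype.ext (h1 w ((hT2 w).mpr hw)))
        ⟨z, hz.1.1.2⟩ ((hT1 _).mp hz))

end Cfsg.Agent.S2805
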