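import Cfsg.Statements.S0276
import Cfsg.Agent.Lib.SL2.PSL

set_option autoImplicit false
open Cfsg

namespace Cfsg.Agent.S0276

/-- For q = 3 or 5 mod 8 the Sylow 2-subgroups of PSL_2(q) are elementary abelian of order 4. -/
theorem result {F : Type*} [Field F] [Fintype F] {q : ℕ} (hF : Fintype.card F = q) (hq : q % 8 = 3 ∨ q % 8 = 5) (P : Sylow 2 (Matrix.ProjectiveSpecialLinearGroup (Fin 2) F)) : IsKleinFour (P : Subgroup (Matrix.ProjectiveSpecialLinearGroup (Fin 2) F)) := by
  subst hF
  set q := Fintype.card F with hq'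
  have hF : Nat.card F = q := Nat.card_eq_fintype_card
  have hgcd : Nat.gcd 2 (q - 1) = 2 := Nat.gcd_eq_left (by omega)
  set G := Matrix.ProjectiveSpecialLinearGroup (Fin 2) F
  have hcard : Nat.card (P : Subgroup G) = 4 := by
    have h := CfsgLib.SL2.card_PSL (F := F)
    rw [hF, hgcd] at h
    obtain ⟨a, ha, hev⟩ : ∃ a, (q - 1) * (q + 1) = 8 * a ∧ a % 2 = 1 := by
      rcases hq with h8 | h8
      · refine ⟨(8 * (q / 8) + 2) / 2 * ((8 * (q / 8) + 4) / 4), ?_, ?_⟩
        · rw [show q - 1 = 2 * ((8 * (q / 8) + 2) / 2) by omega, show q + 1 = 4 * ((8 * (q / 8) + 4) / 4) by omega]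
          ring
        · rw [Nat.mul_mod, show (8 * (q / 8) + 2) / 2 % 2 = 1 by omega, show (8 * (q / 8) + 4) / 4 % 2 = 1 by omega]
      · refine ⟨(8 * (q / 8) + 4) / 4 * ((8 * (q / 8) + 6) / 2), ?_, ?_⟩
        · rw [show q - 1 = 4 * ((8 * (q / 8) + 4) / 4) by omega, show q + 1 = 2 * ((8 * (q / 8) + 6) / 2) by omega]
          ring
        · rw [Nat.mul_mod, show (8 * (q / 8) + 4) / 4 % 2 = 1 by omega, show (8 * (q / 8) + 6) / 2 % 2 = 1 by omega]
    rw [ha] at h
    have hG : Nat.card G = 2 ^ 2 * (q * a) := by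
      refine Nat.eq_of_mul_eq_mul_left two_pos ?_
      rw [h]; ring
    have hodd : ¬ 2 ∣ q * a := by
      intro hd
      rcases (Nat.Prime.dvd_mul Nat.prime_two).mp hd with hd | hd <;> omega
    rw [P.card_eq_multiplicity, hG, Nat.factorization_mul (by norm_num) (by rintro h0; rw [h0] at hodd; simp at hodd),
      Finsupp.add_apply, Nat.factorization_eq_zero_of_not_dvd hodd, Nat.Prime.factorization_pow Nat.prime_two]
    simp
  obtain ⟨f, hfp, hfc⟩ := FiniteField.card F (ringChar F)
  have : Fact (ringChar F).Prime := ⟨hfp⟩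
  have hsq : ∀ x : (P : Subgroup G), x ^ 2 = 1 := by
    intro x
    have h4 : orderOf (x : G) ∣ 4 := by
      rw [Subgroup.orderOf_coe, ← hcard]
      exact orderOf_dvd_natCard x
    obtain ⟨g, hg⟩ := CfsgLib.SL2.proj_surjective (x : G)
    have hmem : orderOf (x : G) ∣ ringChar F ∨ orderOf (x : G) ∣ (q - 1) / 2 ∨ orderOf (x : G) ∣ (q + 1) / 2 := by
      rw [← hg]
      by_cases hreg : CfsgLib.SL2.Regular g
      · have hd := Subgroup.orderOf_dvd_natCard ((CfsgLib.SL2.cent g).map CfsgLib.SL2.proj)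
          (x := CfsgLib.SL2.proj g) ⟨g, CfsgLib.SL2.self_mem_cent g, rfl⟩
        rcases (CfsgLib.SL2.proj_cent_regular hreg).2 with e | e <;> rw [e, hF, hgcd] at hd
        · exact Or.inr (Or.inl hd)
        · exact Or.inr (Or.inr hd)
      · exact Or.inl (orderOf_dvd_of_pow_eq_one (CfsgLib.SL2.proj_pow_char_of_not_regular hreg _))
    have h2 : orderOf (x : G) ∣ 2 := by
      rcases (Nat.dvd_prime_pow Nat.prime_two (m := 2)).mp (h4.trans (dvd_of_eq (show 4 = 2 ^ 2 by norm_num))) with ⟨k, hk, he⟩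
      interval_cases k
      · rw [he]; norm_num
      · rw [he]; norm_num
      · exfalso
        rw [he] at hmem
        rcases hmem with h | h | h
        · have h' : 2 ∣ ringChar F := Dvd.dvd.trans (by norm_num) h
          have h'' : 2 ∣ q := by
            rw [hq', hfc]
            exact dvd_pow h' f.pos.ne'
          omega
        · norm_num at h
          omega
        · norm_num at h
          omega
    apply Subtype.ext
    rw [Subgroup.coe_pow, Subgroup.coe_one]
    exact orderOf_dvd_iff_pow_eq_one.mp h2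
  refine ⟨hcard, Nat.dvd_antisymm (Monoid.exponent_dvd_of_forall_pow_eq_one hsq) ?_⟩
  have : Nontrivial (P : Subgroup G) := Finite.one_lt_card_iff_nontrivial.mp (by omega)
  rcases (Nat.dvd_prime Nat.prime_two).mp (Monoid.exponent_dvd_of_forall_pow_eq_one hsq) with h | h
  · exact absurd (Monoid.exp_eq_one_iff.mp h) (not_subsingleton _)
  · rw [h]

end Cfsg.Agent.S0276
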