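import Cfsg.Statements.S0039
import Mathlib
import Cfsg.Agent.Lib.FrobCompl.Counting

set_option autoImplicit false
set_option linter.style.haveILetI false
open Cfsg

namespace Cfsg.Agent.S0039

/-- In a finite group that is a semidirect product of a normal subgroup K by a nontrivial subgroup H, H is a Frobenius complement exactly when each nonidentity element of H acts without nonidentity fixed points on K by conjugation. -/
theorem result {G : Type*} [Group G] [Finite G] (K H : Subgroup G) [K.Normal]
    (hc : Subgroup.IsComplement' K H) (hK : K ≠ ⊥) (hH : H ≠ ⊥) :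
    Cfsg.IsFrobeniusComplement H ↔ ∀ h ∈ H, h ≠ 1 → K ⊓ Subgroup.centralizer {h} = ⊥ := by
  constructor
  · intro hF h hh h1
    rw [eq_bot_iff]
    intro k hk
    obtain ⟨hkK, hkc⟩ := Subgroup.mem_inf.mp hk
    have hcm : h * k = k * h := Subgroup.mem_centralizer_singleton_iff.mp hkc |>.symm
    have hkH : k ∈ H := CfsgLib.FrobCompl.mem_of_conj_mem hF h1 hh (by
      rw [mul_assoc, hcm, inv_mul_cancel_left]; exact hh)
    rw [← hc.disjoint.eq_bot]
    exact ⟨hkK, hkH⟩
  · intro hfpf
    refine ⟨hH, fun h => hK ?_, fun g hg => ?_⟩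
    · rw [h] at hc
      exact Subgroup.isComplement'_top_right.mp hc
    · rw [eq_bot_iff]
      intro x hx
      rw [Subgroup.mem_inf, CfsgLib.FrobCompl.mem_conj_smul] at hx
      rw [Subgroup.mem_bot]
      by_contra hx1
      obtain ⟨hxH, hxg⟩ := hx
      have hg' : g ∈ (↑(K ⊔ H) : Set G) := by rw [hc.sup_eq_top]; exact Set.mem_univ g
      rw [Subgroup.normal_mul] at hg'
      obtain ⟨k, hk, h, hh, rfl⟩ := Set.mem_mul.mp hg'
      set y := k⁻¹ * x * k with hy
      have hyH : y ∈ H := by
        have := H.mul_mem (H.mul_mem hh hxg) (H.inv_mem hh)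
        simpa [hy, mul_assoc] using this
      have hKy : x⁻¹ * y ∈ K := by
        have h1 := (inferInstance : K.Normal).conj_mem k⁻¹ (K.inv_mem hk) x⁻¹
        simpa [hy, mul_assoc] using K.mul_mem h1 hk
      have hxy : x⁻¹ * y = 1 := by
        have : x⁻¹ * y ∈ (⊥ : Subgroup G) :=
          hc.disjoint.eq_bot ▸ ⟨hKy, H.mul_mem (H.inv_mem hxH) hyH⟩
        exact this
      rw [inv_mul_eq_one] at hxy
      have hk1 : k ∈ (⊥ : Subgroup G) := hfpf x hxH hx1 ▸ ⟨hk,
        Subgroup.mem_centralizer_singleton_iff.mpr (show k * x = x * k by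
          have e : x = k⁻¹ * x * k := hxy.trans hy
          calc k * x = k * (k⁻¹ * x * k) := by rw [← e]
            _ = x * k := by group)⟩
      rw [Subgroup.mem_bot] at hk1
      subst hk1
      exact hg (by simpa using hh)

end Cfsg.Agent.S0039
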