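import Cfsg.Statements.S0068
import Mathlib

set_option autoImplicit false
set_option linter.style.haveILetI false
open Cfsg

namespace Cfsg.Agent.S0068

/-- Frobenius complements of even order: if H complements a nontrivial normal subgroup K, each nonidentity element of H has trivial centraliser in K, and H has even order, then H contains a unique involution s, K is abelian, and s inverts every element of K. -/
theorem result {G : Type*} [Group G] [Finite G] (K H : Subgroup G) [K.Normal]
    (hc : Subgroup.IsComplement' K H) (hK : K ≠ ⊥) (hfpf : ∀ h ∈ H, h ≠ 1 → K ⊓ Subgroup.centralizer {h} = ⊥)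
    (heven : 2 ∣ Nat.card H) :
    (∃ s ∈ H, orderOf s = 2 ∧ (∀ t ∈ H, orderOf t = 2 → t = s) ∧ ∀ k ∈ K, s * k * s⁻¹ = k⁻¹) ∧ IsMulCommutative K := by
  classical
  obtain ⟨⟨s, hs⟩, hso⟩ := exists_prime_orderOf_dvd_card' (G := H) 2 heven
  rw [Subgroup.orderOf_mk] at hso
  have inv : ∀ t ∈ H, orderOf t = 2 → ∀ k ∈ K, t * k * t⁻¹ = k⁻¹ := by
    intro t ht hto k hk
    have ht1 : t ≠ 1 := fun h => by simp [h] at hto
    let φ : MulAut K := MulAut.conjNormal t
    have hfix : MonoidHom.FixedPointFree φ := by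
      intro a ha
      have ha' : t * (a : G) * t⁻¹ = a := congrArg Subtype.val ha
      have : (a : G) ∈ (⊥ : Subgroup G) := hfpf t ht ht1 ▸ ⟨a.2,
        Subgroup.mem_centralizer_singleton_iff.mpr (mul_inv_eq_iff_eq_mul.mp ha').symm⟩
      exact Subtype.ext this
    have h2 : Function.Involutive φ := by
      intro a
      apply Subtype.ext
      have htt : t * t = 1 := by rw [← pow_two, ← hto, pow_orderOf_eq_one]
      show t * (t * (a : G) * t⁻¹) * t⁻¹ = a
      rw [show t * (t * (a : G) * t⁻¹) * t⁻¹ = (t * t) * a * (t * t)⁻¹ by group, htt]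
      simp
    exact congrArg Subtype.val (congrFun (hfix.coe_eq_inv_of_involutive h2) ⟨k, hk⟩)
  have hs1 : s ≠ 1 := fun h => by simp [h] at hso
  refine ⟨⟨s, hs, hso, fun t ht hto => ?_, inv s hs hso⟩, ⟨⟨fun a b => ?_⟩⟩⟩
  · by_contra hne
    have hne' : s⁻¹ * t ≠ 1 := fun h => hne (inv_mul_eq_one.mp h).symm
    obtain ⟨⟨k, hk⟩, hk1⟩ := Subgroup.ne_bot_iff_exists_ne_one.mp hK
    have : k ∈ (⊥ : Subgroup G) := hfpf _ (H.mul_mem (H.inv_mem hs) ht) hne' ▸ ⟨hk,
      Subgroup.mem_centralizer_singleton_iff.mpr (by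
        have h1 := inv t ht hto k hk
        rw [← inv s hs hso k hk] at h1
        rw [mul_inv_eq_iff_eq_mul] at h1
        calc k * (s⁻¹ * t) = s⁻¹ * (s * k * s⁻¹ * t) := by group
          _ = s⁻¹ * t * k := by rw [← h1]; group)⟩
    exact hk1 (Subtype.ext this)
  · apply Subtype.ext
    have h1 := inv s hs hso _ (K.mul_mem a.2 b.2)
    rw [← conj_mul, inv s hs hso _ a.2, inv s hs hso _ b.2] at h1
    exact (by simpa using congrArg (fun u => u⁻¹) h1 : (b : G) * a = a * b).symm

end Cfsg.Agent.S0068
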