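import Cfsg.Statements.S0666
import Cfsg.Agent.Lib.FrobCompl.Kernel
import Cfsg.Agent.Lib.FrobCompl.Fpf

set_option autoImplicit false
open Cfsg

namespace Cfsg.Agent.S0666

/-- A Frobenius group acting on a nontrivial abelian group of order prime to that of its kernel, with the kernel acting without nontrivial fixed points, has a complement with a nontrivial fixed point. -/
theorem result {G : Type*} [Group G] [Finite G] (V F : Subgroup G) (hVab : IsMulCommutative V) (hV1 : V ≠ ⊥) (hFV : F ≤ Subgroup.normalizer (V : Set G)) (H : Subgroup ↥F) (hH : Cfsg.IsFrobeniusComplement H) (hcop : (Nat.card V).Coprime (Nat.card (Cfsg.frobeniusKernel H))) (hCK : V ⊓ Subgroup.centralizer (Subtype.val '' Cfsg.frobeniusKernel H : Set G) = ⊥) : V ⊓ Subgroup.centralizer ((H.map F.subtype : Subgroup G) : Set G) ≠ ⊥ := by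
  classical
  haveI := Fintype.ofFinite G
  obtain ⟨N, hNeq, hNn, hNc⟩ := CfsgLib.FrobCompl.exists_kernel_complement hH
  haveI := hNn
  letI : CommGroup V := { (inferInstance : Group V) with mul_comm := hVab.is_comm.comm }
  haveI := Fintype.ofFinite N
  haveI := Fintype.ofFinite H
  haveI := Fintype.ofFinite V
  let act : ↥F → V →* V := fun g =>
    { toFun := fun v => ⟨g * v * (g : G)⁻¹, (Subgroup.mem_normalizer_iff.mp (hFV g.2) v).mp v.2⟩
      map_one' := Subtype.ext (by simp)
      map_mul' := fun v w => Subtype.ext (by simp [mul_assoc]) }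
  have hact : ∀ a b : ↥F, ∀ v, act a (act b v) = act (a * b) v := fun a b v =>
    Subtype.ext (by simp [act, mul_assoc])
  have hfix : ∀ a : ↥F, ∀ v : V, act a v = v → (a : G) * v = v * a := fun a v h => by
    have h' := congrArg Subtype.val h
    simp only [act, MonoidHom.coe_mk, OneHom.coe_mk] at h'
    rwa [mul_inv_eq_iff_eq_mul] at h'
  have hN1 : ∀ v : V, ∏ n : N, act n v = 1 := by
    intro v
    have hmem : ((∏ n : N, act n v : V) : G) ∈
        V ⊓ Subgroup.centralizer (Subtype.val '' Cfsg.frobeniusKernel H : Set G) := by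
      refine Subgroup.mem_inf.mpr ⟨Subtype.mem _, ?_⟩
      rintro _ ⟨m, hm, rfl⟩
      rw [← hNeq] at hm
      refine hfix m _ ?_
      rw [map_prod]
      exact Fintype.prod_equiv (Equiv.mulLeft (⟨m, hm⟩ : N)) _ _ fun n => hact m n v
    rw [hCK, Subgroup.mem_bot] at hmem
    exact Subtype.ext hmem
  intro hbot
  have hH1 : ∀ v : V, ∏ h : H, act h v = 1 := by
    intro v
    have hmem : ((∏ h : H, act h v : V) : G) ∈
        V ⊓ Subgroup.centralizer ((H.map F.subtype : Subgroup G) : Set G) := by
      refine Subgroup.mem_inf.mpr ⟨Subtype.mem _, ?_⟩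
      rintro _ ⟨m, hm, rfl⟩
      refine hfix m _ ?_
      rw [map_prod]
      exact Fintype.prod_equiv (Equiv.mulLeft (⟨m, hm⟩ : H)) _ _ fun n => hact m n v
    rw [hbot, Subgroup.mem_bot] at hmem
    exact Subtype.ext hmem
  refine hV1 ((Subgroup.eq_bot_iff_forall V).mpr fun x hx => ?_)
  set v : V := ⟨x, hx⟩ with hv
  have hsum : ∏ k : N, ∏ h : H, act (k * h * (k : ↥F)⁻¹) v = 1 := by
    refine Finset.prod_eq_one fun k _ => ?_
    have : ∀ h : H, act (k * h * (k : ↥F)⁻¹) v = act k (act h (act (k : ↥F)⁻¹ v)) := fun h => by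
      rw [hact, hact, mul_assoc]
    rw [Finset.prod_congr rfl fun h _ => this h, ← map_prod, hH1, map_one]
  rw [Finset.prod_comm, Finset.prod_eq_single (1 : H) ?_ (by simp)] at hsum
  · simp only [OneMemClass.coe_one, mul_one, mul_inv_cancel] at hsum
    rw [show act 1 v = v from Subtype.ext (by simp [act]), Finset.prod_const, Finset.card_univ,
      ← Nat.card_eq_fintype_card] at hsum
    have hcard : (Nat.card V).Coprime (Nat.card N) := by
      rw [← hNeq] at hcop
      exact hcop
    exact congrArg Subtype.val (orderOf_eq_one_iff.mp (Nat.eq_one_of_dvd_coprimes hcard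
      (orderOf_dvd_natCard v) (orderOf_dvd_of_pow_eq_one hsum)))
  · intro h _ h1
    have hmem : ∀ k : N, (k : ↥F) * h * (k : ↥F)⁻¹ * (h : ↥F)⁻¹ ∈ N := fun k => by
      rw [mul_assoc (k : ↥F), mul_assoc (k : ↥F)]
      exact mul_mem k.2 (hNn.conj_mem _ (inv_mem k.2) _)
    let e : N → N := fun k => ⟨_, hmem k⟩
    have he : Function.Injective e := fun k k' hkk => by
      have h2 : (k : ↥F) * h * (k : ↥F)⁻¹ = k' * h * (k' : ↥F)⁻¹ :=
        mul_right_cancel (congrArg Subtype.val hkk :)
      have h3 : ((k' : ↥F)⁻¹ * k) ∈ H := by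
        refine CfsgLib.FrobCompl.mem_of_commute hH h.2 (fun hh => h1 (Subtype.ext hh)) ?_
        calc (k' : ↥F)⁻¹ * k * h = (k' : ↥F)⁻¹ * (k * h * (k : ↥F)⁻¹) * k := by group
          _ = _ := by rw [h2]; group
      have h4 : ((k' : ↥F)⁻¹ * k) ∈ N ⊓ H :=
        Subgroup.mem_inf.mpr ⟨mul_mem (inv_mem k'.2) k.2, h3⟩
      rw [hNc.disjoint.eq_bot, Subgroup.mem_bot, inv_mul_eq_one] at h4
      exact Subtype.ext h4.symm
    calc ∏ k : N, act (k * h * (k : ↥F)⁻¹) v
        = ∏ k : N, (fun n : N => act n (act h v)) (e k) := by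
          refine Finset.prod_congr rfl fun k _ => ?_
          show _ = act _ (act h v)
          rw [hact]
          congr 2
          show _ = (k : ↥F) * h * (k : ↥F)⁻¹ * (h : ↥F)⁻¹ * h
          group
      _ = ∏ n : N, act n (act h v) :=
          Fintype.prod_equiv (Equiv.ofBijective e ⟨he, Finite.injective_iff_surjective.mp he⟩) _ _
            fun k => rfl
      _ = 1 := hN1 _

end Cfsg.Agent.S0666
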