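import Cfsg.Statements.S4001
import Cfsg.Agent.S0039
import Cfsg.Agent.S0040
import Cfsg.Agent.S0068
import Cfsg.Agent.S0666
import Cfsg.Agent.Lib.FrobCompl.Noncyclic
import Cfsg.Agent.Lib.FrobCompl.Conjugate
import Cfsg.Agent.Lib.FrobCompl.Fpf
import Cfsg.Agent.Lib.Char.PiPart
import Cfsg.Agent.Lib.PSolvable.Core

set_option autoImplicit false
set_option linter.style.haveILetI false
open Cfsg

namespace Cfsg.Agent.S4001

theorem mem_normalizer_of' {L : Type*} [Group L] [Finite L] {K : Subgroup L} {g : L}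
    (h : ∀ x ∈ K, g * x * g⁻¹ ∈ K) : g ∈ Subgroup.normalizer (K : Set L) := by
  rw [Subgroup.mem_normalizer_iff]
  have e : K.map (MulAut.conj g).toMonoidHom = K :=
    Subgroup.eq_of_le_of_card_ge (by rintro _ ⟨x, hx, rfl⟩; exact h x hx)
      (Subgroup.card_map_of_injective (MulAut.conj g).injective).ge
  refine fun n => ⟨h n, fun hn => ?_⟩
  obtain ⟨m, hm, hmn⟩ := e.ge hn
  have : m = n := (MulAut.conj g).injective hmn
  exact this ▸ hm

theorem exists_orderOf_eq_of_dvd {L : Type*} [Group L] [Finite L] {x : L} {n : ℕ} (h : n ∣ orderOf x) :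
    ∃ y : L, orderOf y = n := by
  obtain ⟨m, hm⟩ := h
  have h0 := orderOf_pos x
  have hm0 : m ≠ 0 := fun e => by rw [e, mul_zero] at hm; omega
  have hn0 : 0 < n := Nat.pos_of_ne_zero fun e => by rw [e, zero_mul] at hm; omega
  exact ⟨x ^ m, by rw [orderOf_pow' x hm0, Nat.gcd_eq_right ⟨n, by rw [hm, mul_comm]⟩, hm, Nat.mul_div_cancel _ (Nat.pos_of_ne_zero hm0)]⟩

/-- A nilpotent complement of odd order is cyclic. -/
theorem isCyclic_complement {L : Type*} [Group L] [Finite L] (K H : Subgroup L) [K.Normal]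
    (hc : Subgroup.IsComplement' K H) (hK : K ≠ ⊥) (hfpf : ∀ h ∈ H, h ≠ 1 → K ⊓ Subgroup.centralizer {h} = ⊥)
    [Group.IsNilpotent H] (hodd : Odd (Nat.card H)) : IsCyclic H := by
  haveI : IsZGroup H := ⟨fun p hp P => by
    haveI := Fact.mk hp
    rcases Cfsg.Agent.S0040.result K H hc hK hfpf p P with h | ⟨n, ⟨e⟩⟩
    · exact h
    · exfalso
      have hd : Nat.card P ∣ Nat.card H := (P : Subgroup H).card_subgroup_dvd_card
      rw [Nat.card_congr e.toEquiv, Nat.card_eq_fintype_card, QuaternionGroup.card] at hd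
      exact hodd.not_two_dvd_nat ((dvd_mul_of_dvd_left (by norm_num) _).trans hd)⟩
  infer_instance

/-- An element of prime-power order centralizing a fixed-point lemma. -/
theorem exists_mul_order {G : Type*} [Group G] [Finite G] (H K : Subgroup G) [H.Normal] [K.Normal]
    (hHK : H ≤ K) [Group.IsNilpotent H] (C₀ : Subgroup G) (hCK : C₀ ≤ K) (hC1 : C₀ ≠ ⊥)
    (hdisj : H ⊓ C₀ = ⊥) (hcop : (Nat.card H).Coprime (Nat.card C₀))
    (hfH : ∀ c ∈ C₀, c ≠ 1 → ∀ h ∈ H, h * c = c * h → h = 1)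
    (hfK : ∀ z : G, z ∉ K → ∀ c ∈ C₀, c ≠ 1 → z * c ≠ c * z)
    {p q : ℕ} (hp : p.Prime) (hq : q.Prime) (hpq : p ≠ q) (hpH : p ∣ Nat.card H)
    (hqC : ¬ q ∣ Nat.card C₀) (x : G) (hxK : x ∉ K) (hxq : orderOf x = q)
    (hxn : x ∈ Subgroup.normalizer (C₀ : Set G)) : ∃ g : G, orderOf g = p * q := by
  haveI := Fact.mk hp
  haveI := Fact.mk hq
  obtain ⟨P⟩ := (inferInstance : Nonempty (Sylow p H))
  haveI hPn : (P : Subgroup H).Normal := P.normal_of_normalizerCondition Group.normalizerCondition_of_isNilpotent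
  haveI : Nontrivial (P : Subgroup H) :=
    (Subgroup.nontrivial_iff_ne_bot _).mpr (P.ne_bot_of_dvd_card hpH)
  let PG : Subgroup G := (P : Subgroup H).map H.subtype
  haveI : (P : Subgroup H).Characteristic := Sylow.characteristic_of_normal P hPn
  haveI : PG.Normal := CfsgLib.PSolvable.normal_map_of_characteristic H (P : Subgroup H)
  let V : Subgroup G := (Subgroup.center PG).map PG.subtype
  haveI : V.Normal := CfsgLib.PSolvable.normal_map_of_characteristic PG (Subgroup.center PG)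
  have hPp : IsPGroup p PG := P.isPGroup'.map H.subtype
  have hPGH : PG ≤ H := Subgroup.map_subtype_le _
  have hVP : V ≤ PG := Subgroup.map_subtype_le _
  have hVab : IsMulCommutative V := ⟨⟨by
    rintro ⟨a, a', ha, rfl⟩ ⟨b, b', hb, rfl⟩
    exact Subtype.ext (congrArg Subtype.val (Subgroup.mem_center_iff.mp ha b')).symm⟩⟩
  have hV1 : V ≠ ⊥ := by
    haveI : Nontrivial PG := (Subgroup.nontrivial_iff_ne_bot _).mpr (fun e =>
      P.ne_bot_of_dvd_card hpH ((Subgroup.map_eq_bot_iff_of_injective _ H.subtype_injective).mp e))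
    haveI := hPp.center_nontrivial
    intro e
    exact (Subgroup.nontrivial_iff_ne_bot _).mp this ((Subgroup.map_eq_bot_iff_of_injective _ PG.subtype_injective).mp e)
  let F : Subgroup G := C₀ ⊔ Subgroup.zpowers x
  have hXn : Subgroup.zpowers x ≤ Subgroup.normalizer (C₀ : Set G) := Subgroup.zpowers_le.mpr hxn
  haveI hNn : (C₀.subgroupOf F).Normal :=
    (Subgroup.normal_subgroupOf_iff_le_normalizer le_sup_left).mpr (sup_le Subgroup.le_normalizer hXn)
  have hint : C₀ ⊓ Subgroup.zpowers x = ⊥ := by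
    refine Subgroup.inf_eq_bot_of_coprime ?_
    rw [Nat.card_zpowers, hxq]
    exact (hq.coprime_iff_not_dvd.mpr hqC).symm
  have hc : Subgroup.IsComplement' (C₀.subgroupOf F) ((Subgroup.zpowers x).subgroupOf F) := by
    refine Subgroup.isComplement'_of_disjoint_and_mul_eq_univ ?_ ?_
    · rw [disjoint_iff, eq_bot_iff]
      intro z hz
      have : (z : G) ∈ C₀ ⊓ Subgroup.zpowers x :=
        ⟨Subgroup.mem_subgroupOf.mp hz.1, Subgroup.mem_subgroupOf.mp hz.2⟩
      rw [hint, Subgroup.mem_bot] at this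
      exact Subtype.ext this
    · rw [← Subgroup.normal_mul, ← Subgroup.subgroupOf_sup le_sup_left le_sup_right,
        Subgroup.subgroupOf_self, Subgroup.coe_top]
  have hxF : ∀ y ∈ (Subgroup.zpowers x).subgroupOf F, y ≠ 1 → (y : G) ∉ K := by
    intro y hy hy1 hyK
    have h1 : (y : G) ≠ 1 := fun e => hy1 (Subtype.ext e)
    have hgen : Subgroup.zpowers (y : G) = Subgroup.zpowers x := by
      refine Subgroup.eq_of_le_of_card_ge (Subgroup.zpowers_le.mpr (Subgroup.mem_subgroupOf.mp hy)) ?_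
      rw [Nat.card_zpowers, Nat.card_zpowers, hxq]
      have hd : orderOf (y : G) ∣ q := by
        rw [← hxq]; exact orderOf_dvd_of_mem_zpowers (Subgroup.mem_subgroupOf.mp hy)
      rcases (Nat.dvd_prime hq).mp hd with h | h
      · exact absurd (orderOf_eq_one_iff.mp h) h1
      · exact h.ge
    exact hxK ((Subgroup.zpowers_le.mpr hyK) (hgen ▸ Subgroup.mem_zpowers x))
  have hHf : IsFrobeniusComplement ((Subgroup.zpowers x).subgroupOf F) := by
    refine CfsgLib.FrobCompl.isFrobeniusComplement_of_fpf hc ?_ ?_ fun y hy hy1 k hk hkc => ?_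
    · rw [ne_eq, Subgroup.subgroupOf_eq_bot, disjoint_iff, inf_eq_left.mpr le_sup_left]
      exact hC1
    · rw [ne_eq, Subgroup.subgroupOf_eq_bot, disjoint_iff, inf_eq_left.mpr le_sup_right,
        Subgroup.zpowers_eq_bot]
      exact fun e => hxK (e ▸ one_mem _)
    · by_contra hk1
      exact hfK _ (hxF y hy hy1) (k : G) (Subgroup.mem_subgroupOf.mp hk) (fun e => hk1 (Subtype.ext e))
        (congrArg Subtype.val hkc).symm
  have hker : Cfsg.frobeniusKernel ((Subgroup.zpowers x).subgroupOf F) = (C₀.subgroupOf F : Set F) :=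
    CfsgLib.FrobCompl.frobeniusKernel_eq_of_complement hHf hc
  have hVc : (Nat.card V).Coprime (Nat.card C₀) :=
    hcop.coprime_dvd_left (Subgroup.card_dvd_of_le (hVP.trans hPGH))
  have key := Cfsg.Agent.S0666.result V F hVab hV1 Subgroup.le_normalizer_of_normal _ hHf
    (by rw [hker]; exact (Nat.card_congr (Subgroup.subgroupOfEquivOfLe (le_sup_left : C₀ ≤ F)).toEquiv) ▸ hVc)
    (by
      rw [hker, eq_bot_iff]
      intro v hv
      obtain ⟨c, hcC, hc1⟩ := (Subgroup.bot_or_exists_ne_one C₀).resolve_left hC1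
      rw [Subgroup.mem_bot]
      exact hfH c hcC hc1 v (hPGH (hVP hv.1))
        (Subgroup.mem_centralizer_iff.mp hv.2 c ⟨⟨c, Subgroup.mem_sup_left hcC⟩, hcC, rfl⟩).symm)
  obtain ⟨v, ⟨hvV, hvc⟩, hv1⟩ := (Subgroup.bot_or_exists_ne_one _).resolve_left key
  obtain ⟨n, hn⟩ := IsPGroup.iff_orderOf.mp hPp ⟨v, hVP hvV⟩
  rw [Subgroup.orderOf_mk] at hn
  have hpv : p ∣ orderOf v := by
    rcases n with _ | n
    · rw [pow_zero, orderOf_eq_one_iff] at hn; exact absurd hn hv1
    · rw [hn]; exact dvd_pow_self p n.succ_ne_zero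
  have hcm : Commute x v := Subgroup.mem_centralizer_iff.mp hvc x
    ⟨⟨x, Subgroup.mem_sup_right (Subgroup.mem_zpowers x)⟩, Subgroup.mem_subgroupOf.mpr (Subgroup.mem_zpowers x), rfl⟩
  have hmul : orderOf (x * v) = q * orderOf v := by
    rw [← hxq]; exact hcm.orderOf_mul_eq_mul_orderOf_of_coprime (by
      rw [hxq, hn]; exact ((Nat.coprime_primes hq hp).mpr hpq.symm).pow_right n)
  exact exists_orderOf_eq_of_dvd (x := x * v) (by rw [hmul, mul_comm p q]; exact mul_dvd_mul_left q hpv)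


/-- Let G be a 2-Frobenius group: it has normal subgroups H < K with K a Frobenius group with kernel H and G/H a Frobenius group with kernel K/H. Then G is solvable; K/H has odd order coprime to the order of H and to the order of G/K (it is the image of an odd-order Hall subgroup); G/K is cyclic; and the prime graph of G has exactly two connected components, both complete: for distinct primes p, q dividing the order of G, G has an element of order pq exactly when p and q either both divide the order of K/H or both do not. -/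
theorem result {G : Type*} [Group G] [Finite G] (H K : Subgroup G) [H.Normal] [K.Normal] (hlt : H < K)
    (hK : ∃ C : Subgroup ↥K, Cfsg.IsFrobeniusComplement C ∧ Cfsg.frobeniusKernel C = (H.subgroupOf K : Set ↥K))
    (hGH : ∃ C : Subgroup (G ⧸ H), Cfsg.IsFrobeniusComplement C ∧ Cfsg.frobeniusKernel C = (K.map (QuotientGroup.mk' H) : Set (G ⧸ H))) :
    Group.IsSolvable G ∧ Odd (Nat.card (↥K ⧸ H.subgroupOf K)) ∧
      Nat.Coprime (Nat.card (↥K ⧸ H.subgroupOf K)) (Nat.card ↥H * Nat.card (G ⧸ K)) ∧ IsCyclic (G ⧸ K) ∧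
      ∀ p q : ℕ, p.Prime → q.Prime → p ≠ q → p ∣ Nat.card G → q ∣ Nat.card G →
        ((∃ g : G, orderOf g = p * q) ↔ (p ∣ Nat.card (↥K ⧸ H.subgroupOf K) ↔ q ∣ Nat.card (↥K ⧸ H.subgroupOf K))) := by
  classical
  let π := QuotientGroup.mk' H
  let Kb := K.map π
  obtain ⟨C, hC, hCker⟩ := hK
  obtain ⟨D, hD, hDker⟩ := hGH
  obtain ⟨N', hN', hN'n, hN'c⟩ := CfsgLib.FrobCompl.exists_kernel_complement hC
  obtain rfl : N' = H.subgroupOf K := SetLike.coe_injective (hN'.trans hCker)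
  obtain ⟨M, hM, hMn, hMc⟩ := CfsgLib.FrobCompl.exists_kernel_complement hD
  obtain rfl : M = Kb := SetLike.coe_injective (hM.trans hDker)
  haveI hKbn : Kb.Normal := hMn
  have hle : H ≤ K := hlt.le
  have hH1 : H.subgroupOf K ≠ ⊥ := fun e => hC.2.1 (Subgroup.isComplement'_bot_left.mp (e ▸ hN'c))
  have hKb1 : Kb ≠ ⊥ := fun e => hD.2.1 (Subgroup.isComplement'_bot_left.mp (e ▸ hMc))
  have hfD : ∀ d ∈ D, d ≠ 1 → ∀ k ∈ Kb, k * d = d * k → k = 1 := by
    intro d hd hd1 k hk hcomm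
    have : k ∈ Kb ⊓ D := ⟨hk, CfsgLib.FrobCompl.mem_of_commute hD hd hd1 hcomm⟩
    rwa [hMc.disjoint.eq_bot, Subgroup.mem_bot] at this
  have hfD' : ∀ d ∈ D, d ≠ 1 → Kb ⊓ Subgroup.centralizer {d} = ⊥ :=
    (Cfsg.Agent.S0039.result Kb D hMc hKb1 hD.1).mp hD
  have hfC' : ∀ c ∈ C, c ≠ 1 → H.subgroupOf K ⊓ Subgroup.centralizer {c} = ⊥ :=
    (Cfsg.Agent.S0039.result _ C hN'c hH1 hC.1).mp hC
  haveI : Group.IsNilpotent H := by
    haveI := CfsgLib.FrobCompl.kernel_isNilpotent hC inferInstance hN'c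
    exact (Group.isNilpotent_congr (Subgroup.subgroupOfEquivOfLe hle)).mp inferInstance
  haveI : Group.IsNilpotent Kb := CfsgLib.FrobCompl.kernel_isNilpotent hD hKbn hMc
  -- the complement of `H` in `K` is isomorphic to the image
  let f : C →* Kb := ((π.comp K.subtype).comp C.subtype).codRestrict Kb (fun c => ⟨_, (c : K).2, rfl⟩)
  have hfinj : Function.Injective f := by
    rw [← MonoidHom.ker_eq_bot_iff, eq_bot_iff]
    intro c hc
    have h1 : (((c : K) : G)) ∈ H := (QuotientGroup.eq_one_iff _).mp (congrArg Subtype.val hc)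
    have h2 : (c : K) ∈ H.subgroupOf K ⊓ C := ⟨h1, c.2⟩
    rw [hN'c.disjoint.eq_bot, Subgroup.mem_bot] at h2
    exact Subtype.ext h2
  have hfsurj : Function.Surjective f := by
    rintro ⟨_, k, hk, rfl⟩
    obtain ⟨h, hh, c, hc, he⟩ := CfsgLib.FrobCompl.exists_kernel_mul hN'c (⟨k, hk⟩ : K)
    refine ⟨⟨c, hc⟩, Subtype.ext ?_⟩
    show π (c : G) = π k
    rw [show k = (h : G) * (c : G) from (congrArg Subtype.val he).symm, map_mul,
      show π (h : G) = 1 from (QuotientGroup.eq_one_iff _).mpr hh, one_mul]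
  let e : C ≃* Kb := MulEquiv.ofBijective f ⟨hfinj, hfsurj⟩
  have hcard : Nat.card C = Nat.card Kb := Nat.card_congr e.toEquiv
  have hidx : Nat.card (↥K ⧸ H.subgroupOf K) = Nat.card C := hN'c.symm.index_eq_card
  have hcard_H : Nat.card (H.subgroupOf K) = Nat.card H :=
    Nat.card_congr (Subgroup.subgroupOfEquivOfLe hle).toEquiv
  have hcardD : Nat.card (G ⧸ K) = Nat.card D := by
    rw [← hMc.symm.index_eq_card]
    show K.index = _
    exact (Subgroup.index_map_eq K (QuotientGroup.mk'_surjective H) (by rw [QuotientGroup.ker_mk']; exact hle)).symm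
  have hcopH : (Nat.card H).Coprime (Nat.card C) := hcard_H ▸ CfsgLib.FrobCompl.isComplement_coprime hC hN'c
  have hcopD : (Nat.card C).Coprime (Nat.card D) := hcard.symm ▸ CfsgLib.FrobCompl.isComplement_coprime hD hMc
  have hcardG : Nat.card G = Nat.card H * Nat.card C * Nat.card D := by
    rw [Subgroup.card_eq_card_quotient_mul_card_subgroup K, ← hN'c.card_mul, hcardD, hcard_H]
    ring
  -- oddness
  have hodd : Odd (Nat.card C) := by
    rw [← Nat.not_even_iff_odd, even_iff_two_dvd]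
    intro h2
    obtain ⟨⟨s, hs, hso, hsu, -⟩, -⟩ := Cfsg.Agent.S0068.result _ C hN'c hH1 hfC' h2
    set t : Kb := e ⟨s, hs⟩
    have hto : orderOf t = 2 := by rw [MulEquiv.orderOf_eq, Subgroup.orderOf_mk, hso]
    obtain ⟨d, hd, hd1⟩ := (Subgroup.bot_or_exists_ne_one D).resolve_left hD.1
    have hconj : d * (t : G ⧸ H) * d⁻¹ = t := by
      have hm : d * (t : G ⧸ H) * d⁻¹ ∈ Kb := hKbn.conj_mem _ t.2 d
      have h3 : orderOf (⟨_, hm⟩ : Kb) = 2 := by
        rw [Subgroup.orderOf_mk, show d * (t : G ⧸ H) * d⁻¹ = MulAut.conj d (t : G ⧸ H) from rfl,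
          MulEquiv.orderOf_eq, Subgroup.orderOf_coe, hto]
      have h4 : ((e.symm ⟨_, hm⟩ : C) : K) = s := hsu _ (SetLike.coe_mem _) (by
        rw [Subgroup.orderOf_coe, MulEquiv.orderOf_eq, h3])
      have h5 : e.symm ⟨_, hm⟩ = ⟨s, hs⟩ := Subtype.ext h4
      have h6 := congrArg e h5
      rw [MulEquiv.apply_symm_apply] at h6
      exact congrArg Subtype.val h6
    have := hfD d hd hd1 t t.2 (mul_inv_eq_iff_eq_mul.mp hconj).symm
    rw [← Subgroup.orderOf_coe, this, orderOf_one] at hto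
    omega
  haveI : Group.IsNilpotent C := (Group.isNilpotent_congr e).mpr inferInstance
  haveI hCcyc : IsCyclic C := isCyclic_complement _ C hN'c hH1 hfC' hodd
  haveI hKcyc : IsCyclic Kb := isCyclic_of_surjective e.toMonoidHom e.surjective
  haveI : IsMulCommutative Kb := IsCyclic.isMulCommutative
  -- the top factor is cyclic
  let φ : D →* MulAut Kb := MulAut.conjNormal.comp D.subtype
  have hφ : Function.Injective φ := by
    rw [← MonoidHom.ker_eq_bot_iff, eq_bot_iff]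
    intro d hd
    rw [Subgroup.mem_bot]
    by_contra hd1
    obtain ⟨k, hk, hk1⟩ := (Subgroup.bot_or_exists_ne_one Kb).resolve_left hKb1
    have h1 : (d : G ⧸ H) * k * (d : G ⧸ H)⁻¹ = k :=
      congrArg Subtype.val (MulEquiv.congr_fun (MonoidHom.mem_ker.mp hd) ⟨k, hk⟩)
    exact hk1 (hfD _ d.2 (fun e => hd1 (Subtype.ext e)) k hk (mul_inv_eq_iff_eq_mul.mp h1).symm)
  haveI : IsMulCommutative D := ⟨⟨fun a b => hφ (by
    rw [map_mul, map_mul]
    refine MulEquiv.ext fun k => ?_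
    obtain ⟨g, hg⟩ := IsCyclic.exists_generator (α := Kb)
    obtain ⟨i, hi⟩ := Subgroup.mem_zpowers_iff.mp (hg (φ a g))
    obtain ⟨j, hj⟩ := Subgroup.mem_zpowers_iff.mp (hg (φ b g))
    obtain ⟨l, rfl⟩ := Subgroup.mem_zpowers_iff.mp (hg k)
    simp only [MulAut.mul_apply, map_zpow, ← hj, ← hi, ← zpow_mul]
    congr 1
    ring)⟩⟩
  haveI hDcyc : IsCyclic D := CfsgLib.FrobCompl.isCyclic_of_comm hKb1 Subgroup.le_normalizer_of_normal hfD'
  let π' : (G ⧸ H) →* G ⧸ K := QuotientGroup.map H K (MonoidHom.id G) hle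
  have hπ' : ∀ z : G ⧸ H, π' z = 1 → z ∈ Kb := by
    intro z hz
    obtain ⟨g, rfl⟩ := QuotientGroup.mk'_surjective H z
    exact ⟨g, (QuotientGroup.eq_one_iff g).mp hz, rfl⟩
  haveI hGKcyc : IsCyclic (G ⧸ K) := isCyclic_of_surjective (π'.comp D.subtype) fun y => by
    obtain ⟨g, rfl⟩ := QuotientGroup.mk'_surjective K y
    obtain ⟨k, ⟨k', hk', rfl⟩, d, hd, he⟩ := CfsgLib.FrobCompl.exists_kernel_mul hMc (π g)
    refine ⟨⟨d, hd⟩, ?_⟩
    have h2 : π' (π g) = π' (π k') * π' d := by rw [← map_mul, he]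
    have h3 : π' (π k') = 1 := (QuotientGroup.eq_one_iff k').mpr hk'
    rw [h3, one_mul] at h2
    exact h2.symm
  haveI : Group.IsSolvable (H.subgroupOf K) :=
    solvable_of_solvable_injective (f := (Subgroup.subgroupOfEquivOfLe hle).toMonoidHom) (MulEquiv.injective _)
  haveI : Group.IsSolvable (↥K ⧸ H.subgroupOf K) := solvable_of_surjective (f :=
    (QuotientGroup.mk' (H.subgroupOf K)).comp C.subtype) fun y => by
      obtain ⟨k, rfl⟩ := QuotientGroup.mk'_surjective _ y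
      obtain ⟨h, hh, c, hc, rfl⟩ := CfsgLib.FrobCompl.exists_kernel_mul hN'c k
      refine ⟨⟨c, hc⟩, ?_⟩
      have hh1 : QuotientGroup.mk' (H.subgroupOf K) h = 1 := (QuotientGroup.eq_one_iff (N := H.subgroupOf K) h).mpr hh
      rw [map_mul, hh1, one_mul]; rfl
  haveI : Group.IsSolvable K := solvable_of_ker_le_range (H.subgroupOf K).subtype (QuotientGroup.mk' (H.subgroupOf K))
    (by rw [QuotientGroup.ker_mk', Subgroup.range_subtype])
  have hsol : Group.IsSolvable G := solvable_of_ker_le_range K.subtype (QuotientGroup.mk' K)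
    (by rw [QuotientGroup.ker_mk', Subgroup.range_subtype])
  refine ⟨hsol, hidx ▸ hodd, hidx ▸ Nat.Coprime.mul_right hcopH.symm (hcardD ▸ hcopD), hGKcyc, ?_⟩
  -- complement inside `G`
  let C₀ := C.map K.subtype
  have hC₀K : C₀ ≤ K := Subgroup.map_subtype_le _
  have hC₀card : Nat.card C₀ = Nat.card C := Subgroup.card_map_of_injective K.subtype_injective
  have hdisj : H ⊓ C₀ = ⊥ := Subgroup.inf_eq_bot_of_coprime (hC₀card ▸ hcopH)
  have hC₀1 : C₀ ≠ ⊥ := fun e => hC.1 ((Subgroup.map_eq_bot_iff_of_injective _ K.subtype_injective).mp e)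
  have hfH : ∀ c ∈ C₀, c ≠ 1 → ∀ h ∈ H, h * c = c * h → h = 1 := by
    rintro _ ⟨c, hc, rfl⟩ hc1 h hh hcomm
    have : h ∈ H ⊓ C₀ := ⟨hh, ⟨h, hle hh⟩, CfsgLib.FrobCompl.mem_of_commute hC hc
      (fun e => hc1 (by rw [e, map_one])) (Subtype.ext hcomm), rfl⟩
    rwa [hdisj, Subgroup.mem_bot] at this
  have hfK : ∀ z : G, z ∉ K → ∀ c ∈ C₀, c ≠ 1 → z * c ≠ c * z := by
    intro z hz c hc hc1 hcomm
    have hck : π c ≠ 1 := fun e => hc1 (by
      have : c ∈ H ⊓ C₀ := ⟨(QuotientGroup.eq_one_iff c).mp e, hc⟩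
      rwa [hdisj, Subgroup.mem_bot] at this)
    obtain ⟨k', hk', hk''⟩ := CfsgLib.FrobCompl.mem_kernel_of_commute hD hMc hM (k := π c) (g := π z)
      ⟨c, hC₀K hc, rfl⟩ hck (by rw [← map_mul, hcomm, map_mul])
    have : k'⁻¹ * z ∈ H := (QuotientGroup.eq).mp hk''
    exact hz (by simpa using K.mul_mem hk' (hle this))
  intro p q hp hq hpq hpG hqG
  rw [hidx]
  have hdvd : ∀ r : ℕ, r.Prime → r ∣ Nat.card G → ¬ r ∣ Nat.card C → r ∣ Nat.card H ∨ r ∣ Nat.card D := by
    intro r hr hrG hrC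
    rw [hcardG] at hrG
    rcases hr.dvd_mul.mp hrG with h | h
    · rcases hr.dvd_mul.mp h with h | h
      · exact Or.inl h
      · exact absurd h hrC
    · exact Or.inr h
  have hmixed : ∀ a b : ℕ, a.Prime → b.Prime → a ≠ b → a ∣ Nat.card C → ¬ b ∣ Nat.card C →
      ∀ g : G, orderOf g ≠ a * b := by
    intro a b ha hb hab haC hbC g hg
    have hy : orderOf (g ^ b) = a := by
      rw [orderOf_pow' g hb.ne_zero, hg, Nat.gcd_eq_right (dvd_mul_left b a), Nat.mul_div_cancel _ hb.pos]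
    have hz : orderOf (g ^ a) = b := by
      rw [orderOf_pow' g ha.ne_zero, hg, Nat.gcd_eq_right (dvd_mul_right a b), Nat.mul_div_cancel_left _ ha.pos]
    have hyK : g ^ b ∈ K := by
      rw [← QuotientGroup.eq_one_iff, ← orderOf_eq_one_iff]
      refine Nat.eq_one_of_dvd_coprimes (ha.coprime_iff_not_dvd.mpr fun h => ?_)
        (hy ▸ orderOf_map_dvd (QuotientGroup.mk' K) (g ^ b)) (orderOf_dvd_natCard _)
      exact ha.not_dvd_one (hcopD ▸ Nat.dvd_gcd haC (hcardD ▸ h))
    have hyH : g ^ b ∉ H := fun h => ha.not_dvd_one (hcopH ▸ Nat.dvd_gcd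
      (hy ▸ Subgroup.orderOf_dvd_natCard H h) haC)
    have hyk : π (g ^ b) ≠ 1 := fun e => hyH ((QuotientGroup.eq_one_iff _).mp e)
    by_cases hzH : g ^ a ∈ H
    · have hz1 : (⟨g ^ a, hle hzH⟩ : K) ≠ 1 := fun e => hb.ne_one (by
        rw [← hz, show g ^ a = 1 from congrArg Subtype.val e, orderOf_one])
      exact hyH (CfsgLib.FrobCompl.mem_kernel_of_commute hC hN'c hN' (k := ⟨g ^ a, hle hzH⟩)
        (g := ⟨g ^ b, hyK⟩) hzH hz1 (Subtype.ext ((Commute.refl g).pow_pow b a).eq))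
    · have h1 := CfsgLib.FrobCompl.mem_kernel_of_commute hD hMc hM (k := π (g ^ b)) (g := π (g ^ a))
        ⟨_, hyK, rfl⟩ hyk (by rw [← map_mul, ← map_mul, ((Commute.refl g).pow_pow a b).eq])
      have h2 : orderOf (π (g ^ a)) ∣ Nat.card C := hcard ▸ Subgroup.orderOf_dvd_natCard Kb h1
      rcases (Nat.dvd_prime hb).mp (hz ▸ orderOf_map_dvd π (g ^ a)) with h | h
      · exact hzH ((QuotientGroup.eq_one_iff _).mp (orderOf_eq_one_iff.mp h))
      · exact hbC (h ▸ h2)
  have hHD : ∀ a b : ℕ, a.Prime → b.Prime → a ≠ b → a ∣ Nat.card H → b ∣ Nat.card D → ¬ b ∣ Nat.card C →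
      ∃ g : G, orderOf g = a * b := by
    intro a b ha hb hab haH hbD hbC
    haveI := Fact.mk hb
    obtain ⟨y, hy⟩ := exists_prime_orderOf_dvd_card' (G := G ⧸ K) b (hcardD.symm ▸ hbD)
    obtain ⟨x₀, rfl⟩ := QuotientGroup.mk'_surjective K y
    let τ : MulAut K := MulAut.conjNormal x₀
    obtain ⟨k, hk⟩ := CfsgLib.FrobCompl.exists_conj_le_of_card_dvd hC (L := C.map τ.toMonoidHom)
      (dvd_of_eq (Subgroup.card_map_of_injective τ.injective))
    set x₁ : G := (k : G)⁻¹ * x₀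
    have hx₁n : x₁ ∈ Subgroup.normalizer (C₀ : Set G) := by
      refine mem_normalizer_of' fun c hc => ?_
      obtain ⟨c', hc', rfl⟩ := hc
      have h1 := hk ⟨c', hc', rfl⟩
      rw [CfsgLib.FrobCompl.mem_conj_smul] at h1
      refine ⟨_, h1, ?_⟩
      show (k : G)⁻¹ * (x₀ * (c' : G) * x₀⁻¹) * k = x₁ * c' * x₁⁻¹
      simp only [x₁]; group
    have hx₁π : orderOf (QuotientGroup.mk' K x₁) = b := by
      have hk1 : QuotientGroup.mk' K (k : G) = 1 := (QuotientGroup.eq_one_iff (N := K) (k : G)).mpr k.2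
      rw [map_mul, map_inv, hk1, inv_one, one_mul, hy]
    set n := (orderOf x₁).factorization b
    set m := orderOf x₁ / b ^ n
    have hn0 : orderOf x₁ ≠ 0 := (orderOf_pos x₁).ne'
    have hnm : b ^ n * m = orderOf x₁ := Nat.ordProj_mul_ordCompl_eq_self _ _
    have hbm : ¬ b ∣ m := Nat.not_dvd_ordCompl hb hn0
    set x := x₁ ^ m
    have hxK : x ∉ K := fun h => hbm (by
      rw [← hx₁π]
      exact orderOf_dvd_of_pow_eq_one (by rw [← map_pow]; exact (QuotientGroup.eq_one_iff _).mpr h))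
    have hxn : x ∈ Subgroup.normalizer (C₀ : Set G) := pow_mem hx₁n m
    have hxbn : x ^ b ^ n = 1 := by rw [← pow_mul, mul_comm, hnm, pow_orderOf_eq_one]
    have hxbK : x ^ b ∈ K := by
      rw [← QuotientGroup.eq_one_iff]
      show QuotientGroup.mk' K (x ^ b) = 1
      rw [map_pow, map_pow, ← pow_mul, mul_comm, pow_mul, ← hx₁π, pow_orderOf_eq_one, one_pow]
    have hxbH : x ^ b ∈ H := by
      rw [← QuotientGroup.eq_one_iff, ← orderOf_eq_one_iff]
      have h1 : orderOf (π (x ^ b)) ∣ Nat.card C := hcard ▸ Subgroup.orderOf_dvd_natCard Kb ⟨_, hxbK, rfl⟩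
      have h2 : orderOf (π (x ^ b)) ∣ b ^ n :=
        orderOf_dvd_of_pow_eq_one (by rw [← map_pow, ← pow_mul, mul_comm, pow_mul, hxbn, one_pow, map_one])
      exact Nat.eq_one_of_dvd_coprimes ((hb.coprime_iff_not_dvd.mpr hbC).pow_left n) h2 h1
    have hxb : x ^ b = 1 := by
      obtain ⟨c, hc, hc1⟩ := (Subgroup.bot_or_exists_ne_one C₀).resolve_left hC₀1
      refine hfH c hc hc1 _ hxbH ?_
      have h1 : x ^ b * c * (x ^ b)⁻¹ * c⁻¹ ∈ H ⊓ C₀ := by
        refine ⟨?_, C₀.mul_mem ((Subgroup.mem_normalizer_iff.mp (pow_mem hxn b) c).mp hc) (C₀.inv_mem hc)⟩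
        have h2 : c * (x ^ b)⁻¹ * c⁻¹ ∈ H := (inferInstance : H.Normal).conj_mem _ (H.inv_mem hxbH) c
        simpa [mul_assoc] using H.mul_mem hxbH h2
      rw [hdisj, Subgroup.mem_bot, mul_inv_eq_one, mul_inv_eq_iff_eq_mul] at h1
      exact h1
    exact exists_mul_order H K hle C₀ hC₀K hC₀1 hdisj (hC₀card ▸ hcopH) hfH hfK ha hb hab haH
      (hC₀card ▸ hbC) x hxK (orderOf_eq_prime hxb fun e => hxK (e ▸ one_mem _)) hxn
  haveI := Fact.mk hp
  haveI := Fact.mk hq
  have hpq' : p.Coprime q := (Nat.coprime_primes hp hq).mpr hpq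
  constructor
  · rintro ⟨g, hg⟩
    exact ⟨fun h => by_contra fun h' => hmixed p q hp hq hpq h h' g hg,
      fun h => by_contra fun h' => hmixed q p hq hp hpq.symm h h' g (hg.trans (mul_comm p q))⟩
  · intro hiff
    by_cases hpC : p ∣ Nat.card C
    · obtain ⟨g, hg⟩ := IsCyclic.exists_ofOrder_eq_natCard (α := C)
      obtain ⟨y, hy⟩ := exists_orderOf_eq_of_dvd (x := g) (hg ▸ hpq'.mul_dvd_of_dvd_of_dvd hpC (hiff.mp hpC))
      exact ⟨((y : K) : G), by rw [Subgroup.orderOf_coe, Subgroup.orderOf_coe, hy]⟩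
    have hqC : ¬ q ∣ Nat.card C := fun h => hpC (hiff.mpr h)
    rcases hdvd p hp hpG hpC, hdvd q hq hqG hqC with ⟨hP | hP, hQ | hQ⟩
    · obtain ⟨a, ha⟩ := exists_prime_orderOf_dvd_card' (G := H) p hP
      obtain ⟨b, hb⟩ := exists_prime_orderOf_dvd_card' (G := H) q hQ
      refine ⟨((a * b : H) : G), ?_⟩
      rw [Subgroup.orderOf_coe, (CfsgLib.Char.PiPart.commute_of_coprime (by rw [ha, hb]; exact hpq')).orderOf_mul_eq_mul_orderOf_of_coprime (by rw [ha, hb]; exact hpq'), ha, hb]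
    · exact hHD p q hp hq hpq hP hQ hqC
    · rw [mul_comm]; exact hHD q p hq hp hpq.symm hQ hP hpC
    · obtain ⟨y₀, hy₀⟩ := IsCyclic.exists_ofOrder_eq_natCard (α := D)
      obtain ⟨g, hg⟩ := QuotientGroup.mk'_surjective H (y₀ : G ⧸ H)
      refine exists_orderOf_eq_of_dvd (x := g) ((hy₀ ▸ hpq'.mul_dvd_of_dvd_of_dvd hP hQ).trans ?_)
      rw [← Subgroup.orderOf_coe, ← hg]
      exact orderOf_map_dvd _ g
end Cfsg.Agent.S4001
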