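import Cfsg.Statements.S3857
import Cfsg.Agent.S4001
import Cfsg.Agent.S0039
import Cfsg.Agent.S0068
import Cfsg.Agent.Lib.FrobCompl.Conjugate
import Cfsg.Agent.Lib.FrobCompl.Fpf
import Cfsg.Agent.Lib.PSolvable.Core

set_option autoImplicit false
set_option linter.style.haveILetI false
open Cfsg

namespace Cfsg.Agent.S3857

open scoped commutatorElement

/-- No element has order the product of a prime in `A` and one outside `A`. -/
def Sep (A : Set ℕ) (X : Type*) [Group X] : Prop :=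
  ∀ a ∈ A, ∀ b ∉ A, a.Prime → b.Prime → ¬ ∃ g : X, orderOf g = a * b

/-- All prime divisors of the number are in `A`. -/
def InSet (A : Set ℕ) (n : ℕ) : Prop := ∀ r : ℕ, r.Prime → r ∣ n → r ∈ A

theorem Sep.compl {A : Set ℕ} {X : Type*} [Group X] (h : Sep A X) : Sep Aᶜ X :=
  fun a ha b hb pa pb ⟨g, hg⟩ => h b (not_not.mp hb) a ha pb pa ⟨g, hg.trans (mul_comm a b)⟩

theorem Sep.subgroup {A : Set ℕ} {X : Type*} [Group X] (h : Sep A X) (K : Subgroup X) : Sep A K :=
  fun a ha b hb pa pb ⟨g, hg⟩ => h a ha b hb pa pb ⟨(g : X), by rw [Subgroup.orderOf_coe, hg]⟩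

theorem Sep.quotient {A : Set ℕ} {X : Type*} [Group X] [Finite X] (h : Sep A X) (N : Subgroup X) [N.Normal] :
    Sep A (X ⧸ N) := by
  rintro a ha b hb pa pb ⟨g, hg⟩
  obtain ⟨x, rfl⟩ := QuotientGroup.mk'_surjective N g
  exact h a ha b hb pa pb (Cfsg.Agent.S4001.exists_orderOf_eq_of_dvd (x := x) (hg ▸ orderOf_map_dvd _ x))

theorem inSet_coprime {A : Set ℕ} {m n : ℕ} (hm : InSet A m) (hn : InSet Aᶜ n) : m.Coprime n :=
  Nat.coprime_of_dvd fun r hr h1 h2 => hn r hr h2 (hm r hr h1)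

theorem Sep.eq_one {A : Set ℕ} {X : Type*} [Group X] [Finite X] (h : Sep A X) {x y : X}
    (hx : InSet A (orderOf x)) (hy : InSet Aᶜ (orderOf y)) (hc : Commute x y) : x = 1 ∨ y = 1 := by
  by_contra hne
  push Not at hne
  obtain ⟨a, pa, ha⟩ := Nat.exists_prime_and_dvd (fun e => hne.1 (orderOf_eq_one_iff.mp e))
  obtain ⟨b, pb, hb⟩ := Nat.exists_prime_and_dvd (fun e => hne.2 (orderOf_eq_one_iff.mp e))
  refine h a (hx a pa ha) b (hy b pb hb) pa pb (Cfsg.Agent.S4001.exists_orderOf_eq_of_dvd (x := x * y) ?_)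
  rw [hc.orderOf_mul_eq_mul_orderOf_of_coprime (inSet_coprime hx hy)]
  exact mul_dvd_mul ha hb

/-- A normal subgroup whose order and index are separated is a Frobenius kernel. -/
theorem exists_frobenius {A : Set ℕ} {X : Type*} [Group X] [Finite X] (hsep : Sep A X) (N : Subgroup X) [N.Normal]
    (hN : InSet A (Nat.card N)) (hidx : InSet Aᶜ N.index) (hN1 : N ≠ ⊥) (hNt : N ≠ ⊤) :
    ∃ C : Subgroup X, Subgroup.IsComplement' N C ∧ Cfsg.IsFrobeniusComplement C ∧
      Cfsg.frobeniusKernel C = (N : Set X) := by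
  obtain ⟨C, hC⟩ := Subgroup.exists_right_complement'_of_coprime (inSet_coprime hN hidx)
  have hC1 : C ≠ ⊥ := fun e => hNt (Subgroup.isComplement'_bot_right.mp (e ▸ hC))
  have hF : Cfsg.IsFrobeniusComplement C := CfsgLib.FrobCompl.isFrobeniusComplement_of_fpf hC hN1 hC1
    fun c hc hc1 k hk hcomm => (hsep.eq_one (fun r hr hd => hN r hr (hd.trans (N.orderOf_dvd_natCard hk)))
      (fun r hr hd => hidx r hr (hd.trans ((C.orderOf_dvd_natCard hc).trans hC.symm.index_eq_card.symm.dvd)))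
      hcomm).resolve_right hc1
  exact ⟨C, hC, hF, CfsgLib.FrobCompl.frobeniusKernel_eq_of_complement hF hC⟩

/-- The largest normal subgroup with order in `A`. -/
theorem exists_largest (A : Set ℕ) (X : Type*) [Group X] [Finite X] :
    ∃ N : Subgroup X, N.Normal ∧ InSet A (Nat.card N) ∧
      ∀ M : Subgroup X, M.Normal → InSet A (Nat.card M) → M ≤ N := by
  let S := {M : Subgroup X | M.Normal ∧ InSet A (Nat.card M)}
  have hbot : (⊥ : Subgroup X) ∈ S := ⟨inferInstance, fun r hr hd => absurd (Nat.card_unique (α := (⊥ : Subgroup X)) ▸ hd) hr.not_dvd_one⟩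
  obtain ⟨N, hN⟩ := (Set.toFinite S).exists_maximal ⟨⊥, hbot⟩
  haveI := hN.prop.1
  refine ⟨N, hN.prop.1, hN.prop.2, fun M hMn hM => ?_⟩
  have hsup : N ⊔ M ∈ S := by
    refine ⟨Subgroup.sup_normal N M, fun r hr hd => ?_⟩
    have h1 : Nat.card ↥(N ⊔ M) ∣ Nat.card N * Nat.card M := by
      rw [← Subgroup.relIndex_bot_left (N ⊔ M), ← Subgroup.relIndex_mul_relIndex ⊥ N (N ⊔ M) bot_le le_sup_left,
        Subgroup.relIndex_bot_left, Subgroup.relIndex_sup_left]
      exact mul_dvd_mul_left _ (N.relIndex_dvd_card M)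
    rcases hr.dvd_mul.mp (hd.trans h1) with h | h
    · exact hN.prop.2 r hr h
    · exact hM r hr h
  exact le_trans le_sup_right (hN.le_of_ge hsup le_sup_left)

theorem quotient_largest {A : Set ℕ} {X : Type*} [Group X] [Finite X] (N : Subgroup X) [N.Normal]
    (hN : InSet A (Nat.card N)) (hmax : ∀ M : Subgroup X, M.Normal → InSet A (Nat.card M) → M ≤ N)
    (M : Subgroup (X ⧸ N)) [M.Normal] (hM : InSet A (Nat.card M)) : M = ⊥ := by
  have h := hmax (M.comap (QuotientGroup.mk' N)) inferInstance (fun r hr hd => by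
    rw [CfsgLib.PSolvable.card_comap_of_surjective (QuotientGroup.mk'_surjective N), QuotientGroup.ker_mk'] at hd
    rcases hr.dvd_mul.mp hd with h | h
    · first | exact hM r hr h | exact hN r hr h
    · first | exact hN r hr h | exact hM r hr h)
  rw [eq_bot_iff, ← Subgroup.map_comap_eq_self_of_surjective (QuotientGroup.mk'_surjective N) M]
  rintro _ ⟨x, hx, rfl⟩
  exact (QuotientGroup.eq_one_iff x).mpr (h hx)

/-- A nontrivial solvable group has a nontrivial normal subgroup of prime power order. -/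
theorem exists_normal_pGroup {X : Type*} [Group X] [Finite X] [Nontrivial X] [hX : Group.IsSolvable X] :
    ∃ (p : ℕ) (N : Subgroup X), p.Prime ∧ N.Normal ∧ N ≠ ⊥ ∧ InSet {p} (Nat.card N) := by
  classical
  obtain ⟨n, hn⟩ := hX.solvable
  have hex : ∃ n, derivedSeries X n = ⊥ := ⟨n, hn⟩
  set m := Nat.find hex
  have hm : derivedSeries X m = ⊥ := Nat.find_spec hex
  obtain ⟨k, hk⟩ : ∃ k, m = k + 1 := Nat.exists_eq_succ_of_ne_zero fun e => by
    rw [e, derivedSeries_zero] at hm; exact top_ne_bot hm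
  set B := derivedSeries X k
  have hB : B ≠ ⊥ := Nat.find_min hex (show k < m by omega)
  haveI : B.Normal := derivedSeries_normal X k
  haveI : IsMulCommutative B := ⟨⟨fun a b => Subtype.ext (by
    have h : ⁅(a : X), (b : X)⁆ ∈ derivedSeries X (k + 1) := Subgroup.commutator_mem_commutator a.2 b.2
    rw [← hk, hm, Subgroup.mem_bot, commutatorElement_eq_one_iff_mul_comm] at h
    exact h)⟩⟩
  obtain ⟨p, hp, hpd⟩ := Nat.exists_prime_and_dvd (B.one_lt_card_iff_ne_bot.mpr hB).ne'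
  haveI := Fact.mk hp
  obtain ⟨P⟩ := (inferInstance : Nonempty (Sylow p B))
  haveI hPn : (P : Subgroup B).Normal := inferInstance
  haveI : (P : Subgroup B).Characteristic := P.characteristic_of_normal hPn
  refine ⟨p, _, hp, CfsgLib.PSolvable.normal_map_of_characteristic B (P : Subgroup B), fun e =>
    P.ne_bot_of_dvd_card hpd ((Subgroup.map_eq_bot_iff_of_injective _ B.subtype_injective).mp e), fun r hr hd => ?_⟩
  obtain ⟨j, hj⟩ := IsPGroup.iff_card.mp (P.isPGroup'.map B.subtype)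
  rw [hj] at hd
  exact (Nat.prime_dvd_prime_iff_eq hr hp).mp (hr.dvd_of_dvd_pow hd)

/-- The main argument, with a normal subgroup on the side `A`. -/
theorem main {G : Type*} [Group G] [Finite G] [Group.IsSolvable G] (A : Set ℕ) (hsep : Sep A G)
    (hb : ∃ b ∉ A, b.Prime ∧ b ∣ Nat.card G) (N₀ : Subgroup G) [N₀.Normal] (hN₀ : N₀ ≠ ⊥)
    (hN₀A : InSet A (Nat.card N₀)) :
    (∃ C : Subgroup G, Cfsg.IsFrobeniusComplement C) ∨
    (∃ (H K : Subgroup G) (_ : H.Normal), K.Normal ∧ H < K ∧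
      (∃ C : Subgroup ↥K, Cfsg.IsFrobeniusComplement C ∧ Cfsg.frobeniusKernel C = (H.subgroupOf K : Set ↥K)) ∧
      (∃ C : Subgroup (G ⧸ H), Cfsg.IsFrobeniusComplement C ∧ Cfsg.frobeniusKernel C = (K.map (QuotientGroup.mk' H) : Set (G ⧸ H)))) := by
  classical
  obtain ⟨H, hHn, hHA, hHmax⟩ := exists_largest A G
  haveI := hHn
  have hH1 : H ≠ ⊥ := fun e => hN₀ (le_bot_iff.mp (e ▸ hHmax N₀ inferInstance hN₀A))
  obtain ⟨b, hbA, hbp, hbd⟩ := hb
  have hbQ : b ∣ Nat.card (G ⧸ H) := by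
    rw [H.card_eq_card_quotient_mul_card_subgroup] at hbd
    exact (hbp.dvd_mul.mp hbd).resolve_right fun h => hbA (hHA b hbp h)
  haveI : Nontrivial (G ⧸ H) := Finite.one_lt_card_iff_nontrivial.mp
    (lt_of_lt_of_le hbp.one_lt (Nat.le_of_dvd Nat.card_pos hbQ))
  have hQsep : Sep A (G ⧸ H) := hsep.quotient H
  obtain ⟨Kb, hKbn, hKbA, hKbmax⟩ := exists_largest Aᶜ (G ⧸ H)
  haveI := hKbn
  have hKb1 : Kb ≠ ⊥ := by
    obtain ⟨p, M, hp, hMn, hM1, hMp⟩ := exists_normal_pGroup (X := G ⧸ H)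
    haveI := hMn
    intro e
    by_cases hpA : p ∈ A
    · exact hM1 (quotient_largest H hHA hHmax M fun r hr hd => (Set.mem_singleton_iff.mp (hMp r hr hd)) ▸ hpA)
    · exact hM1 (le_bot_iff.mp (e ▸ hKbmax M hMn fun r hr hd => (Set.mem_singleton_iff.mp (hMp r hr hd)) ▸ hpA))
  let π := QuotientGroup.mk' H
  let K := Kb.comap π
  have hmapK : K.map π = Kb := Subgroup.map_comap_eq_self_of_surjective (QuotientGroup.mk'_surjective H) Kb
  have hHK : H ≤ K := fun x hx => by
    rw [Subgroup.mem_comap, show π x = 1 from (QuotientGroup.eq_one_iff x).mpr hx]; exact one_mem _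
  have hlt : H < K := lt_of_le_of_ne hHK fun e => hKb1 (by
    rw [← hmapK, ← e, eq_bot_iff]; rintro _ ⟨x, hx, rfl⟩; exact (QuotientGroup.eq_one_iff x).mpr hx)
  by_cases hKt : Kb = ⊤
  · left
    obtain ⟨C, -, hC, -⟩ := exists_frobenius hsep H hHA (by
      rw [Subgroup.index_eq_card]; rw [hKt, Subgroup.card_top] at hKbA; exact hKbA) hH1
      (fun e => (lt_irrefl _ (lt_of_lt_of_le hlt (e ▸ le_top))))
    exact ⟨C, hC⟩
  right
  have hidxK : (H.subgroupOf K).index = Nat.card Kb := by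
    have h1 := (H.subgroupOf K).index_mul_card
    rw [Nat.card_congr (Subgroup.subgroupOfEquivOfLe hHK).toEquiv,
      CfsgLib.PSolvable.card_comap_of_surjective (QuotientGroup.mk'_surjective H), QuotientGroup.ker_mk'] at h1
    first
      | exact Nat.eq_of_mul_eq_mul_right Nat.card_pos h1
      | exact Nat.eq_of_mul_eq_mul_right Nat.card_pos (h1.trans (mul_comm _ _))
  obtain ⟨C, hCc, hC, hCker⟩ := exists_frobenius (hsep.subgroup K) (H.subgroupOf K)
    (by rw [Nat.card_congr (Subgroup.subgroupOfEquivOfLe hHK).toEquiv]; exact hHA)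
    (hidxK ▸ hKbA)
    (by rw [ne_eq, Subgroup.subgroupOf_eq_bot, disjoint_iff, inf_eq_left.mpr hHK]; exact hH1)
    (by rw [ne_eq, Subgroup.subgroupOf_eq_top]; exact not_le_of_gt hlt)
  refine ⟨H, K, hHn, inferInstance, hlt, ⟨C, hC, hCker⟩, ?_⟩
  rw [hmapK]
  -- the top factor
  let R := (G ⧸ H) ⧸ Kb
  haveI : Nontrivial R := by
    rw [← Finite.one_lt_card_iff_nontrivial]
    exact Nat.one_lt_iff_ne_zero_and_ne_one.mpr ⟨Nat.card_pos.ne', fun e => hKt (Subgroup.index_eq_one.mp e)⟩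
  have hRbot : ∀ M : Subgroup R, M.Normal → InSet Aᶜ (Nat.card M) → M = ⊥ := fun M hM hMA =>
    haveI := hM; quotient_largest Kb hKbA hKbmax M hMA
  obtain ⟨p, M, hp, hMn, hM1, hMp⟩ := exists_normal_pGroup (X := R)
  haveI := hMn
  have hpA : p ∈ A := by
    by_contra h
    exact hM1 (hRbot M hMn fun r hr hd => (Set.mem_singleton_iff.mp (hMp r hr hd)) ▸ h)
  let M' := M.comap (QuotientGroup.mk' Kb)
  have hKM : Kb ≤ M' := fun x hx => by
    rw [Subgroup.mem_comap, show QuotientGroup.mk' Kb x = 1 from (QuotientGroup.eq_one_iff x).mpr hx]; exact one_mem _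
  have hidxM : (Kb.subgroupOf M').index = Nat.card M := by
    have h1 := (Kb.subgroupOf M').index_mul_card
    rw [Nat.card_congr (Subgroup.subgroupOfEquivOfLe hKM).toEquiv,
      CfsgLib.PSolvable.card_comap_of_surjective (QuotientGroup.mk'_surjective Kb), QuotientGroup.ker_mk'] at h1
    first
      | exact Nat.eq_of_mul_eq_mul_right Nat.card_pos h1
      | exact Nat.eq_of_mul_eq_mul_right Nat.card_pos (h1.trans (mul_comm _ _))
  obtain ⟨A₁, hA₁c, hA₁, -⟩ := exists_frobenius (hQsep.compl.subgroup M') (Kb.subgroupOf M')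
    (by rw [Nat.card_congr (Subgroup.subgroupOfEquivOfLe hKM).toEquiv]; exact hKbA)
    (by rw [hidxM, compl_compl]; exact fun r hr hd => (Set.mem_singleton_iff.mp (hMp r hr hd)) ▸ hpA)
    (by rw [ne_eq, Subgroup.subgroupOf_eq_bot, disjoint_iff, inf_eq_left.mpr hKM]; exact hKb1)
    (by
      rw [ne_eq, ← Subgroup.index_eq_one, hidxM]
      exact (M.one_lt_card_iff_ne_bot.mpr hM1).ne')
  haveI : Group.IsNilpotent Kb := by
    haveI := CfsgLib.FrobCompl.kernel_isNilpotent hA₁ inferInstance hA₁c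
    exact (Group.isNilpotent_congr (Subgroup.subgroupOfEquivOfLe hKM)).mp inferInstance
  -- the complement in `K` is isomorphic to `Kb`
  let f : C →* Kb := ((π.comp K.subtype).comp C.subtype).codRestrict Kb (fun c => (c : K).2)
  have hfinj : Function.Injective f := by
    rw [← MonoidHom.ker_eq_bot_iff, eq_bot_iff]
    intro c hc
    have h1 : ((c : K) : G) ∈ H := (QuotientGroup.eq_one_iff _).mp (congrArg Subtype.val hc)
    have h2 : (c : K) ∈ H.subgroupOf K ⊓ C := ⟨h1, c.2⟩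
    rw [hCc.disjoint.eq_bot, Subgroup.mem_bot] at h2
    exact Subtype.ext h2
  have hCcard : Nat.card C = Nat.card Kb := hCc.symm.index_eq_card.symm.trans hidxK
  let e : C ≃* Kb := MulEquiv.ofBijective f ((Nat.bijective_iff_injective_and_card _).mpr ⟨hfinj, hCcard⟩)
  have hC' : ∀ c ∈ C, c ≠ 1 → H.subgroupOf K ⊓ Subgroup.centralizer {c} = ⊥ :=
    (Cfsg.Agent.S0039.result _ C hCc (fun e => hC.2.1 (Subgroup.isComplement'_bot_left.mp (e ▸ hCc))) hC.1).mp hC
  have hH1' : H.subgroupOf K ≠ ⊥ := fun e => hC.2.1 (Subgroup.isComplement'_bot_left.mp (e ▸ hCc))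
  haveI := Fact.mk hp
  obtain ⟨y, hy⟩ := exists_prime_orderOf_dvd_card' (G := G ⧸ H) p (by
    have h2 : p ∣ Nat.card R := by
      obtain ⟨r, hr, hrd⟩ := Nat.exists_prime_and_dvd (M.one_lt_card_iff_ne_bot.mpr hM1).ne'
      exact (Set.mem_singleton_iff.mp (hMp r hr hrd)) ▸ hrd.trans M.card_subgroup_dvd_card
    rw [Kb.card_eq_card_quotient_mul_card_subgroup]
    exact h2.mul_right _)
  have hyA : InSet A (orderOf y) := by
    rw [hy]; exact fun r hr hd => ((Nat.prime_dvd_prime_iff_eq hr hp).mp hd) ▸ hpA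
  have hyne : y ≠ 1 := fun e => hp.ne_one (by rw [← hy, e, orderOf_one])
  have hodd : Odd (Nat.card C) := by
    rw [← Nat.not_even_iff_odd, even_iff_two_dvd]
    intro h2
    obtain ⟨⟨s, hs, hso, hsu, -⟩, -⟩ := Cfsg.Agent.S0068.result _ C hCc hH1' hC' h2
    set t : Kb := e ⟨s, hs⟩
    have hto : orderOf t = 2 := by rw [MulEquiv.orderOf_eq, Subgroup.orderOf_mk, hso]
    have hm : y * (t : G ⧸ H) * y⁻¹ ∈ Kb := hKbn.conj_mem _ t.2 y
    have h3 : orderOf (⟨_, hm⟩ : Kb) = 2 := by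
      rw [Subgroup.orderOf_mk, show y * (t : G ⧸ H) * y⁻¹ = MulAut.conj y (t : G ⧸ H) from rfl,
        MulEquiv.orderOf_eq, Subgroup.orderOf_coe, hto]
    have h4 : ((e.symm ⟨_, hm⟩ : C) : K) = s := hsu _ (SetLike.coe_mem _) (by
      rw [Subgroup.orderOf_coe, MulEquiv.orderOf_eq, h3])
    have h6 := congrArg e (show e.symm ⟨_, hm⟩ = ⟨s, hs⟩ from Subtype.ext h4)
    rw [MulEquiv.apply_symm_apply] at h6
    rcases hQsep.eq_one hyA (y := (t : G ⧸ H)) (fun r hr hd => hKbA r hr (hd.trans (Kb.orderOf_dvd_natCard t.2)))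
      (mul_inv_eq_iff_eq_mul.mp (congrArg Subtype.val h6)) with h | h
    · exact hyne h
    · rw [← Subgroup.orderOf_coe, h, orderOf_one] at hto; omega
  haveI : Group.IsNilpotent C := (Group.isNilpotent_congr e).mpr inferInstance
  haveI : IsCyclic C := Cfsg.Agent.S4001.isCyclic_complement _ C hCc hH1' hC' hodd
  haveI : IsCyclic Kb := isCyclic_of_surjective e.toMonoidHom e.surjective
  let φ : (G ⧸ H) →* MulAut Kb := MulAut.conjNormal
  have hφker : φ.ker ≤ Kb := by
    refine hKbmax _ inferInstance fun r hr hd hrA => ?_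
    haveI := Fact.mk hr
    obtain ⟨z, hz⟩ := exists_prime_orderOf_dvd_card' (G := φ.ker) r hd
    obtain ⟨k, hk, hk1⟩ := (Subgroup.bot_or_exists_ne_one Kb).resolve_left hKb1
    have hcz : Commute (z : G ⧸ H) k := mul_inv_eq_iff_eq_mul.mp
      (congrArg Subtype.val (MulEquiv.congr_fun (MonoidHom.mem_ker.mp z.2) ⟨k, hk⟩))
    rcases hQsep.eq_one (x := (z : G ⧸ H)) (by
        rw [Subgroup.orderOf_coe, hz]; exact fun r' hr' hd' => ((Nat.prime_dvd_prime_iff_eq hr' hr).mp hd') ▸ hrA)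
      (fun r' hr' hd' => hKbA r' hr' (hd'.trans (Kb.orderOf_dvd_natCard hk))) hcz with h | h
    · rw [← Subgroup.orderOf_coe, h, orderOf_one] at hz; exact hr.ne_one hz.symm
    · exact hk1 h
  obtain ⟨g₀, hg₀⟩ := IsCyclic.exists_generator (α := Kb)
  have hab : ∀ u v : MulAut Kb, u * v = v * u := fun u v => MulEquiv.ext fun k => by
    obtain ⟨i, hi⟩ := Subgroup.mem_zpowers_iff.mp (hg₀ (u g₀))
    obtain ⟨j, hj⟩ := Subgroup.mem_zpowers_iff.mp (hg₀ (v g₀))
    obtain ⟨l, rfl⟩ := Subgroup.mem_zpowers_iff.mp (hg₀ k)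
    simp only [MulAut.mul_apply, map_zpow, ← hj, ← hi, ← zpow_mul]
    congr 1
    ring
  haveI : IsMulCommutative R := ⟨⟨fun u v => by
    obtain ⟨a, rfl⟩ := QuotientGroup.mk'_surjective Kb u
    obtain ⟨c, rfl⟩ := QuotientGroup.mk'_surjective Kb v
    rw [← map_mul, ← map_mul]
    refine QuotientGroup.eq.mpr (hφker (MonoidHom.mem_ker.mpr ?_))
    rw [map_mul, map_inv, map_mul, map_mul, hab (φ c) (φ a), inv_mul_cancel]⟩⟩
  have hRA : InSet A (Nat.card R) := by
    intro r hr hd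
    by_contra hrA
    haveI := Fact.mk hr
    obtain ⟨z, hz⟩ := exists_prime_orderOf_dvd_card' (G := R) r hd
    have := hRbot (Subgroup.zpowers z) inferInstance (by
      rw [Nat.card_zpowers, hz]; exact fun r' hr' hd' => ((Nat.prime_dvd_prime_iff_eq hr' hr).mp hd') ▸ hrA)
    rw [Subgroup.zpowers_eq_bot] at this
    rw [this, orderOf_one] at hz
    exact hr.ne_one hz.symm
  obtain ⟨D, -, hD, hDker⟩ := exists_frobenius hQsep.compl Kb hKbA (by rw [compl_compl]; exact hRA) hKb1 hKt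
  exact ⟨D, hD, hDker⟩


/-- A finite solvable group whose prime graph (prime divisors of the order, two distinct primes joined when there is an element of order their product) is disconnected is a Frobenius group or a 2-Frobenius group (it has normal subgroups H < K with K a Frobenius group with kernel H and G/H a Frobenius group with kernel K/H). -/
theorem result {G : Type*} [Group G] [Finite G] (hsol : Group.IsSolvable G)
    (hdisc : (∃ A : Set ℕ, (∃ a ∈ A, a.Prime ∧ a ∣ Nat.card G) ∧ (∃ b ∉ A, b.Prime ∧ b ∣ Nat.card G) ∧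
      ∀ a ∈ A, ∀ b ∉ A, a.Prime → b.Prime → a ∣ Nat.card G → b ∣ Nat.card G → ¬ ∃ g : G, orderOf g = a * b)) :
    (∃ C : Subgroup G, Cfsg.IsFrobeniusComplement C) ∨
    (∃ (H K : Subgroup G) (_ : H.Normal), K.Normal ∧ H < K ∧
      (∃ C : Subgroup ↥K, Cfsg.IsFrobeniusComplement C ∧ Cfsg.frobeniusKernel C = (H.subgroupOf K : Set ↥K)) ∧
      (∃ C : Subgroup (G ⧸ H), Cfsg.IsFrobeniusComplement C ∧ Cfsg.frobeniusKernel C = (K.map (QuotientGroup.mk' H) : Set (G ⧸ H)))) := by
  haveI := hsol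
  obtain ⟨A, ⟨a, haA, hap, had⟩, hb, hsep⟩ := hdisc
  have hs : Sep A G := fun x hx y hy px py ⟨g, hg⟩ =>
    hsep x hx y hy px py ((dvd_mul_right x y).trans (hg ▸ orderOf_dvd_natCard g))
      ((dvd_mul_left y x).trans (hg ▸ orderOf_dvd_natCard g)) ⟨g, hg⟩
  haveI : Nontrivial G := Finite.one_lt_card_iff_nontrivial.mp (lt_of_lt_of_le hap.one_lt (Nat.le_of_dvd Nat.card_pos had))
  obtain ⟨p, N, -, hNn, hN1, hNp⟩ := exists_normal_pGroup (X := G)
  haveI := hNn
  by_cases hpA : p ∈ A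
  · exact main A hs hb N hN1 fun r hr hd => (Set.mem_singleton_iff.mp (hNp r hr hd)) ▸ hpA
  · exact main Aᶜ hs.compl ⟨a, not_not.mpr haA, hap, had⟩ N hN1
      fun r hr hd => (Set.mem_singleton_iff.mp (hNp r hr hd)) ▸ hpA
end Cfsg.Agent.S3857
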