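import Cfsg.Statements.S4022
import Cfsg.Agent.S3857
import Cfsg.Agent.Lib.Hall.Basic
import Cfsg.Agent.Lib.PSolvable.Core

set_option autoImplicit false
set_option linter.style.haveILetI false
open Cfsg

namespace Cfsg.Agent.S4022

open scoped Pointwise

universe u

/-- Conjugation of subgroups. -/
def cj {G : Type u} [Group G] (g : G) (H : Subgroup G) : Subgroup G := H.map (MulAut.conj g).toMonoidHom

theorem cj_mul {G : Type u} [Group G] (a b : G) (H : Subgroup G) : cj (a * b) H = cj a (cj b H) := by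
  rw [cj, cj, cj, Subgroup.map_map]
  congr 1
  ext x
  simp [mul_assoc]

theorem card_cj {G : Type u} [Group G] (g : G) (H : Subgroup G) : Nat.card (cj g H) = Nat.card H :=
  Subgroup.card_map_of_injective (MulAut.conj g).injective

theorem cj_normal {G : Type u} [Group G] (g : G) (N : Subgroup G) [hN : N.Normal] : cj g N = N := by
  refine le_antisymm ?_ fun x hx => ⟨g⁻¹ * x * g, by simpa using hN.conj_mem x hx g⁻¹, by simp [mul_assoc]⟩
  rintro _ ⟨x, hx, rfl⟩
  exact hN.conj_mem x hx g

theorem cj_mono {G : Type u} [Group G] (g : G) {H K : Subgroup G} (h : H ≤ K) : cj g H ≤ cj g K :=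
  Subgroup.map_mono h

theorem cj_sup {G : Type u} [Group G] (g : G) (H K : Subgroup G) : cj g (H ⊔ K) = cj g H ⊔ cj g K :=
  Subgroup.map_sup H K _

theorem cj_smul {G : Type u} [Group G] (g : G) (H : Subgroup G) : MulAut.conj g • H = cj g H := by
  ext x
  rw [CfsgLib.FrobCompl.mem_conj_smul]
  exact ⟨fun h => ⟨_, h, by simp [mul_assoc]⟩, by rintro ⟨y, hy, rfl⟩; simpa [mul_assoc] using hy⟩

/-- All Sylow `p`-subgroups are cyclic. -/
def Cyc (p : ℕ) (G : Type u) [Group G] : Prop := ∀ P : Sylow p G, IsCyclic P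

theorem Cyc.quotient {G : Type u} [Group G] [Finite G] {p : ℕ} [Fact p.Prime] (h : Cyc p G) (N : Subgroup G) [N.Normal] :
    Cyc p (G ⧸ N) := by
  intro Q
  let P : Sylow p G := default
  haveI := h P
  let Q' := P.mapSurjective (QuotientGroup.mk'_surjective N)
  haveI : IsCyclic Q' := isCyclic_of_surjective ((QuotientGroup.mk' N).subgroupMap (P : Subgroup G))
    (MonoidHom.subgroupMap_surjective _ _)
  exact isCyclic_of_surjective (Q'.equiv Q).toMonoidHom (Q'.equiv Q).surjective

theorem Cyc.subgroup {G : Type u} [Group G] [Finite G] {p : ℕ} [Fact p.Prime] (h : Cyc p G) (S : Subgroup G) :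
    Cyc p S := by
  intro Q
  obtain ⟨P, hP⟩ := Q.exists_comap_subtype_eq
  haveI := h P
  exact isCyclic_of_injective ((S.subtype.comp (Q : Subgroup S).subtype).codRestrict (P : Subgroup G)
    (fun x => by show ((x : S) : G) ∈ (P : Subgroup G); exact (hP.ge x.2))) fun a b e => by
      exact Subtype.ext (Subtype.ext (congrArg (fun z : ↥(P : Subgroup G) => (z : G)) e))

/-- Subgroups of equal order meeting a normal subgroup trivially and agreeing modulo it. -/
theorem conj_of_coprime {G : Type u} [Group G] [Finite G] {N H K : Subgroup G} [N.Normal]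
    (hN : Group.IsSolvable N) (hcop : (Nat.card N).Coprime (Nat.card H)) (hc : Nat.card H = Nat.card K)
    {g : G} (hg : K.map (QuotientGroup.mk' N) = cj (QuotientGroup.mk' N g) (H.map (QuotientGroup.mk' N))) :
    ∃ g : G, K = cj g H := by
  have hle : K ≤ N ⊔ cj g H := fun k hk => by
    obtain ⟨_, ⟨h, hh, rfl⟩, e⟩ := hg.le ⟨k, hk, rfl⟩
    change QuotientGroup.mk' N g * QuotientGroup.mk' N h * (QuotientGroup.mk' N g)⁻¹ = QuotientGroup.mk' N k at e
    rw [← map_inv, ← map_mul, ← map_mul] at e
    have h1 : (g * h * g⁻¹)⁻¹ * k ∈ N := (QuotientGroup.eq).mp e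
    have h2 : g * h * g⁻¹ ∈ cj g H := ⟨h, hh, rfl⟩
    have h3 := Subgroup.mul_mem _ (Subgroup.mem_sup_right h2) (Subgroup.mem_sup_left (T := cj g H) h1)
    rwa [mul_inv_cancel_left] at h3
  obtain ⟨x, -, hx⟩ := CfsgLib.Hall.exists_conj_le_of_complement hN (by rw [card_cj]; exact hcop) (hc ▸ hcop) hle
  rw [cj_smul, ← cj_mul] at hx
  exact ⟨x * g, Subgroup.eq_of_le_of_card_ge hx (by rw [card_cj, hc])⟩

theorem conj_of_le {G : Type u} [Group G] {N H K : Subgroup G} [N.Normal] (hH : N ≤ H) (hK : N ≤ K)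
    {g : G} (hg : K.map (QuotientGroup.mk' N) = cj (QuotientGroup.mk' N g) (H.map (QuotientGroup.mk' N))) :
    K = cj g H := by
  have h1 : K.map (QuotientGroup.mk' N) = (cj g H).map (QuotientGroup.mk' N) := by
    rw [hg, cj, cj, Subgroup.map_map, Subgroup.map_map]
    congr 1
  have h2 := congrArg (Subgroup.comap (QuotientGroup.mk' N)) h1
  rwa [Subgroup.comap_map_eq, Subgroup.comap_map_eq, QuotientGroup.ker_mk', sup_eq_left.mpr hK,
    sup_eq_left.mpr ((cj_normal g N).ge.trans (cj_mono g hH))] at h2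

theorem card_map_eq {G : Type u} [Group G] [Finite G] (N : Subgroup G) [N.Normal] (H : Subgroup G) :
    Nat.card H = Nat.card (H.map (QuotientGroup.mk' N)) * Nat.card ↥(H ⊓ N) := by
  have e := Subgroup.card_eq_card_quotient_mul_card_subgroup (N.subgroupOf H)
  have h1 : Nat.card (H ⧸ N.subgroupOf H) = N.relIndex H := rfl
  have h2 : N.relIndex H = Nat.card (H.map (QuotientGroup.mk' N)) := by
    rw [← Subgroup.relIndex_ker, QuotientGroup.ker_mk']
  have h3 : N.subgroupOf H = (H ⊓ N).subgroupOf H := by ext x; simp [Subgroup.mem_subgroupOf]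
  rw [h1, h2] at e
  rw [h3, Nat.card_congr (Subgroup.subgroupOfEquivOfLe inf_le_left).toEquiv] at e
  exact e

/-- A finite cyclic group has one subgroup of each order. -/
theorem cyclic_unique {G : Type*} [Group G] [Finite G] {W H L : Subgroup G} [IsCyclic W]
    (hH : H ≤ W) (hL : L ≤ W) (hc : Nat.card H = Nat.card L) : H = L := by
  classical
  haveI := Fintype.ofFinite W
  have key : ∀ J : Subgroup G, J ≤ W → Nat.card J = Nat.card H →
      (Finset.univ.filter fun x : W => (x : G) ∈ J) =
      Finset.univ.filter fun x : W => x ^ Nat.card H = 1 := by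
    intro J hJ hJc
    refine Finset.eq_of_subset_of_card_le (fun x hx => ?_) ?_
    · simp only [Finset.mem_filter, Finset.mem_univ, true_and] at hx ⊢
      refine Subtype.ext ?_
      have := pow_card_eq_one' (x := (⟨x, hx⟩ : J))
      rw [hJc] at this
      simpa using congrArg Subtype.val this
    · refine (IsCyclic.card_pow_eq_one_le Nat.card_pos).trans ?_
      rw [← Fintype.card_subtype, ← hJc, ← Nat.card_eq_fintype_card,
        ← Nat.card_congr (Subgroup.subgroupOfEquivOfLe hJ).toEquiv]
      rfl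
  ext g
  by_cases hg : g ∈ W
  · have h := Finset.ext_iff.mp ((key H hH rfl).trans (key L hL hc.symm).symm) ⟨g, hg⟩
    simpa using h
  · exact ⟨fun h => absurd (hH h) hg, fun h => absurd (hL h) hg⟩

/-- A normal subgroup of prime order `p` is the only one when Sylow `p`-subgroups are cyclic. -/
theorem le_of_cyc {G : Type u} [Group G] [Finite G] {p : ℕ} [Fact p.Prime] (h : Cyc p G) {Z : Subgroup G} [Z.Normal]
    (hZ : Nat.card Z = p) {H : Subgroup G} (hH : p ∣ Nat.card H) : Z ≤ H := by
  obtain ⟨x, hx⟩ := exists_prime_orderOf_dvd_card' (G := H) p hH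
  obtain ⟨P, hP⟩ := (IsPGroup.of_card (n := 1) (by rw [Nat.card_zpowers, Subgroup.orderOf_coe, hx, pow_one]) :
    IsPGroup p (Subgroup.zpowers (x : G))).exists_le_sylow
  obtain ⟨Q, hQ⟩ := (IsPGroup.of_card (n := 1) (by rw [hZ, pow_one]) : IsPGroup p Z).exists_le_sylow
  obtain ⟨g, rfl⟩ := MulAction.exists_smul_eq G Q P
  have hZP : Z ≤ ((g • Q : Sylow p G) : Subgroup G) := by
    rw [Sylow.coe_subgroup_smul, cj_smul]
    exact (cj_normal g Z).ge.trans (cj_mono g hQ)
  haveI := h (g • Q)
  have heq : Z = Subgroup.zpowers (x : G) := cyclic_unique hZP hP (by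
    rw [Nat.card_zpowers, hZ, Subgroup.orderOf_coe, hx])
  exact heq ▸ Subgroup.zpowers_le.mpr x.2

/-- A normal `p`-subgroup contains a normal subgroup of order `p` when Sylow subgroups are cyclic. -/
theorem exists_normal_prime {G : Type u} [Group G] [Finite G] {p : ℕ} [hp : Fact p.Prime] (h : Cyc p G)
    {N : Subgroup G} [N.Normal] (hN : IsPGroup p N) (hN1 : N ≠ ⊥) :
    ∃ Z : Subgroup G, Z.Normal ∧ Nat.card Z = p := by
  obtain ⟨k, hk⟩ := IsPGroup.iff_card.mp hN
  have hk0 : k ≠ 0 := fun e => hN1 (Subgroup.card_eq_one.mp (by rw [hk, e, pow_zero]))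
  obtain ⟨x, hx⟩ := exists_prime_orderOf_dvd_card' (G := N) p (hk ▸ dvd_pow_self p hk0)
  have hxc : Nat.card (Subgroup.zpowers (x : G)) = p := by rw [Nat.card_zpowers, Subgroup.orderOf_coe, hx]
  refine ⟨Subgroup.zpowers (x : G), ⟨fun z hz g => ?_⟩, hxc⟩
  -- the conjugate subgroup is the same inside a cyclic Sylow subgroup
  obtain ⟨P, hP⟩ := hN.exists_le_sylow
  haveI := h P
  set Z := Subgroup.zpowers (x : G)
  have hZN : Z ≤ N := Subgroup.zpowers_le.mpr x.2
  have hgZ : cj g Z ≤ N := (cj_mono g hZN).trans (cj_normal g N).le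
  have heq : Z = cj g Z := cyclic_unique (hZN.trans hP) (hgZ.trans hP) (card_cj g Z).symm
  rw [heq]
  exact ⟨z, hz, rfl⟩

theorem isPGroup_of_inSet {G : Type u} [Group G] [Finite G] {p : ℕ} [Fact p.Prime] {N : Subgroup G}
    (h : Cfsg.Agent.S3857.InSet {p} (Nat.card N)) : IsPGroup p N :=
  IsPGroup.of_card (n := (Nat.card N).primeFactorsList.length)
    (Nat.eq_prime_pow_of_unique_prime_dvd Nat.card_pos.ne' fun {d} hd hdd => Set.mem_singleton_iff.mp (h d hd hdd))

/-- Subgroups of an order whose primes have cyclic Sylow subgroups are conjugate. -/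
theorem cyc_conj (n : ℕ) : ∀ (G : Type u) [Group G] [Finite G] [Group.IsSolvable G], Nat.card G = n →
    ∀ H K : Subgroup G, Nat.card H = Nat.card K → (∀ p : ℕ, p.Prime → p ∣ Nat.card H → Cyc p G) →
    ∃ g : G, K = cj g H := by
  induction n using Nat.strong_induction_on with
  | _ n ih =>
    intro G _ _ _ hn H K hc hcyc
    rcases subsingleton_or_nontrivial G with hs | hs
    · exact ⟨1, Subsingleton.elim _ _⟩
    obtain ⟨p, N, hp, hNn, hN1, hNp⟩ := Cfsg.Agent.S3857.exists_normal_pGroup (X := G)
    haveI := hNn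
    haveI := Fact.mk hp
    have hrec : ∀ M : Subgroup G, ∀ [M.Normal], M ≠ ⊥ → Nat.card (H.map (QuotientGroup.mk' M)) = Nat.card (K.map (QuotientGroup.mk' M)) →
        ∃ g : G, K.map (QuotientGroup.mk' M) = cj (QuotientGroup.mk' M g) (H.map (QuotientGroup.mk' M)) := by
      intro M _ hM hcard
      have hlt : Nat.card (G ⧸ M) < n := by
        rw [← hn, M.card_eq_card_quotient_mul_card_subgroup]
        exact lt_mul_of_one_lt_right Nat.card_pos (M.one_lt_card_iff_ne_bot.mpr hM)
      haveI : Group.IsSolvable (G ⧸ M) := solvable_of_surjective (QuotientGroup.mk'_surjective M)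
      obtain ⟨gq, hg⟩ := ih _ hlt (G ⧸ M) rfl _ _ hcard fun q hq hd =>
        haveI := Fact.mk hq
        (hcyc q hq (hd.trans (Subgroup.card_map_dvd H _))).quotient M
      obtain ⟨g, rfl⟩ := QuotientGroup.mk'_surjective M gq
      exact ⟨g, hg⟩
    by_cases hpH : p ∣ Nat.card H
    · obtain ⟨Z, hZn, hZ⟩ := exists_normal_prime (hcyc p hp hpH) (isPGroup_of_inSet hNp) hN1
      haveI := hZn
      have hZH := le_of_cyc (hcyc p hp hpH) hZ hpH
      have hZK := le_of_cyc (hcyc p hp hpH) hZ (hc ▸ hpH)
      have hZ1 : Z ≠ ⊥ := fun e => hp.ne_one (by rw [← hZ, e, Nat.card_unique])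
      obtain ⟨g, hg⟩ := hrec Z hZ1 (Nat.eq_of_mul_eq_mul_right (Nat.card_pos (α := Z)) (by
        have e1 := card_map_eq Z H
        have e2 := card_map_eq Z K
        rw [inf_eq_right.mpr hZH] at e1
        rw [inf_eq_right.mpr hZK] at e2
        rw [← e1, ← e2, hc]))
      exact ⟨g, conj_of_le hZH hZK hg⟩
    · have hNc : (Nat.card N).Coprime (Nat.card H) := Nat.coprime_of_dvd fun q hq h1 h2 =>
        hpH ((Set.mem_singleton_iff.mp (hNp q hq h1)) ▸ h2)
      obtain ⟨g, hg⟩ := hrec N hN1 (by
        have e1 := card_map_eq N H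
        have e2 := card_map_eq N K
        rw [Subgroup.inf_eq_bot_of_coprime hNc.symm, Subgroup.card_bot, mul_one] at e1
        rw [Subgroup.inf_eq_bot_of_coprime (hc ▸ hNc.symm), Subgroup.card_bot, mul_one] at e2
        rw [← e1, ← e2, hc])
      exact conj_of_coprime inferInstance hNc hc hg

/-- Conjugacy of `p`-subgroups of equal order passes to quotients. -/
theorem quotient_hD {G : Type u} [Group G] [Finite G] {p : ℕ} [Fact p.Prime] (N : Subgroup G) [N.Normal]
    (hD : ∀ H K : Subgroup G, IsPGroup p H → IsPGroup p K → Nat.card H = Nat.card K → ∃ g : G, K = cj g H)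
    (H K : Subgroup (G ⧸ N)) (hH : IsPGroup p H) (hK : IsPGroup p K) (hc : Nat.card H = Nat.card K) :
    ∃ g : G ⧸ N, K = cj g H := by
  have key : ∀ L : Subgroup (G ⧸ N), IsPGroup p L → ∃ P : Subgroup G, IsPGroup p P ∧ P.map (QuotientGroup.mk' N) = L ∧
      Nat.card P = p ^ (Nat.card L * Nat.card N).factorization p := by
    intro L hL
    let π := QuotientGroup.mk' N
    let L' := L.comap π
    let P : Sylow p L' := default
    refine ⟨(P : Subgroup L').map L'.subtype, P.isPGroup'.map _, ?_, ?_⟩
    · have hsurj : Function.Surjective (π.subgroupComap L) :=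
        MonoidHom.subgroupComap_surjective_of_surjective π L (QuotientGroup.mk'_surjective N)
      have htop : ((P.mapSurjective hsurj : Sylow p L) : Subgroup L) = ⊤ :=
        ((P.mapSurjective hsurj).3 (hL.to_subgroup ⊤) le_top).symm
      rw [Sylow.coe_mapSurjective] at htop
      have h1 := congrArg (Subgroup.map L.subtype) htop
      rw [Subgroup.map_map, ← MonoidHom.range_eq_map, Subgroup.range_subtype] at h1
      rw [Subgroup.map_map]
      exact h1
    · rw [Subgroup.card_map_of_injective L'.subtype_injective, P.card_eq_multiplicity]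
      congr 2
      rw [CfsgLib.PSolvable.card_comap_of_surjective (QuotientGroup.mk'_surjective N), QuotientGroup.ker_mk']
      try rw [mul_comm]
  obtain ⟨P, hP, rfl, hPc⟩ := key H hH
  obtain ⟨Q, hQ, rfl, hQc⟩ := key K hK
  obtain ⟨g, rfl⟩ := hD P Q hP hQ (by rw [hPc, hQc, hc])
  refine ⟨QuotientGroup.mk' N g, ?_⟩
  rw [cj, cj, Subgroup.map_map, Subgroup.map_map]
  congr 1

theorem main (n : ℕ) : ∀ (G : Type u) [Group G] [Finite G] [Group.IsSolvable G], Nat.card G = n →
    (∀ p : ℕ, p.Prime → ∀ H K : Subgroup G, IsPGroup p H → IsPGroup p K → Nat.card H = Nat.card K →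
      ∃ g : G, K = cj g H) →
    ∀ r : ℕ, (∀ p : ℕ, p.Prime → p ≠ r → Cyc p G) →
    ∀ H K : Subgroup G, Nat.card H = Nat.card K → ∃ g : G, K = cj g H := by
  induction n using Nat.strong_induction_on with
  | _ n ih =>
    intro G _ _ _ hn hD r hcyc H K hc
    classical
    rcases subsingleton_or_nontrivial G with hs | hs
    · exact ⟨1, Subsingleton.elim _ _⟩
    obtain ⟨q, N₀, hq, hN₀n, hN₀1, hN₀q⟩ := Cfsg.Agent.S3857.exists_normal_pGroup (X := G)
    haveI := hN₀n
    haveI := Fact.mk hq
    -- choose the normal subgroup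
    obtain ⟨N, hNn, hN1, hNp, hNr⟩ : ∃ N : Subgroup G, N.Normal ∧ N ≠ ⊥ ∧ IsPGroup q N ∧ (q ≠ r → Nat.card N = q) := by
      by_cases hqr : q = r
      · exact ⟨N₀, hN₀n, hN₀1, isPGroup_of_inSet hN₀q, fun h => absurd hqr h⟩
      · obtain ⟨Z, hZn, hZ⟩ := exists_normal_prime (hcyc q hq hqr) (isPGroup_of_inSet hN₀q) hN₀1
        exact ⟨Z, hZn, fun e => hq.ne_one (by rw [← hZ, e, Nat.card_unique]),
          IsPGroup.of_card (n := 1) (by rw [hZ, pow_one]), fun _ => hZ⟩
    haveI := hNn
    obtain ⟨m, hm⟩ := IsPGroup.iff_card.mp hNp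
    set a := (Nat.card H).factorization q
    have hlt : Nat.card (G ⧸ N) < n := by
      rw [← hn, N.card_eq_card_quotient_mul_card_subgroup]
      exact lt_mul_of_one_lt_right Nat.card_pos (N.one_lt_card_iff_ne_bot.mpr hN1)
    haveI : Group.IsSolvable (G ⧸ N) := solvable_of_surjective (QuotientGroup.mk'_surjective N)
    have hrec : Nat.card (H.map (QuotientGroup.mk' N)) = Nat.card (K.map (QuotientGroup.mk' N)) →
        ∃ g : G, K.map (QuotientGroup.mk' N) = cj (QuotientGroup.mk' N g) (H.map (QuotientGroup.mk' N)) := by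
      intro hcard
      obtain ⟨gq, hg⟩ := ih _ hlt (G ⧸ N) rfl
        (fun p hp A B => haveI := Fact.mk hp; quotient_hD N (hD p hp) A B) r
        (fun p hp hpr => haveI := Fact.mk hp; (hcyc p hp hpr).quotient N) _ _ hcard
      obtain ⟨g, rfl⟩ := QuotientGroup.mk'_surjective N gq
      exact ⟨g, hg⟩
    by_cases hma : m ≤ a
    · -- `N` lies in both
      have key : ∀ L : Subgroup G, Nat.card L = Nat.card H → N ≤ L := by
        intro L hL
        obtain ⟨A, hA⟩ := Sylow.exists_subgroup_card_pow_prime (G := L) q (n := m)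
          ((pow_dvd_pow q hma).trans (hL ▸ Nat.ordProj_dvd _ q))
        obtain ⟨g, hg⟩ := hD q hq N (A.map L.subtype) hNp (IsPGroup.of_card (n := m)
          (by rw [Subgroup.card_map_of_injective L.subtype_injective, hA]))
          (by rw [Subgroup.card_map_of_injective L.subtype_injective, hA, hm])
        rw [cj_normal] at hg
        exact hg ▸ Subgroup.map_subtype_le A
      obtain ⟨g, hg⟩ := hrec (Nat.eq_of_mul_eq_mul_right (Nat.card_pos (α := N)) (by
        have e1 := card_map_eq N H
        have e2 := card_map_eq N K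
        rw [inf_eq_right.mpr (key H rfl)] at e1
        rw [inf_eq_right.mpr (key K hc.symm)] at e2
        rw [← e1, ← e2, hc]))
      exact ⟨g, conj_of_le (key H rfl) (key K hc.symm) hg⟩
    push Not at hma
    by_cases ha : a = 0
    · have hNc : (Nat.card N).Coprime (Nat.card H) := by
        rw [hm]
        refine (hq.coprime_iff_not_dvd.mpr fun hd => ?_).pow_left m
        have := (hq.dvd_iff_one_le_factorization Nat.card_pos.ne').mp hd
        omega
      obtain ⟨g, hg⟩ := hrec (by
        have e1 := card_map_eq N H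
        have e2 := card_map_eq N K
        rw [Subgroup.inf_eq_bot_of_coprime hNc.symm, Subgroup.card_bot, mul_one] at e1
        rw [Subgroup.inf_eq_bot_of_coprime (hc ▸ hNc.symm), Subgroup.card_bot, mul_one] at e2
        rw [← e1, ← e2, hc])
      exact conj_of_coprime inferInstance hNc hc hg
    have hqr : q = r := by
      by_contra hne
      have h1 := hNr hne
      rw [hm] at h1
      nth_rw 2 [← pow_one q] at h1
      have := Nat.pow_right_injective hq.two_le h1
      omega
    -- normal Sylow `q`-subgroups of `H` and `K`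
    have split : ∀ L : Subgroup G, Nat.card L = Nat.card H → ∃ A B : Subgroup G, IsPGroup q A ∧ Nat.card A = q ^ a ∧
        L = A ⊔ B ∧ B ≤ Subgroup.normalizer (A : Set G) ∧ Nat.card B = Nat.card H / q ^ a := by
      intro L hL
      obtain ⟨T, hT⟩ := Sylow.exists_subgroup_card_pow_prime (G := L) q (n := a) (hL ▸ Nat.ordProj_dvd _ q)
      have hTG : Nat.card (T.map L.subtype) = q ^ a := by rw [Subgroup.card_map_of_injective L.subtype_injective, hT]
      obtain ⟨U, hU⟩ := Sylow.exists_subgroup_card_pow_prime (G := N) q (n := a) (hm ▸ pow_dvd_pow q hma.le)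
      have hUG : Nat.card (U.map N.subtype) = q ^ a := by rw [Subgroup.card_map_of_injective N.subtype_injective, hU]
      obtain ⟨g, hg⟩ := hD q hq (U.map N.subtype) (T.map L.subtype) (IsPGroup.of_card hUG) (IsPGroup.of_card hTG)
        (hUG.trans hTG.symm)
      have hTN : T.map L.subtype ≤ N := by
        rw [hg]; exact (cj_mono g (Subgroup.map_subtype_le U)).trans (cj_normal g N).le
      have hTle : T.map L.subtype ≤ L ⊓ N := le_inf (Subgroup.map_subtype_le T) hTN
      obtain ⟨b, hb⟩ := IsPGroup.iff_card.mp (hNp.to_le (inf_le_right : L ⊓ N ≤ N))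
      have hba : b ≤ a := by
        have h1 := Subgroup.card_dvd_of_le (inf_le_left : L ⊓ N ≤ L)
        rw [hb, hL] at h1
        exact (hq.pow_dvd_iff_le_factorization Nat.card_pos.ne').mp h1
      have hTeq : T.map L.subtype = L ⊓ N := Subgroup.eq_of_le_of_card_ge hTle (by
        rw [hTG, hb]; exact Nat.pow_le_pow_right hq.pos hba)
      have hTn : T.Normal := by
        have h1 : T = N.subgroupOf L := Subgroup.map_injective L.subtype_injective (by
          rw [hTeq, Subgroup.subgroupOf, Subgroup.map_comap_eq, Subgroup.range_subtype])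
        rw [h1]; infer_instance
      haveI := hTn
      have hidx : T.index = Nat.card H / q ^ a := by
        rw [← hL, ← T.index_mul_card, hT, Nat.mul_div_cancel _ (pow_pos hq.pos a)]
      obtain ⟨B, hB⟩ := Subgroup.exists_right_complement'_of_coprime (N := T) (by
        rw [hT, hidx]
        exact ((hq.coprime_iff_not_dvd.mpr (Nat.not_dvd_ordCompl hq Nat.card_pos.ne')).pow_left a))
      refine ⟨T.map L.subtype, B.map L.subtype, IsPGroup.of_card hTG, hTG, ?_, ?_, ?_⟩
      · rw [← Subgroup.map_sup, hB.sup_eq_top, ← MonoidHom.range_eq_map, Subgroup.range_subtype]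
      · exact (Subgroup.map_mono (le_top.trans (Subgroup.normalizer_eq_top_iff.mpr hTn).ge)).trans (Subgroup.le_normalizer_map L.subtype)
      · rw [Subgroup.card_map_of_injective L.subtype_injective, ← hB.symm.index_eq_card, hidx]
    obtain ⟨A, A₀, hA, hAc, rfl, hAn, hA₀⟩ := split H rfl
    obtain ⟨B, B₀, hB, hBc, rfl, hBn, hB₀⟩ := split K hc.symm
    obtain ⟨g, rfl⟩ := hD q hq A B hA hB (hAc.trans hBc.symm)
    set S := Subgroup.normalizer ((cj g A : Subgroup G) : Set G)
    have hA₀S : cj g A₀ ≤ S := (cj_mono g hAn).trans (Subgroup.le_normalizer_map _)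
    obtain ⟨s, hs⟩ := cyc_conj _ S rfl ((cj g A₀).subgroupOf S) (B₀.subgroupOf S) (by
      rw [Nat.card_congr (Subgroup.subgroupOfEquivOfLe hA₀S).toEquiv, Nat.card_congr (Subgroup.subgroupOfEquivOfLe hBn).toEquiv,
        card_cj, hA₀, hB₀]) (fun p hp hd => by
      haveI := Fact.mk hp
      refine (hcyc p hp fun e => ?_).subgroup S
      rw [Nat.card_congr (Subgroup.subgroupOfEquivOfLe hA₀S).toEquiv, card_cj, hA₀, e, ← hqr] at hd
      exact Nat.not_dvd_ordCompl hq Nat.card_pos.ne' hd)
    refine ⟨(s : G) * g, ?_⟩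
    have hs1 : cj (s : G) (cj g A) = cj g A := by
      refine Subgroup.eq_of_le_of_card_ge ?_ (card_cj _ _).ge
      rintro _ ⟨x, hx, rfl⟩
      exact (Subgroup.mem_normalizer_iff.mp s.2 x).mp hx
    have hs2 : B₀ = cj (s : G) (cj g A₀) := by
      have h1 := congrArg (Subgroup.map S.subtype) hs
      rw [Subgroup.map_subgroupOf_eq_of_le hBn] at h1
      rw [h1, cj, Subgroup.map_map, show S.subtype.comp (MulAut.conj s).toMonoidHom = (MulAut.conj (s : G)).toMonoidHom.comp S.subtype from rfl,
        ← Subgroup.map_map, Subgroup.map_subgroupOf_eq_of_le hA₀S]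
      rfl
    rw [cj_sup, cj_mul, hs1, cj_mul, ← hs2]


/-- Let G be a finite solvable group in which, for every prime p, any two p-subgroups of the same order are conjugate, and suppose the Sylow p-subgroups of G are cyclic for all primes p with at most one exception. Then any two subgroups of G of the same order are conjugate. -/
theorem result {G : Type*} [Group G] [Finite G]
    [Group.IsSolvable G] (hD : ∀ p : ℕ, p.Prime → ∀ H K : Subgroup G, IsPGroup p H → IsPGroup p K → Nat.card H = Nat.card K →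
      ∃ g : G, K = H.map (MulAut.conj g).toMonoidHom)
    (r : ℕ) (hcyc : ∀ p : ℕ, p.Prime → p ≠ r → ∀ P : Sylow p G, IsCyclic P) :
    ∀ H K : Subgroup G, Nat.card H = Nat.card K → ∃ g : G, K = H.map (MulAut.conj g).toMonoidHom := by
  exact main _ G rfl hD r fun p hp hpr => hcyc p hp hpr
end Cfsg.Agent.S4022
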