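import Cfsg.Statements.S4270
import Cfsg.Agent.S4022

set_option autoImplicit false
set_option linter.style.haveILetI false
open Cfsg

namespace Cfsg.Agent.S4270

open scoped Pointwise

open Cfsg.Agent.S4022 (cj cj_mul card_cj cj_normal cj_mono cj_sup conj_of_le)

universe u

theorem cj_one {G : Type u} [Group G] (H : Subgroup G) : cj 1 H = H := by
  ext x
  exact ⟨by rintro ⟨y, hy, rfl⟩; simpa using hy, fun hx => ⟨x, hx, by simp⟩⟩

theorem cj_cancel {G : Type u} [Group G] (g : G) (H : Subgroup G) : cj g⁻¹ (cj g H) = H := by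
  rw [← cj_mul, inv_mul_cancel, cj_one]

theorem cj_self {G : Type u} [Group G] {g : G} {H : Subgroup G} (hg : g ∈ H) : cj g H = H := by
  refine le_antisymm ?_ fun x hx => ⟨g⁻¹ * x * g, H.mul_mem (H.mul_mem (H.inv_mem hg) hx) hg, by simp [mul_assoc]⟩
  rintro _ ⟨x, hx, rfl⟩
  exact H.mul_mem (H.mul_mem hg hx) (H.inv_mem hg)

theorem map_cj {G Q : Type u} [Group G] [Group Q] (f : G →* Q) (g : G) (H : Subgroup G) :
    (cj g H).map f = cj (f g) (H.map f) := by
  rw [cj, cj, Subgroup.map_map, Subgroup.map_map]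
  congr 1
  ext x
  simp

theorem mem_normalizer_of_cj {G : Type u} [Group G] {g : G} {H : Subgroup G} (h : cj g H = H) :
    g ∈ Subgroup.normalizer (H : Set G) := by
  rw [Subgroup.mem_normalizer_iff]
  refine fun x => ⟨fun hx => h.le ⟨x, hx, rfl⟩, fun hx => ?_⟩
  obtain ⟨y, hy, e⟩ := h.ge hx
  exact (MulAut.conj g).injective e ▸ hy

theorem cj_of_mem_normalizer {G : Type u} [Group G] {g : G} {H : Subgroup G}
    (h : g ∈ Subgroup.normalizer (H : Set G)) : cj g H = H := by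
  refine le_antisymm ?_ fun x hx => ⟨g⁻¹ * x * g, ?_, by simp [mul_assoc]⟩
  · rintro _ ⟨x, hx, rfl⟩
    exact (Subgroup.mem_normalizer_iff.mp h x).mp hx
  · exact (Subgroup.mem_normalizer_iff.mp h _).mpr (by simpa [mul_assoc] using hx)

theorem pronormal_cj {G : Type u} [Group G] {K : Subgroup G} (h : Cfsg.IsPronormal K) (w : G) :
    Cfsg.IsPronormal (cj w K) := by
  intro g
  obtain ⟨x, hx, he⟩ := h (w⁻¹ * g * w)
  change x ∈ K ⊔ cj (w⁻¹ * g * w) K at hx
  change cj (w⁻¹ * g * w) K = cj x K at he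
  have e1 : cj g (cj w K) = cj w (cj (w⁻¹ * g * w) K) := by
    rw [← cj_mul, ← cj_mul]; congr 1; group
  refine ⟨w * x * w⁻¹, ?_, ?_⟩
  · show w * x * w⁻¹ ∈ cj w K ⊔ cj g (cj w K)
    rw [e1, ← cj_sup]
    exact ⟨x, hx, rfl⟩
  · show cj g (cj w K) = cj (w * x * w⁻¹) (cj w K)
    rw [e1, he, ← cj_mul, ← cj_mul, inv_mul_cancel_right]

/-- Conjugacy of the Sylow subgroup `T` of `A` inside an overgroup in `A`. -/
theorem exists_conj_mem {G : Type u} [Group G] [Finite G] {p : ℕ} [Fact p.Prime] {A T B : Subgroup G}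
    {P : Sylow p A} (hT : (P : Subgroup A).map A.subtype = T) (hBA : B ≤ A) {g : G} (hTB : T ≤ B)
    (hgTB : cj g T ≤ B) : ∃ b ∈ B, cj g T = cj b T := by
  have hB : (Nat.card B).factorization p = (Nat.card A).factorization p := by
    refine le_antisymm ((Nat.factorization_le_iff_dvd Nat.card_pos.ne' Nat.card_pos.ne').mpr (Subgroup.card_dvd_of_le hBA) p) ?_
    have h1 := Subgroup.card_dvd_of_le hTB
    rw [← hT, Subgroup.card_map_of_injective A.subtype_injective, P.card_eq_multiplicity] at h1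
    exact ((Fact.out : p.Prime).pow_dvd_iff_le_factorization Nat.card_pos.ne').mp h1
  have hTc : Nat.card (T.subgroupOf B) = p ^ (Nat.card B).factorization p := by
    rw [Nat.card_congr (Subgroup.subgroupOfEquivOfLe hTB).toEquiv, ← hT,
      Subgroup.card_map_of_injective A.subtype_injective, P.card_eq_multiplicity, hB]
  have hgc : Nat.card ((cj g T).subgroupOf B) = p ^ (Nat.card B).factorization p := by
    rw [Nat.card_congr (Subgroup.subgroupOfEquivOfLe hgTB).toEquiv, card_cj,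
      ← Nat.card_congr (Subgroup.subgroupOfEquivOfLe hTB).toEquiv, hTc]
  obtain ⟨b, hb⟩ := MulAction.exists_smul_eq B (Sylow.ofCard _ hTc) (Sylow.ofCard _ hgc)
  refine ⟨b, b.2, ?_⟩
  have h1 := congrArg (fun S : Sylow p B => (S : Subgroup B).map B.subtype) hb
  simp only [Sylow.coe_subgroup_smul, Sylow.coe_ofCard, Cfsg.Agent.S4022.cj_smul] at h1
  rw [map_cj, Subgroup.map_subgroupOf_eq_of_le hTB, Subgroup.map_subgroupOf_eq_of_le hgTB] at h1
  exact h1.symm

section

variable {G : Type u} [Group G] [Finite G] {p : ℕ} [Fact p.Prime]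

theorem inf_eq_of_le {A T : Subgroup G} {P : Sylow p A} (hT : (P : Subgroup A).map A.subtype = T) (Q : Sylow p G)
    (h : T ≤ Q) : T = (Q : Subgroup G) ⊓ A := by
  have hTA : T ≤ A := hT ▸ Subgroup.map_subtype_le _
  refine le_antisymm (le_inf h hTA) fun x hx => ?_
  have hle : (P : Subgroup A) ≤ (Q : Subgroup G).subgroupOf A := fun y hy =>
    h (hT ▸ ⟨y, hy, rfl⟩)
  have hp : IsPGroup p ((Q : Subgroup G).subgroupOf A) :=
    Q.isPGroup'.comap_of_injective A.subtype A.subtype_injective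
  have := P.3 hp hle
  rw [← hT]
  exact ⟨⟨x, hx.2⟩, this.le hx.1, rfl⟩

/-- The main step of the criterion. -/
theorem backward (A : Subgroup G) [A.Normal]
    (hA : ∀ K : Subgroup ↥A, (∃ P : Sylow p ↥A, (P : Subgroup ↥A) ≤ K) → Cfsg.IsPronormal K)
    (hQ : ∀ K : Subgroup (G ⧸ A), (∃ P : Sylow p (G ⧸ A), (P : Subgroup (G ⧸ A)) ≤ K) → Cfsg.IsPronormal K)
    (T : Subgroup G) {PA : Sylow p A} (hT : (PA : Subgroup A).map A.subtype = T)
    [(T.subgroupOf (Subgroup.normalizer (T : Set G))).Normal]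
    (h1 : ∀ K : Subgroup (↥(Subgroup.normalizer (T : Set G)) ⧸ T.subgroupOf (Subgroup.normalizer (T : Set G))), (∃ P : Sylow p (↥(Subgroup.normalizer (T : Set G)) ⧸ T.subgroupOf (Subgroup.normalizer (T : Set G))), (P : Subgroup (↥(Subgroup.normalizer (T : Set G)) ⧸ T.subgroupOf (Subgroup.normalizer (T : Set G)))) ≤ K) → Cfsg.IsPronormal K)
    (h2 : ∀ K : Subgroup G, (∃ P : Sylow p G, (P : Subgroup G) ≤ K) →
      (Subgroup.normalizer (K : Set G)).map (QuotientGroup.mk' A) = Subgroup.normalizer ((K.map (QuotientGroup.mk' A) : Subgroup (G ⧸ A)) : Set (G ⧸ A)))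
    (K : Subgroup G) (P0 : Sylow p G) (hP0 : (P0 : Subgroup G) ≤ K) (hTP0 : T ≤ P0) : Cfsg.IsPronormal K := by
  let π := QuotientGroup.mk' A
  have hTA : T ≤ A := hT ▸ Subgroup.map_subtype_le _
  intro g
  show ∃ x ∈ K ⊔ cj g K, cj g K = cj x K
  obtain ⟨xq, hxq, hxe⟩ := hQ (K.map π) ⟨P0.mapSurjective (QuotientGroup.mk'_surjective A),
    by rw [Sylow.coe_mapSurjective]; exact Subgroup.map_mono hP0⟩ (π g)
  change xq ∈ K.map π ⊔ cj (π g) (K.map π) at hxq
  change cj (π g) (K.map π) = cj xq (K.map π) at hxe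
  rw [← map_cj, ← Subgroup.map_sup] at hxq
  obtain ⟨x, hx, rfl⟩ := hxq
  have hn : π (x⁻¹ * g) ∈ Subgroup.normalizer ((K.map π : Subgroup (G ⧸ A)) : Set (G ⧸ A)) := by
    refine mem_normalizer_of_cj ?_
    rw [map_mul, map_inv, cj_mul, hxe, cj_cancel]
  rw [← h2 K ⟨P0, hP0⟩] at hn
  obtain ⟨n, hn, hne⟩ := hn
  have haA : x⁻¹ * g * n⁻¹ ∈ A := by
    rw [← QuotientGroup.eq_one_iff]
    show π (x⁻¹ * g * n⁻¹) = 1
    rw [map_mul _ (x⁻¹ * g), map_inv π n, hne, mul_inv_cancel]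
  set a := x⁻¹ * g * n⁻¹
  have hgK : cj g K = cj x (cj a K) := by
    rw [← cj_mul, show g = x * a * n by simp [a, mul_assoc], cj_mul, cj_of_mem_normalizer hn]
  suffices key : ∀ a ∈ A, ∃ y ∈ K ⊔ cj a K, cj a K = cj y K by
    obtain ⟨y, hy, hye⟩ := key a haA
    have hle : K ⊔ cj a K ≤ K ⊔ cj g K := by
      refine sup_le le_sup_left ?_
      have h : cj a K = cj x⁻¹ (cj g K) := by rw [hgK, cj_cancel]
      rw [h]
      exact (cj_mono _ le_sup_right).trans (cj_self (Subgroup.inv_mem _ hx)).le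
    exact ⟨x * y, Subgroup.mul_mem _ hx (hle hy), by rw [hgK, hye, cj_mul]⟩
  clear hgK haA
  clear_value a
  clear a
  intro a ha
  set B := K ⊓ A
  have hBA : B ≤ A := inf_le_right
  have hTB : T ≤ B := le_inf (hTP0.trans hP0) hTA
  -- pronormality in `A`
  obtain ⟨y0, hy0, hy0e⟩ := hA (B.subgroupOf A) ⟨PA, fun z hz => hTB (hT ▸ ⟨z, hz, rfl⟩)⟩ ⟨a, ha⟩
  change y0 ∈ B.subgroupOf A ⊔ cj ⟨a, ha⟩ (B.subgroupOf A) at hy0
  change cj ⟨a, ha⟩ (B.subgroupOf A) = cj y0 (B.subgroupOf A) at hy0e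
  have hy0B : (y0 : G) ∈ B ⊔ cj a B := by
    have h := Subgroup.mem_map_of_mem A.subtype hy0
    rwa [Subgroup.map_sup, map_cj, Subgroup.map_subgroupOf_eq_of_le hBA] at h
  have hy0B' : cj a B = cj (y0 : G) B := by
    have h := congrArg (Subgroup.map A.subtype) hy0e
    rwa [map_cj, map_cj, Subgroup.map_subgroupOf_eq_of_le hBA] at h
  set a1 := (y0 : G)⁻¹ * a
  have ha1A : a1 ∈ A := A.mul_mem (A.inv_mem y0.2) ha
  have ha1B : cj a1 B = B := by rw [cj_mul, hy0B', cj_cancel]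
  have hy0J : (y0 : G) ∈ K ⊔ cj a K :=
    (sup_le_sup (inf_le_left : B ≤ K) (cj_mono a inf_le_left)) hy0B
  -- move `a1` into the normalizer of `T`
  obtain ⟨b, hb, hbe⟩ := exists_conj_mem (g := a1) hT hBA hTB ((cj_mono a1 hTB).trans ha1B.le)
  set a0 := b⁻¹ * a1
  have ha0T : cj a0 T = T := by rw [cj_mul, hbe, cj_cancel]
  have ha0B : cj a0 B = B := by rw [cj_mul, ha1B, cj_self (B.inv_mem hb)]
  have ha0K : cj a0 K = cj a1 K := by
    rw [cj_mul]
    refine cj_self (Subgroup.inv_mem _ ?_)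
    exact (ha1B.ge.trans (cj_mono a1 inf_le_left)) hb
  set NT := Subgroup.normalizer (T : Set G)
  set K0 := K ⊓ NT
  have hTn : (P0 : Subgroup G) ≤ NT := fun z hz => mem_normalizer_of_cj (by
    rw [inf_eq_of_le hT P0 hTP0, cj, Subgroup.map_inf _ _ _ (MulAut.conj z).injective]
    exact congrArg₂ _ (cj_self hz) (cj_normal z A))
  have hP0K0 : (P0 : Subgroup G) ≤ K0 := le_inf hP0 hTn
  have hK : K = B ⊔ K0 := by
    refine le_antisymm (fun k hk => ?_) (sup_le inf_le_left inf_le_left)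
    obtain ⟨c, hc, hce⟩ := exists_conj_mem (g := k) hT hBA hTB
      (le_inf ((cj_mono k (hTP0.trans hP0)).trans (cj_self hk).le) ((cj_mono k hTA).trans (cj_normal k A).le))
    have h : c⁻¹ * k ∈ K0 := ⟨K.mul_mem (K.inv_mem hc.1) hk, mem_normalizer_of_cj (by rw [cj_mul, hce, cj_cancel])⟩
    have := Subgroup.mul_mem _ (Subgroup.mem_sup_left (T := K0) hc) (Subgroup.mem_sup_right h)
    simpa using this
  -- pronormality in `N(T)/T`
  let ρ := QuotientGroup.mk' (T.subgroupOf NT)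
  have hK0N : K0 ≤ NT := inf_le_right
  have ha0N : a0 ∈ NT := mem_normalizer_of_cj ha0T
  have hTK0 : T ≤ K0 := hTP0.trans hP0K0
  obtain ⟨yq, hyq, hye⟩ := h1 ((K0.subgroupOf NT).map ρ)
    ⟨(P0.subtype hTn).mapSurjective (QuotientGroup.mk'_surjective _),
      by rw [Sylow.coe_mapSurjective, Sylow.coe_subtype]; exact Subgroup.map_mono fun z hz => hP0K0 hz⟩ (ρ ⟨a0, ha0N⟩)
  change yq ∈ (K0.subgroupOf NT).map ρ ⊔ cj (ρ ⟨a0, ha0N⟩) ((K0.subgroupOf NT).map ρ) at hyq
  change cj (ρ ⟨a0, ha0N⟩) ((K0.subgroupOf NT).map ρ) = cj yq ((K0.subgroupOf NT).map ρ) at hye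
  rw [← map_cj, ← Subgroup.map_sup] at hyq
  obtain ⟨y, hy, rfl⟩ := hyq
  have hyK0 : cj a0 K0 = cj (y : G) K0 := by
    have hTK : T.subgroupOf NT ≤ K0.subgroupOf NT := fun z hz => hTK0 hz
    have h := conj_of_le (N := T.subgroupOf NT) (H := K0.subgroupOf NT) (K := cj ⟨a0, ha0N⟩ (K0.subgroupOf NT))
      hTK ((cj_normal _ _).ge.trans (cj_mono _ hTK)) (g := y) (by rw [map_cj]; exact hye)
    have h' := congrArg (Subgroup.map NT.subtype) h
    rwa [map_cj, map_cj, Subgroup.map_subgroupOf_eq_of_le hK0N] at h'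
  have hyJ : (y : G) ∈ K0 ⊔ cj a0 K0 := by
    have h := Subgroup.mem_map_of_mem NT.subtype hy
    rwa [Subgroup.map_sup, map_cj, Subgroup.map_subgroupOf_eq_of_le hK0N] at h
  have hKB : ∀ k ∈ K, cj k B = B := fun k hk => by
    show cj k (K ⊓ A) = _
    rw [cj, Subgroup.map_inf _ _ _ (MulAut.conj k).injective]
    exact congrArg₂ _ (cj_self hk) (cj_normal k A)
  have hyB : cj (y : G) B = B := by
    refine cj_of_mem_normalizer ((sup_le ?_ ?_ : K0 ⊔ cj a0 K0 ≤ Subgroup.normalizer (B : Set G)) hyJ)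
    · exact fun k hk => mem_normalizer_of_cj (hKB k hk.1)
    · rintro _ ⟨k, hk, rfl⟩
      refine mem_normalizer_of_cj ?_
      show cj (a0 * k * a0⁻¹) B = B
      have h0 : cj a0⁻¹ B = B := by conv_lhs => rw [← ha0B, cj_cancel]
      rw [cj_mul, cj_mul, h0, hKB k hk.1, ha0B]
  have hfin : cj a0 K = cj (y : G) K := by
    conv_lhs => rw [hK, cj_sup, ha0B, hyK0]
    conv_rhs => rw [hK, cj_sup, hyB]
  have haK : cj a K = cj ((y0 : G) * y) K := by
    rw [cj_mul, ← hfin, ha0K, ← cj_mul, mul_inv_cancel_left]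
  refine ⟨(y0 : G) * y, Subgroup.mul_mem _ hy0J ?_, haK⟩
  have hle : cj a1 K ≤ K ⊔ cj a K := by
    rw [cj_mul]
    exact (cj_mono _ le_sup_right).trans (cj_self (Subgroup.inv_mem _ hy0J)).le
  exact (sup_le_sup (inf_le_left : K0 ≤ K) (cj_mono a0 inf_le_left)).trans
    (sup_le le_sup_left (ha0K.le.trans hle)) hyJ

end


/-- Let p be a prime and G a finite group with a normal subgroup A such that, both in A and in G/A, every subgroup containing a Sylow p-subgroup of that group is pronormal in that group. Let T be a Sylow p-subgroup of A. Then every subgroup of G containing a Sylow p-subgroup of G is pronormal in G if and only if (i) every subgroup of N_G(T)/T containing a Sylow p-subgroup of N_G(T)/T is pronormal there, and (ii) for every subgroup H of G containing a Sylow p-subgroup of G, the image of N_G(H) in G/A is the full normalizer of the image of H. (Pronormal: H and gHg⁻¹ are conjugate inside the subgroup they generate, for every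 g.) -/
theorem result {G : Type*} [Group G] [Finite G] {p : ℕ} [Fact p.Prime]
    (A : Subgroup G) [A.Normal] (hA : (∀ K : Subgroup ↥A, (∃ P : Sylow p ↥A, (P : Subgroup ↥A) ≤ K) → Cfsg.IsPronormal K)) (hQ : (∀ K : Subgroup (G ⧸ A), (∃ P : Sylow p (G ⧸ A), (P : Subgroup (G ⧸ A)) ≤ K) → Cfsg.IsPronormal K))
    (T : Subgroup G) (hT : ∃ P : Sylow p ↥A, (P : Subgroup ↥A).map A.subtype = T) [(T.subgroupOf (Subgroup.normalizer (T : Set G))).Normal] :
    (∀ K : Subgroup G, (∃ P : Sylow p G, (P : Subgroup G) ≤ K) → Cfsg.IsPronormal K) ↔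
      ((∀ K : Subgroup (↥(Subgroup.normalizer (T : Set G)) ⧸ T.subgroupOf (Subgroup.normalizer (T : Set G))), (∃ P : Sylow p (↥(Subgroup.normalizer (T : Set G)) ⧸ T.subgroupOf (Subgroup.normalizer (T : Set G))), (P : Subgroup (↥(Subgroup.normalizer (T : Set G)) ⧸ T.subgroupOf (Subgroup.normalizer (T : Set G)))) ≤ K) → Cfsg.IsPronormal K) ∧
        ∀ K : Subgroup G, (∃ P : Sylow p G, (P : Subgroup G) ≤ K) →
          (Subgroup.normalizer (K : Set G)).map (QuotientGroup.mk' A) = Subgroup.normalizer ((K.map (QuotientGroup.mk' A) : Subgroup (G ⧸ A)) : Set (G ⧸ A))) := by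
  classical
  obtain ⟨PA, hT⟩ := hT
  have hTp : IsPGroup p T := hT ▸ PA.isPGroup'.map A.subtype
  obtain ⟨Q, hTQ⟩ := hTp.exists_le_sylow
  set NT := Subgroup.normalizer (T : Set G)
  have hQN : (Q : Subgroup G) ≤ NT := fun z hz => mem_normalizer_of_cj (by
    rw [inf_eq_of_le hT Q hTQ, cj, Subgroup.map_inf _ _ _ (MulAut.conj z).injective]
    exact congrArg₂ _ (cj_self hz) (cj_normal z A))
  constructor
  · intro h
    refine ⟨fun Kq ⟨Pq, hPq⟩ gq => ?_, fun K hK => ?_⟩
    · let ρ := QuotientGroup.mk' (T.subgroupOf NT)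
      let L := (Kq.comap ρ).map NT.subtype
      obtain ⟨g, rfl⟩ := QuotientGroup.mk'_surjective (T.subgroupOf NT) gq
      -- a Sylow subgroup of `G` inside `L`
      let Q' := (Q.subtype hQN).mapSurjective (QuotientGroup.mk'_surjective (T.subgroupOf NT))
      obtain ⟨wq, hwq⟩ := MulAction.exists_smul_eq (↥NT ⧸ T.subgroupOf NT) Q' Pq
      obtain ⟨w, rfl⟩ := QuotientGroup.mk'_surjective (T.subgroupOf NT) wq
      have hQL : ((w : G) • Q : Sylow p G) ≤ L := by
        rw [Sylow.coe_subgroup_smul, Cfsg.Agent.S4022.cj_smul]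
        rintro _ ⟨z, hz, rfl⟩
        refine ⟨w * ⟨z, hQN hz⟩ * w⁻¹, hPq ?_, rfl⟩
        rw [← hwq, Sylow.coe_subgroup_smul, Cfsg.Agent.S4022.cj_smul]
        exact ⟨ρ ⟨z, hQN hz⟩, ⟨⟨z, hQN hz⟩, hz, rfl⟩, by simp [ρ]⟩
      obtain ⟨x, hx, he⟩ := h L ⟨_, hQL⟩ g
      change x ∈ L ⊔ cj (g : G) L at hx
      change cj (g : G) L = cj x L at he
      have hgL : cj (g : G) L = (cj g (Kq.comap ρ)).map NT.subtype := (map_cj NT.subtype g _).symm
      rw [hgL, ← Subgroup.map_sup] at hx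
      obtain ⟨x', hx', rfl⟩ := hx
      refine ⟨ρ x', ?_, ?_⟩
      · show ρ x' ∈ Kq ⊔ cj (ρ g) Kq
        have h1 := Subgroup.mem_map_of_mem ρ hx'
        rwa [Subgroup.map_sup, map_cj, Subgroup.map_comap_eq_self_of_surjective (QuotientGroup.mk'_surjective _)] at h1
      · show cj (ρ g) Kq = cj (ρ x') Kq
        have e2 : cj g (Kq.comap ρ) = cj x' (Kq.comap ρ) :=
          Subgroup.map_injective NT.subtype_injective (by rw [map_cj, map_cj]; exact he)
        have h1 := congrArg (Subgroup.map ρ) e2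
        rwa [map_cj, map_cj, Subgroup.map_comap_eq_self_of_surjective (QuotientGroup.mk'_surjective _)] at h1
    · let π := QuotientGroup.mk' A
      refine le_antisymm (Subgroup.le_normalizer_map π) fun gq hgq => ?_
      obtain ⟨g, rfl⟩ := QuotientGroup.mk'_surjective A gq
      obtain ⟨x, hx, he⟩ := h K hK g
      change x ∈ K ⊔ cj g K at hx
      change cj g K = cj x K at he
      have hKn : K.map π ≤ (Subgroup.normalizer (K : Set G)).map π := Subgroup.map_mono Subgroup.le_normalizer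
      have h1 : π x ∈ K.map π := by
        have := Subgroup.mem_map_of_mem π hx
        rwa [Subgroup.map_sup, map_cj, cj_of_mem_normalizer hgq, sup_idem] at this
      have h2 : x⁻¹ * g ∈ Subgroup.normalizer (K : Set G) := mem_normalizer_of_cj (by rw [cj_mul, he, cj_cancel])
      have h3 := Subgroup.mul_mem _ (hKn h1) (Subgroup.mem_map_of_mem π h2)
      rwa [← map_mul, mul_inv_cancel_left] at h3
  · rintro ⟨h1, h2⟩ K ⟨P, hP⟩
    obtain ⟨w, hw⟩ := MulAction.exists_smul_eq G Q P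
    have hPw : cj w (Q : Subgroup G) = P := by rw [← hw, Sylow.coe_subgroup_smul, Cfsg.Agent.S4022.cj_smul]
    have hle : (Q : Subgroup G) ≤ cj w⁻¹ K := by
      rw [← cj_cancel w (Q : Subgroup G), hPw]; exact cj_mono _ hP
    have h := pronormal_cj (backward A hA hQ T hT h1 h2 (cj w⁻¹ K) Q hle hTQ) w
    rwa [← cj_mul, mul_inv_cancel, cj_one] at h
end Cfsg.Agent.S4270
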