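import Cfsg.Statements.S2100
import Cfsg.Agent.Lib.Chev.StMultiplier
-- import your own Cfsg.Agent.* helpers here

set_option autoImplicit false
open Cfsg

namespace Cfsg.Agent.S2100

/-- Schur multipliers of the Chevalley groups of type G₂: over a field with q ≥ 5 elements the Schur multiplier of G₂(q) is trivial (here the Schur multiplier is described through stem extensions, as in the definitions); the cases q = 3 and q = 4 are exceptional and q = 2 gives a non-simple group. -/
theorem result {F : Type*} [Field F] [Fintype F] (hF : 5 ≤ Fintype.card F) : Cfsg.HasCyclicSchurMultiplier ↥(Cfsg.Lie.chevG2.group F) 1 := by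
  classical
  obtain ⟨T, C, h, hnb, hl⟩ := CfsgLib.Chev.rel_of_big_field (s := (Finset.univ : Finset F))
    (by rw [Finset.card_univ]; omega) (D := Cfsg.Lie.chevG2) (by simp)
  have hnb' : CfsgLib.Chev.Rel.Nbr CfsgLib.Chev.tabG2 := by
    unfold CfsgLib.Chev.Rel.Nbr; decide +kernel
  have hperf : commutator ((Cfsg.Lie.chevG2).SteinbergCover F) = ⊤ := by
    refine CfsgLib.Chev.rel_perfect (by simp) (fun _ => ?_) le_rfl
      (CfsgLib.Chev.steinbergRelsAB_subset _ F)
    by_contra hc
    push Not at hc
    have h2 : Fintype.card F ≤ ({0, 1} : Finset F).card := Finset.card_le_card fun x _ => by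
      by_cases h0 : x = 0
      · simp [h0]
      · simp [hc x h0]
    have := Finset.card_le_two (a := (0 : F)) (b := 1)
    omega
  obtain ⟨e⟩ := CfsgLib.Chev.centerEquivOne
    ((CfsgLib.Chev.certG2.relOf (R := Cfsg.Lie.chevG2.steinbergRelsAB F) le_rfl
        (CfsgLib.Chev.steinbergRelsAB_subset _ F)).center_eq_bot CfsgLib.Chev.certG2 hnb'
      ((CfsgLib.Chev.certG2.relOf le_rfl
        (CfsgLib.Chev.steinbergRelsAB_subset _ F)).mult_of_finite CfsgLib.Chev.certG2 hnb')
      (U := CfsgLib.Chev.matOf _ CfsgLib.Chev.snfUG2) (Ui := CfsgLib.Chev.matOf _ CfsgLib.Chev.snfUiG2)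
      (V := CfsgLib.Chev.matOf _ CfsgLib.Chev.snfVG2) (Vi := CfsgLib.Chev.matOf _ CfsgLib.Chev.snfViG2)
      (by decide +kernel) (by decide +kernel))
  exact h.hasSchurMultiplier_group hnb hperf hl e

end Cfsg.Agent.S2100
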