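import Cfsg.Statements.S2034
import Cfsg.Agent.Lib.Schur.SylowCriterion
import Cfsg.Agent.Lib.Schur.SmallSylow
import Cfsg.Agent.Lib.Golay.MathieuFacts
-- import your own Cfsg.Agent.* helpers here

set_option autoImplicit false
open Cfsg

namespace Cfsg.Agent.S2034

open CfsgLib.Golay
open scoped Pointwise

/-- membership test -/
def inG (P : ℕ) : Bool := inM24 P && mimg P 340831 == 340831 && fixes P 1

theorem squareDodecad_eq : Cfsg.Spor.squareDodecad = dec 340831 := by
  rw [Cfsg.Spor.squareDodecad, qrWord_eq, support_wd]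
  rfl

theorem validP_of_inG {P : ℕ} (h : inG P = true) : validP P = true := by
  simp only [inG, inM24, Bool.and_eq_true, beq_iff_eq] at h
  exact h.1.1.1

theorem mem_of_inG {P : ℕ} (h : inG P = true) : toPerm P ∈ Cfsg.Spor.M11 := by
  have hv := validP_of_inG h
  simp only [inG, Bool.and_eq_true, beq_iff_eq] at h
  refine Subgroup.mem_inf.2 ⟨Subgroup.mem_inf.2 ⟨toPerm_mem_M24 h.1.1,
    MulAction.mem_stabilizer_iff.2 ?_⟩, MulAction.mem_stabilizer_iff.2 ?_⟩
  · rw [squareDodecad_eq, smul_dec hv, h.1.2]
  · exact fixes_apply hv h.2 (p := some 0) (by rw [mem_dec]; decide +kernel)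

/-- a packed permutation as an element -/
noncomputable def el (P : ℕ) (h : inG P = true) : Cfsg.Spor.M11 := ⟨toPerm P, mem_of_inG h⟩

theorem el_apply (P : ℕ) (h : inG P = true) (p : GolayPt) :
    (el P h : Equiv.Perm GolayPt) p = apFun P p := toPerm_apply (validP_of_inG h) p

/-- an element of order eight -/
def PA : ℕ := 232937932632406724834648727074916416
/-- an involution with `b a b = a ^ 3` -/
def PB : ℕ := 965346966670364367458681901213092896
/-- an element of order three -/
def PX : ℕ := 980958309107290892929826708479459520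
/-- an element of order three centralizing `x` -/
def PY : ℕ := 731722996265023435542964160459476032
/-- an involution inverting `x` and centralizing `y` -/
def PH : ℕ := 970499966350631336865513127433832480

theorem hcard : Nat.card Cfsg.Spor.M11 = 7920 := by
  rw [← Nat.card_congr (conjEquiv (K := Cfsg.Spor.M11) (inf_le_left.trans inf_le_left)
    (MulAction.stabilizer M24 (dec 340831) ⊓ MulAction.stabilizer M24 (pt 0)) (one_mem M24)
    fun x => by
      simp only [inv_one, one_mul, mul_one, Subgroup.mem_inf,
        Cfsg.Spor.M11, Cfsg.Spor.M12, MulAction.mem_stabilizer_iff, SetLike.coe_mem, true_and,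
        squareDodecad_eq]
      rfl).toEquiv,
    natCard_stab_dodecad_point ⟨⟨wd 340831, wd_mem_of_inC (by decide +kernel), support_wd _⟩, by
      rw [card_dec_eq_pop]; decide +kernel⟩ (by rw [mem_dec]; decide +kernel)]

theorem cyclic_big {ℓ : ℕ} (hℓ : ℓ.Prime) (h2 : ℓ ≠ 2) (h3 : ℓ ≠ 3) [Fact ℓ.Prime]
    (P : Sylow ℓ Cfsg.Spor.M11) : IsCyclic (P : Subgroup Cfsg.Spor.M11) := by
  have hP := P.card_eq_multiplicity
  rw [hcard] at hP
  rcases Nat.lt_or_ge ((7920 : ℕ).factorization ℓ) 2 with hlt | hge
  · interval_cases hf : (7920 : ℕ).factorization ℓ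
    · rw [pow_zero] at hP
      have : Subsingleton (P : Subgroup Cfsg.Spor.M11) := (Nat.card_eq_one_iff_unique.1 hP).1
      exact isCyclic_of_subsingleton
    · rw [pow_one] at hP
      exact isCyclic_of_prime_card hP
  · exfalso
    have hd : ℓ ^ 2 ∣ 7920 := (pow_dvd_pow ℓ hge).trans (Nat.ordProj_dvd 7920 ℓ)
    have hle : ℓ ^ 2 ≤ 7920 := Nat.le_of_dvd (by norm_num) hd
    have hb : ℓ < 89 := by nlinarith
    revert hd
    interval_cases ℓ <;> norm_num at *


/-- The Schur multiplier of the Mathieu group M₁₁ (the stabiliser of a dodecad and one of its points in the automorphism group of the length-24 binary code) is trivial; here the Schur multiplier is described through stem extensions, as in the definitions: surjective homomorphisms onto the group from a finite group, whose kernel is central in that finite group and contained in that finite group's commutator subgroup. -/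
theorem result : Cfsg.HasCyclicSchurMultiplier ↥Cfsg.Spor.M11 1 := by
  refine CfsgLib.Schur.trivial_multiplier_of_local fun ℓ hℓ => ?_
  haveI := Fact.mk hℓ
  have ext' : ∀ {x y : Cfsg.Spor.M11}, (∀ p, (x : Equiv.Perm GolayPt) p = (y : Equiv.Perm GolayPt) p) →
      x = y := fun h => Subtype.ext (Equiv.ext h)
  have hin : inG PA = true ∧ inG PB = true ∧ inG PX = true ∧ inG PY = true ∧ inG PH = true := by
    decide +kernel
  obtain ⟨hA, hB, hX, hY, hH⟩ := hin
  by_cases h2 : ℓ = 2
  · subst h2
    set a := el PA hA
    set b := el PB hB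
    have ha8 : a ^ 8 = 1 := ext' fun p => by
      simp only [pow_succ, pow_zero, one_mul, Subgroup.coe_mul, Subgroup.coe_one, Equiv.Perm.mul_apply,
        Equiv.Perm.one_apply, a, el_apply]
      revert p; decide +kernel
    have ha4 : ¬a ^ 4 = 1 := fun h => by
      have h' := congrArg (fun x : Cfsg.Spor.M11 => (x : Equiv.Perm GolayPt)) h
      have : ∀ p, apFun PA (apFun PA (apFun PA (apFun PA p))) = p := fun p => by
        have h'' := DFunLike.congr_fun h' p
        simpa only [pow_succ, pow_zero, one_mul, Subgroup.coe_mul, Subgroup.coe_one,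
          Equiv.Perm.mul_apply, Equiv.Perm.one_apply, a, el_apply] using h''
      revert this; decide +kernel
    have ha : orderOf a = 2 ^ 3 := orderOf_eq_prime_pow ha4 ha8
    have hb : b * b = 1 := ext' fun p => by
      simp only [Subgroup.coe_mul, Subgroup.coe_one, Equiv.Perm.mul_apply, Equiv.Perm.one_apply, b, el_apply]
      revert p; decide +kernel
    have hab : b * a * b⁻¹ = a ^ 3 := by
      rw [inv_eq_of_mul_eq_one_right hb]
      refine ext' fun p => ?_
      simp only [pow_succ, pow_zero, one_mul, Subgroup.coe_mul, Equiv.Perm.mul_apply, a, b, el_apply]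
      revert p; decide +kernel
    have hnot : b ∉ Subgroup.zpowers a := fun h => by
      obtain ⟨i, hi⟩ := Subgroup.mem_zpowers_iff.mp h
      have hc : b * a * b⁻¹ = a := by
        rw [← hi, (Commute.zpow_self a i).eq, mul_inv_cancel_right]
      rw [hab] at hc
      refine ha4 ?_
      have h2' : a ^ 2 = 1 := mul_left_cancel (a := a) (by rw [← pow_succ', mul_one]; exact hc)
      rw [show 4 = 2 * 2 from rfl, pow_mul, h2', one_pow]
    have hd := CfsgLib.Schur.pow_succ_dvd_card_closure_pair ha (by rw [sq]; exact hb)
      (by rw [hab]; exact Subgroup.pow_mem _ (Subgroup.mem_zpowers a) 3) hnot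
    refine ⟨Subgroup.closure {a, b}, fun hi => ?_, fun Γ _ _ σ hσ hc z hz hzd _ =>
      CfsgLib.Schur.preimage_commutator_inf_ker_semidihedral hσ hc ha hb hab hz hzd⟩
    have := mul_dvd_mul hd hi
    rw [Subgroup.card_mul_index, hcard] at this
    norm_num at this
  by_cases h3 : ℓ = 3
  · subst h3
    set x := el PX hX
    set y := el PY hY
    set t := el PH hH
    have hx : x ^ 3 = 1 := ext' fun p => by
      simp only [pow_succ, pow_zero, one_mul, Subgroup.coe_mul, Subgroup.coe_one, Equiv.Perm.mul_apply,
        Equiv.Perm.one_apply, x, el_apply]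
      revert p; decide +kernel
    have hy : y ^ 3 = 1 := ext' fun p => by
      simp only [pow_succ, pow_zero, one_mul, Subgroup.coe_mul, Subgroup.coe_one, Equiv.Perm.mul_apply,
        Equiv.Perm.one_apply, y, el_apply]
      revert p; decide +kernel
    have hx1 : ¬x = 1 := fun h => by
      have : ∀ p, apFun PX p = p := fun p => by
        rw [← el_apply PX hX]; exact DFunLike.congr_fun (congrArg Subtype.val h) p
      revert this; decide +kernel
    have hy1 : ¬y = 1 := fun h => by
      have : ∀ p, apFun PY p = p := fun p => by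
        rw [← el_apply PY hY]; exact DFunLike.congr_fun (congrArg Subtype.val h) p
      revert this; decide +kernel
    have hxy : x * y = y * x := ext' fun p => by
      simp only [Subgroup.coe_mul, Equiv.Perm.mul_apply, x, y, el_apply]
      revert p; decide +kernel
    have htx : t * x * t⁻¹ = x⁻¹ := by
      rw [mul_inv_eq_iff_eq_mul, eq_inv_mul_iff_mul_eq]
      refine ext' fun p => ?_
      simp only [Subgroup.coe_mul, Equiv.Perm.mul_apply, x, t, el_apply]
      revert p; decide +kernel
    have hty : t * y * t⁻¹ = y := by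
      rw [mul_inv_eq_iff_eq_mul]
      refine ext' fun p => ?_
      simp only [Subgroup.coe_mul, Equiv.Perm.mul_apply, y, t, el_apply]
      revert p; decide +kernel
    have hnot : y ∉ Subgroup.zpowers x := fun h => by
      obtain ⟨i, hi⟩ := Subgroup.mem_zpowers_iff.mp h
      have e : y = y⁻¹ := by
        conv_lhs => rw [← hty, ← hi, ← conj_zpow, htx, inv_zpow, hi]
      have h2y : y ^ 2 = 1 := by rw [sq]; nth_rw 2 [e]; exact mul_inv_cancel y
      exact hy1 (by rwa [pow_succ, h2y, one_mul] at hy)
    have hd := CfsgLib.Schur.pow_succ_dvd_card_closure_pair (p := 3) (k := 1)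
      (by rw [pow_one]; exact orderOf_eq_prime hx hx1) hy
      (by rw [← hxy, mul_inv_cancel_right]; exact Subgroup.mem_zpowers x) hnot
    refine ⟨Subgroup.closure {x, y}, fun hi => ?_, fun Γ _ _ σ hσ hc z hz hzd _ => ?_⟩
    · have := mul_dvd_mul hd hi
      rw [Subgroup.card_mul_index, hcard] at this
      norm_num at this
    · rw [CfsgLib.Schur.preimage_commutator_nine hσ hc hx hxy htx hty] at hzd
      exact Subgroup.mem_bot.mp hzd
  · refine ⟨(default : Sylow ℓ Cfsg.Spor.M11), Sylow.not_dvd_index _,
      fun Γ _ _ σ hσ hc z hz hzd _ => ?_⟩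
    haveI := cyclic_big hℓ h2 h3 (default : Sylow ℓ Cfsg.Spor.M11)
    rw [CfsgLib.Schur.preimage_commutator_eq_bot_of_isCyclic σ hc] at hzd
    exact Subgroup.mem_bot.mp hzd

end Cfsg.Agent.S2034
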