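import Cfsg.Statements.S0219
import Cfsg.Agent.Lib.Transfer.Thompson

set_option autoImplicit false
set_option linter.style.haveILetI false
set_option linter.unusedVariables false
open Cfsg

namespace Cfsg.Agent.S0219

/-- If a finite group has even order and a cyclic Sylow 2-subgroup, then it has a subgroup of index 2 (consider the parity of permutations in the regular representation). -/
theorem result {G : Type*} [Group G] [Finite G] (heven : Even (Nat.card G)) (T : Sylow 2 G) (hT : IsCyclic (T : Subgroup G)) : ∃ H : Subgroup G, H.index = 2 := by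
  haveI := Fact.mk Nat.prime_two
  have h2 : (Nat.card G).minFac = 2 := (Nat.minFac_eq_two_iff _).mpr (even_iff_two_dvd.mp heven)
  have hc := CfsgLib.Transfer.hasNormalPComplement_of_normalizer_le_centralizer T
    (IsCyclic.normalizer_le_centralizer h2 hT)
  haveI := CfsgLib.Transfer.pResidual_normal 2 G
  have hK := CfsgLib.Transfer.hasNormalPComplement_iff_pResidual.mp hc
  refine ⟨_, (CfsgLib.Transfer.exists_index_of_hom_isPGroup
    (CfsgLib.Transfer.isPGroup_quotient_pResidual (p := 2) (G := G))
    (QuotientGroup.mk' (Cfsg.pResidual 2 G)) fun h => hK ?_).choose_spec⟩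
  have hk : (QuotientGroup.mk' (Cfsg.pResidual 2 G)).ker = ⊤ := by rw [h]; exact MonoidHom.ker_one
  rw [QuotientGroup.ker_mk'] at hk
  rw [hk, Subgroup.card_top]
  exact even_iff_two_dvd.mp heven

end Cfsg.Agent.S0219
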