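import Cfsg.Statements.S0220
import Cfsg.Agent.Lib.Transfer.Thompson
import Cfsg.Agent.S0219

set_option autoImplicit false
set_option linter.style.haveILetI false
set_option linter.unusedVariables false
open Cfsg

namespace Cfsg.Agent.S0220

/-- If x is an involution of a finite group G and a Sylow 2-subgroup of the centralizer of x is cyclic, then G has a subgroup of index 2; in particular G is not simple unless it has order 2. -/
theorem result {G : Type*} [Group G] [Finite G] (x : G) (hx : orderOf x = 2) (S : Sylow 2 ↥(Subgroup.centralizer ({x} : Set G))) (hS : IsCyclic (S : Subgroup ↥(Subgroup.centralizer ({x} : Set G)))) : ∃ H : Subgroup G, H.index = 2 := by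
  haveI := Fact.mk Nat.prime_two
  generalize hC : Subgroup.centralizer ({x} : Set G) = C at S hS
  have hxC : x ∈ C := hC ▸ Subgroup.mem_centralizer_singleton_iff.mpr rfl
  set X := (S : Subgroup C).map C.subtype with hX
  have hXc : IsCyclic X := by
    haveI := hS
    exact (Subgroup.equivMapOfInjective _ C.subtype C.subtype_injective).isCyclic.mp hS
  have hxS : (⟨x, hxC⟩ : C) ∈ (S : Subgroup C) := by
    have h1 : IsPGroup 2 (Subgroup.zpowers (⟨x, hxC⟩ : C)) :=
      CfsgLib.Transfer.isPGroup_zpowers ⟨1, by rw [pow_one, ← Subgroup.orderOf_coe]; exact hx⟩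
    obtain ⟨k, hk⟩ := CfsgLib.Transfer.exists_map_conj_le_sylow h1 S
    have h2 := hk ⟨_, Subgroup.mem_zpowers _, rfl⟩
    have e : k * ⟨x, hxC⟩ * k⁻¹ = (⟨x, hxC⟩ : C) := Subtype.ext (by
      change (k : G) * x * (k : G)⁻¹ = x
      rw [Subgroup.mem_centralizer_singleton_iff.mp (show (k : G) ∈ Subgroup.centralizer {x} by rw [hC]; exact k.2)]
      group)
    simpa [e] using h2
  obtain ⟨P, hP⟩ := (S.2.map C.subtype).exists_le_sylow
  suffices hPX : (P : Subgroup G) = X by
    refine S0219.result ?_ P (hPX ▸ hXc)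
    rw [even_iff_two_dvd, ← hx]
    exact orderOf_dvd_natCard x
  by_contra hne
  have hlt := CfsgLib.Transfer.lt_inf_normalizer P.2 (lt_of_le_of_ne hP (Ne.symm hne))
  refine hlt.ne (le_antisymm hlt.le fun g hg => ?_)
  have hxX : x ∈ X := ⟨⟨x, hxC⟩, hxS, rfl⟩
  have hgC : g ∈ C := by
    have h3 := (Subgroup.mem_normalizer_iff.mp hg.2 x).mp hxX
    have h4 : (⟨g * x * g⁻¹, h3⟩ : X) = ⟨x, hxX⟩ := by
      haveI := hXc
      refine CfsgLib.Transfer.eq_of_sq_eq_one_of_isCyclic _ _ (Subtype.ext ?_) (Subtype.ext ?_)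
        (fun h => ?_) (fun h => ?_)
      · change g * x * g⁻¹ * (g * x * g⁻¹) = 1
        calc _ = g * (x * x) * g⁻¹ := by group
          _ = 1 := by rw [CfsgLib.Transfer.sq_eq_one_of_orderOf_eq_two hx]; group
      · exact CfsgLib.Transfer.sq_eq_one_of_orderOf_eq_two hx
      · have h5 := congrArg Subtype.val h
        change g * x * g⁻¹ = 1 at h5
        rw [conj_eq_one_iff] at h5
        rw [h5, orderOf_one] at hx
        omega
      · have h5 := congrArg Subtype.val h
        change x = 1 at h5
        rw [h5, orderOf_one] at hx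
        omega
    rw [← hC, Subgroup.mem_centralizer_singleton_iff]
    exact mul_inv_eq_iff_eq_mul.mp (congrArg Subtype.val h4)
  have hS' : (S : Subgroup C) = ((P : Subgroup G).subgroupOf C) :=
    S.is_maximal' (P.2.comap_of_injective _ C.subtype_injective)
      (fun y hy => hP ⟨y, hy, rfl⟩) |>.symm
  exact ⟨⟨g, hgC⟩, hS' ▸ hg.1, rfl⟩

end Cfsg.Agent.S0220
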