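import Cfsg.Statements.S3331
import Cfsg.Agent.Lib.SelfCentThree.Simple
import Cfsg.Agent.Lib.SelfCentThree.SixIso
import Cfsg.Agent.S0494
import Cfsg.Agent.S0495

set_option autoImplicit false
open Cfsg

namespace Cfsg.Agent.S3331

/-- Let G be a finite group containing a subgroup X of order 3 with C_G(X) = X. Then one of the following holds: G has a nilpotent normal subgroup N of order prime to 3 with G/N of order 3 or isomorphic to Sym(3); or G has an elementary abelian normal 2-subgroup N with G/N isomorphic to the alternating group of degree 5; or G is isomorphic to PSL(2,7). -/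
theorem result {G : Type*} [Group G] [Finite G]
    (X : Subgroup G) (hX : Nat.card X = 3) (hC : Subgroup.centralizer (X : Set G) = X) :
    (∃ (N : Subgroup G) (hN : N.Normal), Group.IsNilpotent N ∧ (Nat.card N).Coprime 3 ∧
        (Nat.card (G ⧸ N) = 3 ∨ Nonempty (G ⧸ N ≃* Equiv.Perm (Fin 3)))) ∨
    (∃ (N : Subgroup G) (hN : N.Normal), IsMulCommutative N ∧ (∀ n ∈ N, n ^ 2 = 1) ∧
        Nonempty (G ⧸ N ≃* alternatingGroup (Fin 5))) ∨
    Nonempty (G ≃* Matrix.ProjectiveSpecialLinearGroup (Fin 2) (ZMod 7)) := by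
  haveI : Fact (Nat.Prime 3) := ⟨Nat.prime_three⟩
  obtain ⟨⟨x, hxX⟩, hx⟩ := exists_prime_orderOf_dvd_card' (G := X) 3 (by rw [hX])
  have ho : orderOf x = 3 := by rw [← hx, Subgroup.orderOf_mk]
  have hXz : Subgroup.zpowers x = X :=
    Subgroup.eq_of_le_of_card_ge (Subgroup.zpowers_le.mpr hxX)
      (by rw [hX, Nat.card_zpowers, ho])
  have h : CfsgLib.SCThree.SC x := by
    refine ⟨Nat.prime_three, ho, ?_⟩
    calc Subgroup.centralizer ({x} : Set G)
        = Subgroup.centralizer ((Subgroup.zpowers x : Subgroup G) : Set G) := by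
          rw [Subgroup.zpowers_eq_closure, Subgroup.centralizer_closure]
      _ = X := by rw [hXz]; exact hC
      _ = _ := hXz.symm
  have hd : ¬ 3 ∣ Nat.card (CfsgLib.SCThree.core3 G) := CfsgLib.SCThree.not_three_dvd_core3
  have hq : Nat.card (G ⧸ CfsgLib.SCThree.core3 G) = (CfsgLib.SCThree.core3 G).index := rfl
  rcases CfsgLib.SCThree.shape_of_selfCent h with h36 | ⟨h60, hsimp, hab, hsq⟩ | ⟨_, h168, hsimp⟩
  · refine Or.inl ⟨CfsgLib.SCThree.core3 G, inferInstance, ?_, ?_, ?_⟩
    · exact CfsgLib.SCThree.Inv.isNilpotent (x := x) h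
        ⟨by rw [Subgroup.normalizer_eq_top]; exact Subgroup.mem_top x, hd⟩
    · exact (Nat.prime_three.coprime_iff_not_dvd.mpr hd).symm
    · rcases h36 with e | e
      · exact Or.inl (hq.trans e)
      · exact Or.inr (CfsgLib.SCThree.six_iso
          (CfsgLib.SCThree.SC.quotient h (CfsgLib.SCThree.core3 G) hd) (hq.trans e))
  · refine Or.inr (Or.inl ⟨CfsgLib.SCThree.core3 G, inferInstance, ?_, ?_, ?_⟩)
    · exact ⟨⟨fun a b => Subtype.ext (hab a a.2 b b.2)⟩⟩
    · intro n hn
      rw [pow_two]; exact hsq n hn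
    · haveI := hsimp
      exact Cfsg.Agent.S0494.result (hq.trans h60)
  · haveI := hsimp
    haveI : Fact (Nat.Prime 7) := ⟨by norm_num⟩
    exact Or.inr (Or.inr (Cfsg.Agent.S0495.result h168 (F := ZMod 7) (ZMod.card 7)))

end Cfsg.Agent.S3331
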