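import Cfsg.Statements.S4399
import Cfsg.Agent.Lib.PGroup.TwoMaximalClass
import Cfsg.Agent.Lib.Classical.QuaternionRec

set_option autoImplicit false
set_option linter.style.haveILetI false
open Cfsg

namespace Cfsg.Agent.S4399

/-- Let S be a finite 2-group whose commutator quotient S/[S,S] is a Klein four-group (order 4 and exponent 2). Then S itself has order 4, or S is dihedral of order at least 8, semidihedral of order at least 16 (order 2^(k+4) with an element a of order 2^(k+3) and an involution b with b a b⁻¹ = a^(2^(k+2)−1)), or generalized quaternion of order at least 8. -/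
theorem result {S : Type*} [Group S] [Finite S] (h2 : IsPGroup 2 S) (hab : Nat.card (Abelianization S) = 4)
    (hexp : ∀ x : Abelianization S, x ^ 2 = 1) :
    Nat.card S = 4 ∨
    ((∃ k : ℕ, Nonempty (S ≃* DihedralGroup (2 ^ (k + 2)))) ∨
      (∃ k : ℕ, Nat.card S = 2 ^ (k + 4) ∧ ∃ a b : S, orderOf a = 2 ^ (k + 3) ∧ orderOf b = 2 ∧ b * a * b⁻¹ = a ^ (2 ^ (k + 2) - 1)) ∨
      (∃ k : ℕ, Nonempty (S ≃* QuaternionGroup (2 ^ (k + 1))))) := by
  classical
  haveI : Fact (Nat.Prime 2) := ⟨Nat.prime_two⟩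
  obtain ⟨n, hn⟩ := IsPGroup.iff_card.mp h2
  have hmul : Nat.card S = 4 * Nat.card (commutator S) := by
    rw [← hab]
    exact Subgroup.card_eq_card_quotient_mul_card_subgroup (commutator S)
  obtain ⟨c, -, hc⟩ := (Nat.dvd_prime_pow Nat.prime_two).mp (hn ▸ Subgroup.card_subgroup_dvd_card (commutator S))
  have hnc : n = c + 2 := by
    rw [hn, hc, show (4 : ℕ) * 2 ^ c = 2 ^ (c + 2) by ring] at hmul
    exact Nat.pow_right_injective le_rfl hmul
  subst hnc
  rcases Nat.eq_zero_or_pos c with rfl | hc0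
  · left; rw [hn]; rfl
  right
  obtain ⟨-, C, hCc, hCi⟩ := CfsgLib.MaxClass.taussky (c + 2) S (by omega) hn (by rw [Nat.add_sub_cancel]; exact hc)
  haveI := hCc
  haveI := IsCyclic.isMulCommutative (α := C)
  obtain ⟨⟨g, hgC⟩, hgen⟩ := IsCyclic.exists_generator (α := C)
  have hCz : C = Subgroup.zpowers g := by
    refine le_antisymm (fun x hx => ?_) (Subgroup.zpowers_le.mpr hgC)
    obtain ⟨i, hi⟩ := hgen ⟨x, hx⟩
    exact ⟨i, congrArg Subtype.val hi⟩
  have hgo : orderOf g = 2 ^ (c + 1) := by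
    have h := C.card_mul_index
    rw [hCi, hn, hCz, Nat.card_zpowers, show 2 ^ (c + 2) = 2 ^ (c + 1) * 2 by ring] at h
    exact Nat.eq_of_mul_eq_mul_right (by norm_num) h
  obtain ⟨t, ht⟩ : ∃ t : S, t ∉ C := by
    by_contra h
    push Not at h
    rw [show C = ⊤ from eq_top_iff.mpr fun x _ => h x, Subgroup.index_top] at hCi
    omega
  haveI hCn : C.Normal := Subgroup.normal_of_index_eq_two hCi
  obtain ⟨r, hr⟩ : ∃ r : ℤ, g ^ r = t * g * t⁻¹ := by
    have := hCn.conj_mem g hgC t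
    rw [hCz] at this
    exact this
  have hne : commutator S ≠ ⊥ := fun h => by
    rw [h, Subgroup.card_bot] at hc
    exact (Nat.one_lt_pow hc0.ne' one_lt_two).ne hc
  have hsub : commutator S ≤ Subgroup.zpowers (g ^ (r - 1)) := by
    intro x hx
    obtain ⟨y, hy, rfl⟩ := (CfsgLib.MaxClass.index_two_facts C hCi ht hne).2 x hx
    rw [hCz] at hy
    obtain ⟨i, rfl⟩ := hy
    refine ⟨i, ?_⟩
    simp only
    rw [← conj_zpow, ← hr, ← zpow_mul, ← zpow_mul, ← zpow_neg, ← zpow_add]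
    congr 1
    ring
  have hN : ∀ e : ℤ, g ^ e = 1 ↔ ((2 ^ (c + 1) : ℕ) : ℤ) ∣ e := fun e => by
    rw [← hgo, orderOf_dvd_iff_zpow_eq_one]
  have h4 : ¬ (4 : ℤ) ∣ r - 1 := by
    rintro ⟨d, hd⟩
    have h1 : (g ^ (r - 1)) ^ (2 ^ (c - 1) : ℕ) = 1 := by
      rw [← zpow_natCast, ← zpow_mul, hN, hd]
      refine ⟨d, ?_⟩
      obtain ⟨e, rfl⟩ : ∃ e, c = e + 1 := ⟨c - 1, by omega⟩
      push_cast
      ring
    have h2 : Nat.card (commutator S) ≤ 2 ^ (c - 1) :=
      (Subgroup.card_le_of_le hsub).trans (by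
        rw [Nat.card_zpowers]; exact orderOf_le_of_pow_eq_one (by positivity) h1)
    rw [hc] at h2
    have := (Nat.pow_le_pow_iff_right one_lt_two).mp h2
    omega
  have hrr : ((2 ^ (c + 1) : ℕ) : ℤ) ∣ r * r - 1 := by
    rw [← hN, zpow_sub, zpow_one, zpow_mul, hr, conj_zpow, hr]
    have h2 : t * t ∈ C := Subgroup.mul_mem_iff_of_index_two hCi |>.mpr Iff.rfl
    have h3 : t * t * g = g * (t * t) := congrArg Subtype.val (mul_comm' (⟨t * t, h2⟩ : C) ⟨g, hgC⟩)
    calc t * (t * g * t⁻¹) * t⁻¹ * g⁻¹ = t * t * g * (t * t)⁻¹ * g⁻¹ := by group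
      _ = 1 := by rw [h3]; group
  push_cast at hrr
  have h2c : (2 : ℤ) ^ (c + 1) = 2 * 2 ^ c := by ring
  have hrodd : (2 : ℤ) ∣ r - 1 := by
    have h2r : (2 : ℤ) ∣ r * r - 1 := (dvd_pow_self 2 (by omega)).trans hrr
    rcases Int.even_or_odd r with ⟨d, rfl⟩ | ⟨d, rfl⟩
    · exfalso
      obtain ⟨e, he⟩ := h2r
      ring_nf at he
      omega
    · exact ⟨d, by ring⟩
  obtain ⟨d, hd⟩ := hrodd
  have hdodd : ¬ (2 : ℤ) ∣ d := fun ⟨e, he⟩ => h4 ⟨e, by rw [hd, he]; ring⟩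
  have hco : IsCoprime ((2 : ℤ) ^ c) d :=
    ((Int.prime_two.coprime_iff_not_dvd).mpr hdodd).pow_left
  have hplus : (2 : ℤ) ^ c ∣ r + 1 := by
    refine hco.dvd_of_dvd_mul_left ?_
    rw [h2c, show r * r - 1 = 2 * (d * (r + 1)) by linear_combination (r + 1) * hd] at hrr
    exact Int.dvd_of_mul_dvd_mul_left two_ne_zero hrr
  -- the square of `t`
  have htt : t * t = 1 ∨ t * t = g ^ ((2 : ℤ) ^ c) := by
    have h2 : t * t ∈ C := Subgroup.mul_mem_iff_of_index_two hCi |>.mpr Iff.rfl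
    rw [hCz] at h2
    obtain ⟨s, hs⟩ := h2
    simp only at hs
    have h3 : ((2 ^ (c + 1) : ℕ) : ℤ) ∣ r * s - s := by
      rw [← hN, zpow_sub, zpow_mul, hr, conj_zpow, hs]
      group
    push_cast at h3
    rw [h2c, show r * s - s = 2 * (d * s) by linear_combination s * hd] at h3
    obtain ⟨e, he⟩ := hco.dvd_of_dvd_mul_left (Int.dvd_of_mul_dvd_mul_left two_ne_zero h3)
    rcases Int.even_or_odd e with ⟨f, rfl⟩ | ⟨f, rfl⟩
    · left
      rw [← hs, he, hN]
      push_cast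
      exact ⟨f, by ring⟩
    · right
      rw [← hs, he, show (2 : ℤ) ^ c * (2 * f + 1) = 2 ^ (c + 1) * f + 2 ^ c by ring, zpow_add,
        (hN _).mpr (by push_cast; exact dvd_mul_right _ _), one_mul]
  obtain ⟨k, rfl⟩ : ∃ k, c = k + 1 := ⟨c - 1, by omega⟩
  haveI : NeZero (2 ^ (k + 2)) := ⟨by positivity⟩
  haveI : NeZero (2 ^ (k + 1)) := ⟨by positivity⟩
  have htg : t ∉ Subgroup.zpowers g := hCz ▸ ht
  obtain ⟨e, he⟩ := hplus
  rcases Int.even_or_odd e with ⟨f, rfl⟩ | ⟨f, rfl⟩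
  · -- dihedral or quaternion
    have hinv : t * g * t⁻¹ = g⁻¹ := by
      rw [← hr, show r = 2 ^ (k + 1 + 1) * f + -1 by linear_combination he, zpow_add,
        (hN _).mpr (by push_cast; exact dvd_mul_right _ _), one_mul, zpow_neg, zpow_one]
    rcases htt with h | h
    · left
      obtain ⟨F, hF, -⟩ := CfsgLib.SmallTwo.exists_dihedral_hom_injective (n := 2 ^ (k + 2)) hgo h hinv htg
      refine ⟨k, ⟨(MulEquiv.ofBijective F ((Nat.bijective_iff_injective_and_card F).mpr ⟨hF, ?_⟩)).symm⟩⟩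
      rw [DihedralGroup.nat_card, hn]; ring
    · right; right
      obtain ⟨F, hF, -⟩ := CfsgLib.Classical.exists_quaternion_hom (n := 2 ^ (k + 1)) (a := g) (w := t)
        (by rw [hgo]; ring) (by rw [h, ← zpow_natCast]; push_cast; rfl) hinv htg
      refine ⟨k, ⟨(MulEquiv.ofBijective F ((Nat.bijective_iff_injective_and_card F).mpr ⟨hF, ?_⟩)).symm⟩⟩
      rw [Nat.card_eq_fintype_card, QuaternionGroup.card, hn]; ring
  · -- semidihedral
    have hk : 1 ≤ k := by
      by_contra hk0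
      obtain rfl : k = 0 := by omega
      refine h4 ⟨f, ?_⟩
      linear_combination he
    obtain ⟨k, rfl⟩ : ∃ j, k = j + 1 := ⟨k - 1, by omega⟩
    have hgr : g ^ r = g ^ (2 ^ (k + 2) - 1 : ℕ) := by
      rw [show r = 2 ^ (k + 1 + 1 + 1) * f + (2 ^ (k + 2) - 1) by linear_combination he, zpow_add,
        (hN _).mpr (by push_cast; exact dvd_mul_right _ _), one_mul, ← zpow_natCast,
        Nat.cast_sub Nat.one_le_two_pow]
      push_cast
      rfl
    refine Or.inr (Or.inl ⟨k, hn, g, ?_⟩)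
    rcases htt with h | h
    · exact ⟨t, hgo, orderOf_eq_prime (by rw [pow_two, h]) (fun e1 => htg (e1 ▸ one_mem _)), hr.symm.trans hgr⟩
    · refine ⟨g * t, hgo, orderOf_eq_prime ?_ (fun e1 => htg ?_), ?_⟩
      · rw [pow_two, show g * t * (g * t) = g * (t * g * t⁻¹) * (t * t) by group, h, ← hr,
          ← zpow_one_add, ← zpow_add, hN, add_comm 1 r, he]
        push_cast
        exact ⟨f + 1, by ring⟩
      · rw [eq_inv_of_mul_eq_one_right e1]
        exact inv_mem (Subgroup.mem_zpowers g)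
      · rw [show g * t * g * (g * t)⁻¹ = g * (t * g * t⁻¹) * g⁻¹ by group, ← hr, ← hgr]
        group
end Cfsg.Agent.S4399
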