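import Cfsg.Statements.S3280
import Cfsg.Agent.Lib.SmallCent.Seven
import Cfsg.Agent.S0495
import Cfsg.Agent.S0497

set_option autoImplicit false
open Cfsg

namespace Cfsg.Agent.S3280

/-- A non-cyclic finite simple group containing an element whose centralizer has order at most 4 is isomorphic to the alternating group of degree 5, 6 or 7, or to PSL(2, 7). -/
theorem result {G : Type*} [Group G] [Finite G] [IsSimpleGroup G] (hG : ¬ IsCyclic G)
    (w : G) (hw : Nat.card ↥(Subgroup.centralizer ({w} : Set G)) ≤ 4) :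
    Nonempty (G ≃* ↥(alternatingGroup (Fin 5))) ∨ Nonempty (G ≃* ↥(alternatingGroup (Fin 6))) ∨
      Nonempty (G ≃* ↥(alternatingGroup (Fin 7))) ∨
      (∃ (F : Type) (_ : Field F) (_ : Fintype F), Fintype.card F = 7 ∧ Nonempty (G ≃* Matrix.ProjectiveSpecialLinearGroup (Fin 2) F)) := by
  classical
  letI := Fintype.ofFinite G
  rcases CfsgLib.SmallCent.reduce hG hw with h | h | ⟨P, τ, D, hC, h1, h2⟩
  · exact Or.inl h
  · exact Or.inr (Or.inr (Or.inr h))
  · rcases CfsgLib.SmallCent.orders D hC h1 h2 hG with h | h | ⟨h, τ', D', h1', h2', hA, hB⟩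
    · haveI : Fact (Nat.Prime 7) := ⟨by norm_num⟩
      exact Or.inr (Or.inr (Or.inr ⟨ZMod 7, inferInstance, inferInstance, ZMod.card 7,
        Cfsg.Agent.S0495.result h (ZMod.card 7)⟩))
    · exact Or.inr (Or.inl (Cfsg.Agent.S0497.result h))
    · exact Or.inr (Or.inr (Or.inl (CfsgLib.SmallCent.iso_seven D' hC h1' h2' hA hB hG h)))

end Cfsg.Agent.S3280
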