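import Cfsg.Statements.S0984
import Cfsg.Agent.Lib.SmallCent.OrderDihedral
import Cfsg.Agent.S3280

set_option autoImplicit false
open Cfsg

namespace Cfsg.Agent.S0984

/-- A simple group of order 2520 is isomorphic to the alternating group of degree 7. -/
theorem result {G : Type*} [Group G] [Finite G] [IsSimpleGroup G] (h : Nat.card G = 2520) : Nonempty (G ≃* alternatingGroup (Fin 7)) := by
  have hG : ¬ IsMulCommutative G := fun hc => by
    haveI := hc
    letI : CommGroup G := { (inferInstance : Group G) with mul_comm := fun a b => hc.is_comm.comm a b }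
    have hp := IsSimpleGroup.prime_card (α := G)
    rw [h] at hp
    norm_num at hp
  obtain ⟨w, hw⟩ := CfsgLib.SmallCent.exists_small_centralizer h hG
  rcases Cfsg.Agent.S3280.result (fun hc => hG (IsCyclic.isMulCommutative)) w hw with
    ⟨⟨e⟩⟩ | ⟨⟨e⟩⟩ | h7 | ⟨F, _, _, hF, ⟨e⟩⟩
  · have := Nat.card_congr e.toEquiv
    rw [h, nat_card_alternatingGroup, Nat.card_fin] at this
    simp [Nat.factorial] at this
  · have := Nat.card_congr e.toEquiv
    rw [h, nat_card_alternatingGroup, Nat.card_fin] at this
    simp [Nat.factorial] at this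
  · exact h7
  · have := Nat.card_congr e.toEquiv
    have hc := CfsgLib.Classical.card_PSL_two (F := F)
    rw [← this, h, hF] at hc
    norm_num at hc

end Cfsg.Agent.S0984
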