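import Cfsg.Statements.S4211
import Cfsg.Prelude.Def_Transfer

set_option autoImplicit false
set_option linter.style.haveILetI false
open Cfsg

namespace Cfsg.Agent.S4211

open scoped commutatorElement

theorem mul_pow_comm {Q : Type*} [Group Q] (x y c : Q) (hcx : Commute c x) (hcy : Commute c y)
    (hyx : y * x = c * (x * y)) (n : ℕ) : (x * y) ^ n = c ^ (n.choose 2) * (x ^ n * y ^ n) := by
  have h1 : ∀ m : ℕ, y ^ m * x = c ^ m * (x * y ^ m) := by
    intro m
    induction m with
    | zero => simp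
    | succ m ih =>
      calc y ^ (m + 1) * x = y * (y ^ m * x) := by rw [pow_succ', mul_assoc]
        _ = y * (c ^ m * (x * y ^ m)) := by rw [ih]
        _ = c ^ m * (y * x) * y ^ m := by
          rw [← mul_assoc, ← (hcy.pow_left m).eq]; group
        _ = c ^ m * (c * (x * y)) * y ^ m := by rw [hyx]
        _ = _ := by rw [pow_succ, pow_succ']; group
  induction n with
  | zero => simp
  | succ n ih =>
    calc (x * y) ^ (n + 1) = c ^ (n.choose 2) * (x ^ n * y ^ n) * (x * y) := by rw [pow_succ, ih]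
      _ = c ^ (n.choose 2) * (x ^ n * (y ^ n * x)) * y := by group
      _ = c ^ (n.choose 2) * (x ^ n * (c ^ n * (x * y ^ n))) * y := by rw [h1]
      _ = c ^ (n.choose 2) * (c ^ n * (x ^ n * (x * y ^ n))) * y := by
        rw [← mul_assoc (x ^ n) (c ^ n), ← ((hcx.pow_right n).pow_left n).eq, mul_assoc (c ^ n)]
      _ = c ^ (n.choose 2 + n) * ((x ^ n * x) * (y ^ n * y)) := by rw [pow_add]; group
      _ = _ := by
        rw [← pow_succ, ← pow_succ, show (n + 1).choose 2 = n.choose 2 + n by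
          rw [Nat.choose_succ_succ n 1, Nat.choose_one_right, add_comm]]

theorem comm_mem {G : Type*} [Group G] (hn : ∀ H : Subgroup G, H.Normal) (x y : G) :
    x * y * x⁻¹ * y⁻¹ ∈ Subgroup.zpowers x ∧ x * y * x⁻¹ * y⁻¹ ∈ Subgroup.zpowers y := by
  constructor
  · rw [show x * y * x⁻¹ * y⁻¹ = x * (y * x⁻¹ * y⁻¹) by group]
    exact Subgroup.mul_mem _ (Subgroup.mem_zpowers x)
      ((hn _).conj_mem _ (Subgroup.inv_mem _ (Subgroup.mem_zpowers x)) y)
  · exact Subgroup.mul_mem _ ((hn _).conj_mem _ (Subgroup.mem_zpowers y) x)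
      (Subgroup.inv_mem _ (Subgroup.mem_zpowers y))

theorem commute_of_coprime {G : Type*} [Group G] (hn : ∀ H : Subgroup G, H.Normal) {x y : G}
    (h : (orderOf x).Coprime (orderOf y)) : Commute x y := by
  obtain ⟨h1, h2⟩ := comm_mem hn x y
  have e : x * y * x⁻¹ * y⁻¹ = 1 := orderOf_eq_one_iff.mp (Nat.eq_one_of_dvd_coprimes h
    (orderOf_dvd_of_mem_zpowers h1) (orderOf_dvd_of_mem_zpowers h2))
  exact mul_inv_eq_iff_eq_mul.mp (mul_inv_eq_one.mp e)

theorem mem_iSup_primary {G : Type*} [Group G] [Finite G] (g : G) (H : Subgroup G)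
    (h : ∀ p : ℕ, p.Prime → ∀ z ∈ Subgroup.zpowers g, (∃ k, orderOf z = p ^ k) → z ∈ H) : g ∈ H := by
  suffices ∀ n : ℕ, ∀ w ∈ Subgroup.zpowers g, orderOf w = n → w ∈ H from this _ g (Subgroup.mem_zpowers g) rfl
  intro n
  induction n using Nat.strong_induction_on with
  | _ n ih =>
    intro w hw hwn
    rcases Nat.lt_or_ge 1 n with h1 | h1
    · by_cases hpp : IsPrimePow n
      · obtain ⟨p, k, hp, -, hpk⟩ := (isPrimePow_nat_iff _).mp hpp
        exact h p hp w hw ⟨k, hwn.trans hpk.symm⟩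
      · obtain ⟨a, b, hab, ha, hb, hcop⟩ : ∃ a b, a * b = n ∧ 1 < a ∧ 1 < b ∧ a.Coprime b := by
          have hp := Nat.minFac_prime (by omega : n ≠ 1)
          refine ⟨n.minFac ^ n.factorization n.minFac, n / n.minFac ^ n.factorization n.minFac,
            Nat.ordProj_mul_ordCompl_eq_self n n.minFac, ?_, ?_, Nat.Coprime.pow_left _ (Nat.coprime_ordCompl hp (by omega))⟩
          · exact Nat.one_lt_pow (hp.factorization_pos_of_dvd (by omega) (Nat.minFac_dvd n)).ne' hp.one_lt
          · by_contra hle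
            have hpos : 0 < n / n.minFac ^ n.factorization n.minFac := Nat.ordCompl_pos _ (by omega)
            have h2 := Nat.ordProj_mul_ordCompl_eq_self n n.minFac
            rw [show n / n.minFac ^ n.factorization n.minFac = 1 by omega, mul_one] at h2
            exact hpp ((isPrimePow_nat_iff _).mpr ⟨_, _, hp, hp.factorization_pos_of_dvd (by omega) (Nat.minFac_dvd n), h2⟩)
        have oa : orderOf (w ^ b) = a := by
          rw [orderOf_pow_of_dvd (by omega) (hwn ▸ hab ▸ dvd_mul_left b a), hwn, ← hab, Nat.mul_div_cancel _ (by omega)]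
        have ob : orderOf (w ^ a) = b := by
          rw [orderOf_pow_of_dvd (by omega) (hwn ▸ hab ▸ dvd_mul_right a b), hwn, ← hab, Nat.mul_div_cancel_left _ (by omega)]
        have ha' := ih a (by rw [← hab]; exact lt_mul_of_one_lt_right (by omega) hb) _ (Subgroup.pow_mem _ hw b) oa
        have hb' := ih b (by rw [← hab]; exact lt_mul_of_one_lt_left (by omega) ha) _ (Subgroup.pow_mem _ hw a) ob
        have hbez := Nat.gcd_eq_gcd_ab a b
        rw [hcop.gcd_eq_one] at hbez
        have e : w = (w ^ a) ^ Nat.gcdA a b * (w ^ b) ^ Nat.gcdB a b := by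
          rw [← zpow_natCast w a, ← zpow_natCast w b, ← zpow_mul, ← zpow_mul, ← zpow_add, ← hbez]
          simp
        rw [e]
        exact H.mul_mem (H.zpow_mem hb' _) (H.zpow_mem ha' _)
    · have hpos := orderOf_pos w
      have : orderOf w = 1 := by omega
      rw [orderOf_eq_one_iff.mp this]; exact H.one_mem

theorem exists_pgroup_pair {G : Type*} [Group G] [Finite G] (hn : ∀ H : Subgroup G, H.Normal)
    {a b : G} (hab : a * b ≠ b * a) :
    ∃ x y : G, x * y ≠ y * x ∧ ∃ p : ℕ, p.Prime ∧ (∃ i, orderOf x = p ^ i) ∧ ∃ j, orderOf y = p ^ j := by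
  by_contra hcon
  simp only [not_exists, not_and] at hcon
  apply hab
  have key : ∀ (p : ℕ), p.Prime → ∀ z : G, (∃ k, orderOf z = p ^ k) → ∀ g : G, Commute z g := by
    intro p hp z hz g
    have : g ∈ Subgroup.centralizer {z} := by
      refine mem_iSup_primary g _ fun q hq w _ hw => Subgroup.mem_centralizer_singleton_iff.mpr ?_
      by_cases hpq : p = q
      · subst hpq
        by_contra hne
        obtain ⟨i, hi⟩ := hz
        obtain ⟨j, hj⟩ := hw
        exact hcon w z hne p hp ⟨j, hj⟩ i hi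
      · obtain ⟨i, hi⟩ := hz
        obtain ⟨j, hj⟩ := hw
        exact (commute_of_coprime hn (by
          rw [hi, hj]; exact Nat.Coprime.pow _ _ ((Nat.coprime_primes hp hq).mpr hpq))).symm.eq
    exact (Subgroup.mem_centralizer_singleton_iff.mp this).symm
  have : a ∈ Subgroup.centralizer {b} := mem_iSup_primary a _ fun q hq w _ hw =>
    Subgroup.mem_centralizer_singleton_iff.mpr (key q hq w hw b).eq
  exact Subgroup.mem_centralizer_singleton_iff.mp this

theorem exists_quat {G : Type*} [Group G] [Finite G] (hn : ∀ H : Subgroup G, H.Normal)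
    {a b : G} (hab : a * b ≠ b * a) :
    ∃ x y : G, x * y ≠ y * x ∧ x ^ 4 = 1 ∧ y * y = x * x ∧ x * y * x⁻¹ * y⁻¹ = x * x ∧
      (x * x) ^ 2 = 1 ∧ x * x ≠ 1 := by
  classical
  obtain ⟨x0, y0, hne0, p, hp, hx0, hy0⟩ := exists_pgroup_pair hn hab
  let P : ℕ → Prop := fun m => ∃ x y : G, x * y ≠ y * x ∧ (∃ i, orderOf x = p ^ i) ∧ (∃ j, orderOf y = p ^ j) ∧
    orderOf x + orderOf y = m
  have hP : ∃ m, P m := ⟨_, x0, y0, hne0, hx0, hy0, rfl⟩
  obtain ⟨x, y, hne, ⟨m, hm⟩, ⟨n, hn'⟩, hle, hsum⟩ :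
      ∃ x y : G, x * y ≠ y * x ∧ (∃ i, orderOf x = p ^ i) ∧ (∃ j, orderOf y = p ^ j) ∧
        orderOf y ≤ orderOf x ∧ orderOf x + orderOf y = Nat.find hP := by
    obtain ⟨x, y, hne, hx, hy, hs⟩ := Nat.find_spec hP
    rcases le_total (orderOf y) (orderOf x) with h | h
    · exact ⟨x, y, hne, hx, hy, h, hs⟩
    · exact ⟨y, x, Ne.symm hne, hy, hx, h, by omega⟩
  have hmin : ∀ x' y' : G, x' * y' ≠ y' * x' → (∃ i, orderOf x' = p ^ i) → (∃ j, orderOf y' = p ^ j) →
      orderOf x + orderOf y ≤ orderOf x' + orderOf y' := fun x' y' h h1 h2 =>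
    hsum ▸ Nat.find_min' hP ⟨x', y', h, h1, h2, rfl⟩
  set c := x * y * x⁻¹ * y⁻¹ with hc
  obtain ⟨hcX, hcY⟩ := comm_mem hn x y
  rw [← hc] at hcX hcY
  have hc1 : c ≠ 1 := fun e => hne (mul_inv_eq_iff_eq_mul.mp (mul_inv_eq_one.mp e))
  have hcx : Commute c x := by obtain ⟨i, hi⟩ := Subgroup.mem_zpowers_iff.mp hcX; rw [← hi]; exact (Commute.refl x).zpow_left i
  have hcy : Commute c y := by obtain ⟨i, hi⟩ := Subgroup.mem_zpowers_iff.mp hcY; rw [← hi]; exact (Commute.refl y).zpow_left i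
  have hxy : x * y = c * (y * x) := by rw [hc]; group
  have hxk : ∀ k : ℕ, x ^ k * y = c ^ k * (y * x ^ k) := by
    intro k
    induction k with
    | zero => simp
    | succ k ih =>
      calc x ^ (k + 1) * y = x * (x ^ k * y) := by rw [pow_succ', mul_assoc]
        _ = x * (c ^ k * (y * x ^ k)) := by rw [ih]
        _ = c ^ k * (x * y) * x ^ k := by rw [← mul_assoc, ← (hcx.pow_left k).eq]; group
        _ = _ := by rw [hxy, pow_succ, pow_succ']; group
  have hm0 : m ≠ 0 := by rintro rfl; rw [pow_zero, orderOf_eq_one_iff] at hm; exact hne (by rw [hm]; simp)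
  have hn0 : n ≠ 0 := by rintro rfl; rw [pow_zero, orderOf_eq_one_iff] at hn'; exact hne (by rw [hn']; simp)
  -- `c` has order `p`
  have hcp : c ^ p = 1 := by
    have hlt : orderOf (x ^ p) < orderOf x := by
      rw [orderOf_pow_of_dvd hp.ne_zero (hm ▸ dvd_pow_self p hm0)]
      exact Nat.div_lt_self (orderOf_pos x) hp.one_lt
    by_contra hcp
    have := hmin (x ^ p) y (fun e => hcp (mul_eq_right.mp ((hxk p).symm.trans e))) (by
      obtain ⟨i, -, hi⟩ := (Nat.dvd_prime_pow hp).mp (hm ▸ orderOf_pow_dvd p); exact ⟨i, hi⟩) ⟨n, hn'⟩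
    omega
  haveI := Fact.mk hp
  have hoc : orderOf c = p := orderOf_eq_prime hcp hc1
  obtain ⟨A, hA⟩ := mem_powers_iff_mem_zpowers.mpr hcX
  simp only at hA
  have hA' : p ^ (m - 1) ∣ A := by
    have h1 : p ^ m ∣ A * p := by
      rw [← hm]; exact orderOf_dvd_of_pow_eq_one (by rw [pow_mul, hA, hcp])
    rw [show p ^ m = p ^ (m - 1) * p by rw [← pow_succ]; congr 1; omega] at h1
    exact Nat.dvd_of_mul_dvd_mul_right hp.pos h1
  set N := p ^ (n - 1) with hN
  have hnN : p ^ n = N * p := by rw [hN, ← pow_succ]; congr 1; omega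
  obtain ⟨t, ht⟩ : ∃ t : ℕ, c ^ t = y ^ N := by
    have hd : orderOf (y ^ N) = p := by
      rw [orderOf_pow_of_dvd (pow_ne_zero _ hp.ne_zero) (hn' ▸ hnN ▸ dvd_mul_right N p), hn', hnN,
        Nat.mul_div_cancel_left _ (pow_pos hp.pos _)]
    -- both generate the subgroup of order `p` of the cyclic group on `y`
    have hmem : y ^ N ∈ Subgroup.zpowers c := by
      have hsub : Subgroup.zpowers c ≤ Subgroup.zpowers (y ^ N) := by
        rw [Subgroup.zpowers_le]
        obtain ⟨B, hB⟩ := mem_powers_iff_mem_zpowers.mpr hcY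
        simp only at hB
        have h1 : N * p ∣ B * p := by
          rw [← hnN, ← hn']; exact orderOf_dvd_of_pow_eq_one (by rw [pow_mul, hB, hcp])
        obtain ⟨B', rfl⟩ := Nat.dvd_of_mul_dvd_mul_right hp.pos h1
        rw [← hB, pow_mul]
        exact Subgroup.pow_mem _ (Subgroup.mem_zpowers _) _
      have heq : Subgroup.zpowers c = Subgroup.zpowers (y ^ N) :=
        Subgroup.eq_of_le_of_card_ge hsub (by rw [Nat.card_zpowers, Nat.card_zpowers, hd, hoc])
      rw [heq]; exact Subgroup.mem_zpowers _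
    exact mem_powers_iff_mem_zpowers.mpr hmem
  have hnm : n ≤ m := (Nat.pow_le_pow_iff_right hp.one_lt).mp (hm ▸ hn' ▸ hle)
  obtain ⟨A1, rfl⟩ := hA'
  set k := p ^ (m - n) * (A1 * t) with hk
  have hkN : x ^ (k * N) = y ^ N := by
    rw [← ht, ← hA, ← pow_mul]
    congr 1
    rw [hk, hN, show p ^ (m - 1) = p ^ (m - n) * p ^ (n - 1) by rw [← pow_add]; congr 1; omega]
    ring
  set w := (x ^ k)⁻¹ with hw
  have hwy : y * w = c ^ k * (w * y) := by
    have hcxk : Commute (c ^ k) (x ^ k) := hcx.pow_pow k k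
    calc y * w = (x ^ k)⁻¹ * (x ^ k * y) * (x ^ k)⁻¹ := by rw [hw]; group
      _ = (x ^ k)⁻¹ * (c ^ k * (y * x ^ k)) * (x ^ k)⁻¹ := by rw [hxk]
      _ = c ^ k * ((x ^ k)⁻¹ * y) := by rw [← mul_assoc _ (c ^ k), ← hcxk.inv_right.eq]; group
  have hu := mul_pow_comm w y (c ^ k) (hcx.pow_pow k k).inv_right (hcy.pow_left k) hwy N
  have hwN : w ^ N * y ^ N = 1 := by rw [hw, inv_pow, ← pow_mul, hkN, inv_mul_cancel]
  rw [hwN, mul_one, ← pow_mul] at hu
  have hnc : ¬ p ∣ k * N.choose 2 := by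
    intro hd
    obtain ⟨e, he⟩ := hd
    rw [he, pow_mul, hcp, one_pow] at hu
    have hdvd := orderOf_dvd_of_pow_eq_one hu
    obtain ⟨i, -, hi⟩ := (Nat.dvd_prime_pow hp).mp hdvd
    have hne' : x * (w * y) ≠ (w * y) * x := by
      intro e'
      apply hne
      have hxw : Commute x w := ((Commute.refl x).pow_right k).inv_right
      rw [← mul_assoc, hxw.eq, mul_assoc, mul_assoc] at e'
      exact mul_left_cancel e'
    have := hmin x (w * y) hne' ⟨m, hm⟩ ⟨i, hi⟩
    have h3 : orderOf (w * y) ≤ N := Nat.le_of_dvd (pow_pos hp.pos _) hdvd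
    have h4 : N < p ^ n := by rw [hnN]; exact lt_mul_of_one_lt_right (pow_pos hp.pos _) hp.one_lt
    omega
  have hn1 : n ≠ 1 := fun e => hnc (by rw [hN, e]; simp)
  have hp2 : p = 2 := by
    by_contra h2
    refine hnc (dvd_mul_of_dvd_right ?_ _)
    rw [Nat.choose_two_right]
    have hodd : Odd N := (hp.odd_of_ne_two h2).pow
    obtain ⟨r, hr⟩ := hodd
    rw [hr, Nat.add_sub_cancel, show (2 * r + 1) * (2 * r) / 2 = (2 * r + 1) * r by
      rw [show (2 * r + 1) * (2 * r) = (2 * r + 1) * r * 2 by ring, Nat.mul_div_cancel _ two_pos]]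
    exact dvd_mul_of_dvd_left (hr ▸ dvd_pow_self p (by omega)) _
  subst hp2
  have hn2 : n = 2 := by
    by_contra h2
    refine hnc (dvd_mul_of_dvd_right ?_ _)
    obtain ⟨r, hr⟩ : ∃ r, n - 1 = r + 2 := ⟨n - 3, by omega⟩
    rw [Nat.choose_two_right, hN, hr, pow_add, show 2 ^ r * 2 ^ 2 * (2 ^ r * 2 ^ 2 - 1) / 2 = 2 * (2 ^ r * (2 ^ r * 2 ^ 2 - 1)) by
      rw [show 2 ^ r * 2 ^ 2 * (2 ^ r * 2 ^ 2 - 1) = 2 * (2 ^ r * (2 ^ r * 2 ^ 2 - 1)) * 2 by ring, Nat.mul_div_cancel _ two_pos]]
    exact dvd_mul_right _ _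
  have hm2 : m = 2 := by
    by_contra h2
    exact hnc (dvd_mul_of_dvd_left (hk ▸ dvd_mul_of_dvd_left (dvd_pow_self 2 (by omega)) _) _)
  subst hn2
  subst hm2
  norm_num at hm hn'
  refine ⟨x, y, hne, by rw [← hm]; exact pow_orderOf_eq_one x, ?_, ?_, ?_, ?_⟩
  all_goals
    have hx4 : x ^ 4 = 1 := by rw [← hm]; exact pow_orderOf_eq_one x
    have hx2 : x * x ≠ 1 := fun e => by
      have := orderOf_dvd_of_pow_eq_one (show x ^ 2 = 1 by rw [pow_two]; exact e)
      rw [hm] at this; omega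
    have hcval : c = x * x := by
      norm_num at hA
      rw [show c = x ^ (2 * A1) from hA.symm]
      have hodd : Odd A1 := by
        by_contra he
        obtain ⟨B, rfl⟩ := Nat.not_odd_iff_even.mp he
        apply hc1
        rw [← hA, show 2 * (B + B) = 4 * B by ring, pow_mul, hx4, one_pow]
      obtain ⟨B, rfl⟩ := hodd
      rw [show 2 * (2 * B + 1) = 4 * B + 2 by ring, pow_add, pow_mul, hx4, one_pow, one_mul, pow_two]
  · have hy2 : y * y ≠ 1 := fun e => by
      have := orderOf_dvd_of_pow_eq_one (show y ^ 2 = 1 by rw [pow_two]; exact e)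
      rw [hn'] at this; omega
    have hyy : y ^ N = y * y := by norm_num [hN, pow_two]
    rw [hyy] at ht
    rcases Nat.even_or_odd t with ⟨s, rfl⟩ | ⟨s, rfl⟩
    · exfalso; apply hy2; rw [← ht, ← two_mul, pow_mul, hcp, one_pow]
    · rw [← ht, pow_succ, pow_mul, hcp, one_pow, one_mul, hcval]
  · exact hcval
  · rw [← hcval]; exact hcp
  · exact hx2

theorem quat_hom {G : Type*} [Group G] {x y : G} (hx4 : x ^ 4 = 1) (hyy : y * y = x * x)
    (hrel : x * y = y * x⁻¹) :
    ∃ f : QuaternionGroup 2 →* G, (∀ i, f (QuaternionGroup.a i) = x ^ i.val) ∧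
      (∀ i, f (QuaternionGroup.xa i) = y * x ^ i.val) := by
  have hmod : ∀ a b : ℕ, a % 4 = b % 4 → x ^ a = x ^ b := fun a b h => by
    rw [← Nat.mod_add_div a 4, ← Nat.mod_add_div b 4, pow_add, pow_add, pow_mul, pow_mul, hx4, one_pow, one_pow, h]
  have hinv : x⁻¹ = x ^ 3 := by
    rw [inv_eq_iff_mul_eq_one, ← pow_succ']; exact hx4
  have hpow : ∀ i : ℕ, x ^ i * y = y * x ^ (3 * i) := by
    intro i
    induction i with
    | zero => simp
    | succ i ih =>
      rw [pow_succ, mul_assoc, hrel, hinv, ← mul_assoc, ih, mul_assoc, ← pow_add]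
      ring_nf
  refine ⟨MonoidHom.mk' (fun q => match q with
    | .a i => x ^ i.val
    | .xa i => y * x ^ i.val) ?_, fun i => rfl, fun i => rfl⟩
  intro u v
  cases u with
  | a i => cases v with
    | a j =>
      show x ^ ZMod.val _ = x ^ i.val * x ^ j.val
      rw [← pow_add]
      exact hmod _ _ (by revert i j; decide)
    | xa j =>
      show y * x ^ ZMod.val _ = x ^ i.val * (y * x ^ j.val)
      rw [← mul_assoc, hpow, mul_assoc, ← pow_add]
      congr 1
      exact hmod _ _ (by revert i j; decide)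
  | xa i => cases v with
    | a j =>
      show y * x ^ ZMod.val _ = y * x ^ i.val * x ^ j.val
      rw [mul_assoc, ← pow_add]
      congr 1
      exact hmod _ _ (by revert i j; decide)
    | xa j =>
      show x ^ ZMod.val _ = y * x ^ i.val * (y * x ^ j.val)
      rw [show y * x ^ i.val * (y * x ^ j.val) = y * (x ^ i.val * y) * x ^ j.val by group, hpow,
        ← mul_assoc, hyy, show x * x = x ^ 2 from (pow_two x).symm, ← pow_add, ← pow_add]
      exact hmod _ _ (by revert i j; decide)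

/-- A finite non-abelian group in which every subgroup is normal is the internal direct product of a subgroup isomorphic to the quaternion group of order `8`, an elementary abelian `2`-subgroup and an abelian subgroup of odd order. -/
theorem result {G : Type*} [Group G] [Finite G] (hna : ¬ IsMulCommutative G) (hn : ∀ H : Subgroup G, H.Normal) : ∃ Q E A : Subgroup G, Nonempty (Q ≃* QuaternionGroup 2) ∧ Cfsg.IsElementaryAbelian 2 E ∧ IsMulCommutative A ∧ Odd (Nat.card A) ∧ E ⊓ A = ⊥ ∧ Q ⊓ (E ⊔ A) = ⊥ ∧ Q ⊔ (E ⊔ A) = ⊤ := by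
  classical
  obtain ⟨a, b, hab⟩ : ∃ a b : G, a * b ≠ b * a := by
    by_contra hc; push Not at hc; exact hna ⟨⟨hc⟩⟩
  obtain ⟨x, y, hne, hx4, hyy, hc, hc2, hc1⟩ := exists_quat hn hab
  have hy4 : y ^ 4 = 1 := by
    rw [show 4 = 2 * 2 from rfl, pow_mul, pow_two y, hyy, hc2]
  have hrel : x * y = y * x⁻¹ := by
    have h1 : x * y * x⁻¹ = x * x * y := mul_inv_eq_iff_eq_mul.mp hc
    have h2 : x * y = y * (x * x * x) := by
      calc x * y = x * y * x⁻¹ * x := by group
        _ = x * x * y * x := by rw [h1]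
        _ = y * (x * x * x) := by rw [← hyy]; group
    rw [h2, eq_comm]
    congr 1
    rw [inv_eq_iff_mul_eq_one, ← hx4]
    simp [pow_succ, mul_assoc]
  obtain ⟨f, hfa, hfx⟩ := quat_hom hx4 hyy hrel
  have hynx : ∀ i : ℕ, y ≠ x ^ i := fun i e => hne (by rw [e]; exact ((Commute.refl x).pow_right i).eq)
  have hox : orderOf x = 4 := orderOf_eq_prime_pow (p := 2) (n := 1) (by simpa [pow_two] using hc1) (by simpa using hx4)
  have hfi : Function.Injective f := by
    rw [injective_iff_map_eq_one]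
    intro q hq
    cases q with
    | a i =>
      rw [hfa] at hq
      have h1 := orderOf_dvd_of_pow_eq_one hq
      rw [hox] at h1
      have h2 : i.val = 0 := Nat.eq_zero_of_dvd_of_lt h1 i.val_lt
      rw [QuaternionGroup.one_def, show i = 0 from (ZMod.val_eq_zero i).mp h2]
    | xa i =>
      rw [hfx] at hq
      exfalso
      apply hynx (3 * i.val)
      calc y = y * (x ^ i.val * x ^ (3 * i.val)) := by
            rw [← pow_add, show i.val + 3 * i.val = 4 * i.val by ring, pow_mul, hx4, one_pow, mul_one]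
        _ = x ^ (3 * i.val) := by rw [← mul_assoc, hq, one_mul]
  set Q := f.range with hQ
  have hxQ : x ∈ Q := ⟨QuaternionGroup.a 1, by rw [hfa]; exact pow_one x⟩
  have hyQ : y ∈ Q := ⟨QuaternionGroup.xa 0, by rw [hfx]; simp⟩
  set C := Subgroup.centralizer ({x, y} : Set G) with hC
  have memC : ∀ {g : G}, g ∈ C ↔ Commute g x ∧ Commute g y := by
    intro g
    rw [hC, Subgroup.mem_centralizer_iff]
    refine ⟨fun h => ⟨(h x (by simp)).symm, (h y (by simp)).symm⟩, ?_⟩
    rintro ⟨h1, h2⟩ z (rfl | rfl)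
    · exact h1.eq.symm
    · exact h2.eq.symm
  -- conjugates of a generator
  have hconj : ∀ u : G, u ^ 4 = 1 → u * u ≠ 1 → ∀ g : G, g * u * g⁻¹ = u ∨ g * u * g⁻¹ = u⁻¹ := by
    intro u hu4 hu2 g
    obtain ⟨i, hi⟩ := mem_powers_iff_mem_zpowers.mpr
      ((hn (Subgroup.zpowers u)).conj_mem u (Subgroup.mem_zpowers u) g)
    simp only at hi
    have hi' : g * u * g⁻¹ = u ^ (i % 4) := by
      rw [← hi]; conv_lhs => rw [← Nat.mod_add_div i 4]
      rw [pow_add, pow_mul, hu4, one_pow, mul_one]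
    have hlt := Nat.mod_lt i (show 4 > 0 by norm_num)
    interval_cases h : i % 4
    · rw [pow_zero] at hi'; exfalso; apply hu2; rw [conj_eq_one_iff.mp hi', one_mul]
    · left; rw [hi', pow_one]
    · exfalso; apply hu2
      have h' : (g * u * g⁻¹) * (g * u * g⁻¹) = 1 := by rw [hi', ← pow_add, hu4]
      have : g * (u * u) * g⁻¹ = 1 := by rw [← h']; group
      exact conj_eq_one_iff.mp this
    · right; rw [hi', eq_comm, inv_eq_iff_mul_eq_one, ← pow_succ']; exact hu4
  have hy2 : y * y ≠ 1 := by rw [hyy]; exact hc1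
  have hyxy : y * x * y⁻¹ = x⁻¹ := by
    rw [mul_inv_eq_iff_eq_mul]
    calc y * x = x⁻¹ * (x * y) * x := by group
      _ = x⁻¹ * (y * x⁻¹) * x := by rw [hrel]
      _ = x⁻¹ * y := by group
  have hxyx : x * y * x⁻¹ = y⁻¹ := by
    have h1 : x * y * x⁻¹ = x * x * y := mul_inv_eq_iff_eq_mul.mp hc
    rw [h1, eq_comm, inv_eq_iff_mul_eq_one, ← hyy, ← hy4]
    simp [pow_succ, mul_assoc]
  have hQC : Q ⊔ C = ⊤ := by
    rw [eq_top_iff]
    intro g _
    rcases hconj x hx4 hc1 g with ha | ha <;> rcases hconj y hy4 hy2 g with hb | hb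
    · exact Subgroup.mem_sup_right (memC.mpr ⟨mul_inv_eq_iff_eq_mul.mp ha, mul_inv_eq_iff_eq_mul.mp hb⟩)
    · have h : g * x ∈ C := by
        refine memC.mpr ⟨mul_inv_eq_iff_eq_mul.mp ?_, mul_inv_eq_iff_eq_mul.mp ?_⟩
        · calc g * x * x * (g * x)⁻¹ = g * x * g⁻¹ := by group
            _ = x := ha
        · calc g * x * y * (g * x)⁻¹ = g * (x * y * x⁻¹) * g⁻¹ := by group
            _ = (g * y * g⁻¹)⁻¹ := by rw [hxyx]; group
            _ = y := by rw [hb, inv_inv]
      have : g = (g * x) * x⁻¹ := by group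
      rw [this]; exact Subgroup.mul_mem _ (Subgroup.mem_sup_right h) (Subgroup.mem_sup_left (Q.inv_mem hxQ))
    · have h : g * y ∈ C := by
        refine memC.mpr ⟨mul_inv_eq_iff_eq_mul.mp ?_, mul_inv_eq_iff_eq_mul.mp ?_⟩
        · calc g * y * x * (g * y)⁻¹ = g * (y * x * y⁻¹) * g⁻¹ := by group
            _ = (g * x * g⁻¹)⁻¹ := by rw [hyxy]; group
            _ = x := by rw [ha, inv_inv]
        · calc g * y * y * (g * y)⁻¹ = g * y * g⁻¹ := by group
            _ = y := hb
      have : g = (g * y) * y⁻¹ := by group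
      rw [this]; exact Subgroup.mul_mem _ (Subgroup.mem_sup_right h) (Subgroup.mem_sup_left (Q.inv_mem hyQ))
    · have h : g * (x * y) ∈ C := by
        refine memC.mpr ⟨mul_inv_eq_iff_eq_mul.mp ?_, mul_inv_eq_iff_eq_mul.mp ?_⟩
        · calc g * (x * y) * x * (g * (x * y))⁻¹ = g * (x * (y * x * y⁻¹) * x⁻¹) * g⁻¹ := by group
            _ = (g * x * g⁻¹)⁻¹ := by rw [hyxy]; group
            _ = x := by rw [ha, inv_inv]
        · calc g * (x * y) * y * (g * (x * y))⁻¹ = g * (x * y * x⁻¹) * g⁻¹ := by group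
            _ = (g * y * g⁻¹)⁻¹ := by rw [hxyx]; group
            _ = y := by rw [hb, inv_inv]
      have : g = (g * (x * y)) * (x * y)⁻¹ := by group
      rw [this]; exact Subgroup.mul_mem _ (Subgroup.mem_sup_right h) (Subgroup.mem_sup_left (Q.inv_mem (Q.mul_mem hxQ hyQ)))
  -- no element of order 4 centralising the quaternion group
  have hC2 : ∀ z ∈ C, z ^ 4 = 1 → z * z = 1 := by
    intro z hz hz4
    obtain ⟨hzx, hzy⟩ := memC.mp hz
    by_contra hz2
    set u := x * z with hu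
    have huy : ¬ Commute u y := by
      intro h
      apply hne
      have h' : x * z * y = y * (x * z) := h
      rw [mul_assoc, hzy.eq, ← mul_assoc, ← mul_assoc] at h'
      exact mul_right_cancel h'
    have hu4 : u ^ 4 = 1 := by rw [hu, hzx.symm.mul_pow, hx4, hz4, one_mul]
    have huu : u * u = x * x * (z * z) := by
      rw [hu]
      calc x * z * (x * z) = x * (z * x) * z := by group
        _ = x * (x * z) * z := by rw [hzx.eq]
        _ = _ := by group
    obtain ⟨hm, -⟩ := comm_mem hn u y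
    have hval : u * y * u⁻¹ * y⁻¹ = x * x := by
      calc u * y * u⁻¹ * y⁻¹ = x * (z * y * z⁻¹) * x⁻¹ * y⁻¹ := by rw [hu]; group
        _ = x * y * x⁻¹ * y⁻¹ := by rw [show z * y * z⁻¹ = y from mul_inv_eq_iff_eq_mul.mpr hzy.eq]
        _ = x * x := hc
    rw [hval] at hm
    obtain ⟨i, hi⟩ := mem_powers_iff_mem_zpowers.mpr hm
    simp only at hi
    have hi' : x * x = u ^ (i % 4) := by
      rw [← hi]; conv_lhs => rw [← Nat.mod_add_div i 4]
      rw [pow_add, pow_mul, hu4, one_pow, mul_one]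
    have hxxy : Commute (x * x) y := hyy ▸ (Commute.refl y).mul_left (Commute.refl y)
    have hlt := Nat.mod_lt i (show 4 > 0 by norm_num)
    interval_cases h : i % 4
    · exact hc1 (by rw [hi', pow_zero])
    · rw [pow_one] at hi'; exact huy (hi' ▸ hxxy)
    · rw [pow_two, huu, left_eq_mul] at hi'; exact hz2 hi'
    · apply huy
      have e : u = (x * x)⁻¹ := by
        rw [eq_comm, inv_eq_iff_mul_eq_one, hi', ← pow_succ]; exact hu4
      rw [e]
      exact hxxy.inv_left
  haveI hCnorm : ∀ H : Subgroup C, H.Normal := fun H =>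
    ⟨fun h hh g => by
      have h1 := (hn (H.map C.subtype)).conj_mem (h : G) (Subgroup.mem_map_of_mem _ hh) (g : G)
      obtain ⟨h', hh', e⟩ := Subgroup.mem_map.mp h1
      rwa [show g * h * g⁻¹ = h' from Subtype.ext e.symm]⟩
  have hCab : ∀ u ∈ C, ∀ v ∈ C, u * v = v * u := by
    intro u hu v hv
    by_contra huv
    obtain ⟨x', y', -, h4, -, -, -, h1⟩ := exists_quat hCnorm (a := ⟨u, hu⟩) (b := ⟨v, hv⟩)
      (fun e => huv (congrArg Subtype.val e))
    exact h1 (Subtype.ext (hC2 _ x'.2 (by simpa using congrArg Subtype.val h4)))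
  let E0 : Subgroup G :=
    { carrier := {z | z ∈ C ∧ z * z = 1}
      one_mem' := ⟨C.one_mem, one_mul 1⟩
      mul_mem' := fun {u v} hu hv => ⟨C.mul_mem hu.1 hv.1, by
        calc u * v * (u * v) = u * (v * u) * v := by group
          _ = u * (u * v) * v := by rw [hCab v hv.1 u hu.1]
          _ = (u * u) * (v * v) := by group
          _ = 1 := by rw [hu.2, hv.2, one_mul]⟩
      inv_mem' := fun {u} hu => ⟨C.inv_mem hu.1, by rw [← mul_inv_rev, hu.2, inv_one]⟩ }
  let A : Subgroup G :=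
    { carrier := {z | z ∈ C ∧ Odd (orderOf z)}
      one_mem' := ⟨C.one_mem, by simp⟩
      mul_mem' := fun {u v} hu hv => ⟨C.mul_mem hu.1 hv.1, by
        have h : Commute u v := hCab u hu.1 v hv.1
        exact Odd.of_dvd_nat (hu.2.mul hv.2) h.orderOf_mul_dvd_mul_orderOf⟩
      inv_mem' := fun {u} hu => ⟨C.inv_mem hu.1, by rw [orderOf_inv]; exact hu.2⟩ }
  have hccC : x * x ∈ E0 := ⟨memC.mpr ⟨(Commute.refl x).mul_left (Commute.refl x),
    hyy ▸ (Commute.refl y).mul_left (Commute.refl y)⟩, by rw [← pow_two]; exact hc2⟩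
  obtain ⟨E, ⟨⟨hEle, hEc⟩, hEmax⟩⟩ := exists_maximal_of_wellFoundedGT
    (fun W : Subgroup G => W ≤ E0 ∧ x * x ∉ W) ⟨⊥, bot_le, fun h => hc1 (Subgroup.mem_bot.mp h)⟩
  have hE0 : E0 ≤ E ⊔ Subgroup.zpowers (x * x) := by
    intro u hu
    by_cases huE : u ∈ E
    · exact Subgroup.mem_sup_left huE
    have hin : x * x ∈ E ⊔ Subgroup.zpowers u := by
      by_contra hnot
      exact huE ((hEmax ⟨sup_le hEle (Subgroup.zpowers_le.mpr hu), hnot⟩ le_sup_left) (Subgroup.mem_sup_right (Subgroup.mem_zpowers u)))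
    haveI := hn (Subgroup.zpowers u)
    rw [← SetLike.mem_coe, Subgroup.mul_normal] at hin
    obtain ⟨e, he, w, hw, hew⟩ := hin
    obtain ⟨i, rfl⟩ := mem_powers_iff_mem_zpowers.mpr hw
    simp only at hew
    rcases Nat.even_or_odd i with ⟨s, rfl⟩ | ⟨s, rfl⟩
    · exfalso
      apply hEc
      rw [← two_mul, pow_mul, pow_two, hu.2, one_pow, mul_one] at hew
      exact hew ▸ he
    · rw [pow_succ, pow_mul, pow_two, hu.2, one_pow, one_mul] at hew
      rw [show u = e⁻¹ * (x * x) by rw [← hew, inv_mul_cancel_left]]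
      exact Subgroup.mul_mem _ (Subgroup.mem_sup_left (E.inv_mem he)) (Subgroup.mem_sup_right (Subgroup.mem_zpowers _))
  have hEA : E ⊔ A ≤ C := sup_le (fun z hz => (hEle hz).1) (fun z hz => hz.1)
  have hodd1 : ∀ z : G, z * z = 1 → Odd (orderOf z) → z = 1 := by
    intro z hz hodd
    have h2 := orderOf_dvd_of_pow_eq_one (show z ^ 2 = 1 by rw [pow_two]; exact hz)
    rcases (Nat.dvd_prime Nat.prime_two).mp h2 with h | h
    · exact orderOf_eq_one_iff.mp h
    · rw [h] at hodd; exact absurd hodd (by decide)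
  have hQc : ∀ z, z ∈ Q → z ∈ C → z = 1 ∨ z = x * x := by
    rintro _ ⟨q, rfl⟩ hz
    obtain ⟨h1, h2⟩ := memC.mp hz
    cases q with
    | a i =>
      rw [hfa] at h2 ⊢
      have hlt : i.val < 4 := i.val_lt
      interval_cases h : i.val
      · left; rw [pow_zero]
      · rw [pow_one] at h2; exact absurd h2.eq hne
      · right; rw [pow_two]
      · exfalso
        have e : x ^ 3 = x⁻¹ := by rw [eq_comm, inv_eq_iff_mul_eq_one, ← pow_succ']; exact hx4
        rw [e] at h2
        exact hne (inv_inv x ▸ h2.inv_left).eq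
    | xa i =>
      rw [hfx] at h1
      exfalso
      have hh : Commute y x := by
        have := h1.mul_left (((Commute.refl x).pow_left i.val).inv_left)
        rwa [mul_inv_cancel_right] at this
      exact hne hh.symm.eq
  refine ⟨Q, E, A, ⟨(MonoidHom.ofInjective hfi).symm⟩, ?_, ?_, ?_, ?_, ?_, ?_⟩
  · refine ⟨⟨⟨fun u v => Subtype.ext (hCab _ (hEle u.2).1 _ (hEle v.2).1)⟩⟩, fun u hu => ?_⟩
    rw [pow_two]; exact (hEle hu).2
  · exact ⟨⟨fun u v => Subtype.ext (hCab _ u.2.1 _ v.2.1)⟩⟩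
  · refine Nat.odd_iff.mpr (Nat.two_dvd_ne_zero.mp fun hd => ?_)
    haveI : Fact (Nat.Prime 2) := ⟨Nat.prime_two⟩
    obtain ⟨z, hz⟩ := exists_prime_orderOf_dvd_card' 2 hd
    rw [← Subgroup.orderOf_coe] at hz
    have := z.2.2
    rw [hz] at this
    exact absurd this (by decide)
  · rw [eq_bot_iff]
    intro z hz
    exact Subgroup.mem_bot.mpr (hodd1 z (hEle hz.1).2 hz.2.2)
  · rw [eq_bot_iff]
    intro z hz
    obtain ⟨hzQ, hzEA⟩ := Subgroup.mem_inf.mp hz
    rw [Subgroup.mem_bot]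
    rcases hQc z hzQ (hEA hzEA) with rfl | rfl
    · rfl
    · exfalso
      haveI := hn A
      rw [← SetLike.mem_coe, Subgroup.mul_normal] at hzEA
      obtain ⟨e, he, w, hw, hew⟩ := hzEA
      have hw' : w = e⁻¹ * (x * x) := by
        rw [← hew, inv_mul_cancel_left]
      have hwE : w ∈ E0 := by rw [hw']; exact E0.mul_mem (E0.inv_mem (hEle he)) hccC
      have := hodd1 w hwE.2 hw.2
      subst this
      apply hEc
      simp only [mul_one] at hew
      exact hew ▸ he
  · rw [eq_top_iff, ← hQC]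
    refine sup_le le_sup_left fun g hg => ?_
    refine mem_iSup_primary g _ fun p hp z hz ⟨k, hk⟩ => ?_
    have hzC : z ∈ C := Subgroup.zpowers_le.mpr hg hz
    by_cases hp2 : p = 2
    · subst hp2
      suffices hz2 : z * z = 1 by
        refine sup_le ?_ (Subgroup.zpowers_le.mpr ?_) (hE0 (show z ∈ E0 from ⟨hzC, hz2⟩))
        · exact le_sup_left.trans le_sup_right
        · exact Subgroup.mem_sup_left (Q.mul_mem hxQ hxQ)
      rcases Nat.lt_or_ge k 2 with hk2 | hk2
      · have : orderOf z ∣ 2 := by rw [hk]; exact (pow_dvd_pow 2 (by omega : k ≤ 1)).trans (by norm_num)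
        rw [← pow_two]; exact orderOf_dvd_iff_pow_eq_one.mp this
      · exfalso
        set v := z ^ (2 ^ (k - 2)) with hv
        have hov : orderOf v = 4 := by
          rw [hv, orderOf_pow_of_dvd (by positivity) (hk ▸ pow_dvd_pow 2 (by omega)), hk,
            Nat.pow_div (by omega) two_pos, show k - (k - 2) = 2 by omega]; rfl
        have h2 := hC2 v (C.pow_mem hzC _) (by rw [← hov]; exact pow_orderOf_eq_one v)
        have := orderOf_dvd_of_pow_eq_one (show v ^ 2 = 1 by rw [pow_two]; exact h2)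
        rw [hov] at this; omega
    · refine Subgroup.mem_sup_right (Subgroup.mem_sup_right ⟨hzC, ?_⟩)
      rw [hk]; exact (hp.odd_of_ne_two hp2).pow

end Cfsg.Agent.S4211
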