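import Cfsg.Statements.S2073
import Cfsg.Agent.Lib.Leech.OutPair.MclChecks
import Cfsg.Agent.Lib.Leech.OutPair.Iso
-- import your own Cfsg.Agent.* helpers here

set_option autoImplicit false
open Cfsg

namespace Cfsg.Agent.S2073

open CfsgLib.Golay CfsgLib.Leech CfsgLib.Leech.Mult CfsgLib.Leech.OutPair CfsgLib.Golay.AutTwo Cfsg.Spor

attribute [local irreducible] dL bL key keyL coord packB linL bits hsCert mclCert

theorem facts : inL mclCert.V = true ∧ inL mclCert.W = true ∧ dotL mclCert.V mclCert.V = 32 ∧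
    dotL mclCert.W mclCert.W = 32 ∧ dotL mclCert.V mclCert.W = -8 := by decide +kernel

theorem target_facts : sqNorm (leechU : GolayPt → ℤ) = 32 ∧
    sqNorm ((-leechV - leechU : ↥leechLattice) : GolayPt → ℤ) = 32 ∧
    dotInt ((-leechV - leechU : ↥leechLattice) : GolayPt → ℤ) (leechU : GolayPt → ℤ) = -8 := by
  show sqNorm vecU = 32 ∧ sqNorm (-vecV - vecU) = 32 ∧ dotInt (-vecV - vecU) vecU = -8
  decide +kernel

theorem exists_equiv : Nonempty (↥(pairG facts.1 facts.2.1) ≃* ↥Cfsg.Spor.McL) := by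
  set v : ↥leechLattice := ⟨vec mclCert.V, vec_mem facts.1⟩ with hv
  set w : ↥leechLattice := ⟨vec mclCert.W, vec_mem facts.2.1⟩ with hw
  have nv : sqNorm (v : GolayPt → ℤ) = 32 := (sqNorm_vec (inL_length facts.1)).trans facts.2.2.1
  have nw : sqNorm (w : GolayPt → ℤ) = 32 := (sqNorm_vec (inL_length facts.2.1)).trans facts.2.2.2.1
  have nvw : dotInt (v : GolayPt → ℤ) w = -8 :=
    (dotInt_vec (inL_length facts.1) (inL_length facts.2.1)).trans facts.2.2.2.2
  obtain ⟨hU, hb, hd⟩ := target_facts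
  obtain ⟨g0, hg0⟩ := transitive_small (t := 1) (by norm_num) nv hb
  have hd0 : dotInt ((-leechV - leechU : ↥leechLattice) : GolayPt → ℤ) (g0 • w : ↥leechLattice) = -8 := by
    rw [← hg0, dotInt_smul, nvw]
  obtain ⟨k, hk, hk'⟩ := trans32 hb ((sqNorm_smul g0 _).trans nw) hU (by norm_num) hd0 hd
  have h1 : (k * g0) • v = -leechV - leechU := by rw [mul_smul, hg0, hk]
  have h2 : (k * g0) • w = leechU := by rw [mul_smul, hk']
  refine ⟨pairEquiv facts.1 facts.2.1 Cfsg.Spor.McL (k * g0) (fun g => ?_) (inf_le_left.trans inf_le_left)⟩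
  rw [← hv, ← hw, h1, h2]
  change ((g : Equiv.Perm ↥leechLattice) ∈ Cfsg.Co0 ∧ g • leechV = leechV) ∧ g • leechU = leechU ↔ _
  rw [smul_sub', smul_neg']
  refine ⟨fun h => ⟨by rw [h.1.2, h.2], h.2⟩, fun h => ⟨⟨g.2, ?_⟩, h.2⟩⟩
  have h3 := h.1
  rwa [h.2, sub_left_inj, neg_inj] at h3

/-- The outer automorphism group of the McLaughlin group (as a two-vector stabiliser in the automorphism group of the rank-24 lattice) has order 2. -/
theorem result : Nat.card (Cfsg.Out ↥Cfsg.Spor.McL) = 2 := by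
  obtain ⟨e⟩ := exists_equiv
  rw [← out_congr e]
  have hcard : Nat.card ↥(pairG facts.1 facts.2.1) = 11 * 81648000 := by
    exact (natCard_pairG facts.1 facts.2.1).trans ((natCard_mcl ((sqNorm_vec (inL_length facts.1)).trans facts.2.2.1)
      ((sqNorm_vec (inL_length facts.2.1)).trans facts.2.2.2.1)
      ((dotInt_vec (inL_length facts.1) (inL_length facts.2.1)).trans facts.2.2.2.2)).trans (by norm_num))
  exact card_out_eq_two facts.1 facts.2.1 mcl_base mcl_out mcl_fixed mcl_seps (by unfold mclCert; exact mcl_prog) mcl_levs hcard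
    (by norm_num) (by rw [mcl_bound])

end Cfsg.Agent.S2073
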