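import Cfsg.Statements.S2132
import Cfsg.Agent.Lib.McLMult.Cent
import Cfsg.Agent.S2073

set_option autoImplicit false
open Cfsg

namespace Cfsg.Agent.S2132

/-- A non-split double cover moves along an isomorphism. -/
theorem cover_congr {H H' K : Type*} [Group H] [Group H'] [Group K] (f : H ≃* H')
    (h : IsNonsplitDoubleCover H K) : IsNonsplitDoubleCover H' K := by
  obtain ⟨h1, ⟨q⟩, h3⟩ := h
  have hmap : (Subgroup.center H).map f.toMonoidHom = Subgroup.center H' := by
    ext x
    constructor
    · rintro ⟨a, ha, rfl⟩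
      refine Subgroup.mem_center_iff.2 fun y => ?_
      obtain ⟨b, rfl⟩ := f.surjective y
      exact (map_mul f b a).symm.trans ((congrArg f (Subgroup.mem_center_iff.1 ha b)).trans (map_mul f a b))
    · intro hx
      refine ⟨f.symm x, Subgroup.mem_center_iff.2 fun y => f.injective ?_, f.apply_symm_apply x⟩
      rw [map_mul, map_mul, f.apply_symm_apply]
      exact Subgroup.mem_center_iff.1 hx (f y)
  refine ⟨?_, ⟨(QuotientGroup.congr _ _ f hmap).symm.trans q⟩, fun L hL => h3 (L.comap f.toMonoidHom) ?_⟩
  · rw [← hmap, Subgroup.card_map_of_injective (f := f.toMonoidHom) f.injective]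
    exact h1
  · rw [← hmap] at hL
    refine Subgroup.isComplement'_of_disjoint_and_mul_eq_univ ?_ ?_
    · rw [disjoint_iff, Subgroup.eq_bot_iff_forall]
      rintro x ⟨hx, hxL⟩
      have : f x ∈ (Subgroup.center H).map f.toMonoidHom ⊓ L := ⟨⟨x, hx, rfl⟩, hxL⟩
      rw [hL.disjoint.eq_bot, Subgroup.mem_bot] at this
      exact f.map_eq_one_iff.1 this
    · refine Set.eq_univ_of_forall fun x => ?_
      obtain ⟨⟨⟨_, c, hc, rfl⟩, l⟩, hcl, -⟩ := hL.existsUnique (f x)
      refine ⟨c, hc, f.symm l, ?_, f.injective ?_⟩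
      · show f (f.symm (l : H')) ∈ L
        rw [f.apply_symm_apply]; exact l.2
      · show f (c * f.symm (l : H')) = f x
        rw [map_mul, f.apply_symm_apply]
        exact hcl

/-- The McLaughlin group (as a two-vector stabiliser in the automorphism group of the rank-24 lattice) has a single conjugacy class of involutions, and the centraliser of an involution is a non-split double cover of the alternating group of degree 8. -/
theorem result : (∀ x y : ↥Cfsg.Spor.McL, orderOf x = 2 → orderOf y = 2 → IsConj x y) ∧ ∃ t : ↥Cfsg.Spor.McL, orderOf t = 2 ∧ Cfsg.IsNonsplitDoubleCover ↥(Subgroup.centralizer ({t} : Set ↥Cfsg.Spor.McL)) ↥(alternatingGroup (Fin 8)) := by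
  obtain ⟨e⟩ := Cfsg.Agent.S2073.exists_equiv
  obtain ⟨ρ, hρ⟩ := CfsgLib.McLMult.exists_action
  obtain ⟨hg2, himg, hprod⟩ := CfsgLib.McLMult.gensG
  simp only [List.all_eq_true, List.mem_range, Bool.and_eq_true, Nat.beq_eq] at himg
  haveI := CfsgLib.McLMult.finite_G
  have hinj : Function.Injective ρ :=
    (CfsgLib.Schur.MonoCover.Data.chain_generates CfsgLib.McLMult.validG ρ CfsgLib.McLMult.X (fun g hg i => by
      have hg' := hg2 g hg
      interval_cases g
      · exact (hρ 0 (by norm_num) i).trans (himg i i.isLt).1.1.1.symm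
      · exact (hρ 1 (by norm_num) i).trans (himg i i.isLt).1.1.2.symm)
    (by rw [CfsgLib.McLMult.natCard_G, hprod])).2
  obtain ⟨hcl, t, ht, hcov⟩ := CfsgLib.McLMult.involutions hinj CfsgLib.McLMult.natCard_G hρ
    CfsgLib.McLMult.closure_gens (fun x hx => ⟨(himg x hx).1.2, (himg x hx).2⟩)
  refine ⟨fun x y hx hy => ?_, e t, (MulEquiv.orderOf_eq e t).trans ht, ?_⟩
  · have := MonoidHom.map_isConj e.toMonoidHom
      (hcl (e.symm x) (e.symm y) ((MulEquiv.orderOf_eq e.symm x).trans hx) ((MulEquiv.orderOf_eq e.symm y).trans hy))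
    simpa using this
  · have hmap : (Subgroup.centralizer ({t} : Set ↥CfsgLib.McLMult.G)).map e.toMonoidHom =
        Subgroup.centralizer ({e t} : Set ↥Cfsg.Spor.McL) := by
      ext x
      obtain ⟨a, rfl⟩ := e.surjective x
      rw [Subgroup.mem_centralizer_singleton_iff]
      constructor
      · rintro ⟨b, hb, hba⟩
        have hab : b = a := e.injective hba
        subst hab
        rw [← map_mul, ← map_mul, Subgroup.mem_centralizer_singleton_iff.1 hb]
      · intro h
        refine ⟨a, Subgroup.mem_centralizer_singleton_iff.2 (e.injective ?_), rfl⟩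
        rw [map_mul, map_mul]; exact h
    exact cover_congr ((e.subgroupMap _).trans (MulEquiv.subgroupCongr hmap)) hcov

end Cfsg.Agent.S2132
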