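import Cfsg.Statements.S3334
import Cfsg.Agent.Lib.McLUniq.Top
import Cfsg.Agent.Lib.Invol.SwapPair
import Cfsg.Agent.S2073
-- import your own Cfsg.Agent.* helpers here

set_option autoImplicit false
open Cfsg

namespace Cfsg.Agent.S3334

/-- Let G be a finite group with an involution t whose centralizer is a non-split double cover of the alternating group of degree 8. Then either G = C_G(t) O_{2'}(G), or G is isomorphic to the McLaughlin group. -/
theorem result {G : Type*} [Group G] [Finite G]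
    (t : G) (ht : orderOf t = 2)
    (hcov : Cfsg.IsNonsplitDoubleCover (Subgroup.centralizer ({t} : Set G)) (alternatingGroup (Fin 8))) :
    Subgroup.centralizer ({t} : Set G) ⊔ Cfsg.oddCore G = ⊤ ∨ Nonempty (G ≃* Cfsg.Spor.McL) := by
  obtain ⟨S⟩ := CfsgLib.McLUniq.exists_model hcov
  have hz := CfsgLib.McLUniq.z_eq S ht hcov
  by_cases hfuse : ∃ g : G, g * CfsgLib.McLUniq.ev S CfsgLib.McLUniq.wU * g⁻¹ = t
  · haveI := CfsgLib.McLMult.finite_G
    obtain ⟨A⟩ := CfsgLib.McLUniq.exists_data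
    obtain ⟨e⟩ := CfsgLib.McLUniq.iso_of_fusion ht hcov S hz hfuse A
    obtain ⟨e₀⟩ := Cfsg.Agent.S2073.exists_equiv
    exact Or.inr ⟨e.symm.trans e₀⟩
  · refine Or.inl (CfsgLib.SwapPair.centralizer_sup_core ⟨ht, fun g hg => ?_⟩)
    by_contra hne
    apply hfuse
    have ho : orderOf (g * t * g⁻¹) = 2 := by
      rw [← MulAut.conj_apply, MulEquiv.orderOf_eq, ht]
    obtain ⟨c, hc, hcu⟩ := CfsgLib.McLUniq.exists_conj_u S hz (k := g * t * g⁻¹)
      (Subgroup.mem_centralizer_singleton_iff.2 hg.eq.symm)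
      (by rw [← pow_two, ← ho, pow_orderOf_eq_one])
      (fun e => by rw [e, orderOf_one] at ho; exact absurd ho (by norm_num)) hne
    exact ⟨g⁻¹ * c, by
      calc g⁻¹ * c * CfsgLib.McLUniq.ev S CfsgLib.McLUniq.wU * (g⁻¹ * c)⁻¹
          = g⁻¹ * (c * CfsgLib.McLUniq.ev S CfsgLib.McLUniq.wU * c⁻¹) * g := by group
        _ = t := by rw [hcu]; group⟩

end Cfsg.Agent.S3334
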