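import Cfsg.Statements.S3702
import Cfsg.Agent.Lib.NineNormalizer.Main

set_option autoImplicit false
open Cfsg

namespace Cfsg.Agent.S3702

/-- Let K ≤ Sym(9) be generated by (1 2 3), (1 4 7)(2 5 8)(3 6 9), (1 2)(4 5) and (1 4)(2 5)(3 6)(7 8) (the normalizer in Alt(9) of the elementary abelian group generated by (1 2 3), (4 5 6), (7 8 9)). Let G be a finite group with a subgroup H ≅ K and J = O₃(H). If C_G(j) ≤ H for every j ≠ 1 in J and J is strongly closed in H with respect to G (a G-conjugate of an element of J lying in H lies in J), then G = H. -/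
theorem result {G : Type*} [Group G] [Finite G] (H : Subgroup G)
    (hH : Nonempty (↥H ≃* ↥(Subgroup.closure ({Equiv.swap (0 : Fin 9) 1 * Equiv.swap 1 2,
        Equiv.swap (0 : Fin 9) 3 * Equiv.swap 3 6 * (Equiv.swap (1 : Fin 9) 4 * Equiv.swap 4 7) * (Equiv.swap (2 : Fin 9) 5 * Equiv.swap 5 8),
        Equiv.swap (0 : Fin 9) 1 * Equiv.swap 3 4, Equiv.swap (0 : Fin 9) 3 * Equiv.swap 1 4 * Equiv.swap 2 5 * Equiv.swap 6 7} : Set (Equiv.Perm (Fin 9))))))
    (J : Subgroup G) (hJ : J = (Cfsg.pCore 3 ↥H).map H.subtype)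
    (hC : ∀ j ∈ J, j ≠ 1 → Subgroup.centralizer ({j} : Set G) ≤ H) (hsc : Cfsg.IsStronglyClosed J H) : H = ⊤ := by
  obtain ⟨e⟩ := hH
  refine CfsgLib.NineNormalizer.Emb.eq_top (e := e) ⟨fun h => ?_, hC, hsc⟩
  have key : Cfsg.pCore 3 ↥H =
      CfsgLib.NineNormalizer.Jsub.comap e.toMonoidHom := by
    refine le_antisymm (sSup_le ?_) (le_sSup ⟨?_, ?_⟩)
    · rintro Q ⟨hQ, hQp⟩ x hx
      haveI := hQ
      have hn : (Q.map e.toMonoidHom).Normal := hQ.map e.toMonoidHom e.surjective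
      have hle : Q.map e.toMonoidHom ≤ Cfsg.pCore 3 ↥CfsgLib.NineNormalizer.W :=
        le_sSup ⟨hn, hQp.map e.toMonoidHom⟩
      rw [CfsgLib.NineNormalizer.pCore_eq] at hle
      exact hle ⟨x, hx, rfl⟩
    · exact (inferInstance : CfsgLib.NineNormalizer.Jsub.Normal).comap e.toMonoidHom
    · exact CfsgLib.NineNormalizer.isPGroup_Jsub.comap_of_injective e.toMonoidHom e.injective
  rw [hJ, Subgroup.mem_map, key]
  constructor
  · rintro ⟨x, hx, hxh⟩
    obtain rfl : x = h := Subtype.ext hxh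
    exact hx
  · exact fun hh => ⟨h, hh, rfl⟩

end Cfsg.Agent.S3702
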