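import Cfsg.Statements.S5748
import Cfsg.Agent.Lib.Invol.CAClass
-- import your own Cfsg.Agent.* helpers here

set_option autoImplicit false
open Cfsg

namespace Cfsg.Agent.S5748

/-- A finite non-abelian simple group in which commuting is a transitive relation on the non-identity elements (equivalently, every non-identity element has abelian centraliser) is isomorphic to PSL₂ over a field with 2^f elements for some f ≥ 2; conversely these groups have that property. -/
theorem result {G : Type*} [Group G] [Finite G] [IsSimpleGroup G] (hG : ¬ IsMulCommutative G) :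
    (∀ a b c : G, a ≠ 1 → b ≠ 1 → c ≠ 1 → Commute a b → Commute b c → Commute a c) ↔
    ∃ (F : Type) (_ : Field F) (_ : Fintype F) (f : ℕ), 2 ≤ f ∧ Fintype.card F = 2 ^ f ∧ Nonempty (G ≃* Matrix.ProjectiveSpecialLinearGroup (Fin 2) F) := by
  constructor
  · intro h
    refine CfsgLib.Invol.CASimple.classify hG fun x a b hx ha hb => ?_
    by_cases ha1 : a = 1
    · exact ha1 ▸ Commute.one_left b
    by_cases hb1 : b = 1
    · exact hb1 ▸ Commute.one_right a
    exact h a x b ha1 hx hb1 ha hb.symm
  · rintro ⟨F, _, _, f, hf, hF, ⟨e⟩⟩ a b c - hb - hab hbc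
    have : Fact (Nat.Prime 2) := ⟨Nat.prime_two⟩
    have : CharP F 2 := charP_of_card_eq_prime_pow (f := f) hF
    have hbij : Function.Bijective (CfsgLib.SL2.proj (F := F)) :=
      ⟨(MonoidHom.ker_eq_bot_iff _).1 (by
        rw [QuotientGroup.ker_mk', CfsgLib.BrauerReynolds.center_SL_two_of_char_two]),
        CfsgLib.SL2.proj_surjective⟩
    let φ := e.trans (MulEquiv.ofBijective _ hbij).symm
    have hns : CfsgLib.SL2.NonScalar ((φ b : Matrix.SpecialLinearGroup (Fin 2) F) : Matrix (Fin 2) (Fin 2) F) := by
      by_contra hn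
      have := (CfsgLib.SL2.mem_center_iff_not_nonScalar _).2 hn
      rw [CfsgLib.BrauerReynolds.center_SL_two_of_char_two, Subgroup.mem_bot] at this
      exact hb (φ.map_eq_one_iff.1 this)
    have h1 : φ a ∈ CfsgLib.SL2.cent (φ b) := CfsgLib.SL2.mem_cent_iff.2 (hab.map φ).symm.eq
    have h2 : φ c ∈ CfsgLib.SL2.cent (φ b) := CfsgLib.SL2.mem_cent_iff.2 (hbc.map φ).eq
    have h3 : Commute (φ a) (φ c) := CfsgLib.SL2.cent_comm hns h1 h2
    simpa using h3.map φ.symm


end Cfsg.Agent.S5748
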