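import Cfsg.Statements.S1396
import Cfsg.Agent.Lib.PSolvable.Transitivity

set_option autoImplicit false
open Cfsg
open scoped Pointwise

namespace Cfsg.Agent.S1396

/-- Let G be a minimal simple group of odd order, p a prime dividing the order of G and A an abelian p-subgroup. Suppose either (1) A consists exactly of the elements x of C_G(A) with x^p = 1, and every proper subgroup of G has p-length at most one, or (2) A is normal and self-centralizing in some Sylow p-subgroup of G and has rank at least 2. Then A satisfies the transitivity hypothesis. -/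
theorem result {G : Type*} [Group G] [Finite G] (hG : Cfsg.IsMinSimpleOddOrder G)
    (p : ℕ) [Fact p.Prime] (hp : p ∣ Nat.card G) (A : Subgroup G) (hAp : IsPGroup p A) (hAc : IsMulCommutative A)
    (h : (∀ x ∈ Subgroup.centralizer (A : Set G), x ^ p = 1 ↔ x ∈ A) ∧ (∀ H : Subgroup G, H ≠ ⊤ → Cfsg.PLengthLE p 1 H) ∨
      ∃ P : Sylow p G, Cfsg.IsSCN (P : Subgroup G) A ∧ ¬ Cfsg.PRankLE p 1 A) :
    Cfsg.TransitivityHypothesis A := by
  have hodd : p ≠ 2 := fun h => by
    subst h
    exact (Nat.not_even_iff_odd.mpr hG.1) (even_iff_two_dvd.mpr hp)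
  have hΩ : ∀ x ∈ Subgroup.centralizer (A : Set G), orderOf x = p → x ∈ A := by
    intro x hx hxp
    rcases h with ⟨h1, -⟩ | ⟨P, ⟨hAP, hPN, hPC⟩, -⟩
    · exact (h1 x hx).mp (hxp ▸ pow_orderOf_eq_one x)
    set N := Subgroup.normalizer (A : Set G) with hN
    have hxN : x ∈ N := Subgroup.centralizer_le_normalizer _ hx
    set P' : Sylow p N := P.subtype hPN with hP'
    have hZ : IsPGroup p (Subgroup.zpowers (⟨x, hxN⟩ : N)) := by
      refine IsPGroup.of_card (n := 1) ?_
      rw [Nat.card_zpowers, ← Subgroup.orderOf_coe, pow_one]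
      exact hxp
    obtain ⟨T, hT⟩ := hZ.exists_le_sylow
    obtain ⟨n, hn⟩ := MulAction.exists_smul_eq N P' T
    have h2 : (⟨x, hxN⟩ : N) ∈ MulAut.conj n • (P' : Subgroup N) := by
      have h4 := hT (Subgroup.mem_zpowers _)
      rw [← hn] at h4
      exact h4
    obtain ⟨y, hy, hyx⟩ := h2
    have hyP : (y : G) ∈ (P : Subgroup G) := hy
    have hyx' : (n : G) * y * (n : G)⁻¹ = x := congrArg Subtype.val hyx
    have hyC : (y : G) ∈ Subgroup.centralizer (A : Set G) := by
      intro a ha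
      have hna : (n : G) * a * (n : G)⁻¹ ∈ A := (Subgroup.mem_normalizer_iff.mp n.2 a).mp ha
      have h3 := hx _ hna
      rw [← hyx'] at h3
      have h5 := congrArg (fun g => (n : G)⁻¹ * g * (n : G)) h3
      simpa [mul_assoc] using h5
    have hyA : (y : G) ∈ A := hPC ▸ Subgroup.mem_inf.mpr ⟨hyP, hyC⟩
    rw [← hyx']
    exact (Subgroup.mem_normalizer_iff.mp n.2 y).mp hyA
  have hA1 : A ≠ ⊥ := by
    intro hA
    obtain ⟨x, hx⟩ := exists_prime_orderOf_dvd_card' (G := G) p hp
    have := hΩ x (by rw [hA]; intro a ha; rw [Subgroup.mem_bot.mp ha, one_mul, mul_one]) hx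
    rw [hA, Subgroup.mem_bot] at this
    exact (Fact.out : p.Prime).one_lt.ne' (hx.symm.trans (this ▸ orderOf_one))
  refine ⟨hA1, fun hA => hG.2.2.1 ⟨⟨fun x y => ?_⟩⟩, fun X hX hAX => ?_⟩
  · haveI := hAc
    exact congrArg Subtype.val (mul_comm' (⟨x, hA ▸ Subgroup.mem_top x⟩ : A) ⟨y, hA ▸ Subgroup.mem_top y⟩)
  obtain ⟨m, hm⟩ := IsPGroup.iff_card.mp hAp
  have hm0 : m ≠ 0 := fun h0 => hA1 (Subgroup.card_eq_one.mp (by rw [hm, h0, pow_zero]))
  have hπ : ∀ n : ℕ, n ≠ 0 → ((∀ r : ℕ, r.Prime → r ∣ n → r ∈ Cfsg.primesNotDvd (Nat.card A)) ↔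
      n.Coprime p) := by
    intro n hn0
    rw [Nat.coprime_comm, (Fact.out : p.Prime).coprime_iff_not_dvd]
    constructor
    · exact fun h hd => (h p Fact.out hd).2 (hm ▸ dvd_pow_self p hm0)
    · intro h r hr hd
      refine ⟨hr, fun hrA => h ?_⟩
      have hrp : r ∣ p := by
        rw [hm] at hrA
        exact hr.dvd_of_dvd_pow hrA
      rwa [← (Nat.prime_dvd_prime_iff_eq hr Fact.out).mp hrp]
  have hcore : Cfsg.piCore (Cfsg.primesNotDvd (Nat.card A)) ↥X = Cfsg.pPrimeCore p ↥X := by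
    unfold Cfsg.piCore Cfsg.pPrimeCore
    congr 1
    ext N
    exact and_congr Iff.rfl (hπ _ Nat.card_pos.ne')
  haveI := CfsgLib.Transfer.pPrimeCore_normal p ↥X
  rw [Cfsg.piCoreOf, hcore]
  apply le_antisymm
  · refine sSup_le fun Y hY => ?_
    obtain ⟨hYX, hYπ, hAY⟩ := hY
    have hYp : (Nat.card Y).Coprime p := (hπ _ Nat.card_pos.ne').mp hYπ
    rw [← Subgroup.map_subgroupOf_eq_of_le hYX]
    refine Subgroup.map_mono (CfsgLib.PSolvable.le_pPrimeCore_of_omega hodd
      (CfsgLib.PSolvable.isPConstrained_of_isPSolvable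
        (CfsgLib.PSolvable.isPSolvable_of_isSolvable (hG.2.2.2 X hX)))
      (A := A.subgroupOf X) (hAp.comap_of_injective X.subtype X.subtype_injective) ?_ ?_ ?_)
    · intro x hx hxo
      refine hΩ x ?_ (by rw [Subgroup.orderOf_coe]; exact hxo)
      intro a ha
      exact congrArg Subtype.val (hx ⟨a, hAX ha⟩ ha)
    · rw [Nat.card_congr (Subgroup.subgroupOfEquivOfLe hYX).toEquiv]
      exact hYp
    · intro a ha
      rw [Subgroup.mem_normalizer_iff]
      intro y
      exact Subgroup.mem_normalizer_iff.mp (hAY ha) y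
  · refine le_sSup ⟨Subgroup.map_subtype_le _, (hπ _ Nat.card_pos.ne').mpr ?_, ?_⟩
    · rw [Subgroup.card_map_of_injective X.subtype_injective]
      exact CfsgLib.Transfer.pPrimeCore_coprime p
    · refine hAX.trans ?_
      exact (Subgroup.normal_subgroupOf_iff_le_normalizer (Subgroup.map_subtype_le _)).mp
        (by rw [Subgroup.subgroupOf, Subgroup.comap_map_eq_self_of_injective X.subtype_injective]
            infer_instance)

end Cfsg.Agent.S1396
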