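import Cfsg.Statements.S1442
import Mathlib
import Cfsg.Agent.Lib.Coprime.Action

set_option autoImplicit false
open Cfsg

namespace Cfsg.Agent.S1442

/-- Let G be a finite group, H a nilpotent subgroup and A a subgroup normalizing H with the orders of A and H coprime. Put C = H ∩ C_G(A). If H ∩ C_G(C) ≤ C then A centralizes H. -/
theorem result {G : Type*} [Group G] [Finite G] (H A : Subgroup G) (hH : Group.IsNilpotent H) (hA : (A ≤ Subgroup.normalizer (H : Set G))) (hcop : (Nat.card A).Coprime (Nat.card H))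
    (hC : H ⊓ Subgroup.centralizer (((H ⊓ Subgroup.centralizer (A : Set G)) : Subgroup G) : Set G) ≤ (H ⊓ Subgroup.centralizer (A : Set G))) :
    A ≤ Subgroup.centralizer (H : Set G) := by
  set C := H ⊓ Subgroup.centralizer (A : Set G) with hCdef
  haveI := hH
  have hCA : ⁅C, A⁆ = ⊥ := Subgroup.commutator_eq_bot_iff_le_centralizer.mpr inf_le_right
  set N := H ⊓ Subgroup.normalizer (C : Set G) with hN
  have hAN : A ≤ Subgroup.normalizer (N : Set G) :=
    CfsgLib.Coprime.le_normalizer_inf_of_le hA fun a ha =>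
      Subgroup.le_normalizer (CfsgLib.Coprime.le_normalizer_inf_of_le hA
        (CfsgLib.Coprime.le_normalizer_centralizer Subgroup.le_normalizer) ha)
  have h1 : ⁅⁅C, A⁆, N⁆ = ⊥ := by rw [hCA, Subgroup.commutator_bot_left]
  have h2 : ⁅⁅N, C⁆, A⁆ = ⊥ := by
    rw [eq_bot_iff, ← hCA, Subgroup.commutator_comm N C]
    exact Subgroup.commutator_mono
      (CfsgLib.Coprime.commutator_le_left_of_le_normalizer inf_le_right) le_rfl
  have h3 : ⁅⁅A, N⁆, C⁆ = ⊥ := Subgroup.commutator_commutator_eq_bot_of_rotate h2 h1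
  have h4 : ⁅N, A⁆ ≤ C := by
    rw [Subgroup.commutator_comm]
    refine le_trans (le_inf ?_ (Subgroup.commutator_eq_bot_iff_le_centralizer.mp h3)) hC
    rw [Subgroup.commutator_comm]
    exact (CfsgLib.Coprime.commutator_le_left_of_le_normalizer hAN).trans inf_le_left
  have h5 := CfsgLib.Coprime.commutator_eq_bot_of_commutator_commutator hAN
    (hcop.coprime_dvd_right (Subgroup.card_dvd_of_le inf_le_left))
    (eq_bot_iff.mpr (hCA ▸ Subgroup.commutator_mono h4 le_rfl))
  have hNC : N ≤ C := le_inf inf_le_left (Subgroup.commutator_eq_bot_iff_le_centralizer.mp h5)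
  have hHC : H ≤ C := by
    by_contra hne
    have hlt : C.subgroupOf H < ⊤ := lt_top_iff_ne_top.mpr fun he =>
      hne (Subgroup.subgroupOf_eq_top.mp he)
    obtain ⟨x, hx, hxC⟩ := SetLike.exists_of_lt (Group.normalizerCondition_of_isNilpotent _ hlt)
    have hxN : (x : G) ∈ Subgroup.normalizer (C : Set G) := by
      rw [CfsgLib.Coprime.mem_normalizer_iff_conj_smul]
      have h1 := congrArg (Subgroup.map H.subtype) (CfsgLib.Coprime.mem_normalizer_iff_conj_smul.mp hx)
      rwa [CfsgLib.Coprime.map_conj_smul, Subgroup.map_subgroupOf_eq_of_le (inf_le_left : C ≤ H)] at h1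
    exact hxC (hNC (Subgroup.mem_inf.mpr ⟨x.2, hxN⟩))
  intro a ha h hh
  exact ((Subgroup.mem_inf.mp (hHC hh)).2 a ha).symm

end Cfsg.Agent.S1442
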