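import Cfsg.Statements.S1451
import Cfsg.Agent.Lib.BG.FittingDerived
import Cfsg.Agent.Lib.BG.PiHall
set_option autoImplicit false
open Cfsg

namespace Cfsg.Agent.S1451

open scoped commutatorElement
/-- Let G be a solvable group of odd order such that G, or its Fitting subgroup, has no elementary abelian subgroup of order q ^ 3 for any prime q. Then G' is nilpotent; for every Sylow subgroup S of G, every characteristic subgroup T of S with T ≤ [S, S] is normal in G; and for every prime p, G has a characteristic subgroup that is a Hall subgroup for the set of primes greater than p. -/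
theorem result {G : Type*} [Group G] [Finite G] [Group.IsSolvable G] (hodd : Odd (Nat.card G)) (hr : Cfsg.RankLE 2 G ∨ Cfsg.RankLE 2 (Cfsg.fittingSubgroup G)) :
    Group.IsNilpotent ↥(commutator G) ∧
      (∀ (q : ℕ) [Fact q.Prime] (S : Sylow q G) (T : Subgroup ↥(S : Subgroup G)), T.Characteristic → T.map (S : Subgroup G).subtype ≤ ⁅(S : Subgroup G), (S : Subgroup G)⁆ →
        (T.map (S : Subgroup G).subtype).Normal) ∧
      ∀ p : ℕ, ∃ N : Subgroup G, N.Characteristic ∧ Cfsg.IsPiHall {q | q.Prime ∧ p < q} N := by
  classical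
  have hrF : Cfsg.RankLE 2 (Cfsg.fittingSubgroup G) := hr.elim (fun h q hq => by
    haveI := Fact.mk hq
    exact CfsgLib.BG.prankLE_of_injective (Cfsg.fittingSubgroup G).subtype Subtype.val_injective (h q hq)) id
  have hrc : ∀ r : ℕ, r.Prime → Cfsg.PRankLE r 2 (Cfsg.pCore r G) := fun r hr' => by
    haveI := Fact.mk hr'
    exact CfsgLib.BG.prankLE_of_injective (Subgroup.inclusion (CfsgLib.Fitting.pCore_le_fittingSubgroup r))
      (Subgroup.inclusion_injective _) (hrF r hr')
  obtain ⟨hnil, hGF⟩ := CfsgLib.BG.derived_le_fitting fun r hr' =>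
    CfsgLib.BG.derived_acts_on_pCore hr' ‹_› hodd (Or.inl (hrc r hr'))
  haveI hFn := CfsgLib.Fitting.fittingSubgroup_normal (G := G)
  set F := Cfsg.fittingSubgroup G with hF
  have hnormal : ∀ X : Subgroup G, F ≤ X → X.Normal := fun X hX => ⟨fun x hx g => by
    rw [show g * x * g⁻¹ = ⁅g, x⁆ * x by rw [commutatorElement_def]; group]
    exact mul_mem (hX (hGF (Subgroup.commutator_mem_commutator (Subgroup.mem_top g) (Subgroup.mem_top x)))) hx⟩
  refine ⟨hnil, ?_, fun p => ?_⟩
  · intro q hq S T hTc hTS
    have hqp := hq.out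
    set T' := T.map (S : Subgroup G).subtype with hT'
    have hTG : T' ≤ commutator G := hTS.trans (Subgroup.commutator_mono le_top le_top)
    have hTq : T' ≤ Cfsg.pCore q G := fun x hx => by
      obtain ⟨k, hk⟩ := S.2 ⟨x, Subgroup.map_subtype_le _ hx⟩
      exact CfsgLib.BG.mem_pCore_of_mem_fitting hqp (hGF (hTG hx)) (k := k) (congrArg Subtype.val hk)
    haveI := hTc
    have hNS : Subgroup.normalizer ((S : Subgroup G) : Set G) ≤ Subgroup.normalizer (T' : Set G) :=
      CfsgLib.BG.normalizer_le_of_char _ _ hTc
    have hST : (S : Subgroup G) ≤ Subgroup.normalizer (T' : Set G) := Subgroup.le_normalizer.trans hNS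
    have hFT : F ≤ Subgroup.normalizer (T' : Set G) := CfsgLib.BG.fitting_le_of_pCore_le fun s hs => by
      haveI := Fact.mk hs
      by_cases hsq : s = q
      · subst hsq
        exact ((CfsgLib.Fitting.pCore_eq_iInf_sylow (G := G) s).le.trans (iInf_le _ S)).trans hST
      · haveI := CfsgLib.Fitting.pCore_normal (G := G) s
        haveI := CfsgLib.Fitting.pCore_normal (G := G) q
        have hd : Disjoint (Cfsg.pCore s G) (Cfsg.pCore q G) := IsPGroup.disjoint_of_ne s q hsq _ _
          (CfsgLib.Fitting.pCore_isPGroup s) (CfsgLib.Fitting.pCore_isPGroup q)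
        exact fun x hx => (Subgroup.centralizer_le_normalizer _) fun u hu =>
          (Subgroup.commute_of_normal_of_disjoint _ _ inferInstance inferInstance hd x u hx (hTq hu)).symm.eq
    haveI hX : (F ⊔ (S : Subgroup G)).Normal := hnormal _ le_sup_left
    have htop := Sylow.normalizer_sup_eq_top' S (le_sup_right : (S : Subgroup G) ≤ F ⊔ S)
    refine Subgroup.normalizer_eq_top_iff.1 (top_unique (htop.ge.trans (sup_le hNS (sup_le hFT hST))))
  · set π : Set ℕ := {q | q.Prime ∧ p < q} with hπ
    obtain ⟨N, hN⟩ := CfsgLib.BG.exists_piHall (G := G) π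
    have hFN : F ≤ Subgroup.normalizer (N : Set G) := CfsgLib.BG.fitting_le_of_pCore_le fun s hs => by
      haveI := Fact.mk hs
      by_cases hsp : p < s
      · exact (CfsgLib.BG.le_piHall_of_normal hN (CfsgLib.Fitting.pCore_normal s) fun t ht htd => by
          obtain ⟨k, hk⟩ := IsPGroup.iff_card.1 (CfsgLib.Fitting.pCore_isPGroup (G := G) s)
          rw [hk] at htd
          rw [(Nat.prime_dvd_prime_iff_eq ht hs).1 (ht.dvd_of_dvd_pow htd)]
          exact ⟨hs, hsp⟩).trans Subgroup.le_normalizer
      · exact fun y hy => (Subgroup.centralizer_le_normalizer _) fun a ha =>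
          (CfsgLib.BG.centralizes_pCore hs hodd (hrc s hs) (fun t ht htd => by
            have h1 := (hN.1 t ht (htd.trans (Subgroup.orderOf_dvd_natCard N ha))).2
            omega) hy).eq
    set X := F ⊔ N with hX
    haveI := hnormal X le_sup_left
    haveI hNn : (N.subgroupOf X).Normal :=
      Subgroup.normal_subgroupOf_iff_le_normalizer le_sup_right |>.2 (sup_le hFN Subgroup.le_normalizer)
    have hchar := CfsgLib.BG.piHall_characteristic (N := N.subgroupOf X) (π := π)
      (CfsgLib.BG.piHall_subgroupOf hN le_sup_right) inferInstance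
    haveI := hchar
    have hn : N.Normal := by
      have h1 : ((N.subgroupOf X).map X.subtype).Normal := ConjAct.normal_of_characteristic_of_normal
      rwa [Subgroup.map_subgroupOf_eq_of_le le_sup_right] at h1
    exact ⟨N, CfsgLib.BG.piHall_characteristic hN hn, hN⟩
end Cfsg.Agent.S1451
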