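import Cfsg.Statements.S1452
import Cfsg.Agent.Lib.PGroup.AlperinElementary

set_option autoImplicit false
open Cfsg
open scoped commutatorElement

namespace Cfsg.Agent.S1452

/-- Let p be an odd prime and R a finite p-group containing an elementary abelian subgroup of order p ^ 3. If E is a normal elementary abelian subgroup of R of order p ^ 2, then E ≤ A for some normal subgroup A of R with C_R(A) = A that contains an elementary abelian subgroup of order p ^ 3. -/
theorem result {R : Type*} [Group R] [Finite R] (p : ℕ) [Fact p.Prime] (hp : p ≠ 2) (hR : IsPGroup p R) (hr : ¬ Cfsg.PRankLE p 2 R)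
    (E : Subgroup R) [E.Normal] (hE : Cfsg.IsElementaryAbelian p E) (hE2 : Nat.card E = p ^ 2) :
    ∃ A : Subgroup R, E ≤ A ∧ A.Normal ∧ Subgroup.centralizer (A : Set R) = A ∧ ¬ Cfsg.PRankLE p 2 A := by
  obtain ⟨B, hEB, hBn, hBe, hB3⟩ := CfsgLib.AlperinElem.exists_normal_rank_three hR hp hr hE hE2
  obtain ⟨A, hBA, ⟨hAn, hAc⟩, hmax⟩ := Finite.exists_le_maximal
    (p := fun A : Subgroup R => A.Normal ∧ IsMulCommutative A) (a := B) ⟨hBn, hBe.1⟩
  haveI := hAn
  haveI := hAc
  refine ⟨A, hEB.trans hBA, hAn, ?_, fun h => ?_⟩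
  · have hle : A ≤ Subgroup.centralizer (A : Set R) := Subgroup.le_centralizer A
    by_contra hne
    obtain ⟨x, hx, hxA, hcom⟩ := CfsgLib.AlperinElem.exists_central_mod hR (N := A)
      (K := Subgroup.centralizer (A : Set R)) (lt_of_le_of_ne hle (Ne.symm hne))
    set A' := Subgroup.closure ((A : Set R) ∪ {x}) with hA'
    have hc : IsMulCommutative A' := Subgroup.isMulCommutative_closure (by
      rintro u (hu | rfl) v (hv | rfl)
      · exact congrArg Subtype.val (mul_comm' (⟨u, hu⟩ : A) ⟨v, hv⟩)
      · exact hx u hu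
      · exact (hx v hv).symm
      · rfl)
    have hn : A'.Normal := by
      refine ⟨fun z hz r => ?_⟩
      have h1 : A' ≤ A'.comap (MulAut.conj r).toMonoidHom := by
        refine (Subgroup.closure_le _).mpr ?_
        rintro u (hu | rfl)
        · exact Subgroup.subset_closure (Or.inl (hAn.conj_mem u hu r))
        · show r * u * r⁻¹ ∈ A'
          rw [show r * u * r⁻¹ = ⁅u, r⁆⁻¹ * u by rw [commutatorElement_def]; group]
          exact mul_mem (inv_mem (Subgroup.subset_closure (Or.inl (hcom r))))
            (Subgroup.subset_closure (Or.inr rfl))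
      exact h1 hz
    exact hxA (hmax ⟨hn, hc⟩ (fun u hu => Subgroup.subset_closure (Or.inl hu))
      (Subgroup.subset_closure (Or.inr rfl)))
  · haveI := hBe.1
    have h1 := h (B.subgroupOf A) ⟨⟨fun a b => Subtype.ext (Subtype.ext
      (show ((a : A) : R) * ((b : A) : R) = ((b : A) : R) * ((a : A) : R) from congrArg Subtype.val
        (mul_comm' (⟨((a : A) : R), a.2⟩ : B) ⟨((b : A) : R), b.2⟩)))⟩⟩
      (fun a ha => Subtype.ext (hBe.2 (a : R) ha))
    rw [Nat.card_congr (Subgroup.subgroupOfEquivOfLe hBA).toEquiv] at h1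
    have h2 := (Nat.pow_le_pow_iff_right (Fact.out : p.Prime).one_lt).mp (hB3.trans h1)
    omega

end Cfsg.Agent.S1452
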