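import Cfsg.Statements.S0080
import Cfsg.Agent.Lib.Transfer.Focal

set_option autoImplicit false
set_option linter.style.haveILetI false
set_option linter.unusedVariables false
open Cfsg
open scoped IsMulCommutative

namespace Cfsg.Agent.S0080

/-- When the index of H is prime to the order of H/H', the focal subgroup of H is G' ∩ H, and H/(G' ∩ H) has a normal complement. -/
theorem result {G : Type*} [Group G] [Finite G] (H : Subgroup G) (h : Nat.Coprime H.index (⁅H, H⁆.relIndex H)) : Subgroup.focalSubgroup H = commutator G ⊓ H ∧ ∃ N : Subgroup G, N.Normal ∧ N ⊓ H = commutator G ⊓ H ∧ N ⊔ H = ⊤ := by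
  haveI : H.FiniteIndex := inferInstance
  have hcard : Nat.card (H ⧸ H.focalSubgroupOf) ∣ ⁅H, H⁆.relIndex H := by
    rw [← Subgroup.index_eq_card]
    exact Subgroup.relIndex_dvd_of_le_left H (Subgroup.commutator_le_focalSubgroup H)
  have hcop : (Nat.card (H ⧸ H.focalSubgroupOf)).Coprime H.index :=
    (Nat.Coprime.coprime_dvd_right hcard h).symm
  have hbij : Function.Bijective fun y : H ⧸ H.focalSubgroupOf => y ^ H.index :=
    (powCoprime hcop).bijective
  have hker : (Subgroup.transferFocal H).ker ⊓ H = H.focalSubgroup := by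
    ext x
    constructor
    · rintro ⟨hx, hxH⟩
      have h1 : ((⟨x, hxH⟩ : H) : H ⧸ H.focalSubgroupOf) ^ H.index = 1 := by
        rw [← Subgroup.transferFocal_eq_pow]; exact hx
      have h2 : ((⟨x, hxH⟩ : H) : H ⧸ H.focalSubgroupOf) = 1 :=
        hbij.1 (by simpa using h1)
      rw [QuotientGroup.eq_one_iff] at h2
      exact h2
    · intro hx
      exact ⟨Abelianization.commutator_subset_ker _ (Subgroup.focalSubgroup_le_commutator H hx),
        Subgroup.focalSubgroup_le H hx⟩
  have heq : H.focalSubgroup = commutator G ⊓ H := by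
    refine le_antisymm (le_inf (Subgroup.focalSubgroup_le_commutator H) (Subgroup.focalSubgroup_le H)) ?_
    rw [← hker]
    exact inf_le_inf_right _ (Abelianization.commutator_subset_ker _)
  refine ⟨heq, (Subgroup.transferFocal H).ker, MonoidHom.normal_ker _, by rw [hker, heq], ?_⟩
  rw [eq_top_iff]
  intro g _
  obtain ⟨y, hy⟩ := hbij.2 (Subgroup.transferFocal H g)
  obtain ⟨y, rfl⟩ := QuotientGroup.mk_surjective y
  have hy' : Subgroup.transferFocal H y = Subgroup.transferFocal H g := by
    rw [Subgroup.transferFocal_eq_pow]; exact hy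
  have hg : g * (y : G)⁻¹ ∈ (Subgroup.transferFocal H).ker := by
    rw [MonoidHom.mem_ker, map_mul, map_inv, hy', mul_inv_cancel]
  have := Subgroup.mul_mem_sup hg y.2
  simpa [mul_assoc] using this

end Cfsg.Agent.S0080
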