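import Cfsg.Statements.S1443
import Cfsg.Agent.Lib.PSolvable.Omega

set_option autoImplicit false
open Cfsg

namespace Cfsg.Agent.S1443

/-- Let G be a finite group, p an odd prime, H a p-subgroup, E an elementary abelian subgroup of H, and A a subgroup of order coprime to p normalizing H. If A centralizes every element of order p in H ∩ C_G(E), then A centralizes H. -/
theorem result {G : Type*} [Group G] [Finite G] (p : ℕ) [Fact p.Prime] (hp : p ≠ 2) (H E A : Subgroup G) (hH : IsPGroup p H) (hE : E ≤ H) (hEe : Cfsg.IsElementaryAbelian p E)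
    (hA : (A ≤ Subgroup.normalizer (H : Set G))) (hcop : (Nat.card A).Coprime p)
    (hfix : ∀ x ∈ (H ⊓ Subgroup.centralizer (E : Set G)), orderOf x = p → A ≤ Subgroup.centralizer ({x} : Set G)) :
    A ≤ Subgroup.centralizer (H : Set G) := by
  have hfix' : ∀ x ∈ H, x ∈ Subgroup.centralizer (E : Set G) → x ^ p = 1 →
      x ∈ Subgroup.centralizer (A : Set G) := by
    intro x hxH hxE hxp a ha
    rcases eq_or_ne x 1 with rfl | hx1
    · simp
    exact Subgroup.mem_centralizer_singleton_iff.mp
      (hfix x (Subgroup.mem_inf.mpr ⟨hxH, hxE⟩) (orderOf_eq_prime hxp hx1) ha)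
  have hEA : E ≤ Subgroup.centralizer (A : Set G) := fun e he => by
    haveI := hEe.1
    exact hfix' e (hE he) (fun f hf => congrArg Subtype.val (mul_comm' (⟨f, hf⟩ : E) ⟨e, he⟩))
      (hEe.2 e he)
  exact CfsgLib.PSolvable.le_centralizer_of_omega hp (hH.to_le hE) hcop
    (hEA.trans (Subgroup.centralizer_le_normalizer _)) hH (hE.trans Subgroup.le_normalizer) hA
    fun x hx hxp hxE => hfix' x hx hxE hxp

end Cfsg.Agent.S1443
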