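import Cfsg.Statements.S1415
import Cfsg.Agent.Lib.OddLocal.SigmaCompl
set_option autoImplicit false
open Cfsg

namespace Cfsg.Agent.S1415

/-- Let G be a minimal simple group of odd order, M a maximal subgroup and E a complement to M_σ in M. Then the derived subgroup E' is nilpotent; every Hall τ₁(M)-subgroup of E is cyclic; and every Hall τ₃(M)-subgroup E₃ of E is cyclic, contained in E' and normal in E. -/
theorem result {G : Type*} [Group G] [Finite G] (hG : Cfsg.IsMinSimpleOddOrder G)
    (M : Subgroup G) (hM : IsCoatom M) (E : Subgroup G) (hE : Cfsg.IsComplIn E (Cfsg.sigmaCore M) M) :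
    Group.IsNilpotent ↥⁅E, E⁆ ∧
      (∀ E₁ : Subgroup G, Cfsg.IsPiHallOf (Cfsg.tau1 M) E₁ E → IsCyclic E₁) ∧
      ∀ E₃ : Subgroup G, Cfsg.IsPiHallOf (Cfsg.tau3 M) E₃ E → IsCyclic E₃ ∧ E₃ ≤ ⁅E, E⁆ ∧ E ≤ Subgroup.normalizer (E₃ : Set G) := by
  haveI hnil := CfsgLib.OddLocal.commutator_compl_nilpotent hG hM hE
  have hrank : ∀ {X : Subgroup G}, X ≤ E → (∀ r : ℕ, r.Prime → r ∣ Nat.card X → Cfsg.PRankLE r 1 M) → IsZGroup X := by
    intro X hXE hX
    refine CfsgLib.OddLocal.isZGroup_of_rankLE_one hG fun r hr => ?_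
    by_cases hd : r ∣ Nat.card X
    · exact CfsgLib.OddLocal.prankLE_mono (hXE.trans hE.1) (hX r hr hd)
    exact CfsgLib.OddLocal.prankLE_of_not_dvd hr hd
  refine ⟨?_, fun E₁ h1 => ?_, fun E₃ h3 => ?_⟩
  · rw [← CfsgLib.BG.map_commutator_subtype]
    exact Group.nilpotent_of_mulEquiv ((commutator E).equivMapOfInjective E.subtype E.subtype_injective)
  · haveI := hrank h1.1 fun r hr hd => (h1.2.1 r hr hd).2.2.2.2
    have hbot : commutator E₁ = ⊥ := by
      have hle : (commutator E₁).map (Subgroup.inclusion h1.1) ≤ commutator E := by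
        rw [commutator_def, commutator_def, Subgroup.map_commutator]
        exact Subgroup.commutator_mono le_top le_top
      refine Subgroup.card_eq_one.1 (Nat.eq_one_of_dvd_coprimes (Nat.coprime_of_dvd fun r hr hd1 hd2 => ?_)
        (commutator E₁).card_subgroup_dvd_card
        ((Subgroup.card_map_of_injective (Subgroup.inclusion_injective h1.1)).symm.dvd.trans (Subgroup.card_dvd_of_le hle)))
      exact (h1.2.1 r hr hd1).2.2.2.1 ((CfsgLib.OddLocal.dvd_commutator_compl hG hM hE hr (h1.2.1 r hr hd1).2.1).2 hd2)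
    haveI : IsMulCommutative E₁ := ⟨⟨fun a b => commutatorElement_eq_one_iff_mul_comm.1 (by
      rw [← Subgroup.mem_bot, ← hbot]
      exact Subgroup.commutator_mem_commutator (Subgroup.mem_top a) (Subgroup.mem_top b))⟩⟩
    haveI : Group.IsNilpotent E₁ := by
      letI : CommGroup E₁ := { (inferInstance : Group E₁) with mul_comm := mul_comm' }
      infer_instance
    infer_instance
  · haveI := hrank h3.1 fun r hr hd => (h3.2.1 r hr hd).2.2.2
    have hc : Nat.card (E₃.subgroupOf E) = Nat.card E₃ := Nat.card_congr (Subgroup.subgroupOfEquivOfLe h3.1).toEquiv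
    have hle : E₃.subgroupOf E ≤ commutator E := by
      refine CfsgLib.OddLocal.le_of_coprime_index (Nat.coprime_of_dvd fun r hr hd1 hd2 => ?_)
      rw [hc] at hd1
      obtain ⟨-, hσ, hM', hrk⟩ := h3.2.1 r hr hd1
      haveI := Fact.mk hr
      obtain ⟨P⟩ : Nonempty (Sylow r E) := inferInstance
      haveI : IsCyclic (P : Subgroup E) := by
        haveI := CfsgLib.OddLocal.isZGroup_of_rankLE_one hG (H := (P : Subgroup E).map E.subtype) fun s hs => by
          by_cases hsr : s = r
          · subst hsr; exact CfsgLib.OddLocal.prankLE_mono ((Subgroup.map_subtype_le _).trans hE.1) hrk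
          refine CfsgLib.OddLocal.prankLE_of_not_dvd hs fun hd => hsr ?_
          obtain ⟨j, hj⟩ := (P.2.map E.subtype).exists_card_eq
          exact (Nat.prime_dvd_prime_iff_eq hs hr).1 (hs.dvd_of_dvd_pow (hj ▸ hd))
        haveI : IsCyclic ((P : Subgroup E).map E.subtype) := by haveI := (P.2.map E.subtype).isNilpotent; infer_instance
        exact isCyclic_of_surjective ((P : Subgroup E).equivMapOfInjective E.subtype E.subtype_injective).symm
          (MulEquiv.surjective _)
      exact (P.not_dvd_card_commutator_or_not_dvd_index_commutator).elim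
        (fun h => h ((CfsgLib.OddLocal.dvd_commutator_compl hG hM hE hr hσ).1 hM')) (fun h => h hd2)
    have hHall : Cfsg.IsPiHall (Cfsg.tau3 M) (E₃.subgroupOf E) :=
      ⟨fun r hr hd => h3.2.1 r hr (hc ▸ hd), h3.2.2⟩
    haveI hn := CfsgLib.OddLocal.piHall_normal_of_isNilpotent hnil (CfsgLib.BG.piHall_subgroupOf hHall hle)
    haveI := CfsgLib.BG.piHall_characteristic (CfsgLib.BG.piHall_subgroupOf hHall hle) hn
    haveI hEn : (E₃.subgroupOf E).Normal := by
      have := CfsgLib.PSolvable.normal_map_of_characteristic (commutator E) ((E₃.subgroupOf E).subgroupOf (commutator E))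
      rwa [Subgroup.map_subgroupOf_eq_of_le hle] at this
    haveI : Group.IsNilpotent (E₃.subgroupOf E) :=
      Subgroup.isNilpotent_of_ker_le_center (Subgroup.inclusion hle) (by
        rw [(MonoidHom.ker_eq_bot_iff _).2 (Subgroup.inclusion_injective hle)]; exact bot_le)
    haveI : Group.IsNilpotent E₃ := Group.nilpotent_of_mulEquiv (Subgroup.subgroupOfEquivOfLe h3.1)
    refine ⟨inferInstance, ?_, (Subgroup.normal_subgroupOf_iff_le_normalizer h3.1).1 hEn⟩
    rw [← CfsgLib.BG.map_commutator_subtype]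
    exact (Subgroup.map_subgroupOf_eq_of_le h3.1).ge.trans (Subgroup.map_mono hle)

end Cfsg.Agent.S1415
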