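import Cfsg.Statements.S0330
import Cfsg.Agent.Lib.Suzuki.Symp
-- import your own Cfsg.Agent.* helpers here

set_option autoImplicit false
open Cfsg

namespace Cfsg.Agent.S0330

open CfsgLib.Suzuki

/-- A Sylow 2-subgroup `P` of the Suzuki group (field with `q = 2^(2m+1)` elements, `m ≥ 1`) has order `q²` and
exponent `4`; its centre coincides with its commutator subgroup and has order `q`. -/
theorem result {F : Type*} [Field F] [Fintype F] {m : ℕ} (hm : 1 ≤ m)
    (hF : Fintype.card F = 2 ^ (2 * m + 1)) (P : Sylow 2 (Cfsg.Sz F m)) :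
    Nat.card P = (2 ^ (2 * m + 1)) ^ 2 ∧ Monoid.exponent P = 4 ∧
      Subgroup.center P = commutator P ∧ Nat.card (Subgroup.center P) = 2 ^ (2 * m + 1) := by
  haveI := charP_two_of_card hF
  haveI : Param F m := ⟨hm, hF⟩
  let e : P ≃* grpU F m := P.equiv (sylowU F m)
  have hZ : (Subgroup.center (grpU F m)) = commutator (grpU F m) :=
    Subgroup.map_injective (grpU F m).subtype_injective
      (by rw [grpZ_eq_center, Subgroup.map_subtype_commutator, grpZ_eq_commutator])
  have hC : (Subgroup.center P).map e.toMonoidHom = Subgroup.center (grpU F m) := by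
    ext u
    obtain ⟨v, rfl⟩ := e.surjective u
    rw [Subgroup.mem_center_iff]
    constructor
    · rintro ⟨w, hw, h⟩ g
      obtain rfl : w = v := e.injective h
      obtain ⟨g', rfl⟩ := e.surjective g
      rw [← map_mul, ← map_mul, Subgroup.mem_center_iff.1 hw g']
    · intro h
      refine ⟨v, Subgroup.mem_center_iff.2 fun g' => e.injective ?_, rfl⟩
      rw [map_mul, map_mul, h]
  refine ⟨?_, ?_, ?_, ?_⟩
  · rw [Nat.card_congr e.toEquiv, natCard_grpU, hF]
  · rw [Monoid.exponent_eq_of_mulEquiv e, exponent_grpU]
  · refine Subgroup.map_injective (f := e.toMonoidHom) e.injective ?_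
    rw [commutator_def, Subgroup.map_commutator, Subgroup.map_top_of_surjective _ e.surjective,
      ← commutator_def, ← hZ, hC]
  · rw [Nat.card_congr ((Subgroup.center P).equivMapOfInjective e.toMonoidHom e.injective).toEquiv,
      hC, Nat.card_congr ((Subgroup.center (grpU F m)).equivMapOfInjective (grpU F m).subtype
        (grpU F m).subtype_injective).toEquiv, grpZ_eq_center, natCard_grpZ, hF]

end Cfsg.Agent.S0330
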