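import Cfsg.Statements.S4456
import Cfsg.Agent.Lib.Char.PResidual
import Cfsg.Agent.Lib.Char.AbelianQuotient

set_option autoImplicit false
open Cfsg

namespace Cfsg.Agent.S4456

open CfsgLib.Char
open scoped CfsgLib.Char

/-- Let p be a prime and G a finite group such that p divides the degree of every irreducible character of G of degree greater than one. Then G has a normal p-complement: a normal subgroup of order prime to p whose index is a power of p. -/
theorem result {G : Type*} [Group G] [Finite G] (p : ℕ) (hp : p.Prime) (hdeg : ∀ χ : Cfsg.IrrCharacter G, Cfsg.charDegree (χ : G → ℂ) ≠ 1 → p ∣ Cfsg.charDegree (χ : G → ℂ)) : ∃ N : Subgroup G, N.Normal ∧ (Nat.card N).Coprime p ∧ ∃ k : ℕ, N.index = p ^ k := by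
  classical
  haveI := Fact.mk hp
  haveI hn : (Cfsg.pResidual p G).Normal := CfsgLib.Transfer.pResidual_normal p G
  obtain ⟨k, hk⟩ := CfsgLib.Char.PResidual.index_eq_pow (G := G) (p := p)
  refine ⟨Cfsg.pResidual p G, hn, ?_, k, hk⟩
  rw [Nat.coprime_comm, hp.coprime_iff_not_dvd]
  intro hdvd
  set K := Cfsg.pResidual p G with hK
  haveI : Fintype K := Fintype.ofFinite _
  haveI : Fintype G := Fintype.ofFinite _
  have hone : ∀ θ : Cfsg.IrrCharacter K, (∀ g, CfsgLib.Char.conjBy K (θ : K → ℂ) g = θ) →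
      ¬ p ∣ Cfsg.charDegree (θ : K → ℂ) → (θ : K → ℂ) 1 = 1 := by
    intro θ hinv hpd
    obtain ⟨d, -, hd⟩ := CfsgLib.Char.exists_nat_degree_irr θ.2
    have hc : Cfsg.charDegree (θ : K → ℂ) = d := by simp [Cfsg.charDegree, hd]
    rw [hc] at hpd
    obtain ⟨χ, hχ, hres⟩ := CfsgLib.Char.PResidual.exists_extension θ.2 hinv hd hpd
    have hχ1 : χ 1 = d := by
      have := hres 1
      rw [OneMemClass.coe_one, hd] at this
      exact this
    have hcχ : Cfsg.charDegree χ = d := by simp [Cfsg.charDegree, hχ1]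
    by_contra hne
    refine hpd (hcχ ▸ hdeg ⟨χ, hχ⟩ ?_)
    rw [show ((⟨χ, hχ⟩ : Cfsg.IrrCharacter G) : G → ℂ) = χ from rfl, hcχ]
    intro h1
    exact hne (by rw [hd, h1, Nat.cast_one])
  have h := CfsgLib.Char.PResidual.card_congr (G := G) (p := p)
  rw [(ZMod.natCast_eq_zero_iff _ _).mpr hdvd, ← Finset.sum_filter] at h
  rw [Finset.sum_congr rfl (g := fun _ => (1 : ZMod p)) (fun θ hθ => by
    obtain ⟨-, h1, h2⟩ := Finset.mem_filter.mp hθ
    rw [show Cfsg.charDegree (θ : K → ℂ) = 1 by simp [Cfsg.charDegree, hone θ h1 h2], Nat.cast_one,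
      one_pow]), Finset.sum_const, nsmul_eq_mul, mul_one] at h
  have hdiv := (ZMod.natCast_eq_zero_iff _ _).mp h.symm
  let S : Subgroup (K →* ℂˣ) :=
    { carrier := {f | ∀ (g : G) (n n' : K), (n' : G) = g * n * g⁻¹ → f n' = f n}
      one_mem' := fun _ _ _ _ => rfl
      mul_mem' := fun {a b} ha hb g n n' e => by
        rw [MonoidHom.mul_apply, MonoidHom.mul_apply, ha g n n' e, hb g n n' e]
      inv_mem' := fun {a} ha g n n' e => by
        rw [MonoidHom.inv_apply, MonoidHom.inv_apply, ha g n n' e] }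
  have hconj : ∀ θ : Cfsg.IrrCharacter K, (∀ g, CfsgLib.Char.conjBy K (θ : K → ℂ) g = θ) ↔
      ∀ (g : G) (n n' : K), (n' : G) = g * n * g⁻¹ → (θ : K → ℂ) n' = (θ : K → ℂ) n := by
    intro θ
    constructor
    · intro h g n n' e
      obtain rfl : n' = ⟨g * n * g⁻¹, hn.conj_mem n n.2 g⟩ := Subtype.ext e
      have := congrFun (h g) n
      rw [CfsgLib.Char.conjBy_apply] at this
      exact this
    · intro h g
      funext n
      rw [CfsgLib.Char.conjBy_apply]
      exact h g n _ rfl
  have hS : (Finset.univ.filter fun θ : Cfsg.IrrCharacter K =>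
      (∀ g, CfsgLib.Char.conjBy K (θ : K → ℂ) g = θ) ∧ ¬ p ∣ Cfsg.charDegree (θ : K → ℂ)).card =
      Nat.card S := by
    rw [← Fintype.card_subtype, ← Nat.card_eq_fintype_card]
    refine Nat.card_congr
      { toFun := fun θ => ⟨CfsgLib.Char.linearHom (CfsgLib.Char.isCharacter_of_isIrr θ.1.2)
          (hone θ.1 θ.2.1 θ.2.2), fun g n n' e => Units.ext ((hconj θ.1).mp θ.2.1 g n n' e)⟩
        invFun := fun f => ⟨⟨fun x => (f.1 x : ℂ), CfsgLib.Char.isIrrCharacter_monoidHom f.1⟩,
          (hconj _).mpr fun g n n' e => congrArg Units.val (f.2 g n n' e), by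
            rw [show Cfsg.charDegree (fun x : K => (f.1 x : ℂ)) = 1 by simp [Cfsg.charDegree]]
            exact hp.not_dvd_one⟩
        left_inv := fun θ => rfl
        right_inv := fun f => Subtype.ext (MonoidHom.ext fun x => Units.ext rfl) }
  rw [hS] at hdiv
  haveI : Finite (K →* ℂˣ) := Finite.of_equiv _ (CfsgLib.Char.linearEquiv (G := K))
  have hd2 : p ∣ Nat.card (K →* ℂˣ) := hdiv.trans (Subgroup.card_subgroup_dvd_card S)
  rw [← Nat.card_congr (CfsgLib.Char.linearEquiv (G := K)), CfsgLib.Char.card_linear] at hd2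
  exact CfsgLib.Char.PResidual.not_dvd_commutator_index p CfsgLib.Char.PResidual.pResidual_generated hd2

end Cfsg.Agent.S4456
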