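import Cfsg.Statements.S0187
import Cfsg.Agent.Lib.Char.Counting

set_option autoImplicit false
open Cfsg

namespace Cfsg.Agent.S0187

open CfsgLib.Char
open scoped CfsgLib.Char

/-- A finite group is commutative if and only if every irreducible complex character has degree 1. -/
theorem result {G : Type*} [Group G] [Finite G] : (∀ a b : G, a * b = b * a) ↔ ∀ χ : Cfsg.IrrCharacter G, (χ : G → ℂ) 1 = 1 := by
  classical
  have : Fintype G := Fintype.ofFinite G
  have hcard : (∀ a b : G, a * b = b * a) ↔ Nat.card (ConjClasses G) = Nat.card G := by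
    constructor
    · intro h
      refine (Nat.card_eq_of_bijective ConjClasses.mk ⟨fun a b e => ?_, ConjClasses.exists_rep⟩).symm
      obtain ⟨c, hc⟩ := isConj_iff.mp (ConjClasses.mk_eq_mk_iff_isConj.mp e)
      rw [← hc, h c a, mul_assoc, mul_inv_cancel, mul_one]
    · intro h a b
      have hb : Function.Bijective (ConjClasses.mk : G → ConjClasses G) :=
        (Nat.bijective_iff_surjective_and_card _).mpr ⟨ConjClasses.exists_rep, h.symm⟩
      have e := hb.1 (ConjClasses.mk_eq_mk_iff_isConj.mpr (isConj_iff.mpr ⟨a, rfl⟩) : ConjClasses.mk b = ConjClasses.mk (a * b * a⁻¹))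
      nth_rw 2 [e]
      group
  choose d hd0 hd using fun χ : Cfsg.IrrCharacter G => exists_nat_degree_irr χ.2
  have hs : ∑ χ : Cfsg.IrrCharacter G, d χ ^ 2 = Nat.card G := by
    have := sum_sq_degree (G := G)
    simp only [hd] at this
    exact_mod_cast this
  rw [hcard, ← card_irr_eq_card_conjClasses, Nat.card_eq_fintype_card (α := Cfsg.IrrCharacter G), ← hs, Finset.card_univ.symm, Finset.card_eq_sum_ones]
  constructor
  · intro h χ
    have := (Finset.sum_eq_sum_iff_of_le fun i _ => Nat.one_le_pow 2 _ (hd0 i)).mp h χ (Finset.mem_univ χ)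
    rw [hd, (Nat.pow_eq_one.mp this.symm).resolve_right two_ne_zero, Nat.cast_one]
  · intro h
    refine Finset.sum_congr rfl fun χ _ => ?_
    have h1 := h χ
    rw [hd, Nat.cast_eq_one] at h1
    rw [h1, one_pow]

end Cfsg.Agent.S0187
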