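import Cfsg.Statements.S0561
import Mathlib
import Cfsg.Agent.Lib.Hall.System

set_option autoImplicit false
open Pointwise
open Cfsg

namespace Cfsg.Agent.S0561
open Pointwise
open CfsgLib.Coprime CfsgLib.Hall

theorem card_hall {G : Type*} [Group G] [Finite G] {A : Subgroup G}
    (hA : (Nat.card A).Coprime A.index) :
    Nat.card A = ∏ p ∈ primesOf G ∩ ((Nat.card A).primeFactors.subtype Nat.Prime),
      (p : ℕ) ^ (Nat.card G).factorization p := by
  have hfac : ∀ p ∈ (Nat.card A).primeFactors,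
      (Nat.card A).factorization p = (Nat.card G).factorization p := by
    intro p hp
    obtain ⟨hpp, hpd, -⟩ := Nat.mem_primeFactors.mp hp
    rw [← A.card_mul_index, Nat.factorization_mul Nat.card_pos.ne' A.index_ne_zero_of_finite,
      Finsupp.add_apply, Nat.factorization_eq_zero_of_not_dvd (n := A.index) fun h =>
        hpp.ne_one (Nat.eq_one_of_dvd_coprimes hA hpd h), add_zero]
  rw [Finset.inter_eq_right.mpr fun p hp => mem_primesOf.mpr
    ((Nat.dvd_of_mem_primeFactors (Finset.mem_subtype.mp hp)).trans A.card_subgroup_dvd_card)]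
  refine Eq.trans ?_
    (Finset.prod_subtype_eq_prod_filter (fun p => p ^ (Nat.card G).factorization p)).symm
  rw [Finset.filter_true_of_mem fun p hp => Nat.prime_of_mem_primeFactors hp,
    ← Finset.prod_congr rfl fun p hp => congrArg (p ^ ·) (hfac p hp)]
  exact (Nat.prod_factorization_pow_eq_self Nat.card_pos.ne').symm


/-- Let the finite solvable group G be the product HK of subgroups, and let A be normal in H and B normal in K, where A and B are Hall subgroups of G (order coprime to index). Then for all x, y the product set of xAx⁻¹ and yBy⁻¹ is a subgroup of G. -/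
theorem result {G : Type*} [Group G] [Finite G] [Group.IsSolvable G] (H K A B : Subgroup G) (hHK : ∀ g : G, ∃ h ∈ H, ∃ k ∈ K, g = h * k) (hA : A ≤ H) (hAn : (A.subgroupOf H).Normal) (hB : B ≤ K) (hBn : (B.subgroupOf K).Normal) (hAh : (Nat.card A).Coprime A.index) (hBh : (Nat.card B).Coprime B.index) (x y : G) : ∃ S : Subgroup G, (S : Set G) = ((MulAut.conj x • A : Subgroup G) : Set G) * ((MulAut.conj y • B : Subgroup G) : Set G) := by
  classical
  obtain ⟨Kc, hKc⟩ := exists_complementSystem (G := G)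
  set s : Finset Nat.Primes := (Nat.card A).primeFactors.subtype Nat.Prime
  set t : Finset Nat.Primes := (Nat.card B).primeFactors.subtype Nat.Prime
  set A₀ := (primesOf G \ s).inf Kc
  set B₀ := (primesOf G \ t).inf Kc
  set T := (primesOf G \ (s ∪ t)).inf Kc
  have hA₀ : Nat.card A₀ = Nat.card A := by rw [index_inf_sdiff hKc, card_hall hAh]
  have hB₀ : Nat.card B₀ = Nat.card B := by rw [index_inf_sdiff hKc, card_hall hBh]
  obtain ⟨u, hu⟩ := exists_conj_eq A.card_mul_index.symm hAh (H := A) rfl hA₀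
  obtain ⟨v, hv⟩ := exists_conj_eq B.card_mul_index.symm hBh (H := B) rfl hB₀
  have hT : ((MulAut.conj u • A : Subgroup G) : Set G) * ((MulAut.conj v • B : Subgroup G) : Set G) =
      (T : Set G) := by
    rw [hu, hv]
    refine Set.Subset.antisymm ?_ fun g hg => ?_
    · rintro _ ⟨a, ha, b, hb, rfl⟩
      exact mul_mem
        (SetLike.le_def.mp (Finset.inf_mono (f := Kc)
          (Finset.sdiff_subset_sdiff le_rfl Finset.subset_union_left)) ha)
        (SetLike.le_def.mp (Finset.inf_mono (f := Kc)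
          (Finset.sdiff_subset_sdiff le_rfl Finset.subset_union_right)) hb)
    · obtain ⟨a, ha, b, hb, rfl⟩ := exists_mul_eq_finset_inf hKc s t hg
      exact ⟨a, ha, b, hb, rfl⟩
  have hAc : ∀ h ∈ H, ∀ a ∈ A, h * a * h⁻¹ ∈ A := fun h hh a ha =>
    Subgroup.mem_subgroupOf.mp (hAn.conj_mem ⟨a, hA ha⟩ (Subgroup.mem_subgroupOf.mpr ha) ⟨h, hh⟩)
  have hBc : ∀ k ∈ K, ∀ b ∈ B, k * b * k⁻¹ ∈ B := fun k hk b hb =>
    Subgroup.mem_subgroupOf.mp (hBn.conj_mem ⟨b, hB hb⟩ (Subgroup.mem_subgroupOf.mpr hb) ⟨k, hk⟩)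
  have key : ∀ x y : G, ∃ z : G, ∀ g : G,
      g ∈ ((MulAut.conj x • A : Subgroup G) : Set G) * ((MulAut.conj y • B : Subgroup G) : Set G) ↔
        z⁻¹ * g * z ∈ (A : Set G) * (B : Set G) := by
    intro x y
    obtain ⟨h, hh, k, hk, hhk⟩ := hHK (x⁻¹ * y)
    have hy : y = x * h * k := by rw [mul_assoc, ← hhk, mul_inv_cancel_left]
    refine ⟨x * h, fun g => ⟨?_, ?_⟩⟩
    · rintro ⟨a', ha', b', hb', rfl⟩
      have ha := hAc h⁻¹ (inv_mem hh) _ (mem_conj_smul_iff.mp ha')
      have hb := hBc k hk _ (mem_conj_smul_iff.mp hb')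
      refine ⟨_, ha, _, hb, ?_⟩
      simp only [hy]
      group
    · rintro ⟨a, ha, b, hb, hab⟩
      refine ⟨x * h * a * (x * h)⁻¹, mem_conj_smul_iff.mpr ?_, x * h * b * (x * h)⁻¹,
        mem_conj_smul_iff.mpr ?_, ?_⟩
      · have h1 := hAc h hh a ha
        simpa [mul_assoc] using h1
      · have h1 := hBc k⁻¹ (inv_mem hk) b hb
        simpa [hy, mul_assoc] using h1
      · simp only at hab ⊢
        rw [show g = x * h * ((x * h)⁻¹ * g * (x * h)) * (x * h)⁻¹ by group, ← hab]
        group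
  obtain ⟨z₀, hz₀⟩ := key u v
  obtain ⟨z, hz⟩ := key x y
  refine ⟨MulAut.conj (z * z₀⁻¹) • T, Set.ext fun g => ?_⟩
  rw [SetLike.mem_coe, mem_conj_smul_iff, ← SetLike.mem_coe, ← hT, hz, hz₀]
  simp [mul_assoc]

end Cfsg.Agent.S0561
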