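import Cfsg.Statements.S0562
import Mathlib

set_option autoImplicit false
set_option linter.style.haveILetI false
open Cfsg

namespace Cfsg.Agent.S0562

/-- Let the finite group G be the product HK of subgroups, A normal in H, B normal in K, and L the normalizer of the subgroup generated by A and B. Then every element of L is a product of an element of L ∩ H and an element of L ∩ K. -/
theorem result {G : Type*} [Group G] [Finite G] (H K A B : Subgroup G) (hHK : ∀ g : G, ∃ h ∈ H, ∃ k ∈ K, g = h * k) (hA : A ≤ H) (hAn : (A.subgroupOf H).Normal) (hB : B ≤ K) (hBn : (B.subgroupOf K).Normal) : ∀ g ∈ Subgroup.normalizer ((A ⊔ B : Subgroup G) : Set G), ∃ h ∈ Subgroup.normalizer ((A ⊔ B : Subgroup G) : Set G) ⊓ H, ∃ k ∈ Subgroup.normalizer ((A ⊔ B : Subgroup G) : Set G) ⊓ K, g = h * k := by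
  intro g hg
  obtain ⟨h, hh, k, hk, rfl⟩ := hHK g
  rw [Subgroup.normal_subgroupOf_iff_le_normalizer hA] at hAn
  rw [Subgroup.normal_subgroupOf_iff_le_normalizer hB] at hBn
  set S := A ⊔ B with hS
  set N := Subgroup.normalizer (S : Set G)
  have key : S.map (MulAut.conj k⁻¹).toMonoidHom ≤ S := by
    rw [Subgroup.map_le_iff_le_comap]
    refine sup_le (fun a ha => ?_) (fun b hb => ?_)
    · show k⁻¹ * a * k⁻¹⁻¹ ∈ S
      have hha : h * a * h⁻¹ ∈ S :=
        Subgroup.mem_sup_left ((Subgroup.mem_normalizer_iff.mp (hAn hh) a).mp ha)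
      have := (Subgroup.mem_normalizer_iff.mp (N.inv_mem hg) _).mp hha
      simpa [mul_assoc] using this
    · show k⁻¹ * b * k⁻¹⁻¹ ∈ S
      exact Subgroup.mem_sup_right ((Subgroup.mem_normalizer_iff.mp (hBn (K.inv_mem hk)) b).mp hb)
  have heq : S.map (MulAut.conj k⁻¹).toMonoidHom = S :=
    Subgroup.eq_of_le_of_card_ge key
      (Subgroup.card_map_of_injective (K := S) (MulAut.conj k⁻¹).injective).ge
  have hkN : k ∈ N := by
    rw [Subgroup.mem_normalizer_iff]
    intro u
    constructor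
    · intro hu
      rw [← heq] at hu
      obtain ⟨v, hv, rfl⟩ := hu
      show k * (k⁻¹ * v * k⁻¹⁻¹) * k⁻¹ ∈ S
      simpa [mul_assoc] using hv
    · intro hu
      rw [← heq]
      exact ⟨_, hu, by simp [mul_assoc]⟩
  exact ⟨h, ⟨by simpa using N.mul_mem hg (N.inv_mem hkN), hh⟩, k, ⟨hkN, hk⟩, rfl⟩

end Cfsg.Agent.S0562
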