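import Cfsg.Statements.S0018
import Mathlib
import Cfsg.Agent.Lib.PSolvable.Core

set_option autoImplicit false
open Cfsg

namespace Cfsg.Agent.S0018

/-- A finite solvable group whose Sylow p-subgroups are abelian has p-length one: a Sylow p-subgroup together with the largest normal subgroup of order prime to p generates a normal subgroup. -/
theorem result {G : Type*} [Group G] [Finite G] [Group.IsSolvable G]
    (p : ℕ) [Fact p.Prime] (P : Sylow p G) (hP : IsMulCommutative P) :
    ((P : Subgroup G) ⊔ Cfsg.pPrimeCore p G).Normal := by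
  haveI := CfsgLib.Transfer.pPrimeCore_normal p G
  set f := QuotientGroup.mk' (Cfsg.pPrimeCore p G) with hf
  haveI := CfsgLib.Fitting.pCore_normal (G := G ⧸ Cfsg.pPrimeCore p G) p
  have hsurj : Function.Surjective f := QuotientGroup.mk'_surjective _
  set R := Cfsg.pCore p (G ⧸ Cfsg.pPrimeCore p G)
  have hC : Subgroup.centralizer (R : Set (G ⧸ Cfsg.pPrimeCore p G)) ≤ R :=
    CfsgLib.PSolvable.centralizer_pCore_le
      (CfsgLib.PSolvable.isPSolvable_of_surjective f hsurj
        (CfsgLib.PSolvable.isPSolvable_of_isSolvable inferInstance))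
      (CfsgLib.PSolvable.pPrimeCore_eq_bot_of_ker hsurj (QuotientGroup.ker_mk' _))
  let Pb := P.mapSurjective hsurj
  have hRP : R ≤ (P : Subgroup G).map f :=
    IsPGroup.le_sylow_of_normal (CfsgLib.Fitting.pCore_isPGroup p) Pb
  have hPR : (P : Subgroup G).map f ≤ R := by
    intro y hy
    refine hC ?_
    rintro r hr
    obtain ⟨a, ha, rfl⟩ := hy
    obtain ⟨b, hb, rfl⟩ := hRP hr
    rw [← map_mul, ← map_mul]
    exact congrArg f (congrArg Subtype.val (mul_comm' (⟨b, hb⟩ : (P : Subgroup G)) ⟨a, ha⟩))
  have heq : (P : Subgroup G) ⊔ Cfsg.pPrimeCore p G = ((P : Subgroup G).map f).comap f := by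
    rw [Subgroup.comap_map_eq, hf, QuotientGroup.ker_mk']
  rw [heq, le_antisymm hPR hRP]
  exact (CfsgLib.Fitting.pCore_normal p).comap f

end Cfsg.Agent.S0018
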