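import Mathlib
import Cfsg.Statements.S1894

set_option autoImplicit false
set_option linter.style.haveILetI false
set_option linter.unusedVariables false
open Cfsg

namespace Cfsg.Agent.S1894

theorem exists_central {p : ℕ} [Fact p.Prime] {Q : Type*} [Group Q] [Finite Q] (hQ : IsPGroup p Q)
    (N : Subgroup Q) [N.Normal] (hN : N ≠ ⊥) : ∃ z ∈ N, z ∈ Subgroup.center Q ∧ z ≠ 1 := by
  letI : MulAction Q N := MulAction.compHom N (MulAut.conjNormal : Q →* MulAut N)
  obtain ⟨n, hn⟩ := IsPGroup.iff_card.mp (hQ.to_subgroup N)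
  have hn0 : n ≠ 0 := by rintro rfl; exact hN (Subgroup.card_eq_one.mp (by simpa using hn))
  obtain ⟨b, hb, hne⟩ := hQ.exists_fixed_point_of_prime_dvd_card_of_fixed_point (α := N)
    (by rw [hn]; exact dvd_pow_self p hn0) (a := 1) (fun g => map_one (MulAut.conjNormal g))
  refine ⟨b, b.2, Subgroup.mem_center_iff.mpr fun g => ?_, fun h => hne (Subtype.ext h.symm)⟩
  have h1 : g * (b : Q) * g⁻¹ = b := by
    have := congrArg Subtype.val (hb g)
    simpa [MulAction.compHom_smul_def] using this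
  exact mul_inv_eq_iff_eq_mul.mp h1

/-- Let P be a finite p-group, A a normal subgroup of P and B an abelian subgroup of A that is normal in P. Then some subgroup C of A containing B is normal in P and is self-centralizing and normal in A (C ∈ SCN(A)). -/
theorem result {P : Type*} [Group P] [Finite P] {p : ℕ} [Fact p.Prime] (hP : IsPGroup p P)
    (A : Subgroup P) [A.Normal] (B : Subgroup P) [B.Normal] (hBA : B ≤ A) (hB : IsMulCommutative B) :
    ∃ C : Subgroup P, C.Normal ∧ B ≤ C ∧ Cfsg.IsSCN A C := by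
  obtain ⟨C, ⟨hCn, hBC, hCA, hCc⟩, hmax⟩ := (Set.toFinite {C : Subgroup P | C.Normal ∧ B ≤ C ∧ C ≤ A ∧
    IsMulCommutative C}).exists_maximal ⟨B, inferInstance, le_rfl, hBA, hB⟩
  haveI := hCn
  refine ⟨C, hCn, hBC, hCA, by rw [Subgroup.normalizer_eq_top]; exact le_top, le_antisymm ?_
    (le_inf hCA (Subgroup.le_centralizer_iff_isMulCommutative.mpr hCc))⟩
  by_contra hD
  set D := A ⊓ Subgroup.centralizer (C : Set P) with hDdef
  have hCD : C ≤ D := le_inf hCA (Subgroup.le_centralizer_iff_isMulCommutative.mpr hCc)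
  haveI : (D.map (QuotientGroup.mk' C)).Normal := (inferInstance : D.Normal).map _ (QuotientGroup.mk'_surjective C)
  have hne : D.map (QuotientGroup.mk' C) ≠ ⊥ := fun h => by
    rw [Subgroup.map_eq_bot_iff, QuotientGroup.ker_mk'] at h
    exact hD h
  obtain ⟨_, ⟨x, hx, rfl⟩, hzc, hz1⟩ := exists_central (hP.to_quotient C) _ hne
  have hxC : x ∉ C := fun h => hz1 ((QuotientGroup.eq_one_iff x).mpr h)
  set C' := C ⊔ Subgroup.zpowers x with hC'
  have hC'n : C'.Normal := ⟨fun c hc g => by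
    obtain ⟨c₀, hc₀, y, ⟨j, rfl⟩, rfl⟩ := Subgroup.mem_sup_of_normal_left.mp hc
    rw [show g * (c₀ * x ^ j) * g⁻¹ = (g * c₀ * g⁻¹) * ((g * x ^ j * g⁻¹ * (x ^ j)⁻¹) * x ^ j) by group]
    refine Subgroup.mul_mem _ (Subgroup.mem_sup_left (hCn.conj_mem _ hc₀ g))
      (Subgroup.mul_mem _ (Subgroup.mem_sup_left ?_) (Subgroup.mem_sup_right ⟨j, rfl⟩))
    rw [← QuotientGroup.eq_one_iff]
    have hc' : Commute (QuotientGroup.mk g : P ⧸ C) (QuotientGroup.mk' C x ^ j) :=
      (Commute.zpow_right (Subgroup.mem_center_iff.mp hzc _) j)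
    simp only [QuotientGroup.mk_mul, QuotientGroup.mk_inv, QuotientGroup.mk_zpow]
    rw [QuotientGroup.mk'_apply] at hc'
    rw [hc'.eq, mul_inv_cancel_right, mul_inv_cancel]⟩
  have hC'c : IsMulCommutative C' := Subgroup.le_centralizer_iff_isMulCommutative.mp (by
    have h1 : Subgroup.zpowers x ≤ Subgroup.centralizer (C : Set P) := Subgroup.zpowers_le.mpr hx.2
    refine sup_le ?_ ?_
    · rw [Subgroup.le_centralizer_iff]
      exact sup_le (Subgroup.le_centralizer_iff_isMulCommutative.mpr hCc) h1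
    · rw [Subgroup.le_centralizer_iff]
      refine sup_le (Subgroup.le_centralizer_iff.mp h1) ?_
      exact Subgroup.le_centralizer _)
  exact hxC (hmax ⟨hC'n, hBC.trans le_sup_left, sup_le hCA (Subgroup.zpowers_le.mpr hx.1), hC'c⟩
    le_sup_left (Subgroup.mem_sup_right (Subgroup.mem_zpowers x)))

end Cfsg.Agent.S1894
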