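import Cfsg.Statements.S0119
import Cfsg.Agent.Lib.Critical.Basic
import Cfsg.Agent.Lib.PSolvable.Omega

set_option autoImplicit false
open Cfsg

namespace Cfsg.Agent.S0119

open scoped commutatorElement

variable {G : Type*} [Group G]

/-- `g ↦ ⁅z, g⁆` when all these commutators are central. -/
def commHom (z : G) (h : ∀ g, ⁅z, g⁆ ∈ Subgroup.center G) : G →* Subgroup.center G where
  toFun g := ⟨⁅z, g⁆, h g⟩
  map_one' := Subtype.ext (commutatorElement_one_right z)
  map_mul' a b := Subtype.ext (by
    show ⁅z, a * b⁆ = ⁅z, a⁆ * ⁅z, b⁆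
    rw [show ⁅z, a * b⁆ = ⁅z, a⁆ * (a * ⁅z, b⁆ * a⁻¹) by simp only [commutatorElement_def]; group,
      Subgroup.mem_center_iff.mp (h b) a, mul_inv_cancel_right])

theorem commutator_le_ker (z : G) (h : ∀ g, ⁅z, g⁆ ∈ Subgroup.center G) {v : G}
    (hv : v ∈ commutator G) : commHom z h v = 1 := by
  suffices commutator G ≤ (commHom z h).ker from MonoidHom.mem_ker.mp (this hv)
  rw [commutator_def, Subgroup.commutator_le]
  intro a _ b _
  rw [MonoidHom.mem_ker, map_commutatorElement, commutatorElement_eq_one_iff_mul_comm]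
  exact Subtype.ext (Subgroup.mem_center_iff.mp (commHom z h b).2 (commHom z h a : G))


/-- If a p'-group A of automorphisms of a p-group G satisfies G = [G, A] and acts trivially on every characteristic abelian subgroup, then G is special with centre equal to the fixed points of A. -/
theorem result {G : Type*} [Group G] [Finite G] {p : ℕ} [Fact p.Prime] (hG : IsPGroup p G) (A : Subgroup (MulAut G)) (hA : Nat.Coprime (Nat.card A) p) (hGA : Subgroup.closure {x : G | ∃ g : G, ∃ a ∈ A, x = g⁻¹ * a g} = ⊤) (hchar : ∀ H : Subgroup G, H.Characteristic → IsMulCommutative H → ∀ a ∈ A, ∀ h ∈ H, a h = h) : Cfsg.IsSpecial p G ∧ (∀ g : G, (g ∈ Subgroup.center G ↔ ∀ a ∈ A, a g = g)) := by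
  have hp : p.Prime := Fact.out
  haveI : Group.IsNilpotent G := hG.isNilpotent
  set Z := Subgroup.center G with hZ
  have hfixZ : ∀ a ∈ A, ∀ z ∈ Z, a z = z := fun a ha z hz => hchar Z inferInstance inferInstance a ha z hz
  have hcentral : ∀ H : Subgroup G, H.Characteristic → IsMulCommutative H → H ≤ Z := by
    intro H hH hHc h hh
    haveI := hH
    have hgen : (⊤ : Subgroup G) ≤ Subgroup.centralizer ({h} : Set G) := by
      rw [← hGA, Subgroup.closure_le]
      rintro _ ⟨g, a, ha, rfl⟩
      rw [SetLike.mem_coe, Subgroup.mem_centralizer_singleton_iff]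
      have h2 : a (g * h * g⁻¹) = g * h * g⁻¹ :=
        hchar H hH hHc a ha _ (Subgroup.Normal.conj_mem inferInstance h hh g)
      rw [map_mul, map_mul, map_inv, hchar H hH hHc a ha h hh] at h2
      calc g⁻¹ * a g * h = g⁻¹ * (a g * h * (a g)⁻¹) * a g := by group
        _ = g⁻¹ * (g * h * g⁻¹) * a g := by rw [h2]
        _ = h * (g⁻¹ * a g) := by group
    rw [hZ, Subgroup.mem_center_iff]
    exact fun g => Subgroup.mem_centralizer_singleton_iff.mp (hgen (Subgroup.mem_top g))
  -- class two
  have hH2 : Subgroup.upperCentralSeries G 2 ⊓ commutator G ≤ Z := by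
    refine hcentral _ inferInstance ⟨⟨fun u v => Subtype.ext ?_⟩⟩
    have hu : ∀ g, ⁅(u : G), g⁆ ∈ Z := fun g => by
      have := Subgroup.mem_upperCentralSeries_succ_iff.mp (Subgroup.mem_inf.mp u.2).1 g
      rwa [Subgroup.upperCentralSeries_one] at this
    have hv : (v : G) ∈ commutator G := (Subgroup.mem_inf.mp v.2).2
    have h1 := congrArg Subtype.val (commutator_le_ker (u : G) hu hv)
    simp only [OneMemClass.coe_one] at h1
    have h2 : ⁅(u : G), (v : G)⁆ = 1 := h1
    rw [Subgroup.coe_mul, Subgroup.coe_mul]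
    exact commutatorElement_eq_one_iff_mul_comm.mp h2
  have hG' : commutator G ≤ Z := by
    obtain ⟨c, hc⟩ := (Subgroup.isNilpotent_iff_lowerCentralSeries (⊤ : Subgroup G)).mp inferInstance
    have key : ∀ d k, 1 ≤ k → c ≤ k + d → (⊤ : Subgroup G).lowerCentralSeries k ≤ Z := by
      intro d
      induction d with
      | zero =>
        exact fun k _ hk => ((⊤ : Subgroup G).lowerCentralSeries_antitone
          (show c ≤ k by omega)).trans (hc.le.trans bot_le)
      | succ d ih =>
        intro k hk hkd
        refine (le_inf (fun x hx => ?_) ?_).trans hH2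
        · rw [Subgroup.mem_upperCentralSeries_succ_iff]
          intro y
          rw [Subgroup.upperCentralSeries_one]
          refine ih (k + 1) (by omega) (by omega) ?_
          rw [Subgroup.lowerCentralSeries_succ]
          exact Subgroup.commutator_mem_commutator hx (Subgroup.mem_top y)
        · rw [← Subgroup.top_lowerCentralSeries_one]
          exact (⊤ : Subgroup G).lowerCentralSeries_antitone hk
    rw [← Subgroup.top_lowerCentralSeries_one]
    exact key c 1 le_rfl (by omega)
  have hcz : ∀ x y : G, ⁅x, y⁆ ∈ Z := fun x y =>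
    hG' ((commutator_def G).ge
      (Subgroup.commutator_mem_commutator (Subgroup.mem_top x) (Subgroup.mem_top y)))
  have hpow : ∀ x y : G, ∀ m : ℕ, ⁅x, y ^ m⁆ = ⁅x, y⁆ ^ m := fun x y m =>
    (congrArg Subtype.val (map_pow (commHom x (hcz x)) y m)).trans (Subgroup.coe_pow _ _ _)
  -- exponent
  have hexp : ∀ x y : G, ⁅x, y⁆ ^ p = 1 := by
    obtain ⟨N, hN⟩ := IsPGroup.iff_card.mp hG
    have key : ∀ d e, 1 ≤ e → N ≤ e + d → ∀ x y : G, ⁅x, y⁆ ^ p ^ e = 1 := by
      intro d
      induction d with
      | zero =>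
        intro e _ he x y
        refine orderOf_dvd_iff_pow_eq_one.mp ((orderOf_dvd_natCard _).trans ?_)
        rw [hN]
        exact pow_dvd_pow p (by omega)
      | succ d ih =>
        intro e he hed x y
        have hsucc := ih (e + 1) (by omega) (by omega)
        set K := Subgroup.closure (Set.range fun g : G => g ^ p ^ e) with hK
        have hKc : K.Characteristic := Subgroup.characteristic_iff_map_le.mpr fun φ => by
          rw [hK, MonoidHom.map_closure]
          refine Subgroup.closure_mono ?_
          rintro _ ⟨_, ⟨g, rfl⟩, rfl⟩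
          exact ⟨φ g, (map_pow φ g _).symm⟩
        have hKm : IsMulCommutative K := Subgroup.isMulCommutative_closure (by
          rintro _ ⟨u, rfl⟩ _ ⟨v, rfl⟩
          show u ^ p ^ e * v ^ p ^ e = v ^ p ^ e * u ^ p ^ e
          rw [← commutatorElement_eq_one_iff_mul_comm, hpow,
            show ⁅u ^ p ^ e, v⁆ = (⁅v, u⁆ ^ p ^ e)⁻¹ by rw [← hpow, commutatorElement_inv],
            inv_pow, inv_eq_one, ← pow_mul, ← pow_add]
          refine orderOf_dvd_iff_pow_eq_one.mp ((orderOf_dvd_of_pow_eq_one (hsucc v u)).trans ?_)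
          exact pow_dvd_pow p (by omega))
        have := hcentral K hKc hKm (Subgroup.subset_closure ⟨y, rfl⟩ : y ^ p ^ e ∈ K)
        rw [← hpow, commutatorElement_eq_one_iff_mul_comm]
        exact Subgroup.mem_center_iff.mp this x
    intro x y
    have := key N 1 le_rfl (by omega) x y
    rwa [pow_one] at this
  have hpz : ∀ y : G, y ^ p ∈ Z := fun y => by
    rw [hZ, Subgroup.mem_center_iff]
    intro x
    rw [← commutatorElement_eq_one_iff_mul_comm, hpow, hexp]
  -- fixed points of `A` lie in the derived subgroup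
  have hfix : ∀ g : G, (∀ a ∈ A, a g = g) → g ∈ commutator G := by
    intro g hg
    haveI : Finite A := inferInstance
    letI := Fintype.ofFinite A
    let T : G →* Abelianization G :=
      ∏ a : A, (Abelianization.of.comp ((a : MulAut G) : G ≃* G).toMonoidHom)
    have hTapply : ∀ x, T x = ∏ a : A, Abelianization.of ((a : MulAut G) x) := fun x => by
      simp [T]
    have hinv : ∀ b ∈ A, ∀ x, T (b x) = T x := fun b hb x => by
      rw [hTapply, hTapply]
      exact Fintype.prod_equiv (Equiv.mulRight ⟨b, hb⟩) _ _ fun a => rfl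
    have hT : ⊤ ≤ T.ker := by
      rw [← hGA, Subgroup.closure_le]
      rintro _ ⟨x, b, hb, rfl⟩
      rw [SetLike.mem_coe, MonoidHom.mem_ker, map_mul, map_inv, hinv b hb, inv_mul_cancel]
    have h1 : (Abelianization.of g) ^ Nat.card A = 1 := by
      have h2 : T g = 1 := hT (Subgroup.mem_top g)
      rw [hTapply, Finset.prod_congr rfl (fun a _ => by rw [hg _ a.2]), Finset.prod_const,
        Finset.card_univ, ← Nat.card_eq_fintype_card] at h2
      exact h2
    obtain ⟨j, hj⟩ := hG g
    have h2 : (Abelianization.of g) ^ p ^ j = 1 := by rw [← map_pow, hj, map_one]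
    have h3 : Abelianization.of g = 1 := orderOf_eq_one_iff.mp (Nat.eq_one_of_dvd_coprimes
      (hA.pow_right j) (orderOf_dvd_of_pow_eq_one h1) (orderOf_dvd_of_pow_eq_one h2))
    exact (QuotientGroup.eq_one_iff g).mp h3
  have hZG' : Z = commutator G :=
    le_antisymm (fun z hz => hfix z fun a ha => hfixZ a ha z hz) hG'
  refine ⟨⟨hG, le_antisymm ?_ ?_, hZG'.symm⟩, fun g => ⟨fun hg a ha => hfixZ a ha g hg,
    fun hg => hG' (hfix g hg)⟩⟩
  · exact CfsgLib.Critical.frattini_le_of_elementary Z hG' hpz
  · exact hZG'.le.trans (CfsgLib.PSolvable.commutator_le_frattini hG).1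

end Cfsg.Agent.S0119
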