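import Cfsg.Statements.S0814
import Cfsg.Agent.Lib.ClassicalAut.SympCases

set_option autoImplicit false
open Cfsg

namespace Cfsg.Agent.S0814

/-- |Aut(PSp_2m(q))| = gcd(2, q−1) · f · |PSp_2m(q)| for q = p^f, m ≥ 2, (m, q) ≠ (2, 2), with an extra factor 2 exactly when m = 2 and p = 2. -/
theorem result {F : Type*} [Field F] [Fintype F] (p f : ℕ) [Fact p.Prime] (hf : 1 ≤ f) (hF : Fintype.card F = p ^ f) (m : ℕ) (hm : 2 ≤ m) (h22 : m = 2 → 3 ≤ p ^ f) : Nat.card (MulAut (Cfsg.PSp m F)) = (if m = 2 ∧ p = 2 then 2 else 1) * Nat.gcd 2 (p ^ f - 1) * f * Nat.card (Cfsg.PSp m F) := by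
  have : CharP F p := CfsgLib.AutPSL.charP_of_card hF
  have hgal : Nat.card (F ≃+* F) = f := (CfsgLib.AutPSL.card_ringAut_isCyclic hF hf).2
  have hq : Nat.card F = p ^ f := by rw [Nat.card_eq_fintype_card, hF]
  by_cases hc : m = 2 ∧ p = 2
  · obtain ⟨rfl, rfl⟩ := hc
    have hout := (CfsgLib.ClassicalAut.Sp4.out_cyclic hf hq hgal).2
    have h1 := Subgroup.card_eq_card_quotient_mul_card_subgroup (Cfsg.Inn (Cfsg.PSp 2 F))
    have h2 : Nat.card (Cfsg.Inn (Cfsg.PSp 2 F)) = Nat.card (Cfsg.PSp 2 F) :=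
      (CfsgLib.ClassicalAut.Symp.carrier (F := F) (m := 2) 2).card_inn 2
        (CfsgLib.ClassicalAut.Symp.frame (le_refl 2))
    have h3 : Nat.gcd 2 (2 ^ f - 1) = 1 := by
      have h4 : ¬ 2 ∣ 2 ^ f - 1 := by
        have h5 : 2 ∣ 2 ^ f := dvd_pow_self 2 (by omega)
        have := Nat.one_le_two_pow (n := f)
        omega
      exact (Nat.prime_two.coprime_iff_not_dvd).2 h4
    rw [h1, h2, if_pos ⟨rfl, rfl⟩, h3, mul_one]
    exact congrArg (· * _) hout
  · have h3 : 3 ≤ m ∨ (2 : F) ≠ 0 := by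
      by_contra h
      push Not at h
      refine hc ⟨by omega, ?_⟩
      have : CharP F 2 := CharP.charP_iff_prime_eq_zero Nat.prime_two |>.2 (by simpa using h.2)
      exact CharP.eq F (‹CharP F p›) this
    rw [CfsgLib.ClassicalAut.Symp.card_mulAut p hm h3, hgal, hq, if_neg hc]
    ring

end Cfsg.Agent.S0814
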