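import Cfsg.Statements.S0077
import Cfsg.Agent.Lib.Transfer.Focal

set_option autoImplicit false
set_option linter.style.haveILetI false
set_option linter.unusedVariables false
open Cfsg

namespace Cfsg.Agent.S0077

/-- If a subgroup Z of the centre of a Sylow p-subgroup P is weakly closed in P, then P meets the derived subgroup of G exactly where it meets the derived subgroup of the normalizer of Z. -/
theorem result {G : Type*} [Group G] [Finite G] {p : ℕ} [Fact p.Prime] (P : Sylow p G) (Z : Subgroup G) (hZ : Z ≤ Subgroup.centralizer (P : Set G)) (hW : Cfsg.IsWeaklyClosed Z P) : commutator G ⊓ (P : Subgroup G) = ⁅Subgroup.normalizer (Z : Set G), Subgroup.normalizer (Z : Set G)⁆ ⊓ (P : Subgroup G) := by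
  refine CfsgLib.Transfer.commutator_inf_sylow_eq_of_controls P ?_ fun x hx g hg => ?_
  · intro a ha
    rw [Subgroup.mem_normalizer_iff]
    intro z
    constructor
    · intro hz
      have := Subgroup.mem_centralizer_iff.mp (hZ hz) a ha
      rwa [this, mul_assoc, mul_inv_cancel, mul_one]
    · intro hz
      have := Subgroup.mem_centralizer_iff.mp (hZ hz) a ha
      have h2 : z * a = a * z := by
        calc z * a = a⁻¹ * (a * z * a⁻¹ * a) * a := by group
          _ = a⁻¹ * (a * (a * z * a⁻¹)) * a := by rw [this]
          _ = a * z := by group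
      rwa [← h2, mul_assoc, mul_inv_cancel, mul_one] at hz
  · have key : ∀ y ∈ (P : Subgroup G), y ∈ Subgroup.centralizer (Z : Set G) := by
      intro y hy
      rw [Subgroup.mem_centralizer_iff]
      intro z hz
      exact (Subgroup.mem_centralizer_iff.mp (hZ hz) y hy).symm
    exact CfsgLib.Transfer.exists_normalizer_conj_of_weaklyClosed P hW g (key x hx) (key _ hg)

end Cfsg.Agent.S0077
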