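import Cfsg.Statements.S3701
import Cfsg.Agent.Lib.ThreeCubedTI.Main

set_option autoImplicit false
open Cfsg

namespace Cfsg.Agent.S3701

/-- Let H₀ ≤ Sym(9) be generated by the 3-cycles (1 2 3), (4 5 6), (7 8 9) and the involutions (1 2)(4 5), (1 2)(7 8) (a group of order 108, elementary abelian of order 27 extended by a four-group). Let G be a finite group with a subgroup H ≅ H₀, and T ≤ H of order 27 (a Sylow 3-subgroup of H) with N_G(T) = H and C_G(t) ≤ H for every t ≠ 1 in T. Then G = H. -/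
theorem result {G : Type*} [Group G] [Finite G] (H : Subgroup G)
    (hH : Nonempty (↥H ≃* ↥(Subgroup.closure ({Equiv.swap (0 : Fin 9) 1 * Equiv.swap 1 2, Equiv.swap (3 : Fin 9) 4 * Equiv.swap 4 5, Equiv.swap (6 : Fin 9) 7 * Equiv.swap 7 8,
        Equiv.swap (0 : Fin 9) 1 * Equiv.swap 3 4, Equiv.swap (0 : Fin 9) 1 * Equiv.swap 6 7} : Set (Equiv.Perm (Fin 9))))))
    (T : Subgroup G) (hTH : T ≤ H) (hT : Nat.card T = 27) (hN : Subgroup.normalizer (T : Set G) = H)
    (hC : ∀ t ∈ T, t ≠ 1 → Subgroup.centralizer ({t} : Set G) ≤ H) : H = ⊤ := by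
  classical
  haveI : Fact (Nat.Prime 3) := ⟨Nat.prime_three⟩
  obtain ⟨e₀⟩ := hH
  let K : Subgroup (Equiv.Perm (Fin 9)) := CfsgLib.ThreeCubedTI.evGroup.map CfsgLib.ThreeCubedTI.nine
  let e : H ≃* CfsgLib.ThreeCubedTI.evGroup :=
    (e₀.trans (MulEquiv.subgroupCongr CfsgLib.ThreeCubedTI.closure_eq)).trans
      (CfsgLib.ThreeCubedTI.evGroup.equivMapOfInjective CfsgLib.ThreeCubedTI.nine
        CfsgLib.ThreeCubedTI.nine_injective).symm
  let Φ : H →* CfsgLib.ThreeCubedTI.P3 := CfsgLib.ThreeCubedTI.evGroup.subtype.comp e.toMonoidHom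
  have hinj : Function.Injective Φ := fun a b h => e.injective (Subtype.ext h)
  have hsurj : ∀ f, CfsgLib.ThreeCubedTI.Ev f → ∃ n, Φ n = f := fun f hf =>
    ⟨e.symm ⟨f, hf⟩, congrArg Subtype.val (e.apply_symm_apply ⟨f, hf⟩)⟩
  -- `T` is the preimage of the rotations
  let T₀ : Subgroup H := T.subgroupOf H
  let R₀ : Subgroup H :=
    { carrier := {n | CfsgLib.ThreeCubedTI.Rot (Φ n)}
      one_mem' := fun i => by simp
      mul_mem' := fun {m n} hm hn i => by rw [map_mul, Pi.mul_apply, map_mul, hm i, hn i, one_mul]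
      inv_mem' := fun {m} hm i => by rw [map_inv, Pi.inv_apply, Equiv.Perm.sign_inv, hm i] }
  have hT₀ : Nat.card T₀ = 27 := by
    rw [Nat.card_congr (Subgroup.subgroupOfEquivOfLe hTH).toEquiv, hT]
  have hle : T₀ ≤ R₀ := by
    intro n hn i
    have h27 : n ^ 27 = 1 := by
      have : (⟨n, hn⟩ : T₀) ^ 27 = 1 := hT₀ ▸ pow_card_eq_one'
      exact congrArg Subtype.val this
    have h : Equiv.Perm.sign (Φ n i) ^ 27 = 1 := by
      rw [← map_pow, ← Pi.pow_apply, ← map_pow, h27, map_one, Pi.one_apply, map_one]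
    rcases Int.units_eq_one_or (Equiv.Perm.sign (Φ n i)) with h' | h'
    · exact h'
    · rw [h'] at h; exact absurd h (by decide)
  have hR : Nat.card R₀ ≤ 27 := by
    refine (Nat.card_le_card_of_injective (fun n : R₀ => (fun i => (⟨Φ n i, n.2 i⟩ :
      {s : Equiv.Perm (Fin 3) // Equiv.Perm.sign s = 1}))) fun a b h => Subtype.ext (hinj (funext
        fun i => congrArg Subtype.val (congrFun h i)))).trans (le_of_eq ?_)
    rw [Nat.card_fun, Nat.card_eq_fintype_card, Nat.card_eq_fintype_card]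
    decide
  have heq : T₀ = R₀ := Subgroup.eq_of_le_of_card_ge hle (hR.trans hT₀.ge)
  have D : CfsgLib.ThreeCubedTI.Data H T Φ :=
    { inj := hinj
      even := fun n => (e n).2
      surj := hsurj
      T_le := hTH
      memT := fun n => by
        show n ∈ T₀ ↔ n ∈ R₀
        rw [heq]
      norm := hN
      loc := hC }
  exact D.eq_top

end Cfsg.Agent.S3701
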