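import Cfsg.Statements.S3343
import Cfsg.Agent.Lib.SymNineThree.CaseEven
import Cfsg.Agent.Lib.SymNineThree.FusedOne
import Cfsg.Agent.Lib.SymNineThree.Final

set_option autoImplicit false
open Cfsg

namespace Cfsg.Agent.S3343

/-- Let G be a finite group with an element x of order 3 whose centralizer is isomorphic to the centralizer in the symmetric group of degree 9 of a product of three disjoint 3-cycles, and let J ≤ C_G(x) be elementary abelian of order 27 normalizing no non-trivial subgroup of G of order prime to 3. Then either J is normal in G or G is isomorphic to the symmetric group of degree 9. -/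
theorem result {G : Type*} [Group G] [Finite G]
    (x : G) (hx : orderOf x = 3)
    (eC : Subgroup.centralizer ({x} : Set G) ≃*
      Subgroup.centralizer ({Equiv.swap (0 : Fin 9) 1 * Equiv.swap 1 2 * Equiv.swap 3 4 * Equiv.swap 4 5 * Equiv.swap 6 7 * Equiv.swap 7 8} : Set (Equiv.Perm (Fin 9))))
    (J : Subgroup G) (hJC : J ≤ Subgroup.centralizer ({x} : Set G)) (hJcomm : IsMulCommutative J)
    (hJexp : ∀ j ∈ J, j ^ 3 = 1) (hJcard : Nat.card J = 27)
    (hJsig : ∀ K : Subgroup G, (Nat.card K).Coprime 3 → (∀ j ∈ J, K.map (MulAut.conj j).toMonoidHom = K) → K = ⊥) :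
    J.Normal ∨ Nonempty (G ≃* Equiv.Perm (Fin 9)) := by
  classical
  obtain ⟨S, rfl⟩ := CfsgLib.SymNineThree.exists_setup eC J hJC hJcomm hJexp hJcard hx hJsig
  have hcases : S.k = 0 ∨ S.k = 1 ∨ S.k = 2 ∨ S.k = 3 := by
    have h : ∀ k : Fin 4, k = 0 ∨ k = 1 ∨ k = 2 ∨ k = 3 := by decide
    exact h S.k
  rcases hcases with hk | hk | hk | hk
  · exact Or.inl (S.normal_even (Or.inl hk))
  · exact Or.inl (S.normal_one hk)
  · exact Or.inl (S.normal_even (Or.inr hk))
  · by_cases h1 : S.CN 1
    · exact Or.inl (S.normal_eightB hk (S.allCN_of_one hk h1))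
    · obtain ⟨P⟩ := S.exists_comp hk h1
      exact P.normal_or_sym hk

end Cfsg.Agent.S3343
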