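import Cfsg.Statements.S3376
import Cfsg.Agent.Lib.Critical.Basic
-- import your own Cfsg.Agent.* helpers here

set_option autoImplicit false
open Cfsg
open scoped commutatorElement

namespace Cfsg.Agent.S3376

theorem factorization_162 : (162 : ℕ).factorization 3 = 4 ∧ (162 : ℕ).factorization 2 = 1 := by
  rw [show (162 : ℕ) = 3 ^ 4 * 2 by norm_num,
    Nat.factorization_mul (by norm_num) (by norm_num), Nat.factorization_pow,
    Nat.Prime.factorization (by norm_num : Nat.Prime 3),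
    Nat.Prime.factorization (by norm_num : Nat.Prime 2)]
  simp

theorem zpow_three_cases {G : Type*} [Group G] {u : G} (hu : u ^ 3 = 1) {H : Subgroup G} {i : ℤ}
    (h : u ^ i ∈ H) : u ^ i = 1 ∨ u ∈ H := by
  obtain ⟨q, r, hr, rfl⟩ : ∃ q r : ℤ, (r = 0 ∨ r = 1 ∨ r = 2) ∧ i = 3 * q + r :=
    ⟨i / 3, i % 3, by omega, by omega⟩
  have h3 : u ^ (3 * q) = 1 := by
    rw [zpow_mul, show (3 : ℤ) = ((3 : ℕ) : ℤ) from rfl, zpow_natCast, hu, one_zpow]
  rw [zpow_add, h3, one_mul] at h ⊢
  rcases hr with rfl | rfl | rfl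
  · exact Or.inl (zpow_zero u)
  · exact Or.inr (by simpa using h)
  · refine Or.inr ?_
    have h2 := mul_mem h h
    rw [← zpow_add, show ((2 : ℤ) + 2) = 3 + 1 from rfl, zpow_add,
      show (3 : ℤ) = ((3 : ℕ) : ℤ) from rfl, zpow_natCast, hu, one_mul, zpow_one] at h2
    exact h2

theorem exists_invariant_complement {G : Type*} [Group G] [Finite G] (J Z : Subgroup G) (t : G)
    (hcomm : ∀ a ∈ J, ∀ b ∈ J, a * b = b * a) (hexp : ∀ a ∈ J, a ^ 3 = 1)
    (hJt : ∀ a ∈ J, t * a * t⁻¹ ∈ J) (hZJ : Z ≤ J) (ht : t * t = 1) :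
    ∃ W : Subgroup G, W ≤ J ∧ W ⊓ Z = ⊥ ∧ J ≤ W ⊔ Z ∧ ∀ w ∈ W, t * w * t⁻¹ ∈ W := by
  let X : Set (Subgroup G) := {W | W ≤ J ∧ W ⊓ Z = ⊥ ∧ ∀ w ∈ W, t * w * t⁻¹ ∈ W}
  have hne : X.Nonempty := ⟨⊥, bot_le, bot_inf_eq Z, fun w hw => by
    rw [Subgroup.mem_bot.mp hw]; simp⟩
  obtain ⟨W, ⟨hWJ, hWZ, hWt⟩, hmax⟩ := X.toFinite.exists_maximal hne
  refine ⟨W, hWJ, hWZ, ?_, hWt⟩
  by_contra hle
  obtain ⟨j, hj, hjn⟩ := SetLike.not_le_iff_exists.mp hle
  set j' := t * j * t⁻¹ with hj'
  have hj'J : j' ∈ J := hJt j hj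
  have htt : t * j' * t⁻¹ = j := by
    have : t⁻¹ = t := inv_eq_of_mul_eq_one_right ht
    rw [hj', this, show t * (t * j * t) * t = (t * t) * j * (t * t) by group, ht, one_mul, mul_one]
  obtain ⟨u, huJ, hun, hu⟩ : ∃ u ∈ J, u ∉ W ⊔ Z ∧ (t * u * t⁻¹ = u ∨ t * u * t⁻¹ = u⁻¹) := by
    by_cases h1 : j * j' ∈ W ⊔ Z
    · refine ⟨j * j'⁻¹, mul_mem hj (inv_mem hj'J), fun h2 => hjn ?_, Or.inr ?_⟩
      · have h3 := mul_mem h1 h2
        rw [show j * j' * (j * j'⁻¹) = j ^ 2 by
          rw [← mul_assoc (j * j'), mul_assoc j j' j, hcomm j' hj'J j hj, pow_two]; group] at h3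
        have : j = (j ^ 2)⁻¹ := by
          rw [eq_inv_iff_mul_eq_one, ← pow_succ', hexp j hj]
        rw [this]
        exact inv_mem h3
      · rw [← conj_mul, ← conj_inv, htt, ← hj', mul_inv_rev, inv_inv,
          hcomm j' hj'J j⁻¹ (inv_mem hj)]
    · refine ⟨j * j', mul_mem hj hj'J, h1, Or.inl ?_⟩
      rw [← conj_mul, htt, ← hj', hcomm j' hj'J j hj]
  set W' := W ⊔ Subgroup.zpowers u
  have hnorm : Subgroup.zpowers u ≤ Subgroup.normalizer (W : Set G) := by
    rw [Subgroup.zpowers_le, Subgroup.mem_normalizer_iff]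
    intro n
    constructor
    · intro hn
      rw [hcomm u huJ n (hWJ hn), mul_inv_cancel_right]; exact hn
    · intro hn
      have := hcomm u huJ _ (hWJ hn)
      rw [show n = u⁻¹ * ((u * n * u⁻¹) * u) by group, ← this, inv_mul_cancel_left]
      exact hn
  have hW'Z : W' ⊓ Z = ⊥ := by
    refine eq_bot_iff.mpr fun z hz => ?_
    obtain ⟨hz1, hz2⟩ := hz
    replace hz1 : z ∈ ((W ⊔ Subgroup.zpowers u : Subgroup G) : Set G) := hz1
    rw [Subgroup.coe_mul_of_right_le_normalizer_left _ _ hnorm] at hz1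
    obtain ⟨w, hw, v, hv, rfl⟩ := hz1
    obtain ⟨i, rfl⟩ := Subgroup.mem_zpowers_iff.mp hv
    have hi : u ^ i ∈ W ⊔ Z := by
      rw [show u ^ i = w⁻¹ * (w * u ^ i) by group]
      exact mul_mem (Subgroup.mem_sup_left (inv_mem hw)) (Subgroup.mem_sup_right hz2)
    rcases zpow_three_cases (hexp u huJ) hi with h | h
    · simp only [h, mul_one] at hz2 ⊢
      exact hWZ.le ⟨hw, hz2⟩
    · exact absurd h hun
  have hmem : W' ∈ X := by
    refine ⟨sup_le hWJ (Subgroup.zpowers_le.mpr huJ), hW'Z, ?_⟩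
    have : W' ≤ (W'.comap (MulAut.conj t).toMonoidHom) := by
      refine sup_le (fun w hw => Subgroup.mem_sup_left (hWt w hw)) (Subgroup.zpowers_le.mpr ?_)
      show t * u * t⁻¹ ∈ W'
      rcases hu with h | h <;> rw [h]
      · exact Subgroup.mem_sup_right (Subgroup.mem_zpowers u)
      · exact Subgroup.mem_sup_right (inv_mem (Subgroup.mem_zpowers u))
    exact fun w hw => this hw
  exact hun (Subgroup.mem_sup_left (hmax hmem le_sup_left
    (Subgroup.mem_sup_right (Subgroup.mem_zpowers u))))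


/-- Let G be a group of order 162 = 3⁴·2 with Sylow 3-subgroup S and Sylow 2-subgroup T, having an elementary abelian normal subgroup J of order 27, such that Z = Z(S) has order 3, Z centralizes T, and C_S(T) ≠ S. Then G is isomorphic to the centralizer in Sym(9) of a product of three disjoint 3-cycles. -/
theorem result {G : Type*} [Group G] [Finite G] (hG : Nat.card G = 162)
    (S : Sylow 3 G) (T : Sylow 2 G) (J : Subgroup G) [hJn : J.Normal] (hJcomm : IsMulCommutative J)
    (hJexp : ∀ a ∈ J, a ^ 3 = 1) (hJcard : Nat.card J = 27)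
    (Z : Subgroup G) (hZ : Z = (S : Subgroup G) ⊓ Subgroup.centralizer ((S : Subgroup G) : Set G)) (hZcard : Nat.card Z = 3)
    (hZT : Z ≤ Subgroup.centralizer ((T : Subgroup G) : Set G))
    (hST : (S : Subgroup G) ⊓ Subgroup.centralizer ((T : Subgroup G) : Set G) ≠ S) :
    Nonempty (G ≃* Subgroup.centralizer ({Equiv.swap (0 : Fin 9) 1 * Equiv.swap 1 2 * Equiv.swap 3 4 * Equiv.swap 4 5 * Equiv.swap 6 7 * Equiv.swap 7 8} : Set (Equiv.Perm (Fin 9)))) := by
  classical
  have hcomm : ∀ a ∈ J, ∀ b ∈ J, a * b = b * a := fun a ha b hb =>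
    congrArg Subtype.val (hJcomm.is_comm.comm ⟨a, ha⟩ ⟨b, hb⟩)
  have hS : Nat.card (S : Subgroup G) = 81 := by
    rw [S.card_eq_multiplicity, hG, factorization_162.1]; rfl
  have hT : Nat.card (T : Subgroup G) = 2 := by
    rw [T.card_eq_multiplicity, hG, factorization_162.2]; rfl
  haveI hSn : (S : Subgroup G).Normal := by
    refine Subgroup.normal_of_index_eq_two ?_
    have := (S : Subgroup G).card_mul_index
    rw [hS, hG] at this
    omega
  have hJS : J ≤ (S : Subgroup G) := by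
    have h : IsPGroup 3 J := IsPGroup.of_card (n := 3) hJcard
    exact le_sup_left.trans
      (S.is_maximal' (IsPGroup.to_sup_of_normal_left h S.isPGroup') le_sup_right).le
  have hZS : Z ≤ (S : Subgroup G) := hZ ▸ inf_le_left
  have hZc : ∀ z ∈ Z, ∀ s ∈ (S : Subgroup G), s * z = z * s := fun z hz s hs => by
    rw [hZ] at hz
    exact Subgroup.mem_centralizer_iff.mp hz.2 s hs
  have hTS : (S : Subgroup G) ⊔ (T : Subgroup G) = ⊤ := by
    refine Subgroup.eq_top_of_le_card _ ?_
    have h1 := Nat.le_of_dvd Nat.card_pos (Subgroup.card_dvd_of_le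
      (le_sup_left : (S : Subgroup G) ≤ (S : Subgroup G) ⊔ (T : Subgroup G)))
    have h2 : Nat.lcm (Nat.card (S : Subgroup G)) (Nat.card (T : Subgroup G)) ∣
        Nat.card ↥((S : Subgroup G) ⊔ (T : Subgroup G)) :=
      Nat.lcm_dvd (Subgroup.card_dvd_of_le le_sup_left) (Subgroup.card_dvd_of_le le_sup_right)
    rw [hS, hT, show Nat.lcm 81 2 = 162 by rfl] at h2
    rw [hG]
    exact Nat.le_of_dvd Nat.card_pos h2
  have hZcen : ∀ z ∈ Z, ∀ g : G, g * z = z * g := by
    intro z hz g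
    have : (S : Subgroup G) ⊔ (T : Subgroup G) ≤ Subgroup.centralizer ({z} : Set G) := by
      refine sup_le (fun s hs => Subgroup.mem_centralizer_singleton_iff.mpr (hZc z hz s hs))
        (fun s hs => Subgroup.mem_centralizer_singleton_iff.mpr ?_)
      exact (Subgroup.mem_centralizer_iff.mp (hZT hz) s hs)
    exact Subgroup.mem_centralizer_singleton_iff.mp (this (hTS ▸ Subgroup.mem_top g))
  haveI : Fact (Nat.Prime 2) := ⟨Nat.prime_two⟩
  haveI : Nontrivial ↥(T : Subgroup G) := by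
    rw [← Finite.one_lt_card_iff_nontrivial, hT]; norm_num
  obtain ⟨⟨t, htT⟩, htne⟩ := exists_ne (1 : ↥(T : Subgroup G))
  have ht1 : t ≠ 1 := fun h => htne (Subtype.ext h)
  have htt : t * t = 1 := by
    have := pow_card_eq_one' (x := (⟨t, htT⟩ : ↥(T : Subgroup G)))
    rw [hT, pow_two] at this
    exact congrArg Subtype.val this
  have htinv : t⁻¹ = t := inv_eq_of_mul_eq_one_right htt
  have hTmem : ∀ a ∈ (T : Subgroup G), a = 1 ∨ a = t := by
    intro a ha
    by_contra hne
    push Not at hne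
    let f : Fin 3 → ↥(T : Subgroup G) := ![1, ⟨t, htT⟩, ⟨a, ha⟩]
    have hf : Function.Injective f := by
      intro i j hij
      fin_cases i <;> fin_cases j <;> first
        | rfl
        | (exfalso; simp [f, Subtype.ext_iff, ht1, ht1.symm, hne.1, hne.1.symm, hne.2,
            hne.2.symm] at hij)
    have := Nat.card_le_card_of_injective f hf
    rw [Nat.card_eq_fintype_card, Fintype.card_fin, hT] at this
    omega
  have hJt : ∀ a ∈ J, t * a * t⁻¹ ∈ J := fun a ha => hJn.conj_mem a ha t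
  have hZJ : Z ≤ J := by
    have hnt : ¬ (J ⊓ Z = ⊥) := by
      intro hbot
      haveI : (J.subgroupOf (S : Subgroup G)).Normal := hJn.subgroupOf _
      haveI := S.isPGroup'.isNilpotent
      obtain ⟨⟨a, haS⟩, ⟨haJ, hac⟩, hne⟩ := (Subgroup.bot_or_exists_ne_one _).resolve_left
        (CfsgLib.Critical.inf_center_ne_bot (J.subgroupOf (S : Subgroup G)) (fun h => by
          have h' := Nat.card_congr (Subgroup.subgroupOfEquivOfLe hJS).toEquiv
          rw [h, hJcard, Subgroup.card_bot] at h'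
          omega))
      refine hne (Subtype.ext ?_)
      refine Subgroup.mem_bot.mp (hbot ▸ (⟨haJ, ?_⟩ : a ∈ J ⊓ Z))
      rw [hZ]
      exact ⟨haS, Subgroup.mem_centralizer_iff.mpr fun s hs =>
        congrArg Subtype.val (Subgroup.mem_center_iff.mp hac ⟨s, hs⟩)⟩
    rcases (Nat.dvd_prime Nat.prime_three).mp
      (hZcard ▸ Subgroup.card_dvd_of_le (inf_le_right : J ⊓ Z ≤ Z)) with h | h
    · exact absurd (Subgroup.card_eq_one.mp h) hnt
    · exact (Subgroup.eq_of_le_of_card_ge inf_le_right (by rw [h, hZcard])).ge.trans inf_le_left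
  obtain ⟨W, hWJ, hWZ, hJW, hWt⟩ := exists_invariant_complement J Z t hcomm hJexp hJt hZJ htt
  have hWcard : Nat.card W = 9 := by
    have hn : Z ≤ Subgroup.normalizer (W : Set G) := fun z hz => by
      rw [Subgroup.mem_normalizer_iff]
      intro n
      rw [← hZcen z hz n, mul_inv_cancel_right]
    have h1 : Nat.card J = Nat.card W * Nat.card Z := by
      have hJeq : J = W ⊔ Z := le_antisymm hJW (sup_le hWJ hZJ)
      have h2 : Nat.card W * Nat.card Z = Nat.card ↥(W ⊔ Z) := by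
        rw [← Nat.card_prod]
        refine Nat.card_eq_of_bijective
          (fun x : W × Z => ⟨(x.1 : G) * x.2,
            mul_mem (Subgroup.mem_sup_left x.1.2) (Subgroup.mem_sup_right x.2.2)⟩) ⟨?_, ?_⟩
        · rintro ⟨⟨a, ha⟩, ⟨b, hb⟩⟩ ⟨⟨c, hc⟩, ⟨d, hd⟩⟩ he
          have he' : a * b = c * d := congrArg Subtype.val he
          have h3 : c⁻¹ * a = d * b⁻¹ := by
            rw [eq_mul_inv_iff_mul_eq, mul_assoc, he', inv_mul_cancel_left]
          have h4 : c⁻¹ * a = 1 := Subgroup.mem_bot.mp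
            (hWZ ▸ (⟨W.mul_mem (W.inv_mem hc) ha, h3 ▸ Z.mul_mem hd (Z.inv_mem hb)⟩ : c⁻¹ * a ∈ W ⊓ Z))
          have hac : c = a := inv_mul_eq_one.mp h4
          subst hac
          obtain rfl := mul_left_cancel he'
          rfl
        · rintro ⟨g, hg⟩
          rw [← SetLike.mem_coe, Subgroup.coe_mul_of_right_le_normalizer_left _ _ hn] at hg
          obtain ⟨a, ha, b, hb, e⟩ := hg
          exact ⟨(⟨a, ha⟩, ⟨b, hb⟩), Subtype.ext e⟩
      rw [h2, ← hJeq]
    rw [hJcard, hZcard] at h1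
    omega
  set K := W ⊔ (T : Subgroup G) with hK
  have hnT : (T : Subgroup G) ≤ Subgroup.normalizer (W : Set G) := by
    intro a ha
    rw [Subgroup.mem_normalizer_iff]
    intro n
    rcases hTmem a ha with rfl | rfl
    · simp
    · refine ⟨hWt n, fun h => ?_⟩
      have := hWt _ h
      rwa [htinv, show a * (a * n * a) * a = (a * a) * n * (a * a) by group, htt, one_mul,
        mul_one] at this
  have hKmem : ∀ g ∈ K, g ∈ W ∨ ∃ w ∈ W, g = w * t := by
    intro g hg
    rw [hK, ← SetLike.mem_coe, Subgroup.coe_mul_of_right_le_normalizer_left _ _ hnT] at hg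
    obtain ⟨a, ha, b, hb, rfl⟩ := hg
    rcases hTmem b hb with rfl | rfl
    · exact Or.inl (by simpa using ha)
    · exact Or.inr ⟨a, ha, rfl⟩
  have htJ : t ∉ J := fun h => ht1 (by
    have h3 := hJexp t h
    rwa [pow_succ, pow_two, htt, one_mul] at h3)
  have hKJ : ∀ g ∈ K, g ∈ J → g ∈ W := by
    intro g hg hgJ
    rcases hKmem g hg with h | ⟨w, hw, rfl⟩
    · exact h
    · exact absurd ((J.mul_mem_cancel_left (hWJ hw)).mp hgJ) htJ
  have hKcard : Nat.card K = 18 := by
    have hdvd : Nat.lcm (Nat.card W) (Nat.card (T : Subgroup G)) ∣ Nat.card K :=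
      Nat.lcm_dvd (Subgroup.card_dvd_of_le le_sup_left) (Subgroup.card_dvd_of_le le_sup_right)
    rw [hWcard, hT, show Nat.lcm 9 2 = 18 by rfl] at hdvd
    refine le_antisymm ?_ (Nat.le_of_dvd Nat.card_pos hdvd)
    calc Nat.card K ≤ Nat.card (W × ↥(T : Subgroup G)) := by
          refine Nat.card_le_card_of_surjective (fun x : W × ↥(T : Subgroup G) =>
            (⟨(x.1 : G) * x.2, mul_mem (Subgroup.mem_sup_left x.1.2)
              (Subgroup.mem_sup_right x.2.2)⟩ : K)) ?_
          rintro ⟨g, hg⟩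
          rcases hKmem g hg with h | ⟨w, hw, rfl⟩
          · exact ⟨(⟨g, h⟩, 1), Subtype.ext (mul_one g)⟩
          · exact ⟨(⟨w, hw⟩, ⟨t, htT⟩), rfl⟩
      _ = 18 := by rw [Nat.card_prod, hWcard, hT]
  have hKidx : K.index = 9 := by
    have := K.card_mul_index
    rw [hKcard, hG] at this
    omega
  obtain ⟨y, hyS, hyne, hyt⟩ : ∃ y ∈ (S : Subgroup G), y ≠ 1 ∧ t * y * t⁻¹ = y⁻¹ := by
    by_contra hno
    push Not at hno
    refine hST (inf_eq_left.mpr fun s hs => Subgroup.mem_centralizer_iff.mpr fun a ha => ?_)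
    rcases hTmem a ha with rfl | rfl
    · simp
    · by_contra hne
      refine hno (s⁻¹ * (a * s * a⁻¹)) (mul_mem (inv_mem hs) (hSn.conj_mem s hs a)) (fun h => ?_) ?_
      · exact hne (by
          have h' := congrArg (· * a) (inv_mul_eq_one.mp h)
          simpa [mul_assoc] using h'.symm)
      · simp only [htinv, mul_inv_rev, inv_inv]
        rw [show a * (s⁻¹ * (a * s * a)) * a = (a * s⁻¹ * a) * s * (a * a) by group, htt,
          mul_one]
        group
  have hcore : K.normalCore = ⊥ := by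
    set N := K.normalCore
    haveI : N.Normal := Subgroup.normalCore_normal K
    have hNK : N ≤ K := Subgroup.normalCore_le K
    have hNJ : N ⊓ J = ⊥ := by
      by_contra hne
      have hW : N ⊓ J ≤ W := fun g hg => hKJ g (hNK hg.1) hg.2
      haveI : ((N ⊓ J).subgroupOf (S : Subgroup G)).Normal := Subgroup.Normal.subgroupOf inferInstance _
      haveI := S.isPGroup'.isNilpotent
      obtain ⟨⟨a, haS⟩, ⟨haN, hac⟩, hne'⟩ := (Subgroup.bot_or_exists_ne_one _).resolve_left
        (CfsgLib.Critical.inf_center_ne_bot ((N ⊓ J).subgroupOf (S : Subgroup G)) (fun h => hne (by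
          rw [Subgroup.subgroupOf_eq_bot, disjoint_iff] at h
          rwa [inf_eq_left.mpr (inf_le_right.trans hJS)] at h)))
      refine hne' (Subtype.ext ?_)
      refine Subgroup.mem_bot.mp (hWZ ▸ (⟨hW haN, ?_⟩ : a ∈ W ⊓ Z))
      rw [hZ]
      exact ⟨haS, Subgroup.mem_centralizer_iff.mpr fun s hs =>
        congrArg Subtype.val (Subgroup.mem_center_iff.mp hac ⟨s, hs⟩)⟩
    rw [eq_bot_iff]
    intro g hg
    by_contra hg1
    have hgJ : g ∉ J := fun h => hg1 (hNJ.le ⟨hg, h⟩)
    rcases hKmem g (hNK hg) with h | ⟨w, hw, rfl⟩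
    · exact hgJ (hWJ h)
    have hsub : ∀ j ∈ J, j * (w * t) = (w * t) * j := by
      intro j hj
      have h1 : ⁅j, w * t⁆ ∈ N ⊓ J := by
        refine ⟨?_, ?_⟩
        · rw [commutatorElement_def]
          exact N.mul_mem (Subgroup.Normal.conj_mem inferInstance _ hg j) (N.inv_mem hg)
        · rw [show ⁅j, w * t⁆ = j * ((w * t) * j⁻¹ * (w * t)⁻¹) by
            rw [commutatorElement_def]; group]
          exact J.mul_mem hj (hJn.conj_mem _ (J.inv_mem hj) _)
      rw [hNJ, Subgroup.mem_bot, commutatorElement_eq_one_iff_commute] at h1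
      exact h1
    have hw1 : w = 1 := by
      have h2 : (w * t) * (w * t) ∈ N ⊓ J := by
        refine ⟨mul_mem hg hg, ?_⟩
        rw [show w * t * (w * t) = w * (t * w * t) by group]
        refine mul_mem (hWJ hw) ?_
        have h5 := hJt w (hWJ hw)
        rwa [htinv] at h5
      rw [hNJ, Subgroup.mem_bot] at h2
      have h4 : t * w * t = w := by
        have h5 : (w * t) * w = w * (w * t) := (hsub w (hWJ hw)).symm
        have h6 : t * w = w * t := by
          rw [mul_assoc] at h5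
          exact mul_left_cancel h5
        rw [h6, mul_assoc, htt, mul_one]
      rw [show w * t * (w * t) = w * (t * w * t) by group, h4] at h2
      have h3 := hJexp w (hWJ hw)
      rwa [pow_succ, pow_two, h2, one_mul] at h3
    subst hw1
    rw [one_mul] at hg hgJ
    have hyJ : y⁻¹ * (t * y * t⁻¹) ∈ N := by
      rw [show y⁻¹ * (t * y * t⁻¹) = (y⁻¹ * t * y) * t⁻¹ by group]
      exact mul_mem (by simpa using Subgroup.Normal.conj_mem inferInstance t hg y⁻¹) (inv_mem hg)
    rw [hyt] at hyJ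
    have hy3 : y⁻¹ * y⁻¹ ∈ N ⊓ (S : Subgroup G) := ⟨hyJ, (S : Subgroup G).mul_mem ((S : Subgroup G).inv_mem hyS) ((S : Subgroup G).inv_mem hyS)⟩
    have hNS : ∀ a ∈ N ⊓ (S : Subgroup G), a = 1 := by
      rintro a ⟨haN, haS⟩
      rcases hKmem a (hNK haN) with h | ⟨v, hv, rfl⟩
      · exact Subgroup.mem_bot.mp (hNJ.le ⟨haN, hWJ h⟩)
      · exfalso
        have htS : t ∈ (S : Subgroup G) :=
          ((S : Subgroup G).mul_mem_cancel_left (hJS (hWJ hv))).mp haS
        have := Subgroup.orderOf_dvd_natCard _ htS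
        rw [hS, orderOf_eq_prime (by rw [pow_two, htt]) ht1] at this
        norm_num at this
    have h2 := hNS _ hy3
    have hord := Subgroup.orderOf_dvd_natCard _ hyS
    rw [hS] at hord
    have h2' : orderOf y ∣ 2 := by
      refine orderOf_dvd_of_pow_eq_one ?_
      rw [pow_two, ← inv_inj, mul_inv_rev, h2, inv_one]
    exact hyne (orderOf_eq_one_iff.mp (Nat.eq_one_of_dvd_one
      ((Nat.dvd_gcd hord h2').trans (by norm_num))))
  haveI : Nontrivial ↥Z := by
    rw [← Finite.one_lt_card_iff_nontrivial, hZcard]; norm_num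
  obtain ⟨⟨z, hzZ⟩, hzne⟩ := exists_ne (1 : ↥Z)
  have hz1 : z ≠ 1 := fun h => hzne (Subtype.ext h)
  let e : (G ⧸ K) ≃ Fin 9 := (Finite.equivFin _).trans
    (finCongr (by rw [← Subgroup.index_eq_card, hKidx]))
  let φ : G →* Equiv.Perm (Fin 9) :=
    e.permCongrHom.toMonoidHom.comp (MulAction.toPermHom G (G ⧸ K))
  have hφ : Function.Injective φ := by
    refine e.permCongrHom.injective.comp ((MonoidHom.ker_eq_bot_iff _).mp ?_)
    rw [← Subgroup.normalCore_eq_ker, hcore]
  have hzK : z ∉ K := fun h => hz1 (Subgroup.mem_bot.mp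
    (hWZ ▸ (⟨hKJ z h (hZJ hzZ), hzZ⟩ : z ∈ W ⊓ Z)))
  set σ : Equiv.Perm (Fin 9) := Equiv.swap (0 : Fin 9) 1 * Equiv.swap 1 2 * Equiv.swap 3 4 *
    Equiv.swap 4 5 * Equiv.swap 6 7 * Equiv.swap 7 8
  have hfix : ∀ i, φ z i ≠ i := by
    intro i hi
    obtain ⟨g, hg⟩ := QuotientGroup.mk_surjective (e.symm i)
    have h1 : z • (g : G ⧸ K) = (g : G ⧸ K) := by
      have := congrArg e.symm hi
      simp [φ, Equiv.permCongrHom, Equiv.permCongr_apply] at this
      rwa [← hg] at this
    rw [MulAction.Quotient.smul_mk, QuotientGroup.eq, smul_eq_mul] at h1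
    refine hzK (inv_mem_iff.mp ?_)
    have h2 : (z * g)⁻¹ * g = z⁻¹ := by rw [← hZcen z hzZ g]; group
    rwa [h2] at h1
  have hct : ∀ τ : Equiv.Perm (Fin 9), τ ^ 3 = 1 → (∀ i, τ i ≠ i) →
      τ.cycleType = Multiset.replicate 3 3 := by
    intro τ h3 hf
    have hord : orderOf τ = 3 := orderOf_eq_prime h3 fun h => hf 0 (by simp [h])
    obtain ⟨m, hm⟩ := Equiv.Perm.cycleType_prime_order (hord ▸ Nat.prime_three)
    have hsum := Equiv.Perm.sum_cycleType τ
    have hsupp : τ.support = Finset.univ := by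
      ext i; simp [hf i]
    rw [hm, hord, hsupp, Multiset.sum_replicate, Finset.card_univ, Fintype.card_fin,
      smul_eq_mul] at hsum
    rw [hm, hord, show m + 1 = 3 by omega]
  have hσ : σ.cycleType = Multiset.replicate 3 3 :=
    hct σ (by ext i; fin_cases i <;> decide) (by intro i; fin_cases i <;> decide)
  have hz3 : z ^ 3 = 1 := hJexp z (hZJ hzZ)
  obtain ⟨π, hπ⟩ := isConj_iff.mp (Equiv.Perm.isConj_iff_cycleType_eq.mpr
    ((hct (φ z) (by rw [← map_pow, hz3, map_one]) hfix).trans hσ.symm))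
  let ψ : G →* Equiv.Perm (Fin 9) := (MulAut.conj π).toMonoidHom.comp φ
  have hψ : Function.Injective ψ := (MulAut.conj π).injective.comp hφ
  have hψz : ψ z = σ := hπ
  let χ : G →* Subgroup.centralizer ({σ} : Set (Equiv.Perm (Fin 9))) :=
    ψ.codRestrict _ fun g => by
      rw [Subgroup.mem_centralizer_singleton_iff, ← hψz, ← map_mul, ← map_mul, hZcen z hzZ g]
  refine ⟨MulEquiv.ofBijective χ ((Nat.bijective_iff_injective_and_card χ).mpr
    ⟨fun a b hab => hψ (congrArg Subtype.val hab), ?_⟩)⟩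
  rw [hG, Equiv.Perm.nat_card_centralizer, hσ]
  rfl

end Cfsg.Agent.S3376
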