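import Cfsg.Statements.S2807
import Cfsg.Agent.Lib.Fusion.Yoshida
import Cfsg.Agent.Lib.Fusion.Group
import Cfsg.Agent.Lib.Fusion.Ext
import Cfsg.Agent.S0080

set_option autoImplicit false
open Cfsg

namespace Cfsg.Agent.S2807

/-- Let S be a Sylow p-subgroup of the finite group G. If S ∩ G' ≠ S ∩ (N_G(S))' (derived subgroups), then the wreath product Z_p ≀ Z_p — realised as a Sylow p-subgroup of the symmetric group of degree p² — is a homomorphic image of S. -/
theorem result {G : Type*} [Group G] [Finite G] {p : ℕ} [Fact p.Prime] (S : Sylow p G) (h : (S : Subgroup G) ⊓ commutator G ≠ (S : Subgroup G) ⊓ ⁅Subgroup.normalizer ((S : Subgroup G) : Set G), Subgroup.normalizer ((S : Subgroup G) : Set G)⁆) : ∃ (P : Sylow p (Equiv.Perm (Fin (p ^ 2)))) (f : ↥(S : Subgroup G) →* ↥(P : Subgroup (Equiv.Perm (Fin (p ^ 2))))), Function.Surjective f := by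
  classical
  open CfsgLib.Fusion in
  have hS := S.isPGroup'
  have hF := CfsgLib.Fusion.isSaturated_group (S := S)
  have hfoc : (S : Subgroup G) ⊓ commutator G ≤
      (Cfsg.groupFusionSystem (S : Subgroup G)).focalSubgroup := by
    have h0 := (Cfsg.Agent.S0080.result (S : Subgroup G) (Nat.Coprime.coprime_dvd_right
      (Subgroup.index_dvd_card _) S.card_coprime_index.symm)).1
    rw [inf_comm, ← h0, Subgroup.focalSubgroup_def, Subgroup.closure_le]
    rintro _ ⟨hm, x, hx, u, rfl⟩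
    have hzp : Subgroup.zpowers x⁻¹ ≤ (S : Subgroup G) := Subgroup.zpowers_le.2 (inv_mem hx)
    have hu : u * x⁻¹ * u⁻¹ ∈ (S : Subgroup G) := by
      have h1 := (S : Subgroup G).mul_mem (inv_mem hx) hm
      rw [commutatorElement_def] at h1
      simpa [mul_assoc] using h1
    have hmap := CfsgLib.Fusion.isMap_group_of_conj u hzp (fun y hy => by
      obtain ⟨i, rfl⟩ := Subgroup.mem_zpowers_iff.1 hy
      rw [← conj_zpow]
      exact Subgroup.zpow_mem _ hu i)
    have h2 := CfsgLib.Fusion.inv_mul_mem_focal hmap (Subgroup.mem_zpowers x⁻¹)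
    rw [commutatorElement_def]
    simpa [mul_assoc] using h2
  obtain ⟨N, hN⟩ : ∃ N, (Cfsg.groupFusionSystem (S : Subgroup G)).IsNormalizerSystem
      (S : Subgroup G) N := ⟨CfsgLib.Fusion.normalizerSystem _ _ le_rfl, fun _ => rfl⟩
  refine CfsgLib.Fusion.wreath_of_focal_ne hS hF hN fun heq => h ?_
  refine le_antisymm (le_inf inf_le_left ((hfoc.trans heq.ge).trans ?_))
    (le_inf inf_le_left (inf_le_right.trans (Subgroup.commutator_mono le_top le_top)))
  refine (Subgroup.closure_le _).2 ?_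
  rintro _ ⟨P, φ, x, hφ, rfl⟩
  have hmap := CfsgLib.Fusion.isMap_homFun hφ
  obtain ⟨-, -, g, hg, hgv, hgi⟩ := (CfsgLib.Fusion.isMap_normalizerSystem_iff hN).1 hmap
  obtain ⟨-, -, c, hc⟩ := CfsgLib.Fusion.isMap_group_iff.1 hg
  have hcN : c ∈ Subgroup.normalizer ((S : Subgroup G) : Set G) := by
    refine Subgroup.mem_normalizer_fintype fun y hy => ?_
    rw [← hc y (Subgroup.mem_sup_right hy)]
    exact hgi.subset ⟨y, hy, rfl⟩
  have hxS : (x : G) ∈ (S : Subgroup G) :=
    (inf_le_left : Cfsg.FusionSystem.normalizerIn (S : Subgroup G) (S : Subgroup G) ≤ _) ((N.le_of_mem hφ).1 x.2)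
  open scoped commutatorElement in
  have e : (x : G)⁻¹ * φ x = ⁅(x : G)⁻¹, c⁆ := by
    rw [← CfsgLib.Fusion.homFun_coe φ x, ← hgv x x.2, hc x (Subgroup.mem_sup_left x.2),
      commutatorElement_def, inv_inv]
    simp [mul_assoc]
  show (x : G)⁻¹ * φ x ∈ _
  rw [e]
  exact Subgroup.commutator_mem_commutator (Subgroup.le_normalizer (inv_mem hxS)) hcN

end Cfsg.Agent.S2807
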