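import Cfsg.Statements.S1070
import Cfsg.Agent.Lib.Chev.All
import Cfsg.Agent.Lib.Chev.TwistE6
-- import your own Cfsg.Agent.* helpers here

set_option autoImplicit false
open Cfsg

namespace Cfsg.Agent.S1070

/-- ²E₆(q) is simple for every `q`. -/
theorem result {K : Type*} [Field K] [Fintype K] {q : ℕ} (hq : IsPrimePow q) (hK : Fintype.card K = q ^ 2) :
    IsSimpleGroup ↥(Cfsg.Lie.twistedE6 K q) ∧ ¬ IsMulCommutative ↥(Cfsg.Lie.twistedE6 K q) := by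
  obtain ⟨f, hf⟩ := CfsgLib.Chev.exists_frob hq hK
  rw [← CfsgLib.Chev.fix_eq_twistedE6 f hf hK hq]
  exact (CfsgLib.Chev.endoE6 f).simple_of_eq rfl (CfsgLib.Chev.std_fixE6 f hf hK hq) hq.two_le
    (CfsgLib.Chev.hcardE6 f hf hK hq) CfsgLib.Chev.chkLinkTwE6
    (CfsgLib.Chev.perfect_fixE6 f hf hK hq) (by simp [CfsgLib.Chev.dataTwE6])

end Cfsg.Agent.S1070
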