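import Cfsg.Statements.S1072
import Cfsg.Agent.Lib.Chev.All
import Cfsg.Agent.Lib.Chev.TwistF4
-- import your own Cfsg.Agent.* helpers here

set_option autoImplicit false
open Cfsg

namespace Cfsg.Agent.S1072

/-- ²F₄(2^(2m+1)) is simple for `m ≥ 1`. -/
theorem result {K : Type*} [Field K] [Fintype K] {m : ℕ} (hm : 1 ≤ m) (hK : Fintype.card K = 2 ^ (2 * m + 1)) :
    IsSimpleGroup ↥(Cfsg.Lie.twistedF4 K (2 ^ m)) ∧ ¬ IsMulCommutative ↥(Cfsg.Lie.twistedF4 K (2 ^ m)) := by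
  haveI := CfsgLib.Chev.charTwo_F4 hK
  obtain ⟨f, hf, hK'⟩ := CfsgLib.Chev.setupF4 hK
  rw [← CfsgLib.Chev.fix_eq_twistedF4 f hf hK']
  exact (CfsgLib.Chev.endoF4 f).simple_of_eq rfl (CfsgLib.Chev.std_fixF4 f hf hK') Fintype.one_lt_card
    (CfsgLib.Chev.hcardF4 f hf hK') CfsgLib.Chev.chkLinkTwF4
    (CfsgLib.Chev.perfect_fixF4 f hf hK' (Nat.le_self_pow (by omega) 2)) (by simp [CfsgLib.Chev.dataTwF4])

end Cfsg.Agent.S1072
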