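import Cfsg.Statements.S1395
import Cfsg.Agent.Lib.OddLocal.Transitivity
set_option autoImplicit false
open Cfsg

namespace Cfsg.Agent.S1395

open Pointwise
open scoped commutatorElement
/-- Let G be a minimal simple group of odd order, A a subgroup satisfying the transitivity hypothesis with K = O_{π(A)'}(C_G(A)), q a prime not dividing the order of A, and P a proper subgroup all of whose prime divisors divide the order of A, containing A as a subnormal subgroup, such that any two maximal A-invariant q-subgroups are conjugate under K. Then (a) K ∩ C_G(P) = O_{π(A)'}(C_G(P)); (b) any two maximal P-invariant q-subgroups are conjugate under O_{π(A)'}(C_G(P)); (c) every maximal P-invariant q-subgroup is a maximal A-invariant q-subgroup; (d) for every maximal P-invariant q-subgroup Q, P ∩ N_G(P)' ≤ N_G(Q)' and N_G(P) is generated by O_{π(A)'}(C_G(P)) and N_G(P) ∩ N_G(Q). -/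
theorem result {G : Type*} [Group G] [Finite G] (hG : Cfsg.IsMinSimpleOddOrder G)
    (A : Subgroup G) (hA : Cfsg.TransitivityHypothesis A) (q : ℕ) (hq : q.Prime) (hqA : ¬ q ∣ Nat.card A)
    (P : Subgroup G) (hP : P ≠ ⊤) (hPπ : (∀ r : ℕ, r.Prime → r ∣ Nat.card P → r ∣ Nat.card A)) (hAP : A ≤ P) (hsn : (A.subgroupOf P).IsSubnormal)
    (htr : ∀ Q₁ ∈ Cfsg.maxInvSubgroups ⊤ A {q}, ∀ Q₂ ∈ Cfsg.maxInvSubgroups ⊤ A {q}, ∃ k ∈ Cfsg.piCoreOf (Cfsg.primesNotDvd (Nat.card A)) (Subgroup.centralizer (A : Set G)), Q₂ = Q₁.map (MulAut.conj k).toMonoidHom) :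
    Cfsg.piCoreOf (Cfsg.primesNotDvd (Nat.card A)) (Subgroup.centralizer (A : Set G)) ⊓ Subgroup.centralizer (P : Set G) = Cfsg.piCoreOf (Cfsg.primesNotDvd (Nat.card A)) (Subgroup.centralizer (P : Set G)) ∧
      (∀ Q₁ ∈ Cfsg.maxInvSubgroups ⊤ P {q}, ∀ Q₂ ∈ Cfsg.maxInvSubgroups ⊤ P {q}, ∃ k ∈ Cfsg.piCoreOf (Cfsg.primesNotDvd (Nat.card A)) (Subgroup.centralizer (P : Set G)), Q₂ = Q₁.map (MulAut.conj k).toMonoidHom) ∧
      Cfsg.maxInvSubgroups ⊤ P {q} ⊆ Cfsg.maxInvSubgroups ⊤ A {q} ∧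
      ∀ Q ∈ Cfsg.maxInvSubgroups ⊤ P {q},
        P ⊓ ⁅Subgroup.normalizer (P : Set G), Subgroup.normalizer (P : Set G)⁆ ≤ ⁅Subgroup.normalizer (Q : Set G), Subgroup.normalizer (Q : Set G)⁆ ∧
        Subgroup.normalizer (P : Set G) = Cfsg.piCoreOf (Cfsg.primesNotDvd (Nat.card A)) (Subgroup.centralizer (P : Set G)) ⊔ (Subgroup.normalizer (P : Set G) ⊓ Subgroup.normalizer (Q : Set G)) := by
  classical
  have heq := CfsgLib.OddLocal.primesNotDvd_eq hAP hPπ
  have h1 : (A.subgroupOf P).map P.subtype = A := Subgroup.map_subgroupOf_eq_of_le hAP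
  obtain ⟨htP, hsub⟩ := CfsgLib.OddLocal.trans_overgroup hG hq hP (A.subgroupOf P) hsn
    (by rw [h1]; exact hA) (by rw [h1]; exact hqA) (by rw [h1]; exact hPπ) (by rw [h1]; exact htr)
  rw [h1] at hsub
  have hK := CfsgLib.OddLocal.transK_inf_centralizer hG hA hAP hP hPπ
  simp only [CfsgLib.OddLocal.transK, heq] at hK
  unfold CfsgLib.OddLocal.IsTrans CfsgLib.OddLocal.transK at htP
  rw [heq] at htP
  refine ⟨hK, htP, hsub, fun Q hQ => ?_⟩
  set N := Subgroup.normalizer (P : Set G) with hN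
  set K := Cfsg.piCoreOf (Cfsg.primesNotDvd (Nat.card A)) (Subgroup.centralizer (P : Set G)) with hKdef
  have hKC : K ≤ Subgroup.centralizer (P : Set G) := CfsgLib.OddLocal.piCoreOf_le _ _
  have hKN : K ≤ N := hKC.trans (Subgroup.centralizer_le_normalizer _)
  have hNK : N ≤ Subgroup.normalizer (K : Set G) :=
    (CfsgLib.Coprime.le_normalizer_centralizer le_rfl).trans (CfsgLib.OddLocal.piCoreOf_normalizer_le _ _)
  set M := N ⊓ Subgroup.normalizer (Q : Set G) with hM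
  have hsup : N = K ⊔ M := by
    refine le_antisymm (fun n hn => ?_) (sup_le hKN inf_le_left)
    obtain ⟨k, hk, hkQ⟩ := htP Q hQ _ (CfsgLib.OddLocal.conj_mem_max hn hQ)
    have hm : k⁻¹ * n ∈ M := by
      refine ⟨N.mul_mem (N.inv_mem (hKN hk)) hn, CfsgLib.Coprime.mem_normalizer_iff_conj_smul.2 ?_⟩
      rw [map_mul, mul_smul, hkQ]
      show MulAut.conj k⁻¹ • MulAut.conj k • Q = Q
      rw [← mul_smul, ← map_mul, inv_mul_cancel, map_one, one_smul]
    have h2 := mul_mem (Subgroup.mem_sup_left (T := M) hk) (Subgroup.mem_sup_right (S := K) hm)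
    rwa [mul_inv_cancel_left] at h2
  refine ⟨?_, hsup⟩
  have hMM : ⁅M, M⁆ ≤ M := Subgroup.commutator_le_self M
  have hPM : P ≤ M := le_inf Subgroup.le_normalizer hQ.1.2.2
  intro x hx
  obtain ⟨hxP, hxD⟩ := hx
  have hle : ⁅N, N⁆ ≤ ⁅M, M⁆ ⊔ K := by
    haveI : (K.subgroupOf N).Normal := (Subgroup.normal_subgroupOf_iff_le_normalizer hKN).2 hNK
    set φ := QuotientGroup.mk' (K.subgroupOf N) with hφ
    have hMtop : (M.subgroupOf N).map φ = ⊤ := by
      refine eq_top_iff.2 fun y _ => ?_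
      obtain ⟨n, rfl⟩ := QuotientGroup.mk'_surjective _ y
      have hn : (n : G) ∈ K ⊔ M := hsup ▸ n.2
      obtain ⟨k, hk, m, hm, hkm⟩ := (show (n : G) ∈ (K : Set G) * (M : Set G) from
        (Subgroup.coe_mul_of_right_le_normalizer_left K M (inf_le_left.trans hNK)) ▸ hn)
      refine ⟨⟨m, inf_le_left (b := Subgroup.normalizer (Q : Set G)) hm⟩, hm, ?_⟩
      have h3 : n = ⟨k, hKN hk⟩ * ⟨m, inf_le_left (b := Subgroup.normalizer (Q : Set G)) hm⟩ :=
        Subtype.ext hkm.symm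
      rw [h3, map_mul, show φ ⟨k, hKN hk⟩ = 1 from (QuotientGroup.eq_one_iff _).2 hk, one_mul]
    intro d hd
    rw [← Subgroup.map_subtype_commutator] at hd
    obtain ⟨d', hd', rfl⟩ := hd
    have h4 : φ d' ∈ (⁅M.subgroupOf N, M.subgroupOf N⁆).map φ := by
      rw [Subgroup.map_commutator, hMtop]
      have := Subgroup.mem_map_of_mem φ hd'
      rwa [commutator_def, Subgroup.map_commutator, Subgroup.map_top_of_surjective φ (QuotientGroup.mk'_surjective _)] at this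
    obtain ⟨e, he, hee⟩ := h4
    have h5 : e⁻¹ * d' ∈ K.subgroupOf N := (QuotientGroup.eq_one_iff _).1 (by
      show φ (e⁻¹ * d') = 1
      rw [map_mul, map_inv, hee, inv_mul_cancel])
    have h6 : (e : G) ∈ ⁅M, M⁆ := by
      have h7 := Subgroup.mem_map_of_mem N.subtype he
      rwa [Subgroup.map_commutator, Subgroup.map_subgroupOf_eq_of_le (inf_le_left : M ≤ N)] at h7
    have h8 := mul_mem (Subgroup.mem_sup_left (T := K) h6) (Subgroup.mem_sup_right (S := ⁅M, M⁆) h5)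
    simpa using h8
  -- the part in `K` dies modulo `M'`
  have hMK : M ≤ Subgroup.normalizer (K : Set G) := inf_le_left.trans hNK
  obtain ⟨m, hm, k, hk, hmk⟩ := (show x ∈ ((⁅M, M⁆ : Subgroup G) : Set G) * (K : Set G) from
    (Subgroup.coe_mul_of_left_le_normalizer_right ⁅M, M⁆ K (hMM.trans hMK)) ▸ hle hxD)
  have hkM : k ∈ M := by
    have h9 := mul_mem (inv_mem (hMM hm)) (hPM hxP)
    rwa [← hmk, inv_mul_cancel_left] at h9
  haveI : (⁅M, M⁆.subgroupOf M).Normal := by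
    rw [Subgroup.subgroupOf, ← Subgroup.map_subtype_commutator, Subgroup.comap_map_eq_self_of_injective M.subtype_injective]
    infer_instance
  set ψ := QuotientGroup.mk' (⁅M, M⁆.subgroupOf M) with hψ
  have hψx : ψ ⟨x, hPM hxP⟩ = ψ ⟨k, hkM⟩ := by
    have h10 : (⟨x, hPM hxP⟩ : M) = ⟨m, hMM hm⟩ * ⟨k, hkM⟩ := Subtype.ext hmk.symm
    rw [h10, map_mul, show ψ ⟨m, hMM hm⟩ = 1 from (QuotientGroup.eq_one_iff _).2 hm, one_mul]
  have hx1 : orderOf (ψ ⟨x, hPM hxP⟩) = 1 := by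
    refine Nat.eq_one_of_dvd_coprimes (a := Nat.card P) (b := Nat.card K) ?_ ?_ ?_
    · exact CfsgLib.OddLocal.coprime_primesNotDvd (A := P) (by rw [heq]; exact CfsgLib.OddLocal.isPi_piCoreOf _ _)
    · exact ((orderOf_map_dvd ψ _).trans (Subgroup.orderOf_mk x _).dvd).trans (Subgroup.orderOf_dvd_natCard P hxP)
    · rw [hψx]
      exact ((orderOf_map_dvd ψ _).trans (Subgroup.orderOf_mk k _).dvd).trans (Subgroup.orderOf_dvd_natCard K hk)
  have h11 : ψ ⟨x, hPM hxP⟩ = 1 := orderOf_eq_one_iff.1 hx1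
  have h12 : (⟨x, hPM hxP⟩ : M) ∈ ⁅M, M⁆.subgroupOf M := (QuotientGroup.eq_one_iff (⟨x, hPM hxP⟩ : M)).1 h11
  exact Subgroup.commutator_mono (inf_le_right : M ≤ _) (inf_le_right : M ≤ _) h12
end Cfsg.Agent.S1395
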