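import Cfsg.Statements.S1429
import Cfsg.Agent.Lib.OddLocal.KappaBasic
set_option autoImplicit false
open Cfsg

namespace Cfsg.Agent.S1429

/-- Let G be a minimal simple group of odd order and M a maximal subgroup such that κ(M) is not the whole of the primes of M outside σ(M) (M is not of type P₁). Let p divide the order of M with p ∉ σ(M) ∪ κ(M), S a Sylow p-subgroup of M, and A the subgroup generated by the elements of S of order dividing p. Then A has order at most p ^ 2, M_σ ∩ C_G(A) = 1, and M_σ is nilpotent. -/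
theorem result {G : Type*} [Group G] [Finite G] (hG : Cfsg.IsMinSimpleOddOrder G)
    (M : Subgroup G) (hM : IsCoatom M) (hP1 : ¬ (∀ q : ℕ, q.Prime → q ∣ Nat.card M → q ∉ Cfsg.sigma M → q ∈ Cfsg.kappa M))
    (p : ℕ) [Fact p.Prime] (hpM : p ∣ Nat.card M) (hp : p ∉ Cfsg.sigma M ∪ Cfsg.kappa M) (S : Sylow p M) :
    Nat.card ↥(Subgroup.closure {x : G | x ∈ (S : Subgroup M).map M.subtype ∧ x ^ p = 1}) ≤ p ^ 2 ∧
      Cfsg.sigmaCore M ⊓ Subgroup.centralizer ((Subgroup.closure {x : G | x ∈ (S : Subgroup M).map M.subtype ∧ x ^ p = 1} : Subgroup G) : Set G) = ⊥ ∧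
      Group.IsNilpotent (Cfsg.sigmaCore M) := by
  classical
  have hpp : p.Prime := Fact.out
  have hpσ : p ∉ Cfsg.sigma M := fun e => hp (Or.inl e)
  have hpκ : p ∉ Cfsg.kappa M := fun e => hp (Or.inr e)
  set P := (S : Subgroup M).map M.subtype with hP
  by_cases hr : Cfsg.PRankLE p 1 M
  · have hc : IsCyclic P := CfsgLib.OddLocal.cyclic_of_prankLE_one hG hpp hr (S.2.map _) (Subgroup.map_subtype_le _)
    have hPd : p ∣ Nat.card P := by
      rw [hP, Subgroup.card_subtype, S.card_eq_multiplicity]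
      exact dvd_pow_self p (hpp.factorization_pos_of_dvd Nat.card_pos.ne' hpM).ne'
    obtain ⟨b, hb, hbo⟩ := CfsgLib.OddLocal.exists_order_of_dvd hpp hPd
    have hbM : b ∈ M := Subgroup.map_subtype_le _ hb
    have hBc : Nat.card (Subgroup.zpowers b) = p := (CfsgLib.OddLocal.zpowers_line hpp hbo).1
    have hΩ : Subgroup.closure {x : G | x ∈ P ∧ x ^ p = 1} = Subgroup.zpowers b := by
      refine le_antisymm ((Subgroup.closure_le _).2 fun x hx => CfsgLib.OddLocal.mem_line_of_cyclic hpp hc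
        (Subgroup.zpowers_le.2 hb) hBc hx.1 hx.2) (Subgroup.zpowers_le.2 (Subgroup.subset_closure ⟨hb, ?_⟩))
      rw [← hbo, pow_orderOf_eq_one]
    have hfix : Cfsg.sigmaCore M ⊓ Subgroup.centralizer ({b} : Set G) = ⊥ :=
      (Subgroup.eq_bot_iff_forall _).2 fun y hy => by_contra fun hy1 => hpκ
        (CfsgLib.OddLocal.mem_kappa_of_line hG hM hpp hpσ hr hbM hbo hy.1 hy1
          (CfsgLib.OddLocal.commute_of_mem_centralizer_singleton hy.2))
    rw [hΩ, hBc, CfsgLib.OddLocal.centralizer_zpowers_eq, hfix]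
    exact ⟨Nat.le_self_pow two_ne_zero p, rfl, CfsgLib.OddLocal.isNilpotent_of_fpf_elem hpp
      (by rw [← hbo, pow_orderOf_eq_one]) (CfsgLib.OddLocal.le_normalizer_piCoreOf _ M hbM) hfix⟩
  · have h2 : p ∈ Cfsg.tau2 M :=
      ⟨hpp, hpσ, CfsgLib.OddLocal.prankLE_two_of_not_sigma hG hM hpp hpσ, hr⟩
    obtain ⟨B, B₀, hB, -⟩ := CfsgLib.OddLocal.exists_exc_mem hG hM h2 (one_mem M) (one_pow p)
    obtain ⟨A, A₀, hAS, hA⟩ := hB.exists_in_sylow S
    have hΩ : Subgroup.closure {x : G | x ∈ P ∧ x ^ p = 1} = A := by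
      refine le_antisymm ((Subgroup.closure_le _).2 fun x hx => (hA.le_sylow_mem S hAS hx.1).1 hx.2) fun a ha =>
        Subgroup.subset_closure ⟨hAS ha, (hA.le_sylow_mem S hAS (hAS ha)).2 ha⟩
    obtain ⟨B₁, B₂, hB₁, -, hB₁c, -, -, hfix, -⟩ := hA.exists_fpf_lines
    obtain ⟨b, hb, hbo⟩ := CfsgLib.OddLocal.exists_order_of_dvd hpp (hB₁c ▸ dvd_rfl : p ∣ Nat.card B₁)
    rw [CfsgLib.OddLocal.line_eq_zpowers hpp hB₁c hb hbo, CfsgLib.OddLocal.centralizer_zpowers_eq] at hfix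
    rw [hΩ]
    exact ⟨hA.hA2.le, hA.sigmaCore_inf_centralizer, CfsgLib.OddLocal.isNilpotent_of_fpf_elem hpp
      (by rw [← hbo, pow_orderOf_eq_one]) (CfsgLib.OddLocal.le_normalizer_piCoreOf _ M (hA.hAM (hB₁ hb))) hfix⟩

end Cfsg.Agent.S1429
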