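import Cfsg.Statements.S1424
import Cfsg.Agent.Lib.OddLocal.TauTwoHall
set_option autoImplicit false
open Cfsg

namespace Cfsg.Agent.S1424

open scoped Pointwise

/-- Let G be a minimal simple group of odd order, M a maximal subgroup, q ∈ σ(M), X a nontrivial q-subgroup of M, M* a maximal subgroup different from M with N_G(X) ≤ M*, and S a Sylow q-subgroup of M ∩ M* containing X. Then M* is not conjugate to M in G, N_G(S) ≤ M, and q does not divide the index of S in M*. -/
theorem result {G : Type*} [Group G] [Finite G] (hG : Cfsg.IsMinSimpleOddOrder G)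
    (M : Subgroup G) (hM : IsCoatom M) (q : ℕ) [Fact q.Prime] (hq : q ∈ Cfsg.sigma M) (X : Subgroup G) (hXq : IsPGroup q X) (hX1 : X ≠ ⊥) (hXM : X ≤ M)
    (Mstar : Subgroup G) (hMs : IsCoatom Mstar) (hne : Mstar ≠ M) (hNX : Subgroup.normalizer (X : Set G) ≤ Mstar)
    (S : Sylow q ↥(M ⊓ Mstar)) (hXS : X ≤ (S : Subgroup ↥(M ⊓ Mstar)).map (M ⊓ Mstar).subtype) :
    (∀ g : G, Mstar ≠ M.map (MulAut.conj g).toMonoidHom) ∧
      Subgroup.normalizer (((S : Subgroup ↥(M ⊓ Mstar)).map (M ⊓ Mstar).subtype : Subgroup G) : Set G) ≤ M ∧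
      ¬ q ∣ ((S : Subgroup ↥(M ⊓ Mstar)).map (M ⊓ Mstar).subtype).relIndex Mstar := by
  classical
  haveI : Fact q.Prime := inferInstance
  set S' := (S : Subgroup ↥(M ⊓ Mstar)).map (M ⊓ Mstar).subtype with hS'
  have hS'q : IsPGroup q S' := S.2.map _
  have hS'M : S' ≤ M := (Subgroup.map_subtype_le _).trans inf_le_left
  have hS'Ms : S' ≤ Mstar := (Subgroup.map_subtype_le _).trans inf_le_right
  have hmax : ∀ R : Subgroup G, IsPGroup q R → S' ≤ R → R ≤ M → R ≤ Mstar → R ≤ S' := fun R hR hle hRM hRMs => by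
    have h1 := S.is_maximal' (hR.comap_of_injective (M ⊓ Mstar).subtype (M ⊓ Mstar).subtype_injective :
      IsPGroup q (R.subgroupOf (M ⊓ Mstar))) (fun x hx => hle ⟨x, hx, rfl⟩)
    rw [hS', ← h1]
    exact (Subgroup.map_subgroupOf_eq_of_le (le_inf hRM hRMs)).ge
  have hS'1 : S' ≠ ⊥ := fun e => hX1 (le_bot_iff.1 (hXS.trans e.le))
  -- `N(S) ≤ M`
  have hNM : Subgroup.normalizer (S' : Set G) ≤ M := by
    by_cases hc : IsCyclic S'
    swap
    · exact CfsgLib.OddLocal.normalizer_le_of_noncyclic hG hM hq hS'q hS'M hc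
    obtain ⟨P, hP⟩ := (hS'q.comap_of_injective M.subtype M.subtype_injective :
      IsPGroup q (S'.subgroupOf M)).exists_le_sylow
    set P' := (P : Subgroup M).map M.subtype
    have hle : S' ≤ P' := (Subgroup.map_subgroupOf_eq_of_le hS'M).ge.trans (Subgroup.map_mono hP)
    have hPS : P' = S' := by
      refine le_antisymm ?_ hle
      by_contra hne'
      obtain ⟨y, hy, hyN, hyS⟩ := CfsgLib.OddLocal.exists_mem_normalizer_not_mem (P.2.map M.subtype) hle hne'
      have hyX : y ∈ Subgroup.normalizer (X : Set G) := by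
        refine CfsgLib.BG.FixedLine.mem_normalizer_of_conj fun x hx => ?_
        haveI := hc
        set ψ := Subgroup.normalizerMonoidHom S' ⟨y, hyN⟩
        obtain ⟨i, hi⟩ := MonoidHom.map_cyclic ψ.toMonoidHom
        have h1 : (⟨x, hXS hx⟩ : S') ^ i = ψ ⟨x, hXS hx⟩ := (hi _).symm
        have h2 : x ^ i = y * x * y⁻¹ := congrArg Subtype.val h1
        exact h2 ▸ X.zpow_mem hx i
      exact hyS (hmax (S' ⊔ Subgroup.zpowers y) ((P.2.map M.subtype).to_le (sup_le hle (Subgroup.zpowers_le.2 hy)))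
        le_sup_left (sup_le hS'M (Subgroup.zpowers_le.2 (Subgroup.map_subtype_le _ hy)))
        (sup_le hS'Ms (Subgroup.zpowers_le.2 (hNX hyX))) (Subgroup.mem_sup_right (Subgroup.mem_zpowers y)))
    rw [← hPS]
    exact CfsgLib.OddLocal.sylow_normalizer_le hq P
  -- `S` is a Sylow subgroup of `Mstar`
  obtain ⟨T, hT⟩ := (hS'q.comap_of_injective Mstar.subtype Mstar.subtype_injective :
    IsPGroup q (S'.subgroupOf Mstar)).exists_le_sylow
  have hST : (T : Subgroup Mstar).map Mstar.subtype = S' := by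
    have hle : S' ≤ (T : Subgroup Mstar).map Mstar.subtype :=
      (Subgroup.map_subgroupOf_eq_of_le hS'Ms).ge.trans (Subgroup.map_mono hT)
    refine le_antisymm ?_ hle
    by_contra hne'
    obtain ⟨y, hy, hyN, hyS⟩ := CfsgLib.OddLocal.exists_mem_normalizer_not_mem (T.2.map Mstar.subtype) hle hne'
    exact hyS (hmax (S' ⊔ Subgroup.zpowers y) ((T.2.map Mstar.subtype).to_le (sup_le hle (Subgroup.zpowers_le.2 hy)))
      le_sup_left (sup_le hS'M (Subgroup.zpowers_le.2 (hNM hyN)))
      (sup_le hS'Ms (Subgroup.zpowers_le.2 (Subgroup.map_subtype_le _ hy))) (Subgroup.mem_sup_right (Subgroup.mem_zpowers y)))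
  refine ⟨fun g hg => hne ?_, hNM, ?_⟩
  swap
  · rw [← hST, Subgroup.relIndex, Subgroup.subgroupOf, Subgroup.comap_map_eq_self_of_injective Mstar.subtype_injective]
    exact T.not_dvd_index
  replace hg : Mstar = MulAut.conj g • M := hg
  subst hg
  -- a Sylow subgroup of `G`
  obtain ⟨P⟩ : Nonempty (Sylow q M) := inferInstance
  obtain ⟨P₀, hP₀⟩ := CfsgLib.OddLocal.exists_sylow_map_eq hq P
  have hP₀M : (P₀ : Subgroup G) ≤ M := hP₀.le.trans (Subgroup.map_subtype_le _)
  have hgle : ((g • P₀ : Sylow q G) : Subgroup G) ≤ MulAut.conj g • M := by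
    rw [Sylow.coe_subgroup_smul]; exact Subgroup.map_mono hP₀M
  have hcard : Nat.card S' = Nat.card (P₀ : Subgroup G) := by
    rw [← hST, Subgroup.card_subtype, Sylow.card_eq_multiplicity, ← (g • P₀).card_eq_multiplicity.trans P₀.card_eq_multiplicity.symm,
      ← ((g • P₀).subtype hgle).card_eq_multiplicity, Sylow.coe_subtype,
      Nat.card_congr (Subgroup.subgroupOfEquivOfLe hgle).toEquiv]
  set R : Sylow q G := Sylow.ofCard S' (hcard.trans P₀.card_eq_multiplicity) with hR
  have hRe : (R : Subgroup G) = S' := rfl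
  have hgR : ((g⁻¹ • R : Sylow q G) : Subgroup G) ≤ M := by
    intro x hx
    rw [Sylow.coe_subgroup_smul] at hx
    have h1 := hS'Ms (hRe.le ((CfsgLib.Coprime.mem_conj_smul_iff).1 hx))
    rw [CfsgLib.Coprime.mem_conj_smul_iff] at h1
    simpa [mul_assoc] using h1
  obtain ⟨m, hm⟩ := MulAction.exists_smul_eq M (R.subtype (hRe.le.trans hS'M)) ((g⁻¹ • R).subtype hgR)
  have h2 := CfsgLib.Coprime.map_subtype_conj_smul_sylow m (R.subtype (hRe.le.trans hS'M))
  rw [hm, Sylow.coe_subtype, Sylow.coe_subtype, Subgroup.map_subgroupOf_eq_of_le hgR,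
    Subgroup.map_subgroupOf_eq_of_le (hRe.le.trans hS'M), Sylow.coe_subgroup_smul, hRe] at h2
  have h3 : g * (m : G) ∈ Subgroup.normalizer (S' : Set G) := by
    rw [CfsgLib.Coprime.mem_normalizer_iff_conj_smul, map_mul, mul_smul]
    rw [show MulAut.conj (m : G) • S' = MulAut.conj g⁻¹ • S' from h2.symm, ← mul_smul, ← map_mul, mul_inv_cancel,
      map_one, one_smul]
  have hgM : g ∈ M := by
    have := M.mul_mem (hNM h3) (M.inv_mem m.2)
    rwa [mul_inv_cancel_right] at this
  exact CfsgLib.OddLocal.smul_eq_self hgM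

end Cfsg.Agent.S1424
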