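import Cfsg.Statements.S1545
import Cfsg.Agent.Lib.Char.FrobAction

set_option autoImplicit false
open Cfsg

namespace Cfsg.Agent.S1545

theorem exists_quotient {H : Type*} [Group H] [Finite H] [Nontrivial H] [Group.IsSolvable H] :
    ∃ p : ℕ, p.Prime ∧ p ∣ Nat.card H ∧
      (powMonoidHom p : Abelianization H →* Abelianization H).range ≠ ⊤ := by
  haveI : Nontrivial (Abelianization H) :=
    QuotientGroup.nontrivial_iff.mpr (Group.IsSolvable.commutator_lt_top_of_nontrivial (G := H)).ne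
  haveI : Finite (Abelianization H) := Finite.of_surjective _ (QuotientGroup.mk_surjective)
  obtain ⟨p, hp, hdvd⟩ := Nat.exists_prime_and_dvd
    (n := Nat.card (Abelianization H)) (Finite.one_lt_card.ne')
  haveI : Fact p.Prime := ⟨hp⟩
  refine ⟨p, hp, hdvd.trans (Subgroup.card_quotient_dvd_card _), fun htop => ?_⟩
  obtain ⟨x, hx⟩ := exists_prime_orderOf_dvd_card' p hdvd
  have hsur : Function.Surjective (powMonoidHom p : Abelianization H →* Abelianization H) :=
    MonoidHom.range_eq_top.mp htop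
  have h1 := (Finite.injective_iff_surjective.mpr hsur) (a₁ := x) (a₂ := 1) (by
    simp [powMonoidHom_apply, ← hx, pow_orderOf_eq_one])
  rw [h1, orderOf_one] at hx
  exact hp.one_lt.ne hx

theorem key {X : Type*} [Group X] [Finite X] (U E : Subgroup X) (hUE : U ⊓ E = ⊥)
    (hUn : ∀ e ∈ E, ∀ u ∈ U, e * u * e⁻¹ ∈ U)
    (hfpf : ∀ e ∈ E, e ≠ 1 → ∀ u ∈ U, e * u = u * e → u = 1) :
    ∀ (n : ℕ) (H : Subgroup X), Nat.card H = n →
      U ⊔ E ≤ Subgroup.normalizer (H : Set X) → Group.IsSolvable H →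
      Nat.Coprime (Nat.card H) (Nat.card ↥(U ⊔ E)) →
      Nat.card ↥(H ⊓ Subgroup.centralizer ((U ⊔ E : Subgroup X) : Set X)) ^ Nat.card E * Nat.card H
        = Nat.card ↥(H ⊓ Subgroup.centralizer (E : Set X)) ^ Nat.card E
          * Nat.card ↥(H ⊓ Subgroup.centralizer (U : Set X)) := by
  intro n
  induction n using Nat.strong_induction_on with
  | _ n ih =>
  intro H hHn hnorm hsolv hcop
  haveI := hsolv
  rcases subsingleton_or_nontrivial H with hs | hn
  · have : H = ⊥ := H.eq_bot_of_subsingleton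
    subst this
    simp
  obtain ⟨p, hp, hpH, hR⟩ := exists_quotient (H := H)
  haveI : Fact p.Prime := ⟨hp⟩
  set R := (powMonoidHom p : Abelianization H →* Abelianization H).range with hRdef
  let q : H →* Abelianization H ⧸ R := (QuotientGroup.mk' R).comp Abelianization.of
  have hq : Function.Surjective q :=
    (QuotientGroup.mk_surjective).comp QuotientGroup.mk_surjective
  have hexp : ∀ x : Abelianization H ⧸ R, x ^ p = 1 := by
    intro x
    obtain ⟨a, rfl⟩ := QuotientGroup.mk_surjective x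
    rw [← QuotientGroup.mk_pow, QuotientGroup.eq_one_iff]
    exact ⟨a, rfl⟩
  let c : ↥(U ⊔ E) →* MulAut H :=
    (Subgroup.normalizerMonoidHom H).comp (Subgroup.inclusion hnorm)
  have hcval : ∀ (y : ↥(U ⊔ E)) (h : H), ((c y h : H) : X) = y * h * (y : X)⁻¹ := fun _ _ => rfl
  have hmapR : ∀ y, R ≤ R.comap (Abelianization.map (c y).toMonoidHom) := by
    rintro y _ ⟨a, rfl⟩
    exact ⟨Abelianization.map (c y).toMonoidHom a, by simp [powMonoidHom_apply]⟩
  let act : ↥(U ⊔ E) → (Abelianization H ⧸ R →* Abelianization H ⧸ R) := fun y =>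
    QuotientGroup.map R R (Abelianization.map (c y).toMonoidHom) (hmapR y)
  have hact : ∀ (y : ↥(U ⊔ E)) (h : H), act y (q h) = q (c y h) := fun y h => rfl
  set N : Subgroup X := q.ker.map H.subtype with hN
  have hNH : N ≤ H := Subgroup.map_subtype_le _
  have hNmem : ∀ h : H, (h : X) ∈ N ↔ q h = 1 := fun h =>
    (Subgroup.mem_map_iff_mem H.subtype_injective).trans MonoidHom.mem_ker
  have hNnorm : U ⊔ E ≤ Subgroup.normalizer (N : Set X) := by
    have key : ∀ y ∈ U ⊔ E, ∀ x ∈ N, y * x * y⁻¹ ∈ N := by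
      intro y hy x hx
      obtain ⟨h, hh, rfl⟩ := hx
      have : q (c ⟨y, hy⟩ h) = 1 := by rw [← hact, MonoidHom.mem_ker.mp hh, map_one]
      exact (hcval ⟨y, hy⟩ h) ▸ (hNmem _).mpr this
    intro y hy
    rw [Subgroup.mem_normalizer_iff]
    refine fun x => ⟨key y hy x, fun hx => ?_⟩
    simpa [mul_assoc] using key y⁻¹ (inv_mem hy) _ hx
  have hcN : Nat.card H = Nat.card N * Nat.card (Abelianization H ⧸ R) := by
    rw [hN, Subgroup.card_map_of_injective H.subtype_injective,
      Subgroup.card_eq_card_quotient_mul_card_subgroup q.ker, mul_comm,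
      Nat.card_congr (QuotientGroup.quotientKerEquivOfSurjective q hq).toEquiv]
  have hNlt : Nat.card N < n := by
    rw [← hHn, hcN]
    refine lt_mul_of_one_lt_right Nat.card_pos ?_
    haveI : Nontrivial (Abelianization H ⧸ R) := QuotientGroup.nontrivial_iff.mpr hR
    exact Finite.one_lt_card
  have hmain : ∀ A : Subgroup X, A ≤ U ⊔ E →
      Nat.card ↥(H ⊓ Subgroup.centralizer (A : Set X)) =
        Nat.card ↥(N ⊓ Subgroup.centralizer (A : Set X)) *
          Nat.card {x : Abelianization H ⧸ R // ∀ a ∈ A.subgroupOf (U ⊔ E), act a x = x} := by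
    intro A hA
    let θ : ↥(H ⊓ Subgroup.centralizer (A : Set X)) →* Abelianization H ⧸ R :=
      q.comp (Subgroup.inclusion inf_le_left)
    have hker : θ.ker.map (H ⊓ Subgroup.centralizer (A : Set X)).subtype
        = N ⊓ Subgroup.centralizer (A : Set X) := by
      ext x
      constructor
      · rintro ⟨z, hz, rfl⟩
        exact ⟨(hNmem ⟨z, z.2.1⟩).mpr hz, z.2.2⟩
      · rintro ⟨hx, hx'⟩
        exact ⟨⟨x, hNH hx, hx'⟩, (hNmem ⟨x, hNH hx⟩).mp hx, rfl⟩
    have hfix : ∀ v : Abelianization H ⧸ R, v ∈ θ.range ↔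
        ∀ a ∈ A.subgroupOf (U ⊔ E), act a v = v := by
      intro v
      constructor
      · rintro ⟨z, rfl⟩ y hy
        show act y (q (Subgroup.inclusion inf_le_left z)) = _
        rw [hact]
        refine congrArg q (Subtype.ext ?_)
        rw [hcval]
        show (y : X) * z * (y : X)⁻¹ = z
        rw [z.2.2 y hy, mul_inv_cancel_right]
      · intro hv
        obtain ⟨h, rfl⟩ := hq v
        obtain ⟨z, hz, hzN⟩ := CfsgLib.Coprime.exists_centralizer_mem_coset (A := A) (K := H)
          (hA.trans hnorm) (hcop.symm.coprime_dvd_left (Subgroup.card_dvd_of_le hA)) (Or.inr hsolv)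
          hNH (hA.trans hNnorm) h.2 (fun a ha => by
            have e : act ⟨a, hA ha⟩ (q h) = q h := hv ⟨a, hA ha⟩ ha
            rw [hact] at e
            refine (hNmem (h⁻¹ * c ⟨a, hA ha⟩ h)).mpr ?_
            rw [map_mul, map_inv, e, inv_mul_cancel])
        refine ⟨⟨z, hz⟩, ?_⟩
        have := (hNmem (h⁻¹ * ⟨z, hz.1⟩)).mp hzN
        rw [map_mul, map_inv, inv_mul_eq_one] at this
        exact this.symm
    rw [Subgroup.card_eq_card_quotient_mul_card_subgroup θ.ker,
      Nat.card_congr (QuotientGroup.quotientKerEquivRange θ).toEquiv, mul_comm, ← hker,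
      Subgroup.card_map_of_injective (Subgroup.subtype_injective _)]
    congr 1
    exact Nat.card_congr (Equiv.subtypeEquivRight hfix)
  have hU : U ≤ U ⊔ E := le_sup_left
  have hE : E ≤ U ⊔ E := le_sup_right
  have hEn : E ≤ Subgroup.normalizer (U : Set X) := by
    intro e he
    rw [Subgroup.mem_normalizer_iff]
    exact fun u => ⟨hUn e he u, fun h => by simpa [mul_assoc] using hUn e⁻¹ (inv_mem he) _ h⟩
  have hc : Subgroup.IsComplement' (U.subgroupOf (U ⊔ E)) (E.subgroupOf (U ⊔ E)) := by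
    haveI : (U.subgroupOf (U ⊔ E)).Normal :=
      Subgroup.normal_subgroupOf_of_le_normalizer (sup_le Subgroup.le_normalizer hEn)
    refine Subgroup.isComplement'_of_disjoint_and_mul_eq_univ ?_ ?_
    · rw [disjoint_iff]
      refine le_bot_iff.mp fun x hx => Subtype.ext ?_
      have : (x : X) ∈ U ⊓ E := hx
      rw [hUE] at this
      exact this
    · rw [← Subgroup.normal_mul, ← Subgroup.subgroupOf_sup hU hE, Subgroup.subgroupOf_self,
        Subgroup.coe_top]
  haveI : Fintype ↥(U ⊔ E) := Fintype.ofFinite _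
  haveI : Finite (Abelianization H ⧸ R) := Finite.of_surjective _ hq
  have hV := CfsgLib.FrobAction.card_fixed_points (p := p) hexp
    ((Nat.Coprime.coprime_dvd_left hpH) hcop) _ _ hc
    (fun e he u hu => hUn e.1 he u.1 hu)
    (fun e he hne u hu heu => Subtype.ext (hfpf e.1 he (fun h => hne (Subtype.ext h)) u.1 hu
      (congrArg Subtype.val heu))) act (fun x => ?_) (fun y z x => ?_)
  have hNsolv : Group.IsSolvable N := CfsgLib.Coprime.isSolvable_of_le hNH hsolv
  have hih := ih _ hNlt N rfl hNnorm hNsolv (hcop.coprime_dvd_left (Subgroup.card_dvd_of_le hNH))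
  rotate_left
  · obtain ⟨h, rfl⟩ := hq x
    rw [hact, map_one]; rfl
  · obtain ⟨h, rfl⟩ := hq x
    rw [hact, hact, hact, map_mul]; rfl
  rw [Nat.card_congr (Subgroup.subgroupOfEquivOfLe hE).toEquiv, ← Subgroup.subgroupOf_self] at hV
  rw [hmain _ le_rfl, hmain _ hU, hmain _ hE, mul_pow, mul_pow, hcN]
  linear_combination (Nat.card ↥(N ⊓ Subgroup.centralizer ((U ⊔ E : Subgroup X) : Set X)) ^ Nat.card E
        * Nat.card N) * hV + (Nat.card {x : Abelianization H ⧸ R //
          ∀ a ∈ E.subgroupOf (U ⊔ E), act a x = x} ^ Nat.card E * Nat.card {x : Abelianization H ⧸ R //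
          ∀ a ∈ U.subgroupOf (U ⊔ E), act a x = x}) * hih


/-- Let X be a finite group with subgroups U, E and H such that U and E generate a subgroup UE = U ⊔ E normalising H, with U normal in UE, U ⊓ E = ⊥, U ≠ ⊥, E ≠ ⊥, every non-identity element of E commuting with no non-identity element of U (UE is a Frobenius group with kernel U acting on H by conjugation), H solvable, H ⊓ (U ⊔ E) = ⊥ and the orders of H and U ⊔ E coprime. Then Nat.card (H ⊓ C(U ⊔ E)) ^ Nat.card E * Nat.card H = Nat.card (H ⊓ C(E)) ^ Nat.card E * Nat.card (H ⊓ C(U)), where C(·) denotes the centraliser. -/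
theorem result {X : Type*} [Group X] [Finite X] (U E H : Subgroup X) (hU1 : U ≠ ⊥) (hE1 : E ≠ ⊥) (hUE : U ⊓ E = ⊥) (hUn : ∀ e ∈ E, ∀ u ∈ U, e * u * e⁻¹ ∈ U) (hfpf : ∀ e ∈ E, e ≠ 1 → ∀ u ∈ U, e * u = u * e → u = 1) (hHn : ∀ x ∈ U ⊔ E, ∀ h ∈ H, x * h * x⁻¹ ∈ H) (hdisj : H ⊓ (U ⊔ E) = ⊥) (hsolv : Group.IsSolvable H) (hcop : Nat.Coprime (Nat.card H) (Nat.card ↥(U ⊔ E))) : Nat.card ↥(H ⊓ Subgroup.centralizer ((U ⊔ E : Subgroup X) : Set X)) ^ Nat.card E * Nat.card H = Nat.card ↥(H ⊓ Subgroup.centralizer (E : Set X)) ^ Nat.card E * Nat.card ↥(H ⊓ Subgroup.centralizer (U : Set X)) := by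
  refine key U E hUE hUn hfpf _ H rfl ?_ hsolv hcop
  intro x hx
  rw [Subgroup.mem_normalizer_iff]
  exact fun h => ⟨hHn x hx h, fun h' => by simpa [mul_assoc] using hHn x⁻¹ (inv_mem hx) _ h'⟩

end Cfsg.Agent.S1545
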