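import Cfsg.Statements.S1446
import Cfsg.Agent.S1545
import Cfsg.Agent.Lib.OddLocal.FrobeniusAction
import Cfsg.Agent.Lib.OddLocal.FrobeniusType
import Cfsg.Agent.Lib.PSolvable.Core

set_option autoImplicit false
open Cfsg

namespace Cfsg.Agent.S1446

set_option linter.style.haveILetI false
open scoped Pointwise
open CfsgLib.OddLocal CfsgLib.Coprime
open CfsgLib.BG.FixedLine (conj_mem_of_le_normalizer mem_normalizer_of_conj)

/-- Let X be a finite group with subgroups K, R, M such that: K and R are nontrivial, K ∩ R = 1, R normalizes K, no non-identity element of R centralizes a non-identity element of K, K ⊔ R is solvable of odd order; M is nilpotent and nontrivial, normalized by K and by R, with order coprime to that of K ⊔ R, M ∩ C(K) = 1, and M ∩ C(x) = M ∩ C(R) for all non-identity x ∈ R. Then R has prime order p, #M = #(M ∩ C(R)) ^ p, and if M ∩ C(R) is cyclic then [K, K] centralizes M. -/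
theorem result {X : Type*} [Group X] [Finite X] (K R M : Subgroup X) (hK1 : K ≠ ⊥) (hR1 : R ≠ ⊥) (hKR : K ⊓ R = ⊥)
    (hRK : R ≤ Subgroup.normalizer (K : Set X)) (hfrob : ∀ r ∈ R, r ≠ 1 → K ⊓ Subgroup.centralizer ({r} : Set X) = ⊥)
    (hsolv : Group.IsSolvable ↥(K ⊔ R)) (hodd : Odd (Nat.card ↥(K ⊔ R)))
    (hM1 : M ≠ ⊥) (hMn : Group.IsNilpotent M) (hKM : K ≤ Subgroup.normalizer (M : Set X)) (hRM : R ≤ Subgroup.normalizer (M : Set X))
    (hcop : (Nat.card ↥(K ⊔ R)).Coprime (Nat.card M)) (hCK : M ⊓ Subgroup.centralizer (K : Set X) = ⊥)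
    (hpr : ∀ x ∈ R, x ≠ 1 → M ⊓ Subgroup.centralizer ({x} : Set X) = M ⊓ Subgroup.centralizer (R : Set X)) :
    (Nat.card R).Prime ∧ Nat.card M = Nat.card ↥(M ⊓ Subgroup.centralizer (R : Set X)) ^ Nat.card R ∧
      (IsCyclic ↥(M ⊓ Subgroup.centralizer (R : Set X)) → ⁅K, K⁆ ≤ Subgroup.centralizer (M : Set X)) := by
  classical

  haveI := hMn
  have hms : Group.IsSolvable M := inferInstance
  have hdisj : M ⊓ (K ⊔ R) = ⊥ := inf_eq_bot_of_coprime_card hcop.symm
  have hformula : ∀ R₀ : Subgroup X, R₀ ≤ R → R₀ ≠ ⊥ →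
      Nat.card M = Nat.card ↥(M ⊓ Subgroup.centralizer (R₀ : Set X)) ^ Nat.card R₀ := fun R₀ hle hne => by
    have h := Cfsg.Agent.S1545.result K R₀ M hK1 hne (le_bot_iff.1 (hKR ▸ inf_le_inf_left K hle))
      (fun e he u hu => conj_mem_of_le_normalizer (hRK (hle he)) u hu)
      (fun e he he1 u hu heu => Subgroup.mem_bot.1 (by
        rw [← hfrob e (hle he) he1]
        exact ⟨hu, mem_centralizer_singleton_of_commute heu⟩))
      (fun x hx m hm => conj_mem_of_le_normalizer ((sup_le hKM (hle.trans hRM)) hx) m hm)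
      (le_bot_iff.1 (hdisj ▸ inf_le_inf_left M (sup_le_sup_left hle K))) hms
      (hcop.symm.coprime_dvd_right (Subgroup.card_dvd_of_le (sup_le_sup_left hle K)))
    rw [show M ⊓ Subgroup.centralizer ((K ⊔ R₀ : Subgroup X) : Set X) = ⊥ from le_bot_iff.1
      (hCK ▸ inf_le_inf_left M (Subgroup.centralizer_le (SetLike.coe_subset_coe.2 le_sup_left))), hCK, Subgroup.card_bot] at h
    simpa using h
  obtain ⟨r, hr, hrd⟩ := Nat.exists_prime_and_dvd fun e : Nat.card R = 1 => hR1 (Subgroup.card_eq_one.1 e)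
  obtain ⟨x, hx, hxo⟩ := CfsgLib.OddLocal.exists_order_of_dvd hr hrd
  have hx1 : x ≠ 1 := fun e => hr.ne_one (hxo ▸ orderOf_eq_one_iff.2 e)
  have h1 := hformula R le_rfl hR1
  have h2 := hformula (Subgroup.zpowers x) (Subgroup.zpowers_le.2 hx) (by simpa using hx1)
  rw [centralizer_zpowers_eq, hpr x hx hx1, Nat.card_zpowers, hxo, h1] at h2
  have hc1 : 1 < Nat.card ↥(M ⊓ Subgroup.centralizer (R : Set X)) := by
    by_contra hle
    refine hM1 (Subgroup.card_eq_one.1 ?_)
    have h0 : Nat.card ↥(M ⊓ Subgroup.centralizer (R : Set X)) = 1 :=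
      le_antisymm (not_lt.1 hle) Nat.card_pos
    rw [h1, h0, one_pow]
  have hcr : Nat.card R = r := Nat.pow_right_injective hc1 h2
  refine ⟨hcr ▸ hr, h1, fun hcyc => ?_⟩
  have hxr : x ^ r = 1 := by rw [← hxo, pow_orderOf_eq_one]
  have hxK : x ∈ Subgroup.normalizer (K : Set X) := hRK hx
  have hfpf := hfrob x hx hx1
  have hKn := isNilpotent_of_fpf_elem hr hxr hxK hfpf
  have hxc : (Nat.card (Subgroup.zpowers x)).Coprime (Nat.card K) := by
    rw [Nat.card_zpowers, hxo]
    exact hr.coprime_iff_not_dvd.2 (not_dvd_card_of_fpf hr hxr hxK hfpf)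
  intro d hd m hm
  refine ((commute_of_mem_centralizer_singleton (a := d) (mem_of_primary fun p hp _ v hv ⟨k, hk⟩ => ?_)).eq).symm
  haveI := Fact.mk hp
  by_cases hv1 : v = 1
  · exact hv1 ▸ one_mem _
  have hvM : v ∈ M := Subgroup.zpowers_le.2 hm hv
  obtain ⟨P⟩ : Nonempty (Sylow p M) := inferInstance
  haveI : (P : Subgroup M).Normal := inferInstance
  haveI := Sylow.characteristic_of_normal P inferInstance
  set Q := (P : Subgroup M).map M.subtype with hQ
  have hQp : IsPGroup p Q := P.2.map _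
  have hvQ : v ∈ Q := by
    have hvp : IsPGroup p (Subgroup.zpowers (⟨v, hvM⟩ : M)) := fun g => ⟨k, Subtype.ext (by
      obtain ⟨i, hi⟩ := Subgroup.mem_zpowers_iff.1 g.2
      rw [SubmonoidClass.coe_pow, OneMemClass.coe_one, ← hi, ← zpow_natCast, ← zpow_mul, mul_comm,
        zpow_mul, zpow_natCast, show (⟨v, hvM⟩ : M) ^ p ^ k = 1 from Subtype.ext hk, one_zpow])⟩
    obtain ⟨P', hP'⟩ := hvp.exists_le_sylow
    haveI := Sylow.unique_of_normal P inferInstance
    exact ⟨⟨v, hvM⟩, (Subsingleton.elim P' P) ▸ hP' (Subgroup.mem_zpowers _), rfl⟩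
  have hpd : p ∣ Nat.card M := by
    have h0 : orderOf v ∣ p ^ k := orderOf_dvd_of_pow_eq_one hk
    obtain ⟨i, -, hi⟩ := (Nat.dvd_prime_pow hp).1 h0
    rcases Nat.eq_zero_or_pos i with rfl | hi0
    · exact absurd (orderOf_eq_one_iff.1 hi) hv1
    · exact (dvd_pow_self p hi0.ne').trans (hi ▸ Subgroup.orderOf_dvd_natCard M hvM)
  have hQM : Q ≤ M := Subgroup.map_subtype_le _
  have hKM' : K ≤ K ⊔ R := le_sup_left
  refine mem_centralizer_singleton_of_commute ?_
  exact (derived_centralizes_of_cyclic_fixed hr (fun e => by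
      have := Nat.eq_one_of_dvd_coprimes hcop
        (e ▸ hxo ▸ Subgroup.orderOf_dvd_natCard _ (Subgroup.mem_sup_right hx)) hpd
      exact hp.ne_one this)
    hxr hQp hKn hxK (CfsgLib.PSolvable.le_normalizer_map_of_characteristic hKM _) (CfsgLib.PSolvable.le_normalizer_map_of_characteristic hRM _ hx)
    ((hcop.coprime_dvd_left (Subgroup.card_dvd_of_le hKM')).coprime_dvd_right hpd) hxc hfpf
    (haveI := hcyc; Subgroup.isCyclic_of_le (hpr x hx hx1 ▸ inf_le_inf_right _ hQM)) hd v hvQ).symm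
end Cfsg.Agent.S1446
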