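import Cfsg.Statements.S1409
import Cfsg.Agent.Lib.OddLocal.NonSigma
import Cfsg.Agent.Lib.Spectrum.ThreePrimes
set_option autoImplicit false
open Cfsg

namespace Cfsg.Agent.S1409

/-- Let G be a minimal simple group of odd order, M a maximal subgroup, p a prime not in σ(M), and X a subgroup of order p with N_G(X) ≤ M. Then M has p-rank exactly 2, p is not an ideal prime for G, and X is contained in some elementary abelian subgroup of G of order p ^ 2. -/
theorem result {G : Type*} [Group G] [Finite G] (hG : Cfsg.IsMinSimpleOddOrder G)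
    (M : Subgroup G) (hM : IsCoatom M) (p : ℕ) [Fact p.Prime] (hp : p ∉ Cfsg.sigma M) (X : Subgroup G) (hX : Nat.card X = p)
    (hNX : Subgroup.normalizer (X : Set G) ≤ M) :
    (Cfsg.PRankLE p 2 M ∧ ¬ Cfsg.PRankLE p 1 M) ∧ ¬ Cfsg.IsIdealPrime p G ∧
      ∃ A : Subgroup G, Cfsg.IsElementaryAbelian p A ∧ Nat.card A = p ^ 2 ∧ X ≤ A := by
  classical
  have hpp : p.Prime := Fact.out
  have hXM : X ≤ M := Subgroup.le_normalizer.trans hNX
  have hpM : p ∣ Nat.card M := hX ▸ Subgroup.card_dvd_of_le hXM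
  have hr2 : Cfsg.PRankLE p 2 M := not_not.1 fun h => hp (CfsgLib.OddLocal.mem_sigma_of_mem_alpha hG hM ⟨hpp, h⟩)
  have hXp : IsPGroup p X := IsPGroup.of_card (n := 1) (by rw [hX, pow_one])
  obtain ⟨P, hP⟩ := (hXp.comap_of_injective M.subtype M.subtype_injective : IsPGroup p (X.subgroupOf M)).exists_le_sylow
  set P' := (P : Subgroup M).map M.subtype with hP'
  have hXP : X ≤ P' := (Subgroup.map_subgroupOf_eq_of_le hXM).ge.trans (Subgroup.map_mono hP)
  have hP'p : IsPGroup p P' := P.2.map _
  haveI : IsCyclic X := isCyclic_of_prime_card hX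
  have hr1 : ¬ Cfsg.PRankLE p 1 M := by
    intro h1
    obtain ⟨n, hn, hnM⟩ := CfsgLib.OddLocal.exists_normalizer_not_mem hpM hp P
    have hcyc : IsCyclic P' := by
      by_contra hnc
      refine CfsgLib.OddLocal.exists_noncyclic_elementary hG hP'p hnc fun r hr => ?_
      haveI := Fact.mk hr
      by_cases hrp : r = p
      · subst hrp
        exact CfsgLib.OddLocal.prankLE_mono (Subgroup.map_subtype_le _) h1
      · intro B _ hBe
        have hB1 : IsPGroup r B := fun y => ⟨1, Subtype.ext (by simpa using hBe y y.2)⟩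
        obtain ⟨a, ha⟩ := IsPGroup.iff_card.1 hB1
        rcases Nat.eq_zero_or_pos a with rfl | ha0
        · rw [ha, pow_zero]; exact Nat.one_le_pow _ _ hr.pos
        · obtain ⟨b, hb⟩ := IsPGroup.iff_card.1 hP'p
          have hd : r ∣ Nat.card P' := (ha ▸ dvd_pow_self r ha0.ne').trans (Subgroup.card_subgroup_dvd_card B)
          rw [hb] at hd
          exact absurd ((Nat.prime_dvd_prime_iff_eq hr hpp).1 (hr.dvd_of_dvd_pow hd)) hrp
    haveI := hcyc
    refine hnM (hNX (CfsgLib.Coprime.mem_normalizer_iff_conj_smul.2 ?_))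
    refine CfsgLib.Spectrum.eq_of_card_eq_cyclic_aux (W := P') ?_ hXP (CfsgLib.Coprime.card_conj_smul n X)
    exact (Subgroup.map_mono hXP).trans (CfsgLib.Coprime.conj_smul_eq_self_of_mem_normalizer hn).le
  refine ⟨⟨hr2, hr1⟩, CfsgLib.OddLocal.not_ideal_of_not_sigma hG hM hp hr1, ?_⟩
  obtain ⟨y, hyo, hyX, hyC⟩ : ∃ y : G, y ^ p = 1 ∧ y ∉ X ∧ y ∈ Subgroup.centralizer (X : Set G) := by
    set C := P' ⊓ Subgroup.centralizer (X : Set G) with hC
    by_contra hne
    push Not at hne
    refine hr1 (CfsgLib.OddLocal.prankLE_of_sylow P fun B hBc hBe => ?_)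
    have hXC : P' ≤ Subgroup.centralizer (X : Set G) := by
      haveI : Nontrivial P' := (Subgroup.nontrivial_iff_ne_bot _).2 fun h => by
        have h2 := Subgroup.card_le_of_le hXP
        rw [h, Subgroup.card_bot, hX] at h2
        exact absurd hpp.one_lt (not_lt.2 h2)
      haveI := hP'p.center_nontrivial
      obtain ⟨k, hk0, hk⟩ := (hP'p.to_subgroup (Subgroup.center P')).nontrivial_iff_card.mp inferInstance
      obtain ⟨z, hz⟩ := exists_prime_orderOf_dvd_card' (G := Subgroup.center P') p (hk ▸ dvd_pow_self p hk0.ne')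
      rw [← Subgroup.orderOf_coe, ← Subgroup.orderOf_coe] at hz
      have hzc : ∀ u ∈ P', u * ((z : P') : G) = ((z : P') : G) * u := fun u hu =>
        congrArg Subtype.val (Subgroup.mem_center_iff.1 z.2 ⟨u, hu⟩)
      have hzX : ((z : P') : G) ∈ X := by
        by_contra h
        exact hne _ (by rw [← hz]; exact pow_orderOf_eq_one _) h fun u hu => hzc u (hXP hu)
      have heq : Subgroup.zpowers ((z : P') : G) = X := Subgroup.eq_of_le_of_card_ge (Subgroup.zpowers_le.2 hzX) (by rw [Nat.card_zpowers, hz, hX])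
      intro u hu w hw
      rw [SetLike.mem_coe, ← heq] at hw
      obtain ⟨i, rfl⟩ := Subgroup.mem_zpowers_iff.1 hw
      exact (((show Commute u ((z : P') : G) from hzc u hu).zpow_right i).symm).eq
    have hle : B.map P'.subtype ≤ X := by
      rintro _ ⟨b, hb, rfl⟩
      by_contra h
      exact hne _ (congrArg Subtype.val (hBe b hb)) h (hXC b.2)
    have h1 := Subgroup.card_le_of_le hle
    rw [Subgroup.card_map_of_injective P'.subtype_injective, hX] at h1
    exact h1.trans (pow_one p).ge
  set A := Subgroup.closure ((X : Set G) ∪ {y}) with hA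
  haveI hc : IsMulCommutative A := Subgroup.isMulCommutative_closure (by
    rintro u (hu | rfl) v (hv | rfl)
    · exact congrArg Subtype.val ((IsMulCommutative.is_comm (M := X)).comm ⟨u, hu⟩ ⟨v, hv⟩)
    · exact hyC u hu
    · exact (hyC v hv).symm
    · rfl)
  have he : Cfsg.IsElementaryAbelian p A := ⟨hc, fun u hu => by
    induction hu using Subgroup.closure_induction with
    | mem v hv =>
      rcases hv with hv | rfl
      · have h1 : (⟨v, hv⟩ : X) ^ p = 1 := hX ▸ pow_card_eq_one'
        exact congrArg Subtype.val h1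
      · exact hyo
    | one => exact one_pow p
    | mul v w hv hw iv iw =>
      have hvw : Commute v w := congrArg Subtype.val (mul_comm' (⟨v, hv⟩ : A) ⟨w, hw⟩)
      rw [hvw.mul_pow, iv, iw, one_mul]
    | inv v _ iv => rw [inv_pow, iv, inv_one]⟩
  have hXA : X ≤ A := fun u hu => Subgroup.subset_closure (Or.inl hu)
  refine ⟨A, he, le_antisymm ?_ ?_, hXA⟩
  · have hyN : Subgroup.zpowers y ≤ Subgroup.normalizer (X : Set G) :=
      Subgroup.zpowers_le.2 (Subgroup.centralizer_le_normalizer _ hyC)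
    have hle : A ≤ X ⊔ Subgroup.zpowers y := (Subgroup.closure_le _).2 (by
      rintro u (hu | rfl)
      · exact Subgroup.mem_sup_left hu
      · exact Subgroup.mem_sup_right (Subgroup.mem_zpowers _))
    refine (Subgroup.card_le_of_le hle).trans ?_
    have h1 := CfsgLib.Coprime.card_sup_mul_card_inf hyN
    have h2 : Nat.card (Subgroup.zpowers y) ≤ p := by
      rw [Nat.card_zpowers]; exact Nat.le_of_dvd hpp.pos (orderOf_dvd_of_pow_eq_one hyo)
    calc Nat.card ↥(X ⊔ Subgroup.zpowers y) ≤ Nat.card ↥(X ⊔ Subgroup.zpowers y) * Nat.card ↥(X ⊓ Subgroup.zpowers y) :=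
          Nat.le_mul_of_pos_right _ Nat.card_pos
      _ ≤ p ^ 2 := by rw [h1, hX, pow_two]; exact Nat.mul_le_mul_left p h2
  · obtain ⟨m, hm⟩ := IsPGroup.iff_card.1 (CfsgLib.OddLocal.isPGroup_of_elementary he)
    rw [hm]
    refine Nat.pow_le_pow_right hpp.pos ?_
    have h1 : Nat.card X < Nat.card A := lt_of_le_of_ne (Subgroup.card_le_of_le hXA) fun h =>
      hyX ((Subgroup.eq_of_le_of_card_ge hXA h.ge).ge (Subgroup.subset_closure (Or.inr rfl)))
    rw [hX, hm] at h1
    have := (Nat.pow_lt_pow_iff_right hpp.one_lt).1 ((pow_one p).le.trans_lt h1)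
    omega
end Cfsg.Agent.S1409
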