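import Cfsg.Statements.S1459
import Cfsg.Agent.Lib.Coprime.Generation
import Cfsg.Agent.Lib.Splitting.Nilpotent
import Cfsg.Agent.Lib.PSolvable.Core
import Cfsg.Agent.Lib.PSolvable.Omega

set_option autoImplicit false
open Cfsg
open scoped commutatorElement

namespace Cfsg.Agent.S1459

/-- Let G be a finite solvable group. (a) If H is a normal subgroup of order coprime to its index, K is a complement to H, and H ≤ G', then H = [H, K] and H ∩ C_G(K) ≤ [H, H]. (b) If G' is nilpotent and has prime index in G, then the order of G' is coprime to its index and G' = [G, K] (the subgroup generated by commutators of elements of G with elements of K) for every complement K of G'. -/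
theorem result {G : Type*} [Group G] [Finite G] [Group.IsSolvable G] :
    (∀ (H K : Subgroup G), H.Normal → (Nat.card H).Coprime H.index → Subgroup.IsComplement' H K → H ≤ commutator G →
        H = ⁅H, K⁆ ∧ H ⊓ Subgroup.centralizer (K : Set G) ≤ ⁅H, H⁆) ∧
      (Group.IsNilpotent ↥(commutator G) → (commutator G).index.Prime →
        (Nat.card ↥(commutator G)).Coprime (commutator G).index ∧
        ∀ K : Subgroup G, Subgroup.IsComplement' (commutator G) K → commutator G = ⁅(⊤ : Subgroup G), K⁆) := by
  have part1 : ∀ (H K : Subgroup G), H.Normal → (Nat.card H).Coprime H.index →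
      Subgroup.IsComplement' H K → H ≤ commutator G →
      H = ⁅H, K⁆ ∧ H ⊓ Subgroup.centralizer (K : Set G) ≤ ⁅H, H⁆ := by
    intro H K hHn hcop hc hH
    haveI := hHn
    have hsup : H ⊔ K = ⊤ := hc.sup_eq_top
    have hKcard : (Nat.card K).Coprime (Nat.card H) := by
      rw [Nat.coprime_comm]
      refine hcop.coprime_dvd_right (dvd_of_eq ?_)
      exact (Nat.eq_of_mul_eq_mul_left Nat.card_pos (H.card_mul_index.trans hc.card_mul.symm)).symm
    set L := ⁅H, K⁆ with hL
    have hLH : L ≤ H := Subgroup.commutator_le_left H K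
    haveI hLn : L.Normal := by
      rw [← Subgroup.normalizer_eq_top_iff, eq_top_iff, ← hsup]
      have key : ∀ x, (∀ a ∈ H, ∀ k ∈ K, x * ⁅a, k⁆ * x⁻¹ ∈ L) → ∀ y ∈ L, x * y * x⁻¹ ∈ L := by
        intro x hx
        have h1 : L ≤ L.comap (MulAut.conj x).toMonoidHom :=
          Subgroup.commutator_le.mpr fun a ha k hk => hx a ha k hk
        exact fun y hy => h1 hy
      have key2 : ∀ X : Subgroup G, (∀ x ∈ X, ∀ a ∈ H, ∀ k ∈ K, x * ⁅a, k⁆ * x⁻¹ ∈ L) →
          X ≤ Subgroup.normalizer (L : Set G) := fun X hX x hx => by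
        rw [Subgroup.mem_normalizer_iff]
        refine fun y => ⟨key x (hX x hx) y, fun h => ?_⟩
        have h2 := key x⁻¹ (hX x⁻¹ (inv_mem hx)) _ h
        simpa [mul_assoc] using h2
      refine sup_le (key2 H fun x hx a ha k hk => ?_) (key2 K fun x hx a ha k hk => ?_)
      · rw [show x * ⁅a, k⁆ * x⁻¹ = ⁅x * a, k⁆ * ⁅x, k⁆⁻¹ by simp only [commutatorElement_def]; group]
        exact mul_mem (Subgroup.commutator_mem_commutator (mul_mem hx ha) hk)
          (inv_mem (Subgroup.commutator_mem_commutator hx hk))
      · rw [show x * ⁅a, k⁆ * x⁻¹ = ⁅x * a * x⁻¹, x * k * x⁻¹⁆ by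
          simp only [commutatorElement_def]; group]
        exact Subgroup.commutator_mem_commutator (hHn.conj_mem a ha x)
          (mul_mem (mul_mem hx hk) (inv_mem hx))
    have hHK : H ≤ L ⊔ ⁅H, H⁆ := by
      set M := L ⊔ ⁅H, H⁆ with hM
      set f := QuotientGroup.mk' M with hf
      have hcen : ∀ a ∈ H, ∀ g : G, Commute (f a) (f g) := by
        intro a ha g
        obtain ⟨b, hb, k, hk, rfl⟩ := Subgroup.mem_sup_of_normal_left.mp
          (hsup ▸ Subgroup.mem_top g : g ∈ H ⊔ K)
        have e1 : Commute (f a) (f b) := by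
          rw [← commutatorElement_eq_one_iff_commute, ← map_commutatorElement,
            QuotientGroup.mk'_apply, QuotientGroup.eq_one_iff]
          exact Subgroup.mem_sup_right (Subgroup.commutator_mem_commutator ha hb)
        have e2 : Commute (f a) (f k) := by
          rw [← commutatorElement_eq_one_iff_commute, ← map_commutatorElement,
            QuotientGroup.mk'_apply, QuotientGroup.eq_one_iff]
          exact Subgroup.mem_sup_left (Subgroup.commutator_mem_commutator ha hk)
        rw [map_mul]
        exact e1.mul_right e2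
      have hcom : (commutator G).map f ≤ K.map f := by
        rw [Subgroup.map_le_iff_le_comap, commutator_def]
        refine Subgroup.commutator_le.mpr fun x _ y _ => ?_
        obtain ⟨a, ha, k, hk, rfl⟩ := Subgroup.mem_sup_of_normal_left.mp
          (hsup ▸ Subgroup.mem_top x : x ∈ H ⊔ K)
        obtain ⟨a', ha', k', hk', rfl⟩ := Subgroup.mem_sup_of_normal_left.mp
          (hsup ▸ Subgroup.mem_top y : y ∈ H ⊔ K)
        refine ⟨⁅k, k'⁆, mul_mem (mul_mem (mul_mem hk hk') (inv_mem hk)) (inv_mem hk'), ?_⟩
        rw [map_commutatorElement, map_commutatorElement, map_mul, map_mul]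
        have c1 := hcen a ha k'
        have c2 := hcen a ha k
        have c3 := hcen a' ha' k
        have c4 := hcen a' ha' k'
        have c5 := hcen a ha a'
        have hA : ∀ g, Commute (f a) g := fun g => by
          obtain ⟨g', rfl⟩ := QuotientGroup.mk'_surjective M g
          exact hcen a ha g'
        have hA' : ∀ g, Commute (f a') g := fun g => by
          obtain ⟨g', rfl⟩ := QuotientGroup.mk'_surjective M g
          exact hcen a' ha' g'
        simp only [commutatorElement_def, mul_inv_rev]
        calc f k * f k' * (f k)⁻¹ * (f k')⁻¹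
            = f k * f k' * (f a' * (f a')⁻¹) * (f k)⁻¹ * (f k')⁻¹ := by group
          _ = f k * (f k' * f a') * ((f a')⁻¹ * (f k)⁻¹) * (f k')⁻¹ := by group
          _ = f k * (f a' * f k') * ((f k)⁻¹ * (f a')⁻¹) * (f k')⁻¹ := by
            rw [← (hA' (f k')).eq, (hA' (f k)⁻¹).inv_left.eq]
          _ = f k * (f a' * f k') * (f k)⁻¹ * ((f a')⁻¹ * (f k')⁻¹) := by group
          _ = (f a * (f a)⁻¹) * (f k * (f a' * f k') * (f k)⁻¹) * ((f k')⁻¹ * (f a')⁻¹) := by
            rw [(hA' (f k')⁻¹).inv_left.eq]; group
          _ = f a * ((f a)⁻¹ * (f k * (f a' * f k') * (f k)⁻¹)) * ((f k')⁻¹ * (f a')⁻¹) := by group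
          _ = f a * f k * (f a' * f k') * ((f k)⁻¹ * (f a)⁻¹) * ((f k')⁻¹ * (f a')⁻¹) := by
            rw [(hA _).inv_left.eq]; group
      have h1 : H.map f ≤ K.map f := (Subgroup.map_mono hH).trans hcom
      have h2 : H.map f = ⊥ := Subgroup.eq_bot_of_card_eq _ (Nat.eq_one_of_dvd_coprimes hKcard
        ((Subgroup.card_dvd_of_le h1).trans (K.card_map_dvd f)) (H.card_map_dvd f))
      rwa [Subgroup.map_eq_bot_iff, hf, QuotientGroup.ker_mk'] at h2
    have heq : H = L := by
      refine le_antisymm ?_ hLH
      set f := QuotientGroup.mk' L with hf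
      have hX : H.map f ≤ ⁅H.map f, H.map f⁆ := by
        have := Subgroup.map_mono (f := f) hHK
        rw [Subgroup.map_sup, hf, QuotientGroup.map_mk'_self, bot_sup_eq, Subgroup.map_commutator] at this
        exact this
      have hall : ∀ n, H.map f ≤ derivedSeries (G ⧸ L) n := by
        intro n
        induction n with
        | zero => exact le_top
        | succ n ih => exact hX.trans (Subgroup.commutator_mono ih ih)
      obtain ⟨n, hn⟩ := Group.IsSolvable.solvable (G := G ⧸ L)
      have h2 : H.map f = ⊥ := le_bot_iff.mp (hn ▸ hall n)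
      rwa [Subgroup.map_eq_bot_iff, hf, QuotientGroup.ker_mk'] at h2
    refine ⟨heq, ?_⟩
    set f := QuotientGroup.mk' (⁅H, H⁆ : Subgroup G) with hf
    haveI : IsMulCommutative (H.map f) := by
      refine ⟨⟨?_⟩⟩
      rintro ⟨_, a, ha, rfl⟩ ⟨_, b, hb, rfl⟩
      refine Subtype.ext ?_
      show Commute (f a) (f b)
      rw [← commutatorElement_eq_one_iff_commute, ← map_commutatorElement,
        QuotientGroup.mk'_apply, QuotientGroup.eq_one_iff]
      exact Subgroup.commutator_mem_commutator ha hb
    haveI : (H.map f).Normal := hHn.map f (QuotientGroup.mk'_surjective _)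
    have h3 := CfsgLib.Coprime.centralizer_inf_commutator_eq_bot (A := K.map f) (V := H.map f)
      Subgroup.le_normalizer_of_normal
      (CfsgLib.Coprime.coprime_of_dvd hKcard (K.card_map_dvd f) (H.card_map_dvd f))
    rw [← Subgroup.map_commutator, show (⁅H, K⁆ : Subgroup G) = H from heq.symm] at h3
    intro x hx
    obtain ⟨hxH, hxC⟩ := Subgroup.mem_inf.mp hx
    rw [← QuotientGroup.eq_one_iff]
    refine Subgroup.mem_bot.mp (h3 ▸ Subgroup.mem_inf.mpr ⟨Subgroup.mem_inf.mpr
      ⟨⟨x, hxH, rfl⟩, ?_⟩, ⟨x, hxH, rfl⟩⟩)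
    rintro _ ⟨k, hk, rfl⟩
    exact congrArg f (hxC k hk) |> fun h => by rwa [map_mul, map_mul] at h
  refine ⟨part1, fun hnil hprime => ?_⟩
  haveI : Fact (commutator G).index.Prime := ⟨hprime⟩
  set q := (commutator G).index with hq
  have hcop : (Nat.card ↥(commutator G)).Coprime q := by
    rw [Nat.coprime_comm, hprime.coprime_iff_not_dvd]
    intro hdvd
    obtain ⟨P, N', hN', hc'⟩ := CfsgLib.Splitting.hasNPC_of_isNilpotent hnil q
    haveI := CfsgLib.Transfer.pPrimeCore_normal q G
    set N := Cfsg.pPrimeCore q G with hN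
    have hcopN' := CfsgLib.Transfer.coprime_card_of_isComplement' hc'
    have hle : N'.map (commutator G).subtype ≤ N :=
      le_trans (Subgroup.map_mono (CfsgLib.Transfer.le_pPrimeCore hN' hcopN'))
        (CfsgLib.PSolvable.map_pPrimeCore_le (commutator G))
    obtain ⟨a, ha⟩ := IsPGroup.iff_card.mp P.2
    have hidx : (N'.map (commutator G).subtype).index = q ^ (a + 1) := by
      rw [Subgroup.index_map_of_injective _ (commutator G).subtype_injective, Subgroup.range_subtype,
        ← hq, pow_succ, Nat.eq_of_mul_eq_mul_left Nat.card_pos (N'.card_mul_index.trans hc'.card_mul.symm),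
        ha]
    obtain ⟨i, -, hi⟩ := (Nat.dvd_prime_pow hprime).mp (hidx ▸ Subgroup.index_dvd_of_le hle)
    have hQ : IsPGroup q (G ⧸ N) := IsPGroup.of_card (n := i) (by rw [← hi]; rfl)
    set f := QuotientGroup.mk' N with hf
    have hcomm : (commutator G).map f = commutator (G ⧸ N) := by
      rw [commutator_def, commutator_def, Subgroup.map_commutator,
        Subgroup.map_top_of_surjective f (QuotientGroup.mk'_surjective _)]
    have hlt : (commutator G) ≠ ⊤ := fun h => hprime.one_lt.ne' (by rw [hq, h, Subgroup.index_top])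
    obtain ⟨x, hx⟩ : ∃ x, x ∉ commutator G := by
      by_contra hall
      push Not at hall
      exact hlt (eq_top_iff.mpr fun y _ => hall y)
    have hcyc : Subgroup.zpowers (f x) ⊔ commutator (G ⧸ N) = ⊤ := by
      rw [← hcomm, ← MonoidHom.map_zpowers, ← Subgroup.map_sup,
        show Subgroup.zpowers x ⊔ commutator G = ⊤ from ?_,
        Subgroup.map_top_of_surjective f (QuotientGroup.mk'_surjective _)]
      by_contra hne
      have hle' : commutator G ≤ Subgroup.zpowers x ⊔ commutator G := le_sup_right
      have h := Subgroup.index_dvd_of_le hle'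
      rcases (Nat.dvd_prime hprime).mp (hq ▸ h) with h1 | h1
      · exact hne (Subgroup.index_eq_one.mp h1)
      · have h2 := Subgroup.relIndex_mul_index hle'
        rw [h1, ← hq] at h2
        have h3 := Nat.eq_of_mul_eq_mul_right hprime.pos (h2.trans (one_mul q).symm)
        exact hx (Subgroup.relIndex_eq_one.mp h3 (Subgroup.mem_sup_left (Subgroup.mem_zpowers x)))
    have htop : Subgroup.zpowers (f x) = ⊤ := frattini_nongenerating (le_antisymm le_top
      (hcyc.ge.trans (sup_le_sup_left (CfsgLib.PSolvable.commutator_le_frattini hQ).1 _)))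
    have hbot : commutator (G ⧸ N) = ⊥ := by
      rw [commutator_def, ← htop, Subgroup.commutator_eq_bot_iff_le_centralizer]
      exact Subgroup.le_centralizer _
    rw [← hcomm, Subgroup.map_eq_bot_iff, hf, QuotientGroup.ker_mk'] at hbot
    exact hprime.coprime_iff_not_dvd.mp
      ((CfsgLib.Transfer.pPrimeCore_coprime (G := G) q).coprime_dvd_left
        (Subgroup.card_dvd_of_le hbot)).symm hdvd
  refine ⟨hcop, fun K hK => ?_⟩
  refine le_antisymm ?_ (Subgroup.commutator_mono le_rfl le_top)
  exact (part1 (commutator G) K inferInstance hcop hK le_rfl).1.le.trans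
    (Subgroup.commutator_mono le_top le_rfl)

end Cfsg.Agent.S1459
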