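import Cfsg.Statements.S1411
import Cfsg.Agent.Lib.OddLocal.SylowDerived
import Cfsg.Agent.S1459
set_option autoImplicit false
open Cfsg

namespace Cfsg.Agent.S1411

/-- Let G be a minimal simple group of odd order, p a prime, P a Sylow p-subgroup of G and V a complement to P in its normalizer N_G(P). Then P equals the commutator subgroup [P, V], and P is contained in the derived subgroup of N_G(P). -/
theorem result {G : Type*} [Group G] [Finite G] (hG : Cfsg.IsMinSimpleOddOrder G) (p : ℕ) [Fact p.Prime] (P : Sylow p G)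
    (V : Subgroup G) (hV : Cfsg.IsComplIn (P : Subgroup G) V (Subgroup.normalizer ((P : Subgroup G) : Set G))) :
    (P : Subgroup G) = ⁅(P : Subgroup G), V⁆ ∧
      (P : Subgroup G) ≤ ⁅Subgroup.normalizer ((P : Subgroup G) : Set G), Subgroup.normalizer ((P : Subgroup G) : Set G)⁆ := by
  have h2 := CfsgLib.OddLocal.sylow_le_derived_normalizer hG P
  refine ⟨?_, h2⟩
  by_cases hP1 : (P : Subgroup G) = ⊥
  · rw [hP1, Subgroup.commutator_bot_left]
  obtain ⟨hPN, hVN, hinf, hprod⟩ := hV
  set N := Subgroup.normalizer ((P : Subgroup G) : Set G) with hN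
  haveI : Group.IsSolvable N := CfsgLib.OddLocal.isSolvable_of_ne_top hG
    (CfsgLib.OddLocal.normalizer_ne_top hG hP1 (CfsgLib.OddLocal.sylow_ne_top hG P))
  set H := (P : Subgroup G).subgroupOf N with hH
  set K := V.subgroupOf N with hK
  haveI hHn : H.Normal := Subgroup.normal_in_normalizer
  have hcop : (Nat.card H).Coprime H.index := by
    rw [hH, Nat.card_congr (Subgroup.subgroupOfEquivOfLe hPN).toEquiv]
    obtain ⟨k, hk⟩ := P.2.exists_card_eq
    rw [hk]
    exact ((Fact.out : p.Prime).coprime_iff_not_dvd.2 fun hd => P.not_dvd_index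
      (hd.trans ⟨N.index, (Subgroup.relIndex_mul_index hPN).symm⟩)).pow_left k
  have hc : H.IsComplement' K := by
    refine Subgroup.isComplement'_of_disjoint_and_mul_eq_univ (disjoint_iff.2 ?_) (Set.eq_univ_of_forall fun w => ?_)
    · rw [eq_bot_iff]
      rintro w ⟨h1, h2⟩
      rw [Subgroup.mem_bot]
      exact Subtype.ext (Subgroup.mem_bot.1 (hinf.le ⟨h1, h2⟩))
    · obtain ⟨a, ha, b, hb, he⟩ := hprod w w.2
      exact ⟨⟨a, hPN ha⟩, ha, ⟨b, hVN hb⟩, hb, Subtype.ext he.symm⟩
  have hle : H ≤ commutator N := by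
    intro w hw
    have h3 : (w : G) ∈ (commutator N).map N.subtype := by
      rw [commutator_def, Subgroup.map_commutator, ← MonoidHom.range_eq_map, Subgroup.range_subtype]
      exact h2 hw
    exact (Subgroup.mem_map_iff_mem N.subtype_injective).1 h3
  have h4 := congrArg (Subgroup.map N.subtype) ((Cfsg.Agent.S1459.result (G := N)).1 H K hHn hcop hc hle).1
  rw [Subgroup.map_commutator, hH, hK, Subgroup.map_subgroupOf_eq_of_le hPN, Subgroup.map_subgroupOf_eq_of_le hVN] at h4
  exact h4

end Cfsg.Agent.S1411
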