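import Cfsg.Statements.S1448
import Cfsg.Agent.Lib.BG.BlackburnOperators
import Cfsg.Agent.Lib.BG.Basic
import Cfsg.Agent.S1447
set_option autoImplicit false
open Cfsg

namespace Cfsg.Agent.S1448

open scoped commutatorElement
/-- Let G be a finite group, p an odd prime, R a nontrivial p-subgroup with no elementary abelian subgroup of order p ^ 3, and A a subgroup of odd order coprime to p normalizing R with [R, A] = R. Then 3 < p, and either R is abelian or R is generated by two elementwise-commuting subgroups R₁, R₂ with R₁ non-abelian of order p ^ 3 and exponent p, R₂ cyclic, and the elements of R₂ of order dividing p generating exactly [R₁, R₁]. -/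
theorem result {G : Type*} [Group G] [Finite G] (p : ℕ) [Fact p.Prime] (hp : p ≠ 2) (R A : Subgroup G) (hR : IsPGroup p R) (hR1 : R ≠ ⊥) (hr : Cfsg.PRankLE p 2 R)
    (hA : (A ≤ Subgroup.normalizer (R : Set G))) (hcop : (Nat.card A).Coprime p) (hAodd : Odd (Nat.card A)) (hRA : ⁅R, A⁆ = R) :
    3 < p ∧ (IsMulCommutative R ∨ ∃ R₁ R₂ : Subgroup G, R₁ ⊔ R₂ = R ∧ (∀ a ∈ R₁, ∀ b ∈ R₂, a * b = b * a) ∧
        ¬ IsMulCommutative R₁ ∧ Nat.card R₁ = p ^ 3 ∧ Monoid.exponent R₁ = p ∧ IsCyclic R₂ ∧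
        Subgroup.closure {x : G | x ∈ R₂ ∧ x ^ p = 1} = ⁅R₁, R₁⁆) := by

  classical
  have hpp : p.Prime := Fact.out
  set f := CfsgLib.BG.conjAct A R hA with hf
  have hgen : Subgroup.closure {w : R | ∃ (a : A) (x : R), w = x⁻¹ * f a x} = ⊤ := by
    refine Subgroup.map_injective R.subtype_injective ?_
    rw [← MonoidHom.range_eq_map, Subgroup.range_subtype]
    refine le_antisymm (Subgroup.map_subtype_le _) ?_
    conv_lhs => rw [← hRA]
    refine Subgroup.commutator_le.2 fun r hr a ha => ?_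
    refine ⟨(⟨r, hr⟩ : R) * f ⟨a, ha⟩ (⟨r, hr⟩ : R)⁻¹, Subgroup.subset_closure
      ⟨⟨a, ha⟩, (⟨r, hr⟩ : R)⁻¹, by rw [inv_inv]⟩, ?_⟩
    show r * (a * r⁻¹ * a⁻¹) = ⁅r, a⁆
    rw [commutatorElement_def]; group
  have hne : ¬ ∀ a : A, f a = 1 := by
    intro h
    refine hR1 ?_
    rw [← hRA, Subgroup.commutator_eq_bot_iff_le_centralizer]
    exact fun r hr => Subgroup.mem_centralizer_iff.2 fun a ha =>
      (Subgroup.mem_centralizer_iff.1 (CfsgLib.BG.conjAct_eq_one_iff.1 (h ⟨a, ha⟩)) r hr).symm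
  have hp3 : 3 < p := by
    by_contra h3
    have hp3 : p = 3 := by
      have := hpp.two_le
      omega
    refine hne fun a => CfsgLib.BG.eq_one_of_three hp3 hR hr (f a) ?_ ?_
    · exact Odd.of_dvd_nat hAodd ((orderOf_map_dvd f a).trans (orderOf_dvd_natCard a))
    · exact Nat.Coprime.coprime_dvd_left ((orderOf_map_dvd f a).trans (orderOf_dvd_natCard a)) hcop
  refine ⟨hp3, ?_⟩
  by_cases hO : Nat.card ↥(Cfsg.omegaOne p (⊤ : Subgroup R)) ≤ p ^ 2
  · left
    have h := (Cfsg.Agent.S1447.result p hp R A hR (CfsgLib.Blackburn.isMetacyclic_aux hp3 _ R rfl hR hO) hA hcop).1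
    rwa [hRA] at h
  right
  obtain ⟨R0, z, hs⟩ := CfsgLib.RankTwoShape.exists_shape hp3 hR (fun E hE => hr E hE.1 hE.2) (not_le.1 hO)
  obtain ⟨hsup, hcyc, hline⟩ := CfsgLib.BG.central_product hp3 hR hr hs f hcop hAodd hgen
  set C := Subgroup.centralizer (R0 : Set R) with hC
  have hcomm : ⁅R0, R0⁆ = Subgroup.zpowers z := by
    refine le_antisymm (Subgroup.commutator_le.2 fun x hx y hy => commutatorElement_def x y ▸ hs.comm x hx y hy)
      (Subgroup.zpowers_le.2 ?_)
    obtain ⟨x, hx, y, hy, hxy⟩ : ∃ x ∈ R0, ∃ y ∈ R0, ¬ Commute x y := by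
      by_contra hall
      push Not at hall
      have h1 := hr R0 ⟨⟨fun a b => Subtype.ext (hall a a.2 b b.2).eq⟩⟩ fun a ha => (hs.mem a).1 ha
      rw [hs.card, Nat.pow_le_pow_iff_right hpp.one_lt] at h1
      omega
    have heZ : ⁅x, y⁆ ∈ Subgroup.zpowers z := commutatorElement_def x y ▸ hs.comm x hx y hy
    have heR : ⁅x, y⁆ ∈ R0 := Subgroup.zpowers_le.2 hs.z_mem heZ
    have heq : Subgroup.zpowers ⁅x, y⁆ = Subgroup.zpowers z := by
      refine Subgroup.eq_of_le_of_card_ge (Subgroup.zpowers_le.2 heZ) ?_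
      rw [Nat.card_zpowers, Nat.card_zpowers, hs.orderOf_z,
        orderOf_eq_prime ((hs.mem _).1 heR) fun e => hxy (commutatorElement_eq_one_iff_commute.1 e)]
    exact (Subgroup.zpowers_le.2 (Subgroup.commutator_mem_commutator hx hy) :
      Subgroup.zpowers ⁅x, y⁆ ≤ ⁅R0, R0⁆) (heq.ge (Subgroup.mem_zpowers z))
  refine ⟨R0.map R.subtype, C.map R.subtype, ?_, ?_, ?_, ?_, ?_, ?_, ?_⟩
  · rw [← Subgroup.map_sup, hsup, ← MonoidHom.range_eq_map, Subgroup.range_subtype]
  · rintro _ ⟨a, ha, rfl⟩ _ ⟨b, hb, rfl⟩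
    exact congrArg Subtype.val (Subgroup.mem_centralizer_iff.1 hb a ha)
  · intro h
    have hR0 : IsMulCommutative R0 := ⟨⟨fun a b => by
      have h2 := congrArg Subtype.val
        (h.is_comm.comm ⟨_, Subgroup.mem_map_of_mem R.subtype a.2⟩ ⟨_, Subgroup.mem_map_of_mem R.subtype b.2⟩)
      exact Subtype.ext (R.subtype_injective ((map_mul R.subtype (a : R) b).trans (h2.trans (map_mul R.subtype (b : R) a).symm)))⟩⟩
    have h1 := hr R0 hR0 fun a ha => (hs.mem a).1 ha
    rw [hs.card, Nat.pow_le_pow_iff_right hpp.one_lt] at h1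
    omega
  · rw [Subgroup.card_map_of_injective R.subtype_injective, hs.card]
  · haveI : Nontrivial ↥(R0.map R.subtype) := Finite.one_lt_card_iff_nontrivial.1 (by
      rw [Subgroup.card_map_of_injective R.subtype_injective, hs.card]
      exact Nat.one_lt_pow (by norm_num) hpp.one_lt)
    rw [Monoid.exponent_eq_prime_iff hpp]
    intro g hg
    obtain ⟨a, ha, hag⟩ := g.2
    refine orderOf_eq_prime (Subtype.ext ?_) hg
    rw [Subgroup.coe_pow, ← hag, ← map_pow, (hs.mem a).1 ha, map_one, Subgroup.coe_one]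
  · haveI := hcyc
    exact isCyclic_of_surjective (C.equivMapOfInjective R.subtype R.subtype_injective) (MulEquiv.surjective _)
  · rw [← Subgroup.map_commutator, hcomm, ← hline, MonoidHom.map_closure]
    congr 1
    ext x
    constructor
    · rintro ⟨⟨c, hc, rfl⟩, hx⟩
      exact ⟨c, ⟨hc, R.subtype_injective (by rw [map_pow, map_one]; exact hx)⟩, rfl⟩
    · rintro ⟨c, ⟨hc, hcp⟩, rfl⟩
      exact ⟨⟨c, hc, rfl⟩, by rw [← map_pow, hcp, map_one]⟩

end Cfsg.Agent.S1448
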