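import Cfsg.Statements.S1412
import Cfsg.Agent.S1411
import Cfsg.Agent.S1448
import Cfsg.Agent.Lib.Coprime.SchurZassenhaus
set_option autoImplicit false
open Cfsg

namespace Cfsg.Agent.S1412

open scoped commutatorElement

theorem center_eq_of_cube {E : Type*} [Group E] [Finite E] {p : ℕ} [Fact p.Prime] (hE : Nat.card E = p ^ 3)
    (hna : ¬ ∀ a b : E, a * b = b * a) : commutator E = Subgroup.center E := by
  have hp := (Fact.out : p.Prime)
  have hEp : IsPGroup p E := IsPGroup.of_card hE
  haveI : Nontrivial E := Finite.one_lt_card_iff_nontrivial.1 (by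
    rw [hE]; exact Nat.one_lt_pow (by norm_num) hp.one_lt)
  haveI := hEp.center_nontrivial
  obtain ⟨i, hi3, hi⟩ := (Nat.dvd_prime_pow hp).1 (hE ▸ (Subgroup.center E).card_subgroup_dvd_card)
  have hmul := (Subgroup.center E).card_mul_index
  rw [hi, hE] at hmul
  have hi0 : i ≠ 0 := fun h => by
    have := Finite.one_lt_card (α := Subgroup.center E)
    rw [hi, h, pow_zero] at this
    exact lt_irrefl 1 this
  have hidx : (Subgroup.center E).index = p ^ (3 - i) := by
    refine Nat.eq_of_mul_eq_mul_left (pow_pos hp.pos i) (hmul.trans ?_)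
    rw [← pow_add]; congr 1; omega
  have hi1 : i = 1 := by
    by_contra h1
    apply hna
    have hcard : Nat.card (E ⧸ Subgroup.center E) ∣ p := by
      rw [← Subgroup.index_eq_card, hidx]
      exact (Nat.pow_dvd_pow p (by omega : 3 - i ≤ 1)).trans (pow_one p).dvd
    haveI : IsCyclic (E ⧸ Subgroup.center E) := by
      rcases hp.eq_one_or_self_of_dvd _ hcard with h | h
      · haveI : Subsingleton (E ⧸ Subgroup.center E) := (Nat.card_eq_one_iff_unique.1 h).1
        exact isCyclic_of_subsingleton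
      · exact isCyclic_of_prime_card h
    exact fun a b => commutative_of_cyclic_center_quotient (QuotientGroup.mk' (Subgroup.center E))
      (by rw [QuotientGroup.ker_mk']) a b
  subst hi1
  have hq : Nat.card (E ⧸ Subgroup.center E) = p ^ 2 := by rw [← Subgroup.index_eq_card, hidx]
  have hle : commutator E ≤ Subgroup.center E := by
    rw [commutator_def]
    refine Subgroup.commutator_le.2 fun a _ b _ => ?_
    rw [← QuotientGroup.eq_one_iff]
    have hh := IsPGroup.commutative_of_card_eq_prime_sq hq (QuotientGroup.mk a) (QuotientGroup.mk b)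
    show (QuotientGroup.mk' (Subgroup.center E)) ⁅a, b⁆ = 1
    rw [map_commutatorElement, commutatorElement_eq_one_iff_mul_comm]
    exact hh
  obtain ⟨j, hj, hjc⟩ := (Nat.dvd_prime_pow hp).1 (hi ▸ Subgroup.card_dvd_of_le hle)
  have hj0 : j ≠ 0 := by
    rintro rfl
    rw [pow_zero, Subgroup.card_eq_one] at hjc
    refine hna fun a b => commutatorElement_eq_one_iff_mul_comm.1 ?_
    rw [← Subgroup.mem_bot, ← hjc, commutator_def]
    exact Subgroup.commutator_mem_commutator (Subgroup.mem_top a) (Subgroup.mem_top b)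
  exact Subgroup.eq_of_le_of_card_ge hle (by rw [hi, hjc]; exact Nat.pow_le_pow_right hp.pos (by omega))


/-- Let G be a minimal simple group of odd order, p a prime and P a Sylow p-subgroup of G with no elementary abelian subgroup of order p ^ 3. Then either P is abelian, or P is generated by two elementwise-commuting subgroups P₁, P₂ with P₁ nonabelian of order p ^ 3 and exponent p, P₂ cyclic, and the elements of P₂ of order dividing p generating exactly the centre of P₁. -/
theorem result {G : Type*} [Group G] [Finite G] (hG : Cfsg.IsMinSimpleOddOrder G) (p : ℕ) [Fact p.Prime] (P : Sylow p G) (hr : Cfsg.PRankLE p 2 (P : Subgroup G)) :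
    IsMulCommutative (P : Subgroup G) ∨ ∃ P₁ P₂ : Subgroup G, P₁ ⊔ P₂ = (P : Subgroup G) ∧ (∀ a ∈ P₁, ∀ b ∈ P₂, a * b = b * a) ∧
        ¬ IsMulCommutative P₁ ∧ Nat.card P₁ = p ^ 3 ∧ Monoid.exponent P₁ = p ∧ IsCyclic P₂ ∧
        Subgroup.closure {x : G | x ∈ P₂ ∧ x ^ p = 1} = P₁ ⊓ Subgroup.centralizer (P₁ : Set G) := by
  by_cases hP1 : (P : Subgroup G) = ⊥
  · left
    exact ⟨⟨fun a b => Subtype.ext (by
      have ha := a.2; have hb := b.2
      simp only [hP1, Subgroup.mem_bot] at ha hb
      show (a : G) * b = b * a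
      rw [ha, hb])⟩⟩
  have hNtop := CfsgLib.OddLocal.normalizer_ne_top hG hP1 (CfsgLib.OddLocal.sylow_ne_top hG P)
  set N := Subgroup.normalizer ((P : Subgroup G) : Set G) with hN
  obtain ⟨V, hVN, hsup, hinf, hcard⟩ := CfsgLib.Coprime.exists_complement_of_coprime (N := (P : Subgroup G)) (S := N) le_rfl (by
    rw [inf_eq_left.2 Subgroup.le_normalizer]
    obtain ⟨k, hk⟩ := P.2.exists_card_eq
    rw [hk]
    exact ((Fact.out : p.Prime).coprime_iff_not_dvd.2 fun hd => P.not_dvd_index
      (hd.trans ⟨N.index, (Subgroup.relIndex_mul_index Subgroup.le_normalizer).symm⟩)).pow_left k)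
  rw [inf_eq_left.2 (Subgroup.le_normalizer (H := (P : Subgroup G)))] at hsup hinf
  have hV : Cfsg.IsComplIn (P : Subgroup G) V N := by
    refine ⟨Subgroup.le_normalizer, hVN, hinf, fun m hm => ?_⟩
    rw [← hsup, ← SetLike.mem_coe, Subgroup.coe_mul_of_right_le_normalizer_left _ V hVN, Set.mem_mul] at hm
    obtain ⟨a, ha, b, hb, e⟩ := hm
    exact ⟨a, ha, b, hb, e.symm⟩
  have hPV := (Cfsg.Agent.S1411.result hG p P V hV).1
  have hpG : p ∣ Nat.card G := by
    obtain ⟨k, hk⟩ := P.2.exists_card_eq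
    rcases Nat.eq_zero_or_pos k with rfl | hk0
    · exact absurd (Subgroup.card_eq_one.1 (by rw [hk, pow_zero])) hP1
    · exact ((hk ▸ dvd_pow_self p hk0.ne' : p ∣ Nat.card P)).trans (Subgroup.card_subgroup_dvd_card _)
  have hp2 : p ≠ 2 := fun e => Nat.not_even_iff_odd.2 hG.1 (even_iff_two_dvd.2 (e ▸ hpG))
  have hcop : (Nat.card V).Coprime p := by
    rw [hcard]
    exact ((Fact.out : p.Prime).coprime_iff_not_dvd.2 fun hd => P.not_dvd_index
      (hd.trans ⟨N.index, (Subgroup.relIndex_mul_index Subgroup.le_normalizer).symm⟩)).symm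
  rcases (Cfsg.Agent.S1448.result p hp2 (P : Subgroup G) V P.2 hP1 hr hVN hcop
    (Odd.of_dvd_nat hG.1 V.card_subgroup_dvd_card) hPV.symm).2 with h | ⟨P₁, P₂, h1, h2, h3, h4, h5, h6, h7⟩
  · exact Or.inl h
  refine Or.inr ⟨P₁, P₂, h1, h2, h3, h4, h5, h6, h7.trans ?_⟩
  have hcz : commutator P₁ = Subgroup.center P₁ := center_eq_of_cube h4 (fun hc => h3 ⟨⟨hc⟩⟩)
  have e1 : ⁅P₁, P₁⁆ = (commutator P₁).map P₁.subtype := by
    rw [commutator_def, Subgroup.map_commutator, ← MonoidHom.range_eq_map, Subgroup.range_subtype]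
  rw [e1, hcz]
  ext w
  constructor
  · rintro ⟨c, hc, rfl⟩
    exact ⟨c.2, fun y hy => congrArg Subtype.val (Subgroup.mem_center_iff.1 hc ⟨y, hy⟩)⟩
  · rintro ⟨hw1, hw2⟩
    exact ⟨⟨w, hw1⟩, Subgroup.mem_center_iff.2 fun y => Subtype.ext (hw2 y y.2), rfl⟩

end Cfsg.Agent.S1412
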