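import Cfsg.Statements.S1407
import Cfsg.Agent.Lib.OddLocal.NonSigma
import Cfsg.Agent.Lib.PSolvable.Transitivity
set_option autoImplicit false
open Cfsg

namespace Cfsg.Agent.S1407

/-- Let G be a minimal simple group of odd order, M a maximal subgroup with M_α ≠ 1, p a prime dividing the order of M but not in σ(M), and P a Sylow p-subgroup of M. Then there is an element x of order p in the centre of P such that M_α ∩ C_G(x) has all Sylow subgroups cyclic and M is not the unique maximal subgroup of G containing C_G(x). -/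
theorem result {G : Type*} [Group G] [Finite G] (hG : Cfsg.IsMinSimpleOddOrder G)
    (M : Subgroup G) (hM : IsCoatom M) (hMα : Cfsg.alphaCore M ≠ ⊥) (p : ℕ) [Fact p.Prime] (hpM : p ∣ Nat.card M) (hp : p ∉ Cfsg.sigma M) (P : Sylow p M) :
    ∃ x : G, x ∈ ((Subgroup.center ↥(P : Subgroup M)).map (P : Subgroup M).subtype).map M.subtype ∧ orderOf x = p ∧
        IsZGroup ↥(Cfsg.alphaCore M ⊓ Subgroup.centralizer ({x} : Set G)) ∧
        ¬ (Subgroup.centralizer ({x} : Set G) ≤ M ∧ ∀ L : Subgroup G, IsCoatom L → Subgroup.centralizer ({x} : Set G) ≤ L → L = M) := by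
  classical
  have hpp : p.Prime := Fact.out
  set P' := (P : Subgroup M).map M.subtype with hP'
  have hP'p : IsPGroup p P' := P.2.map _
  obtain ⟨n, hn, hnM⟩ := CfsgLib.OddLocal.exists_normalizer_not_mem hpM hp P
  haveI : Nontrivial (P : Subgroup M) := (Subgroup.nontrivial_iff_ne_bot _).2 (P.ne_bot_of_dvd_card hpM)
  haveI := P.2.center_nontrivial
  obtain ⟨k, hk0, hk⟩ := (P.2.to_subgroup (Subgroup.center (P : Subgroup M))).nontrivial_iff_card.mp inferInstance
  obtain ⟨z, hz⟩ := exists_prime_orderOf_dvd_card' (G := Subgroup.center (P : Subgroup M)) p (hk ▸ dvd_pow_self p hk0.ne')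
  set z' : G := (((z : (P : Subgroup M)) : M) : G) with hz'
  have hz'o : orderOf z' = p := by rw [hz', Subgroup.orderOf_coe, Subgroup.orderOf_coe, Subgroup.orderOf_coe, hz]
  have hz'P : z' ∈ P' := Subgroup.mem_map_of_mem _ (z : (P : Subgroup M)).2
  have hz'C : ∀ y ∈ P', z' * y = y * z' := by
    rintro _ ⟨y, hy, rfl⟩
    have h1 := congrArg (fun t : (P : Subgroup M) => ((t : M) : G)) (Subgroup.mem_center_iff.1 z.2 ⟨y, hy⟩)
    exact h1.symm
  have hmem : ∀ x : G, x ∈ P' → (∀ y ∈ P', x * y = y * x) →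
      x ∈ ((Subgroup.center ↥(P : Subgroup M)).map (P : Subgroup M).subtype).map M.subtype := by
    intro x hx hxC
    obtain ⟨x', hx', rfl⟩ := hx
    refine ⟨x', ⟨⟨x', hx'⟩, Subgroup.mem_center_iff.2 fun y => Subtype.ext (M.subtype_injective ?_), rfl⟩, rfl⟩
    exact (hxC _ (Subgroup.mem_map_of_mem _ y.2)).symm
  have hCne : ∀ {x : G}, orderOf x = p → Subgroup.centralizer ({x} : Set G) ≠ ⊤ := fun {x} hx =>
    CfsgLib.OddLocal.centralizer_singleton_ne_top hG fun h => hpp.one_lt.ne (by rw [← hx, h, orderOf_one])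
  obtain ⟨x, hxP, hxC, hxo, hxU⟩ : ∃ x : G, x ∈ P' ∧ (∀ y ∈ P', x * y = y * x) ∧ orderOf x = p ∧
      ¬ (Subgroup.centralizer ({x} : Set G) ≤ M ∧ ∀ L : Subgroup G, IsCoatom L → Subgroup.centralizer ({x} : Set G) ≤ L → L = M) := by
    by_cases hU : Subgroup.centralizer ({z'} : Set G) ≤ M ∧ ∀ L : Subgroup G, IsCoatom L → Subgroup.centralizer ({z'} : Set G) ≤ L → L = M
    swap
    · exact ⟨z', hz'P, hz'C, hz'o, hU⟩
    have hconj : ∀ y ∈ P', n⁻¹ * y * n ∈ P' := fun y hy => (Subgroup.mem_normalizer_iff''.1 hn y).1 hy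
    refine ⟨n * z' * n⁻¹, (Subgroup.mem_normalizer_iff.1 hn z').1 hz'P, fun y hy => ?_, ?_, fun hU' => hnM ?_⟩
    · have h1 := congrArg (fun t => n * t * n⁻¹) (hz'C _ (hconj y hy))
      simpa [mul_assoc] using h1
    · rw [← hz'o]
      exact (MulEquiv.orderOf_eq (MulAut.conj n) z')
    · have hUz : Cfsg.InUniqueMaximal (Subgroup.centralizer ({z'} : Set G)) := ⟨M, ⟨hM, hU.1⟩, fun L hL => hU.2 L hL.1 hL.2⟩
      refine CfsgLib.OddLocal.mem_of_uniq_conj hM hUz hU.1 ?_ fun hg => CfsgLib.OddLocal.mem_of_conj_eq hG hM (CfsgLib.OddLocal.ne_bot_of_dvd hpp hpM) hg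
      rintro _ ⟨c, hc, rfl⟩
      refine hU'.1 (Subgroup.mem_centralizer_singleton_iff.2 ?_)
      show n * c * n⁻¹ * (n * z' * n⁻¹) = n * z' * n⁻¹ * (n * c * n⁻¹)
      have h1 : c * z' = z' * c := Subgroup.mem_centralizer_singleton_iff.1 hc
      rw [show n * c * n⁻¹ * (n * z' * n⁻¹) = n * (c * z') * n⁻¹ by group, h1]
      group
  refine ⟨x, hmem x hxP hxC, hxo, CfsgLib.OddLocal.isZGroup_of_rankLE_one hG (not_not.1 fun hr => hxU ?_), hxU⟩
  have hx' : Subgroup.centralizer ({x} : Set G) = Subgroup.centralizer ((Subgroup.zpowers x : Subgroup G) : Set G) :=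
    CfsgLib.PSolvable.centralizer_singleton_eq_zpowers x
  have hxM : x ∈ M := Subgroup.map_subtype_le _ hxP
  have hU2 : Cfsg.InUniqueMaximal (M ⊓ Subgroup.centralizer ((Subgroup.zpowers x : Subgroup G) : Set G)) := by
    refine CfsgLib.OddLocal.centralizer_uniq_of_alpha hG hM (Subgroup.zpowers_le.2 hxM) (fun q hq hqd hqa => hp ?_) (hx' ▸ hr)
    rw [Nat.card_zpowers, hxo, Nat.prime_dvd_prime_iff_eq hq hpp] at hqd
    exact CfsgLib.OddLocal.alpha_subset_sigma hG hM (hqd ▸ hqa)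
  rw [hx']
  have h2 : ∀ L : Subgroup G, IsCoatom L → Subgroup.centralizer ((Subgroup.zpowers x : Subgroup G) : Set G) ≤ L → L = M :=
    fun L hL hle => CfsgLib.OddLocal.uniq_eq hU2 hL (inf_le_right.trans hle) hM inf_le_left
  obtain ⟨L, hL, hle⟩ := (eq_top_or_exists_le_coatom _).resolve_left (hx' ▸ hCne hxo)
  exact ⟨h2 L hL hle ▸ hle, h2⟩
end Cfsg.Agent.S1407
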