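import Cfsg.Statements.S1378
import Cfsg.Agent.Lib.OddLocal.SigmaDisjoint
set_option autoImplicit false
open Cfsg

namespace Cfsg.Agent.S1378

/-- Let G be a minimal simple group of odd order. Then every prime dividing the order of G belongs to σ(M) for some maximal subgroup M, and if σ(M) and σ(N) have a prime in common for maximal subgroups M, N then N is conjugate to M; so the sets σ(M_i) over representatives of the conjugacy classes of maximal subgroups partition the prime divisors of #G. -/
theorem result {G : Type*} [Group G] [Finite G] (hG : Cfsg.IsMinSimpleOddOrder G) :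
    (∀ p : ℕ, p.Prime → p ∣ Nat.card G → ∃ M : Subgroup G, IsCoatom M ∧ p ∈ Cfsg.sigma M) ∧
      ∀ M N : Subgroup G, IsCoatom M → IsCoatom N → (Cfsg.sigma M ∩ Cfsg.sigma N).Nonempty → ∃ g : G, N = M.map (MulAut.conj g).toMonoidHom := by
  classical
  refine ⟨fun p hp hd => ?_, fun M N hM hN hne => ?_⟩
  · haveI := Fact.mk hp
    obtain ⟨P⟩ : Nonempty (Sylow p G) := inferInstance
    have hP1 : (P : Subgroup G) ≠ ⊥ := fun e => by
      have h1 : Nat.card (P : Subgroup G) = 1 := by rw [e, Subgroup.card_bot]
      rw [P.card_eq_multiplicity] at h1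
      exact (hp.factorization_pos_of_dvd Nat.card_pos.ne' hd).ne' ((Nat.pow_eq_one.1 h1).resolve_left hp.ne_one)
    obtain ⟨M, hM, hNM⟩ := (eq_top_or_exists_le_coatom _).resolve_left
      (CfsgLib.OddLocal.normalizer_ne_top hG hP1 (CfsgLib.OddLocal.sylow_ne_top hG P))
    have hPM : (P : Subgroup G) ≤ M := Subgroup.le_normalizer.trans hNM
    refine ⟨M, hM, hp, dvd_trans ?_ (Subgroup.card_dvd_of_le hPM), P.subtype hPM, ?_⟩
    · rw [P.card_eq_multiplicity]
      exact dvd_pow_self p (hp.factorization_pos_of_dvd Nat.card_pos.ne' hd).ne'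
    · rwa [Sylow.coe_subtype, Subgroup.map_subgroupOf_eq_of_le hPM]
  · obtain ⟨q, hqM, hqN⟩ := hne
    exact CfsgLib.OddLocal.sigma_disjoint hG hM hN hqM hqN

end Cfsg.Agent.S1378
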