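import Cfsg.Statements.S2278
import Cfsg.Agent.Lib.RegGen.SLThreeOdd
import Cfsg.Agent.Lib.RegGen.SLThreeEven

set_option autoImplicit false
open Cfsg

namespace Cfsg.Agent.S2278

/-- Let F be a finite field. Then SL_3(F) is generated by two conjugate regular unipotent elements: there are u with u − 1 nilpotent and (u − 1)² ≠ 0, and g, such that u and g u g⁻¹ generate SL_3(F). -/
theorem result {F : Type*} [Field F] [Fintype F] :
    ∃ u g : Matrix.SpecialLinearGroup (Fin 3) F, IsNilpotent ((u : Matrix (Fin 3) (Fin 3) F) - 1) ∧ ((u : Matrix (Fin 3) (Fin 3) F) - 1) ^ (3 - 1) ≠ 0 ∧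
      Subgroup.closure ({u, g * u * g⁻¹} : Set (Matrix.SpecialLinearGroup (Fin 3) F)) = ⊤ := by
  open CfsgLib.RegGen in
  obtain ⟨g, hg⟩ : ∃ g : Matrix.SpecialLinearGroup (Fin 3) F,
      Subgroup.closure ({regU F 3, g * regU F 3 * g⁻¹} : Set (Matrix.SpecialLinearGroup (Fin 3) F)) = ⊤ := by
    obtain ⟨p, hchar⟩ := CharP.exists F
    haveI : Fact p.Prime := ⟨CharP.char_is_prime F p⟩
    by_cases hp : p = 2
    · subst hp
      by_cases h4 : Nat.card F = 4
      · exact two_generate_four h4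
      · exact two_generate_even h4
    · exact two_generate_odd hp
  refine ⟨CfsgLib.RegGen.regU F 3, g, ?_, ?_, hg⟩
  · rw [CfsgLib.RegGen.regU_sub_one]; exact CfsgLib.RegGen.supDiag_nilpotent
  · rw [CfsgLib.RegGen.regU_sub_one]; exact CfsgLib.RegGen.supDiag_pow_ne_zero (by norm_num)

end Cfsg.Agent.S2278
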