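import Cfsg.Statements.S2286
import Cfsg.Agent.Lib.SLPres.Odd
import Cfsg.Agent.Lib.SLPres.CharTwo

set_option autoImplicit false
open Cfsg

namespace Cfsg.Agent.S2286

/-- For every finite field F, SL_2(F) and PSL_2(F) have presentations with 3 generators and at most 9 relations; when F has characteristic 2, PSL_2(F) has a presentation with 3 generators and at most 5 relations. -/
theorem result {F : Type*} [Field F] [Fintype F] :
    (∃ rels : Finset (FreeGroup (Fin 3)), rels.card ≤ 9 ∧ Nonempty (PresentedGroup (↑rels : Set (FreeGroup (Fin 3))) ≃* Matrix.SpecialLinearGroup (Fin 2) F)) ∧ (∃ rels : Finset (FreeGroup (Fin 3)), rels.card ≤ 9 ∧ Nonempty (PresentedGroup (↑rels : Set (FreeGroup (Fin 3))) ≃* Matrix.ProjectiveSpecialLinearGroup (Fin 2) F)) ∧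
    (CharP F 2 → ∃ rels : Finset (FreeGroup (Fin 3)), rels.card ≤ 5 ∧ Nonempty (PresentedGroup (↑rels : Set (FreeGroup (Fin 3))) ≃* Matrix.ProjectiveSpecialLinearGroup (Fin 2) F)) := by
  by_cases h2 : CharP F 2
  · haveI := h2
    obtain ⟨⟨r1, c1, e1⟩, hP⟩ := CfsgLib.SLPres.two_presentations (F := F)
    exact ⟨⟨r1, c1.trans (by norm_num), e1⟩,
      hP.elim fun r ⟨c, e⟩ => ⟨r, c.trans (by norm_num), e⟩, fun _ => hP⟩
  · haveI hp : Fact (ringChar F).Prime := ⟨CharP.char_is_prime F (ringChar F)⟩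
    letI := ZMod.algebra F (ringChar F)
    have hne : ringChar F ≠ 2 := fun h => h2 (h ▸ ringChar.charP F)
    obtain ⟨hS, hP⟩ := CfsgLib.SLPres.odd_presentations (F := F) (ringChar F) hne
    exact ⟨hS, hP, fun h => absurd h h2⟩

end Cfsg.Agent.S2286
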