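import Cfsg.Statements.S0118
import Cfsg.Agent.Lib.Qd.Stable
import Cfsg.Agent.Lib.Qd.Local
import Cfsg.Agent.Lib.ZJ.Complement
import Cfsg.Agent.Lib.Conjugacy.FusionSections

set_option autoImplicit false
open Cfsg

namespace Cfsg.Agent.S0118

/-- Glauberman's ZJ-Theorem, in the case of groups with no section isomorphic to SL(2,p), p odd: conjugation of subsets of a Sylow p-subgroup P inside P is always induced from the normalizer of Z(J(P)). -/
theorem result {G : Type*} [Group G] [Finite G] {p : ℕ} [Fact p.Prime] (hp : p ≠ 2) (hfree : ¬ ∃ (H K : Subgroup G) (hK : (K.subgroupOf H).Normal), Nonempty ((H ⧸ K.subgroupOf H) ≃* Matrix.SpecialLinearGroup (Fin 2) (ZMod p))) (P : Sylow p G) (A : Set G) (hA : A ⊆ (P : Set G)) (g : G) (hAg : (fun a => g⁻¹ * a * g) '' A ⊆ (P : Set G)) : ∃ n ∈ Subgroup.normalizer (Cfsg.centerThompsonOf p (P : Subgroup G) : Set G), ∀ a ∈ A, n⁻¹ * a * n = g⁻¹ * a * g := by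
  classical
  have hqd : ¬ Cfsg.Involves ↥(Cfsg.qd p) G := fun h => hfree (by
    obtain ⟨K, L, hL, e⟩ := CfsgLib.Qd.involves_sl2_of_involves_qd h
    exact ⟨K, L, hL, e⟩)
  let W : ∀ (Q : Type _) [Group Q], Subgroup Q := fun Q _ => CfsgLib.ZJ.zJ p (⊤ : Subgroup Q)
  have hmap : ∀ {X : Type _} [Group X] (T : Subgroup X),
      Cfsg.inducedFunctor W T = CfsgLib.ZJ.zJ p T := fun {X} _ T => by
    show (CfsgLib.ZJ.zJ p (⊤ : Subgroup T)).map T.subtype = _
    rw [CfsgLib.ZJ.map_zJ p T.subtype T.subtype_injective.injOn, ← MonoidHom.range_eq_map,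
      Subgroup.range_subtype]
  have hW : ∀ V ∈ ({W} : Set (∀ (Q : Type _) [Group Q], Subgroup Q)), Cfsg.IsCharPFunctor p V := by
    rintro V rfl
    refine ⟨fun Q _ _ hQ _ hbot => ?_, fun Q R _ _ _ _ φ => ?_⟩
    · obtain ⟨z, hz, hz1, -⟩ := CfsgLib.ZJ.zJ_ne_bot (p := p) (e := p) (Or.inr rfl)
        (hQ.to_subgroup (⊤ : Subgroup Q)) top_ne_bot
      exact hz1 (Subgroup.mem_bot.mp (hbot ▸ hz))
    · show (CfsgLib.ZJ.zJ p (⊤ : Subgroup Q)).map φ.toMonoidHom = CfsgLib.ZJ.zJ p (⊤ : Subgroup R)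
      rw [CfsgLib.ZJ.map_zJ p φ.toMonoidHom φ.injective.injOn,
        Subgroup.map_top_of_surjective _ φ.surjective]
  open CfsgLib.Conjugacy in
  have hX : Controlled p {W} G := by
    refine controlled_of_local hW (local_of_quotients hW fun K R _ hc S B x hB hxB => ?_)
      (Sect.refl G)
    refine Ctl.step _ ⟨W, rfl, rfl⟩ ?_ hB hxB
    rw [Subgroup.normalizer_eq_top_iff.mpr]
    · exact Subgroup.mem_top x
    · rw [hmap]
      haveI := CfsgLib.ZJ.zJ_characteristic hp (Or.inr rfl) S hc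
        (CfsgLib.Qd.stableAt_of_qdFree hp
          (CfsgLib.Qd.not_involves_quotient _ (CfsgLib.Qd.not_involves_subgroup K hqd)) _)
      infer_instance
  have hle : Subgroup.closure A ≤ (P : Subgroup G) := (Subgroup.closure_le _).mpr hA
  open CfsgLib.Conjugacy in
  obtain ⟨x, hx, hxa⟩ := exists_mem_of_ctl (N := Subgroup.normalizer
    (Cfsg.inducedFunctor W (P : Subgroup G) : Set G)) (by rintro _ ⟨V, rfl, rfl⟩; exact le_rfl)
    (hX P _ g⁻¹ hle (by
      rw [cj, MonoidHom.map_closure, Subgroup.closure_le]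
      rintro _ ⟨a, ha, rfl⟩
      simpa using hAg ⟨a, ha, rfl⟩))
  rw [hmap] at hx
  refine ⟨x⁻¹, ?_, fun a ha => ?_⟩
  · rw [CfsgLib.ZJ.centerThompsonOf_eq]
    exact inv_mem hx
  · have := hxa a (Subgroup.subset_closure ha)
    simpa using this.symm

end Cfsg.Agent.S0118
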