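import Cfsg.Statements.S3488
import Mathlib
-- import your own Cfsg.Agent.* helpers here

set_option autoImplicit false
open Cfsg

namespace Cfsg.Agent.S3488

lemma isoAux_a6 : ∀ g : alternatingGroup (Fin 6), g ^ 3 = 1 ∨ g ^ 4 = 1 ∨ g ^ 5 = 1 := by
  decide +kernel

lemma isoAux_small {G : Type*} [Group G] (g : G) (h : g ^ 3 = 1 ∨ g ^ 4 = 1 ∨ g ^ 5 = 1) :
    orderOf g ∈ ({1, 2, 3, 4, 5} : Set ℕ) := by
  rcases h with h | h | h
  · rcases (Nat.dvd_prime Nat.prime_three).1 (orderOf_dvd_of_pow_eq_one h) with h | h <;> simp [h]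
  · have h1 := orderOf_dvd_of_pow_eq_one h
    have h2 := Nat.le_of_dvd (by norm_num) h1
    interval_cases hh : orderOf g <;> simp_all
  · rcases (Nat.dvd_prime (by norm_num : Nat.Prime 5)).1 (orderOf_dvd_of_pow_eq_one h) with h | h <;>
      simp [h]

lemma isoAux_range {G : Type*} [Group G] (hall : ∀ g : G, g ^ 3 = 1 ∨ g ^ 4 = 1 ∨ g ^ 5 = 1)
    (g2 g3 g4 g5 : G) (h2 : g2 ^ 2 = 1) (h2' : g2 ≠ 1) (h3 : g3 ^ 3 = 1) (h3' : g3 ≠ 1)
    (h4 : g4 ^ 4 = 1) (h4' : g4 ^ 2 ≠ 1) (h5 : g5 ^ 5 = 1) (h5' : g5 ≠ 1) :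
    Set.range (orderOf : G → ℕ) = {1, 2, 3, 4, 5} := by
  apply Set.eq_of_subset_of_subset
  · rintro _ ⟨g, rfl⟩
    exact isoAux_small g (hall g)
  · intro m hm
    simp only [Set.mem_insert_iff, Set.mem_singleton_iff] at hm
    rcases hm with rfl | rfl | rfl | rfl | rfl
    · exact ⟨1, orderOf_one⟩
    · exact ⟨g2, orderOf_eq_prime (hp := ⟨Nat.prime_two⟩) h2 h2'⟩
    · exact ⟨g3, orderOf_eq_prime (hp := ⟨Nat.prime_three⟩) h3 h3'⟩
    · refine ⟨g4, ?_⟩
      exact orderOf_eq_prime_pow (hp := ⟨Nat.prime_two⟩) (n := 1) (by simpa using h4') (by simpa using h4)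
    · exact ⟨g5, orderOf_eq_prime (hp := ⟨by norm_num⟩) h5 h5'⟩

/-- The powers of an affine matrix of determinant one over the field with four elements. -/
lemma isoAux_pow {F : Type*} [Field F] [Fintype F] [CharP F 2] (hF : Fintype.card F = 4)
    (M : Matrix (Fin 3) (Fin 3) F) (h0 : M 2 0 = 0) (h1 : M 2 1 = 0) (h2 : M 2 2 = 1)
    (hdet : M 0 0 * M 1 1 + M 0 1 * M 1 0 = 1) :
    M ^ 3 = 1 ∨ M ^ 4 = 1 ∨ M ^ 5 = 1 := by
  obtain ⟨t, ht⟩ : ∃ t, t = M 0 0 + M 1 1 := ⟨_, rfl⟩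
  have htwo : (2 : F) = 0 := CharTwo.two_eq_zero
  let P : Polynomial F := Polynomial.X ^ 3 + Polynomial.C (t + 1) * Polynomial.X ^ 2
    + Polynomial.C (t + 1) * Polynomial.X + 1
  have hP : Polynomial.aeval M P = 0 := by
    simp only [P, map_add, map_mul, map_pow, map_one, Polynomial.aeval_X, Polynomial.aeval_C,
      ← Algebra.smul_def]
    have hM : M = !![M 0 0, M 0 1, M 0 2; M 1 0, M 1 1, M 1 2; 0, 0, 1] := by
      ext i j
      fin_cases i <;> fin_cases j <;> simp [h0, h1, h2]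
    subst ht
    generalize M 0 0 = a, M 0 1 = b, M 0 2 = u, M 1 0 = c, M 1 1 = d, M 1 2 = v at hM hdet ⊢
    subst hM
    ext i j
    fin_cases i <;> fin_cases j <;>
      simp [pow_succ, Matrix.mul_apply, Fin.sum_univ_three, Matrix.algebraMap_matrix_apply] <;> grind
  have hkey : ∀ (n : ℕ) (Q : Polynomial F), (Polynomial.X ^ n + 1 : Polynomial F) = P * Q →
      M ^ n = 1 := by
    intro n Q h
    have := congrArg (Polynomial.aeval M) h
    rw [map_mul, hP, zero_mul, map_add, map_pow, Polynomial.aeval_X, map_one] at this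
    rw [eq_neg_of_add_eq_zero_left this]
    ext i j
    rw [Matrix.neg_apply, CharTwo.neg_eq]
  have hcases : t = 0 ∨ t = 1 ∨ t ^ 2 + t + 1 = 0 := by
    have h : t ^ 4 = t := by rw [← hF]; exact FiniteField.pow_card t
    have h' : t * (t - 1) * (t ^ 2 + t + 1) = 0 := by linear_combination h
    rcases mul_eq_zero.1 h' with h' | h'
    · rcases mul_eq_zero.1 h' with h' | h'
      · exact Or.inl h'
      · exact Or.inr (Or.inl (sub_eq_zero.1 h'))
    · exact Or.inr (Or.inr h')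
  have htwoX : (2 : Polynomial F) = 0 := by
    rw [show (2 : Polynomial F) = Polynomial.C (2 : F) from (Polynomial.C_ofNat 2).symm, htwo, map_zero]
  rcases hcases with rfl | rfl | h
  · right; left
    refine hkey 4 (Polynomial.X + 1) ?_
    simp only [P, zero_add, map_one]
    linear_combination (-(Polynomial.X : Polynomial F) ^ 3 - Polynomial.X ^ 2 - Polynomial.X) * htwoX
  · left
    refine hkey 3 1 ?_
    simp only [P, CharTwo.add_self_eq_zero, map_zero]
    ring
  · right; right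
    refine hkey 5 (Polynomial.X ^ 2 + (Polynomial.C t + 1) * Polynomial.X + 1) ?_
    have hC : (Polynomial.C t) ^ 2 + Polynomial.C t + 1 = 0 := by
      rw [← map_pow, ← map_one Polynomial.C, ← map_add, ← map_add, h, map_zero]
    simp only [P, map_add, map_one]
    grind

/-- Let F be the field with four elements. The affine group F² ⋊ SL(2,F), realised as the subgroup of SL(3,F) of matrices with last row (0, 0, 1), has exactly the same set of element orders as the alternating group of degree 6 (namely {1, 2, 3, 4, 5}); so the alternating group of degree 6 is not determined by its element orders. -/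
theorem result {F : Type*} [Field F] [Fintype F] (hF : Fintype.card F = 4) :
    Set.range (orderOf : Subgroup.closure {M : Matrix.SpecialLinearGroup (Fin 3) F |
        (M : Matrix (Fin 3) (Fin 3) F) 2 0 = 0 ∧ (M : Matrix (Fin 3) (Fin 3) F) 2 1 = 0 ∧ (M : Matrix (Fin 3) (Fin 3) F) 2 2 = 1} → ℕ) =
      Set.range (orderOf : alternatingGroup (Fin 6) → ℕ) := by
  classical
  have : CharP F 2 := by
    obtain ⟨p, hp⟩ := CharP.exists F
    obtain ⟨⟨n, hn⟩, hpp, hc⟩ := FiniteField.card F p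
    rw [hF] at hc
    have h2 : p ∣ 2 ^ 2 := ⟨p ^ (n - 1), by
      rw [← pow_succ']
      have hc' : 4 = p ^ n := hc
      rw [show n - 1 + 1 = n by omega, ← hc']
      norm_num⟩
    have := (Nat.prime_dvd_prime_iff_eq hpp Nat.prime_two).1 (hpp.dvd_of_dvd_pow h2)
    exact this ▸ hp
  have htwo : (2 : F) = 0 := CharTwo.two_eq_zero
  let H : Subgroup (Matrix.SpecialLinearGroup (Fin 3) F) :=
    { carrier := {M | (M : Matrix (Fin 3) (Fin 3) F) 2 0 = 0 ∧ (M : Matrix (Fin 3) (Fin 3) F) 2 1 = 0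
        ∧ (M : Matrix (Fin 3) (Fin 3) F) 2 2 = 1}
      one_mem' := by simp
      mul_mem' := fun {M N} hM hN => by
        obtain ⟨a, b, c⟩ := hM
        obtain ⟨a', b', c'⟩ := hN
        simp [Matrix.mul_apply, Fin.sum_univ_three, a, b, c, a', b', c']
      inv_mem' := fun {M} hM => by
        obtain ⟨a, b, c⟩ := hM
        have h : (M : Matrix (Fin 3) (Fin 3) F) * ((M⁻¹ : Matrix.SpecialLinearGroup (Fin 3) F) : Matrix (Fin 3) (Fin 3) F) = 1 := by
          rw [← Matrix.SpecialLinearGroup.coe_mul, mul_inv_cancel, Matrix.SpecialLinearGroup.coe_one]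
        show ((M⁻¹ : Matrix.SpecialLinearGroup (Fin 3) F) : Matrix (Fin 3) (Fin 3) F) 2 0 = 0 ∧
          ((M⁻¹ : Matrix.SpecialLinearGroup (Fin 3) F) : Matrix (Fin 3) (Fin 3) F) 2 1 = 0 ∧
          ((M⁻¹ : Matrix.SpecialLinearGroup (Fin 3) F) : Matrix (Fin 3) (Fin 3) F) 2 2 = 1
        generalize ((M⁻¹ : Matrix.SpecialLinearGroup (Fin 3) F) : Matrix (Fin 3) (Fin 3) F) = N at h ⊢
        have e0 := congrFun (congrFun h 2) 0
        have e1 := congrFun (congrFun h 2) 1
        have e2 := congrFun (congrFun h 2) 2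
        simp [Matrix.mul_apply, Fin.sum_univ_three, a, b, c] at e0 e1 e2
        exact ⟨e0, e1, e2⟩ }
  have hclos : Subgroup.closure {M : Matrix.SpecialLinearGroup (Fin 3) F |
        (M : Matrix (Fin 3) (Fin 3) F) 2 0 = 0 ∧ (M : Matrix (Fin 3) (Fin 3) F) 2 1 = 0 ∧ (M : Matrix (Fin 3) (Fin 3) F) 2 2 = 1} = H :=
    Subgroup.closure_eq H
  rw [hclos]
  obtain ⟨w, hw⟩ : ∃ w : F, w ^ 2 + w + 1 = 0 := by
    obtain ⟨w, hw0, hw1⟩ : ∃ w : F, w ≠ 0 ∧ w ≠ 1 := by
      by_contra h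
      push Not at h
      have : Fintype.card F ≤ 2 := by
        calc Fintype.card F ≤ ({0, 1} : Finset F).card := Finset.card_le_card fun x _ => by
              by_cases hx : x = 0
              · simp [hx]
              · simp [h x hx]
          _ ≤ 2 := Finset.card_le_two
      omega
    refine ⟨w, ?_⟩
    have h : w ^ 4 = w := by rw [← hF]; exact FiniteField.pow_card w
    have h' : w * (w - 1) * (w ^ 2 + w + 1) = 0 := by linear_combination h
    rcases mul_eq_zero.1 h' with h' | h'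
    · rcases mul_eq_zero.1 h' with h' | h'
      · exact absurd h' hw0
      · exact absurd (sub_eq_zero.1 h') hw1
    · exact h'
  have mk : ∀ (a b u c d v : F), a * d + b * c = 1 → ∃ g : H,
      ((g : Matrix.SpecialLinearGroup (Fin 3) F) : Matrix (Fin 3) (Fin 3) F) = !![a, b, u; c, d, v; 0, 0, 1] := by
    intro a b u c d v h
    have hd : Matrix.det !![a, b, u; c, d, v; 0, 0, 1] = 1 := by
      rw [Matrix.det_fin_three]
      simp
      grind
    exact ⟨⟨⟨!![a, b, u; c, d, v; 0, 0, 1], hd⟩, ⟨rfl, rfl, rfl⟩⟩, rfl⟩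
  have hpow : ∀ (g : H) (n : ℕ), g ^ n = 1 ↔
      ((g : Matrix.SpecialLinearGroup (Fin 3) F) : Matrix (Fin 3) (Fin 3) F) ^ n = 1 := by
    intro g n
    rw [← Matrix.SpecialLinearGroup.coe_pow, ← SubmonoidClass.coe_pow]
    constructor
    · intro h; rw [h]; simp
    · intro h; apply Subtype.ext; apply Subtype.ext; simpa using h
  have hone : ∀ g : H, g = 1 ↔
      ((g : Matrix.SpecialLinearGroup (Fin 3) F) : Matrix (Fin 3) (Fin 3) F) = 1 := fun g => by
    simpa using hpow g 1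
  obtain ⟨g2, e2⟩ := mk 1 0 1 0 1 0 (by ring)
  obtain ⟨g3, e3⟩ := mk 0 1 0 1 1 0 (by ring)
  obtain ⟨g4, e4⟩ := mk 1 1 0 0 1 1 (by ring)
  obtain ⟨g5, e5⟩ := mk 0 1 0 1 w 0 (by ring)
  rw [isoAux_range (G := H) ?_ g2 g3 g4 g5 ?_ ?_ ?_ ?_ ?_ ?_ ?_ ?_]
  · symm
    refine isoAux_range isoAux_a6
      ⟨Equiv.swap 0 1 * Equiv.swap 2 3, Equiv.Perm.mem_alternatingGroup.2 (by decide)⟩
      ⟨Equiv.swap 0 1 * Equiv.swap 1 2, Equiv.Perm.mem_alternatingGroup.2 (by decide)⟩
      ⟨Equiv.swap 0 1 * Equiv.swap 1 2 * Equiv.swap 2 3 * Equiv.swap 4 5, Equiv.Perm.mem_alternatingGroup.2 (by decide)⟩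
      ⟨Equiv.swap 0 1 * Equiv.swap 1 2 * Equiv.swap 2 3 * Equiv.swap 3 4, Equiv.Perm.mem_alternatingGroup.2 (by decide)⟩
      ?_ ?_ ?_ ?_ ?_ ?_ ?_ ?_ <;> decide +kernel
  · intro g
    obtain ⟨h0, h1, h2⟩ := g.2
    have hd := (g : Matrix.SpecialLinearGroup (Fin 3) F).2
    rw [Matrix.det_fin_three] at hd
    simp only [h0, h1, h2] at hd
    rw [hpow, hpow, hpow]
    exact isoAux_pow hF _ h0 h1 h2 (by grind)
  · rw [hpow, e2]
    ext i j
    fin_cases i <;> fin_cases j <;> simp [pow_succ, Matrix.mul_apply, Fin.sum_univ_three] <;> grind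
  · rw [Ne, hone, e2]
    intro h
    simpa using congrFun (congrFun h 0) 2
  · rw [hpow, e3]
    ext i j
    fin_cases i <;> fin_cases j <;> simp [pow_succ, Matrix.mul_apply, Fin.sum_univ_three] <;> grind
  · rw [Ne, hone, e3]
    intro h
    simpa using congrFun (congrFun h 0) 1
  · rw [hpow, e4]
    ext i j
    fin_cases i <;> fin_cases j <;> simp [pow_succ, Matrix.mul_apply, Fin.sum_univ_three] <;> grind
  · rw [Ne, hpow, e4]
    intro h
    simpa [pow_succ, Matrix.mul_apply, Fin.sum_univ_three] using congrFun (congrFun h 0) 2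
  · rw [hpow, e5]
    ext i j
    fin_cases i <;> fin_cases j <;> simp [pow_succ, Matrix.mul_apply, Fin.sum_univ_three] <;> grind
  · rw [Ne, hone, e5]
    intro h
    simpa using congrFun (congrFun h 0) 1

end Cfsg.Agent.S3488
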