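import Cfsg.Statements.S0498
import Cfsg.Agent.Lib.SmallOrder.PSLPrimeUnique
import Cfsg.Agent.Lib.Classical.Transvection
import Cfsg.Agent.Lib.Classical.Card

set_option autoImplicit false
set_option linter.style.haveILetI false
open Cfsg

namespace Cfsg.Agent.S0498

/-- A simple group of order 660, respectively 1092, is isomorphic to the projective special linear group of dimension 2
over the field with 11, respectively 13, elements. -/
theorem result {G : Type*} [Group G] [Finite G] [IsSimpleGroup G] (p : ℕ)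
    (hp : p = 11 ∨ p = 13) (h : 2 * Nat.card G = p * (p ^ 2 - 1)) {F : Type*} [Field F] [Fintype F]
    (hF : Fintype.card F = p) : Nonempty (G ≃* Matrix.ProjectiveSpecialLinearGroup (Fin 2) F) := by
  have hc : 2 * Nat.card (Matrix.ProjectiveSpecialLinearGroup (Fin 2) F) = p * (p ^ 2 - 1) := by
    have := CfsgLib.Classical.card_PSL_two (F := F)
    rw [hF] at this
    rcases hp with rfl | rfl <;> norm_num at this ⊢ <;> omega
  have hne : ((3 : ℕ) : F) ≠ 0 ∧ ((2 : ℕ) : F) ≠ 0 := by
    obtain ⟨c, hc⟩ := CharP.exists F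
    obtain ⟨n, hcp, hn⟩ := FiniteField.card F c
    have hpp : p.Prime := by rcases hp with rfl | rfl <;> norm_num
    have hcc : c = p := by
      have : c ∣ p := hF ▸ hn ▸ dvd_pow_self c n.pos.ne'
      exact (Nat.prime_dvd_prime_iff_eq hcp hpp).mp this
    subst hcc
    constructor <;> rw [Ne, CharP.cast_eq_zero_iff F c] <;> rcases hp with rfl | rfl <;> norm_num
  haveI : IsSimpleGroup (Matrix.ProjectiveSpecialLinearGroup (Fin 2) F) := by
    refine CfsgLib.Classical.isSimpleGroup_PSL (Or.inr ⟨((2 : ℕ) : F), hne.2, fun e => hne.1 ?_⟩)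
    have : ((2 : ℕ) : F) ^ 2 - 1 = 0 := by rw [e, sub_self]
    rw [← this]; push_cast; norm_num
  rcases hp with rfl | rfl
  · obtain ⟨e⟩ := CfsgLib.PSLPrime.nonempty_equiv_model CfsgLib.PSLPrime.data11 (G := G) (by omega)
    obtain ⟨e'⟩ := CfsgLib.PSLPrime.nonempty_equiv_model CfsgLib.PSLPrime.data11
      (G := Matrix.ProjectiveSpecialLinearGroup (Fin 2) F) (by omega)
    exact ⟨e.trans e'.symm⟩
  · obtain ⟨e⟩ := CfsgLib.PSLPrime.nonempty_equiv_model CfsgLib.PSLPrime.data13 (G := G) (by omega)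
    obtain ⟨e'⟩ := CfsgLib.PSLPrime.nonempty_equiv_model CfsgLib.PSLPrime.data13
      (G := Matrix.ProjectiveSpecialLinearGroup (Fin 2) F) (by omega)
    exact ⟨e.trans e'.symm⟩

end Cfsg.Agent.S0498
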