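import Cfsg.Statements.S0197
import Cfsg.Agent.Lib.GLTwoThreeCent.Main

set_option autoImplicit false
open Cfsg

namespace Cfsg.Agent.S0197

/-- If a finite simple group has an involution whose centralizer is isomorphic to the general linear group GL(2, 3), then the group has order 5616 or 7920. -/
theorem result {G : Type*} [Group G] [Finite G] [IsSimpleGroup G] (t : G) (ht : orderOf t = 2) (e : Subgroup.centralizer ({t} : Set G) ≃* Matrix.GeneralLinearGroup (Fin 2) (ZMod 3)) : Nat.card G = 5616 ∨ Nat.card G = 7920 := by
  letI : Fintype G := Fintype.ofFinite G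
  open CfsgLib.GLTwoThreeCent in
  exact Coord.order (t := t)
    { E := (Equiv.ofBijective toGL toGL_bijective).trans e.symm.toEquiv
      mul := fun i j => by
        show e.symm (toGL (mulI i j)) = _
        rw [toGL_mul, map_mul]; rfl
      neg := by
        show ((e.symm (toGL negI) : Subgroup.centralizer ({t} : Set G)) : G) = t
        obtain ⟨i, hi⟩ := toGL_bijective.2 (e ⟨t, Subgroup.mem_centralizer_singleton_iff.mpr rfl⟩)
        have h2 : toGL i * toGL i = toGL 0 := by
          rw [toGL_zero, hi, ← map_mul, show (⟨t, Subgroup.mem_centralizer_singleton_iff.mpr rfl⟩ :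
            Subgroup.centralizer ({t} : Set G)) * ⟨t, Subgroup.mem_centralizer_singleton_iff.mpr rfl⟩ = 1 from
              Subtype.ext (show t * t = 1 by rw [← pow_two]; exact orderOf_dvd_iff_pow_eq_one.mp ht.dvd), map_one]
        have hinv : invol i := ⟨toGL_bijective.1 (by rw [toGL_mul, h2]), fun h0 => by
          rw [h0, toGL_zero] at hi
          have := congrArg Subtype.val (e.map_eq_one_iff.mp hi.symm)
          rw [show t = 1 from this, orderOf_one] at ht
          norm_num at ht⟩
        have hcen : ∀ k, mulI k i = mulI i k := fun k => toGL_bijective.1 (by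
          obtain ⟨x, hx⟩ := e.surjective (toGL k)
          rw [toGL_mul, toGL_mul, hi, ← hx, ← map_mul, ← map_mul]
          exact congrArg e (Subtype.ext (Subgroup.mem_centralizer_singleton_iff.mp x.2)))
        rw [← central_involution i hinv hcen, hi, MulEquiv.symm_apply_apply] }
    (fun h => by
      letI : CommGroup G := { (inferInstance : Group G) with mul_comm := h.is_comm.comm }
      have hp : (Nat.card G).Prime := IsSimpleGroup.prime_card
      have h48 : 48 ∣ Nat.card G := by
        have hc : Nat.card (Subgroup.centralizer ({t} : Set G)) = 48 := by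
          rw [Nat.card_congr e.toEquiv, ← Nat.card_eq_of_bijective toGL toGL_bijective, Nat.card_fin]
        exact hc ▸ Subgroup.card_subgroup_dvd_card _
      have := (Nat.prime_dvd_prime_iff_eq Nat.prime_two hp).mp ((by norm_num : 2 ∣ 48).trans h48)
      have := Nat.le_of_dvd Nat.card_pos h48
      omega)

end Cfsg.Agent.S0197
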