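import Cfsg.Statements.S2916
import Cfsg.Agent.S0197
import Cfsg.Agent.Lib.GLTwoThreeRecog.Plane
import Cfsg.Agent.Lib.M11Unique.Recognize

set_option autoImplicit false
open Cfsg

namespace Cfsg.Agent.S2916

/-- Let G be a finite group with O²(G) = G (no proper normal subgroup of 2-power index), and let t be an involution of G whose centralizer C_G(t) is isomorphic to GL₂(3). Then G is isomorphic to PSL₃(3) or to the Mathieu group M₁₁. -/
theorem result {G : Type*} [Group G] [Finite G] (hO : Cfsg.pResidual 2 G = ⊤) (t : G) (ht : orderOf t = 2) (hC : Nonempty (↥(Subgroup.centralizer ({t} : Set G)) ≃* GL (Fin 2) (ZMod 3))) : (∃ (F : Type) (_ : Field F) (_ : Fintype F), Fintype.card F = 3 ∧ Nonempty (G ≃* Matrix.ProjectiveSpecialLinearGroup (Fin 3) F)) ∨ Cfsg.Spor.IsoM11 G := by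
  obtain ⟨e⟩ := hC
  open CfsgLib.GLTwoThreeCent CfsgLib.GLTwoThreeRecog in
  exact (by
    have htm : t ∈ Subgroup.centralizer ({t} : Set G) := Subgroup.mem_centralizer_singleton_iff.mpr rfl
    let K : Coord t :=
      { E := (Equiv.ofBijective toGL toGL_bijective).trans e.symm.toEquiv
        mul := fun i j => by
          show e.symm (toGL (mulI i j)) = _
          rw [toGL_mul, map_mul]; rfl
        neg := by
          show ((e.symm (toGL negI) : Subgroup.centralizer ({t} : Set G)) : G) = t
          obtain ⟨i, hi⟩ := toGL_bijective.2 (e ⟨t, htm⟩)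
          have h2 : toGL i * toGL i = toGL 0 := by
            rw [toGL_zero, hi, ← map_mul, show (⟨t, htm⟩ : Subgroup.centralizer ({t} : Set G)) * ⟨t, htm⟩ = 1 from
              Subtype.ext (show t * t = 1 by rw [← pow_two, ← ht, pow_orderOf_eq_one]), map_one]
          have hinv : invol i := ⟨toGL_bijective.1 (by rw [toGL_mul, h2]), fun h0 => by
            rw [h0, toGL_zero] at hi
            have := congrArg Subtype.val (e.map_eq_one_iff.mp hi.symm)
            rw [show t = 1 from this, orderOf_one] at ht
            norm_num at ht⟩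
          have hcen : ∀ k, mulI k i = mulI i k := fun k => toGL_bijective.1 (by
            obtain ⟨x, hx⟩ := e.surjective (toGL k)
            rw [toGL_mul, toGL_mul, hi, ← hx, ← map_mul, ← map_mul]
            exact congrArg e (Subtype.ext (Subgroup.mem_centralizer_singleton_iff.mp x.2)))
          rw [← central_involution i hinv hcen, hi, MulEquiv.symm_apply_apply] }
    obtain ⟨hsimple, -⟩ := CfsgLib.GLTwoThreeRecog.isSimpleGroup K hO
    haveI := hsimple
    rcases Cfsg.Agent.S0197.result t ht e with h | h
    · haveI : Fact (Nat.Prime 3) := ⟨Nat.prime_three⟩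
      have hS : Setup K := ⟨fun _ hu => isConj_of_orderOf K hO hu, h, hsimple⟩
      obtain ⟨P, A⟩ := hS.exists_axis
      exact Or.inl ⟨ZMod 3, inferInstance, inferInstance, ZMod.card 3, hS.iso_psl A⟩
    · exact Or.inr (CfsgLib.M11Unique.nonempty_equiv_spor h))

end Cfsg.Agent.S2916
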