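import Cfsg.Statements.S2444
import Cfsg.Agent.Lib.SLComm.Main

set_option autoImplicit false
open Cfsg

namespace Cfsg.Agent.S2444

/-- In the special linear group SL(n,F) over a finite field F, with n ≥ 2 and (n, |F|) not (2,2) or (2,3), every element is a commutator a·b·a⁻¹·b⁻¹ of two elements of SL(n,F). -/
theorem result {F : Type*} [Field F] [Fintype F] (n : ℕ) (hn : 2 ≤ n) (hex : n = 2 → 4 ≤ Fintype.card F) :
    ∀ g : Matrix.SpecialLinearGroup (Fin n) F, ∃ a b : Matrix.SpecialLinearGroup (Fin n) F, g = a * b * a⁻¹ * b⁻¹ := by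
  intro g
  have hdim : Module.finrank F (Fin n → F) = n := Module.finrank_fin_fun F
  have hdet : LinearMap.det (Matrix.toLin' (g : Matrix (Fin n) (Fin n) F)) = 1 := by
    rw [LinearMap.det_toLin', g.2]
  obtain ⟨A, B, hA, hB, h⟩ := CfsgLib.SLComm.isComm_of_det (Matrix.toLin' (g : Matrix (Fin n) (Fin n) F)) hdet
    (by rw [hdim]; exact hn) (fun h2 => by rw [Nat.card_eq_fintype_card]; exact hex (hdim ▸ h2))
  let a : Matrix.SpecialLinearGroup (Fin n) F := ⟨LinearMap.toMatrix' A, by rw [LinearMap.det_toMatrix', hA]⟩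
  let b : Matrix.SpecialLinearGroup (Fin n) F := ⟨LinearMap.toMatrix' B, by rw [LinearMap.det_toMatrix', hB]⟩
  refine ⟨a, b, ?_⟩
  rw [eq_mul_inv_iff_mul_eq, eq_mul_inv_iff_mul_eq]
  refine Subtype.ext ?_
  have h1 := congrArg LinearMap.toMatrix' h
  simp only [Module.End.mul_eq_comp, LinearMap.toMatrix'_comp, LinearMap.toMatrix'_toLin'] at h1
  simpa using h1

end Cfsg.Agent.S2444
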