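import Cfsg.Statements.S0996
import Cfsg.Agent.Lib.BrauerReynolds.Perfect

set_option autoImplicit false
open Cfsg

namespace Cfsg.Agent.S0996

/-- Let G be a finite perfect group containing an element z of prime order p whose centralizer is the cyclic group it generates, and suppose the number 1 + n * p of Sylow p-subgroups satisfies n < (p + 3) / 2. Then p > 3 and G is isomorphic to the projective special linear group of dimension 2 over the field with p elements, or p - 1 is a power of 2 and G is isomorphic to that group over the field with p - 1 elements. -/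
theorem result {G : Type*} [Group G] [Finite G] (hperf : commutator G = ⊤) (p : ℕ) [Fact p.Prime] (z : G) (hz : orderOf z = p) (hC : Subgroup.centralizer ({z} : Set G) = Subgroup.zpowers z) (hn : 2 * Nat.card (Sylow p G) < (p + 1) * (p + 2)) : (∃ (F : Type) (_ : Field F) (_ : Fintype F), Fintype.card F = p ∧ 3 < p ∧ Nonempty (G ≃* Matrix.ProjectiveSpecialLinearGroup (Fin 2) F)) ∨ (∃ (m : ℕ) (F : Type) (_ : Field F) (_ : Fintype F), Fintype.card F = 2 ^ m ∧ p = 2 ^ m + 1 ∧ 3 < p ∧ Nonempty (G ≃* Matrix.ProjectiveSpecialLinearGroup (Fin 2) F)) := by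
  obtain ⟨P, hzP⟩ := CfsgLib.BrauerReynolds.exists_sylow_of_centralizer p z hz hC
  obtain ⟨hP, hCP⟩ := hzP
  obtain ⟨n, hn'⟩ : ∃ n, Nat.card (Sylow p G) = 1 + n * p := ⟨Nat.card (Sylow p G) / p, by
    have h := card_sylow_modEq_one p G
    rw [Nat.ModEq, Nat.mod_eq_of_lt (Fact.out : p.Prime).one_lt] at h
    conv_lhs => rw [← Nat.mod_add_div (Nat.card (Sylow p G)) p, h, mul_comm p]⟩
  refine CfsgLib.BrauerReynolds.concl_of_perfect hperf P hP hCP hn' ?_
  rw [hn'] at hn
  by_contra hgt
  have h1 : (p + 3) * p ≤ 2 * n * p := Nat.mul_le_mul_right p (by omega)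
  have h2 : (p + 1) * (p + 2) = p * p + 3 * p + 2 := by ring
  have h3 : (p + 3) * p = p * p + 3 * p := by ring
  have h4 : 2 * n * p = 2 * (n * p) := by ring
  omega

end Cfsg.Agent.S0996
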