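import Cfsg.Statements.S3805
import Cfsg.Agent.Lib.NineTI.KleinAutomizer
-- import your own Cfsg.Agent.* helpers here

set_option autoImplicit false
open Cfsg

namespace Cfsg.Agent.S3805

/-- Let G be a finite group whose Sylow 3-subgroup T is elementary abelian of order 9 and self-centralizing, with N_G(T)/T a Klein four-group, and suppose that the centralizer of every nonidentity element of T lies in N_G(T). Then T is normal in G. -/
theorem result {G : Type*} [Group G] [Finite G]
    (T : Sylow 3 G) (hT : Cfsg.IsElementaryAbelian 3 (T : Subgroup G)) (hcard : Nat.card T = 9)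
    (hC : Subgroup.centralizer ((T : Subgroup G) : Set G) = T)
    [hn : ((T : Subgroup G).subgroupOf (Subgroup.normalizer ((T : Subgroup G) : Set G))).Normal]
    (hK : IsKleinFour (↥(Subgroup.normalizer ((T : Subgroup G) : Set G)) ⧸
      (T : Subgroup G).subgroupOf (Subgroup.normalizer ((T : Subgroup G) : Set G))))
    (hloc : ∀ t ∈ (T : Subgroup G), t ≠ 1 →
      Subgroup.centralizer ({t} : Set G) ≤ Subgroup.normalizer ((T : Subgroup G) : Set G)) :
    Subgroup.normalizer ((T : Subgroup G) : Set G) = ⊤ := by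
  classical
  haveI : Fact (Nat.Prime 3) := ⟨Nat.prime_three⟩
  haveI : Fact (Nat.Prime 2) := ⟨Nat.prime_two⟩
  let M : Subgroup G := (T : Subgroup G)
  let N : Subgroup G := Subgroup.normalizer (M : Set G)
  have h : CfsgLib.NineTI.Hyp M :=
    { card := hcard
      comm := fun p hp q hq => by
        haveI := hT.1
        exact congrArg Subtype.val (mul_comm' (⟨p, hp⟩ : M) ⟨q, hq⟩)
      cube := hT.2
      maximal := fun Q hQ hle => T.3 hQ hle
      self := hC
      loc := hloc }
  have hN36 : Nat.card N = 36 := by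
    rw [← (M.subgroupOf N).card_mul_index,
      Nat.card_congr (Subgroup.subgroupOfEquivOfLe (Subgroup.le_normalizer (H := M))).toEquiv,
      Subgroup.index_eq_card, hK.card_four, h.card]
  obtain ⟨S⟩ := (inferInstance : Nonempty (Sylow 2 N))
  have hS4 : Nat.card (S : Subgroup N) = 4 := by
    rw [S.card_eq_multiplicity, hN36, show (36 : ℕ) = 2 ^ 2 * 9 by norm_num,
      Nat.factorization_mul (by norm_num) (by norm_num), Nat.Prime.factorization_pow Nat.prime_two,
      Finsupp.add_apply, Nat.factorization_eq_zero_of_not_dvd (n := 9) (by norm_num)]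
    simp
  have hdisj : ∀ s : N, s ∈ (S : Subgroup N) → (s : G) ∈ M → s = 1 := by
    intro s hs hsM
    have h3 : orderOf s ∣ 3 := orderOf_dvd_of_pow_eq_one (Subtype.ext (by simpa using h.cube _ hsM))
    have h4 : orderOf s ∣ 4 := hS4 ▸ Subgroup.orderOf_dvd_natCard _ hs
    exact orderOf_eq_one_iff.mp (Nat.eq_one_of_dvd_coprimes (show Nat.Coprime 3 4 by norm_num) h3 h4)
  refine CfsgLib.NineTI.normalizer_eq_top_of_klein h ((S : Subgroup N).map N.subtype)
    (Subgroup.map_subtype_le _) ?_ ?_ ?_
  · rw [Subgroup.card_map_of_injective N.subtype_injective, hS4]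
  · rintro _ ⟨s, hs, rfl⟩
    have h2 : (s * s : N) ∈ M.subgroupOf N := by
      rw [← QuotientGroup.eq_one_iff, QuotientGroup.mk_mul, ← pow_two]
      exact Monoid.exponent_dvd_iff_forall_pow_eq_one.mp (dvd_of_eq hK.exponent_two) _
    exact congrArg Subtype.val (hdisj _ (mul_mem hs hs) (Subgroup.mem_subgroupOf.mp h2))
  · intro n hn
    have hc : Subgroup.IsComplement' (M.subgroupOf N) (S : Subgroup N) := by
      refine Subgroup.isComplement'_of_coprime ?_ ?_ <;>
        rw [Nat.card_congr (Subgroup.subgroupOfEquivOfLe (Subgroup.le_normalizer (H := M))).toEquiv,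
          h.card, hS4]
      · rw [hN36]
      · norm_num
    obtain ⟨⟨⟨m, hm⟩, ⟨s, hs⟩⟩, he⟩ := hc.2 (⟨n, hn⟩ : N)
    exact ⟨m, Subgroup.mem_subgroupOf.mp hm, s, ⟨s, hs, rfl⟩, (congrArg Subtype.val he).symm⟩

end Cfsg.Agent.S3805
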