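import Cfsg.Statements.S3377
import Mathlib
-- import your own Cfsg.Agent.* helpers here

set_option autoImplicit false
open Cfsg

namespace Cfsg.Agent.S3377

/-- Coset enumeration for the (2,3,5) triangle group over a cyclic subgroup of order five. -/
lemma alt5Aux_enum {X : Type*} {Γ : Type*} [Group Γ] [MulAction Γ X] (a b : Γ) (p0 : X)
    (hb0 : b • p0 = p0)
    (ha : ∀ p : X, a • a • a • p = p) (hb : ∀ p : X, b • b • b • b • b • p = p)
    (hab : ∀ p : X, a • b • a • b • p = p) (hba : ∀ p : X, b • a • b • a • p = p) :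
    ∃ f : Fin 12 → X, f 0 = p0 ∧ ∀ i : Fin 12, (∃ j, a • f i = f j) ∧ (∃ j, b • f i = f j) := by
  have e_0_1 : b • p0 = p0 := hb0
  let p1 : X := a • p0
  have e_0_0 : a • p0 = p1 := rfl
  let p2 : X := a • p1
  have e_1_0 : a • p1 = p2 := rfl
  have e_2_0 : a • p2 = p0 := by
    have h' : a • (a • (a • (p0))) = p0 := by
      exact ha p0
    rw [e_0_0, e_1_0] at h'
    exact h'
  have e_1_1 : b • p1 = p2 := by
    have h' : b • (a • (b • (a • (p2)))) = p2 := by
      exact hba p2
    rw [e_2_0, e_0_1, e_0_0] at h'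
    exact h'
  let p3 : X := b • p2
  have e_2_1 : b • p2 = p3 := rfl
  let p4 : X := a • p3
  have e_3_0 : a • p3 = p4 := rfl
  have e_4_1 : b • p4 = p1 := by
    have h' : b • (a • (b • (a • (p1)))) = p1 := by
      exact hba p1
    rw [e_1_0, e_2_1, e_3_0] at h'
    exact h'
  let p5 : X := b • p3
  have e_3_1 : b • p3 = p5 := rfl
  have e_5_1 : b • p5 = p4 := by
    have h' : b • (b • (b • (b • (b • (p4))))) = p4 := by
      exact hb p4
    rw [e_4_1, e_1_1, e_2_1, e_3_1] at h'
    exact h'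
  let p6 : X := a • p4
  have e_4_0 : a • p4 = p6 := rfl
  have e_6_0 : a • p6 = p3 := by
    have h' : a • (a • (a • (p3))) = p3 := by
      exact ha p3
    rw [e_3_0, e_4_0] at h'
    exact h'
  let p7 : X := a • p5
  have e_5_0 : a • p5 = p7 := rfl
  have e_7_1 : b • p7 = p6 := by
    have h' : b • (a • (b • (a • (p6)))) = p6 := by
      exact hba p6
    rw [e_6_0, e_3_1, e_5_0] at h'
    exact h'
  let p8 : X := b • p6
  have e_6_1 : b • p6 = p8 := rfl
  have e_8_0 : a • p8 = p5 := by
    have h' : a • (b • (a • (b • (p5)))) = p5 := by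
      exact hab p5
    rw [e_5_1, e_4_0, e_6_1] at h'
    exact h'
  have e_7_0 : a • p7 = p8 := by
    have h' : a • (a • (a • (p8))) = p8 := by
      exact ha p8
    rw [e_8_0, e_5_0] at h'
    exact h'
  let p9 : X := b • p8
  have e_8_1 : b • p8 = p9 := rfl
  let p10 : X := a • p9
  have e_9_0 : a • p9 = p10 := rfl
  have e_10_1 : b • p10 = p7 := by
    have h' : b • (a • (b • (a • (p7)))) = p7 := by
      exact hba p7
    rw [e_7_0, e_8_1, e_9_0] at h'
    exact h'
  have e_9_1 : b • p9 = p10 := by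
    have h' : b • (b • (b • (b • (b • (p10))))) = p10 := by
      exact hb p10
    rw [e_10_1, e_7_1, e_6_1, e_8_1] at h'
    exact h'
  let p11 : X := a • p10
  have e_10_0 : a • p10 = p11 := rfl
  have e_11_0 : a • p11 = p9 := by
    have h' : a • (a • (a • (p9))) = p9 := by
      exact ha p9
    rw [e_9_0, e_10_0] at h'
    exact h'
  have e_11_1 : b • p11 = p11 := by
    have h' : b • (a • (b • (a • (p11)))) = p11 := by
      exact hba p11
    rw [e_11_0, e_9_1, e_10_0] at h'
    exact h'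
  refine ⟨![p0, p1, p2, p3, p4, p5, p6, p7, p8, p9, p10, p11], rfl, fun i => ?_⟩
  fin_cases i
  · exact ⟨⟨1, e_0_0⟩, ⟨0, e_0_1⟩⟩
  · exact ⟨⟨2, e_1_0⟩, ⟨2, e_1_1⟩⟩
  · exact ⟨⟨0, e_2_0⟩, ⟨3, e_2_1⟩⟩
  · exact ⟨⟨4, e_3_0⟩, ⟨5, e_3_1⟩⟩
  · exact ⟨⟨6, e_4_0⟩, ⟨1, e_4_1⟩⟩
  · exact ⟨⟨7, e_5_0⟩, ⟨4, e_5_1⟩⟩
  · exact ⟨⟨3, e_6_0⟩, ⟨8, e_6_1⟩⟩
  · exact ⟨⟨8, e_7_0⟩, ⟨6, e_7_1⟩⟩
  · exact ⟨⟨5, e_8_0⟩, ⟨9, e_8_1⟩⟩
  · exact ⟨⟨10, e_9_0⟩, ⟨10, e_9_1⟩⟩
  · exact ⟨⟨11, e_10_0⟩, ⟨7, e_10_1⟩⟩
  · exact ⟨⟨9, e_11_0⟩, ⟨11, e_11_1⟩⟩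

def alt5Aux_a : alternatingGroup (Fin 5) :=
  ⟨Equiv.swap 0 1 * Equiv.swap 1 2, Equiv.Perm.mem_alternatingGroup.2 (by decide)⟩

def alt5Aux_b : alternatingGroup (Fin 5) :=
  ⟨Equiv.swap 0 2 * Equiv.swap 2 4 * Equiv.swap 4 1 * Equiv.swap 1 3,
    Equiv.Perm.mem_alternatingGroup.2 (by decide)⟩

lemma alt5Aux_rels : alt5Aux_a ^ 3 = 1 ∧ alt5Aux_b ^ 5 = 1 ∧ (alt5Aux_a * alt5Aux_b) ^ 2 = 1 := by
  decide

lemma alt5Aux_orders : alt5Aux_a ≠ 1 ∧ alt5Aux_b ≠ 1 ∧ alt5Aux_a * alt5Aux_b ≠ 1 := by
  decide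

/-- The alternating group of degree 5 has the presentation ⟨x, y | x³ = 1, y⁵ = 1, (xy)² = 1⟩: the group so presented is isomorphic to Alt(5). -/
theorem result :
    Nonempty (PresentedGroup ({FreeGroup.of (0 : Fin 2) ^ 3, FreeGroup.of (1 : Fin 2) ^ 5,
        (FreeGroup.of (0 : Fin 2) * FreeGroup.of 1) ^ 2} : Set (FreeGroup (Fin 2))) ≃* alternatingGroup (Fin 5)) := by
  classical
  set rels : Set (FreeGroup (Fin 2)) := {FreeGroup.of (0 : Fin 2) ^ 3, FreeGroup.of (1 : Fin 2) ^ 5,
        (FreeGroup.of (0 : Fin 2) * FreeGroup.of 1) ^ 2} with hrels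
  let a : PresentedGroup rels := PresentedGroup.of 0
  let b : PresentedGroup rels := PresentedGroup.of 1
  have hrel : ∀ r ∈ rels, PresentedGroup.mk rels r = 1 := fun r hr => by
    exact PresentedGroup.one_of_mem hr
  have ha3 : a ^ 3 = 1 := by
    have := hrel (FreeGroup.of (0 : Fin 2) ^ 3) (by simp [hrels])
    rwa [map_pow] at this
  have hb5 : b ^ 5 = 1 := by
    have := hrel (FreeGroup.of (1 : Fin 2) ^ 5) (by simp [hrels])
    rwa [map_pow] at this
  have hab2 : (a * b) ^ 2 = 1 := by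
    have := hrel ((FreeGroup.of (0 : Fin 2) * FreeGroup.of 1) ^ 2) (by simp [hrels])
    rwa [map_pow, map_mul] at this
  have hba2 : (b * a) ^ 2 = 1 := by
    have : (b * a) ^ 2 = a⁻¹ * (a * b) ^ 2 * a := by rw [sq, sq]; group
    rw [this, hab2]; group
  let H : Subgroup (PresentedGroup rels) := Subgroup.zpowers b
  let X := PresentedGroup rels ⧸ H
  let x0 : X := ((1 : PresentedGroup rels) : X)
  obtain ⟨f, hf0, hf⟩ := alt5Aux_enum (X := X) a b x0
    (by
      show ((b * 1 : PresentedGroup rels) : X) = ((1 : PresentedGroup rels) : X)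
      rw [mul_one, QuotientGroup.eq]
      simp [H])
    (fun p => by rw [smul_smul, smul_smul, ← pow_three', ha3, one_smul])
    (fun p => by
      rw [smul_smul, smul_smul, smul_smul, smul_smul]
      have : b * b * b * b * b = b ^ 5 := by simp [pow_succ]
      rw [this, hb5, one_smul])
    (fun p => by
      rw [smul_smul, smul_smul, smul_smul]
      have : a * b * a * b = (a * b) ^ 2 := by rw [sq]; group
      rw [this, hab2, one_smul])
    (fun p => by
      rw [smul_smul, smul_smul, smul_smul]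
      have : b * a * b * a = (b * a) ^ 2 := by rw [sq]; group
      rw [this, hba2, one_smul])
  have hall : ∀ g : PresentedGroup rels, ∀ i, ∃ j, g • f i = f j := by
    intro g
    have hg : g ∈ Subgroup.closure ({a, b} : Set (PresentedGroup rels)) := by
      have htop := PresentedGroup.closure_range_of rels
      have hle : Set.range (PresentedGroup.of (rels := rels)) ⊆ {a, b} := by
        rintro _ ⟨i, rfl⟩
        fin_cases i
        · exact Or.inl rfl
        · exact Or.inr rfl
      have := Subgroup.closure_mono hle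
      rw [htop] at this
      exact this trivial
    induction hg using Subgroup.closure_induction with
    | mem x hx =>
      intro i
      rcases hx with rfl | rfl
      · exact (hf i).1
      · exact (hf i).2
    | one => exact fun i => ⟨i, one_smul _ _⟩
    | mul x y _ _ hx hy =>
      intro i
      obtain ⟨j, hj⟩ := hy i
      obtain ⟨k, hk⟩ := hx j
      exact ⟨k, by rw [mul_smul, hj, hk]⟩
    | inv x _ hx =>
      intro i
      have hmaps : Set.MapsTo (fun q : X => x • q) (Set.range f) (Set.range f) := by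
        rintro _ ⟨k, rfl⟩
        obtain ⟨l, hl⟩ := hx k
        exact ⟨l, hl.symm⟩
      obtain ⟨q, hq, hq'⟩ :=
        ((Set.finite_range f).injOn_iff_bijOn_of_mapsTo hmaps).1
          ((MulAction.injective x).injOn) |>.surjOn (Set.mem_range_self i)
      obtain ⟨k, rfl⟩ := hq
      exact ⟨k, by rw [inv_smul_eq_iff]; exact hq'.symm⟩
  have hsurj : Function.Surjective f := by
    intro q
    induction q using QuotientGroup.induction_on with
    | _ g =>
      obtain ⟨j, hj⟩ := hall g 0
      refine ⟨j, ?_⟩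
      rw [← hj, hf0]
      show ((g * 1 : PresentedGroup rels) : X) = _
      rw [mul_one]
  have hfX : Finite X := Finite.of_surjective f hsurj
  have hidx : H.index ≤ 12 := by
    have := Nat.card_le_card_of_surjective f hsurj
    rwa [Nat.card_fin] at this
  have hH : Nat.card H ≤ 5 := by
    rw [Nat.card_zpowers]
    exact orderOf_le_of_pow_eq_one (by norm_num) hb5
  have hHfin : Finite H := by
    have : IsOfFinOrder b := isOfFinOrder_iff_pow_eq_one.2 ⟨5, by norm_num, hb5⟩
    exact this.finite_zpowers.to_subtype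
  have hfin : Finite (PresentedGroup rels) :=
    Finite.of_equiv _ (Subgroup.groupEquivQuotientProdSubgroup (s := H)).symm
  have hcard : Nat.card (PresentedGroup rels) ≤ 60 := by
    rw [← H.card_mul_index]
    calc Nat.card H * H.index ≤ 5 * 12 := Nat.mul_le_mul hH hidx
      _ = 60 := rfl
  obtain ⟨r1, r2, r3⟩ := alt5Aux_rels
  let img : Fin 2 → alternatingGroup (Fin 5) := ![alt5Aux_a, alt5Aux_b]
  have himg : ∀ r ∈ rels, FreeGroup.lift img r = 1 := by
    intro r hr
    simp only [hrels, Set.mem_insert_iff, Set.mem_singleton_iff] at hr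
    rcases hr with rfl | rfl | rfl
    · rw [map_pow, FreeGroup.lift_apply_of]; exact r1
    · rw [map_pow, FreeGroup.lift_apply_of]; exact r2
    · rw [map_pow, map_mul, FreeGroup.lift_apply_of, FreeGroup.lift_apply_of]; exact r3
  let φ := PresentedGroup.toGroup himg
  have hA : alt5Aux_a ∈ φ.range := ⟨PresentedGroup.of 0, PresentedGroup.toGroup.of himg⟩
  have hB : alt5Aux_b ∈ φ.range := ⟨PresentedGroup.of 1, PresentedGroup.toGroup.of himg⟩
  have hA5 : Nat.card (alternatingGroup (Fin 5)) = 60 := by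
    rw [nat_card_alternatingGroup, Nat.card_eq_fintype_card, Fintype.card_fin]
    decide
  obtain ⟨o1, o2, o3⟩ := alt5Aux_orders
  have hd : 30 ∣ Nat.card φ.range := by
    have h2 : 2 ∣ Nat.card φ.range := by
      have := Subgroup.orderOf_dvd_natCard _ (mul_mem hA hB)
      rwa [orderOf_eq_prime r3 o3] at this
    have h3 : 3 ∣ Nat.card φ.range := by
      have := Subgroup.orderOf_dvd_natCard _ hA
      rwa [orderOf_eq_prime (hp := ⟨by norm_num⟩) r1 o1] at this
    have h5 : 5 ∣ Nat.card φ.range := by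
      have := Subgroup.orderOf_dvd_natCard _ hB
      rwa [orderOf_eq_prime (hp := ⟨by norm_num⟩) r2 o2] at this
    omega
  have htop : φ.range = ⊤ := by
    have hmul := φ.range.card_mul_index
    rw [hA5] at hmul
    have hidx2 : φ.range.index = 1 ∨ φ.range.index = 2 := by
      have : φ.range.index ≤ 2 := by
        obtain ⟨c, hc⟩ := hd
        rcases Nat.eq_zero_or_pos c with rfl | hcpos
        · rw [hc] at hmul; omega
        · nlinarith
      rcases Nat.eq_zero_or_pos φ.range.index with h0 | h0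
      · simp [h0] at hmul
      · omega
    rcases hidx2 with h | h
    · exact Subgroup.index_eq_one.1 h
    · have := Subgroup.normal_of_index_eq_two h
      rcases IsSimpleGroup.eq_bot_or_eq_top_of_normal φ.range this with h' | h'
      · rw [h', Subgroup.index_bot, hA5] at h; omega
      · exact h'
  have hs : Function.Surjective φ := MonoidHom.range_eq_top.1 htop
  have heq : Nat.card (PresentedGroup rels) = Nat.card (alternatingGroup (Fin 5)) := by
    apply le_antisymm
    · rw [hA5]; exact hcard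
    · exact Nat.card_le_card_of_surjective φ hs
  exact ⟨MulEquiv.ofBijective φ ((Nat.bijective_iff_surjective_and_card φ).2 ⟨hs, heq⟩)⟩

end Cfsg.Agent.S3377
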