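import Cfsg.Statements.S3357
import Cfsg.Agent.Lib.FrobCompl.FpfModule

set_option autoImplicit false
set_option linter.style.haveILetI false
open Cfsg

namespace Cfsg.Agent.S3357

open CfsgLib.FrobCompl in
/-- An integral functional killing the fixed-point-free ideal. -/
theorem exists_functional {G : Type*} [Group G] [Finite G] (hG : HasFpf G) :
    ∃ L : MonoidAlgebra ℤ G →ₗ[ℤ] ℤ, L 1 ≠ 0 ∧ ∀ y ∈ fpfIdeal G, L y = 0 := by
  classical
  haveI : Fintype G := Fintype.ofFinite G
  haveI : Module.Finite ℤ (MonoidAlgebra ℤ G) := by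
    refine Module.Finite.of_surjective
      (Fintype.linearCombination ℤ (fun g : G => (MonoidAlgebra.single g (1 : ℤ) : MonoidAlgebra ℤ G))) fun y => ?_
    induction y using MonoidAlgebra.induction_linear with
    | zero => exact ⟨0, map_zero _⟩
    | single m c =>
      exact ⟨Pi.single m c, by rw [Fintype.linearCombination_apply_single, MonoidAlgebra.smul_single, smul_eq_mul, mul_one]⟩
    | add a b ha hb =>
      obtain ⟨a', rfl⟩ := ha
      obtain ⟨b', rfl⟩ := hb
      exact ⟨a' + b', map_add _ a' b'⟩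
  let Q := MonoidAlgebra ℤ G ⧸ fpfIdeal G
  let T := Submodule.torsion ℤ Q
  haveI : Module.Free ℤ (Q ⧸ T) := Module.free_of_finite_type_torsion_free'
  have hne : T.mkQ ((fpfIdeal G).mkQ 1) ≠ 0 := by
    rw [Submodule.mkQ_apply, Ne, Submodule.Quotient.mk_eq_zero, Submodule.mem_torsion_iff]
    rintro ⟨⟨N, hN⟩, hNe⟩
    refine nonZeroDivisors.ne_zero hN (eq_zero_of_smul_one_mem_fpfIdeal hG ?_)
    rw [← Submodule.Quotient.mk_eq_zero, ← Submodule.mkQ_apply, map_zsmul]
    exact hNe
  obtain ⟨f, hf⟩ := Module.Projective.exists_dual_ne_zero ℤ hne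
  refine ⟨f.comp (T.mkQ.comp (fpfIdeal G).mkQ), hf, fun y hy => ?_⟩
  show f (T.mkQ ((fpfIdeal G).mkQ y)) = 0
  rw [show (fpfIdeal G).mkQ y = 0 by rw [Submodule.mkQ_apply, Submodule.Quotient.mk_eq_zero]; exact hy,
    map_zero, map_zero]


/-- Let G be a finite group that occurs as a Frobenius complement. Then G has a faithful irreducible representation over an algebraic closure of the rationals in which no non-identity element of G has 1 as an eigenvalue: there are n ≥ 1 and an injective homomorphism ρ from G to GL(n) over that field, with no invariant subspace other than 0 and the whole space, such that for g ≠ 1 the only vector fixed by ρ(g) is 0. -/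
theorem result {G : Type*} [Group G] [Finite G]
    (hFC : ∃ (L : Type) (_ : Group L) (_ : Finite L) (H : Subgroup L), Cfsg.IsFrobeniusComplement H ∧ Nonempty (G ≃* H)) :
    ∃ (n : ℕ) (ρ : G →* GL (Fin n) (AlgebraicClosure ℚ)), 0 < n ∧ Function.Injective ρ ∧
      (∀ W : Submodule (AlgebraicClosure ℚ) (Fin n → AlgebraicClosure ℚ),
        (∀ g : G, ∀ w ∈ W, ((ρ g : GL (Fin n) (AlgebraicClosure ℚ)) : Matrix (Fin n) (Fin n) (AlgebraicClosure ℚ)).mulVec w ∈ W) → W = ⊥ ∨ W = ⊤) ∧
      ∀ g : G, g ≠ 1 → ∀ v : Fin n → AlgebraicClosure ℚ,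
        ((ρ g : GL (Fin n) (AlgebraicClosure ℚ)) : Matrix (Fin n) (Fin n) (AlgebraicClosure ℚ)).mulVec v = v → v = 0 := by
  classical
  obtain ⟨L, _, _, H, hH, ⟨e⟩⟩ := hFC
  have hG := CfsgLib.FrobCompl.hasFpf_of_complement hH e
  obtain ⟨φ, hφ1, hφI⟩ := exists_functional hG
  haveI : Fintype G := Fintype.ofFinite G
  let K := AlgebraicClosure ℚ
  let Λ := MonoidAlgebra ℤ G
  -- evaluation of a function on the group algebra
  let ev : (G → K) → Λ →+ K := fun f =>
    AddMonoidHom.mk' (fun y => ∑ g, (y.coeff g : K) * f g) (fun y z => by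
      rw [← Finset.sum_add_distrib]
      exact Finset.sum_congr rfl fun g _ => by rw [MonoidAlgebra.coeff_add, Finsupp.add_apply, Int.cast_add, add_mul])
  have hev1 : ∀ f m (c : ℤ), ev f (MonoidAlgebra.single m c) = (c : K) * f m := fun f m c => by
    show ∑ g, ((MonoidAlgebra.single m c : Λ).coeff g : K) * f g = _
    rw [Finset.sum_eq_single m (fun g _ hg => by simp [MonoidAlgebra.coeff_single, Finsupp.single_eq_of_ne, hg])
      (fun h => absurd (Finset.mem_univ m) h)]
    simp [MonoidAlgebra.coeff_single]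
  let U : Submodule K (G → K) :=
    { carrier := {f | ∀ y ∈ CfsgLib.FrobCompl.fpfIdeal G, ev f y = 0}
      zero_mem' := fun y _ => by
        show ∑ x, (y.coeff x : K) * (0 : G → K) x = 0
        simp
      add_mem' := fun {f g} hf hg y hy => by
        show ∑ x, (y.coeff x : K) * (f + g) x = 0
        simp only [Pi.add_apply, mul_add, Finset.sum_add_distrib]
        rw [show ∑ x, (y.coeff x : K) * f x = 0 from hf y hy, show ∑ x, (y.coeff x : K) * g x = 0 from hg y hy, add_zero]
      smul_mem' := fun c f hf y hy => by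
        show ∑ x, (y.coeff x : K) * (c • f) x = 0
        simp only [Pi.smul_apply, smul_eq_mul, mul_left_comm _ c, ← Finset.mul_sum]
        rw [show ∑ x, (y.coeff x : K) * f x = 0 from hf y hy, mul_zero] }
  let T : G → (G → K) →ₗ[K] (G → K) := fun a => LinearMap.funLeft K K (fun g => a⁻¹ * g)
  have hTev : ∀ a f (y : Λ), ev (T a f) y = ev f (MonoidAlgebra.single a⁻¹ 1 * y) := by
    intro a f y
    induction y using MonoidAlgebra.induction_linear with
    | zero => rw [mul_zero, map_zero, map_zero]
    | single m c => rw [hev1, MonoidAlgebra.single_mul_single, one_mul, hev1]; rfl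
    | add x y hx hy => rw [mul_add, map_add, map_add, hx, hy]
  have hTU : ∀ a, ∀ f ∈ U, T a f ∈ U := fun a f hf y hy => by
    rw [hTev]
    exact hf _ (CfsgLib.FrobCompl.mul_mem_fpfIdeal _ hy)
  -- fixed-point-freeness
  have hfix : ∀ a, a ≠ 1 → ∀ f ∈ U, T a f = f → f = 0 := by
    intro a ha f hf hTf
    obtain ⟨r, hr, hrd⟩ := Nat.exists_prime_and_dvd (mt orderOf_eq_one_iff.mp ha)
    have hinv : ∀ g, f (a * g) = f g := fun g => by
      have h := congrFun hTf (a * g)
      rw [show T a f (a * g) = f (a⁻¹ * (a * g)) from rfl, inv_mul_cancel_left] at h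
      exact h.symm
    have hpow : ∀ (k : ℕ) g, f (a ^ k * g) = f g := by
      intro k
      induction k with
      | zero => intro g; rw [pow_zero, one_mul]
      | succ k ih => intro g; rw [pow_succ', mul_assoc, hinv, ih]
    funext x
    have h := hf _ (CfsgLib.FrobCompl.powSum_mul_mem_fpfIdeal hr
      (orderOf_pow_orderOf_div (orderOf_pos a).ne' hrd) (MonoidAlgebra.single x 1))
    rw [CfsgLib.FrobCompl.powSum, Finset.sum_mul, map_sum] at h
    have h2 : ∀ i : ℕ, ev f (MonoidAlgebra.single ((a ^ (orderOf a / r)) ^ i) (1 : ℤ) * MonoidAlgebra.single x 1) = f x := by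
      intro i
      rw [MonoidAlgebra.single_mul_single, one_mul, hev1, Int.cast_one, one_mul, ← pow_mul, hpow]
    rw [Finset.sum_congr rfl fun i _ => h2 i, Finset.sum_const, Finset.card_range, nsmul_eq_mul, mul_eq_zero] at h
    exact h.resolve_left (Nat.cast_ne_zero.mpr hr.ne_zero)
  -- `U` is nonzero
  have hU : U ≠ ⊥ := by
    intro h
    let f : G → K := fun g => (φ (MonoidAlgebra.single g 1) : K)
    have hevf : ∀ y, ev f y = (φ y : K) := by
      intro y
      induction y using MonoidAlgebra.induction_linear with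
      | zero => simp
      | single m c =>
        rw [hev1, show (MonoidAlgebra.single m c : Λ) = c • MonoidAlgebra.single m 1 by
          rw [MonoidAlgebra.smul_single, smul_eq_mul, mul_one], map_zsmul, smul_eq_mul, Int.cast_mul]
      | add x y hx hy => rw [map_add, map_add, hx, hy, Int.cast_add]
    have hfU : f ∈ U := fun y hy => by rw [hevf, hφI y hy, Int.cast_zero]
    rw [h, Submodule.mem_bot] at hfU
    have := congrFun hfU 1
    exact hφ1 (by simpa [f, MonoidAlgebra.one_def] using this)
  -- a minimal invariant subspace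
  obtain ⟨W, ⟨hWU, hW0, hWinv⟩, hWmin⟩ := (wellFounded_lt (α := Submodule K (G → K))).has_min
    {W | W ≤ U ∧ W ≠ ⊥ ∧ ∀ a, ∀ f ∈ W, T a f ∈ W} ⟨U, le_rfl, hU, hTU⟩
  let σ : G →* (W →ₗ[K] W) :=
    { toFun := fun a => (T a).restrict (hWinv a)
      map_one' := LinearMap.ext fun f => Subtype.ext (funext fun g => by
        show (f : G → K) ((1 : G)⁻¹ * g) = (f : G → K) g
        rw [inv_one, one_mul])
      map_mul' := fun a b => LinearMap.ext fun f => Subtype.ext (funext fun g => by
        show (f : G → K) ((a * b)⁻¹ * g) = (f : G → K) (b⁻¹ * (a⁻¹ * g))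
        rw [mul_inv_rev, mul_assoc]) }
  let b := Module.finBasis K W
  let ρ : G →* GL (Fin (Module.finrank K W)) K :=
    (((LinearMap.toMatrixAlgEquiv b).toAlgHom.toRingHom.toMonoidHom).comp σ).toHomUnits
  have hρ : ∀ a (v : Fin (Module.finrank K W) → K),
      ((ρ a : GL (Fin (Module.finrank K W)) K) : Matrix _ _ K).mulVec v = b.equivFun (σ a (b.equivFun.symm v)) := by
    intro a v
    show (LinearMap.toMatrix b b (σ a)).mulVec v = _
    have h := LinearMap.toMatrix_mulVec_repr b b (σ a) (b.equivFun.symm v)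
    rw [show ((b.repr (b.equivFun.symm v)) : Fin _ → K) = b.equivFun (b.equivFun.symm v) from rfl,
      LinearEquiv.apply_symm_apply] at h
    exact h
  haveI : Nontrivial W := (Submodule.nontrivial_iff_ne_bot).mpr hW0
  have hn : 0 < Module.finrank K W := Module.finrank_pos
  have hfpf : ∀ g : G, g ≠ 1 → ∀ v : Fin (Module.finrank K W) → K,
      ((ρ g : GL (Fin (Module.finrank K W)) K) : Matrix _ _ K).mulVec v = v → v = 0 := by
    intro g hg v hv
    rw [hρ, ← LinearEquiv.eq_symm_apply] at hv
    have h0 : (b.equivFun.symm v : W) = 0 :=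
      Subtype.ext (hfix g hg _ (hWU (b.equivFun.symm v).2) (congrArg Subtype.val hv))
    exact b.equivFun.symm.map_eq_zero_iff.mp h0
  refine ⟨_, ρ, hn, (injective_iff_map_eq_one _).mpr fun g hg => ?_, fun X hX => ?_, hfpf⟩
  · by_contra hg1
    have := hfpf g hg1 (fun _ => 1) (by rw [hg]; simp)
    exact one_ne_zero (congrFun this ⟨0, hn⟩)
  · let X' : Submodule K (G → K) := (X.comap (b.equivFun : W →ₗ[K] _)).map W.subtype
    by_cases hX' : X' = ⊥
    · left
      refine (Submodule.eq_bot_iff _).mpr fun v hv => ?_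
      have h1 : b.equivFun.symm v ∈ X.comap (b.equivFun : W →ₗ[K] _) := by
        show b.equivFun (b.equivFun.symm v) ∈ X
        rwa [LinearEquiv.apply_symm_apply]
      have h2 : W.subtype (b.equivFun.symm v) ∈ X' := Submodule.mem_map_of_mem h1
      rw [hX', Submodule.mem_bot] at h2
      exact b.equivFun.symm.map_eq_zero_iff.mp (Subtype.ext h2)
    · right
      have hle : X' ≤ W := Submodule.map_subtype_le _ _
      have heq : X' = W := (eq_or_lt_of_le hle).resolve_right fun hlt => hWmin X' ⟨hle.trans hWU, hX', fun a f hf => by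
        obtain ⟨w, hw, rfl⟩ := hf
        refine ⟨σ a w, ?_, rfl⟩
        show b.equivFun (σ a w) ∈ X
        have hw' : b.equivFun w ∈ X := hw
        have := hX a _ hw'
        rwa [hρ, LinearEquiv.symm_apply_apply] at this⟩ hlt
      refine eq_top_iff.mpr fun v _ => ?_
      obtain ⟨w, hw, hwe⟩ := heq.ge (b.equivFun.symm v).2
      rw [Subtype.ext hwe] at hw
      have h3 : b.equivFun (b.equivFun.symm v) ∈ X := hw
      rwa [LinearEquiv.apply_symm_apply] at h3
end Cfsg.Agent.S3357
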