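import Cfsg.Statements.S4252
import Mathlib
import Cfsg.Agent.Lib.FrobCompl.Fpf

set_option autoImplicit false
set_option linter.style.haveILetI false
open Cfsg

namespace Cfsg.Agent.S4252

/-- Let a finite group G act on a finite set Ω with more than one point, transitively but not regularly, so that no non-identity element of G fixes two distinct points. Then the stabilizer H of any point is a Frobenius complement in G (nontrivial, proper, meeting its other conjugates trivially), and the Frobenius kernel of G with respect to H (the identity together with the elements lying in no conjugate of H) is exactly the set consisting of the identity and the elements fixing no point. -/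
theorem result {G Ω : Type*} [Group G] [Finite G] [Fintype Ω] [MulAction G Ω] (hΩ : 1 < Fintype.card Ω)
    (htrans : ∀ α β : Ω, ∃ g : G, g • α = β) (hnreg : ∃ g : G, g ≠ 1 ∧ ∃ α : Ω, g • α = α)
    (hfix : ∀ g : G, g ≠ 1 → ∀ α β : Ω, g • α = α → g • β = β → α = β) (α : Ω) :
    Cfsg.IsFrobeniusComplement (MulAction.stabilizer G α) ∧
      Cfsg.frobeniusKernel (MulAction.stabilizer G α) = {g : G | g = 1 ∨ ∀ ω : Ω, g • ω ≠ ω} := by
  classical
  have hne : MulAction.stabilizer G α ≠ ⊥ := by
    intro h
    obtain ⟨g, hg1, β, hgβ⟩ := hnreg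
    obtain ⟨c, hc⟩ := htrans α β
    have hmem : c⁻¹ * g * c ∈ MulAction.stabilizer G α := by
      rw [MulAction.mem_stabilizer_iff, mul_smul, mul_smul, hc, hgβ, ← hc, inv_smul_smul]
    rw [h, Subgroup.mem_bot] at hmem
    exact hg1 (CfsgLib.FrobCompl.eq_one_of_conj hmem)
  refine ⟨⟨hne, fun h => ?_, fun g hg => ?_⟩, ?_⟩
  · obtain ⟨β, hβ⟩ := Fintype.exists_ne_of_one_lt_card hΩ α
    obtain ⟨c, hc⟩ := htrans α β
    have : c ∈ MulAction.stabilizer G α := h ▸ Subgroup.mem_top c
    exact hβ (hc.symm.trans this)
  · rw [eq_bot_iff]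
    intro x hx
    rw [Subgroup.mem_inf, CfsgLib.FrobCompl.mem_conj_smul, MulAction.mem_stabilizer_iff,
      MulAction.mem_stabilizer_iff, mul_smul, mul_smul, inv_smul_eq_iff] at hx
    rw [Subgroup.mem_bot]
    by_contra hx1
    exact hg (MulAction.mem_stabilizer_iff.mpr (hfix x hx1 _ _ hx.2 hx.1))
  · ext x
    simp only [Cfsg.frobeniusKernel, Set.mem_ofPred_eq, CfsgLib.FrobCompl.mem_conj_smul,
      MulAction.mem_stabilizer_iff, mul_smul, inv_smul_eq_iff]
    refine or_congr Iff.rfl ⟨fun h ω e => ?_, fun h g => h _⟩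
    obtain ⟨c, rfl⟩ := htrans α ω
    exact h c e

end Cfsg.Agent.S4252
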