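import Cfsg.Statements.S0672
import Mathlib.Tactic.FinCases
import Mathlib.Tactic.Ring

set_option autoImplicit false
open Cfsg

namespace Cfsg.Agent.S0672

open MulAction Pointwise


/-- Let a finite group act faithfully and doubly transitively with point stabilisers of even order, and let `K` have characteristic `p` dividing the degree. If the heart of the permutation module admits no non-zero equivariant map to the permutation module on unordered pairs (phrased: every intertwining map from the sum-zero functions vanishing on the constants is zero), the action is triply transitive. -/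
theorem result {G : Type*} [Group G] [Finite G] {K : Type*} [Field K] {p : ℕ} [Fact p.Prime] [CharP K p] {Ω : Type*} [Fintype Ω] [DecidableEq Ω] [MulAction G Ω] [FaithfulSMul G Ω] (h2 : MulAction.IsMultiplyPretransitive G Ω 2) (hp : p ∣ Fintype.card Ω) (heven : ∀ a : Ω, Even (Nat.card (MulAction.stabilizer G a))) (h : ∀ f : Representation.IntertwiningMap (Cfsg.permSumZero K G Ω).toRepresentation (Cfsg.permRep K G (Set.powersetCard Ω 2)), (∀ v : (Cfsg.permSumZero K G Ω).toSubmodule, (v : Ω → K) ∈ (Cfsg.permConstants K G Ω).toSubmodule → f v = 0) → f = 0) : MulAction.IsMultiplyPretransitive G Ω 3 := by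
  classical
  have h2' : ∀ {a b c d : Ω}, a ≠ b → c ≠ d → ∃ g : G, g • a = c ∧ g • b = d := fun hab hcd =>
    is_two_pretransitive_iff.1 h2 hab hcd
  by_cases htr : ∀ a b c d : Ω, a ≠ b → c ≠ a → c ≠ b → d ≠ a → d ≠ b →
      ∃ g : G, g • ({a, b} : Finset Ω) = {a, b} ∧ g • c = d
  · -- setwise stabilisers transitive; the transposition comes from an involution fixing a point
    have hswap : ∀ a b : Ω, a ≠ b → (∃ c, c ≠ a ∧ c ≠ b) →
        ∃ c, c ≠ a ∧ c ≠ b ∧ ∃ t : G, t • a = b ∧ t • b = a ∧ t • c = c := by
      intro a b hab _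
      obtain ⟨t, ht⟩ := exists_prime_orderOf_dvd_card' 2 (even_iff_two_dvd.1 (heven a))
      have ht' : orderOf (t : G) = 2 := by rw [Subgroup.orderOf_coe, ht]
      obtain ⟨x, hx⟩ : ∃ x, (t : G) • x ≠ x := by
        apply Classical.byContradiction
        intro hc
        push Not at hc
        have : (t : G) = 1 := eq_of_smul_eq_smul fun x : Ω => by rw [hc x, one_smul]
        simp [this] at ht'
      have htt : (t : G) • (t : G) • x = x := by
        rw [← mul_smul, ← sq, ← ht', pow_orderOf_eq_one, one_smul]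
      obtain ⟨g, g1, g2⟩ := h2' (Ne.symm hx) hab
      have hta : (t : G) • a = a := t.2
      have hax : a ≠ x := fun h => hx (h ▸ hta)
      have hax' : a ≠ (t : G) • x := fun h => by
        apply hax
        rw [← htt, ← h, hta]
      refine ⟨g • a, ?_, ?_, g * (t : G) * g⁻¹, ?_, ?_, by simp [mul_smul, hta]⟩
      · exact fun h => hax (smul_left_cancel g (h.trans g1.symm))
      · exact fun h => hax' (smul_left_cancel g (h.trans g2.symm))
      · rw [mul_smul, mul_smul, inv_smul_eq_iff.2 g1.symm, g2]
      · rw [mul_smul, mul_smul, inv_smul_eq_iff.2 g2.symm, htt, g1]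
    have htr' : ∀ a b c d : Ω, a ≠ b → c ≠ a → c ≠ b → d ≠ a → d ≠ b →
        ∃ g : G, g • a = a ∧ g • b = b ∧ g • c = d := by
      intro a b c d hab hca hcb hda hdb
      obtain ⟨e, hea, heb, t, ta, tb, te⟩ := hswap a b hab ⟨c, hca, hcb⟩
      have key : ∀ z, z ≠ a → z ≠ b → ∃ g : G, g • a = a ∧ g • b = b ∧ g • e = z := by
        intro z hza hzb
        obtain ⟨g, hg, hgz⟩ := htr a b e z hab hea heb hza hzb
        have h1 : g • a ∈ ({a, b} : Finset Ω) := hg ▸ Finset.smul_mem_smul_finset (by simp)
        have h2 : g • b ∈ ({a, b} : Finset Ω) := hg ▸ Finset.smul_mem_smul_finset (by simp)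
        have hne : g • a ≠ g • b := fun h => hab (smul_left_cancel g h)
        simp only [Finset.mem_insert, Finset.mem_singleton] at h1 h2
        rcases h1 with h1 | h1 <;> rcases h2 with h2 | h2
        · exact absurd (h1.trans h2.symm) hne
        · exact ⟨g, h1, h2, hgz⟩
        · exact ⟨g * t, by rw [mul_smul, ta, h2], by rw [mul_smul, tb, h1], by rw [mul_smul, te, hgz]⟩
        · exact absurd (h1.trans h2.symm) hne
      obtain ⟨g, g1, g2, g3⟩ := key c hca hcb
      obtain ⟨k, k1, k2, k3⟩ := key d hda hdb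
      exact ⟨k * g⁻¹, by rw [mul_smul, inv_smul_eq_iff.2 g1.symm, k1],
        by rw [mul_smul, inv_smul_eq_iff.2 g2.symm, k2], by rw [mul_smul, inv_smul_eq_iff.2 g3.symm, k3]⟩
    rw [isMultiplyPretransitive_iff]
    intro x y
    obtain ⟨g, g0, g1⟩ := h2' (x.injective.ne (show (0 : Fin 3) ≠ 1 by decide))
      (y.injective.ne (show (0 : Fin 3) ≠ 1 by decide))
    obtain ⟨k, k0, k1, k2⟩ := htr' (y 0) (y 1) (g • x 2) (y 2) (y.injective.ne (by decide))
      (by rw [← g0]; exact fun h => x.injective.ne (show (2 : Fin 3) ≠ 0 by decide) (smul_left_cancel g h))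
      (by rw [← g1]; exact fun h => x.injective.ne (show (2 : Fin 3) ≠ 1 by decide) (smul_left_cancel g h))
      (y.injective.ne (by decide)) (y.injective.ne (by decide))
    refine ⟨k * g, Function.Embedding.ext fun i => ?_⟩
    show (k * g) • x i = y i
    fin_cases i <;> simp [mul_smul, g0, g1, k0, k1, k2]
  · exfalso
    push Not at htr
    obtain ⟨a, b, c, d, hab, hca, hcb, hda, hdb, hcd⟩ := htr
    set H := stabilizer G ({a, b} : Finset Ω)
    set O : Finset Ω := Finset.univ.filter fun x => x ∈ orbit H c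
    have hOinv : ∀ g : G, g • ({a, b} : Finset Ω) = {a, b} → ∀ x, g • x ∈ O ↔ x ∈ O := by
      intro g hg x
      simp only [O, Finset.mem_filter, Finset.mem_univ, true_and]
      constructor
      · rintro ⟨h0, hh⟩
        exact ⟨(⟨g, hg⟩ : H)⁻¹ * h0, by simp only [mul_smul] at *; rw [hh]; exact inv_smul_smul g x⟩
      · rintro ⟨h0, rfl⟩
        exact ⟨(⟨g, hg⟩ : H) * h0, mul_smul _ _ _⟩
    have hcO : c ∈ O := by simp [O, mem_orbit_self]
    have hdO : d ∉ O := by
      simp only [O, Finset.mem_filter, Finset.mem_univ, true_and]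
      rintro ⟨g, hg⟩
      exact hcd g g.2 hg
    have hab' : ∀ g : G, g • ({a, b} : Finset Ω) = {a, b} → ∀ x, g • x ∈ ({a, b} : Finset Ω) ↔ x ∈ ({a, b} : Finset Ω) := by
      intro g hg x
      conv_lhs => rw [← hg]
      exact Finset.smul_mem_smul_finset_iff g
    have hOab : ∀ x ∈ O, x ∉ ({a, b} : Finset Ω) := by
      intro x hx hxab
      simp only [O, Finset.mem_filter, Finset.mem_univ, true_and] at hx
      obtain ⟨g, rfl⟩ := hx
      replace hxab : c ∈ ({a, b} : Finset Ω) := (hab' (g : G) g.2 c).1 hxab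
      simp at hxab
      tauto
    obtain ⟨u, hu, hsum, x, y, hxy⟩ : ∃ u : Ω → K,
        (∀ g : G, g • ({a, b} : Finset Ω) = {a, b} → ∀ x, u (g • x) = u x) ∧ ∑ x, u x = 0 ∧
        ∃ x y, u x ≠ u y := by
      by_cases ho : (O.card : K) = 0
      · refine ⟨fun x => if x ∈ O then 1 else 0, fun g hg x => by simp [hOinv g hg x], ?_, c, d, ?_⟩
        · simp [Finset.sum_ite_mem, ho]
        · simp [hcO, hdO]
      · refine ⟨fun x => (if x ∈ ({a, b} : Finset Ω) then (O.card : K) else 0) - (if x ∈ O then 2 else 0),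
          fun g hg x => by simp only [hOinv g hg x, hab' g hg x], ?_, a, d, ?_⟩
        · simp only [Finset.sum_sub_distrib, Finset.sum_ite_mem, Finset.univ_inter, Finset.sum_const,
            Finset.card_pair hab, nsmul_eq_mul]
          push_cast
          ring
        · have haO : a ∉ O := fun h => hOab a h (by simp)
          simp [haO, hdO, hda, hdb, ho]
    have hP : ∀ P : Set.powersetCard Ω 2, ∃ g : G, g • ({a, b} : Finset Ω) = (P : Finset Ω) := by
      intro P
      obtain ⟨s, t, hst, hP⟩ := Finset.card_eq_two.1 P.2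
      obtain ⟨g, g1, g2⟩ := h2' hab hst
      refine ⟨g, ?_⟩
      rw [show ((P : Set.powersetCard Ω 2) : Finset Ω) = {s, t} from hP]
      simp [Finset.smul_finset_insert, g1, g2]
    let w : Set.powersetCard Ω 2 → Ω → K := fun P z => u ((hP P).choose⁻¹ • z)
    have hwell : ∀ (P : Set.powersetCard Ω 2) (g : G), g • ({a, b} : Finset Ω) = (P : Finset Ω) →
        ∀ z, w P z = u (g⁻¹ • z) := by
      intro P g hg z
      have h1 := (hP P).choose_spec
      have := hu ((hP P).choose⁻¹ * g) (by rw [mul_smul, hg, inv_smul_eq_iff, h1]) (g⁻¹ • z)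
      rwa [mul_smul, smul_inv_smul] at this
    have hw : ∀ (g : G) (P : Set.powersetCard Ω 2) (z : Ω), w (g⁻¹ • P) z = w P (g • z) := by
      intro g P z
      rw [hwell (g⁻¹ • P) (g⁻¹ * (hP P).choose) (by rw [mul_smul, (hP P).choose_spec]; rfl) z,
        mul_inv_rev, inv_inv, mul_smul]
    let f : Representation.IntertwiningMap (Cfsg.permSumZero K G Ω).toRepresentation
        (Cfsg.permRep K G (Set.powersetCard Ω 2)) :=
      LinearMap.intertwiningMap_of_isIntertwiningMap _ _
        { toFun := fun v P => ∑ z, w P z * (v : Ω → K) z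
          map_add' := fun v v' => by funext P; simp [mul_add, Finset.sum_add_distrib]
          map_smul' := fun r v => by funext P; simp [Finset.mul_sum]; congr 1; funext z; ring }
        (fun g v => by
          funext P
          show ∑ z, w P z * (v : Ω → K) (g⁻¹ • z) = ∑ z, w (g⁻¹ • P) z * (v : Ω → K) z
          simp only [hw]
          refine Fintype.sum_equiv (MulAction.toPerm g⁻¹) _ _ fun z => ?_
          simp)
    have hf := h f (fun v hv => by
      funext P
      obtain ⟨r, hr⟩ := Submodule.mem_span_singleton.1 hv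
      show ∑ z, w P z * (v : Ω → K) z = 0
      simp only [← hr, Pi.smul_apply, smul_eq_mul, mul_one, ← Finset.sum_mul]
      rw [show ∑ z, w P z = ∑ z, u z from Fintype.sum_equiv (MulAction.toPerm (hP P).choose⁻¹) _ _ fun z => rfl,
        hsum, zero_mul])
    let v : (Cfsg.permSumZero K G Ω).toSubmodule :=
      ⟨fun z => (if z = x then 1 else 0) - (if z = y then 1 else 0), by
        show ∑ z, ((if z = x then (1 : K) else 0) - (if z = y then 1 else 0)) = 0
        simp [Finset.sum_sub_distrib]⟩
    have h0 : ∑ z, w ⟨{a, b}, Finset.card_pair hab⟩ z * (v : Ω → K) z = 0 :=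
      congrFun (DFunLike.congr_fun hf v) ⟨{a, b}, Finset.card_pair hab⟩
    simp only [hwell ⟨{a, b}, Finset.card_pair hab⟩ 1 (one_smul _ _), inv_one, one_smul, v, mul_sub,
      Finset.sum_sub_distrib, mul_ite, mul_one, mul_zero, Finset.sum_ite_eq', Finset.mem_univ, if_true] at h0
    exact hxy (sub_eq_zero.1 h0)

end Cfsg.Agent.S0672
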