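import Cfsg.Statements.S0676
import Cfsg.Agent.Lib.Perm.PairsHom
import Cfsg.Agent.S0672
import Cfsg.Agent.S0675

set_option autoImplicit false
open Cfsg

namespace Cfsg.Agent.S0676

variable {α : Type*} [Fintype α] [DecidableEq α] {p : ℕ} [Fact p.Prime]

theorem five_le (hα : Fintype.card α = p) (G : Subgroup (Equiv.Perm α))
    (hG : ¬ Group.IsSolvable G) : 5 ≤ p := by
  have hp := (Fact.out : p.Prime)
  by_contra h
  push Not at h
  have h3 : p ≤ 3 := by
    by_contra h4
    have : p = 4 := by omega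
    rw [this] at hp
    norm_num at hp
  haveI := CfsgLib.PermModule.isSolvable_perm_of_card_le_three (α := α) (by rw [hα]; exact h3)
  exact hG inferInstance

theorem coordinates (hα : Fintype.card α = p) (G : Subgroup (Equiv.Perm α)) [MulAction.IsPretransitive G α]
    (hpne : 2 ≠ p) (P : Sylow p G) (heven : Even (Nat.card (Subgroup.normalizer ((P : Subgroup G) : Set G)))) :
    ∃ (x : G) (e : ZMod p ≃ α), (∀ i, (x : Equiv.Perm α) (e i) = e (i + 1)) ∧
      ∃ w : G, ∀ i, (w : Equiv.Perm α) (e i) = e (-i) := by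
  classical
  have hp := (Fact.out : p.Prime)
  haveI : Nonempty α := Fintype.card_pos_iff.1 (hα ▸ hp.pos)
  let a : α := Classical.arbitrary α
  have hdvd : p ∣ Nat.card G := by
    have h := (MulAction.stabilizer G a).index_dvd_card
    rwa [MulAction.index_stabilizer_of_transitive, Nat.card_eq_fintype_card (α := α), hα] at h
  have hcardP : Nat.card P = p := by
    rw [P.card_eq_multiplicity]
    have h1 : 1 ≤ (Nat.card G).factorization p :=
      (hp.dvd_iff_one_le_factorization Nat.card_pos.ne').1 hdvd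
    have h2 : (Nat.card G).factorization p ≤ 1 := by
      by_contra hc
      have hd : p ^ 2 ∣ p.factorial := by
        refine ((pow_dvd_pow p (show 2 ≤ (Nat.card G).factorization p by omega)).trans (Nat.ordProj_dvd _ _)).trans ?_
        have := Subgroup.card_subgroup_dvd_card G
        rwa [Nat.card_perm, Nat.card_eq_fintype_card (α := α), hα] at this
      obtain ⟨m, hm⟩ : ∃ m, p = m + 1 := ⟨p - 1, (Nat.sub_add_cancel hp.pos).symm⟩
      rw [hm, Nat.factorial_succ, sq] at hd
      have h3 := Nat.dvd_of_mul_dvd_mul_left (Nat.succ_pos m) hd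
      rw [← hm] at h3
      exact absurd ((hp.dvd_factorial).1 h3) (by omega)
    rw [show (Nat.card G).factorization p = 1 by omega, pow_one]
  obtain ⟨x, hx⟩ := exists_prime_orderOf_dvd_card' p (dvd_of_eq hcardP.symm : p ∣ Nat.card (P : Subgroup G))
  have hx' : orderOf ((x : G) : Equiv.Perm α) = p := by rw [Subgroup.orderOf_coe, Subgroup.orderOf_coe, hx]
  set t : Equiv.Perm α := ((x : G) : Equiv.Perm α) with ht
  have hct : t.cycleType = {p} := by
    obtain ⟨n, hn⟩ := Equiv.Perm.cycleType_prime_order (σ := t) (by rw [hx']; exact hp)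
    rw [hx'] at hn
    have hle : (n + 1) * p ≤ p := by
      have h := t.support.card_le_univ
      rw [← Equiv.Perm.sum_cycleType, hn, Multiset.sum_replicate, smul_eq_mul, hα] at h
      exact h
    have : n = 0 := by nlinarith [hp.pos]
    rw [hn, this]; rfl
  have hcyc : t.IsCycle := Equiv.Perm.card_cycleType_eq_one.1 (by rw [hct]; rfl)
  have hsupp : t.support = Finset.univ := Finset.eq_univ_of_card _ (by
    rw [← Equiv.Perm.sum_cycleType, hct, Multiset.sum_singleton, hα])
  have hN : ∀ z : Subgroup.normalizer ((P : Subgroup G) : Set G), ∃ s : ℕ,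
      ((z : G) : Equiv.Perm α) * t * ((z : G) : Equiv.Perm α)⁻¹ = t ^ s := by
    intro z
    have hmem : (z : G) * (x : G) * (z : G)⁻¹ ∈ (P : Subgroup G) := (Subgroup.mem_normalizer_iff.1 z.2 _).1 x.2
    have hgen : Subgroup.zpowers x = (⊤ : Subgroup (P : Subgroup G)) :=
      Subgroup.eq_top_of_card_eq _ (by rw [Nat.card_zpowers, hx]; exact hcardP.symm)
    obtain ⟨s, hs⟩ := mem_powers_iff_mem_zpowers.2
      (hgen ▸ Subgroup.mem_top (⟨_, hmem⟩ : (P : Subgroup G)))
    exact ⟨s, by
      have := congrArg (fun y : (P : Subgroup G) => ((y : G) : Equiv.Perm α)) hs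
      simpa using this.symm⟩
  obtain ⟨z, hz⟩ := exists_prime_orderOf_dvd_card' 2 (even_iff_two_dvd.1 heven)
  set w : Equiv.Perm α := ((z : G) : Equiv.Perm α) with hwdef
  have hw' : orderOf w = 2 := by rw [hwdef, Subgroup.orderOf_coe, Subgroup.orderOf_coe, hz]
  obtain ⟨s, hs⟩ := hN z
  rw [← hwdef] at hs
  have hww : w * w = 1 := by rw [← sq, ← hw', pow_orderOf_eq_one]
  have hwinv : w⁻¹ = w := inv_eq_of_mul_eq_one_right hww
  have hpow : ∀ n : ℕ, w * t ^ n * w⁻¹ = t ^ (s * n) := fun n => by
    rw [← conj_pow, hs, pow_mul]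
  have hs2 : (s : ZMod p) * s = 1 := by
    have h := hpow s
    rw [← hs, hwinv] at h
    rw [show w * (w * t * w) * w = (w * w) * t * (w * w) by simp [mul_assoc], hww, one_mul, mul_one] at h
    have hm : 1 % p = s * s % p := by
      have := (pow_inj_mod (x := t) (n := 1) (m := s * s)).1 (by rw [pow_one]; exact h)
      rwa [hx'] at this
    have : ((1 : ℕ) : ZMod p) = ((s * s : ℕ) : ZMod p) := (ZMod.natCast_eq_natCast_iff' _ _ _).2 hm
    simpa using this.symm
  have hs1 : (s : ZMod p) ≠ 1 := by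
    intro h1
    have hcomm : Commute w t := by
      have hm : t ^ s = t := by
        conv_rhs => rw [← pow_one t]
        rw [pow_inj_mod, hx']
        exact (ZMod.natCast_eq_natCast_iff' _ _ _).1 (by rw [h1, Nat.cast_one])
      rw [hm] at hs
      exact mul_inv_eq_iff_eq_mul.1 hs
    obtain ⟨i, hi⟩ := CfsgLib.DegreeSeven.eq_zpow_of_commute hcyc hsupp hcomm
    have : orderOf w ∣ orderOf t := by
      rw [← hi]
      exact orderOf_dvd_of_mem_zpowers ⟨i, rfl⟩
    rw [hw', hx'] at this
    have hp2 := (Nat.prime_dvd_prime_iff_eq Nat.prime_two hp).1 this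
    exact absurd hp2 hpne
  have hsneg : (s : ZMod p) = -1 := (mul_self_eq_one_iff.1 hs2).resolve_left hs1
  obtain ⟨a0, ha0⟩ : ∃ a0, w a0 = a0 := by
    have hodd : Odd (Fintype.card α) := hα ▸ hp.odd_of_ne_two hpne.symm
    by_contra hc
    push Not at hc
    obtain ⟨n, hn⟩ := Equiv.Perm.cycleType_prime_order (σ := w) (by rw [hw']; exact Nat.prime_two)
    rw [hw'] at hn
    have hc2 : w.support.card = Fintype.card α := by
      rw [Finset.eq_univ_of_forall fun y => Equiv.Perm.mem_support.2 (hc y), Finset.card_univ]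
    rw [← Equiv.Perm.sum_cycleType, hn, Multiset.sum_replicate, smul_eq_mul] at hc2
    rw [← hc2] at hodd
    exact Nat.not_even_iff_odd.2 hodd ⟨n + 1, by ring⟩
  have hta : t a0 ≠ a0 := Equiv.Perm.mem_support.1 (hsupp ▸ Finset.mem_univ a0)
  have hbij : Function.Bijective fun i : ZMod p => (t ^ i.val) a0 := by
    rw [Fintype.bijective_iff_surjective_and_card, ZMod.card, hα]
    refine ⟨fun b => ?_, rfl⟩
    obtain ⟨n, hn⟩ := hcyc.exists_pow_eq hta (Equiv.Perm.mem_support.1 (hsupp ▸ Finset.mem_univ b))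
    exact ⟨(n : ZMod p), by
      show (t ^ (n : ZMod p).val) a0 = b
      rw [ZMod.val_natCast, ← hx', pow_mod_orderOf, hn]⟩
  let e := Equiv.ofBijective _ hbij
  have he0 : ∀ n : ℕ, (t ^ n) a0 = e (n : ZMod p) := fun n => by
    show _ = (t ^ (n : ZMod p).val) a0
    rw [ZMod.val_natCast, ← hx', pow_mod_orderOf]
  refine ⟨x, e, fun i => ?_, z, fun i => ?_⟩
  · rw [← ZMod.natCast_zmod_val i, ← he0, ← Equiv.Perm.mul_apply, ← ht, ← pow_succ', he0, Nat.cast_succ]
  · rw [← ZMod.natCast_zmod_val i, ← he0]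
    have h := hpow i.val
    rw [mul_inv_eq_iff_eq_mul] at h
    rw [← hwdef, ← Equiv.Perm.mul_apply, h, Equiv.Perm.mul_apply, ha0, he0]
    rw [Nat.cast_mul, hsneg, neg_one_mul]


/-- A non-solvable transitive permutation group of prime degree `p` whose Sylow `p`-normaliser has even order is triply transitive. -/
theorem result {α : Type*} [Fintype α] [DecidableEq α] {p : ℕ} [Fact p.Prime] (hα : Fintype.card α = p) (G : Subgroup (Equiv.Perm α)) [MulAction.IsPretransitive G α] (hG : ¬ Group.IsSolvable G) (P : Sylow p G) (heven : Even (Nat.card (Subgroup.normalizer ((P : Subgroup G) : Set G)))) : MulAction.IsMultiplyPretransitive G α 3 := by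
  classical
  have hp := (Fact.out : p.Prime)
  have h2 := (Cfsg.Agent.S0675.result (hα ▸ hp) G).resolve_left hG
  have hp5 : 5 ≤ p := five_le hα G hG
  obtain ⟨x, e, he, w, hw⟩ := coordinates hα G (by omega) P heven
  refine Cfsg.Agent.S0672.result (K := ZMod p) (p := p) h2 (hα ▸ dvd_rfl) (fun a => ?_) ?_
  · have hw2 : (w : Equiv.Perm α) ≠ 1 := by
      intro h
      have h1 := hw 1
      rw [h, Equiv.Perm.one_apply] at h1
      have h2 : ((2 : ℕ) : ZMod p) = 0 := by push_cast; linear_combination e.injective h1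
      rw [ZMod.natCast_eq_zero_iff] at h2
      have := Nat.le_of_dvd (by norm_num) h2
      omega
    have hmem : w ∈ MulAction.stabilizer G (e 0) := by
      show (w : Equiv.Perm α) (e 0) = e 0
      rw [hw, neg_zero]
    have horder : orderOf (⟨w, hmem⟩ : MulAction.stabilizer G (e 0)) = 2 := by
      refine orderOf_eq_prime ?_ (fun h => hw2 (congrArg (fun z : MulAction.stabilizer G (e 0) => ((z : G) : Equiv.Perm α)) h))
      refine Subtype.ext (Subtype.ext (Equiv.ext fun a => ?_))
      rw [← e.apply_symm_apply a]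
      show ((w : Equiv.Perm α) ^ 2) _ = _
      rw [sq, Equiv.Perm.mul_apply, hw, hw, neg_neg]
      rfl
    have h2dvd : 2 ∣ Nat.card (MulAction.stabilizer G (e 0)) := horder ▸ orderOf_dvd_natCard _
    rw [even_iff_two_dvd]
    obtain ⟨g, hg⟩ := MulAction.exists_smul_eq G (e 0) a
    rwa [Nat.card_congr (MulAction.stabilizerEquivStabilizer hg.symm).toEquiv] at h2dvd
  · exact fun f hf => Cfsg.Agent.Lib.Perm.hom_pairs_eq_zero hα G hG hp5 x e he w hw f hf

end Cfsg.Agent.S0676
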