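import Cfsg.Statements.S0743
import Cfsg.Agent.Lib.Perm.StepTransitive
import Mathlib.GroupTheory.PGroup

set_option autoImplicit false
open Cfsg

namespace Cfsg.Agent.S0743

/-- Gleason's Lemma: let `p` be a prime and `1 ≤ k < n`; if every `k`-subset of the `n` points is exactly the fixed-point set of some `p`-subgroup of `G`, then `G` is `k`-transitive. -/
theorem result {α : Type*} [Fintype α] [DecidableEq α] (G : Subgroup (Equiv.Perm α)) {p k : ℕ} (hp : p.Prime) (hk : 1 ≤ k) (hkn : k < Fintype.card α) (h : ∀ s : Finset α, s.card = k → ∃ P : Subgroup G, IsPGroup p P ∧ MulAction.fixedPoints P α = (s : Set α)) : MulAction.IsMultiplyPretransitive G α k := by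
  haveI : Fact p.Prime := ⟨hp⟩
  apply Cfsg.Agent.Lib.Perm.multiplyPretransitive_of_step
  intro t _ ht a b ha hb
  by_cases hab : a = b
  · exact ⟨1, fun x _ => one_smul _ x, by simp [hab]⟩
  classical
  obtain ⟨T, htT, hTsub, hT⟩ := Finset.exists_subsuperset_card_eq
    (s := t.toFinset) (t := (Finset.univ.erase a).erase b) (n := k - 1)
    (fun x hx => by
      simp only [Set.mem_toFinset] at hx
      simp only [Finset.mem_erase, Finset.mem_univ, and_true]
      exact ⟨fun h => hb (h ▸ hx), fun h => ha (h ▸ hx)⟩)
    (by rw [← Set.ncard_eq_toFinset_card']; omega)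
    (by rw [Finset.card_erase_of_mem (by simp [Ne.symm hab]), Finset.card_erase_of_mem (Finset.mem_univ a),
      Finset.card_univ]; omega)
  have haT : a ∉ T := fun h => by simpa using hTsub h
  have hbT : b ∉ T := fun h => by simpa using hTsub h
  suffices hb' : b ∈ MulAction.orbit (fixingSubgroup G (T : Set α)) a by
    obtain ⟨g, hg⟩ := hb'
    exact ⟨g, fun x hx => (mem_fixingSubgroup_iff G).1 g.2 x (by simpa using htT (by simpa using hx)), hg⟩
  set H := fixingSubgroup G (T : Set α)
  apply Classical.byContradiction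
  intro hcon
  have key : ∀ c, c ∉ T → ∀ d, d ∉ T →
      (c ∈ MulAction.orbit H d → (MulAction.orbit H d).ncard ≡ 1 [MOD p]) ∧
      (c ∉ MulAction.orbit H d → p ∣ (MulAction.orbit H d).ncard) := by
    intro c hc d hd
    obtain ⟨P, hP, hfix⟩ := h (insert c T) (by rw [Finset.card_insert_of_notMem hc, hT]; omega)
    have hPfix : ∀ g : P, ∀ x ∈ (T : Set α), (g : G) • x = x := fun g x hx => by
      have : x ∈ MulAction.fixedPoints P α := by rw [hfix]; simp [Finset.mem_coe.1 hx]
      exact this g
    let S : SubMulAction P α :=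
      { carrier := MulAction.orbit H d
        smul_mem' := fun g x hx => by
          obtain ⟨h0, rfl⟩ := hx
          exact ⟨⟨(g : G), (mem_fixingSubgroup_iff G).2 (hPfix g)⟩ * h0, mul_smul _ _ _⟩ }
    have hmod := hP.card_modEq_card_fixedPoints S
    have himg : Subtype.val '' (MulAction.fixedPoints P S) = MulAction.orbit H d ∩ {c} := by
      ext x
      constructor
      · rintro ⟨⟨y, hy⟩, hfy, rfl⟩
        refine ⟨hy, ?_⟩
        have : y ∈ MulAction.fixedPoints P α := fun g => congrArg Subtype.val (hfy g)
        rw [hfix] at this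
        simp only [Finset.coe_insert, Set.mem_insert_iff, Finset.mem_coe] at this
        rcases this with rfl | hyT
        · rfl
        · exfalso
          obtain ⟨h0, hh0⟩ := hy
          have he : h0 • d = h0 • y := hh0.trans ((mem_fixingSubgroup_iff G).1 h0.2 y hyT).symm
          exact hd (smul_left_cancel h0 he ▸ hyT)
      · rintro ⟨hx, rfl⟩
        refine ⟨⟨x, hx⟩, fun g => Subtype.ext ?_, rfl⟩
        have : x ∈ MulAction.fixedPoints P α := by rw [hfix]; simp
        exact this g
    rw [show Nat.card S = (MulAction.orbit H d).ncard from Nat.card_coe_set_eq _,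
      Nat.card_coe_set_eq, ← Set.ncard_image_of_injective _ Subtype.val_injective, himg] at hmod
    constructor
    · intro hcd
      rwa [Set.inter_eq_right.2 (by simpa using hcd), Set.ncard_singleton] at hmod
    · intro hcd
      rw [Set.inter_singleton_eq_empty.2 hcd, Set.ncard_empty] at hmod
      exact Nat.modEq_zero_iff_dvd.1 hmod
  have h1 := (key a haT a haT).1 (MulAction.mem_orbit_self a)
  have h0 := (key b hbT a haT).2 hcon
  exact hp.one_lt.ne' (Nat.dvd_one.1 ((Nat.ModEq.dvd_iff h1 dvd_rfl).1 h0))

end Cfsg.Agent.S0743
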