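import Cfsg.Statements.S0736
import Mathlib

set_option autoImplicit false
open Cfsg
open scoped Pointwise

namespace Cfsg.Agent.S0736

/-- A `k`-homogeneous permutation group of degree `n`, `k ≥ 2`, with `k + q - 1 ≤ n` for every prime power `q` dividing `k`, is `(k-1)`-homogeneous. -/
theorem result {α : Type*} [Fintype α] [DecidableEq α] (G : Subgroup (Equiv.Perm α)) {k : ℕ} (hk : 2 ≤ k) (hG : MulAction.IsPretransitive G (Set.powersetCard α k)) (hq : ∀ q : ℕ, IsPrimePow q → q ∣ k → k + q - 1 ≤ Fintype.card α) : MulAction.IsPretransitive G (Set.powersetCard α (k - 1)) := by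
  classical
  have hk0 : k ≠ 1 := by omega
  obtain ⟨q₀, hq₀, hq₀k⟩ := Nat.exists_prime_and_dvd hk0
  have hkn : k ≤ Fintype.card α := by
    have := hq q₀ hq₀.isPrimePow hq₀k
    have := hq₀.two_le
    omega
  refine ⟨fun A₀ A₁ => ?_⟩
  -- the orbit of `A₀`
  let inO : Finset α → Prop := fun A => ∃ g : G, g • (A₀ : Finset α) = A
  have hinv : ∀ (g : G) A, inO (g • A) ↔ inO A := fun g A =>
    ⟨fun ⟨h, hh⟩ => ⟨g⁻¹ * h, by rw [mul_smul, hh, inv_smul_smul]⟩,
      fun ⟨h, hh⟩ => ⟨g * h, by rw [mul_smul, hh]⟩⟩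
  let cnt : Finset α → ℕ := fun B => ((B.powersetCard (k - 1)).filter inO).card
  have hcnt : ∀ B B' : Finset α, B.card = k → B'.card = k → cnt B = cnt B' := by
    intro B B' hB hB'
    obtain ⟨g, hg⟩ := hG.exists_smul_eq (⟨B, hB⟩ : Set.powersetCard α k) ⟨B', hB'⟩
    have hg' : g • B = B' := (Set.powersetCard.coe_smul (g := g) (s := ⟨B, hB⟩)).symm.trans
      (congrArg Subtype.val hg)
    refine Finset.card_bij (fun A _ => g • A) ?_ (fun A _ A' _ h => MulAction.injective g h) ?_
    · intro A hA
      simp only [Finset.mem_filter, Finset.mem_powersetCard] at hA ⊢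
      exact ⟨⟨hg' ▸ Finset.smul_finset_subset_smul_finset hA.1.1, by rw [Finset.card_smul_finset]; exact hA.1.2⟩,
        (hinv g A).mpr hA.2⟩
    · intro A hA
      simp only [Finset.mem_filter, Finset.mem_powersetCard] at hA
      refine ⟨g⁻¹ • A, ?_, smul_inv_smul g A⟩
      simp only [Finset.mem_filter, Finset.mem_powersetCard]
      refine ⟨⟨?_, by rw [Finset.card_smul_finset]; exact hA.1.2⟩, (hinv g⁻¹ A).mpr hA.2⟩
      have := Finset.smul_finset_subset_smul_finset (a := g⁻¹) hA.1.1
      rwa [← hg', inv_smul_smul] at this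
  have hA0 : (A₀ : Finset α).card = k - 1 := A₀.2
  obtain ⟨x, hx⟩ : ∃ x, x ∉ (A₀ : Finset α) := by
    by_contra h
    push Not at h
    have h' : (Finset.univ : Finset α) ⊆ (A₀ : Finset α) := fun y _ => h y
    have := Finset.card_le_card h'
    rw [Finset.card_univ, hA0] at this
    omega
  set B₀ : Finset α := insert x (A₀ : Finset α) with hB₀
  have hB₀c : B₀.card = k := by rw [hB₀, Finset.card_insert_of_notMem hx, hA0]; omega
  have hch : k.choose (k - 1) = k := by rw [Nat.choose_symm (show 1 ≤ k by omega), Nat.choose_one_right]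
  set l := cnt B₀ with hl
  have hl0 : 0 < l := Finset.card_pos.mpr ⟨(A₀ : Finset α), by
    simp only [Finset.mem_filter, Finset.mem_powersetCard]
    exact ⟨⟨Finset.subset_insert _ _, hA0⟩, 1, one_smul _ _⟩⟩
  have hlk : l ≤ k := by
    refine (Finset.card_filter_le _ _).trans ?_
    rw [Finset.card_powersetCard, hB₀c, hch]
  -- double counting inside `N`
  have hdc : ∀ N : Finset α, k ≤ N.card →
      ((N.powersetCard (k - 1)).filter inO).card * (N.card - (k - 1)) = N.card.choose k * l := by
    intro N hN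
    have h1 : ∀ A ∈ (N.powersetCard (k - 1)).filter inO,
        ((N.powersetCard k).filter fun B => A ⊆ B).card = N.card - (k - 1) := by
      intro A hA
      simp only [Finset.mem_filter, Finset.mem_powersetCard] at hA
      rw [← hA.1.2, ← Finset.card_sdiff_of_subset hA.1.1]
      symm
      refine Finset.card_bij (fun y _ => insert y A) ?_ ?_ ?_
      · intro y hy
        simp only [Finset.mem_sdiff] at hy
        simp only [Finset.mem_filter, Finset.mem_powersetCard]
        exact ⟨⟨Finset.insert_subset hy.1 hA.1.1, by rw [Finset.card_insert_of_notMem hy.2, hA.1.2]; omega⟩,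
          Finset.subset_insert _ _⟩
      · intro y hy z hz h
        simp only [Finset.mem_sdiff] at hy hz
        exact (Finset.insert_inj hy.2).mp h
      · intro B hB
        simp only [Finset.mem_filter, Finset.mem_powersetCard] at hB
        have hc : (B \ A).card = 1 := by
          rw [Finset.card_sdiff_of_subset hB.2, hB.1.2, hA.1.2]; omega
        obtain ⟨y, hy⟩ := Finset.card_eq_one.mp hc
        have hyB : y ∈ B \ A := hy ▸ Finset.mem_singleton_self y
        rw [Finset.mem_sdiff] at hyB
        refine ⟨y, Finset.mem_sdiff.mpr ⟨hB.1.1 hyB.1, hyB.2⟩, ?_⟩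
        rw [Finset.insert_eq, ← hy, Finset.sdiff_union_of_subset hB.2]
    have h2 : ∀ B ∈ N.powersetCard k,
        (((N.powersetCard (k - 1)).filter inO).filter fun A => A ⊆ B).card = l := by
      intro B hB
      rw [Finset.mem_powersetCard] at hB
      rw [hl, ← hcnt B B₀ hB.2 hB₀c]
      congr 1
      ext A
      simp only [Finset.mem_filter, Finset.mem_powersetCard]
      exact ⟨fun h => ⟨⟨h.2, h.1.1.2⟩, h.1.2⟩, fun h => ⟨⟨⟨h.1.1.trans hB.1, h.1.2⟩, h.2⟩, h.1.1⟩⟩
    have := Finset.sum_card_bipartiteAbove_eq_sum_card_bipartiteBelow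
      (s := (N.powersetCard (k - 1)).filter inO) (t := N.powersetCard k) (fun A B => A ⊆ B)
    simp only [Finset.bipartiteAbove, Finset.bipartiteBelow] at this
    rw [Finset.sum_congr rfl h1, Finset.sum_congr rfl h2, Finset.sum_const, Finset.sum_const,
      Finset.card_powersetCard, smul_eq_mul, smul_eq_mul] at this
    exact this
  -- binomial coefficient
  have hbin : ∀ (p : ℕ), p.Prime → ∀ e t : ℕ, (p ^ e * t + (p ^ e - 1)).choose (p ^ e * t) ≡ 1 [MOD p] := by
    intro p hp e
    haveI := Fact.mk hp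
    induction e with
    | zero => intro t; simp [Nat.ModEq.refl]
    | succ e ih =>
      intro t
      refine Choose.choose_modEq_choose_mod_mul_choose_div_nat.trans ?_
      have hpe : 0 < p ^ e := pow_pos hp.pos e
      obtain ⟨s, hs⟩ : ∃ s, p ^ e = s + 1 := ⟨p ^ e - 1, by omega⟩
      obtain ⟨r, hr⟩ : ∃ r, p = r + 1 := ⟨p - 1, by have := hp.pos; omega⟩
      have hN : p ^ (e + 1) * t + (p ^ (e + 1) - 1) = p * (p ^ e * t + (p ^ e - 1)) + (p - 1) := by
        have h1 : p ^ (e + 1) = p * p ^ e := pow_succ' p e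
        have h2 : p * p ^ e - 1 = p * (p ^ e - 1) + (p - 1) := by
          rw [hs, Nat.add_sub_cancel, Nat.mul_add, mul_one]
          have := hp.pos
          omega
        rw [h1, h2]; ring
      have hK : p ^ (e + 1) * t = p * (p ^ e * t) := by rw [pow_succ', mul_assoc]
      have hlt : p - 1 < p := Nat.sub_lt hp.pos one_pos
      rw [hN, hK, Nat.mul_add_mod, Nat.mod_eq_of_lt hlt, Nat.mul_mod_right, Nat.choose_zero_right,
        one_mul, Nat.mul_add_div hp.pos, Nat.div_eq_of_lt hlt, add_zero, Nat.mul_div_cancel_left _ hp.pos]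
      exact ih t
  have hkl : k ∣ l := by
    rw [Nat.dvd_iff_prime_pow_dvd_dvd]
    intro p e hp hpe
    rcases Nat.eq_zero_or_pos e with rfl | he
    · simp
    obtain ⟨t, ht⟩ := hpe
    set q := p ^ e with hqdef
    have hn' := hq q (hp.isPrimePow.pow he.ne') ⟨t, ht⟩
    have hqpos : 0 < q := pow_pos hp.pos e
    obtain ⟨N, -, hN⟩ := Finset.exists_subset_card_eq (s := (Finset.univ : Finset α))
      (show k + q - 1 ≤ _ by rw [Finset.card_univ]; exact hn')
    have h := hdc N (by omega)
    rw [hN, show k + q - 1 - (k - 1) = q by omega] at h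
    have hd : q ∣ (k + q - 1).choose k * l := h ▸ dvd_mul_left q _
    refine (Nat.Coprime.pow_left e ?_).dvd_of_dvd_mul_left hd
    rw [hp.coprime_iff_not_dvd, ← Nat.modEq_zero_iff_dvd]
    intro h0
    have h1 := hbin p hp e t
    rw [show p ^ e * t + (p ^ e - 1) = k + q - 1 by rw [← hqdef]; omega,
      show p ^ e * t = k by rw [← hqdef]; exact ht.symm] at h1
    have h01 := h0.symm.trans h1
    rw [Nat.ModEq, Nat.zero_mod, Nat.mod_eq_of_lt hp.one_lt] at h01
    exact zero_ne_one h01
  have hle : k ≤ l := Nat.le_of_dvd hl0 hkl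
  have hall : ∀ A : Finset α, A.card = k - 1 → inO A := by
    intro A hA
    obtain ⟨y, hy⟩ : ∃ y, y ∉ A := by
      by_contra h
      push Not at h
      have h' : (Finset.univ : Finset α) ⊆ A := fun y _ => h y
      have := Finset.card_le_card h'
      rw [Finset.card_univ, hA] at this
      omega
    set B := insert y A
    have hBc : B.card = k := by rw [Finset.card_insert_of_notMem hy, hA]; omega
    have heq : (B.powersetCard (k - 1)).filter inO = B.powersetCard (k - 1) := by
      refine Finset.eq_of_subset_of_card_le (Finset.filter_subset _ _) ?_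
      rw [Finset.card_powersetCard, hBc, hch]
      exact hle.trans (le_of_eq (hcnt B₀ B hB₀c hBc))
    have : A ∈ (B.powersetCard (k - 1)).filter inO := by
      rw [heq, Finset.mem_powersetCard]
      exact ⟨Finset.subset_insert _ _, hA⟩
    exact (Finset.mem_filter.mp this).2
  obtain ⟨g, hg⟩ := hall (A₁ : Finset α) A₁.2
  exact ⟨g, Subtype.ext (Set.powersetCard.coe_smul.trans hg)⟩

end Cfsg.Agent.S0736
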