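import Cfsg.Statements.S1497
import Cfsg.Agent.Lib.Char.FrobeniusGroup
import Cfsg.Agent.Lib.Char.Virtual
import Cfsg.Agent.Lib.Char.Central
import Cfsg.Agent.Lib.Char.Eigen
import Cfsg.Agent.Lib.Coprime.SchurZassenhaus

set_option autoImplicit false
open Cfsg

namespace Cfsg.Agent.S1497

open CfsgLib.Char
open scoped CfsgLib.Char

/-- Let A be a nonempty subset of the finite group G not containing 1 and L a subgroup. Then A is a TI-subset whose normaliser is L if and only if the Dade hypothesis holds for A, L and the constant choice H(a) = ⊥. -/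
theorem result {G : Type*} [Group G] [Finite G] (A : Set G) (hA : A.Nonempty) (h1 : (1 : G) ∉ A) (L : Subgroup G) : (Cfsg.IsTISubset A ∧ Subgroup.normalizer A = L) ↔ Cfsg.DadeHypothesis A L (fun _ => ⊥) := by
  classical
  have hmem : ∀ g : G, g ∈ Subgroup.normalizer A → ∀ a ∈ A, g * a * g⁻¹ ∈ A := fun g hg a ha =>
    (Subgroup.mem_set_normalizer_iff.mp hg a).mp ha
  constructor
  · rintro ⟨hTI, rfl⟩
    have hin : ∀ g : G, ∀ a ∈ A, g * a * g⁻¹ ∈ A → g ∈ Subgroup.normalizer A := fun g a ha hga => by
      by_contra hg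
      exact h1 (hTI g hg a ha hga ▸ ha)
    have hCle : ∀ a ∈ A, Subgroup.centralizer ({a} : Set G) ≤ Subgroup.normalizer A := fun a ha c hc =>
      hin c a ha (by rw [Subgroup.mem_centralizer_singleton_iff.mp hc, mul_inv_cancel_right]; exact ha)
    exact
      { one_not_mem := h1
        subset := fun a ha => hCle a ha (Subgroup.mem_centralizer_singleton_iff.mpr rfl)
        conj_mem := hmem
        fusion := fun a ha g hg => ⟨g, hin g a ha hg, rfl⟩
        le_centralizer := fun a _ => bot_le
        conj_mem_H := fun a _ c _ u hu => by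
          rw [Subgroup.mem_bot] at hu ⊢; rw [hu, mul_one, mul_inv_cancel]
        inf_eq_bot := fun a _ => bot_inf_eq _
        sup_eq := fun a ha => by rw [bot_sup_eq, inf_eq_right.mpr (hCle a ha)]
        coprime := fun a _ b _ => by rw [Subgroup.card_bot]; exact Nat.coprime_one_left _ }
  · intro hD
    have hC : ∀ a ∈ A, Subgroup.centralizer ({a} : Set G) ≤ L := fun a ha => by
      have := hD.sup_eq a ha
      rw [bot_sup_eq] at this
      rw [← this]; exact inf_le_left
    have hin : ∀ g : G, ∀ a ∈ A, g * a * g⁻¹ ∈ A → g ∈ L := fun g a ha hg => by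
      obtain ⟨x, hx, hxe⟩ := hD.fusion a ha g hg
      have : x⁻¹ * g ∈ Subgroup.centralizer ({a} : Set G) := by
        rw [Subgroup.mem_centralizer_singleton_iff]
        calc x⁻¹ * g * a = x⁻¹ * (g * a * g⁻¹) * g := by group
          _ = x⁻¹ * (x * a * x⁻¹) * g := by rw [hxe]
          _ = _ := by group
      have h2 := L.mul_mem hx (hC a ha this)
      rwa [mul_inv_cancel_left] at h2
    have hN : Subgroup.normalizer A = L := by
      refine le_antisymm (fun g hg => ?_) fun x hx => Subgroup.mem_set_normalizer_iff.mpr fun a =>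
        ⟨hD.conj_mem x hx a, fun h => ?_⟩
      · obtain ⟨a, ha⟩ := hA
        exact hin g a ha (hmem g hg a ha)
      · have := hD.conj_mem x⁻¹ (L.inv_mem hx) _ h
        simpa [mul_assoc] using this
    exact ⟨fun g hg a ha hga => absurd (hN ▸ hin g a ha hga) hg, hN⟩

end Cfsg.Agent.S1497
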