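import Cfsg.Statements.S1518
import Cfsg.Agent.Lib.Char.DadeVirtual

set_option autoImplicit false
open Cfsg

namespace Cfsg.Agent.S1518

open CfsgLib.Char
open scoped CfsgLib.Char

/-- Under the Dade hypothesis for (A, L, H): if χ is an irreducible character of L vanishing at every non-identity element of L outside A, then the Dade image of χ − conj χ equals μ − conj μ for some irreducible character μ of G. -/
theorem result {G : Type*} [Group G] [Fintype G] (A : Set G) (L : Subgroup G) [Fintype L] (H : G → Subgroup G) (hD : Cfsg.DadeHypothesis A L H) (χ : L → ℂ) (hχ : Cfsg.IsIrrCharacter L χ) (hsupp : ∀ x : L, x ≠ 1 → (x : G) ∉ A → χ x = 0) : ∃ μ : G → ℂ, Cfsg.IsIrrCharacter G μ ∧ Cfsg.dadeIsometry A L H (χ - Cfsg.conjFun χ) = μ - Cfsg.conjFun μ := by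
  classical
  have hA1 : ∀ x : L, (x : G) ∉ A → (χ - Cfsg.conjFun χ) x = 0 := by
    intro x hx
    by_cases h1 : x = 1
    · obtain ⟨d, -, hd⟩ := exists_nat_degree_irr hχ
      rw [h1]; simp [Cfsg.conjFun, hd]
    · simp [Cfsg.conjFun, hsupp x h1 hx]
  have hχbar : Cfsg.IsIrrCharacter L (Cfsg.conjFun χ) := isIrrCharacter_conj hχ
  set β := χ - Cfsg.conjFun χ with hβ
  have hgenβ : Cfsg.IsGeneralizedCharacter L β :=
    isGeneralized_sub (isGeneralized_of_isIrr hχ) (isGeneralized_of_isIrr hχbar)
  have hclβ := isClassFunction_of_isGeneralized hgenβ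
  set θ := Cfsg.dadeIsometry A L H β with hθ
  have hgen : Cfsg.IsGeneralizedCharacter G θ := isGeneralized_dade hD hgenβ hA1
  have h1 : θ 1 = 0 := dade_apply_one hD β
  have hconjθ : Cfsg.conjFun θ = -θ := by
    funext g
    by_cases h : ∃ a : L, (a : G) ∈ A ∧ ∃ x : G, ∃ u ∈ H (a : G), x * g * x⁻¹ = (a : G) * u
    · obtain ⟨a, ha, x, u, hu, hx⟩ := h
      show (starRingEnd ℂ) (θ g) = -θ g
      rw [hθ, dade_value hD hclβ ha hu hx]
      simp [hβ, Cfsg.conjFun]
    · show (starRingEnd ℂ) (θ g) = -θ g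
      rw [hθ, dade_value_zero h]
      simp
  have hn : Cfsg.classInner θ θ = Cfsg.classInner β β := dade_isometry hD hclβ hA1 hclβ
  by_cases heq : Cfsg.conjFun χ = χ
  · refine ⟨fun _ => 1, isIrrCharacter_one, ?_⟩
    have : θ = 0 := eq_zero_of_classInner_self (by
      rw [hn, hβ, heq, sub_self, classInner_zero_left])
    rw [this]; funext g; simp [Cfsg.conjFun]
  · have h2 : Cfsg.classInner θ θ = 2 := by
      rw [hn, hβ, classInner_sub_left, classInner_sub_right, classInner_sub_right,
        classInner_irr_self hχ, classInner_irr_self hχbar, classInner_irr_ne hχ hχbar (Ne.symm heq),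
        classInner_irr_ne hχbar hχ heq]
      norm_num
    obtain ⟨μ, ν, hμ, hν, hne, hθe⟩ := exists_of_norm_two hgen h2 h1
    refine ⟨μ, hμ, ?_⟩
    have hμb : Cfsg.IsIrrCharacter G (Cfsg.conjFun μ) := isIrrCharacter_conj hμ
    have hνb : Cfsg.IsIrrCharacter G (Cfsg.conjFun ν) := isIrrCharacter_conj hν
    have e : μ + Cfsg.conjFun μ = ν + Cfsg.conjFun ν := by
      funext g
      have h3 := congrFun hconjθ g
      rw [hθe] at h3
      simp [Cfsg.conjFun] at h3 ⊢
      linear_combination h3
    have h4 := congrArg (fun f => Cfsg.classInner f μ) e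
    simp only [classInner_add_left, classInner_irr_self hμ, classInner_irr hμb hμ,
      classInner_irr_ne hν hμ (Ne.symm hne), classInner_irr hνb hμ, zero_add] at h4
    by_cases hb : Cfsg.conjFun ν = μ
    · have : ν = Cfsg.conjFun μ := by
        rw [← hb]; funext g; simp [Cfsg.conjFun]
      rw [hθe, this]
    · rw [if_neg hb] at h4
      split_ifs at h4 <;> norm_num at h4

end Cfsg.Agent.S1518
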