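import Cfsg.Statements.S1536
import Cfsg.Agent.Lib.Char.AutClasses
import Cfsg.Agent.Lib.Char.AbelianQuotient
import Cfsg.Agent.Lib.Char.CyclicW
import Cfsg.Agent.Lib.Char.Twist

set_option autoImplicit false
open Cfsg

namespace Cfsg.Agent.S1536

open CfsgLib.Char
open scoped CfsgLib.Char

/-- Let H be a normal subgroup of the finite group M whose order is coprime to its index. For x ∈ M: some non-principal irreducible character of H is unchanged under h ↦ θ(x h x⁻¹) if and only if some non-identity element of H commutes with x. -/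
theorem result {M : Type*} [Group M] [Finite M] (H : Subgroup M) [hN : H.Normal] (hHall : Nat.Coprime (Nat.card H) H.index) (x : M) : (∃ θ : H → ℂ, Cfsg.IsIrrCharacter H θ ∧ θ ≠ (fun _ => 1) ∧ (fun h : H => θ ⟨x * h * x⁻¹, hN.conj_mem h h.2 x⟩) = θ) ↔ ∃ h ∈ H, h ≠ 1 ∧ x * h = h * x := by
  classical
  haveI := Fintype.ofFinite M
  set e : H ≃* H := (MulAut.conjNormal x : MulAut H) with he
  have hfix : ∀ θ : H → ℂ, ((fun h : H => θ ⟨x * h * x⁻¹, hN.conj_mem h h.2 x⟩) = θ) ↔
      (fun h => θ (e h)) = θ := fun θ => Iff.rfl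
  have hcount := card_fixed_irr_eq_classes e
  constructor
  · rintro ⟨θ, hθ, hθ1, hθx⟩
    by_cases hcop : (orderOf x).Coprime (Nat.card H)
    · have h1 : 1 < Nat.card {χ : IrrCharacter H // (fun h => (χ : H → ℂ) (e h)) = (χ : H → ℂ)} :=
        Finite.one_lt_card_iff_nontrivial.mpr ⟨⟨⟨θ, hθ⟩, (hfix θ).mp hθx⟩, ⟨⟨_, isIrrCharacter_one⟩, rfl⟩,
          fun h => hθ1 (congrArg Subtype.val (congrArg Subtype.val h))⟩
      rw [hcount] at h1
      obtain ⟨a, b, hab⟩ := (Finite.one_lt_card_iff_nontrivial.mp h1).exists_pair_ne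
      obtain ⟨C, hC1⟩ : ∃ C : {C : ConjClasses H // ConjClasses.map e.toMonoidHom C = C}, C.1 ≠ ConjClasses.mk 1 := by
        by_contra h
        push Not at h
        exact hab (Subtype.ext ((h a).trans (h b).symm))
      obtain ⟨c, hc⟩ := ConjClasses.exists_rep C.1
      obtain ⟨d, hd1, hd2⟩ := exists_centralized_in_class H hcop c (by rw [hc]; exact C.2)
      refine ⟨d, d.2, fun h => hC1 ?_, hd2⟩
      rw [← hc, ← hd1, show d = 1 from Subtype.ext h]
    · have hm : x ^ H.index ∈ H := H.pow_index_mem x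
      refine ⟨x ^ H.index, hm, fun h => hcop ?_, ((Commute.refl x).pow_right _).eq⟩
      exact hHall.symm.coprime_dvd_left (orderOf_dvd_of_pow_eq_one h)
  · rintro ⟨h, hh, h1, hc⟩
    have hC : ConjClasses.map e.toMonoidHom (ConjClasses.mk (⟨h, hh⟩ : H)) = ConjClasses.mk ⟨h, hh⟩ :=
      congrArg ConjClasses.mk (Subtype.ext (show x * h * x⁻¹ = h by rw [hc, mul_inv_cancel_right]))
    have h2 : 1 < Nat.card {C : ConjClasses H // ConjClasses.map e.toMonoidHom C = C} :=
      Finite.one_lt_card_iff_nontrivial.mpr ⟨⟨_, hC⟩, ⟨ConjClasses.mk 1, congrArg ConjClasses.mk (map_one e)⟩,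
        fun h' => h1 (by
          have := ConjClasses.mk_eq_mk_iff_isConj.mp (congrArg Subtype.val h')
          simpa using this)⟩
    rw [← hcount] at h2
    obtain ⟨a, b, hab⟩ := (Finite.one_lt_card_iff_nontrivial.mp h2).exists_pair_ne
    by_cases ha : (a.1 : H → ℂ) = fun _ => 1
    · refine ⟨b.1, b.1.2, fun hb => hab (Subtype.ext (Subtype.ext (ha.trans hb.symm))), (hfix _).mpr b.2⟩
    · exact ⟨a.1, a.1.2, ha, (hfix _).mpr a.2⟩

end Cfsg.Agent.S1536
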