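import Cfsg.Statements.S1525
import Cfsg.Agent.Lib.Char.Artin
import Cfsg.Agent.Lib.Char.Counting

set_option autoImplicit false
open Cfsg

namespace Cfsg.Agent.S1525

open CfsgLib.Char
open scoped Pointwise
open scoped CfsgLib.Char

/-- Under the Dade hypothesis for (A, L, H), let χ be a class function of G and let ψ be a function on L whose value at each a ∈ A is the average of χ over the coset a·H(a). Then (1/|G|) Σ |χ g|² over the elements g of G conjugate into some coset a·H(a) with a ∈ A is at least (1/|L|) Σ_{a ∈ A ∩ L} |ψ a|². -/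
theorem result {G : Type*} [Group G] [Fintype G] (A : Set G) (L : Subgroup G) [Fintype L] (H : G → Subgroup G) (hD : Cfsg.DadeHypothesis A L H) (χ : G → ℂ) (hχ : Cfsg.IsClassFunction G χ) (ψ : L → ℂ) (hψ : ∀ a : L, (a : G) ∈ A → ψ a = (Nat.card (H a) : ℂ)⁻¹ * ∑ᶠ u ∈ (H a : Set G), χ (a * u)) : (Nat.card L : ℝ)⁻¹ * ∑ᶠ a ∈ {a : L | (a : G) ∈ A}, ‖ψ a‖ ^ 2 ≤ (Nat.card G : ℝ)⁻¹ * ∑ᶠ g ∈ {g : G | ∃ a ∈ A, ∃ u ∈ H a, ∃ x : G, x * g * x⁻¹ = a * u}, ‖χ g‖ ^ 2 := by
  classical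
  let M1 := ∏ b ∈ A.toFinset, Nat.card (H b)
  let M2 := ∏ b ∈ A.toFinset, Nat.card ↥(L ⊓ Subgroup.centralizer ({b} : Set G))
  have hcopM : Nat.Coprime M1 M2 := Nat.Coprime.prod_left fun a ha => Nat.Coprime.prod_right fun b hb =>
    hD.coprime a (Set.mem_toFinset.mp ha) b (Set.mem_toFinset.mp hb)
  obtain ⟨e, he0, he1⟩ := Nat.chineseRemainder hcopM 0 1
  have hext : ∀ a ∈ A, ∀ u ∈ H a, (a * u) ^ e = a := by
    intro a ha u hu
    have hcomm : Commute a u :=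
      (Subgroup.mem_centralizer_singleton_iff.mp (hD.le_centralizer a ha hu)).symm
    have hu1 : orderOf u ∣ M1 := ((H a).orderOf_dvd_natCard hu).trans
      (Finset.dvd_prod_of_mem (fun b => Nat.card (H b)) (Set.mem_toFinset.mpr ha))
    have ha1 : orderOf a ∣ M2 := ((L ⊓ Subgroup.centralizer ({a} : Set G)).orderOf_dvd_natCard
      ⟨hD.subset ha, Subgroup.mem_centralizer_singleton_iff.mpr rfl⟩).trans
      (Finset.dvd_prod_of_mem (fun b => Nat.card ↥(L ⊓ Subgroup.centralizer ({b} : Set G))) (Set.mem_toFinset.mpr ha))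
    rw [hcomm.mul_pow, orderOf_dvd_iff_pow_eq_one.mp (hu1.trans (Nat.modEq_zero_iff_dvd.mp he0)), mul_one,
      pow_eq_pow_iff_modEq.mpr (he1.of_dvd ha1), pow_one]
  let T : Finset (G × G × G) := Finset.univ.filter fun t => t.1 ∈ A ∧ t.2.1 ∈ H t.1
  let Φ : G × G × G → G := fun t => t.2.2⁻¹ * (t.1 * t.2.1) * t.2.2
  have hfib : ∀ g : G, ∑ t ∈ T.filter (fun t => Φ t = g), ((Nat.card (H t.1) : ℝ))⁻¹ ≤ Nat.card L := by
    intro g
    rcases (T.filter fun t => Φ t = g).eq_empty_or_nonempty with h0 | hne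
    · rw [h0]; simp
    obtain ⟨t₀, ht₀, hmin⟩ := Finset.exists_min_image _ (fun t : G × G × G => Nat.card (H t.1)) hne
    obtain ⟨a₀, u₀, x₀⟩ := t₀
    simp only [T, Φ, Finset.mem_filter, Finset.mem_univ, true_and] at ht₀
    obtain ⟨⟨ha₀, hu₀⟩, hg₀⟩ := ht₀
    have hinj : ∀ t ∈ T.filter (fun t => Φ t = g), ∀ t' ∈ T.filter (fun t => Φ t = g),
        t.2.2 = t'.2.2 → t = t' := by
      rintro ⟨a, u, x⟩ ht ⟨a', u', x'⟩ ht' hx
      simp only [T, Φ, Finset.mem_filter, Finset.mem_univ, true_and] at ht ht' hx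
      subst hx
      have h1 : a * u = a' * u' := mul_left_cancel (mul_right_cancel (ht.2.trans ht'.2.symm))
      have h2 : a = a' := by rw [← hext a ht.1.1 u ht.1.2, h1, hext a' ht'.1.1 u' ht'.1.2]
      subst h2
      rw [mul_left_cancel h1]
    have hsub : (T.filter fun t => Φ t = g).image (fun t => t.2.2) ⊆
        (Finset.univ : Finset (L × H a₀)).image (fun p => (p.1 : G) * (p.2 : G) * x₀) := by
      intro x hx
      obtain ⟨⟨a, u, x'⟩, ht, rfl⟩ := Finset.mem_image.mp hx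
      simp only [T, Φ, Finset.mem_filter, Finset.mem_univ, true_and] at ht
      obtain ⟨⟨ha, hu⟩, hg⟩ := ht
      set y := x' * x₀⁻¹ with hy
      have h1 : y * (a₀ * u₀) * y⁻¹ = a * u := by
        calc y * (a₀ * u₀) * y⁻¹ = x' * (x₀⁻¹ * (a₀ * u₀) * x₀) * x'⁻¹ := by rw [hy]; group
          _ = x' * (x'⁻¹ * (a * u) * x') * x'⁻¹ := by rw [hg₀, hg]
          _ = a * u := by group
      have h2 : y * a₀ * y⁻¹ = a := by
        rw [← hext a ha u hu, ← h1, conj_pow, hext a₀ ha₀ u₀ hu₀]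
      obtain ⟨l, hl, hl'⟩ := hD.fusion a₀ ha₀ y (by rw [h2]; exact ha)
      have hc : l⁻¹ * y ∈ Subgroup.centralizer ({a₀} : Set G) := by
        rw [Subgroup.mem_centralizer_singleton_iff]
        calc l⁻¹ * y * a₀ = l⁻¹ * (y * a₀ * y⁻¹) * y := by group
          _ = l⁻¹ * (l * a₀ * l⁻¹) * y := by rw [hl']
          _ = a₀ * (l⁻¹ * y) := by group
      rw [← hD.sup_eq a₀ ha₀, sup_comm] at hc
      have hnorm : L ⊓ Subgroup.centralizer ({a₀} : Set G) ≤ Subgroup.normalizer ((H a₀ : Subgroup G) : Set G) := by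
        intro c hc
        refine Subgroup.mem_normalizer_iff.mpr fun h => ⟨hD.conj_mem_H a₀ ha₀ c hc.2 h, fun h' => ?_⟩
        have := hD.conj_mem_H a₀ ha₀ c⁻¹ (Subgroup.inv_mem _ hc.2) _ h'
        simpa [mul_assoc] using this
      have hc' : l⁻¹ * y ∈ (↑(L ⊓ Subgroup.centralizer ({a₀} : Set G)) : Set G) * (H a₀ : Set G) := by
        rw [← Subgroup.coe_mul_of_left_le_normalizer_right _ _ hnorm]
        exact hc
      obtain ⟨c, hcL, h, hh, hch⟩ := Set.mem_mul.mp hc'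
      refine Finset.mem_image.mpr ⟨(⟨l * c, L.mul_mem hl hcL.1⟩, ⟨h, hh⟩), Finset.mem_univ _, ?_⟩
      show l * c * h * x₀ = x'
      rw [mul_assoc l c h, hch, hy]; group
    have hcard : ((T.filter fun t => Φ t = g).card : ℝ) ≤ (Nat.card L : ℝ) * Nat.card (H a₀) := by
      rw [← Nat.cast_mul, ← Nat.card_prod, Nat.card_eq_fintype_card, Nat.cast_le,
        ← Finset.card_image_of_injOn (f := fun t : G × G × G => t.2.2) (fun t ht t' ht' => hinj t ht t' ht')]
      exact (Finset.card_le_card hsub).trans (Finset.card_image_le.trans (le_of_eq Finset.card_univ))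
    have hpos : (0 : ℝ) < Nat.card (H a₀) := Nat.cast_pos.mpr Nat.card_pos
    refine (Finset.sum_le_card_nsmul _ _ ((Nat.card (H a₀) : ℝ))⁻¹ fun t ht =>
      inv_anti₀ hpos (Nat.cast_le.mpr (hmin t ht))).trans ?_
    rw [nsmul_eq_mul, ← div_eq_mul_inv, div_le_iff₀ hpos]
    exact hcard
  rw [finsum_mem_eq_toFinset_sum, finsum_mem_eq_toFinset_sum]
  set D := {g : G | ∃ a ∈ A, ∃ u ∈ H a, ∃ x : G, x * g * x⁻¹ = a * u}
  have hmain : ∑ t ∈ T, ((Nat.card (H t.1) : ℝ))⁻¹ * ‖χ (t.1 * t.2.1)‖ ^ 2 ≤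
      (Nat.card L : ℝ) * ∑ g ∈ D.toFinset, ‖χ g‖ ^ 2 := by
    rw [← Finset.sum_fiberwise_of_maps_to (g := Φ) (t := D.toFinset) fun t ht => by
      obtain ⟨a, u, x⟩ := t
      simp only [T, Finset.mem_filter, Finset.mem_univ, true_and] at ht
      exact Set.mem_toFinset.mpr ⟨a, ht.1, u, ht.2, x, by simp only [Φ]; group⟩, Finset.mul_sum]
    refine Finset.sum_le_sum fun g _ => ?_
    have e : ∀ t ∈ T.filter (fun t => Φ t = g), ((Nat.card (H t.1) : ℝ))⁻¹ * ‖χ (t.1 * t.2.1)‖ ^ 2 =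
        ((Nat.card (H t.1) : ℝ))⁻¹ * ‖χ g‖ ^ 2 := by
      intro t ht
      obtain ⟨a, u, x⟩ := t
      rw [← (Finset.mem_filter.mp ht).2]
      simp only [Φ]
      have := hχ (a * u) x⁻¹
      rw [inv_inv] at this
      rw [this]
    rw [Finset.sum_congr rfl e, ← Finset.sum_mul]
    exact mul_le_mul_of_nonneg_right (hfib g) (sq_nonneg _)
  have hlhs : (Nat.card G : ℝ) * ∑ a ∈ ({a : L | (a : G) ∈ A}).toFinset, ‖ψ a‖ ^ 2 ≤
      ∑ t ∈ T, ((Nat.card (H t.1) : ℝ))⁻¹ * ‖χ (t.1 * t.2.1)‖ ^ 2 := by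
    have hT : ∑ t ∈ T, ((Nat.card (H t.1) : ℝ))⁻¹ * ‖χ (t.1 * t.2.1)‖ ^ 2 =
        ∑ a ∈ A.toFinset, ∑ u ∈ (H a : Set G).toFinset, ∑ x : G, ((Nat.card (H a) : ℝ))⁻¹ * ‖χ (a * u)‖ ^ 2 := by
      rw [Finset.sum_filter]
      simp only [Fintype.sum_prod_type]
      rw [show A.toFinset = Finset.univ.filter (fun a => a ∈ A) by ext; simp, Finset.sum_filter]
      refine Finset.sum_congr rfl fun a _ => ?_
      split_ifs with ha
      · rw [show (H a : Set G).toFinset = Finset.univ.filter (fun u => u ∈ H a) by ext; simp, Finset.sum_filter]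
        refine Finset.sum_congr rfl fun u _ => ?_
        by_cases hu : u ∈ H a <;> simp [ha, hu]
      · simp [ha]
    rw [hT, Finset.mul_sum]
    refine le_of_le_of_eq (Finset.sum_le_sum (g := fun a : L => ∑ u ∈ (H (a : G) : Set G).toFinset,
        ∑ x : G, ((Nat.card (H (a : G)) : ℝ))⁻¹ * ‖χ ((a : G) * u)‖ ^ 2) fun a ha => ?_) ?_
    · have haA : (a : G) ∈ A := by simpa using ha
      rw [hψ a haA, finsum_mem_eq_toFinset_sum]
      simp only [Finset.sum_const, Finset.card_univ, ← Nat.card_eq_fintype_card, nsmul_eq_mul,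
        ← Finset.mul_sum]
      refine mul_le_mul_of_nonneg_left ?_ (Nat.cast_nonneg _)
      rw [norm_mul, norm_inv, Complex.norm_natCast, mul_pow]
      set S := (H (a : G) : Set G).toFinset
      have hS : S.card = Nat.card (H (a : G)) := by
        rw [Set.toFinset_card, Nat.card_eq_fintype_card]; rfl
      have hn : (0 : ℝ) < Nat.card (H (a : G)) := Nat.cast_pos.mpr Nat.card_pos
      have hcs : ‖∑ u ∈ S, χ ((a : G) * u)‖ ^ 2 ≤ (Nat.card (H (a : G)) : ℝ) * ∑ u ∈ S, ‖χ ((a : G) * u)‖ ^ 2 := by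
        refine (pow_le_pow_left₀ (norm_nonneg _) (norm_sum_le _ _) 2).trans ?_
        rw [← hS]
        exact sq_sum_le_card_mul_sum_sq
      calc ((Nat.card (H (a : G)) : ℝ)⁻¹) ^ 2 * ‖∑ u ∈ S, χ ((a : G) * u)‖ ^ 2
          ≤ ((Nat.card (H (a : G)) : ℝ)⁻¹) ^ 2 * ((Nat.card (H (a : G)) : ℝ) * ∑ u ∈ S, ‖χ ((a : G) * u)‖ ^ 2) :=
            mul_le_mul_of_nonneg_left hcs (sq_nonneg _)
        _ = _ := by field_simp
    · refine Finset.sum_nbij' (fun a => (a : G)) (fun a => if h : a ∈ L then ⟨a, h⟩ else 1) ?_ ?_ ?_ ?_ ?_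
      · intro a ha; simpa using ha
      · intro a ha
        simp only [Finset.mem_coe, Set.mem_toFinset] at ha
        rw [Set.mem_toFinset]
        show ((if h : a ∈ L then (⟨a, h⟩ : L) else 1 : L) : G) ∈ A
        rw [dif_pos (show a ∈ L from hD.subset ha)]
        exact ha
      · intro a _; simp
      · intro a ha
        simp only [Finset.mem_coe, Set.mem_toFinset] at ha
        show ((if h : a ∈ L then (⟨a, h⟩ : L) else 1 : L) : G) = a
        rw [dif_pos (show a ∈ L from hD.subset ha)]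
      · intro a _; rfl
  have hLp : (0 : ℝ) < Nat.card L := Nat.cast_pos.mpr Nat.card_pos
  have hGp : (0 : ℝ) < Nat.card G := Nat.cast_pos.mpr Nat.card_pos
  rw [inv_mul_le_iff₀ hLp, ← mul_assoc, mul_comm (Nat.card L : ℝ), mul_assoc, le_inv_mul_iff₀ hGp]
  exact hlhs.trans hmain

end Cfsg.Agent.S1525
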