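import Cfsg.Statements.S1546
import Cfsg.Agent.Lib.Char.Counting
import Mathlib.Algebra.Order.Ring.GeomSum
import Mathlib.Data.Nat.Factorization.Induction
import Mathlib.FieldTheory.Finite.Basic
import Mathlib.RingTheory.ZMod
import Mathlib.Data.ZMod.Basic

set_option autoImplicit false
open Cfsg

namespace Cfsg.Agent.S1546

open CfsgLib.Char
open scoped CfsgLib.Char

/-- Let p and q be odd primes and N = (p ^ q − 1) / (p − 1) = 1 + p + ⋯ + p^(q−1). Then N is odd; if p ≡ 1 (mod q) then q ∣ N; and if p is not ≡ 1 (mod q) then N is coprime to p − 1 and every divisor of N is ≡ 1 (mod q). -/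
theorem result (p q : ℕ) (hp : p.Prime) (hq : q.Prime) (hp2 : p ≠ 2) (hq2 : q ≠ 2) : Odd ((p ^ q - 1) / (p - 1)) ∧ (p % q = 1 → q ∣ (p ^ q - 1) / (p - 1)) ∧ (p % q ≠ 1 → Nat.Coprime ((p ^ q - 1) / (p - 1)) (p - 1) ∧ ∀ x : ℕ, x ∣ (p ^ q - 1) / (p - 1) → x % q = 1) := by
  set N := (p ^ q - 1) / (p - 1) with hN
  have hgeom : N = ∑ i ∈ Finset.range q, p ^ i := (Nat.geomSum_eq hp.two_le q).symm
  have hodd : Odd N := by
    rw [hgeom, Finset.odd_sum_iff_odd_card_odd, Finset.filter_true_of_mem fun i _ => (hp.odd_of_ne_two hp2).pow,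
      Finset.card_range]
    exact hq.odd_of_ne_two hq2
  have hmod : ∀ m : ℕ, p % m = 1 % m → N % m = q % m := by
    intro m hm
    have h1 : (p : ZMod m) = 1 := by
      rw [← Nat.cast_one, ZMod.natCast_eq_natCast_iff]; exact hm
    have h2 : (N : ZMod m) = (q : ZMod m) := by
      rw [hgeom]; push_cast; simp [h1]
    exact (ZMod.natCast_eq_natCast_iff _ _ _).mp h2
  refine ⟨hodd, fun h1 => ?_, fun h1 => ?_⟩
  · refine Nat.dvd_of_mod_eq_zero ?_
    rw [hmod q (by rw [h1, Nat.one_mod_eq_one.mpr hq.ne_one]), Nat.mod_self]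
  · have hp1 : (p - 1) + 1 = p := Nat.sub_add_cancel hp.one_le
    have hcop : Nat.Coprime N (p - 1) := by
      have e : N % (p - 1) = q % (p - 1) := hmod (p - 1) ((Nat.modEq_iff_dvd' hp.one_le).mpr dvd_rfl).symm
      have hqc : Nat.Coprime q (p - 1) := by
        refine hq.coprime_iff_not_dvd.mpr fun hd => h1 ?_
        obtain ⟨c, hc⟩ := hd
        rw [← hp1, hc, add_comm, Nat.add_mul_mod_self_left, Nat.mod_eq_of_lt hq.one_lt]
      have e1 : Nat.gcd N (p - 1) = Nat.gcd q (p - 1) := by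
        rw [Nat.gcd_comm N, Nat.gcd_rec (p - 1) N, e, ← Nat.gcd_rec, Nat.gcd_comm]
      exact e1.trans hqc
    refine ⟨hcop, ?_⟩
    have hprime : ∀ r : ℕ, r.Prime → r ∣ N → r % q = 1 := by
      intro r hr hrN
      haveI := Fact.mk hr
      have hN0 : ((∑ i ∈ Finset.range q, p ^ i : ℕ) : ZMod r) = 0 := by
        rw [← hgeom]; exact (ZMod.natCast_eq_zero_iff _ _).mpr hrN
      have hpq : (p : ZMod r) ^ q = 1 := by
        have := geom_sum_mul (p : ZMod r) q
        push_cast at hN0
        rw [hN0, zero_mul] at this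
        exact (sub_eq_zero.mp this.symm)
      have hne : (p : ZMod r) ≠ 1 := by
        intro e
        have h2 : r ∣ p - 1 := by
          rw [← Nat.modEq_iff_dvd' hp.one_le, ← ZMod.natCast_eq_natCast_iff, Nat.cast_one]
          exact e.symm
        exact hr.ne_one (Nat.eq_one_of_dvd_coprimes hcop hrN h2)
      have hp0 : (p : ZMod r) ≠ 0 := fun e => by
        rw [e, zero_pow hq.ne_zero] at hpq
        exact zero_ne_one hpq
      haveI := Fact.mk hq
      have hord : orderOf (p : ZMod r) = q := orderOf_eq_prime hpq hne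
      have hdvd : q ∣ r - 1 := hord ▸ ZMod.orderOf_dvd_card_sub_one hp0
      obtain ⟨c, hc⟩ := hdvd
      rw [← Nat.sub_add_cancel hr.one_le, hc, add_comm, Nat.add_mul_mod_self_left, Nat.mod_eq_of_lt hq.one_lt]
    intro x
    induction x using Nat.recOnMul with
    | zero =>
      intro hx
      rw [zero_dvd_iff] at hx
      rw [hx] at hodd
      exact absurd hodd (by simp)
    | one => intro _; exact Nat.mod_eq_of_lt hq.one_lt
    | prime r hr => exact hprime r hr
    | mul a b iha ihb =>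
      intro hx
      rw [Nat.mul_mod, iha (dvd_of_mul_right_dvd hx), ihb (dvd_of_mul_left_dvd hx), mul_one, Nat.mod_eq_of_lt hq.one_lt]

end Cfsg.Agent.S1546
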