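import Cfsg.Statements.S1416
import Cfsg.Agent.Lib.OddLocal.Theorem124
set_option autoImplicit false
open Cfsg

namespace Cfsg.Agent.S1416

/-- Let G be a minimal simple group of odd order, M a maximal subgroup, p a prime and A ≤ M elementary abelian of order p ^ 2. Then C_G(A) ≤ M. If moreover for every subgroup A₀ of A of order p, M is not the unique maximal subgroup containing N_G(A₀), then p ∈ σ(M), M_α = 1 and M_σ is nilpotent. -/
theorem result {G : Type*} [Group G] [Finite G] (hG : Cfsg.IsMinSimpleOddOrder G)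
    (M : Subgroup G) (hM : IsCoatom M) (p : ℕ) [Fact p.Prime] (A : Subgroup G) (hA : (A ≤ M ∧ Cfsg.IsElementaryAbelian p A ∧ Nat.card A = p ^ 2)) :
    Subgroup.centralizer (A : Set G) ≤ M ∧
      ((∀ A₀ : Subgroup G, A₀ ≤ A → Nat.card A₀ = p →
          ¬ (Subgroup.normalizer (A₀ : Set G) ≤ M ∧ ∀ L : Subgroup G, IsCoatom L → Subgroup.normalizer (A₀ : Set G) ≤ L → L = M)) →
        p ∈ Cfsg.sigma M ∧ Cfsg.alphaCore M = ⊥ ∧ Group.IsNilpotent (Cfsg.sigmaCore M)) := by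
  obtain ⟨hAM, hAe, hA2⟩ := hA
  have hnu : (∀ A₀ : Subgroup G, A₀ ≤ A → Nat.card A₀ = p →
      ¬ (Subgroup.normalizer (A₀ : Set G) ≤ M ∧ ∀ L : Subgroup G, IsCoatom L → Subgroup.normalizer (A₀ : Set G) ≤ L → L = M)) →
      CfsgLib.OddLocal.AllNonUnique p M A := fun H => ⟨hG, hM, Fact.out, hAM, hAe, hA2, fun A₀ hA₀ hc => by
    have hp : p.Prime := Fact.out
    have hne : A₀ ≠ ⊥ := fun e => hp.ne_one (by rw [← hc, e, Subgroup.card_bot])
    have htop : Subgroup.normalizer (A₀ : Set G) ≠ ⊤ := CfsgLib.OddLocal.normalizer_ne_top hG hne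
      fun e => hM.1 (top_unique (e.ge.trans (hA₀.trans hAM)))
    obtain ⟨L, hL, hNL⟩ := (eq_top_or_exists_le_coatom _).resolve_left htop
    by_contra hne'
    push Not at hne'
    exact H A₀ hA₀ hc ⟨hne' L hL hNL ▸ hNL, hne'⟩⟩
  refine ⟨?_, fun H => ⟨(hnu H).mem_sigma, (hnu H).alphaCore_eq_bot, (hnu H).sigmaCore_nilpotent⟩⟩
  by_cases H : ∀ A₀ : Subgroup G, A₀ ≤ A → Nat.card A₀ = p →
      ¬ (Subgroup.normalizer (A₀ : Set G) ≤ M ∧ ∀ L : Subgroup G, IsCoatom L → Subgroup.normalizer (A₀ : Set G) ≤ L → L = M)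
  · exact (hnu H).centralizer_le
  · push Not at H
    obtain ⟨A₀, hA₀, -, hN, -⟩ := H
    exact ((Subgroup.centralizer_le (SetLike.coe_subset_coe.2 hA₀)).trans
      (Subgroup.centralizer_le_normalizer _)).trans hN

end Cfsg.Agent.S1416
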