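import Cfsg.Statements.S2431
import Cfsg.Agent.Lib.SL2.Facts

set_option autoImplicit false
open Cfsg

namespace Cfsg.Agent.S2431

open CfsgLib.SL2 Matrix
open scoped MatrixGroups

variable {F : Type*} [Field F] [Finite F]

/-- In odd characteristic a non-central element of a torus is semisimple. -/
theorem regular_of_mem {g t : SL(2, F)} (hg : Regular g) (ht : t ∈ cent g)
    (hns : NonScalar (t : Matrix (Fin 2) (Fin 2) F)) : Regular t := by
  by_contra hr
  have e := card_cent_unipotent hns hr
  rw [cent_eq_of_mem hg.nonScalar hns ht] at e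
  have h1 : 1 < Nat.card F := Finite.one_lt_card
  have hd : Nat.gcd 2 (Nat.card F - 1) = 1 ∨ Nat.gcd 2 (Nat.card F - 1) = 2 :=
    (Nat.dvd_prime Nat.prime_two).mp (Nat.gcd_dvd_left _ _)
  rcases (cent_regular hg).2 with e' | e' <;> rw [e'] at e <;> rcases hd with hd | hd <;>
    rw [hd] at e <;> omega

theorem quat8_gen : ∀ x : QuaternionGroup (2 ^ 1), ∃ u : Fin 4, ∃ v : Fin 2,
    x = QuaternionGroup.a 1 ^ (u : ℕ) * QuaternionGroup.xa 0 ^ (v : ℕ) := by decide +kernel

/-- An element inverting a semisimple element inverts its whole torus. -/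
theorem inverts_torus {g w t : SL(2, F)} (hg : Regular g) (hw : w * g * w⁻¹ = g⁻¹)
    (ht : t ∈ cent g) : w * t * w⁻¹ = t⁻¹ := by
  by_cases hns : NonScalar (t : Matrix (Fin 2) (Fin 2) F)
  · have hce := cent_eq_of_mem hg.nonScalar hns ht
    have hN : w ∈ Subgroup.normalizer (cent g : Set SL(2, F)) :=
      (mem_normalizer_cent_iff hg).mpr (Or.inr hw)
    have hm : w * t * w⁻¹ ∈ cent t := hce ▸ (Subgroup.mem_normalizer_iff.mp hN t).mp ht
    rcases eq_or_eq_inv_of_trace (regular_of_mem hg ht hns) hm (trace_conj w t) with h | h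
    · exfalso
      apply hg.ne_inv
      have hwg : w ∈ cent g := hce ▸ mem_cent_iff.mpr (mul_inv_eq_iff_eq_mul.mp h).symm
      rw [← hw, ← mem_cent_iff.mp hwg, mul_inv_cancel_right]
    · exact h
  · have hz := (mem_center_iff_not_nonScalar t).mpr hns
    rw [Subgroup.mem_center_iff.mp hz w, mul_inv_cancel_right]
    rcases eq_one_or_eq_neg_one_of_mem_center t hz with h | h <;> subst h
    · simp
    · exact eq_inv_of_mul_eq_one_left (by simp)

/-- Let F be a finite field with q elements, q odd, and S a Sylow 2-subgroup of SL₂ over F. The centraliser of S is the centre of SL₂ (of order 2); S is its own normaliser when q ≡ ±1 mod 8, and has index 3 in its normaliser when q ≡ ±3 mod 8. -/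
theorem result {F : Type*} [Field F] [Fintype F] (hodd : Odd (Fintype.card F)) (S : Sylow 2 (Matrix.SpecialLinearGroup (Fin 2) F)) :
    Subgroup.centralizer ((S : Subgroup (Matrix.SpecialLinearGroup (Fin 2) F)) : Set (Matrix.SpecialLinearGroup (Fin 2) F)) = Subgroup.center (Matrix.SpecialLinearGroup (Fin 2) F) ∧
    ((Fintype.card F % 8 = 1 ∨ Fintype.card F % 8 = 7) →
      Subgroup.normalizer ((S : Subgroup (Matrix.SpecialLinearGroup (Fin 2) F)) : Set (Matrix.SpecialLinearGroup (Fin 2) F)) = (S : Subgroup (Matrix.SpecialLinearGroup (Fin 2) F))) ∧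
    ((Fintype.card F % 8 = 3 ∨ Fintype.card F % 8 = 5) →
      Nat.card (Subgroup.normalizer ((S : Subgroup (Matrix.SpecialLinearGroup (Fin 2) F)) : Set (Matrix.SpecialLinearGroup (Fin 2) F))) = 3 * Nat.card S) := by
  classical
  set q := Fintype.card F with hq
  have hF : Nat.card F = q := Nat.card_eq_fintype_card
  have hodd' : Odd (Nat.card F) := hF ▸ hodd
  have h20 : (2 : F) ≠ 0 := odd_card_two_ne_zero hodd'
  obtain ⟨k, hk, ⟨e⟩⟩ := sylow_two_quaternion hodd' S
  have : NeZero (2 ^ k) := ⟨by positivity⟩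
  set a' : (S : Subgroup SL(2, F)) := e.symm (QuaternionGroup.a 1) with ha'
  set w' : (S : Subgroup SL(2, F)) := e.symm (QuaternionGroup.xa 0) with hw'
  have hZS : ∀ y : SL(2, F), NonScalar (y : Matrix (Fin 2) (Fin 2) F) → ¬ (∀ s ∈ (S : Subgroup SL(2, F)), s ∈ cent y) := by
    intro y hy hall
    have hcomm : a' * w' = w' * a' := Subtype.ext (cent_comm hy (hall _ a'.2) (hall _ w'.2))
    rw [ha', hw', ← map_mul, ← map_mul, e.symm.injective.eq_iff, QuaternionGroup.a_mul_xa,
      QuaternionGroup.xa_mul_a] at hcomm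
    injection hcomm with hcomm
    have h2 : ((2 : ℕ) : ZMod (2 * 2 ^ k)) = 0 := by
      push_cast
      linear_combination -hcomm
    rw [ZMod.natCast_eq_zero_iff] at h2
    have h2' := Nat.le_of_dvd two_pos h2
    have : 2 ≤ 2 ^ k := Nat.le_self_pow (by omega) 2
    omega
  have hC : Subgroup.centralizer ((S : Subgroup SL(2, F)) : Set SL(2, F)) = Subgroup.center SL(2, F) := by
    refine le_antisymm (fun y hy => ?_) (Subgroup.center_le_centralizer _)
    rw [mem_center_iff_not_nonScalar]
    intro hns
    exact hZS y hns (fun s hs => mem_cent_iff.mpr (Subgroup.mem_centralizer_iff.mp hy s hs).symm)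
  have hcardS : Nat.card (S : Subgroup SL(2, F)) = 4 * 2 ^ k := by
    rw [Nat.card_congr e.toEquiv, Nat.card_eq_fintype_card, QuaternionGroup.card]
  have h8G : 4 * 2 ^ k ∣ q * ((q - 1) * (q + 1)) := by
    rw [← hF, ← card_SL_two', ← hcardS]
    exact Subgroup.card_subgroup_dvd_card _
  have hmax : ∀ n, 2 ^ n ∣ q * ((q - 1) * (q + 1)) → 2 ^ n ∣ Nat.card (S : Subgroup SL(2, F)) := by
    intro n hn
    rw [← hF, ← card_SL_two'] at hn
    exact S.pow_dvd_card_of_pow_dvd_card hn
  refine ⟨hC, fun h8 => ?_, fun h8 => ?_⟩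
  · -- the Sylow subgroup is self-normalizing
    have hk2 : 2 ≤ k := by
      by_contra hlt
      have hk1 : k = 1 := by omega
      have h16 := hmax 4 (by
        have : 16 ∣ (q - 1) * (q + 1) := by
          rcases h8 with h | h
          · obtain ⟨u, hu⟩ : 8 ∣ q - 1 := by omega
            obtain ⟨v, hv⟩ : 2 ∣ q + 1 := by omega
            exact ⟨u * v, by rw [hu, hv]; ring⟩
          · obtain ⟨u, hu⟩ : 2 ∣ q - 1 := by omega
            obtain ⟨v, hv⟩ : 8 ∣ q + 1 := by omega
            exact ⟨u * v, by rw [hu, hv]; ring⟩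
        exact Dvd.dvd.mul_left (by simpa using this) q)
      rw [hcardS, hk1] at h16
      norm_num at h16
    refine le_antisymm (fun h hh => ?_) Subgroup.le_normalizer
    have hao : orderOf ((a' : SL(2, F))) = 2 * 2 ^ k := by
      rw [Subgroup.orderOf_coe, ha', MulEquiv.orderOf_eq, QuaternionGroup.orderOf_a_one]
    have h4k : 4 ≤ 2 ^ k := le_trans (by norm_num) (Nat.pow_le_pow_right two_pos hk2)
    have hans : NonScalar ((a' : SL(2, F)) : Matrix (Fin 2) (Fin 2) F) := by
      by_contra hn
      rcases eq_one_or_eq_neg_one_of_mem_center _ ((mem_center_iff_not_nonScalar _).mpr hn) with h | h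
      · rw [h, orderOf_one] at hao; omega
      · rw [h, orderOf_neg_one h20] at hao; omega
    obtain ⟨p, hp⟩ := CharP.exists F
    have : Fact p.Prime := ⟨CharP.char_is_prime F p⟩
    have hareg : Regular (a' : SL(2, F)) := by
      by_contra hr
      have hd := orderOf_dvd_of_pow_eq_one (pow_two_mul_char_of_not_regular hr p)
      rw [hao] at hd
      have hd2 : 2 ^ k ∣ p := (Nat.mul_dvd_mul_iff_left two_pos).mp hd
      rcases (Nat.dvd_prime (Fact.out : p.Prime)).mp hd2 with h | h
      · omega
      · have hp2 : Nat.Prime (2 ^ k) := h ▸ Fact.out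
        exact Nat.Prime.not_prime_pow hk2 hp2
    have hw : (w' : SL(2, F)) * a' * (w' : SL(2, F))⁻¹ = (a' : SL(2, F))⁻¹ := by
      have h1 : (w' * a' * w'⁻¹ : (S : Subgroup SL(2, F))) = a'⁻¹ := by
        apply e.injective
        rw [map_mul, map_mul, map_inv, map_inv, ha', hw', e.apply_symm_apply, e.apply_symm_apply]
        show QuaternionGroup.xa 0 * QuaternionGroup.a 1 * QuaternionGroup.xa (((2 ^ k : ℕ) : ZMod (2 * 2 ^ k)) + 0) = QuaternionGroup.a (-1)
        rw [QuaternionGroup.xa_mul_a, QuaternionGroup.xa_mul_xa]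
        congr 1
        have h0 : ((2 * 2 ^ k : ℕ) : ZMod (2 * 2 ^ k)) = 0 := ZMod.natCast_self _
        push_cast at h0 ⊢
        linear_combination h0
      simpa using congrArg Subtype.val h1
    -- images of `a'` stay in its torus
    have hsh : h * a' * h⁻¹ ∈ (S : Subgroup SL(2, F)) := (Subgroup.mem_normalizer_iff.mp hh a').mp a'.2
    have hmem : h * a' * h⁻¹ ∈ cent (a' : SL(2, F)) := by
      have hord : orderOf (e ⟨h * a' * h⁻¹, hsh⟩) = 2 * 2 ^ k := by
        rw [MulEquiv.orderOf_eq, ← Subgroup.orderOf_coe]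
        show orderOf (h * a' * h⁻¹) = _
        rw [← hao]
        exact MulEquiv.orderOf_eq (MulAut.conj h) _
      rcases hcase : e ⟨h * a' * h⁻¹, hsh⟩ with i | i
      · have hc : (⟨h * a' * h⁻¹, hsh⟩ : (S : Subgroup SL(2, F))) * a' = a' * ⟨h * a' * h⁻¹, hsh⟩ := by
          apply e.injective
          rw [map_mul, map_mul, hcase, ha', e.apply_symm_apply, QuaternionGroup.a_mul_a,
            QuaternionGroup.a_mul_a, add_comm]
        rw [mem_cent_iff]
        exact (congrArg Subtype.val hc).symm
      · rw [hcase, QuaternionGroup.orderOf_xa] at hord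
        omega
    have key : ∀ u, u ∈ Subgroup.normalizer ((S : Subgroup SL(2, F)) : Set SL(2, F)) → u ∈ cent (a' : SL(2, F)) → u ∈ (S : Subgroup SL(2, F)) := by
      intro u hu hua
      have hus : u * w' * u⁻¹ * (w' : SL(2, F))⁻¹ ∈ (S : Subgroup SL(2, F)) :=
        mul_mem ((Subgroup.mem_normalizer_iff.mp hu w').mp w'.2) (inv_mem w'.2)
      have hu2 : u * u ∈ (S : Subgroup SL(2, F)) := by
        have e2 := inverts_torus hareg hw (inv_mem hua)
        rw [inv_inv] at e2
        have : u * w' * u⁻¹ * (w' : SL(2, F))⁻¹ = u * u := by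
          calc u * w' * u⁻¹ * (w' : SL(2, F))⁻¹ = u * (w' * u⁻¹ * (w' : SL(2, F))⁻¹) := by group
            _ = u * u := by rw [e2]
        rwa [this] at hus
      obtain ⟨j, hj⟩ := S.isPGroup' ⟨u * u, hu2⟩
      have hj' : u ^ (2 ^ (j + 1)) = 1 := by
        rw [pow_succ', pow_mul, sq]
        exact congrArg Subtype.val hj
      have hzp : IsPGroup 2 (Subgroup.zpowers u) := by
        intro z
        obtain ⟨i, hi⟩ := Subgroup.mem_zpowers_iff.mp z.2
        refine ⟨j + 1, Subtype.ext ?_⟩
        show (z : SL(2, F)) ^ (2 ^ (j + 1)) = 1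
        rw [← hi, ← zpow_natCast (u ^ i), ← _root_.zpow_mul, mul_comm, _root_.zpow_mul, zpow_natCast, hj', _root_.one_zpow]
      have hsup := IsPGroup.to_sup_of_normal_right' hzp S.isPGroup' (Subgroup.zpowers_le.mpr hu)
      have := S.is_maximal' hsup le_sup_right
      rw [← this]
      exact Subgroup.mem_sup_left (Subgroup.mem_zpowers u)
    rcases eq_or_eq_inv_of_trace hareg hmem (trace_conj h a') with hc | hc
    · exact key h hh (mem_cent_iff.mpr (mul_inv_eq_iff_eq_mul.mp hc).symm)
    · have hu : (w' : SL(2, F))⁻¹ * h ∈ (S : Subgroup SL(2, F)) := by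
        refine key _ (mul_mem (inv_mem (Subgroup.le_normalizer w'.2)) hh) (mem_cent_iff.mpr ?_)
        have h1 : h * a' * h⁻¹ = w' * a' * (w' : SL(2, F))⁻¹ := hc.trans hw.symm
        calc (a' : SL(2, F)) * ((w' : SL(2, F))⁻¹ * h) = (w' : SL(2, F))⁻¹ * (w' * a' * (w' : SL(2, F))⁻¹) * h := by group
          _ = (w' : SL(2, F))⁻¹ * (h * a' * h⁻¹) * h := by rw [h1]
          _ = (w' : SL(2, F))⁻¹ * h * a' := by group
      have := mul_mem w'.2 hu
      rwa [mul_inv_cancel_left] at this
  · -- the Sylow subgroup is quaternion of order eight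
    have hdvd16 : ¬ 16 ∣ q * ((q - 1) * (q + 1)) := by
      intro hd
      have hco : Nat.Coprime 16 q := by
        rw [show (16 : ℕ) = 2 ^ 4 by norm_num]
        exact (Nat.prime_two.coprime_iff_not_dvd.mpr (by omega)).pow_left 4
      have hd' := hco.dvd_of_dvd_mul_left hd
      rcases h8 with h | h
      · obtain ⟨u, hu⟩ : ∃ u, q = 8 * u + 3 := ⟨q / 8, by omega⟩
        rw [hu, show (8 * u + 3 - 1) * (8 * u + 3 + 1) = 16 * (4 * u * u + 3 * u) + 8 by
          rw [show 8 * u + 3 - 1 = 8 * u + 2 by omega]; ring] at hd'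
        omega
      · obtain ⟨u, hu⟩ : ∃ u, q = 8 * u + 5 := ⟨q / 8, by omega⟩
        rw [hu, show (8 * u + 5 - 1) * (8 * u + 5 + 1) = 16 * (4 * u * u + 5 * u + 1) + 8 by
          rw [show 8 * u + 5 - 1 = 8 * u + 4 by omega]; ring] at hd'
        omega
    have hk1 : k = 1 := by
      by_contra hne
      have : 2 ^ 2 ∣ 2 ^ k := Nat.pow_dvd_pow 2 (by omega)
      exact hdvd16 (dvd_trans (Nat.mul_dvd_mul_left 4 this) h8G)
    subst hk1
    set i : Matrix (Fin 2) (Fin 2) F := ((a' : SL(2, F)) : Matrix (Fin 2) (Fin 2) F) with hi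
    set j : Matrix (Fin 2) (Fin 2) F := ((w' : SL(2, F)) : Matrix (Fin 2) (Fin 2) F) with hj
    have hm1 : (a' * a' : (S : Subgroup SL(2, F))) = w' * w' := by
      apply e.injective
      rw [map_mul, map_mul, ha', hw', e.apply_symm_apply, e.apply_symm_apply]
      decide
    have hne1 : (w' * w' : (S : Subgroup SL(2, F))) ≠ 1 := by
      intro h1
      have h1' := congrArg e h1
      rw [map_mul, map_one, hw', e.apply_symm_apply] at h1'
      exact absurd h1' (by decide)
    have hw4 : ((w' : SL(2, F)) * w') * ((w' : SL(2, F)) * w') = 1 := by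
      have h1 : (w' * w') * (w' * w') = 1 := by
        apply e.injective
        rw [map_mul, map_mul, map_one, hw', e.apply_symm_apply]
        decide
      simpa using congrArg Subtype.val h1
    have hww : (w' : SL(2, F)) * w' = -1 :=
      eq_neg_one_of_mul_self h20 hw4 (fun h => hne1 (Subtype.ext (by simpa using h)))
    have haa : (a' : SL(2, F)) * a' = -1 := by
      rw [← hww]
      simpa using congrArg Subtype.val hm1
    have hii : i * i = -1 := by
      rw [hi, ← Matrix.SpecialLinearGroup.coe_mul, haa]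
      simp
    have hjj : j * j = -1 := by
      rw [hj, ← Matrix.SpecialLinearGroup.coe_mul, hww]
      simp
    have hanti : (w' * a' : (S : Subgroup SL(2, F))) = a' * w' * (w' * w') := by
      apply e.injective
      rw [map_mul, map_mul, map_mul, map_mul, ha', hw', e.apply_symm_apply, e.apply_symm_apply]
      decide
    have hwa : (w' : SL(2, F)) * a' = -((a' : SL(2, F)) * w') := by
      have h1 := congrArg Subtype.val hanti
      simp only [Subgroup.coe_mul, hww] at h1
      rw [h1, mul_neg, mul_one]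
    have hji : j * i = -(i * j) := by
      rw [hi, hj, ← Matrix.SpecialLinearGroup.coe_mul, hwa, Matrix.SpecialLinearGroup.coe_neg,
        Matrix.SpecialLinearGroup.coe_mul]
    have hii' : ∀ Y, i * (i * Y) = -Y := fun Y => by rw [← Matrix.mul_assoc, hii, Matrix.neg_mul, Matrix.one_mul]
    have hjj' : ∀ Y, j * (j * Y) = -Y := fun Y => by rw [← Matrix.mul_assoc, hjj, Matrix.neg_mul, Matrix.one_mul]
    have hji' : ∀ Y, j * (i * Y) = -(i * (j * Y)) := fun Y => by
      rw [← Matrix.mul_assoc, hji, Matrix.neg_mul, Matrix.mul_assoc]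
    set X := i + j + i * j with hXdef
    have hXX : X * X = -((3 : F) • (1 : Matrix (Fin 2) (Fin 2) F)) := by
      rw [hXdef]
      simp only [Matrix.mul_add, Matrix.add_mul, Matrix.mul_assoc, hii, hjj, hji, hii', hjj', hji',
        Matrix.mul_neg, Matrix.mul_one, neg_neg]
      module
    have htr : X.trace = 0 := by
      have t1 : i.trace = 0 := trace_eq_zero_of_mul_self h20 haa
      have t2 : j.trace = 0 := trace_eq_zero_of_mul_self h20 hww
      have t3 : (i * j).trace = 0 := by
        have h1 := Matrix.trace_mul_comm i j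
        rw [hji, Matrix.trace_neg] at h1
        have : (2 : F) * (i * j).trace = 0 := by linear_combination h1
        exact (mul_eq_zero.mp this).resolve_left h20
      rw [hXdef, Matrix.trace_add, Matrix.trace_add, t1, t2, t3, add_zero, add_zero]
    have hdX : X.det = 3 := by
      have h1 := cayley X
      rw [hXX, htr, zero_smul, zero_sub, neg_inj] at h1
      have := congrFun (congrFun h1 (0 : Fin 2)) (0 : Fin 2)
      simpa using this.symm
    set c : F := -(1 / 2) with hc
    have hH : (c • (1 : Matrix (Fin 2) (Fin 2) F) + c • X).det = 1 := by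
      rw [det_smul_one_add_smul, htr, hdX, hc]
      field_simp
      ring
    set h : SL(2, F) := ⟨_, hH⟩ with hh
    have hHi : (h : Matrix (Fin 2) (Fin 2) F) * i = j * (h : Matrix (Fin 2) (Fin 2) F) := by
      rw [hh]
      show (c • (1 : Matrix (Fin 2) (Fin 2) F) + c • X) * i = j * (c • (1 : Matrix (Fin 2) (Fin 2) F) + c • X)
      simp only [hXdef, Matrix.mul_add, Matrix.add_mul, smul_add, Matrix.smul_mul, Matrix.mul_smul,
        Matrix.mul_assoc, hii, hjj, hji, hii', hjj', hji', Matrix.mul_one, Matrix.one_mul,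
        Matrix.mul_neg, neg_neg]
      module
    have hHj : (h : Matrix (Fin 2) (Fin 2) F) * j = (i * j) * (h : Matrix (Fin 2) (Fin 2) F) := by
      rw [hh]
      show (c • (1 : Matrix (Fin 2) (Fin 2) F) + c • X) * j = (i * j) * (c • (1 : Matrix (Fin 2) (Fin 2) F) + c • X)
      simp only [hXdef, Matrix.mul_add, Matrix.add_mul, smul_add, Matrix.smul_mul, Matrix.mul_smul,
        Matrix.mul_assoc, hii, hjj, hji, hii', hjj', hji', Matrix.mul_one, Matrix.one_mul,
        Matrix.mul_neg, neg_neg]
      module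
    have hcij : h * a' * h⁻¹ = w' := mul_inv_eq_iff_eq_mul.mpr (Subtype.ext (by
      rw [Matrix.SpecialLinearGroup.coe_mul, Matrix.SpecialLinearGroup.coe_mul]; exact hHi))
    have hcjk : h * w' * h⁻¹ = a' * w' := mul_inv_eq_iff_eq_mul.mpr (Subtype.ext (by
      rw [Matrix.SpecialLinearGroup.coe_mul, Matrix.SpecialLinearGroup.coe_mul,
        Matrix.SpecialLinearGroup.coe_mul]; exact hHj))
    have hgen : ∀ x : QuaternionGroup (2 ^ 1), ∃ u v : ℕ, x = QuaternionGroup.a 1 ^ u * QuaternionGroup.xa 0 ^ v := by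
      intro x
      obtain ⟨u, v, h⟩ := quat8_gen x
      exact ⟨u, v, h⟩
    have hS : ∀ s ∈ (S : Subgroup SL(2, F)), ∃ u v : ℕ, s = (a' : SL(2, F)) ^ u * (w' : SL(2, F)) ^ v := by
      intro s hs
      obtain ⟨u, v, huv⟩ := hgen (e ⟨s, hs⟩)
      refine ⟨u, v, ?_⟩
      have h1 : (⟨s, hs⟩ : (S : Subgroup SL(2, F))) = a' ^ u * w' ^ v := by
        apply e.injective
        rw [huv, map_mul, map_pow, map_pow, ha', hw', e.apply_symm_apply, e.apply_symm_apply]
      simpa using congrArg Subtype.val h1
    have hnorm : h ∈ Subgroup.normalizer ((S : Subgroup SL(2, F)) : Set SL(2, F)) := by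
      rw [Subgroup.mem_normalizer_iff_map_conj_eq]
      refine Subgroup.eq_of_le_of_card_ge ?_ (Subgroup.card_map_of_injective (MulAut.conj h).injective).ge
      rintro _ ⟨s, hs, rfl⟩
      obtain ⟨u, v, rfl⟩ := hS s hs
      show h * (_ * _) * h⁻¹ ∈ (S : Subgroup SL(2, F))
      rw [show h * ((a' : SL(2, F)) ^ u * (w' : SL(2, F)) ^ v) * h⁻¹ =
          (h * a' * h⁻¹) ^ u * (h * w' * h⁻¹) ^ v by rw [conj_pow, conj_pow]; group, hcij, hcjk]
      exact mul_mem (pow_mem w'.2 _) (pow_mem (mul_mem a'.2 w'.2) _)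
    set N := Subgroup.normalizer ((S : Subgroup SL(2, F)) : Set SL(2, F)) with hNdef
    have hh3 : h ^ 3 = 1 := by
      have hsq : (h : Matrix (Fin 2) (Fin 2) F) * h = -(h : Matrix (Fin 2) (Fin 2) F) - 1 := by
        rw [cayley, h.det_coe, one_smul,
          show (h : Matrix (Fin 2) (Fin 2) F).trace = -1 by
            show (c • (1 : Matrix (Fin 2) (Fin 2) F) + c • X).trace = -1
            rw [trace_smul_one_add_smul, htr, hc]
            field_simp; ring,
          neg_one_smul]
      apply Subtype.ext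
      rw [Matrix.SpecialLinearGroup.coe_pow, pow_succ, sq, hsq, Matrix.sub_mul, Matrix.neg_mul, hsq,
        Matrix.one_mul, Matrix.SpecialLinearGroup.coe_one]
      abel
    have hh1 : h ≠ 1 := by
      intro h1
      have h3 : (a' : SL(2, F)) = w' := by rw [← hcij, h1]; simp
      have h4 : QuaternionGroup.a (1 : ZMod (2 * 2 ^ 1)) = QuaternionGroup.xa 0 := by
        have h5 := congrArg e (Subtype.ext h3 : a' = w')
        rwa [ha', hw', e.apply_symm_apply, e.apply_symm_apply] at h5
      exact absurd h4 (by simp)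
    have h24 : 24 ∣ Nat.card N := by
      refine (Nat.Coprime.mul_dvd_of_dvd_of_dvd (by decide : Nat.Coprime 8 3) ?_ ?_ : 8 * 3 ∣ _)
      · have := Subgroup.card_dvd_of_le (Subgroup.le_normalizer (H := (S : Subgroup SL(2, F))))
        rw [hcardS] at this
        exact this
      · have h3 : orderOf h = 3 := orderOf_eq_prime hh3 hh1
        exact h3 ▸ Subgroup.orderOf_dvd_natCard N hnorm
    have h16 : ¬ 16 ∣ Nat.card N := fun h =>
      hdvd16 (by rw [← hF, ← card_SL_two']; exact h.trans (Subgroup.card_subgroup_dvd_card N))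
    have hle : Nat.card N ≤ 60 := by
      have := Fintype.ofFinite N
      set T : Finset SL(2, F) := Finset.univ.filter (fun s => s ∈ (S : Subgroup SL(2, F)) ∧ NonScalar (s : Matrix (Fin 2) (Fin 2) F)) with hT
      have hT6 : T.card ≤ 6 := by
        have hsub : T ⊆ ((Finset.univ.filter (fun s => s ∈ (S : Subgroup SL(2, F)))).erase 1).erase (-1) := by
          intro s hs
          simp only [hT, Finset.mem_filter, Finset.mem_univ, true_and] at hs
          simp only [Finset.mem_erase, Finset.mem_filter, Finset.mem_univ, true_and, ne_eq]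
          refine ⟨fun h1 => (nonScalar_iff _).mp hs.2 |> fun h2 => ?_, fun h1 => ?_, hs.1⟩
          · rw [h1] at h2; simp at h2
          · have h2 := (nonScalar_iff _).mp hs.2
            rw [h1] at h2; simp at h2
        refine (Finset.card_le_card hsub).trans ?_
        have hm : (-1 : SL(2, F)) ∈ (S : Subgroup SL(2, F)) := hww ▸ mul_mem w'.2 w'.2
        rw [Finset.card_erase_of_mem (by simp [hm, neg_one_ne_one h20]),
          Finset.card_erase_of_mem (by simp [one_mem])]
        rw [show (Finset.univ.filter (fun s => s ∈ (S : Subgroup SL(2, F)))).card = 8 by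
          rw [← Fintype.card_subtype, ← Nat.card_eq_fintype_card]; exact hcardS]
      have hns : ∀ y : SL(2, F), y * y = -1 → NonScalar (y : Matrix (Fin 2) (Fin 2) F) := fun y hy =>
        (regular_of_mul_self h20 hy).nonScalar
      let f : N → SL(2, F) × SL(2, F) := fun u => ((u : SL(2, F)) * a' * (u : SL(2, F))⁻¹, (u : SL(2, F)) * w' * (u : SL(2, F))⁻¹)
      have hconjsq : ∀ (u y : SL(2, F)), y * y = -1 → (u * y * u⁻¹) * (u * y * u⁻¹) = -1 := by
        intro u y hy
        rw [show (u * y * u⁻¹) * (u * y * u⁻¹) = u * (y * y) * u⁻¹ by group, hy,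
          (Subgroup.mem_center_iff.mp neg_one_mem_center u), mul_inv_cancel_right]
      have himg : Finset.univ.image f ⊆ T.offDiag := by
        intro p hp
        obtain ⟨u, -, rfl⟩ := Finset.mem_image.mp hp
        simp only [Finset.mem_offDiag, hT, Finset.mem_filter, Finset.mem_univ, true_and, f]
        refine ⟨⟨(Subgroup.mem_normalizer_iff.mp u.2 a').mp a'.2, hns _ (hconjsq _ _ haa)⟩,
          ⟨(Subgroup.mem_normalizer_iff.mp u.2 w').mp w'.2, hns _ (hconjsq _ _ hww)⟩, fun h => ?_⟩
        have h' := mul_left_cancel (mul_right_cancel h)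
        apply hh1
        by_contra
        apply hne1
        have h5 := congrArg e (Subtype.ext h' : a' = w')
        rw [ha', hw', e.apply_symm_apply, e.apply_symm_apply] at h5
        exact absurd h5 (by simp)
      have hfib : ∀ p ∈ Finset.univ.image f, (Finset.univ.filter (fun u => f u = p)).card ≤ 2 := by
        intro p hp
        obtain ⟨u₀, -, rfl⟩ := Finset.mem_image.mp hp
        have hsub : ((Finset.univ.filter (fun u => f u = f u₀)).image Subtype.val) ⊆ ({(u₀ : SL(2, F)), -(u₀ : SL(2, F))} : Finset SL(2, F)) := by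
          intro z hz
          obtain ⟨u, hu, rfl⟩ := Finset.mem_image.mp hz
          simp only [Finset.mem_filter, Finset.mem_univ, true_and, f, Prod.mk.injEq] at hu
          have hc1 : ∀ y, (u : SL(2, F)) * y * (u : SL(2, F))⁻¹ = (u₀ : SL(2, F)) * y * (u₀ : SL(2, F))⁻¹ →
              y ∈ cent ((u₀ : SL(2, F))⁻¹ * (u : SL(2, F))) := by
            intro y hy
            rw [mem_cent_iff]
            calc (u₀ : SL(2, F))⁻¹ * (u : SL(2, F)) * y = (u₀ : SL(2, F))⁻¹ * ((u : SL(2, F)) * y * (u : SL(2, F))⁻¹) * (u : SL(2, F)) := by group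
              _ = y * ((u₀ : SL(2, F))⁻¹ * (u : SL(2, F))) := by rw [hy]; group
          have hz : (u₀ : SL(2, F))⁻¹ * (u : SL(2, F)) ∈ Subgroup.center SL(2, F) := by
            rw [mem_center_iff_not_nonScalar]
            intro hn
            refine hZS _ hn (fun s hs => ?_)
            obtain ⟨x, y, rfl⟩ := hS s hs
            exact mul_mem (pow_mem (hc1 _ hu.1) _) (pow_mem (hc1 _ hu.2) _)
          simp only [Finset.mem_insert, Finset.mem_singleton]
          rcases eq_one_or_eq_neg_one_of_mem_center _ hz with h | h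
          · exact Or.inl (inv_mul_eq_one.mp h).symm
          · right
            calc (u : SL(2, F)) = (u₀ : SL(2, F)) * ((u₀ : SL(2, F))⁻¹ * (u : SL(2, F))) := by group
              _ = -(u₀ : SL(2, F)) := by rw [h, mul_neg, mul_one]
        rw [← Finset.card_image_of_injective _ Subtype.val_injective]
        exact (Finset.card_le_card hsub).trans Finset.card_le_two
      rw [Nat.card_eq_fintype_card, ← Finset.card_univ]
      refine (Finset.card_le_mul_card_image _ 2 hfib).trans ?_
      have := Finset.card_le_card himg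
      rw [Finset.offDiag_card] at this
      have h30 : T.card * T.card - T.card ≤ 30 := by
        interval_cases T.card <;> norm_num
      omega
    rw [hcardS]
    obtain ⟨m, hm⟩ := h24
    have hN0 : 0 < Nat.card N := Nat.card_pos
    have : m = 1 ∨ m = 2 := by omega
    rcases this with rfl | rfl
    · rw [hm]; rfl
    · exact absurd ⟨3, hm.trans (by norm_num)⟩ h16

end Cfsg.Agent.S2431
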