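import Cfsg.Statements.S2769
import Cfsg.Agent.Lib.SL2Module.Baumann

set_option autoImplicit false
open Cfsg

namespace Cfsg.Agent.S2769

open CfsgLib CfsgLib.SL2Module.Baumann
open scoped commutatorElement

/-- Let G be a finite group and p a prime with C_G(O_p(G)) ≤ O_p(G), S a Sylow p-subgroup lying in exactly one maximal subgroup of G, and G/K ≅ PSL₂(p^n) for some normal K and n ≥ 1. Let J(S) be generated by the abelian subgroups of S of largest order. If [Z(J(S)), S] ≠ 1, then either [Z(J(S)), S] ∩ Z(S) is normal in G or C_S(Z(J(S))) is normal in G. -/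
theorem result {G : Type*} [Group G] [Finite G] {p : ℕ} [Fact p.Prime] (S : Sylow p G) (hE₁ : Subgroup.centralizer (Cfsg.pCore p G : Set G) ≤ Cfsg.pCore p G) (hE₂ : ∃! M : Subgroup G, IsCoatom M ∧ (S : Subgroup G) ≤ M) (K : Subgroup G) [K.Normal] (F : Type) [Field F] [Fintype F] (n : ℕ) (hn : 1 ≤ n) (hF : Fintype.card F = p ^ n) (hE₃ : Nonempty (G ⧸ K ≃* Matrix.ProjectiveSpecialLinearGroup (Fin 2) F)) (h : ⁅(Cfsg.centerThompsonAOf (S : Subgroup G)), (S : Subgroup G)⁆ ≠ ⊥) : (⁅(Cfsg.centerThompsonAOf (S : Subgroup G)), (S : Subgroup G)⁆ ⊓ ((S : Subgroup G) ⊓ Subgroup.centralizer ((S : Subgroup G) : Set G))).Normal ∨ (((S : Subgroup G) ⊓ Subgroup.centralizer (Cfsg.centerThompsonAOf (S : Subgroup G) : Set G))).Normal := by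
  haveI : CharP F p := charP_of_card n hF
  obtain ⟨M, π, st⟩ := exists_setting (F := F) S hE₁ hE₂ K hE₃
  set ZJ := Cfsg.centerThompsonAOf (S : Subgroup G) with hZJ
  set Z₀ := (S : Subgroup G) ⊓ Subgroup.centralizer ((S : Subgroup G) : Set G) with hZ₀
  by_cases hall : ∀ A, MaxAb (S : Subgroup G) A → A ≤ Cfsg.pCore p G
  · haveI : ZJ.Normal := zj_normal_of_le S hall
    by_cases hM : Subgroup.centralizer (ZJ : Set G) ≤ M
    · right
      haveI := Fitting.pCore_normal (G := G) p
      have e : (S : Subgroup G) ⊓ Subgroup.centralizer (ZJ : Set G) =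
          Cfsg.pCore p G ⊓ Subgroup.centralizer (ZJ : Set G) :=
        le_antisymm (le_inf ((inf_comm _ _).le.trans (normal_le st Subgroup.normal_centralizer hM))
          inf_le_right) (inf_le_inf_right _ (pCore_le S))
      rw [e]
      infer_instance
    left
    refine normal_of_fixed st hM (inf_le_right.trans inf_le_right) (Subgroup.centralizer_le (SetLike.coe_subset_coe.2 ?_))
    exact inf_le_left.trans (Subgroup.commutator_le_left ZJ (S : Subgroup G))
  push Not at hall
  obtain ⟨A₀, hA₀, hA₀Q⟩ := hall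
  left
  by_cases hV : Subgroup.centralizer ((Subgroup.normalClosure (Z₀ : Set G) : Subgroup G) : Set G) ≤ M
  · obtain ⟨-, -, C, hC, hCzj, hCM, hdec⟩ := structure_thm st hA₀ hA₀Q hV
    haveI := hC
    refine normal_of_fixed st hCM (inf_le_right.trans inf_le_right)
      (Subgroup.centralizer_le (SetLike.coe_subset_coe.2 (inf_le_left.trans ?_)))
    refine Subgroup.commutator_le.2 fun z hz s hs => ?_
    obtain ⟨w, c, hc, rfl, hw⟩ := hdec z hz
    have e : ⁅w * c, s⁆ = w * (c * (s * c⁻¹ * s⁻¹)) * w⁻¹ := by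
      have h := ((hw s hs).inv_left.inv_right).eq
      calc ⁅w * c, s⁆ = w * c * s * c⁻¹ * (w⁻¹ * s⁻¹) := by rw [commutatorElement_def]; group
        _ = w * c * s * c⁻¹ * (s⁻¹ * w⁻¹) := by rw [h]
        _ = _ := by group
    rw [e]
    exact hC.conj_mem _ (mul_mem hc (hC.conj_mem _ (inv_mem hc) s)) w
  · exact normal_of_fixed st hV (inf_le_right.trans inf_le_right)
      (Subgroup.centralizer_le (SetLike.coe_subset_coe.2
        ((inf_le_right : _ ≤ Z₀).trans Subgroup.le_normalClosure)))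

end Cfsg.Agent.S2769
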