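import Cfsg.Statements.S2770
import Cfsg.Agent.Lib.SL2Module.Baumann

set_option autoImplicit false
open Cfsg

namespace Cfsg.Agent.S2770

open CfsgLib CfsgLib.SL2Module.Baumann
open scoped commutatorElement

/-- Let G be a finite group and p a prime with C_G(O_p(G)) ≤ O_p(G), S a Sylow p-subgroup lying in exactly one maximal subgroup of G, and G/K ≅ PSL₂(p^n) for some normal K and n ≥ 1. If Z(S) is not elementary abelian, then either ℧¹(Z(S)) (the subgroup generated by the p-th powers of the elements of Z(S)) is normal in G or C_S(Z(J(S))) is normal in G, J(S) being generated by the abelian subgroups of S of largest order. -/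
theorem result {G : Type*} [Group G] [Finite G] {p : ℕ} [Fact p.Prime] (S : Sylow p G) (hE₁ : Subgroup.centralizer (Cfsg.pCore p G : Set G) ≤ Cfsg.pCore p G) (hE₂ : ∃! M : Subgroup G, IsCoatom M ∧ (S : Subgroup G) ≤ M) (K : Subgroup G) [K.Normal] (F : Type) [Field F] [Fintype F] (n : ℕ) (hn : 1 ≤ n) (hF : Fintype.card F = p ^ n) (hE₃ : Nonempty (G ⧸ K ≃* Matrix.ProjectiveSpecialLinearGroup (Fin 2) F)) (h : ¬ Cfsg.IsElementaryAbelian p ((S : Subgroup G) ⊓ Subgroup.centralizer ((S : Subgroup G) : Set G))) : (Cfsg.powerClosure p 1 ((S : Subgroup G) ⊓ Subgroup.centralizer ((S : Subgroup G) : Set G))).Normal ∨ (((S : Subgroup G) ⊓ Subgroup.centralizer (Cfsg.centerThompsonAOf (S : Subgroup G) : Set G))).Normal := by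
  haveI : CharP F p := charP_of_card n hF
  obtain ⟨M, π, st⟩ := exists_setting (F := F) S hE₁ hE₂ K hE₃
  set ZJ := Cfsg.centerThompsonAOf (S : Subgroup G) with hZJ
  set Z₀ := (S : Subgroup G) ⊓ Subgroup.centralizer ((S : Subgroup G) : Set G) with hZ₀
  have hPle : Cfsg.powerClosure p 1 Z₀ ≤ Z₀ := (Subgroup.closure_le _).2 (by
    rintro _ ⟨x, hx, rfl⟩
    exact pow_mem hx _)
  by_cases hall : ∀ A, MaxAb (S : Subgroup G) A → A ≤ Cfsg.pCore p G
  · haveI : ZJ.Normal := zj_normal_of_le S hall
    by_cases hM : Subgroup.centralizer (ZJ : Set G) ≤ M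
    · right
      haveI := Fitting.pCore_normal (G := G) p
      have e : (S : Subgroup G) ⊓ Subgroup.centralizer (ZJ : Set G) =
          Cfsg.pCore p G ⊓ Subgroup.centralizer (ZJ : Set G) :=
        le_antisymm (le_inf ((inf_comm _ _).le.trans (normal_le st Subgroup.normal_centralizer hM))
          inf_le_right) (inf_le_inf_right _ (pCore_le S))
      rw [e]
      infer_instance
    left
    refine normal_of_fixed st hM (hPle.trans inf_le_right) (Subgroup.centralizer_le (SetLike.coe_subset_coe.2 ?_))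
    exact hPle.trans fun z hz => mem_zj (Subgroup.mem_inf.1 hz).1 fun A hA a ha =>
      (Subgroup.mem_centralizer_iff.1 (Subgroup.mem_inf.1 hz).2 a (hA.1 ha)).symm
  push Not at hall
  obtain ⟨A₀, hA₀, hA₀Q⟩ := hall
  left
  by_cases hV : Subgroup.centralizer ((Subgroup.normalClosure (Z₀ : Set G) : Subgroup G) : Set G) ≤ M
  · obtain ⟨hpow, -⟩ := structure_thm st hA₀ hA₀Q hV
    have hc : Cfsg.powerClosure p 1 Z₀ ≤ Subgroup.center G := (Subgroup.closure_le _).2 (by
      rintro _ ⟨x, hx, rfl⟩
      refine Subgroup.mem_center_iff.2 fun g => ?_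
      rw [pow_one]
      exact (hpow x hx g).symm.eq)
    exact ⟨fun x hx g => by
      rw [Subgroup.mem_center_iff.1 (hc hx) g, mul_inv_cancel_right]
      exact hx⟩
  · exact normal_of_fixed st hV (hPle.trans inf_le_right)
      (Subgroup.centralizer_le (SetLike.coe_subset_coe.2 (hPle.trans Subgroup.le_normalClosure)))

end Cfsg.Agent.S2770
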