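import Cfsg.Statements.S3005
import Cfsg.Agent.Lib.CD.Basic

set_option autoImplicit false
set_option linter.style.haveILetI false
set_option linter.unusedVariables false
open scoped Pointwise
open Cfsg

namespace Cfsg.Agent.S3005

/-- Let P be a finite p-group; call R ≤ P centrally large if |R|·|Z(R)| is as large as possible among subgroups of P, and measure-largest if |R|·|C_P(R)| is as large as possible. Then: a centrally large Q is measure-largest with C_P(Q) = Z(Q); a measure-largest Q is centrally large if and only if C_P(Q) ≤ Q; if Q and R are centrally large then QR = RQ is a centrally large subgroup; and the subgroups generated by all centrally large subgroups, respectively by all minimal centrally large subgroups, are themselves centrally large. -/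
theorem result {p : ℕ} [Fact p.Prime] (P : Type*) [Group P] [Finite P] (hP : IsPGroup p P) : (∀ Q : Subgroup P, Cfsg.IsCentrallyLarge Q → Cfsg.IsCentralizerLarge Q ∧ Subgroup.centralizer (Q : Set P) = Q ⊓ Subgroup.centralizer (Q : Set P)) ∧ (∀ Q : Subgroup P, Cfsg.IsCentralizerLarge Q → (Cfsg.IsCentrallyLarge Q ↔ Subgroup.centralizer (Q : Set P) ≤ Q)) ∧ (∀ Q R : Subgroup P, Cfsg.IsCentrallyLarge Q → Cfsg.IsCentrallyLarge R → ((Q ⊔ R : Subgroup P) : Set P) = (Q : Set P) * (R : Set P) ∧ Cfsg.IsCentrallyLarge (Q ⊔ R)) ∧ Cfsg.IsCentrallyLarge (Cfsg.centrallyLargeJoin P) ∧ Cfsg.IsCentrallyLarge (Cfsg.minimalCentrallyLargeJoin P) := by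
  have hcl : ∀ Q : Subgroup P, Cfsg.IsCentrallyLarge Q ↔
      Cfsg.IsCentralizerLarge Q ∧ Subgroup.centralizer (Q : Set P) ≤ Q :=
    fun Q => CfsgLib.CD.centrallyLarge_iff
  obtain ⟨R, hR, hRC⟩ := CfsgLib.CD.exists_large_containing_centralizer (P := P)
  have hne : {Q : Subgroup P | Cfsg.IsCentrallyLarge Q}.Nonempty := ⟨R, (hcl R).mpr ⟨hR, hRC⟩⟩
  refine ⟨fun Q hQ => ⟨((hcl Q).mp hQ).1, (inf_eq_right.mpr ((hcl Q).mp hQ).2).symm⟩,
    fun Q hQ => ⟨fun h => ((hcl Q).mp h).2, fun h => (hcl Q).mpr ⟨hQ, h⟩⟩,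
    fun Q R hQ hR => ⟨(CfsgLib.CD.large_pair ((hcl Q).mp hQ).1 ((hcl R).mp hR).1).2.2.1,
      CfsgLib.CD.centrallyLarge_sup hQ hR⟩,
    CfsgLib.CD.centrallyLarge_sSup hne fun Q hQ => hQ, ?_⟩
  obtain ⟨M, hM, hmin⟩ := (Set.toFinite {Q : Subgroup P | Cfsg.IsCentrallyLarge Q}).exists_minimal hne
  exact CfsgLib.CD.centrallyLarge_sSup
    ⟨M, hM, fun R' hR' hcl' => le_antisymm hR' (hmin hcl' hR')⟩ fun Q hQ => hQ.1

end Cfsg.Agent.S3005
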