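import Cfsg.Statements.S2762
import Cfsg.Agent.Lib.SL2.Dickson
import Cfsg.Agent.Lib.Fitting.Basic

set_option autoImplicit false
open Cfsg
open scoped MatrixGroups
set_option linter.style.haveILetI false

namespace Cfsg.Agent.S2762

variable {F : Type*} [Field F]

/-- The affine map `x ↦ g x + v`. -/
def aff (g : SL(2, F)) (v : Fin 2 → F) : SL(3, F) :=
  ⟨!![g.1 0 0, g.1 0 1, v 0; g.1 1 0, g.1 1 1, v 1; 0, 0, 1], by
    rw [Matrix.det_fin_three]
    have := g.2
    rw [Matrix.det_fin_two] at this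
    simp
    linear_combination this⟩

theorem aff_coe (g : SL(2, F)) (v : Fin 2 → F) :
    (aff g v).1 = !![g.1 0 0, g.1 0 1, v 0; g.1 1 0, g.1 1 1, v 1; 0, 0, 1] := rfl

theorem aff_mul (g h : SL(2, F)) (v w : Fin 2 → F) :
    aff g v * aff h w = aff (g * h) (v + g.1.mulVec w) := by
  refine Matrix.SpecialLinearGroup.ext _ _ fun i j => ?_
  fin_cases i <;> fin_cases j <;>
    simp [aff_coe, Matrix.mul_apply, Fin.sum_univ_three, Fin.sum_univ_two, Matrix.mulVec, dotProduct, Matrix.vecHead, Matrix.vecTail] <;>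
    ring

theorem aff_one : aff (1 : SL(2, F)) 0 = 1 := by
  refine Matrix.SpecialLinearGroup.ext _ _ fun i j => ?_
  fin_cases i <;> fin_cases j <;> simp [aff_coe]

/-- The affine group. -/
def affGroup (F : Type*) [Field F] : Subgroup SL(3, F) where
  carrier := {M | ∃ g v, aff g v = M}
  one_mem' := ⟨1, 0, aff_one⟩
  mul_mem' := by
    rintro _ _ ⟨g, v, rfl⟩ ⟨h, w, rfl⟩
    exact ⟨_, _, (aff_mul g h v w).symm⟩
  inv_mem' := by
    rintro _ ⟨g, v, rfl⟩
    refine ⟨g⁻¹, -(g⁻¹.1.mulVec v), eq_inv_of_mul_eq_one_left ?_⟩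
    rw [aff_mul, inv_mul_cancel, neg_add_cancel, aff_one]

theorem qdOver_eq (F : Type*) [Field F] : Cfsg.qdOver F = affGroup F := by
  refine le_antisymm ((Subgroup.closure_le _).mpr fun M hM => ?_) ?_
  · obtain ⟨h0, h1, h2⟩ := hM
    have hd := M.2
    rw [Matrix.det_fin_three, h0, h1, h2] at hd
    refine ⟨⟨!![M.1 0 0, M.1 0 1; M.1 1 0, M.1 1 1], by
      rw [Matrix.det_fin_two_of]; linear_combination hd⟩, ![M.1 0 2, M.1 1 2],
      Matrix.SpecialLinearGroup.ext _ _ fun i j => ?_⟩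
    show (!![M.1 0 0, M.1 0 1, M.1 0 2; M.1 1 0, M.1 1 1, M.1 1 2; 0, 0, 1] :
      Matrix (Fin 3) (Fin 3) F) i j = M.1 i j
    fin_cases i <;> fin_cases j <;> simp [h0, h1, h2]
  · rintro _ ⟨g, v, rfl⟩
    exact Subgroup.subset_closure ⟨by simp [aff_coe], by simp [aff_coe], by simp [aff_coe]⟩

/-- Elements of `qdOver F`. -/
def el (g : SL(2, F)) (v : Fin 2 → F) : ↥(Cfsg.qdOver F) :=
  ⟨aff g v, (qdOver_eq F).symm ▸ ⟨g, v, rfl⟩⟩

theorem el_coe (g : SL(2, F)) (v : Fin 2 → F) :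
    ((el g v : ↥(Cfsg.qdOver F)) : SL(3, F)).1 =
      !![g.1 0 0, g.1 0 1, v 0; g.1 1 0, g.1 1 1, v 1; 0, 0, 1] := rfl

theorem el_mul (g h : SL(2, F)) (v w : Fin 2 → F) :
    el g v * el h w = el (g * h) (v + g.1.mulVec w) := Subtype.ext (aff_mul g h v w)

theorem el_one : el (1 : SL(2, F)) 0 = 1 := Subtype.ext aff_one

theorem el_inv (g : SL(2, F)) (v : Fin 2 → F) : (el g v)⁻¹ = el g⁻¹ (-(g⁻¹.1.mulVec v)) := by
  refine inv_eq_of_mul_eq_one_left ?_
  rw [el_mul, inv_mul_cancel, neg_add_cancel, el_one]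

theorem el_surj (x : ↥(Cfsg.qdOver F)) : ∃ g v, el g v = x := by
  obtain ⟨g, v, h⟩ := (qdOver_eq F ▸ x.2 : (x : SL(3, F)) ∈ affGroup F)
  exact ⟨g, v, Subtype.ext h⟩

/-- The linear part, as a function. -/
def prFun (x : ↥(Cfsg.qdOver F)) : SL(2, F) :=
  ⟨!![(x : SL(3, F)).1 0 0, (x : SL(3, F)).1 0 1; (x : SL(3, F)).1 1 0, (x : SL(3, F)).1 1 1], by
    obtain ⟨g, v, rfl⟩ := el_surj x
    rw [Matrix.det_fin_two_of]
    simpa [el_coe] using CfsgLib.SL2.det_eq g⟩

theorem prFun_el (g : SL(2, F)) (v : Fin 2 → F) : prFun (el g v) = g := by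
  apply Subtype.ext
  ext i j
  fin_cases i <;> fin_cases j <;> rfl

/-- The linear part. -/
def pr : ↥(Cfsg.qdOver F) →* SL(2, F) where
  toFun := prFun
  map_one' := by rw [← el_one, prFun_el]
  map_mul' x y := by
    obtain ⟨g, v, rfl⟩ := el_surj x
    obtain ⟨h, w, rfl⟩ := el_surj y
    rw [el_mul, prFun_el, prFun_el, prFun_el]

theorem pr_el (g : SL(2, F)) (v : Fin 2 → F) : pr (el g v) = g := prFun_el g v

theorem pCore_SL2_eq_bot [Fintype F] (p : ℕ) [Fact p.Prime] [CharP F p] :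
    Cfsg.pCore p SL(2, F) = ⊥ := by
  haveI hn := CfsgLib.Fitting.pCore_normal (G := SL(2, F)) p
  obtain ⟨P⟩ := (inferInstance : Nonempty (Sylow p SL(2, F)))
  obtain ⟨k, hk⟩ := CfsgLib.SL2.exists_conj_upperSL p P
  have hup : ∀ x ∈ Cfsg.pCore p SL(2, F), ∃ b, CfsgLib.SL2.upperHom b = x := by
    intro x hx
    have h1 : k * x * k⁻¹ ∈ (P : Subgroup SL(2, F)) :=
      IsPGroup.le_sylow_of_normal (CfsgLib.Fitting.pCore_isPGroup p) P (hn.conj_mem x hx k)
    rw [hk] at h1
    obtain ⟨_, ⟨b, rfl⟩, hb⟩ := h1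
    exact ⟨b, (MulAut.conj k).injective hb⟩
  rw [Subgroup.eq_bot_iff_forall]
  intro x hx
  obtain ⟨b, rfl⟩ := hup x hx
  let w : SL(2, F) := ⟨!![0, -1; 1, 0], by simp [Matrix.det_fin_two_of]⟩
  obtain ⟨c, hc⟩ := hup _ (hn.conj_mem _ hx w)
  have h10 := (CfsgLib.SL2.conj_up_entries w b.toAdd).1
  change (w * CfsgLib.SL2.upperHom b * w⁻¹).1 1 0 = _ at h10
  rw [← hc, CfsgLib.SL2.upperHom_coe] at h10
  have hb : b.toAdd = 0 := by simpa [w] using h10.symm
  rw [show b = 1 from hb, map_one]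


/-- Structure of Qd over a finite field F of characteristic p (the affine subgroup of SL₃(F)): its largest normal p-subgroup is the group of translations (matrices with upper-left block the identity), the block-diagonal matrices form a complement isomorphic to SL₂(F), and the translation subgroup is a natural SL₂(F)-module for that complement. -/
theorem result {F : Type*} [Field F] [Fintype F] {p : ℕ} [Fact p.Prime] [CharP F p] : (∀ M : ↥(Cfsg.qdOver F), M ∈ Cfsg.pCore p ↥(Cfsg.qdOver F) ↔ ((M : Matrix.SpecialLinearGroup (Fin 3) F) : Matrix (Fin 3) (Fin 3) F) 0 0 = 1 ∧ ((M : Matrix.SpecialLinearGroup (Fin 3) F) : Matrix (Fin 3) (Fin 3) F) 0 1 = 0 ∧ ((M : Matrix.SpecialLinearGroup (Fin 3) F) : Matrix (Fin 3) (Fin 3) F) 1 0 = 0 ∧ ((M : Matrix.SpecialLinearGroup (Fin 3) F) : Matrix (Fin 3) (Fin 3) F) 1 1 = 1) ∧ ∃ K : Subgroup ↥(Cfsg.qdOver F), (∀ M : ↥(Cfsg.qdOver F), M ∈ K ↔ ((M : Matrix.SpecialLinearGroup (Fin 3) F) : Matrix (Fin 3) (Fin 3) F)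 0 2 = 0 ∧ ((M : Matrix.SpecialLinearGroup (Fin 3) F) : Matrix (Fin 3) (Fin 3) F) 1 2 = 0) ∧ K ⊓ Cfsg.pCore p ↥(Cfsg.qdOver F) = ⊥ ∧ K ⊔ Cfsg.pCore p ↥(Cfsg.qdOver F) = ⊤ ∧ Nonempty (↥K ≃* Matrix.SpecialLinearGroup (Fin 2) F) ∧ Cfsg.IsNaturalSL2Module F (Cfsg.pCore p ↥(Cfsg.qdOver F)) K := by
  classical
  have hpr : Function.Surjective (pr (F := F)) := fun g => ⟨el g 0, pr_el g 0⟩
  have hker : ∀ x : ↥(Cfsg.qdOver F), x ∈ (pr (F := F)).ker ↔ ∃ v, el 1 v = x := by
    intro x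
    obtain ⟨g, v, rfl⟩ := el_surj x
    rw [MonoidHom.mem_ker, pr_el]
    constructor
    · rintro rfl; exact ⟨v, rfl⟩
    · rintro ⟨w, hw⟩
      have := congrArg pr hw
      rwa [pr_el, pr_el, eq_comm] at this
  have hcore : Cfsg.pCore p ↥(Cfsg.qdOver F) = (pr (F := F)).ker := by
    refine le_antisymm ?_ (CfsgLib.Fitting.le_pCore inferInstance ?_)
    · rw [← Subgroup.map_eq_bot_iff, ← le_bot_iff, ← pCore_SL2_eq_bot (F := F) p]
      exact CfsgLib.Fitting.le_pCore ((CfsgLib.Fitting.pCore_normal p).map _ hpr)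
        ((CfsgLib.Fitting.pCore_isPGroup p).map _)
    · rintro ⟨x, hx⟩
      obtain ⟨v, rfl⟩ := (hker x).mp hx
      refine ⟨1, Subtype.ext ?_⟩
      rw [pow_one]
      have hpow : ∀ m : ℕ, (el (1 : SL(2, F)) v) ^ m = el 1 ((m : F) • v) := by
        intro m
        induction m with
        | zero => simp [el_one]
        | succ m ih =>
          rw [pow_succ, ih, el_mul, mul_one, Matrix.SpecialLinearGroup.coe_one, Matrix.one_mulVec]
          congr 1
          push_cast
          rw [add_smul, one_smul]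
      rw [Subgroup.coe_pow, hpow, CharP.cast_eq_zero, zero_smul, el_one]
      rfl
  have hT : ∀ M : ↥(Cfsg.qdOver F), M ∈ Cfsg.pCore p ↥(Cfsg.qdOver F) ↔
      (M : SL(3, F)).1 0 0 = 1 ∧ (M : SL(3, F)).1 0 1 = 0 ∧ (M : SL(3, F)).1 1 0 = 0 ∧
        (M : SL(3, F)).1 1 1 = 1 := by
    intro M
    rw [hcore, hker]
    constructor
    · rintro ⟨v, rfl⟩; simp [el_coe]
    · rintro ⟨h00, h01, h10, h11⟩
      obtain ⟨g, v, rfl⟩ := el_surj M
      refine ⟨v, ?_⟩
      rw [show g = 1 from CfsgLib.SL2.ext2 (by simpa [el_coe] using h00) (by simpa [el_coe] using h01)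
        (by simpa [el_coe] using h10) (by simpa [el_coe] using h11)]
  let emb : SL(2, F) →* ↥(Cfsg.qdOver F) :=
    { toFun := fun g => el g 0
      map_one' := el_one
      map_mul' := fun g h => by rw [el_mul, Matrix.mulVec_zero, add_zero] }
  have hembinj : Function.Injective emb := fun g h e => by
    have := congrArg pr e
    change pr (el g 0) = pr (el h 0) at this
    rwa [pr_el, pr_el] at this
  refine ⟨hT, emb.range, fun M => ?_, ?_, ?_, ⟨(MonoidHom.ofInjective hembinj).symm⟩, ?_⟩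
  · constructor
    · rintro ⟨g, rfl⟩
      exact ⟨by simp [emb, el_coe], by simp [emb, el_coe]⟩
    · rintro ⟨h02, h12⟩
      obtain ⟨g, v, rfl⟩ := el_surj M
      refine ⟨g, ?_⟩
      have hv : v = 0 := by
        funext i
        fin_cases i
        · simpa [el_coe] using h02
        · simpa [el_coe] using h12
      rw [hv]
      rfl
  · rw [Subgroup.eq_bot_iff_forall]
    rintro x ⟨⟨g, rfl⟩, hx⟩
    rw [hcore] at hx
    have hg : g = 1 := (pr_el g 0).symm.trans hx
    rw [hg, map_one]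
  · rw [eq_top_iff]
    intro x _
    obtain ⟨g, v, rfl⟩ := el_surj x
    have e : el g v = el g 0 * el 1 (g⁻¹.1.mulVec v) := by
      rw [el_mul, mul_one, zero_add, Matrix.mulVec_mulVec, ← Matrix.SpecialLinearGroup.coe_mul,
        mul_inv_cancel, Matrix.SpecialLinearGroup.coe_one, Matrix.one_mulVec]
    rw [e]
    exact Subgroup.mul_mem_sup ⟨g, rfl⟩ (by rw [hcore, hker]; exact ⟨_, rfl⟩)
  · haveI := CfsgLib.Fitting.pCore_normal (G := ↥(Cfsg.qdOver F)) p
    set V := Cfsg.pCore p ↥(Cfsg.qdOver F) with hV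
    have hVel : ∀ x : V, ∃ v, el (1 : SL(2, F)) v = (x : ↥(Cfsg.qdOver F)) := fun x =>
      (hker _).mp (hcore ▸ x.2)
    let ψ : Additive V ≃+ (Fin 2 → F) :=
      { toFun := fun x => ![((Additive.toMul x : V) : ↥(Cfsg.qdOver F)).1.1 0 2,
          ((Additive.toMul x : V) : ↥(Cfsg.qdOver F)).1.1 1 2]
        invFun := fun v => Additive.ofMul ⟨el 1 v, by rw [hcore, hker]; exact ⟨v, rfl⟩⟩
        left_inv := fun x => by
          obtain ⟨v, hv⟩ := hVel (Additive.toMul x)
          apply Additive.toMul.injective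
          apply Subtype.ext
          simp only [toMul_ofMul, ← hv]
          congr 1
          funext i
          fin_cases i <;> simp [el_coe]
        right_inv := fun v => by
          funext i
          fin_cases i <;> simp [el_coe]
        map_add' := fun x y => by
          obtain ⟨v, hv⟩ := hVel (Additive.toMul x)
          obtain ⟨w, hw⟩ := hVel (Additive.toMul y)
          simp only [toMul_add, Subgroup.coe_mul, ← hv, ← hw]
          rw [← Subgroup.coe_mul, el_mul]
          funext i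
          fin_cases i <;> simp [el_coe] }
    refine ⟨Subgroup.le_normalizer_of_normal, pr.comp emb.range.subtype, ψ, ?_, ?_, ?_⟩
    · intro g
      exact ⟨⟨emb g, g, rfl⟩, pr_el g 0⟩
    · ext ⟨l, g, rfl⟩
      rw [MonoidHom.mem_ker, Subgroup.mem_subgroupOf, Subgroup.mem_centralizer_iff]
      change pr (el g 0) = 1 ↔ ∀ y ∈ (V : Set _), y * el g 0 = el g 0 * y
      rw [pr_el]
      constructor
      · rintro rfl y _
        rw [el_one, one_mul, mul_one]
      · intro h
        have hfix : ∀ v : Fin 2 → F, g.1.mulVec v = v := by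
          intro v
          have h1 := h (el 1 v) (by rw [SetLike.mem_coe, hcore, hker]; exact ⟨v, rfl⟩)
          rw [el_mul, el_mul, one_mul, mul_one, Matrix.SpecialLinearGroup.coe_one, Matrix.one_mulVec,
            add_zero, zero_add] at h1
          have h2 := congrArg (fun z : ↥(Cfsg.qdOver F) => ((z : SL(3, F)).1 0 2, (z : SL(3, F)).1 1 2)) h1
          funext i
          fin_cases i
          · simpa [el_coe] using (congrArg Prod.fst h2).symm
          · simpa [el_coe] using (congrArg Prod.snd h2).symm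
        exact CfsgLib.SL2.ext2 (by simpa [Matrix.mulVec, dotProduct, Fin.sum_univ_two] using congrFun (hfix ![1, 0]) 0)
          (by simpa [Matrix.mulVec, dotProduct, Fin.sum_univ_two] using congrFun (hfix ![0, 1]) 0)
          (by simpa [Matrix.mulVec, dotProduct, Fin.sum_univ_two] using congrFun (hfix ![1, 0]) 1)
          (by simpa [Matrix.mulVec, dotProduct, Fin.sum_univ_two] using congrFun (hfix ![0, 1]) 1)
    · rintro ⟨l, g, rfl⟩ v
      refine ⟨⟨emb g * v * (emb g)⁻¹, (inferInstance : V.Normal).conj_mem _ v.2 _⟩, rfl, ?_⟩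
      obtain ⟨w, hw⟩ := hVel v
      have hconj : emb g * (v : ↥(Cfsg.qdOver F)) * (emb g)⁻¹ = el 1 (g.1.mulVec w) := by
        rw [← hw]
        change el g 0 * el 1 w * (el g 0)⁻¹ = _
        rw [mul_inv_eq_iff_eq_mul, el_mul, el_mul, mul_one, one_mul, Matrix.SpecialLinearGroup.coe_one,
          Matrix.one_mulVec, add_zero, zero_add]
      have h1 : ψ (Additive.ofMul v) = w := by
        funext i
        fin_cases i <;> simp [ψ, ← hw, el_coe]
      have h3 : (pr.comp emb.range.subtype) ⟨emb g, g, rfl⟩ = g := pr_el g 0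
      rw [h1, h3]
      funext i
      fin_cases i <;> simp [ψ, hconj, el_coe]

end Cfsg.Agent.S2762
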