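import Cfsg.Statements.S2331
import Cfsg.Agent.Lib.SL2.Conj

set_option autoImplicit false
open Cfsg

namespace Cfsg.Agent.S2331

/-- Over a finite field with q elements, q even, the special linear group SL₂ has exactly q + 1 conjugacy classes. -/
theorem result {F : Type*} [Field F] [Fintype F] [CharP F 2] :
    Nat.card (ConjClasses (Matrix.SpecialLinearGroup (Fin 2) F)) = Fintype.card F + 1 := by
  classical
  set G := Matrix.SpecialLinearGroup (Fin 2) F
  have hone : ∀ g : G, g ≠ 1 → CfsgLib.SL2.NonScalar (g : Matrix (Fin 2) (Fin 2) F) := by
    intro g hg
    by_contra hn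
    apply hg
    rcases CfsgLib.SL2.eq_one_or_neg_one_of_not_nonScalar g hn with h | h
    · exact Subtype.ext h
    · apply Subtype.ext
      rw [h]
      ext i j
      fin_cases i <;> fin_cases j <;> simp [CharTwo.neg_eq]
  let f : ConjClasses G → Option F := Quotient.lift
    (fun g : G => if g = 1 then none else some (g : Matrix (Fin 2) (Fin 2) F).trace) (by
      intro a b hab
      obtain ⟨c, rfl⟩ := isConj_iff.mp hab
      by_cases ha : a = 1
      · simp [ha]
      · have hb : c * a * c⁻¹ ≠ 1 := fun h => ha (conj_eq_one_iff.mp h)
        simp only [if_neg ha, if_neg hb]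
        congr 1
        exact (CfsgLib.SL2.trace_conj c a).symm)
  have hf : Function.Bijective f := by
    constructor
    · intro x y
      refine Quotient.inductionOn₂ x y fun a b h => ?_
      have h' : (if a = 1 then none else some (a : Matrix (Fin 2) (Fin 2) F).trace) =
          (if b = 1 then none else some (b : Matrix (Fin 2) (Fin 2) F).trace) := h
      refine Quotient.sound ?_
      show IsConj a b
      by_cases ha : a = 1
      · by_cases hb : b = 1
        · rw [ha, hb]
        · rw [if_pos ha, if_neg hb] at h'
          exact absurd h' (by simp)
      · by_cases hb : b = 1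
        · rw [if_neg ha, if_pos hb] at h'
          exact absurd h' (by simp)
        · rw [if_neg ha, if_neg hb, Option.some_inj] at h'
          obtain ⟨k, hk⟩ := CfsgLib.SL2.isConj_of_trace (hone a ha) (hone b hb) h'
            (Or.inr (ringChar.eq F 2))
          exact isConj_iff.mpr ⟨k, hk⟩
    · rintro (_ | t)
      · exact ⟨ConjClasses.mk 1, if_pos rfl⟩
      · refine ⟨ConjClasses.mk (CfsgLib.SL2.companion t), ?_⟩
        have hne : CfsgLib.SL2.companion t ≠ 1 := by
          intro h
          have := CfsgLib.SL2.companion_nonScalar t 1
          rw [h, one_smul] at this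
          exact this rfl
        show (if CfsgLib.SL2.companion t = 1 then none else some _) = some t
        rw [if_neg hne, CfsgLib.SL2.companion_trace]
  rw [Nat.card_eq_of_bijective f hf, Nat.card_eq_fintype_card, Fintype.card_option]

end Cfsg.Agent.S2331
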