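import Cfsg.Statements.S1127
import Cfsg.Agent.Lib.RankOne.Setup

set_option autoImplicit false
set_option linter.style.haveILetI false
open Cfsg

namespace Cfsg.Agent.S1127

open MulAction CfsgLib.RankOne

/-- In the rank-one set-up (`G` finite and doubly transitive on `Ω`, `t` an involution moving `a`, `Q` normal in `G_a` with `G_a = Q D`, `Q ⊓ D = 1` for the two-point stabiliser `D = G_a ⊓ G_{t • a}`, `|Q|` even, `|D|` odd): if `s` is an involution of `G_a` and `r ∈ Q` satisfy `t s t = r⁻¹ t r`, then `C_D(t) = C_D(s)`; moreover `C_D(t) ⊓ C_D(K) = C_D(I ∩ G_a)`, where `K` is the set of elements of `D` inverted by `t` and `I ∩ G_a` the set of involutions of `G_a`. -/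
theorem result {G Ω : Type*} [Group G] [Finite G] [MulAction G Ω] {a : Ω} {t : G} {Q : Subgroup G}
    (hS : Cfsg.IsRankOneSetup G Ω a t Q) :
    (∀ s r : G, s ∈ Cfsg.involutionsIn (MulAction.stabilizer G a : Set G) → r ∈ Q → t * s * t = r⁻¹ * t * r →
        (MulAction.stabilizer G a ⊓ MulAction.stabilizer G (t • a)) ⊓ Subgroup.centralizer {t} = (MulAction.stabilizer G a ⊓ MulAction.stabilizer G (t • a)) ⊓ Subgroup.centralizer {s}) ∧
      (MulAction.stabilizer G a ⊓ MulAction.stabilizer G (t • a)) ⊓ Subgroup.centralizer {t} ⊓ Subgroup.centralizer (Cfsg.invertedBy (MulAction.stabilizer G a ⊓ MulAction.stabilizer G (t • a)) t) =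
        (MulAction.stabilizer G a ⊓ MulAction.stabilizer G (t • a)) ⊓ Subgroup.centralizer (Cfsg.involutionsIn (MulAction.stabilizer G a : Set G)) := by
  have hcomm : ∀ c ∈ MulAction.stabilizer G a ⊓ MulAction.stabilizer G (t • a),
      (c * strS hS = strS hS * c ↔ c * t = t * c) := by
    intro c hc
    refine ⟨fun h => ?_, fun h => comm_strS hS hc h⟩
    obtain ⟨c', i, hc', hct, hi, hit, rfl⟩ :=
      exists_decomp hS.mul_self hS.odd_card (fun x hx => conj_t_mem hS hx) hc
    have hct' : c' * t = t * c' := by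
      calc c' * t = t * c' * t * t := by rw [hct]
        _ = t * c' := by rw [mul_assoc _ t t, hS.mul_self, mul_one]
    have h1 := comm_strS hS hc' hct'
    have h2 : i * strS hS = strS hS * i := by
      refine mul_left_cancel (a := c') ?_
      rw [← mul_assoc, h, ← mul_assoc, ← h1, mul_assoc]
    have e : i = 1 := inj_strS hS ((inverted_iff hS).mpr ⟨hi, hit⟩) ((inverted_iff hS).mpr
      ⟨one_mem _, by rw [mul_one, hS.mul_self, inv_one]⟩) (by
        rw [inv_one, one_mul, mul_one, mul_assoc, ← h2, inv_mul_cancel_left])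
    rw [e, mul_one]
    exact hct'
  refine ⟨fun s r hs hr h => ?_, ?_⟩
  · obtain ⟨-, rfl⟩ := pair_unique hS hs.1 hr h
    ext c
    simp only [Subgroup.mem_inf, Subgroup.mem_centralizer_singleton_iff]
    exact and_congr_right fun hc => (hcomm c (Subgroup.mem_inf.mpr hc)).symm
  · ext c
    constructor
    · intro hc
      obtain ⟨hc1, hcK⟩ := Subgroup.mem_inf.mp hc
      obtain ⟨hcD, hct⟩ := Subgroup.mem_inf.mp hc1
      refine Subgroup.mem_inf.mpr ⟨hcD, fun s hs => ?_⟩
      obtain ⟨k, hk, rfl⟩ := transitive hS (strS_mem hS) hs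
      have a1 : Commute c k := (hcK k hk).symm
      have a2 : Commute c (strS hS) := (hcomm c hcD).mpr (Subgroup.mem_centralizer_singleton_iff.mp hct)
      exact ((a1.inv_right.mul_right a2).mul_right a1).eq.symm
    · intro hc
      obtain ⟨hcD, hcI⟩ := Subgroup.mem_inf.mp hc
      have h0 : c * strS hS = strS hS * c := (hcI _ (strS_mem hS)).symm
      have hct := (hcomm c hcD).mp h0
      refine Subgroup.mem_inf.mpr ⟨Subgroup.mem_inf.mpr ⟨hcD, Subgroup.mem_centralizer_singleton_iff.mpr hct⟩, fun k hk => ?_⟩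
      obtain ⟨hkD, hkt⟩ := (inverted_iff hS).mp hk
      have hk' : c * k * c⁻¹ ∈ Cfsg.invertedBy (MulAction.stabilizer G a ⊓ MulAction.stabilizer G (t • a)) t := by
        rw [inverted_iff hS]
        refine ⟨mul_mem (mul_mem hcD hkD) (inv_mem hcD), ?_⟩
        calc t * (c * k * c⁻¹) * t = (t * c) * k * (c⁻¹ * t) := by group
          _ = c * (t * k * t) * c⁻¹ := by
            rw [← hct, show c⁻¹ * t = t * c⁻¹ from (Commute.inv_left hct).eq]; group
          _ = (c * k * c⁻¹)⁻¹ := by rw [hkt]; group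
      have h1 := hcI _ (map_mem hS hkD.1 (strS_mem hS))
      have e : c * k * c⁻¹ = k := inj_strS hS hk' hk (by
        calc (c * k * c⁻¹)⁻¹ * strS hS * (c * k * c⁻¹) = c * k⁻¹ * (c⁻¹ * (strS hS * c)) * k * c⁻¹ := by group
          _ = c * (k⁻¹ * strS hS * k) * c⁻¹ := by rw [← h0, inv_mul_cancel_left]; group
          _ = k⁻¹ * strS hS * k := by rw [← h1, mul_inv_cancel_right])
      exact (mul_inv_eq_iff_eq_mul.mp e).symm

end Cfsg.Agent.S1127
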