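import Cfsg.Statements.S1237
import Cfsg.Agent.Lib.PGroup.UFourSylow

set_option autoImplicit false
set_option linter.style.haveILetI false
open Cfsg

namespace Cfsg.Agent.S1237

/-- Let T be a finite 2-group of 2-rank exactly 2 (it has a Klein four-subgroup but no elementary abelian subgroup of order 8) admitting an automorphism φ such that any two involutions of T are carried to one another by a power of φ. Then T ≅ Z_{2^n} × Z_{2^n} for some n ≥ 1, or T is isomorphic to a Sylow 2-subgroup of PSU(3) over the field with 16 elements. -/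
theorem result {T : Type*} [Group T] [Finite T] (hT : IsPGroup 2 T) (h2 : Cfsg.PRankLE 2 2 T) (h1 : ¬ Cfsg.PRankLE 2 1 T) (φ : MulAut T) (htrans : ∀ s t : T, orderOf s = 2 → orderOf t = 2 → ∃ k : ℕ, (φ ^ k) s = t) {F : Type*} [Field F] [Fintype F] (hF : Fintype.card F = 16) (P : Sylow 2 (Cfsg.PSU 3 F 4)) : (∃ n : ℕ, 1 ≤ n ∧ Nonempty (T ≃* Multiplicative (ZMod (2 ^ n) × ZMod (2 ^ n)))) ∨ Nonempty (T ≃* (P : Subgroup (Cfsg.PSU 3 F 4))) := by
  classical
  haveI : Fact (Nat.Prime 2) := ⟨Nat.prime_two⟩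
  obtain ⟨A, hAc, hA2, hA⟩ : ∃ A : Subgroup T, IsMulCommutative A ∧ (∀ a ∈ A, a ^ 2 = 1) ∧
      2 ^ 1 < Nat.card A := by
    unfold Cfsg.PRankLE at h1
    push Not at h1
    exact h1
  haveI : Nontrivial T := by
    rw [← Finite.one_lt_card_iff_nontrivial]
    have := A.card_le_card_group
    omega
  haveI := hT.center_nontrivial
  obtain ⟨i, hi0, hi⟩ := (hT.to_subgroup (Subgroup.center T)).nontrivial_iff_card.mp inferInstance
  obtain ⟨z, hz⟩ := exists_prime_orderOf_dvd_card' (G := Subgroup.center T) 2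
    (hi ▸ dvd_pow_self 2 hi0.ne')
  have hz' : orderOf (z : T) = 2 := by rw [Subgroup.orderOf_coe]; exact hz
  have hcen : ∀ v : T, v * v = 1 → ∀ g : T, g * v = v * g := by
    intro v hv g
    rcases eq_or_ne v 1 with rfl | hv1
    · simp
    obtain ⟨k, hk⟩ := htrans z v hz' (orderOf_eq_prime (by rw [pow_two, hv]) hv1)
    have h := congrArg (φ ^ k) (Subgroup.mem_center_iff.mp z.2 ((φ ^ k).symm g))
    simp only [map_mul, MulEquiv.apply_symm_apply, hk] at h
    exact h
  let W : Subgroup T :=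
    { carrier := {v | v * v = 1}
      one_mem' := one_mul 1
      mul_mem' := fun {a b} (ha : a * a = 1) (hb : b * b = 1) => by
        show a * b * (a * b) = 1
        rw [show a * b * (a * b) = a * (b * a) * b by group, hcen a ha b,
          show a * (a * b) * b = (a * a) * (b * b) by group, ha, hb, one_mul]
      inv_mem' := fun {a} (ha : a * a = 1) => by show a⁻¹ * a⁻¹ = 1; rw [← mul_inv_rev, ha, inv_one] }
  have hWc : IsMulCommutative W := ⟨⟨fun a b => Subtype.ext (hcen b b.2 a)⟩⟩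
  have hW4 : Nat.card W ≤ 2 ^ 2 := h2 W hWc fun a ha => (pow_two a).trans ha
  have hAW : A ≤ W := fun a ha => by show a * a = 1; rw [← pow_two]; exact hA2 a ha
  obtain ⟨j, hj⟩ := IsPGroup.iff_card.mp (hT.to_subgroup W)
  have hj2 : j = 2 := by
    have h3 := Subgroup.card_le_of_le hAW
    rw [hj] at hW4 h3
    have h4 := (Nat.pow_le_pow_iff_right (by norm_num)).mp hW4
    have h5 : 1 < j := (Nat.pow_lt_pow_iff_right (by norm_num)).mp (lt_of_lt_of_le hA h3)
    omega
  have h : CfsgLib.ThreeInvolutions.Three T := ⟨hT, hcen, by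
    have : Nat.card W = Nat.card {x : T // x * x = 1} := rfl
    rw [← this, hj, hj2]; norm_num⟩
  obtain ⟨ψ, t⟩ := CfsgLib.ThreeInvolutions.exists_tri h φ htrans
  by_cases hc : ∀ x y : T, x * y = y * x
  · obtain ⟨n, hn, ⟨e⟩⟩ := CfsgLib.ThreeInvolutions.homocyclic h t hc
    exact Or.inl ⟨n, hn, ⟨e.symm⟩⟩
  right
  push Not at hc
  obtain ⟨a, b, c, d, z', w, hr, hgen, -, -, -, hcard, hfour⟩ :=
    CfsgLib.ThreeInvolutions.exists_rel64 h t hc
  obtain ⟨e⟩ := Cfsg.Agent.S3663.exists_equiv hF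
  let P' : Sylow 2 CfsgLib.UThreeFour.G :=
    Sylow.ofCard ((P : Subgroup (Cfsg.PSU 3 F 4)).map e.toMonoidHom) (by
      rw [Subgroup.card_map_of_injective e.injective, P.card_eq_multiplicity, Nat.card_congr e.toEquiv])
  obtain ⟨f⟩ := CfsgLib.UFourSylow.equiv_sylow hr hgen hcard hfour P'
  refine ⟨f.trans ((MulEquiv.subgroupCongr (?_ : (P' : Subgroup CfsgLib.UThreeFour.G) =
    (P : Subgroup (Cfsg.PSU 3 F 4)).map e.toMonoidHom)).trans
    (e.subgroupMap (P : Subgroup (Cfsg.PSU 3 F 4))).symm)⟩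
  rfl

end Cfsg.Agent.S1237
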