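import Cfsg.Statements.S4914
import Cfsg.Agent.Lib.Char.RelGlauberman.Main

set_option linter.style.haveILetI false

set_option autoImplicit false
open Cfsg CfsgLib.Char CfsgLib.Char.RelGlauberman
open scoped CfsgLib.Char

namespace Cfsg.Agent.S4914

/-- Let P and K be subgroups of a finite group G with P a p-group normalizing K, and suppose K has a normal Sylow p-subgroup Q. Let C be the subgroup of those k ∈ K whose commutator with every element of P lies in Q (so that C/Q is the fixed-point subgroup of P on K/Q). Then there is a bijection f from the P-invariant irreducible complex characters of K onto the P-invariant irreducible complex characters of C such that, for every P-invariant irreducible character χ of K, the multiplicity of f(χ) in the restriction of χ to C is a natural number congruent to 1 or to −1 modulo p, every other P-invariant irreducible character of C occurs in that restriction with multiplicity divisible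 by p, and the degrees of χ and f(χ) are congruent modulo p up to sign. -/
theorem result {G : Type*} [Group G] [Finite G] (p : ℕ) [Fact p.Prime] (P K Q C : Subgroup G) (hP : IsPGroup p ↥P) (hPK : P ≤ Subgroup.normalizer (K : Set G)) (hQK : Q ≤ K) (hQn : ∀ k ∈ K, ∀ q ∈ Q, k * q * k⁻¹ ∈ Q) (hQp : ∃ a : ℕ, Nat.card ↥Q = p ^ a) (hQsyl : ¬ p ∣ Q.relIndex K) (hCK : C ≤ K) (hC : ∀ k : G, k ∈ C ↔ (k ∈ K ∧ ∀ x ∈ P, x * k * x⁻¹ * k⁻¹ ∈ Q)) : ∃ f : {χ : Cfsg.IrrCharacter ↥K // (∀ x ∈ P, ∀ k k' : ↥K, (k' : G) = x * (k : G) * x⁻¹ → (χ : ↥K → ℂ) k' = (χ : ↥K → ℂ) k)} → {ξ : Cfsg.IrrCharacter ↥C // (∀ x ∈ P, ∀ k k' : ↥C, (k' : G) = x * (k : G) * x⁻¹ → (ξ : ↥C → ℂ) k' = (ξ : ↥C → ℂ) k)}, Function.Bijective f ∧ ∀ χ, (∀ ξ : {ξ : Cfsg.IrrCharacter ↥C // (∀ x ∈ P, ∀ k k' : ↥C, (k' : G) = x * (k : G) * x⁻¹ → (ξ : ↥C → ℂ) k' = (ξ : ↥C → ℂ) k)}, ∃ m : ℕ, (Nat.card ↥C : ℂ)⁻¹ * ∑ᶠ c : ↥C, (χ.1 : ↥K → ℂ) (Subgroup.inclusion hCK c) * (starRingEnd ℂ) ((ξ.1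 : ↥C → ℂ) c) = (m : ℂ) ∧ (ξ = f χ → ((m : ZMod p) = 1 ∨ (m : ZMod p) = -1)) ∧ (ξ ≠ f χ → p ∣ m)) ∧ ((Cfsg.charDegree ((f χ).1 : ↥C → ℂ) : ZMod p) = (Cfsg.charDegree (χ.1 : ↥K → ℂ) : ZMod p) ∨ (Cfsg.charDegree ((f χ).1 : ↥C → ℂ) : ZMod p) = -(Cfsg.charDegree (χ.1 : ↥K → ℂ) : ZMod p)) := by
  classical
  haveI := Fintype.ofFinite G
  haveI := Fintype.ofFinite ↥K
  haveI := Fintype.ofFinite ↥C
  have hp : p.Prime := Fact.out
  have hKQ : K ≤ Subgroup.normalizer (Q : Set G) := fun k hk =>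
    Subgroup.mem_normalizer_iff.mpr fun q => ⟨fun hq => hQn k hk q hq, fun hq => by
      simpa [mul_assoc] using hQn k⁻¹ (K.inv_mem hk) _ hq⟩
  obtain ⟨a, ha⟩ := hQp
  -- `Q` contains every element of `p`-power order of `K`, so `P` normalises it
  have hPQ : P ≤ Subgroup.normalizer (Q : Set G) := by
    have key : ∀ x ∈ P, ∀ q ∈ Q, x * q * x⁻¹ ∈ Q := by
      intro x hx q hq
      have hy : x * q * x⁻¹ ∈ K := (Subgroup.mem_normalizer_iff.mp (hPK hx) q).mp (hQK hq)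
      haveI : (Q.subgroupOf K).Normal :=
        (Subgroup.normal_subgroupOf_iff_le_normalizer hQK).mpr hKQ
      have h1 : (⟨x * q * x⁻¹, hy⟩ : K) ^ Q.relIndex K ∈ Q.subgroupOf K :=
        Subgroup.pow_index_mem (Q.subgroupOf K) _
      have hd : orderOf (⟨x * q * x⁻¹, hy⟩ : K) ∣ p ^ a := by
        rw [← Subgroup.orderOf_coe, ← ha]
        show orderOf ((MulAut.conj x) q) ∣ _
        rw [MulEquiv.orderOf_eq]
        exact Subgroup.orderOf_dvd_natCard Q hq
      obtain ⟨m, hm⟩ := exists_pow_eq_self_of_coprime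
        (((hp.coprime_iff_not_dvd.mpr hQsyl).symm.pow_right a).coprime_dvd_right hd)
      have h2 := Subgroup.pow_mem _ h1 m
      rw [hm] at h2
      exact h2
    intro x hx
    exact Subgroup.mem_normalizer_iff.mpr fun q => ⟨key x hx q, fun hq => by
      simpa [mul_assoc] using key x⁻¹ (P.inv_mem hx) _ hq⟩
  have hC' : C = relFix K P Q hKQ := SetLike.ext hC
  obtain ⟨F, hF, hI⟩ :=
    hasRelCorr_of_isPGroup hp hQK hKQ hQsyl (Nat.card P) P rfl hPK hPQ hP C hCK hC'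
  have hPC : P ≤ Subgroup.normalizer (C : Set G) := hC' ▸
    fun y hy => relFix_conj_mem hKQ (hPK hy) (Subgroup.le_normalizer hy) (hPQ hy)
  refine ⟨F, hF, fun χ => ?_⟩
  have hres := Glauberman.isCharacter_res hCK (isCharacter_of_isIrr χ.1.2)
  obtain ⟨m, hm⟩ := exists_multiplicities hres
  have hmγ : ∀ γ : IrrCharacter ↥C,
      classInner (Glauberman.res hCK (χ.1 : ↥K → ℂ)) (γ : ↥C → ℂ) = m γ := fun γ => by
    rw [hm, classInner_sum_smul_irr]
  have hmod : ∀ γ : IrrCharacter ↥C, Glauberman.Inv C P (γ : ↥C → ℂ) →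
      (γ ≠ (F χ).1 → (m γ : ZMod p) = 0) ∧
      (γ = (F χ).1 → ((m γ : ZMod p) = 1 ∨ (m γ : ZMod p) = -1)) := by
    intro γ hγ
    obtain ⟨h1, h2⟩ := hI χ γ hγ (m γ) (hmγ γ)
    refine ⟨fun h => (ZMod.natCast_eq_zero_iff _ _).mpr (h1 h), fun h => (h2 h).imp ?_ ?_⟩ <;>
    · intro h3
      have := (ZMod.intCast_eq_intCast_iff _ _ p).mpr h3
      simpa using this
  refine ⟨fun ξ => ⟨m ξ.1, ?_, fun h => (hmod ξ.1 ξ.2).2 (congrArg Subtype.val h),
    fun h => (ZMod.natCast_eq_zero_iff _ _).mp ((hmod ξ.1 ξ.2).1 fun e => h (Subtype.ext e))⟩, ?_⟩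
  · rw [← hmγ ξ.1, finsum_eq_sum_of_fintype]
    rfl
  · choose d hd using fun γ : IrrCharacter ↥C => exists_nat_degree (isCharacter_of_isIrr γ.2)
    obtain ⟨D, hD⟩ := exists_nat_degree (isCharacter_of_isIrr χ.1.2)
    have hdeg : D = ∑ γ, m γ * d γ := by
      have h := congrFun hm 1
      simp only [Finset.sum_apply, Pi.smul_apply, smul_eq_mul, hd] at h
      have h' : (D : ℂ) = ∑ γ, (m γ : ℂ) * (d γ : ℂ) := by
        rw [← h, ← hD]
        exact congrArg (χ.1 : ↥K → ℂ) (Subtype.ext rfl)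
      exact_mod_cast h'
    have hcd : ∀ {H : Subgroup G} (f : ↥H → ℂ) (n : ℕ), f 1 = n → charDegree f = n := fun f n h => by
      rw [charDegree, h, Complex.natCast_re, Nat.floor_natCast]
    rw [hcd _ _ hD, hcd _ _ (hd (F χ).1), hdeg]
    have hf : ∀ (y : G) (hy : y ∈ P) (γ : IrrCharacter ↥C),
        m (conjChar γ (hPC hy)) * d (conjChar γ (hPC hy)) = m γ * d γ := by
      intro y hy γ
      congr 1
      · have h1 := classInner_conjChar hCK (χ := (χ.1 : ↥K → ℂ)) (hPK hy) (hPC hy) γ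
        rw [show (fun g => (χ.1 : ↥K → ℂ) (Glauberman.conjEquiv (hPK hy) g)) = (χ.1 : ↥K → ℂ) from
          funext fun g => χ.2 y hy _ _ rfl, hmγ, hmγ] at h1
        exact Nat.cast_injective h1
      · have h1 := hd (conjChar γ (hPC hy))
        rw [show (conjChar γ (hPC hy) : ↥C → ℂ) 1 = (γ : ↥C → ℂ) 1 from
          congrArg (γ : ↥C → ℂ) (Subtype.ext (by simp)), hd] at h1
        exact (Nat.cast_injective h1).symm
    have h0 := (ZMod.natCast_eq_zero_iff _ _).mpr (dvd_sum_not_inv hp hP hPC (fun γ => m γ * d γ) hf)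
    rw [← Finset.sum_filter_add_sum_filter_not Finset.univ
        (fun γ : IrrCharacter ↥C => Glauberman.Inv C P (γ : ↥C → ℂ)), Nat.cast_add, h0, add_zero,
      Nat.cast_sum, Finset.sum_eq_single (F χ).1]
    · rw [Nat.cast_mul]
      rcases (hmod _ (F χ).2).2 rfl with h | h <;> rw [h]
      · left; rw [one_mul]
      · right; rw [neg_one_mul, neg_neg]
    · intro γ hγ hne
      rw [Nat.cast_mul, (hmod γ (Finset.mem_filter.mp hγ).2).1 hne, zero_mul]
    · intro h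
      exact absurd (Finset.mem_filter.mpr ⟨Finset.mem_univ (F χ).1, (F χ).2⟩) h

end Cfsg.Agent.S4914
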