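import Cfsg.Statements.S3755
import Cfsg.Agent.Lib.PushUp.Key

set_option autoImplicit false
set_option linter.style.haveILetI false
open Cfsg

namespace Cfsg.Agent.S3755

open CfsgLib.PushUp (cd cd_mul cd_pos cd_mono_left cd_cj four_le_cd relIndex_two exists_inverted conj_fix_iff mem_centralizer_iff_conj centralizer_mono centralizer_fix_sq)
open Cfsg.Agent.S4022 (cj card_cj)
open Cfsg.Agent.S4270 (mem_normalizer_of_cj cj_of_mem_normalizer)

variable {X : Type*} [Group X] [Finite X]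

/-- An element of order three inverted by an involution gives a section `S₃`. -/
theorem involves_three {M : Subgroup X} {x d : X} (hx : x ∈ M) (hd : d ∈ M) (hxx : x * x = 1) (hx1 : x ≠ 1)
    (hd3 : d ^ 3 = 1) (hd1 : d ≠ 1) (hinv : x * d * x⁻¹ = d⁻¹) :
    Cfsg.Involves (Equiv.Perm (Fin 3)) ↥M := by
  classical
  haveI : Fact (Nat.Prime 3) := ⟨Nat.prime_three⟩
  haveI : Fact (Nat.Prime 2) := ⟨Nat.prime_two⟩
  have hod : orderOf d = 3 := orderOf_eq_prime hd3 hd1
  have hox : orderOf x = 2 := orderOf_eq_prime (by rw [pow_two, hxx]) hx1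
  set D := Subgroup.zpowers d with hD
  set T := Subgroup.zpowers x with hT
  have hTD : T ≤ Subgroup.normalizer (D : Set X) := Subgroup.zpowers_le.mpr (mem_normalizer_of_cj
    (Subgroup.eq_of_le_of_card_ge (by
      rw [cj, hD, MonoidHom.map_zpowers, Subgroup.zpowers_le]
      show x * d * x⁻¹ ∈ D
      rw [hinv]; exact inv_mem (Subgroup.mem_zpowers d)) (card_cj _ _).ge))
  set K := D ⊔ T with hK
  have hK6 : Nat.card K = 6 := by
    have h := CfsgLib.Coprime.card_sup_mul_card_inf hTD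
    rw [CfsgLib.Coprime.inf_eq_bot_of_coprime_card (by rw [Nat.card_zpowers, Nat.card_zpowers, hod, hox]; norm_num),
      Subgroup.card_bot, mul_one, Nat.card_zpowers, Nat.card_zpowers, hod, hox] at h
    exact h
  set H := T.subgroupOf K with hH
  have hHc : Nat.card H = 2 := by
    rw [hH, Nat.card_congr (Subgroup.subgroupOfEquivOfLe le_sup_right).toEquiv, Nat.card_zpowers, hox]
  have hidx : H.index = 3 := by
    have h := H.card_mul_index
    rw [hHc, hK6] at h
    omega
  have hcore : H.normalCore = ⊥ := by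
    by_contra hne
    have hle := Subgroup.normalCore_le H
    have heq : H.normalCore = H := by
      refine Subgroup.eq_of_le_of_card_ge hle ?_
      have h1 := (Subgroup.one_lt_card_iff_ne_bot _).mpr hne
      omega
    haveI : H.Normal := heq ▸ Subgroup.normalCore_normal H
    have hm : (⟨d, Subgroup.mem_sup_left (Subgroup.mem_zpowers d)⟩ : K) *
        ⟨x, Subgroup.mem_sup_right (Subgroup.mem_zpowers x)⟩ *
        (⟨d, Subgroup.mem_sup_left (Subgroup.mem_zpowers d)⟩ : K)⁻¹ ∈ H :=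
      (inferInstance : H.Normal).conj_mem
        ⟨x, Subgroup.mem_sup_right (Subgroup.mem_zpowers x)⟩ (Subgroup.mem_zpowers x) _
    change d * x * d⁻¹ ∈ T at hm
    obtain ⟨i, hi⟩ := Subgroup.mem_zpowers_iff.mp hm
    rcases Int.even_or_odd i with ⟨j, rfl⟩ | ⟨j, rfl⟩
    · rw [show j + j = 2 * j by ring, zpow_mul, zpow_two, hxx, one_zpow] at hi
      exact hx1 (conj_eq_one_iff.mp hi.symm)
    · rw [zpow_add_one, zpow_mul, zpow_two, hxx, one_zpow, one_mul] at hi
      have h1 : x * d * x⁻¹ = d := by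
        nth_rw 1 [hi]
        group
      rw [hinv] at h1
      have h2 : d ^ 2 = 1 := by rw [pow_two]; nth_rw 1 [← h1]; exact inv_mul_cancel d
      have := orderOf_dvd_of_pow_eq_one h2
      rw [hod] at this
      omega
  let e : K ⧸ H ≃ Fin 3 := Finite.equivFinOfCardEq hidx
  let f : K →* Equiv.Perm (Fin 3) := e.permCongrHom.toMonoidHom.comp (MulAction.toPermHom K (K ⧸ H))
  have hinj : Function.Injective f := e.permCongrHom.injective.comp (by
    rw [← MonoidHom.ker_eq_bot_iff, ← Subgroup.normalCore_eq_ker, hcore])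
  have hsurj : Function.Surjective f := by
    refine (Nat.bijective_iff_injective_and_card f).mpr ⟨hinj, ?_⟩ |>.2
    rw [hK6, Nat.card_eq_fintype_card, Fintype.card_perm, Fintype.card_fin]
    rfl
  have hKM : K ≤ M := sup_le (Subgroup.zpowers_le.mpr hd) (Subgroup.zpowers_le.mpr hx)
  exact CfsgLib.Offender.involves_of_injective (Subgroup.inclusion hKM) (Subgroup.inclusion_injective hKM)
    (CfsgLib.Offender.involves_of_hom (K := ⊤) (f.comp (Subgroup.topEquiv (G := K)).toMonoidHom)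
      (hsurj.comp (Subgroup.topEquiv (G := K)).surjective))

/-- An element of odd order fixing a subgroup of index at most four has cube fixing the group. -/
theorem cube_fix {W D : Subgroup X} (hW : IsPGroup 2 W) (hWc : W ≤ Subgroup.centralizer (W : Set X))
    (hDW : D ≤ W) (hidx : D.relIndex W ≤ 4) {d : X} (hd : d ∈ Subgroup.normalizer (W : Set X))
    (hdD : d ∈ Subgroup.centralizer (D : Set X)) (hodd : Odd (orderOf d)) :
    d ^ 3 ∈ Subgroup.centralizer (W : Set X) := by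
  classical
  refine mem_centralizer_iff_conj.mpr fun v hv => ?_
  have hWn : ∀ k : ℕ, d ^ k * v * (d ^ k)⁻¹ ∈ W := fun k =>
    (Subgroup.mem_normalizer_iff.mp (pow_mem hd k) v).mp hv
  have hDfix : ∀ k : ℕ, d ^ k ∈ Subgroup.centralizer (D : Set X) := fun k => pow_mem hdD k
  -- some `k ∈ {1,2,3}` fixes the coset of `v`
  have hstab : ∀ k : ℕ, v⁻¹ * (d ^ k * v * (d ^ k)⁻¹) ∈ D → d ^ k * v * (d ^ k)⁻¹ = v := fun k h =>
    CfsgLib.PushUp.fix_of_stabilizes hW (hodd.of_dvd_nat (orderOf_pow_dvd k)) (hDW h)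
      (mem_centralizer_iff_conj.mp (hDfix k) _ h) (by rw [pow_orderOf_eq_one]; group)
  have hone : d * v * d⁻¹ = v → d ^ 3 * v * (d ^ 3)⁻¹ = v := fun h =>
    conj_fix_iff.mpr (Subgroup.mem_centralizer_singleton_iff.mp
      (pow_mem (Subgroup.mem_centralizer_singleton_iff.mpr (conj_fix_iff.mp h).symm) 3)).symm
  set D' := D.subgroupOf W with hD'
  by_cases hvD : v ∈ D
  · exact mem_centralizer_iff_conj.mp (hDfix 3) v hvD
  let q : Fin 4 → W ⧸ D' := fun k => QuotientGroup.mk ⟨_, hWn k⟩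
  have hq : ∀ k, q k ≠ QuotientGroup.mk 1 := fun k e => hvD (by
    rw [eq_comm, QuotientGroup.eq, inv_one, one_mul] at e
    have h1 : d ^ (k : ℕ) * v * (d ^ (k : ℕ))⁻¹ ∈ D := e
    have h2 := mem_centralizer_iff_conj.mp (hDfix k) _ h1
    have : d ^ (k : ℕ) * v * (d ^ (k : ℕ))⁻¹ = v := mul_left_cancel (mul_right_cancel h2)
    rwa [this] at h1)
  haveI := Fintype.ofFinite (W ⧸ D')
  obtain ⟨i, j, hij, he⟩ := Fintype.exists_ne_map_eq_of_card_lt
    (fun k => (⟨q k, hq k⟩ : {c : W ⧸ D' // c ≠ QuotientGroup.mk 1})) (by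
      rw [Fintype.card_subtype_compl, Fintype.card_subtype_eq, Fintype.card_fin,
        ← Nat.card_eq_fintype_card]
      have : Nat.card (W ⧸ D') ≤ 4 := hidx
      omega)
  have he' : q i = q j := congrArg Subtype.val he
  wlog hlt : (i : ℕ) < j generalizing i j
  · exact this j i hij.symm he.symm he'.symm (lt_of_le_of_ne (not_lt.mp hlt) fun e => hij (Fin.ext e.symm))
  obtain ⟨k, hk⟩ := Nat.exists_eq_add_of_lt hlt
  have h1 : (d ^ (i : ℕ) * v * (d ^ (i : ℕ))⁻¹)⁻¹ * (d ^ (j : ℕ) * v * (d ^ (j : ℕ))⁻¹) ∈ D :=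
    (QuotientGroup.eq.mp he' :)
  have h2 : v⁻¹ * (d ^ (k + 1) * v * (d ^ (k + 1))⁻¹) ∈ D := by
    have h3 := mem_centralizer_iff_conj.mp (inv_mem (hDfix i)) _ h1
    have e : (d ^ (i : ℕ))⁻¹ * ((d ^ (i : ℕ) * v * (d ^ (i : ℕ))⁻¹)⁻¹ *
        (d ^ (j : ℕ) * v * (d ^ (j : ℕ))⁻¹)) * (d ^ (i : ℕ))⁻¹⁻¹
        = v⁻¹ * (d ^ (k + 1) * v * (d ^ (k + 1))⁻¹) := by
      rw [hk, show (i : ℕ) + k + 1 = i + (k + 1) by ring, pow_add]; group
    rw [← e, h3]; exact h1
  have h4 := hstab _ h2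
  have hk2 : k = 0 ∨ k = 1 ∨ k = 2 := by omega
  rcases hk2 with rfl | rfl | rfl
  · exact hone (by simpa using h4)
  · refine hone (conj_fix_iff.mpr (Subgroup.mem_centralizer_singleton_iff.mp (centralizer_fix_sq hodd
      (Subgroup.mem_centralizer_singleton_iff.mpr (conj_fix_iff.mp h4).symm))).symm)
  · exact h4

/-- Let M and V be subgroups of a finite group with V an elementary abelian 2-group, M normalizing V and acting faithfully on it (M ∩ C(V) = 1), and C_M(O_{2'}(M)) ≤ O_{2'}(M). If some elementary abelian 2-subgroup A of M satisfies |V : C_V(A)| < |A|², then M has a section isomorphic to the symmetric group of degree 3. -/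
theorem result {X : Type*} [Group X] [Finite X] (M V : Subgroup X) (hV : Cfsg.IsElementaryAbelian 2 V) (hMV : M ≤ Subgroup.normalizer (V : Set X)) (hfaith : M ⊓ Subgroup.centralizer (V : Set X) = ⊥) (hcon : Subgroup.centralizer (Cfsg.pPrimeCore 2 ↥M : Set ↥M) ≤ Cfsg.pPrimeCore 2 ↥M) (A : Subgroup X) (hAM : A ≤ M) (hA : Cfsg.IsElementaryAbelian 2 A) (hsmall : (V ⊓ Subgroup.centralizer (A : Set X)).relIndex V < Nat.card A ^ 2) : Cfsg.Involves (Equiv.Perm (Fin 3)) ↥M := by
  classical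
  haveI : Fact (Nat.Prime 2) := ⟨Nat.prime_two⟩
  by_contra hS3
  haveI := CfsgLib.Transfer.pPrimeCore_normal 2 ↥M
  set R := (Cfsg.pPrimeCore 2 ↥M).map M.subtype with hR
  have hRM : R ≤ M := Subgroup.map_subtype_le _
  have hRodd : Odd (Nat.card R) := by
    rw [hR, Subgroup.card_map_of_injective M.subtype_injective]
    exact Nat.coprime_two_right.mp (CfsgLib.Transfer.pPrimeCore_coprime 2)
  have hVe : ∀ v ∈ V, v * v = 1 := fun v hv => by rw [← pow_two]; exact hV.2 v hv
  have hVp : IsPGroup 2 V := fun v => ⟨1, Subtype.ext (by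
    rw [pow_one, SubmonoidClass.coe_pow]; exact hV.2 v v.2)⟩
  have hVc : V ≤ Subgroup.centralizer (V : Set X) :=
    Subgroup.le_centralizer_iff_isMulCommutative.mpr hV.1
  have hfaith' : ∀ g ∈ M, g ∈ Subgroup.centralizer (V : Set X) → g = 1 := fun g h1 h2 =>
    Subgroup.mem_bot.mp (hfaith.le ⟨h1, h2⟩)
  suffices hsq : ∀ n, ∀ B ≤ M, Nat.card B = n → (∀ b ∈ B, b * b = 1) → Nat.card B ^ 2 ≤ cd V B by
    have h := hsq _ A hAM rfl fun a ha => by rw [← pow_two]; exact hA.2 a ha
    rw [Subgroup.inf_relIndex_left] at hsmall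
    exact absurd h (not_le.mpr hsmall)
  intro n
  induction n using Nat.strong_induction_on with
  | _ n ih =>
  intro B hBM hn hBe
  by_cases hB1 : B = ⊥
  · subst hB1
    rw [Subgroup.card_bot, one_pow]; exact cd_pos _ _
  have hBR : B ≤ Subgroup.normalizer (R : Set X) := fun b hb => mem_normalizer_of_cj
    (Subgroup.eq_of_le_of_card_ge (by
      rintro _ ⟨_, ⟨r, hr, rfl⟩, rfl⟩
      exact ⟨⟨b, hBM hb⟩ * r * ⟨b, hBM hb⟩⁻¹, Subgroup.Normal.conj_mem inferInstance r hr _, rfl⟩)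
      (card_cj _ _).ge)
  obtain ⟨B₂, hB₂, hidx, x, hxB, hx2, d, hdR, hd1, hinv, hcd⟩ :=
    exists_inverted hBe hBR hRodd (fun hc => hB1 (eq_bot_iff.mpr fun b hb => by
      have h1 : (⟨b, hBM hb⟩ : M) ∈ Cfsg.pPrimeCore 2 ↥M := hcon (fun r hr =>
        Subtype.ext (Subgroup.mem_centralizer_iff.mp (hc ⟨r, hr, rfl⟩) b hb).symm)
      have h2 : (⟨b, hBM hb⟩ : M) = 1 := CfsgLib.PSolvable.eq_one_of_mem_of_mem (p := 2)
        (P := Subgroup.zpowers (⟨b, hBM hb⟩ : M))
        (IsPGroup.of_card_dvd_pow (p := 2) (n := 1) (by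
          rw [Nat.card_zpowers, pow_one]
          exact orderOf_dvd_of_pow_eq_one (Subtype.ext (by rw [SubmonoidClass.coe_pow, pow_two]; exact hBe b hb))))
        (CfsgLib.Transfer.pPrimeCore_coprime 2) (Subgroup.mem_zpowers _) h1
      exact Subgroup.mem_bot.mpr (congrArg Subtype.val h2)))
  have hdM : d ∈ M := hRM hdR
  have hdodd : Odd (orderOf d) := hRodd.of_dvd_nat (R.orderOf_dvd_natCard hdR)
  have hB₂c : Nat.card B = 2 * Nat.card B₂ := by
    have h := Subgroup.relIndex_mul_relIndex ⊥ B₂ B bot_le hB₂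
    rw [Subgroup.relIndex_bot_left, Subgroup.relIndex_bot_left, hidx] at h
    omega
  have hpos : 0 < Nat.card B₂ := Nat.card_pos
  have hih := ih _ (by omega) B₂ (hB₂.trans hBM) rfl fun b hb => hBe b (hB₂ hb)
  set W := Subgroup.centralizer (B₂ : Set X) ⊓ V with hW
  have hWV : W ≤ V := inf_le_right
  suffices h4 : 4 ≤ cd W B by
    have h1 := cd_mul (V := V) hB₂
    rw [hB₂c]
    calc (2 * Nat.card B₂) ^ 2 = 4 * Nat.card B₂ ^ 2 := by ring
      _ ≤ cd W B * cd V B₂ := Nat.mul_le_mul h4 hih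
      _ = cd V B := h1
  by_contra h4
  have hWx : cd W (Subgroup.zpowers x) ≤ 2 := by
    by_contra h
    exact h4 ((four_le_cd (hVp.to_le hWV) h).trans (cd_mono_left (Subgroup.zpowers_le.mpr hxB)))
  have hnormW : ∀ g ∈ M, (∀ b ∈ B₂, b * g = g * b) → g ∈ Subgroup.normalizer (W : Set X) :=
    fun g hg hgc => mem_normalizer_of_cj (Subgroup.eq_of_le_of_card_ge (by
      rintro _ ⟨v, hv, rfl⟩
      refine Subgroup.mem_inf.mpr ⟨mul_mem (mul_mem (Subgroup.mem_centralizer_iff.mpr hgc) hv.1)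
        (inv_mem (Subgroup.mem_centralizer_iff.mpr hgc)),
        (Subgroup.mem_normalizer_iff.mp (hMV hg) v).mp hv.2⟩) (card_cj _ _).ge)
  have hBcomm : ∀ b ∈ B, b * x = x * b := fun b hb => by
    have hi : ∀ {a : X}, a ∈ B → a⁻¹ = a := fun ha => inv_eq_of_mul_eq_one_right (hBe _ ha)
    rw [← hi (mul_mem hb hxB), mul_inv_rev, hi hxB, hi hb]
  have hxW := hnormW x (hBM hxB) fun b hb => hBcomm b (hB₂ hb)
  have hdW := hnormW d hdM hcd
  set D := W ⊓ (Subgroup.centralizer (Subgroup.zpowers x : Set X) ⊓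
    Subgroup.centralizer (Subgroup.zpowers (d * x * d⁻¹) : Set X)) with hD
  have hidxD : D.relIndex W ≤ 4 := by
    have h2 : cd W (Subgroup.zpowers (d * x * d⁻¹)) = cd W (Subgroup.zpowers x) := by
      have e : cj d (Subgroup.zpowers x) = Subgroup.zpowers (d * x * d⁻¹) :=
        MonoidHom.map_zpowers _ x
      conv_lhs => rw [← cj_of_mem_normalizer hdW, ← e, cd_cj]
    rw [hD, Subgroup.inf_relIndex_left]
    exact Subgroup.relIndex_inf_le.trans (Nat.mul_le_mul hWx (h2.le.trans hWx))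
  have hdD : d ∈ Subgroup.centralizer (D : Set X) := by
    refine mem_centralizer_iff_conj.mpr fun v hv => ?_
    have hxx : x * x = 1 := hBe x hxB
    have e : x * (d * x * d⁻¹) = (d ^ 2)⁻¹ := by
      have hxi : x⁻¹ = x := inv_eq_of_mul_eq_one_right hxx
      calc x * (d * x * d⁻¹) = x * d * x⁻¹ * d⁻¹ := by rw [hxi]; group
        _ = (d ^ 2)⁻¹ := by rw [hinv]; group
    have h1 : (d ^ 2)⁻¹ ∈ Subgroup.centralizer ({v} : Set X) := by
      rw [← e]
      exact mul_mem (Subgroup.mem_centralizer_singleton_iff.mpr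
          (Subgroup.mem_centralizer_iff.mp hv.2.1 x (Subgroup.mem_zpowers x)))
        (Subgroup.mem_centralizer_singleton_iff.mpr
          (Subgroup.mem_centralizer_iff.mp hv.2.2 _ (Subgroup.mem_zpowers _)))
    exact conj_fix_iff.mpr (Subgroup.mem_centralizer_singleton_iff.mp
      (centralizer_fix_sq hdodd (inv_mem_iff.mp h1))).symm
  have hcube := cube_fix (hVp.to_le hWV) (hWV.trans (hVc.trans (centralizer_mono hWV))) inf_le_left
    hidxD hdW hdD hdodd
  -- Thompson's `P × Q` lemma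
  have h3 : d ^ 3 ∈ Subgroup.centralizer (V : Set X) := by
    refine CfsgLib.Coprime.pxq (p := 2) (P := B₂) (Q := Subgroup.zpowers (d ^ 3))
      ((show IsPGroup 2 B from fun b => ⟨1, Subtype.ext (by
        rw [pow_one, SubmonoidClass.coe_pow, pow_two, hBe b b.2]; rfl)⟩).to_le hB₂)
      (by rw [Nat.card_zpowers]; exact Nat.coprime_two_right.mpr (hdodd.of_dvd_nat (orderOf_pow_dvd 3)))
      ?_ hVp ((hB₂.trans hBM).trans hMV) (Subgroup.zpowers_le.mpr (pow_mem (hMV hdM) 3)) ?_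
      (Subgroup.mem_zpowers _)
    · intro b hb
      exact CfsgLib.Coprime.mem_centralizer_singleton_zpowers (Subgroup.mem_centralizer_singleton_iff.mpr
        ((Commute.pow_right (hcd b hb) 3).eq))
    · exact fun v hv => CfsgLib.Coprime.mem_centralizer_singleton_zpowers
        (Subgroup.mem_centralizer_singleton_iff.mpr
          (conj_fix_iff.mp (mem_centralizer_iff_conj.mp hcube v ⟨hv.2, hv.1⟩)))
  exact hS3 (involves_three (hBM hxB) hdM (hBe x hxB) (fun e => hx2 (e ▸ one_mem B₂))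
    (hfaith' _ (pow_mem hdM 3) h3) hd1 hinv)

end Cfsg.Agent.S3755
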