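import Cfsg.Statements.S0266
import Mathlib
import Cfsg.Agent.Lib.Classical.ThreePoints

set_option autoImplicit false
open scoped MatrixGroups
open Cfsg

namespace Cfsg.Agent.S0266

/-- PGL_2(F) is sharply 3-transitive on the projective line: it is 3-transitive and the stabiliser of three distinct points is trivial. -/
theorem result {F : Type*} [Field F] : MulAction.IsMultiplyPretransitive (Matrix.ProjGenLinGroup (Fin 2) F) (Projectivization F (Fin 2 → F)) 3 ∧ ∀ (g : Matrix.ProjGenLinGroup (Fin 2) F) (a b c : Projectivization F (Fin 2 → F)), a ≠ b → a ≠ c → b ≠ c → g • a = a → g • b = b → g • c = c → g = 1 := by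
  refine ⟨?_, ?_⟩
  · refine MulAction.isMultiplyPretransitive_iff.mpr fun x y => ?_
    obtain ⟨g, g0, g1, g2⟩ := CfsgLib.ThreePoints.exists_frame (x 0) (x 1) (x 2)
      (fun h => by simpa using x.injective h) (fun h => by simpa using x.injective h)
      (fun h => by simpa using x.injective h)
    obtain ⟨k, k0, k1, k2⟩ := CfsgLib.ThreePoints.exists_frame (y 0) (y 1) (y 2)
      (fun h => by simpa using y.injective h) (fun h => by simpa using y.injective h)
      (fun h => by simpa using y.injective h)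
    refine ⟨Matrix.ProjGenLinGroup.mk (k * g⁻¹), Function.Embedding.ext fun i => ?_⟩
    show Matrix.ProjGenLinGroup.mk (k * g⁻¹) • x i = y i
    fin_cases i
    · show (k * g⁻¹) • x 0 = y 0
      rw [← g0, mul_smul, inv_smul_smul, k0]
    · show (k * g⁻¹) • x 1 = y 1
      rw [← g1, mul_smul, inv_smul_smul, k1]
    · show (k * g⁻¹) • x 2 = y 2
      rw [← g2, mul_smul, inv_smul_smul, k2]
  · intro g a b c hab hac hbc ha hb hc
    obtain ⟨h, rfl⟩ := QuotientGroup.mk'_surjective _ g
    change h • a = a at ha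
    change h • b = b at hb
    change h • c = c at hc
    obtain ⟨k, k0, k1, k2⟩ := CfsgLib.ThreePoints.exists_frame a b c hab hac hbc
    have key : ∀ p q : Projectivization F (Fin 2 → F), k • p = q → h • q = q → (k⁻¹ * h * k) • p = p := by
      intro p q e1 e2
      rw [mul_smul, mul_smul, e1, e2, ← e1, inv_smul_smul]
    obtain ⟨r, hr⟩ := CfsgLib.ThreePoints.scalar_of_fix_frame (k⁻¹ * h * k) (key _ _ k0 ha)
      (key _ _ k1 hb) (key _ _ k2 hc)
    refine (QuotientGroup.eq_one_iff h).mpr (Subgroup.mem_center_iff.mpr fun y => ?_)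
    have e : (k⁻¹ * h * k) * (k⁻¹ * y * k) = (k⁻¹ * y * k) * (k⁻¹ * h * k) := by
      refine Units.ext ?_
      rw [Units.val_mul (k⁻¹ * h * k), Units.val_mul (k⁻¹ * y * k), hr]
      exact (Matrix.scalar_commute r (fun r' => mul_comm r r') _).eq
    calc y * h = k * ((k⁻¹ * y * k) * (k⁻¹ * h * k)) * k⁻¹ := by group
      _ = k * ((k⁻¹ * h * k) * (k⁻¹ * y * k)) * k⁻¹ := by rw [e]
      _ = h * y := by group

end Cfsg.Agent.S0266
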