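import Cfsg.Statements.S0262
import Cfsg.Agent.Lib.SL2.Facts

set_option autoImplicit false
open Cfsg

namespace Cfsg.Agent.S0262

/-- For an odd prime r different from the characteristic, the Sylow r-subgroups of SL_2(q) are cyclic. -/
theorem result {F : Type*} [Field F] [Fintype F] (p : ℕ) [Fact p.Prime] [CharP F p] (r : ℕ) [Fact r.Prime] (hr : r ≠ 2) (hrp : r ≠ p) (R : Sylow r (Matrix.SpecialLinearGroup (Fin 2) F)) : IsCyclic (R : Subgroup (Matrix.SpecialLinearGroup (Fin 2) F)) := by
  set G := Matrix.SpecialLinearGroup (Fin 2) F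
  by_cases htriv : Nontrivial (R : Subgroup G)
  · have hc : Nontrivial (Subgroup.center (R : Subgroup G)) := R.isPGroup'.center_nontrivial
    have hdvd : r ∣ Nat.card (Subgroup.center (R : Subgroup G)) := by
      rcases (R.isPGroup'.to_subgroup (Subgroup.center (R : Subgroup G))).card_eq_or_dvd with h | h
      · exact absurd h Finite.one_lt_card.ne'
      · exact h
    obtain ⟨z, hz⟩ := exists_prime_orderOf_dvd_card' r hdvd
    set x : G := ((z : (R : Subgroup G)) : G) with hxdef
    have hx : orderOf x = r := by
      rw [hxdef, Subgroup.orderOf_coe, Subgroup.orderOf_coe, hz]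
    have hreg : CfsgLib.SL2.Regular x := by
      by_contra hreg
      have h := orderOf_dvd_of_pow_eq_one (CfsgLib.SL2.pow_two_mul_char_of_not_regular hreg p)
      rw [hx] at h
      rcases (Nat.Prime.dvd_mul (Fact.out : r.Prime)).mp h with h | h
      · exact hr ((Nat.prime_dvd_prime_iff_eq (Fact.out : r.Prime) Nat.prime_two).mp h)
      · exact hrp ((Nat.prime_dvd_prime_iff_eq (Fact.out : r.Prime) (Fact.out : p.Prime)).mp h)
    have hle : (R : Subgroup G) ≤ CfsgLib.SL2.cent x := by
      intro y hy
      rw [CfsgLib.SL2.mem_cent_iff]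
      exact (congrArg Subtype.val (Subgroup.mem_center_iff.mp z.2 ⟨y, hy⟩)).symm
    have := (CfsgLib.SL2.cent_regular hreg).1
    exact isCyclic_of_injective (Subgroup.inclusion hle) (Subgroup.inclusion_injective hle)
  · have := not_nontrivial_iff_subsingleton.mp htriv
    exact inferInstance

end Cfsg.Agent.S0262
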