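import Cfsg.Statements.S0132
import Cfsg.Agent.Lib.Transfer.Hall

set_option autoImplicit false
open Cfsg CfsgLib.Transfer

namespace Cfsg.Agent.S0132

/-- A minimal non-p-nilpotent finite group is a minimal non-nilpotent group with a normal Sylow p-subgroup. -/
theorem result {G : Type*} [Group G] [Finite G] {p : ℕ} [Fact p.Prime] (h1 : ¬ Cfsg.HasNormalPComplement p G) (h2 : ∀ H : Subgroup G, H ≠ ⊤ → Cfsg.HasNormalPComplement p H) : (∀ H : Subgroup G, H ≠ ⊤ → Group.IsNilpotent H) ∧ ¬ Group.IsNilpotent G ∧ ∀ P : Sylow p G, (P : Subgroup G).Normal := by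
  have hp := (Fact.out : p.Prime)
  have hP : ¬ PAutomizers p G := fun h => h1 (hasNormalPComplement_of_pAutomizers h)
  simp only [PAutomizers, not_forall] at hP
  obtain ⟨Q, hQ, g, hg, hgc, hgC⟩ := hP
  -- `Q` is normal
  have hQn : Q.Normal := by
    rw [← Subgroup.normalizer_eq_top_iff]
    by_contra hne
    set N := Subgroup.normalizer (Q : Set G) with hN
    have h3 := pAutomizers_of_hasNormalPComplement (h2 N hne) (Q.subgroupOf N)
      (hQ.comap_of_injective _ N.subtype_injective) ⟨g, hg⟩ (by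
        rw [Subgroup.mem_normalizer_iff]
        intro y
        exact Subgroup.mem_normalizer_iff.mp hg y) (by rwa [← Subgroup.orderOf_coe])
    apply hgC
    rw [Subgroup.mem_centralizer_iff] at h3 ⊢
    intro q hq
    exact congrArg Subtype.val (h3 ⟨q, Subgroup.le_normalizer hq⟩ hq)
  set C := Subgroup.centralizer (Q : Set G) with hC
  classical
  have hex : ∃ n : ℕ, ∃ x : G, orderOf x = n ∧ n.Coprime p ∧ x ∉ C := ⟨_, g, rfl, hgc, hgC⟩
  obtain ⟨x, hxn, hxc, hxC⟩ := Nat.find_spec hex
  have hmin : ∀ r : ℕ, r.Prime → r ∣ Nat.find hex → x ^ r ∈ C := by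
    intro r hr hrd
    by_contra hrC
    have ho : orderOf (x ^ r) = Nat.find hex / r := by
      rw [orderOf_pow_of_dvd hr.ne_zero (hxn ▸ hrd), hxn]
    refine Nat.find_min hex (m := Nat.find hex / r)
      (Nat.div_lt_self (hxn ▸ orderOf_pos x) hr.one_lt)
      ⟨x ^ r, ho, ?_, hrC⟩
    exact Nat.Coprime.coprime_dvd_left (Nat.div_dvd_of_dvd hrd) hxc
  have hn1 : Nat.find hex ≠ 1 := by
    intro h
    rw [h, orderOf_eq_one_iff] at hxn
    exact hxC (hxn ▸ C.one_mem)
  obtain ⟨q, hq, hqd⟩ := Nat.exists_prime_and_dvd hn1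
  haveI := Fact.mk hq
  have huniq : ∀ {d : ℕ}, d.Prime → d ∣ Nat.find hex → d = q := by
    intro d hd hdd
    by_contra hne
    apply hxC
    have hb : ((Nat.gcd d q : ℕ) : ℤ) = d * Nat.gcdA d q + q * Nat.gcdB d q :=
      Nat.gcd_eq_gcd_ab d q
    rw [(Nat.coprime_primes hd hq).mpr hne, Nat.cast_one] at hb
    rw [← zpow_one x, hb, zpow_add, zpow_mul, zpow_mul, zpow_natCast, zpow_natCast]
    exact C.mul_mem (C.zpow_mem (hmin d hd hdd) _) (C.zpow_mem (hmin q hq hqd) _)
  have hnq : Nat.find hex = q ^ (Nat.find hex).primeFactorsList.length :=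
    Nat.eq_prime_pow_of_unique_prime_dvd (hxn ▸ (orderOf_pos x).ne') huniq
  have hqp : q ≠ p := fun h => hq.ne_one
    (Nat.eq_one_of_dvd_coprimes hxc hqd (h ▸ dvd_rfl))
  -- `G = Q ⟨x⟩`
  have htop : Q ⊔ Subgroup.zpowers x = ⊤ := by
    by_contra hne
    set H := Q ⊔ Subgroup.zpowers x with hH
    have hxH : x ∈ H := (le_sup_right : _ ≤ H) (Subgroup.mem_zpowers x)
    have h3 := pAutomizers_of_hasNormalPComplement (h2 H hne) (Q.subgroupOf H)
      (hQ.comap_of_injective _ H.subtype_injective) ⟨x, hxH⟩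
      (by rw [Subgroup.normalizer_eq_top]; trivial)
      (by rw [← Subgroup.orderOf_coe]; exact hxn ▸ hxc)
    apply hxC
    rw [hC, Subgroup.mem_centralizer_iff]
    rw [Subgroup.mem_centralizer_iff] at h3
    intro y hy
    exact congrArg Subtype.val (h3 ⟨y, (le_sup_left : _ ≤ H) hy⟩ hy)
  have hidx : Q.index ∣ q ^ (Nat.find hex).primeFactorsList.length := by
    rw [← hnq, ← hxn, ← Nat.card_zpowers, ← Subgroup.relIndex_top_right, ← htop,
      Subgroup.relIndex_sup_left]
    exact Subgroup.relIndex_dvd_card Q _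
  have hndvd : ∀ m : ℕ, m ∣ q ^ (Nat.find hex).primeFactorsList.length → ¬ p ∣ m := fun m hm h =>
    hqp ((Nat.prime_dvd_prime_iff_eq hp hq).mp (hp.dvd_of_dvd_pow (h.trans hm))).symm
  refine ⟨fun H hH => ?_, fun hnil => h1 (CfsgLib.Transfer.hasNormalPComplement_of_pAutomizers
    fun R hR y hy hyc => ?_), fun P => ?_⟩
  · -- proper subgroups are nilpotent
    refine ((Group.isNilpotent_of_finite_tfae (G := H)).out 0 3).mpr fun r hr R => ?_
    haveI := hr
    rcases eq_or_ne r p with rfl | hrp
    · have hi : ¬ r ∣ (Q.subgroupOf H).index :=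
        hndvd _ ((Subgroup.relIndex_dvd_index_of_normal Q H).trans hidx)
      have hQH : IsPGroup r (Q.subgroupOf H) := hQ.comap_of_injective _ H.subtype_injective
      haveI : ((hQH.toSylow hi : Sylow r H) : Subgroup H).Normal :=
        (inferInstance : (Q.subgroupOf H).Normal)
      haveI := Sylow.unique_of_normal (hQH.toSylow hi) inferInstance
      rw [Subsingleton.elim R (hQH.toSylow hi)]
      infer_instance
    · have hK := hasNormalPComplement_iff_pResidual.mp (h2 H hH)
      have hKn := pResidual_normal p H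
      have hRK : (R : Subgroup H) ≤ Cfsg.pResidual p H := fun y hy => by
        refine mem_pResidual_of_coprime ?_
        obtain ⟨k, hk⟩ := IsPGroup.iff_orderOf.mp R.2 ⟨y, hy⟩
        rw [← Subgroup.orderOf_coe] at hk
        rw [show orderOf y = r ^ k from hk]
        exact Nat.Coprime.pow_left _ ((Nat.coprime_primes hr.out hp).mpr hrp)
      have hKd : Nat.card (Cfsg.pResidual p H) ∣ q ^ (Nat.find hex).primeFactorsList.length := by
        obtain ⟨j, hj⟩ := hQ.exists_card_eq
        have h3 : Nat.card (Cfsg.pResidual p H) ∣ p ^ j * Q.index := by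
          rw [← hj, Q.card_mul_index]
          exact (Subgroup.card_subgroup_dvd_card _).trans (Subgroup.card_subgroup_dvd_card H)
        exact (Nat.Coprime.dvd_of_dvd_mul_left
          (Nat.Coprime.pow_right _ (hp.coprime_iff_not_dvd.mpr hK).symm) h3).trans hidx
      rcases eq_or_ne r q with rfl | hrq
      · obtain ⟨i, -, hi⟩ := (Nat.dvd_prime_pow hr.out).mp hKd
        rwa [← R.3 (IsPGroup.of_card hi) hRK]
      · rw [show (R : Subgroup H) = ⊥ by
          rw [← Subgroup.card_eq_one]
          obtain ⟨i, hi⟩ := R.2.exists_card_eq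
          refine Nat.eq_one_of_dvd_coprimes ?_ dvd_rfl ((Subgroup.card_dvd_of_le hRK).trans hKd)
          rw [hi]
          exact Nat.Coprime.pow _ _ ((Nat.coprime_primes hr.out hq).mpr hrq)]
        infer_instance
  · haveI := hnil
    haveI : ∀ S : Sylow p G, (S : Subgroup G).Normal := fun S => sylow_normal_of_isNilpotent S
    obtain ⟨S⟩ := (inferInstance : Nonempty (Sylow p G))
    have h3 := sylow_sup_centralizer_eq_top S
    have hRS : R ≤ (S : Subgroup G) := by
      obtain ⟨S', hS'⟩ := hR.exists_le_sylow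
      haveI := Sylow.unique_of_normal S inferInstance
      rwa [Subsingleton.elim S S']
    have hyS : y ∈ (S : Subgroup G) ⊔ Subgroup.centralizer ((S : Subgroup G) : Set G) :=
      h3 ▸ Subgroup.mem_top y
    haveI : (Subgroup.centralizer ((S : Subgroup G) : Set G)).Normal := inferInstance
    have hq2 : IsPGroup p (G ⧸ Subgroup.centralizer ((S : Subgroup G) : Set G)) := by
      obtain ⟨j, hj⟩ := S.2.exists_card_eq
      have : (Subgroup.centralizer ((S : Subgroup G) : Set G)).index ∣ p ^ j := by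
        rw [← Subgroup.relIndex_top_right, ← h3, Subgroup.relIndex_sup_right, ← hj]
        exact Subgroup.relIndex_dvd_card _ _
      obtain ⟨i, -, hi⟩ := (Nat.dvd_prime_pow hp).mp this
      exact IsPGroup.of_card (n := i) (by rw [← Subgroup.index_eq_card, hi])
    exact Subgroup.centralizer_le hRS (pResidual_le_of_isPGroup_quotient _ hq2
      (mem_pResidual_of_coprime hyc))
  · have hi : ¬ p ∣ Q.index := hndvd _ hidx
    haveI : ((hQ.toSylow hi : Sylow p G) : Subgroup G).Normal := hQn
    haveI := Sylow.unique_of_normal (hQ.toSylow hi) inferInstance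
    rw [Subsingleton.elim P (hQ.toSylow hi)]
    infer_instance

end Cfsg.Agent.S0132
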