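import Mathlib
import Cfsg.Statements.S0502
import Cfsg.Agent.Lib.Fitting.Basic

set_option autoImplicit false
set_option linter.style.haveILetI false
set_option linter.unusedVariables false
open Cfsg

namespace Cfsg.Agent.S0502

theorem klein {P : Type*} [Group P] {a b : P} (ha : a ^ 2 = 1) (hb : b ^ 2 = 1) (hab : a * b = b * a)
    (ha1 : a ≠ 1) (hb1 : b ≠ 1) (hne : a ≠ b) :
    ∃ U : Subgroup P, IsKleinFour U ∧ a ∈ U ∧ b ∈ U ∧ ∀ u ∈ U, u = 1 ∨ u = a ∨ u = b ∨ u = a * b := by
  classical
  have ha' : a * a = 1 := by rw [← pow_two, ha]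
  have hb' : b * b = 1 := by rw [← pow_two, hb]
  have hsq : a * b * (a * b) = 1 := by rw [mul_assoc, ← mul_assoc b, ← hab, mul_assoc a b, hb', mul_one, ha']
  have hab1 : a * b ≠ 1 := fun h => hne (by rw [← mul_one a, ← hb', ← mul_assoc, h, one_mul])
  let U : Subgroup P :=
    { carrier := {u | u = 1 ∨ u = a ∨ u = b ∨ u = a * b}
      one_mem' := Or.inl rfl
      mul_mem' := by
        have e1 : b * a = a * b := hab.symm
        have e2 : ∀ w, a * (a * w) = w := fun w => by rw [← mul_assoc, ha', one_mul]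
        have e3 : ∀ w, b * (b * w) = w := fun w => by rw [← mul_assoc, hb', one_mul]
        have e4 : b * (a * b) = a := by rw [← mul_assoc, e1, mul_assoc, hb', mul_one]
        rintro u w (rfl | rfl | rfl | rfl) (rfl | rfl | rfl | rfl) <;>
          simp [mul_assoc, ha', hb', e1, e2, e3, e4]
      inv_mem' := by
        rintro u (rfl | rfl | rfl | rfl)
        · exact Or.inl inv_one
        · exact Or.inr (Or.inl (inv_eq_of_mul_eq_one_right ha'))
        · exact Or.inr (Or.inr (Or.inl (inv_eq_of_mul_eq_one_right hb')))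
        · exact Or.inr (Or.inr (Or.inr (inv_eq_of_mul_eq_one_right hsq))) }
  refine ⟨U, ⟨?_, ?_⟩, Or.inr (Or.inl rfl), Or.inr (Or.inr (Or.inl rfl)), fun u hu => hu⟩
  · change Nat.card (U : Set P) = 4
    rw [Nat.card_coe_set_eq, show (U : Set P) = ↑({1, a, b, a * b} : Finset P) by
      ext u; simp [U], Set.ncard_coe_finset]
    have h1 : a ≠ a * b := fun h => hb1 (mul_left_cancel (h.symm.trans (mul_one a).symm))
    have h2 : b ≠ a * b := fun h => ha1 (mul_right_cancel (h.symm.trans (one_mul b).symm))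
    simp [Ne.symm ha1, Ne.symm hb1, Ne.symm hab1, hne, h1, h2]
  · refine dvd_antisymm (Monoid.exponent_dvd_of_forall_pow_eq_one fun u => Subtype.ext ?_) ?_
    · rw [Subgroup.coe_pow, pow_two]
      rcases u.2 with h | h | h | h <;> rw [h]
      · simp
      · simp [ha']
      · simp [hb']
      · simp [hsq]
    · have h := Monoid.order_dvd_exponent (⟨a, Or.inr (Or.inl rfl)⟩ : U)
      rwa [← Subgroup.orderOf_coe, orderOf_eq_prime (p := 2) ha ha1] at h

/-- If a finite 2-group has a normal elementary abelian subgroup of order at least 8, then any two of its Klein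
four-subgroups are joined by a chain of Klein four-subgroups with consecutive members commuting elementwise. -/
theorem result {P : Type*} [Group P] [Finite P] (hP : IsPGroup 2 P)
    (E : Subgroup P) [E.Normal] (hE : IsMulCommutative E) (hE2 : ∀ e ∈ E, e ^ 2 = 1) (hE8 : 8 ≤ Nat.card E) :
    Cfsg.IsFourConnected P := by
  classical
  set R : Subgroup P → Subgroup P → Prop :=
    fun A B => IsKleinFour A ∧ IsKleinFour B ∧ ∀ a ∈ A, ∀ b ∈ B, a * b = b * a with hR
  have hEc : ∀ a ∈ E, ∀ b ∈ E, a * b = b * a := fun a ha b hb =>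
    congrArg Subtype.val (hE.is_comm.comm (⟨a, ha⟩ : E) ⟨b, hb⟩)
  have hsymm : ∀ A B, R A B → R B A := fun A B h => ⟨h.2.1, h.1, fun b hb a ha => (h.2.2 a ha b hb).symm⟩
  haveI : Group.IsNilpotent P := hP.isNilpotent
  obtain ⟨z, hzE, hzZ, hz1⟩ : ∃ z ∈ E, z ∈ Subgroup.center P ∧ z ≠ 1 := by
    letI : MulAction P E := MulAction.compHom E (MulAut.conjNormal : P →* MulAut E)
    obtain ⟨n, hn⟩ := IsPGroup.iff_card.mp (hP.to_subgroup E)
    have hn0 : n ≠ 0 := by rintro rfl; rw [hn] at hE8; norm_num at hE8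
    haveI : Fact (Nat.Prime 2) := ⟨Nat.prime_two⟩
    obtain ⟨b, hb, hne⟩ := hP.exists_fixed_point_of_prime_dvd_card_of_fixed_point (α := E)
      (by rw [hn]; exact dvd_pow_self 2 hn0) (a := 1) (fun g => map_one (MulAut.conjNormal g))
    refine ⟨b, b.2, Subgroup.mem_center_iff.mpr fun g => ?_, fun h => hne (Subtype.ext h.symm)⟩
    have h1 : g * (b : P) * g⁻¹ = b := by
      have := congrArg Subtype.val (hb g)
      simpa [MulAction.compHom_smul_def] using this
    exact mul_inv_eq_iff_eq_mul.mp h1
  have hzc : ∀ u : P, z * u = u * z := fun u => (Subgroup.mem_center_iff.mp hzZ u).symm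
  have hto : ∀ U : Subgroup P, IsKleinFour U →
      ∃ W : Subgroup P, W ≤ E ∧ IsKleinFour W ∧ Relation.ReflTransGen R U W ∧ Relation.ReflTransGen R W U := by
    intro U hU
    have hU2 : ∀ u ∈ U, u ^ 2 = 1 := fun u hu => by
      have h := Monoid.pow_exponent_eq_one (⟨u, hu⟩ : U)
      rw [hU.exponent_two] at h
      simpa using congrArg Subtype.val h
    haveI : IsMulCommutative U := IsKleinFour.isMulCommutative
    have hUc : ∀ a ∈ U, ∀ b ∈ U, a * b = b * a := fun a ha b hb =>
      congrArg Subtype.val ((IsMulCommutative.is_comm (M := U)).comm ⟨a, ha⟩ ⟨b, hb⟩)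
    obtain ⟨u, huU, hu1, huz⟩ : ∃ u ∈ U, u ≠ 1 ∧ u ≠ z := by
      by_contra hno
      push Not at hno
      have hsub : (U : Set P) ⊆ {1, z} := fun u hu => by
        by_cases h1 : u = 1
        · exact Or.inl h1
        · exact Or.inr (hno u hu h1)
      have h4 := Set.ncard_le_ncard hsub
      rw [← Nat.card_coe_set_eq] at h4
      have h5 : Nat.card (U : Set P) = 4 := hU.card_four
      have h6 : ({1, z} : Set P).ncard ≤ 2 := (Set.ncard_insert_le _ _).trans (by simp)
      omega
    have hz2 : z ^ 2 = 1 := hE2 z hzE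
    obtain ⟨V, hV, hzV, huV, hVel⟩ := klein hz2 (hU2 u huU) (hzc u) hz1 hu1 (Ne.symm huz)
    have hUV : R U V := ⟨hU, hV, fun a ha b hb => by
      rcases hVel b hb with rfl | rfl | rfl | rfl
      · simp
      · exact (hzc a).symm
      · exact hUc a ha b huU
      · exact (Commute.mul_right (show Commute a z from (hzc a).symm) (show Commute a u from hUc a ha u huU)).eq⟩
    -- an element of `E` commuting with `u`
    obtain ⟨c, hcE, hcu, hc1, hcz⟩ : ∃ c ∈ E, c * u = u * c ∧ c ≠ 1 ∧ c ≠ z := by
      let f : E →* E :=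
        { toFun := fun e => ⟨u * e * u⁻¹ * (e : P)⁻¹,
            E.mul_mem (Subgroup.Normal.conj_mem inferInstance _ e.2 u) (E.inv_mem e.2)⟩
          map_one' := Subtype.ext (by simp)
          map_mul' := fun a b => Subtype.ext (by
            have h1 : Commute (u * b * u⁻¹ * (b : P)⁻¹) (a : P)⁻¹ := hEc _
              (E.mul_mem (Subgroup.Normal.conj_mem inferInstance _ b.2 u) (E.inv_mem b.2)) _ (E.inv_mem a.2)
            change u * ((a * b : E) : P) * u⁻¹ * ((a * b : E) : P)⁻¹ = _
            rw [Subgroup.coe_mul, Subgroup.coe_mul]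
            change _ = u * a * u⁻¹ * (a : P)⁻¹ * (u * b * u⁻¹ * (b : P)⁻¹)
            calc u * ((a : P) * b) * u⁻¹ * ((a : P) * b)⁻¹
                = u * a * u⁻¹ * ((u * b * u⁻¹ * (b : P)⁻¹) * (a : P)⁻¹) := by group
              _ = u * a * u⁻¹ * ((a : P)⁻¹ * (u * b * u⁻¹ * (b : P)⁻¹)) := by rw [h1.eq]
              _ = _ := by group) }
      have hker : f.range ≤ f.ker := by
        rintro _ ⟨e, rfl⟩
        refine MonoidHom.mem_ker.mpr (Subtype.ext ?_)
        change u * (u * e * u⁻¹ * (e : P)⁻¹) * u⁻¹ * (u * e * u⁻¹ * (e : P)⁻¹)⁻¹ = 1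
        have hu2 : u * u = 1 := by rw [← pow_two, hU2 u huU]
        have hui : u⁻¹ = u := inv_eq_of_mul_eq_one_right hu2
        have hi : ∀ w ∈ E, w⁻¹ = w := fun w hw => inv_eq_of_mul_eq_one_right (by rw [← pow_two, hE2 w hw])
        have hmem : u * e * u⁻¹ * (e : P)⁻¹ ∈ E := (f e).2
        rw [hi _ hmem, hi _ e.2, hui]
        calc u * (u * e * u * e) * u * (u * e * u * e)
            = (u * u) * ((e : P) * (u * (e * u * (u * e)) * u * e)) := by group
          _ = 1 := by
            rw [hu2, one_mul, mul_assoc (e : P) u (u * e), ← mul_assoc u u (e : P), hu2, one_mul,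
              ← pow_two, hE2 _ e.2, mul_one, hu2, one_mul, ← pow_two, hE2 _ e.2]
      have hcard := Subgroup.card_mul_index f.ker
      rw [Subgroup.index_ker] at hcard
      have hle : Nat.card f.range ≤ Nat.card f.ker :=
        Nat.le_of_dvd Nat.card_pos (Subgroup.card_dvd_of_le hker)
      by_contra hno
      push Not at hno
      have hsub : ((f.ker.map E.subtype : Subgroup P) : Set P) ⊆ {1, z} := by
        rintro _ ⟨e, he, rfl⟩
        by_cases h1 : (e : P) = 1
        · exact Or.inl h1
        · refine Or.inr (hno e e.2 ?_ h1)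
          have h := congrArg Subtype.val (MonoidHom.mem_ker.mp he)
          exact (mul_inv_eq_iff_eq_mul.mp (mul_inv_eq_one.mp h)).symm
      have h4 := Set.ncard_le_ncard hsub
      rw [← Nat.card_coe_set_eq] at h4
      have h5 : Nat.card ((f.ker.map E.subtype : Subgroup P) : Set P) = Nat.card f.ker :=
        Subgroup.card_map_of_injective E.subtype_injective
      have h6 : ({1, z} : Set P).ncard ≤ 2 := (Set.ncard_insert_le _ _).trans (by simp)
      nlinarith
    obtain ⟨W, hW, hzW, hcW, hWel⟩ := klein hz2 (hE2 c hcE) (hzc c) hz1 hc1 (Ne.symm hcz)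
    have hWE : W ≤ E := fun w hw => by
      rcases hWel w hw with rfl | rfl | rfl | rfl
      exacts [E.one_mem, hzE, hcE, E.mul_mem hzE hcE]
    have hVW : R V W := ⟨hV, hW, fun a ha b hb => by
      have hbu : Commute u b := by
        rcases hWel b hb with h | h | h | h <;> rw [h]
        · exact Commute.one_right u
        · exact (hzc u).symm
        · exact hcu.symm
        · exact (show Commute u z from (hzc u).symm).mul_right (show Commute u c from hcu.symm)
      rcases hVel a ha with h | h | h | h <;> rw [h]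
      · simp
      · exact hzc b
      · exact hbu.eq
      · exact ((show Commute z b from hzc b).mul_left hbu).eq⟩
    exact ⟨W, hWE, hW, (Relation.ReflTransGen.single hUV).trans (Relation.ReflTransGen.single hVW),
      (Relation.ReflTransGen.single (hsymm _ _ hVW)).trans (Relation.ReflTransGen.single (hsymm _ _ hUV))⟩
  intro U V hU hV
  obtain ⟨W, hWE, hW, h1, -⟩ := hto U hU
  obtain ⟨W', hWE', hW', -, h2⟩ := hto V hV
  exact (h1.trans (Relation.ReflTransGen.single ⟨hW, hW', fun a ha b hb => hEc a (hWE ha) b (hWE' hb)⟩)).trans h2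

end Cfsg.Agent.S0502
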