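import Cfsg.Statements.S3304
import Cfsg.Agent.Lib.Invol.SolvableCore
import Cfsg.Agent.Lib.Invol.OctahedralCore
import Cfsg.Agent.S3742

set_option autoImplicit false
open Cfsg

namespace Cfsg.Agent.S3304

open CfsgLib.GL2 CfsgLib.Invol

/-- All complements acting as `S₃` are conjugate. -/
def normalForm : Bool :=
  S3742.pairs.all fun u => S3742.pairs.all fun v =>
    !(agree ((ext8 u.1 u.2)^[3]) id && !agree (ext8 u.1 u.2) id && agree ((ext8 v.1 v.2)^[2]) id &&
      agree (ext8 v.1 v.2 ∘ ext8 u.1 u.2 ∘ ext8 v.1 v.2) ((ext8 u.1 u.2)^[2])) ||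
    S3742.pairs.any fun w => agree (ext8 u.1 u.2 ∘ ext8 w.1 w.2) (ext8 w.1 w.2 ∘ Octa.rot) &&
      agree (ext8 v.1 v.2 ∘ ext8 w.1 w.2) (ext8 w.1 w.2 ∘ Octa.flip)

theorem normalForm_eq : normalForm = true := by decide +kernel

theorem agree_iff {f g : QuaternionGroup 2 → QuaternionGroup 2} : agree f g = true ↔ ∀ x, f x = g x := by
  simp only [agree, List.all_eq_true, decide_eq_true_eq]
  exact ⟨fun h x => h x (mem_all8 x), fun h x _ => h x⟩

theorem exists_normalize (u v : MulAut (QuaternionGroup 2)) (hu : ∀ x, u (u (u x)) = x)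
    (hu1 : ∃ x, u x ≠ x) (hv : ∀ x, v (v x) = x) (huv : ∀ x, v (u (v x)) = u (u x)) :
    ∃ w : MulAut (QuaternionGroup 2), (∀ x, u (w x) = w (Octa.rot x)) ∧ ∀ x, v (w x) = w (Octa.flip x) := by
  have h := normalForm_eq
  simp only [normalForm, List.all_eq_true, Bool.or_eq_true, Bool.not_eq_true', List.any_eq_true,
    Bool.and_eq_true] at h
  rcases h _ (S3742.mem_pairs u) _ (S3742.mem_pairs v) with h | ⟨w, hw, h1, h2⟩
  · exfalso
    rw [ext8_eq, ext8_eq, ← Bool.not_eq_true] at h
    refine h ?_
    simp only [Bool.and_eq_true, agree_iff, Bool.not_eq_true']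
    refine ⟨⟨⟨hu, ?_⟩, hv⟩, huv⟩
    rw [← Bool.not_eq_true, agree_iff]
    push Not
    exact hu1
  · obtain ⟨γ, hγ1, hγ2⟩ := S3742.valid_hom hw
    rw [ext8_eq, agree_iff] at h1 h2
    refine ⟨γ, fun x => ?_, fun x => ?_⟩
    · have := h1 x
      rw [← hγ1, ← hγ2, ext8_eq] at this
      exact this
    · have := h2 x
      rw [← hγ1, ← hγ2, ext8_eq] at this
      exact this

/-- Involutions of `S₄` outside the four group fix a point. -/
theorem perm_four_invol : ∀ σ : Equiv.Perm (Fin 4), σ * σ = 1 →
    σ.sign = 1 ∨ ∃ i, σ i = i := by decide +kernel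

theorem perm_four_cent' : ∀ σ τ : Equiv.Perm (Fin 4),
    σ * σ * σ ≠ 1 ∨ σ = 1 ∨ τ * τ ≠ 1 ∨ σ * τ ≠ τ * σ ∨ τ = 1 := by decide +kernel

theorem perm_four_cent (σ τ : Equiv.Perm (Fin 4)) (h1 : σ * σ * σ = 1) (h2 : σ ≠ 1) (h3 : τ * τ = 1)
    (h4 : σ * τ = τ * σ) : τ = 1 := by
  rcases perm_four_cent' σ τ with h | h | h | h | h
  · exact absurd h1 h
  · exact absurd h h2
  · exact absurd h3 h
  · exact absurd h4 h
  · exact h

theorem perm_four_even : ∀ σ τ : Equiv.Perm (Fin 4), σ * σ = 1 → σ.sign = 1 → τ * τ = 1 → τ.sign = 1 →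
    σ * τ * (σ * τ) = 1 := by decide +kernel

theorem perm_four_card : (Finset.univ.filter fun σ : Equiv.Perm (Fin 4) => σ * σ = 1 ∧ σ.sign = 1).card = 4 := by
  decide +kernel

/-- The normal four group of `S₄`. -/
def fourGroup : Subgroup (Equiv.Perm (Fin 4)) where
  carrier := {σ | σ * σ = 1 ∧ σ.sign = 1}
  one_mem' := ⟨one_mul 1, map_one _⟩
  mul_mem' := fun {a b} ha hb => ⟨perm_four_even a b ha.1 ha.2 hb.1 hb.2,
    by rw [map_mul, ha.2, hb.2, one_mul]⟩
  inv_mem' := fun {a} ha => ⟨by rw [← mul_inv_rev, ha.1, inv_one], by rw [map_inv, ha.2, inv_one]⟩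

theorem fourGroup_normal : fourGroup.Normal :=
  ⟨fun n hn g => ⟨by
      rw [show g * n * g⁻¹ * (g * n * g⁻¹) = g * (n * n) * g⁻¹ by group, hn.1, mul_one, mul_inv_cancel],
    by rw [map_mul, map_mul, hn.2, mul_one, ← map_mul, mul_inv_cancel, map_one]⟩⟩

theorem fourGroup_card : Nat.card fourGroup = 4 := by
  classical
  show Nat.card {σ : Equiv.Perm (Fin 4) // σ * σ = 1 ∧ σ.sign = 1} = 4
  rw [Nat.card_eq_fintype_card, Fintype.card_subtype]
  exact perm_four_card

/-- One involution in `Q₈`. -/
theorem q8_invol : ∀ x : QuaternionGroup 2, x * x = 1 → x = 1 ∨ x = QuaternionGroup.a 2 := by decide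

theorem q8_center : Nat.card (Subgroup.center (QuaternionGroup 2)) = 2 := by
  rw [Nat.card_congr (Equiv.subtypeEquivRight (q := fun g => ∀ h, h * g = g * h)
    fun g => Subgroup.mem_center_iff), Nat.card_eq_fintype_card]
  decide

/-- The structure, for a solvable group with trivial core. -/
theorem core_case {X : Type*} [Group X] [Finite X] (hC : Subgroup.centralizer (Cfsg.pCore 2 X : Set X) ≤ Cfsg.pCore 2 X)
    (hnn : ∀ P : Sylow 2 X, ¬ (P : Subgroup X).Normal) (e : ↥(Cfsg.pCore 2 X) ≃* QuaternionGroup 2) :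
    Nonempty (X ≃* GL (Fin 2) (ZMod 3)) ∨
    (Nat.card X = 48 ∧ Nat.card ↥(Subgroup.center X) = 2 ∧
      Nonempty (X ⧸ Subgroup.center X ≃* Equiv.Perm (Fin 4)) ∧
      ∀ P : Sylow 2 X, Nonempty (↥(P : Subgroup X) ≃* QuaternionGroup 4)) := by
  classical
  haveI := Fact.mk Nat.prime_two
  haveI : Fact (Nat.Prime 3) := ⟨Nat.prime_three⟩
  have hR := CfsgLib.Fitting.pCore_isPGroup (G := X) 2
  haveI : (Cfsg.pCore 2 X).Normal := CfsgLib.Fitting.pCore_normal 2
  set R := Cfsg.pCore 2 X with hRdef
  have hR8 : Nat.card R = 8 := by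
    rw [Nat.card_congr e.toEquiv, Nat.card_eq_fintype_card, QuaternionGroup.card]
  have hnormalP : ∀ H : Subgroup X, H.Normal → IsPGroup 2 H → H ≤ R := fun H hn hp =>
    le_sSup ⟨hn, hp⟩
  have hno : ∀ H : Subgroup X, H.Normal → IsPGroup 2 H → ¬ 2 ∣ H.index → False := by
    intro H hn hp hi
    exact hnn (hp.toSylow hi) hn
  have h6 : R.index ∣ 6 := by
    have h := (CfsgLib.SmallTwo.relIndex_quaternion_dvd R e).2
    rwa [sup_eq_left.mpr hC, Subgroup.normalizer_eq_top_iff.mpr inferInstance, Subgroup.relIndex_top_right] at h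
  have hi6 : R.index = 6 := by
    have hle := Nat.le_of_dvd (by norm_num) h6
    generalize hd : R.index = d at h6 hle
    interval_cases d
    · norm_num at h6
    · exact absurd (hno R inferInstance hR (by rw [hd]; norm_num)) id
    · exfalso
      have hXp : IsPGroup 2 X := IsPGroup.of_card (n := 4) (by rw [← R.card_mul_index, hR8, hd]; norm_num)
      exact hno ⊤ inferInstance (hXp.of_equiv Subgroup.topEquiv.symm) (by rw [Subgroup.index_top]; norm_num)
    · exact absurd (hno R inferInstance hR (by rw [hd]; norm_num)) id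
    · norm_num at h6
    · norm_num at h6
    · rfl
  have h48 : Nat.card X = 48 := by rw [← R.card_mul_index, hR8, hi6]
  have hP16 : ∀ P : Sylow 2 X, Nat.card (P : Subgroup X) = 16 := fun P => by
    obtain ⟨k, hk⟩ := IsPGroup.iff_card.mp P.2
    have hm := (P : Subgroup X).card_mul_index
    have hodd := P.not_dvd_index
    rw [hk, h48] at hm
    rw [hk]
    have hk4 : 2 ^ k ∣ 48 := ⟨_, hm.symm⟩
    have hk5 : k ≤ 5 := by
      by_contra h
      have := Nat.le_of_dvd (by norm_num) hk4
      have : 2 ^ 6 ≤ 2 ^ k := Nat.pow_le_pow_right two_pos (by omega)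
      omega
    interval_cases k <;> simp at hm hk4 ⊢ <;> omega
  -- the central involution
  set z : X := ((e.symm (QuaternionGroup.a 2) : R) : X) with hz
  have hRinv : ∀ r : R, r * r = 1 → r = 1 ∨ (r : X) = z := fun r hr => by
    rcases q8_invol (e r) (by rw [← map_mul, hr, map_one]) with h | h
    · exact Or.inl (e.injective (h.trans (map_one e).symm))
    · exact Or.inr (by rw [hz, ← h, MulEquiv.symm_apply_apply])
  have hz1 : z ≠ 1 := fun h => by
    have : e.symm (QuaternionGroup.a 2) = 1 := Subtype.ext h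
    rw [← map_one e.symm] at this
    exact absurd (e.symm.injective this) (by decide)
  have hzz : z * z = 1 := by
    rw [hz, ← Subgroup.coe_mul, ← map_mul, show (QuaternionGroup.a 2 * QuaternionGroup.a 2 : QuaternionGroup 2) = 1 by decide,
      map_one, OneMemClass.coe_one]
  have hzR : z ∈ R := (e.symm (QuaternionGroup.a 2) : R).2
  have hzc : z ∈ Subgroup.center X := Subgroup.mem_center_iff.mpr fun g => by
    have hm : g * z * g⁻¹ ∈ R := (inferInstance : R.Normal).conj_mem z hzR g
    rcases hRinv ⟨_, hm⟩ (Subtype.ext (by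
        show g * z * g⁻¹ * (g * z * g⁻¹) = 1
        rw [show g * z * g⁻¹ * (g * z * g⁻¹) = g * (z * z) * g⁻¹ by group, hzz]; simp)) with h | h
    · exact absurd (conj_eq_one_iff.mp (congrArg Subtype.val h)) hz1
    · exact mul_inv_eq_iff_eq_mul.mp h
  have hzo : orderOf z = 2 := orderOf_eq_prime (by rw [pow_two, hzz]) hz1
  have hcle : Nat.card (Subgroup.center X) ≤ 2 := by
    rw [← q8_center]
    have hmem : ∀ c : Subgroup.center X, (c : X) ∈ R := fun c =>
      hC (Subgroup.center_le_centralizer _ c.2)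
    refine Nat.card_le_card_of_injective (fun c => ⟨e ⟨c, hmem c⟩, Subgroup.mem_center_iff.mpr fun q => ?_⟩)
      fun a b h => Subtype.ext (Subtype.mk.inj (e.injective (congrArg Subtype.val h)))
    obtain ⟨r, rfl⟩ := e.surjective q
    rw [← map_mul, ← map_mul]
    exact congrArg e (Subtype.ext (Subgroup.mem_center_iff.mp c.2 r))
  have hzle : Subgroup.zpowers z ≤ Subgroup.center X := Subgroup.zpowers_le.mpr hzc
  have hcenter : Nat.card (Subgroup.center X) = 2 := by
    have := Subgroup.card_le_of_le hzle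
    rw [Nat.card_zpowers, hzo] at this
    omega
  -- Sylow three-subgroups
  let T₀ : Sylow 3 X := default
  have hT3 : ∀ T : Sylow 3 X, Nat.card (T : Subgroup X) = 3 := fun T => by
    obtain ⟨k, hk⟩ := IsPGroup.iff_card.mp T.2
    have hm := (T : Subgroup X).card_mul_index
    have hnd := T.not_dvd_index
    rw [hk, h48] at hm
    rw [hk]
    have hk4 : 3 ^ k ∣ 48 := ⟨_, hm.symm⟩
    rcases k with _ | _ | k
    · exfalso; apply hnd; rw [pow_zero, one_mul] at hm; rw [hm]; norm_num
    · rfl
    · exfalso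
      have h9 : 3 ^ 2 ∣ 48 := dvd_trans (pow_dvd_pow 3 (Nat.le_add_left 2 k)) hk4
      norm_num at h9
  have hn4 : Nat.card (Sylow 3 X) = 4 := by
    have hdvd : Nat.card (Sylow 3 X) ∣ 16 := by
      refine dvd_trans T₀.card_dvd_index (dvd_of_eq ?_)
      have hm := (T₀ : Subgroup X).card_mul_index
      rw [hT3, h48] at hm
      omega
    have hmod : Nat.card (Sylow 3 X) % 3 = 1 := card_sylow_modEq_one 3 X
    have h1 : Nat.card (Sylow 3 X) ≠ 1 := by
      intro h
      have hn : (T₀ : Subgroup X).Normal := Subgroup.normalizer_eq_top_iff.mp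
        (Subgroup.index_eq_one.mp (T₀.card_eq_index_normalizer.symm.trans h))
      have hd : Disjoint (T₀ : Subgroup X) R := by
        rw [disjoint_iff]
        refine Subgroup.inf_eq_bot_of_coprime ?_
        rw [hT3, hR8]; norm_num
      have hTC : (T₀ : Subgroup X) ≤ R := le_trans (fun a ha => Subgroup.mem_centralizer_iff.mpr fun r hr =>
        (Subgroup.commute_of_normal_of_disjoint _ _ hn inferInstance hd a r ha hr).symm) hC
      have := Subgroup.card_dvd_of_le hTC
      rw [hT3, hR8] at this
      norm_num at this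
    have h16 : Nat.card (Sylow 3 X) ≠ 16 := by
      intro h
      set N := Subgroup.normalizer ((T₀ : Subgroup X) : Set X)
      have hzN : z ∈ N := Subgroup.center_le_normalizer _ hzc
      have hm := N.card_mul_index
      have hi : N.index = 16 := T₀.card_eq_index_normalizer.symm.trans h
      rw [hi, h48] at hm
      have := orderOf_dvd_natCard (⟨z, hzN⟩ : N)
      rw [Subgroup.orderOf_mk, hzo, show Nat.card N = 3 by omega] at this
      norm_num at this
    have := Nat.le_of_dvd (by norm_num) hdvd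
    generalize Nat.card (Sylow 3 X) = d at hdvd hmod h1 h16 this
    interval_cases d <;> omega
  let ι : Sylow 3 X ≃ Fin 4 := (Finite.equivFin _).trans (finCongr hn4)
  let φ : X →* Equiv.Perm (Fin 4) := ι.permCongrHom.toMonoidHom.comp (MulAction.toPermHom X (Sylow 3 X))
  have hφ : ∀ g, g ∈ φ.ker → ∀ T : Sylow 3 X, g • T = T := fun g hg T => by
    have h : ι.permCongrHom (MulAction.toPermHom X (Sylow 3 X) g) = 1 := hg
    exact Equiv.congr_fun (ι.permCongrHom.injective (h.trans (map_one _).symm)) T
  have hz_ker : z ∈ φ.ker := by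
    rw [MonoidHom.mem_ker]
    show ι.permCongrHom (MulAction.toPermHom X (Sylow 3 X) z) = 1
    have hone : MulAction.toPermHom X (Sylow 3 X) z = 1 :=
      Equiv.ext fun T => Sylow.smul_eq_iff_mem_normalizer.mpr (Subgroup.center_le_normalizer _ hzc)
    rw [hone, map_one]
  have hK3 : ∀ x ∈ φ.ker, x ^ 3 = 1 → x = 1 := by
    intro x hx hx3
    by_contra hx1
    have hxo : orderOf x = 3 := orderOf_eq_prime hx3 hx1
    have key : ∀ T : Sylow 3 X, (T : Subgroup X) = Subgroup.zpowers x := by
      intro T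
      have hxN : Subgroup.zpowers x ≤ Subgroup.normalizer ((T : Subgroup X) : Set X) :=
        Subgroup.zpowers_le.mpr (Sylow.smul_eq_iff_mem_normalizer.mp (hφ x hx T))
      have hp : IsPGroup 3 ↥(Subgroup.zpowers x ⊔ (T : Subgroup X)) :=
        (IsPGroup.of_card (n := 1) (by rw [Nat.card_zpowers, hxo, pow_one]) : IsPGroup 3 ↥(Subgroup.zpowers x))
          |>.to_sup_of_normal_right' T.2 hxN
      have hle : Subgroup.zpowers x ≤ T := by
        rw [← T.is_maximal' hp le_sup_right]; exact le_sup_left
      exact (Subgroup.eq_of_le_of_card_ge hle (by rw [Nat.card_zpowers, hxo, hT3])).symm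
    haveI : Subsingleton (Sylow 3 X) := ⟨fun a b => Sylow.ext ((key a).trans (key b).symm)⟩
    have := Finite.card_le_one_iff_subsingleton.mpr (inferInstance : Subsingleton (Sylow 3 X))
    omega
  have hKN : Nat.card φ.ker ∣ 12 := by
    have hm := (Subgroup.normalizer ((T₀ : Subgroup X) : Set X)).card_mul_index
    have hi : (Subgroup.normalizer ((T₀ : Subgroup X) : Set X)).index = 4 :=
      T₀.card_eq_index_normalizer.symm.trans hn4
    rw [hi, h48] at hm
    rw [show 12 = Nat.card (Subgroup.normalizer ((T₀ : Subgroup X) : Set X)) by omega]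
    exact Subgroup.card_dvd_of_le fun g hg => Sylow.smul_eq_iff_mem_normalizer.mp (hφ g hg T₀)
  have hK2 : Nat.card φ.ker = 2 := by
    have h3 : ¬ 3 ∣ Nat.card φ.ker := fun h => by
      obtain ⟨w, hw⟩ := exists_prime_orderOf_dvd_card' (G := φ.ker) 3 h
      have h1 := hK3 w w.2 (by rw [← hw, ← Subgroup.orderOf_coe, pow_orderOf_eq_one])
      rw [show w = 1 from Subtype.ext h1, orderOf_one] at hw
      omega
    have h2 : 2 ∣ Nat.card φ.ker := by
      have := orderOf_dvd_natCard (⟨z, hz_ker⟩ : φ.ker)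
      rwa [Subgroup.orderOf_mk, hzo] at this
    have := Nat.le_of_dvd (by norm_num) hKN
    rcases (show Nat.card φ.ker = 2 ∨ Nat.card φ.ker = 4 by
      generalize Nat.card φ.ker = d at h3 h2 hKN this
      interval_cases d <;> omega) with h | h
    · exact h
    exfalso
    have hr : φ.range.index = 2 := by
      have h1 := φ.ker.card_mul_index
      rw [Subgroup.index_ker, h, h48] at h1
      have h2 := φ.range.card_mul_index
      rw [Nat.card_perm, Nat.card_fin, show Nat.card φ.range = 12 by omega,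
        show (4 : ℕ).factorial = 24 from rfl] at h2
      omega
    have hr' := Equiv.Perm.eq_alternatingGroup_of_index_eq_two hr
    have hV : fourGroup ≤ φ.range := fun σ hσ => hr' ▸ Equiv.Perm.mem_alternatingGroup.mpr hσ.2
    haveI := fourGroup_normal
    have hc16 : Nat.card (fourGroup.comap φ) = 16 := by
      have hmap : (fourGroup.comap φ).map φ = fourGroup := Subgroup.map_comap_eq_self hV
      have h1 := (φ.ker.subgroupOf (fourGroup.comap φ)).card_mul_index
      rw [Nat.card_congr (Subgroup.subgroupOfEquivOfLe (φ.ker_le_comap fourGroup)).toEquiv, h] at h1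
      rw [← h1]
      have : (φ.ker.subgroupOf (fourGroup.comap φ)) = (φ.comp (fourGroup.comap φ).subtype).ker := by
        ext a; rfl
      rw [this, Subgroup.index_ker, MonoidHom.range_comp, Subgroup.range_subtype, hmap, fourGroup_card]
    refine hno (fourGroup.comap φ) inferInstance (IsPGroup.of_card (n := 4) (by rw [hc16]; norm_num)) ?_
    have := (fourGroup.comap φ).card_mul_index
    rw [hc16, h48] at this
    rw [show (fourGroup.comap φ).index = 3 by omega]
    norm_num
  have hKz : φ.ker = Subgroup.center X := by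
    have h1 : Subgroup.zpowers z = φ.ker := Subgroup.eq_of_le_of_card_ge (Subgroup.zpowers_le.mpr hz_ker)
      (by rw [Nat.card_zpowers, hzo, hK2])
    have h2 : Subgroup.zpowers z = Subgroup.center X := Subgroup.eq_of_le_of_card_ge hzle
      (by rw [Nat.card_zpowers, hzo, hcenter])
    exact h1.symm.trans h2
  have hsurj : Function.Surjective φ := by
    rw [← MonoidHom.range_eq_top]
    refine Subgroup.eq_top_of_card_eq _ ?_
    have h1 := φ.ker.card_mul_index
    rw [Subgroup.index_ker, hK2, h48] at h1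
    rw [Nat.card_perm, Nat.card_fin, show (4 : ℕ).factorial = 24 from rfl]
    omega
  by_cases hex : ∃ t : X, t * t = 1 ∧ t ∉ R
  swap
  · push Not at hex
    refine Or.inr ⟨h48, hcenter, ⟨(QuotientGroup.quotientMulEquivOfEq hKz.symm).trans
      (QuotientGroup.quotientKerEquivOfSurjective φ hsurj)⟩, fun P => ?_⟩
    have huniq : ∀ x y : (P : Subgroup X), orderOf x = 2 → orderOf y = 2 → x = y := by
      intro x y hx hy
      have hm : ∀ w : (P : Subgroup X), orderOf w = 2 → (w : X) = z := fun w hw => by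
        have h2 : (w : X) * w = 1 := by
          have h' : w ^ 2 = 1 := orderOf_dvd_iff_pow_eq_one.mp hw.dvd
          rw [← pow_two]; exact congrArg Subtype.val h'
        refine (hRinv ⟨w, hex _ h2⟩ (Subtype.ext h2)).resolve_left fun h => ?_
        rw [show w = 1 from Subtype.ext (show (w : X) = 1 from congrArg Subtype.val h), orderOf_one] at hw
        omega
      exact Subtype.ext ((hm x hx).trans (hm y hy).symm)
    have hRP : R ≤ (P : Subgroup X) := IsPGroup.le_sylow_of_normal hR P
    rcases CfsgLib.ZStar.cyclic_or_quaternion P.2 huniq with hc | ⟨m, ⟨g⟩⟩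
    · exfalso
      haveI := hc
      haveI : IsCyclic R := Subgroup.isCyclic_of_le hRP
      haveI : IsCyclic (QuaternionGroup 2) := isCyclic_of_surjective e e.surjective
      obtain ⟨q, hq⟩ := IsCyclic.exists_generator (α := QuaternionGroup 2)
      obtain ⟨i, hi⟩ := hq (QuaternionGroup.a 1)
      obtain ⟨j, hj⟩ := hq (QuaternionGroup.xa 0)
      have : (QuaternionGroup.a 1 : QuaternionGroup 2) * QuaternionGroup.xa 0 =
          QuaternionGroup.xa 0 * QuaternionGroup.a 1 := by
        rw [← show q ^ i = _ from hi, ← show q ^ j = _ from hj, ← zpow_add, ← zpow_add, add_comm]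
      revert this
      decide
    · haveI : NeZero (2 ^ m) := ⟨by positivity⟩
      have hm : 2 ^ m = 4 := by
        have := hP16 P
        rw [Nat.card_congr g.toEquiv, Nat.card_eq_fintype_card, QuaternionGroup.card] at this
        omega
      exact ⟨hm ▸ g⟩
  obtain ⟨t, ht, htR⟩ := hex
  left
  have htsign : ¬ (φ t).sign = 1 := fun h => htR (by
    have hn := fourGroup_normal
    refine hnormalP (fourGroup.comap φ) inferInstance (IsPGroup.of_card (n := 3) ?_)
      (show φ t * φ t = 1 ∧ _ from ⟨by rw [← map_mul, ht, map_one], h⟩)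
    have hmap : (fourGroup.comap φ).map φ = fourGroup := Subgroup.map_comap_eq_self_of_surjective hsurj _
    have h1 := (φ.ker.subgroupOf (fourGroup.comap φ)).card_mul_index
    rw [Nat.card_congr (Subgroup.subgroupOfEquivOfLe (φ.ker_le_comap fourGroup)).toEquiv, hK2] at h1
    rw [← h1]
    have : (φ.ker.subgroupOf (fourGroup.comap φ)) = (φ.comp (fourGroup.comap φ).subtype).ker := by
      ext a; rfl
    rw [this, Subgroup.index_ker, MonoidHom.range_comp, Subgroup.range_subtype, hmap, fourGroup_card]
    rfl)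
  obtain ⟨i, hi⟩ := (perm_four_invol (φ t) (by rw [← map_mul, ht, map_one])).resolve_left htsign
  set T := ι.symm i
  have htT : t • T = T := ι.injective (by
    show φ t i = ι (ι.symm i)
    rw [hi, Equiv.apply_symm_apply])
  obtain ⟨α₀, hα₀⟩ := exists_prime_orderOf_dvd_card' (G := (T : Subgroup X)) 3 (by rw [hT3])
  have hαo : orderOf (α₀ : X) = 3 := by rw [Subgroup.orderOf_coe, hα₀]
  set α : X := (α₀ : X) with hαdef
  have hα3 : α * α * α = 1 := by
    rw [← pow_two, ← pow_succ]
    exact orderOf_dvd_iff_pow_eq_one.mp hαo.dvd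
  have hαR : α ∉ R := fun h => by
    have := orderOf_dvd_natCard (⟨α, h⟩ : R)
    rw [Subgroup.orderOf_mk, hαo, hR8] at this
    norm_num at this
  have hTz : (T : Subgroup X) = Subgroup.zpowers α := (Subgroup.eq_of_le_of_card_ge
    (Subgroup.zpowers_le.mpr α₀.2) (by rw [Nat.card_zpowers, hαo, hT3])).symm
  have htα : t * α * t⁻¹ = α⁻¹ := by
    have hm : t * α * t⁻¹ ∈ Subgroup.zpowers α := hTz ▸
      (Subgroup.mem_normalizer_iff.mp (Sylow.smul_eq_iff_mem_normalizer.mp htT) α).mp α₀.2
    obtain ⟨k, hk⟩ := Subgroup.mem_zpowers_iff.mp hm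
    have hk3 : (k % 3 = 0 ∨ k % 3 = 1) ∨ k % 3 = 2 := by omega
    rw [← zpow_mod_orderOf, hαo] at hk
    push_cast at hk
    rcases hk3 with (h | h) | h <;> rw [h] at hk
    · exfalso
      rw [zpow_zero] at hk
      exact hαR (by rw [conj_eq_one_iff.mp hk.symm]; exact one_mem R)
    · exfalso
      rw [zpow_one] at hk
      refine htsign ?_
      have hc : φ α * φ t = φ t * φ α := by
        rw [← map_mul, ← map_mul]
        congr 1
        calc α * t = t * α * t⁻¹ * t := by rw [← hk]
          _ = t * α := by group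
      rw [perm_four_cent (φ α) (φ t) (by rw [← map_mul, ← map_mul, hα3, map_one])
        (fun h1 => hαR (by
          have hk : α ∈ φ.ker := h1
          rw [hK3 α hk (by rw [← hαo]; exact pow_orderOf_eq_one α)]; exact one_mem R))
        (by rw [← map_mul, ht, map_one]) hc, map_one]
    · rw [← hk]
      exact eq_inv_of_mul_eq_one_left (by rw [zpow_two]; exact hα3)
  let act : X → MulAut (QuaternionGroup 2) := fun g => MulAut.congr e (MulAut.conjNormal g)
  have hact : ∀ g x, ((e.symm (act g x) : R) : X) = g * (e.symm x : R) * g⁻¹ := fun g x => by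
    show ((e.symm (e (MulAut.conjNormal g (e.symm x))) : R) : X) = _
    rw [MulEquiv.symm_apply_apply]
    rfl
  have hinj : ∀ x y : QuaternionGroup 2, ((e.symm x : R) : X) = (e.symm y : R) → x = y :=
    fun x y h => e.symm.injective (Subtype.ext h)
  obtain ⟨w, hw1, hw2⟩ := exists_normalize (act α) (act t)
    (fun x => hinj _ _ (by
      rw [hact, hact, hact]
      calc α * (α * (α * (e.symm x : R) * α⁻¹) * α⁻¹) * α⁻¹
          = (α * α * α) * (e.symm x : R) * (α * α * α)⁻¹ := by group
        _ = _ := by rw [hα3]; group))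
    (by
      by_contra h
      push Not at h
      refine hαR (hC (Subgroup.mem_centralizer_iff.mpr fun r hr => ?_))
      have := hact α (e ⟨r, hr⟩)
      rw [h, MulEquiv.symm_apply_apply] at this
      exact (mul_inv_eq_iff_eq_mul.mp this.symm).symm)
    (fun x => hinj _ _ (by
      rw [hact, hact]
      calc t * (t * (e.symm x : R) * t⁻¹) * t⁻¹ = (t * t) * (e.symm x : R) * (t * t)⁻¹ := by group
        _ = _ := by rw [ht]; group))
    (fun x => hinj _ _ (by
      rw [hact, hact, hact, hact, hact]
      have h2 : t * α * t = α * α := by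
        calc t * α * t = t * α * t⁻¹ * (t * t) := by group
          _ = α⁻¹ := by rw [htα, ht, mul_one]
          _ = α * α := inv_eq_of_mul_eq_one_right (by rw [← mul_assoc, hα3])
      calc t * (α * (t * (e.symm x : R) * t⁻¹) * α⁻¹) * t⁻¹
          = (t * α * t) * (e.symm x : R) * (t * α * t)⁻¹ := by group
        _ = _ := by rw [h2]; group))
  let f : QuaternionGroup 2 →* X := R.subtype.comp (e.symm.toMonoidHom.comp w.toMonoidHom)
  have hfR : ∀ x, f x ∈ R := fun x => (e.symm (w x) : R).2
  refine Octa.equiv_gl h48 f (fun x y h => w.injective (hinj _ _ h)) α t hα3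
    (fun ⟨x, hx⟩ => hαR (hx ▸ hfR x)) ht htα (fun x => ?_) (fun x => ?_)
  · show α * (e.symm (w x) : R) * α⁻¹ = (e.symm (w (Octa.rot x)) : R)
    rw [← hact, hw1]
  · show t * (e.symm (w x) : R) * t⁻¹ = (e.symm (w (Octa.flip x)) : R)
    rw [← hact, hw2]


/-- Let G be a finite solvable group in which the intersection of any two distinct Sylow 2-subgroups has 2-rank at most 1 (contains no Klein four-group). Write Q = G/O(G), O(G) the largest normal subgroup of odd order. Then Q has a normal Sylow 2-subgroup; or Q is isomorphic to GL(2,3); or Q has order 48, centre of order 2 with central quotient isomorphic to the symmetric group of degree 4, and generalized quaternion Sylow 2-subgroups of order 16 (the binary octahedral group). The last two are the two representation groups of the symmetric group of degree 4. -/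
theorem result {G : Type*} [Group G] [Finite G] (hs : Group.IsSolvable G)
    (hI : ∀ S T : Sylow 2 G, S ≠ T → Cfsg.PRankLE 2 1 ↥((S : Subgroup G) ⊓ (T : Subgroup G))) :
    (∃ P : Sylow 2 (G ⧸ Cfsg.oddCore G), (P : Subgroup (G ⧸ Cfsg.oddCore G)).Normal) ∨
    Nonempty ((G ⧸ Cfsg.oddCore G) ≃* GL (Fin 2) (ZMod 3)) ∨
    (Nat.card (G ⧸ Cfsg.oddCore G) = 48 ∧ Nat.card ↥(Subgroup.center (G ⧸ Cfsg.oddCore G)) = 2 ∧
      Nonempty ((G ⧸ Cfsg.oddCore G) ⧸ Subgroup.center (G ⧸ Cfsg.oddCore G) ≃* Equiv.Perm (Fin 4)) ∧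
      ∀ P : Sylow 2 (G ⧸ Cfsg.oddCore G), Nonempty (↥(P : Subgroup (G ⧸ Cfsg.oddCore G)) ≃* QuaternionGroup 4)) := by
  classical
  haveI := Fact.mk Nat.prime_two
  by_cases hnn : ∃ P : Sylow 2 (G ⧸ Cfsg.oddCore G), (P : Subgroup (G ⧸ Cfsg.oddCore G)).Normal
  · exact Or.inl hnn
  push Not at hnn
  refine Or.inr ?_
  have hker : (Nat.card (QuotientGroup.mk' (Cfsg.oddCore G)).ker).Coprime 2 := by
    rw [QuotientGroup.ker_mk']; exact CfsgLib.Transfer.pPrimeCore_coprime 2
  have hC' := CfsgLib.Invol.solvable_centralizer_core_le hs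
  have hR := CfsgLib.Fitting.pCore_isPGroup (G := G ⧸ Cfsg.oddCore G) 2
  haveI : (Cfsg.pCore 2 (G ⧸ Cfsg.oddCore G)).Normal := CfsgLib.Fitting.pCore_normal 2
  set f := QuotientGroup.mk' (Cfsg.oddCore G)
  have hf : Function.Surjective f := QuotientGroup.mk'_surjective _
  obtain ⟨P, hP⟩ := CfsgLib.PSolvable.exists_map_eq hf hR hker
  set D := (P : Subgroup ((Cfsg.pCore 2 (G ⧸ Cfsg.oddCore G)).comap f)).map
    ((Cfsg.pCore 2 (G ⧸ Cfsg.oddCore G)).comap f).subtype
  have hD : IsPGroup 2 D := P.2.map _
  set N := Subgroup.normalizer (D : Set G)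
  let h : N →* G ⧸ Cfsg.oddCore G := f.comp N.subtype
  have hh : Function.Surjective h := fun y => by
    have hy : y ∈ N.map f := by
      rw [CfsgLib.PSolvable.map_normalizer_eq hf hker hD, hP, Subgroup.normalizer_eq_top_iff.mpr inferInstance]
      exact Subgroup.mem_top y
    obtain ⟨n, hn, rfl⟩ := hy
    exact ⟨⟨n, hn⟩, rfl⟩
  let Q : Sylow 2 N := default
  obtain ⟨y, hy⟩ : ∃ y, y ∉ Subgroup.normalizer ((Q.mapSurjective hh : Subgroup (G ⧸ Cfsg.oddCore G)) : Set (G ⧸ Cfsg.oddCore G)) := by
    by_contra hall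
    push Not at hall
    exact hnn (Q.mapSurjective hh) (Subgroup.normalizer_eq_top_iff.mp (eq_top_iff.mpr fun y _ => hall y))
  obtain ⟨n, rfl⟩ := hh y
  have hDQ : ∀ Q : Sylow 2 N, D ≤ (Q : Subgroup N).map N.subtype := fun Q d hd => by
    have hdn : d ∈ N := Subgroup.le_normalizer hd
    haveI : (D.comap N.subtype).Normal := Subgroup.normal_in_normalizer
    exact ⟨⟨d, hdn⟩, IsPGroup.le_sylow_of_normal (hD.comap_of_injective N.subtype N.subtype_injective) Q hd, rfl⟩
  obtain ⟨S, hS⟩ := (Q.2.map N.subtype).exists_le_sylow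
  obtain ⟨T, hT⟩ := ((n • Q).2.map N.subtype).exists_le_sylow
  have hST : S ≠ T := by
    intro e
    subst e
    have e1 : (S : Subgroup G).map f = Q.mapSurjective hh :=
      (Q.mapSurjective hh).is_maximal' (S.2.map f) (by
        rintro _ ⟨q, hq, rfl⟩
        exact ⟨(q : G), hS ⟨q, hq, rfl⟩, rfl⟩)
    have e2 : (S : Subgroup G).map f = (n • Q).mapSurjective hh :=
      ((n • Q).mapSurjective hh).is_maximal' (S.2.map f) (by
        rintro _ ⟨q, hq, rfl⟩
        exact ⟨(q : G), hT ⟨q, hq, rfl⟩, rfl⟩)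
    refine hy (Sylow.smul_eq_iff_mem_normalizer.mp (Sylow.ext ?_))
    rw [← e1, e2, Sylow.coe_subgroup_smul, Sylow.coe_mapSurjective, Sylow.coe_mapSurjective, Sylow.coe_subgroup_smul]
    ext z
    simp only [Subgroup.mem_smul_pointwise_iff_exists, Subgroup.mem_map]
    constructor
    · rintro ⟨_, ⟨a, ha, rfl⟩, rfl⟩
      exact ⟨_, ⟨a, ha, rfl⟩, by simp [MulAut.conj_apply]⟩
    · rintro ⟨_, ⟨a, ha, rfl⟩, rfl⟩
      exact ⟨_, ⟨a, ha, rfl⟩, by simp [MulAut.conj_apply]⟩
  have hDI : D ≤ (S : Subgroup G) ⊓ (T : Subgroup G) := le_inf ((hDQ Q).trans hS) ((hDQ (n • Q)).trans hT)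
  have huniq : ∀ x y : Cfsg.pCore 2 (G ⧸ Cfsg.oddCore G), orderOf x = 2 → orderOf y = 2 → x = y := by
    have huD : ∀ a ∈ D, ∀ b ∈ D, orderOf a = 2 → orderOf b = 2 → a * b = b * a → a = b := by
      intro a ha b hb hao hbo hab
      by_contra hne
      have ha1 := CfsgLib.Invol.ne_one_of_orderOf_two hao
      have hb1 := CfsgLib.Invol.ne_one_of_orderOf_two hbo
      have haa := CfsgLib.Invol.mul_self_of_orderOf_two hao
      have hbb := CfsgLib.Invol.mul_self_of_orderOf_two hbo
      set I := (S : Subgroup G) ⊓ (T : Subgroup G)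
      set a' : I := ⟨a, hDI ha⟩
      set b' : I := ⟨b, hDI hb⟩
      have hc : a' * b' = b' * a' := Subtype.ext hab
      let A : Subgroup I :=
        { carrier := {x | x = 1 ∨ x = a' ∨ x = b' ∨ x = a' * b'}
          one_mem' := Or.inl rfl
          mul_mem' := by
            have h1 : a' * a' = 1 := Subtype.ext haa
            have h2 : b' * b' = 1 := Subtype.ext hbb
            have h3 : a' * (a' * b') = b' := by rw [← mul_assoc, h1, one_mul]
            have h4 : b' * (a' * b') = a' := by rw [hc, ← mul_assoc, h2, one_mul]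
            have h5 : a' * b' * a' = b' := by rw [mul_assoc, ← hc, h3]
            have h6 : a' * b' * b' = a' := by rw [mul_assoc, h2, mul_one]
            have h7 : a' * b' * (a' * b') = 1 := by rw [← mul_assoc, h5, h2]
            rintro x y (rfl | rfl | rfl | rfl) (rfl | rfl | rfl | rfl) <;>
              simp [h1, h2, h3, h4, h5, h6, h7, ← hc]
          inv_mem' := by
            have h1 : a'⁻¹ = a' := inv_eq_of_mul_eq_one_right (Subtype.ext haa)
            have h2 : b'⁻¹ = b' := inv_eq_of_mul_eq_one_right (Subtype.ext hbb)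
            rintro x (rfl | rfl | rfl | rfl)
            · exact Or.inl inv_one
            · exact Or.inr (Or.inl h1)
            · exact Or.inr (Or.inr (Or.inl h2))
            · refine Or.inr (Or.inr (Or.inr ?_))
              rw [mul_inv_rev, h1, h2, hc] }
      have hA : ∀ u ∈ A, ∀ v ∈ A, u * v = v * u := by
        intro u hu v hv
        have ca : Commute a' b' := hc
        rcases hu with rfl | rfl | rfl | rfl <;> rcases hv with rfl | rfl | rfl | rfl <;>
          first
            | exact Commute.one_left _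
            | exact Commute.one_right _
            | exact Commute.refl _
            | exact ca
            | exact ca.symm
            | exact (Commute.refl a').mul_right ca
            | exact ((Commute.refl a').mul_right ca).symm
            | exact ca.symm.mul_right (Commute.refl b')
            | exact (ca.symm.mul_right (Commute.refl b')).symm
      have hexp : ∀ u ∈ A, u ^ 2 = 1 := by
        intro u hu
        rw [pow_two]
        refine Subtype.ext ?_
        rcases hu with rfl | rfl | rfl | rfl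
        · simp
        · exact haa
        · exact hbb
        · show a * b * (a * b) = 1
          rw [show a * b * (a * b) = a * (b * a) * b by group, ← hab,
            show a * (a * b) * b = (a * a) * (b * b) by group, haa, hbb, one_mul]
      have hle := hI S T hST A ⟨⟨fun u v => Subtype.ext (hA u u.2 v v.2)⟩⟩ hexp
      let j : Fin 3 → A := ![1, ⟨a', Or.inr (Or.inl rfl)⟩, ⟨b', Or.inr (Or.inr (Or.inl rfl))⟩]
      have hj : Function.Injective j := by
        intro p q hpq
        have hpq' := congrArg (fun x : A => ((x : I) : G)) hpq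
        fin_cases p <;> fin_cases q <;>
          first | rfl | (exfalso; simp [j, a', b', hne, Ne.symm hne, ha1, Ne.symm ha1, hb1, Ne.symm hb1] at hpq')
      have := Nat.card_le_card_of_injective j hj
      rw [Nat.card_fin] at this
      exact absurd (this.trans hle) (by norm_num)
    have hinj : ∀ a ∈ D, ∀ b ∈ D, f a = f b → a = b := fun a ha b hb hab => by
      refine mul_inv_eq_one.mp (CfsgLib.PSolvable.eq_one_of_mem_of_mem hD hker (mul_mem ha (inv_mem hb)) ?_)
      rw [MonoidHom.mem_ker, map_mul, map_inv, hab, mul_inv_cancel]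
    -- involutions of `D` are unique
    have hDuniq : ∀ a ∈ D, ∀ b ∈ D, orderOf a = 2 → orderOf b = 2 → a = b := by
      haveI : Group.IsNilpotent D := hD.isNilpotent
      intro a ha b hb hao hbo
      haveI : Nontrivial D := ⟨⟨⟨a, ha⟩, 1, fun h => CfsgLib.Invol.ne_one_of_orderOf_two hao (congrArg Subtype.val h)⟩⟩
      haveI := hD.center_nontrivial
      obtain ⟨c, hc⟩ := exists_prime_orderOf_dvd_card' (G := Subgroup.center D) 2 (by
        obtain ⟨k, hk⟩ := IsPGroup.iff_card.mp (hD.to_subgroup (Subgroup.center D))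
        rw [hk]
        refine dvd_pow_self 2 fun h0 => ?_
        rw [h0, pow_zero] at hk
        exact (Finite.one_lt_card (α := Subgroup.center D)).ne' hk)
      have hco : orderOf (((c : D) : G)) = 2 := by rw [Subgroup.orderOf_coe, Subgroup.orderOf_coe, hc]
      have key : ∀ x ∈ D, orderOf x = 2 → x = ((c : D) : G) := fun x hx hxo =>
        huD x hx _ (c : D).2 hxo hco (congrArg Subtype.val (Subgroup.mem_center_iff.mp c.2 ⟨x, hx⟩))
      exact (key a ha hao).trans (key b hb hbo).symm
    intro x y hx hy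
    have hxm : (x : G ⧸ Cfsg.oddCore G) ∈ D.map f := hP.ge x.2
    have hym : (y : G ⧸ Cfsg.oddCore G) ∈ D.map f := hP.ge y.2
    obtain ⟨a, ha, hax⟩ := hxm
    obtain ⟨b, hb, hby⟩ := hym
    have hord : ∀ (a : G) (x : Cfsg.pCore 2 (G ⧸ Cfsg.oddCore G)), a ∈ D → f a = x → orderOf x = 2 → orderOf a = 2 := by
      intro a x ha hax hx
      refine orderOf_eq_prime (hinj _ (pow_mem ha 2) 1 (one_mem D) ?_) fun h1 => ?_
      · rw [map_pow, hax, ← SubmonoidClass.coe_pow, orderOf_dvd_iff_pow_eq_one.mp hx.dvd, OneMemClass.coe_one, map_one]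
      · rw [h1, map_one] at hax
        rw [show x = 1 from Subtype.ext hax.symm, orderOf_one] at hx
        omega
    exact Subtype.ext (by rw [← hax, ← hby, hDuniq a ha b hb (hord a x ha hax hx) (hord b y hb hby hy)])
  rcases CfsgLib.Invol.mulAut_or_quaternion_eight hR huniq with hA | hg
  · exfalso
    have h2 := CfsgLib.Invol.isPGroup_of_mulAut hR hC' hA
    refine hnn (Q.mapSurjective hh) ?_
    rw [← (Q.mapSurjective hh).is_maximal' (h2.of_equiv Subgroup.topEquiv.symm) le_top]
    infer_instance
  · obtain ⟨g⟩ := hg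
    exact core_case hC' hnn g
end Cfsg.Agent.S3304
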