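import Cfsg.Statements.S4774
import Cfsg.Agent.Lib.RankOne.SLDegreeSet
-- import your own Cfsg.Agent.* helpers here

set_option autoImplicit false
open Cfsg

namespace Cfsg.Agent.S4774

/-- Let F be a finite field of odd characteristic t with q > 5 elements and let S be isomorphic to PSL(2,F) or to SL(2,F). Then the vertices of the character degree graph of S are the primes dividing q(q²−1); the prime t is adjacent to no vertex; two distinct primes dividing q² − 1 are adjacent exactly when one of them is 2, or both divide q + 1, or both divide q − 1. -/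
theorem result (F : Type*) [Field F] [Fintype F] (t : ℕ) [Fact t.Prime] [CharP F t] (ht : t ≠ 2) (q : ℕ) (hq : Fintype.card F = q) (h5 : 5 < q) {S : Type*} [Group S] [Finite S] (hS : Nonempty (S ≃* Matrix.ProjectiveSpecialLinearGroup (Fin 2) F) ∨ Nonempty (S ≃* Matrix.SpecialLinearGroup (Fin 2) F)) : Cfsg.degreePrimes S = {r : ℕ | r.Prime ∧ r ∣ q * (q ^ 2 - 1)} ∧ ∀ r s : ℕ, (Cfsg.degreeGraph S).Adj r s ↔ (r ≠ s ∧ r.Prime ∧ s.Prime ∧ r ∣ q ^ 2 - 1 ∧ s ∣ q ^ 2 - 1 ∧ (r = 2 ∨ s = 2 ∨ (r ∣ q + 1 ∧ s ∣ q + 1) ∨ (r ∣ q - 1 ∧ s ∣ q - 1))) := by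
  classical
  subst hq
  have ht' : t.Prime := Fact.out
  obtain ⟨n, -, hn⟩ := FiniteField.card F t
  have h2 : ringChar F ≠ 2 := by rw [ringChar.eq F t]; exact ht
  have hodd := FiniteField.odd_card_of_char_ne_two h2
  obtain ⟨f, hf, hk⟩ := CfsgLib.RankOne.SLTwo.exists_quot hS
  obtain ⟨h1, h1'⟩ := CfsgLib.RankOne.SLTwo.succ_pred_mem_charDegrees h5 h2 f hf hk
  obtain ⟨hP, hA⟩ := CfsgLib.RankOne.SLTwo.degreeGraph_aux (q := Fintype.card F) hn ht'
    (D := Cfsg.charDegrees S) (by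
      rintro d ⟨η, rfl⟩
      rcases CfsgLib.RankOne.SLTwo.charDegree_quot_cases f hf η with
        e | e | e | ⟨-, e⟩ | e | ⟨-, e⟩ <;> rw [e]
      · exact Or.inl rfl
      · exact Or.inr (Or.inl rfl)
      · exact Or.inr (Or.inr (Or.inl dvd_rfl))
      · exact Or.inr (Or.inr (Or.inl (Nat.div_dvd_of_dvd (by omega))))
      · exact Or.inr (Or.inr (Or.inr dvd_rfl))
      · exact Or.inr (Or.inr (Or.inr (Nat.div_dvd_of_dvd (by omega)))))
    (CfsgLib.RankOne.SLTwo.card_mem_charDegrees f hf hk) h1 h1'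
  refine ⟨hP, fun r s => (hA r s).trans ?_⟩
  rw [CfsgLib.RankOne.SLTwo.sq_sub_one]
  refine and_congr_right fun hne => and_congr_right fun hr => and_congr_right fun hs => ⟨?_, ?_⟩
  · rintro (⟨a, b⟩ | ⟨a, b⟩)
    · exact ⟨dvd_mul_of_dvd_left a _, dvd_mul_of_dvd_left b _, Or.inr (Or.inr (Or.inl ⟨a, b⟩))⟩
    · exact ⟨dvd_mul_of_dvd_right a _, dvd_mul_of_dvd_right b _, Or.inr (Or.inr (Or.inr ⟨a, b⟩))⟩
  · rintro ⟨a, b, rfl | rfl | h | h⟩
    · rcases hs.dvd_mul.1 b with b | b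
      · exact Or.inl ⟨by omega, b⟩
      · exact Or.inr ⟨by omega, b⟩
    · rcases hr.dvd_mul.1 a with a | a
      · exact Or.inl ⟨a, by omega⟩
      · exact Or.inr ⟨a, by omega⟩
    · exact Or.inl h
    · exact Or.inr h


end Cfsg.Agent.S4774
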