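import Cfsg.Statements.S2300
import Cfsg.Agent.Lib.RankOne.SLDegree
-- import your own Cfsg.Agent.* helpers here

set_option autoImplicit false
open Cfsg

namespace Cfsg.Agent.S2300

/-- Over a finite field F with q elements, q even, every irreducible complex character of SL₂ has degree 1, q − 1, q or q + 1; and when q ≥ 4 (so that these four numbers are distinct) there are exactly one irreducible character of degree 1, one of degree q, (q − 2)/2 of degree q + 1 and q/2 of degree q − 1. -/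
theorem result {F : Type*} [Field F] [Fintype F] [CharP F 2] :
    (∀ χ : Matrix.SpecialLinearGroup (Fin 2) F → ℂ, Cfsg.IsIrrCharacter (Matrix.SpecialLinearGroup (Fin 2) F) χ →
      χ 1 = 1 ∨ χ 1 = (Fintype.card F : ℂ) - 1 ∨ χ 1 = (Fintype.card F : ℂ) ∨ χ 1 = (Fintype.card F : ℂ) + 1) ∧
    (4 ≤ Fintype.card F →
      Nat.card {χ : Cfsg.IrrCharacter (Matrix.SpecialLinearGroup (Fin 2) F) // (χ : Matrix.SpecialLinearGroup (Fin 2) F → ℂ) 1 = 1} = 1 ∧
      Nat.card {χ : Cfsg.IrrCharacter (Matrix.SpecialLinearGroup (Fin 2) F) // (χ : Matrix.SpecialLinearGroup (Fin 2) F → ℂ) 1 = (Fintype.card F : ℂ)} = 1 ∧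
      Nat.card {χ : Cfsg.IrrCharacter (Matrix.SpecialLinearGroup (Fin 2) F) // (χ : Matrix.SpecialLinearGroup (Fin 2) F → ℂ) 1 = (Fintype.card F : ℂ) + 1} = (Fintype.card F - 2) / 2 ∧
      Nat.card {χ : Cfsg.IrrCharacter (Matrix.SpecialLinearGroup (Fin 2) F) // (χ : Matrix.SpecialLinearGroup (Fin 2) F → ℂ) 1 = (Fintype.card F : ℂ) - 1} = Fintype.card F / 2) := by
  classical
  have h2 : ringChar F = 2 := ringChar.eq F 2
  refine ⟨fun χ hχ => ?_, fun hq => ?_⟩
  · rcases CfsgLib.RankOne.SLTwo.degree_cases hχ with ⟨-, h⟩ | ⟨-, h⟩ | ⟨-, h⟩ | ⟨hh, -⟩ | ⟨-, h⟩ | ⟨-, h', -⟩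
    · exact Or.inl h
    · exact Or.inr (Or.inr (Or.inl h))
    · exact Or.inr (Or.inr (Or.inr h))
    · exact absurd h2 hh.odd
    · exact Or.inr (Or.inl h)
    · exact absurd h2 h'
  have hp := CfsgLib.RankOne.SLTwo.two_mul_card_psSet (F := F)
  rw [CfsgLib.RankOne.SLTwo.nquad_even h2] at hp
  refine ⟨CfsgLib.RankOne.SLTwo.card_degree_one hq, CfsgLib.RankOne.SLTwo.card_degree_card, ?_, ?_⟩
  · rw [CfsgLib.RankOne.SLTwo.card_degree_succ]
    have : 2 * Nat.card (CfsgLib.RankOne.SLTwo.psSet F) + 2 = Fintype.card F := by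
      have : ((2 * Nat.card (CfsgLib.RankOne.SLTwo.psSet F) + 2 : ℕ) : ℂ) = (Fintype.card F : ℂ) := by
        push_cast at hp ⊢; linear_combination hp
      exact_mod_cast this
    omega
  · rw [Nat.card_congr (Equiv.subtypeEquivRight (q := fun χ : Cfsg.IrrCharacter (Matrix.SpecialLinearGroup (Fin 2) F) =>
        CfsgLib.RankOne.SLTwo.Cusp (χ : Matrix.SpecialLinearGroup (Fin 2) F → ℂ)) fun χ =>
      ⟨fun h => CfsgLib.RankOne.SLTwo.kind_of_degree_pred hq χ.2 h, fun h =>
        (h.shape χ.2).elim And.left fun h' => absurd h2 h'.1⟩)]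
    have e := CfsgLib.RankOne.SLTwo.card_cusp_even (F := F) h2
    set n := Nat.card {χ : Cfsg.IrrCharacter (Matrix.SpecialLinearGroup (Fin 2) F) //
      CfsgLib.RankOne.SLTwo.Cusp (χ : Matrix.SpecialLinearGroup (Fin 2) F → ℂ)}
    have : 2 * n = Fintype.card F := by
      have : ((2 * n : ℕ) : ℂ) = (Fintype.card F : ℂ) := by push_cast; linear_combination e
      exact_mod_cast this
    omega


end Cfsg.Agent.S2300
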