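import Cfsg.Statements.S4812
import Cfsg.Agent.Lib.RankOne.SLDegreeSet
import Cfsg.Agent.S2300
-- import your own Cfsg.Agent.* helpers here

set_option autoImplicit false
open Cfsg

namespace Cfsg.Agent.S4812

/-- Let F be a finite field of characteristic 2 with q ≥ 4 elements and let S be isomorphic to PSL(2,F) or to SL(2,F). Then the vertices of the character degree graph of S are the primes dividing q(q²−1), and two distinct primes are adjacent exactly when both divide q + 1 or both divide q − 1; so the graph has the three connected components {2}, the primes dividing q + 1 and the primes dividing q − 1, each complete. -/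
theorem result (F : Type*) [Field F] [Fintype F] [CharP F 2] (q : ℕ) (hq : Fintype.card F = q) (h4 : 4 ≤ q) {S : Type*} [Group S] [Finite S] (hS : Nonempty (S ≃* Matrix.ProjectiveSpecialLinearGroup (Fin 2) F) ∨ Nonempty (S ≃* Matrix.SpecialLinearGroup (Fin 2) F)) : Cfsg.degreePrimes S = {r : ℕ | r.Prime ∧ r ∣ q * (q ^ 2 - 1)} ∧ ∀ r s : ℕ, (Cfsg.degreeGraph S).Adj r s ↔ (r ≠ s ∧ r.Prime ∧ s.Prime ∧ ((r ∣ q + 1 ∧ s ∣ q + 1) ∨ (r ∣ q - 1 ∧ s ∣ q - 1))) := by
  classical
  subst hq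
  obtain ⟨n, hn0, hn⟩ := FiniteField.card F 2
  have h2 : ringChar F = 2 := ringChar.eq F 2
  obtain ⟨f, hf, hk⟩ := CfsgLib.RankOne.SLTwo.exists_quot hS
  have hc : ∀ u ∈ f.ker, u = 1 := fun u hu => by
    rcases (CfsgLib.RankOne.SLTwo.mem_center_iff' u).1 (hk hu) with rfl | rfl
    · rfl
    · ext i j
      simp [CharTwo.neg_eq]
  obtain ⟨-, hcount⟩ := Cfsg.Agent.S2300.result (F := F)
  obtain ⟨-, -, cs, cp⟩ := hcount h4
  obtain ⟨⟨⟨χ, hχ⟩, hd⟩⟩ := (Nat.card_pos_iff.1 (lt_of_lt_of_eq (by omega) cs.symm)).1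
  obtain ⟨⟨⟨χ', hχ'⟩, hd'⟩⟩ := (Nat.card_pos_iff.1 (lt_of_lt_of_eq (by omega) cp.symm)).1
  obtain ⟨hP, hA⟩ := CfsgLib.RankOne.SLTwo.degreeGraph_aux (q := Fintype.card F) hn Nat.prime_two
    (D := Cfsg.charDegrees S) (by
      rintro d ⟨η, rfl⟩
      rcases CfsgLib.RankOne.SLTwo.charDegree_quot_cases f hf η with
        e | e | e | ⟨h, -⟩ | e | ⟨h, -⟩
      · exact Or.inl e
      · exact Or.inr (Or.inl e)
      · exact Or.inr (Or.inr (Or.inl (e ▸ dvd_rfl)))
      · exact absurd h2 h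
      · exact Or.inr (Or.inr (Or.inr (e ▸ dvd_rfl)))
      · exact absurd h2 h)
    (CfsgLib.RankOne.SLTwo.card_mem_charDegrees f hf hk)
    (CfsgLib.RankOne.SLTwo.mem_charDegrees_quot f hf hχ (fun u hu => by rw [hc u hu])
      (by push_cast; exact hd))
    (CfsgLib.RankOne.SLTwo.mem_charDegrees_quot f hf hχ' (fun u hu => by rw [hc u hu])
      (by rw [Nat.cast_sub (by omega), Nat.cast_one]; exact hd'))
  exact ⟨hP, hA⟩


end Cfsg.Agent.S4812
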