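import Cfsg.Statements.S0978
import Cfsg.Agent.Lib.BrauerTuan.Cross

set_option autoImplicit false
open Cfsg

namespace Cfsg.Agent.S0978

/-- No finite simple group has order 5040 = 2^4 * 3^2 * 5 * 7. -/
theorem result {G : Type*} [Group G] [Finite G] [IsSimpleGroup G] : Nat.card G ≠ 5040 := by
  intro h
  letI : Fintype G := Fintype.ofFinite G
  haveI : Fact (Nat.Prime 5) := ⟨by norm_num⟩
  haveI : Fact (Nat.Prime 7) := ⟨by norm_num⟩
  obtain ⟨k, T, hm⟩ := CfsgLib.BrauerTuan.exists_ctx_of_orderBad h 5 [5, 7] 70 [(36, 4, 7)] (by norm_num)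
    (by norm_num) (by norm_num) (by norm_num) (by norm_num) (by simp <;> norm_num) (by decide +kernel)
  obtain ⟨k', T', hm'⟩ := CfsgLib.BrauerTuan.exists_ctx_of_orderBad h 7 [5, 7] 70 [(120, 2, 3), (120, 6, 1)]
    (by norm_num) (by norm_num) (by norm_num) (by norm_num) (by norm_num) (by simp <;> norm_num) (by decide +kernel)
  simp only [List.mem_cons, List.not_mem_nil, or_false, Prod.mk.injEq] at hm hm'
  have h1 := CfsgLib.BrauerTuan.dvd_card_centralizer_swap T.P T'.P T.card_P T'.card_P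
    (by rw [T.card_C, hm.2.2]; norm_num)
  rw [T'.card_C] at h1
  rcases hm' with ⟨-, -, e⟩ | ⟨-, -, e⟩ <;> rw [e] at h1 <;> norm_num at h1

end Cfsg.Agent.S0978
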