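import Cfsg.Statements.S0980
import Cfsg.Agent.Lib.BrauerTuan.Two

set_option autoImplicit false
open Cfsg

namespace Cfsg.Agent.S0980

/-- No finite simple group has order 5760 = 2^7 * 3^2 * 5. -/
theorem result {G : Type*} [Group G] [Finite G] [IsSimpleGroup G] : Nat.card G ≠ 5760 := by
  intro h
  haveI : Fact (Nat.Prime 5) := ⟨by norm_num⟩
  letI : Fintype G := Fintype.ofFinite G
  obtain ⟨k, T, hm⟩ := CfsgLib.BrauerTuan.exists_ctx_of_orderBad h 5 [5] 75 [(576, 2, 1)] (by norm_num)
    (by norm_num) (by norm_num) (by norm_num) (by norm_num) (by simp <;> norm_num) (by decide +kernel)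
  simp only [List.mem_singleton, Prod.mk.injEq] at hm
  exact CfsgLib.BrauerTuan.false_of_twoBad T (b := 7) hm.1 hm.2.1 hm.2.2 (by norm_num) (by norm_num)
    (by norm_num) (by decide +kernel)

end Cfsg.Agent.S0980
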