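import Cfsg.Statements.S0983
import Cfsg.Agent.Lib.BrauerTuan.RangeSound
import Cfsg.Agent.Lib.BrauerTuan.FiftyFourHundred
import Cfsg.Agent.Lib.BrauerTuan.FiftyFourSixty
import Cfsg.Agent.S0976
import Cfsg.Agent.S0977
import Cfsg.Agent.S0978
import Cfsg.Agent.S0980

set_option autoImplicit false
open Cfsg

namespace Cfsg.Agent.S0983

/-- A non-abelian finite simple group of order greater than 3640 and at most 6232 has order 4080, 5616, 6048 or 6072. -/
theorem result {G : Type*} [Group G] [Finite G] [IsSimpleGroup G] (hG : ¬ IsMulCommutative G) (h1 : 3640 < Nat.card G) (h2 : Nat.card G ≤ 6232) : Nat.card G = 4080 ∨ Nat.card G = 5616 ∨ Nat.card G = 6048 ∨ Nat.card G = 6072 := by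
  classical
  obtain ⟨c, hc⟩ : ∃ c, CfsgLib.BrauerTuan.Range3640.check (Nat.card G) c = true := by
    rcases Nat.lt_or_ge (Nat.card G) 3803 with h | hlo
    · exact CfsgLib.BrauerTuan.Range3640.exists_cert _ 3641 CfsgLib.BrauerTuan.Range3640.certs0_ok _ (by omega)
        (by rw [show CfsgLib.BrauerTuan.Range3640.certs0.length = 162 from rfl]; omega)
    rcases Nat.lt_or_ge (Nat.card G) 3965 with h | hlo
    · exact CfsgLib.BrauerTuan.Range3640.exists_cert _ 3803 CfsgLib.BrauerTuan.Range3640.certs1_ok _ (by omega)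
        (by rw [show CfsgLib.BrauerTuan.Range3640.certs1.length = 162 from rfl]; omega)
    rcases Nat.lt_or_ge (Nat.card G) 4127 with h | hlo
    · exact CfsgLib.BrauerTuan.Range3640.exists_cert _ 3965 CfsgLib.BrauerTuan.Range3640.certs2_ok _ (by omega)
        (by rw [show CfsgLib.BrauerTuan.Range3640.certs2.length = 162 from rfl]; omega)
    rcases Nat.lt_or_ge (Nat.card G) 4289 with h | hlo
    · exact CfsgLib.BrauerTuan.Range3640.exists_cert _ 4127 CfsgLib.BrauerTuan.Range3640.certs3_ok _ (by omega)
        (by rw [show CfsgLib.BrauerTuan.Range3640.certs3.length = 162 from rfl]; omega)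
    rcases Nat.lt_or_ge (Nat.card G) 4451 with h | hlo
    · exact CfsgLib.BrauerTuan.Range3640.exists_cert _ 4289 CfsgLib.BrauerTuan.Range3640.certs4_ok _ (by omega)
        (by rw [show CfsgLib.BrauerTuan.Range3640.certs4.length = 162 from rfl]; omega)
    rcases Nat.lt_or_ge (Nat.card G) 4613 with h | hlo
    · exact CfsgLib.BrauerTuan.Range3640.exists_cert _ 4451 CfsgLib.BrauerTuan.Range3640.certs5_ok _ (by omega)
        (by rw [show CfsgLib.BrauerTuan.Range3640.certs5.length = 162 from rfl]; omega)
    rcases Nat.lt_or_ge (Nat.card G) 4775 with h | hlo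
    · exact CfsgLib.BrauerTuan.Range3640.exists_cert _ 4613 CfsgLib.BrauerTuan.Range3640.certs6_ok _ (by omega)
        (by rw [show CfsgLib.BrauerTuan.Range3640.certs6.length = 162 from rfl]; omega)
    rcases Nat.lt_or_ge (Nat.card G) 4937 with h | hlo
    · exact CfsgLib.BrauerTuan.Range3640.exists_cert _ 4775 CfsgLib.BrauerTuan.Range3640.certs7_ok _ (by omega)
        (by rw [show CfsgLib.BrauerTuan.Range3640.certs7.length = 162 from rfl]; omega)
    rcases Nat.lt_or_ge (Nat.card G) 5099 with h | hlo
    · exact CfsgLib.BrauerTuan.Range3640.exists_cert _ 4937 CfsgLib.BrauerTuan.Range3640.certs8_ok _ (by omega)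
        (by rw [show CfsgLib.BrauerTuan.Range3640.certs8.length = 162 from rfl]; omega)
    rcases Nat.lt_or_ge (Nat.card G) 5261 with h | hlo
    · exact CfsgLib.BrauerTuan.Range3640.exists_cert _ 5099 CfsgLib.BrauerTuan.Range3640.certs9_ok _ (by omega)
        (by rw [show CfsgLib.BrauerTuan.Range3640.certs9.length = 162 from rfl]; omega)
    rcases Nat.lt_or_ge (Nat.card G) 5423 with h | hlo
    · exact CfsgLib.BrauerTuan.Range3640.exists_cert _ 5261 CfsgLib.BrauerTuan.Range3640.certs10_ok _ (by omega)
        (by rw [show CfsgLib.BrauerTuan.Range3640.certs10.length = 162 from rfl]; omega)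
    rcases Nat.lt_or_ge (Nat.card G) 5585 with h | hlo
    · exact CfsgLib.BrauerTuan.Range3640.exists_cert _ 5423 CfsgLib.BrauerTuan.Range3640.certs11_ok _ (by omega)
        (by rw [show CfsgLib.BrauerTuan.Range3640.certs11.length = 162 from rfl]; omega)
    rcases Nat.lt_or_ge (Nat.card G) 5747 with h | hlo
    · exact CfsgLib.BrauerTuan.Range3640.exists_cert _ 5585 CfsgLib.BrauerTuan.Range3640.certs12_ok _ (by omega)
        (by rw [show CfsgLib.BrauerTuan.Range3640.certs12.length = 162 from rfl]; omega)
    rcases Nat.lt_or_ge (Nat.card G) 5909 with h | hlo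
    · exact CfsgLib.BrauerTuan.Range3640.exists_cert _ 5747 CfsgLib.BrauerTuan.Range3640.certs13_ok _ (by omega)
        (by rw [show CfsgLib.BrauerTuan.Range3640.certs13.length = 162 from rfl]; omega)
    rcases Nat.lt_or_ge (Nat.card G) 6071 with h | hlo
    · exact CfsgLib.BrauerTuan.Range3640.exists_cert _ 5909 CfsgLib.BrauerTuan.Range3640.certs14_ok _ (by omega)
        (by rw [show CfsgLib.BrauerTuan.Range3640.certs14.length = 162 from rfl]; omega)
    exact CfsgLib.BrauerTuan.Range3640.exists_cert _ 6071 CfsgLib.BrauerTuan.Range3640.certs15_ok _ (by omega)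
      (by rw [show CfsgLib.BrauerTuan.Range3640.certs15.length = 162 from rfl]; omega)
  have hm := CfsgLib.BrauerTuan.Range3640.mem_special hG hc
  simp only [CfsgLib.BrauerTuan.Range3640.special, List.mem_cons, List.not_mem_nil, or_false] at hm
  letI : Fintype G := Fintype.ofFinite G
  rcases hm with h | h | h | h | h | h | h | h | h | h
  · exact absurd h Cfsg.Agent.S0976.result
  · exact Or.inl h
  · exact absurd h Cfsg.Agent.S0977.result
  · exact absurd h Cfsg.Agent.S0978.result
  · exact (CfsgLib.BrauerTuan.false_5400 h).elim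
  · exact (CfsgLib.BrauerTuan.false_5460 h).elim
  · exact Or.inr (Or.inl h)
  · exact absurd h Cfsg.Agent.S0980.result
  · exact Or.inr (Or.inr (Or.inl h))
  · exact Or.inr (Or.inr (Or.inr h))

end Cfsg.Agent.S0983
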