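import Cfsg.Statements.S0195
import Mathlib

set_option autoImplicit false
open Cfsg

namespace Cfsg.Agent.S0195

/-- Let A be a subgroup of G that equals the centralizer of each of its non-identity elements. If g lies outside the normalizer of A, then the only element of A conjugated by g into A is the identity (A is a trivial-intersection set). -/
theorem result {G : Type*} [Group G] [Finite G] (A : Subgroup G) (hA : ∀ x ∈ A, x ≠ 1 → Subgroup.centralizer ({x} : Set G) = A) (g : G) (hg : g ∉ Subgroup.normalizer (A : Set G)) (x : G) (hx : x ∈ A) (hgx : g * x * g⁻¹ ∈ A) : x = 1 := by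
  by_contra hx1
  apply hg
  have h1 : g * x * g⁻¹ ≠ 1 := fun h => hx1 (conj_eq_one_iff.mp h)
  have hA1 := hA x hx hx1
  have hA2 := hA _ hgx h1
  rw [Subgroup.mem_normalizer_iff]
  intro h
  constructor <;> intro hh
  · have hc : Commute x h := by
      rw [← hA1] at hh
      exact (Subgroup.mem_centralizer_iff.mp hh) x rfl
    rw [← hA2, Subgroup.mem_centralizer_iff]
    rintro _ rfl
    have := hc.map (MulAut.conj g).toMonoidHom
    simpa [Commute, SemiconjBy] using this
  · rw [← hA2] at hh
    have hc : Commute (g * x * g⁻¹) (g * h * g⁻¹) := Subgroup.mem_centralizer_iff.mp hh _ rfl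
    rw [← hA1, Subgroup.mem_centralizer_iff]
    rintro _ rfl
    have := hc.map (MulAut.conj g⁻¹).toMonoidHom
    simpa [Commute, SemiconjBy, mul_assoc] using this

end Cfsg.Agent.S0195
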