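import Cfsg.Statements.S0196
import Mathlib

set_option autoImplicit false
open Cfsg

namespace Cfsg.Agent.S0196

/-- Let A be a subgroup of a finite group G that equals the centralizer of each of its non-identity elements, and let N be its normalizer. Then the index of A in N divides |A| − 1 (N/A permutes the non-identity elements of A in orbits of full length). -/
theorem result {G : Type*} [Group G] [Finite G] (A : Subgroup G) (hA : ∀ x ∈ A, x ≠ 1 → Subgroup.centralizer ({x} : Set G) = A) : (A.subgroupOf (Subgroup.normalizer (A : Set G))).index ∣ Nat.card A - 1 := by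
  classical
  set N := Subgroup.normalizer (A : Set G) with hN
  have hAN : A ≤ N := Subgroup.le_normalizer
  have _ : Fintype G := Fintype.ofFinite G
  let X := {a : G // a ∈ A ∧ a ≠ 1}
  letI act : MulAction N X :=
    { smul := fun n a => ⟨n * a.1 * (n : G)⁻¹, (Subgroup.mem_normalizer_iff.mp n.2 _).mp a.2.1,
        fun h => a.2.2 (conj_eq_one_iff.mp h)⟩
      one_smul := fun a => Subtype.ext (show ((1 : N) : G) * a.1 * ((1 : N) : G)⁻¹ = a.1 by simp)
      mul_smul := fun m n a => Subtype.ext
        (show ((m * n : N) : G) * a.1 * ((m * n : N) : G)⁻¹ = m * (n * a.1 * (n : G)⁻¹) * (m : G)⁻¹ by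
          simp [mul_assoc]) }
  have hstab : ∀ a : X, MulAction.stabilizer N a = A.subgroupOf N := by
    intro a
    ext n
    rw [MulAction.mem_stabilizer_iff, Subgroup.mem_subgroupOf]
    show (⟨(n : G) * a.1 * (n : G)⁻¹, _⟩ : X) = a ↔ _
    rw [Subtype.ext_iff, mul_inv_eq_iff_eq_mul]
    conv_rhs => rw [← hA a.1 a.2.1 a.2.2, Subgroup.mem_centralizer_iff]
    exact ⟨fun h b hb => by rw [Set.mem_singleton_iff.mp hb]; exact h.symm, fun h => (h _ rfl).symm⟩
  have hdiv : (A.subgroupOf N).index ∣ Nat.card X := by
    rw [Nat.card_congr (MulAction.selfEquivSigmaOrbitsQuotientStabilizer N X), Nat.card_sigma]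
    refine Finset.dvd_sum fun ω _ => ?_
    rw [← Subgroup.index_eq_card, hstab]
  have hcard : Nat.card X = Nat.card A - 1 := by
    rw [Nat.card_eq_fintype_card, Nat.card_eq_fintype_card]
    have : (Fintype.card {a : A // a ≠ 1}) = Fintype.card A - 1 := by
      simp [Fintype.card_subtype_compl]
    rw [← this]
    exact Fintype.card_congr
      { toFun := fun a => ⟨⟨a.1, a.2.1⟩, fun h => a.2.2 (congrArg Subtype.val h)⟩
        invFun := fun a => ⟨a.1.1, a.1.2, fun h => a.2 (Subtype.ext h)⟩
        left_inv := fun a => rfl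
        right_inv := fun a => rfl }
  rwa [hcard] at hdiv

end Cfsg.Agent.S0196
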