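import Cfsg.Statements.S3116
import Cfsg.Agent.Lib.Fusion.CyclicIndexTwo
import Cfsg.Agent.Lib.SmallTwo.QuasiDihedralBasic

set_option autoImplicit false
open Cfsg

namespace Cfsg.Agent.S3116

/-- The automorphism group of a dihedral 2-group of order at least 8, or of a quasi-dihedral (semidihedral) 2-group of order at least 16, is a 2-group. -/
theorem result {X : Type*} [Group X] [Finite X] (h2 : IsPGroup 2 X)
    (h : (∃ n : ℕ, 4 ≤ n ∧ Nonempty (X ≃* DihedralGroup n)) ∨ Cfsg.IsQuasiDihedral X) : IsPGroup 2 (MulAut X) := by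
  rcases h with ⟨n, hn, ⟨e⟩⟩ | hq
  · obtain ⟨k, hk⟩ := (IsPGroup.iff_card (p := 2)).mp h2
    rw [Nat.card_congr e.toEquiv, DihedralGroup.nat_card] at hk
    obtain ⟨i, -, rfl⟩ := (Nat.dvd_prime_pow Nat.prime_two).mp (Dvd.intro_left 2 hk)
    haveI : NeZero (2 ^ i) := ⟨by positivity⟩
    have hi : 2 ≤ i := by
      by_contra h
      have : 2 ^ i ≤ 2 ^ 1 := Nat.pow_le_pow_right two_pos (by omega)
      omega
    refine (CfsgLib.Fusion.isPGroup_mulAut_of_cyclic_index_two (DihedralGroup.r 1 : DihedralGroup (2 ^ i))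
      DihedralGroup.orderOf_r_one (by omega) ?_ ?_).of_equiv (MulAut.congr e).symm
    · have h1 := Subgroup.card_mul_index (Subgroup.zpowers (DihedralGroup.r 1 : DihedralGroup (2 ^ i)))
      rw [Nat.card_zpowers, DihedralGroup.orderOf_r_one, DihedralGroup.nat_card, mul_comm 2] at h1
      exact Nat.eq_of_mul_eq_mul_left (by positivity) h1
    · rintro (j | j) hx
      · exact absurd ⟨(j.val : ℤ), by simp⟩ hx
      · rw [DihedralGroup.orderOf_sr]
        omega
  · obtain ⟨n, ⟨d⟩⟩ := CfsgLib.SmallTwo.qd_exists hq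
    have hn := d.hn
    refine CfsgLib.Fusion.isPGroup_mulAut_of_cyclic_index_two d.x d.hx (by omega) d.index_zpowers fun g hg => ?_
    obtain ⟨i, rfl⟩ := d.notMem_iff hg
    have h8 : 2 ^ 3 ≤ 2 ^ n := Nat.pow_le_pow_right two_pos hn
    rcases Int.even_or_odd i with hi | hi
    · rw [d.orderOf_ry_two.mpr hi]; omega
    · rw [d.orderOf_ry_four.mpr hi]; omega
end Cfsg.Agent.S3116
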