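import Cfsg.Statements.S1141
import Cfsg.Agent.Lib.Classical.UnitaryRootGroup

set_option autoImplicit false
set_option linter.style.haveILetI false
open Cfsg

namespace Cfsg.Agent.S1141

open CfsgLib.Classical CfsgLib.Classical.URoot
open CfsgLib.ClassicalAut (Unitary.Conj)

variable {F : Type*} [Field F] [Finite F] {q : ℕ} (K : Unitary.Conj F q)

/-- The fixed units. -/
def fixU : Subgroup Fˣ where
  carrier := {u | K.bar (u : F) = u}
  one_mem' := by simp
  mul_mem' := by intro a b (ha : K.bar (a : F) = a) (hb : K.bar (b : F) = b); simp [ha, hb]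
  inv_mem' := by intro a (ha : K.bar (a : F) = a); simp [ha, map_inv₀]

/-- Scaling a parameter. -/
def scl (u : fixU K) (x : Par K) : Par K :=
  ⟨(((u : Fˣ) : F) * x.1.1, ((u : Fˣ) : F) ^ 2 * x.1.2), by
    have hu : K.bar ((u : Fˣ) : F) = ((u : Fˣ) : F) := u.2
    simp only [map_mul, map_pow, hu]
    linear_combination ((u : Fˣ) : F) ^ 2 * x.2⟩

theorem scl_scl (u v : fixU K) (x : Par K) : scl K (u * v) x = scl K u (scl K v x) :=
  Subtype.ext (Prod.ext (by simp [scl, mul_assoc]) (by simp [scl]; ring))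

theorem scl_one (x : Par K) : scl K 1 x = x :=
  Subtype.ext (Prod.ext (by simp [scl]) (by simp [scl]))

theorem scl_pmul (u : fixU K) (x y : Par K) : scl K u (pmul K x y) = pmul K (scl K u x) (scl K u y) := by
  have hu : K.bar ((u : Fˣ) : F) = ((u : Fˣ) : F) := u.2
  refine Subtype.ext (Prod.ext ?_ ?_)
  · simp [scl, pmul, mul_add]
  · simp [scl, pmul, hu]; ring


/-- Let `q = 2^n ≥ 4` and `|F| = q²`. A Sylow 2-subgroup `S` of `PSU₃(q)` has order `q³`, its centre has order `q`, and `S` is a Suzuki 2-group. -/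
theorem result {F : Type*} [Field F] [Fintype F] {n : ℕ} (hn : 2 ≤ n)
    (hF : Fintype.card F = (2 ^ n) ^ 2) (S : Sylow 2 (Cfsg.PSU 3 F (2 ^ n))) :
    Nat.card S = (2 ^ n) ^ 3 ∧ Nat.card (Subgroup.center ↥(S : Subgroup (Cfsg.PSU 3 F (2 ^ n)))) = 2 ^ n ∧
      Cfsg.IsSuzukiTwoGroup ↥(S : Subgroup (Cfsg.PSU 3 F (2 ^ n))) := by
  classical
  haveI : Finite F := Finite.of_fintype F
  haveI : Fact (Nat.Prime 2) := ⟨Nat.prime_two⟩
  obtain ⟨K⟩ := Herm.exists_conj_of_card (F := F) (q := 2 ^ n) hF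
  have h2 : (2 : F) = 0 := by
    have h := FiniteField.cast_card_eq_zero F
    rw [hF, ← pow_mul] at h
    push_cast at h
    exact pow_eq_zero_iff (by omega) |>.mp h
  obtain ⟨ψ, hψ⟩ := exists_coord K (by omega) rfl h2 S
  have hS : Nat.card S = (2 ^ n) ^ 3 := by
    rw [← card_par K h2]; exact (Nat.card_eq_of_bijective ψ hψ.1).symm
  have hZ := card_center_coord K hψ h2
  have hq4 : 4 ≤ 2 ^ n := le_trans (by norm_num) (Nat.pow_le_pow_right two_pos hn)
  refine ⟨hS, hZ, inferInstance, S.2, ?_, ?_, ?_⟩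
  · by_contra hcon
    push Not at hcon
    have htop : Subgroup.center ↥(S : Subgroup (Cfsg.PSU 3 F (2 ^ n))) = ⊤ :=
      eq_top_iff.mpr fun x _ => Subgroup.mem_center_iff.mpr fun y => hcon y x
    rw [htop, Subgroup.card_top, hS] at hZ
    nlinarith
  · obtain ⟨x, y, hxy, hx, hy⟩ : ∃ x y : Subgroup.center ↥(S : Subgroup (Cfsg.PSU 3 F (2 ^ n))),
        x ≠ y ∧ x ≠ 1 ∧ y ≠ 1 := by
      have := Fintype.ofFinite (Subgroup.center ↥(S : Subgroup (Cfsg.PSU 3 F (2 ^ n))))
      obtain ⟨x, hx, y, hy, hxy⟩ := Finset.one_lt_card.mp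
        (show 1 < (Finset.univ.erase (1 : Subgroup.center ↥(S : Subgroup (Cfsg.PSU 3 F (2 ^ n))))).card by
          rw [Finset.card_erase_of_mem (Finset.mem_univ _), Finset.card_univ,
            ← Nat.card_eq_fintype_card, hZ]
          omega)
      exact ⟨x, y, hxy, Finset.ne_of_mem_erase hx, Finset.ne_of_mem_erase hy⟩
    have hinv : ∀ z ∈ Subgroup.center ↥(S : Subgroup (Cfsg.PSU 3 F (2 ^ n))), z * z = 1 := by
      intro z hz
      obtain ⟨w, rfl⟩ := hψ.1.2 z
      exact (coord_sq K hψ h2 w).mpr ((coord_fix K hψ w).mp hz)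
    exact ⟨x.1, y.1, fun h => hxy (Subtype.ext h), fun h => hx (Subtype.ext h), hinv _ x.2,
      fun h => hy (Subtype.ext h), hinv _ y.2⟩
  · let e := Equiv.ofBijective ψ hψ.1
    have hes : ∀ x, e.symm (ψ x) = x := fun x => e.symm_apply_apply x
    let a : fixU K →* MulAut ↥(S : Subgroup (Cfsg.PSU 3 F (2 ^ n))) :=
      { toFun := fun u =>
          { toFun := fun s => ψ (scl K u (e.symm s))
            invFun := fun s => ψ (scl K u⁻¹ (e.symm s))
            left_inv := fun s => by
              show ψ (scl K u⁻¹ (e.symm (ψ _))) = s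
              rw [hes, ← scl_scl, inv_mul_cancel, scl_one]
              exact e.apply_symm_apply s
            right_inv := fun s => by
              show ψ (scl K u (e.symm (ψ _))) = s
              rw [hes, ← scl_scl, mul_inv_cancel, scl_one]
              exact e.apply_symm_apply s
            map_mul' := fun s t => by
              obtain ⟨x, rfl⟩ := hψ.1.2 s
              obtain ⟨y, rfl⟩ := hψ.1.2 t
              simp only [hψ.2, hes, scl_pmul] }
        map_one' := by
          refine MulEquiv.ext fun s => ?_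
          show ψ (scl K 1 (e.symm s)) = s
          rw [scl_one]; exact e.apply_symm_apply s
        map_mul' := fun u v => by
          refine MulEquiv.ext fun s => ?_
          show ψ (scl K (u * v) (e.symm s)) = ψ (scl K u (e.symm (ψ (scl K v (e.symm s)))))
          rw [hes, scl_scl] }
    haveI : IsCyclic (fixU K) := inferInstance
    refine ⟨a.range, isCyclic_of_surjective a.rangeRestrict a.rangeRestrict_surjective, ?_⟩
    intro s t hs1 hs2 ht1 ht2
    obtain ⟨⟨⟨a1, b1⟩, h1⟩, rfl⟩ := hψ.1.2 s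
    obtain ⟨⟨⟨a2, b2⟩, h2'⟩, rfl⟩ := hψ.1.2 t
    have e1 : a1 = 0 := (coord_sq K hψ h2 _).mp hs2
    have e2 : a2 = 0 := (coord_sq K hψ h2 _).mp ht2
    subst e1; subst e2
    simp at h1 h2'
    have hb1 : b1 ≠ 0 := fun h => hs1 (by subst h; exact coord_one K hψ)
    have hb2 : b2 ≠ 0 := fun h => ht1 (by subst h; exact coord_one K hψ)
    have f1 : K.bar b1 = b1 := by linear_combination h1 - b1 * h2
    have f2 : K.bar b2 = b2 := by linear_combination h2' - b2 * h2
    haveI : CharP F 2 := CharTwo.of_one_ne_zero_of_two_eq_zero one_ne_zero h2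
    have hinj2 : Function.Injective fun x : F => x ^ 2 := fun x y h => frobenius_inj F 2 h
    obtain ⟨v, hv⟩ : ∃ v : F, v ^ 2 = b2 / b1 :=
      Finite.injective_iff_surjective.mp hinj2 (b2 / b1)
    have hv0 : v ≠ 0 := by
      intro h
      rw [h, zero_pow two_ne_zero] at hv
      exact div_ne_zero hb2 hb1 hv.symm
    have hvf : K.bar v = v := hinj2 (by
      show K.bar v ^ 2 = v ^ 2
      rw [← map_pow, hv, map_div₀, f1, f2])
    refine ⟨⟨a ⟨Units.mk0 v hv0, hvf⟩, _, rfl⟩, ?_, ?_⟩
    · show ψ (scl K _ (e.symm (ψ _))) = _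
      rw [hes]
      refine congrArg ψ (Subtype.ext (Prod.ext ?_ ?_))
      · simp [scl]
      · simp [scl, hv]
        field_simp
    · rintro ⟨_, u, rfl⟩ hk
      have hk' : ψ (scl K u (e.symm (ψ ⟨(0, b1), by simp [f1]; linear_combination b1 * h2⟩))) = _ := hk
      rw [hes] at hk'
      have hk2 := congrArg (fun z : Par K => z.1.2) (hψ.1.1 hk')
      simp [scl] at hk2
      refine Subtype.ext (congrArg a (Subtype.ext (Units.ext (hinj2 ?_))))
      show ((u : Fˣ) : F) ^ 2 = v ^ 2
      rw [hv, eq_div_iff hb1]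
      exact hk2

end Cfsg.Agent.S1141
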