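import Cfsg.Statements.S0493
import Mathlib
import Cfsg.Agent.Lib.SmallOrder.Exclude

set_option autoImplicit false
open Cfsg

namespace Cfsg.Agent.S0493

/-- `(n, q, p, a, m)` -/
def table : List (ℕ × ℕ × ℕ × ℕ × ℕ) :=
  [(4, 0, 2, 2, 1), (6, 0, 3, 1, 2), (8, 0, 2, 3, 1), (9, 0, 3, 2, 1), (10, 0, 5, 1, 2), (12, 0, 3, 1, 4),
   (14, 0, 7, 1, 2), (15, 0, 5, 1, 3), (16, 0, 2, 4, 1), (18, 0, 3, 2, 2), (20, 0, 5, 1, 4), (21, 0, 7, 1, 3),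
   (22, 0, 11, 1, 2), (24, 0, 3, 1, 8), (25, 0, 5, 2, 1), (26, 0, 13, 1, 2), (27, 0, 3, 3, 1), (28, 0, 7, 1, 4),
   (30, 0, 5, 1, 6), (32, 0, 2, 5, 1), (33, 0, 11, 1, 3), (34, 0, 17, 1, 2), (35, 0, 7, 1, 5), (36, 0, 3, 2, 4),
   (38, 0, 19, 1, 2), (39, 0, 13, 1, 3), (40, 0, 5, 1, 8), (42, 0, 7, 1, 6), (44, 0, 11, 1, 4), (45, 0, 5, 1, 9),
   (46, 0, 23, 1, 2), (48, 0, 3, 1, 16), (49, 0, 7, 2, 1), (50, 0, 5, 2, 2), (51, 0, 17, 1, 3), (52, 0, 13, 1, 4),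
   (54, 0, 3, 3, 2), (55, 0, 11, 1, 5), (56, 0, 7, 1, 8), (57, 0, 19, 1, 3), (58, 0, 29, 1, 2), (62, 0, 31, 1, 2),
   (63, 0, 7, 1, 9), (64, 0, 2, 6, 1), (65, 0, 13, 1, 5), (66, 0, 11, 1, 6), (68, 0, 17, 1, 4), (69, 0, 23, 1, 3),
   (70, 0, 7, 1, 10), (72, 0, 3, 2, 8), (74, 0, 37, 1, 2), (75, 0, 5, 2, 3), (76, 0, 19, 1, 4), (77, 0, 11, 1, 7),
   (78, 0, 13, 1, 6), (80, 0, 5, 1, 16), (81, 0, 3, 4, 1), (82, 0, 41, 1, 2), (84, 0, 7, 1, 12), (85, 0, 17, 1, 5),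
   (86, 0, 43, 1, 2), (87, 0, 29, 1, 3), (88, 0, 11, 1, 8), (90, 0, 5, 1, 18), (91, 0, 13, 1, 7), (92, 0, 23, 1, 4),
   (93, 0, 31, 1, 3), (94, 0, 47, 1, 2), (95, 0, 19, 1, 5), (96, 0, 2, 5, 3), (98, 0, 7, 2, 2), (99, 0, 11, 1, 9),
   (100, 0, 5, 2, 4)]

def rowOK : ℕ × ℕ × ℕ × ℕ × ℕ → Bool
  | (n, q, p, a, m) => decide (q = 0 ∨ q.Prime) && decide p.Prime && decide (a ≠ 0) &&
      decide (m % p ≠ 0) && decide (n = p ^ a * m) &&
      CfsgLib.SmallOrder.excludedAt (p ^ a * m) q p a m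

theorem table_ok : table.all rowOK = true := by decide +kernel

theorem cover : ∀ n < 101, n ≤ 1 ∨ n.Prime ∨ n = 60 ∨ n ∈ table.map Prod.fst := by decide +kernel

/-- A finite simple group of order at most 100 that is not cyclic has order 60. -/
theorem result {G : Type*} [Group G] [Finite G] [IsSimpleGroup G]
    (hG : ¬ IsCyclic G) (h : Nat.card G ≤ 100) : Nat.card G = 60 := by
  have hcomm : ¬ IsMulCommutative G := by
    intro hc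
    let _ : CommGroup G := { ‹Group G› with mul_comm := fun a b => hc.is_comm.comm a b }
    have := Fact.mk (IsSimpleGroup.prime_card (α := G))
    exact hG (isCyclic_of_prime_card (p := Nat.card G) rfl)
  rcases cover (Nat.card G) (by omega) with h1 | h1 | h1 | h1
  · have := Finite.one_lt_card (α := G)
    omega
  · have := Fact.mk h1
    exact absurd (isCyclic_of_prime_card (p := Nat.card G) rfl) hG
  · exact h1
  · obtain ⟨⟨n, q, p, a, m⟩, hmem, hn⟩ := List.mem_map.mp h1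
    have hok := List.all_eq_true.mp table_ok _ hmem
    simp only [rowOK, Bool.and_eq_true, decide_eq_true_eq] at hok
    obtain ⟨⟨⟨⟨⟨hq, hp⟩, ha⟩, hm⟩, hcard⟩, hex⟩ := hok
    exact (CfsgLib.SmallOrder.false_of_excludedAt hcomm q p a m hq hp ha
      (fun h' => hm (Nat.mod_eq_zero_of_dvd h')) (hn.symm.trans hcard) hex).elim

end Cfsg.Agent.S0493
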