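import Cfsg.Statements.S3961
import Cfsg.Agent.Lib.Schur.Hopf
import Cfsg.Agent.Lib.Schur.Cover
import Cfsg.Agent.Lib.StemExt.Basic

set_option autoImplicit false
universe u v
open Cfsg
open scoped commutatorElement

namespace Cfsg.Agent.S3961

/-- Let `π : G →* Q` be a surjective homomorphism with central kernel from a finite perfect group `G` (a perfect cover of `Q`). Then `π` is universal, in the sense that every surjective homomorphism `ξ : X →* Q` with central kernel from a group `X` in the universe of `G` admits a homomorphism `η : G →* X` with `ξ ∘ η = π`, if and only if `G` has trivial Schur multiplier. -/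
theorem result {G : Type u} {Q : Type v} [Group G] [Group Q] [Finite G] (hG : Group.IsPerfect G) (π : G →* Q) (hπ : Function.Surjective π) (hker : π.ker ≤ Subgroup.center G) : (∀ (X : Type u) [Group X] (ξ : X →* Q), Function.Surjective ξ → ξ.ker ≤ Subgroup.center X → ∃ η : G →* X, ξ.comp η = π) ↔ Cfsg.HasCyclicSchurMultiplier G 1 := by
  have hG' : commutator G = ⊤ := Group.isPerfect_def.mp hG
  constructor
  · intro h
    refine CfsgLib.StemExt.hasCyclicSchurMultiplier_one fun Δ _ _ σ hσ => ?_
    have hdec : commutator Δ ⊔ σ.ker = ⊤ := by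
      rw [← Subgroup.comap_map_eq, commutator_def, Subgroup.map_commutator,
        Subgroup.map_top_of_surjective σ hσ.1, ← commutator_def, hG', Subgroup.comap_top]
    have hperf : commutator Δ = ⊤ := by rwa [sup_eq_left.mpr hσ.2.2] at hdec
    have hc : (π.comp σ).ker ≤ Subgroup.center Δ := by
      intro x hx
      have hcomm : ∀ y : Δ, ⁅x, y⁆ ∈ σ.ker := fun y => by
        rw [MonoidHom.mem_ker, map_commutatorElement, commutatorElement_eq_one_iff_mul_comm]
        exact (Subgroup.mem_center_iff.mp (hker hx) (σ y)).symm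
      let c : Δ →* σ.ker :=
        { toFun := fun y => ⟨⁅x, y⁆, hcomm y⟩
          map_one' := Subtype.ext (commutatorElement_one_right x)
          map_mul' := fun y z => Subtype.ext (by
            show ⁅x, y * z⁆ = ⁅x, y⁆ * ⁅x, z⁆
            rw [show ⁅x, y * z⁆ = ⁅x, y⁆ * (y * ⁅x, z⁆ * y⁻¹) by
              simp only [commutatorElement_def]; group,
              Subgroup.mem_center_iff.mp (hσ.2.1 (hcomm z)) y, mul_inv_cancel_right]) }
      have hle : commutator Δ ≤ c.ker := by
        rw [commutator_eq_closure, Subgroup.closure_le]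
        rintro _ ⟨a, b, rfl⟩
        rw [SetLike.mem_coe, MonoidHom.mem_ker, map_commutatorElement,
          commutatorElement_eq_one_iff_mul_comm]
        exact Subtype.ext (Subgroup.mem_center_iff.mp (hσ.2.1 (c b).2) _)
      rw [Subgroup.mem_center_iff]
      intro y
      exact (commutatorElement_eq_one_iff_mul_comm.mp
        (congrArg Subtype.val (hle (hperf ▸ Subgroup.mem_top y) : c y = 1))).symm
    obtain ⟨η, hη⟩ := h Δ (π.comp σ) (hπ.comp hσ.1) hc
    have hid : σ.comp η = MonoidHom.id G := MonoidHom.ext fun g =>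
      CfsgLib.Schur.eq_on_commutator π hker (σ.comp η) (MonoidHom.id G)
        (fun x => DFunLike.congr_fun hη x) (hG' ▸ Subgroup.mem_top g)
    rw [eq_bot_iff]
    intro d hd
    obtain ⟨e, he, rfl⟩ := (CfsgLib.Schur.lift_onto Function.surjective_id hσ hid).2 d hd
    rw [Subgroup.mem_bot, show e = 1 from he.1, map_one]
  · intro h X _ ξ hξ hcX
    have hs := CfsgLib.Schur.std_surjective G
    have hbot := CfsgLib.Schur.mult_eq_bot hs h
    set p := CfsgLib.Schur.proj (CfsgLib.Schur.std G)
    let f := p.comp (commutator (CfsgLib.Schur.Ext (CfsgLib.Schur.std G))).subtype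
    have hfb : Function.Bijective f := by
      refine ⟨(injective_iff_map_eq_one f).mpr fun x hx => Subtype.ext ?_, fun g => ?_⟩
      · have hm : (x : CfsgLib.Schur.Ext (CfsgLib.Schur.std G)) ∈
            CfsgLib.Schur.mult (CfsgLib.Schur.std G) := ⟨hx, x.2⟩
        rw [hbot, Subgroup.mem_bot] at hm
        exact hm
      · have hg : g ∈ (commutator (CfsgLib.Schur.Ext (CfsgLib.Schur.std G))).map p := by
          rw [commutator_def, Subgroup.map_commutator,
            Subgroup.map_top_of_surjective p (CfsgLib.Schur.proj_surjective hs), ← commutator_def,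
            hG']
          trivial
        obtain ⟨x, hx, rfl⟩ := hg
        exact ⟨⟨x, hx⟩, rfl⟩
    obtain ⟨φ, hφ⟩ := CfsgLib.Schur.exists_lift (CfsgLib.Schur.std G) ξ hξ hcX π
    refine ⟨(φ.comp (Subgroup.subtype _)).comp (MulEquiv.ofBijective f hfb).symm.toMonoidHom,
      MonoidHom.ext fun g => ?_⟩
    obtain ⟨x, rfl⟩ := (MulEquiv.ofBijective f hfb).surjective g
    simp only [MonoidHom.comp_apply, MulEquiv.coe_toMonoidHom, MulEquiv.symm_apply_apply]
    exact DFunLike.congr_fun hφ (x : CfsgLib.Schur.Ext _)

end Cfsg.Agent.S3961
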