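import Cfsg.Statements.S0989
import Mathlib
import Cfsg.Agent.Lib.SmallOrder.PrimeDegree

set_option autoImplicit false
set_option linter.style.haveILetI false
open Cfsg

namespace Cfsg.Agent.S0989

/-- In the symmetric group on p or p + 1 letters, p a prime, the normalizer of a Sylow p-subgroup has order p * (p - 1). -/
theorem result {α : Type*} [Fintype α] [DecidableEq α] (p : ℕ) [Fact p.Prime] (hα : Fintype.card α = p ∨ Fintype.card α = p + 1) (P : Sylow p (Equiv.Perm α)) : Nat.card ↥(Subgroup.normalizer ((P : Subgroup (Equiv.Perm α)) : Set (Equiv.Perm α))) = p * (p - 1) := by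
  classical
  set n := Fintype.card α with hn
  have hp2 := (Fact.out : p.Prime).two_le
  have hlt : n < 2 * p := by omega
  have hle : p ≤ n := by omega
  have hfac : (n.factorial).factorization p = 1 := by
    rw [Nat.factorization_def _ (Fact.out : p.Prime),
      padicValNat_factorial (b := 2) (Nat.log_lt_of_lt_pow (by omega) ?_)]
    · rw [show Finset.Ico 1 2 = {1} by rfl, Finset.sum_singleton, pow_one]
      exact Nat.div_eq_of_lt_le (by omega) (by omega)
    · calc n < 2 * p := hlt
        _ ≤ p * p := Nat.mul_le_mul_right p hp2
        _ = p ^ 2 := (pow_two p).symm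
  have hG : Nat.card (Equiv.Perm α) = n.factorial := by rw [Nat.card_perm, Nat.card_eq_fintype_card]
  have hPq : ∀ R : Sylow p (Equiv.Perm α), Nat.card (R : Subgroup (Equiv.Perm α)) = p := fun R => by
    rw [R.card_eq_multiplicity, hG, hfac, pow_one]
  have hcount : Nat.card {g : Equiv.Perm α // orderOf g = p} = (p - 1).factorial * n.choose p := by
    rw [Nat.card_eq_fintype_card, Fintype.card_subtype,
      ← Equiv.Perm.card_of_cycleType_singleton (α := α) hp2 hle]
    refine congrArg Finset.card (Finset.filter_congr fun g _ => ?_)
    constructor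
    · intro h
      obtain ⟨m, hm⟩ := Equiv.Perm.cycleType_prime_order (σ := g) (h ▸ (Fact.out : p.Prime))
      rw [h] at hm
      have hsum : g.cycleType.sum ≤ n := by
        rw [Equiv.Perm.sum_cycleType]
        exact Finset.card_le_univ _
      rw [hm, Multiset.sum_replicate, smul_eq_mul] at hsum
      rcases m with _ | m
      · simpa using hm
      · exfalso
        have : 2 * p ≤ (m + 1 + 1) * p := Nat.mul_le_mul_right p (by omega)
        omega
    · intro h
      rw [← Equiv.Perm.lcm_cycleType, h, Multiset.lcm_singleton, normalize_eq]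
  have h1 := CfsgLib.SmallOrder.card_orderOf_eq_prime hPq
  rw [hcount, Sylow.card_eq_index_normalizer P] at h1
  set N := Subgroup.normalizer ((P : Subgroup (Equiv.Perm α)) : Set (Equiv.Perm α))
  have h1' : (p - 1).factorial * n.choose p = N.index * (p - 1) := h1
  have h2 := N.card_mul_index
  rw [hG] at h2
  have h3 : n.choose p * (p * (p - 1).factorial) = n.factorial := by
    rw [Nat.mul_factorial_pred (by omega), ← Nat.choose_mul_factorial_mul_factorial hle,
      Nat.factorial_eq_one.mpr (show n - p ≤ 1 by omega), mul_one]
  have hpos : 0 < N.index * (p - 1) :=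
    Nat.mul_pos (Nat.pos_of_ne_zero Subgroup.index_ne_zero_of_finite) (by omega)
  refine Nat.eq_of_mul_eq_mul_right hpos ?_
  calc Nat.card N * (N.index * (p - 1)) = (Nat.card N * N.index) * (p - 1) := by ring
    _ = n.factorial * (p - 1) := by rw [h2]
    _ = p * (p - 1) * ((p - 1).factorial * n.choose p) := by rw [← h3]; ring
    _ = p * (p - 1) * (N.index * (p - 1)) := by rw [h1']

end Cfsg.Agent.S0989
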