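import Cfsg.Statements.S2503
import Mathlib
import Cfsg.Agent.Lib.SL2.PSL
import Cfsg.Agent.Lib.SL2.Facts
import Cfsg.Agent.Lib.SL2.Unipotent

set_option autoImplicit false
set_option linter.style.haveILetI false
open Cfsg

namespace Cfsg.Agent.S2503

theorem core {F : Type*} [Field F] [Finite F] [CharP F 2] {t : F} (ht : ∀ c : F, c * c - t * c + 1 ≠ 0)
    (h : Matrix.SpecialLinearGroup (Fin 2) F) :
    ∃ a ∈ CfsgLib.SL2.cent (CfsgLib.SL2.companion t), ∃ b : Multiplicative F,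
      ∃ c ∈ CfsgLib.SL2.cent (CfsgLib.SL2.companion t), h = a * CfsgLib.SL2.upperHom b * c := by
  have z2 : (2 : F) = 0 := CharTwo.two_eq_zero
  have z3 : (3 : F) = 1 := by linear_combination z2
  have z4 : (4 : F) = 0 := by linear_combination 2 * z2
  set M := CfsgLib.SL2.companion t with hM
  set N := h * M * h⁻¹ with hN
  have hMc : (M : Matrix (Fin 2) (Fin 2) F) = !![0, 1; 1, t] := by
    simp [hM, CfsgLib.SL2.companion, CharTwo.neg_eq]
  have htrN : (N : Matrix (Fin 2) (Fin 2) F) 1 1 = (N : Matrix (Fin 2) (Fin 2) F) 0 0 + t := by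
    have h1 : (N : Matrix (Fin 2) (Fin 2) F).trace = t := by
      rw [hN, CfsgLib.SL2.trace_conj, hM, CfsgLib.SL2.companion_trace]
    rw [Matrix.trace_fin_two] at h1
    linear_combination h1 - CharTwo.add_self_eq_zero ((N : Matrix (Fin 2) (Fin 2) F) 0 0)
  have hsq : ∀ x : F, ∃ r, r * r = x := fun x => by
    obtain ⟨r, hr⟩ := FiniteField.isSquare_of_char_two (ringChar.eq F 2) x
    exact ⟨r, hr.symm⟩
  obtain ⟨w, β, hne, hz⟩ : ∃ w β : F, (w ≠ 0 ∨ β ≠ 0) ∧
      ((N : Matrix (Fin 2) (Fin 2) F) 1 0 + 1) * (w * w) + ((N : Matrix (Fin 2) (Fin 2) F) 0 1 + 1) * (β * β) = 0 := by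
    by_cases h10 : (N : Matrix (Fin 2) (Fin 2) F) 1 0 + 1 = 0
    · exact ⟨1, 0, Or.inl one_ne_zero, by rw [h10]; ring⟩
    · obtain ⟨r, hr⟩ := hsq (-((N : Matrix (Fin 2) (Fin 2) F) 0 1 + 1) / ((N : Matrix (Fin 2) (Fin 2) F) 1 0 + 1))
      exact ⟨r, 1, Or.inr one_ne_zero, by rw [hr]; field_simp; ring⟩
  have hn : w * w + t * β * w + β * β ≠ 0 := by
    intro h0
    by_cases hb : β = 0
    · subst hb
      simp at h0 hne
      exact hne h0
    · refine ht (w / β) ?_
      field_simp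
      linear_combination h0 - CharTwo.add_self_eq_zero (t * β * w)
  obtain ⟨s, hs⟩ := hsq (w * w + t * β * w + β * β)⁻¹
  set α := w + t * β with hα
  let a : Matrix.SpecialLinearGroup (Fin 2) F := ⟨!![s * α, s * β; s * β, s * (α + t * β)], by
    rw [Matrix.det_fin_two_of]
    have h1 : s * s * (w * w + t * β * w + β * β) = 1 := by rw [hs, inv_mul_cancel₀ hn]
    linear_combination h1 + (t * t * β * β * s * s + t * β * w * s * s - β * β * s * s) * CharTwo.two_eq_zero (R := F)⟩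
  have ha : a ∈ CfsgLib.SL2.cent M := CfsgLib.SL2.mem_cent_of_eq (a := s * α) (b := s * β) (by
    rw [hMc]
    ext i j
    fin_cases i <;> fin_cases j <;> simp [a] <;> ring)
  set N' := a * N * a⁻¹ with hN'
  have h10' : (N' : Matrix (Fin 2) (Fin 2) F) 1 0 = 1 := by
    have h1 : s * s * (w * w + t * β * w + β * β) = 1 := by rw [hs, inv_mul_cancel₀ hn]
    rw [hN', Matrix.SpecialLinearGroup.coe_mul, Matrix.SpecialLinearGroup.coe_mul, Matrix.SpecialLinearGroup.coe_inv]
    simp [a, Matrix.adjugate_fin_two, Matrix.mul_apply, Matrix.vecMul, dotProduct, Fin.sum_univ_two, htrN, CharTwo.neg_eq, hα]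
    linear_combination (norm := (ring_nf; simp [z2, z3, z4])) h1 + s * s * hz
  have h11' : (N' : Matrix (Fin 2) (Fin 2) F) 1 1 = (N' : Matrix (Fin 2) (Fin 2) F) 0 0 + t := by
    have h1 : (N' : Matrix (Fin 2) (Fin 2) F).trace = t := by
      rw [hN', CfsgLib.SL2.trace_conj, hN, CfsgLib.SL2.trace_conj, hM, CfsgLib.SL2.companion_trace]
    rw [Matrix.trace_fin_two] at h1
    linear_combination h1 - CharTwo.add_self_eq_zero ((N' : Matrix (Fin 2) (Fin 2) F) 0 0)
  set b := (N' : Matrix (Fin 2) (Fin 2) F) 0 0 with hb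
  set u := CfsgLib.SL2.upperHom (Multiplicative.ofAdd b) with hu
  have hdet : b * (b + t) - (N' : Matrix (Fin 2) (Fin 2) F) 0 1 = 1 := by
    have h1 := (N' : Matrix.SpecialLinearGroup (Fin 2) F).det_coe
    rw [Matrix.det_fin_two, h10', h11', mul_one] at h1
    exact h1
  have huMN : u * M = N' * u := by
    apply Subtype.ext
    rw [Matrix.SpecialLinearGroup.coe_mul, Matrix.SpecialLinearGroup.coe_mul, hMc, hu,
      CfsgLib.SL2.upperHom_coe, toAdd_ofAdd]
    ext i j
    fin_cases i <;> fin_cases j <;> simp [Matrix.mul_apply, Fin.sum_univ_two, h10', h11', ← hb]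
    · linear_combination (norm := (ring_nf; simp [z2, z3, z4])) hdet
    · linear_combination (norm := (ring_nf; simp [z2, z3, z4])) (0 : F) * z2
  have hc : u⁻¹ * (a * h) ∈ CfsgLib.SL2.cent M := by
    rw [CfsgLib.SL2.mem_cent_iff]
    have e : a * h * M = N' * (a * h) := by rw [hN', hN]; group
    have e2 : M * u⁻¹ = u⁻¹ * N' := by
      calc M * u⁻¹ = u⁻¹ * (u * M) * u⁻¹ := by group
        _ = u⁻¹ * N' := by rw [huMN]; group
    rw [← mul_assoc, e2, mul_assoc, ← e]
    group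
  exact ⟨a⁻¹, Subgroup.inv_mem _ ha, Multiplicative.ofAdd b, _, hc, by rw [← hu]; group⟩

/-- Let F be a finite field with q = 2^t ≥ 4 elements and L = PSL(2,F). Then L has a cyclic subgroup A of order q + 1 and an elementary abelian 2-subgroup B of order q such that L = ABA: every element of L is a product a·b·a' with a, a' ∈ A and b ∈ B. -/
theorem result {F : Type*} [Field F] [Fintype F]
    (h2 : 2 ∣ Fintype.card F) (h4 : 4 ≤ Fintype.card F) :
    ∃ A B : Subgroup (Matrix.ProjectiveSpecialLinearGroup (Fin 2) F),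
      IsCyclic A ∧ Nat.card A = Fintype.card F + 1 ∧ IsMulCommutative B ∧ (∀ b ∈ B, b * b = 1) ∧
        Nat.card B = Fintype.card F ∧
        ∀ g : Matrix.ProjectiveSpecialLinearGroup (Fin 2) F, ∃ a ∈ A, ∃ b ∈ B, ∃ c ∈ A, g = a * b * c := by
  classical
  obtain ⟨k, hk⟩ := h2
  haveI : CharP F 2 := by
    obtain ⟨p, hp⟩ := CharP.exists F
    obtain ⟨a, hpr, ha⟩ := FiniteField.card F p
    have : (2 : ℕ) = p := (Nat.prime_dvd_prime_iff_eq Nat.prime_two hpr).mp
      (Nat.prime_two.dvd_of_dvd_pow (n := (a : ℕ)) (ha ▸ ⟨k, hk⟩))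
    exact this ▸ hp
  obtain ⟨t, ht⟩ := CfsgLib.SL2.exists_trace_irreducible (F := F)
  have hirr : ∀ c : F, c * c - (CfsgLib.SL2.companion t : Matrix (Fin 2) (Fin 2) F).trace * c + 1 ≠ 0 := by
    rw [CfsgLib.SL2.companion_trace]; exact ht
  obtain ⟨hcyc, hcard⟩ := CfsgLib.SL2.cent_nonsplit hirr
  have hgcd : Nat.gcd 2 (Nat.card F - 1) = 1 := by
    rw [Nat.card_eq_fintype_card, hk, Nat.gcd_rec]
    have : (2 * k - 1) % 2 = 1 := by omega
    rw [this, Nat.gcd_one_left]
  refine ⟨(CfsgLib.SL2.cent (CfsgLib.SL2.companion t)).map CfsgLib.SL2.proj,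
    (CfsgLib.SL2.upperHom (F := F)).range.map CfsgLib.SL2.proj,
    isCyclic_of_surjective _ (CfsgLib.SL2.proj.subgroupMap_surjective _), ?_, ?_, ?_, ?_, ?_⟩
  · have h := CfsgLib.SL2.card_map_proj (CfsgLib.SL2.center_le_cent (CfsgLib.SL2.companion t))
    rw [hgcd, hcard, Nat.card_eq_fintype_card (α := F)] at h
    omega
  · refine ⟨⟨?_⟩⟩
    rintro ⟨_, _, ⟨a, rfl⟩, rfl⟩ ⟨_, _, ⟨b, rfl⟩, rfl⟩
    exact Subtype.ext (by simp only [Subgroup.coe_mul, ← map_mul, mul_comm a b])
  · rintro _ ⟨_, ⟨a, rfl⟩, rfl⟩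
    rw [← map_mul, ← map_mul, show a * a = 1 from CharTwo.add_self_eq_zero a.toAdd, map_one, map_one]
  · have hinj : Function.Injective (CfsgLib.SL2.proj.comp (CfsgLib.SL2.upperHom (F := F))) := by
      rw [injective_iff_map_eq_one]
      intro a ha
      have h1 := (CfsgLib.SL2.proj_eq_one_iff _).mp ha
      apply CfsgLib.SL2.upperHom_injective
      rw [map_one]
      have h2 := Subgroup.mem_center_iff.mp h1 (CfsgLib.SL2.companion t)
      have h3 := congrFun (congrFun (congrArg Subtype.val h2) 0) 0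
      rw [Matrix.SpecialLinearGroup.coe_mul, Matrix.SpecialLinearGroup.coe_mul] at h3
      simp [CfsgLib.SL2.companion, CfsgLib.SL2.upperHom_coe, Matrix.mul_apply, Fin.sum_univ_two] at h3
      have h4 : a = 1 := by
        have : a.toAdd = 0 := by linear_combination -h3
        exact this
      rw [h4, map_one]
    rw [MonoidHom.map_range, Nat.card_congr (MonoidHom.ofInjective hinj).symm.toEquiv]
    rw [Nat.card_congr Multiplicative.toAdd, Nat.card_eq_fintype_card]
  · intro g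
    obtain ⟨h, rfl⟩ := CfsgLib.SL2.proj_surjective g
    obtain ⟨a, ha, b, c, hc, rfl⟩ := core ht h
    exact ⟨_, Subgroup.mem_map_of_mem _ ha, _, Subgroup.mem_map_of_mem _ ⟨b, rfl⟩, _,
      Subgroup.mem_map_of_mem _ hc, by rw [map_mul, map_mul]⟩

end Cfsg.Agent.S2503
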