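import Cfsg.Statements.S0738
import Cfsg.Agent.Lib.Zassenhaus.LargeStab

set_option autoImplicit false
set_option linter.style.haveILetI false
open Cfsg

namespace Cfsg.Agent.S0738

/-- Let a finite Zassenhaus group of degree `n + 1` have two-point stabilisers of order `d` with `2d ≥ n - 1`. Then a normal subgroup of a point stabiliser acting regularly on the remaining points is elementary abelian, and the degree is a prime power plus one. -/
theorem result {G Ω : Type*} [Group G] [Finite G] [MulAction G Ω] [Fintype Ω] (hZ : Cfsg.IsZassenhausGroup G Ω) {a b : Ω} (hab : a ≠ b) (hd : Fintype.card Ω - 2 ≤ 2 * Nat.card ↥(MulAction.stabilizer G a ⊓ MulAction.stabilizer G b)) (F : Subgroup G) (hFle : F ≤ MulAction.stabilizer G a) (hFn : (F.subgroupOf (MulAction.stabilizer G a)).Normal) (hreg : ∀ y z : Ω, y ≠ a → z ≠ a → ∃! u : F, (u : G) • y = z) : IsMulCommutative F ∧ ∃ p f : ℕ, p.Prime ∧ (∀ u ∈ F, u ^ p = 1) ∧ Fintype.card Ω = p ^ f + 1 := by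
  classical
  have hz : CfsgLib.Zassenhaus.ZG G Ω := CfsgLib.Zassenhaus.ZG.mk' hZ.1 hZ.2.1 hZ.2.2.1 hZ.2.2.2.1
  have hne : CfsgLib.Zassenhaus.D2 G a b ≠ ⊥ := by
    obtain ⟨g, hg1, c, d, hcd, hgc, hgd⟩ := hZ.2.2.2.1
    obtain ⟨x, hxa, hxb⟩ := hz.trans c d a b hcd hab
    intro h
    have hm : x * g * x⁻¹ ∈ CfsgLib.Zassenhaus.D2 G a b := CfsgLib.Zassenhaus.mem_D2.mpr
      ⟨by rw [← hxa, mul_smul, mul_smul, inv_smul_smul, hgc],
       by rw [← hxb, mul_smul, mul_smul, inv_smul_smul, hgd]⟩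
    rw [h, Subgroup.mem_bot] at hm
    exact hg1 (conj_eq_one_iff.mp hm)
  have hU := CfsgLib.Zassenhaus.regKernel_of_reg hz hab hne hFle hreg
  obtain ⟨hc, p, f, hp, hexp, hcard⟩ := CfsgLib.Zassenhaus.elementary_of_large hz hab.symm hU
    (by rwa [Nat.card_eq_fintype_card])
  refine ⟨hc, p, f, hp, hexp, ?_⟩
  rw [hU.card_eq hz hab.symm, Nat.card_eq_fintype_card] at hcard
  have := hz.three
  rw [Nat.card_eq_fintype_card] at this
  omega

end Cfsg.Agent.S0738
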