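import Cfsg.Statements.S4593
import Cfsg.Agent.Lib.ZStar.AbelianSylowTwo

-- import your own Cfsg.Agent.* helpers here

set_option autoImplicit false
open Cfsg

namespace Cfsg.Agent.S4593

/-- Let G be a finite group with trivial centre and no nontrivial normal subgroup of odd order, whose Sylow 2-subgroups are abelian, and let P be a Sylow 2-subgroup. Every automorphism of G of 2-power order that fixes P elementwise is inner. -/
theorem result {G : Type*} [Group G] [Finite G] (hZ : Subgroup.center G = ⊥) (hcore : Cfsg.pPrimeCore 2 G = ⊥) (P : Sylow 2 G) (hab : IsMulCommutative (P : Subgroup G))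
    (α : MulAut G) (h2 : ∃ j : ℕ, orderOf α = 2 ^ j) (hfix : ∀ x ∈ (P : Subgroup G), α x = x) :
    ∃ g : G, ∀ x : G, α x = g * x * g⁻¹ := by
    classical
    set A := Subgroup.zpowers α
    let φ : A →* MulAut G := A.subtype
    have hA : ∀ a b : A, Commute a b := fun a b => Subtype.ext (by
      obtain ⟨i, hi⟩ := Subgroup.mem_zpowers_iff.mp a.2
      obtain ⟨k, hk⟩ := Subgroup.mem_zpowers_iff.mp b.2
      simp [← hi, ← hk, ← zpow_add, add_comm])
    have hfixA : ∀ a : A, ∀ x ∈ (P : Subgroup G), φ a x = x := by
      intro a x hx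
      obtain ⟨k, hk⟩ := Subgroup.mem_zpowers_iff.mp a.2
      have h1 : α ∈ MulAction.stabilizer (MulAut G) x := hfix x hx
      show (a : MulAut G) x = x
      rw [← hk]
      exact zpow_mem h1 k
    have : Finite (G ⋊[φ] A) := Finite.of_equiv _ SemidirectProduct.equivProd.symm
    let ι : ↥(P : Subgroup G) × ↥A →* G ⋊[φ] A := MonoidHom.noncommCoprod
      (SemidirectProduct.inl.comp (P : Subgroup G).subtype) SemidirectProduct.inr
      (fun x a => by
        refine SemidirectProduct.ext ?_ ?_
        · simp [hfixA a x x.2]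
        · simp)
    have hιv : ∀ w, ι w = SemidirectProduct.inl (w.1 : G) * SemidirectProduct.inr w.2 := fun w => rfl
    have hιl : ∀ w, (ι w).left = (w.1 : G) := fun w => by
      rw [hιv, SemidirectProduct.mul_left, SemidirectProduct.left_inl, SemidirectProduct.left_inr,
        SemidirectProduct.right_inl, map_one, mul_one]
    have hιr : ∀ w, (ι w).right = w.2 := fun w => by
      rw [hιv, SemidirectProduct.mul_right, SemidirectProduct.right_inl, SemidirectProduct.right_inr,
        one_mul]
    have hι : Function.Injective ι := fun u v h =>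
      Prod.ext (Subtype.ext (by rw [← hιl u, ← hιl v, h])) (by rw [← hιr u, ← hιr v, h])
    obtain ⟨j, hj⟩ := h2
    obtain ⟨i, hi⟩ := IsPGroup.iff_card.mp P.2
    have hcardA : Nat.card A = 2 ^ j := by rw [Nat.card_zpowers, hj]
    have hcard : Nat.card ι.range = 2 ^ (i + j) := by
      rw [← Nat.card_congr (MonoidHom.ofInjective hι).toEquiv, Nat.card_prod, hi, hcardA, pow_add]
    have hidx : ¬ 2 ∣ ι.range.index := by
      have h1 := ι.range.card_mul_index
      rw [hcard, SemidirectProduct.card, hcardA, ← (P : Subgroup G).card_mul_index, hi] at h1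
      have h2 : ι.range.index = (P : Subgroup G).index := by
        have : 2 ^ (i + j) * ι.range.index = 2 ^ (i + j) * (P : Subgroup G).index := by
          rw [h1, pow_add]; ring
        exact Nat.eq_of_mul_eq_mul_left (by positivity) this
      rw [h2]
      exact P.not_dvd_index
    let S : Sylow 2 (G ⋊[φ] A) := (IsPGroup.of_card hcard).toSylow hidx
    have hS : ∀ a ∈ (S : Subgroup (G ⋊[φ] A)), ∀ b ∈ (S : Subgroup (G ⋊[φ] A)), Commute a b := by
      rintro _ ⟨u, rfl⟩ _ ⟨v, rfl⟩
      refine Commute.map (Commute.prod (Subtype.ext ?_) (hA _ _)) ι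
      exact congrArg Subtype.val (hab.is_comm.comm u.1 v.1)
    have hO : pPrimeCore 2 (G ⋊[φ] A) = ⊥ := by
      have hodd : Odd (Nat.card (pPrimeCore 2 (G ⋊[φ] A))) := CfsgLib.ZStar.odd_card_core
      have hn : (pPrimeCore 2 (G ⋊[φ] A)).Normal := CfsgLib.Transfer.pPrimeCore_normal 2 _
      rw [Subgroup.eq_bot_iff_forall]
      intro x hx
      have ho : Odd (orderOf x) := hodd.of_dvd_nat (Subgroup.orderOf_dvd_natCard _ hx)
      have hr : x.right = 1 := by
        refine orderOf_eq_one_iff.mp (Nat.eq_one_of_dvd_coprimes ?_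
          (orderOf_map_dvd SemidirectProduct.rightHom x) (orderOf_dvd_natCard _))
        rw [hcardA]
        exact Nat.Coprime.pow_right _ (Nat.coprime_two_right.mpr ho)
      have hxl : x = SemidirectProduct.inl x.left :=
        SemidirectProduct.ext (by simp) (by simp [hr])
      have h1 : (pPrimeCore 2 (G ⋊[φ] A)).comap SemidirectProduct.inl ≤ pPrimeCore 2 G := by
        refine CfsgLib.Transfer.le_pPrimeCore (hn.comap _) ?_
        exact Nat.coprime_two_right.mpr (hodd.of_dvd_nat (Subgroup.card_comap_dvd_of_injective _ _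
          SemidirectProduct.inl_injective))
      rw [hcore] at h1
      have h2 : x.left = 1 := h1 (show SemidirectProduct.inl x.left ∈ _ from hxl ▸ hx)
      rw [hxl, h2, map_one]
    obtain ⟨c, hcS, hcc, hcπ⟩ := CfsgLib.ZStar.exists_central_mul S hS hO
      SemidirectProduct.rightHom hA (t := SemidirectProduct.inr ⟨α, Subgroup.mem_zpowers α⟩)
      ⟨(1, ⟨α, Subgroup.mem_zpowers α⟩), by rw [hιv, OneMemClass.coe_one, map_one, one_mul]⟩
    refine ⟨c.left⁻¹, fun x => ?_⟩
    have h1 := congrArg SemidirectProduct.left (hcc (SemidirectProduct.inl x)).eq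
    have h2 : c.right = ⟨α, Subgroup.mem_zpowers α⟩ := by simpa using hcπ
    simp [h2, φ] at h1
    rw [inv_inv, mul_assoc, ← h1, inv_mul_cancel_left]

end Cfsg.Agent.S4593
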