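import Mathlib
import Cfsg.Statements.S3056
import Cfsg.Agent.Lib.Strong.Conj
import Cfsg.Agent.Lib.Transfer.Sylow

set_option autoImplicit false
set_option linter.style.haveILetI false
set_option linter.unusedVariables false
open Cfsg

namespace Cfsg.Agent.S3056

theorem chain_of_rel {G : Type*} [Group G] {p : ℕ} {S T : Sylow p G}
    (h : Relation.ReflTransGen (fun A B : Sylow p G => A ≠ B ∧ (A : Subgroup G) ⊓ (B : Subgroup G) ≠ ⊥) S T) :
    ∃ (n : ℕ) (c : Fin (n + 1) → Sylow p G), c 0 = S ∧ c (Fin.last n) = T ∧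
      ∀ i : Fin n, c i.castSucc ≠ c i.succ ∧ (c i.castSucc : Subgroup G) ⊓ (c i.succ : Subgroup G) ≠ ⊥ := by
  induction h with
  | refl => exact ⟨0, fun _ => S, rfl, rfl, fun i => i.elim0⟩
  | @tail B C _ hBC ih =>
    obtain ⟨n, c, h0, hl, hc⟩ := ih
    refine ⟨n + 1, Fin.snoc c C, by rw [← Fin.castSucc_zero, Fin.snoc_castSucc, h0], Fin.snoc_last .., fun i => ?_⟩
    induction i using Fin.lastCases with
    | last => rw [Fin.succ_last, Fin.snoc_last, Fin.snoc_castSucc, hl]; exact hBC
    | cast i => rw [Fin.succ_castSucc, Fin.snoc_castSucc, Fin.snoc_castSucc]; exact hc i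

/-- Let G be a finite group and p a prime. Join two Sylow p-subgroups when they are distinct and meet nontrivially. This graph on the Sylow p-subgroups is disconnected (the Sylow p-subgroups are not chain-connected through nontrivial intersections) if and only if G has a strongly p-embedded subgroup in the classical sense: a proper subgroup H of order divisible by p such that H ∩ gHg⁻¹ has order prime to p for every g outside H. -/
theorem result {G : Type*} [Group G] [Finite G]
    (p : ℕ) [Fact p.Prime] :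
    ¬ Cfsg.IsSylowChainConnected p G ↔
      ∃ H : Subgroup G, H ≠ ⊤ ∧ p ∣ Nat.card H ∧
        ∀ g : G, g ∉ H → ¬ p ∣ Nat.card ↥(H ⊓ H.map (MulAut.conj g).toMonoidHom) := by
  set R := fun A B : Sylow p G => A ≠ B ∧ (A : Subgroup G) ⊓ (B : Subgroup G) ≠ ⊥ with hR
  have hsymm : ∀ A B, Relation.ReflTransGen R A B → Relation.ReflTransGen R B A := fun A B h => by
    induction h with
    | refl => exact Relation.ReflTransGen.refl
    | tail _ h ih => exact (Relation.ReflTransGen.single ⟨h.1.symm, by rw [inf_comm]; exact h.2⟩).trans ih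
  have hsmul : ∀ (g : G) A B, Relation.ReflTransGen R A B → Relation.ReflTransGen R (g • A) (g • B) := by
    intro g A B h
    induction h with
    | refl => exact Relation.ReflTransGen.refl
    | @tail B C _ h ih =>
      refine ih.tail ⟨fun e => h.1 (smul_left_cancel g e), ?_⟩
      rw [CfsgLib.Transfer.smul_sylow_coe, CfsgLib.Transfer.smul_sylow_coe,
        ← Subgroup.map_inf _ _ _ (MulAut.conj g).injective, Ne,
        Subgroup.map_eq_bot_iff_of_injective _ (MulAut.conj g).injective]
      exact h.2
  constructor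
  · intro hd
    obtain ⟨S, T, hST⟩ : ∃ S T, ¬ Relation.ReflTransGen R S T := by
      by_contra hall
      push Not at hall
      apply hd
      intro S T
      by_cases hbot : (S : Subgroup G) ⊓ (T : Subgroup G) = ⊥
      · obtain ⟨n, c, h0, hl, hc⟩ := chain_of_rel (hall S T)
        exact ⟨n, c, h0, hl, fun i => by rw [hbot]; exact bot_le, hc⟩
      by_cases hST : S = T
      · exact ⟨0, fun _ => S, rfl, hST, fun i => inf_le_left, fun i => i.elim0⟩
      · refine ⟨1, ![S, T], rfl, rfl, fun i => ?_, fun i => ?_⟩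
        · fin_cases i
          · exact inf_le_left
          · exact inf_le_right
        · fin_cases i
          exact ⟨hST, hbot⟩
    have hne : ∀ A : Sylow p G, (A : Subgroup G) ≠ ⊥ := by
      intro A hA
      refine hST ((Sylow.ext ?_ : S = T) ▸ Relation.ReflTransGen.refl)
      obtain ⟨a, ha⟩ := CfsgLib.Transfer.exists_map_conj_sylow_eq A S
      obtain ⟨b, hb⟩ := CfsgLib.Transfer.exists_map_conj_sylow_eq A T
      rw [← ha, ← hb, hA, Subgroup.map_bot, Subgroup.map_bot]
    let H : Subgroup G :=
      { carrier := {g | Relation.ReflTransGen R S (g • S)}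
        one_mem' := by change Relation.ReflTransGen R S ((1 : G) • S); rw [one_smul]
        mul_mem' := fun {a b} ha hb => by
          change Relation.ReflTransGen R S ((a * b) • S)
          rw [mul_smul]
          exact ha.trans (hsmul a _ _ hb)
        inv_mem' := fun {a} ha => by
          have h := hsymm _ _ (hsmul a⁻¹ _ _ ha)
          rwa [inv_smul_smul] at h }
    have hSH : (S : Subgroup G) ≤ H := fun g hg => by
      change Relation.ReflTransGen R S (g • S)
      rw [show g • S = S from Sylow.smul_eq_iff_mem_normalizer.mpr (Subgroup.le_normalizer hg)]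
    have hpH : p ∣ Nat.card H := by
      haveI : Nontrivial (S : Subgroup G) := (Subgroup.nontrivial_iff_ne_bot _).2 (hne S)
      obtain ⟨k, hk, hk'⟩ := S.2.nontrivial_iff_card.1 inferInstance
      exact (hk' ▸ dvd_pow_self p hk.ne' : p ∣ _).trans (Subgroup.card_dvd_of_le hSH)
    refine ⟨H, fun htop => ?_, hpH, CfsgLib.Strong.forall_not_dvd_iff.mpr fun Q hQ hQH hQ1 g hg => ?_⟩
    · obtain ⟨g, hg⟩ := MulAction.exists_smul_eq G S T
      exact hST (hg ▸ (htop.ge (Subgroup.mem_top g) : g ∈ H))
    · obtain ⟨h, hh, hQh⟩ := CfsgLib.Transfer.exists_conj_le_of_not_dvd_relIndex hSH S.2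
        (fun hd => S.not_dvd_index (hd.trans (Subgroup.relIndex_dvd_index_of_le hSH))) hQH hQ
      have h1 : Q ≤ ((h⁻¹ • S : Sylow p G) : Subgroup G) := by
        rw [CfsgLib.Transfer.smul_sylow_coe]
        intro q hq
        exact ⟨h * q * h⁻¹, hQh ⟨q, hq, rfl⟩, by simp [mul_assoc]⟩
      have h2 : Q ≤ (((g * h⁻¹) • S : Sylow p G) : Subgroup G) := by
        rw [mul_smul, CfsgLib.Transfer.smul_sylow_coe]
        conv_lhs => rw [← CfsgLib.Transfer.map_conj_eq_self_iff.mpr hg]
        exact Subgroup.map_mono h1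
      have h3 : g * h⁻¹ ∈ H := by
        have hh' : h⁻¹ ∈ H := H.inv_mem hh
        by_cases e : h⁻¹ • S = (g * h⁻¹) • S
        · change Relation.ReflTransGen R S ((g * h⁻¹) • S)
          rw [← e]; exact hh'
        · exact Relation.ReflTransGen.tail (show Relation.ReflTransGen R S (h⁻¹ • S) from hh')
            ⟨e, fun hb => hQ1 (le_bot_iff.mp (hb ▸ le_inf h1 h2))⟩
      simpa using H.mul_mem h3 hh
  · rintro ⟨H, hH, hpH, hint⟩ hconn
    have hN := CfsgLib.Strong.forall_not_dvd_iff.mp hint
    obtain ⟨x, hx⟩ := exists_prime_orderOf_dvd_card' (G := H) p hpH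
    rw [← Subgroup.orderOf_coe] at hx
    obtain ⟨S, hS⟩ := (CfsgLib.Transfer.isPGroup_zpowers (p := p) (x := (x : G))
      ⟨1, by rw [pow_one, hx]⟩).exists_le_sylow
    have hxS := hS (Subgroup.mem_zpowers (x : G))
    have hSH := CfsgLib.Strong.sylow_le_of_normalizer hN S hxS x.2 hx
    refine hH (eq_top_iff.mpr fun g _ => ?_)
    obtain ⟨n, c, h0, hl, -, hc⟩ := hconn S (g • S)
    have key : ∀ i, (c i : Subgroup G) ≤ H := by
      intro i
      induction i using Fin.induction with
      | zero => rw [h0]; exact hSH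
      | succ i ih =>
        obtain ⟨-, hne⟩ := hc i
        obtain ⟨y, hy, hy'⟩ := CfsgLib.Strong.exists_orderOf_eq_of_ne_bot
          ((c i.castSucc).2.to_le inf_le_left) hne
        exact CfsgLib.Strong.sylow_le_of_normalizer hN (c i.succ) hy.2 (ih hy.1) hy'
    have h1 := key (Fin.last n)
    rw [hl, CfsgLib.Transfer.smul_sylow_coe] at h1
    exact CfsgLib.Strong.mem_of_conj_mem hN hx x.2 (h1 ⟨x, hxS, rfl⟩)

end Cfsg.Agent.S3056
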