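import Cfsg.Statements.S1234
import Cfsg.Agent.Lib.TwoRank.Harada

set_option autoImplicit false
open Cfsg

namespace Cfsg.Agent.S1234

/-- Let S be a finite 2-group and Q ≤ S a subgroup of order 32 having an elementary abelian subgroup E of order 16 and an involution s ∉ E whose centralizer in E has order 4 (so Q ≅ (Z₂ × Z₂) ≀ Z₂). If C_S(Z(Q)) = Q, then every section of S has 2-rank at most 4. -/
theorem result {S : Type*} [Group S] [Finite S] (hS : IsPGroup 2 S) (Q E : Subgroup S) (hEQ : E ≤ Q) (hE : Cfsg.IsElementaryAbelian 2 E) (hE16 : Nat.card E = 16) (hQ32 : Nat.card Q = 32) (s : S) (hsQ : s ∈ Q) (hsE : s ∉ E) (hs : orderOf s = 2) (hfix : Nat.card ↥(E ⊓ Subgroup.centralizer ({s} : Set S)) = 4) (hC : Subgroup.centralizer (((Subgroup.center Q).map Q.subtype : Subgroup S) : Set S) = Q) : Cfsg.SectionalPRankLE 2 4 S := by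
  classical
  obtain ⟨hEc, hEp⟩ := hE
  have hEel : CfsgLib.TwoRank.Elem E :=
    ⟨fun x hx y hy => congrArg Subtype.val (hEc.is_comm.comm (⟨x, hx⟩ : E) ⟨y, hy⟩),
      fun x hx => by rw [← pow_two]; exact hEp x hx⟩
  have hss : s * s = 1 := by rw [← pow_two, ← hs]; exact pow_orderOf_eq_one s
  set L : Subgroup S := E ⊓ Subgroup.centralizer ({s} : Set S) with hL
  have hidx : (E.subgroupOf Q).index = 2 := by
    have h := (E.subgroupOf Q).card_mul_index
    rw [Nat.card_congr (Subgroup.subgroupOfEquivOfLe hEQ).toEquiv, hE16, hQ32] at h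
    omega
  have hcov : ∀ q ∈ Q, q ∈ E ∨ q * s ∈ E := fun q hq => by
    by_cases hqE : q ∈ E
    · exact Or.inl hqE
    · exact Or.inr (Subgroup.mem_subgroupOf.mp ((Subgroup.mul_mem_iff_of_index_two hidx
        (a := ⟨q, hq⟩) (b := ⟨s, hsQ⟩)).mpr
        ⟨fun e => absurd (Subgroup.mem_subgroupOf.mp e) hqE,
          fun e => absurd (Subgroup.mem_subgroupOf.mp e) hsE⟩))
  have hsL : ∀ l ∈ L, l * s = s * l := fun l hl =>
    Subgroup.mem_centralizer_singleton_iff.mp hl.2
  -- the centre of `Q`
  have hZ : ((Subgroup.center Q).map Q.subtype : Subgroup S) = L := by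
    refine le_antisymm ?_ fun l hl => ⟨⟨l, hEQ hl.1⟩, Subgroup.mem_center_iff.mpr fun q => ?_, rfl⟩
    · rintro _ ⟨⟨y, hy⟩, hyc, rfl⟩
      have hc : ∀ q ∈ Q, q * y = y * q := fun q hq =>
        congrArg Subtype.val (Subgroup.mem_center_iff.mp hyc (⟨q, hq⟩ : Q))
      refine ⟨?_, Subgroup.mem_centralizer_singleton_iff.mpr (hc s hsQ).symm⟩
      show y ∈ E
      by_contra hyE
      have hys : y * s ∈ E := (hcov y hy).resolve_left hyE
      have hall : E ≤ L := fun e he => ⟨he, Subgroup.mem_centralizer_singleton_iff.mpr (by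
        have h1 : Commute e (y * s) := hEel.comm e he _ hys
        have h2 : Commute e y := hc e (hEQ he)
        have h3 := h2.inv_right.mul_right h1
        rw [inv_mul_cancel_left] at h3
        exact h3.eq)⟩
      have := Subgroup.card_le_of_le hall
      rw [hE16] at this
      have hfix' : Nat.card L = 4 := hfix
      omega
    · apply Subtype.ext
      show (q : S) * l = l * q
      rcases hcov q q.2 with h | h
      · exact hEel.comm _ h l hl.1
      · have h1 : Commute l ((q : S) * s) := hEel.comm l hl.1 _ h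
        have h3 := h1.mul_right (Commute.inv_right (hsL l hl))
        rw [mul_inv_cancel_right] at h3
        exact h3.eq.symm
  -- the self-centralizing subgroup
  let A : Subgroup S :=
    { carrier := {x | x ∈ L ∨ x * s ∈ L}
      one_mem' := Or.inl L.one_mem
      mul_mem' := by
        rintro x y (hx | hx) (hy | hy)
        · exact Or.inl (L.mul_mem hx hy)
        · exact Or.inr (by rw [mul_assoc]; exact L.mul_mem hx hy)
        · exact Or.inr (by rw [mul_assoc, hsL y hy, ← mul_assoc]; exact L.mul_mem hx hy)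
        · refine Or.inl ?_
          have e : x * y = (x * s) * (y * s) := by
            calc x * y = x * (s * s) * y * (s * s) := by rw [hss, mul_one, mul_one]
              _ = x * s * (s * (y * s)) * s := by group
              _ = x * s * ((y * s) * s) * s := by rw [hsL _ hy]
              _ = (x * s) * (y * s) * (s * s) := by group
              _ = _ := by rw [hss, mul_one]
          rw [e]; exact L.mul_mem hx hy
      inv_mem' := by
        rintro x (hx | hx)
        · exact Or.inl (L.inv_mem hx)
        · refine Or.inr ?_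
          have h1 := hsL _ (L.inv_mem hx)
          have e : x⁻¹ * s = s * (x * s)⁻¹ * s := by group
          rw [e, ← h1, mul_assoc, hss, mul_one]
          exact L.inv_mem hx }
  have hsA : s ∈ A := Or.inr (by rw [hss]; exact L.one_mem)
  have hrep : ∀ x ∈ A, ∃ l ∈ L, x = l ∨ x = l * s := by
    rintro x (hx | hx)
    · exact ⟨x, hx, Or.inl rfl⟩
    · exact ⟨x * s, hx, Or.inr (by rw [mul_assoc, hss, mul_one])⟩
  have hA : CfsgLib.TwoRank.Elem A := by
    refine ⟨fun x hx y hy => ?_, fun x hx => ?_⟩
    · obtain ⟨e, he, hxe⟩ := hrep x hx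
      obtain ⟨f, hf, hyf⟩ := hrep y hy
      have c1 : Commute e f := hEel.comm e he.1 f hf.1
      have c2 : Commute e s := hsL e he
      have c3 : Commute f s := hsL f hf
      rcases hxe with rfl | rfl <;> rcases hyf with rfl | rfl
      exacts [c1.eq, (c1.mul_right c2).eq, (c1.mul_left c3.symm).eq,
        ((c1.mul_right c2).mul_left (c3.symm.mul_right (Commute.refl s))).eq]
    · obtain ⟨e, he, rfl | rfl⟩ := hrep x hx
      · exact hEel.sq _ he.1
      · rw [mul_assoc, ← mul_assoc s, ← hsL e he, mul_assoc e s s, hss, mul_one]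
        exact hEel.sq e he.1
  have hC' : Subgroup.centralizer (A : Set S) = A := by
    refine le_antisymm (fun x hx => ?_) (fun x hx =>
      Subgroup.mem_centralizer_iff.mpr fun y hy => hA.comm y hy x hx)
    have hxQ : x ∈ Q := by
      rw [← hC, hZ]
      exact Subgroup.mem_centralizer_iff.mpr fun l hl =>
        Subgroup.mem_centralizer_iff.mp hx l (Or.inl hl)
    have hxs : Commute x s := (Subgroup.mem_centralizer_iff.mp hx s hsA).symm
    rcases hcov x hxQ with h | h
    · exact Or.inl ⟨h, Subgroup.mem_centralizer_singleton_iff.mpr hxs.eq⟩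
    · exact Or.inr ⟨h, Subgroup.mem_centralizer_singleton_iff.mpr
        (hxs.mul_left (Commute.refl s)).eq⟩
  have hA8 : Nat.card A = 8 := by
    have hL4 : Nat.card L = 4 := hfix
    refine le_antisymm ((CfsgLib.TwoRank.card_le_two_mul_of_mul_mem A L
      fun q hq hqL r hr hrL => ?_).trans (by omega)) ?_
    · obtain ⟨e, he, hqe⟩ := hrep q hq
      obtain ⟨f, hf, hrf⟩ := hrep r hr
      rcases hqe with rfl | rfl
      · exact absurd he hqL
      rcases hrf with rfl | rfl
      · exact absurd hf hrL
      have e' : e * s * (f * s) = e * f * (s * s) := by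
        rw [mul_assoc, ← mul_assoc s, ← hsL f hf]; group
      rw [e', hss, mul_one]
      exact L.mul_mem he hf
    · have hlt : L < A := lt_of_le_of_ne (fun l hl => Or.inl hl) fun e =>
        hsE ((e.symm ▸ hsA : s ∈ L)).1
      have h1 := Set.Finite.card_lt_card (Set.toFinite _) (SetLike.coe_ssubset_coe.mpr hlt)
      simp only [SetLike.coe_sort_coe] at h1
      obtain ⟨c, hc⟩ := Subgroup.card_dvd_of_le hlt.le
      rcases c with _ | _ | c
      · omega
      · omega
      · nlinarith
  exact CfsgLib.TwoRank.sectional_of_sqLE fun _ _ hXK =>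
    CfsgLib.TwoRank.card_le_of_selfCentralizing hS A hA hA8 hC' hXK

end Cfsg.Agent.S1234
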