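import Cfsg.Statements.S2150
import Cfsg.Agent.Lib.MinIndexOrth.Four.Quot
import Cfsg.Agent.Lib.Classical.KleinSix
import Cfsg.Agent.Lib.Classical.RestrictScalars
import Cfsg.Agent.Lib.Classical.UnitaryConj
import Cfsg.Agent.S5513

set_option autoImplicit false
open Cfsg

namespace Cfsg.Agent.S2150

/-- Minimal index of a proper subgroup of the four-dimensional unitary groups: for a field F with q² elements, every proper subgroup of PSU₄(q) has index at least (q + 1)(q³ + 1), and that index is attained. -/
theorem result {F : Type*} [Field F] [Fintype F] (q : ℕ) (hF : Fintype.card F = q ^ 2) (hq : 2 ≤ q) : (∀ H : Subgroup (Cfsg.PSU 4 F q), H ≠ ⊤ → (q + 1) * (q ^ 3 + 1) ≤ H.index) ∧ (∃ H : Subgroup (Cfsg.PSU 4 F q), H.index = (q + 1) * (q ^ 3 + 1)) := by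
  classical
  obtain ⟨F₀, _, _, hF₀⟩ := CfsgLib.Classical.UnitaryConj.exists_field_of_card_sq hF
  obtain ⟨a, b, hab⟩ := CfsgLib.Classical.RestrictScalars.exists_ab (F := F₀)
  obtain ⟨Q, hQ, hB⟩ := CfsgLib.Orth.exists_quadForm_minus (F := F₀) 2 hab
  obtain ⟨φ⟩ := CfsgLib.Classical.KleinSix.pomega_six_minus hF₀ hF a b hab
  rw [← hQ] at φ
  have hq0 : Nat.card F₀ = q := by rw [Nat.card_eq_fintype_card, hF₀]
  have hdim : Module.finrank F₀ ((Fin 2 ⊕ Fin 2) ⊕ Fin 2 → F₀) = 4 + 2 := CfsgLib.MinIndexOrth.minus_dim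
  have hn : 5 ≤ Module.finrank F₀ ((Fin 2 ⊕ Fin 2) ⊕ Fin 2 → F₀) := by omega
  have hpts := CfsgLib.MinIndexOrth.minus_points hab hQ hB
  have hS : CfsgLib.MinIndexOrth.MinusSix Q := ⟨hB, hdim,
    CfsgLib.MinIndexOrth.minus_no_half_point hab hQ, by
      rw [hpts, hq0]
      congr 1
      obtain ⟨d, rfl⟩ : ∃ d, q = d + 2 := ⟨q - 2, by omega⟩
      rw [show d + 2 - 1 = d + 1 by omega, show (d + 2) ^ 2 - 1 = (d + 1) * (d + 3) by
        rw [show (d + 2) ^ 2 = (d + 1) * (d + 3) + 1 by ring, Nat.add_sub_cancel]]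
      rw [mul_left_comm, Nat.mul_div_cancel_left _ (by omega)]
      ring⟩
  have hind : ∀ H : Subgroup (Cfsg.PSU 4 F q), (H.comap φ.toMonoidHom).index = H.index := fun H =>
    H.index_comap_of_surjective φ.surjective
  constructor
  · intro H hH
    by_cases h81 : q = 3 ∧ H.index = 81
    · -- no such subgroup over nine elements
      obtain ⟨rfl, h81⟩ := h81
      exfalso
      obtain ⟨K, _, _, hK⟩ : ∃ (K : Type) (_ : Field K) (_ : Fintype K), Fintype.card K = 3 ^ 2 := by
        haveI : Fact (Nat.Prime 3) := ⟨by norm_num⟩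
        refine ⟨GaloisField 3 2, inferInstance, Fintype.ofFinite _, ?_⟩
        rw [Fintype.card_eq_nat_card, GaloisField.card 3 2 (by norm_num)]
      obtain ⟨ψ⟩ := CfsgLib.Classical.KleinSix.pomega_six_minus hF₀ hK a b hab
      rw [← hQ] at ψ
      obtain ⟨L, hL⟩ : ∃ L : Subgroup (Cfsg.PSU 4 K 3), L.index = 81 := by
        refine ⟨H.comap (ψ.symm.trans φ).toMonoidHom, ?_⟩
        rw [H.index_comap_of_surjective (ψ.symm.trans φ).surjective, h81]
      obtain ⟨U⟩ := CfsgLib.Classical.Herm.exists_conj_of_card hK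
      have hG : Nat.card (Cfsg.PSU 4 K 3) = 3265920 := by
        have hSU : Nat.card (Cfsg.SU 4 K 3) = 13063680 := by
          have h1 := CfsgLib.Classical.Herm.card_SU (n := 4) U (by norm_num)
          have h2 := CfsgLib.Classical.Herm.card_GU (n := 4) U
          rw [h2] at h1
          rw [show (∏ i ∈ Finset.range 4, if Even i then 3 ^ (i + 1) + 1 else 3 ^ (i + 1) - 1) = 71680
            from rfl] at h1
          norm_num at h1
          rw [Nat.card_eq_fintype_card]; omega
        have hZ : Nat.card (Subgroup.center (Cfsg.SU 4 K 3)) = 4 :=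
          (CfsgLib.Classical.Herm.card_center U (by norm_num)).trans (by decide)
        have h := Subgroup.card_eq_card_quotient_mul_card_subgroup (Subgroup.center (Cfsg.SU 4 K 3))
        rw [hSU, hZ] at h
        change 13063680 = Nat.card (Cfsg.PSU 4 K 3) * 4 at h
        omega
      haveI : Finite (Cfsg.PSU 4 K 3) := Nat.finite_of_card_ne_zero (by omega)
      have hcL : Nat.card L = 40320 := by
        have h := L.card_mul_index
        rw [hL, hG] at h
        omega
      haveI : Fact (Nat.Prime 7) := ⟨by norm_num⟩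
      obtain ⟨S⟩ : Nonempty (Sylow 7 L) := inferInstance
      have hS7 : Nat.card S = 7 := by
        rw [Sylow.card_eq_multiplicity, hcL]
        have h : Nat.factorization 40320 7 = 1 := by
          rw [show (40320 : ℕ) = 7 * 5760 by norm_num, Nat.factorization_mul (by norm_num) (by norm_num),
            Finsupp.add_apply, Nat.Prime.factorization_self (by norm_num),
            Nat.factorization_eq_zero_of_not_dvd (by norm_num)]
        rw [h, pow_one]
      have hX7 : Nat.card ((S : Subgroup L).map L.subtype) = 7 := by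
        rw [Subgroup.card_map_of_injective L.subtype_injective]
        exact hS7
      obtain ⟨hN, -⟩ := Cfsg.Agent.S5513.result K (by rw [hK]; norm_num) _ hX7
      have hdvd : Nat.card (Subgroup.normalizer ((S : Subgroup L) : Set L)) ∣ 21 := by
        rw [← hN, ← Subgroup.card_map_of_injective L.subtype_injective]
        exact Subgroup.card_dvd_of_le (Subgroup.le_normalizer_map L.subtype)
      have h7 : 7 ∣ Nat.card (Subgroup.normalizer ((S : Subgroup L) : Set L)) :=
        by
          have h := Subgroup.card_dvd_of_le (Subgroup.le_normalizer (H := (S : Subgroup L)))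
          rwa [show Nat.card (S : Subgroup L) = 7 from hS7] at h
      have hmul := (Subgroup.normalizer ((S : Subgroup L) : Set L)).card_mul_index
      rw [show (Subgroup.normalizer ((S : Subgroup L) : Set L)).index = Nat.card (Sylow 7 L) from
        (Sylow.card_eq_index_normalizer S).symm, hcL] at hmul
      have hmod := card_sylow_modEq_one 7 L
      unfold Nat.ModEq at hmod
      obtain ⟨k, hk⟩ := h7
      rw [hk] at hdvd hmul
      have hk3 : k ∣ 3 := Nat.dvd_of_mul_dvd_mul_left (by norm_num) (hdvd : 7 * k ∣ 7 * 3)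
      have := Nat.le_of_dvd (by norm_num) hk3
      interval_cases k <;> omega
    rw [← hind H]
    have hne : H.comap φ.toMonoidHom ≠ ⊤ := fun e => hH (Subgroup.comap_injective φ.surjective
      (e.trans (Subgroup.comap_top _).symm))
    rcases CfsgLib.MinIndexOrth.pomega_lower' hS (H.comap φ.toMonoidHom) hne with h | ⟨h3, h⟩
    · exact (le_of_eq (by rw [hq0])).trans h
    · exact absurd ⟨hq0 ▸ h3, by rw [← hind H]; exact h⟩ h81
  · obtain ⟨H, hH⟩ := CfsgLib.MinIndexOrth.exists_point_index hB hn (T := (q + 1) * (q ^ 3 + 1))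
      (by rw [hS.points, hq0])
    exact ⟨H.comap φ.symm.toMonoidHom, by rw [H.index_comap_of_surjective φ.symm.surjective, hH]⟩

end Cfsg.Agent.S2150
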