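import Cfsg.Statements.S2495
import Cfsg.Agent.Lib.Singer.Order
import Cfsg.Agent.Lib.NumberTheory.Zsigmondy

set_option autoImplicit false
open Cfsg

namespace Cfsg.Agent.S2495

theorem arith_facts (q k : ℕ) (hq : 3 ≤ q) (hodd : Odd q) (hk : 1 ≤ k) :
    (q ^ (2 * k) - 1) / (q - 1) = (q ^ k + 1) * (∑ i ∈ Finset.range k, q ^ i) ∧
    (∀ m, m ∣ q - 1 → (m ∣ ∑ i ∈ Finset.range k, q ^ i ↔ m ∣ k)) ∧
    (Nat.gcd (2 * k) (q - 1) ∣ k ↔ padicValNat 2 (q - 1) < padicValNat 2 (2 * k)) := by
  have hq1 : q - 1 ≠ 0 := by omega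
  have hgeom : (q - 1) * ∑ i ∈ Finset.range k, q ^ i = q ^ k - 1 := by
    have h := geom_sum_mul_add (q - 1) k
    rw [Nat.sub_add_cancel (by omega : 1 ≤ q)] at h
    rw [mul_comm]
    omega
  refine ⟨?_, fun m hm => ?_, ?_⟩
  · refine Nat.div_eq_of_eq_mul_left (by omega) ?_
    rw [mul_assoc, mul_comm _ (q - 1), hgeom, pow_mul', ← Nat.sq_sub_sq, one_pow]
  · have h1 : (∑ i ∈ Finset.range k, q ^ i) ≡ k [MOD m] := by
      have hmq : q ≡ 1 [MOD m] := ((Nat.modEq_iff_dvd' (by omega)).mpr hm).symm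
      rw [← ZMod.natCast_eq_natCast_iff] at hmq ⊢
      push_cast
      simp only [Nat.cast_one] at hmq
      simp [hmq]
    exact h1.dvd_iff (dvd_refl m)
  · have h2 : Fact (Nat.Prime 2) := ⟨Nat.prime_two⟩
    set v := padicValNat 2 (q - 1)
    constructor
    · intro hd
      by_contra hle
      push Not at hle
      have h3 : 2 ^ padicValNat 2 (2 * k) ∣ k :=
        (Nat.dvd_gcd pow_padicValNat_dvd ((pow_dvd_pow 2 hle).trans pow_padicValNat_dvd)).trans hd
      exact pow_succ_padicValNat_not_dvd (p := 2) (show 2 * k ≠ 0 by omega)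
        (by rw [pow_succ']; exact Nat.mul_dvd_mul_left 2 h3)
    · intro hlt
      have h1 : 2 ^ v ∣ k := by
        have : 2 ^ (v + 1) ∣ 2 * k := (pow_dvd_pow 2 hlt).trans pow_padicValNat_dvd
        rw [pow_succ'] at this
        exact Nat.dvd_of_mul_dvd_mul_left two_pos this
      obtain ⟨k', hk'⟩ := h1
      obtain ⟨w, hw⟩ : 2 ^ v ∣ q - 1 := pow_padicValNat_dvd
      have hw2 : Nat.Coprime 2 w := by
        rw [Nat.prime_two.coprime_iff_not_dvd]
        intro h
        exact pow_succ_padicValNat_not_dvd (p := 2) hq1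
          (by rw [pow_succ]; exact (Nat.mul_dvd_mul_left _ h).trans (dvd_of_eq hw.symm))
      rw [hw, hk', show 2 * (2 ^ v * k') = 2 ^ v * (2 * k') by ring, Nat.gcd_mul_left,
        Nat.Coprime.gcd_mul_left_cancel k' hw2]
      exact Nat.mul_dvd_mul_left _ (Nat.gcd_dvd_left _ _)

/-- Let q be an odd prime power, n ≥ 4 even, and L = PSL(n,q). Then L has an element of order q^(n/2) + 1 if and only if the 2-part of n exceeds the 2-part of q − 1. -/
theorem result {F : Type*} [Field F] [Fintype F] {q : ℕ} (hF : Fintype.card F = q) (hodd : Odd q)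
    {n : ℕ} (hn : 4 ≤ n) (heven : Even n) :
    (∃ g : Matrix.ProjectiveSpecialLinearGroup (Fin n) F, orderOf g = q ^ (n / 2) + 1) ↔
      padicValNat 2 (q - 1) < padicValNat 2 n := by
  classical
  obtain ⟨k, rfl⟩ : ∃ k, n = 2 * k := heven.two_dvd
  rw [Nat.mul_div_cancel_left k two_pos]
  have hq2 : 1 < q := hF ▸ Fintype.one_lt_card
  have hq3 : 3 ≤ q := by obtain ⟨j, hj⟩ := hodd; omega
  obtain ⟨hS, hSk, hd⟩ := arith_facts q k hq3 hodd (by omega)
  rw [← hd]
  set D := q ^ k + 1
  set Sk := ∑ i ∈ Finset.range k, q ^ i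
  set d := Nat.gcd (2 * k) (q - 1)
  rw [← hSk d (Nat.gcd_dvd_right _ _)]
  have hcentral : ∀ x : Matrix.SpecialLinearGroup (Fin (2 * k)) F,
      x ∈ Subgroup.center _ ↔ ∃ c : F, (x : Matrix (Fin (2 * k)) (Fin (2 * k)) F) = c • 1 := by
    intro x
    rw [Matrix.SpecialLinearGroup.mem_center_iff]
    constructor
    · rintro ⟨c, -, hc⟩
      exact ⟨c, by rw [← hc, Matrix.scalar_apply, Matrix.smul_one_eq_diagonal]⟩
    · rintro ⟨c, hc⟩
      refine ⟨c, ?_, by rw [hc, Matrix.scalar_apply, Matrix.smul_one_eq_diagonal]⟩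
      have := x.2
      rwa [hc, Matrix.det_smul, Matrix.det_one, mul_one] at this
  set π := QuotientGroup.mk' (Subgroup.center (Matrix.SpecialLinearGroup (Fin (2 * k)) F))
  constructor
  · rintro ⟨g, hg⟩
    obtain ⟨s, rfl⟩ := QuotientGroup.mk'_surjective _ g
    obtain ⟨r, hr, hrn, hprim⟩ := CfsgLib.NumberTheory.exists_primitive_prime (a := q) (n := 2 * k)
      hq2 (by omega) (by omega) (by omega)
    have hrD : r ∣ D := by
      have h : r ∣ D * (q ^ k - 1) := by
        rw [show D * (q ^ k - 1) = q ^ (2 * k) - 1 by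
          rw [pow_mul']; simpa using (Nat.sq_sub_sq (q ^ k) 1).symm]
        exact hrn
      exact (hr.dvd_mul.mp h).resolve_right (hprim k (by omega) (by omega))
    have hr0 : (r : F) ≠ 0 := by
      intro h0
      obtain ⟨p, hp⟩ := CharP.exists F
      obtain ⟨a, hpp, ha⟩ := FiniteField.card F p
      have hrp : r = p :=
        ((Nat.prime_dvd_prime_iff_eq hpp hr).mp ((CharP.cast_eq_zero_iff F p r).mp h0)).symm
      have hrq : r ∣ q ^ (2 * k) := by
        rw [← hF, ha, hrp, ← pow_mul]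
        exact dvd_pow_self p (Nat.mul_pos a.pos (by omega)).ne'
      have h1 := (Nat.dvd_sub_iff_right (Nat.one_le_pow _ _ (by omega)) hrq).mp hrn
      exact hr.one_lt.ne' (Nat.dvd_one.mp h1)
    have hrs : r ∣ orderOf s :=
      hrD.trans (hg ▸ orderOf_map_dvd (QuotientGroup.mk' _) s)
    set y := s ^ (orderOf s / r)
    have hy : orderOf y = r := orderOf_pow_orderOf_div (orderOf_pos s).ne' hrs
    let Φ : Matrix.SpecialLinearGroup (Fin (2 * k)) F →* Module.End F (Fin (2 * k) → F) :=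
      { toFun := fun x => Matrix.toLinAlgEquiv' (x : Matrix (Fin (2 * k)) (Fin (2 * k)) F)
        map_one' := map_one _
        map_mul' := fun a b => map_mul Matrix.toLinAlgEquiv' _ _ }
    have hΦ : Function.Injective Φ := fun a b h => Subtype.ext (Matrix.toLinAlgEquiv'.injective h)
    obtain ⟨c, hc⟩ := CfsgLib.Singer.Torus.pow_scalar (V := Fin (2 * k) → F) (n := 2 * k) (r := r)
      (by simp) hr hr0 (hF.symm ▸ hprim) (Φ y)
      (by rw [← map_pow, ← hy, pow_orderOf_eq_one, map_one])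
      (fun h => hr.one_lt.ne' (by rw [← hy, orderOf_eq_one_iff]; exact hΦ (h.trans (map_one Φ).symm)))
      (s := Φ s) (((Commute.refl s).pow_right _).map Φ) ((LinearMap.det_toLin' _).trans s.2)
      (i := (q ^ (2 * k) - 1) / (q - 1) / d) (by
        rw [hF]
        have hdS : d ∣ (q ^ (2 * k) - 1) / (q - 1) := by
          rw [hS]
          have h1 : D ≡ 2 [MOD d] := by
            have hmq : q ≡ 1 [MOD d] :=
              ((Nat.modEq_iff_dvd' (by omega)).mpr (Nat.gcd_dvd_right _ _)).symm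
            simpa using (hmq.pow k).add_right 1
          have h2 : Sk ≡ k [MOD d] := by
            rw [← ZMod.natCast_eq_natCast_iff]
            have hmq : ((q : ℕ) : ZMod d) = 1 := by
              rw [← Nat.cast_one, ZMod.natCast_eq_natCast_iff]
              exact ((Nat.modEq_iff_dvd' (by omega)).mpr (Nat.gcd_dvd_right _ _)).symm
            simp [Sk, hmq]
          exact ((h1.mul h2).dvd_iff (dvd_refl d)).mpr (Nat.gcd_dvd_left _ _)
        obtain ⟨t, ht⟩ := hdS
        obtain ⟨u, hu⟩ : d ∣ q - 1 := Nat.gcd_dvd_right _ _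
        rw [ht, Nat.mul_div_cancel_left t (Nat.gcd_pos_of_pos_left _ (by omega))]
        exact ⟨u, by rw [hu]; ring⟩)
    have hdiv : D ∣ (q ^ (2 * k) - 1) / (q - 1) / d := by
      rw [← hg]
      refine orderOf_dvd_of_pow_eq_one ?_
      rw [← map_pow]
      refine (QuotientGroup.eq_one_iff _).mpr ((hcentral _).mpr ⟨c, ?_⟩)
      refine Matrix.toLinAlgEquiv'.injective ?_
      rw [map_smul, map_one, ← hc, ← map_pow]
      rfl
    rw [hS] at hdiv
    have hpos : 0 < D := Nat.succ_pos _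
    by_cases hdd : d ∣ D * Sk
    · have h := Nat.mul_dvd_mul_left d hdiv
      rw [Nat.mul_div_cancel' hdd, mul_comm d] at h
      exact Nat.dvd_of_mul_dvd_mul_left hpos h
    · exfalso
      apply hdd
      have h1 : D ≡ 2 [MOD d] := by
        have hmq : q ≡ 1 [MOD d] :=
          ((Nat.modEq_iff_dvd' (by omega)).mpr (Nat.gcd_dvd_right _ _)).symm
        simpa using (hmq.pow k).add_right 1
      have h2 : Sk ≡ k [MOD d] := by
        rw [← ZMod.natCast_eq_natCast_iff]
        have hmq : ((q : ℕ) : ZMod d) = 1 := by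
          rw [← Nat.cast_one, ZMod.natCast_eq_natCast_iff]
          exact ((Nat.modEq_iff_dvd' (by omega)).mpr (Nat.gcd_dvd_right _ _)).symm
        simp [Sk, hmq]
      exact ((h1.mul h2).dvd_iff (dvd_refl d)).mpr (Nat.gcd_dvd_left _ _)
  · intro hdk
    obtain ⟨p, hp⟩ := CharP.exists F
    have := Fact.mk (CharP.char_is_prime F p)
    have : NeZero (2 * k) := ⟨by omega⟩
    let K := FiniteField.Extension F p (2 * k)
    let B := Module.finBasisOfFinrankEq F K (FiniteField.finrank_extension F p (2 * k))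
    have hK : Nat.card K = q ^ (2 * k) := by
      rw [FiniteField.natCard_extension, Nat.card_eq_fintype_card, hF]
    obtain ⟨u, hu⟩ := IsCyclic.exists_generator (α := Kˣ)
    have hDS : D * d ∣ (q ^ (2 * k) - 1) / (q - 1) := by
      rw [hS]
      exact Nat.mul_dvd_mul_left D hdk
    have hgeom : (q - 1) ∣ q ^ (2 * k) - 1 := by simpa using Nat.sub_dvd_pow_sub_pow q 1 (2 * k)
    have huord : orderOf u = q ^ (2 * k) - 1 := by
      rw [orderOf_eq_card_of_forall_mem_zpowers hu, Nat.card_units, hK]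
    obtain ⟨b, hb⟩ := CfsgLib.Singer.exists_orderOf_eq_of_dvd u (orderOf_pos u)
      (m := D * d) (huord ▸ hDS.trans (Nat.div_dvd_of_dvd hgeom))
    have hbS : ((b : K)) ^ ((q ^ (2 * k) - 1) / (q - 1)) = 1 := by
      obtain ⟨t, ht⟩ := hDS
      rw [ht, pow_mul, ← hb, ← Units.val_pow_eq_pow_val, pow_orderOf_eq_one, Units.val_one, one_pow]
    have hdet : (Algebra.leftMulMatrix B (b : K)).det = 1 := by
      rw [← Algebra.norm_eq_matrix_det]
      refine (algebraMap F K).injective ?_
      rw [map_one, FiniteField.algebraMap_norm_eq_pow, hK, Nat.card_eq_fintype_card, hF, hbS]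
    let x : Matrix.SpecialLinearGroup (Fin (2 * k)) F := ⟨Algebra.leftMulMatrix B (b : K), hdet⟩
    refine ⟨π x, ?_⟩
    have hxpow : ∀ j : ℕ, ((x ^ j : Matrix.SpecialLinearGroup (Fin (2 * k)) F) :
        Matrix (Fin (2 * k)) (Fin (2 * k)) F) = Algebra.leftMulMatrix B ((b : K) ^ j) := by
      intro j
      rw [Matrix.SpecialLinearGroup.coe_pow, map_pow]
    have hiff : ∀ j : ℕ, π x ^ j = 1 ↔ D * d ∣ j * (q - 1) := by
      intro j
      rw [← map_pow, ← hb, orderOf_dvd_iff_pow_eq_one, pow_mul]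
      refine (QuotientGroup.eq_one_iff _).trans ((hcentral _).trans ?_)
      rw [hxpow]
      constructor
      · rintro ⟨c, hc⟩
        have hbc : (b : K) ^ j = algebraMap F K c := by
          refine Algebra.leftMulMatrix_injective B ?_
          rw [hc, AlgHom.commutes, Algebra.algebraMap_eq_smul_one]
        have hc0 : c ≠ 0 := fun h => by
          rw [h, map_zero] at hbc
          exact pow_ne_zero j b.ne_zero hbc
        refine Units.ext ?_
        rw [Units.val_pow_eq_pow_val, Units.val_pow_eq_pow_val, hbc, ← map_pow, ← hF,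
          FiniteField.pow_card_sub_one_eq_one c hc0, map_one, Units.val_one]
      · intro h
        obtain ⟨c, hc⟩ := CfsgLib.Singer.Torus.exists_algebraMap (F := F) (x := (b : K) ^ j)
          (by rw [hF, ← Units.val_pow_eq_pow_val, ← Units.val_pow_eq_pow_val, h, Units.val_one])
        exact ⟨c, by rw [← hc, AlgHom.commutes, Algebra.algebraMap_eq_smul_one]⟩
    obtain ⟨w, hw⟩ : d ∣ q - 1 := Nat.gcd_dvd_right _ _
    rw [orderOf_eq_iff (Nat.succ_pos _)]
    refine ⟨(hiff D).mpr (by rw [hw]; exact ⟨w, by ring⟩), fun j hj hj0 hj1 => ?_⟩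
    have h := (hiff j).mp hj1
    have hdpos : 0 < d := Nat.gcd_pos_of_pos_left _ (by omega)
    rw [hw, show j * (d * w) = (j * w) * d by ring] at h
    have h' := Nat.dvd_of_mul_dvd_mul_right hdpos h
    have hcop : Nat.Coprime D w := by
      refine Nat.coprime_of_dvd fun t ht htD htw => ?_
      have htq : t ∣ q - 1 := hw ▸ htw.mul_left d
      have h2 : D ≡ 2 [MOD t] := by
        have hmq : q ≡ 1 [MOD t] := ((Nat.modEq_iff_dvd' (by omega)).mpr htq).symm
        simpa using (hmq.pow k).add_right 1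
      obtain rfl := (Nat.prime_dvd_prime_iff_eq ht Nat.prime_two).mp ((h2.dvd_iff (dvd_refl t)).mp htD)
      have hdk' := hd.mp ((hSk d (Nat.gcd_dvd_right _ _)).mp hdk)
      set v := padicValNat 2 (q - 1)
      have h2 : Fact (Nat.Prime 2) := ⟨Nat.prime_two⟩
      have hv : 2 ^ v ∣ d := Nat.dvd_gcd ((pow_dvd_pow 2 hdk'.le).trans pow_padicValNat_dvd)
        pow_padicValNat_dvd
      exact pow_succ_padicValNat_not_dvd (p := 2) (show q - 1 ≠ 0 by omega)
        (by rw [pow_succ]; exact (Nat.mul_dvd_mul hv htw).trans (dvd_of_eq hw.symm))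
    have := Nat.le_of_dvd hj0 (hcop.dvd_of_dvd_mul_right h')
    omega

end Cfsg.Agent.S2495
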