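import Cfsg.Statements.S4722
import Cfsg.Agent.Lib.Blocks.SectionOrth
import Cfsg.Agent.Lib.Blocks.KernelBlock

set_option autoImplicit false
open Cfsg

namespace Cfsg.Agent.S4722

open scoped CfsgLib.Char ComplexConjugate

theorem conj_generalized {H : Type*} [Group H] [Finite H] {θ : H → ℂ}
    (hθ : Cfsg.IsGeneralizedCharacter H θ) (y : H) : θ y⁻¹ = conj (θ y) := by
  obtain ⟨a, b, ⟨n, ρ, rfl⟩, ⟨m, σ, rfl⟩, rfl⟩ := hθ
  show ρ.character y⁻¹ - σ.character y⁻¹ = conj (ρ.character y - σ.character y)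
  rw [map_sub, CfsgLib.Char.char_value_inv, CfsgLib.Char.char_value_inv]

/-- Let M be a maximal ideal of the algebraic integers containing 2, P a 2-subgroup of the finite group G, U a subset of P, and t an involution of G such that no element of U is inverted by any conjugate of t. Let θ be a generalized character of P vanishing outside U, and for χ in the principal 2-block B₀ put a_χ = #P⁻¹ Σ_{y ∈ P} χ(y) θ(y⁻¹). Then Σ_{χ ∈ B₀} a_χ χ(t)^2/χ(1) = 0, Σ_{χ ∈ B₀} a_χ χ(1) = 0 and Σ_{χ ∈ B₀} a_χ χ(t) = 0. If moreover #P⁻¹ Σ_{y ∈ P} θ(y) ≠ 0, then either at least two of the a_χ have positive real part and at least two have negative real part, or G has a proper normal subgroup containing O_2'(G) and t. -/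
theorem result {G : Type*} [Group G] [Finite G] (M : Ideal Cfsg.AlgInt) (hM : Cfsg.IsPModular 2 M) (P : Subgroup G) (hP : IsPGroup 2 P) (U : Set G) (hUP : U ⊆ (P : Set G)) (t : G) (ht : orderOf t = 2) (hinv : ∀ u ∈ U, ∀ g : G, (g * t * g⁻¹) * u * (g * t * g⁻¹)⁻¹ ≠ u⁻¹) (θ : ↥P → ℂ) (hθ : Cfsg.IsGeneralizedCharacter ↥P θ) (hθU : ∀ y : ↥P, (y : G) ∉ U → θ y = 0) : (∑ᶠ χ ∈ Cfsg.principalBlock M G, ((Nat.card ↥P : ℂ)⁻¹ * ∑ᶠ y : ↥P, (χ : G → ℂ) (y : G) * θ y⁻¹) * (χ : G → ℂ) t ^ 2 / (χ : G → ℂ) 1 = 0) ∧ (∑ᶠ χ ∈ Cfsg.principalBlock M G, ((Nat.card ↥P : ℂ)⁻¹ * ∑ᶠ y : ↥P, (χ : G → ℂ) (y : G) * θ y⁻¹) * (χ : G → ℂ) 1 = 0) ∧ (∑ᶠ χ ∈ Cfsg.principalBlock M G, ((Nat.card ↥P : ℂ)⁻¹ * ∑ᶠ y : ↥P, (χ : G → ℂ) (y : G) * θ y⁻¹) * (χ : G → ℂ) t = 0) ∧ ((Nat.card ↥P : ℂ)⁻¹ * ∑ᶠ y : ↥P, θ y ≠ 0 → (2 ≤ Nat.card {χ : Cfsg.IrrCharacter G // χ ∈ Cfsg.principalBlock M G ∧ 0 < (((Nat.card ↥P : ℂ)⁻¹ * ∑ᶠ y : ↥P,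 (χ : G → ℂ) (y : G) * θ y⁻¹)).re} ∧ 2 ≤ Nat.card {χ : Cfsg.IrrCharacter G // χ ∈ Cfsg.principalBlock M G ∧ (((Nat.card ↥P : ℂ)⁻¹ * ∑ᶠ y : ↥P, (χ : G → ℂ) (y : G) * θ y⁻¹)).re < 0}) ∨ ∃ K : Subgroup G, K.Normal ∧ K ≠ ⊤ ∧ Cfsg.pPrimeCore 2 G ≤ K ∧ t ∈ K) := by
  classical
  have := Fintype.ofFinite G
  have := CfsgLib.Blocks.isPrime_of_isPModular hM
  set B := Cfsg.principalBlock M G
  have hB : Cfsg.IsPBlock M B := CfsgLib.Blocks.isPBlock_principalBlock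
  have htt : t * t = 1 := by rw [← pow_two, ← ht, pow_orderOf_eq_one]
  have hti : t⁻¹ = t := inv_eq_of_mul_eq_one_right htt
  have hord : ∀ y : P, ∃ k : ℕ, orderOf (y : G) = 2 ^ k := fun y => by
    obtain ⟨k, hk⟩ := (IsPGroup.iff_orderOf.mp hP) y
    exact ⟨k, (Subgroup.orderOf_coe y).trans hk⟩
  set a : Cfsg.IrrCharacter G → ℂ := fun χ =>
    (Nat.card P : ℂ)⁻¹ * ∑ᶠ y : P, (χ : G → ℂ) (y : G) * θ y⁻¹
  have ha : ∀ χ : Cfsg.IrrCharacter G,
      a χ = (Nat.card P : ℂ)⁻¹ * ∑ y : P, θ y * conj ((χ : G → ℂ) (y : G)) := fun χ => by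
    show _ * ∑ᶠ y : P, _ = _
    rw [finsum_eq_sum_of_fintype]
    congr 1
    refine Fintype.sum_equiv (Equiv.inv P) _ _ fun y => ?_
    rw [Equiv.inv_apply, Subgroup.coe_inv, CfsgLib.Blocks.irr_value_inv χ.2, Complex.conj_conj,
      mul_comm]
  have hmom : ∀ F : Cfsg.IrrCharacter G → ℂ,
      (∀ y : P, (y : G) ∈ U → ∑ χ : Cfsg.IrrCharacter G with χ ∈ B, conj ((χ : G → ℂ) y) * F χ = 0) →
      ∑ χ : Cfsg.IrrCharacter G with χ ∈ B, a χ * F χ = 0 := by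
    intro F hF
    simp only [ha, mul_assoc, Finset.sum_mul]
    rw [← Finset.mul_sum, Finset.sum_comm, mul_eq_zero]
    right
    refine Finset.sum_eq_zero fun y _ => ?_
    by_cases hy : (y : G) ∈ U
    · rw [← Finset.mul_sum, hF y hy, mul_zero]
    · simp [hθU y hy]
  have hcol : ∀ v : G, (∃ k : ℕ, orderOf v = 2 ^ k) → (∀ y : P, (y : G) ∈ U → ¬ IsConj (y : G) v) →
      ∑ χ : Cfsg.IrrCharacter G with χ ∈ B, a χ * (χ : G → ℂ) v = 0 := by
    intro v hv hn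
    refine hmom _ fun y hy => ?_
    have h := congrArg conj (CfsgLib.Blocks.sum_block_conj_eq_zero_of_section hM hB (g := v) (hord y)
      fun k hk hreg hc => hn y hy
        (CfsgLib.Blocks.conj_eq_of_isConj_mul Nat.prime_two (hord y) hv hk hreg hc))
    simpa [map_sum] using h
  have e2 : ∑ χ : Cfsg.IrrCharacter G with χ ∈ B, a χ * ((χ : G → ℂ) t ^ 2 / (χ : G → ℂ) 1) = 0 := by
    refine hmom _ fun y hy => ?_
    have h := CfsgLib.Blocks.sum_block_sq_conj_eq_zero hM hB (hord y) htt fun c => hinv y hy c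
    rw [← h]
    exact Finset.sum_congr rfl fun χ _ => by ring
  have e0 := hcol 1 ⟨0, by simp⟩ fun y hy hc => by
    obtain rfl : y = 1 := Subtype.ext (isConj_one_left.mp hc)
    exact hinv _ hy 1 (by simp)
  have e1 := hcol t ⟨1, by simp [ht]⟩ fun y hy hc => by
    obtain ⟨c, hc⟩ := isConj_iff.mp hc.symm
    refine hinv _ hy c ?_
    rw [← hc, show c * t * c⁻¹ * (c * t * c⁻¹) * (c * t * c⁻¹)⁻¹ = c * t * c⁻¹ by group,
      show (c * t * c⁻¹)⁻¹ = c * t⁻¹ * c⁻¹ by group, hti]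
  refine ⟨?_, ?_, ?_, ?_⟩
  · rw [CfsgLib.Blocks.sum_mem_eq_filter, ← e2]
    exact Finset.sum_congr rfl fun χ _ => (mul_div_assoc _ _ _)
  · rw [CfsgLib.Blocks.sum_mem_eq_filter]
    exact e0
  · rw [CfsgLib.Blocks.sum_mem_eq_filter]
    exact e1
  intro hne
  have hint : ∀ χ : Cfsg.IrrCharacter G, ∃ m : ℤ, a χ = m := fun χ => by
    obtain ⟨m, hm⟩ := CfsgLib.Char.exists_int_classInner hθ
      (ψ := fun y : P => (χ : G → ℂ) y)
      ⟨_, 0, CfsgLib.Char.isCharacter_restrict P (CfsgLib.Char.isCharacter_of_isIrr χ.2),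
        CfsgLib.Char.isCharacter_zero, (sub_zero _).symm⟩
    exact ⟨m, by rw [ha]; exact hm⟩
  choose m hm using hint
  have hT : CfsgLib.Blocks.trivIrr G ∈ B := by
    show _ ∈ Cfsg.principalBlock M G
    rw [CfsgLib.Blocks.principalBlock_eq]
    exact CfsgLib.Blocks.mem_blockOf_self (CfsgLib.Blocks.trivIrr G)
  have hT0 : a (CfsgLib.Blocks.trivIrr G) ≠ 0 := by
    rw [ha]
    refine fun h => hne ?_
    rw [finsum_eq_sum_of_fintype]
    simpa [CfsgLib.Blocks.trivIrr] using h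
  set s := (Finset.univ : Finset (Cfsg.IrrCharacter G)).filter (· ∈ B)
  set d : Cfsg.IrrCharacter G → ℝ := fun χ => (Cfsg.charDegree (χ : G → ℂ) : ℝ)
  have hd : ∀ χ, 0 < d χ := fun χ => Nat.cast_pos.mpr (CfsgLib.Blocks.irr_degree_eq χ).2
  have hre : ∀ χ : Cfsg.IrrCharacter G, ((((χ : G → ℂ) t).re : ℝ) : ℂ) = (χ : G → ℂ) t := fun χ =>
    Complex.conj_eq_iff_re.mp (by rw [← CfsgLib.Blocks.irr_value_inv χ.2, hti])
  set x : Cfsg.IrrCharacter G → ℝ := fun χ => ((χ : G → ℂ) t).re / d χ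
  set w : Cfsg.IrrCharacter G → ℝ := fun χ => (m χ : ℝ) * d χ
  have hdC : ∀ χ : Cfsg.IrrCharacter G, ((d χ : ℝ) : ℂ) = (χ : G → ℂ) 1 := fun χ => by
    rw [(CfsgLib.Blocks.irr_degree_eq χ).1]; simp [d]
  have hw0 : ∑ χ ∈ s, w χ = 0 := Complex.ofReal_injective (by
    rw [Complex.ofReal_sum, Complex.ofReal_zero, ← e0]
    exact Finset.sum_congr rfl fun χ _ => by simp [w, hm, hdC])
  have hw1 : ∑ χ ∈ s, w χ * x χ = 0 := Complex.ofReal_injective (by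
    rw [Complex.ofReal_sum, Complex.ofReal_zero, ← e1]
    refine Finset.sum_congr rfl fun χ _ => ?_
    have h1 := CfsgLib.Char.irr_degree_ne_zero χ.2
    simp only [w, x, Complex.ofReal_mul, Complex.ofReal_div, Complex.ofReal_intCast, hdC, hre, hm]
    field_simp)
  have hw2 : ∑ χ ∈ s, w χ * x χ ^ 2 = 0 := Complex.ofReal_injective (by
    rw [Complex.ofReal_sum, Complex.ofReal_zero, ← e2]
    refine Finset.sum_congr rfl fun χ _ => ?_
    have h1 := CfsgLib.Char.irr_degree_ne_zero χ.2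
    simp only [w, x, Complex.ofReal_mul, Complex.ofReal_div, Complex.ofReal_intCast,
      Complex.ofReal_pow, hdC, hre, hm]
    field_simp)
  have hwT : w (CfsgLib.Blocks.trivIrr G) ≠ 0 := mul_ne_zero
    (Int.cast_ne_zero.mpr fun h => hT0 (by rw [hm, h, Int.cast_zero])) (hd _).ne'
  have hTs : CfsgLib.Blocks.trivIrr G ∈ s := Finset.mem_filter.mpr ⟨Finset.mem_univ _, hT⟩
  have hK : (∃ χ ∈ s, χ ≠ CfsgLib.Blocks.trivIrr G ∧ x χ = x (CfsgLib.Blocks.trivIrr G)) →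
      ∃ K : Subgroup G, K.Normal ∧ K ≠ ⊤ ∧ Cfsg.pPrimeCore 2 G ≤ K ∧ t ∈ K := by
    rintro ⟨χ, hχs, hne', hx⟩
    obtain ⟨K, hKn, hKeq⟩ := CfsgLib.Blocks.exists_blockKer_subgroup (G := G) {χ}
    have hmemK : ∀ g : G, g ∈ K ↔ (χ : G → ℂ) g = (χ : G → ℂ) 1 := fun g => by
      rw [← SetLike.mem_coe, hKeq]
      exact ⟨fun h => h χ rfl, fun h η hη => by rw [Set.mem_singleton_iff.mp hη]; exact h⟩
    refine ⟨K, hKn, fun htop => hne' ?_, fun g hg => (hmemK g).mpr ?_, (hmemK t).mpr ?_⟩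
    · have hconst : ∀ g : G, (χ : G → ℂ) g = (χ : G → ℂ) 1 := fun g => (hmemK g).mp (htop ▸ Subgroup.mem_top g)
      by_contra hc
      have h := CfsgLib.Char.classInner_coe χ (CfsgLib.Blocks.trivIrr G)
      rw [if_neg hc] at h
      simp [Cfsg.classInner, CfsgLib.Blocks.trivIrr, hconst, Finset.card_univ, Nat.card_eq_fintype_card,
        CfsgLib.Char.irr_degree_ne_zero χ.2] at h
    · have : (Cfsg.pPrimeCore 2 G).Normal := CfsgLib.SelfCent.pPrimeCore_normal' 2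
      exact CfsgLib.Blocks.trivial_on_of_mem_principalBlock hM _
        (CfsgLib.Blocks.not_dvd_card_pPrimeCore Nat.prime_two) (Finset.mem_filter.mp hχs).2 g hg
    · have hx1 : x (CfsgLib.Blocks.trivIrr G) = 1 := by
        simp [x, d, CfsgLib.Blocks.trivIrr, Cfsg.charDegree]
      rw [hx1, div_eq_one_iff_eq (hd χ).ne'] at hx
      rw [← hre χ, hx, hdC]
  by_contra hcon
  push Not at hcon
  obtain ⟨hcard, hnoK⟩ := hcon
  have : Finite (Cfsg.IrrCharacter G) := CfsgLib.Char.finite_irrCharacter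
  have hsgn : ∀ χ, (a χ).re = (m χ : ℝ) := fun χ => by rw [hm, Complex.intCast_re]
  have pos : 2 ≤ Nat.card {χ : Cfsg.IrrCharacter G // χ ∈ B ∧ 0 < (a χ).re} := by
    by_contra hlt
    have := (Finite.card_le_one_iff_subsingleton.mp (by omega :
      Nat.card {χ : Cfsg.IrrCharacter G // χ ∈ B ∧ 0 < (a χ).re} ≤ 1))
    have h := hK (CfsgLib.Blocks.exists_kernel_of_le_one_pos s w x _ hTs hwT hw0 hw1 hw2
      fun i hi j hj hwi hwj => congrArg Subtype.val (Subsingleton.elim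
        (⟨i, (Finset.mem_filter.mp hi).2, (hsgn i).symm ▸ pos_of_mul_pos_left hwi (hd i).le⟩ :
          {χ : Cfsg.IrrCharacter G // χ ∈ B ∧ 0 < (a χ).re})
        ⟨j, (Finset.mem_filter.mp hj).2, (hsgn j).symm ▸ pos_of_mul_pos_left hwj (hd j).le⟩))
    obtain ⟨K, h1, h2, h3, h4⟩ := h
    exact hnoK K h1 h2 h3 h4
  have neg := hcard pos
  have := (Finite.card_le_one_iff_subsingleton.mp (Nat.lt_succ_iff.mp neg))
  obtain ⟨K, h1, h2, h3, h4⟩ := hK (CfsgLib.Blocks.exists_kernel_of_le_one_pos s (fun i => -w i) x _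
    hTs (neg_ne_zero.mpr hwT) (by rw [Finset.sum_neg_distrib, hw0, neg_zero])
    (by simp only [neg_mul, Finset.sum_neg_distrib, hw1, neg_zero])
    (by simp only [neg_mul, Finset.sum_neg_distrib, hw2, neg_zero])
    fun i hi j hj hwi hwj => congrArg Subtype.val (Subsingleton.elim
      (⟨i, (Finset.mem_filter.mp hi).2, (hsgn i).symm ▸ neg_of_mul_neg_left (neg_pos.mp hwi) (hd i).le⟩ :
        {χ : Cfsg.IrrCharacter G // χ ∈ B ∧ (a χ).re < 0})
      ⟨j, (Finset.mem_filter.mp hj).2, (hsgn j).symm ▸ neg_of_mul_neg_left (neg_pos.mp hwj) (hd j).le⟩))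
  exact hnoK K h1 h2 h3 h4
end Cfsg.Agent.S4722
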