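import Cfsg.Statements.S0006
import Mathlib
import Cfsg.Agent.Lib.Hall.Wielandt
import Cfsg.Agent.S0144

set_option autoImplicit false
set_option linter.style.haveILetI false
open Cfsg

namespace Cfsg.Agent.S0006

universe u

theorem main (n : ℕ) : ∀ (G : Type u) [Group G] [Finite G], Nat.card G = n →
    (∀ p ∈ (Nat.card G).primeFactors, ∃ H : Subgroup G, H.index = p ^ (Nat.card G).factorization p) →
    Group.IsSolvable G := by
  induction n using Nat.strong_induction_on with
  | _ n IH =>
  intro G _ _ hn h
  subst hn
  have hG0 : Nat.card G ≠ 0 := Nat.card_pos.ne'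
  by_cases hc : 2 < (Nat.card G).primeFactors.card
  · have hsolv : ∀ p ∈ (Nat.card G).primeFactors, ∃ H : Subgroup G,
        H.index = p ^ (Nat.card G).factorization p ∧ Group.IsSolvable H := by
      intro p hp
      obtain ⟨hpp, hpd, -⟩ := Nat.mem_primeFactors.mp hp
      obtain ⟨H, hH⟩ := h p hp
      have he : (Nat.card G).factorization p ≠ 0 := (hpp.factorization_pos_of_dvd hG0 hpd).ne'
      have hcardH := H.card_mul_index
      rw [hH] at hcardH
      have hlt : Nat.card H < Nat.card G := by
        have : 1 < p ^ (Nat.card G).factorization p := Nat.one_lt_pow he hpp.one_lt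
        rw [← hcardH]
        exact lt_mul_of_one_lt_right Nat.card_pos this
      refine ⟨H, hH, IH _ hlt H rfl fun q hq => ?_⟩
      obtain ⟨hqp, hqd, -⟩ := Nat.mem_primeFactors.mp hq
      have hfac : ∀ r : ℕ, (Nat.card G).factorization r =
          (Nat.card H).factorization r + (p ^ (Nat.card G).factorization p).factorization r := by
        intro r
        conv_lhs => rw [← hcardH, Nat.factorization_mul Nat.card_pos.ne' (pow_pos hpp.pos _).ne',
          Finsupp.add_apply]
      have hne : q ≠ p := by
        rintro rfl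
        have := hfac q
        rw [Nat.factorization_pow_self hqp] at this
        have := hqp.factorization_pos_of_dvd Nat.card_pos.ne' hqd
        omega
      have hqG : q ∈ (Nat.card G).primeFactors :=
        Nat.mem_primeFactors.mpr ⟨hqp, hqd.trans (Subgroup.card_subgroup_dvd_card H), hG0⟩
      obtain ⟨K, hK⟩ := h q hqG
      refine ⟨K.subgroupOf H, ?_⟩
      have hcop : H.index.Coprime K.index := by
        rw [hH, hK]; exact Nat.Coprime.pow _ _ ((Nat.coprime_primes hpp hqp).mpr (Ne.symm hne))
      have h1 := Subgroup.relIndex_mul_index (inf_le_left : H ⊓ K ≤ H)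
      rw [CfsgLib.Hall.index_inf_of_coprime hcop, Subgroup.inf_relIndex_left, mul_comm H.index] at h1
      show K.relIndex H = _
      rw [Nat.eq_of_mul_eq_mul_right (Nat.pos_of_ne_zero Subgroup.index_ne_zero_of_finite) h1, hK,
        hfac q, Nat.Prime.factorization_pow hpp, Finsupp.single_eq_of_ne hne, add_zero]
    obtain ⟨p, q, r, hp, hq, hr, hpq, hpr, hqr⟩ := Finset.two_lt_card_iff.mp hc
    obtain ⟨A, hA, hAs⟩ := hsolv p hp
    obtain ⟨B, hB, hBs⟩ := hsolv q hq
    obtain ⟨C, hC, hCs⟩ := hsolv r hr
    have hcp : ∀ {x y i j : ℕ}, x ∈ (Nat.card G).primeFactors → y ∈ (Nat.card G).primeFactors → x ≠ y →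
        (x ^ i).Coprime (y ^ j) := fun hx hy hne =>
      Nat.Coprime.pow _ _ ((Nat.coprime_primes (Nat.mem_primeFactors.mp hx).1 (Nat.mem_primeFactors.mp hy).1).mpr hne)
    exact CfsgLib.Hall.isSolvable_of_three A B C hAs hBs hCs
      (CfsgLib.Hall.exists_eq_mul_of_coprime_index (hA ▸ hB ▸ hcp hp hq hpq))
      (CfsgLib.Hall.exists_eq_mul_of_coprime_index (hA ▸ hC ▸ hcp hp hr hpr))
      (hB ▸ hC ▸ hcp hq hr hqr)
  · have hprod := (Nat.factorization_prod_pow_eq_self hG0).symm
    rw [Finsupp.prod, Nat.support_factorization] at hprod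
    obtain ⟨p, q, a, b, hp, hq, e⟩ : ∃ p q a b : ℕ, p.Prime ∧ q.Prime ∧ Nat.card G = p ^ a * q ^ b := by
      rcases (show (Nat.card G).primeFactors.card = 0 ∨ (Nat.card G).primeFactors.card = 1 ∨
          (Nat.card G).primeFactors.card = 2 by omega) with e | e | e
      · rw [Finset.card_eq_zero] at e
        exact ⟨2, 3, 0, 0, Nat.prime_two, Nat.prime_three, by rw [hprod, e]; simp⟩
      · obtain ⟨p, hp⟩ := Finset.card_eq_one.mp e
        have hpp := Nat.prime_of_mem_primeFactors (hp.symm ▸ Finset.mem_singleton_self p : p ∈ (Nat.card G).primeFactors)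
        refine ⟨p, p, (Nat.card G).factorization p, 0, hpp, hpp, ?_⟩
        conv_lhs => rw [hprod, hp, Finset.prod_singleton]
        simp
      · obtain ⟨p, q, hne, hpq⟩ := Finset.card_eq_two.mp e
        refine ⟨p, q, (Nat.card G).factorization p, (Nat.card G).factorization q,
          Nat.prime_of_mem_primeFactors (hpq.symm ▸ by simp : p ∈ (Nat.card G).primeFactors),
          Nat.prime_of_mem_primeFactors (hpq.symm ▸ by simp : q ∈ (Nat.card G).primeFactors), ?_⟩
        conv_lhs => rw [hprod, hpq, Finset.prod_pair hne]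
    exact Cfsg.Agent.S0144.result p q a b hp hq e

/-- Converse of Hall's Theorem: if for every prime p a finite group has a subgroup of index equal to the p-part of the group order (a Hall p-complement), then the group is solvable. -/
theorem result {G : Type*} [Group G] [Finite G]
    (h : ∀ p : ℕ, p.Prime → ∃ H : Subgroup G, H.index = p ^ (Nat.card G).factorization p) :
    Group.IsSolvable G := by
  exact main _ G rfl fun p hp => h p (Nat.prime_of_mem_primeFactors hp)

end Cfsg.Agent.S0006
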