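import Cfsg.Statements.S0007
import Mathlib

set_option autoImplicit false
set_option linter.style.haveILetI false
open Cfsg

namespace Cfsg.Agent.S0007

/-- Subgroups of coprime index: the intersection has index equal to the product of the indices, and every element is a product of an element of the first subgroup and an element of the second. -/
theorem result {G : Type*} [Group G] [Finite G] (H K : Subgroup G)
    (h : H.index.Coprime K.index) :
    (H ⊓ K).index = H.index * K.index ∧ ∀ g : G, ∃ x ∈ H, ∃ y ∈ K, g = x * y := by
  classical
  have hH : H.index ≠ 0 := Subgroup.index_ne_zero_of_finite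
  have hK : K.index ≠ 0 := Subgroup.index_ne_zero_of_finite
  have hle : (H ⊓ K).index ≤ H.index * K.index := Subgroup.index_inf_le
  have hdvd : H.index * K.index ∣ (H ⊓ K).index :=
    h.mul_dvd_of_dvd_of_dvd (Subgroup.index_dvd_of_le inf_le_left)
      (Subgroup.index_dvd_of_le inf_le_right)
  have heq : (H ⊓ K).index = H.index * K.index :=
    le_antisymm hle (Nat.le_of_dvd (Nat.pos_of_ne_zero Subgroup.index_ne_zero_of_finite) hdvd)
  refine ⟨heq, fun g => ?_⟩
  have hrel : K.relIndex H = K.index := by
    have h1 := Subgroup.relIndex_mul_index (inf_le_left : H ⊓ K ≤ H)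
    rw [Subgroup.inf_relIndex_left, heq, mul_comm] at h1
    exact Nat.eq_of_mul_eq_mul_left (Nat.pos_of_ne_zero hH) h1
  have hbij : Function.Bijective (Quotient.map' (fun x : H => (x : G)) (fun a b hab => by
      rw [QuotientGroup.leftRel_apply] at hab ⊢
      exact hab) : H ⧸ K.subgroupOf H → G ⧸ K) := by
    refine (Nat.bijective_iff_injective_and_card _).mpr ⟨?_, hrel⟩
    intro a b
    induction a using QuotientGroup.induction_on
    induction b using QuotientGroup.induction_on
    intro hab
    exact QuotientGroup.eq.mpr (QuotientGroup.eq.mp (show ((_ : G) : G ⧸ K) = (_ : G) from hab) :)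
  obtain ⟨q, hq⟩ := hbij.2 (g : G ⧸ K)
  induction q using QuotientGroup.induction_on with
  | _ x =>
    exact ⟨x, x.2, (x : G)⁻¹ * g, QuotientGroup.eq.mp hq, by group⟩

end Cfsg.Agent.S0007
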