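import Cfsg.Statements.S0011
import Mathlib

set_option autoImplicit false
set_option linter.style.haveILetI false
open Cfsg

namespace Cfsg.Agent.S0011

/-- If the Frattini quotient of a finite group is nilpotent then the group is nilpotent. -/
theorem result {G : Type*} [Group G] [Finite G]
    (h : Group.IsNilpotent (G ⧸ frattini G)) : Group.IsNilpotent G := by
  refine ((Group.isNilpotent_of_finite_tfae (G := G)).out 0 2).mpr fun M hM => ?_
  set f := QuotientGroup.mk' (frattini G)
  have hf : Function.Surjective f := QuotientGroup.mk'_surjective _
  have hker : f.ker ≤ M := by rw [QuotientGroup.ker_mk']; exact frattini_le_coatom hM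
  have hco : IsCoatom (M.map f) := by
    constructor
    · intro h'
      exact hM.1 (by rw [← Subgroup.comap_map_eq_self hker, h', Subgroup.comap_top])
    · intro K hK
      have h2 : M < K.comap f := by
        rw [← Subgroup.comap_map_eq_self hker]
        exact (Subgroup.comap_lt_comap_of_surjective hf).mpr hK
      rw [← Subgroup.map_comap_eq_self_of_surjective hf K, hM.2 _ h2,
        Subgroup.map_top_of_surjective _ hf]
  have h2 : Group.IsNilpotent (G ⧸ frattini G) ↔
      ∀ H : Subgroup (G ⧸ frattini G), IsCoatom H → H.Normal :=
    (Group.isNilpotent_of_finite_tfae (G := G ⧸ frattini G)).out 0 2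
  haveI := h2.mp h _ hco
  rw [← Subgroup.comap_map_eq_self hker]
  infer_instance

end Cfsg.Agent.S0011
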