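import Cfsg.Statements.S0014
import Mathlib
import Cfsg.Agent.Lib.PSolvable.Omega
import Cfsg.Agent.Lib.Coprime.Action

set_option autoImplicit false
set_option linter.style.haveILetI false
open Cfsg

namespace Cfsg.Agent.S0014

theorem greedy {Q : Type*} [Group Q] [Finite Q] {p : ℕ} [Fact p.Prime]
    (hc : ∀ a b : Q, Commute a b) (he : ∀ a : Q, a ^ p = 1) (K : Subgroup Q) (s : Q) :
    Nat.card ↥(K ⊔ Subgroup.zpowers s) ≤ p * Nat.card K ∧
      (s ∉ K → Nat.card ↥(K ⊔ Subgroup.zpowers s) = p * Nat.card K) := by
  by_cases hs : s ∈ K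
  · rw [sup_eq_left.mpr (Subgroup.zpowers_le.mpr hs)]
    exact ⟨Nat.le_mul_of_pos_left _ (Fact.out : p.Prime).pos, fun h => absurd hs h⟩
  · have hs1 : s ≠ 1 := fun h => hs (h ▸ K.one_mem)
    have ho : orderOf s = p := orderOf_eq_prime (he s) hs1
    haveI : Fact (Nat.card (Subgroup.zpowers s)).Prime := by
      rw [Nat.card_zpowers, ho]; infer_instance
    have hbot : K ⊓ Subgroup.zpowers s = ⊥ := by
      rcases (K.subgroupOf (Subgroup.zpowers s)).eq_bot_or_eq_top_of_prime_card with h | h
      · exact disjoint_iff.mp (Subgroup.subgroupOf_eq_bot.mp h)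
      · exact absurd (Subgroup.subgroupOf_eq_top.mp h (Subgroup.mem_zpowers s)) hs
    have h := CfsgLib.Coprime.card_sup_mul_card_inf (K := K) (S := Subgroup.zpowers s)
      (fun x _ => Subgroup.mem_normalizer_iff.mpr fun y => by rw [(hc x y).eq, mul_inv_cancel_right])
    rw [hbot, Subgroup.card_bot, mul_one, Nat.card_zpowers, ho, mul_comm] at h
    exact ⟨h.le, fun _ => h⟩

/-- Burnside's basis Theorem: in a finite p-group whose Frattini quotient has order p ^ n, every generating set contains n elements that already generate, and no set with fewer than n elements generates. -/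
theorem result {G : Type*} [Group G] [Finite G] (p n : ℕ) [Fact p.Prime]
    (hG : IsPGroup p G) (hn : (frattini G).index = p ^ n) :
    (∀ S : Finset G, Subgroup.closure (S : Set G) = ⊤ → ∃ T : Finset G, T ⊆ S ∧ T.card = n ∧ Subgroup.closure (T : Set G) = ⊤) ∧
    (∀ T : Finset G, Subgroup.closure (T : Set G) = ⊤ → n ≤ T.card) := by
  classical
  have hel := CfsgLib.PSolvable.commutator_le_frattini hG
  set f := QuotientGroup.mk' (frattini G)
  have hf : Function.Surjective f := QuotientGroup.mk'_surjective _
  have hc : ∀ a b : G ⧸ frattini G, Commute a b := fun a b => by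
    obtain ⟨a, rfl⟩ := hf a
    obtain ⟨b, rfl⟩ := hf b
    rw [← commutatorElement_eq_one_iff_commute, ← map_commutatorElement]
    exact (QuotientGroup.eq_one_iff _).mpr (hel.1 (Subgroup.commutator_mem_commutator
      (Subgroup.mem_top a) (Subgroup.mem_top b)))
  have he : ∀ a : G ⧸ frattini G, a ^ p = 1 := fun a => by
    obtain ⟨a, rfl⟩ := hf a
    rw [← map_pow]
    exact (QuotientGroup.eq_one_iff _).mpr (hel.2 a)
  have hcard : Nat.card (G ⧸ frattini G) = p ^ n := hn
  have hins : ∀ (s : G) (T : Finset G), (Subgroup.closure (↑(insert s T) : Set G)).map f =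
      (Subgroup.closure (T : Set G)).map f ⊔ Subgroup.zpowers (f s) := by
    intro s T
    rw [Finset.coe_insert, Set.insert_eq, Subgroup.closure_union, Subgroup.map_sup,
      ← Subgroup.zpowers_eq_closure, MonoidHom.map_zpowers, sup_comm]
  have hgen : ∀ T : Finset G, (Subgroup.closure (T : Set G)).map f = ⊤ →
      Subgroup.closure (T : Set G) = ⊤ := by
    intro T hT
    refine frattini_nongenerating ?_
    rw [← QuotientGroup.ker_mk' (frattini G), ← Subgroup.comap_map_eq, hT, Subgroup.comap_top]
  have hbound : ∀ T : Finset G, Nat.card ↥((Subgroup.closure (T : Set G)).map f) ≤ p ^ T.card := by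
    intro T
    induction T using Finset.induction_on with
    | empty => simp
    | insert s T hs ih =>
      rw [hins, Finset.card_insert_of_notMem hs, pow_succ']
      exact (greedy hc he _ _).1.trans (Nat.mul_le_mul le_rfl ih)
  refine ⟨fun S hS => ?_, fun T hT => ?_⟩
  · obtain ⟨T, hT, hmax⟩ := (S.powerset.filter fun T : Finset G =>
      Nat.card ↥((Subgroup.closure (T : Set G)).map f) = p ^ T.card).exists_max_image Finset.card
        ⟨∅, by simp⟩
    rw [Finset.mem_filter, Finset.mem_powerset] at hT
    have hsub : ∀ s ∈ S, f s ∈ (Subgroup.closure (T : Set G)).map f := by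
      intro s hs
      by_contra hns
      have hsT : s ∉ T := fun h => hns (Subgroup.mem_map_of_mem f (Subgroup.subset_closure h))
      have := hmax (insert s T) (by
        rw [Finset.mem_filter, Finset.mem_powerset]
        refine ⟨Finset.insert_subset hs hT.1, ?_⟩
        rw [hins, (greedy hc he _ _).2 hns, Finset.card_insert_of_notMem hsT, hT.2, pow_succ'])
      rw [Finset.card_insert_of_notMem hsT] at this
      omega
    have htop : (Subgroup.closure (T : Set G)).map f = ⊤ := by
      rw [eq_top_iff, ← Subgroup.map_top_of_surjective f hf, ← hS, Subgroup.map_le_iff_le_comap,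
        Subgroup.closure_le]
      exact hsub
    refine ⟨T, hT.1, ?_, hgen T htop⟩
    have h := hT.2
    rw [htop, Subgroup.card_top, hcard] at h
    exact (Nat.pow_right_injective (Fact.out : p.Prime).two_le h).symm
  · have h := hbound T
    rw [hT, Subgroup.map_top_of_surjective f hf, Subgroup.card_top, hcard] at h
    exact (Nat.pow_le_pow_iff_right (Fact.out : p.Prime).one_lt).mp h

end Cfsg.Agent.S0014
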