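import Cfsg.Statements.S0015
import Mathlib
import Cfsg.Agent.Lib.Critical.Basic

set_option autoImplicit false
set_option linter.style.haveILetI false
open Cfsg

namespace Cfsg.Agent.S0015

/-- In a finite nilpotent group, an abelian normal subgroup that is maximal among abelian normal subgroups equals its own centralizer. -/
theorem result {G : Type*} [Group G] [Finite G] [Group.IsNilpotent G]
    (N : Subgroup G) [N.Normal] [IsMulCommutative N]
    (hmax : ∀ M : Subgroup G, M.Normal → IsMulCommutative M → N ≤ M → M = N) :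
    Subgroup.centralizer (N : Set G) = N := by
  set C := Subgroup.centralizer (N : Set G) with hC
  have hNC : N ≤ C := fun x hx => Subgroup.mem_centralizer_iff.mpr fun y hy =>
    congrArg Subtype.val (mul_comm' (⟨y, hy⟩ : N) ⟨x, hx⟩)
  by_contra hne
  haveI : C.Normal := by rw [hC]; infer_instance
  set f := QuotientGroup.mk' N
  have hf : Function.Surjective f := QuotientGroup.mk'_surjective N
  haveI : (C.map f).Normal := Subgroup.Normal.map inferInstance f hf
  have hCne : C.map f ≠ ⊥ := by
    intro h
    rw [Subgroup.map_eq_bot_iff, QuotientGroup.ker_mk'] at h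
    exact hne (le_antisymm h hNC)
  obtain ⟨⟨z, hz⟩, hz1⟩ :=
    Subgroup.ne_bot_iff_exists_ne_one.mp (CfsgLib.Critical.inf_center_ne_bot (C.map f) hCne)
  obtain ⟨⟨c, hcC, rfl⟩, hzc⟩ := Subgroup.mem_inf.mp hz
  have hcN : c ∉ N := fun h => hz1 (Subtype.ext ((QuotientGroup.eq_one_iff c).mpr h))
  set M := N ⊔ Subgroup.zpowers c with hM
  have hMab : IsMulCommutative M := by
    rw [← Subgroup.le_centralizer_iff_isMulCommutative]
    refine sup_le ?_ ?_
    · rw [Subgroup.le_centralizer_iff]
      exact sup_le hNC (Subgroup.zpowers_le.mpr hcC)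
    · rw [Subgroup.le_centralizer_iff]
      refine sup_le ?_ ?_
      · rw [Subgroup.le_centralizer_iff, Subgroup.zpowers_le]
        exact hcC
      · exact Subgroup.le_centralizer_iff_isMulCommutative.mpr inferInstance
  have hMn : M.Normal := by
    have h1 : M = ((Subgroup.zpowers (f c))).comap f := by
      rw [hM, sup_comm, ← MonoidHom.map_zpowers, Subgroup.comap_map_eq, QuotientGroup.ker_mk']
    have h2 : (Subgroup.zpowers (f c)).Normal := by
      refine ⟨fun y hy g => ?_⟩
      obtain ⟨k, rfl⟩ := Subgroup.mem_zpowers_iff.mp hy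
      have hcg : Commute g (f c) := Subgroup.mem_center_iff.mp hzc g
      rw [(hcg.zpow_right k).eq, mul_inv_cancel_right]
      exact Subgroup.zpow_mem_zpowers _ _
    rw [h1]
    exact h2.comap f
  exact hcN (hmax M hMn hMab le_sup_left ▸ Subgroup.mem_sup_right (Subgroup.mem_zpowers c))

end Cfsg.Agent.S0015
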