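import Cfsg.Statements.S0021
import Mathlib
import Cfsg.Agent.S0006

set_option autoImplicit false
set_option linter.style.haveILetI false
open Pointwise
open Cfsg
open scoped commutatorElement Pointwise

namespace Cfsg.Agent.S0021

/-- A finite group with a family of pairwise permuting Sylow subgroups, one for each prime, is solvable (this direction rests on Burnside's two-prime Theorem). -/
theorem result {G : Type*} [Group G] [Finite G]
    (S : (p : Nat.Primes) → Sylow (p : ℕ) G)
    (hS : ∀ p q : Nat.Primes, (S p : Set G) * (S q : Set G) = (S q : Set G) * (S p : Set G)) :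
    Group.IsSolvable G := by
  classical
  refine Cfsg.Agent.S0006.result fun p hp => ?_
  set e : ℕ → ℕ := fun r => (Nat.card G).factorization r
  have key : ∀ s : Finset Nat.Primes, ∃ X : Subgroup G, Nat.card X = ∏ q ∈ s, (q : ℕ) ^ e q ∧
      ∀ q : Nat.Primes, (X : Set G) * (S q : Set G) = (S q : Set G) * (X : Set G) := by
    intro s
    induction s using Finset.induction_on with
    | empty =>
      refine ⟨⊥, by simp, fun q => ?_⟩
      rw [Subgroup.coe_bot, Set.singleton_mul, Set.mul_singleton]
      simp
    | insert a s ha ih =>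
      obtain ⟨X, hXc, hXp⟩ := ih
      let Y : Subgroup G :=
        { carrier := (X : Set G) * (S a : Set G)
          one_mem' := ⟨1, X.one_mem, 1, (S a).one_mem, mul_one 1⟩
          mul_mem' := by
            rintro _ _ ⟨x, hx, y, hy, rfl⟩ ⟨x', hx', y', hy', rfl⟩
            have hm : y * x' ∈ (X : Set G) * (S a : Set G) := by rw [hXp]; exact ⟨y, hy, x', hx', rfl⟩
            obtain ⟨x₂, hx₂, y₂, hy₂, e2⟩ := hm
            refine ⟨x * x₂, X.mul_mem hx hx₂, y₂ * y', (S a).mul_mem hy₂ hy', ?_⟩
            show x * x₂ * (y₂ * y') = x * y * (x' * y')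
            calc x * x₂ * (y₂ * y') = x * (x₂ * y₂) * y' := by group
              _ = _ := by rw [show x₂ * y₂ = y * x' from e2]; group
          inv_mem' := by
            rintro _ ⟨x, hx, y, hy, rfl⟩
            show (x * y)⁻¹ ∈ (X : Set G) * (S a : Set G)
            rw [hXp, mul_inv_rev]
            exact ⟨y⁻¹, (S a).inv_mem hy, x⁻¹, X.inv_mem hx, rfl⟩ }
      refine ⟨Y, ?_, fun q => ?_⟩
      · have hcop : (Nat.card X).Coprime (Nat.card (S a : Subgroup G)) := by
          rw [hXc]
          haveI : Fact ((a : ℕ)).Prime := ⟨a.2⟩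
          rw [(S a).card_eq_multiplicity]
          refine Nat.Coprime.prod_left fun q hq => Nat.Coprime.pow _ _ ((Nat.coprime_primes q.2 a.2).mpr ?_)
          intro h
          exact ha (Subtype.ext h ▸ hq)
        have hbij : Function.Bijective (fun z : X × (S a : Subgroup G) =>
            (⟨(z.1 : G) * z.2, ⟨z.1, z.1.2, z.2, z.2.2, rfl⟩⟩ : Y)) := by
          constructor
          · rintro ⟨x, y⟩ ⟨x', y'⟩ h
            have h' : (x : G) * y = (x' : G) * y' := congrArg Subtype.val h
            have hm : (x' : G)⁻¹ * x = (y' : G) * (y : G)⁻¹ := by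
              rw [inv_mul_eq_iff_eq_mul, ← mul_assoc, ← h', mul_inv_cancel_right]
            have hmem : (x' : G)⁻¹ * x ∈ X ⊓ (S a : Subgroup G) :=
              ⟨X.mul_mem (X.inv_mem x'.2) x.2, hm ▸ (S a).mul_mem y'.2 ((S a).inv_mem y.2)⟩
            rw [Subgroup.inf_eq_bot_of_coprime hcop, Subgroup.mem_bot] at hmem
            have hx : (x' : G) = x := inv_mul_eq_one.mp hmem
            exact Prod.ext (Subtype.ext hx.symm) (Subtype.ext (mul_left_cancel (hx ▸ h')))
          · rintro ⟨_, x, hx, y, hy, rfl⟩
            exact ⟨(⟨x, hx⟩, ⟨y, hy⟩), rfl⟩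
        haveI : Fact ((a : ℕ)).Prime := ⟨a.2⟩
        rw [← Nat.card_congr (Equiv.ofBijective _ hbij), Nat.card_prod, Finset.prod_insert ha, hXc,
          (S a).card_eq_multiplicity, mul_comm]
      · show (X : Set G) * (S a : Set G) * (S q : Set G) = (S q : Set G) * ((X : Set G) * (S a : Set G))
        rw [mul_assoc, hS a q, ← mul_assoc, hXp q, mul_assoc]
  by_cases hpd : p ∣ Nat.card G
  · obtain ⟨X, hX, -⟩ := key (((Nat.card G).primeFactors.erase p).subtype Nat.Prime)
    refine ⟨X, ?_⟩
    have hfilter : ((Nat.card G).primeFactors.erase p).filter Nat.Prime = (Nat.card G).primeFactors.erase p :=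
      Finset.filter_true_of_mem fun x hx => Nat.prime_of_mem_primeFactors (Finset.mem_of_mem_erase hx)
    have hprod : Nat.card X = ∏ r ∈ (Nat.card G).primeFactors.erase p, r ^ e r := by
      rw [hX]
      exact (Finset.prod_subtype_eq_prod_filter (p := Nat.Prime) (fun r => r ^ e r)).trans (by rw [hfilter])
    have hG := (Nat.prod_factorization_pow_eq_self (Nat.card_pos (α := G)).ne').symm
    rw [Finsupp.prod, Nat.support_factorization,
      ← Finset.mul_prod_erase _ _ (Nat.mem_primeFactors.mpr ⟨hp, hpd, Nat.card_pos.ne'⟩)] at hG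
    have h1 := X.card_mul_index
    rw [hprod] at h1
    conv_rhs at h1 => rw [hG, mul_comm]
    exact Nat.eq_of_mul_eq_mul_left (Finset.prod_pos fun r hr =>
      pow_pos (Nat.prime_of_mem_primeFactors (Finset.mem_of_mem_erase hr)).pos _) h1
  · exact ⟨⊤, by rw [Nat.factorization_eq_zero_of_not_dvd hpd, pow_zero, Subgroup.index_top]⟩

end Cfsg.Agent.S0021
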