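import Cfsg.Statements.S0030
import Mathlib
import Cfsg.Agent.Lib.Coprime.Action

set_option autoImplicit false
open Cfsg

namespace Cfsg.Agent.S0030

/-- Under coprime action fixed points of a product of two invariant subgroups factor: if K = X Y with X and Y normalised by A then every A-fixed element of K is a product of an A-fixed element of X and an A-fixed element of Y. -/
theorem result {G : Type*} [Group G] [Finite G] (A K : Subgroup G) (hAK : A ≤ Subgroup.normalizer (K : Set G))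
    (hcop : (Nat.card A).Coprime (Nat.card K)) (hsolv : Group.IsSolvable A ∨ Group.IsSolvable K)
    (X Y : Subgroup G) (hX : X ≤ K) (hY : Y ≤ K) (hXA : A ≤ Subgroup.normalizer (X : Set G)) (hYA : A ≤ Subgroup.normalizer (Y : Set G))
    (hXY : ∀ k ∈ K, ∃ x ∈ X, ∃ y ∈ Y, k = x * y) (k : G) (hk : k ∈ K ⊓ Subgroup.centralizer (A : Set G)) :
    ∃ x ∈ X ⊓ Subgroup.centralizer (A : Set G), ∃ y ∈ Y ⊓ Subgroup.centralizer (A : Set G), k = x * y := by
  obtain ⟨hkK, hkC⟩ := Subgroup.mem_inf.mp hk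
  obtain ⟨x, hx, y, hy, rfl⟩ := hXY k hkK
  obtain ⟨c, hc, hcN⟩ := CfsgLib.Coprime.exists_centralizer_mem_coset (K := X) (N := X ⊓ Y) hXA
    (hcop.coprime_dvd_right (Subgroup.card_dvd_of_le hX))
    (hsolv.imp_right (CfsgLib.Coprime.isSolvable_of_le hX)) inf_le_left
    (CfsgLib.Coprime.le_normalizer_inf_of_le hXA hYA) hx (fun a ha => by
      have h1 := mul_mem (inv_mem hx) ((Subgroup.mem_normalizer_iff.mp (hXA ha) x).mp hx)
      refine Subgroup.mem_inf.mpr ⟨h1, ?_⟩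
      have h2 : x⁻¹ * (a * x * a⁻¹) = y * (a * y⁻¹ * a⁻¹) := by
        calc x⁻¹ * (a * x * a⁻¹) = x⁻¹ * (a * (x * y)) * y⁻¹ * a⁻¹ := by group
          _ = x⁻¹ * ((x * y) * a) * y⁻¹ * a⁻¹ := by rw [hkC a ha]
          _ = y * (a * y⁻¹ * a⁻¹) := by group
      rw [h2]
      exact mul_mem hy ((Subgroup.mem_normalizer_iff.mp (hYA ha) _).mp (inv_mem hy)))
  obtain ⟨hcX, hcC⟩ := Subgroup.mem_inf.mp hc
  have h3 : c⁻¹ * (x * y) ∈ Y := by
    have h4 := mul_mem (inv_mem (Subgroup.mem_inf.mp hcN).2) hy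
    simpa [mul_assoc] using h4
  exact ⟨c, hc, c⁻¹ * (x * y), Subgroup.mem_inf.mpr ⟨h3, mul_mem (inv_mem hcC) hkC⟩,
    (mul_inv_cancel_left _ _).symm⟩

end Cfsg.Agent.S0030
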