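import Cfsg.Statements.S0031
import Mathlib

set_option autoImplicit false
set_option linter.style.haveILetI false
open Cfsg

namespace Cfsg.Agent.S0031

/-- A fixed-point-free automorphism of a finite group maps some Sylow p-subgroup to itself. -/
theorem result {G : Type*} [Group G] [Finite G] (φ : G ≃* G)
    (hφ : MonoidHom.FixedPointFree (φ : G →* G)) (p : ℕ) [Fact p.Prime] :
    ∃ P : Sylow p G, (P : Subgroup G).map (φ : G →* G) = P := by
  classical
  obtain ⟨P⟩ := (inferInstance : Nonempty (Sylow p G))
  let Q : Sylow p G := P.mapSurjective (f := (φ : G →* G)) φ.surjective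
  obtain ⟨g, hg⟩ := MulAction.exists_smul_eq G P Q
  have hinj : Function.Injective fun a : G => (φ a)⁻¹ * a := by
    intro a b h
    refine (div_eq_one.mp (hφ (a / b) ?_))
    have h' : (φ a)⁻¹ * a = (φ b)⁻¹ * b := h
    show φ (a / b) = a / b
    rw [map_div, div_eq_mul_inv, div_eq_mul_inv, eq_comm, mul_inv_eq_iff_eq_mul, mul_assoc,
      ← h', mul_inv_cancel_left]
  obtain ⟨a, ha⟩ := Finite.surjective_of_injective hinj g
  have ha' : φ a * g = a := by rw [← ha]; exact mul_inv_cancel_left _ _
  refine ⟨a • P, ?_⟩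
  have hmap : ∀ x : G, (x • P : Sylow p G).toSubgroup = (P : Subgroup G).map (MulAut.conj x).toMonoidHom := by
    intro x; rw [Sylow.coe_subgroup_smul]; rfl
  have hQ : (Q : Subgroup G) = (P : Subgroup G).map (φ : G →* G) := rfl
  rw [hmap]
  have h2 : (P : Subgroup G).map (φ : G →* G) = (P : Subgroup G).map (MulAut.conj g).toMonoidHom := by
    rw [← hQ, ← hg, hmap]
  rw [Subgroup.map_map,
    show (φ : G →* G).comp (MulAut.conj a).toMonoidHom = (MulAut.conj (φ a)).toMonoidHom.comp (φ : G →* G) from
      MonoidHom.ext fun x => by simp,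
    ← Subgroup.map_map, h2, Subgroup.map_map,
    show (MulAut.conj (φ a)).toMonoidHom.comp (MulAut.conj g).toMonoidHom = (MulAut.conj (φ a * g)).toMonoidHom from
      MonoidHom.ext fun x => by simp [mul_assoc],
    ha']

end Cfsg.Agent.S0031
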