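import Cfsg.Statements.S0572
import Mathlib

set_option autoImplicit false
open Cfsg

namespace Cfsg.Agent.S0572
open scoped commutatorElement

theorem metabelian {G : Type*} [Group G] (A B : Subgroup G) [IsMulCommutative A]
    [IsMulCommutative B] (hAB : ∀ g : G, ∃ a ∈ A, ∃ b ∈ B, g = a * b) :
    derivedSeries G 2 = ⊥ := by
  have hA : ∀ a ∈ A, ∀ a' ∈ A, a * a' = a' * a := fun a ha a' ha' =>
    congrArg Subtype.val (mul_comm' (⟨a, ha⟩ : A) ⟨a', ha'⟩)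
  have hB : ∀ b ∈ B, ∀ b' ∈ B, b * b' = b' * b := fun b hb b' hb' =>
    congrArg Subtype.val (mul_comm' (⟨b, hb⟩ : B) ⟨b', hb'⟩)
  have hBA : ∀ g : G, ∃ b ∈ B, ∃ a ∈ A, g = b * a := by
    intro g
    obtain ⟨a, ha, b, hb, h⟩ := hAB g⁻¹
    exact ⟨b⁻¹, inv_mem hb, a⁻¹, inv_mem ha, by rw [← mul_inv_rev, ← h, inv_inv]⟩
  have hsA : ∀ a ∈ A, ∀ a₁ ∈ A, ∀ b₂ ∈ B, ∀ a₂ ∈ A, ∀ b, a₁ * b * a₁⁻¹ = b₂ * a₂ →
      a₁ * ⁅a, b⁆ * a₁⁻¹ = ⁅a, b₂⁆ := by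
    intro a ha a₁ ha₁ b₂ _ a₂ ha₂ b he
    calc a₁ * ⁅a, b⁆ * a₁⁻¹ = (a₁ * a * a₁⁻¹) * (a₁ * b * a₁⁻¹) * (a₁ * a * a₁⁻¹)⁻¹ *
          (a₁ * b * a₁⁻¹)⁻¹ := by rw [commutatorElement_def]; group
      _ = a * (b₂ * a₂) * a⁻¹ * (b₂ * a₂)⁻¹ := by
          rw [he, hA a₁ ha₁ a ha, mul_inv_cancel_right]
      _ = a * b₂ * (a₂ * a⁻¹) * a₂⁻¹ * b₂⁻¹ := by group
      _ = ⁅a, b₂⁆ := by rw [hA a₂ ha₂ a⁻¹ (inv_mem ha), commutatorElement_def]; group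
  have hsB : ∀ b ∈ B, ∀ b₁ ∈ B, ∀ a₃ ∈ A, ∀ b₃ ∈ B, ∀ a, b₁ * a * b₁⁻¹ = a₃ * b₃ →
      b₁ * ⁅a, b⁆ * b₁⁻¹ = ⁅a₃, b⁆ := by
    intro b hb b₁ hb₁ a₃ _ b₃ hb₃ a he
    calc b₁ * ⁅a, b⁆ * b₁⁻¹ = (b₁ * a * b₁⁻¹) * (b₁ * b * b₁⁻¹) * (b₁ * a * b₁⁻¹)⁻¹ *
          (b₁ * b * b₁⁻¹)⁻¹ := by rw [commutatorElement_def]; group
      _ = a₃ * b₃ * b * (a₃ * b₃)⁻¹ * b⁻¹ := by
          rw [he, hB b₁ hb₁ b hb, mul_inv_cancel_right]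
      _ = a₃ * (b₃ * b) * b₃⁻¹ * a₃⁻¹ * b⁻¹ := by group
      _ = ⁅a₃, b⁆ := by rw [hB b₃ hb₃ b hb, commutatorElement_def]; group
  set S : Set G := {x | ∃ a ∈ A, ∃ b ∈ B, x = ⁅a, b⁆}
  set N := Subgroup.closure S
  have hSc : ∀ x ∈ S, ∀ y ∈ S, x * y = y * x := by
    rintro _ ⟨a, ha, b, hb, rfl⟩ _ ⟨a₁, ha₁, b₁, hb₁, rfl⟩
    obtain ⟨b₂, hb₂, a₂, ha₂, he₂⟩ := hBA (a₁ * b * a₁⁻¹)
    obtain ⟨a₃, ha₃, b₃, hb₃, he₃⟩ := hAB (b₁ * a * b₁⁻¹)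
    have h1 : b₁ * (a₁ * ⁅a, b⁆ * a₁⁻¹) * b₁⁻¹ = ⁅a₃, b₂⁆ := by
      rw [hsA a ha a₁ ha₁ b₂ hb₂ a₂ ha₂ b he₂, hsB b₂ hb₂ b₁ hb₁ a₃ ha₃ b₃ hb₃ a he₃]
    have h2 : a₁ * (b₁ * ⁅a, b⁆ * b₁⁻¹) * a₁⁻¹ = ⁅a₃, b₂⁆ := by
      rw [hsB b hb b₁ hb₁ a₃ ha₃ b₃ hb₃ a he₃, hsA a₃ ha₃ a₁ ha₁ b₂ hb₂ a₂ ha₂ b he₂]
    obtain ⟨b₄, hb₄, a₄, ha₄, he₄⟩ :
        ∃ b₄ ∈ B, ∃ a₄ ∈ A, a₁⁻¹ * b * a₁ = b₄ * a₄ := hBA _
    obtain ⟨a₅, ha₅, b₅, hb₅, he₅⟩ := hAB (b₁⁻¹ * a * b₁)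
    have k1 : b₁⁻¹ * (a₁⁻¹ * ⁅a, b⁆ * a₁) * b₁ = ⁅a₅, b₄⁆ := by
      have e1 := hsA a ha a₁⁻¹ (inv_mem ha₁) b₄ hb₄ a₄ ha₄ b (by rw [inv_inv]; exact he₄)
      have e2 := hsB b₄ hb₄ b₁⁻¹ (inv_mem hb₁) a₅ ha₅ b₅ hb₅ a (by rw [inv_inv]; exact he₅)
      rw [inv_inv] at e1 e2
      rw [e1, e2]
    have k2 : a₁⁻¹ * (b₁⁻¹ * ⁅a, b⁆ * b₁) * a₁ = ⁅a₅, b₄⁆ := by
      have e1 := hsB b hb b₁⁻¹ (inv_mem hb₁) a₅ ha₅ b₅ hb₅ a (by rw [inv_inv]; exact he₅)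
      have e2 := hsA a₅ ha₅ a₁⁻¹ (inv_mem ha₁) b₄ hb₄ a₄ ha₄ b (by rw [inv_inv]; exact he₄)
      rw [inv_inv] at e1 e2
      rw [e1, e2]
    have k : b₁⁻¹ * (a₁⁻¹ * ⁅a, b⁆ * a₁) * b₁ = a₁⁻¹ * (b₁⁻¹ * ⁅a, b⁆ * b₁) * a₁ := k1.trans k2.symm
    calc ⁅a, b⁆ * ⁅a₁, b₁⁆
        = a₁ * b₁ * (b₁⁻¹ * (a₁⁻¹ * ⁅a, b⁆ * a₁) * b₁) * a₁⁻¹ * b₁⁻¹ := by
          rw [commutatorElement_def a₁ b₁]; group
      _ = a₁ * b₁ * (a₁⁻¹ * (b₁⁻¹ * ⁅a, b⁆ * b₁) * a₁) * a₁⁻¹ * b₁⁻¹ := by rw [k]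
      _ = ⁅a₁, b₁⁆ * ⁅a, b⁆ := by rw [commutatorElement_def a₁ b₁]; group
  have hNc : ∀ x ∈ N, ∀ y ∈ N, x * y = y * x := fun x hx y hy => by
    haveI := Subgroup.isMulCommutative_closure hSc
    exact congrArg Subtype.val (mul_comm' (⟨x, hx⟩ : N) ⟨y, hy⟩)
  haveI hN : N.Normal := by
    refine ⟨fun x hx g => ?_⟩
    have hgenA : ∀ a₁ ∈ A, ∀ x ∈ N, a₁ * x * a₁⁻¹ ∈ N := by
      intro a₁ ha₁ x hx
      have : N ≤ N.comap (MulAut.conj a₁).toMonoidHom := by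
        refine (Subgroup.closure_le _).mpr ?_
        rintro _ ⟨a, ha, b, hb, rfl⟩
        obtain ⟨b₂, hb₂, a₂, ha₂, he⟩ := hBA (a₁ * b * a₁⁻¹)
        exact Subgroup.subset_closure ⟨a, ha, b₂, hb₂, hsA a ha a₁ ha₁ b₂ hb₂ a₂ ha₂ b he⟩
      exact this hx
    have hgenB : ∀ b₁ ∈ B, ∀ x ∈ N, b₁ * x * b₁⁻¹ ∈ N := by
      intro b₁ hb₁ x hx
      have : N ≤ N.comap (MulAut.conj b₁).toMonoidHom := by
        refine (Subgroup.closure_le _).mpr ?_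
        rintro _ ⟨a, ha, b, hb, rfl⟩
        obtain ⟨a₃, ha₃, b₃, hb₃, he⟩ := hAB (b₁ * a * b₁⁻¹)
        exact Subgroup.subset_closure ⟨a₃, ha₃, b, hb, hsB b hb b₁ hb₁ a₃ ha₃ b₃ hb₃ a he⟩
      exact this hx
    obtain ⟨a, ha, b, hb, rfl⟩ := hAB g
    simpa [mul_assoc] using hgenA a ha _ (hgenB b hb x hx)
  set f := QuotientGroup.mk' N
  have hc : ∀ a ∈ A, ∀ b ∈ B, f a * f b = f b * f a := by
    intro a ha b hb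
    have h1 : f ⁅a, b⁆ = 1 := (QuotientGroup.eq_one_iff _).mpr
      (Subgroup.subset_closure ⟨a, ha, b, hb, rfl⟩)
    rwa [map_commutatorElement, commutatorElement_def, mul_inv_eq_one, mul_inv_eq_iff_eq_mul] at h1
  have h1 : derivedSeries G 1 ≤ N := by
    rw [derivedSeries_one, commutator_def, Subgroup.commutator_le]
    intro g _ h _
    obtain ⟨a, ha, b, hb, rfl⟩ := hAB g
    obtain ⟨a', ha', b', hb', rfl⟩ := hAB h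
    refine (QuotientGroup.eq_one_iff _).mp ?_
    change f ⁅a * b, a' * b'⁆ = 1
    rw [map_commutatorElement, commutatorElement_eq_one_iff_mul_comm, map_mul, map_mul]
    have e1 : Commute (f a) (f a') := by
      change _ = _; rw [← map_mul, ← map_mul, hA a ha a' ha']
    have e2 : Commute (f b) (f b') := by
      change _ = _; rw [← map_mul, ← map_mul, hB b hb b' hb']
    have e3 : Commute (f a) (f b') := hc a ha b' hb'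
    have e4 : Commute (f b) (f a') := (hc a' ha' b hb).symm
    exact (Commute.mul_left (e1.mul_right e3) (e4.mul_right e2)).eq
  rw [derivedSeries_succ, eq_bot_iff]
  refine (Subgroup.commutator_mono h1 h1).trans ?_
  rw [Subgroup.commutator_le]
  intro x hx y hy
  rw [Subgroup.mem_bot, commutatorElement_eq_one_iff_mul_comm]
  exact hNc x hx y hy


/-- Itô's Theorem: if a group G is the product AB of two abelian subgroups, then the commutator subgroup of G is abelian, i.e. the second term of the derived series is trivial. -/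
theorem result {G : Type*} [Group G] (A B : Subgroup G) [IsMulCommutative A] [IsMulCommutative B] (hAB : ∀ g : G, ∃ a ∈ A, ∃ b ∈ B, g = a * b) : derivedSeries G 2 = ⊥ := by
  exact metabelian A B hAB

end Cfsg.Agent.S0572
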