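import Cfsg.Statements.S0048
import Mathlib
import Cfsg.Agent.Lib.Hall.Basic
import Cfsg.Agent.Lib.Hall.Chief

set_option autoImplicit false
set_option linter.style.haveILetI false
open Cfsg

namespace Cfsg.Agent.S0048

universe u

theorem main (k : ℕ) : ∀ (G : Type u) [Group G] [Finite G], Nat.card G = k → Group.IsSolvable G →
    ∀ M : Subgroup G, IsCoatom M → IsPrimePow M.index := by
  induction k using Nat.strong_induction_on with
  | _ k IH =>
  intro G _ _ hk hG M hM
  subst hk
  haveI := hG
  haveI : Nontrivial G := by
    by_contra h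
    rw [not_nontrivial_iff_subsingleton] at h
    exact hM.1 (Subsingleton.elim _ _)
  obtain ⟨p, hp, N, hN, hNne, hNp, -⟩ := CfsgLib.Hall.exists_normal_pgroup_ne_bot (G := G)
  haveI := hN
  set f := QuotientGroup.mk' N
  have hf : Function.Surjective f := QuotientGroup.mk'_surjective N
  by_cases hNM : N ≤ M
  · have hker : f.ker ≤ M := by rwa [QuotientGroup.ker_mk']
    have hidx : (M.map f).index = M.index := Subgroup.index_map_eq _ hf hker
    have hco : IsCoatom (M.map f) := by
      constructor
      · intro h
        rw [← Subgroup.index_eq_one, hidx, Subgroup.index_eq_one] at h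
        exact hM.1 h
      · intro K hK
        have h2 : M < K.comap f := by
          rw [← Subgroup.comap_map_eq_self hker]
          exact (Subgroup.comap_lt_comap_of_surjective hf).mpr hK
        rw [← Subgroup.map_comap_eq_self_of_surjective hf K, hM.2 _ h2,
          Subgroup.map_top_of_surjective _ hf]
    have hlt : Nat.card (G ⧸ N) < Nat.card G := by
      rw [Subgroup.card_eq_card_quotient_mul_card_subgroup N]
      exact lt_mul_of_one_lt_right Nat.card_pos (N.one_lt_card_iff_ne_bot.mpr hNne)
    exact hidx ▸ IH _ hlt (G ⧸ N) rfl inferInstance _ hco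
  · have htop : M ⊔ N = ⊤ := hM.2 _ (left_lt_sup.mpr hNM)
    haveI := Fact.mk hp
    obtain ⟨b, hb⟩ := IsPGroup.iff_card.mp hNp
    have h1 : M.index ∣ Nat.card N := by
      have h2 := CfsgLib.Coprime.card_sup_mul_card_inf (K := N) (S := M)
        Subgroup.le_normalizer_of_normal
      rw [sup_comm N M, htop, Subgroup.card_top] at h2
      refine Dvd.intro (Nat.card ↥(N ⊓ M)) ?_
      refine Nat.eq_of_mul_eq_mul_left (Nat.card_pos (α := M)) ?_
      rw [← mul_assoc, Subgroup.card_mul_index, h2, mul_comm]
    obtain ⟨a, -, ha⟩ := (Nat.dvd_prime_pow hp).mp (hb ▸ h1)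
    refine ⟨p, a, hp.prime, Nat.pos_of_ne_zero ?_, ha.symm⟩
    rintro rfl
    exact hM.1 (Subgroup.index_eq_one.mp (by simpa using ha))

/-- In a finite solvable group every maximal subgroup has index a prime power. -/
theorem result {G : Type*} [Group G] [Finite G] [Group.IsSolvable G]
    (M : Subgroup G) (hM : IsCoatom M) : IsPrimePow M.index := by
  exact main _ G rfl inferInstance M hM

end Cfsg.Agent.S0048
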