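import Cfsg.Statements.S0049
import Mathlib

set_option autoImplicit false
set_option linter.style.haveILetI false
open Cfsg

namespace Cfsg.Agent.S0049

/-- A prime divisor of the order of a finite group also divides the index of the Frattini subgroup. -/
theorem result {G : Type*} [Group G] [Finite G] (p : ℕ) (hp : p.Prime) (hdvd : p ∣ Nat.card G) :
    p ∣ (frattini G).index := by
  classical
  haveI := Fact.mk hp
  by_contra hnd
  haveI := frattini_nilpotent (G := G)
  let P : Sylow p (frattini G) := default
  haveI : (P : Subgroup (frattini G)).Characteristic :=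
    Sylow.characteristic_of_normal P inferInstance
  set N := (P : Subgroup (frattini G)).map (frattini G).subtype with hN
  haveI : N.Normal := ConjAct.normal_of_characteristic_of_normal
  have hidx : ¬ p ∣ N.index := by
    rw [hN, Subgroup.index_map_subtype]
    exact fun h => (hp.dvd_mul.mp h).elim P.not_dvd_index hnd
  have hNp : IsPGroup p N := P.2.map _
  have hcop : (Nat.card N).Coprime N.index := by
    obtain ⟨a, ha⟩ := IsPGroup.iff_card.mp hNp
    rw [ha]
    exact Nat.Coprime.pow_left a (hp.coprime_iff_not_dvd.mpr hidx)
  obtain ⟨K, hK⟩ := Subgroup.exists_right_complement'_of_coprime hcop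
  have hKtop : K = ⊤ := frattini_nongenerating (by
    rw [eq_top_iff, ← hK.sup_eq_top]
    exact sup_le (le_trans (Subgroup.map_subtype_le _) le_sup_right) le_sup_left)
  rw [hKtop] at hK
  have hNbot : N = ⊥ := Subgroup.isComplement'_top_right.mp hK
  rw [hNbot, Subgroup.index_bot] at hidx
  exact hidx hdvd

end Cfsg.Agent.S0049
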