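import Cfsg.Statements.S0050
import Mathlib
import Cfsg.Agent.Lib.Hall.Basic

set_option autoImplicit false
open Cfsg

namespace Cfsg.Agent.S0050
open Pointwise


/-- Frattini argument for Hall subgroups: if L is a solvable normal subgroup and H a subgroup of L of order coprime to its index in L, then L together with the normaliser of H generates the whole group. -/
theorem result {G : Type*} [Group G] [Finite G] (L : Subgroup G) [L.Normal] (hL : Group.IsSolvable L)
    (H : Subgroup G) (hHL : H ≤ L) (hHall : (Nat.card H).Coprime (H.relIndex L)) :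
    L ⊔ Subgroup.normalizer (H : Set G) = ⊤ := by
  haveI := hL
  rw [eq_top_iff]
  intro g _
  have hgL : MulAut.conj g • H ≤ L := by
    intro x hx
    rw [CfsgLib.Coprime.mem_conj_smul_iff] at hx
    have h := (inferInstance : L.Normal).conj_mem _ (hHL hx) g
    simpa [mul_assoc] using h
  have e : ∀ K : Subgroup G, K ≤ L → Nat.card (K.subgroupOf L) = Nat.card K := fun K hK =>
    Nat.card_congr (Subgroup.subgroupOfEquivOfLe hK).toEquiv
  have hc : Nat.card L = Nat.card H * H.relIndex L := by
    rw [← e H hHL]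
    exact (Subgroup.card_mul_index (H.subgroupOf L)).symm
  obtain ⟨⟨l, hl⟩, hlH⟩ := CfsgLib.Hall.exists_conj_eq (G := L) hc hHall
    (H := (MulAut.conj g • H).subgroupOf L) (K := H.subgroupOf L)
    (by rw [e _ hgL, CfsgLib.Coprime.card_conj_smul]) (e H hHL)
  have hn : l * g ∈ Subgroup.normalizer (H : Set G) := by
    refine Subgroup.mem_normalizer_fintype fun h hh => ?_
    have h1 : (⟨g * h * g⁻¹, hgL (CfsgLib.Coprime.conj_mem_conj_smul hh)⟩ : L) ∈ (MulAut.conj g • H).subgroupOf L :=
      Subgroup.mem_subgroupOf.mpr (CfsgLib.Coprime.conj_mem_conj_smul hh)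
    have h2 := CfsgLib.Coprime.conj_mem_conj_smul (g := (⟨l, hl⟩ : L)) h1
    rw [hlH, Subgroup.mem_subgroupOf] at h2
    simpa [mul_assoc] using h2
  rw [show g = l⁻¹ * (l * g) by group]
  exact mul_mem (Subgroup.mem_sup_left (inv_mem hl)) (Subgroup.mem_sup_right hn)

end Cfsg.Agent.S0050
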