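import Cfsg.Statements.S0053
import Mathlib

set_option autoImplicit false
set_option linter.style.haveILetI false
open Cfsg

namespace Cfsg.Agent.S0053

/-- An abelian minimal normal subgroup N of a finite group is complemented exactly when N is not inside the Frattini subgroup. -/
theorem result {G : Type*} [Group G] [Finite G]
    (N : Subgroup G) [N.Normal] [IsMulCommutative N] (hN : N ≠ ⊥)
    (hmin : ∀ M : Subgroup G, M.Normal → M ≤ N → M = ⊥ ∨ M = N) :
    (∃ H : Subgroup G, Subgroup.IsComplement' N H) ↔ ¬ N ≤ frattini G := by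
  constructor
  · rintro ⟨H, hH⟩ hle
    have hHtop : H = ⊤ := frattini_nongenerating (by
      rw [eq_top_iff, ← hH.sup_eq_top]
      exact sup_le (hle.trans le_sup_right) le_sup_left)
    rw [hHtop] at hH
    exact hN (Subgroup.isComplement'_top_right.mp hH)
  · intro hle
    obtain ⟨M, hM, hNM⟩ : ∃ M : Subgroup G, IsCoatom M ∧ ¬ N ≤ M := by
      by_contra h
      push Not at h
      exact hle (le_iInf₂ fun M hM => h M hM)
    have htop : N ⊔ M = ⊤ := hM.2 _ (right_lt_sup.mpr hNM)
    have hNc : N ≤ Subgroup.normalizer ((N ⊓ M : Subgroup G) : Set G) := by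
      intro n hn
      rw [Subgroup.mem_normalizer_iff]
      intro x
      constructor
      · intro hx
        have : n * x = x * n := congrArg Subtype.val
          (mul_comm' (⟨n, hn⟩ : N) ⟨x, (Subgroup.mem_inf.mp hx).1⟩)
        rwa [this, mul_inv_cancel_right]
      · intro hx
        have : n * (n * x * n⁻¹) = (n * x * n⁻¹) * n := congrArg Subtype.val
          (mul_comm' (⟨n, hn⟩ : N) ⟨_, (Subgroup.mem_inf.mp hx).1⟩)
        rw [inv_mul_cancel_right] at this
        rwa [← mul_left_cancel this]
    have hMc : M ≤ Subgroup.normalizer ((N ⊓ M : Subgroup G) : Set G) := by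
      intro m hm
      rw [Subgroup.mem_normalizer_iff]
      intro x
      simp only [Subgroup.mem_inf]
      refine and_congr ⟨fun hx => (inferInstance : N.Normal).conj_mem x hx m, fun hx => ?_⟩
        ⟨fun hx => M.mul_mem (M.mul_mem hm hx) (M.inv_mem hm), fun hx => ?_⟩
      · simpa [mul_assoc] using (inferInstance : N.Normal).conj_mem _ hx m⁻¹
      · simpa [mul_assoc] using M.mul_mem (M.mul_mem (M.inv_mem hm) hx) hm
    haveI : (N ⊓ M).Normal :=
      Subgroup.normalizer_eq_top_iff.mp (top_le_iff.mp (htop ▸ sup_le hNc hMc))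
    have hbot : N ⊓ M = ⊥ :=
      (hmin _ inferInstance inf_le_left).resolve_right fun h => hNM (h ▸ inf_le_right)
    refine ⟨M, Subgroup.isComplement'_of_disjoint_and_mul_eq_univ (disjoint_iff.mpr hbot) ?_⟩
    rw [← Subgroup.normal_mul, htop, Subgroup.coe_top]

end Cfsg.Agent.S0053
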