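import Cfsg.Statements.S0054
import Mathlib

set_option autoImplicit false
set_option linter.style.haveILetI false
open Cfsg

namespace Cfsg.Agent.S0054

/-- A regular normal subgroup of a finite 2-transitive group is elementary abelian: it is commutative and all its elements have order dividing one prime. -/
theorem result {G : Type*} [Group G] [Finite G]
    {X : Type*} [Nonempty X] [MulAction G X] (h2 : MulAction.IsMultiplyPretransitive G X 2)
    (N : Subgroup G) [N.Normal] (htrans : MulAction.IsPretransitive N X) (hreg : ∀ x : X, MulAction.stabilizer N x = ⊥) :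
    IsMulCommutative N ∧ ∃ p : ℕ, p.Prime ∧ ∀ n ∈ N, n ^ p = 1 := by
  classical
  obtain ⟨x0⟩ := (inferInstance : Nonempty X)
  rcases subsingleton_or_nontrivial N with hs | hs
  · exact ⟨⟨⟨fun a b => Subsingleton.elim _ _⟩⟩, 2, Nat.prime_two, fun n hn => by
      have h : n = 1 := congrArg Subtype.val (Subsingleton.elim (⟨n, hn⟩ : N) 1)
      simp [h]⟩
  -- conjugation by a point stabilizer is transitive on nonidentity elements
  have hconj : ∀ a b : N, a ≠ 1 → b ≠ 1 → ∃ g : G, g * (a : G) * g⁻¹ = b := by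
    intro a b ha hb
    have hne : ∀ c : N, c ≠ 1 → (c : G) • x0 ≠ x0 := fun c hc h => hc (by
      have : c ∈ MulAction.stabilizer N x0 := h
      rwa [hreg, Subgroup.mem_bot] at this)
    obtain ⟨g, hg0, hg1⟩ := MulAction.is_two_pretransitive_iff.mp h2
      (Ne.symm (hne a ha)) (Ne.symm (hne b hb))
    refine ⟨g, ?_⟩
    have hmem : g * (a : G) * g⁻¹ ∈ N := (inferInstance : N.Normal).conj_mem _ a.2 g
    have hfix : b⁻¹ * (⟨_, hmem⟩ : N) ∈ MulAction.stabilizer N x0 := by
      show ((b : G)⁻¹ * (g * (a : G) * g⁻¹)) • x0 = x0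
      have e : g⁻¹ • x0 = x0 := by rw [inv_smul_eq_iff, hg0]
      rw [mul_smul, mul_smul, mul_smul, e, hg1, inv_smul_smul]
    rw [hreg, Subgroup.mem_bot, inv_mul_eq_one] at hfix
    exact (congrArg Subtype.val hfix).symm
  obtain ⟨p, hp, hpd⟩ := Nat.exists_prime_and_dvd (Finite.one_lt_card (α := N)).ne'
  haveI := Fact.mk hp
  obtain ⟨z, hz⟩ := exists_prime_orderOf_dvd_card' p hpd
  have hz1 : z ≠ 1 := fun h => by rw [h, orderOf_one] at hz; exact hp.ne_one hz.symm
  have hpow : ∀ n : N, n ^ p = 1 := by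
    intro n
    by_cases hn : n = 1
    · simp [hn]
    obtain ⟨g, hg⟩ := hconj z n hz1 hn
    apply Subtype.ext
    rw [Subgroup.coe_pow, ← hg, conj_pow, ← Subgroup.coe_pow, ← hz, pow_orderOf_eq_one]
    simp
  haveI := (show IsPGroup p N from fun n => ⟨1, by rw [pow_one]; exact hpow n⟩).center_nontrivial
  obtain ⟨⟨c, hc⟩, hc1⟩ := exists_ne (1 : Subgroup.center N)
  have hcen : ∀ n : N, n ∈ Subgroup.center N := by
    intro n
    by_cases hn : n = 1
    · rw [hn]; exact one_mem _
    obtain ⟨g, hg⟩ := hconj c n (fun h => hc1 (Subtype.ext h)) hn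
    rw [Subgroup.mem_center_iff]
    intro m
    have hm := Subgroup.mem_center_iff.mp hc ⟨g⁻¹ * (m : G) * g, by
      simpa using (inferInstance : N.Normal).conj_mem _ m.2 g⁻¹⟩
    apply Subtype.ext
    have hm' : g⁻¹ * (m : G) * g * (c : G) = (c : G) * (g⁻¹ * (m : G) * g) := congrArg Subtype.val hm
    show (m : G) * n = n * m
    rw [← hg]
    calc (m : G) * (g * c * g⁻¹) = g * (g⁻¹ * m * g * c) * g⁻¹ := by group
      _ = _ := by rw [hm']; group
  exact ⟨⟨⟨fun a b => Subgroup.mem_center_iff.mp (hcen b) a⟩⟩, p, hp,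
    fun n hn => congrArg Subtype.val (hpow ⟨n, hn⟩)⟩

end Cfsg.Agent.S0054
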