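import Cfsg.Statements.S0059
import Mathlib
import Cfsg.Agent.Lib.Coprime.Action

set_option autoImplicit false
open Cfsg

namespace Cfsg.Agent.S0059

/-- Let a finite group act on a set on which a normal subgroup K of coprime order and index is transitive, with K or the quotient solvable. Then any complement H of K has a fixed point, and any two H-fixed points are interchanged by an element of K centralising H. -/
theorem result {G : Type*} [Group G] [Finite G] {X : Type*} [Nonempty X] [MulAction G X]
    (K H : Subgroup G) [K.Normal] (hc : Subgroup.IsComplement' K H) (hcop : (Nat.card K).Coprime K.index)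
    (hsolv : Group.IsSolvable K ∨ Group.IsSolvable (G ⧸ K)) (htrans : MulAction.IsPretransitive K X) :
    (∃ x : X, ∀ h ∈ H, h • x = x) ∧
    ∀ x y : X, (∀ h ∈ H, h • x = x) → (∀ h ∈ H, h • y = y) → ∃ k ∈ K ⊓ Subgroup.centralizer (H : Set G), k • x = y := by
  obtain ⟨x₀⟩ := ‹Nonempty X›
  have hcop' : (Nat.card H).Coprime (Nat.card K) := by rw [← hc.symm.index_eq_card]; exact hcop.symm
  have hs : Group.IsSolvable H ∨ Group.IsSolvable K := hsolv.symm.imp_left fun h => by
    haveI := h
    refine Group.isSolvable_of_isSolvable_injective (f := (QuotientGroup.mk' K).comp H.subtype) ?_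
    rw [injective_iff_map_eq_one]
    intro x hx
    have h1 : (x : G) ∈ K ⊓ H := Subgroup.mem_inf.mpr ⟨(QuotientGroup.eq_one_iff _).mp hx, x.2⟩
    rw [hc.disjoint.eq_bot, Subgroup.mem_bot] at h1
    exact Subtype.ext h1
  obtain ⟨k, hk, hfix⟩ := CfsgLib.Coprime.exists_fixed_of_coprime (A := H) (K := K)
    Subgroup.le_normalizer_of_normal hcop' hs x₀ (fun a ha => by
      obtain ⟨k, hk⟩ := htrans.exists_smul_eq x₀ (a • x₀)
      exact ⟨k, k.2, hk.symm⟩)
  refine ⟨⟨k • x₀, hfix⟩, fun x y hx hy => ?_⟩
  obtain ⟨k', hk'⟩ := htrans.exists_smul_eq x y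
  have hk'' : (k' : G) • x = y := hk'
  subst hk''
  exact CfsgLib.Coprime.exists_centralizer_smul Subgroup.le_normalizer_of_normal hcop' hs hx k'.2 hy

end Cfsg.Agent.S0059
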