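import Cfsg.Statements.S0060
import Cfsg.Agent.S1009
import Cfsg.Agent.Lib.Fitting.Basic

set_option autoImplicit false
open Pointwise
open Cfsg
open scoped Pointwise

namespace Cfsg.Agent.S0060

/-- Brodkey's Theorem: in a finite group with abelian Sylow p-subgroups and no nontrivial normal p-subgroup, some conjugate of a Sylow p-subgroup meets it trivially. -/
theorem result {G : Type*} [Group G] [Finite G] (p : ℕ) [Fact p.Prime]
    (S : Sylow p G) (hS : IsMulCommutative S) (hOp : Cfsg.pCore p G = ⊥) :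
    ∃ g : G, (S : Subgroup G) ⊓ MulAut.conj g • (S : Subgroup G) = ⊥ := by
  classical
  haveI := hS
  have hab : ∀ P : Sylow p G, IsMulCommutative ↥(P : Subgroup G) := fun P => by
    obtain ⟨x, hx⟩ := MulAction.exists_smul_eq G S P
    refine ⟨⟨fun a b => Subtype.ext ?_⟩⟩
    obtain ⟨a, ha⟩ := a
    obtain ⟨b, hb⟩ := b
    rw [← hx, Sylow.coe_subgroup_smul] at ha hb
    obtain ⟨a', ha', rfl⟩ := ha
    obtain ⟨b', hb', rfl⟩ := hb
    have h : a' * b' = b' * a' := congrArg Subtype.val (mul_comm' (⟨a', ha'⟩ : (S : Subgroup G)) ⟨b', hb'⟩)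
    show x * a' * x⁻¹ * (x * b' * x⁻¹) = x * b' * x⁻¹ * (x * a' * x⁻¹)
    rw [show x * a' * x⁻¹ * (x * b' * x⁻¹) = x * (a' * b') * x⁻¹ by group, h]
    group
  obtain ⟨P, Q, hPQ⟩ := Cfsg.Agent.S1009.result p hab
  have hbot : (⨅ R : Sylow p G, (R : Subgroup G)) = ⊥ := by
    have hn : (⨅ R : Sylow p G, (R : Subgroup G)).Normal := by
      refine ⟨fun a ha x => Subgroup.mem_iInf.mpr fun R => ?_⟩
      have h := Subgroup.mem_iInf.mp ha (x⁻¹ • R)
      rw [Sylow.coe_subgroup_smul] at h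
      obtain ⟨b, hb, rfl⟩ := h
      show x * (x⁻¹ * b * x⁻¹⁻¹) * x⁻¹ ∈ (R : Subgroup G)
      have e : x * (x⁻¹ * b * x⁻¹⁻¹) * x⁻¹ = b := by group
      rw [e]; exact hb
    rw [eq_bot_iff, ← hOp]
    exact CfsgLib.Fitting.le_pCore hn (P.2.to_le (iInf_le _ P))
  obtain ⟨a, ha⟩ := MulAction.exists_smul_eq G P S
  obtain ⟨b, hb⟩ := MulAction.exists_smul_eq G S (a • Q)
  refine ⟨b, ?_⟩
  rw [← Sylow.coe_subgroup_smul, hb]
  conv_lhs => rw [← ha]
  rw [Sylow.coe_subgroup_smul, Sylow.coe_subgroup_smul, ← Subgroup.smul_inf, hPQ, hbot, Subgroup.smul_bot]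
end Cfsg.Agent.S0060
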