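import Cfsg.Statements.S0063
import Mathlib

set_option autoImplicit false
set_option linter.style.haveILetI false
open Cfsg

namespace Cfsg.Agent.S0063

universe u

theorem main (p : ℕ) [Fact p.Prime] (m : ℕ) : ∀ (G : Type u) [Group G] [Finite G],
    Nat.card G = p ^ m → Group.nilpotencyClass G ≤ max 1 (m - 1) := by
  induction m using Nat.strong_induction_on with
  | _ m IH =>
  intro G _ _ hG
  have hp : IsPGroup p G := IsPGroup.of_card hG
  haveI := hp.isNilpotent
  rcases subsingleton_or_nontrivial G with hs | hs
  · rw [Group.nilpotencyClass_zero_iff_subsingleton.mpr hs]; omega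
  haveI := hp.center_nontrivial
  obtain ⟨k, hk⟩ := IsPGroup.iff_card.mp (hp.to_quotient (Subgroup.center G))
  obtain ⟨c, hc⟩ := IsPGroup.iff_card.mp (hp.to_subgroup (Subgroup.center G))
  have hc0 : c ≠ 0 := by
    rintro rfl
    have := Finite.one_lt_card (α := Subgroup.center G)
    simp [hc] at this
  have hsum : k + c = m := by
    apply Nat.pow_right_injective (Fact.out : p.Prime).two_le
    show p ^ (k + c) = p ^ m
    rw [pow_add, ← hk, ← hc, ← hG, ← Subgroup.card_eq_card_quotient_mul_card_subgroup]
  have hq := Group.nilpotencyClass_quotient_center (G := G)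
  have hi := IH k (by omega) (G ⧸ Subgroup.center G) hk
  rcases Nat.lt_or_ge k 2 with hk2 | hk2
  · have hcyc : IsCyclic (G ⧸ Subgroup.center G) := by
      interval_cases k
      · haveI : Subsingleton (G ⧸ Subgroup.center G) :=
          (Nat.card_eq_one_iff_unique.mp (by simpa using hk)).1
        exact isCyclic_of_subsingleton
      · exact isCyclic_of_prime_card (by simpa using hk)
    haveI := hcyc
    have hcomm : ∀ a b : G, a * b = b * a :=
      commutative_of_cyclic_center_quotient (QuotientGroup.mk' (Subgroup.center G))
        (QuotientGroup.ker_mk' _).le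
    letI : CommGroup G := { (inferInstance : Group G) with mul_comm := hcomm }
    exact le_trans (CommGroup.nilpotencyClass_le_one (G := G)) (le_max_left _ _)
  · omega

/-- A finite group of prime-power order p ^ m with m > 1 is nilpotent of class at most m - 1. -/
theorem result {G : Type*} [Group G] [Finite G] (p m : ℕ) [Fact p.Prime]
    (hG : Nat.card G = p ^ m) (hm : 1 < m) : Group.nilpotencyClass G ≤ m - 1 := by
  have h := main p m G hG
  omega

end Cfsg.Agent.S0063
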