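import Cfsg.Statements.S0064
import Mathlib
import Cfsg.Agent.Lib.Subnormal.Basic

set_option autoImplicit false
set_option linter.style.haveILetI false
open Cfsg

namespace Cfsg.Agent.S0064

/-- A finite group is nilpotent exactly when each of its subgroups is subnormal. -/
theorem result {G : Type*} [Group G] [Finite G] :
    Group.IsNilpotent G ↔ ∀ H : Subgroup G, H.IsSubnormal := by
  constructor
  · intro h H
    exact CfsgLib.Subnormal.isSubnormal_of_isNilpotent H
  · intro h
    refine ((Group.isNilpotent_of_finite_tfae (G := G)).out 0 2).mpr fun M hM => ?_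
    rcases (h M).lt_normal with h1 | ⟨K, hK, hMK, hKlt⟩
    · exact absurd h1 hM.1
    · rcases eq_or_lt_of_le hMK with rfl | hlt
      · exact hK
      · exact absurd (hM.2 K hlt) hKlt.ne

end Cfsg.Agent.S0064
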