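import Cfsg.Statements.S0539
import Cfsg.Agent.Lib.Subnormal.Join

set_option autoImplicit false
open Pointwise
open Cfsg

namespace Cfsg.Agent.S0539

open scoped Pointwise
/-- Climbing a subnormal series from a join to a conjugate that normalizes it. -/
theorem exists_of_chain {G : Type*} [Group G] [Finite G] (S S₀ : Set (Subgroup G))
    (hconj : ∀ U ∈ S, ∀ g : G, MulAut.conj g • U ∈ S) (h₀ : S₀ ⊂ S) {K : Subgroup G} (hK : K.IsSubnormal) :
    sSup S₀ ≤ K → K ≤ Subgroup.normalizer ((sSup S₀ : Subgroup G) : Set G) →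
      ∃ X ∈ S, X ∉ S₀ ∧ X ≤ Subgroup.normalizer ((sSup S₀ : Subgroup G) : Set G) := by
  induction hK with
  | top =>
    intro _ h
    obtain ⟨X, hX, hX0⟩ := Set.exists_of_ssubset h₀
    exact ⟨X, hX, hX0, le_top.trans h⟩
  | step H K hle hsub hN ih =>
    intro hJH hHJ
    by_cases hKJ : K ≤ Subgroup.normalizer ((sSup S₀ : Subgroup G) : Set G)
    · exact ih (hJH.trans hle) hKJ
    obtain ⟨g, hgK, hg⟩ := SetLike.not_le_iff_exists.mp hKJ
    obtain ⟨U, hU, hUJ⟩ : ∃ U ∈ S₀, ¬ MulAut.conj g • U ≤ sSup S₀ := by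
      by_contra hall
      push Not at hall
      refine hg ?_
      have hle' : (sSup S₀).map (MulAut.conj g).toMonoidHom ≤ sSup S₀ := by
        rw [Subgroup.map_le_iff_le_comap]
        refine sSup_le fun U hU => ?_
        rw [← Subgroup.map_le_iff_le_comap]
        exact hall U hU
      have heq : (sSup S₀).map (MulAut.conj g).toMonoidHom = sSup S₀ :=
        Subgroup.eq_of_le_of_card_ge hle' (le_of_eq (Nat.card_congr
          ((sSup S₀).equivMapOfInjective _ (MulAut.conj g).injective).toEquiv))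
      refine Subgroup.mem_normalizer_iff.mpr fun x => ?_
      constructor
      · intro hx
        rw [← heq]
        exact ⟨x, hx, by simp⟩
      · intro hx
        rw [← heq] at hx
        obtain ⟨y, hy, he⟩ := hx
        simp at he
        rwa [← he]
    refine ⟨MulAut.conj g • U, hconj U (h₀.subset hU) g, fun h => hUJ (le_sSup h), ?_⟩
    rintro _ ⟨u, hu, rfl⟩
    exact hHJ (by
      simpa [Subgroup.mem_subgroupOf] using hN.conj_mem ⟨u, hle (hJH (le_sSup hU hu))⟩ (hJH (le_sSup hU hu)) ⟨g, hgK⟩)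


/-- Let S be a family of subnormal subgroups of a finite group that is closed under conjugation, and S₀ a proper subfamily. Then some member of S not in S₀ normalizes the join of S₀. -/
theorem result {G : Type*} [Group G] [Finite G] (S S₀ : Set (Subgroup G)) (hS : ∀ U ∈ S, U.IsSubnormal) (hconj : ∀ U ∈ S, ∀ g : G, MulAut.conj g • U ∈ S) (h₀ : S₀ ⊂ S) : ∃ X ∈ S, X ∉ S₀ ∧ X ≤ Subgroup.normalizer ((sSup S₀ : Subgroup G) : Set G) := by
  haveI : Finite S₀ := Set.Finite.to_subtype (Set.toFinite S₀)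
  have hJ : (sSup S₀).IsSubnormal := by
    rw [sSup_eq_iSup']
    exact CfsgLib.Subnormal.isSubnormal_iSup _ fun U => hS U (h₀.subset U.2)
  exact exists_of_chain S S₀ hconj h₀ hJ le_rfl Subgroup.le_normalizer
end Cfsg.Agent.S0539
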