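import Cfsg.Statements.S0066
import Cfsg.Agent.S0539

set_option autoImplicit false
open Pointwise
open Cfsg

namespace Cfsg.Agent.S0066

open scoped Pointwise

theorem mem_conj_smul {G : Type*} [Group G] {A : Subgroup G} {g x : G} :
    x ∈ MulAut.conj g • A ↔ g⁻¹ * x * g ∈ A := by
  rw [Subgroup.mem_pointwise_smul_iff_inv_smul_mem, ← map_inv]
  simp

theorem conj_smul_mul {G : Type*} [Group G] (A : Subgroup G) (a b : G) :
    MulAut.conj (a * b) • A = MulAut.conj a • MulAut.conj b • A := by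
  rw [map_mul, mul_smul]

/-- A conjugate outside a subfamily normalizes its join. -/
theorem exists_normalizing {G : Type*} [Group G] [Finite G] {M : Subgroup G} (𝒮₁ 𝒮₀ : Set (Subgroup G))
    (hle : ∀ U ∈ 𝒮₁, U ≤ M) (hsn : ∀ U ∈ 𝒮₁, (U.subgroupOf M).IsSubnormal)
    (hconj : ∀ U ∈ 𝒮₁, ∀ g ∈ M, MulAut.conj g • U ∈ 𝒮₁) (h0 : 𝒮₀ ⊂ 𝒮₁) :
    ∃ X ∈ 𝒮₁, X ∉ 𝒮₀ ∧ X ≤ Subgroup.normalizer ((sSup 𝒮₀ : Subgroup G) : Set G) := by
  classical
  set S : Set (Subgroup M) := (fun U => U.subgroupOf M) '' 𝒮₁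
  set S₀ : Set (Subgroup M) := (fun U => U.subgroupOf M) '' 𝒮₀
  have hinj : ∀ U ∈ 𝒮₁, ∀ V ∈ 𝒮₁, U.subgroupOf M = V.subgroupOf M → U = V := fun U hU V hV h => by
    rw [← Subgroup.map_subgroupOf_eq_of_le (hle U hU), h, Subgroup.map_subgroupOf_eq_of_le (hle V hV)]
  obtain ⟨X', hX', hX'0, hX'n⟩ := Cfsg.Agent.S0539.result S S₀
    (by rintro _ ⟨U, hU, rfl⟩; exact hsn U hU)
    (by
      rintro _ ⟨U, hU, rfl⟩ g
      refine ⟨MulAut.conj (g : G) • U, hconj U hU g g.2, ?_⟩
      ext x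
      rw [Subgroup.mem_subgroupOf, mem_conj_smul, mem_conj_smul, Subgroup.mem_subgroupOf]
      simp)
    (by
      refine (Set.ssubset_iff_of_subset (Set.image_mono h0.subset)).mpr ?_
      obtain ⟨U, hU, hU0⟩ := Set.exists_of_ssubset h0
      exact ⟨_, ⟨U, hU, rfl⟩, fun ⟨V, hV, e⟩ => hU0 (hinj V (h0.subset hV) U hU e ▸ hV)⟩)
  obtain ⟨X, hX, rfl⟩ := hX'
  refine ⟨X, hX, fun h => hX'0 ⟨X, h, rfl⟩, fun x hx => ?_⟩
  have hJ : (sSup S₀).map M.subtype = sSup 𝒮₀ := by
    rw [sSup_image, Subgroup.map_iSup, sSup_eq_iSup]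
    refine iSup_congr fun U => ?_
    rw [Subgroup.map_iSup]
    exact iSup_congr fun hU => Subgroup.map_subgroupOf_eq_of_le (hle U (h0.subset hU))
  rw [← hJ]
  exact Subgroup.le_normalizer_map M.subtype ⟨⟨x, hle X hX hx⟩, hX'n (show x ∈ X from hx), rfl⟩

/-- Wielandt's zipper lemma. -/
theorem zipper {G : Type*} [Group G] [Finite G] (A : Subgroup G)
    (hsn : ∀ M : Subgroup G, A ≤ M → M ≠ ⊤ → (A.subgroupOf M).IsSubnormal) (hA : ¬ A.IsSubnormal) :
    ∀ M N : Subgroup G, IsCoatom M → IsCoatom N → A ≤ M → A ≤ N → M = N := by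
  classical
  by_contra hcon
  push Not at hcon
  let fam : Subgroup G → Set (Subgroup G) := fun M => {B | (∃ g : G, B = MulAut.conj g • A) ∧ B ≤ M}
  let P : Set (Subgroup G × Subgroup G) :=
    {q | IsCoatom q.1 ∧ IsCoatom q.2 ∧ A ≤ q.1 ∧ A ≤ q.2 ∧ q.1 ≠ q.2}
  have hP : P.Nonempty := by
    obtain ⟨M, N, h1, h2, h3, h4, h5⟩ := hcon
    exact ⟨(M, N), h1, h2, h3, h4, h5⟩
  obtain ⟨⟨M, N⟩, ⟨hM, hN, hAM, hAN, hne⟩, hmax⟩ :=
    Set.exists_max_image P (fun q => (fam q.1 ∩ fam q.2).ncard) (Set.toFinite P) hP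
  simp only at hmax hM hN hAM hAN hne
  have hfam : ∀ M : Subgroup G, IsCoatom M → ∀ U ∈ fam M, (U.subgroupOf M).IsSubnormal := by
    rintro M hM U ⟨⟨g, rfl⟩, hUM⟩
    have hle : A ≤ MulAut.conj g⁻¹ • M := by
      intro a ha
      rw [mem_conj_smul, inv_inv]
      exact hUM (by rw [mem_conj_smul]; simpa [mul_assoc] using ha)
    have h := hsn _ hle (fun h => hM.1 (eq_top_iff.mpr fun x _ => by
      have hx : g⁻¹ * x * g ∈ MulAut.conj g⁻¹ • M := h ▸ Subgroup.mem_top _
      rw [mem_conj_smul, inv_inv] at hx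
      simpa [mul_assoc] using hx))
    let f : M →* (MulAut.conj g⁻¹ • M : Subgroup G) :=
      { toFun := fun x => ⟨g⁻¹ * x * g, by rw [mem_conj_smul, inv_inv]; simpa [mul_assoc] using x.2⟩
        map_one' := Subtype.ext (by simp)
        map_mul' := fun x y => Subtype.ext (by simp [mul_assoc]) }
    have e : (MulAut.conj g • A).subgroupOf M = (A.subgroupOf _).comap f := by
      ext x
      rw [Subgroup.mem_subgroupOf, mem_conj_smul]
      rfl
    rw [e]
    exact h.comap f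
  have hfamc : ∀ M : Subgroup G, ∀ U ∈ fam M, ∀ g ∈ M, MulAut.conj g • U ∈ fam M := by
    rintro M U ⟨⟨h, rfl⟩, hU⟩ g hg
    refine ⟨⟨g * h, (conj_smul_mul A g h).symm⟩, fun x hx => ?_⟩
    rw [mem_conj_smul] at hx
    have := M.mul_mem (M.mul_mem hg (hU hx)) (M.inv_mem hg)
    simpa [mul_assoc] using this
  set D := fam M ∩ fam N with hD
  have hAD : A ∈ D := by
    refine ⟨⟨⟨1, ?_⟩, hAM⟩, ⟨⟨1, ?_⟩, hAN⟩⟩ <;> rw [map_one, one_smul]
  have hJle : ∀ {X : Subgroup G}, (∀ B ∈ D, B ≤ X) → sSup D ≤ X := fun h => sSup_le h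
  set R₀ := Subgroup.normalizer ((sSup D : Subgroup G) : Set G) with hR₀
  have hR₀top : R₀ ≠ ⊤ := by
    intro h
    have hJM : sSup D ≤ M := hJle fun B hB => hB.1.2
    haveI : (sSup D).Normal := Subgroup.normalizer_eq_top_iff.mp h
    exact hA (Subgroup.IsSubnormal.trans (le_sSup hAD)
      (hsn (sSup D) (le_sSup hAD) fun h' => hM.1 (top_le_iff.mp (h' ▸ hJM))) (Subgroup.Normal.isSubnormal inferInstance))
  have hgrow : ∀ M N : Subgroup G, IsCoatom M → IsCoatom N → A ≤ M → A ≤ N → M ≠ N → fam M ∩ fam N = D →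
      fam M ∩ fam N ≠ fam M := by
    intro M N hM hN hAM hAN hne hd heq
    -- then the join is normalized by all of `M`
    have hMle : M ≤ R₀ := by
      intro m hm
      rw [hR₀, Subgroup.mem_normalizer_iff_map_conj_eq]
      refine Subgroup.eq_of_le_of_card_ge ?_ (le_of_eq (Nat.card_congr
        ((sSup D).equivMapOfInjective _ (MulAut.conj m).injective).toEquiv))
      rw [Subgroup.map_le_iff_le_comap]
      refine sSup_le fun B hB => ?_
      rw [← Subgroup.map_le_iff_le_comap]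
      have hBM : B ∈ fam M := heq ▸ (hd.symm ▸ hB)
      have h2 : MulAut.conj m • B ∈ D := by
        rw [← hd, heq]; exact hfamc M B hBM m hm
      exact le_trans (le_of_eq rfl) (le_sSup h2)
    have hMR : R₀ = M := (hM.le_iff.mp hMle).resolve_left hR₀top
    by_cases heqN : fam M ∩ fam N = fam N
    · have hNle : N ≤ R₀ := by
        intro m hm
        rw [hR₀, Subgroup.mem_normalizer_iff_map_conj_eq]
        refine Subgroup.eq_of_le_of_card_ge ?_ (le_of_eq (Nat.card_congr
          ((sSup D).equivMapOfInjective _ (MulAut.conj m).injective).toEquiv))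
        rw [Subgroup.map_le_iff_le_comap]
        refine sSup_le fun B hB => ?_
        rw [← Subgroup.map_le_iff_le_comap]
        have hBN : B ∈ fam N := heqN ▸ (hd.symm ▸ hB)
        have h2 : MulAut.conj m • B ∈ D := by
          rw [← hd, heqN]; exact hfamc N B hBN m hm
        exact le_trans (le_of_eq rfl) (le_sSup h2)
      exact hne ((hN.le_iff.mp (hNle.trans_eq hMR)).resolve_left hM.1)
    · obtain ⟨Y, hY, hY0, hYn⟩ := exists_normalizing (fam N) D (fun U hU => hU.2) (hfam N hN) (hfamc N)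
        (hd ▸ lt_of_le_of_ne Set.inter_subset_right heqN)
      refine hY0 (hd ▸ ⟨⟨hY.1, ?_⟩, hY⟩)
      exact hMR ▸ hYn
  obtain ⟨X, hX, hX0, hXn⟩ := exists_normalizing (fam M) D (fun U hU => hU.2) (hfam M hM) (hfamc M)
    (lt_of_le_of_ne Set.inter_subset_left (hgrow M N hM hN hAM hAN hne rfl))
  obtain ⟨Y, hY, hY0, hYn⟩ := exists_normalizing (fam N) D (fun U hU => hU.2) (hfam N hN) (hfamc N)
    (lt_of_le_of_ne Set.inter_subset_right (fun h => hgrow N M hN hM hAN hAM (Ne.symm hne) (Set.inter_comm _ _) (by rw [Set.inter_comm]; exact h)))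
  obtain ⟨R, hR, hRle⟩ := (eq_top_or_exists_le_coatom R₀).resolve_left hR₀top
  have hDR : D ⊆ fam R := fun B hB => ⟨hB.1.1, ((le_sSup hB).trans Subgroup.le_normalizer).trans hRle⟩
  have hAR : A ≤ R := (hDR hAD).2
  by_cases hRM : R = M
  · refine hY0 ⟨⟨hY.1, ?_⟩, hY⟩
    exact hRM ▸ hYn.trans hRle
  · have h := hmax (M, R) ⟨hM, hR, hAM, hAR, Ne.symm hRM⟩
    refine absurd h (not_le.mpr (Set.ncard_lt_ncard ?_ (Set.toFinite _)))
    refine (Set.ssubset_iff_of_subset ?_).mpr ⟨X, ⟨hX, ⟨hX.1, hXn.trans hRle⟩⟩, hX0⟩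
    exact fun B hB => ⟨hB.1, hDR hB⟩

/-- The criterion, by induction on the order. -/
theorem criterion.{w} : ∀ n : ℕ, ∀ (G : Type w) [Group G] [Finite G], Nat.card G ≤ n → ∀ A : Subgroup G,
    (∀ g : G, (A.subgroupOf (A ⊔ MulAut.conj g • A)).IsSubnormal) → A.IsSubnormal := by
  intro n
  induction n with
  | zero => exact fun G _ _ h => absurd h (by have := Nat.card_pos (α := G); omega)
  | succ n ih =>
    intro G _ _ hn A h
    by_contra hA
    have hsn : ∀ M : Subgroup G, A ≤ M → M ≠ ⊤ → (A.subgroupOf M).IsSubnormal := by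
      intro M hAM hM
      have hlt : Nat.card M < Nat.card G := lt_of_le_of_ne (Subgroup.card_le_card_group M) fun e => hM (Subgroup.eq_top_of_card_eq M e)
      refine ih M (by omega) (A.subgroupOf M) fun g => ?_
      set B := A.subgroupOf M ⊔ MulAut.conj g • A.subgroupOf M with hB
      have hle : B.map M.subtype ≤ A ⊔ MulAut.conj (g : G) • A := by
        rw [Subgroup.map_le_iff_le_comap, hB]
        refine sup_le (fun x hx => Subgroup.mem_sup_left hx) fun x hx => ?_
        rw [mem_conj_smul, Subgroup.mem_subgroupOf] at hx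
        exact Subgroup.mem_sup_right (mem_conj_smul.mpr (by simpa using hx))
      exact (h g).comap (⟨⟨fun x => ⟨((x : M) : G), hle (Subgroup.mem_map_of_mem _ x.2)⟩, rfl⟩, fun _ _ => rfl⟩ :
        B →* (A ⊔ MulAut.conj (g : G) • A : Subgroup G))
    by_cases hAtop : A = ⊤
    · exact hA (hAtop ▸ Subgroup.IsSubnormal.top)
    obtain ⟨M, hM, hAM⟩ := (eq_top_or_exists_le_coatom A).resolve_left hAtop
    have huniq := zipper A hsn hA
    have hconjM : ∀ g : G, MulAut.conj g • A ≤ M := by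
      intro g
      rcases eq_top_or_exists_le_coatom (A ⊔ MulAut.conj g • A) with e | ⟨N, hN, hle⟩
      · exfalso
        refine hA (Subgroup.IsSubnormal.trans le_sup_left (h g) ?_)
        rw [e]; exact Subgroup.IsSubnormal.top
      · rw [huniq M N hM hN hAM (le_sup_left.trans hle)]
        exact le_sup_right.trans hle
    have hW : Subgroup.normalClosure (A : Set G) ≤ M := by
      rw [Subgroup.normalClosure, Subgroup.closure_le]
      intro x hx
      obtain ⟨a, ha, hax⟩ := Group.mem_conjugatesOfSet_iff.mp hx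
      obtain ⟨c, rfl⟩ := isConj_iff.mp hax
      exact hconjM c (mem_conj_smul.mpr (by simpa [mul_assoc] using ha))
    refine hA (Subgroup.IsSubnormal.trans (Subgroup.subset_normalClosure (s := (A : Set G))) ?_ (Subgroup.Normal.isSubnormal inferInstance))
    exact hsn _ Subgroup.subset_normalClosure fun e => hM.1 (top_le_iff.mp (e ▸ hW))


/-- Wielandt's subnormality criterion: a subgroup that is subnormal in its join with each of its conjugates is subnormal in the whole finite group. -/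
theorem result {G : Type*} [Group G] [Finite G] (A : Subgroup G)
    (h : ∀ g : G, (A.subgroupOf (A ⊔ MulAut.conj g • A)).IsSubnormal) : A.IsSubnormal := by
  exact criterion _ G le_rfl A h
end Cfsg.Agent.S0066
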