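import Cfsg.Statements.S0067
import Cfsg.Agent.Lib.Baer.Basic
import Cfsg.Agent.Lib.Fitting.Basic
import Cfsg.Agent.Lib.Subnormal.Basic

set_option autoImplicit false
set_option linter.style.haveILetI false
open Pointwise
open Cfsg
open scoped Pointwise

namespace Cfsg.Agent.S0067

/-- In a finite nilpotent group the join of two p-subgroups is a p-group. -/
theorem isPGroup_sup {N : Type*} [Group N] [Finite N] [Group.IsNilpotent N] {p : ℕ} [Fact p.Prime]
    {X Y : Subgroup N} (hX : IsPGroup p X) (hY : IsPGroup p Y) : IsPGroup p (X ⊔ Y : Subgroup N) := by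
  obtain ⟨P, hP⟩ := hX.exists_le_sylow
  obtain ⟨Q, hQ⟩ := hY.exists_le_sylow
  haveI : ((P : Subgroup N)).Normal := ((Group.isNilpotent_of_finite_tfae (G := N)).out 0 3 : Group.IsNilpotent N ↔ ∀ (p : ℕ) (_hp : Fact p.Prime) (P : Sylow p N), (P : Subgroup N).Normal).mp inferInstance p inferInstance P
  haveI := Sylow.unique_of_normal P inferInstance
  rw [Subsingleton.elim Q P] at hQ
  exact P.2.to_le (sup_le hP hQ)

/-- If the join of a subgroup A with each of its conjugates is nilpotent, then A is subnormal in the finite group and contained in the Fitting subgroup. -/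
theorem result {G : Type*} [Group G] [Finite G] (A : Subgroup G)
    (h : ∀ g : G, Group.IsNilpotent (A ⊔ MulAut.conj g • A : Subgroup G)) : A.IsSubnormal ∧ A ≤ Cfsg.fittingSubgroup G := by
  have hA : Group.IsNilpotent A := by
    have h1 := h 1
    rw [map_one, one_smul, sup_idem] at h1
    exact h1
  haveI := CfsgLib.Fitting.fittingSubgroup_normal (G := G)
  haveI := CfsgLib.Fitting.fittingSubgroup_isNilpotent (G := G)
  have hle : A ≤ Cfsg.fittingSubgroup G := by
    rw [← Subgroup.subgroupOf_eq_top, ← Subgroup.index_eq_one]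
    by_contra hne
    obtain ⟨p, hp, hdvd⟩ := Nat.exists_prime_and_dvd hne
    haveI : Fact p.Prime := ⟨hp⟩
    obtain ⟨P⟩ := (inferInstance : Nonempty (Sylow p A))
    have hPle : (P : Subgroup A) ≤ (Cfsg.fittingSubgroup G).subgroupOf A := by
      set X : Subgroup G := (P : Subgroup A).map A.subtype with hX
      have hXA : X ≤ A := Subgroup.map_subtype_le _
      have hXp : IsPGroup p X := P.2.map _
      obtain ⟨N, hN, hNp, hXN⟩ := CfsgLib.Baer.baer_suzuki X hXp fun g => by
        haveI := h g
        set B : Subgroup G := A ⊔ MulAut.conj g • A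
        have hXg : X.map (MulAut.conj g).toMonoidHom ≤ B :=
          le_trans (Subgroup.map_mono hXA) le_sup_right
        have hXB : X ≤ B := hXA.trans le_sup_left
        have h2 := isPGroup_sup (hXp.of_equiv (Subgroup.subgroupOfEquivOfLe hXB).symm)
          ((hXp.map (MulAut.conj g).toMonoidHom).of_equiv (Subgroup.subgroupOfEquivOfLe hXg).symm)
        have h3 : X ⊔ X.map (MulAut.conj g).toMonoidHom =
            (X.subgroupOf B ⊔ (X.map (MulAut.conj g).toMonoidHom).subgroupOf B).map B.subtype := by
          rw [Subgroup.map_sup, Subgroup.map_subgroupOf_eq_of_le hXB,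
            Subgroup.map_subgroupOf_eq_of_le hXg]
        rw [h3]
        exact h2.map _
      intro x hx
      exact CfsgLib.Fitting.pCore_le_fittingSubgroup p
        (CfsgLib.Fitting.le_pCore hN hNp (hXN (Subgroup.mem_map_of_mem _ hx)))
    exact P.not_dvd_index (hdvd.trans (Subgroup.index_dvd_of_le hPle))
  exact ⟨Subgroup.IsSubnormal.trans hle (CfsgLib.Subnormal.isSubnormal_of_isNilpotent _)
    (Subgroup.Normal.isSubnormal inferInstance), hle⟩

end Cfsg.Agent.S0067
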