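import Cfsg.Statements.S0584
import Mathlib

set_option autoImplicit false
set_option linter.style.haveILetI false
open Cfsg

namespace Cfsg.Agent.S0584

/-- Let B ≤ A be normal subgroups of a finite group G with B contained in the Frattini subgroup of G. If A modulo B is nilpotent then A is nilpotent. -/
theorem result {G : Type*} [Group G] [Finite G] (A B : Subgroup G) [A.Normal] [B.Normal] (hBA : B ≤ A) (hB : B ≤ frattini G) (h : Group.IsNilpotent (↥A ⧸ B.subgroupOf A)) : Group.IsNilpotent A := by
  classical
  refine ((Group.isNilpotent_of_finite_tfae (G := A)).out 0 3).mpr fun p hp P => ?_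
  haveI := hp
  set f := QuotientGroup.mk' B
  have hf : Function.Surjective f := QuotientGroup.mk'_surjective B
  set Ab := A.map f with hAb
  haveI : Ab.Normal := Subgroup.Normal.map inferInstance f hf
  set g := f.subgroupMap A
  have hg : Function.Surjective g := f.subgroupMap_surjective A
  haveI := h
  let ψ : A ⧸ B.subgroupOf A →* Ab := QuotientGroup.lift _ g fun x hx => by
    rw [MonoidHom.mem_ker]
    apply Subtype.ext
    show f (x : G) = 1
    exact (QuotientGroup.eq_one_iff _).mpr hx
  haveI : Group.IsNilpotent Ab := Group.nilpotent_of_surjective ψ fun y => by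
    obtain ⟨x, rfl⟩ := hg y
    exact ⟨QuotientGroup.mk x, rfl⟩
  let Q : Sylow p Ab := P.mapSurjective (f := g) hg
  haveI : (Q : Subgroup Ab).Characteristic := Sylow.characteristic_of_normal Q inferInstance
  haveI hQn : ((Q : Subgroup Ab).map Ab.subtype).Normal := ConjAct.normal_of_characteristic_of_normal
  set P' := (P : Subgroup A).map A.subtype with hP'
  have hPQ : (Q : Subgroup Ab).map Ab.subtype = P'.map f := by
    show ((P : Subgroup A).map g).map Ab.subtype = _
    rw [Subgroup.map_map, hP', Subgroup.map_map]
    rfl
  set K := (P'.map f).comap f with hK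
  haveI : K.Normal := by rw [hK, ← hPQ]; exact hQn.comap f
  have hKeq : K = P' ⊔ B := by rw [hK, Subgroup.comap_map_eq, QuotientGroup.ker_mk']
  have hP'K : P' ≤ K := hKeq ▸ le_sup_left
  have hKA : K ≤ A := hKeq ▸ sup_le (Subgroup.map_subtype_le _) hBA
  have hnd : ¬ p ∣ P'.relIndex A := by
    have e : P'.relIndex A = (P : Subgroup A).index := by
      rw [Subgroup.relIndex, Subgroup.subgroupOf, hP',
        Subgroup.comap_map_eq_self_of_injective A.subtype_injective]
    rw [e]
    exact P.not_dvd_index
  let PK : Sylow p K := IsPGroup.toSylow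
    (show IsPGroup p (P'.subgroupOf K) from
      (P.2.map A.subtype).of_equiv (Subgroup.subgroupOfEquivOfLe hP'K).symm)
    (fun hd => hnd (hd.trans (Dvd.intro _ (Subgroup.relIndex_mul_relIndex P' K A hP'K hKA))))
  have harg := Sylow.normalizer_sup_eq_top PK
  have hPKmap : ((PK : Subgroup K).map K.subtype) = P' := Subgroup.map_subgroupOf_eq_of_le hP'K
  rw [hPKmap] at harg
  have htop : Subgroup.normalizer (P' : Set G) = ⊤ := by
    refine frattini_nongenerating ?_
    rw [eq_top_iff, ← harg]
    refine sup_le le_sup_left ?_
    rw [hKeq]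
    exact sup_le (Subgroup.le_normalizer.trans le_sup_left) (hB.trans le_sup_right)
  haveI := Subgroup.normalizer_eq_top_iff.mp htop
  have hPeq : (P : Subgroup A) = P'.subgroupOf A :=
    (Subgroup.comap_map_eq_self_of_injective A.subtype_injective _).symm
  rw [hPeq]
  infer_instance

end Cfsg.Agent.S0584
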