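import Cfsg.Statements.S0070
import Mathlib
import Cfsg.Agent.Lib.Fitting.Basic
import Cfsg.Agent.S0584

set_option autoImplicit false
set_option linter.style.haveILetI false
open Cfsg

namespace Cfsg.Agent.S0070

/-- The Fitting subgroup commutes with passing to the Frattini quotient: the Fitting subgroup of G modulo its Frattini subgroup is the image of the Fitting subgroup of G. -/
theorem result {G : Type*} [Group G] [Finite G] :
    Cfsg.fittingSubgroup (G ⧸ frattini G) = (Cfsg.fittingSubgroup G).map (QuotientGroup.mk' (frattini G)) := by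
  haveI := CfsgLib.Fitting.fittingSubgroup_normal (G := G)
  haveI := CfsgLib.Fitting.fittingSubgroup_isNilpotent (G := G)
  set f := QuotientGroup.mk' (frattini G)
  have hf : Function.Surjective f := QuotientGroup.mk'_surjective _
  refine le_antisymm ?_ (CfsgLib.Fitting.le_fittingSubgroup (Subgroup.Normal.map inferInstance f hf)
    (Group.nilpotent_of_surjective (f.subgroupMap _) (f.subgroupMap_surjective _)))
  haveI := CfsgLib.Fitting.fittingSubgroup_normal (G := G ⧸ frattini G)
  haveI := CfsgLib.Fitting.fittingSubgroup_isNilpotent (G := G ⧸ frattini G)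
  set W := Cfsg.fittingSubgroup (G ⧸ frattini G)
  set A := W.comap f
  have hker : frattini G ≤ A := by
    conv_lhs => rw [← QuotientGroup.ker_mk' (frattini G)]
    exact Subgroup.ker_le_comap _ _
  let g : A ⧸ (frattini G).subgroupOf A →* W := QuotientGroup.lift _ (f.subgroupComap W) fun x hx => by
    rw [MonoidHom.mem_ker]
    exact Subtype.ext ((QuotientGroup.eq_one_iff (x : G)).mpr hx)
  have hnA : Group.IsNilpotent (A ⧸ (frattini G).subgroupOf A) := by
    refine Subgroup.isNilpotent_of_ker_le_center g (fun q hq => ?_)
    obtain ⟨x, rfl⟩ := QuotientGroup.mk_surjective q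
    have hx : f (x : G) = 1 := congrArg Subtype.val hq
    rw [show (x : A ⧸ (frattini G).subgroupOf A) = 1 from
      (QuotientGroup.eq_one_iff x).mpr ((QuotientGroup.eq_one_iff (x : G)).mp hx)]
    exact one_mem _
  have hA : Group.IsNilpotent A := Cfsg.Agent.S0584.result A (frattini G) hker le_rfl hnA
  rw [← Subgroup.map_comap_eq_self_of_surjective hf W]
  exact Subgroup.map_mono (CfsgLib.Fitting.le_fittingSubgroup inferInstance hA)

end Cfsg.Agent.S0070
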