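import Cfsg.Statements.S0073
import Mathlib
import Cfsg.Agent.Lib.Transfer.AbelianHall

set_option autoImplicit false
set_option linter.style.haveILetI false
open Cfsg

namespace Cfsg.Agent.S0073

/-- For a finite non-abelian simple group, either the cube of the least prime divisor of the order divides the order, or 12 does. -/
theorem result {G : Type*} [Group G] [Finite G] [IsSimpleGroup G] (hG : ∃ x y : G, x * y ≠ y * x) : (Nat.card G).minFac ^ 3 ∣ Nat.card G ∨ 12 ∣ Nat.card G := by
  set p := (Nat.card G).minFac with hpdef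
  obtain ⟨x, y, hxy⟩ := hG
  haveI : Nontrivial G := ⟨x, y, fun e => hxy (by rw [e])⟩
  haveI : Fact p.Prime := ⟨Nat.minFac_prime (Finite.one_lt_card (α := G)).ne'⟩
  have hp : p.Prime := Fact.out
  by_contra hcon
  push Not at hcon
  obtain ⟨hc3, h12⟩ := hcon
  obtain ⟨P⟩ := (inferInstance : Nonempty (Sylow p G))
  obtain ⟨e, he⟩ := IsPGroup.iff_card.mp P.2
  have hdvd : Nat.card (P : Subgroup G) ∣ Nat.card G := Subgroup.card_subgroup_dvd_card _
  have hpos : p ∣ Nat.card G := Nat.minFac_dvd _
  have he2 : e ≤ 2 := by
    by_contra h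
    exact hc3 ((pow_dvd_pow p (show 3 ≤ e by omega)).trans (he ▸ hdvd))
  have he0 : e ≠ 0 := by
    intro h
    rw [h, pow_zero] at he
    exact P.not_dvd_index (by
      have := (P : Subgroup G).card_mul_index
      rw [he, one_mul] at this
      rwa [this])
  have he1 : 1 ≤ e := Nat.one_le_iff_ne_zero.mpr he0
  have hcomm : IsMulCommutative (P : Subgroup G) := by
    interval_cases e
    · rw [pow_one] at he
      haveI := isCyclic_of_prime_card he
      exact IsCyclic.isMulCommutative
    · exact ⟨⟨IsPGroup.commutative_of_card_eq_prime_sq he⟩⟩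
  have hNC := CfsgLib.Transfer.normalizer_le_centralizer_of_orbit P hcomm fun q hq hqp hqG c hct hdq => by
    have hle : p ≤ q := Nat.minFac_le_of_dvd hq.two_le hqG
    have hlt : p < q := lt_of_le_of_ne hle (Ne.symm hqp)
    obtain ⟨j, hj, hjc⟩ := (Nat.dvd_prime_pow hp).mp (he ▸ Subgroup.card_subgroup_dvd_card c)
    have hje : j < e := lt_of_le_of_ne hj fun h => hct (Subgroup.eq_top_of_card_eq c (by rw [hjc, h, he]))
    rw [he, hjc] at hdq
    have hq1 : q ∣ p - 1 ∨ q ∣ p + 1 := by
      interval_cases e <;> interval_cases j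
      · simp only [pow_zero, pow_one] at hdq; exact Or.inl hdq
      · rw [pow_zero, show p ^ 2 - 1 = (p + 1) * (p - 1) by
          rw [← Nat.sq_sub_sq p 1, one_pow]] at hdq
        exact ((Nat.Prime.dvd_mul hq).mp hdq).symm
      · rw [pow_one, show p ^ 2 - p = p * (p - 1) by rw [Nat.mul_sub, mul_one, sq]] at hdq
        rcases (Nat.Prime.dvd_mul hq).mp hdq with h | h
        · exact absurd ((Nat.prime_dvd_prime_iff_eq hq hp).mp h) hqp
        · exact Or.inl h
    rcases hq1 with h | h
    · have := Nat.le_of_dvd (by have := hp.two_le; omega) h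
      omega
    · have hq' : q = p + 1 := by
        have := Nat.le_of_dvd (by omega) h
        omega
      have hp2 : p = 2 := by
        rcases hp.eq_two_or_odd' with h2 | h2
        · exact h2
        · exfalso
          have heven : 2 ∣ q := by rw [hq']; obtain ⟨k, hk⟩ := h2; omega
          have := (Nat.prime_dvd_prime_iff_eq Nat.prime_two hq).mp heven
          have := hp.two_le
          omega
      have he4 : e = 2 := by
        rcases (show e = 1 ∨ e = 2 by omega) with e1 | e1
        · exfalso
          subst e1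
          obtain rfl : j = 0 := by omega
          rw [hp2] at hdq
          have := Nat.le_of_dvd (by norm_num) hdq
          omega
        · exact e1
      refine h12 (Nat.Coprime.mul_dvd_of_dvd_of_dvd (show Nat.Coprime 4 3 by norm_num) ?_ ?_)
      · rw [show (4 : ℕ) = p ^ e by rw [hp2, he4]; norm_num]
        exact he ▸ hdvd
      · rwa [show (3 : ℕ) = q by omega]
  obtain ⟨Q, N, hN, hc⟩ := CfsgLib.Transfer.hasNormalPComplement_of_normalizer_le_centralizer P hNC
  rcases hN.eq_bot_or_eq_top with h | h
  · rw [h] at hc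
    have htop : (Q : Subgroup G) = ⊤ := Subgroup.isComplement'_bot_left.mp hc
    have hGp : IsPGroup p G := (IsPGroup.of_equiv (htop ▸ Q.2 : IsPGroup p (⊤ : Subgroup G)) Subgroup.topEquiv)
    haveI := hGp.center_nontrivial
    rcases Subgroup.Normal.eq_bot_or_eq_top (H := Subgroup.center G) inferInstance with hz | hz
    · exact absurd hz ((Subgroup.nontrivial_iff_ne_bot _).mp inferInstance)
    · exact hxy (Subgroup.mem_center_iff.mp (hz ▸ Subgroup.mem_top y) x)
  · rw [h] at hc
    have hbot : (Q : Subgroup G) = ⊥ := Subgroup.isComplement'_top_left.mp hc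
    refine Q.not_dvd_index ?_
    rw [hbot, Subgroup.index_bot]
    exact hpos

end Cfsg.Agent.S0073
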