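import Cfsg.Statements.S0075
import Mathlib
import Cfsg.Agent.Lib.Transfer.AbelianHall

set_option autoImplicit false
set_option linter.style.haveILetI false
open Cfsg

namespace Cfsg.Agent.S0075

open scoped IsMulCommutative commutatorElement

theorem inf_residual {G : Type*} [Group G] [Finite G] {p : ℕ} [Fact p.Prime] (T : Sylow p G)
    (hT : IsMulCommutative T) :
    (T : Subgroup G) ⊓ Cfsg.pResidual p G = ⁅(T : Subgroup G), Subgroup.normalizer (T : Set G)⁆ := by
  haveI : IsMulCommutative (T : Subgroup G) := hT
  haveI := CfsgLib.Transfer.pResidual_normal p G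
  set N := Subgroup.normalizer ((T : Subgroup G) : Set G)
  have hle : ⁅(T : Subgroup G), N⁆ ≤ (T : Subgroup G) := by
    rw [Subgroup.commutator_le]
    intro a ha n hn
    rw [show ⁅a, n⁆ = a * (n * a⁻¹ * n⁻¹) by rw [commutatorElement_def]; group]
    exact mul_mem ha ((Subgroup.mem_normalizer_iff.mp hn _).mp (inv_mem ha))
  apply le_antisymm
  · rintro x ⟨hxT, hxR⟩
    set K := (⁅(T : Subgroup G), N⁆).subgroupOf (T : Subgroup G) with hK
    have hHall : (Nat.card (T : Subgroup G)).Coprime (T : Subgroup G).index := T.card_coprime_index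
    have hkey : ∀ (y : (T : Subgroup G)) (a : G) (h : a⁻¹ * (y : G) * a ∈ (T : Subgroup G)),
        QuotientGroup.mk' K ⟨_, h⟩ = QuotientGroup.mk' K y := by
      intro y a h
      obtain ⟨n, hn, hne⟩ := CfsgLib.Transfer.exists_normalizer_conj_of_isMulCommutative T hT y.2 a⁻¹
        (by simpa using h)
      symm
      rw [QuotientGroup.mk'_apply, QuotientGroup.mk'_apply, QuotientGroup.eq, hK, Subgroup.mem_subgroupOf]
      show (y : G)⁻¹ * (a⁻¹ * (y : G) * a) ∈ _
      rw [show a⁻¹ * (y : G) * a = n * (y : G) * n⁻¹ by simpa using hne.symm,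
        show (y : G)⁻¹ * (n * (y : G) * n⁻¹) = ⁅(y : G)⁻¹, n⁆ by rw [commutatorElement_def]; group]
      exact Subgroup.commutator_mem_commutator (inv_mem y.2) hn
    have hker : Cfsg.pResidual p G ≤ (MonoidHom.transfer (QuotientGroup.mk' K)).ker :=
      CfsgLib.Transfer.le_ker_of_isPGroup (T.2.to_quotient K) _
    have h3 := CfsgLib.Transfer.map_eq_one_of_hall hT hHall (QuotientGroup.mk' K) hkey hker
      (x := ⟨x, hxT⟩) hxR
    rw [QuotientGroup.mk'_apply, QuotientGroup.eq_one_iff, hK, Subgroup.mem_subgroupOf] at h3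
    exact h3
  · refine le_inf hle ?_
    have hcomm : commutator G ≤ Cfsg.pResidual p G := by
      rw [← QuotientGroup.ker_mk' (Cfsg.pResidual p G), commutator_def, Subgroup.commutator_le]
      intro a _ b _
      rw [MonoidHom.mem_ker, map_commutatorElement, commutatorElement_eq_one_iff_commute]
      have hs : ∀ g : G, ∃ t : (T : Subgroup G),
          QuotientGroup.mk' (Cfsg.pResidual p G) g = QuotientGroup.mk' (Cfsg.pResidual p G) t := by
        intro g
        have hg : g ∈ (T : Subgroup G) ⊔ Cfsg.pResidual p G := by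
          rw [CfsgLib.Transfer.sylow_sup_pResidual T]; exact Subgroup.mem_top g
        obtain ⟨t, ht, r, hr, rfl⟩ := Subgroup.mem_sup_of_normal_right.mp hg
        exact ⟨⟨t, ht⟩, by rw [map_mul, show QuotientGroup.mk' (Cfsg.pResidual p G) r = 1 from
          (QuotientGroup.eq_one_iff r).mpr hr, mul_one]⟩
      obtain ⟨s, hs'⟩ := hs a
      obtain ⟨t, ht'⟩ := hs b
      rw [hs', ht']
      exact (show Commute (s : G) (t : G) from congrArg Subtype.val (mul_comm' s t)).map _
    exact le_trans (by rw [commutator_def]; exact Subgroup.commutator_mono le_top le_top) hcomm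

/-- For an abelian Sylow p-subgroup T, its intersection with the subgroup generated by the elements of order prime to p is the commutator of T with its normalizer. -/
theorem result {G : Type*} [Group G] [Finite G] {p : ℕ} [Fact p.Prime] (T : Sylow p G) (hT : IsMulCommutative T) : (T : Subgroup G) ⊓ Cfsg.pResidual p G = ⁅(T : Subgroup G), Subgroup.normalizer (T : Set G)⁆ := by
  exact inf_residual T hT

end Cfsg.Agent.S0075
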