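import Cfsg.Statements.S0078
import Cfsg.Agent.Lib.Transfer.Gruen
import Cfsg.Agent.Lib.Transfer.HallWielandt
import Cfsg.Agent.Lib.Coprime.Action
import Cfsg.Agent.Lib.Transfer.ThompsonComplement

set_option autoImplicit false
open Cfsg

namespace Cfsg.Agent.S0078

/-- In a p-normal group, a Sylow p-subgroup P meets O^p(G) exactly where it meets O^p(V), for any subgroup V containing the normalizer of the centre of P. -/
theorem result {G : Type*} [Group G] [Finite G] {p : ℕ} [Fact p.Prime] (P : Sylow p G) (hn : ∀ Q : Sylow p G, (P : Subgroup G) ⊓ Subgroup.centralizer (P : Set G) ≤ (Q : Subgroup G) → (Q : Subgroup G) ⊓ Subgroup.centralizer (Q : Set G) = (P : Subgroup G) ⊓ Subgroup.centralizer (P : Set G)) (V : Subgroup G) (hV : Subgroup.normalizer (((P : Subgroup G) ⊓ Subgroup.centralizer (P : Set G) : Subgroup G) : Set G) ≤ V) : (P : Subgroup G) ⊓ Cfsg.pResidual p G = (P : Subgroup G) ⊓ (Cfsg.pResidual p V).map V.subtype := by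
  set Z := (P : Subgroup G) ⊓ Subgroup.centralizer ((P : Subgroup G) : Set G) with hZdef
  have hzo : ∀ (g : G) (H : Subgroup G), ((H ⊓ Subgroup.centralizer (H : Set G)).map
      (MulAut.conj g).toMonoidHom) = H.map (MulAut.conj g).toMonoidHom ⊓
        Subgroup.centralizer ((H.map (MulAut.conj g).toMonoidHom : Subgroup G) : Set G) :=
    fun g H => CfsgLib.Transfer.map_centerOf _ (MulAut.conj g).injective.injOn
  have hNP : Subgroup.normalizer ((P : Subgroup G) : Set G) ≤ Subgroup.normalizer (Z : Set G) :=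
    CfsgLib.Coprime.le_normalizer_inf_of_le le_rfl (CfsgLib.Coprime.le_normalizer_centralizer le_rfl)
  have hPV : (P : Subgroup G) ≤ V := (Subgroup.le_normalizer.trans hNP).trans hV
  have hfoc : (P : Subgroup G) ⊓ commutator G ≤ ⁅V, V⁆ := by
    rw [CfsgLib.Transfer.inf_commutator_eq_gruenSub P]
    refine sup_le (inf_le_right.trans (Subgroup.commutator_mono (hNP.trans hV) (hNP.trans hV)))
      (iSup_le fun z => ?_)
    intro x hx
    obtain ⟨hxP, hxz⟩ := Subgroup.mem_inf.mp hx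
    obtain ⟨y, hy, hyx⟩ := hxz
    replace hyx : z * y * z⁻¹ = x := hyx
    have hyP : y ∈ (P : Subgroup G) := Subgroup.commutator_le_self _ hy
    set C := Subgroup.centralizer ({x} : Set G) with hC
    set Z' := Z.map (MulAut.conj z).toMonoidHom with hZ'
    have hZC : Z ≤ C := fun u hu => Subgroup.mem_centralizer_singleton_iff.mpr
      ((Subgroup.mem_inf.mp hu).2 x hxP).symm
    have hZ'C : Z' ≤ C := by
      rintro _ ⟨u, hu, rfl⟩
      refine Subgroup.mem_centralizer_singleton_iff.mpr ?_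
      show z * u * z⁻¹ * x = x * (z * u * z⁻¹)
      have h1 : y * u = u * y := (Subgroup.mem_inf.mp hu).2 y hyP
      rw [← hyx, show z * u * z⁻¹ * (z * y * z⁻¹) = z * (u * y) * z⁻¹ by group, ← h1]
      group
    obtain ⟨R, hR⟩ := ((P.2.to_le inf_le_left : IsPGroup p Z).comap_of_injective C.subtype
      C.subtype_injective).exists_le_sylow
    obtain ⟨c, hc⟩ := CfsgLib.Transfer.exists_map_conj_le_sylow
      ((((P.2.to_le inf_le_left : IsPGroup p Z).map (MulAut.conj z).toMonoidHom) :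
        IsPGroup p Z').comap_of_injective C.subtype C.subtype_injective) R
    obtain ⟨Q, hQ⟩ := (R.2.map C.subtype).exists_le_sylow
    have hZQ : Z ≤ (Q : Subgroup G) := fun u hu => hQ ⟨⟨u, hZC hu⟩, hR hu, rfl⟩
    set w := (c : G) * z with hw
    have hwQ : ∀ u ∈ Z, w * u * w⁻¹ ∈ (Q : Subgroup G) := fun u hu => by
      have h1 : z * u * z⁻¹ ∈ Z' := ⟨u, hu, rfl⟩
      refine hQ ⟨c * ⟨_, hZ'C h1⟩ * c⁻¹, hc ⟨⟨_, hZ'C h1⟩, h1, rfl⟩, ?_⟩
      show (c : G) * (z * u * z⁻¹) * (c : G)⁻¹ = w * u * w⁻¹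
      rw [hw]; group
    have hQc : (Q : Subgroup G) ⊓ Subgroup.centralizer ((Q : Subgroup G) : Set G) = Z := hn Q hZQ
    obtain ⟨Q', hQ'⟩ : ∃ Q' : Sylow p G,
        (Q' : Subgroup G) = (Q : Subgroup G).map (MulAut.conj w⁻¹).toMonoidHom :=
      ⟨w⁻¹ • Q, CfsgLib.Transfer.smul_sylow_coe w⁻¹ Q⟩
    have hZQ' : Z ≤ (Q' : Subgroup G) := fun u hu => hQ'.ge ⟨w * u * w⁻¹, hwQ u hu, by simp [mul_assoc]⟩
    have hQ'c : (Q' : Subgroup G) ⊓ Subgroup.centralizer ((Q' : Subgroup G) : Set G) = Z := hn Q' hZQ'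
    rw [hQ', ← hzo, hQc] at hQ'c
    have hwN : w ∈ Subgroup.normalizer (Z : Set G) := by
      rw [← inv_mem_iff]
      exact CfsgLib.Transfer.map_conj_eq_self_iff.mp hQ'c
    have hcx : (c : G) * x * (c : G)⁻¹ = x := by
      rw [mul_inv_eq_iff_eq_mul]
      exact Subgroup.mem_centralizer_singleton_iff.mp c.2
    have hyV : y ∈ ⁅V, V⁆ := Subgroup.commutator_mono hPV hPV hy
    rw [show x = w * y * w⁻¹ by rw [← hcx, ← hyx, hw]; group]
    have hwV : w ∈ V := hV hwN
    have h2 : (⁅V, V⁆).map (MulAut.conj w).toMonoidHom ≤ ⁅V, V⁆ := by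
      rw [Subgroup.map_commutator]
      have h3 : V.map (MulAut.conj w).toMonoidHom ≤ V := by
        rintro _ ⟨v, hv, rfl⟩
        exact mul_mem (mul_mem hwV hv) (inv_mem hwV)
      exact Subgroup.commutator_mono h3 h3
    exact h2 ⟨y, hyV, rfl⟩
  rw [show (Cfsg.pResidual p V).map V.subtype = Cfsg.pResidualOf p V from rfl,
    CfsgLib.Transfer.pResidualOf_eq_of_focal P hPV hfoc, ← inf_assoc, inf_right_comm,
    inf_eq_left.mpr hPV]

end Cfsg.Agent.S0078
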