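import Cfsg.Statements.S0079
import Cfsg.Agent.Lib.Transfer.Hall

set_option autoImplicit false
set_option linter.style.haveILetI false
set_option linter.unusedVariables false
open Cfsg

namespace Cfsg.Agent.S0079

/-- A nilpotent Hall subgroup has a normal complement exactly when elements of it that are conjugate in the whole group are already conjugate inside it. -/
theorem result {G : Type*} [Group G] [Finite G] (H : Subgroup G) (hH : Group.IsNilpotent H) (hHall : Nat.Coprime (Nat.card H) H.index) : (∃ N : Subgroup G, N.Normal ∧ N.IsComplement' H) ↔ ∀ x ∈ H, ∀ y ∈ H, (∃ g : G, g * x * g⁻¹ = y) → ∃ h ∈ H, h * x * h⁻¹ = y := by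
  constructor
  · rintro ⟨N, hN, hc⟩ x hx y hy ⟨g, hg⟩
    obtain ⟨⟨⟨n, hn⟩, ⟨h, hh⟩⟩, hnh, -⟩ := hc.existsUnique g
    refine ⟨h, hh, ?_⟩
    change n * h = g at hnh
    set x' := h * x * h⁻¹ with hx'
    have hx'H : x' ∈ H := H.mul_mem (H.mul_mem hh hx) (H.inv_mem hh)
    have hyn : y = n * x' * n⁻¹ := by rw [← hg, ← hnh, hx']; group
    have hyx : y * x'⁻¹ = 1 := by
      have h1 : y * x'⁻¹ ∈ N := by
        have h2 := N.mul_mem hn (hN.conj_mem _ (N.inv_mem hn) x')
        rw [hyn]
        simpa [mul_assoc] using h2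
      exact Subgroup.disjoint_def.mp hc.disjoint h1 (H.mul_mem hy (H.inv_mem hx'H))
    exact (mul_inv_eq_one.mp hyx).symm
  · intro h
    haveI := hH
    refine CfsgLib.Transfer.exists_normal_complement_of_no_fusion H hHall fun x hx g hg => ?_
    exact h x hx _ hg ⟨g, rfl⟩

end Cfsg.Agent.S0079
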