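import Cfsg.Statements.S0082
import Mathlib
import Cfsg.Agent.Lib.Transfer.Cyclic
import Cfsg.Agent.Lib.Transfer.Basic

set_option autoImplicit false
set_option linter.style.haveILetI false
set_option linter.unusedVariables false
open Cfsg

namespace Cfsg.Agent.S0082

/-- With a cyclic Sylow p-subgroup, either there is a normal p-complement or the elements of order prime to p generate the whole group. -/
theorem result {G : Type*} [Group G] [Finite G] {p : ℕ} [Fact p.Prime] (P : Sylow p G) (hP : IsCyclic P) : Cfsg.HasNormalPComplement p G ∨ Cfsg.pResidual p G = ⊤ := by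
  by_cases hK : Cfsg.pResidual p G = ⊤
  · exact Or.inr hK
  refine Or.inl (CfsgLib.Transfer.hasNormalPComplement_of_normalizer_le_centralizer P ?_)
  obtain ⟨t, ht⟩ := CfsgLib.Transfer.exists_zpowers_eq_of_isCyclic (P : Subgroup G) hP
  refine CfsgLib.Transfer.normalizer_le_centralizer_of_zpow P ht fun g hg hgc r hr => ?_
  by_contra hd
  refine hK (top_le_iff.mp ?_)
  haveI := CfsgLib.Transfer.pResidual_normal p G
  rw [← CfsgLib.Transfer.sylow_sup_pResidual P, sup_le_iff, ht, Subgroup.zpowers_le]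
  refine ⟨?_, le_rfl⟩
  have hgK := CfsgLib.Transfer.mem_pResidual_of_coprime hgc
  have h1 : t ^ (r - 1) ∈ Cfsg.pResidual p G := by
    rw [zpow_sub_one, ← hr, show g * t * g⁻¹ * t⁻¹ = g * (t * g⁻¹ * t⁻¹) by group]
    exact Subgroup.mul_mem _ hgK (Subgroup.Normal.conj_mem inferInstance _ (Subgroup.inv_mem _ hgK) t)
  obtain ⟨k, hk⟩ := P.2 ⟨t, ht ▸ Subgroup.mem_zpowers t⟩
  have hk' : t ^ ((p : ℤ) ^ k) = 1 := by
    rw [← Nat.cast_pow, zpow_natCast]; simpa using congrArg Subtype.val hk
  have hcop : IsCoprime (r - 1) ((p : ℤ) ^ k) :=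
    ((Nat.prime_iff_prime_int.mp (Fact.out : p.Prime)).irreducible.coprime_iff_not_dvd.mpr hd).symm.pow_right
  obtain ⟨a, b, hab⟩ := hcop
  rw [← zpow_one t, ← hab, zpow_add, mul_comm a, mul_comm b, zpow_mul, zpow_mul, hk', one_zpow,
    mul_one]
  exact Subgroup.zpow_mem _ h1 a

end Cfsg.Agent.S0082
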