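import Cfsg.Statements.S0083
import Cfsg.Agent.Lib.Transfer.Focal

set_option autoImplicit false
set_option linter.style.haveILetI false
set_option linter.unusedVariables false
open Cfsg

namespace Cfsg.Agent.S0083

/-- For an abelian Sylow p-subgroup P, a normal p-complement exists exactly when the normalizer of P is an internal direct product of P with some subgroup. -/
theorem result {G : Type*} [Group G] [Finite G] {p : ℕ} [Fact p.Prime] (P : Sylow p G) (hP : IsMulCommutative P) : Cfsg.HasNormalPComplement p G ↔ ∃ Q : Subgroup G, Q ≤ Subgroup.centralizer (P : Set G) ∧ Q ⊓ (P : Subgroup G) = ⊥ ∧ Q ⊔ (P : Subgroup G) = Subgroup.normalizer (P : Set G) := by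
  constructor
  · intro h
    obtain ⟨N, hN, hc⟩ := (CfsgLib.Transfer.hasNormalPComplement_iff_forall_sylow P).mp h
    haveI := hN
    haveI := hP
    refine ⟨N ⊓ Subgroup.normalizer ((P : Subgroup G) : Set G), ?_, ?_, ?_⟩
    · intro x hx
      rw [Subgroup.mem_centralizer_iff]
      intro y hy
      obtain ⟨hxN, hxn⟩ := Subgroup.mem_inf.mp hx
      have h1 : x * y * x⁻¹ * y⁻¹ ∈ (P : Subgroup G) :=
        Subgroup.mul_mem _ ((Subgroup.mem_normalizer_iff.mp hxn y).mp hy) (Subgroup.inv_mem _ hy)
      have h2 : x * y * x⁻¹ * y⁻¹ ∈ N := by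
        have := N.mul_mem hxN (hN.conj_mem _ (N.inv_mem hxN) y)
        simpa [mul_assoc] using this
      have h3 : x * y * x⁻¹ * y⁻¹ = 1 := by
        have hb : x * y * x⁻¹ * y⁻¹ ∈ N ⊓ (P : Subgroup G) := ⟨h2, h1⟩
        rwa [disjoint_iff.mp hc.disjoint, Subgroup.mem_bot] at hb
      have h4 : x * y * x⁻¹ = y := mul_inv_eq_one.mp h3
      exact (mul_inv_eq_iff_eq_mul.mp h4).symm
    · rw [eq_bot_iff, ← disjoint_iff.mp hc.disjoint]
      exact inf_le_inf_right _ inf_le_left
    · refine le_antisymm (sup_le inf_le_right Subgroup.le_normalizer) fun x hx => ?_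
      have hx' : x ∈ N ⊔ (P : Subgroup G) := by rw [hc.sup_eq_top]; trivial
      obtain ⟨a, ha, b, hb, rfl⟩ := Subgroup.mem_sup_of_normal_left.mp hx'
      refine Subgroup.mul_mem_sup ⟨ha, ?_⟩ hb
      have := Subgroup.mul_mem _ hx (Subgroup.inv_mem _ (Subgroup.le_normalizer hb))
      simpa [mul_assoc] using this
  · rintro ⟨Q, hQC, -, hQP⟩
    haveI := hP
    refine CfsgLib.Transfer.hasNormalPComplement_of_normalizer_le_centralizer P ?_
    rw [← hQP]
    exact sup_le hQC (Subgroup.le_centralizer (P : Subgroup G))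

end Cfsg.Agent.S0083
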