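import Cfsg.Statements.S0084
import Mathlib
import Cfsg.Agent.Lib.Transfer.AbelianHall

set_option autoImplicit false
set_option linter.style.haveILetI false
open Cfsg

namespace Cfsg.Agent.S0084

/-- A group whose Sylow 2-subgroups are Klein four-groups and whose order is prime to 3 has a normal 2-complement. -/
theorem result {G : Type*} [Group G] [Finite G] (T : Sylow 2 G) (hT : IsKleinFour T) (h3 : ¬ 3 ∣ Nat.card G) : Cfsg.HasNormalPComplement 2 G := by
  haveI : IsKleinFour (T : Subgroup G) := hT
  have hc : IsMulCommutative (T : Subgroup G) := IsKleinFour.isMulCommutative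
  have h4 : Nat.card (T : Subgroup G) = 4 := IsKleinFour.card_four
  refine CfsgLib.Transfer.hasNormalPComplement_of_normalizer_le_centralizer T
    (CfsgLib.Transfer.normalizer_le_centralizer_of_orbit T hc fun q hq hq2 hqG c hct hdvd => ?_)
  rw [h4] at hdvd
  have hd : Nat.card c ∣ 4 := h4 ▸ Subgroup.card_subgroup_dvd_card c
  have hlt : Nat.card c ≠ 4 := fun e => hct (Subgroup.eq_top_of_card_eq c (e.trans h4.symm))
  have hmem : Nat.card c ∈ ({1, 2} : Finset ℕ) := by
    have := Nat.mem_divisors.mpr ⟨hd, by norm_num⟩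
    rw [show Nat.divisors 4 = ({1, 2, 4} : Finset ℕ) by decide] at this
    simp only [Finset.mem_insert, Finset.mem_singleton] at this ⊢
    omega
  simp only [Finset.mem_insert, Finset.mem_singleton] at hmem
  rcases hmem with e | e <;> rw [e] at hdvd
  · exact h3 ((Nat.prime_dvd_prime_iff_eq hq Nat.prime_three).mp hdvd ▸ hqG)
  · exact hq2 ((Nat.prime_dvd_prime_iff_eq hq Nat.prime_two).mp hdvd)

end Cfsg.Agent.S0084
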