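import Cfsg.Statements.S0085
import Mathlib
import Cfsg.Agent.Lib.Transfer.AbelianHall

set_option autoImplicit false
set_option linter.style.haveILetI false
open Cfsg

namespace Cfsg.Agent.S0085

/-- A group whose Sylow 2-subgroups are elementary abelian of order 8 and whose order is prime to 3 and to 7 has a normal 2-complement. -/
theorem result {G : Type*} [Group G] [Finite G] (T : Sylow 2 G) (h8 : Nat.card T = 8) (he : ∀ x : T, x * x = 1) (h3 : ¬ 3 ∣ Nat.card G) (h7 : ¬ 7 ∣ Nat.card G) : Cfsg.HasNormalPComplement 2 G := by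
  have hc : IsMulCommutative (T : Subgroup G) :=
    ⟨⟨fun a b => by
      have hi : ∀ x : (T : Subgroup G), x⁻¹ = x := fun x => inv_eq_of_mul_eq_one_right (he x)
      calc a * b = (a * b)⁻¹ := (hi _).symm
        _ = b * a := by rw [mul_inv_rev, hi, hi]⟩⟩
  refine CfsgLib.Transfer.hasNormalPComplement_of_normalizer_le_centralizer T
    (CfsgLib.Transfer.normalizer_le_centralizer_of_orbit T hc fun q hq hq2 hqG c hct hdvd => ?_)
  rw [show Nat.card (T : Subgroup G) = 8 from h8] at hdvd
  have hd : Nat.card c ∣ 8 := h8 ▸ Subgroup.card_subgroup_dvd_card c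
  have hlt : Nat.card c ≠ 8 := fun e => hct (Subgroup.eq_top_of_card_eq c (e.trans h8.symm))
  have hmem := Nat.mem_divisors.mpr ⟨hd, by norm_num⟩
  rw [show Nat.divisors 8 = ({1, 2, 4, 8} : Finset ℕ) by decide] at hmem
  simp only [Finset.mem_insert, Finset.mem_singleton] at hmem
  have h6 : q ∣ 6 ∨ q ∣ 7 ∨ q ∣ 4 := by
    rcases hmem with e | e | e | e
    · rw [e] at hdvd; exact Or.inr (Or.inl hdvd)
    · rw [e] at hdvd; exact Or.inl hdvd
    · rw [e] at hdvd; exact Or.inr (Or.inr hdvd)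
    · exact absurd e hlt
  rcases h6 with h | h | h
  · rcases (Nat.Prime.dvd_mul hq).mp (show q ∣ 2 * 3 from h) with h | h
    · exact hq2 ((Nat.prime_dvd_prime_iff_eq hq Nat.prime_two).mp h)
    · exact h3 ((Nat.prime_dvd_prime_iff_eq hq Nat.prime_three).mp h ▸ hqG)
  · exact h7 ((Nat.prime_dvd_prime_iff_eq hq (by norm_num)).mp h ▸ hqG)
  · rcases (Nat.Prime.dvd_mul hq).mp (show q ∣ 2 * 2 from h) with h | h <;>
      exact hq2 ((Nat.prime_dvd_prime_iff_eq hq Nat.prime_two).mp h)

end Cfsg.Agent.S0085
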