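import Cfsg.Statements.S0089
import Cfsg.Agent.Lib.Transfer.Basic

set_option autoImplicit false
set_option linter.style.haveILetI false
set_option linter.unusedVariables false
open Cfsg

namespace Cfsg.Agent.S0089

/-- When all Sylow subgroups are abelian, the derived subgroup meets the centre trivially. -/
theorem result {G : Type*} [Group G] [Finite G] (h : ∀ p : ℕ, p.Prime → ∀ P : Sylow p G, IsMulCommutative P) : commutator G ⊓ Subgroup.center G = ⊥ := by
  rw [eq_bot_iff]
  intro z hz
  rw [Subgroup.mem_bot]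
  by_contra hz1
  obtain ⟨q, hq, hqd⟩ := Nat.exists_prime_and_dvd (fun h1 => hz1 (orderOf_eq_one_iff.mp h1))
  haveI := Fact.mk hq
  obtain ⟨d, hd⟩ := hqd
  set y := z ^ d with hy
  have hd0 : d ≠ 0 := by
    rintro rfl
    exact (orderOf_pos z).ne' (by simpa using hd)
  have hyq : orderOf y = q := by
    rw [hy, orderOf_pow_of_dvd hd0 ⟨q, by rw [hd, mul_comm]⟩, hd, Nat.mul_div_cancel _ (Nat.pos_of_ne_zero hd0)]
  have hy1 : y ∈ commutator G ⊓ Subgroup.center G := Subgroup.pow_mem _ hz d
  obtain ⟨P, hP⟩ := (CfsgLib.Transfer.isPGroup_zpowers (p := q) ⟨1, by rw [hyq, pow_one]⟩).exists_le_sylow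
  haveI := h q hq P
  open scoped IsMulCommutative in
    have key : ∀ (k : ℕ) (g₀ : G), g₀⁻¹ * y ^ k * g₀ ∈ (P : Subgroup G) → g₀⁻¹ * y ^ k * g₀ = y ^ k := by
      intro k g₀ _
      have := Subgroup.mem_center_iff.mp (Subgroup.pow_mem _ hy1.2 k) g₀
      rw [mul_assoc, ← this, inv_mul_cancel_left]
    have h1 : MonoidHom.transfer (MonoidHom.id (P : Subgroup G)) y = 1 :=
      Abelianization.commutator_subset_ker _ hy1.1
    rw [MonoidHom.transfer_eq_pow (MonoidHom.id (P : Subgroup G)) y key] at h1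
    have h2 : y ^ (P : Subgroup G).index = 1 := congrArg Subtype.val h1
    have h3 : q ∣ (P : Subgroup G).index := hyq.symm.dvd.trans (orderOf_dvd_of_pow_eq_one h2)
    exact P.not_dvd_index h3

end Cfsg.Agent.S0089
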