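import Cfsg.Statements.S0090
import Mathlib
import Cfsg.Agent.Lib.Transfer.AbelianHall

set_option autoImplicit false
set_option linter.style.haveILetI false
open Cfsg
open scoped commutatorElement IsMulCommutative

namespace Cfsg.Agent.S0090

/-- An abelian normal Hall subgroup A splits as the internal direct product of G' ∩ A and Z(G) ∩ A, and [A, G] = G' ∩ A. -/
theorem result {G : Type*} [Group G] [Finite G] (A : Subgroup G) [A.Normal] (hc : IsMulCommutative A) (hHall : Nat.Coprime (Nat.card A) A.index) : ⁅A, (⊤ : Subgroup G)⁆ = commutator G ⊓ A ∧ (commutator G ⊓ A) ⊓ (Subgroup.center G ⊓ A) = ⊥ ∧ (commutator G ⊓ A) ⊔ (Subgroup.center G ⊓ A) = A := by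
  haveI := hc
  obtain ⟨h1, h2⟩ := CfsgLib.Transfer.abelian_normal_hall A hc hHall
  have hKA : ⁅A, (⊤ : Subgroup G)⁆ ≤ A := Subgroup.commutator_le_left A ⊤
  have hKG : ⁅A, (⊤ : Subgroup G)⁆ ≤ commutator G := by
    rw [commutator_def]; exact Subgroup.commutator_mono le_top le_rfl
  have hle : commutator G ⊓ A ≤ ⁅A, (⊤ : Subgroup G)⁆ := by
    set K := (⁅A, (⊤ : Subgroup G)⁆).subgroupOf A with hK
    rintro x ⟨hxG, hxA⟩
    have hkey : ∀ (y : A) (a : G) (h : a⁻¹ * (y : G) * a ∈ A),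
        QuotientGroup.mk' K ⟨_, h⟩ = QuotientGroup.mk' K y := by
      intro y a h
      symm
      rw [QuotientGroup.mk'_apply, QuotientGroup.mk'_apply, QuotientGroup.eq, hK, Subgroup.mem_subgroupOf]
      show (y : G)⁻¹ * (a⁻¹ * (y : G) * a) ∈ _
      rw [show (y : G)⁻¹ * (a⁻¹ * (y : G) * a) = ⁅(y : G)⁻¹, a⁻¹⁆ by rw [commutatorElement_def]; group]
      exact Subgroup.commutator_mem_commutator (A.inv_mem y.2) (Subgroup.mem_top _)
    have h3 := CfsgLib.Transfer.map_eq_one_of_hall hc hHall (QuotientGroup.mk' K) hkey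
      (Abelianization.commutator_subset_ker _) (x := ⟨x, hxA⟩) hxG
    rw [QuotientGroup.mk'_apply, QuotientGroup.eq_one_iff, hK, Subgroup.mem_subgroupOf] at h3
    exact h3
  have heq : ⁅A, (⊤ : Subgroup G)⁆ = commutator G ⊓ A := le_antisymm (le_inf hKG hKA) hle
  rw [← heq]
  exact ⟨rfl, h1, h2⟩

end Cfsg.Agent.S0090
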