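import Cfsg.Statements.S0092
import Cfsg.Agent.Lib.Transfer.AbelianSylow
import Cfsg.Agent.Lib.Coprime.Generation
import Cfsg.Agent.Lib.Transfer.Basic

set_option autoImplicit false
open Cfsg

namespace Cfsg.Agent.S0092

open CfsgLib
open scoped Pointwise


/-- If the Sylow p-subgroups of O^p(G) are abelian then G splits over O^p(G). -/
theorem result {G : Type*} [Group G] [Finite G] {p : ℕ} [Fact p.Prime] (h : ∀ Q : Sylow p (Cfsg.pResidual p G), IsMulCommutative Q) : ∃ K : Subgroup G, K.IsComplement' (Cfsg.pResidual p G) := by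
  haveI hKn : (Cfsg.pResidual p G).Normal := Transfer.pResidual_normal p G
  set K := Cfsg.pResidual p G with hK
  obtain ⟨Q⟩ : Nonempty (Sylow p K) := inferInstance
  set T := (Q : Subgroup K).map K.subtype with hT
  have hTK : T ≤ K := Subgroup.map_subtype_le _
  have hTp : IsPGroup p T := Q.2.map _
  haveI hQab := h Q
  set L := Subgroup.normalizer (T : Set G) with hL
  have hfr : L ⊔ K = ⊤ := Sylow.normalizer_sup_eq_top Q
  set LK := L ⊓ K with hLK
  have hTLK : T ≤ LK := le_inf Subgroup.le_normalizer hTK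
  have hidx : ¬ p ∣ T.relIndex LK := by
    intro hd
    have h1 : T.relIndex K = (Q : Subgroup K).index := by
      rw [Subgroup.relIndex, hT]
      congr 1
      exact Subgroup.comap_map_eq_self_of_injective K.subtype_injective _
    apply Q.not_dvd_index
    rw [← h1, ← Subgroup.relIndex_mul_relIndex T LK K hTLK inf_le_right]
    exact Dvd.dvd.mul_right hd _
  obtain ⟨j, hj⟩ := hTp.exists_card_eq
  obtain ⟨H, hHLK, hTH, hTH1, hHcard⟩ := Coprime.exists_complement_of_coprime (N := T) (S := LK)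
    inf_le_left (by
      rw [inf_eq_left.mpr hTLK, hj]
      exact ((Fact.out : p.Prime).coprime_iff_not_dvd.mpr hidx).pow_left j)
  rw [inf_eq_left.mpr hTLK] at hTH hTH1
  have hTabel : ∀ a ∈ T, ∀ b ∈ T, a * b = b * a := by
    rintro _ ⟨a, ha, rfl⟩ _ ⟨b, hb, rfl⟩
    rw [← map_mul, ← map_mul]
    exact congrArg _ (congrArg Subtype.val (mul_comm' (⟨a, ha⟩ : Q) ⟨b, hb⟩))
  haveI : IsMulCommutative T := ⟨⟨fun a b => Subtype.ext (hTabel a a.2 b b.2)⟩⟩
  have hcopH : (Nat.card T).Coprime (Nat.card H) := by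
    rw [hj, hHcard]
    exact ((Fact.out : p.Prime).coprime_iff_not_dvd.mpr hidx).pow_left j
  -- the complements are conjugate
  set M := Subgroup.normalizer (H : Set G) ⊓ L with hM
  have hLM : L ≤ T ⊔ M := by
    intro l hl
    have hLn : L ≤ Subgroup.normalizer (LK : Set G) :=
      Coprime.le_normalizer_inf_of_le Subgroup.le_normalizer Subgroup.le_normalizer_of_normal
    set H' := MulAut.conj l • H with hH'
    have hsup : T ⊔ H = T ⊔ H' := by
      rw [hH', ← Coprime.conj_smul_eq_self_of_mem_normalizer hl, ← Subgroup.smul_sup,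
        hTH, Coprime.conj_smul_eq_self_of_mem_normalizer (hLn hl),
        Coprime.conj_smul_eq_self_of_mem_normalizer hl, ← hTH]
    obtain ⟨t, ht, hte⟩ := Coprime.exists_conj_of_coprime (N := T) (H := H) (K := H')
      (hHLK.trans inf_le_left) hcopH (by rwa [Coprime.card_conj_smul]) hsup
      (Or.inl (Coprime.isSolvable_of_isMulCommutative T))
    have htL : t ∈ L := Subgroup.le_normalizer ht
    have hm : t⁻¹ * l ∈ M := by
      refine ⟨Coprime.mem_normalizer_iff_conj_smul.mpr ?_, L.mul_mem (L.inv_mem htL) hl⟩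
      rw [map_mul, mul_smul, ← hH', ← hte, map_inv, inv_smul_smul]
    rw [show l = t * (t⁻¹ * l) by group]
    exact mul_mem (Subgroup.mem_sup_left ht) (Subgroup.mem_sup_right hm)
  obtain ⟨R⟩ : Nonempty (Sylow p M) := inferInstance
  set R' := (R : Subgroup M).map M.subtype with hR'
  have hTM : T ⊓ M = ⊥ := by
    rw [eq_bot_iff]
    intro x hx
    obtain ⟨hxT, hxH, -⟩ := hx
    have hxHc : ∀ y ∈ H, y * x = x * y := by
      intro y hy
      have h1 : y * x * y⁻¹ * x⁻¹ ∈ T ⊓ H := by
        refine ⟨T.mul_mem ((Subgroup.mem_normalizer_iff.mp (hHLK hy).1 x).mp hxT) (T.inv_mem hxT), ?_⟩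
        rw [show y * x * y⁻¹ * x⁻¹ = y * (x * y⁻¹ * x⁻¹) by group]
        exact mul_mem hy ((Subgroup.mem_normalizer_iff.mp hxH _).mp (inv_mem hy))
      rw [hTH1, Subgroup.mem_bot, mul_inv_eq_one, mul_inv_eq_iff_eq_mul] at h1
      exact h1
    obtain ⟨⟨x, hxK⟩, hxQ, rfl⟩ := hxT
    refine Subgroup.mem_bot.mpr (congrArg Subtype.val
      (Transfer.eq_one_of_abelian_sylow Q hQab hxQ (fun n hn => ?_) ?_ : (⟨x, hxK⟩ : K) = 1))
    · have hnLK : (n : G) ∈ LK := ⟨Subgroup.le_normalizer_map K.subtype ⟨n, hn, rfl⟩, n.2⟩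
      rw [← hTH, sup_comm, ← SetLike.mem_coe,
        Subgroup.coe_mul_of_left_le_normalizer_right H T (hHLK.trans inf_le_left)] at hnLK
      obtain ⟨y, hy, t, ht, hyt⟩ := Set.mem_mul.mp hnLK
      refine Subtype.ext ?_
      show (n : G) * x = x * n
      rw [← hyt, mul_assoc, hTabel t ht x ⟨⟨x, hxK⟩, hxQ, rfl⟩, ← mul_assoc, show y * x = x * y from hxHc y hy, mul_assoc]
    · rw [← Abelianization.ker_of, MonoidHom.mem_ker]
      have hcl : Subgroup.closure ((fun g : K => Abelianization.of g) ''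
          {g | (orderOf g).Coprime p}) = ⊤ := by
        have htop : Subgroup.closure {g : K | (orderOf g).Coprime p} = ⊤ := by
          apply Subgroup.map_injective K.subtype_injective
          rw [MonoidHom.map_closure, ← MonoidHom.range_eq_map, Subgroup.range_subtype]
          refine le_antisymm ((Subgroup.closure_le _).mpr (by rintro _ ⟨g, -, rfl⟩; exact g.2)) ?_
          conv_lhs => rw [hK, Cfsg.pResidual]
          refine (Subgroup.closure_le _).mpr fun g hg => Subgroup.subset_closure ?_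
          exact ⟨⟨g, Subgroup.subset_closure hg⟩,
            show (orderOf (⟨g, Subgroup.subset_closure hg⟩ : K)).Coprime p from by
              rw [← Subgroup.orderOf_coe]; exact hg, rfl⟩
        rw [← MonoidHom.map_closure Abelianization.of, htop]
        exact Subgroup.map_top_of_surjective _ QuotientGroup.mk_surjective
      have hco := Transfer.coprime_of_abelian (p := p) (by
        rintro _ ⟨g, hg, rfl⟩
        exact Nat.Coprime.coprime_dvd_left (orderOf_map_dvd _ g) hg) hcl
        (Abelianization.of (⟨x, hxK⟩ : K))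
      obtain ⟨k, hk⟩ := Q.2 ⟨_, hxQ⟩
      refine orderOf_eq_one_iff.mp (Nat.eq_one_of_dvd_coprimes (hco.pow_right k) dvd_rfl ?_)
      exact orderOf_dvd_of_pow_eq_one (by
        rw [← map_pow, show (⟨x, hxK⟩ : K) ^ p ^ k = 1 from congrArg Subtype.val hk, map_one])
  refine ⟨R', Subgroup.isComplement'_of_disjoint_and_mul_eq_univ (disjoint_iff.mpr ?_) ?_⟩
  · rw [← le_bot_iff, ← hTM]
    rintro x ⟨hxR, hxK⟩
    obtain ⟨m, hm, rfl⟩ := hxR
    refine ⟨?_, m.2⟩
    have hxLK : (m : G) ∈ LK := ⟨m.2.2, hxK⟩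
    haveI : (T.subgroupOf LK).Normal :=
      (Subgroup.normal_subgroupOf_iff_le_normalizer hTLK).mpr inf_le_left
    refine ((Subgroup.mem_subgroupOf).mp ((QuotientGroup.eq_one_iff (N := T.subgroupOf LK)
      (⟨(m : G), hxLK⟩ : LK)).mp ?_))
    obtain ⟨k, hk⟩ := R.2 ⟨m, hm⟩
    refine orderOf_eq_one_iff.mp (Nat.eq_one_of_dvd_coprimes
      (((Fact.out : p.Prime).coprime_iff_not_dvd.mpr hidx).pow_left k)
      (orderOf_dvd_of_pow_eq_one ?_) (orderOf_dvd_natCard _))
    rw [← QuotientGroup.mk_pow, show (⟨(m : G), hxLK⟩ : LK) ^ p ^ k = 1 from Subtype.ext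
      (congrArg (fun z : (R : Subgroup M) => ((z : M) : G)) hk)]
    rfl
  · have hsup : R' ⊔ K = ⊤ := by
      refine top_unique (hfr.ge.trans (sup_le (hLM.trans (sup_le (hTK.trans le_sup_right) ?_))
        le_sup_right))
      have h1 := congrArg (Subgroup.map M.subtype) (Transfer.sylow_sup_pResidual R)
      rw [Subgroup.map_sup, ← MonoidHom.range_eq_map, Subgroup.range_subtype] at h1
      refine h1.ge.trans (sup_le_sup_left ?_ _)
      exact Transfer.map_pResidual_subtype_le M
    rw [← Subgroup.mul_normal, hsup]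
    rfl

end Cfsg.Agent.S0092
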