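import Cfsg.Statements.S0093
import Cfsg.Agent.Lib.Critical.Basic

set_option autoImplicit false
open Cfsg

namespace Cfsg.Agent.S0093

/-- Every finite p-group has a critical subgroup: a characteristic subgroup H whose Frattini subgroup and whose commutator with the whole group lie in the centre of H, and whose centralizer is contained in H. -/
theorem result {P : Type*} [Group P] [Finite P] {p : ℕ} [Fact p.Prime] (hP : IsPGroup p P) : ∃ H : Subgroup P, H.Characteristic ∧ (frattini H).map H.subtype ≤ Subgroup.centralizer (H : Set P) ∧ ⁅H, (⊤ : Subgroup P)⁆ ≤ H ⊓ Subgroup.centralizer (H : Set P) ∧ Subgroup.centralizer (H : Set P) ≤ H := by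
  obtain ⟨H, hH, hp, hc, hC⟩ := CfsgLib.Critical.exists_isCrit hP
  refine ⟨H, hH, ?_, hc, hC⟩
  set Z : Subgroup P := H ⊓ Subgroup.centralizer (H : Set P) with hZ
  haveI := hH
  haveI : Z.Normal := by rw [hZ]; infer_instance
  have h1 : frattini H ≤ Z.subgroupOf H := by
    refine CfsgLib.Critical.frattini_le_of_elementary (p := p) _ ?_ fun x => hp _ x.2
    refine Subgroup.commutator_le.mpr fun a _ b _ => ?_
    exact hc (Subgroup.commutator_mem_commutator a.2 (Subgroup.mem_top (b : P)))
  refine (Subgroup.map_mono h1).trans ?_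
  rintro _ ⟨x, hx, rfl⟩
  exact hx.2

end Cfsg.Agent.S0093
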