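import Cfsg.Statements.S0094
import Mathlib
import Cfsg.Agent.Lib.PSolvable.Omega

set_option autoImplicit false
set_option linter.style.haveILetI false
open Cfsg
open scoped commutatorElement

namespace Cfsg.Agent.S0094

theorem commutator_pow {P : Type*} [Group P] {p : ℕ} [Fact p.Prime] [Finite P]
    (h : Cfsg.IsSpecial p P) : ∀ z ∈ commutator P, z ^ p = 1 := by
  have hcl : ∀ a b c : P, Commute ⁅a, b⁆ c := by
    intro a b c
    have : ⁅a, b⁆ ∈ Subgroup.center P := h.2.2 ▸ Subgroup.commutator_mem_commutator (Subgroup.mem_top a) (Subgroup.mem_top b)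
    exact (Subgroup.mem_center_iff.mp this c).symm
  intro z hz
  rw [commutator_eq_closure] at hz
  induction hz using Subgroup.closure_induction with
  | mem x hx =>
    obtain ⟨a, b, rfl⟩ := hx
    rw [← CfsgLib.PSolvable.commutator_pow_right' hcl, commutatorElement_eq_one_iff_commute]
    have : b ^ p ∈ Subgroup.center P := h.2.1 ▸ (CfsgLib.PSolvable.commutator_le_frattini h.1).2 b
    exact Subgroup.mem_center_iff.mp this a
  | one => exact one_pow p
  | mul x y hx hy ihx ihy =>
    have : x ∈ Subgroup.center P := h.2.2 ▸ (commutator_eq_closure P ▸ hx)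
    rw [Commute.mul_pow (Subgroup.mem_center_iff.mp this y).symm, ihx, ihy, one_mul]
  | inv x _ ihx => rw [inv_pow, ihx, inv_one]

/-- In a special p-group every central element has order dividing p. -/
theorem result {P : Type*} [Group P] [Finite P] {p : ℕ} [Fact p.Prime] (h : Cfsg.IsSpecial p P) (z : P) (hz : z ∈ Subgroup.center P) : z ^ p = 1 := by
  exact commutator_pow h z (h.2.2.symm ▸ hz)

end Cfsg.Agent.S0094
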