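import Cfsg.Statements.S0095
import Mathlib
import Cfsg.Agent.S0014
import Cfsg.Agent.S0015
import Cfsg.Agent.Lib.Critical.Basic

set_option autoImplicit false
set_option linter.style.haveILetI false
open Cfsg
open scoped commutatorElement Pointwise

namespace Cfsg.Agent.S0095

theorem exists_gens {Q : Type*} [Group Q] [Finite Q] {p : ℕ} [Fact p.Prime] (hQ : IsPGroup p Q)
    (N : Subgroup Q) [N.Normal] (hc : commutator Q ≤ N) (hpow : ∀ x : Q, x ^ p ∈ N) (k : ℕ)
    (hk : N.index = p ^ k) : ∃ T : Finset Q, T.card = k ∧ Subgroup.closure (T : Set Q) ⊔ N = ⊤ := by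
  classical
  set f := QuotientGroup.mk' N
  have hf : Function.Surjective f := QuotientGroup.mk'_surjective N
  have hΦ : frattini (Q ⧸ N) = ⊥ := by
    rw [eq_bot_iff]
    refine CfsgLib.Critical.frattini_le_of_elementary (p := p) ⊥ ?_ fun x => ?_
    · rw [commutator_def, Subgroup.commutator_le]
      intro a _ b _
      obtain ⟨a, rfl⟩ := hf a
      obtain ⟨b, rfl⟩ := hf b
      rw [← map_commutatorElement, Subgroup.mem_bot]
      exact (QuotientGroup.eq_one_iff _).mpr (hc (Subgroup.commutator_mem_commutator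
        (Subgroup.mem_top a) (Subgroup.mem_top b)))
    · obtain ⟨a, rfl⟩ := hf x
      rw [← map_pow, Subgroup.mem_bot]
      exact (QuotientGroup.eq_one_iff _).mpr (hpow a)
  obtain ⟨T, -, hTk, hT⟩ := (Cfsg.Agent.S0014.result p k (hQ.to_quotient N)
    (by rw [hΦ, Subgroup.index_bot]; exact hk)).1 (Set.toFinite (Set.univ : Set (Q ⧸ N))).toFinset (by simp)
  choose g hg using hf
  refine ⟨T.image g, ?_, ?_⟩
  · rw [Finset.card_image_of_injective _ (fun a b h => by rw [← hg a, ← hg b, h]), hTk]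
  · have e := Subgroup.comap_map_eq f (Subgroup.closure ((T.image g : Finset Q) : Set Q))
    rw [show f.ker = N from QuotientGroup.ker_mk' N] at e
    rw [← e]
    rw [MonoidHom.map_closure]
    have : (f '' ((T.image g : Finset Q) : Set Q)) = (T : Set (Q ⧸ N)) := by
      rw [Finset.coe_image, Set.image_image]
      simp [hg]
    rw [this, hT, Subgroup.comap_top]

/-- The order of an extraspecial p-group is an odd power p^(2n+1) of p with n ≥ 1. -/
theorem result {P : Type*} [Group P] [Finite P] {p : ℕ} [Fact p.Prime] (h : Cfsg.IsExtraspecial p P) : ∃ n : ℕ, 1 ≤ n ∧ Nat.card P = p ^ (2 * n + 1) := by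
  classical
  have hp : p.Prime := Fact.out
  set Z := Subgroup.center P with hZ
  have hcomm : ∀ x y : P, ⁅x, y⁆ ∈ Z := fun x y => by
    rw [hZ, ← h.1.2.2]
    exact Subgroup.commutator_mem_commutator (Subgroup.mem_top x) (Subgroup.mem_top y)
  have hpow : ∀ x : P, x ^ p ∈ Z := fun x => by
    rw [hZ, ← h.1.2.1]
    exact (CfsgLib.PSolvable.commutator_le_frattini h.1.1).2 x
  haveI : Finite (Subgroup P) := Finite.of_injective (fun K => (K : Set P)) SetLike.coe_injective
  obtain ⟨A, hA, hAmax⟩ := (Set.toFinite {A : Subgroup P | Z ≤ A ∧ IsMulCommutative A}).exists_maximal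
    ⟨Z, le_rfl, inferInstance⟩
  obtain ⟨hZA, hAc⟩ := hA
  haveI hAn : A.Normal := ⟨fun a ha g => by
    rw [show g * a * g⁻¹ = ⁅g, a⁆ * a by rw [commutatorElement_def]; group]
    exact A.mul_mem (hZA (hcomm g a)) ha⟩
  haveI := hAc
  haveI := h.1.1.isNilpotent
  have hCA : Subgroup.centralizer (A : Set P) = A := Cfsg.Agent.S0015.result A fun M _ hMc hle =>
    le_antisymm (hAmax ⟨hZA.trans hle, hMc⟩ hle) hle
  obtain ⟨a, ha⟩ := IsPGroup.iff_card.mp (h.1.1.to_quotient A)
  obtain ⟨b, hb⟩ := IsPGroup.iff_card.mp ((h.1.1.to_subgroup A).to_quotient (Z.subgroupOf A))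
  obtain ⟨T, hTk, hT⟩ := exists_gens h.1.1 A
    (fun x hx => hZA (by rw [h.1.2.2] at hx; exact hx)) (fun x => hZA (hpow x)) a ha
  obtain ⟨U, hUk, hU⟩ := exists_gens (h.1.1.to_subgroup A) (Z.subgroupOf A)
    (by rw [commutator_def, Subgroup.commutator_le]
        intro x _ y _
        exact hcomm x y) (fun x => hpow x) b hb
  have hcT : Nat.card (T → Z) = p ^ a := by
    rw [Nat.card_fun, h.2, Nat.card_eq_finsetCard, hTk]
  have hcU : Nat.card (U → Z) = p ^ b := by
    rw [Nat.card_fun, h.2, Nat.card_eq_finsetCard, hUk]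
  have hswap : ∀ x y z : P, ⁅x, z⁆ = ⁅y, z⁆ → (x⁻¹ * y) * z = z * (x⁻¹ * y) := by
    intro x y z e
    rw [commutatorElement_def, commutatorElement_def, mul_left_inj] at e
    calc (x⁻¹ * y) * z = x⁻¹ * (y * z * y⁻¹) * y := by group
      _ = z * (x⁻¹ * y) := by rw [← e]; group
  -- `A / Z` embeds in the maps `T → Z`
  have hba : b ≤ a := by
    rw [← Nat.pow_le_pow_iff_right hp.one_lt, ← hb, ← hcT]
    refine Nat.card_le_card_of_injective
      (fun q : A ⧸ Z.subgroupOf A => fun t : T => (⟨⁅((q.out : A) : P), (t : P)⁆, hcomm _ _⟩ : Z)) ?_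
    intro q q' e
    rw [← QuotientGroup.out_eq' q, ← QuotientGroup.out_eq' q', QuotientGroup.eq, Subgroup.mem_subgroupOf]
    show ((q.out : A) : P)⁻¹ * ((q'.out : A) : P) ∈ Subgroup.center P
    set d := ((q.out : A) : P)⁻¹ * ((q'.out : A) : P) with hd
    have hle : Subgroup.closure (T : Set P) ⊔ A ≤ Subgroup.centralizer ({d} : Set P) := by
      refine sup_le ((Subgroup.closure_le _).mpr fun t ht => ?_) fun u hu => ?_
      · exact Subgroup.mem_centralizer_singleton_iff.mpr
          (hswap _ _ t (congrArg Subtype.val (congrFun e ⟨t, ht⟩))).symm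
      · exact Subgroup.mem_centralizer_singleton_iff.mpr (congrArg Subtype.val
          (mul_comm' (⟨u, hu⟩ : A) ((q.out : A)⁻¹ * q'.out)))
    rw [hT] at hle
    exact Subgroup.mem_center_iff.mpr fun g =>
      Subgroup.mem_centralizer_singleton_iff.mp (hle (Subgroup.mem_top g))
  -- `P / A` embeds in the maps `U → Z`
  have hab : a ≤ b := by
    rw [← Nat.pow_le_pow_iff_right hp.one_lt, ← ha, ← hcU]
    refine Nat.card_le_card_of_injective
      (fun q : P ⧸ A => fun t : U => (⟨⁅q.out, ((t : A) : P)⁆, hcomm _ _⟩ : Z)) ?_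
    intro q q' e
    rw [← QuotientGroup.out_eq' q, ← QuotientGroup.out_eq' q', QuotientGroup.eq]
    suffices hq : q.out⁻¹ * q'.out ∈ Subgroup.centralizer (A : Set P) by rwa [hCA] at hq
    rw [Subgroup.mem_centralizer_iff]
    intro u hu
    set d := q.out⁻¹ * q'.out
    have hle : Subgroup.closure (U : Set A) ⊔ Z.subgroupOf A ≤
        (Subgroup.centralizer ({d} : Set P)).subgroupOf A := by
      refine sup_le ((Subgroup.closure_le _).mpr fun t ht => ?_) fun v hv => ?_
      · exact Subgroup.mem_centralizer_singleton_iff.mpr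
          (hswap _ _ _ (congrArg Subtype.val (congrFun e ⟨t, ht⟩))).symm
      · exact Subgroup.mem_centralizer_singleton_iff.mpr (Subgroup.mem_center_iff.mp hv d).symm
    rw [hU] at hle
    exact Subgroup.mem_centralizer_singleton_iff.mp (hle (Subgroup.mem_top ⟨u, hu⟩))
  obtain rfl : a = b := le_antisymm hab hba
  have hcardA : Nat.card A = p ^ a * p := by
    have h1 := Subgroup.card_eq_card_quotient_mul_card_subgroup (Z.subgroupOf A)
    rw [hb, Nat.card_congr (Subgroup.subgroupOfEquivOfLe hZA).toEquiv, h.2] at h1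
    exact h1
  have hcard : Nat.card P = p ^ (2 * a + 1) := by
    rw [Subgroup.card_eq_card_quotient_mul_card_subgroup A, ha, hcardA]
    ring
  refine ⟨a, Nat.one_le_iff_ne_zero.mpr ?_, hcard⟩
  rintro rfl
  -- otherwise `P` is abelian
  have htop : Z = ⊤ := Subgroup.eq_top_of_card_eq Z (by rw [h.2, hcard]; simp)
  have hbot : commutator P = ⊥ := by
    rw [commutator_def, Subgroup.commutator_eq_bot_iff_le_centralizer]
    intro x _
    exact Subgroup.mem_centralizer_iff.mpr fun y _ =>
      Subgroup.mem_center_iff.mp (show x ∈ Subgroup.center P by rw [← hZ, htop]; exact Subgroup.mem_top x) y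
  rw [h.1.2.2, ← hZ, htop] at hbot
  have := h.2
  rw [← hZ, htop, hbot, Subgroup.card_bot] at this
  exact hp.ne_one this.symm

end Cfsg.Agent.S0095
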