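import Cfsg.Statements.S0097
import Mathlib
import Cfsg.Agent.Lib.SmallClass.Power
import Cfsg.Agent.S0094

set_option autoImplicit false
set_option linter.style.haveILetI false
open Cfsg

namespace Cfsg.Agent.S0097

/-- For odd p and E extraspecial, the subgroup generated by the elements of order dividing p has exponent dividing p and index at most p. -/
theorem result {E : Type*} [Group E] [Finite E] {p : ℕ} [Fact p.Prime] (hp : p ≠ 2) (h : Cfsg.IsExtraspecial p E) : (Subgroup.closure {x : E | x ^ p = 1}).index ≤ p ∧ ∀ g ∈ Subgroup.closure {x : E | x ^ p = 1}, g ^ p = 1 := by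
  have hp' : p.Prime := Fact.out
  have h2 : ⁅commutator E, (⊤ : Subgroup E)⁆ = ⊥ := by
    rw [Subgroup.commutator_eq_bot_iff_le_centralizer, h.1.2.2]
    exact Subgroup.center_le_centralizer _
  have hder : commutator E ≤ Subgroup.closure {x : E | x ^ p = 1} := fun z hz =>
    Subgroup.subset_closure (Cfsg.Agent.S0094.commutator_pow h.1 z hz)
  refine ⟨?_, fun g hg => CfsgLib.SmallClass.pow_eq_one_of_mem_omega hp' (Or.inl ⟨hp, h2⟩) hg⟩
  let f : E →* E := MonoidHom.mk' (fun x => x ^ p)
    (fun a b => CfsgLib.SmallClass.power_map_mul hp' (Or.inl ⟨hp, h2⟩) hder a b)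
  have hle : f.ker ≤ Subgroup.closure {x : E | x ^ p = 1} := fun x hx => Subgroup.subset_closure hx
  have hr : f.range ≤ Subgroup.center E := by
    rintro _ ⟨x, rfl⟩
    exact h.1.2.1 ▸ (CfsgLib.PSolvable.commutator_le_frattini h.1.1).2 x
  refine (Nat.le_of_dvd (Nat.pos_of_ne_zero Subgroup.index_ne_zero_of_finite)
    (Subgroup.index_dvd_of_le hle)).trans ?_
  rw [Subgroup.index_ker, ← h.2]
  exact Subgroup.card_le_of_le hr

end Cfsg.Agent.S0097
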