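import Cfsg.Statements.S0130
import Cfsg.Agent.Lib.OddOmega.Basic

set_option autoImplicit false
open Cfsg
open scoped commutatorElement

namespace Cfsg.Agent.S0130

/-- If A is maximal among the normal abelian subgroups of exponent dividing p^n of a p-group (p^n ≠ 2), then A contains every element of order dividing p^n in its centralizer. -/
theorem result {G : Type*} [Group G] [Finite G] {p : ℕ} [Fact p.Prime] (hG : IsPGroup p G) (n : ℕ) (hn : p ^ n ≠ 2) (A : Subgroup G) [A.Normal] (hA : IsMulCommutative A) (hAe : ∀ a ∈ A, a ^ p ^ n = 1) (hmax : ∀ B : Subgroup G, B.Normal → IsMulCommutative B → (∀ b ∈ B, b ^ p ^ n = 1) → A ≤ B → B = A) (x : G) (hx : x ∈ Subgroup.centralizer (A : Set G)) (hxn : x ^ p ^ n = 1) : x ∈ A := by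
  have hp : p.Prime := Fact.out
  haveI : Group.IsNilpotent G := hG.isNilpotent
  set C := Subgroup.centralizer (A : Set G) with hCdef
  haveI : C.Normal := inferInstance
  have hcomm : ∀ a ∈ A, ∀ c ∈ C, a * c = c * a := fun a ha c hc => hc a ha
  have hAC : A ≤ C := fun a ha b hb => congrArg Subtype.val (hA.is_comm.comm ⟨b, hb⟩ ⟨a, ha⟩)
  suffices key : ∀ k, ∀ x ∈ Subgroup.upperCentralSeries G k, x ∈ C → x ^ p ^ n = 1 → x ∈ A by
    obtain ⟨k, hk⟩ := Group.IsNilpotent.nilpotent (G := G)
    exact key k x (by rw [hk]; exact Subgroup.mem_top x) hx hxn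
  clear hx hxn x
  intro k
  induction k with
  | zero =>
    intro x hx _ _
    rw [Subgroup.upperCentralSeries_zero, Subgroup.mem_bot] at hx
    rw [hx]; exact one_mem A
  | succ k ihk =>
  intro x
  induction hm : orderOf x using Nat.strong_induction_on generalizing x with
  | _ m ih =>
  intro hxk hxC hxe
  by_cases hx1 : x = 1
  · rw [hx1]; exact one_mem A
  have hn2 : p ∣ (p ^ n).choose 2 := hp.dvd_choose_pow two_ne_zero hn.symm
  have hpm : p ∣ m := by
    obtain ⟨l, hl⟩ := hG x
    obtain ⟨l', -, hl'⟩ := (Nat.dvd_prime_pow hp).mp (orderOf_dvd_of_pow_eq_one hl)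
    rw [← hm, hl']
    exact dvd_pow_self p (by rintro rfl; exact hx1 (orderOf_eq_one_iff.mp (by simpa using hl')))
  have hxp : x ^ p ∈ A := ih (orderOf (x ^ p)) (by
      rw [orderOf_pow' x hp.ne_zero, hm, Nat.gcd_eq_right hpm]
      exact Nat.div_lt_self (hm ▸ orderOf_pos x) hp.one_lt)
    (x ^ p) rfl (pow_mem hxk p) (pow_mem hxC p) (by rw [← pow_mul', pow_mul, hxe, one_pow])
  have step : ∀ j h, ⁅x, h⁆ ∈ Subgroup.upperCentralSeries G j → ⁅x, h⁆ ∈ A := by
    intro j
    induction j with
    | zero =>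
      intro h hh
      rw [Subgroup.upperCentralSeries_zero, Subgroup.mem_bot] at hh
      rw [hh]; exact one_mem A
    | succ j ihj =>
    intro h hh
    set c := ⁅x, h⁆ with hc
    set y := h * x⁻¹ * h⁻¹ with hy
    have hcy : c = x * y := by rw [hc, hy, commutatorElement_def]; group
    have hyC : y ∈ C := Subgroup.Normal.conj_mem inferInstance _ (inv_mem hxC) h
    have hcC : c ∈ C := hcy ▸ mul_mem hxC hyC
    have he : ⁅x, y⁆ ∈ A := by
      refine ihj y ?_
      have : ⁅x, y⁆ = c * x⁻¹ * c⁻¹ * x⁻¹⁻¹ := by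
        rw [hcy, commutatorElement_def]; group
      rw [this]
      exact Subgroup.mem_upperCentralSeries_succ_iff.mp hh x⁻¹
    have he' : ⁅y, x⁆ ∈ A := by rw [← commutatorElement_inv]; exact inv_mem he
    have hez : (⟨⁅y, x⁆, hAC he'⟩ : C) ∈ Subgroup.center C :=
      Subgroup.mem_center_iff.mpr fun g => Subtype.ext (hcomm _ he' g g.2).symm
    have hpe : ⁅y, x⁆ ^ p = 1 := by
      have h1 : y * x * y⁻¹ = ⁅y, x⁆ * x := by rw [commutatorElement_def]; group
      have h2 := congrArg (· ^ p) h1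
      simp only [conj_pow] at h2
      rw [Commute.mul_pow (hcomm _ he' x hxC), ← hcomm _ hxp y hyC, mul_inv_cancel_right] at h2
      exact mul_eq_right.mp h2.symm
    have hye : y ^ p ^ n = 1 := by rw [hy, conj_pow, inv_pow, hxe, inv_one, mul_one, mul_inv_cancel]
    have hce : c ^ p ^ n = 1 := by
      have h2 := congrArg Subtype.val (CfsgLib.OddOmega.mul_pow_of_central (⟨x, hxC⟩ : C) ⟨y, hyC⟩
        ⟨⁅y, x⁆, hAC he'⟩ hez (Subtype.ext (show y * x = ⁅y, x⁆ * (x * y) by
          rw [commutatorElement_def]; group)) (p ^ n))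
      simp only [Subgroup.coe_pow, Subgroup.coe_mul] at h2
      rw [hcy, h2, hxe, hye]
      obtain ⟨q, hq⟩ := hn2
      rw [hq, pow_mul, hpe, one_pow, one_mul, one_mul]
    exact ihk c (Subgroup.mem_upperCentralSeries_succ_iff.mp hxk h) hcC hce
  have hcomA : ∀ g, ⁅x, g⁆ ∈ A := fun g =>
    step k g (Subgroup.mem_upperCentralSeries_succ_iff.mp hxk g)
  set B := Subgroup.closure (insert x (A : Set G)) with hB
  have hxB : x ∈ B := Subgroup.subset_closure (Set.mem_insert x _)
  have hAB : A ≤ B := fun a ha => Subgroup.subset_closure (Set.mem_insert_of_mem x ha)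
  have hgen : ∀ u ∈ insert x (A : Set G), ∀ v ∈ insert x (A : Set G), u * v = v * u := by
    rintro u (rfl | hu) v (rfl | hv)
    · rfl
    · exact (hcomm v hv u hxC).symm
    · exact hcomm u hu v hxC
    · exact congrArg Subtype.val (hA.is_comm.comm ⟨u, hu⟩ ⟨v, hv⟩)
  have hBc : IsMulCommutative B := Subgroup.isMulCommutative_closure hgen
  have hBn : B.Normal := ⟨fun b hb g => by
    have hle : B ≤ B.comap (MulAut.conj g).toMonoidHom := by
      refine (Subgroup.closure_le _).mpr ?_
      rintro u (rfl | hu)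
      · show g * u * g⁻¹ ∈ B
        rw [show g * u * g⁻¹ = ⁅u, g⁆⁻¹ * u by rw [commutatorElement_def]; group]
        exact mul_mem (inv_mem (hAB (hcomA g))) hxB
      · exact hAB (Subgroup.Normal.conj_mem inferInstance u hu g)
    exact hle hb⟩
  have hBe : ∀ b ∈ B, b ^ p ^ n = 1 := by
    intro b hb
    induction hb using Subgroup.closure_induction with
    | mem u hu => rcases hu with rfl | hu; exacts [hxe, hAe u hu]
    | one => exact one_pow _
    | mul u v hu hv h1 h2 =>
      rw [Commute.mul_pow (show Commute u v from congrArg Subtype.val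
        (hBc.is_comm.comm ⟨u, hu⟩ ⟨v, hv⟩)), h1, h2, one_mul]
    | inv u _ h1 => rw [inv_pow, h1, inv_one]
  rw [← hmax B hBn hBc hBe hAB]
  exact hxB

end Cfsg.Agent.S0130
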