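import Cfsg.Statements.S0100
import Cfsg.Agent.S0130
import Cfsg.Agent.Lib.PGroup.NormalSub

set_option autoImplicit false
open Cfsg

namespace Cfsg.Agent.S0100

/-- For odd p, a p-group without normal elementary abelian subgroups of order p^3 has p-rank at most 2. -/
theorem result {P : Type*} [Group P] [Finite P] {p : ℕ} [Fact p.Prime] (hp : p ≠ 2) (hP : IsPGroup p P) (h : ∀ A : Subgroup P, A.Normal → IsMulCommutative A → (∀ a ∈ A, a ^ p = 1) → Nat.card A ≠ p ^ 3) (E : Subgroup P) (hE : IsMulCommutative E) (hEe : ∀ e ∈ E, e ^ p = 1) : Nat.card E ≤ p ^ 2 := by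
  have hp' : p.Prime := Fact.out
  haveI : Group.IsNilpotent P := hP.isNilpotent
  obtain ⟨A, -, ⟨hAn, hAc, hAe⟩, hmax⟩ := Finite.exists_le_maximal
    (p := fun A : Subgroup P => A.Normal ∧ IsMulCommutative A ∧ ∀ a ∈ A, a ^ p = 1) (a := ⊥)
    ⟨inferInstance, inferInstance, fun a ha => by rw [Subgroup.mem_bot.mp ha, one_pow]⟩
  haveI := hAn
  obtain ⟨m, hm⟩ := IsPGroup.iff_card.mp (hP.to_subgroup A)
  have hm2 : m ≤ 2 := by
    by_contra hc
    obtain ⟨M, hMn, hMA, hMc⟩ := CfsgLib.CyclicMax.exists_normal_le_card_pow hP (m - 3) (j := 3) A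
      hAn (by rw [hm]; congr 1; omega)
    exact h M hMn ⟨⟨fun a b => Subtype.ext (show (a : P) * b = b * a from congrArg Subtype.val
      (hAc.is_comm.comm (⟨a, hMA a.2⟩ : A) ⟨b, hMA b.2⟩))⟩⟩ (fun a ha => hAe a (hMA ha)) hMc
  have hA2 : Nat.card A ≤ p ^ 2 := hm ▸ Nat.pow_le_pow_right hp'.pos hm2
  have hmax' : ∀ B : Subgroup P, B.Normal → IsMulCommutative B → (∀ b ∈ B, b ^ p ^ 1 = 1) →
      A ≤ B → B = A := fun B h1 h2 h3 h4 =>
    le_antisymm (hmax ⟨h1, h2, fun b hb => by simpa using h3 b hb⟩ h4) h4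
  have homega : ∀ e ∈ E, (∀ a ∈ A, a * e = e * a) → e ∈ A := fun e he hcom =>
    Cfsg.Agent.S0130.result hP 1 (by simpa using hp) A hAc (fun a ha => by simpa using hAe a ha)
      hmax' e (fun a ha => hcom a ha) (by simpa using hEe e he)
  rcases eq_or_ne A ⊥ with hA0 | hA0
  · have hE0 : E = ⊥ := (Subgroup.eq_bot_iff_forall E).mpr fun e he => by
      have := homega e he (fun a ha => by rw [hA0, Subgroup.mem_bot] at ha; rw [ha, one_mul, mul_one])
      rwa [hA0, Subgroup.mem_bot] at this
    rw [hE0, Subgroup.card_bot]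
    exact Nat.one_le_pow _ _ hp'.pos
  obtain ⟨z, hz, hz1⟩ := (A ⊓ Subgroup.center P).bot_or_exists_ne_one.resolve_left
    (CfsgLib.Critical.inf_center_ne_bot A hA0)
  obtain ⟨hzA, hzC⟩ := Subgroup.mem_inf.mp hz
  have hzord : orderOf z = p := orderOf_eq_prime (hAe z hzA) hz1
  rcases le_or_gt (Nat.card A) p with hAp | hAp
  · have hAz : Subgroup.zpowers z = A := Subgroup.eq_of_le_of_card_ge
      (Subgroup.zpowers_le.mpr hzA) (by rw [Nat.card_zpowers, hzord]; exact hAp)
    have hEA : E ≤ A := fun e he => homega e he fun a ha => by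
      rw [← hAz] at ha
      obtain ⟨j, rfl⟩ := Subgroup.mem_zpowers_iff.mp ha
      exact (Subgroup.mem_center_iff.mp (zpow_mem hzC j) e).symm
    exact (Subgroup.card_le_of_le hEA).trans hA2
  have hne : ¬ A ≤ Subgroup.zpowers z := fun hle => by
    have := Subgroup.card_le_of_le hle
    rw [Nat.card_zpowers, hzord] at this
    omega
  obtain ⟨a, haA, haz⟩ := SetLike.not_le_iff_exists.mp hne
  set D := Subgroup.closure ({z, a} : Set P) with hD
  have hDA : D = A := by
    refine Subgroup.eq_of_le_of_card_ge ((Subgroup.closure_le _).mpr ?_) ?_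
    · rintro u (rfl | rfl) <;> assumption
    · obtain ⟨d, hd⟩ := IsPGroup.iff_card.mp (hP.to_subgroup D)
      have hlt : Nat.card (Subgroup.zpowers z) < Nat.card D := by
        by_contra hc
        have hzD : Subgroup.zpowers z ≤ D :=
          Subgroup.zpowers_le.mpr (Subgroup.subset_closure (Set.mem_insert z _))
        exact haz ((Subgroup.eq_of_le_of_card_ge hzD (not_lt.mp hc)).ge
          (Subgroup.subset_closure (Set.mem_insert_of_mem z rfl)))
      rw [Nat.card_zpowers, hzord, hd] at hlt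
      have : 2 ≤ d := by
        by_contra hc
        exact absurd hlt (not_lt.mpr ((Nat.pow_le_pow_right hp'.pos (by omega : d ≤ 1)).trans_eq
          (pow_one p)))
      rw [hd]
      exact hA2.trans (Nat.pow_le_pow_right hp'.pos this)
  -- the orbit of `a` under `E`
  let S : Subgroup P := E ⊓ Subgroup.centralizer {a}
  have hSA : S ≤ A := fun e he => homega e he.1 fun b hb => by
    rw [← hDA] at hb
    induction hb using Subgroup.closure_induction with
    | mem u hu =>
      rcases hu with rfl | rfl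
      · exact (Subgroup.mem_center_iff.mp hzC e).symm
      · exact (Subgroup.mem_centralizer_singleton_iff.mp he.2).symm
    | one => simp
    | mul u v _ _ h1 h2 => exact (Commute.mul_left (show Commute u e from h1) h2).eq
    | inv u _ h1 => exact (Commute.inv_left (show Commute u e from h1)).eq
  by_cases hSE : E ≤ S
  · exact (Subgroup.card_le_of_le (hSE.trans hSA)).trans hA2
  obtain ⟨k, hk⟩ := IsPGroup.iff_card.mp (hP.to_subgroup E)
  have hidx : S.relIndex E < p ^ 2 := by
    show (S.subgroupOf E).index < p ^ 2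
    let φ : E ⧸ S.subgroupOf E → A := Quotient.lift
        (fun e : E => (⟨(e : P) * a * (e : P)⁻¹, hAn.conj_mem a haA e⟩ : A))
        (fun e f (hef : (QuotientGroup.leftRel (S.subgroupOf E)) e f) => by
          have hef' : (e : P)⁻¹ * f ∈ S := by
            have h1 : e⁻¹ * f ∈ S.subgroupOf E := QuotientGroup.leftRel_apply.mp hef
            exact h1
          have := Subgroup.mem_centralizer_singleton_iff.mp hef'.2
          refine Subtype.ext ?_
          show (e : P) * a * (e : P)⁻¹ = f * a * (f : P)⁻¹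
          rw [show (f : P) * a * (f : P)⁻¹ = e * ((e : P)⁻¹ * f * a) * (f : P)⁻¹ by group, this]
          group)
    have hinj : Function.Injective φ := by
      rintro ⟨e⟩ ⟨f⟩ hef
      have hef' : (e : P) * a * (e : P)⁻¹ = f * a * (f : P)⁻¹ := congrArg Subtype.val hef
      refine QuotientGroup.eq.mpr (Subgroup.mem_inf.mpr ⟨(e⁻¹ * f).2,
        Subgroup.mem_centralizer_singleton_iff.mpr ?_⟩)
      show (e : P)⁻¹ * f * a = a * ((e : P)⁻¹ * f)
      rw [show (e : P)⁻¹ * f * a = (e : P)⁻¹ * (f * a * (f : P)⁻¹) * f by group, ← hef']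
      group
    have hns : ¬ Function.Surjective φ := by
      intro hs
      obtain ⟨⟨e⟩, he⟩ := hs 1
      have he' : (e : P) * a * (e : P)⁻¹ = 1 := congrArg Subtype.val he
      exact haz (conj_eq_one_iff.mp he' ▸ one_mem _)
    exact (lt_of_le_of_ne (Nat.card_le_card_of_injective φ hinj) fun heq =>
      hns ((Nat.bijective_iff_injective_and_card φ).mpr ⟨hinj, heq⟩).2).trans_le hA2
  have hrel := Subgroup.relIndex_mul_relIndex ⊥ S E bot_le inf_le_left
  rw [Subgroup.relIndex_bot_left, Subgroup.relIndex_bot_left] at hrel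
  by_contra hbig
  obtain ⟨i, hik, hi⟩ := (Nat.dvd_prime_pow hp').mp (hk ▸ Dvd.intro_left _ hrel : S.relIndex E ∣ p ^ k)
  have hi1 : i ≤ 1 := by
    by_contra hc
    exact absurd hidx (not_lt.mpr (hi ▸ Nat.pow_le_pow_right hp'.pos (by omega)))
  have hSeq : S = A := by
    refine Subgroup.eq_of_le_of_card_ge hSA ?_
    by_contra hlt
    obtain ⟨s, hs⟩ := IsPGroup.iff_card.mp (hP.to_subgroup S)
    rw [hs, hm] at hlt
    have hsm : s < m := by
      by_contra hc
      exact hlt (Nat.pow_le_pow_right hp'.pos (by omega))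
    apply hbig
    rw [← hrel, hs, hi, ← pow_add]
    exact Nat.pow_le_pow_right hp'.pos (by omega)
  have hAE : A ≤ E := hSeq ▸ inf_le_left
  exact hSE (le_inf le_rfl fun e he => Subgroup.mem_centralizer_singleton_iff.mpr
    (congrArg Subtype.val (hE.is_comm.comm ⟨e, he⟩ ⟨a, hAE haA⟩)))

end Cfsg.Agent.S0100
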