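import Cfsg.Statements.S0101
import Mathlib
import Cfsg.Agent.Lib.Transfer.AbelianHall
import Cfsg.Agent.Lib.PSolvable.Omega

set_option autoImplicit false
set_option linter.style.haveILetI false
open Cfsg

namespace Cfsg.Agent.S0101

open scoped IsMulCommutative

/-- In a perfect central extension, the kernel meets each Sylow p-subgroup P inside the Frattini subgroup of P. -/
theorem result {H : Type*} {G : Type*} [Group H] [Group G] [Finite H] (σ : H →* G) (hσ : Function.Surjective σ) (hc : σ.ker ≤ Subgroup.center H) (hH : commutator H = ⊤) {p : ℕ} [Fact p.Prime] (P : Sylow p H) : σ.ker ⊓ (P : Subgroup H) ≤ (frattini P).map (P : Subgroup H).subtype := by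
  classical
  rintro z ⟨hz, hzP⟩
  refine ⟨⟨z, hzP⟩, ?_, rfl⟩
  show (⟨z, hzP⟩ : (P : Subgroup H)) ∈ frattini (P : Subgroup H)
  rw [frattini, Order.radical]
  simp only [Subgroup.mem_iInf]
  intro M hM
  haveI := (show IsPGroup p (P : Subgroup H) from P.2).isNilpotent
  haveI : M.Normal :=
    Subgroup.NormalizerCondition.normal_of_coatom M Group.normalizerCondition_of_isNilpotent hM
  obtain ⟨hcm, hpow⟩ := CfsgLib.PSolvable.commutator_le_frattini (show IsPGroup p (P : Subgroup H) from P.2)
  haveI : IsMulCommutative ((P : Subgroup H) ⧸ M) := ⟨⟨fun a b => by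
    obtain ⟨a, rfl⟩ := QuotientGroup.mk'_surjective M a
    obtain ⟨b, rfl⟩ := QuotientGroup.mk'_surjective M b
    rw [← commutatorElement_eq_one_iff_mul_comm, ← map_commutatorElement]
    exact (QuotientGroup.eq_one_iff _).mpr (frattini_le_coatom hM (hcm (Subgroup.commutator_mem_commutator
      (Subgroup.mem_top a) (Subgroup.mem_top b))))⟩⟩
  set φ := QuotientGroup.mk' M
  have hzc : ∀ a : H, a * z = z * a := Subgroup.mem_center_iff.mp (hc hz)
  have hkey : ∀ (k : ℕ) (a : H) (h : a⁻¹ * z ^ k * a ∈ (P : Subgroup H)),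
      φ ⟨_, h⟩ = φ ⟨z, hzP⟩ ^ k := by
    intro k a h
    rw [← map_pow]
    congr 1
    apply Subtype.ext
    show a⁻¹ * z ^ k * a = z ^ k
    rw [mul_assoc, ← ((show Commute a z from hzc a).pow_right k).eq, inv_mul_cancel_left]
  have h1 := CfsgLib.Transfer.transfer_eq_pow_of_controlled φ hzP hkey
  have h0 : MonoidHom.transfer φ z = 1 :=
    MonoidHom.mem_ker.mp (Abelianization.commutator_subset_ker _ (hH ▸ Subgroup.mem_top z))
  rw [h0] at h1
  have h2 : φ ⟨z, hzP⟩ ^ p = 1 := by
    rw [← map_pow]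
    exact (QuotientGroup.eq_one_iff _).mpr (frattini_le_coatom hM (hpow _))
  have h3 := Nat.eq_one_of_dvd_coprimes ((Fact.out : p.Prime).coprime_iff_not_dvd.mpr P.not_dvd_index)
    (orderOf_dvd_of_pow_eq_one h2) (orderOf_dvd_of_pow_eq_one h1.symm)
  exact (QuotientGroup.eq_one_iff _).mp (orderOf_eq_one_iff.mp h3)

end Cfsg.Agent.S0101
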