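import Cfsg.Statements.S0102
import Cfsg.Agent.Lib.Transfer.AbelianSylow
import Cfsg.Agent.Lib.Transfer.Basic

set_option autoImplicit false
open Cfsg

namespace Cfsg.Agent.S0102

/-- A finite perfect group with cyclic Sylow p-subgroups has no perfect central extension whose kernel has order divisible by p. -/
theorem result {G : Type*} {H : Type*} [Group G] [Group H] [Finite G] [Finite H] (hG : commutator G = ⊤) {p : ℕ} [Fact p.Prime] (hcyc : ∀ P : Sylow p G, IsCyclic P) (σ : H →* G) (hσ : Function.Surjective σ) (hz : σ.ker ≤ Subgroup.center H) (hH : commutator H = ⊤) : ¬ p ∣ Nat.card σ.ker := by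
  have hzk := hz
  intro hd
  haveI : Fact p.Prime := inferInstance
  obtain ⟨z, hz⟩ := exists_prime_orderOf_dvd_card' p hd
  have hzc : (z : H) ∈ Subgroup.center H := hzk z.2
  obtain ⟨Q, hQ⟩ := (CfsgLib.Transfer.isPGroup_zpowers (x := (z : H))
    ⟨1, by rw [Subgroup.orderOf_coe, hz, pow_one]⟩).exists_le_sylow
  have hzQ : (z : H) ∈ (Q : Subgroup H) := hQ (Subgroup.mem_zpowers _)
  haveI : IsCyclic ↥((Q : Subgroup H).map σ) := by
    rw [← Sylow.coe_mapSurjective hσ Q]
    exact hcyc _
  have hQab : IsMulCommutative (Q : Subgroup H) := by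
    let f := σ.subgroupMap (Q : Subgroup H)
    haveI : IsCyclic ↥f.range := Subgroup.isCyclic f.range
    exact ⟨⟨fun a b => commutative_of_cyclic_center_quotient f (fun x hx => by
      rw [Subgroup.mem_center_iff]
      exact fun y => Subtype.ext (Subgroup.mem_center_iff.mp
        (hzk (show (x : H) ∈ σ.ker from congrArg Subtype.val (MonoidHom.mem_ker.mp hx))) y)) a b⟩⟩
  have h1 : (z : H) = 1 := CfsgLib.Transfer.eq_one_of_abelian_sylow Q hQab hzQ
    (fun n _ => Subgroup.mem_center_iff.mp hzc n) (hH ▸ Subgroup.mem_top _)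
  rw [show z = 1 from Subtype.ext h1, orderOf_one] at hz
  exact (Fact.out : p.Prime).one_lt.ne hz

end Cfsg.Agent.S0102
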