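import Cfsg.Statements.S0104
import Cfsg.Agent.Lib.Transfer.Sylow

set_option autoImplicit false
set_option linter.style.haveILetI false
set_option linter.unusedVariables false
open Cfsg

namespace Cfsg.Agent.S0104

/-- A subgroup Z of a Sylow p-subgroup P that is normalized by N_G(P) is weakly closed in P exactly when it is normal in every Sylow p-subgroup containing it. -/
theorem result {G : Type*} [Group G] [Finite G] {p : ℕ} [Fact p.Prime] (P : Sylow p G) (Z : Subgroup G) (hZP : Z ≤ (P : Subgroup G)) (hZN : Subgroup.normalizer (P : Set G) ≤ Subgroup.normalizer (Z : Set G)) : Cfsg.IsWeaklyClosed Z P ↔ ∀ R : Sylow p G, Z ≤ (R : Subgroup G) → (R : Subgroup G) ≤ Subgroup.normalizer (Z : Set G) := by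
  constructor
  · intro hW R hZR r hr
    obtain ⟨g, hg⟩ := CfsgLib.Transfer.exists_map_conj_sylow_eq R P
    have key : ∀ a : G, a ∈ (R : Subgroup G) →
        Z.map (MulAut.conj (g * a)).toMonoidHom = Z := by
      intro a ha
      refine hW.2 _ ?_
      rw [← CfsgLib.Transfer.map_conj_mul, ← hg]
      refine Subgroup.map_mono ?_
      rintro _ ⟨z, hz, rfl⟩
      exact Subgroup.mul_mem _ (Subgroup.mul_mem _ ha (hZR hz)) (Subgroup.inv_mem _ ha)
    have hgN : g ∈ Subgroup.normalizer (Z : Set G) := by
      rw [← CfsgLib.Transfer.map_conj_eq_self_iff]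
      simpa using key 1 (Subgroup.one_mem _)
    have := Subgroup.mul_mem _ (Subgroup.inv_mem _ hgN)
      (CfsgLib.Transfer.map_conj_eq_self_iff.mp (key r hr))
    simpa using this
  · intro h
    refine ⟨hZP, fun g hg => ?_⟩
    have hR : Z ≤ ((g⁻¹ • P : Sylow p G) : Subgroup G) := by
      intro z hz
      rw [CfsgLib.Transfer.mem_smul_sylow, inv_inv]
      exact hg (Subgroup.mem_map_of_mem _ hz)
    obtain ⟨s, hs⟩ := MulAction.exists_smul_eq (Subgroup.normalizer (Z : Set G))
      ((g⁻¹ • P : Sylow p G).subtype (h _ hR))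
      (P.subtype (le_trans Subgroup.le_normalizer hZN))
    rw [Sylow.smul_subtype] at hs
    have hs' : (s : G) • (g⁻¹ • P) = P := Sylow.subtype_injective hs
    have hn : (s : G) * g⁻¹ ∈ Subgroup.normalizer (Z : Set G) :=
      hZN (Sylow.smul_eq_iff_mem_normalizer.mp (by rw [mul_smul, hs']))
    rw [CfsgLib.Transfer.map_conj_eq_self_iff]
    have := Subgroup.mul_mem _ (Subgroup.inv_mem _ hn) s.2
    simpa using this

end Cfsg.Agent.S0104
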