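import Cfsg.Statements.S0105
import Mathlib
import Cfsg.Agent.Lib.Transfer.AbelianHall
import Cfsg.Agent.S0075

set_option autoImplicit false
set_option linter.style.haveILetI false
open Cfsg

namespace Cfsg.Agent.S0105

open scoped IsMulCommutative commutatorElement

/-- With an abelian Sylow p-subgroup P, some quotient of G is isomorphic to the part of P central in N_G(P). -/
theorem result {G : Type*} [Group G] [Finite G] {p : ℕ} [Fact p.Prime] (P : Sylow p G) (hP : IsMulCommutative P) : ∃ (N : Subgroup G) (hN : N.Normal), Nonempty (G ⧸ N ≃* ((P : Subgroup G) ⊓ Subgroup.centralizer (Subgroup.normalizer (P : Set G) : Set G) : Subgroup G)) := by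
  haveI : IsMulCommutative (P : Subgroup G) := hP
  set R := Cfsg.pResidual p G with hR
  haveI hRn : R.Normal := CfsgLib.Transfer.pResidual_normal p G
  set M := Subgroup.normalizer ((P : Subgroup G) : Set G) with hM
  set A := (P : Subgroup G).subgroupOf M with hA
  set C := (P : Subgroup G) ⊓ Subgroup.centralizer (M : Set G) with hC
  haveI : A.Normal := Subgroup.normal_in_normalizer
  have hAc : IsMulCommutative A :=
    ⟨⟨fun a b => Subtype.ext (Subtype.ext (congrArg Subtype.val
      (mul_comm' (⟨_, a.2⟩ : (P : Subgroup G)) ⟨_, b.2⟩) :))⟩⟩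
  have hAh : (Nat.card A).Coprime A.index := by
    rw [hA, Nat.card_congr (Subgroup.subgroupOfEquivOfLe Subgroup.le_normalizer).toEquiv]
    exact P.card_coprime_index.coprime_dvd_right
      (Subgroup.relIndex_dvd_index_of_le Subgroup.le_normalizer)
  obtain ⟨h1, h2⟩ := CfsgLib.Transfer.abelian_normal_hall A hAc hAh
  have hmapA : A.map M.subtype = (P : Subgroup G) := Subgroup.map_subgroupOf_eq_of_le Subgroup.le_normalizer
  have hmapK : (⁅A, (⊤ : Subgroup M)⁆).map M.subtype = (P : Subgroup G) ⊓ R := by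
    rw [Subgroup.map_commutator, hmapA, ← MonoidHom.range_eq_map, Subgroup.range_subtype]
    exact (Cfsg.Agent.S0075.inf_residual P hP).symm
  have hmapC : (Subgroup.center M ⊓ A).map M.subtype = C := by
    ext x
    simp only [Subgroup.mem_map, Subgroup.mem_inf, hC, Subgroup.mem_centralizer_iff]
    constructor
    · rintro ⟨y, ⟨hy1, hy2⟩, rfl⟩
      exact ⟨hy2, fun u hu => congrArg Subtype.val (Subgroup.mem_center_iff.mp hy1 ⟨u, hu⟩)⟩
    · rintro ⟨hx1, hx2⟩
      exact ⟨⟨x, Subgroup.le_normalizer hx1⟩,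
        ⟨Subgroup.mem_center_iff.mpr fun u => Subtype.ext (hx2 u u.2), hx1⟩, rfl⟩
  have hinf : ((P : Subgroup G) ⊓ R) ⊓ C = ⊥ := by
    rw [← hmapK, ← hmapC, ← Subgroup.map_inf _ _ _ M.subtype_injective, h1, Subgroup.map_bot]
  have hsup : ((P : Subgroup G) ⊓ R) ⊔ C = (P : Subgroup G) := by
    rw [← hmapK, ← hmapC, ← Subgroup.map_sup, h2, hmapA]
  refine ⟨R, hRn, ⟨(MulEquiv.ofBijective ((QuotientGroup.mk' R).comp C.subtype) ⟨?_, ?_⟩).symm⟩⟩
  · rw [← MonoidHom.ker_eq_bot_iff, eq_bot_iff]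
    intro c hc
    have hcR : (c : G) ∈ R := (QuotientGroup.eq_one_iff _).mp hc
    have : (c : G) ∈ (⊥ : Subgroup G) := hinf ▸ ⟨⟨(Subgroup.mem_inf.mp c.2).1, hcR⟩, c.2⟩
    exact Subtype.ext this
  · intro y
    obtain ⟨g, rfl⟩ := QuotientGroup.mk'_surjective R y
    have hg : g ∈ (P : Subgroup G) ⊔ R := by
      rw [CfsgLib.Transfer.sylow_sup_pResidual P]; exact Subgroup.mem_top g
    have hle : (P : Subgroup G) ⊔ R ≤ C ⊔ R := by
      refine sup_le ?_ le_sup_right
      rw [← hsup]
      exact sup_le (inf_le_right.trans le_sup_right) le_sup_left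
    obtain ⟨c, hc, r, hr, rfl⟩ := Subgroup.mem_sup_of_normal_right.mp (hle hg)
    exact ⟨⟨c, hc⟩, by rw [map_mul, show QuotientGroup.mk' R r = 1 from
      (QuotientGroup.eq_one_iff r).mpr hr, mul_one]; rfl⟩

end Cfsg.Agent.S0105
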