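import Cfsg.Statements.S0109
import Cfsg.Agent.Lib.Quadratic.Stable
import Cfsg.Agent.Lib.ZJ.Replacement
import Cfsg.Agent.Lib.ZJ.Core
import Cfsg.Agent.Lib.PSolvable.Core
import Cfsg.Agent.Lib.Fitting.Basic
import Cfsg.Agent.Lib.Transfer.ThompsonJ
import Cfsg.Agent.Lib.Layer.CharPSubnormal

/-!
Thompson factorization: `G = N(J(P)) C(Ω₁(Z(P)))` for linearly `p`-stable constrained groups.
-/

set_option autoImplicit false
open Cfsg

namespace Cfsg.Agent.S0109

open scoped commutatorElement

universe u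

/-- Thompson factorization, for `p`-stable sections and `C(O_p) ≤ O_p`. -/
theorem factorization {G : Type u} [Group G] [Finite G] {p : ℕ} [Fact p.Prime]
    (hst : CfsgLib.Quadratic.SectionsStable p G)
    (hc : Subgroup.centralizer (Cfsg.pCore p G : Set G) ≤ Cfsg.pCore p G) (P : Sylow p G) (g : G) :
    ∃ a ∈ Subgroup.normalizer (Cfsg.thompsonSubgroupOf p (P : Subgroup G) : Set G),
      ∃ c ∈ Subgroup.centralizer
        {x : G | x ∈ (P : Subgroup G) ∧ (∀ y ∈ (P : Subgroup G), x * y = y * x) ∧ x ^ p = 1},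
        g = a * c := by
  set Z₀ : Set G := {x : G | x ∈ (P : Subgroup G) ∧ (∀ y ∈ (P : Subgroup G), x * y = y * x) ∧
    x ^ p = 1} with hZ₀
  haveI hQn : (Cfsg.pCore p G).Normal := CfsgLib.Fitting.pCore_normal p
  set Q := Cfsg.pCore p G with hQ
  have hQP : Q ≤ (P : Subgroup G) := fun y hy =>
    CfsgLib.Fitting.mem_pCore_iff_forall_sylow.mp hy P
  -- the normal closure of `Ω₁(Z(P))`
  set ZQ := Q ⊓ Subgroup.centralizer (Q : Set G) with hZQ
  have hZQcomm : ∀ x ∈ ZQ, ∀ y ∈ ZQ, x * y = y * x := fun x hx y hy => hy.2 x hx.1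
  haveI hZQn : ZQ.Normal := by rw [hZQ]; infer_instance
  have hZ₀ZQ : Z₀ ⊆ (ZQ : Set G) := fun x hx => by
    have h : x ∈ Subgroup.centralizer (Q : Set G) := fun q hq => (hx.2.1 q (hQP hq)).symm
    exact ⟨hc h, h⟩
  set V := Subgroup.normalClosure Z₀ with hV
  have hVZQ : V ≤ ZQ := Subgroup.normalClosure_le_normal hZ₀ZQ
  have hVP : V ≤ (P : Subgroup G) := hVZQ.trans (inf_le_left.trans hQP)
  have hVc : ∀ x ∈ V, ∀ y ∈ V, Commute x y := fun x hx y hy => hZQcomm x (hVZQ hx) y (hVZQ hy)
  have hVp : ∀ x ∈ V, x ^ p = 1 := by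
    intro x hx
    induction hx using Subgroup.closure_induction with
    | mem x hx =>
      obtain ⟨a, ha, hax⟩ := Group.mem_conjugatesOfSet_iff.mp hx
      obtain ⟨b, rfl⟩ := isConj_iff.mp hax
      rw [conj_pow, ha.2.2, mul_one, mul_inv_cancel]
    | one => exact one_pow p
    | mul x y hx hy ihx ihy =>
      rw [(hVc x hx y hy).mul_pow, ihx, ihy, one_mul]
    | inv x _ ih => rw [inv_pow, ih, inv_one]
  have hVel : Cfsg.IsElementaryAbelian p V :=
    ⟨⟨⟨fun x y => Subtype.ext (hVc x x.2 y y.2).eq⟩⟩, hVp⟩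
  set K := Subgroup.centralizer (V : Set G) with hK
  haveI hKn : K.Normal := by rw [hK]; infer_instance
  have hKZ : K ≤ Subgroup.centralizer Z₀ :=
    Subgroup.centralizer_le (Subgroup.subset_normalClosure)
  have hVK : V ≤ K := fun x hx y hy => hVc y hy x hx
  -- quadratic elements lie in `K`
  have hquad : ∀ a : G, ⁅⁅V, Subgroup.zpowers a⁆, Subgroup.zpowers a⁆ = ⊥ → a ∈ K := by
    intro a ha
    have h1 := CfsgLib.Quadratic.isPStableOn_of_sectionsStable hst V hVel a ha
    haveI := CfsgLib.Fitting.pCore_normal (G := G ⧸ K) p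
    set D := (Cfsg.pCore p (G ⧸ K)).comap (QuotientGroup.mk' K) with hD
    haveI hDn : D.Normal := Subgroup.Normal.comap inferInstance _
    have hKD : K ≤ D := by
      intro x hx
      rw [hD, Subgroup.mem_comap, QuotientGroup.mk'_apply, (QuotientGroup.eq_one_iff x).mpr hx]
      exact one_mem _
    -- `D = K (P ⊓ D)`
    have hDP : D ≤ (P : Subgroup G) ⊔ K := by
      intro x hx
      let P' : Sylow p (G ⧸ K) := P.mapSurjective (QuotientGroup.mk'_surjective K)
      have h2 : (QuotientGroup.mk' K x) ∈ (P' : Subgroup (G ⧸ K)) :=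
        CfsgLib.Fitting.mem_pCore_iff_forall_sylow.mp hx P'
      obtain ⟨y, hy, hyx⟩ := h2
      have hk : y⁻¹ * x ∈ K := (QuotientGroup.eq).mp hyx
      have h3 : x = y * (y⁻¹ * x) := by group
      rw [h3]
      exact Subgroup.mul_mem_sup hy hk
    have hPZ : (P : Subgroup G) ≤ Subgroup.centralizer Z₀ := fun y hy z hz => hz.2.1 y hy
    have hDZ : D ≤ Subgroup.centralizer Z₀ := hDP.trans (sup_le hPZ hKZ)
    have hDK : D ≤ K := by
      rw [hK, Subgroup.le_centralizer_iff, hV]
      have hn : (Subgroup.centralizer (D : Set G)).Normal := inferInstance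
      exact Subgroup.normalClosure_le_normal fun z hz d hd => (hDZ hd z hz).symm
    exact hDK h1
  -- every maximal elementary abelian subgroup of `P` centralises `V`
  have hle : ∀ A ∈ CfsgLib.Transfer.maxAbExp p (P : Subgroup G), A ≤ K := by
    by_contra hne
    push Not at hne
    obtain ⟨A₀, hA₀, hA₀K⟩ := hne
    let 𝒮 : Set (Subgroup G) := {A | A ∈ CfsgLib.Transfer.maxAbExp p (P : Subgroup G) ∧ ¬ A ≤ K}
    obtain ⟨B₁, -, hmax⟩ := Finite.exists_le_maximal
      (p := fun B : Subgroup G => ∃ A ∈ 𝒮, A ⊓ V = B) (a := A₀ ⊓ V) ⟨A₀, ⟨hA₀, hA₀K⟩, rfl⟩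
    obtain ⟨⟨A, ⟨hA, hAK⟩, rfl⟩, hmax⟩ := hmax
    by_cases hVA : V ≤ Subgroup.normalizer (A : Set G)
    · refine hAK fun a ha => hquad a ?_
      exact CfsgLib.ZJ.quadratic_of_normalizes
        (fun x hx y hy => congrArg Subtype.val (hA.2.1.1.is_comm.comm (⟨x, hx⟩ : A) ⟨y, hy⟩)) hVA ha
    · obtain ⟨A', hA', hlt, hA'N⟩ := CfsgLib.ZJ.glauberman_replacement' (e := p) (Or.inr rfl)
        P.isPGroup' hA hVP (Subgroup.normalizer_eq_top (H := V) ▸ le_top)
        (fun x hx y hy a _ => by rw [commutatorElement_eq_one_iff_mul_comm.2 (hVc x hx y hy)]; simp)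
        (fun x hx y hy z _ => by rw [commutatorElement_eq_one_iff_mul_comm.2 (hVc x hx y hy)]; simp)
        hVA (Or.inr ⟨hVc, hVp⟩)
      by_cases hA'K : A' ≤ K
      · refine hVA (le_trans ?_ hA'N)
        obtain ⟨hA'P, ⟨hA'c, hA'e⟩, hA'max⟩ := hA'
        have hcm : ∀ x ∈ A', ∀ y ∈ V, Commute x y := fun x hx y hy => (hA'K hx y hy).symm
        have hc2 : A' ⊔ V ≤ Subgroup.centralizer ((A' ⊔ V : Subgroup G) : Set G) := by
          have h1 : ∀ B : Subgroup G, B ≤ Subgroup.centralizer (A' : Set G) →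
              B ≤ Subgroup.centralizer (V : Set G) →
              A' ⊔ V ≤ Subgroup.centralizer (B : Set G) := fun B h2 h3 =>
            sup_le (Subgroup.le_centralizer_iff.1 h2) (Subgroup.le_centralizer_iff.1 h3)
          refine sup_le (Subgroup.le_centralizer_iff.1 (h1 A' ?_ hA'K))
            (Subgroup.le_centralizer_iff.1 (h1 V ?_ hVK))
          · exact fun x hx y hy => congrArg Subtype.val (hA'c.is_comm.comm (⟨y, hy⟩ : A') ⟨x, hx⟩)
          · exact fun x hx y hy => hcm y hy x hx
        have hexp : ∀ x ∈ A' ⊔ V, x ^ p = 1 := by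
          intro x hx
          rw [Subgroup.sup_eq_closure] at hx
          induction hx using Subgroup.closure_induction with
          | mem x hx =>
            rcases hx with hx | hx
            · exact hA'e x hx
            · exact hVp x hx
          | one => exact one_pow p
          | mul x y hx hy ihx ihy =>
            rw [← Subgroup.sup_eq_closure] at hx hy
            have : Commute x y := hc2 hy x hx
            rw [this.mul_pow, ihx, ihy, one_mul]
          | inv x _ ih => rw [inv_pow, ih, inv_one]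
        have h4 := hA'max (A' ⊔ V) (sup_le hA'P hVP)
          ⟨⟨⟨fun x y => Subtype.ext (hc2 y.2 x x.2)⟩⟩, hexp⟩
        exact le_sup_right.trans (Subgroup.eq_of_le_of_card_ge le_sup_left h4).ge
      · exact hlt.ne (le_antisymm hlt.le (hmax ⟨A', ⟨hA', hA'K⟩, rfl⟩ hlt.le))
  -- the Frattini argument
  set R : Subgroup G := (P : Subgroup G) ⊓ K with hR
  have hJ : CfsgLib.Transfer.thompsonJ p (P : Subgroup G) = CfsgLib.Transfer.thompsonJ p R := by
    refine le_antisymm (sSup_le fun A hA => le_sSup ⟨le_inf hA.1 (hle A hA), hA.2.1,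
      fun B hB hBe => hA.2.2 B (hB.trans inf_le_left) hBe⟩) (sSup_le fun A hA => ?_)
    obtain ⟨A₁, hA₁⟩ := CfsgLib.Transfer.thompsonJ_nonempty p (P : Subgroup G)
    refine le_sSup ⟨hA.1.trans inf_le_left, hA.2.1, fun B hB hBe => ?_⟩
    exact (hA₁.2.2 B hB hBe).trans (hA.2.2 A₁ (le_inf hA₁.1 (hle A₁ hA₁)) hA₁.2.1)
  let R' : Sylow p K := (P.isPGroup'.comap_of_injective K.subtype K.subtype_injective).toSylow
    (CfsgLib.CharCore.not_dvd_relIndex_of_isSubnormal hKn.isSubnormal P)
  have htop := Sylow.normalizer_sup_eq_top R'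
  have hRX : (R' : Subgroup K).map K.subtype = R := by
    show ((P : Subgroup G).comap K.subtype).map K.subtype = R
    rw [Subgroup.map_comap_eq, Subgroup.range_subtype, hR, inf_comm]
  rw [hRX] at htop
  have hg : g ∈ (Subgroup.normalizer (R : Set G) ⊔ K : Subgroup G) := htop ▸ Subgroup.mem_top g
  rw [← SetLike.mem_coe, Subgroup.mul_normal] at hg
  obtain ⟨a, ha, c, hck, rfl⟩ := hg
  refine ⟨a, ?_, c, hKZ hck, rfl⟩
  rw [CfsgLib.Transfer.thompsonSubgroupOf_eq, hJ, Subgroup.mem_normalizer_iff_map_conj_eq]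
  show (CfsgLib.Transfer.thompsonJ p R).map (MulAut.conj a).toMonoidHom = _
  rw [CfsgLib.Transfer.map_thompsonJ p _ (MulAut.conj a).injective.injOn]
  congr 1
  exact Subgroup.mem_normalizer_iff_map_conj_eq.mp ha

/-- The Thompson factorization Theorem for solvable groups states that, with p odd (and abelian Sylow 2-subgroups when p = 3) and no nontrivial normal subgroup of order prime to p, every element of G is a product of an element normalizing J(P) and an element centralizing the elements of order dividing p in the centre of P. -/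
theorem result {G : Type*} [Group G] [Finite G] {p : ℕ} [Fact p.Prime] (hp : p ≠ 2) (hs : Group.IsSolvable G) (h3 : p = 3 → ∀ T : Sylow 2 G, IsMulCommutative T) (hF : ∀ N : Subgroup G, N.Normal → Nat.Coprime (Nat.card N) p → N = ⊥) (P : Sylow p G) (g : G) : ∃ a ∈ Subgroup.normalizer (Cfsg.thompsonSubgroupOf p (P : Subgroup G) : Set G), ∃ c ∈ Subgroup.centralizer {x : G | x ∈ (P : Subgroup G) ∧ (∀ y ∈ (P : Subgroup G), x * y = y * x) ∧ x ^ p = 1}, g = a * c := by
  have hps := CfsgLib.PSolvable.isPSolvable_of_isSolvable (p := p) hs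
  have hcore : Cfsg.pPrimeCore p G = ⊥ :=
    eq_bot_iff.mpr (sSup_le fun N hN => (hF N hN.1 hN.2).le)
  refine factorization ?_ (CfsgLib.PSolvable.centralizer_pCore_le hps hcore) P g
  by_cases h : p = 3
  · exact CfsgLib.Quadratic.sectionsStable_of_abelian_sylow_two hp (h3 h)
  · have h5 : 5 ≤ p := by
      have hpp := (Fact.out : p.Prime)
      by_contra hlt
      interval_cases p <;> first | omega | norm_num at hpp
    exact CfsgLib.Quadratic.sectionsStable_of_isPSolvable h5 hps

end Cfsg.Agent.S0109
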