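import Cfsg.Statements.S0110
import Mathlib
import Cfsg.Agent.S0014

set_option autoImplicit false
set_option linter.style.haveILetI false
open Cfsg
open scoped commutatorElement

namespace Cfsg.Agent.S0110

/-- In a p-group G, an extraspecial subgroup E with [G, E] ≤ Z(E) satisfies G = E C_G(E). -/
theorem result {G : Type*} [Group G] [Finite G] {p : ℕ} [Fact p.Prime] (hG : IsPGroup p G) (E : Subgroup G) (hE : Cfsg.IsExtraspecial p E) (h : ⁅(⊤ : Subgroup G), E⁆ ≤ E ⊓ Subgroup.centralizer (E : Set G)) : E ⊔ Subgroup.centralizer (E : Set G) = ⊤ := by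
  classical
  have hEp : IsPGroup p E := hE.1.1
  obtain ⟨n, hn⟩ : ∃ n, (frattini E).index = p ^ n := by
    obtain ⟨n, hn⟩ := IsPGroup.iff_card.mp (hEp.to_quotient (frattini E))
    exact ⟨n, hn⟩
  obtain ⟨T, -, hTn, hT⟩ := (Cfsg.Agent.S0014.result p n hEp hn).1
    (Set.toFinite (Set.univ : Set E)).toFinset (by simp)
  set Z := Subgroup.center E
  -- a kernel description of the commutation action on a generating set
  have hZmem : ∀ (g : G) (t : E), ∃ z : Z, ((z : E) : G) = ⁅g, (t : G)⁆ := by
    intro g t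
    have h1 := h (Subgroup.commutator_mem_commutator (Subgroup.mem_top g) t.2)
    refine ⟨⟨⟨_, h1.1⟩, Subgroup.mem_center_iff.mpr fun u => Subtype.ext ?_⟩, rfl⟩
    exact Subgroup.mem_centralizer_iff.mp h1.2 u u.2
  choose z hz using hZmem
  let F : G → (T → Z) := fun g t => z g t
  have hF : ∀ a b : G, F a = F b → b⁻¹ * a ∈ Subgroup.centralizer (E : Set G) := by
    intro a b hab
    have hT' : ∀ t ∈ T, (b⁻¹ * a) * (t : G) = (t : G) * (b⁻¹ * a) := by
      intro t ht
      have h1 : ⁅a, (t : G)⁆ = ⁅b, (t : G)⁆ := by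
        rw [← hz, ← hz]; exact congrArg (fun u : Z => ((u : E) : G)) (congrFun hab ⟨t, ht⟩)
      rw [commutatorElement_def, commutatorElement_def, mul_left_inj] at h1
      calc b⁻¹ * a * (t : G) = b⁻¹ * (a * (t : G) * a⁻¹) * a := by group
        _ = (t : G) * (b⁻¹ * a) := by rw [h1]; group
    rw [Subgroup.mem_centralizer_iff]
    intro u hu
    have : (⟨u, hu⟩ : E) ∈ (Subgroup.centralizer {b⁻¹ * a}).subgroupOf E := by
      have htop : Subgroup.closure (T : Set E) ≤ (Subgroup.centralizer {b⁻¹ * a}).subgroupOf E := by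
        rw [Subgroup.closure_le]
        exact fun t ht => Subgroup.mem_centralizer_singleton_iff.mpr (hT' t ht).symm
      exact htop (hT ▸ Subgroup.mem_top _)
    exact Subgroup.mem_centralizer_singleton_iff.mp this
  -- `E` itself realises every possible value
  have hcard : Nat.card (T → Z) = p ^ n := by
    rw [Nat.card_fun, hE.2, Nat.card_eq_finsetCard, hTn]
  let Fb : E ⧸ Z → (T → Z) := fun q => F (q.out : E)
  have hinj : Function.Injective Fb := by
    intro q q' e
    rw [← QuotientGroup.out_eq' q, ← QuotientGroup.out_eq' q']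
    refine (QuotientGroup.eq.mpr ?_).symm
    refine Subgroup.mem_center_iff.mpr fun u => Subtype.ext ?_
    exact Subgroup.mem_centralizer_iff.mp (hF _ _ e) u u.2
  have hsurj : Function.Surjective Fb := by
    refine ((Nat.bijective_iff_injective_and_card _).mpr ⟨hinj, ?_⟩).2
    rw [hcard, ← hn, hE.1.2.1]
    rfl
  rw [Subgroup.eq_top_iff']
  intro g
  obtain ⟨q, hq⟩ := hsurj (F g)
  have hc := hF g (q.out : E) hq.symm
  rw [show g = (q.out : G) * (((q.out : G))⁻¹ * g) by group]
  exact Subgroup.mul_mem _ (Subgroup.mem_sup_left q.out.2) (Subgroup.mem_sup_right hc)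

end Cfsg.Agent.S0110
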