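import Cfsg.Statements.S0116
import Cfsg.Agent.Lib.Transfer.Alperin

set_option autoImplicit false
set_option linter.style.haveILetI false
set_option linter.unusedVariables false
open Cfsg

namespace Cfsg.Agent.S0116

open CfsgLib.Transfer in
/-- Alperin chains in the indexed form of the statement. -/
theorem chain_seq {G : Type*} [Group G] {S : Subgroup G → G → Prop} {A : Set G} {g : G}
    (h : Chain S A g) :
    ∃ (n : ℕ) (D : Fin n → Subgroup G) (x : Fin n → G), (List.ofFn x).prod = g ∧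
      (∀ i, S (D i) (x i) ∧ x i ∈ Subgroup.normalizer (D i : Set G)) ∧
      (∀ h : 0 < n, A ⊆ (D ⟨0, h⟩ : Set G)) ∧ ∀ i : Fin n, ∀ h : i.val + 1 < n,
        (fun a => (((List.ofFn x).take (i.val + 1)).prod)⁻¹ * a *
          ((List.ofFn x).take (i.val + 1)).prod) '' A ⊆ (D ⟨i.val + 1, h⟩ : Set G) := by
  obtain ⟨n, D, x, h1, h2, h3⟩ := h.exists_fin
  refine ⟨n, D, x, h1, h2, fun h => ?_, fun i h => h3 ⟨i.val + 1, h⟩⟩
  simpa [rconj_one] using h3 ⟨0, h⟩

/-- The Alperin fusion Theorem states that conjugation between subsets of a Sylow p-subgroup P factors through normalizers of tame intersections P ∩ Q_i with other Sylow p-subgroups, carrying the subset along step by step. -/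
theorem result {G : Type*} [Group G] [Finite G] {p : ℕ} [Fact p.Prime] (P : Sylow p G) (A : Set G) (g : G) (hA : A ⊆ (P : Set G)) (hAg : (fun a => g⁻¹ * a * g) '' A ⊆ (P : Set G)) : ∃ (n : ℕ) (Q : Fin n → Sylow p G) (x : Fin n → G), (List.ofFn x).prod = g ∧ (∀ i : Fin n, x i ∈ Subgroup.normalizer ((((P : Subgroup G) ⊓ (Q i : Subgroup G)) : Subgroup G) : Set G) ∧ ¬ p ∣ ((P : Subgroup G) ⊓ Subgroup.normalizer ((((P : Subgroup G) ⊓ (Q i : Subgroup G)) : Subgroup G) : Set G)).relIndex (Subgroup.normalizer ((((P : Subgroup G) ⊓ (Q i : Subgroup G)) : Subgroup G) : Set G)) ∧ ¬ p ∣ ((Q i : Subgroup G) ⊓ Subgroup.normalizer ((((P : Subgroup G) ⊓ (Q i : Subgroup G)) : Subgroup G) : Set G)).relIndex (Subgroup.normalizer ((((P : Subgroup G) ⊓ (Q i : Subgroup G)) : Subgroup G) : Set G))) ∧ (∀ h : 0 < n, A ⊆ (((P : Subgroup G) ⊓ (Q ⟨0, h⟩ : Subgroup G) : Subgroup G) : Set G)) ∧ ∀ i : Fin n, ∀ h : i.val + 1 < n, (fun a => (((List.ofFn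 x).take (i.val + 1)).prod)⁻¹ * a * ((List.ofFn x).take (i.val + 1)).prod) '' A ⊆ (((P : Subgroup G) ⊓ (Q ⟨i.val + 1, h⟩ : Subgroup G) : Subgroup G) : Set G) := by
  obtain ⟨n, D, x, h1, h2, h3, h4⟩ := chain_seq (CfsgLib.Transfer.alperin_set P hA hAg)
  choose Q hQ using fun i => (h2 i).1
  refine ⟨n, Q, x, h1, fun i => ?_, fun h => (hQ ⟨0, h⟩).1 ▸ h3 h, fun i h => (hQ ⟨i.val + 1, h⟩).1 ▸ h4 i h⟩
  obtain ⟨e, t1, t2⟩ := hQ i
  rw [e] at t1 t2
  exact ⟨e ▸ (h2 i).2, t1, t2⟩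

end Cfsg.Agent.S0116
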