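import Cfsg.Statements.S0125
import Cfsg.Agent.Lib.Transfer.Focal

set_option autoImplicit false
set_option linter.style.haveILetI false
set_option linter.unusedVariables false
open Cfsg

namespace Cfsg.Agent.S0125

/-- The centralizer of a self-centralizing normal subgroup A of a Sylow p-subgroup is the direct product of A with a normal p'-subgroup. -/
theorem result {G : Type*} [Group G] [Finite G] {p : ℕ} [Fact p.Prime] (R : Sylow p G) (A : Subgroup G) (hAR : A ≤ (R : Subgroup G)) (hAn : (R : Subgroup G) ≤ Subgroup.normalizer (A : Set G)) (hC : (R : Subgroup G) ⊓ Subgroup.centralizer (A : Set G) = A) : ∃ H : Subgroup G, H ≤ Subgroup.centralizer (A : Set G) ∧ Nat.Coprime (Nat.card H) p ∧ Subgroup.centralizer (A : Set G) ≤ Subgroup.normalizer (H : Set G) ∧ H ⊓ A = ⊥ ∧ H ⊔ A = Subgroup.centralizer (A : Set G) := by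
  set C := Subgroup.centralizer (A : Set G) with hCdef
  set N := Subgroup.normalizer (A : Set G) with hNdef
  have hAC : A ≤ C := by rw [← hC]; exact inf_le_right
  have hCN : C ≤ N := Subgroup.centralizer_le_normalizer _
  haveI hCn : (C.subgroupOf N).Normal := Subgroup.normal_subgroupOf_centralizer_normalizer _
  have hidx : ¬ p ∣ (A.subgroupOf C).index := by
    change ¬ p ∣ A.relIndex C
    rw [← hC, Subgroup.inf_relIndex_right]
    intro hp'
    apply R.not_dvd_index
    have h1 : ((R : Subgroup G).subgroupOf N).relIndex (C.subgroupOf N) = (R : Subgroup G).relIndex C :=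
      Subgroup.relIndex_subgroupOf hCN
    have h2 := CfsgLib.Transfer.relIndex_dvd_index_of_normal ((R : Subgroup G).subgroupOf N) (C.subgroupOf N)
    rw [h1] at h2
    exact hp'.trans (h2.trans (Subgroup.relIndex_dvd_index_of_le hAn))
  have hA2 : IsPGroup p (A.subgroupOf C) := (R.2.to_le hAR).comap_of_injective _ C.subtype_injective
  have hcen : (A.subgroupOf C) ≤ Subgroup.center C := by
    intro a ha
    rw [Subgroup.mem_center_iff]
    intro b
    exact Subtype.ext (Subgroup.mem_centralizer_iff.mp b.2 a ha).symm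
  have hnc := CfsgLib.Transfer.hasNormalPComplement_of_central (hA2.toSylow hidx) hcen
  haveI hKn := CfsgLib.Transfer.pResidual_normal p C
  have hcop : (Nat.card (Cfsg.pResidual p C)).Coprime p :=
    ((Fact.out : p.Prime).coprime_iff_not_dvd.mpr
      (CfsgLib.Transfer.hasNormalPComplement_iff_pResidual.mp hnc)).symm
  have hcompl := CfsgLib.Transfer.isComplement'_sylow hcop
    CfsgLib.Transfer.isPGroup_quotient_pResidual (hA2.toSylow hidx)
  refine ⟨(Cfsg.pResidual p C).map C.subtype, Subgroup.map_subtype_le _, ?_, ?_, ?_, ?_⟩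
  · rwa [Subgroup.card_map_of_injective C.subtype_injective]
  · intro c hc
    rw [← CfsgLib.Transfer.map_conj_eq_self_iff]
    have e : ((Cfsg.pResidual p C).map C.subtype).map (MulAut.conj c).toMonoidHom =
        ((Cfsg.pResidual p C).map (MulAut.conj (⟨c, hc⟩ : C)).toMonoidHom).map C.subtype := by
      rw [Subgroup.map_map, Subgroup.map_map]; congr 1
    rw [e, CfsgLib.Transfer.map_conj_eq_self_iff.mpr (by rw [Subgroup.normalizer_eq_top]; trivial)]
  · have h3 : (Cfsg.pResidual p C) ⊓ A.subgroupOf C = ⊥ := by
      simpa using disjoint_iff.mp hcompl.disjoint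
    have h4 := congrArg (Subgroup.map C.subtype) h3
    rw [Subgroup.map_inf _ _ _ C.subtype_injective, Subgroup.map_bot, Subgroup.map_subgroupOf_eq_of_le hAC] at h4
    exact h4
  · have h3 : (Cfsg.pResidual p C) ⊔ A.subgroupOf C = ⊤ := by
      simpa using hcompl.sup_eq_top
    have h4 := congrArg (Subgroup.map C.subtype) h3
    rw [Subgroup.map_sup, ← MonoidHom.range_eq_map, Subgroup.range_subtype, Subgroup.map_subgroupOf_eq_of_le hAC] at h4
    exact h4

end Cfsg.Agent.S0125
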