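import Cfsg.Statements.S0127
import Mathlib
import Cfsg.Agent.Lib.SmallClass.Power
import Cfsg.Agent.Lib.Critical.Basic

set_option autoImplicit false
set_option linter.style.haveILetI false
open Cfsg
open scoped commutatorElement

namespace Cfsg.Agent.S0127

theorem sub_one_dvd {p m : ℕ} [Fact p.Prime] (hp : p ≠ 2) {r : ℤ}
    (h : ((p : ℤ) ^ (m + 1)) ∣ r ^ p - 1) : ((p : ℤ) ^ m) ∣ r - 1 := by
  have hp' : p.Prime := Fact.out
  have hdp : (p : ℤ) ∣ r ^ p - 1 := (dvd_pow_self _ (Nat.succ_ne_zero m)).trans h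
  have h1 : (p : ℤ) ∣ r - 1 := by
    rw [← ZMod.intCast_zmod_eq_zero_iff_dvd] at hdp ⊢
    push_cast at hdp ⊢
    rwa [ZMod.pow_card] at hdp
  have hr : ¬ (p : ℤ) ∣ r := by
    intro h2
    have h3 : (p : ℤ) ∣ 1 := by simpa using dvd_sub h2 h1
    have := Int.natCast_dvd_natCast.mp (by exact_mod_cast h3 : ((p : ℕ) : ℤ) ∣ ((1 : ℕ) : ℤ))
    exact hp'.ne_one (Nat.dvd_one.mp this)
  have key := emultiplicity_pow_prime_sub_pow_prime (Nat.prime_iff_prime_int.mp hp')
    (hp'.odd_of_ne_two hp) h1 hr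
  rw [pow_dvd_iff_le_emultiplicity] at h ⊢
  rw [one_pow] at key
  rw [key, Nat.cast_add, Nat.cast_one] at h
  exact (WithTop.add_le_add_iff_right WithTop.one_ne_top).mp h

/-- For odd p, in a non-cyclic p-group with a cyclic subgroup of index p, the elements of order dividing p generate an elementary abelian subgroup of order p^2. -/
theorem result {R : Type*} [Group R] [Finite R] {p : ℕ} [Fact p.Prime] (hp : p ≠ 2) (hR : IsPGroup p R) (hnc : ¬ IsCyclic R) (C : Subgroup R) (hC : IsCyclic C) (hCi : C.index = p) : Cfsg.IsElementaryAbelian p (Subgroup.closure {x : R | x ^ p = 1}) ∧ Nat.card (Subgroup.closure {x : R | x ^ p = 1}) = p ^ 2 := by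
  classical
  have hp' : p.Prime := Fact.out
  haveI := hR.isNilpotent
  obtain ⟨c, hc⟩ := (Subgroup.isCyclic_iff_exists_zpowers_eq_top C).mp hC
  obtain ⟨m, hm⟩ := IsPGroup.iff_card.mp (hR.to_subgroup C)
  obtain ⟨m, rfl⟩ : ∃ k, m = k + 1 := by
    rcases m with _ | m
    · exfalso
      apply hnc
      have : Nat.card R = p := by rw [← C.card_mul_index, hm, hCi, pow_zero, one_mul]
      exact isCyclic_of_prime_card this
    · exact ⟨m, rfl⟩
  have hco : orderOf c = p ^ (m + 1) := by rw [← Nat.card_zpowers, hc, hm]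
  haveI hCn : C.Normal := Subgroup.normal_of_index_eq_minFac_card (by
    rw [hCi]
    obtain ⟨n, hn⟩ := IsPGroup.iff_card.mp hR
    have hn0 : n ≠ 0 := by
      rintro rfl
      rw [pow_zero] at hn
      haveI := (Nat.card_eq_one_iff_unique.mp hn).1
      exact hnc isCyclic_of_subsingleton
    rw [hn, hp'.pow_minFac hn0])
  have hcC : c ∈ C := hc ▸ Subgroup.mem_zpowers c
  -- conjugation acts on `C` by exponents congruent to one modulo `p ^ m`
  have hkey : ∀ x : R, ∃ k : ℤ, ⁅x, c⁆ = c ^ ((p : ℤ) ^ m * k) := by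
    intro x
    obtain ⟨r, hr⟩ : ∃ r : ℤ, c ^ r = x * c * x⁻¹ :=
      Subgroup.mem_zpowers_iff.mp (hc.symm ▸ hCn.conj_mem c hcC x)
    have hit : ∀ n : ℕ, x ^ n * c * (x ^ n)⁻¹ = c ^ (r ^ n) := by
      intro n
      induction n with
      | zero => simp
      | succ n ih =>
        calc x ^ (n + 1) * c * (x ^ (n + 1))⁻¹ = x * (x ^ n * c * (x ^ n)⁻¹) * x⁻¹ := by
              rw [pow_succ']; group
          _ = c ^ (r ^ (n + 1)) := by rw [ih, ← conj_zpow, ← hr, ← zpow_mul, pow_succ']
    have hxp : x ^ p * c * (x ^ p)⁻¹ = c := by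
      have hxC : x ^ p ∈ C := hCi ▸ Subgroup.pow_index_mem C x
      obtain ⟨j, hj⟩ := Subgroup.mem_zpowers_iff.mp (hc.symm ▸ hxC)
      rw [← hj, ((Commute.refl c).zpow_left j).eq, mul_inv_cancel_right]
    rw [hit] at hxp
    have hd : ((p : ℤ) ^ (m + 1)) ∣ r ^ p - 1 := by
      have h1 : c ^ (r ^ p - 1) = 1 := by rw [zpow_sub, zpow_one, hxp, mul_inv_cancel]
      rw [← orderOf_dvd_iff_zpow_eq_one, hco] at h1
      exact_mod_cast h1
    obtain ⟨k, hk⟩ := sub_one_dvd hp hd
    exact ⟨k, by rw [← hk, zpow_sub, zpow_one, commutatorElement_def, ← hr]⟩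
  set w := c ^ (p ^ m) with hw
  have hwp : w ^ p = 1 := by rw [hw, ← pow_mul, ← pow_succ, ← hco, pow_orderOf_eq_one]
  have hwc : ∀ x : R, Commute x w := by
    intro x
    obtain ⟨k, hk⟩ := hkey x
    have hx : x * c * x⁻¹ = c ^ (1 + (p : ℤ) ^ m * k) := by
      rw [zpow_add, zpow_one, ((Commute.refl c).zpow_right _).eq, ← hk, commutatorElement_def]
      group
    have : x * w * x⁻¹ = w := by
      rw [hw, ← conj_pow, hx, ← zpow_natCast, ← zpow_mul,
        show (1 + (p : ℤ) ^ m * k) * ((p ^ m : ℕ) : ℤ) = ((p ^ m : ℕ) : ℤ) + (p : ℤ) ^ (m + m) * k by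
          push_cast; ring, zpow_add, zpow_natCast]
      rcases m with _ | m
      · -- `m = 0`: `C` has order `p` and is central
        have hcc : x * c * x⁻¹ = c := by
          haveI : Nontrivial C := (Subgroup.nontrivial_iff_ne_bot C).mpr fun h => by
            rw [h, Subgroup.card_bot] at hm
            simp only [zero_add, pow_one] at hm
            exact hp'.ne_one hm.symm
          have hne := CfsgLib.Critical.inf_center_ne_bot C ((Subgroup.nontrivial_iff_ne_bot C).mp inferInstance)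
          haveI : Fact (Nat.card C).Prime := ⟨by rw [hm]; simpa using hp'⟩
          have hle : C ≤ Subgroup.center R := by
            rcases ((Subgroup.center R).subgroupOf C).eq_bot_or_eq_top_of_prime_card with h | h
            · rw [Subgroup.subgroupOf_eq_bot, disjoint_iff, inf_comm] at h
              exact absurd h hne
            · exact Subgroup.subgroupOf_eq_top.mp h
          rw [Subgroup.mem_center_iff.mp (hle hcC) x, mul_inv_cancel_right]
        rw [hcc] at hx
        have hck : c ^ ((p : ℤ) ^ 0 * k) = 1 := by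
          rw [zpow_add, zpow_one] at hx
          exact mul_eq_left.mp hx.symm
        rw [show (p : ℤ) ^ (0 + 0) * k = (p : ℤ) ^ 0 * k by simp, hck, mul_one]
      · have h0 : c ^ ((p : ℤ) ^ (m + 1 + (m + 1)) * k) = 1 := by
          rw [← orderOf_dvd_iff_zpow_eq_one, hco]
          refine dvd_mul_of_dvd_left ?_ k
          push_cast
          exact pow_dvd_pow _ (by omega)
        rw [h0, mul_one]
    exact mul_inv_eq_iff_eq_mul.mp this
  -- the derived group lies in the central subgroup generated by `w`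
  have hWn : (Subgroup.zpowers w).Normal := ⟨fun y hy g => by
    obtain ⟨k, rfl⟩ := Subgroup.mem_zpowers_iff.mp hy
    rw [((hwc g).zpow_right k).eq, mul_inv_cancel_right]
    exact Subgroup.zpow_mem_zpowers _ _⟩
  have hder : commutator R ≤ Subgroup.zpowers w := by
    haveI := hWn
    set f := QuotientGroup.mk' (Subgroup.zpowers w)
    have hfc : ∀ x : R, Commute (f x) (f c) := by
      intro x
      rw [← commutatorElement_eq_one_iff_commute, ← map_commutatorElement]
      obtain ⟨k, hk⟩ := hkey x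
      refine (QuotientGroup.eq_one_iff _).mpr ?_
      rw [hk, zpow_mul, ← Nat.cast_pow, zpow_natCast]
      exact Subgroup.zpow_mem_zpowers _ _
    obtain ⟨x, hx⟩ : ∃ x : R, x ∉ C := by
      by_contra h
      push Not at h
      rw [Subgroup.eq_top_iff' C |>.mpr h, Subgroup.index_top] at hCi
      exact hp'.ne_one hCi.symm
    have hgen : ∀ y : R, ∃ i : ℕ, ∃ z ∈ C, y = x ^ i * z := by
      intro y
      haveI : Fact (Nat.card (R ⧸ C)).Prime := ⟨by
        rw [show Nat.card (R ⧸ C) = p from hCi]; exact hp'⟩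
      have hxg : Subgroup.zpowers (QuotientGroup.mk' C x) = ⊤ := by
        rcases (Subgroup.zpowers (QuotientGroup.mk' C x)).eq_bot_or_eq_top_of_prime_card with h | h
        · exact absurd ((QuotientGroup.eq_one_iff x).mp (Subgroup.zpowers_eq_bot.mp h)) hx
        · exact h
      have hy : QuotientGroup.mk' C y ∈ Subgroup.zpowers (QuotientGroup.mk' C x) := hxg ▸ Subgroup.mem_top _
      obtain ⟨i, hi⟩ := mem_powers_iff_mem_zpowers.mpr hy
      refine ⟨i, (x ^ i)⁻¹ * y, ?_, by group⟩
      have hi' : QuotientGroup.mk' C (x ^ i) = QuotientGroup.mk' C y := by rw [map_pow]; exact hi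
      exact QuotientGroup.eq.mp hi'
    rw [← QuotientGroup.ker_mk' (Subgroup.zpowers w), commutator_def, Subgroup.commutator_le]
    intro a _ b _
    obtain ⟨i, z, hz, rfl⟩ := hgen a
    obtain ⟨j, z', hz', rfl⟩ := hgen b
    obtain ⟨s, rfl⟩ := Subgroup.mem_zpowers_iff.mp (hc.symm ▸ hz)
    obtain ⟨t, rfl⟩ := Subgroup.mem_zpowers_iff.mp (hc.symm ▸ hz')
    rw [MonoidHom.mem_ker, map_commutatorElement, commutatorElement_eq_one_iff_commute, map_mul, map_mul,
      map_pow, map_pow, map_zpow, map_zpow]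
    exact ((((Commute.refl (f x)).pow_left i).pow_right j).mul_right (((hfc x).pow_left i).zpow_right t)).mul_left
      ((((hfc x).symm.pow_right j).zpow_left s).mul_right (((Commute.refl (f c)).zpow_left s).zpow_right t))
  have h2 : ⁅commutator R, (⊤ : Subgroup R)⁆ = ⊥ := by
    rw [Subgroup.commutator_eq_bot_iff_le_centralizer]
    intro y hy
    obtain ⟨k, rfl⟩ := Subgroup.mem_zpowers_iff.mp (hder hy)
    exact Subgroup.mem_centralizer_iff.mpr fun g _ => ((hwc g).zpow_right k).eq
  have hder' : commutator R ≤ Subgroup.closure {x : R | x ^ p = 1} :=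
    hder.trans (Subgroup.zpowers_le.mpr (Subgroup.subset_closure hwp))
  let φ : R →* R := MonoidHom.mk' (fun x => x ^ p)
    (fun a b => CfsgLib.SmallClass.power_map_mul hp' (Or.inl ⟨hp, h2⟩) hder' a b)
  set Ω := Subgroup.closure {x : R | x ^ p = 1}
  have hΩ : Ω = φ.ker := le_antisymm ((Subgroup.closure_le _).mpr fun x hx => hx)
    (fun x hx => Subgroup.subset_closure hx)
  have hexp : ∀ a ∈ Ω, a ^ p = 1 := fun a ha => by rw [hΩ] at ha; exact ha
  -- the image of the power map is the subgroup of index `p` in `C`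
  have hrC : φ.range ≤ C := by
    rintro _ ⟨x, rfl⟩
    have := Subgroup.pow_index_mem C x
    rw [hCi] at this
    exact this
  have hne : φ.range ≠ C := by
    intro e
    obtain ⟨y, hy⟩ : c ∈ φ.range := e.symm ▸ hcC
    refine hnc ⟨y, fun g => ?_⟩
    have hy' : y ^ p = c := hy
    have ho : orderOf y = Nat.card R := by
      rw [← C.card_mul_index, hm, hCi, ← pow_succ]
      refine orderOf_eq_prime_pow ?_ ?_
      · rw [pow_succ', pow_mul, hy']
        intro h
        rw [← orderOf_dvd_iff_pow_eq_one, hco, Nat.pow_dvd_pow_iff_le_right hp'.one_lt] at h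
        omega
      · rw [pow_succ', pow_mul, hy', ← hco, pow_orderOf_eq_one]
    rw [← Subgroup.mem_zpowers_iff, (Subgroup.zpowers y).eq_top_of_card_eq (by rw [Nat.card_zpowers, ho])]
    exact Subgroup.mem_top g
  have hcp : c ^ p ∈ φ.range := ⟨c, rfl⟩
  have hcard : Nat.card φ.range = p ^ m := by
    refine Nat.le_antisymm ?_ ?_
    · obtain ⟨j, hj, hjc⟩ := (Nat.dvd_prime_pow hp').mp (hm ▸ Subgroup.card_dvd_of_le hrC)
      rw [hjc]
      refine Nat.pow_le_pow_right hp'.pos ?_
      by_contra hlt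
      exact hne (Subgroup.eq_of_le_of_card_ge hrC (by rw [hm, hjc]; exact Nat.pow_le_pow_right hp'.pos (by omega)))
    · have := Subgroup.card_le_of_le (Subgroup.zpowers_le.mpr hcp)
      rwa [Nat.card_zpowers, orderOf_pow, hco, Nat.gcd_eq_right (dvd_pow_self p (Nat.succ_ne_zero m)),
        pow_succ, Nat.mul_div_cancel _ hp'.pos] at this
  have hcardΩ : Nat.card Ω = p ^ 2 := by
    rw [hΩ]
    have h := φ.ker.card_mul_index
    rw [Subgroup.index_ker, hcard, ← C.card_mul_index, hm, hCi] at h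
    apply Nat.eq_of_mul_eq_mul_right (pow_pos hp'.pos m)
    rw [h]; ring
  exact ⟨⟨⟨⟨IsPGroup.commutative_of_card_eq_prime_sq hcardΩ⟩⟩, hexp⟩, hcardΩ⟩

end Cfsg.Agent.S0127
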