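import Cfsg.Statements.S0129
import Mathlib
import Cfsg.Agent.S0015
import Cfsg.Agent.Lib.Critical.Basic

set_option autoImplicit false
set_option linter.style.haveILetI false
open Cfsg
open scoped commutatorElement

namespace Cfsg.Agent.S0129

theorem chain {G : Type*} [Group G] [Finite G] {p : ℕ} [Fact p.Prime] (hG : IsPGroup p G)
    (A : Subgroup G) [A.Normal] (a : ℕ) (ha : Nat.card A = p ^ a) :
    ∀ i ≤ a, ∃ B : Subgroup G, B.Normal ∧ B ≤ A ∧ Nat.card B = p ^ i ∧
      (Subgroup.centralizer (B : Set G)).index ≤ p ^ (i * (i - 1) / 2) := by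
  intro i
  induction i with
  | zero =>
    intro _
    refine ⟨⊥, inferInstance, bot_le, by simp, ?_⟩
    rw [Subgroup.index_eq_one.mpr (Subgroup.centralizer_eq_top_iff_subset.mpr (by
      intro x hx; rw [Subgroup.coe_bot, Set.mem_singleton_iff] at hx; rw [hx]; exact one_mem _))]
    simp
  | succ i ih =>
    intro hi
    obtain ⟨B, hB, hBA, hBc, hBi⟩ := ih (by omega)
    haveI := hB
    set f := QuotientGroup.mk' B with hf'
    have hf : Function.Surjective f := QuotientGroup.mk'_surjective B
    haveI : (A.map f).Normal := Subgroup.Normal.map inferInstance f hf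
    haveI := (hG.to_quotient B).isNilpotent
    have hAne : A.map f ≠ ⊥ := by
      intro h
      rw [Subgroup.map_eq_bot_iff, QuotientGroup.ker_mk'] at h
      have h1 : p ^ a = p ^ i := by rw [← ha, ← hBc, le_antisymm h hBA]
      have := Nat.pow_right_injective (Fact.out : p.Prime).two_le h1
      omega
    have hne := CfsgLib.Critical.inf_center_ne_bot (A.map f) hAne
    set W := A.map f ⊓ Subgroup.center (G ⧸ B)
    haveI : Nontrivial W := (Subgroup.nontrivial_iff_ne_bot W).mpr hne
    obtain ⟨k, hk⟩ := IsPGroup.iff_card.mp ((hG.to_quotient B).to_subgroup W)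
    have hk0 : k ≠ 0 := by
      rintro rfl
      rw [pow_zero] at hk
      exact absurd hk (Finite.one_lt_card (α := W)).ne'
    obtain ⟨⟨z, hz⟩, hzo⟩ := exists_prime_orderOf_dvd_card' (G := W) p (hk ▸ dvd_pow_self p hk0)
    rw [Subgroup.orderOf_mk] at hzo
    obtain ⟨⟨b, hbA, hbz⟩, hzc⟩ := Subgroup.mem_inf.mp hz
    subst hbz
    set B' := (Subgroup.zpowers (f b)).comap f with hB'
    have hZn : (Subgroup.zpowers (f b)).Normal := by
      refine ⟨fun y hy g => ?_⟩
      have hy' : y ∈ Subgroup.center (G ⧸ B) := by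
        rw [← Subgroup.zpowers_le] at hzc; exact hzc hy
      rw [Subgroup.mem_center_iff.mp hy' g, mul_inv_cancel_right]
      exact hy
    have hBB' : B ≤ B' := fun x hx => by
      rw [hB', Subgroup.mem_comap, show f x = 1 from (QuotientGroup.eq_one_iff x).mpr hx]
      exact one_mem _
    have hB'eq : B' = B ⊔ Subgroup.zpowers b := by
      rw [hB', ← MonoidHom.map_zpowers, Subgroup.comap_map_eq, QuotientGroup.ker_mk', sup_comm]
    have hcard : Nat.card B' = p ^ (i + 1) := by
      have h1 : B'.index = (Subgroup.zpowers (f b)).index :=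
        Subgroup.index_comap_of_surjective _ hf
      have h2 := B'.card_mul_index
      have h3 := (Subgroup.zpowers (f b)).card_mul_index
      have h4 := Subgroup.card_eq_card_quotient_mul_card_subgroup B
      rw [Nat.card_zpowers, hzo] at h3
      rw [h1, h4, ← h3, hBc] at h2
      have hne0 : 0 < (Subgroup.zpowers (f b)).index := Nat.pos_of_ne_zero Subgroup.index_ne_zero_of_finite
      apply Nat.eq_of_mul_eq_mul_right hne0
      rw [h2]; ring
    refine ⟨B', hZn.comap f, hB'eq ▸ sup_le hBA (Subgroup.zpowers_le.mpr hbA), hcard, ?_⟩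
    have hle : Subgroup.centralizer (B' : Set G) ≤ Subgroup.centralizer (B : Set G) :=
      Subgroup.centralizer_le hBB'
    set C := Subgroup.centralizer (B : Set G)
    set C' := Subgroup.centralizer (B' : Set G)
    have hcom : ∀ c : C, ⁅(c : G), b⁆ ∈ B := by
      intro c
      rw [← QuotientGroup.eq_one_iff]
      show f ⁅(c : G), b⁆ = 1
      rw [map_commutatorElement, commutatorElement_eq_one_iff_mul_comm]
      exact Subgroup.mem_center_iff.mp hzc (f c)
    have hrel : C'.relIndex C ≤ p ^ i := by
      rw [← hBc]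
      refine Nat.card_le_card_of_injective
        (fun q : C ⧸ C'.subgroupOf C => (⟨⁅((q.out : C) : G), b⁆, hcom _⟩ : B)) ?_
      intro q q' e
      have e' : ⁅((q.out : C) : G), b⁆ = ⁅((q'.out : C) : G), b⁆ := congrArg Subtype.val e
      rw [← QuotientGroup.out_eq' q, ← QuotientGroup.out_eq' q', QuotientGroup.eq,
        Subgroup.mem_subgroupOf]
      show ((q.out : C) : G)⁻¹ * ((q'.out : C) : G) ∈ C'
      rw [commutatorElement_def, commutatorElement_def, mul_left_inj] at e'
      have hcb : ((q.out : C) : G)⁻¹ * ((q'.out : C) : G) * b =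
          b * (((q.out : C) : G)⁻¹ * ((q'.out : C) : G)) := by
        calc ((q.out : C) : G)⁻¹ * ((q'.out : C) : G) * b
            = ((q.out : C) : G)⁻¹ * (((q'.out : C) : G) * b * ((q'.out : C) : G)⁻¹) * ((q'.out : C) : G) := by
              group
          _ = b * (((q.out : C) : G)⁻¹ * ((q'.out : C) : G)) := by rw [← e']; group
      have hcC : ((q.out : C) : G)⁻¹ * ((q'.out : C) : G) ∈ C := C.mul_mem (C.inv_mem q.out.2) q'.out.2
      show _ ∈ Subgroup.centralizer (B' : Set G)
      have hB'le : B' ≤ Subgroup.centralizer ({((q.out : C) : G)⁻¹ * ((q'.out : C) : G)} : Set G) := by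
        rw [hB'eq, sup_le_iff, Subgroup.zpowers_le]
        exact ⟨fun u hu => Subgroup.mem_centralizer_singleton_iff.mpr
          (Subgroup.mem_centralizer_iff.mp hcC u hu),
          Subgroup.mem_centralizer_singleton_iff.mpr hcb.symm⟩
      exact Subgroup.mem_centralizer_iff.mpr fun u hu =>
        Subgroup.mem_centralizer_singleton_iff.mp (hB'le hu)
    rw [← Subgroup.relIndex_mul_index hle]
    refine (Nat.mul_le_mul hrel hBi).trans (le_of_eq ?_)
    rw [← pow_add]
    congr 1
    rcases i with _ | i
    · rfl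
    · show i + 1 + (i + 1) * i / 2 = (i + 2) * (i + 1) / 2
      rw [show (i + 2) * (i + 1) = (i + 1) * i + (i + 1) * 2 by ring,
        Nat.add_mul_div_right _ _ (by norm_num : 0 < 2)]
      omega

/-- The order of a p-group is bounded by p^(a(a+1)/2) when it has a maximal normal abelian subgroup of order p^a. -/
theorem result {G : Type*} [Group G] [Finite G] {p : ℕ} [Fact p.Prime] (hG : IsPGroup p G) (A : Subgroup G) [A.Normal] (hA : IsMulCommutative A) (hmax : ∀ B : Subgroup G, B.Normal → IsMulCommutative B → A ≤ B → B = A) (a : ℕ) (ha : Nat.card A = p ^ a) : Nat.card G ≤ p ^ (a * (a + 1) / 2) := by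
  haveI := hG.isNilpotent
  haveI := hA
  have hCA : Subgroup.centralizer (A : Set G) = A := Cfsg.Agent.S0015.result A hmax
  obtain ⟨B, -, hBA, hBc, hBi⟩ := chain hG A a ha a le_rfl
  have hBeq : B = A := Subgroup.eq_of_le_of_card_ge hBA (by rw [ha, hBc])
  rw [hBeq, hCA] at hBi
  rw [← A.card_mul_index, ha]
  refine (Nat.mul_le_mul le_rfl hBi).trans (le_of_eq ?_)
  rw [← pow_add]
  congr 1
  rcases a with _ | a
  · rfl
  · show a + 1 + (a + 1) * a / 2 = (a + 1) * (a + 2) / 2
    rw [show (a + 1) * (a + 2) = (a + 1) * a + (a + 1) * 2 by ring,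
      Nat.add_mul_div_right _ _ (by norm_num : 0 < 2)]
    omega

end Cfsg.Agent.S0129
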