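import Cfsg.Statements.S0131
import Cfsg.Agent.Lib.Transfer.Focal

set_option autoImplicit false
set_option linter.style.haveILetI false
set_option linter.unusedVariables false
open Cfsg

namespace Cfsg.Agent.S0131

/-- P/P' has a normal complement in G exactly when the focal subgroup G' ∩ P is as small as possible, namely P'. -/
theorem result {G : Type*} [Group G] [Finite G] {p : ℕ} [Fact p.Prime] (P : Sylow p G) : (∃ N : Subgroup G, N.Normal ∧ N ⊓ (P : Subgroup G) = ⁅(P : Subgroup G), (P : Subgroup G)⁆ ∧ N ⊔ (P : Subgroup G) = ⊤) ↔ commutator G ⊓ (P : Subgroup G) = ⁅(P : Subgroup G), (P : Subgroup G)⁆ := by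
  constructor
  · rintro ⟨N, hN, hNP, hsup⟩
    haveI := hN
    refine le_antisymm ?_ (le_inf (Subgroup.commutator_mono le_top le_top) (Subgroup.commutator_le_self _))
    rw [← hNP]
    refine inf_le_inf_right _ ?_
    rw [← Subgroup.Normal.quotient_commutative_iff_commutator_le]
    refine ⟨⟨fun a b => ?_⟩⟩
    induction a using QuotientGroup.induction_on with
    | H x =>
    induction b using QuotientGroup.induction_on with
    | H y =>
      have hx : x ∈ N ⊔ (P : Subgroup G) := by rw [hsup]; trivial
      have hy : y ∈ N ⊔ (P : Subgroup G) := by rw [hsup]; trivial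
      obtain ⟨n, hn, s, hs, rfl⟩ := Subgroup.mem_sup_of_normal_left.mp hx
      obtain ⟨m, hm, t, ht, rfl⟩ := Subgroup.mem_sup_of_normal_left.mp hy
      have e : (QuotientGroup.mk (s * t) : G ⧸ N) = QuotientGroup.mk (t * s) := by
        rw [QuotientGroup.eq]
        have hc : (s * t)⁻¹ * (t * s) ∈ ⁅(P : Subgroup G), (P : Subgroup G)⁆ := by
          have := Subgroup.commutator_mem_commutator (Subgroup.inv_mem _ ht) (Subgroup.inv_mem _ hs)
          simpa [commutatorElement_def, mul_assoc] using this
        rw [← hNP] at hc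
        exact hc.1
      have hn' : (QuotientGroup.mk n : G ⧸ N) = 1 := (QuotientGroup.eq_one_iff n).mpr hn
      have hm' : (QuotientGroup.mk m : G ⧸ N) = 1 := (QuotientGroup.eq_one_iff m).mpr hm
      simp only [QuotientGroup.mk_mul, hn', hm', one_mul] at e ⊢
      exact e
  · intro h
    refine ⟨(Subgroup.transferFocal (P : Subgroup G)).ker, MonoidHom.normal_ker _, ?_, ?_⟩
    · rw [Subgroup.ker_transferFocal_inf_eq_focalSubgroup,
        ← Subgroup.commutator_inf_eq_focalSubgroup, h]
    · rw [eq_top_iff]
      intro g _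
      obtain ⟨y, hy⟩ := Subgroup.focalSubgroupOf.pow_index_surjective P
        (Subgroup.transferFocal (P : Subgroup G) g)
      obtain ⟨y, rfl⟩ := QuotientGroup.mk_surjective y
      have hy' : Subgroup.transferFocal (P : Subgroup G) y = Subgroup.transferFocal (P : Subgroup G) g := by
        rw [Subgroup.transferFocal_eq_pow]; exact hy
      have hg : g * (y : G)⁻¹ ∈ (Subgroup.transferFocal (P : Subgroup G)).ker := by
        rw [MonoidHom.mem_ker, map_mul, map_inv, hy', mul_inv_cancel]
      have := Subgroup.mul_mem_sup hg y.2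
      simpa [mul_assoc] using this

end Cfsg.Agent.S0131
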