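import Cfsg.Statements.S0155
import Cfsg.Agent.Lib.Char.Counting

set_option autoImplicit false
open Cfsg

namespace Cfsg.Agent.S0155

open CfsgLib.Char
open scoped CfsgLib.Char

/-- The character of the left regular representation of a finite group takes the value |G| at the identity and 0 at every other element. -/
theorem result {G : Type*} [Group G] [Fintype G] [DecidableEq G] (g : G) : (Representation.leftRegular ℂ G).character g = if g = 1 then (Nat.card G : ℂ) else 0 := by
  have key : ∀ (f : (G →₀ ℂ) →ₗ[ℂ] (G →₀ ℂ)), LinearMap.trace ℂ _ f = ∑ x : G, f (Finsupp.single x 1) x := by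
    intro f
    rw [LinearMap.trace_eq_matrix_trace ℂ (Finsupp.basisSingleOne (ι := G) (R := ℂ)), Matrix.trace]
    simp [Matrix.diag, LinearMap.toMatrix_apply]
  show LinearMap.trace ℂ _ ((MonoidAlgebra.coeffLinearEquiv ℂ).symm.toLinearMap ∘ₗ Finsupp.lmapDomain ℂ ℂ (g • ·) ∘ₗ (MonoidAlgebra.coeffLinearEquiv ℂ).toLinearMap) = _
  have h := LinearMap.trace_conj' (R := ℂ) (Finsupp.lmapDomain ℂ ℂ (fun x : G => g • x)) (MonoidAlgebra.coeffLinearEquiv ℂ).symm
  refine Eq.trans ?_ (h.trans ?_)
  · rfl
  · rw [key]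
    simp only [Finsupp.lmapDomain_apply, Finsupp.mapDomain_single, Finsupp.single_apply, smul_eq_mul, mul_eq_right]
    by_cases hg : g = 1 <;> simp [hg, Nat.card_eq_fintype_card]

end Cfsg.Agent.S0155
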