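import Cfsg.Statements.S0159
import Cfsg.Agent.Lib.Char.Counting

set_option autoImplicit false
open Cfsg

namespace Cfsg.Agent.S0159

open CfsgLib.Char
open scoped CfsgLib.Char

/-- The number of solutions of s * s = 1 in a finite group equals the sum, over the irreducible characters χ, of (the average over s of χ (s * s)) times χ 1. -/
theorem result {G : Type*} [Group G] [Fintype G] : (Nat.card {s : G // s * s = 1} : ℂ) = ∑ᶠ χ : Cfsg.IrrCharacter G, ((Nat.card G : ℂ)⁻¹ * ∑ s : G, (χ : G → ℂ) (s * s)) * (χ : G → ℂ) 1 := by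
  classical
  rw [finsum_irr]
  set f : G → ℂ := fun g => (Nat.card {s : G // s * s = g} : ℂ) with hf
  have hcl : Cfsg.IsClassFunction G f := by
    intro g h
    simp only [hf, Nat.cast_inj]
    refine Nat.card_congr (Equiv.subtypeEquiv (MulAut.conj h⁻¹).toEquiv fun s => ?_)
    show s * s = h * g * h⁻¹ ↔ (MulAut.conj h⁻¹) s * (MulAut.conj h⁻¹) s = g
    rw [← map_mul, MulAut.conj_apply, inv_inv]
    constructor
    · intro e; rw [e]; group
    · intro e; rw [← e]; group
  have hco : ∀ χ : Cfsg.IrrCharacter G, Cfsg.classInner f (χ : G → ℂ) = (starRingEnd ℂ) ((Nat.card G : ℂ)⁻¹ * ∑ s : G, (χ : G → ℂ) (s * s)) := by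
    intro χ
    rw [map_mul, map_inv₀, map_natCast, map_sum, Cfsg.classInner]
    congr 1
    rw [← Finset.sum_fiberwise Finset.univ (fun s : G => s * s) (fun s => (starRingEnd ℂ) ((χ : G → ℂ) (s * s)))]
    refine Finset.sum_congr rfl fun g _ => ?_
    rw [Finset.sum_congr rfl fun s hs => by rw [(Finset.mem_filter.mp hs).2], Finset.sum_const, nsmul_eq_mul, hf]
    simp only [Nat.card_eq_fintype_card, Fintype.card_subtype]
  have h1 := congrFun (classFunction_expansion hcl) 1
  have h2 : (starRingEnd ℂ) (f 1) = f 1 := by rw [hf]; exact map_natCast _ _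
  show f 1 = _
  rw [← h2, h1, Finset.sum_apply, map_sum]
  refine Finset.sum_congr rfl fun χ _ => ?_
  obtain ⟨n, -, hn⟩ := exists_nat_degree_irr χ.2
  rw [Pi.smul_apply, smul_eq_mul, map_mul, hco, Complex.conj_conj, hn, map_natCast]

end Cfsg.Agent.S0159
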