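import Cfsg.Statements.S0162
import Cfsg.Agent.Lib.Char.Indicator
import Cfsg.Agent.Lib.Char.Counting

set_option autoImplicit false
open Cfsg

namespace Cfsg.Agent.S0162

open CfsgLib.Char
open scoped CfsgLib.Char

/-- If a finite group has odd order, its order is congruent to its number of conjugacy classes modulo 16. -/
theorem result {G : Type*} [Group G] [Finite G] (hodd : Odd (Nat.card G)) : Nat.card G ≡ Nat.card (ConjClasses G) [MOD 16] := by
  classical
  have : Fintype G := Fintype.ofFinite G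
  choose d hd hd0 hdvd using fun χ : Cfsg.IrrCharacter G => exists_degree_dvd_card χ.2
  have hsum : ∑ χ : Cfsg.IrrCharacter G, d χ ^ 2 = Nat.card G := by
    have h := sum_sq_degree (G := G)
    simp only [hd] at h
    exact_mod_cast h
  have hk : ∑ _χ : Cfsg.IrrCharacter G, 1 = Nat.card (ConjClasses G) := by
    rw [← card_irr_eq_card_conjClasses, Nat.card_eq_fintype_card]; simp
  rw [← ZMod.natCast_eq_natCast_iff, ← hsum, ← hk, ← sub_eq_zero]
  push_cast
  rw [← Finset.sum_sub_distrib]
  have hsq : ∀ χ, ∃ e : ℕ, d χ ^ 2 = 8 * e + 1 := by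
    intro χ
    obtain ⟨a, ha⟩ : Odd (d χ) := Odd.of_dvd_nat hodd (hdvd χ)
    obtain ⟨b, hb⟩ := Nat.even_mul_succ_self a
    exact ⟨b, by rw [ha]; linear_combination 4 * hb⟩
  refine Finset.sum_involution (fun χ _ => conjPerm χ) (fun χ _ => ?_) (fun χ _ hne => ?_)
    (fun χ _ => Finset.mem_univ _) (fun χ _ => ?_)
  · have e : d (conjPerm χ) = d χ := by
      have h1 := conjPerm_apply χ 1
      rw [hd, hd, map_natCast] at h1
      exact_mod_cast h1
    obtain ⟨k, hk⟩ := hsq χ
    rw [e, ← Nat.cast_pow, hk]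
    push_cast
    rw [add_sub_cancel_right, ← two_mul, ← mul_assoc, show (2 : ZMod 16) * 8 = 0 by decide, zero_mul]
  · intro he
    have hreal : ∀ g : G, ((χ : G → ℂ) g).im = 0 := fun g =>
      Complex.conj_eq_iff_im.mp (by rw [← conjPerm_apply, he])
    have h1 : (χ : G → ℂ) 1 = 1 := congrFun (irr_real_of_odd hodd χ hreal) 1
    rw [hd] at h1
    have h2 : d χ = 1 := by exact_mod_cast h1
    exact hne (by rw [h2]; simp)
  · exact Subtype.ext (funext fun g => Complex.conj_conj _)

end Cfsg.Agent.S0162
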