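import Cfsg.Statements.S0163
import Cfsg.Agent.Lib.Char.BrauerInd

set_option autoImplicit false
open Cfsg

namespace Cfsg.Agent.S0163

open CfsgLib.Char

universe w

theorem exists_list {G : Type w} [Group G] [Fintype G] {f : G → ℂ} (hf : f ∈ monomialSpan G) :
    ∃ l : List ((E : Subgroup G) × ((E →* ℂˣ) × ℤ)), (∀ t ∈ l, ∃ p : ℕ, p.Prime ∧ Cfsg.IsElementary p t.1) ∧
      f = (l.map fun t => (t.2.2 : ℂ) • Cfsg.indFun t.1 (fun e => (t.2.1 e : ℂ))).sum := by
  induction hf using AddSubgroup.closure_induction with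
  | mem f hf =>
    obtain ⟨E, lam, hE, rfl⟩ := hf
    exact ⟨[⟨E, lam, 1⟩], by simpa using hE, by simp⟩
  | zero => exact ⟨[], by simp, by simp⟩
  | add f g _ _ h1 h2 =>
    obtain ⟨l1, h1, rfl⟩ := h1
    obtain ⟨l2, h2, rfl⟩ := h2
    exact ⟨l1 ++ l2, fun t ht => (List.mem_append.mp ht).elim (h1 t) (h2 t), by simp⟩
  | neg f _ h1 =>
    obtain ⟨l, h1, rfl⟩ := h1
    refine ⟨l.map fun t => ⟨t.1, t.2.1, -t.2.2⟩, fun t ht => ?_, ?_⟩
    · obtain ⟨s, hs, rfl⟩ := List.mem_map.mp ht
      exact h1 s hs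
    · rw [List.map_map, List.sum_neg, List.map_map]
      congr 1
      refine List.map_congr_left fun t _ => ?_
      simp only [Function.comp_apply, Int.cast_neg, neg_smul]

/-- Brauer's induction Theorem: every character of a finite group is a ℤ-linear combination of functions induced from linear characters (homomorphisms to ℂˣ) of elementary subgroups. -/
theorem result {G : Type*} [Group G] [Fintype G] (χ : G → ℂ) (hχ : Cfsg.IsCharacter G χ) : ∃ l : List ((E : Subgroup G) × ((E →* ℂˣ) × ℤ)), (∀ t ∈ l, ∃ p : ℕ, p.Prime ∧ Cfsg.IsElementary p t.1) ∧ χ = (l.map fun t => (t.2.2 : ℂ) • Cfsg.indFun t.1 (fun e => (t.2.1 e : ℂ))).sum := by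
  exact exists_list (mem_monomialSpan (isGeneralized_of_isCharacter hχ))

end Cfsg.Agent.S0163
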