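import Cfsg.Statements.S0166
import Cfsg.Agent.Lib.Char.Realize

set_option autoImplicit false
open Cfsg

namespace Cfsg.Agent.S0166

/-- Brauer's splitting field Theorem: a complex representation of a finite group of exponent m is equivalent to a representation by matrices with entries in ℚ adjoined exp(2πi/m). -/
theorem result {G : Type*} [Group G] [Finite G] (n : ℕ) (ρ : Representation ℂ G (Fin n → ℂ)) : ∃ σ : Representation ℂ G (Fin n → ℂ), Nonempty (ρ.Equiv σ) ∧ ∀ g : G, ∀ i j : Fin n, LinearMap.toMatrix' (σ g) i j ∈ Algebra.adjoin ℚ ({Complex.exp (2 * Real.pi * Complex.I / (Monoid.exponent G : ℂ))} : Set ℂ) := by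
  classical
  haveI : Fintype G := Fintype.ofFinite G
  set m := Monoid.exponent G
  have hm : m ≠ 0 := Monoid.exponent_ne_zero_of_finite
  set ζ := Complex.exp (2 * Real.pi * Complex.I / (m : ℂ))
  have hζ : IsPrimitiveRoot ζ m := Complex.isPrimitiveRoot_exp m hm
  set K := IntermediateField.adjoin ℚ ({ζ} : Set ℂ)
  have hζK : ζ ∈ K := IntermediateField.subset_adjoin ℚ _ rfl
  have hK : ∀ (H : Subgroup G) (lam : H →* ℂˣ) (h : H), (lam h : ℂ) ∈ K := by
    intro H lam h
    have h1 : (lam h : ℂ) ^ m = 1 := by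
      have h2 : h ^ m = 1 := Subtype.ext (by push_cast; exact Monoid.pow_exponent_eq_one (h : G))
      rw [← Units.val_pow_eq_pow_val, ← map_pow, h2, map_one, Units.val_one]
    haveI : NeZero m := ⟨hm⟩
    obtain ⟨i, -, hi⟩ := hζ.eq_pow_of_pow_eq_one h1
    exact hi ▸ pow_mem hζK i
  obtain ⟨n', r, hr⟩ := CfsgLib.Realize.realizable_of_character hK ⟨n, ρ, rfl⟩
  have hn : n' = n := by
    have h1 := hr 1
    rw [Representation.char_one, Representation.char_one, Module.finrank_fin_fun,
      Module.finrank_fin_fun] at h1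
    push_cast at h1
    exact_mod_cast h1
  subst hn
  let φ : Matrix (Fin n') (Fin n') K →+* Matrix (Fin n') (Fin n') ℂ :=
    (algebraMap K ℂ).mapMatrix
  let σ : Representation ℂ G (Fin n' → ℂ) :=
    { toFun := fun g => Matrix.toLin' (φ (LinearMap.toMatrix' (r g)))
      map_one' := by
        rw [map_one r, Module.End.one_eq_id, LinearMap.toMatrix'_id, map_one φ, Matrix.toLin'_one]
        rfl
      map_mul' := fun a b => by
        rw [map_mul r, Module.End.mul_eq_comp, LinearMap.toMatrix'_comp, map_mul φ, Matrix.toLin'_mul]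
        rfl }
  have hσ : ∀ g, LinearMap.toMatrix' (σ g) = φ (LinearMap.toMatrix' (r g)) := fun g =>
    LinearMap.toMatrix'_toLin' _
  refine ⟨σ, CfsgLib.Char.equiv_of_character_eq ρ σ (funext fun g => ?_), fun g i j => ?_⟩
  · rw [← hr g]
    show ((LinearMap.trace K (Fin n' → K) (r g) : K) : ℂ) = LinearMap.trace ℂ (Fin n' → ℂ) (σ g)
    rw [LinearMap.trace_eq_matrix_trace K (Pi.basisFun K (Fin n')),
      LinearMap.trace_eq_matrix_trace ℂ (Pi.basisFun ℂ (Fin n'))]
    show (algebraMap K ℂ) (LinearMap.toMatrix' (r g)).trace = (LinearMap.toMatrix' (σ g)).trace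
    rw [hσ]
    simp only [Matrix.trace, map_sum]
    rfl
  · rw [hσ, ← IntermediateField.adjoin_simple_toSubalgebra_of_isAlgebraic
      ((hζ.isIntegral (Nat.pos_of_ne_zero hm)).tower_top (A := ℚ)).isAlgebraic]
    exact (LinearMap.toMatrix' (r g) i j).2

end Cfsg.Agent.S0166
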