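import Cfsg.Statements.S0167
import Cfsg.Agent.Lib.Char.Gallagher

set_option autoImplicit false
open Cfsg

namespace Cfsg.Agent.S0167

open CfsgLib.Char
open scoped CfsgLib.Char

/-- An element g of a finite group is a commutator if and only if the sum over the irreducible characters χ of χ g / χ 1 is nonzero. -/
theorem result {G : Type*} [Group G] [Finite G] (g : G) : (∃ a b : G, g = a * b * a⁻¹ * b⁻¹) ↔ ∑ᶠ χ : Cfsg.IrrCharacter G, (χ : G → ℂ) g / (χ : G → ℂ) 1 ≠ 0 := by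
  classical
  have : Fintype G := Fintype.ofFinite G
  rw [finsum_irr]
  set N : G → ℕ := fun a => Nat.card {p : G × G // IsConj a p.1 ∧ IsConj a⁻¹ p.2 ∧ p.1 * p.2 = g} with hN
  set c : G → ℕ := fun a => (Subgroup.centralizer ({a} : Set G)).index with hc
  have hinv : ∀ a : G, c a⁻¹ = c a := fun a => by
    rw [hc]; refine congrArg Subgroup.index ?_; ext x
    simp only [Subgroup.mem_centralizer_singleton_iff]
    exact ⟨fun (h : Commute x a⁻¹) => Commute.inv_right_iff.mp h, fun (h : Commute x a) => Commute.inv_right h⟩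
  have hc0 : ∀ a, (c a : ℂ) ≠ 0 := fun a => Nat.cast_ne_zero.mpr Subgroup.index_ne_zero_of_finite
  have hsum : ((∑ a : G, (N a : ℝ) / ((c a : ℝ) * (c a : ℝ)) : ℝ) : ℂ) = (starRingEnd ℂ) (∑ χ : Cfsg.IrrCharacter G, (χ : G → ℂ) g / (χ : G → ℂ) 1) := by
    push_cast
    have h1 : ∀ a : G, (N a : ℂ) / ((c a : ℂ) * (c a : ℂ)) = (Nat.card G : ℂ)⁻¹ * ∑ χ : Cfsg.IrrCharacter G, (χ : G → ℂ) a * (starRingEnd ℂ) ((χ : G → ℂ) a) * ((starRingEnd ℂ) ((χ : G → ℂ) g) / (χ : G → ℂ) 1) := by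
      intro a
      simp only [hN]
      rw [class_mult a a⁻¹ g, show (Subgroup.centralizer ({a⁻¹} : Set G)).index = c a from hinv a, show (Subgroup.centralizer ({a} : Set G)).index = c a from rfl, Finset.mul_sum, Finset.sum_div, Finset.mul_sum]
      refine Finset.sum_congr rfl fun χ _ => ?_
      rw [irr_inv]
      have := hc0 a
      field_simp
    simp only [h1, ← Finset.mul_sum]
    rw [Finset.sum_comm, map_sum, Finset.mul_sum]
    refine Finset.sum_congr rfl fun χ _ => ?_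
    rw [← Finset.sum_mul, ← mul_assoc]
    obtain ⟨n, -, hn⟩ := exists_nat_degree_irr χ.2
    have := classInner_irr_self χ.2
    rw [Cfsg.classInner] at this
    rw [this, one_mul, map_div₀, hn, map_natCast]
  constructor
  · rintro ⟨a, b, hab⟩ h0
    rw [h0, map_zero, Complex.ofReal_eq_zero, Finset.sum_eq_zero_iff_of_nonneg (fun i _ => by positivity)] at hsum
    have h := hsum a (Finset.mem_univ a)
    rw [div_eq_zero_iff] at h
    rcases h with h | h
    · have : IsEmpty {p : G × G // IsConj a p.1 ∧ IsConj a⁻¹ p.2 ∧ p.1 * p.2 = g} := by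
        rw [← not_nonempty_iff]; intro hne
        exact (Nat.card_pos (α := {p : G × G // IsConj a p.1 ∧ IsConj a⁻¹ p.2 ∧ p.1 * p.2 = g})).ne' (Nat.cast_eq_zero.mp h)
      exact this.false ⟨(a, b * a⁻¹ * b⁻¹), IsConj.refl a, isConj_iff.mpr ⟨b, rfl⟩, by rw [hab]; group⟩
    · exact absurd h (mul_ne_zero (Nat.cast_ne_zero.mpr Subgroup.index_ne_zero_of_finite) (Nat.cast_ne_zero.mpr Subgroup.index_ne_zero_of_finite))
  · intro hne
    have h0 : ∑ a : G, (N a : ℝ) / ((c a : ℝ) * (c a : ℝ)) ≠ 0 := by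
      intro h; rw [h, Complex.ofReal_zero] at hsum
      exact hne ((map_eq_zero _).mp hsum.symm)
    obtain ⟨a, -, ha⟩ := Finset.exists_ne_zero_of_sum_ne_zero h0
    have hN0 : N a ≠ 0 := fun e => ha (by rw [e]; simp)
    obtain ⟨⟨⟨x, y⟩, hx, hy, hxy⟩⟩ := (Nat.card_ne_zero.mp hN0).1
    obtain ⟨d, hd⟩ := isConj_iff.mp hx
    obtain ⟨e, he⟩ := isConj_iff.mp hy
    exact ⟨x, e * d⁻¹, by rw [← hxy]; simp only at hd he ⊢; rw [← he, ← hd]; group⟩

end Cfsg.Agent.S0167
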