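import Cfsg.Statements.S0168
import Cfsg.Agent.Lib.Char.FrobeniusGroup
import Cfsg.Agent.Lib.Char.Eigen

set_option autoImplicit false
open Cfsg

namespace Cfsg.Agent.S0168

open CfsgLib.Char
open scoped CfsgLib.Char

/-- The Burnside–Brauer Theorem. Let χ be the character of a faithful complex representation of a finite group, taking m distinct values. Then every irreducible character has nonzero inner product with χ ^ i for some i < m. -/
theorem result {G : Type*} [Group G] [Fintype G] {V : Type*} [AddCommGroup V] [Module ℂ V] [FiniteDimensional ℂ V] (ρ : Representation ℂ G V) (hfaithful : Function.Injective ρ) (ψ : G → ℂ) (hψ : Cfsg.IsIrrCharacter G ψ) : ∃ i : ℕ, i < Nat.card (Set.range ρ.character) ∧ Cfsg.classInner (fun g => ρ.character g ^ i) ψ ≠ 0 := by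
  classical
  by_contra hc
  push_neg at hc
  set χ := ρ.character with hχdef
  set S := Finset.univ.image χ with hS
  have hcard : Nat.card (Set.range χ) = S.card := by
    rw [hS, ← Nat.card_eq_finsetCard]
    exact Nat.card_congr (Equiv.setCongr (by simp))
  set P : Polynomial ℂ := ∏ b ∈ S.erase (χ 1), (Polynomial.X - Polynomial.C b) with hP
  have hdeg : P.natDegree + 1 = S.card := by
    rw [hP, Polynomial.natDegree_finsetProd_X_sub_C_eq_card, Finset.card_erase_add_one]
    simp [hS]
  have hψc := isCharacter_of_isIrr hψ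
  have hz : ∑ g : G, P.eval (χ g) * (starRingEnd ℂ) (ψ g) = 0 := by
    simp only [Polynomial.eval_eq_sum_range, Finset.sum_mul]
    rw [Finset.sum_comm]
    refine Finset.sum_eq_zero fun i hi => ?_
    have h0 := hc i (by rw [hcard, ← hdeg]; exact Finset.mem_range.mp hi)
    simp only [Cfsg.classInner] at h0
    have h1 := (mul_eq_zero.mp h0).resolve_left
      (inv_ne_zero (Nat.cast_ne_zero.mpr Nat.card_pos.ne'))
    simp only [mul_assoc]
    rw [← Finset.mul_sum, h1, mul_zero]
  have hfib : ∀ g : G, g ≠ 1 → χ g ≠ χ 1 := fun g hg h => hg (hfaithful (by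
    rw [(character_eq_finrank_iff ρ g).mp (h.trans (Representation.char_one ρ)), map_one]
    rfl))
  rw [Finset.sum_eq_single (1 : G)] at hz
  · rcases mul_eq_zero.mp hz with h | h
    · rw [hP, Polynomial.eval_prod, Finset.prod_eq_zero_iff] at h
      obtain ⟨b, hb, hb'⟩ := h
      simp only [Polynomial.eval_sub, Polynomial.eval_X, Polynomial.eval_C, sub_eq_zero] at hb'
      exact (Finset.mem_erase.mp hb).1 hb'.symm
    · exact irr_degree_ne_zero hψ (by simpa using h)
  · intro g _ hg
    rw [hP, Polynomial.eval_prod, Finset.prod_eq_zero (i := χ g)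
      (Finset.mem_erase.mpr ⟨hfib g hg, by simp [hS]⟩) (by simp), zero_mul]
  · intro h; exact absurd (Finset.mem_univ 1) h

end Cfsg.Agent.S0168
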