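import Cfsg.Statements.S0169
import Cfsg.Agent.Lib.Char.Projective
import Cfsg.Agent.S0187

set_option autoImplicit false
open Cfsg

namespace Cfsg.Agent.S0169

open CfsgLib.Char
open scoped CfsgLib.Char

/-- Itô's Theorem on character degrees: the degree of an irreducible complex representation of a finite group divides the index of any abelian normal subgroup. -/
theorem result {G : Type*} [Group G] [Finite G] {V : Type*} [AddCommGroup V] [Module ℂ V] [FiniteDimensional ℂ V] (ρ : Representation ℂ G V) [ρ.IsIrreducible] (H : Subgroup G) [H.Normal] (hH : ∀ a ∈ H, ∀ b ∈ H, a * b = b * a) : Module.finrank ℂ V ∣ H.index := by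
  classical
  have : Fintype G := Fintype.ofFinite G
  have : Fintype H := Fintype.ofFinite H
  have hirr := isIrrCharacter_character ρ
  obtain ⟨l, hl⟩ := exists_constituent H (isCharacter_of_isIrr hirr) (irr_degree_ne_zero hirr)
  obtain ⟨k, hk, hdvd⟩ := degree_ratio H l.2 hirr hl
  rw [(S0187.result (G := H)).mp (fun a b => Subtype.ext (hH a a.2 b b.2)) l, mul_one, Representation.char_one] at hk
  have : Module.finrank ℂ V = k := by exact_mod_cast hk
  rwa [this]

end Cfsg.Agent.S0169
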