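import Cfsg.Statements.S0172
import Cfsg.Agent.Lib.Char.FrobeniusGroup

set_option autoImplicit false
open Cfsg

namespace Cfsg.Agent.S0172

open CfsgLib.Char
open scoped CfsgLib.Char

/-- Class number of a Frobenius group: if G = K H with K normal, K ⊓ H trivial and no non-identity element of H commuting with a non-identity element of K, then |H| * k(G) + 1 = |H| * k(H) + k(K), where k denotes the number of conjugacy classes. -/
theorem result {G : Type*} [Group G] [Finite G] (K H : Subgroup G) [K.Normal] (hKH : K ⊓ H = ⊥) (hKH' : K ⊔ H = ⊤) (hfpf : ∀ h ∈ H, h ≠ 1 → ∀ k ∈ K, h * k = k * h → k = 1) : Nat.card H * Nat.card (ConjClasses G) + 1 = Nat.card H * Nat.card (ConjClasses H) + Nat.card (ConjClasses K) := by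
  classical
  have : Fintype G := Fintype.ofFinite G
  have hG := card_comm_eq_card_conjClasses_mul_card G
  have hK := card_comm_eq_card_conjClasses_mul_card K
  have hH := card_comm_eq_card_conjClasses_mul_card H
  have pairs : ∀ (M : Type u_1) [Group M] [Fintype M],
      Nat.card {p : M × M // Commute p.1 p.2} = ∑ x : M, Nat.card {y : M // Commute x y} := by
    intro M _ _
    rw [Nat.card_congr (Equiv.subtypeProdEquivSigmaSubtype fun a b : M => Commute a b), Nat.card_sigma]
  rw [pairs] at hG hK hH
  have hsplit := Finset.sum_filter_add_sum_filter_not Finset.univ (fun x : G => x ∈ K)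
    (fun x => Nat.card {y : G // Commute x y})
  have hinK : ∑ x ∈ Finset.univ.filter (fun x : G => x ∈ K), Nat.card {y : G // Commute x y} + Nat.card K
      = ∑ x : K, Nat.card {y : K // Commute x y} + Nat.card G := by
    rw [Finset.sum_subtype (Finset.univ.filter fun x : G => x ∈ K) (p := fun x => x ∈ K) (by simp),
      ← Finset.add_sum_erase _ _ (Finset.mem_univ (1 : K)),
      ← Finset.add_sum_erase (Finset.univ : Finset K) (fun x => Nat.card {y : K // Commute x y})
        (Finset.mem_univ (1 : K))]
    have e : ∀ x ∈ (Finset.univ : Finset K).erase 1,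
        Nat.card {y : G // Commute (x : G) y} = Nat.card {y : K // Commute x y} := by
      intro x hx
      refine Nat.card_congr
        { toFun := fun y => ⟨⟨y.1, mem_kernel_of_commute K H hKH' hfpf x.2
            (fun h => (Finset.mem_erase.mp hx).1 (Subtype.ext h)) y.2.symm⟩, Subtype.ext y.2⟩
          invFun := fun y => ⟨y.1, congrArg Subtype.val y.2⟩
          left_inv := fun _ => rfl
          right_inv := fun _ => rfl }
    rw [Finset.sum_congr rfl e]
    have e1 : Nat.card {y : G // Commute ((1 : K) : G) y} = Nat.card G :=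
      Nat.card_congr (Equiv.subtypeUnivEquiv fun y => Commute.one_left y)
    have e2 : Nat.card {y : K // Commute (1 : K) y} = Nat.card K :=
      Nat.card_congr (Equiv.subtypeUnivEquiv fun y => Commute.one_left y)
    omega
  have hdec : ∀ y : G, ∃ c ∈ K, ∃ b ∈ H, c * b = y := exists_mul_of_sup_eq_top K H hKH'
  have hdisj : ∀ y : G, y ∈ K → y ∈ H → y = 1 := fun y h1 h2 => by
    have : y ∈ K ⊓ H := ⟨h1, h2⟩
    rwa [hKH, Subgroup.mem_bot] at this
  have hcentH : ∀ h : H, h ≠ 1 → ∀ y : G, Commute (h : G) y → y ∈ H := by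
    intro h h1 y hy
    obtain ⟨c, hc, b, hb, rfl⟩ := hdec y
    have e : (h : G) * c * (h : G)⁻¹ * ((h : G) * b * (h : G)⁻¹ * b⁻¹) = c := by
      calc (h : G) * c * (h : G)⁻¹ * ((h : G) * b * (h : G)⁻¹ * b⁻¹)
          = (h : G) * (c * b) * (h : G)⁻¹ * b⁻¹ := by group
        _ = c * b * b⁻¹ := by rw [hy.eq, mul_inv_cancel_right]
        _ = c := by group
    have hk : (h : G) * c * (h : G)⁻¹ ∈ K := (inferInstance : K.Normal).conj_mem c hc h
    have hbK : (h : G) * b * (h : G)⁻¹ * b⁻¹ ∈ K := by
      have := K.mul_mem (K.inv_mem hk) hc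
      rwa [show ((h : G) * c * (h : G)⁻¹)⁻¹ * c = (h : G) * b * (h : G)⁻¹ * b⁻¹ by
        nth_rewrite 2 [← e]; group] at this
    have hb1 := hdisj _ hbK
      (H.mul_mem (H.mul_mem (H.mul_mem h.2 hb) (H.inv_mem h.2)) (H.inv_mem hb))
    rw [hb1, mul_one] at e
    have := hfpf h h.2 (fun hh => h1 (Subtype.ext hh)) c hc (by
      calc (h : G) * c = (h : G) * c * (h : G)⁻¹ * h := by group
        _ = c * h := by rw [e])
    rw [this, one_mul]; exact hb
  have hout : ∑ x ∈ Finset.univ.filter (fun x : G => ¬ x ∈ K), Nat.card {y : G // Commute x y} + Nat.card K * Nat.card H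
      = Nat.card K * ∑ h : H, Nat.card {y : H // Commute h y} := by
    have hb : ∑ x ∈ Finset.univ.filter (fun x : G => ¬ x ∈ K), Nat.card {y : G // Commute x y} =
        ∑ kh ∈ (Finset.univ : Finset K) ×ˢ ((Finset.univ : Finset H).erase 1),
          Nat.card {y : H // Commute kh.2 y} := by
      refine (Finset.sum_bij (fun (kh : K × H) _ => (kh.1 : G)⁻¹ * kh.2 * kh.1) ?_ ?_ ?_ ?_).symm
      · intro kh hkh
        simp only [Finset.mem_filter, Finset.mem_univ, true_and]
        intro hm
        have := (inferInstance : K.Normal).conj_mem _ hm (kh.1 : G)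
        rw [show (kh.1 : G) * ((kh.1 : G)⁻¹ * kh.2 * kh.1) * (kh.1 : G)⁻¹ = kh.2 by group] at this
        exact (Finset.mem_erase.mp (Finset.mem_product.mp hkh).2).1
          (Subtype.ext (hdisj _ this kh.2.2))
      · rintro ⟨k, h⟩ hkh ⟨k', h'⟩ _ e
        simp only at e
        have hh : h = h' := by
          have e2 : ((h : G)) = ((k : G) * (k' : G)⁻¹) * h' * ((k : G) * (k' : G)⁻¹)⁻¹ := by
            calc (h : G) = (k : G) * ((k : G)⁻¹ * h * k) * (k : G)⁻¹ := by group
              _ = _ := by rw [e]; group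
          set c := (k : G) * (k' : G)⁻¹ with hc
          have hcK : c ∈ K := K.mul_mem k.2 (K.inv_mem k'.2)
          have hm : (h : G) * (h' : G)⁻¹ ∈ K := by
            have := K.mul_mem hcK ((inferInstance : K.Normal).conj_mem _ (K.inv_mem hcK) (h' : G))
            rwa [show c * ((h' : G) * c⁻¹ * (h' : G)⁻¹) = c * h' * c⁻¹ * (h' : G)⁻¹ by group, ← e2] at this
          exact Subtype.ext (mul_inv_eq_one.mp (hdisj _ hm (H.mul_mem h.2 (H.inv_mem h'.2))))
        subst hh
        have h1 := (Finset.mem_erase.mp (Finset.mem_product.mp hkh).2).1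
        have e3 : (h : G) * ((k : G) * (k' : G)⁻¹) = ((k : G) * (k' : G)⁻¹) * h := by
          calc (h : G) * ((k : G) * (k' : G)⁻¹)
              = (k : G) * ((k : G)⁻¹ * h * k) * (k' : G)⁻¹ := by group
            _ = _ := by rw [e]; group
        have := hfpf h h.2 (fun hh => h1 (Subtype.ext hh)) _ (K.mul_mem k.2 (K.inv_mem k'.2)) e3
        exact Prod.ext (Subtype.ext (mul_inv_eq_one.mp this)) rfl
      · intro x hx
        obtain ⟨k, hk, h, hh, h1, rfl⟩ :=
          exists_conj_complement K H hKH' hfpf (Finset.mem_filter.mp hx).2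
        exact ⟨(⟨k, hk⟩, ⟨h, hh⟩), Finset.mem_product.mpr ⟨Finset.mem_univ _,
          Finset.mem_erase.mpr ⟨fun e => h1 (congrArg Subtype.val e), Finset.mem_univ _⟩⟩, rfl⟩
      · intro kh hkh
        have h1 := (Finset.mem_erase.mp (Finset.mem_product.mp hkh).2).1
        obtain ⟨k, h⟩ := kh
        refine (Nat.card_congr
          { toFun := fun y => ⟨(k : G)⁻¹ * y.1 * k, by
              show (k : G)⁻¹ * h * k * ((k : G)⁻¹ * y.1 * k) = (k : G)⁻¹ * y.1 * k * ((k : G)⁻¹ * h * k)
              have := congrArg Subtype.val y.2.eq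
              simp only [Subgroup.coe_mul] at this
              calc _ = (k : G)⁻¹ * (h * y.1) * k := by group
                _ = _ := by rw [this]; group⟩
            invFun := fun y => ⟨⟨(k : G) * y.1 * (k : G)⁻¹, hcentH h h1 _ (by
              show (h : G) * _ = _ * (h : G)
              calc (h : G) * ((k : G) * y.1 * (k : G)⁻¹)
                  = (k : G) * (((k : G)⁻¹ * h * k) * y.1) * (k : G)⁻¹ := by group
                _ = _ := by rw [y.2.eq]; group)⟩, Subtype.ext (by
              show (h : G) * ((k : G) * y.1 * (k : G)⁻¹) = (k : G) * y.1 * (k : G)⁻¹ * h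
              calc (h : G) * ((k : G) * y.1 * (k : G)⁻¹)
                  = (k : G) * (((k : G)⁻¹ * h * k) * y.1) * (k : G)⁻¹ := by group
                _ = _ := by rw [y.2.eq]; group)⟩
            left_inv := fun y => Subtype.ext (Subtype.ext (by
              show (k : G) * ((k : G)⁻¹ * y.1 * k) * (k : G)⁻¹ = y.1; group))
            right_inv := fun y => Subtype.ext (by
              show (k : G)⁻¹ * ((k : G) * y.1 * (k : G)⁻¹) * k = y.1; group) })
    rw [hb, Finset.sum_product]
    simp only [Finset.sum_const, Finset.card_univ, smul_eq_mul, ← Nat.card_eq_fintype_card]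
    rw [← Finset.add_sum_erase _ _ (Finset.mem_univ (1 : H)),
      Nat.card_congr (Equiv.subtypeUnivEquiv fun y : H => Commute.one_left y)]
    ring
  have hKHc : Nat.card K * Nat.card H = Nat.card G := by
    refine Subgroup.IsComplement'.card_mul (Subgroup.isComplement'_of_disjoint_and_mul_eq_univ
      (disjoint_iff.mpr hKH) ?_)
    rw [← Subgroup.normal_mul, hKH', Subgroup.coe_top]
  rw [hH] at hout
  rw [hK] at hinK
  rw [hG] at hsplit
  refine mul_right_cancel₀ (b := Nat.card K) Nat.card_pos.ne' ?_
  nlinarith [hsplit, hinK, hout, hKHc]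

end Cfsg.Agent.S0172
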