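import Cfsg.Statements.S0173
import Cfsg.Agent.Lib.Char.Counting

set_option autoImplicit false
open Cfsg

namespace Cfsg.Agent.S0173

open CfsgLib.Char
open scoped CfsgLib.Char

/-- Brauer's permutation lemma for a single automorphism: the number of conjugacy classes mapped to themselves equals the number of irreducible complex characters χ with χ ∘ α = χ. -/
theorem result {G : Type*} [Group G] [Finite G] (α : G ≃* G) : Nat.card {C : ConjClasses G // ConjClasses.map α.toMonoidHom C = C} = Nat.card {χ : Cfsg.IrrCharacter G // (χ : G → ℂ) ∘ α = (χ : G → ℂ)} := by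
  classical
  let τ : Equiv.Perm (ConjClasses G) :=
    { toFun := ConjClasses.map α.toMonoidHom
      invFun := ConjClasses.map α.symm.toMonoidHom
      left_inv := fun C => by
        obtain ⟨x, rfl⟩ := ConjClasses.exists_rep C
        exact congrArg ConjClasses.mk (α.symm_apply_apply x)
      right_inv := fun C => by
        obtain ⟨x, rfl⟩ := ConjClasses.exists_rep C
        exact congrArg ConjClasses.mk (α.apply_symm_apply x) }
  let σ : Equiv.Perm (Cfsg.IrrCharacter G) :=
    { toFun := fun χ => ⟨fun g => (χ : G → ℂ) (α.symm g), (isIrrCharacter_comp_equiv α.symm).mpr χ.2⟩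
      invFun := fun χ => ⟨fun g => (χ : G → ℂ) (α g), (isIrrCharacter_comp_equiv α).mpr χ.2⟩
      left_inv := fun χ => Subtype.ext (funext fun g => by simp)
      right_inv := fun χ => Subtype.ext (funext fun g => by simp) }
  have h := brauer_perm σ τ fun χ g g' hg => by
    have : IsConj g' (α g) := ConjClasses.mk_eq_mk_iff_isConj.mp hg
    rw [eq_of_isConj (isClassFunction_irr (σ χ)) this]
    exact congrArg (χ : G → ℂ) (α.symm_apply_apply g)
  refine Eq.trans ?_ (h.symm.trans ?_)
  · rfl
  · refine Nat.card_congr (Equiv.subtypeEquivRight fun χ => ?_)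
    rw [Subtype.ext_iff]
    constructor
    · intro e; funext g
      have := congrFun e (α g)
      simp [σ] at this
      exact this.symm
    · intro e; funext g
      have := congrFun e (α.symm g)
      simp at this
      exact this.symm

end Cfsg.Agent.S0173
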