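import Cfsg.Statements.S0175
import Cfsg.Agent.Lib.Char.Kernel
import Cfsg.Agent.Lib.Char.Central
import Mathlib.RingTheory.IntegralDomain
import Mathlib.GroupTheory.Solvable

set_option autoImplicit false
open Cfsg

namespace Cfsg.Agent.S0175

open CfsgLib.Char
open scoped CfsgLib.Char commutatorElement

/-- Taketa's Theorem on M-groups: if every irreducible complex character of a finite group is induced from a linear character (a homomorphism to ℂˣ) of some subgroup, the group is solvable. -/
theorem result {G : Type*} [Group G] [Fintype G] (hM : ∀ χ : G → ℂ, Cfsg.IsIrrCharacter G χ → ∃ (H : Subgroup G) (lam : H →* ℂˣ), χ = Cfsg.indFun H (fun h => (lam h : ℂ))) : Group.IsSolvable G := by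
  classical
  have key : ∀ (d : ℕ) (χ : Cfsg.IrrCharacter G), (χ : G → ℂ) 1 = d →
      ∀ g ∈ derivedSeries G d, (χ : G → ℂ) g = (χ : G → ℂ) 1 := by
    intro d
    induction d using Nat.strong_induction_on with
    | _ d ih =>
      intro χ hd g hg
      obtain ⟨H, lam, hχ⟩ := hM _ χ.2
      have hidx : H.index = d := by
        have h1 := congrFun hχ 1
        rw [hd, indFun_one] at h1
        simp only [map_one, Units.val_one, mul_one] at h1
        exact_mod_cast h1.symm
      obtain ⟨d', rfl⟩ : ∃ d', d = d' + 1 := by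
        refine ⟨d - 1, ?_⟩
        have : H.index ≠ 0 := Subgroup.index_ne_zero_of_finite
        omega
      have hP := isCharacter_indFun H (isCharacter_one (G := H))
      obtain ⟨K, hKn, hK, -⟩ := exists_kernel hP
      obtain ⟨m, hm⟩ := exists_multiplicities hP
      have hP1 : Cfsg.indFun H (fun _ : H => (1 : ℂ)) 1 = ((d' + 1 : ℕ) : ℂ) := by
        rw [indFun_one, hidx, mul_one]
      have htriv : m ⟨fun _ => 1, isIrrCharacter_one⟩ ≠ 0 := by
        intro h0
        have h1 := classInner_sum_smul_irr (fun ψ => (m ψ : ℂ)) (⟨fun _ => 1, isIrrCharacter_one⟩ : Cfsg.IrrCharacter G)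
        rw [← hm, h0, Nat.cast_zero, frobenius_reciprocity H _ (χ := fun _ => (1 : ℂ)) (fun _ _ => rfl)] at h1
        exact one_ne_zero ((classInner_irr_self (isIrrCharacter_one (G := H))).symm.trans h1)
      have hKd : derivedSeries G d' ≤ K := by
        intro x hx
        rw [hK, hm]
        simp only [Finset.sum_apply, Pi.smul_apply, smul_eq_mul]
        refine Finset.sum_congr rfl fun ψ _ => ?_
        by_cases hmψ : m ψ = 0
        · simp [hmψ]
        congr 1
        by_cases hψ : (ψ : G → ℂ) = fun _ => 1
        · rw [hψ]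
        obtain ⟨e, he0, he⟩ := exists_nat_degree_irr ψ.2
        have hle : e + 1 ≤ d' + 1 := by
          have h1 := congrFun hm 1
          rw [hP1] at h1
          simp only [Finset.sum_apply, Pi.smul_apply, smul_eq_mul] at h1
          choose f hf using fun ξ : Cfsg.IrrCharacter G => exists_nat_degree_irr ξ.2
          simp only [(hf _).2] at h1
          have h2 : d' + 1 = ∑ ξ : Cfsg.IrrCharacter G, m ξ * f ξ := by exact_mod_cast h1
          have hne : ψ ≠ ⟨fun _ => 1, isIrrCharacter_one⟩ := fun h => hψ (congrArg Subtype.val h)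
          have h3 := Finset.add_le_sum (f := fun ξ => m ξ * f ξ) (fun _ _ => Nat.zero_le _)
            (Finset.mem_univ ψ) (Finset.mem_univ (⟨fun _ => 1, isIrrCharacter_one⟩ : Cfsg.IrrCharacter G)) hne
          rw [← h2] at h3
          have h4 : f ψ = e := by exact_mod_cast ((hf ψ).2.symm.trans he)
          rw [h4] at h3
          have h5 : e ≤ m ψ * e := Nat.le_mul_of_pos_left e (Nat.pos_of_ne_zero hmψ)
          have h6 : 1 ≤ m ⟨fun _ => 1, isIrrCharacter_one⟩ * f ⟨fun _ => 1, isIrrCharacter_one⟩ :=
            Nat.mul_pos (Nat.pos_of_ne_zero htriv) (hf _).1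
          omega
        exact ih e (by omega) ψ he x (derivedSeries_antitone G (by omega : e ≤ d') hx)
      have hKH : K ≤ H := by
        intro x hx
        by_contra hxH
        have h1 := (hK x).mp hx
        rw [hP1, Cfsg.indFun, inv_mul_eq_iff_eq_mul₀ (Nat.cast_ne_zero.mpr Nat.card_pos.ne'),
          ← hidx, ← Nat.cast_mul, H.card_mul_index] at h1
        have hterm : ∀ y : G, Cfsg.extendByZero H (fun _ : H => (1 : ℂ)) (y⁻¹ * x * y) =
            if y⁻¹ * x * y ∈ H then 1 else 0 := by
          intro y; split_ifs with h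
          · rw [extendByZero_mem H _ h]
          · rw [extendByZero_notMem H _ h]
        rw [Finset.sum_congr rfl fun y _ => hterm y, Finset.sum_boole, Nat.card_eq_fintype_card,
          Nat.cast_inj] at h1
        have h2 := Finset.eq_univ_of_card _ h1
        have h3 : (1 : G) ∈ Finset.univ.filter (fun y : G => y⁻¹ * x * y ∈ H) := by rw [h2]; exact Finset.mem_univ _
        simp [hxH] at h3
      let L : Subgroup G := (lam.ker).map H.subtype
      have hL : derivedSeries G (d' + 1) ≤ L := by
        rw [derivedSeries_succ, Subgroup.commutator_le]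
        intro a ha b hb
        refine ⟨⁅(⟨a, hKH (hKd ha)⟩ : H), ⟨b, hKH (hKd hb)⟩⁆, ?_, rfl⟩
        show _ ∈ lam.ker
        rw [MonoidHom.mem_ker, map_commutatorElement, commutatorElement_eq_one_iff_mul_comm, mul_comm]
      rw [hd, ← hidx, hχ, Cfsg.indFun, inv_mul_eq_iff_eq_mul₀ (Nat.cast_ne_zero.mpr Nat.card_pos.ne'),
        ← Nat.cast_mul, H.card_mul_index]
      have hterm : ∀ y : G, Cfsg.extendByZero H (fun h : H => (lam h : ℂ)) (y⁻¹ * g * y) = 1 := by
        intro y
        have hy : y⁻¹ * g * y ∈ derivedSeries G (d' + 1) := by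
          have := (derivedSeries_normal G (d' + 1)).conj_mem g hg y⁻¹
          rwa [inv_inv] at this
        obtain ⟨h, hh, he⟩ := hL hy
        rw [← he]
        show Cfsg.extendByZero H _ (h : G) = 1
        rw [extendByZero_coe, show lam h = 1 from MonoidHom.mem_ker.mp hh]
        rfl
      rw [Finset.sum_congr rfl fun y _ => hterm y]
      simp [Nat.card_eq_fintype_card]
  choose d hd0 hd using fun χ : Cfsg.IrrCharacter G => exists_nat_degree_irr χ.2
  refine ⟨⟨∑ χ : Cfsg.IrrCharacter G, d χ, eq_bot_iff.mpr fun g hg => Subgroup.mem_bot.mpr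
    (eq_one_of_forall_irr fun χ => key _ χ (hd χ) g (derivedSeries_antitone G
      (Finset.single_le_sum (fun _ _ => Nat.zero_le _) (Finset.mem_univ χ)) hg))⟩⟩

end Cfsg.Agent.S0175
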