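import Cfsg.Statements.S0178
import Cfsg.Agent.Lib.Char.Gallagher
import Cfsg.Agent.S0187

set_option autoImplicit false
open Cfsg

namespace Cfsg.Agent.S0178

open CfsgLib.Char
open scoped CfsgLib.Char

/-- The degree of an irreducible complex representation of a finite group is at most the index of any abelian subgroup. -/
theorem result {G : Type*} [Group G] [Finite G] {V : Type*} [AddCommGroup V] [Module ℂ V] [FiniteDimensional ℂ V] (ρ : Representation ℂ G V) [ρ.IsIrreducible] (A : Subgroup G) (hA : ∀ a ∈ A, ∀ b ∈ A, a * b = b * a) : Module.finrank ℂ V ≤ A.index := by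
  classical
  have : Fintype G := Fintype.ofFinite G
  have hirr := isIrrCharacter_character ρ
  have hcl := isClassFunction_of_isCharacter (isCharacter_of_isIrr hirr)
  obtain ⟨l, hl⟩ : ∃ l : Cfsg.IrrCharacter A, Cfsg.classInner (fun a : A => ρ.character a) (l : A → ℂ) ≠ 0 := by
    by_contra h
    push_neg at h
    have he := congrFun (classFunction_expansion (isClassFunction_restrict A hcl)) 1
    simp only [h, zero_smul, Finset.sum_const_zero, Pi.zero_apply] at he
    exact irr_degree_ne_zero hirr he
  have hl1 : (l : A → ℂ) 1 = 1 := (S0187.result (G := A)).mp (fun a b => Subtype.ext (hA a a.2 b b.2)) l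
  rw [← frobenius_reciprocity' A (l : A → ℂ) hcl] at hl
  obtain ⟨m, hm⟩ := exists_multiplicities (isCharacter_indFun A (isCharacter_of_isIrr l.2))
  have hm1 : m ((irrOf ρ)) ≠ 0 := by
    intro e
    apply hl
    rw [← classInner_conj_symm, hm]
    have := classInner_sum_smul_irr (fun ψ => (m ψ : ℂ)) ((irrOf ρ))
    simp only [e, Nat.cast_zero] at this
    rw [show ρ.character = (((irrOf ρ) : Cfsg.IrrCharacter G) : G → ℂ) from rfl, this, map_zero]
  choose d hd0 hd using fun ψ : Cfsg.IrrCharacter G => exists_nat_degree_irr ψ.2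
  have h1 := congrFun hm 1
  rw [indFun_one, hl1, mul_one, Finset.sum_apply] at h1
  simp only [Pi.smul_apply, smul_eq_mul, hd] at h1
  have h2 : A.index = ∑ ψ : Cfsg.IrrCharacter G, m ψ * d ψ := by exact_mod_cast h1
  have h3 : d (irrOf ρ) = Module.finrank ℂ V := by
    have := hd ((irrOf ρ) : Cfsg.IrrCharacter G)
    rw [show (((irrOf ρ) : Cfsg.IrrCharacter G) : G → ℂ) 1 = ρ.character 1 from rfl, Representation.char_one] at this
    exact_mod_cast this.symm
  rw [h2, ← h3]
  exact le_trans (Nat.le_mul_of_pos_left _ (Nat.pos_of_ne_zero hm1)) (Finset.single_le_sum (f := fun ψ => m ψ * d ψ) (fun _ _ => Nat.zero_le _) (Finset.mem_univ _))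

end Cfsg.Agent.S0178
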