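import Cfsg.Statements.S0179
import Cfsg.Agent.Lib.Char.Projective

set_option autoImplicit false
open Cfsg

namespace Cfsg.Agent.S0179

open CfsgLib.Char
open scoped CfsgLib.Char

/-- The degree of an irreducible complex representation of a finite group divides the index of the centre. -/
theorem result {G : Type*} [Group G] [Finite G] {V : Type*} [AddCommGroup V] [Module ℂ V] [FiniteDimensional ℂ V] (ρ : Representation ℂ G V) [ρ.IsIrreducible] : Module.finrank ℂ V ∣ (Subgroup.center G).index := by
  refine degree_dvd_index_of_scalar ρ (Subgroup.center G) fun z hz => ?_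
  let T : Representation.IntertwiningMap ρ ρ := ⟨ρ z, fun g => by
    rw [← Module.End.mul_eq_comp, ← Module.End.mul_eq_comp, ← map_mul, ← map_mul, Subgroup.mem_center_iff.mp hz g]⟩
  obtain ⟨c, hc⟩ := (Representation.IsIrreducible.algebraMap_intertwiningMap_bijective_of_isAlgClosed (ρ := ρ)).2 T
  refine ⟨c, ?_⟩
  have h := congrArg Representation.IntertwiningMap.toLinearMap hc
  refine Eq.trans h.symm ?_
  ext v; simp [Algebra.algebraMap_eq_smul_one]

end Cfsg.Agent.S0179
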