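import Cfsg.Statements.S0181
import Cfsg.Agent.Lib.Char.Gallagher
import Cfsg.Agent.Lib.Char.Burnside

set_option autoImplicit false
open Cfsg

namespace Cfsg.Agent.S0181

open CfsgLib.Char
open scoped CfsgLib.Char

/-- Let H be a normal subgroup of a finite group G and ρ an irreducible complex representation whose kernel does not contain H. If g commutes with no non-identity element of H, then the character of ρ vanishes at g. -/
theorem result {G : Type*} [Group G] [Finite G] {V : Type*} [AddCommGroup V] [Module ℂ V] [FiniteDimensional ℂ V] (ρ : Representation ℂ G V) [ρ.IsIrreducible] (H : Subgroup G) [H.Normal] (hker : ∃ h ∈ H, ρ h ≠ LinearMap.id) (g : G) (hg : ∀ h ∈ H, h * g = g * h → h = 1) : ρ.character g = 0 := by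
  classical
  have := Fintype.ofFinite H
  have hirr := isIrrCharacter_character ρ
  rcases avgN_dichotomy H hirr with ⟨-, hc⟩ | ⟨h0, -⟩
  · exfalso
    obtain ⟨h, hh, hne⟩ := hker
    apply hne
    rw [← character_eq_finrank_iff]
    have := hc ⟨h, hh⟩ 1
    rw [mul_one, Representation.char_one] at this
    exact this
  have hφ : Function.Bijective (fun h : H => (⟨(h : G) * (g * (h : G)⁻¹ * g⁻¹), H.mul_mem h.2 ((inferInstance : H.Normal).conj_mem _ (H.inv_mem h.2) g)⟩ : H)) := by
    refine Finite.injective_iff_bijective.mp fun a b e => ?_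
    have e' : (a : G) * (g * (a : G)⁻¹ * g⁻¹) = b * (g * (b : G)⁻¹ * g⁻¹) := congrArg Subtype.val e
    have hc : ((b : G)⁻¹ * a) * g = g * ((b : G)⁻¹ * a) := by
      calc ((b : G)⁻¹ * a) * g = (b : G)⁻¹ * ((a : G) * (g * (a : G)⁻¹ * g⁻¹)) * g * a := by group
        _ = (b : G)⁻¹ * ((b : G) * (g * (b : G)⁻¹ * g⁻¹)) * g * a := by rw [e']
        _ = g * ((b : G)⁻¹ * a) := by group
    have := hg _ (H.mul_mem (H.inv_mem b.2) a.2) hc
    exact Subtype.ext (inv_mul_eq_one.mp this).symm
  have h := congrFun h0 g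
  rw [avgN, ← Equiv.sum_comp (Equiv.ofBijective _ hφ)] at h
  have hval : ∀ x : H, ρ.character ((Equiv.ofBijective _ hφ x : G) * g) = ρ.character g := by
    intro x
    rw [← Representation.char_conj ρ g (x : G)]
    congr 1
    show (x : G) * (g * (x : G)⁻¹ * g⁻¹) * g = _
    group
  simp only [hval, Finset.sum_const, Finset.card_univ, ← Nat.card_eq_fintype_card, nsmul_eq_mul] at h
  rwa [inv_mul_cancel_left₀ (Nat.cast_ne_zero.mpr Nat.card_pos.ne')] at h

end Cfsg.Agent.S0181
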