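import Cfsg.Statements.S0184
import Cfsg.Agent.Lib.Char.Kernel
import Cfsg.Agent.Lib.Char.Central
import Mathlib.RingTheory.IntegralDomain
import Mathlib.GroupTheory.Solvable

set_option autoImplicit false
open Cfsg

namespace Cfsg.Agent.S0184

open CfsgLib.Char
open scoped CfsgLib.Char

/-- A finite p-group admits a faithful irreducible complex representation if and only if its centre is cyclic. -/
theorem result {G : Type*} [Group G] [Finite G] (p : ℕ) [Fact p.Prime] (hG : IsPGroup p G) : (∃ (n : ℕ) (ρ : Representation ℂ G (Fin n → ℂ)), ρ.IsIrreducible ∧ Function.Injective ρ) ↔ IsCyclic (Subgroup.center G) := by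
  classical
  have : Fintype G := Fintype.ofFinite G
  have hp := (Fact.out : p.Prime)
  constructor
  · rintro ⟨n, ρ, hρ, hinj⟩
    haveI := hρ
    have hχi : Cfsg.IsIrrCharacter G ρ.character := ⟨n, ρ, hρ, rfl⟩
    have hsc : ∀ z : Subgroup.center G, ∃ w : ℂ, ρ (z : G) = w • LinearMap.id := by
      intro z
      refine ⟨omega ρ.character z, ?_⟩
      rw [← classSum_eq_omega, classSum]
      have e : (Finset.univ.filter fun x => IsConj x (z : G)) = {(z : G)} := by
        ext x
        simp only [Finset.mem_filter, Finset.mem_univ, true_and, Finset.mem_singleton]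
        refine ⟨fun hx => ?_, fun hx => hx ▸ IsConj.refl _⟩
        obtain ⟨c, hc⟩ := isConj_iff.mp hx.symm
        rw [← hc, Subgroup.mem_center_iff.mp z.2 c, mul_inv_cancel_right]
      convert (Finset.sum_singleton (fun x => ρ x) (z : G)).symm using 2
    choose w hw using hsc
    have hn : 0 < n := by
      have := finrank_pos_of_irreducible ρ
      rwa [Module.finrank_fin_fun] at this
    let v : Fin n → ℂ := Pi.single ⟨0, hn⟩ 1
    have hval : ∀ z, (ρ ((z : Subgroup.center G) : G) v) ⟨0, hn⟩ = w z := fun z => by
      rw [hw]; simp [v]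
    let f : Subgroup.center G →* ℂ :=
      { toFun := w
        map_one' := by rw [← hval]; simp [v]
        map_mul' := fun a b => by
          rw [← hval, Subgroup.coe_mul, map_mul, Module.End.mul_apply, hw b, LinearMap.smul_apply,
            LinearMap.id_apply, map_smul, Pi.smul_apply, hval, smul_eq_mul, mul_comm] }
    refine isCyclic_of_subgroup_isDomain f fun a b hab => ?_
    have h2 : w a = w b := hab
    exact Subtype.ext (hinj (by rw [hw a, hw b, h2]))
  · intro hcyc
    by_cases hG1 : ∀ g : G, g = 1
    · obtain ⟨n, ρ, hρ, -⟩ := (isIrrCharacter_one (G := G))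
      exact ⟨n, ρ, hρ, fun a b _ => by rw [hG1 a, hG1 b]⟩
    · push Not at hG1
      obtain ⟨g₀, hg₀⟩ := hG1
      obtain ⟨z, -, hzc, hz⟩ := exists_central_of_normal hG (⊤ : Subgroup G) (fun h => hg₀ (by
        have : g₀ ∈ (⊤ : Subgroup G) := Subgroup.mem_top _
        rw [h, Subgroup.mem_bot] at this; exact this))
      have hz1 : z ≠ 1 := fun h => hp.ne_one (by rw [← hz, h, orderOf_one])
      obtain ⟨χ, hχ⟩ : ∃ χ : Cfsg.IrrCharacter G, (χ : G → ℂ) z ≠ (χ : G → ℂ) 1 := by
        by_contra h
        push Not at h
        exact hz1 (eq_one_of_forall_irr h)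
      obtain ⟨n, ρ, hρ, e⟩ := χ.2
      refine ⟨n, ρ, hρ, ?_⟩
      let K := MonoidHom.ker (ρ : G →* Module.End ℂ (Fin n → ℂ))
      have hK : K = ⊥ := by
        by_contra hne
        obtain ⟨y, hyK, hyc, hy⟩ := exists_central_of_normal hG K hne
        apply hχ
        have hzy : z ∈ Subgroup.zpowers y := by
          haveI := hcyc
          let F : Finset (Subgroup.center G) := Finset.univ.filter fun a => a ^ p = 1
          have hF : F.card ≤ p := IsCyclic.card_pow_eq_one_le hp.pos
          have hsub : ∀ w : Subgroup.center G, orderOf (w : G) = p →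
              Finset.univ.filter (fun a => a ∈ Subgroup.zpowers w) = F := by
            intro w hw
            have hwp : w ^ p = 1 := Subtype.ext (by
              show (w : G) ^ p = 1; rw [← hw, pow_orderOf_eq_one])
            refine Finset.eq_of_subset_of_card_le (fun a ha => ?_) ?_
            · simp only [F, Finset.mem_filter, Finset.mem_univ, true_and] at ha ⊢
              obtain ⟨i, rfl⟩ := Subgroup.mem_zpowers_iff.mp ha
              rw [← zpow_natCast, zpow_comm, zpow_natCast, hwp, one_zpow]
            · refine hF.trans (le_of_eq ?_)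
              have h1 : Nat.card (Subgroup.zpowers w) = p := by
                rw [Nat.card_zpowers, ← Subgroup.orderOf_coe, hw]
              rw [← h1, Nat.card_eq_fintype_card, ← Fintype.card_subtype]
          have h1 : (⟨z, hzc⟩ : Subgroup.center G) ∈ Subgroup.zpowers (⟨y, hyc⟩ : Subgroup.center G) := by
            have h2 : (⟨z, hzc⟩ : Subgroup.center G) ∈ Finset.univ.filter (fun a => a ∈ Subgroup.zpowers (⟨z, hzc⟩ : Subgroup.center G)) :=
              Finset.mem_filter.mpr ⟨Finset.mem_univ _, Subgroup.mem_zpowers _⟩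
            rw [hsub ⟨z, hzc⟩ hz, ← hsub ⟨y, hyc⟩ hy] at h2
            exact (Finset.mem_filter.mp h2).2
          obtain ⟨i, hi⟩ := Subgroup.mem_zpowers_iff.mp h1
          exact Subgroup.mem_zpowers_iff.mpr ⟨i, congrArg Subtype.val hi⟩
        rw [← e, Representation.char_one]
        refine (character_eq_finrank_iff ρ z).mpr ?_
        exact MonoidHom.mem_ker.mp ((Subgroup.zpowers_le.mpr hyK) hzy)
      exact (MonoidHom.ker_eq_bot_iff _).mp hK

end Cfsg.Agent.S0184
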