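import Cfsg.Statements.S0186
import Cfsg.Agent.Lib.Char.MeanValue
import Cfsg.Agent.Lib.Char.Counting
import Cfsg.Agent.Lib.Char.Twist
import Cfsg.Agent.Lib.Char.Central
import Cfsg.Agent.Lib.Char.Kernel
import Cfsg.Agent.Lib.Char.Table

set_option autoImplicit false
open Cfsg

namespace Cfsg.Agent.S0186

open CfsgLib.Char
open scoped CfsgLib.Char

/-- Let G be a finite simple group of order n and p a prime dividing n. If G has more than n / p^2 conjugacy classes, then every Sylow p-subgroup of G is abelian. -/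
theorem result {G : Type*} [Group G] [Finite G] [IsSimpleGroup G] (p : ℕ) [Fact p.Prime] (hp : p ∣ Nat.card G) (hmany : Nat.card G < p ^ 2 * Nat.card (ConjClasses G)) (P : Sylow p G) (a b : G) (ha : a ∈ P) (hb : b ∈ P) : a * b = b * a := by
  classical
  haveI : Fintype G := Fintype.ofFinite G
  by_contra hnc
  have hp1 := (Fact.out : p.Prime).one_lt
  obtain ⟨n, hn⟩ := P.isPGroup'.exists_card_eq
  have hn2 : 2 ≤ n := by
    by_contra h
    refine hnc ?_
    interval_cases n
    · rw [pow_zero, Subgroup.card_eq_one] at hn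
      rw [Subgroup.mem_bot.mp (hn ▸ ha : a ∈ (⊥ : Subgroup G)), Subgroup.mem_bot.mp (hn ▸ hb : b ∈ (⊥ : Subgroup G))]
    · rw [pow_one] at hn
      haveI : IsCyclic (P : Subgroup G) := isCyclic_of_prime_card hn
      exact congrArg Subtype.val ((IsCyclic.commutative (α := ↥(P : Subgroup G))).is_comm.comm (⟨a, ha⟩ : (P : Subgroup G)) ⟨b, hb⟩)
  have hp2 : p ^ 2 ∣ Nat.card G := by
    have := Subgroup.card_subgroup_dvd_card (P : Subgroup G)
    rw [hn] at this
    exact (pow_dvd_pow p hn2).trans this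
  have hP' : commutator (P : Subgroup G) ≠ ⊥ := by
    intro h
    refine hnc (congrArg Subtype.val (commutatorElement_eq_one_iff_mul_comm.mp (Subgroup.mem_bot.mp ?_) :
      (⟨a, ha⟩ : (P : Subgroup G)) * ⟨b, hb⟩ = ⟨b, hb⟩ * ⟨a, ha⟩))
    rw [← h]
    exact Subgroup.commutator_mem_commutator (Subgroup.mem_top _) (Subgroup.mem_top _)
  obtain ⟨z, hzc, hzZ, hzord⟩ := exists_central_of_normal P.isPGroup' (commutator (P : Subgroup G)) hP'
  have hzG : orderOf (z : G) = p := by rw [Subgroup.orderOf_coe, hzord]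
  have hz1 : (z : G) ≠ 1 := fun e => by rw [e, orderOf_one] at hzG; omega
  -- values at `z`
  have hval : ∀ χ : Cfsg.IrrCharacter G, (χ : G → ℂ) ≠ (fun _ => 1) → ∀ d : ℕ, (χ : G → ℂ) 1 = d →
      p ≤ d ∧ (d < 2 * p → ∃ ω : ℂ, orderOf ω = p ∧
        ∀ i : ℕ, (χ : G → ℂ) ((z : G) ^ i) = (d : ℂ) - p + p * ω ^ i) := by
    intro χ hχ1 d hd
    have hnker : (χ : G → ℂ) (z : G) ≠ (χ : G → ℂ) 1 := by
      intro he
      obtain ⟨K, hKn, hKmem, hKmul⟩ := exists_kernel (isCharacter_of_isIrr χ.2)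
      rcases hKn.eq_bot_or_eq_top with e | e
      · exact hz1 (Subgroup.mem_bot.mp (e ▸ (hKmem _).mpr he))
      · have hconst : ∀ g, (χ : G → ℂ) g = (χ : G → ℂ) 1 := fun g => (hKmem g).mp (e ▸ Subgroup.mem_top g)
        refine hχ1 ?_
        by_contra hne
        have h0 := classInner_irr_ne χ.2 isIrrCharacter_one hne
        simp only [classInner, hconst, map_one, mul_one, Finset.sum_const, Finset.card_univ,
          nsmul_eq_mul] at h0
        rcases mul_eq_zero.mp h0 with h | h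
        · simp at h
        · rcases mul_eq_zero.mp h with h | h
          · simp at h
          · exact irr_degree_ne_zero χ.2 h
    obtain ⟨m, hm⟩ := exists_multiplicities (isCharacter_restrict (P : Subgroup G) (isCharacter_of_isIrr χ.2))
    choose e he _he0 hedvd using fun ψ : Cfsg.IrrCharacter (P : Subgroup G) => exists_degree_dvd_card ψ.2
    have hres : ∀ x : (P : Subgroup G), (χ : G → ℂ) x =
        ∑ ψ, (m ψ : ℂ) * (ψ : ↥(P : Subgroup G) → ℂ) x := fun x => by
      have := congrFun hm x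
      simpa only [Finset.sum_apply, Pi.smul_apply, smul_eq_mul] using this
    have hde : d = ∑ ψ, m ψ * e ψ := by
      have := hres 1
      rw [OneMemClass.coe_one, hd] at this
      simp only [he] at this
      exact_mod_cast this
    have hlin : ∀ ψ : Cfsg.IrrCharacter (P : Subgroup G), e ψ = 1 → ∀ i : ℕ,
        (ψ : ↥(P : Subgroup G) → ℂ) (z ^ i) = 1 := by
      intro ψ h1 i
      have h1' : (ψ : ↥(P : Subgroup G) → ℂ) 1 = 1 := by rw [he, h1, Nat.cast_one]
      have hk : linearHom (isCharacter_of_isIrr ψ.2) h1' (z ^ i) = 1 :=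
        MonoidHom.mem_ker.mp (Abelianization.commutator_subset_ker _ (Subgroup.pow_mem _ hzc i))
      rw [← linearHom_apply (isCharacter_of_isIrr ψ.2) h1', hk]
      rfl
    have hep : ∀ ψ : Cfsg.IrrCharacter (P : Subgroup G), e ψ ≠ 1 → p ≤ e ψ := by
      intro ψ h1
      obtain ⟨j, -, hj⟩ := (Nat.dvd_prime_pow (Fact.out : p.Prime)).mp (hn ▸ hedvd ψ)
      rw [hj]
      exact Nat.le_self_pow (fun h0 => h1 (by rw [hj, h0, pow_zero])) p
    obtain ⟨ψ₀, hm0, he0⟩ : ∃ ψ, m ψ ≠ 0 ∧ e ψ ≠ 1 := by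
      by_contra hc
      push_neg at hc
      refine hnker ?_
      rw [hres, ← OneMemClass.coe_one (P : Subgroup G), hres]
      refine Finset.sum_congr rfl fun ψ _ => ?_
      by_cases h : m ψ = 0
      · simp [h]
      · rw [he, hc ψ h, Nat.cast_one]
        have := hlin ψ (hc ψ h) 1
        rw [pow_one] at this
        rw [this]
    have hsplit := Finset.add_sum_erase Finset.univ (fun ψ => m ψ * e ψ) (Finset.mem_univ ψ₀)
    have hge : p ≤ m ψ₀ * e ψ₀ := (hep ψ₀ he0).trans (Nat.le_mul_of_pos_left _ (Nat.pos_of_ne_zero hm0))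
    refine ⟨by omega, fun hlt => ?_⟩
    have hep0 : e ψ₀ = p := by
      obtain ⟨j, -, hj⟩ := (Nat.dvd_prime_pow (Fact.out : p.Prime)).mp (hn ▸ hedvd ψ₀)
      have hle : e ψ₀ ≤ m ψ₀ * e ψ₀ := Nat.le_mul_of_pos_left _ (Nat.pos_of_ne_zero hm0)
      match j, hj with
      | 0, hj => exact absurd (by rw [hj, pow_zero]) he0
      | 1, hj => rw [hj, pow_one]
      | j + 2, hj =>
        have : p ^ 2 ≤ e ψ₀ := hj ▸ Nat.pow_le_pow_right (by omega) (by omega)
        have h2p : 2 * p ≤ p ^ 2 := by rw [sq]; exact Nat.mul_le_mul_right p (by omega)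
        omega
    have hm1 : m ψ₀ = 1 := by
      by_contra h
      have : 2 * e ψ₀ ≤ m ψ₀ * e ψ₀ := Nat.mul_le_mul_right _ (by omega)
      omega
    have hother : ∀ ψ, ψ ≠ ψ₀ → m ψ ≠ 0 → e ψ = 1 := by
      intro ψ hne hm'
      by_contra h
      have h1 : m ψ * e ψ ≤ ∑ ξ ∈ Finset.univ.erase ψ₀, m ξ * e ξ :=
        Finset.single_le_sum (f := fun ξ => m ξ * e ξ) (fun _ _ => Nat.zero_le _)
          (Finset.mem_erase.mpr ⟨hne, Finset.mem_univ ψ⟩)
      have h2 : p ≤ m ψ * e ψ := (hep ψ h).trans (Nat.le_mul_of_pos_left _ (Nat.pos_of_ne_zero hm'))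
      omega
    set ω : ℂ := (ψ₀ : ↥(P : Subgroup G) → ℂ) z / p with hω
    have hpC : (p : ℂ) ≠ 0 := Nat.cast_ne_zero.mpr (by omega)
    have hpow : ∀ i : ℕ, (ψ₀ : ↥(P : Subgroup G) → ℂ) (z ^ i) = p * ω ^ i := by
      intro i
      induction i with
      | zero => rw [pow_zero, pow_zero, mul_one, he, hep0]
      | succ i ih =>
        have h := central_mul ψ₀.2 hzZ (z ^ i)
        rw [← pow_succ, he, hep0, ih] at h
        rw [show (ψ₀ : ↥(P : Subgroup G) → ℂ) z = p * ω by rw [hω, mul_div_cancel₀ _ hpC]] at h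
        exact mul_right_cancel₀ hpC (h.trans (by ring))
    have hvz : ∀ i : ℕ, (χ : G → ℂ) ((z : G) ^ i) = (d : ℂ) - p + p * ω ^ i := by
      intro i
      rw [← SubmonoidClass.coe_pow, hres, ← Finset.add_sum_erase _ _ (Finset.mem_univ ψ₀), hm1,
        Nat.cast_one, one_mul, hpow, add_comm]
      congr 1
      have h1 : d = p + ∑ ξ ∈ Finset.univ.erase ψ₀, m ξ * e ξ := by
        rw [hde, ← hsplit, hm1, hep0, one_mul]
      rw [h1]
      push_cast
      rw [add_sub_cancel_left]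
      refine Finset.sum_congr rfl fun ψ hψ => ?_
      by_cases h : m ψ = 0
      · simp [h]
      · have h2 := hother ψ (Finset.ne_of_mem_erase hψ) h
        rw [hlin ψ h2, h2, Nat.cast_one]
    refine ⟨ω, orderOf_eq_prime ?_ ?_, hvz⟩
    · have h := hpow p
      rw [orderOf_dvd_iff_pow_eq_one.mp (dvd_of_eq hzord), he, hep0] at h
      exact (mul_left_cancel₀ hpC ((mul_one _).trans h)).symm
    · intro h
      refine hnker ?_
      have h1 := hvz 1
      rw [pow_one, h] at h1
      rw [h1, hd]; simp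
  choose D hD _hD0 hDdvd using fun χ : Cfsg.IrrCharacter G => exists_degree_dvd_card χ.2
  have hsq : ∑ χ, D χ ^ 2 = Nat.card G := by
    have h := sum_sq_degree (G := G)
    simp only [hD] at h
    exact_mod_cast h
  set t : Cfsg.IrrCharacter G := ⟨_, isIrrCharacter_one⟩ with ht
  set F := Finset.univ.erase t with hF
  have ht1 : D t = 1 := by
    have : (D t : ℂ) = 1 := (hD t).symm
    exact_mod_cast this
  have hFne : ∀ χ ∈ F, (χ : G → ℂ) ≠ (fun _ => 1) := fun χ hχ h =>
    Finset.ne_of_mem_erase hχ (Subtype.ext h)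
  rw [← card_irr_eq_card_conjClasses, Nat.card_eq_fintype_card (α := Cfsg.IrrCharacter G),
    ← Finset.card_univ, ← Finset.card_erase_add_one (Finset.mem_univ t), ← hF] at hmany
  rw [← Finset.add_sum_erase _ _ (Finset.mem_univ t), ht1, one_pow, ← hF] at hsq
  have hlow : ∀ χ ∈ F, p ^ 2 ≤ D χ ^ 2 := fun χ hχ =>
    Nat.pow_le_pow_left (hval χ (hFne χ hχ) _ (hD χ)).1 2
  by_cases hall : ∀ χ ∈ F, D χ = p
  · rw [Finset.sum_congr rfl fun χ hχ => by rw [hall χ hχ], Finset.sum_const, smul_eq_mul] at hsq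
    have h1 : p ^ 2 ∣ 1 := by
      rw [← hsq] at hp2
      exact (Nat.dvd_add_left (dvd_mul_left _ _)).mp hp2
    have := Nat.le_of_dvd one_pos h1
    nlinarith
  push_neg at hall
  obtain ⟨χ, hχF, hχp⟩ := hall
  by_cases hbig : 2 * p ≤ D χ
  · have h := Finset.add_sum_erase F (fun ξ => D ξ ^ 2) hχF
    have h2 : (F.erase χ).card * p ^ 2 ≤ ∑ ξ ∈ F.erase χ, D ξ ^ 2 := by
      rw [← smul_eq_mul, ← Finset.sum_const]
      exact Finset.sum_le_sum fun ξ hξ => hlow ξ (Finset.mem_of_mem_erase hξ)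
    have h3 : (2 * p) ^ 2 ≤ D χ ^ 2 := Nat.pow_le_pow_left hbig 2
    rw [← Finset.card_erase_add_one hχF] at hmany
    nlinarith
  obtain ⟨hge, hω⟩ := hval χ (hFne χ hχF) _ (hD χ)
  obtain ⟨ω, hωord, hvz⟩ := hω (by omega)
  choose k hk hki using fun i : Fin (p - 1) =>
    (exists_coprime_exponent (N := Nat.card G) (m := p) (n := 1) Nat.card_pos.ne' (Nat.coprime_one_right p)
      (by rw [mul_one]; exact hp) (k := (i : ℕ) + 1)
      (((Fact.out : p.Prime).coprime_iff_not_dvd.mpr (fun hd => by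
        have := Nat.le_of_dvd (by omega) hd
        have := i.2
        omega)).symm))
  let c : Fin (p - 1) → Cfsg.IrrCharacter G := fun i => ⟨_, isIrrCharacter_pow (hk i) χ.2⟩
  have hDc : ∀ i, D (c i) = D χ := fun i => by
    have h := hD (c i)
    simp only [c, one_pow, hD χ] at h
    exact_mod_cast h.symm
  have hcinj : Function.Injective c := by
    intro i j h
    have h1 : (χ : G → ℂ) ((z : G) ^ k i) = (χ : G → ℂ) ((z : G) ^ k j) :=
      congrFun (congrArg Subtype.val h) (z : G)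
    rw [hvz, hvz, add_right_inj, mul_right_inj' (Nat.cast_ne_zero.mpr (by omega : p ≠ 0)),
      (orderOf_pos_iff.mp (hωord ▸ (Fact.out : p.Prime).pos)).pow_eq_pow_iff_modEq, hωord] at h1
    have h2 := ((hki i).1.symm.trans h1).trans (hki j).1
    have := h2.eq_of_lt_of_lt (by omega) (by omega)
    exact Fin.ext (by omega)
  have hCF : Finset.univ.image c ⊆ F := by
    intro ξ hξ
    obtain ⟨i, -, rfl⟩ := Finset.mem_image.mp hξ
    refine Finset.mem_erase.mpr ⟨fun e => ?_, Finset.mem_univ _⟩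
    have := congrArg D e
    rw [hDc, ht1] at this
    omega
  have h := Finset.sum_sdiff (f := fun ξ => D ξ ^ 2) hCF
  have hC : ∑ ξ ∈ Finset.univ.image c, D ξ ^ 2 = (p - 1) * D χ ^ 2 := by
    rw [Finset.sum_image fun a _ b _ e => hcinj e]
    simp [hDc]
  have h2 : (F \ Finset.univ.image c).card * p ^ 2 ≤ ∑ ξ ∈ F \ Finset.univ.image c, D ξ ^ 2 := by
    rw [← smul_eq_mul, ← Finset.sum_const]
    exact Finset.sum_le_sum fun ξ hξ => hlow ξ (Finset.mem_sdiff.mp hξ).1
  have hcard := Finset.card_sdiff_add_card_eq_card hCF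
  rw [Finset.card_image_of_injective _ hcinj, Finset.card_univ, Fintype.card_fin] at hcard
  have h3 : (p + 1) ^ 2 ≤ D χ ^ 2 := Nat.pow_le_pow_left (by omega) 2
  have h4 := Nat.mul_le_mul_left (p - 1) h3
  obtain ⟨q, rfl⟩ : ∃ q, p = q + 1 := ⟨p - 1, by omega⟩
  simp only [Nat.add_sub_cancel] at *
  rw [← hcard] at hmany
  nlinarith

end Cfsg.Agent.S0186
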