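import Cfsg.Statements.S0191
import Cfsg.Agent.Lib.Char.Galois
import Cfsg.Agent.Lib.Char.Artin
import Cfsg.Agent.Lib.Transfer.Basic
import Cfsg.Agent.Lib.Char.Counting

set_option autoImplicit false
open Cfsg

namespace Cfsg.Agent.S0191

open CfsgLib.Char
open scoped CfsgLib.Char

/-- An irreducible complex representation of a finite group of degree greater than 1 has a character that vanishes somewhere. -/
theorem result {G : Type*} [Group G] [Finite G] {V : Type*} [AddCommGroup V] [Module ℂ V] [FiniteDimensional ℂ V] (ρ : Representation ℂ G V) [ρ.IsIrreducible] (hdeg : 1 < Module.finrank ℂ V) : ∃ g : G, ρ.character g = 0 := by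
  classical
  have : Fintype G := Fintype.ofFinite G
  by_contra hc
  push Not at hc
  set χ := ρ.character with hχdef
  have hχ : Cfsg.IsCharacter G χ := isCharacter_character ρ
  have hirr := isIrrCharacter_character ρ
  let gens : Subgroup G → Finset G := fun C => Finset.univ.filter fun a => Subgroup.zpowers a = C
  have hprod : ∀ C : Subgroup G, ((gens C).card : ℝ) ≤ ∑ a ∈ gens C, Complex.normSq (χ a) := by
    intro C
    let z : QBar := ∏ a ∈ gens C, value hχ a * value hχ a⁻¹
    have hzc : (z : ℂ) = ((∏ a ∈ gens C, Complex.normSq (χ a) : ℝ) : ℂ) := by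
      simp only [z]
      push_cast
      refine Finset.prod_congr rfl fun a _ => ?_
      rw [← Complex.mul_conj]
      show χ a * χ a⁻¹ = _
      rw [hχdef, char_value_inv]
    have hfix : ∀ ψ : QBar →ₐ[ℚ] ℂ, ψ z = (z : ℂ) := by
      intro ψ
      obtain ⟨k, hk, hψ⟩ := exists_galois_exponent G ψ
      have hbij : Function.Injective fun a : G => a ^ k := (powCoprime hk.symm).injective
      simp only [z, map_prod, map_mul, hψ hχ]
      push_cast
      have hmaps : ∀ a ∈ gens C, a ^ k ∈ gens C := by
        intro a ha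
        simp only [gens, Finset.mem_filter, Finset.mem_univ, true_and] at ha ⊢
        rw [← ha]
        refine Subgroup.eq_of_le_of_card_ge (Subgroup.zpowers_le.mpr (Subgroup.npow_mem_zpowers a k)) ?_
        rw [Nat.card_zpowers, Nat.card_zpowers, (Nat.Coprime.coprime_dvd_right (orderOf_dvd_natCard a) hk).symm.orderOf_pow]
      have himg : (gens C).image (fun a => a ^ k) = gens C :=
        Finset.eq_of_subset_of_card_le (Finset.image_subset_iff.mpr hmaps)
          (by rw [Finset.card_image_of_injective _ (fun a b h => hbij h)])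
      conv_rhs => rw [← himg, Finset.prod_image fun a _ b _ h => hbij h]
      refine Finset.prod_congr rfl fun a _ => ?_
      rw [inv_pow]; rfl
    obtain ⟨q, hq⟩ := exists_rat_of_fixed z hfix
    have hqint : IsIntegral ℤ (q : ℂ) := by
      rw [← hq]; simp only [z]; push_cast
      exact IsIntegral.prod _ fun a _ => (isIntegral_value hχ a).mul (isIntegral_value hχ a⁻¹)
    obtain ⟨n, hn⟩ := exists_int_of_isIntegral_rat hqint
    have hpn : (∏ a ∈ gens C, Complex.normSq (χ a)) = (n : ℝ) := by
      rw [hzc, hn] at hq; push_cast at hq; exact_mod_cast hq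
    have hpos : (0 : ℝ) < ∏ a ∈ gens C, Complex.normSq (χ a) :=
      Finset.prod_pos fun a _ => Complex.normSq_pos.mpr (hc a)
    have h1 : (1 : ℝ) ≤ ∏ a ∈ gens C, Complex.normSq (χ a) := by
      rw [hpn] at hpos ⊢
      exact_mod_cast (Int.cast_pos.mp hpos : 0 < n)
    have h2 : ∑ a ∈ gens C, Real.log (Complex.normSq (χ a)) ≤
        ∑ a ∈ gens C, (Complex.normSq (χ a) - 1) :=
      Finset.sum_le_sum fun a _ => Real.log_le_sub_one_of_pos (Complex.normSq_pos.mpr (hc a))
    rw [← Real.log_prod (fun a _ => (Complex.normSq_pos.mpr (hc a)).ne'), Finset.sum_sub_distrib] at h2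
    have h3 := Real.log_nonneg h1
    simp at h2
    linarith
  have htot : ∑ a : G, Complex.normSq (χ a) = (Nat.card G : ℝ) := by
    have h1 := classInner_irr_self hirr
    unfold Cfsg.classInner at h1
    rw [inv_mul_eq_one₀ (Nat.cast_ne_zero.mpr Nat.card_pos.ne')] at h1
    simp only [Complex.mul_conj] at h1
    exact_mod_cast h1.symm
  have hlt : ((gens ⊥).card : ℝ) < ∑ a ∈ gens ⊥, Complex.normSq (χ a) := by
    have : gens ⊥ = {1} := by ext a; simp [gens]
    rw [this, Finset.card_singleton, Finset.sum_singleton, hχdef, Representation.char_one]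
    simp only [Complex.normSq_natCast, Nat.cast_one]
    have : (2 : ℝ) ≤ Module.finrank ℂ V := by exact_mod_cast hdeg
    nlinarith
  have hsum : ∑ C : Subgroup G, ((gens C).card : ℝ) < ∑ C : Subgroup G, ∑ a ∈ gens C, Complex.normSq (χ a) :=
    Finset.sum_lt_sum (fun C _ => hprod C) ⟨⊥, Finset.mem_univ _, hlt⟩
  simp only [gens] at hsum
  rw [Finset.sum_fiberwise Finset.univ (fun a : G => Subgroup.zpowers a) (fun a => Complex.normSq (χ a)), htot,
    ← Nat.cast_sum, ← Finset.card_eq_sum_card_fiberwise (s := Finset.univ) (t := Finset.univ)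
      (f := fun a : G => Subgroup.zpowers a) (fun _ _ => Finset.mem_univ _), Finset.card_univ,
    ← Nat.card_eq_fintype_card] at hsum
  exact lt_irrefl _ hsum

end Cfsg.Agent.S0191
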