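import Cfsg.Statements.S0192
import Cfsg.Agent.Lib.Char.Gallagher

set_option autoImplicit false
open Cfsg

namespace Cfsg.Agent.S0192

open CfsgLib.Char
open scoped CfsgLib.Char

/-- Brauer's generation criterion. Let G be a finite simple group, H₁ and H₂ subgroups, and χ a non-principal irreducible character. If the multiplicity of the principal character in χ restricted to H₁ ⊓ H₂ is less than the sum of the corresponding multiplicities for H₁ and H₂, then H₁ and H₂ do not generate G. -/
theorem result {G : Type*} [Group G] [Fintype G] [IsSimpleGroup G] (H₁ H₂ : Subgroup G) [Fintype H₁] [Fintype H₂] [Fintype ↥(H₁ ⊓ H₂)] (χ : G → ℂ) (hχ : Cfsg.IsIrrCharacter G χ) (hχ1 : χ ≠ fun _ => 1) (hlt : (Cfsg.classInner (fun x : ↥(H₁ ⊓ H₂) => χ x) (fun _ => 1)).re < (Cfsg.classInner (fun x : H₁ => χ x) (fun _ => 1)).re + (Cfsg.classInner (fun x : H₂ => χ x) (fun _ => 1)).re) : H₁ ⊔ H₂ ≠ ⊤ := by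
  classical
  obtain ⟨n, ρ, hρ, rfl⟩ := hχ
  have hd : ∀ (H : Subgroup G) [Fintype H], (Cfsg.classInner (fun x : H => ρ.character x) (fun _ => 1)).re =
      (Module.finrank ℂ (Representation.invariants (ρ.comp H.subtype : Representation ℂ H (Fin n → ℂ))) : ℝ) := by
    intro H _
    have : Invertible (Nat.card H : ℂ) := invertibleOfNonzero (Nat.cast_ne_zero.mpr Nat.card_pos.ne')
    have h := Representation.card_inv_mul_sum_char_eq_finrank (ρ.comp H.subtype : Representation ℂ H (Fin n → ℂ))
    have e : Cfsg.classInner (fun x : H => ρ.character x) (fun _ => 1) = ((Module.finrank ℂ (Representation.invariants (ρ.comp H.subtype : Representation ℂ H (Fin n → ℂ))) : ℕ) : ℂ) := by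
      rw [← h]
      simp only [Cfsg.classInner, map_one, mul_one]
      rfl
    rw [e, Complex.natCast_re]
  intro htop
  rw [hd, hd, hd] at hlt
  set W1 := Representation.invariants (ρ.comp H₁.subtype : Representation ℂ H₁ (Fin n → ℂ)) with hW1
  set W2 := Representation.invariants (ρ.comp H₂.subtype : Representation ℂ H₂ (Fin n → ℂ)) with hW2
  have hle : W1 ⊔ W2 ≤ Representation.invariants (ρ.comp (H₁ ⊓ H₂).subtype : Representation ℂ ↥(H₁ ⊓ H₂) (Fin n → ℂ)) :=
    sup_le (fun v hv g => hv ⟨g, g.2.1⟩) (fun v hv g => hv ⟨g, g.2.2⟩)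
  have hfix : ∀ v ∈ W1 ⊓ W2, ∀ g : G, ρ g v = v := by
    intro v hv g
    let S : Subgroup G :=
      { carrier := {g | ρ g v = v}
        one_mem' := by simp
        mul_mem' := fun {a b} (ha : ρ a v = v) (hb : ρ b v = v) => by
          show ρ (a * b) v = v
          rw [map_mul, Module.End.mul_apply, hb, ha]
        inv_mem' := fun {a} (ha : ρ a v = v) => by
          show ρ a⁻¹ v = v
          conv_lhs => rw [← ha]
          rw [← Module.End.mul_apply, ← map_mul, inv_mul_cancel, map_one, Module.End.one_apply] }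
    have : H₁ ⊔ H₂ ≤ S := sup_le (fun x hx => hv.1 ⟨x, hx⟩) (fun x hx => hv.2 ⟨x, hx⟩)
    rw [htop] at this
    exact this (Subgroup.mem_top g)
  have hinf : W1 ⊓ W2 = ⊥ := by
    let U : Subrepresentation ρ := ⟨W1 ⊓ W2, fun g v hv => by rw [hfix v hv g]; exact hv⟩
    rcases (hρ : IsSimpleOrder (Subrepresentation ρ)).eq_bot_or_eq_top U with h | h
    · exact congrArg Subrepresentation.toSubmodule h
    · exfalso
      apply hχ1
      have hU : W1 ⊓ W2 = ⊤ := congrArg Subrepresentation.toSubmodule h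
      have hid : ∀ g, ρ g = 1 := fun g => LinearMap.ext fun v => hfix v (hU ▸ Submodule.mem_top) g
      have e : ρ.character = (n : ℂ) • fun _ : G => (1 : ℂ) := by
        funext x
        show LinearMap.trace ℂ _ (ρ x) = _
        rw [hid x]; simp
      exact (irr_eq_of_smul_eq ⟨n, ρ, hρ, rfl⟩ isIrrCharacter_one e).1
  have h1 := Submodule.finrank_sup_add_finrank_inf_eq W1 W2
  rw [hinf, finrank_bot, add_zero] at h1
  have h2 := Submodule.finrank_mono hle
  have h3 : ((W1 : Submodule ℂ (Fin n → ℂ)) : Submodule ℂ _) = W1 := rfl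
  have : (Module.finrank ℂ W1 : ℝ) + Module.finrank ℂ W2 ≤ (Module.finrank ℂ (Representation.invariants (ρ.comp (H₁ ⊓ H₂).subtype : Representation ℂ ↥(H₁ ⊓ H₂) (Fin n → ℂ))) : ℝ) := by
    exact_mod_cast h1 ▸ h2
  exact absurd hlt (not_lt.mpr this)

end Cfsg.Agent.S0192
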