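import Cfsg.Statements.S0194
import Cfsg.Agent.Lib.Char.Gallagher

set_option autoImplicit false
open scoped ComplexConjugate
open Cfsg

namespace Cfsg.Agent.S0194

open CfsgLib.Char
open scoped CfsgLib.Char

/-- Let G have odd order, H be a normal subgroup and θ a non-principal irreducible character of H. Then the function induced from θ is orthogonal to its complex conjugate. -/
theorem result {G : Type*} [Group G] [Fintype G] (hodd : Odd (Nat.card G)) (H : Subgroup G) [H.Normal] (θ : H → ℂ) (hθ : Cfsg.IsIrrCharacter H θ) (hθ1 : θ ≠ fun _ => 1) : Cfsg.classInner (fun g => conj (Cfsg.indFun H θ g)) (Cfsg.indFun H θ) = 0 := by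
  classical
  have hodd' : Odd (Nat.card H) := hodd.of_dvd_nat (Subgroup.card_subgroup_dvd_card H)
  have hcl := isClassFunction_of_isCharacter (isCharacter_of_isIrr hθ)
  have hθc : Cfsg.IsIrrCharacter H (fun h => (starRingEnd ℂ) (θ h)) := isIrrCharacter_conj hθ
  have e : (fun g => (starRingEnd ℂ) (Cfsg.indFun H θ g)) = Cfsg.indFun H (fun h => (starRingEnd ℂ) (θ h)) := by
    funext g
    simp only [Cfsg.indFun, map_mul, map_inv₀, map_natCast, map_sum]
    congr 1
    refine Finset.sum_congr rfl fun x _ => ?_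
    by_cases hx : x⁻¹ * g * x ∈ H
    · rw [extendByZero_mem H θ hx, extendByZero_mem H _ hx]
    · rw [extendByZero_notMem H θ hx, extendByZero_notMem H _ hx, map_zero]
  rw [e, classInner_indFun_indFun H hθ hθc, if_neg]
  intro hmem
  obtain ⟨g, hg⟩ := (mem_orbit H).mp hmem
  have h2 : g * g ∈ inertia H θ := by
    rw [mem_inertia, conjBy_mul, hg]
    funext n
    have := congrFun hg ⟨g * n * g⁻¹, (inferInstance : H.Normal).conj_mem (n : G) n.2 g⟩
    show (starRingEnd ℂ) (θ ⟨g * n * g⁻¹, _⟩) = θ n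
    rw [show θ ⟨g * n * g⁻¹, _⟩ = (starRingEnd ℂ) (θ n) from congrFun hg n, Complex.conj_conj]
  obtain ⟨k, hk⟩ := hodd.of_dvd_nat (orderOf_dvd_natCard g)
  have hgI : g ∈ inertia H θ := by
    have : g = (g * g) ^ (k + 1) := by
      rw [← pow_two, ← pow_mul, show 2 * (k + 1) = orderOf g + 1 by omega, pow_succ, pow_orderOf_eq_one, one_mul]
    rw [this]
    exact Subgroup.pow_mem _ h2 _
  rw [(mem_inertia H).mp hgI] at hg
  exact hθ1 (irr_real_of_odd hodd' ⟨θ, hθ⟩ fun h => Complex.conj_eq_iff_im.mp (congrFun hg h).symm)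

end Cfsg.Agent.S0194
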