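import Cfsg.Statements.S0200
import Cfsg.Agent.Lib.Invol.Dihedral
import Cfsg.Agent.Lib.Baer.Basic
import Cfsg.Agent.Lib.Transfer.Cyclic

set_option autoImplicit false
open Cfsg

namespace Cfsg.Agent.S0200

/-- An involution lying in no normal 2-subgroup of a finite group inverts a nontrivial element of odd order (a consequence of the Baer–Suzuki Theorem). -/
theorem result {G : Type*} [Group G] [Finite G] (t : G) (ht : orderOf t = 2) (hO : ∀ N : Subgroup G, N.Normal → IsPGroup 2 N → t ∉ N) : ∃ h : G, h ≠ 1 ∧ Odd (orderOf h) ∧ t * h * t⁻¹ = h⁻¹ := by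
  obtain ⟨g, hg⟩ := CfsgLib.Baer.exists_conj_not_isPGroup (p := 2) (a := t)
    (CfsgLib.Transfer.isPGroup_zpowers ⟨1, ht⟩) hO
  set v := g * t * g⁻¹
  have hv : orderOf v = 2 := CfsgLib.Invol.conj_orderOf_two ht g
  obtain ⟨e, m, hm, -, hq, hpart⟩ := CfsgLib.Transfer.exists_pow_coprime_part (p := 2) (t * v)
  refine ⟨(t * v) ^ 2 ^ e, fun h => hg ?_, Nat.coprime_two_right.mp hq, ?_⟩
  · obtain ⟨k, -, hk⟩ := (Nat.dvd_prime_pow Nat.prime_two).mp (orderOf_dvd_of_pow_eq_one h)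
    rintro ⟨d, hd⟩
    obtain ⟨i, rfl | rfl⟩ := (CfsgLib.Invol.mem_closure_pair_iff ht hv).mp hd
    · refine ⟨k, Subtype.ext ?_⟩
      show ((t * v) ^ i) ^ 2 ^ k = 1
      rw [← zpow_natCast, ← zpow_mul, mul_comm, zpow_mul, zpow_natCast, ← hk, pow_orderOf_eq_one,
        one_zpow]
    · refine ⟨1, Subtype.ext ?_⟩
      show (t * (t * v) ^ i) ^ 2 ^ 1 = 1
      rw [pow_one, pow_two, CfsgLib.Invol.left_mul_zpow_mul_self ht hv]
      simp
  · rw [← conj_pow, CfsgLib.Invol.conj_prod ht hv, inv_pow]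
end Cfsg.Agent.S0200
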