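import Cfsg.Statements.S0206
import Mathlib
import Cfsg.Agent.Lib.Invol.Dihedral

set_option autoImplicit false
open Cfsg

namespace Cfsg.Agent.S0206

/-- Two distinct involutions x, y of a finite group generate a subgroup isomorphic to the dihedral group of order 2·|xy|. -/
theorem result {G : Type*} [Group G] [Finite G] (x y : G) (hx : orderOf x = 2) (hy : orderOf y = 2) (hxy : x ≠ y) : Nonempty (↥(Subgroup.closure ({x, y} : Set G)) ≃* DihedralGroup (orderOf (x * y))) := by
  classical
  open CfsgLib.Invol in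
  have hpos : 0 < orderOf (x * y) := orderOf_pos _
  haveI : NeZero (orderOf (x * y)) := ⟨hpos.ne'⟩
  set p := x * y with hp
  set n := orderOf p with hn
  let P : ZMod n → G := fun i => p ^ (i.val : ℤ)
  have hP : ∀ (a : ℤ), P (a : ZMod n) = p ^ a := by
    intro a
    simp only [P]
    rw [ZMod.val_intCast, hn]
    exact zpow_mod_orderOf p a
  have hPint : ∀ i : ZMod n, ∃ a : ℤ, i = (a : ZMod n) := fun i => ⟨i.val, by simp⟩
  let f : DihedralGroup n → G := fun d => match d with
    | .r i => P i
    | .sr i => x * P i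
  have hmul : ∀ a b, f (a * b) = f a * f b := by
    rintro (i | i) (j | j) <;> obtain ⟨a, rfl⟩ := hPint i <;> obtain ⟨b, rfl⟩ := hPint j
    · simp only [DihedralGroup.r_mul_r, f, ← Int.cast_add, hP, zpow_add]
    · simp only [DihedralGroup.r_mul_sr, f, ← Int.cast_sub, hP]
      rw [CfsgLib.Invol.zpow_mul_zpow hx hy]
    · simp only [DihedralGroup.sr_mul_r, f, ← Int.cast_add, hP, zpow_add, mul_assoc]
    · simp only [DihedralGroup.sr_mul_sr, f, ← Int.cast_sub, hP]
      rw [CfsgLib.Invol.left_mul_zpow_mul_self hx hy]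
  let F : DihedralGroup n →* G := MonoidHom.mk' f hmul
  have hrange : F.range = Subgroup.closure ({x, y} : Set G) := by
    ext d
    rw [CfsgLib.Invol.mem_closure_pair_iff hx hy]
    constructor
    · rintro ⟨(i | i), rfl⟩ <;> obtain ⟨a, rfl⟩ := hPint i
      · exact ⟨a, Or.inl (hP a)⟩
      · exact ⟨a, Or.inr (by change x * P a = _; rw [hP])⟩
    · rintro ⟨a, rfl | rfl⟩
      · exact ⟨.r a, hP a⟩
      · exact ⟨.sr a, by change x * P a = _; rw [hP]⟩
  have hinj : Function.Injective F := by
    rw [injective_iff_map_eq_one]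
    rintro (i | i) h <;> obtain ⟨a, rfl⟩ := hPint i
    · have h' : p ^ a = 1 := by rw [← hP]; exact h
      have : (a : ZMod n) = 0 := (ZMod.intCast_zmod_eq_zero_iff_dvd a n).mpr (orderOf_dvd_iff_zpow_eq_one.mpr h')
      rw [DihedralGroup.one_def, this]
    · exfalso
      have h' : x * p ^ a = 1 := by rw [← hP]; exact h
      have hxp : x = p ^ (-a) := by rw [zpow_neg]; exact mul_eq_one_iff_eq_inv.mp h'
      have hc : x * p * x⁻¹ = p := by
        have : Commute x p := by rw [hxp]; exact (Commute.refl p).zpow_left _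
        rw [this.eq, mul_inv_cancel_right]
      have hc2 := (CfsgLib.Invol.conj_prod hx hy).symm.trans hc
      have h2 : n ∣ 2 := orderOf_dvd_of_pow_eq_one (by rw [pow_two]; nth_rewrite 1 [← hc2]; rw [inv_mul_cancel])
      have hxne := CfsgLib.Invol.ne_one_of_orderOf_two hx
      rcases (Nat.dvd_prime Nat.prime_two).mp h2 with h1 | h1
      · have : p = 1 := orderOf_eq_one_iff.mp h1
        exact hxne (by rw [hxp, this, one_zpow])
      · have hp2 : p ^ 2 = 1 := by rw [← h1]; exact pow_orderOf_eq_one p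
        rcases Int.even_or_odd (-a) with ⟨b, hb⟩ | ⟨b, hb⟩
        · apply hxne
          rw [hxp, hb, ← two_mul, zpow_mul]
          rw [show p ^ (2 : ℤ) = 1 from by rw [show (2 : ℤ) = ((2 : ℕ) : ℤ) from rfl, zpow_natCast, hp2], one_zpow]
        · apply CfsgLib.Invol.ne_one_of_orderOf_two hy
          have : x = p := by
            rw [hxp, hb, zpow_add, zpow_mul, zpow_one]
            rw [show p ^ (2 : ℤ) = 1 from by rw [show (2 : ℤ) = ((2 : ℕ) : ℤ) from rfl, zpow_natCast, hp2], one_zpow, one_mul]
          exact mul_eq_left.mp this.symm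
  exact ⟨((MonoidHom.ofInjective hinj).trans (MulEquiv.subgroupCongr hrange)).symm⟩

end Cfsg.Agent.S0206
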