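import Cfsg.Statements.S0211
import Mathlib
import Cfsg.Agent.Lib.Invol.Dihedral

set_option autoImplicit false
open Cfsg

namespace Cfsg.Agent.S0211

/-- Let x, y be involutions with xy of even order n and z = (xy)^(n/2). Then xz is conjugate to x by an element of the subgroup generated by x, y if and only if 4 divides n. -/
theorem result {G : Type*} [Group G] [Finite G] (x y : G) (hx : orderOf x = 2) (hy : orderOf y = 2) (heven : Even (orderOf (x * y))) : (∃ d ∈ Subgroup.closure ({x, y} : Set G), d * x * d⁻¹ = x * (x * y) ^ (orderOf (x * y) / 2)) ↔ 4 ∣ orderOf (x * y) := by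
  constructor
  · rintro ⟨d, hd, h⟩
    obtain ⟨j, hj⟩ := CfsgLib.Invol.conj_left_eq hx hy hd
    rw [h, mul_right_inj, ← zpow_natCast] at hj
    obtain ⟨a, ha⟩ := heven
    rw [ha, show (a + a) / 2 = a by omega] at hj
    have h0 : (x * y) ^ ((a : ℤ) - 2 * j) = 1 := by rw [zpow_sub, hj, mul_inv_cancel]
    obtain ⟨b, hb⟩ := orderOf_dvd_iff_zpow_eq_one.mpr h0
    rw [ha] at hb
    push_cast at hb
    have e : ((a : ℤ) + a) * b = 2 * ((a : ℤ) * b) := by ring
    omega
  · intro h4
    exact CfsgLib.Invol.exists_conj_left_mul_centralInvol hx hy h4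

end Cfsg.Agent.S0211
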