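import Cfsg.Statements.S0212
import Cfsg.Agent.Lib.Invol.Dihedral

set_option autoImplicit false
open Cfsg

namespace Cfsg.Agent.S0212

/-- The Brauer–Fowler bound: if G is a finite simple group and t an involution of G whose centralizer has order n, then |G| ≤ (2n^2)!. -/
theorem result {G : Type*} [Group G] [Finite G] [IsSimpleGroup G] (t : G) (ht : orderOf t = 2) : Nat.card G ≤ Nat.factorial (2 * (Nat.card (Subgroup.centralizer ({t} : Set G))) ^ 2) := by
  classical
  haveI := Fintype.ofFinite G
  set n := Nat.card (Subgroup.centralizer ({t} : Set G)) with hn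
  have hn0 : 0 < n := Nat.card_pos
  by_cases htop : Subgroup.centralizer ({t} : Set G) = ⊤
  · have hnG : n = Nat.card G := by rw [hn, htop, Subgroup.card_top]
    rw [← hnG]
    exact le_trans (by nlinarith) (Nat.self_le_factorial _)
  set C : Finset G := Finset.univ.filter (fun v => IsConj t v) with hC
  have hC2 : ∀ a ∈ C, orderOf a = 2 := by
    intro a ha
    obtain ⟨g, rfl⟩ := isConj_iff.mp (Finset.mem_filter.mp ha).2
    exact CfsgLib.Invol.conj_orderOf_two ht g
  have hcard : C.card * n = Nat.card G := by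
    rw [hn, ← CfsgLib.Invol.card_isConj_mul_card_centralizer t,
      Nat.card_eq_fintype_card (α := {v : G // IsConj t v}), Fintype.card_subtype]
  set m := C.card with hm
  have hfib : ∀ x ∈ (Finset.univ : Finset G).erase 1,
      ((C ×ˢ C).filter (fun z => z.1 * z.2 = x)).card ≤ Nat.card (Subgroup.centralizer ({x} : Set G)) := by
    intro x _
    rcases ((C ×ˢ C).filter (fun z => z.1 * z.2 = x)).eq_empty_or_nonempty with h | ⟨⟨a₀, b₀⟩, h₀⟩
    · simp [h]
    simp only [Finset.mem_filter, Finset.mem_product] at h₀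
    have key : ∀ a ∈ C, ∀ b ∈ C, a * b = x → a * x * a = x⁻¹ := by
      intro a ha b hb hab
      rw [← hab, mul_inv_rev, CfsgLib.Invol.inv_of_orderOf_two (hC2 a ha),
        CfsgLib.Invol.inv_of_orderOf_two (hC2 b hb), ← mul_assoc,
        CfsgLib.Invol.mul_self_of_orderOf_two (hC2 a ha), one_mul]
    rw [Nat.card_eq_fintype_card, ← Finset.card_univ]
    refine Finset.card_le_card_of_injOn (fun z =>
      if h : a₀ * z.1 ∈ Subgroup.centralizer ({x} : Set G) then (⟨_, h⟩ : Subgroup.centralizer ({x} : Set G)) else 1)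
      (fun z _ => Finset.mem_coe.mpr (Finset.mem_univ _)) ?_
    intro z hz w hw hzw
    simp only [Finset.coe_filter, Finset.mem_product, Set.mem_setOf_eq] at hz hw
    have hmem : ∀ a ∈ C, ∀ b ∈ C, a * b = x → a₀ * a ∈ Subgroup.centralizer ({x} : Set G) := by
      intro a ha b hb hab
      rw [Subgroup.mem_centralizer_singleton_iff]
      have e1 := key a ha b hb hab
      have e2 := key a₀ h₀.1.1 b₀ h₀.1.2 h₀.2
      have sa := CfsgLib.Invol.mul_self_of_orderOf_two (hC2 a ha)
      have sa₀ := CfsgLib.Invol.mul_self_of_orderOf_two (hC2 a₀ h₀.1.1)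
      calc a₀ * a * x = a₀ * (a * x * a) * a := by simp [mul_assoc, sa]
        _ = a₀ * x⁻¹ * a := by rw [e1]
        _ = a₀ * (a₀ * x * a₀) * a := by rw [e2]
        _ = x * (a₀ * a) := by simp [← mul_assoc, sa₀]
    simp only [dif_pos (hmem z.1 hz.1.1 z.2 hz.1.2 hz.2), dif_pos (hmem w.1 hw.1.1 w.2 hw.1.2 hw.2),
      Subtype.mk.injEq, mul_right_inj] at hzw
    refine Prod.ext hzw ?_
    have := hz.2.trans hw.2.symm
    rw [hzw] at this
    exact mul_left_cancel this
  have hone : ((C ×ˢ C).filter (fun z => z.1 * z.2 = 1)).card ≤ m := by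
    refine Finset.card_le_card_of_injOn Prod.fst (fun z hz => ?_) ?_
    · exact (Finset.mem_product.mp (Finset.mem_filter.mp hz).1).1
    · intro z hz w hw hzw
      simp only [Finset.coe_filter, Finset.mem_product, Set.mem_setOf_eq] at hz hw
      refine Prod.ext hzw ?_
      have := hz.2.trans hw.2.symm
      rw [hzw] at this
      exact mul_left_cancel this
  obtain ⟨x, hx, hmax⟩ := Finset.exists_max_image ((Finset.univ : Finset G).erase 1)
    (fun x => Nat.card (Subgroup.centralizer ({x} : Set G)))
    ⟨t, Finset.mem_erase.mpr ⟨CfsgLib.Invol.ne_one_of_orderOf_two ht, Finset.mem_univ _⟩⟩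
  set M := Nat.card (Subgroup.centralizer ({x} : Set G)) with hM
  have hM0 : 0 < M := Nat.card_pos
  have hsum : m * m ≤ m + Nat.card G * M := by
    calc m * m = (C ×ˢ C).card := (Finset.card_product _ _).symm
      _ = ∑ y : G, ((C ×ˢ C).filter (fun z => z.1 * z.2 = y)).card :=
          Finset.card_eq_sum_card_fiberwise fun z _ => Finset.mem_coe.mpr (Finset.mem_univ _)
      _ = ((C ×ˢ C).filter (fun z => z.1 * z.2 = 1)).card +
            ∑ y ∈ (Finset.univ : Finset G).erase 1, ((C ×ˢ C).filter (fun z => z.1 * z.2 = y)).card :=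
          (Finset.add_sum_erase _ _ (Finset.mem_univ _)).symm
      _ ≤ m + ∑ y ∈ (Finset.univ : Finset G).erase 1, M :=
          add_le_add hone (Finset.sum_le_sum fun y hy => (hfib y hy).trans (hmax y hy))
      _ ≤ m + Nat.card G * M := by
          rw [Finset.sum_const, smul_eq_mul, Nat.card_eq_fintype_card, ← Finset.card_univ]
          gcongr
          exact Finset.erase_subset _ _
  have hm0 : 0 < m := Finset.card_pos.mpr ⟨t, Finset.mem_filter.mpr ⟨Finset.mem_univ _, IsConj.refl t⟩⟩
  have hmle : m ≤ 1 + n * M := by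
    rw [← hcard] at hsum
    have : m * m ≤ m * (1 + n * M) := by nlinarith
    exact Nat.le_of_mul_le_mul_left this hm0
  set H := Subgroup.centralizer ({x} : Set G) with hH
  have hHtop : H ≠ ⊤ := by
    intro hHt
    apply htop
    have hxc : x ∈ Subgroup.center G := Subgroup.mem_center_iff.mpr fun g => by
      have : g ∈ H := by rw [hHt]; trivial
      exact (Subgroup.mem_centralizer_singleton_iff.mp this)
    have hct : Subgroup.center G = ⊤ := (Subgroup.Normal.eq_bot_or_eq_top inferInstance).resolve_left fun h => by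
      rw [h, Subgroup.mem_bot] at hxc
      exact (Finset.mem_erase.mp hx).1 hxc
    refine eq_top_iff.mpr fun g _ => Subgroup.mem_centralizer_singleton_iff.mpr ?_
    exact (Subgroup.mem_center_iff.mp (hct ▸ Subgroup.mem_top t : t ∈ Subgroup.center G) g)
  have hidx : H.index ≤ 2 * n ^ 2 := by
    have h2 : H.index * M ≤ (2 * n ^ 2) * M := by
      rw [hM, Subgroup.index_mul_card, ← hcard, ← hM]
      have : m ≤ 2 * (n * M) := by nlinarith
      calc m * n ≤ 2 * (n * M) * n := Nat.mul_le_mul_right _ this
        _ = 2 * n ^ 2 * M := by ring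
    exact Nat.le_of_mul_le_mul_right h2 hM0
  have hinj : Function.Injective (MulAction.toPermHom G (G ⧸ H)) := by
    rw [← MonoidHom.ker_eq_bot_iff]
    refine (Subgroup.Normal.eq_bot_or_eq_top inferInstance).resolve_right fun h => hHtop ?_
    refine eq_top_iff.mpr (h ▸ ?_)
    rw [← Subgroup.normalCore_eq_ker]
    exact Subgroup.normalCore_le H
  calc Nat.card G ≤ Nat.card (Equiv.Perm (G ⧸ H)) := Nat.card_le_card_of_injective _ hinj
    _ = Nat.factorial H.index := Nat.card_perm
    _ ≤ _ := Nat.factorial_le hidx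
end Cfsg.Agent.S0212
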