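import Cfsg.Statements.S0214
import Cfsg.Agent.Lib.Invol.StronglyEmbedded
import Cfsg.Agent.Lib.Strong.Conj

set_option autoImplicit false
open Cfsg

namespace Cfsg.Agent.S0214

/-- Let H be a proper subgroup of the finite group G and P a nontrivial Sylow 2-subgroup of H. Then H is strongly embedded in G if and only if N_G(X) ≤ H for every nontrivial subgroup X of P. -/
theorem result {G : Type*} [Group G] [Finite G] (H : Subgroup G) (hH : H ≠ ⊤) (P : Sylow 2 ↥H) (hP : (P : Subgroup ↥H) ≠ ⊥) : Cfsg.IsStronglyEmbedded H ↔ (∀ X : Subgroup ↥H, X ≤ (P : Subgroup ↥H) → X ≠ ⊥ → Subgroup.normalizer ((X.map H.subtype : Subgroup G) : Set G) ≤ H) := by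
  have : Fact (Nat.Prime 2) := ⟨Nat.prime_two⟩
  have heven : Even (Nat.card H) := by
    haveI : Nontrivial (P : Subgroup ↥H) := (Subgroup.nontrivial_iff_ne_bot _).2 hP
    obtain ⟨k, hk, hk'⟩ := P.2.nontrivial_iff_card.1 inferInstance
    exact even_iff_two_dvd.mpr ((hk' ▸ dvd_pow_self 2 hk.ne' : 2 ∣ _).trans (Subgroup.card_subgroup_dvd_card _))
  constructor
  · intro h X hX hX1
    refine (CfsgLib.Strong.forall_not_dvd_iff (p := 2)).mp
      (fun g hg hd => Nat.not_even_iff_odd.mpr (h.2.2 g hg) (even_iff_two_dvd.mpr hd)) _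
      ((P.2.to_le hX).map _) (Subgroup.map_subtype_le _) ?_
    rwa [Ne, Subgroup.map_eq_bot_iff_of_injective _ H.subtype_injective]
  · intro h
    refine ⟨hH, heven, fun g hg => Nat.not_even_iff_odd.mp fun he => ?_⟩
    refine (CfsgLib.Strong.forall_not_dvd_iff (p := 2)).mpr ?_ g hg (even_iff_two_dvd.mp he)
    intro Q hQ hQH hne n hn
    obtain ⟨P', hP'⟩ := (hQ.of_equiv (Subgroup.subgroupOfEquivOfLe hQH).symm).exists_le_sylow
    obtain ⟨k, hk⟩ := MulAction.exists_smul_eq H P' P
    set X := (Q.subgroupOf H).map (MulAut.conj k).toMonoidHom with hX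
    have hXP : X ≤ (P : Subgroup ↥H) := by
      rw [← hk]
      exact Subgroup.map_mono hP'
    have hX1 : X ≠ ⊥ := by
      rw [hX, Ne, Subgroup.map_eq_bot_iff_of_injective _ (MulAut.conj k).injective,
        Subgroup.subgroupOf_eq_bot]
      exact fun hd => hne (disjoint_self.mp (hd.mono_right hQH))
    have hmem := h X hXP hX1
    have hXG : X.map H.subtype = Q.map (MulAut.conj (k : G)).toMonoidHom := by
      rw [hX, Subgroup.map_map, show H.subtype.comp (MulAut.conj k).toMonoidHom =
        ((MulAut.conj (k : G)).toMonoidHom).comp H.subtype from rfl, ← Subgroup.map_map,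
        Subgroup.map_subgroupOf_eq_of_le hQH]
    rw [hXG] at hmem
    have hkn : (k : G) * n * (k : G)⁻¹ ∈ H := by
      refine hmem ?_
      exact Subgroup.le_normalizer_map (MulAut.conj (k : G)).toMonoidHom ⟨n, hn, rfl⟩
    simpa [mul_assoc] using mul_mem (mul_mem (inv_mem k.2) hkn) k.2
end Cfsg.Agent.S0214
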