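import Cfsg.Statements.S0216
import Mathlib
import Cfsg.Agent.Lib.Invol.Dihedral

set_option autoImplicit false
open Cfsg

namespace Cfsg.Agent.S0216

/-- For an involution u in a Sylow 2-subgroup P of a finite group G, the following are equivalent: no G-conjugate of u other than u lies in P; every commutator of u with an element of G has odd order. -/
theorem result {G : Type*} [Group G] [Finite G] (P : Sylow 2 G) (u : G) (hu : orderOf u = 2) (huP : u ∈ P) : (∀ g : G, g * u * g⁻¹ ∈ P → g * u * g⁻¹ = u) ↔ (∀ g : G, Odd (orderOf (u * g * u⁻¹ * g⁻¹))) := by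
  open CfsgLib.Invol in
  constructor
  · intro hiso g
    have hz := isolated_of_sylow P hu huP hiso
    rw [show u * g * u⁻¹ * g⁻¹ = u * (g * u * g⁻¹) by rw [inv_of_orderOf_two hu]; group]
    exact isolated_odd hz (IsConj.refl u) (isConj_iff.mpr ⟨g, rfl⟩)
  · intro hodd g hg
    have h1 : u * g * u⁻¹ * g⁻¹ = u * (g * u * g⁻¹) := by rw [CfsgLib.Invol.inv_of_orderOf_two hu]; group
    obtain ⟨k, hk⟩ := IsPGroup.iff_orderOf.mp P.isPGroup' ⟨u * (g * u * g⁻¹), mul_mem huP hg⟩
    rw [← Subgroup.orderOf_coe] at hk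
    have := hodd g
    rw [h1] at this
    simp only at hk
    rw [hk] at this
    have hk0 : k = 0 := by
      by_contra h
      exact Nat.not_even_iff_odd.mpr this (Even.pow_of_ne_zero (by decide) h)
    rw [hk0, pow_zero, orderOf_eq_one_iff, mul_eq_one_iff_eq_inv] at hk
    calc g * u * g⁻¹ = (g * u * g⁻¹)⁻¹ := (CfsgLib.Invol.inv_of_orderOf_two (CfsgLib.Invol.conj_orderOf_two hu g)).symm
      _ = u := hk.symm

end Cfsg.Agent.S0216
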