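import Cfsg.Statements.S0218
import Cfsg.Agent.S0201

set_option autoImplicit false
open Cfsg

namespace Cfsg.Agent.S0218

/-- The generalized quaternion group of order 2^(n+3) contains exactly one element of order 2. -/
theorem result (n : ℕ) : Nat.card {x : QuaternionGroup (2 ^ (n + 1)) // orderOf x = 2} = 1 := by
  have : NeZero (2 ^ (n + 1)) := ⟨by positivity⟩
  have h : orderOf (QuaternionGroup.a ((2 ^ (n + 1) : ℕ) : ZMod (2 * 2 ^ (n + 1))) :
      QuaternionGroup (2 ^ (n + 1))) = 2 := by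
    have hpos := Nat.two_pow_pos (n + 1)
    rw [QuaternionGroup.orderOf_a, ZMod.val_natCast_of_lt (by omega),
      Nat.gcd_eq_right ⟨2, by ring⟩, Nat.mul_div_cancel _ hpos]
  rw [Nat.card_eq_one_iff_unique]
  exact ⟨⟨fun x y => Subtype.ext ((Cfsg.Agent.S0201.quaternion_involution x.1 x.2).trans
    (Cfsg.Agent.S0201.quaternion_involution y.1 y.2).symm)⟩, ⟨⟨_, h⟩⟩⟩
end Cfsg.Agent.S0218
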