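import Cfsg.Statements.S0221
import Cfsg.Agent.Lib.PGroup.NormalFour
import Cfsg.Agent.Lib.Transfer.Thompson

set_option autoImplicit false
open Cfsg

namespace Cfsg.Agent.S0221

theorem eight_of_four {G : Type*} [Group G] [Finite G] (U : Subgroup G) (hc : ∀ a ∈ U, ∀ b ∈ U, Commute a b)
    (h2 : ∀ a ∈ U, a * a = 1) (h4 : Nat.card U = 4) {e : G} (he : e * e = 1) (heU : e ∉ U)
    (hec : ∀ a ∈ U, Commute e a) :
    ∃ F : Subgroup G, Nat.card F = 8 ∧ (∀ f ∈ F, f ^ 2 = 1) ∧ (∀ a ∈ F, ∀ b ∈ F, Commute a b) ∧ U ≤ F ∧ e ∈ F := by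
  classical
  have hee : ∀ a : G, e * (e * a) = a := fun a => by rw [← mul_assoc, he, one_mul]
  have hsq : ∀ g, g ∈ U ∨ e * g ∈ U → g * g = 1 := by
    rintro g (h | h)
    · exact h2 g h
    · have hg : Commute e g := by
        have h' : Commute e (e * (e * g)) := (Commute.refl e).mul_right (hec _ h)
        rwa [hee] at h'
      have hgg : e * g * (e * g) = g * g := by
        calc e * g * (e * g) = g * e * (e * g) := by rw [hg.eq]
          _ = g * g := by rw [mul_assoc, hee]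
      rw [← hgg]
      exact h2 _ h
  have hcc : ∀ g, g ∈ U ∨ e * g ∈ U → ∀ a ∈ U, Commute g a := by
    rintro g (h | h) a ha
    · exact hc g h a ha
    · rw [← hee g]; exact (hec a ha).mul_left (hc _ h a ha)
  have hce : ∀ g, g ∈ U ∨ e * g ∈ U → Commute e g := by
    rintro g (h | h)
    · exact hec g h
    · rw [← hee g]; exact (Commute.refl e).mul_right (hec _ h)
  let F : Subgroup G :=
    { carrier := {g | g ∈ U ∨ e * g ∈ U}
      one_mem' := Or.inl (one_mem U)
      mul_mem' := by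
        rintro a b (ha | ha) (hb | hb)
        · exact Or.inl (mul_mem ha hb)
        · refine Or.inr ?_
          rw [← mul_assoc, (hce a (Or.inl ha)).eq, mul_assoc]
          exact mul_mem ha hb
        · exact Or.inr (by rw [← mul_assoc]; exact mul_mem ha hb)
        · refine Or.inl ?_
          have : a * b = (e * a) * (e * b) := by
            rw [mul_assoc e a, ← mul_assoc a e, ← (hce a (Or.inr ha)).eq, mul_assoc e a, hee]
          rw [this]; exact mul_mem ha hb
      inv_mem' := fun {a} ha => by rw [inv_eq_of_mul_eq_one_right (hsq a ha)]; exact ha }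
  have hcard : Nat.card F = 8 := by
    have hd : Disjoint (U : Set G) ((e * ·) '' (U : Set G)) := by
      rw [Set.disjoint_left]
      rintro _ ha ⟨b, hb, rfl⟩
      exact heU (by simpa [mul_assoc] using mul_mem ha (inv_mem hb))
    have hs : (F : Set G) = (U : Set G) ∪ (e * ·) '' (U : Set G) := by
      ext g
      refine or_congr Iff.rfl ⟨fun h => ⟨e * g, h, hee g⟩, ?_⟩
      rintro ⟨b, hb, rfl⟩
      rw [hee]; exact hb
    have : (F : Set G).ncard = 8 := by
      rw [hs, Set.ncard_union_eq hd, Set.ncard_image_of_injective _ (mul_right_injective e),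
        ← Nat.card_coe_set_eq]
      change Nat.card U + Nat.card U = 8
      omega
    rwa [← Nat.card_coe_set_eq] at this
  refine ⟨F, hcard, fun f hf => by rw [pow_two]; exact hsq f hf, fun a ha b hb => ?_,
    fun a ha => Or.inl ha, Or.inr (by rw [he]; exact one_mem U)⟩
  rcases hb with hb | hb
  · exact hcc a ha b hb
  · rw [← hee b]; exact (hce a ha).symm.mul_right (hcc a ha _ hb)

/-- Let G be a finite group with no subgroup of index 2 whose 2-rank is at least 3 (it contains an elementary abelian subgroup of order 8). Then the centralizer of every involution of G also contains an elementary abelian subgroup of order 8. -/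
theorem result {G : Type*} [Group G] [Finite G] (hno : ∀ H : Subgroup G, H.index ≠ 2) (hrank : ∃ E : Subgroup G, Nat.card E = 8 ∧ ∀ e ∈ E, e ^ 2 = 1) (x : G) (hx : orderOf x = 2) : ∃ E : Subgroup G, E ≤ Subgroup.centralizer ({x} : Set G) ∧ Nat.card E = 8 ∧ ∀ e ∈ E, e ^ 2 = 1 := by
  classical
  haveI : Fact (Nat.Prime 2) := ⟨Nat.prime_two⟩
  obtain ⟨E, hE8, hE2⟩ := hrank
  have hEc : ∀ a ∈ E, ∀ b ∈ E, Commute a b := by
    intro a ha b hb
    have h1 := hE2 a ha; have h2 := hE2 b hb; have h3 := hE2 _ (mul_mem ha hb)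
    rw [pow_two] at h1 h2 h3
    have := inv_eq_of_mul_eq_one_right h3
    rw [mul_inv_rev, inv_eq_of_mul_eq_one_right h1, inv_eq_of_mul_eq_one_right h2] at this
    exact this.symm
  obtain ⟨S, hES⟩ := (IsPGroup.of_card (p := 2) (n := 3) (by rw [hE8]; norm_num) : IsPGroup 2 E).exists_le_sylow
  obtain ⟨U', hU'n, hU'e, hU'4⟩ := CfsgLib.NormalFour.exists_normal_four (P := (S : Subgroup G)) S.2
    (E := E.subgroupOf (S : Subgroup G))
    ⟨⟨⟨fun u v => Subtype.ext (Subtype.ext (hEc _ u.2 _ v.2).eq)⟩⟩, fun u hu => Subtype.ext (hE2 _ hu)⟩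
    (by rw [Nat.card_congr (Subgroup.subgroupOfEquivOfLe hES).toEquiv, hE8]; norm_num)
  set U := U'.map (S : Subgroup G).subtype with hUdef
  have hU4 : Nat.card U = 4 := by
    rw [hUdef, Subgroup.card_map_of_injective (Subgroup.subtype_injective _), hU'4]; norm_num
  have hU2 : ∀ a ∈ U, a * a = 1 := by
    rintro _ ⟨a, ha, rfl⟩
    rw [← map_mul, ← pow_two, hU'e.2 a ha, map_one]
  have hUc : ∀ a ∈ U, ∀ b ∈ U, Commute a b := by
    rintro _ ⟨a, ha, rfl⟩ _ ⟨b, hb, rfl⟩
    haveI := hU'e.1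
    exact congrArg (fun w : U' => ((w : (S : Subgroup G)) : G)) (mul_comm' (⟨a, ha⟩ : U') ⟨b, hb⟩)
  have hUS : U ≤ (S : Subgroup G) := Subgroup.map_subtype_le _
  have hUn : ∀ s ∈ (S : Subgroup G), ∀ a ∈ U, s * a * s⁻¹ ∈ U := by
    rintro s hs _ ⟨a, ha, rfl⟩
    exact ⟨⟨s, hs⟩ * a * ⟨s, hs⟩⁻¹, hU'n.conj_mem a ha _, rfl⟩
  -- a central involution in `U`
  have hne : U' ≠ ⊥ := fun h => by rw [h, Subgroup.card_bot] at hU'4; norm_num at hU'4
  haveI := hU'n
  haveI : Group.IsNilpotent (S : Subgroup G) := S.2.isNilpotent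
  obtain ⟨z', hz', hz'1⟩ := (Subgroup.bot_or_exists_ne_one _).resolve_left (CfsgLib.Critical.inf_center_ne_bot U' hne)
  set z : G := (z' : G) with hz
  have hzU : z ∈ U := ⟨z', hz'.1, rfl⟩
  have hz1 : z ≠ 1 := fun h => hz'1 (Subtype.ext h)
  have hzS : ∀ s ∈ (S : Subgroup G), s * z * s⁻¹ = z := fun s hs => by
    have := congrArg Subtype.val (Subgroup.mem_center_iff.mp hz'.2 ⟨s, hs⟩)
    rw [mul_inv_eq_iff_eq_mul]; exact this
  obtain ⟨v, hvU, hv1, hvz⟩ : ∃ v ∈ U, v ≠ 1 ∧ v ≠ z := by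
    by_contra hcon
    push Not at hcon
    have : (U : Set G) ⊆ {1, z} := fun a ha => by
      by_cases h : a = 1
      · exact Or.inl h
      · exact Or.inr (hcon a ha h)
    have h1 := (Set.ncard_le_ncard this).trans (Set.ncard_pair (Ne.symm hz1)).le
    rw [← Nat.card_coe_set_eq] at h1
    change Nat.card U ≤ 2 at h1
    omega
  have hUeq : ∀ a ∈ U, a = 1 ∨ a = z ∨ a = v ∨ a = z * v := by
    intro a ha
    have hsub : ({1, z, v, z * v} : Set G) ⊆ (U : Set G) := by
      rintro w (rfl | rfl | rfl | rfl)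
      exacts [one_mem U, hzU, hvU, mul_mem hzU hvU]
    have hzv1 : z * v ≠ 1 := fun h => hvz (by
      rw [← inv_eq_of_mul_eq_one_right h, inv_eq_of_mul_eq_one_right (hU2 z hzU)])
    have h4 : ({1, z, v, z * v} : Set G).ncard = 4 := by
      rw [Set.ncard_insert_of_notMem (by simp [Ne.symm hz1, Ne.symm hv1, Ne.symm hzv1]),
        Set.ncard_insert_of_notMem (by simp [Ne.symm hvz, hv1]),
        Set.ncard_pair (by simp [hz1])]
    have := Set.eq_of_subset_of_ncard_le hsub (by rw [h4, ← Nat.card_coe_set_eq]; exact hU4.le)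
    have ha' : a ∈ ({1, z, v, z * v} : Set G) := this ▸ ha
    simpa using ha'
  set Q : Subgroup G := (S : Subgroup G) ⊓ Subgroup.centralizer ({v} : Set G) with hQ
  have hQU : ∀ q ∈ Q, ∀ a ∈ U, Commute q a := by
    intro q hq a ha
    have hqv : Commute q v := Subgroup.mem_centralizer_singleton_iff.mp (Subgroup.mem_inf.mp hq).2
    have hqz : Commute q z := mul_inv_eq_iff_eq_mul.mp (hzS q (Subgroup.mem_inf.mp hq).1)
    rcases hUeq a ha with rfl | rfl | rfl | rfl
    exacts [Commute.one_right q, hqz, hqv, hqz.mul_right hqv]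
  have hQm : ∀ s ∈ (S : Subgroup G), s ∈ Q ∨ s * v * s⁻¹ = z * v := by
    intro s hs
    rcases hUeq _ (hUn s hs v hvU) with h | h | h | h
    · exact absurd (by simpa using h) hv1
    · refine absurd ?_ hvz
      have h' : s * v * s⁻¹ = s * z * s⁻¹ := h.trans (hzS s hs).symm
      simpa using h'
    · exact Or.inl (Subgroup.mem_inf.mpr ⟨hs, Subgroup.mem_centralizer_singleton_iff.mpr (mul_inv_eq_iff_eq_mul.mp h)⟩)
    · exact Or.inr h
  have hQmul : ∀ a ∈ (S : Subgroup G), ∀ b ∈ (S : Subgroup G), a ∉ Q → b ∉ Q → b * a ∈ Q := by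
    intro a ha b hb haQ hbQ
    refine Subgroup.mem_inf.mpr ⟨mul_mem hb ha, Subgroup.mem_centralizer_singleton_iff.mpr (mul_inv_eq_iff_eq_mul.mp ?_)⟩
    calc b * a * v * (b * a)⁻¹ = b * (a * v * a⁻¹) * b⁻¹ := by group
      _ = b * z * b⁻¹ * (b * v * b⁻¹) := by rw [(hQm a ha).resolve_left haQ]; group
      _ = z * (z * v) := by rw [hzS b hb, (hQm b hb).resolve_left hbQ]
      _ = v := by rw [← mul_assoc, hU2 z hzU, one_mul]
  -- an elementary abelian group of order eight over `U`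
  obtain ⟨e, heE, heQ, heU⟩ : ∃ e ∈ E, e ∈ Q ∧ e ∉ U := by
    by_contra hcon
    push Not at hcon
    by_cases hall : ∀ e ∈ E, e ∈ Q
    · have : E ≤ U := fun e he => hcon e he (hall e he)
      have := Subgroup.card_le_of_le this
      omega
    push Not at hall
    obtain ⟨a, haE, haQ⟩ := hall
    have hsub : (E : Set G) ⊆ ((E ⊓ Q : Subgroup G) : Set G) ∪ (fun y => y * a) '' ((E ⊓ Q : Subgroup G) : Set G) := by
      intro b hb
      by_cases hbQ : b ∈ Q
      · exact Or.inl (Subgroup.mem_inf.mpr ⟨hb, hbQ⟩)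
      · refine Or.inr ⟨b * a, Subgroup.mem_inf.mpr ⟨mul_mem hb haE, hQmul a (hES haE) b (hES hb) haQ hbQ⟩, ?_⟩
        show b * a * a = b
        rw [mul_assoc, ← pow_two, hE2 a haE, mul_one]
    have h1 := (Set.ncard_le_ncard hsub).trans (Set.ncard_union_le _ _)
    rw [Set.ncard_image_of_injective _ (mul_left_injective a), ← Nat.card_coe_set_eq, ← Nat.card_coe_set_eq] at h1
    change Nat.card E ≤ Nat.card (E ⊓ Q : Subgroup G) + Nat.card (E ⊓ Q : Subgroup G) at h1
    have hle : E ⊓ Q ≤ U := fun e he => hcon e (Subgroup.mem_inf.mp he).1 (Subgroup.mem_inf.mp he).2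
    have heq : E ⊓ Q = U := Subgroup.eq_of_le_of_card_ge hle (by omega)
    have hvE : v ∈ E := (Subgroup.mem_inf.mp ((SetLike.ext_iff.mp heq v).mpr hvU)).1
    exact haQ (Subgroup.mem_inf.mpr ⟨hES haE, Subgroup.mem_centralizer_singleton_iff.mpr (hEc a haE v hvE).eq⟩)
  -- move `x` into `Q`
  obtain ⟨g, hgQ⟩ : ∃ g : G, g * x * g⁻¹ ∈ Q := by
    obtain ⟨T, hT⟩ := (IsPGroup.of_card (p := 2) (n := 1) (by rw [Nat.card_zpowers, hx, pow_one]) :
      IsPGroup 2 (Subgroup.zpowers x)).exists_le_sylow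
    obtain ⟨c, hc⟩ := MulAction.exists_smul_eq G T S
    have hcS : c * x * c⁻¹ ∈ (S : Subgroup G) := by
      rw [← hc]
      exact Subgroup.smul_mem_pointwise_smul _ (MulAut.conj c) _ (hT (Subgroup.mem_zpowers x))
    by_cases hcQ : c * x * c⁻¹ ∈ Q
    · exact ⟨c, hcQ⟩
    have hidx : Q.relIndex (S : Subgroup G) = 2 := by
      rw [Subgroup.relIndex, Subgroup.index_eq_two_iff]
      refine ⟨⟨_, hcS⟩, fun b => ?_⟩
      simp only [Subgroup.mem_subgroupOf, Subgroup.coe_mul]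
      by_cases hb : (b : G) ∈ Q
      · exact Or.inr ⟨hb, fun h => hcQ (by simpa using mul_mem (inv_mem hb) h)⟩
      · exact Or.inl ⟨hQmul _ hcS _ b.2 hcQ hb, hb⟩
    have hsq : (c * x * c⁻¹) * (c * x * c⁻¹) = 1 := by
      calc (c * x * c⁻¹) * (c * x * c⁻¹) = c * (x * x) * c⁻¹ := by group
        _ = 1 := by rw [CfsgLib.Transfer.sq_eq_one_of_orderOf_eq_two hx]; group
    rcases CfsgLib.Transfer.thompson_transfer S hidx hsq hcS hcQ with ⟨M, -, hM, -⟩ | ⟨d, -, hd⟩
    · exact absurd hM (hno M)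
    · exact ⟨d * c, by simpa [mul_assoc] using hd⟩
  set w := g * x * g⁻¹ with hw
  have hw2 : w * w = 1 := by
    calc w * w = g * (x * x) * g⁻¹ := by rw [hw]; group
      _ = 1 := by rw [CfsgLib.Transfer.sq_eq_one_of_orderOf_eq_two hx]; group
  obtain ⟨F, hF8, hF2, hFc, hwF⟩ : ∃ F : Subgroup G, Nat.card F = 8 ∧ (∀ f ∈ F, f ^ 2 = 1) ∧
      (∀ a ∈ F, ∀ b ∈ F, Commute a b) ∧ w ∈ F := by
    by_cases hwU : w ∈ U
    · obtain ⟨F, h1, h2, h3, h4, -⟩ := eight_of_four U hUc hU2 hU4 (by rw [← pow_two]; exact hE2 e heE) heU (hQU e heQ)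
      exact ⟨F, h1, h2, h3, h4 hwU⟩
    · obtain ⟨F, h1, h2, h3, -, h5⟩ := eight_of_four U hUc hU2 hU4 hw2 hwU (hQU w hgQ)
      exact ⟨F, h1, h2, h3, h5⟩
  refine ⟨F.map (MulAut.conj g⁻¹).toMonoidHom, ?_, ?_, ?_⟩
  · rintro _ ⟨f, hf, rfl⟩
    rw [Subgroup.mem_centralizer_singleton_iff]
    have hxe : x = MulAut.conj g⁻¹ w := by rw [hw]; simp [mul_assoc]
    rw [hxe]
    exact ((hFc f hf w hwF).map (MulAut.conj g⁻¹)).eq
  · rw [Subgroup.card_map_of_injective (MulAut.conj g⁻¹).injective, hF8]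
  · rintro _ ⟨f, hf, rfl⟩
    rw [← map_pow, hF2 f hf, map_one]
end Cfsg.Agent.S0221
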