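import Cfsg.Statements.S0224
import Cfsg.Agent.Lib.Invol.StronglyEmbedded

set_option autoImplicit false
open Cfsg

namespace Cfsg.Agent.S0224

/-- Let H be a proper subgroup of even order of the finite group G. Then H is strongly embedded if and only if each involution of H fixes exactly one point (namely the coset H) in the action of G on the cosets of H. -/
theorem result {G : Type*} [Group G] [Finite G] (H : Subgroup G) (hH : H ≠ ⊤) (heven : Even (Nat.card H)) : Cfsg.IsStronglyEmbedded H ↔ ∀ t ∈ H, orderOf t = 2 → Nat.card {c : G ⧸ H // t • c = c} = 1 := by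
  have hfix : ∀ (t g : G), t • (QuotientGroup.mk g : G ⧸ H) = QuotientGroup.mk g ↔ g⁻¹ * t * g ∈ H := by
    intro t g
    show (QuotientGroup.mk (t * g) : G ⧸ H) = QuotientGroup.mk g ↔ _
    rw [QuotientGroup.eq, ← inv_mem_iff (x := (t * g)⁻¹ * g), mul_inv_rev, inv_inv, ← mul_assoc]
  constructor
  · intro h t ht ht2
    refine Nat.card_eq_one_iff_exists.mpr ⟨⟨QuotientGroup.mk (1 : G), (hfix t 1).mpr (by simpa using ht)⟩, fun c => ?_⟩
    obtain ⟨c, hc⟩ := c
    obtain ⟨g, rfl⟩ := QuotientGroup.mk_surjective c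
    refine Subtype.ext ((QuotientGroup.eq).mpr ?_)
    have := CfsgLib.Invol.strongly_mem_of_conj_mem h ht2 ht (g := g⁻¹) (by simpa using (hfix t g).mp hc)
    simpa using this
  · intro h
    refine ⟨hH, heven, fun g hg => ?_⟩
    by_contra hodd
    rw [Nat.not_odd_iff_even] at hodd
    have : Fact (Nat.Prime 2) := ⟨Nat.prime_two⟩
    obtain ⟨⟨y, hy, x, hx, hxy⟩, h2⟩ := exists_prime_orderOf_dvd_card' 2 (even_iff_two_dvd.mp hodd)
    rw [← Subgroup.orderOf_coe] at h2
    have hxy' : g * x * g⁻¹ = y := hxy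
    obtain ⟨hs, -⟩ := Nat.card_eq_one_iff_unique.mp (h y hy h2)
    have he := Subtype.ext_iff.mp (hs.elim
      ⟨QuotientGroup.mk g, (hfix y g).mpr (by rw [← hxy', show g⁻¹ * (g * x * g⁻¹) * g = x by group]; exact hx)⟩
      ⟨QuotientGroup.mk (1 : G), (hfix y 1).mpr (by simpa using hy)⟩)
    have he' : g⁻¹ * 1 ∈ H := (QuotientGroup.eq).mp he
    exact hg (by simpa using he')
end Cfsg.Agent.S0224
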