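import Cfsg.Statements.S0225
import Cfsg.Agent.Lib.ZStar.Main

set_option autoImplicit false
open Cfsg

namespace Cfsg.Agent.S0225

/-- If a finite group G has even order but contains no Klein four-subgroup (2-rank 1), then some involution z of G is central modulo a normal subgroup of odd order: there is a normal subgroup N of odd order containing every commutator z g z⁻¹ g⁻¹. -/
theorem result {G : Type*} [Group G] [Finite G] (heven : Even (Nat.card G)) (hrank : ∀ E : Subgroup G, ¬ IsKleinFour E) : ∃ z : G, orderOf z = 2 ∧ ∃ N : Subgroup G, N.Normal ∧ Odd (Nat.card N) ∧ ∀ g : G, z * g * z⁻¹ * g⁻¹ ∈ N := by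
  obtain ⟨z, hz⟩ := exists_prime_orderOf_dvd_card' 2 (even_iff_two_dvd.mp heven)
  have hiso : Cfsg.IsIsolatedInvolution z := by
    refine ⟨hz, fun g hc => ?_⟩
    by_contra hne
    set v := g * z * g⁻¹
    have hv : orderOf v = 2 := (CfsgLib.Transfer.orderOf_conj g z).trans hz
    have hzz := CfsgLib.Invol.mul_self_of_orderOf_two hz
    have hvv := CfsgLib.Invol.mul_self_of_orderOf_two hv
    have hzv : z * v * (z * v) = 1 := by rw [hc.symm.mul_mul_mul_comm, hzz, hvv, one_mul]
    let E : Subgroup G :=
      { carrier := {x | x = 1 ∨ x = z ∨ x = v ∨ x = z * v}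
        one_mem' := Or.inl rfl
        mul_mem' := by
          have e1 : ∀ y, z * (z * y) = y := fun y => by rw [← mul_assoc, hzz, one_mul]
          have e2 : ∀ y, v * (v * y) = y := fun y => by rw [← mul_assoc, hvv, one_mul]
          have e3 : v * z = z * v := hc.eq.symm
          rintro a b (rfl | rfl | rfl | rfl) (rfl | rfl | rfl | rfl) <;>
            simp [mul_assoc, hzz, hvv, e1, e2, e3]
          all_goals (first
            | (left; rw [← mul_assoc]; exact hzv)
            | (right; left; rw [← mul_assoc, e3, mul_assoc, hvv, mul_one])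
            | (right; right; left; rw [← mul_assoc, e3, mul_assoc, hvv, mul_one]))
        inv_mem' := by
          rintro a (rfl | rfl | rfl | rfl)
          · left; simp
          · right; left; exact inv_eq_of_mul_eq_one_right hzz
          · right; right; left; exact inv_eq_of_mul_eq_one_right hvv
          · right; right; right; exact inv_eq_of_mul_eq_one_right hzv }
    apply hrank E
    have hz1 : z ≠ 1 := CfsgLib.Invol.ne_one_of_orderOf_two hz
    have hv1 : v ≠ 1 := CfsgLib.Invol.ne_one_of_orderOf_two hv
    have hzv1 : z * v ≠ 1 := fun h => hne (by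
      rw [mul_eq_one_iff_inv_eq, CfsgLib.Invol.inv_of_orderOf_two hz] at h; exact h.symm)
    have hcard : Nat.card E = 4 := by
      classical
      have hd : (⟨z, Or.inr (Or.inl rfl)⟩ : E) ≠ ⟨v, Or.inr (Or.inr (Or.inl rfl))⟩ :=
        fun h => hne (congrArg Subtype.val h).symm
      have : ((E : Set G)) = ↑({1, z, v, z * v} : Finset G) := by
        ext x
        simp [E]
      rw [← SetLike.coe_sort_coe, this, Nat.card_coe_set_eq, Set.ncard_coe_finset]
      rw [Finset.card_insert_of_notMem, Finset.card_insert_of_notMem, Finset.card_insert_of_notMem,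
        Finset.card_singleton]
      · simp only [Finset.mem_singleton]
        exact fun h => hz1 (mul_eq_right.mp h.symm)
      · simp only [Finset.mem_insert, Finset.mem_singleton, not_or]
        exact ⟨fun h => hne h.symm, fun h => hv1 (mul_eq_left.mp h.symm)⟩
      · simp only [Finset.mem_insert, Finset.mem_singleton, not_or]
        exact ⟨Ne.symm hz1, Ne.symm hv1, Ne.symm hzv1⟩
    refine { card_four := hcard, exponent_two := ?_ }
    have hdvd : Monoid.exponent E ∣ 2 := Monoid.exponent_dvd_of_forall_pow_eq_one fun ⟨x, hx⟩ => by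
      refine Subtype.ext ?_
      show x ^ 2 = 1
      rw [pow_two]
      rcases hx with rfl | rfl | rfl | rfl
      · simp
      · exact hzz
      · exact hvv
      · exact hzv
    rcases (Nat.dvd_prime Nat.prime_two).mp hdvd with h | h
    · haveI := Monoid.exp_eq_one_iff.mp h
      exact absurd (congrArg Subtype.val (Subsingleton.elim (⟨z, Or.inr (Or.inl rfl)⟩ : E) 1)) hz1
    · exact h
  exact ⟨z, hz, Cfsg.pPrimeCore 2 G, CfsgLib.Transfer.pPrimeCore_normal 2 G,
    CfsgLib.ZStar.odd_card_core, CfsgLib.ZStar.commutatorsInCore_of_isolated hiso⟩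
end Cfsg.Agent.S0225
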