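import Cfsg.Statements.S0228
import Mathlib
-- import your own Cfsg.Agent.* helpers here

set_option autoImplicit false
open Cfsg

namespace Cfsg.Agent.S0228

/-- A group of order 12 in which no involution is central is isomorphic to the alternating group on four letters. -/
theorem result {G : Type*} [Group G] [Finite G] (hG : Nat.card G = 12) (hz : ∀ z : G, orderOf z = 2 → z ∉ Subgroup.center G) : Nonempty (G ≃* alternatingGroup (Fin 4)) := by
  classical
  have : Fact (Nat.Prime 3) := ⟨by norm_num⟩
  have : Fact (Nat.Prime 2) := ⟨Nat.prime_two⟩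
  obtain ⟨P⟩ : Nonempty (Sylow 3 G) := inferInstance
  have h12 : (12 : ℕ).factorization 3 = 1 := by
    rw [show (12 : ℕ) = 3 * 4 by norm_num, Nat.factorization_mul (by norm_num) (by norm_num)]
    simp [Nat.prime_three.factorization_self, Nat.factorization_eq_zero_of_not_dvd]
  have hP : Nat.card (P : Subgroup G) = 3 := by rw [P.card_eq_multiplicity, hG, h12, pow_one]
  have hidx : (P : Subgroup G).index = 4 := by
    have := (P : Subgroup G).card_mul_index
    rw [hP, hG] at this; omega
  have hn : Nat.card (Sylow 3 G) = 1 ∨ Nat.card (Sylow 3 G) = 4 := by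
    have h1 := P.card_dvd_index
    rw [hidx] at h1
    have h2 := card_sylow_modEq_one 3 G
    have h3 := Nat.le_of_dvd (by norm_num) h1
    unfold Nat.ModEq at h2
    omega
  rcases hn with hn | hn
  · exfalso
    have hPn : (P : Subgroup G).Normal := by
      have : Subsingleton (Sylow 3 G) := (Nat.card_eq_one_iff_unique.mp hn).1
      exact P.normal_of_subsingleton
    obtain ⟨t, ht, htc⟩ : ∃ t : G, orderOf t = 2 ∧ ∀ a ∈ (P : Subgroup G), t * a = a * t := by
      
      let C : Subgroup G := Subgroup.centralizer ((P : Subgroup G) : Set G)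
      have h2 : 2 ∣ Nat.card C := by
        let ψ : G →* MulAut (P : Subgroup G) := MulAut.conjNormal
        obtain ⟨z, hz3⟩ := exists_prime_orderOf_dvd_card' (G := (P : Subgroup G)) 3 (by rw [hP])
        have : IsCyclic (P : Subgroup G) := isCyclic_of_prime_card hP
        have hr : Nat.card ψ.range ∣ 2 := by
          have h := ψ.range.card_subgroup_dvd_card
          rw [IsCyclic.card_mulAut, hP] at h
          simpa [Nat.totient_prime Nat.prime_three] using h
        have hk : ψ.ker ≤ C := fun g hg => Subgroup.mem_centralizer_iff.mpr fun a ha => by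
          have h := congrArg Subtype.val (DFunLike.congr_fun (MonoidHom.mem_ker.mp hg) (⟨a, ha⟩ : (P : Subgroup G)))
          simp [ψ, MulAut.conjNormal_apply] at h
          calc a * g = (g * a * g⁻¹) * g := by rw [h]
            _ = g * a := by group
        refine dvd_trans ?_ (Subgroup.card_dvd_of_le hk)
        have h := ψ.ker.card_mul_index
        rw [Subgroup.index_ker, hG] at h
        rcases (Nat.dvd_prime Nat.prime_two).mp hr with h' | h' <;> rw [h'] at h <;> omega
      obtain ⟨t, ht⟩ := exists_prime_orderOf_dvd_card' (G := C) 2 h2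
      exact ⟨t, by rw [Subgroup.orderOf_coe, ht], fun a ha => (Subgroup.mem_centralizer_iff.mp t.2 a ha).symm⟩
    obtain ⟨Q, hQ⟩ := (IsPGroup.of_card (p := 2) (n := 1) (by rw [Nat.card_zpowers, ht, pow_one]) :
      IsPGroup 2 (Subgroup.zpowers t)).exists_le_sylow
    have hQ4 : Nat.card (Q : Subgroup G) = 2 ^ 2 := by
      rw [Q.card_eq_multiplicity, hG]
      rw [show (12 : ℕ) = 3 * 2 ^ 2 by norm_num, Nat.factorization_mul (by norm_num) (by norm_num)]
      rw [Nat.prime_two.factorization_pow, Finsupp.add_apply,
        Nat.factorization_eq_zero_of_not_dvd (by norm_num : ¬ 2 ∣ 3), Finsupp.single_eq_same]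
    have hle : (P : Subgroup G) ⊔ Q ≤ Subgroup.centralizer {t} := sup_le
      (fun a ha => Subgroup.mem_centralizer_singleton_iff.mpr (htc a ha).symm)
      fun a ha => Subgroup.mem_centralizer_singleton_iff.mpr
        (congrArg Subtype.val ((IsPGroup.commGroupOfCardEqPrimeSq hQ4).mul_comm ⟨a, ha⟩ ⟨t, hQ (Subgroup.mem_zpowers t)⟩))
    have h := Nat.lcm_dvd (Subgroup.card_dvd_of_le (le_sup_left.trans hle))
      (Subgroup.card_dvd_of_le (le_sup_right.trans hle))
    rw [hP, hQ4, show Nat.lcm 3 (2 ^ 2) = Nat.card G by rw [hG]; decide] at h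
    have htop := Subgroup.eq_top_of_card_eq _ (le_antisymm (Subgroup.card_le_card_group _)
      (Nat.le_of_dvd Nat.card_pos h))
    exact hz t ht (Subgroup.mem_center_iff.mpr fun g =>
      Subgroup.mem_centralizer_singleton_iff.mp (htop ▸ Subgroup.mem_top g))
  · have e : Sylow 3 G ≃ Fin 4 := Finite.equivFinOfCardEq hn
    let φ : G →* Equiv.Perm (Fin 4) := e.permCongrHom.toMonoidHom.comp (MulAction.toPermHom G (Sylow 3 G))
    have hinj : Function.Injective φ := by
      refine (injective_iff_map_eq_one φ).mpr fun g hg => ?_
      have hfix : ∀ R : Sylow 3 G, g • R = R := fun R => by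
        have := Equiv.ext_iff.mp hg (e R)
        simpa [φ] using this
      have hmem : ∀ R : Sylow 3 G, g ∈ (R : Subgroup G) := fun R => by
        have hN : Subgroup.normalizer ((R : Subgroup G) : Set G) = (R : Subgroup G) := by
          refine (Subgroup.eq_of_le_of_card_ge Subgroup.le_normalizer ?_).symm
          have h := R.card_eq_index_normalizer
          rw [hn] at h
          have h2 := (Subgroup.normalizer ((R : Subgroup G) : Set G)).card_mul_index
          rw [← Sylow.coe_coe] at h
          simp only [Sylow.coe_coe] at h h2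
          erw [← h, hG] at h2
          rw [R.card_eq_multiplicity, hG, h12]; change Nat.card (Subgroup.normalizer ((R : Subgroup G) : Set G)) * 4 = 12 at h2; omega
        rw [← hN]; exact Sylow.smul_eq_iff_mem_normalizer.mp (hfix R)
      obtain ⟨R, hR⟩ : ∃ R : Sylow 3 G, R ≠ P := by
        by_contra! h
        have : Subsingleton (Sylow 3 G) := ⟨fun a b => (h a).trans (h b).symm⟩
        rw [Nat.card_unique] at hn; omega
      by_contra hg1
      refine hR (Sylow.ext ?_)
      have hz' : ∀ S : Sylow 3 G, Subgroup.zpowers g = (S : Subgroup G) := fun S => by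
        have hS : Nat.card (S : Subgroup G) = 3 := by rw [S.card_eq_multiplicity, hG, h12, pow_one]
        have hgo : orderOf g = 3 := by
          have h := Subgroup.orderOf_dvd_natCard _ (hmem S)
          rw [hS] at h
          exact (Nat.prime_three.eq_one_or_self_of_dvd _ h).resolve_left (by simpa using hg1)
        exact Subgroup.eq_of_le_of_card_ge (Subgroup.zpowers_le.mpr (hmem S))
          (by rw [hS, Nat.card_zpowers, hgo])
      rw [← hz' R, ← hz' P]
    have hr : φ.range = alternatingGroup (Fin 4) := by
      refine Equiv.Perm.eq_alternatingGroup_of_index_eq_two ?_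
      have h := φ.range.card_mul_index
      rw [← Nat.card_congr (MonoidHom.ofInjective hinj).toEquiv, hG, Nat.card_perm, Nat.card_fin] at h
      simp [Nat.factorial] at h; omega
    exact ⟨(MonoidHom.ofInjective hinj).trans (MulEquiv.subgroupCongr hr)⟩

end Cfsg.Agent.S0228
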