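import Cfsg.Statements.S0230
import Mathlib
import Cfsg.Agent.Lib.Invol.Dihedral

set_option autoImplicit false
open Cfsg

namespace Cfsg.Agent.S0230

/-- Let G be a finite group with two non-conjugate involutions, and let t be an involution whose centralizer has maximal order among centralizers of involutions. Then |G| < |C_G(t)|^3. -/
theorem result {G : Type*} [Group G] [Finite G] (s t : G) (hs : orderOf s = 2) (ht : orderOf t = 2) (hnc : ¬ IsConj s t) (hmax : ∀ u : G, orderOf u = 2 → Nat.card (Subgroup.centralizer ({u} : Set G)) ≤ Nat.card (Subgroup.centralizer ({t} : Set G))) : Nat.card G < Nat.card (Subgroup.centralizer ({t} : Set G)) ^ 3 := by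
  classical
  haveI := Fintype.ofFinite G
  set c := Nat.card (Subgroup.centralizer ({t} : Set G)) with hc
  have hcard := CfsgLib.Invol.card_isConj_mul_card_centralizer t
  have hpos : 0 < c := Nat.card_pos
  have hkey : Nat.card {v : G // IsConj t v} < c * c := by
    let W : Finset G := Finset.univ.filter (fun w => orderOf w = 2 ∧ Commute w s)
    have hW : W.card < c := by
      have hssub : W ⊂ Finset.univ.filter (fun w => Commute w s) := by
        refine Finset.ssubset_iff_of_subset (fun w hw => by simp [W] at hw ⊢; exact hw.2) |>.mpr ⟨1, by simp, by simp [W]⟩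
      refine lt_of_lt_of_le (Finset.card_lt_card hssub) ?_
      refine le_trans (le_of_eq ?_) (hmax s hs)
      rw [Nat.card_eq_fintype_card, ← Fintype.card_subtype]
      exact Fintype.card_congr (Equiv.subtypeEquivRight (fun w => Subgroup.mem_centralizer_singleton_iff.symm))
    have hsub : Finset.univ.filter (fun v => IsConj t v) ⊆ W.biUnion (fun w => Finset.univ.filter (fun v => Commute v w)) := by
      intro v hv
      simp only [Finset.mem_filter, Finset.mem_univ, true_and] at hv
      have hv2 : orderOf v = 2 := by
        obtain ⟨g, rfl⟩ := isConj_iff.mp hv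
        exact CfsgLib.Invol.conj_orderOf_two ht g
      obtain ⟨w, hw, hws, hwv⟩ := CfsgLib.Invol.exists_common_commuting_invol hs hv2
        (CfsgLib.Invol.even_of_not_isConj hs hv2 (fun h => hnc (h.trans hv.symm)))
      simp only [W, Finset.mem_biUnion, Finset.mem_filter, Finset.mem_univ, true_and]
      exact ⟨w, ⟨hw, hws⟩, hwv.symm⟩
    rw [Nat.card_eq_fintype_card, Fintype.card_subtype]
    calc _ ≤ _ := Finset.card_le_card hsub
      _ ≤ W.card * c := by
        refine Finset.card_biUnion_le_card_mul _ _ _ (fun w hw => ?_)
        simp only [W, Finset.mem_filter, Finset.mem_univ, true_and] at hw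
        refine le_trans (le_of_eq ?_) (hmax w hw.1)
        rw [Nat.card_eq_fintype_card, ← Fintype.card_subtype]
        exact Fintype.card_congr (Equiv.subtypeEquivRight (fun v => Subgroup.mem_centralizer_singleton_iff.symm))
      _ < c * c := Nat.mul_lt_mul_of_pos_right hW hpos
  calc Nat.card G = Nat.card {v : G // IsConj t v} * c := hcard.symm
    _ < c * c * c := Nat.mul_lt_mul_of_pos_right hkey hpos
    _ = c ^ 3 := by ring

end Cfsg.Agent.S0230
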