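import Cfsg.Statements.S0231
import Cfsg.Agent.Lib.Invol.Dihedral
import Cfsg.Agent.Lib.Transfer.Cyclic

set_option autoImplicit false
open scoped Pointwise
open Cfsg

namespace Cfsg.Agent.S0231

/-- Let T be a Sylow 2-subgroup of the finite group G which is not normal and which intersects every other Sylow 2-subgroup trivially. Then G has a single conjugacy class of involutions. -/
theorem result {G : Type*} [Group G] [Finite G] (T : Sylow 2 G) (hnn : ¬ (T : Subgroup G).Normal) (hTI : ∀ g : G, MulAut.conj g • (T : Subgroup G) ≠ T → MulAut.conj g • (T : Subgroup G) ⊓ T = ⊥) (s t : G) (hs : orderOf s = 2) (ht : orderOf t = 2) : IsConj s t := by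
  have hinto : ∀ x : G, orderOf x = 2 → ∃ g : G, x ∈ MulAut.conj g • (T : Subgroup G) := fun x hx => by
    obtain ⟨Q, hQ⟩ := (CfsgLib.Transfer.isPGroup_zpowers (p := 2) ⟨1, hx⟩).exists_le_sylow
    obtain ⟨g, hg⟩ := MulAction.exists_smul_eq G T Q
    refine ⟨g, ?_⟩
    have h := hQ (Subgroup.mem_zpowers x)
    rw [← hg] at h
    exact h
  have hTI' : ∀ a b : G, MulAut.conj a • (T : Subgroup G) ≠ MulAut.conj b • (T : Subgroup G) →
      ∀ x : G, x ∈ MulAut.conj a • (T : Subgroup G) → x ∈ MulAut.conj b • (T : Subgroup G) → x = 1 := by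
    intro a b hab x hxa hxb
    have hne : MulAut.conj (a⁻¹ * b) • (T : Subgroup G) ≠ T := fun h => hab (by
      rw [show b = a * (a⁻¹ * b) by group, map_mul, mul_smul, h])
    have h := hTI _ hne
    have hx' : a⁻¹ * x * a ∈ MulAut.conj (a⁻¹ * b) • (T : Subgroup G) ⊓ (T : Subgroup G) := by
      refine ⟨?_, ?_⟩
      · obtain ⟨y, hy, rfl⟩ := hxb
        exact ⟨y, hy, by simp [mul_assoc]⟩
      · obtain ⟨y, hy, rfl⟩ := hxa
        simpa [mul_assoc] using hy
    rw [h, Subgroup.mem_bot] at hx'
    calc x = a * (a⁻¹ * x * a) * a⁻¹ := by group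
      _ = 1 := by rw [hx']; group
  -- an involution commuting with an involution of a conjugate of `T` lies in it
  have hcomm : ∀ a u x : G, orderOf u = 2 → orderOf x = 2 → u ∈ MulAut.conj a • (T : Subgroup G) →
      Commute u x → x ∈ MulAut.conj a • (T : Subgroup G) := by
    intro a u x hu hx huT hc
    have h2 : IsPGroup 2 (Subgroup.closure ({u, x} : Set G)) := by
      haveI hmc := Subgroup.isMulCommutative_closure (k := ({u, x} : Set G)) (by
        rintro p (rfl | rfl) q (rfl | rfl)
        · rfl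
        · exact hc.eq
        · exact hc.eq.symm
        · rfl)
      rintro ⟨d, hd⟩
      refine ⟨1, Subtype.ext ?_⟩
      show d ^ 2 ^ 1 = 1
      induction hd using Subgroup.closure_induction with
      | mem y hy =>
        rcases hy with rfl | rfl
        · rw [pow_one, ← hu, pow_orderOf_eq_one]
        · rw [pow_one, ← hx, pow_orderOf_eq_one]
      | one => simp
      | mul p q hp hq ihp ihq =>
        have hpq : Commute p q := congrArg Subtype.val
          (hmc.is_comm.comm (⟨p, hp⟩ : Subgroup.closure ({u, x} : Set G)) ⟨q, hq⟩)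
        rw [hpq.mul_pow, ihp, ihq, one_mul]
      | inv p _ ih => rw [inv_pow, ih, inv_one]
    obtain ⟨Q, hQ⟩ := h2.exists_le_sylow
    obtain ⟨b, hb⟩ := MulAction.exists_smul_eq G T Q
    have hu' : u ∈ MulAut.conj b • (T : Subgroup G) := by
      have h := hQ (Subgroup.subset_closure (Set.mem_insert u _))
      rw [← hb] at h; exact h
    have hx' : x ∈ MulAut.conj b • (T : Subgroup G) := by
      have h := hQ (Subgroup.subset_closure (Set.mem_insert_of_mem _ rfl))
      rw [← hb] at h; exact h
    by_cases hab : MulAut.conj a • (T : Subgroup G) = MulAut.conj b • (T : Subgroup G)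
    · rwa [hab]
    · exact absurd (hTI' a b hab u huT hu') (CfsgLib.Invol.ne_one_of_orderOf_two hu)
  have hdiff : ∀ a b x y : G, orderOf x = 2 → orderOf y = 2 →
      MulAut.conj a • (T : Subgroup G) ≠ MulAut.conj b • (T : Subgroup G) →
      x ∈ MulAut.conj a • (T : Subgroup G) → y ∈ MulAut.conj b • (T : Subgroup G) → IsConj x y := by
    intro a b x y hx hy hab hxa hyb
    by_contra hn
    obtain ⟨w, hw, hwx, hwy⟩ := CfsgLib.Invol.exists_common_commuting_invol hx hy
      (CfsgLib.Invol.even_of_not_isConj hx hy hn)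
    have hwa := hcomm a x w hx hw hxa hwx.symm
    have hya := hcomm a w y hw hy hwa hwy
    exact CfsgLib.Invol.ne_one_of_orderOf_two hy (hTI' a b hab y hya hyb)
  obtain ⟨a, ha⟩ := hinto s hs
  obtain ⟨b, hb⟩ := hinto t ht
  by_cases hab : MulAut.conj a • (T : Subgroup G) = MulAut.conj b • (T : Subgroup G)
  · obtain ⟨c, hc⟩ : ∃ c : G, MulAut.conj c • (T : Subgroup G) ≠ MulAut.conj a • (T : Subgroup G) := by
      by_contra h
      push Not at h
      refine hnn ⟨fun y hy g => ?_⟩
      have h1 : MulAut.conj g • (T : Subgroup G) = T := (h g).trans ((h 1).symm.trans (by simp))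
      rw [← h1]
      exact Subgroup.smul_mem_pointwise_smul _ (MulAut.conj g) _ hy
    have hsT : c * (a⁻¹ * s * a) * c⁻¹ ∈ MulAut.conj c • (T : Subgroup G) := by
      obtain ⟨y, hy, rfl⟩ := ha
      exact ⟨y, hy, by simp [mul_assoc]⟩
    have ho : orderOf (c * (a⁻¹ * s * a) * c⁻¹) = 2 := by
      rw [show c * (a⁻¹ * s * a) * c⁻¹ = c * a⁻¹ * s * (c * a⁻¹)⁻¹ by group]
      exact CfsgLib.Invol.conj_orderOf_two hs _
    exact (hdiff a c s _ hs ho hc.symm ha hsT).trans (hdiff c b _ t ho ht (hab ▸ hc) hsT hb)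
  · exact hdiff a b s t hs ht hab ha hb
end Cfsg.Agent.S0231
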