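import Cfsg.Statements.S0233
import Mathlib


set_option autoImplicit false
set_option linter.style.haveILetI false
open Cfsg

namespace Cfsg.Agent.S0233

variable {G : Type*} [Group G] [Finite G]

theorem card_inverting_le (x : G) :
    Nat.card {t : G // t * x * t⁻¹ = x⁻¹} ≤ Nat.card (Subgroup.centralizer ({x} : Set G)) := by
  rcases isEmpty_or_nonempty {t : G // t * x * t⁻¹ = x⁻¹} with h | ⟨⟨t0, ht0⟩⟩
  · simp
  refine Nat.card_le_card_of_injective (fun t => ⟨t0⁻¹ * t.1, ?_⟩) fun a b hab => ?_
  · refine Subgroup.mem_centralizer_singleton_iff.mpr ?_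
    have h1 : t.1 * x = x⁻¹ * t.1 := mul_inv_eq_iff_eq_mul.mp t.2
    calc t0⁻¹ * t.1 * x = t0⁻¹ * (x⁻¹ * t.1) := by rw [mul_assoc, h1]
      _ = t0⁻¹ * ((t0 * x * t0⁻¹) * t.1) := by rw [ht0]
      _ = x * (t0⁻¹ * t.1) := by group
  · exact Subtype.ext (mul_left_cancel (congrArg Subtype.val hab :))

theorem exists_extended (x t : G) (ht : t * x * t⁻¹ = x⁻¹) (hx : x * x ≠ 1) :
    ∃ S : Subgroup G, Subgroup.centralizer ({x} : Set G) ≤ S ∧
      Nat.card S = 2 * Nat.card (Subgroup.centralizer ({x} : Set G)) := by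
  classical
  set C := Subgroup.centralizer ({x} : Set G)
  have hinv : ∀ g, g * x * g⁻¹ = x⁻¹ → g⁻¹ * x * g = x⁻¹ := fun g h => by
    have := congrArg Inv.inv h
    rw [inv_inv, conj_inv] at this
    calc g⁻¹ * x * g = g⁻¹ * (g * x⁻¹ * g⁻¹) * g := by rw [this]
      _ = x⁻¹ := by group
  let S : Subgroup G :=
    { carrier := {g | g * x * g⁻¹ = x ∨ g * x * g⁻¹ = x⁻¹}
      one_mem' := Or.inl (by simp)
      mul_mem' := by
        intro a b ha hb
        have e : a * b * x * (a * b)⁻¹ = a * (b * x * b⁻¹) * a⁻¹ := by group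
        rcases hb with hb | hb
        · simpa only [Set.mem_setOf_eq, e, hb] using ha
        · rcases ha with ha | ha
          · exact Or.inr (by rw [e, hb, ← conj_inv, ha])
          · exact Or.inl (by rw [e, hb, ← conj_inv, ha, inv_inv])
      inv_mem' := by
        intro a ha
        rcases ha with ha | ha
        · exact Or.inl (by rw [inv_inv]; nth_rw 1 [← ha]; group)
        · exact Or.inr (by rw [inv_inv]; exact hinv a ha) }
  have hmem : ∀ g, g ∈ C ↔ g * x * g⁻¹ = x := fun g => by
    rw [Subgroup.mem_centralizer_singleton_iff, mul_inv_eq_iff_eq_mul]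
  refine ⟨S, fun g hg => Or.inl ((hmem g).mp hg), ?_⟩
  have hne : x⁻¹ ≠ x := fun h => hx (by nth_rw 1 [← h]; exact inv_mul_cancel x)
  have hidx : C.relIndex S = 2 := by
    rw [Subgroup.relIndex, Subgroup.index_eq_two_iff]
    refine ⟨⟨t, Or.inr ht⟩, fun g => ?_⟩
    have hxne : ∀ g, g * x * g⁻¹ = x⁻¹ → g ∉ C := fun g h h' => hne (h.symm.trans ((hmem g).mp h'))
    rcases g.2 with h | h
    · refine Or.inr ⟨(hmem _).mpr h, fun h' => hxne t ht ((Subgroup.mul_mem_cancel_left C ((hmem _).mpr h)).mp h')⟩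
    · refine Or.inl ⟨(hmem _).mpr ?_, hxne _ h⟩
      show (g : G) * t * x * ((g : G) * t)⁻¹ = x
      rw [show (g : G) * t * x * ((g : G) * t)⁻¹ = (g : G) * (t * x * t⁻¹) * (g : G)⁻¹ by group, ht,
        ← conj_inv, h, inv_inv]
  rw [← hidx, mul_comm, ← Subgroup.card_mul_index (C.subgroupOf S),
    Nat.card_congr (Subgroup.subgroupOfEquivOfLe (fun g hg => Or.inl ((hmem g).mp hg))).toEquiv]
  rfl

/-- Let G be a finite group of even order with exactly n involutions whose centre has odd order, and put a = |G|/n. Then G has a proper subgroup H with |G : H| = 2 or |G : H| < a(a+1)/2; over ℕ the latter reads 2·|G:H|·n² < |G|·(|G| + n). -/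
theorem result {G : Type*} [Group G] [Finite G] (heven : Even (Nat.card G)) (hZ : Odd (Nat.card (Subgroup.center G))) : ∃ H : Subgroup G, H ≠ ⊤ ∧ (H.index = 2 ∨ 2 * H.index * (Nat.card {t : G // orderOf t = 2}) ^ 2 < Nat.card G * (Nat.card G + Nat.card {t : G // orderOf t = 2})) := by
  classical
  by_contra hne
  push Not at hne
  haveI := Fintype.ofFinite G
  haveI : Fact (Nat.Prime 2) := ⟨Nat.prime_two⟩
  set I := Finset.univ.filter fun t : G => orderOf t = 2 with hI
  set n := Nat.card {t : G // orderOf t = 2} with hn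
  set N := Nat.card G with hN
  have hcI : I.card = n := by rw [hn, Nat.card_eq_fintype_card, Fintype.card_subtype]
  obtain ⟨t0, ht0⟩ := exists_prime_orderOf_dvd_card' (G := G) 2 (even_iff_two_dvd.mp heven)
  have hnpos : 0 < n := hcI ▸ Finset.card_pos.mpr ⟨t0, by simp [hI, ht0]⟩
  have hcenter : ∀ g : G, g * g = 1 → g ∈ Subgroup.center G → g = 1 := by
    intro g hg hgc
    have h2 : orderOf g ∣ 2 := orderOf_dvd_of_pow_eq_one (by rw [sq, hg])
    have h3 : orderOf g ∣ Nat.card (Subgroup.center G) := Subgroup.orderOf_dvd_natCard _ hgc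
    exact orderOf_eq_one_iff.mp (Nat.eq_one_of_dvd_coprimes (Nat.coprime_two_right.mpr hZ) h3 h2)
  -- the least index of a proper subgroup
  obtain ⟨H₀, hH₀, hmin⟩ := Set.exists_min_image {H : Subgroup G | H ≠ ⊤} (fun H => H.index)
    (Set.toFinite _) ⟨⊥, fun h : (⊥ : Subgroup G) = ⊤ => by
      have h1 : t0 ∈ (⊥ : Subgroup G) := h ▸ Subgroup.mem_top t0
      rw [Subgroup.mem_bot.mp h1, orderOf_one] at ht0
      omega⟩
  obtain ⟨h2', hbig⟩ := hne H₀ hH₀
  set s := H₀.index with hs
  have hbound : ∀ H : Subgroup G, H ≠ ⊤ → s * Nat.card H ≤ N := fun H hH => by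
    rw [hN, ← H.card_mul_index, mul_comm]
    exact Nat.mul_le_mul le_rfl (hmin H hH)
  set c : G → ℕ := fun x => (I.filter fun u => u * x ∈ I).card with hc
  have hsum : ∑ x : G, c x = n * n := by
    rw [← hcI, ← Finset.card_product]
    simp only [hc, Finset.card_filter]
    rw [Finset.sum_comm, Finset.card_product]
    simp only [← Finset.card_filter]
    rw [Finset.sum_congr rfl (g := fun _ => I.card) fun u hu => ?_, Finset.sum_const, smul_eq_mul]
    refine Finset.card_bij (fun x _ => u * x) (fun x hx => (Finset.mem_filter.mp hx).2)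
      (fun a _ b _ h => mul_left_cancel h) fun b hb => ?_
    exact ⟨u⁻¹ * b, by simp [hb], by simp⟩
  have hinvert : ∀ x u : G, u ∈ I → u * x ∈ I → u * x * u⁻¹ = x⁻¹ := by
    intro x u hu hux
    simp only [hI, Finset.mem_filter, Finset.mem_univ, true_and] at hu hux
    have h1 : u * u = 1 := by rw [← sq, ← hu, pow_orderOf_eq_one]
    have h2 : u * x * (u * x) = 1 := by rw [← sq, ← hux, pow_orderOf_eq_one]
    rw [inv_eq_of_mul_eq_one_right h1]
    exact eq_inv_of_mul_eq_one_left (by simpa [mul_assoc] using h2)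
  -- involutions
  have hinvol : ∀ x ∈ I, s * (c x + 2) ≤ N := by
    intro x hx
    have hx' : orderOf x = 2 := (Finset.mem_filter.mp hx).2
    have hxx : x * x = 1 := by rw [← sq, ← hx', pow_orderOf_eq_one]
    have hxi : x⁻¹ = x := inv_eq_of_mul_eq_one_right hxx
    set C := Subgroup.centralizer ({x} : Set G)
    have hCtop : C ≠ ⊤ := fun h => by
      have h' : x = 1 := hcenter x hxx (Subgroup.mem_center_iff.mpr fun g =>
        Subgroup.mem_centralizer_singleton_iff.mp (show g ∈ C from h ▸ Subgroup.mem_top g))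
      rw [h', orderOf_one] at hx'; omega
    refine le_trans (Nat.mul_le_mul le_rfl ?_) (hbound C hCtop)
    have hsub : (I.filter fun u => u * x ∈ I) ⊆ ((Finset.univ.filter fun u : G => u ∈ C).erase 1).erase x := by
      intro u hu
      obtain ⟨hu1, hu2⟩ := Finset.mem_filter.mp hu
      have h3 := hinvert x u hu1 hu2
      rw [hxi, mul_inv_eq_iff_eq_mul] at h3
      refine Finset.mem_erase.mpr ⟨fun e => ?_, Finset.mem_erase.mpr ⟨fun e => ?_, ?_⟩⟩
      · rw [e, hxx] at hu2; simp [hI] at hu2
      · rw [e] at hu1; simp [hI] at hu1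
      · simp only [Finset.mem_filter, Finset.mem_univ, true_and]
        exact Subgroup.mem_centralizer_singleton_iff.mpr h3
    have h4 := Finset.card_le_card hsub
    have hcardC : (Finset.univ.filter fun u : G => u ∈ C).card = Nat.card C := by
      rw [Nat.card_eq_fintype_card, Fintype.card_subtype]
    have hxC : x ∈ C := Subgroup.mem_centralizer_singleton_iff.mpr rfl
    have hne1 : x ≠ 1 := fun e => by rw [e, orderOf_one] at hx'; omega
    rw [Finset.card_erase_of_mem (Finset.mem_erase.mpr ⟨hne1, by simp [hxC]⟩),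
      Finset.card_erase_of_mem (by simp [one_mem]), hcardC] at h4
    have h5 : 2 ≤ Nat.card C := by
      have : ({1, x} : Finset G) ⊆ Finset.univ.filter fun u : G => u ∈ C := by
        intro u hu
        rcases Finset.mem_insert.mp hu with rfl | hu
        · simp [one_mem]
        · rw [Finset.mem_singleton] at hu; subst hu; simp [hxC]
      have h6 := Finset.card_le_card this
      rwa [Finset.card_pair hne1.symm, hcardC] at h6
    show (I.filter fun u => u * x ∈ I).card + 2 ≤ _
    omega
  -- other elements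
  have hother : ∀ x, x ≠ 1 → x ∉ I → 2 * (s * c x) ≤ N := by
    intro x hx hxI
    by_cases h0 : c x = 0
    · simp [h0]
    obtain ⟨u, hu⟩ := Finset.card_pos.mp (Nat.pos_of_ne_zero h0)
    obtain ⟨hu1, hu2⟩ := Finset.mem_filter.mp hu
    have ht := hinvert x u hu1 hu2
    have hxx : x * x ≠ 1 := fun h => hxI (Finset.mem_filter.mpr ⟨Finset.mem_univ _,
      orderOf_eq_prime (by rw [sq, h]) hx⟩)
    obtain ⟨S, hCS, hS⟩ := exists_extended x u ht hxx
    have hcle : c x ≤ Nat.card (Subgroup.centralizer ({x} : Set G)) := by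
      refine le_trans ?_ (card_inverting_le x)
      rw [Nat.card_eq_fintype_card, Fintype.card_subtype]
      exact Finset.card_le_card fun v hv => Finset.mem_filter.mpr ⟨Finset.mem_univ _,
        hinvert x v (Finset.mem_filter.mp hv).1 (Finset.mem_filter.mp hv).2⟩
    have hStop : S ≠ ⊤ := by
      intro h
      rw [h, Subgroup.card_top] at hS
      set C := Subgroup.centralizer ({x} : Set G)
      have hidx : C.index = 2 := by
        refine Nat.eq_of_mul_eq_mul_left (Nat.card_pos (α := C)) ?_
        rw [C.card_mul_index, hS, mul_comm]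
      exact (hne C (fun h' => by rw [h', Subgroup.index_top] at hidx; omega)).1 hidx
    have h7 := hbound S hStop
    rw [hS] at h7
    calc 2 * (s * c x) ≤ 2 * (s * Nat.card (Subgroup.centralizer ({x} : Set G))) :=
          Nat.mul_le_mul le_rfl (Nat.mul_le_mul le_rfl hcle)
      _ = s * (2 * Nat.card (Subgroup.centralizer ({x} : Set G))) := by ring
      _ ≤ N := h7
  set R := (Finset.univ.erase (1 : G)).filter fun x => x ∉ I with hR
  have h1I : (1 : G) ∉ I := by simp [hI]
  have hsplit : ∑ x : G, c x = c 1 + (∑ x ∈ I, c x + ∑ x ∈ R, c x) := by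
    rw [← Finset.add_sum_erase _ _ (Finset.mem_univ (1 : G))]
    congr 1
    rw [← Finset.sum_filter_add_sum_filter_not (Finset.univ.erase (1 : G)) (fun x => x ∈ I)]
    congr 2
    ext x
    simp only [Finset.mem_filter, Finset.mem_erase, Finset.mem_univ, and_true]
    exact ⟨fun h => h.2, fun h => ⟨fun e => h1I (e ▸ h), h⟩⟩
  have hc1 : c 1 = n := by
    simp only [hc, mul_one]
    rw [Finset.filter_true_of_mem (fun u hu => hu), hcI]
  have hRcard : n + R.card + 1 = N := by
    have h8 := Finset.card_filter_add_card_filter_not (s := Finset.univ.erase (1 : G)) (fun x => x ∈ I)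
    have h9 : (Finset.univ.erase (1 : G)).filter (fun x => x ∈ I) = I := by
      ext x
      simp only [Finset.mem_filter, Finset.mem_erase, Finset.mem_univ, and_true]
      exact ⟨fun h => h.2, fun h => ⟨fun e => h1I (e ▸ h), h⟩⟩
    rw [h9, hcI, ← hR, Finset.card_erase_of_mem (Finset.mem_univ _), Finset.card_univ] at h8
    have : 0 < N := Nat.card_pos
    rw [hN, Nat.card_eq_fintype_card] at *
    omega
  have e1 : ∑ x ∈ I, s * (c x + 2) ≤ n * N := by
    refine (Finset.sum_le_sum hinvol).trans ?_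
    rw [Finset.sum_const, smul_eq_mul, hcI]
  have e2 : ∑ x ∈ R, 2 * (s * c x) ≤ R.card * N := by
    refine (Finset.sum_le_sum fun x hx => hother x (Finset.ne_of_mem_erase (Finset.mem_filter.mp hx).1)
      (Finset.mem_filter.mp hx).2).trans ?_
    rw [Finset.sum_const, smul_eq_mul]
  simp only [← Finset.mul_sum, Finset.sum_add_distrib, Finset.sum_const, smul_eq_mul, hcI] at e1 e2
  rw [hsum, hc1] at hsplit
  have hNpos : 0 < N := Nat.card_pos
  have hspos : 0 < s := Nat.pos_of_ne_zero Subgroup.index_ne_zero_of_finite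
  nlinarith
end Cfsg.Agent.S0233
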