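import Cfsg.Statements.S0232
import Mathlib
import Cfsg.Agent.S0233

set_option autoImplicit false
set_option linter.style.haveILetI false
open Cfsg

namespace Cfsg.Agent.S0232

universe u

theorem main (k : ℕ) : ∀ (G : Type u) [Group G] [Finite G], Nat.card G < k → Even (Nat.card G) →
    2 < Nat.card G → ∃ H : Subgroup G, H ≠ ⊤ ∧ Nat.card G < (Nat.card H) ^ 3 := by
  induction k with
  | zero => exact fun G _ _ h => absurd h (Nat.not_lt_zero _)
  | succ k IH =>
    intro G _ _ hk heven hgt
    haveI : Fact (Nat.Prime 2) := ⟨Nat.prime_two⟩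
    have hproper : ∀ H : Subgroup G, Nat.card H < Nat.card G → H ≠ ⊤ := fun H h e => by
      rw [e, Subgroup.card_top] at h; omega
    rcases (Nat.card (Subgroup.center G)).even_or_odd with hZ | hZ
    · obtain ⟨z, hz⟩ := exists_prime_orderOf_dvd_card' (G := Subgroup.center G) 2 (even_iff_two_dvd.mp hZ)
      rw [← Subgroup.orderOf_coe] at hz
      set K := Subgroup.zpowers (z : G)
      haveI : K.Normal := ⟨fun w hw g => by
        obtain ⟨i, rfl⟩ := Subgroup.mem_zpowers_iff.mp hw
        rw [Subgroup.mem_center_iff.mp (zpow_mem z.2 i) g, mul_inv_cancel_right]; exact hw⟩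
      have hK : Nat.card K = 2 := by rw [Nat.card_zpowers, hz]
      have hN : Nat.card G = Nat.card (G ⧸ K) * 2 := hK ▸ K.card_eq_card_quotient_mul_card_subgroup
      by_cases hsmall : Nat.card (G ⧸ K) ≤ 2
      · exact ⟨K, hproper K (by omega), by rw [hK]; omega⟩
      rcases (Nat.card (G ⧸ K)).even_or_odd with hq | hq
      · obtain ⟨H, hH, hlt⟩ := IH (G ⧸ K) (by omega) hq (by omega)
        have hcard : Nat.card (H.comap (QuotientGroup.mk' K)) = Nat.card H * 2 := by
          refine Nat.eq_of_mul_eq_mul_right (Nat.pos_of_ne_zero H.index_ne_zero_of_finite) ?_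
          calc Nat.card (H.comap (QuotientGroup.mk' K)) * H.index = Nat.card G := by
                rw [← Subgroup.index_comap_of_surjective H (QuotientGroup.mk'_surjective K), Subgroup.card_mul_index]
            _ = Nat.card H * 2 * H.index := by rw [hN, ← H.card_mul_index]; ring
        refine ⟨H.comap (QuotientGroup.mk' K), fun e => hH ?_, ?_⟩
        · rw [← Subgroup.map_comap_eq_self_of_surjective (QuotientGroup.mk'_surjective K) H, e]
          exact Subgroup.map_top_of_surjective _ (QuotientGroup.mk'_surjective K)
        · rw [hcard, mul_pow, hN]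
          nlinarith
      · obtain ⟨B, hB⟩ := Subgroup.exists_right_complement'_of_coprime (N := K)
          (by rw [hK, Subgroup.index_eq_card]; exact (Nat.coprime_two_left.mpr hq))
        have hBc : Nat.card B = Nat.card (G ⧸ K) := by
          rw [← Subgroup.index_eq_card]; exact hB.symm.index_eq_card.symm
        refine ⟨B, hproper B (by omega), ?_⟩
        have h3 : 3 ≤ Nat.card B := by omega
        have h9 : 9 * Nat.card B ≤ (Nat.card B) ^ 3 := by
          calc 9 * Nat.card B ≤ (Nat.card B) ^ 2 * Nat.card B := Nat.mul_le_mul (by nlinarith) le_rfl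
            _ = _ := by ring
        omega
    · obtain ⟨H, hH, hcase⟩ := Cfsg.Agent.S0233.result heven hZ
      rcases hcase with h2 | hlt
      · refine ⟨H, hH, ?_⟩
        have hc := H.card_mul_index
        rw [h2] at hc
        have h22 : 2 ≤ Nat.card H := by omega
        have h4 : 4 * Nat.card H ≤ (Nat.card H) ^ 3 := by
          calc 4 * Nat.card H ≤ (Nat.card H) ^ 2 * Nat.card H := Nat.mul_le_mul (by nlinarith) le_rfl
            _ = _ := by ring
        omega
      obtain ⟨t, ht⟩ := exists_prime_orderOf_dvd_card' (G := G) 2 (even_iff_two_dvd.mp heven)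
      set C := Subgroup.centralizer ({t} : Set G)
      have hCtop : C ≠ ⊤ := fun e => by
        have h1 : t ∈ Subgroup.center G := Subgroup.mem_center_iff.mpr fun g =>
          Subgroup.mem_centralizer_singleton_iff.mp (show g ∈ C from e ▸ Subgroup.mem_top g)
        have h2 := Subgroup.orderOf_dvd_natCard _ h1
        rw [ht] at h2
        exact Nat.not_even_iff_odd.mpr hZ (even_iff_two_dvd.mpr h2)
      set n := Nat.card {t : G // orderOf t = 2}
      have hidx : C.index ≤ n := by
        rw [Subgroup.index_eq_card]
        refine Nat.card_le_card_of_injective (fun q => ⟨q.out * t * q.out⁻¹, ?_⟩) fun a b hab => ?_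
        · rw [← ht]; exact orderOf_injective (MulAut.conj q.out).toMonoidHom (MulAut.conj q.out).injective t
        · have h := congrArg Subtype.val hab
          simp only at h
          rw [← QuotientGroup.out_eq' a, ← QuotientGroup.out_eq' b]
          refine QuotientGroup.eq.mpr (Subgroup.mem_centralizer_singleton_iff.mpr ?_)
          calc a.out⁻¹ * b.out * t = a.out⁻¹ * (b.out * t * b.out⁻¹) * b.out := by group
            _ = a.out⁻¹ * (a.out * t * a.out⁻¹) * b.out := by rw [h]
            _ = t * (a.out⁻¹ * b.out) := by group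
      have hnle : n ≤ Nat.card G := Nat.card_le_card_of_injective _ Subtype.val_injective
      have hC := C.card_mul_index
      have hH' := H.card_mul_index
      have hN0 : 0 < Nat.card G := Nat.card_pos
      have h1 : Nat.card G ≤ n * Nat.card C := by
        calc Nat.card G = Nat.card C * C.index := hC.symm
          _ ≤ Nat.card C * n := Nat.mul_le_mul le_rfl hidx
          _ = n * Nat.card C := mul_comm _ _
      have h2 : H.index < (Nat.card C) ^ 2 := by
        by_contra hge
        push Not at hge
        have h3 := Nat.mul_le_mul h1 h1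
        have h4 := Nat.mul_le_mul hge (le_refl (n ^ 2))
        nlinarith
      rcases le_total (Nat.card H) (Nat.card C) with h | h
      · refine ⟨C, hCtop, ?_⟩
        rw [← hH']
        calc Nat.card H * H.index < Nat.card H * (Nat.card C) ^ 2 := Nat.mul_lt_mul_of_pos_left h2 Nat.card_pos
          _ ≤ Nat.card C * (Nat.card C) ^ 2 := Nat.mul_le_mul h le_rfl
          _ = _ := by ring
      · refine ⟨H, hH, ?_⟩
        rw [← hH']
        calc Nat.card H * H.index < Nat.card H * (Nat.card C) ^ 2 := Nat.mul_lt_mul_of_pos_left h2 Nat.card_pos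
          _ ≤ Nat.card H * (Nat.card H) ^ 2 := Nat.mul_le_mul le_rfl (Nat.pow_le_pow_left h 2)
          _ = _ := by ring

/-- A finite group G of even order greater than 2 has a proper subgroup H with |G| < |H|^3. -/
theorem result {G : Type*} [Group G] [Finite G] (heven : Even (Nat.card G)) (hgt : 2 < Nat.card G) : ∃ H : Subgroup G, H ≠ ⊤ ∧ Nat.card G < (Nat.card H) ^ 3 := by
  exact main _ G (Nat.lt_succ_self _) heven hgt
end Cfsg.Agent.S0232
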