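import Cfsg.Statements.S0234
import Cfsg.Agent.Lib.Char.SquareRoots
import Cfsg.Agent.Lib.Char.Counting
import Cfsg.Agent.Lib.Char.Table

set_option autoImplicit false
open Cfsg
open scoped CfsgLib.Char

namespace Cfsg.Agent.S0234

open CfsgLib.Char Representation in
/-- A simple group of even order greater than two has no irreducible character of degree two. -/
theorem degree_ne_two {G : Type*} [Group G] [Fintype G] [IsSimpleGroup G] (heven : Even (Nat.card G))
    (hna : Subgroup.center G ≠ ⊤) (χ : IrrCharacter G) : (χ : G → ℂ) 1 ≠ 2 := by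
  classical
  intro h2
  obtain ⟨n, ρ, hρ, hχ⟩ := χ.2
  have hn : n = 2 := by
    have h := congrFun hχ 1
    rw [Representation.char_one, Module.finrank_fin_fun, h2] at h
    exact_mod_cast h
  subst hn
  let A : G →* Matrix (Fin 2) (Fin 2) ℂ :=
    ((LinearMap.toMatrixAlgEquiv' (n := Fin 2) (R := ℂ) : _ ≃ₐ[ℂ] _) : _ →* _).comp ρ
  have hA : ∀ g, A g = 1 → ρ g = 1 := fun g h =>
    (LinearMap.toMatrixAlgEquiv' (n := Fin 2) (R := ℂ)).injective (by rw [map_one]; exact h)
  -- faithfulness
  have hker : ρ.asGroupHom.ker = ⊥ := by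
    refine (IsSimpleGroup.eq_bot_or_eq_top_of_normal _ inferInstance).resolve_right fun htop => ?_
    have hone : ∀ g, (χ : G → ℂ) g = 2 := fun g => by
      have hg : g ∈ ρ.asGroupHom.ker := htop ▸ Subgroup.mem_top g
      have hg' : ρ g = 1 := congrArg Units.val (MonoidHom.mem_ker.mp hg)
      rw [← hχ, Representation.character, hg']
      simp
    have h4 := classInner_irr χ.2 χ.2
    simp only [if_pos, classInner, hone, Finset.sum_const, Finset.card_univ, nsmul_eq_mul, map_ofNat] at h4
    rw [← mul_assoc, Nat.card_eq_fintype_card, inv_mul_cancel₀ (Nat.cast_ne_zero.mpr Fintype.card_ne_zero)] at h4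
    norm_num at h4
  have hinj : ∀ g h, A g = A h → g = h := fun g h e => by
    have e' : A (g⁻¹ * h) = 1 := by
      rw [map_mul, ← e, ← map_mul, inv_mul_cancel, map_one]
    have : g⁻¹ * h ∈ ρ.asGroupHom.ker := MonoidHom.mem_ker.mpr (Units.ext (hA _ e'))
    rw [hker, Subgroup.mem_bot, inv_mul_eq_one] at this
    exact this
  -- determinant one
  have hdet : ∀ g, (A g).det = 1 := by
    let d : G →* ℂˣ := ((Matrix.detMonoidHom).comp A).toHomUnits
    have hd : d.ker = ⊤ := by
      refine (IsSimpleGroup.eq_bot_or_eq_top_of_normal _ inferInstance).resolve_left fun hb => hna ?_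
      rw [eq_top_iff]
      refine fun z _ => Subgroup.mem_center_iff.mpr fun w => (MonoidHom.ker_eq_bot_iff d).mp hb ?_
      rw [map_mul, map_mul, mul_comm]
    intro g
    exact congrArg Units.val (MonoidHom.mem_ker.mp (hd ▸ Subgroup.mem_top g : g ∈ d.ker))
  obtain ⟨t, ht⟩ := exists_prime_orderOf_dvd_card' 2 heven.two_dvd
  have htt : t * t = 1 := by
    have h := pow_orderOf_eq_one t
    rwa [ht, sq] at h
  have hAA : A t * A t = 1 := by rw [← map_mul, htt, map_one]
  have hscal : ∃ c : ℂ, A t = c • 1 := by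
    have hadj : (A t).adjugate = A t := by
      calc (A t).adjugate = (A t).adjugate * (A t * A t) := by rw [hAA, mul_one]
        _ = (A t).det • A t := by rw [← mul_assoc, Matrix.adjugate_mul, Matrix.smul_mul, one_mul]
        _ = A t := by rw [hdet, one_smul]
    rw [Matrix.adjugate_fin_two] at hadj
    have e00 := congrFun (congrFun hadj 0) 0
    have e01 := congrFun (congrFun hadj 0) 1
    have e10 := congrFun (congrFun hadj 1) 0
    simp at e00 e01 e10
    refine ⟨A t 0 0, ?_⟩
    ext i j
    fin_cases i <;> fin_cases j <;> simp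
    · linear_combination (-1 / 2 : ℂ) * e01
    · linear_combination (-1 / 2 : ℂ) * e10
    · exact e00
  obtain ⟨c, hc⟩ := hscal
  have hz : t ∈ Subgroup.center G := Subgroup.mem_center_iff.mpr fun g => hinj _ _ (by
    rw [map_mul, map_mul, hc, Matrix.mul_smul, Matrix.smul_mul, mul_one, one_mul])
  rcases IsSimpleGroup.eq_bot_or_eq_top_of_normal (Subgroup.center G) inferInstance with h | h
  · rw [h, Subgroup.mem_bot] at hz
    rw [hz, orderOf_one] at ht
    exact absurd ht (by norm_num)
  · exact hna h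


/-- In a finite simple group G of even order greater than 2, the number n of involutions satisfies 3n < |G|. -/
theorem result {G : Type*} [Group G] [Finite G] [IsSimpleGroup G] (heven : Even (Nat.card G)) (hgt : 2 < Nat.card G) : 3 * Nat.card {t : G // orderOf t = 2} < Nat.card G := by
  classical
  have := Fintype.ofFinite G
  have hna : Subgroup.center G ≠ ⊤ := by
    intro h
    letI : CommGroup G := { ‹Group G› with mul_comm := fun a b => (Subgroup.mem_center_iff.mp (h ▸ Subgroup.mem_top a : a ∈ Subgroup.center G) b).symm }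
    have hp := (IsSimpleGroup.prime_card (α := G))
    exact absurd ((hp.eq_one_or_self_of_dvd 2 heven.two_dvd).resolve_left (by norm_num)) hgt.ne
  have h := CfsgLib.Char.SquareRoots.card_involutions_add_one (G := G)
  have hdeg : ∀ χ : IrrCharacter G, ∃ d : ℕ, 0 < d ∧ (χ : G → ℂ) 1 = d := fun χ => by
    obtain ⟨d, hd0, hd⟩ := CfsgLib.Char.exists_nat_degree_irr χ.2
    exact ⟨d, hd0, hd⟩
  choose d hd0 hd using hdeg
  let one : IrrCharacter G := ⟨fun _ => 1, CfsgLib.Char.isIrrCharacter_one⟩
  have hsq : ∑ χ, d χ * d χ = Nat.card G := by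
    have e := CfsgLib.Char.sum_sq_degree (G := G)
    simp only [hd, sq] at e
    exact_mod_cast e
  have hlin : ∀ χ, d χ = 1 → χ = one := by
    intro χ h1
    have hχ1 : (χ : G → ℂ) 1 = 1 := by rw [hd, h1, Nat.cast_one]
    set l := CfsgLib.Char.linearHom (CfsgLib.Char.isCharacter_of_isIrr χ.2) hχ1 with hl'
    have hl : ∀ g, (χ : G → ℂ) g = (l g : ℂ) := fun g => by rw [hl', CfsgLib.Char.linearHom_apply]
    refine Subtype.ext (funext fun g => ?_)
    have hk : l.ker = ⊤ := by
      refine (IsSimpleGroup.eq_bot_or_eq_top_of_normal _ inferInstance).resolve_left fun hb => hna ?_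
      rw [eq_top_iff]
      refine fun z _ => Subgroup.mem_center_iff.mpr fun w => (MonoidHom.ker_eq_bot_iff l).mp hb ?_
      rw [map_mul, map_mul, mul_comm]
    rw [hl, MonoidHom.mem_ker.mp (hk ▸ Subgroup.mem_top g : g ∈ l.ker)]
    simp [one]
  have hle : Nat.card {t : G // orderOf t = 2} + 1 ≤ ∑ χ, d χ := by
    have h' : ((Nat.card {t : G // orderOf t = 2} + 1 : ℕ) : ℝ) = ∑ χ : IrrCharacter G, (CfsgLib.Char.indicator (χ : G → ℂ)).re * (d χ : ℝ) := by
      have h'' := congrArg Complex.re h
      rw [Complex.re_sum, Complex.natCast_re] at h''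
      rw [h'']
      refine Finset.sum_congr rfl fun χ _ => ?_
      rw [hd]
      simp
    have h3 : ((Nat.card {t : G // orderOf t = 2} + 1 : ℕ) : ℝ) ≤ ∑ χ, (d χ : ℝ) := by
      rw [h']
      refine Finset.sum_le_sum fun χ _ => mul_le_of_le_one_left (Nat.cast_nonneg _) ?_
      rcases CfsgLib.Char.indicator_cases χ.2 with ⟨-, e | e⟩ | ⟨-, e⟩ <;> rw [e] <;> simp
    exact_mod_cast h3
  rw [← Finset.add_sum_erase _ _ (Finset.mem_univ one)] at hle hsq
  have h1 : d one = 1 := by
    have e := hd one
    simp only [one] at e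
    exact_mod_cast e.symm
  rw [h1] at hle hsq
  have h3 : 3 * (∑ χ ∈ Finset.univ.erase one, d χ) ≤ ∑ χ ∈ Finset.univ.erase one, d χ * d χ := by
    rw [Finset.mul_sum]
    refine Finset.sum_le_sum fun χ hχ => ?_
    refine Nat.mul_le_mul_right _ ?_
    have e1 : d χ ≠ 1 := fun e => (Finset.mem_erase.mp hχ).1 (hlin χ e)
    have e2 : d χ ≠ 2 := fun e => degree_ne_two heven hna χ (by rw [hd, e]; norm_num)
    have := hd0 χ
    omega
  omega
end Cfsg.Agent.S0234
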