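import Cfsg.Statements.S0235
import Mathlib

set_option autoImplicit false
open Cfsg

namespace Cfsg.Agent.S0235

/-- If x² ≠ 1, the ordered pairs (u, v) of involutions with uv = x correspond bijectively to the involutions t with t x t⁻¹ = x⁻¹ (via (u, v) ↦ u), so the two counts agree. -/
theorem result {G : Type*} [Group G] [Finite G] (x : G) (hx : x ^ 2 ≠ 1) : Nat.card {p : G × G // orderOf p.1 = 2 ∧ orderOf p.2 = 2 ∧ p.1 * p.2 = x} = Nat.card {t : G // orderOf t = 2 ∧ t * x * t⁻¹ = x⁻¹} := by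
  have key : ∀ a b : G, orderOf a = 2 → orderOf b = 2 → a * b = x → a * x * a⁻¹ = x⁻¹ := by
    intro a b ha hb hab
    have ha' : a⁻¹ = a := inv_eq_of_mul_eq_one_right (by rw [← pow_two, ← ha, pow_orderOf_eq_one])
    have hb' : b⁻¹ = b := inv_eq_of_mul_eq_one_right (by rw [← pow_two, ← hb, pow_orderOf_eq_one])
    have ha2 : a * a = 1 := by nth_rewrite 1 [← ha']; exact inv_mul_cancel a
    rw [← hab, mul_inv_rev, ha', hb', ← mul_assoc, ha2, one_mul]
  refine Nat.card_congr
    { toFun := fun p => ⟨p.1.1, p.2.1, key _ _ p.2.1 p.2.2.1 p.2.2.2⟩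
      invFun := fun t => ⟨(t.1, t.1⁻¹ * x), t.2.1, ?_, mul_inv_cancel_left _ _⟩
      left_inv := ?_
      right_inv := fun t => rfl }
  · have htp : t.1 ^ 2 = 1 := orderOf_dvd_iff_pow_eq_one.mp t.2.1.dvd
    have ht : t.1⁻¹ = t.1 := inv_eq_of_mul_eq_one_right (by rw [← pow_two]; exact htp)
    refine orderOf_eq_prime ?_ ?_
    · have h := t.2.2
      rw [ht] at h
      show (t.1⁻¹ * x) ^ 2 = 1
      rw [ht, pow_two, ← mul_assoc, h, inv_mul_cancel]
    · intro h
      have hxt : x = t.1 := (inv_mul_eq_one.mp h).symm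
      apply hx
      rw [hxt]; exact htp
  · rintro ⟨⟨a, b⟩, ha, hb, hab⟩
    apply Subtype.ext
    simp [← hab]

end Cfsg.Agent.S0235
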