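import Cfsg.Statements.S0236
import Mathlib
import Cfsg.Agent.Lib.Invol.Dihedral

set_option autoImplicit false
open Cfsg

namespace Cfsg.Agent.S0236

/-- If x is an involution, the number of ordered pairs (u, v) of involutions with uv = x, plus one, equals the number of involutions in the centralizer of x. -/
theorem result {G : Type*} [Group G] [Finite G] (x : G) (hx : orderOf x = 2) : Nat.card {p : G × G // orderOf p.1 = 2 ∧ orderOf p.2 = 2 ∧ p.1 * p.2 = x} + 1 = Nat.card {t : G // orderOf t = 2 ∧ Commute t x} := by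
  open CfsgLib.Invol in
  have key : ∀ a b : G, orderOf a = 2 → orderOf b = 2 → a * b = x → Commute a x ∧ a ≠ x := by
    intro a b ha hb hab
    refine ⟨?_, ?_⟩
    · have h := CfsgLib.Invol.conj_prod ha hb
      rw [hab, CfsgLib.Invol.inv_of_orderOf_two hx] at h
      exact mul_inv_eq_iff_eq_mul.mp h
    · rintro rfl
      exact CfsgLib.Invol.ne_one_of_orderOf_two hb (mul_eq_left.mp hab)
  rw [show Nat.card {t : G // orderOf t = 2 ∧ Commute t x} = Set.ncard {t : G | orderOf t = 2 ∧ Commute t x} from (Nat.card_coe_set_eq _)]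
  rw [← Set.ncard_diff_singleton_add_one (a := x) (s := {t : G | orderOf t = 2 ∧ Commute t x}) ⟨hx, Commute.refl x⟩ (Set.toFinite _)]
  congr 1
  rw [← Nat.card_coe_set_eq]
  refine Nat.card_congr
    { toFun := fun p => ⟨p.1.1, ⟨p.2.1, (key _ _ p.2.1 p.2.2.1 p.2.2.2).1⟩, (key _ _ p.2.1 p.2.2.1 p.2.2.2).2⟩
      invFun := fun t => ⟨(t.1, t.1⁻¹ * x), t.2.1.1, ?_, mul_inv_cancel_left _ _⟩
      left_inv := ?_
      right_inv := fun t => rfl }
  · refine CfsgLib.Invol.orderOf_two_of_mul_self ?_ ?_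
    · rw [CfsgLib.Invol.inv_of_orderOf_two t.2.1.1, mul_assoc, ← mul_assoc x, ← t.2.1.2.eq, mul_assoc t.1 x x, CfsgLib.Invol.mul_self_of_orderOf_two hx, mul_one, CfsgLib.Invol.mul_self_of_orderOf_two t.2.1.1]
    · intro h
      exact t.2.2 (inv_mul_eq_one.mp h)
  · rintro ⟨⟨a, b⟩, ha, hb, hab⟩
    apply Subtype.ext
    simp [← hab]

end Cfsg.Agent.S0236
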