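import Mathlib
import Cfsg.Statements.S0237
-- import your own Cfsg.Agent.* helpers here

set_option autoImplicit false
open Cfsg

namespace Cfsg.Agent.S0237

/-- If x is real (conjugate to x⁻¹) in a finite group G, the number of g with g x g⁻¹ = x⁻¹ equals |C_G(x)|. -/
theorem result {G : Type*} [Group G] [Finite G] (x : G) (hreal : IsConj x x⁻¹) : Nat.card {g : G // g * x * g⁻¹ = x⁻¹} = Nat.card (Subgroup.centralizer ({x} : Set G)) := by
  obtain ⟨c, hc⟩ := hreal
  have hc' : (c : G) * x * (c : G)⁻¹ = x⁻¹ := by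
    rw [hc.eq, mul_inv_cancel_right]
  refine Nat.card_congr
    { toFun := fun g => ⟨(c : G)⁻¹ * g.1, ?_⟩
      invFun := fun h => ⟨(c : G) * h.1, ?_⟩
      left_inv := fun g => by ext; simp
      right_inv := fun h => by ext; simp }
  · rw [Subgroup.mem_centralizer_singleton_iff]
    have := g.2
    have e : g.1 * x = x⁻¹ * g.1 := mul_inv_eq_iff_eq_mul.mp this
    have e2 : (c : G)⁻¹ * x⁻¹ = x * (c : G)⁻¹ := by rw [inv_mul_eq_iff_eq_mul, ← mul_assoc, eq_mul_inv_iff_mul_eq]; exact (mul_inv_eq_iff_eq_mul.mp hc').symm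
    rw [mul_assoc, e, ← mul_assoc, e2, mul_assoc]
  · have := Subgroup.mem_centralizer_singleton_iff.mp h.2
    rw [show (c : G) * h.1 * x * ((c : G) * h.1)⁻¹ = (c : G) * (h.1 * x * h.1⁻¹) * (c : G)⁻¹ by group,
      this, mul_inv_cancel_right, hc']

end Cfsg.Agent.S0237
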