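import Cfsg.Statements.S0238
import Mathlib
import Cfsg.Agent.Lib.Invol.Dihedral

set_option autoImplicit false
open Cfsg

namespace Cfsg.Agent.S0238

/-- For every x in a finite group G, the number c of ordered pairs (u, v) of involutions with uv = x is at most |C_G(x)|; c = 0 when x is not conjugate to x⁻¹; and c + 2 ≤ |C_G(x)| when x is an involution. -/
theorem result {G : Type*} [Group G] [Finite G] (x : G) : Nat.card {p : G × G // orderOf p.1 = 2 ∧ orderOf p.2 = 2 ∧ p.1 * p.2 = x} ≤ Nat.card (Subgroup.centralizer ({x} : Set G)) ∧ (¬ IsConj x x⁻¹ → Nat.card {p : G × G // orderOf p.1 = 2 ∧ orderOf p.2 = 2 ∧ p.1 * p.2 = x} = 0) ∧ (orderOf x = 2 → Nat.card {p : G × G // orderOf p.1 = 2 ∧ orderOf p.2 = 2 ∧ p.1 * p.2 = x} + 2 ≤ Nat.card (Subgroup.centralizer ({x} : Set G))) := by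
  have key : ∀ a b : G, orderOf a = 2 → orderOf b = 2 → a * b = x → a * x * a⁻¹ = x⁻¹ := by
    intro a b ha hb hab
    rw [← hab]
    exact CfsgLib.Invol.conj_prod ha hb
  refine ⟨?_, ?_, ?_⟩
  · rcases isEmpty_or_nonempty {p : G × G // orderOf p.1 = 2 ∧ orderOf p.2 = 2 ∧ p.1 * p.2 = x} with h | ⟨⟨p₀, hp₀⟩⟩
    · simp
    · refine Nat.card_le_card_of_injective (fun p => ⟨p₀.1⁻¹ * p.1.1, ?_⟩) ?_
      · rw [Subgroup.mem_centralizer_singleton_iff]
        have h1 := key _ _ hp₀.1 hp₀.2.1 hp₀.2.2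
        have h2 := key _ _ p.2.1 p.2.2.1 p.2.2.2
        calc p₀.1⁻¹ * p.1.1 * x = p₀.1⁻¹ * (p.1.1 * x * p.1.1⁻¹) * p.1.1 := by group
          _ = p₀.1⁻¹ * (p₀.1 * x * p₀.1⁻¹) * p.1.1 := by rw [h1, h2]
          _ = x * (p₀.1⁻¹ * p.1.1) := by group
      · intro p q h
        simp only [Subtype.mk.injEq, mul_right_inj] at h
        refine Subtype.ext (Prod.ext h ?_)
        have := p.2.2.2.trans q.2.2.2.symm
        rw [h] at this
        exact mul_left_cancel this
  · intro h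
    rw [Nat.card_eq_zero]
    left
    refine ⟨fun p => h (isConj_iff.mpr ⟨p.1.1, key _ _ p.2.1 p.2.2.1 p.2.2.2⟩)⟩
  · intro hx
    have hfin : ((Subgroup.centralizer ({x} : Set G) : Subgroup G) : Set G).Finite := Set.toFinite _
    have hinj : Set.InjOn (fun p : G × G => p.1) {p : G × G | orderOf p.1 = 2 ∧ orderOf p.2 = 2 ∧ p.1 * p.2 = x} := by
      intro p hp q hq h
      refine Prod.ext h ?_
      have := hp.2.2.trans hq.2.2.symm
      simp only at h
      rw [h] at this
      exact mul_left_cancel this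
    rw [show Nat.card {p : G × G // orderOf p.1 = 2 ∧ orderOf p.2 = 2 ∧ p.1 * p.2 = x} = Set.ncard {p : G × G | orderOf p.1 = 2 ∧ orderOf p.2 = 2 ∧ p.1 * p.2 = x} from Nat.card_coe_set_eq _, ← Set.ncard_image_of_injOn hinj]
    rw [show Nat.card (Subgroup.centralizer ({x} : Set G)) = Set.ncard ((Subgroup.centralizer ({x} : Set G) : Subgroup G) : Set G) from Nat.card_coe_set_eq _]
    set S := (fun p : G × G => p.1) '' {p : G × G | orderOf p.1 = 2 ∧ orderOf p.2 = 2 ∧ p.1 * p.2 = x}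
    have h1 : (1 : G) ∉ S ∧ x ∉ S := by
      constructor <;> rintro ⟨⟨a, b⟩, ⟨ha, hb, hab⟩, h⟩ <;> simp only at h ha hb hab <;> subst h
      · simp at ha
      · exact CfsgLib.Invol.ne_one_of_orderOf_two hb (mul_eq_left.mp hab)
    have hsub : S ∪ {1, x} ⊆ ((Subgroup.centralizer ({x} : Set G) : Subgroup G) : Set G) := by
      rintro z (⟨⟨a, b⟩, ⟨ha, hb, hab⟩, rfl⟩ | rfl | rfl)
      · have h := key a b ha hb hab
        rw [CfsgLib.Invol.inv_of_orderOf_two hx] at h
        exact Subgroup.mem_centralizer_singleton_iff.mpr (mul_inv_eq_iff_eq_mul.mp h)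
      · exact one_mem _
      · exact Subgroup.mem_centralizer_singleton_iff.mpr rfl
    have hd : Disjoint S {1, x} := by
      rw [Set.disjoint_right]
      rintro z (rfl | rfl)
      · exact h1.1
      · exact h1.2
    calc S.ncard + 2 = (S ∪ {1, x}).ncard := by
          rw [Set.ncard_union_eq hd, Set.ncard_pair (CfsgLib.Invol.ne_one_of_orderOf_two hx).symm]
      _ ≤ _ := Set.ncard_le_ncard hsub hfin

end Cfsg.Agent.S0238
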