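import Cfsg.Statements.S0239
import Mathlib
import Cfsg.Agent.Lib.Invol.Dihedral

set_option autoImplicit false
open Cfsg

namespace Cfsg.Agent.S0239

/-- If some nontrivial element x of a finite group G is conjugate to x⁻¹, then |G| is even. -/
theorem result {G : Type*} [Group G] [Finite G] (x : G) (hx : x ≠ 1) (hreal : IsConj x x⁻¹) : Even (Nat.card G) := by
  by_contra hne
  obtain ⟨g, hg⟩ := isConj_iff.mp hreal
  have ho : ∀ a : G, Odd (orderOf a) := fun a =>
    (Nat.not_even_iff_odd.mp hne).of_dvd_nat (orderOf_dvd_natCard a)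
  exact hx (CfsgLib.Invol.eq_one_of_odd_of_sq (ho x) (CfsgLib.Invol.sq_eq_one_of_odd_inverts (ho g) hg))

end Cfsg.Agent.S0239
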