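import Cfsg.Statements.S0240
import Mathlib
import Cfsg.Agent.Lib.Invol.Dihedral

set_option autoImplicit false
open Cfsg

namespace Cfsg.Agent.S0240

/-- Let G be a finite group with n involutions and H a subgroup with |H|·(n+1) > |G|. Then some nontrivial h ∈ H is strongly real in G: an involution t of G satisfies t h t⁻¹ = h⁻¹. -/
theorem result {G : Type*} [Group G] [Finite G] (H : Subgroup G) (hH : Nat.card G < Nat.card H * (Nat.card {t : G // orderOf t = 2} + 1)) : ∃ h : G, h ∈ H ∧ h ≠ 1 ∧ ∃ t : G, orderOf t = 2 ∧ t * h * t⁻¹ = h⁻¹ := by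
  classical
  haveI := Fintype.ofFinite G
  let T : Finset G := insert 1 (Finset.univ.filter (fun t => orderOf t = 2))
  have hT : T.card = Nat.card {t : G // orderOf t = 2} + 1 := by
    rw [Finset.card_insert_of_notMem (by simp), Nat.card_eq_fintype_card, Fintype.card_subtype]
  have hlt : (Finset.univ.image (fun g : G => (g : G ⧸ H))).card < T.card := by
    have hle : (Finset.univ.image (fun g : G => (g : G ⧸ H))).card ≤ H.index := by
      rw [Subgroup.index, Nat.card_eq_fintype_card]
      exact Finset.card_le_univ _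
    refine lt_of_le_of_lt hle ?_
    rw [hT]
    rw [← H.card_mul_index] at hH
    exact Nat.lt_of_mul_lt_mul_left hH
  obtain ⟨a, ha, b, hb, hne, hab⟩ := Finset.exists_ne_map_eq_of_card_lt_of_maps_to hlt
    (f := fun g : G => (g : G ⧸ H)) (fun g _ => Finset.mem_image_of_mem _ (Finset.mem_univ g))
  have hmem : a⁻¹ * b ∈ H := QuotientGroup.eq.mp hab
  refine ⟨a⁻¹ * b, hmem, fun h => hne (inv_mul_eq_one.mp h), ?_⟩
  simp only [T, Finset.mem_insert, Finset.mem_filter, Finset.mem_univ, true_and] at ha hb
  rcases ha with rfl | ha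
  · rcases hb with rfl | hb
    · exact absurd rfl hne
    · refine ⟨b, hb, ?_⟩
      simp [CfsgLib.Invol.inv_of_orderOf_two hb, CfsgLib.Invol.mul_self_of_orderOf_two hb]
    
  · rcases hb with rfl | hb
    · refine ⟨a, ha, ?_⟩
      simp [CfsgLib.Invol.inv_of_orderOf_two ha, CfsgLib.Invol.mul_self_of_orderOf_two ha]
    · refine ⟨a, ha, ?_⟩
      rw [CfsgLib.Invol.inv_of_orderOf_two ha]
      exact (congrArg (fun z => a * (a * b) * z) (CfsgLib.Invol.inv_of_orderOf_two ha).symm).trans (CfsgLib.Invol.conj_prod ha hb)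

end Cfsg.Agent.S0240
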