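import Cfsg.Statements.S0241
import Mathlib
import Cfsg.Agent.Lib.Invol.Dihedral

set_option autoImplicit false
open Cfsg

namespace Cfsg.Agent.S0241

/-- If x ≠ 1 is conjugate to x⁻¹ in a finite group G and |C_G(x)| is odd, then some involution t satisfies t x t⁻¹ = x⁻¹. -/
theorem result {G : Type*} [Group G] [Finite G] (x : G) (hx : x ≠ 1) (hreal : IsConj x x⁻¹) (hodd : Odd (Nat.card (Subgroup.centralizer ({x} : Set G)))) : ∃ t : G, orderOf t = 2 ∧ t * x * t⁻¹ = x⁻¹ := by
  obtain ⟨g, hg⟩ := isConj_iff.mp hreal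
  have hxC : x ∈ Subgroup.centralizer ({x} : Set G) := Subgroup.mem_centralizer_singleton_iff.mpr rfl
  have hxodd : Odd (orderOf x) := hodd.of_dvd_nat (by
    simpa using orderOf_dvd_natCard (⟨x, hxC⟩ : Subgroup.centralizer ({x} : Set G)))
  obtain ⟨a, m, hm, ho⟩ := Nat.exists_eq_pow_mul_and_not_dvd (orderOf_pos g).ne' 2 (by norm_num)
  have hmo : Odd m := Nat.not_even_iff_odd.mp (fun h => hm h.two_dvd)
  have key : ∀ n : ℕ, g ^ n * x * (g ^ n)⁻¹ = if Even n then x else x⁻¹ := by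
    intro n
    induction n with
    | zero => simp
    | succ n ih =>
      rw [pow_succ', show g * g ^ n * x * (g * g ^ n)⁻¹ = g * (g ^ n * x * (g ^ n)⁻¹) * g⁻¹ by group, ih]
      by_cases hn : Even n
      · simp [hn, hg, Nat.even_add_one]
      · simp only [hn, if_false, Nat.even_add_one, not_false_iff, if_true]
        rw [show g * x⁻¹ * g⁻¹ = (g * x * g⁻¹)⁻¹ by group, hg, inv_inv]
  set t := g ^ m
  have ht : t * x * t⁻¹ = x⁻¹ := by
    simpa [Nat.not_even_iff_odd.mpr hmo] using key m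
  have ht2 : t ^ 2 ∈ Subgroup.centralizer ({x} : Set G) := by
    rw [Subgroup.mem_centralizer_singleton_iff]
    have h := key (m * 2)
    rw [if_pos (even_two.mul_left m), pow_mul] at h
    exact mul_inv_eq_iff_eq_mul.mp h
  have ht21 : t ^ 2 = 1 := by
    have h1 : orderOf (t ^ 2) ∣ 2 ^ a := by
      refine orderOf_dvd_of_pow_eq_one ?_
      rw [← pow_mul, ← pow_mul, show m * (2 * 2 ^ a) = orderOf g * 2 by rw [ho]; ring, pow_mul,
        pow_orderOf_eq_one, one_pow]
    have h2 : Odd (orderOf (t ^ 2)) := hodd.of_dvd_nat (by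
      simpa using orderOf_dvd_natCard (⟨t ^ 2, ht2⟩ : Subgroup.centralizer ({x} : Set G)))
    obtain ⟨c, -, hc⟩ := (Nat.dvd_prime_pow Nat.prime_two).mp h1
    have hc0 : c = 0 := by
      by_contra h
      rw [hc] at h2
      exact Nat.not_even_iff_odd.mpr h2 (Even.pow_of_ne_zero (by decide) h)
    rw [hc0, pow_zero] at hc
    exact orderOf_eq_one_iff.mp hc
  refine ⟨t, orderOf_eq_prime ht21 ?_, ht⟩
  intro h1
  rw [h1] at ht
  simp at ht
  exact hx (CfsgLib.Invol.eq_one_of_odd_of_sq hxodd (by rw [mul_eq_one_iff_eq_inv]; exact ht))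

end Cfsg.Agent.S0241
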