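import Cfsg.Statements.S0247
import Mathlib
import Cfsg.Agent.Lib.Classical.SympOrder

set_option autoImplicit false
set_option linter.style.haveILetI false
open Cfsg

namespace Cfsg.Agent.S0247

/-- The bilinear form on words of length six. -/
def dot6 (u v : Fin 6 → ZMod 2) : ZMod 2 := ∑ i, u i * v i

/-- The basis vectors `{0,1}, {3,4}` and `{1,2}, {4,5}`. -/
def bvec : Fin 2 ⊕ Fin 2 → Fin 6 → ZMod 2
  | .inl i => if i = 0 then ![1, 1, 0, 0, 0, 0] else ![0, 0, 0, 1, 1, 0]
  | .inr i => if i = 0 then ![0, 1, 1, 0, 0, 0] else ![0, 0, 0, 0, 1, 1]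

def crd (u : Fin 6 → ZMod 2) : Fin 2 ⊕ Fin 2 → ZMod 2
  | .inl i => dot6 u (bvec (.inr i))
  | .inr i => dot6 u (bvec (.inl i))

def lft (x : Fin 2 ⊕ Fin 2 → ZMod 2) : Fin 6 → ZMod 2 := fun j => ∑ i, x i * bvec i j

theorem lft_crd : ∀ u : Fin 6 → ZMod 2, (∑ i, u i) = 0 →
    (∀ j, lft (crd u) j = u j) ∨ (∀ j, lft (crd u) j = u j + 1) := by
  unfold lft crd dot6 bvec; decide +kernel

theorem crd_lft : ∀ x : Fin 2 ⊕ Fin 2 → ZMod 2, ∀ i, crd (lft x) i = x i := by
  unfold lft crd dot6 bvec; decide +kernel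

theorem sum_lft : ∀ x : Fin 2 ⊕ Fin 2 → ZMod 2, (∑ i, lft x i) = 0 := by
  unfold lft bvec; decide +kernel

theorem dot_lft : ∀ a b : Fin 2 ⊕ Fin 2,
    dot6 (bvec a) (bvec b) = (Matrix.J (Fin 2) (ZMod 2)) a b := by
  intro a b
  rcases a with a | a <;> rcases b with b | b <;> fin_cases a <;> fin_cases b <;>
    simp [dot6, bvec, Matrix.J, Matrix.fromBlocks, Matrix.one_apply, Fin.sum_univ_succ] <;> decide

theorem sum_bvec : ∀ a, (∑ i, bvec a i) = 0 := by unfold bvec; decide +kernel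

theorem bvec_inj : ∀ i j k l : Fin 6, i ≠ j → k ≠ l →
    (∀ a, crd (fun x => if x = i ∨ x = j then 1 else 0) a = crd (fun x => if x = k ∨ x = l then 1 else 0) a) →
    (i = k ∧ j = l) ∨ (i = l ∧ j = k) := by
  unfold crd dot6 bvec; decide +kernel

theorem crd_bvec : ∀ a b : Fin 2 ⊕ Fin 2, crd (bvec b) a = if a = b then 1 else 0 := by
  unfold crd dot6 bvec; decide +kernel

theorem crd_one : ∀ i, crd (fun _ => 1) i = 0 := by unfold crd dot6 bvec; decide +kernel

theorem dot_perm (σ : Equiv.Perm (Fin 6)) (u v : Fin 6 → ZMod 2) :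
    dot6 (u ∘ σ.symm) (v ∘ σ.symm) = dot6 u v :=
  Equiv.sum_comp σ.symm (fun i => u i * v i)

/-- The matrix of a permutation. -/
def mat (σ : Equiv.Perm (Fin 6)) : Matrix (Fin 2 ⊕ Fin 2) (Fin 2 ⊕ Fin 2) (ZMod 2) :=
  Matrix.of fun a b => crd (bvec b ∘ σ.symm) a

theorem crd_add (u v : Fin 6 → ZMod 2) : crd (fun j => u j + v j) = crd u + crd v := by
  funext a; rcases a with i | i <;> simp [crd, dot6, add_mul, Finset.sum_add_distrib]

theorem mat_mulVec (σ : Equiv.Perm (Fin 6)) (x : Fin 2 ⊕ Fin 2 → ZMod 2) :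
    (mat σ).mulVec x = crd (lft x ∘ σ.symm) := by
  funext a
  rcases a with i | i <;>
    simp only [Matrix.mulVec, dotProduct, mat, Matrix.of_apply, crd, dot6, lft, Function.comp_apply,
      Finset.sum_mul] <;>
    rw [Finset.sum_comm] <;>
    exact Finset.sum_congr rfl fun j _ => Finset.sum_congr rfl fun l _ => by ring

theorem sum_comp_perm (σ : Equiv.Perm (Fin 6)) (u : Fin 6 → ZMod 2) : ∑ i, (u ∘ σ.symm) i = ∑ i, u i :=
  Equiv.sum_comp σ.symm u

theorem crd_comp (σ : Equiv.Perm (Fin 6)) (u : Fin 6 → ZMod 2) (hu : ∑ i, u i = 0) :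
    crd (lft (crd u) ∘ σ.symm) = crd (u ∘ σ.symm) := by
  rcases lft_crd u hu with h | h
  · rw [show lft (crd u) = u from funext h]
  · rw [show lft (crd u) ∘ σ.symm = fun j => (u ∘ σ.symm) j + 1 from funext fun j => h _, crd_add,
      show crd (fun _ => (1 : ZMod 2)) = 0 from funext crd_one, add_zero]

theorem mat_mul (σ τ : Equiv.Perm (Fin 6)) : mat (σ * τ) = mat σ * mat τ := by
  refine Matrix.toLin'.injective (LinearMap.ext fun x => ?_)
  simp only [Matrix.toLin'_apply, ← Matrix.mulVec_mulVec]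
  rw [mat_mulVec, mat_mulVec, mat_mulVec, crd_comp σ _ (by rw [sum_comp_perm, sum_lft])]
  rfl

theorem dot_crd (u v : Fin 6 → ZMod 2) (hu : ∑ i, u i = 0) (hv : ∑ i, v i = 0) :
    dot6 (lft (crd u)) (lft (crd v)) = dot6 u v := by
  rcases lft_crd u hu with h | h <;> rcases lft_crd v hv with h' | h' <;>
    rw [show lft (crd u) = _ from funext h, show lft (crd v) = _ from funext h'] <;>
    simp [dot6, add_mul, mul_add, Finset.sum_add_distrib, hu, hv]
  decide

theorem mat_symp (σ : Equiv.Perm (Fin 6)) :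
    (mat σ).transpose * Matrix.J (Fin 2) (ZMod 2) * mat σ = Matrix.J (Fin 2) (ZMod 2) := by
  ext a b
  have h := dot_crd (bvec a ∘ σ.symm) (bvec b ∘ σ.symm) (by rw [sum_comp_perm, sum_bvec])
    (by rw [sum_comp_perm, sum_bvec])
  rw [dot_perm, dot_lft] at h
  rw [← h]
  have e : ∀ x y : Fin 2 ⊕ Fin 2 → ZMod 2, dot6 (lft x) (lft y) =
      ∑ c, ∑ d, x c * y d * Matrix.J (Fin 2) (ZMod 2) c d := by
    intro x y
    simp only [← dot_lft, dot6, lft, Finset.sum_mul, Finset.mul_sum]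
    conv_rhs => rw [Finset.sum_comm]
    rw [Finset.sum_comm]
    refine Finset.sum_congr rfl fun c _ => ?_
    rw [Finset.sum_comm]
    exact Finset.sum_congr rfl fun d _ => Finset.sum_congr rfl fun j _ => by ring
  rw [e]
  simp only [Matrix.mul_apply, Matrix.transpose_apply, Finset.sum_mul]
  rw [Finset.sum_comm]
  exact Finset.sum_congr rfl fun c _ => Finset.sum_congr rfl fun d _ => by
    show mat σ c a * _ * mat σ d b = mat σ c a * mat σ d b * _
    ring

theorem mat_one : mat 1 = 1 := by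
  ext a b
  rw [Matrix.one_apply, ← crd_bvec a b]
  rfl

theorem mat_injective (σ : Equiv.Perm (Fin 6)) (h : mat σ = 1) : σ = 1 := by
  have key : ∀ i j : Fin 6, i ≠ j → (σ i = i ∧ σ j = j) ∨ (σ i = j ∧ σ j = i) := by
    intro i j hij
    refine bvec_inj (σ i) (σ j) i j (fun e => hij (σ.injective e)) hij fun a => ?_
    set u : Fin 6 → ZMod 2 := fun x => if x = i ∨ x = j then 1 else 0 with hu
    have hsum : ∑ x, u x = 0 := by
      rw [hu]; revert hij; revert i j; decide +kernel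
    have h1 := crd_comp σ u hsum
    rw [← mat_mulVec, h, Matrix.one_mulVec] at h1
    rw [show (fun x => if x = σ i ∨ x = σ j then (1 : ZMod 2) else 0) = u ∘ σ.symm from funext fun x => by
      simp [hu, σ.symm_apply_eq], ← h1]
  refine Equiv.ext fun i => ?_
  obtain ⟨j, k, hij, hik, hjk⟩ : ∃ j k, i ≠ j ∧ i ≠ k ∧ j ≠ k :=
    (by decide : ∀ i : Fin 6, ∃ j k : Fin 6, i ≠ j ∧ i ≠ k ∧ j ≠ k) i
  rcases key i j hij with h1 | h1
  · exact h1.1
  · rcases key i k hik with h2 | h2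
    · exact h2.1
    · exact absurd (h1.1.symm.trans h2.1) hjk

/-- Sp_4(2) is isomorphic to the symmetric group S_6. -/
theorem result {F : Type*} [Field F] [Fintype F] (hF : Fintype.card F = 2) : Nonempty (Matrix.symplecticGroup (Fin 2) F ≃* Equiv.Perm (Fin 6)) := by
  classical
  haveI : CharP F 2 := by
    obtain ⟨p, hp⟩ := CharP.exists F
    obtain ⟨a, hpr, ha⟩ := FiniteField.card F p
    have : (2 : ℕ) = p := (Nat.prime_dvd_prime_iff_eq Nat.prime_two hpr).mp
      (Nat.prime_two.dvd_of_dvd_pow (n := (a : ℕ)) (by rw [← ha, hF]))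
    exact this ▸ hp
  let ι : ZMod 2 →+* F := ZMod.castHom (dvd_refl 2) F
  have hι : Function.Injective ι := RingHom.injective ι
  have hJ : (Matrix.J (Fin 2) (ZMod 2)).map ι = Matrix.J (Fin 2) F := by
    ext a b
    rcases a with a | a <;> rcases b with b | b <;> simp [Matrix.J, Matrix.fromBlocks, Matrix.one_apply, apply_ite ι, CharTwo.neg_eq]
  let φ : Equiv.Perm (Fin 6) →* Matrix.symplecticGroup (Fin 2) F := MonoidHom.mk'
    (fun σ => ⟨(mat σ).map ι, by
      rw [SymplecticGroup.mem_iff', ← hJ, ← Matrix.transpose_map, ← Matrix.map_mul, ← Matrix.map_mul, mat_symp]⟩)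
    (fun σ τ => Subtype.ext (by
      show (mat (σ * τ)).map ι = (mat σ).map ι * (mat τ).map ι
      rw [mat_mul, Matrix.map_mul]))
  have hinj : Function.Injective φ := (injective_iff_map_eq_one φ).mpr fun σ h => mat_injective σ (by
    apply Matrix.map_injective hι
    show (mat σ).map ι = (1 : Matrix (Fin 2 ⊕ Fin 2) (Fin 2 ⊕ Fin 2) (ZMod 2)).map ι
    rw [Matrix.map_one _ (map_zero ι) (map_one ι)]
    exact congrArg Subtype.val h)
  refine ⟨(MulEquiv.ofBijective φ (hinj.bijective_of_nat_card_le ?_)).symm⟩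
  rw [CfsgLib.Classical.SympTrans.card_symplectic, Nat.card_eq_fintype_card, hF, Nat.card_eq_fintype_card,
    Fintype.card_perm, Fintype.card_fin]
  simp [Finset.prod_range_succ, Nat.factorial]

end Cfsg.Agent.S0247
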