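import Cfsg.Statements.S0251
import Cfsg.Agent.Lib.Classical.PSLSmall

set_option autoImplicit false
open Cfsg

namespace Cfsg.Agent.S0251

/-- PSL_2(3) is isomorphic to A_4. -/
theorem result {F : Type*} [Field F] [Fintype F] (hF : Fintype.card F = 3) : Nonempty (Matrix.ProjectiveSpecialLinearGroup (Fin 2) F ≃* alternatingGroup (Fin 4)) := by
  refine CfsgLib.Classical.PSL_two_equiv_alternating (by omega) ?_
  have h := CfsgLib.Classical.card_PSL_two (F := F)
  rw [hF, show Nat.gcd 2 (3 - 1) = 2 by decide] at h
  rw [h]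
  decide

end Cfsg.Agent.S0251
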