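import Cfsg.Statements.S0258
import Cfsg.Agent.Lib.SL2.Unipotent

set_option autoImplicit false
open Cfsg

namespace Cfsg.Agent.S0258

/-- GL_2(q), q a power of the prime p, has exactly q + 1 Sylow p-subgroups. -/
theorem result {F : Type*} [Field F] [Fintype F] {q : ℕ} (hF : Fintype.card F = q) (p : ℕ) [Fact p.Prime] [CharP F p] : Nat.card (Sylow p (Matrix.GeneralLinearGroup (Fin 2) F)) = q + 1 := by
  subst hF
  obtain ⟨P⟩ := (inferInstance : Nonempty (Sylow p (Matrix.GeneralLinearGroup (Fin 2) F)))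
  have h := (Subgroup.normalizer ((P : Subgroup (Matrix.GeneralLinearGroup (Fin 2) F)) : Set (Matrix.GeneralLinearGroup (Fin 2) F))).card_mul_index
  have hidx : (Subgroup.normalizer ((P : Subgroup (Matrix.GeneralLinearGroup (Fin 2) F)) : Set (Matrix.GeneralLinearGroup (Fin 2) F))).index = Nat.card (Sylow p (Matrix.GeneralLinearGroup (Fin 2) F)) :=
    P.card_eq_index_normalizer.symm
  rw [hidx, CfsgLib.SL2.card_normalizer_sylow_GL p P,
    CfsgLib.Classical.card_GL_eq_mul_card_SL, Nat.card_units, Nat.card_eq_fintype_card (α := F),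
    CfsgLib.Classical.card_SL_two] at h
  have hq : 1 < Fintype.card F := Fintype.one_lt_card
  have e : Fintype.card F ^ 2 - 1 = (Fintype.card F + 1) * (Fintype.card F - 1) := by
    rw [← Nat.sq_sub_sq, one_pow]
  rw [e] at h
  refine Nat.eq_of_mul_eq_mul_left (n := Fintype.card F * (Fintype.card F - 1) ^ 2)
    (Nat.mul_pos (by omega) (pow_pos (by omega) _)) ?_
  rw [h]
  ring

end Cfsg.Agent.S0258
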