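import Cfsg.Statements.S0259
import Cfsg.Agent.Lib.SL2.Unipotent

set_option autoImplicit false
open Cfsg

namespace Cfsg.Agent.S0259

/-- Distinct Sylow p-subgroups of GL_2(q), p the characteristic, intersect trivially. -/
theorem result {F : Type*} [Field F] [Fintype F] (p : ℕ) [Fact p.Prime] [CharP F p] (P Q : Sylow p (Matrix.GeneralLinearGroup (Fin 2) F)) (h : P ≠ Q) : (P : Subgroup (Matrix.GeneralLinearGroup (Fin 2) F)) ⊓ (Q : Subgroup (Matrix.GeneralLinearGroup (Fin 2) F)) = ⊥ := by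
  set G := Matrix.GeneralLinearGroup (Fin 2) F
  rw [eq_bot_iff]
  intro x hx
  rw [Subgroup.mem_bot]
  by_contra hx1
  apply h
  obtain ⟨g, hg⟩ := CfsgLib.SL2.exists_conj_upperGL p P
  obtain ⟨k, hk⟩ := CfsgLib.SL2.exists_conj_upperGL p Q
  rw [hg, hk] at hx
  obtain ⟨⟨_, ⟨b, rfl⟩, rfl⟩, ⟨_, ⟨c, rfl⟩, hc⟩⟩ := hx
  change k * CfsgLib.SL2.upperHomGL c * k⁻¹ = g * CfsgLib.SL2.upperHomGL b * g⁻¹ at hc
  have hb : b ≠ 1 := by
    rintro rfl
    exact hx1 (by simp)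
  have hc1 : c ≠ 1 := by
    rintro rfl
    apply hx1
    show g * CfsgLib.SL2.upperHomGL b * g⁻¹ = 1
    rw [← hc]
    simp
  have h10 : ((g⁻¹ * k : G) : Matrix (Fin 2) (Fin 2) F) 1 0 = 0 := by
    refine CfsgLib.SL2.apply_one_zero_of_conj (g⁻¹ * k) hc1 (c := b) ?_
    calc g⁻¹ * k * CfsgLib.SL2.upperHomGL c * (g⁻¹ * k)⁻¹
        = g⁻¹ * (k * CfsgLib.SL2.upperHomGL c * k⁻¹) * g := by group
      _ = CfsgLib.SL2.upperHomGL b := by rw [hc]; group
  have hn : g⁻¹ * k ∈ Subgroup.normalizer ((CfsgLib.SL2.upperHomGL (F := F)).range : Set G) := by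
    rw [CfsgLib.SL2.normalizer_upperGL]
    exact h10
  apply Sylow.ext
  rw [hg, hk]
  have e := Subgroup.mem_normalizer_iff_map_conj_eq.mp hn
  conv_lhs => rw [← e]
  rw [Subgroup.map_map]
  congr 1
  ext z
  simp [mul_assoc]

end Cfsg.Agent.S0259
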