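import Cfsg.Statements.S0260
import Cfsg.Agent.Lib.SL2.Unipotent

set_option autoImplicit false
open Cfsg

namespace Cfsg.Agent.S0260

/-- Any two distinct Sylow p-subgroups of SL_2(q), p the characteristic, generate SL_2(q). -/
theorem result {F : Type*} [Field F] [Fintype F] (p : ℕ) [Fact p.Prime] [CharP F p] (P Q : Sylow p (Matrix.SpecialLinearGroup (Fin 2) F)) (h : P ≠ Q) : (P : Subgroup (Matrix.SpecialLinearGroup (Fin 2) F)) ⊔ (Q : Subgroup (Matrix.SpecialLinearGroup (Fin 2) F)) = ⊤ := by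
  set G := Matrix.SpecialLinearGroup (Fin 2) F
  obtain ⟨g, hg⟩ := CfsgLib.SL2.exists_conj_upperSL p P
  obtain ⟨k, hk⟩ := CfsgLib.SL2.exists_conj_upperSL p Q
  have hk10 : ((g⁻¹ * k : G) : Matrix (Fin 2) (Fin 2) F) 1 0 ≠ 0 := by
    intro h10
    apply h
    apply Sylow.ext
    have hn : Matrix.SpecialLinearGroup.toGL (g⁻¹ * k) ∈
        Subgroup.normalizer ((CfsgLib.SL2.upperHomGL (F := F)).range : Set (Matrix.GeneralLinearGroup (Fin 2) F)) := by
      rw [CfsgLib.SL2.normalizer_upperGL]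
      exact h10
    rw [hg, hk]
    refine (Subgroup.eq_of_le_of_card_ge ?_ ?_).symm
    · rintro _ ⟨_, ⟨c, rfl⟩, rfl⟩
      obtain ⟨b, hb⟩ := (Subgroup.mem_normalizer_iff.mp hn (CfsgLib.SL2.upperHomGL c)).mp ⟨c, rfl⟩
      refine ⟨CfsgLib.SL2.upperHom b, ⟨b, rfl⟩, ?_⟩
      have hb' : CfsgLib.SL2.upperHom b = g⁻¹ * k * CfsgLib.SL2.upperHom c * (g⁻¹ * k)⁻¹ := by
        apply CfsgLib.Classical.toGL_injective'
        simpa [CfsgLib.SL2.upperHomGL] using hb
      show g * CfsgLib.SL2.upperHom b * g⁻¹ = k * CfsgLib.SL2.upperHom c * k⁻¹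
      rw [hb']
      group
    · rw [Subgroup.card_map_of_injective (MulAut.conj g).injective,
        Subgroup.card_map_of_injective (MulAut.conj k).injective]
  have key : ((P : Subgroup G) ⊔ (Q : Subgroup G)).comap (MulAut.conj g).toMonoidHom = ⊤ := by
    refine CfsgLib.SL2.eq_top_of_upper_and_conj _ (g⁻¹ * k) hk10 (fun b => ?_) (fun b => ?_)
    · rw [Subgroup.mem_comap]
      exact Subgroup.mem_sup_left (hg ▸ ⟨_, ⟨b, rfl⟩, rfl⟩)
    · rw [Subgroup.mem_comap]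
      refine Subgroup.mem_sup_right ?_
      rw [hk]
      refine ⟨_, ⟨b, rfl⟩, ?_⟩
      show k * CfsgLib.SL2.upperHom b * k⁻¹ = g * (g⁻¹ * k * CfsgLib.SL2.upperHom b * (g⁻¹ * k)⁻¹) * g⁻¹
      group
  rw [← Subgroup.map_comap_eq_self_of_surjective (f := (MulAut.conj g).toMonoidHom) (MulAut.conj g).surjective
    ((P : Subgroup G) ⊔ (Q : Subgroup G)), key, Subgroup.map_top_of_surjective _ (MulAut.conj g).surjective]

end Cfsg.Agent.S0260
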