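import Cfsg.Statements.S0264
import Cfsg.Agent.Lib.Classical.Transvection
import Cfsg.Agent.Lib.Classical.Card

set_option autoImplicit false
open Cfsg
open scoped commutatorElement

namespace Cfsg.Agent.S0264

/-- GL_n(F)' = SL_n(F) (as the kernel of det), for every field F and every n, except n = 2 over the field of two elements. -/
theorem result {F : Type*} [Field F] (n : ℕ) (h : n = 2 → ∃ a : F, a ≠ 0 ∧ a ≠ 1) : commutator (Matrix.GeneralLinearGroup (Fin n) F) = (Matrix.GeneralLinearGroup.det : Matrix.GeneralLinearGroup (Fin n) F →* Fˣ).ker := by
  classical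
  refine le_antisymm (Abelianization.commutator_subset_ker _) ?_
  rw [← CfsgLib.Classical.range_toGL_eq_ker_det]
  rcases Nat.lt_or_ge n 2 with hlt | hge
  · rintro _ ⟨A, rfl⟩
    have : Subsingleton (Fin n) := Fin.subsingleton_iff_le_one.mpr (by omega)
    have hA : A = 1 := Subsingleton.elim _ _
    rw [hA, map_one]
    exact one_mem _
  have : Nontrivial (Fin n) := Fin.nontrivial_iff_two_le.mpr hge
  have key : (commutator (Matrix.GeneralLinearGroup (Fin n) F)).comap Matrix.SpecialLinearGroup.toGL = ⊤ := by
    refine CfsgLib.Classical.eq_top_of_transvection_mem _ fun i j hij c => ?_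
    rw [Subgroup.mem_comap]
    by_cases h3 : 3 ≤ n
    · have hm : Matrix.SpecialLinearGroup.transvection hij c ∈ commutator (Matrix.SpecialLinearGroup (Fin n) F) := by
        rw [commutator_eq_closure]
        exact Subgroup.subset_closure (CfsgLib.Classical.transvection_mem_commutatorSet
          (Or.inl (by simpa using h3)) hij c)
      have hle : (commutator (Matrix.SpecialLinearGroup (Fin n) F)).map Matrix.SpecialLinearGroup.toGL
          ≤ commutator (Matrix.GeneralLinearGroup (Fin n) F) := by
        rw [commutator_def, commutator_def, Subgroup.map_commutator]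
        exact Subgroup.commutator_mono le_top le_top
      exact hle ⟨_, hm, rfl⟩
    · obtain ⟨a, ha0, ha1⟩ := h (by omega)
      let D : Fin n → F := fun k => if k = i then a else 1
      have hD : IsUnit (Matrix.diagonal D).det := by
        rw [Matrix.det_diagonal, Finset.prod_ite_eq' Finset.univ i (fun _ => a)]
        simp [ha0]
      let d : Matrix.GeneralLinearGroup (Fin n) F := Matrix.GeneralLinearGroup.mk'' (Matrix.diagonal D) hD
      set b : F := c / (a - 1) with hb
      set T : F → Matrix.GeneralLinearGroup (Fin n) F :=
        fun y => Matrix.SpecialLinearGroup.toGL (Matrix.SpecialLinearGroup.transvection hij y) with hT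
      have hcomm : d * T b = T (a * b) * d := by
        apply Units.ext
        show Matrix.diagonal D * Matrix.transvection i j b = Matrix.transvection i j (a * b) * Matrix.diagonal D
        ext k l
        rw [Matrix.diagonal_mul, Matrix.mul_diagonal]
        simp only [Matrix.transvection, Matrix.add_apply, Matrix.one_apply, Matrix.single_apply, D]
        by_cases hkl : k = l
        · subst hkl
          have : ¬ (i = k ∧ j = k) := fun hh => hij (hh.1.trans hh.2.symm)
          simp [this, mul_comm]
        · by_cases hp : i = k ∧ j = l
          · obtain ⟨rfl, rfl⟩ := hp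
            simp [hij, hij.symm]
          · simp [hkl, hp]
      have hadd : T (a * b) = T c * T b := by
        rw [hT]
        simp only
        rw [← map_mul, ← Matrix.SpecialLinearGroup.transvection_add, hb]
        congr 2
        field_simp [sub_ne_zero.mpr ha1]
        ring
      have hc : T c = ⁅d, T b⁆ := by
        rw [commutatorElement_def, hcomm, hadd]
        group
      show T c ∈ _
      rw [hc]
      exact Subgroup.commutator_mem_commutator (Subgroup.mem_top _) (Subgroup.mem_top _)
  rintro _ ⟨A, rfl⟩
  exact (SetLike.ext_iff.mp key A).mpr (Subgroup.mem_top A)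

end Cfsg.Agent.S0264
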