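import Cfsg.Statements.S0267
import Mathlib
import Cfsg.Agent.Lib.Classical.ThreePoints

set_option autoImplicit false
open Cfsg

namespace Cfsg.Agent.S0267

/-- SL_2(q) is 3-transitive on the q+1 points of the projective line if and only if q is even. -/
theorem result {F : Type*} [Field F] [Fintype F] : MulAction.IsMultiplyPretransitive (Matrix.SpecialLinearGroup (Fin 2) F) (Projectivization F (Fin 2 → F)) 3 ↔ ringChar F = 2 := by
  classical
  constructor
  · intro h
    by_contra h2
    obtain ⟨α, hα⟩ := FiniteField.exists_nonsquare h2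
    have hα0 : α ≠ 0 := fun e => hα (e ▸ IsSquare.zero)
    have hne : ∀ {u v : Fin 2 → F} (hu : u ≠ 0) (hv : v ≠ 0),
        u 0 * v 1 ≠ u 1 * v 0 → Projectivization.mk F u hu ≠ Projectivization.mk F v hv := by
      intro u v hu hv hd e
      obtain ⟨t, ht⟩ := (Projectivization.mk_eq_mk_iff' _ _ _ _ _).mp e
      apply hd
      rw [← ht]; simp; ring
    let x : Fin 3 → Projectivization F (Fin 2 → F) :=
      ![Projectivization.mk F ![(1 : F), 0] (by simp), Projectivization.mk F ![(0 : F), 1] (by simp),
        Projectivization.mk F ![(1 : F), 1] (by simp)]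
    let y : Fin 3 → Projectivization F (Fin 2 → F) :=
      ![Projectivization.mk F ![(1 : F), 0] (by simp), Projectivization.mk F ![(0 : F), 1] (by simp),
        Projectivization.mk F ![(1 : F), α] (by simp)]
    have hxi : Function.Injective x := by
      intro i j e
      fin_cases i <;> fin_cases j <;> first
        | rfl
        | exact absurd e (hne _ _ (by simp))
    have hyi : Function.Injective y := by
      intro i j e
      fin_cases i <;> fin_cases j <;> first
        | rfl
        | exact absurd e (hne _ _ (by simp [hα0, eq_comm]))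
    obtain ⟨g, hg⟩ := MulAction.isMultiplyPretransitive_iff.mp h ⟨x, hxi⟩ ⟨y, hyi⟩
    have e0 : g • x 0 = y 0 := congrArg (fun f : Fin 3 ↪ _ => f 0) hg
    have e1 : g • x 1 = y 1 := congrArg (fun f : Fin 3 ↪ _ => f 1) hg
    have e2 : g • x 2 = y 2 := congrArg (fun f : Fin 3 ↪ _ => f 2) hg
    simp only [x, y, Matrix.cons_val_zero, Matrix.cons_val_one, Matrix.cons_val] at e0 e1 e2
    rw [Projectivization.smul_mk, Projectivization.mk_eq_mk_iff'] at e0 e1 e2
    obtain ⟨a, ha⟩ := e0
    obtain ⟨b, hb⟩ := e1
    obtain ⟨c, hc⟩ := e2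
    have a0 : a = (g : Matrix (Fin 2) (Fin 2) F) 0 0 := by
      simpa [Matrix.SpecialLinearGroup.smul_def, Matrix.mulVec, dotProduct, Fin.sum_univ_two] using congrFun ha 0
    have a1 : 0 = (g : Matrix (Fin 2) (Fin 2) F) 1 0 := by
      simpa [Matrix.SpecialLinearGroup.smul_def, Matrix.mulVec, dotProduct, Fin.sum_univ_two] using congrFun ha 1
    have b0 : 0 = (g : Matrix (Fin 2) (Fin 2) F) 0 1 := by
      simpa [Matrix.SpecialLinearGroup.smul_def, Matrix.mulVec, dotProduct, Fin.sum_univ_two] using congrFun hb 0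
    have c0 : c = (g : Matrix (Fin 2) (Fin 2) F) 0 0 + (g : Matrix (Fin 2) (Fin 2) F) 0 1 := by
      simpa [Matrix.SpecialLinearGroup.smul_def, Matrix.mulVec, dotProduct, Fin.sum_univ_two] using congrFun hc 0
    have c1 : c * α = (g : Matrix (Fin 2) (Fin 2) F) 1 0 + (g : Matrix (Fin 2) (Fin 2) F) 1 1 := by
      simpa [Matrix.SpecialLinearGroup.smul_def, Matrix.mulVec, dotProduct, Fin.sum_univ_two] using congrFun hc 1
    have hd := g.2
    rw [Matrix.det_fin_two, ← a1, ← b0] at hd
    rw [← b0, add_zero] at c0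
    rw [← a1, zero_add] at c1
    rw [← c1, ← c0] at hd
    have hc0 : c ≠ 0 := fun e => by simp [e] at hd
    exact hα ⟨c⁻¹, by field_simp; linear_combination hd⟩
  · intro h2
    refine MulAction.isMultiplyPretransitive_iff.mpr fun x y => ?_
    obtain ⟨g, g0, g1, g2⟩ := CfsgLib.ThreePoints.exists_frame (x 0) (x 1) (x 2)
      (fun h => by simpa using x.injective h) (fun h => by simpa using x.injective h)
      (fun h => by simpa using x.injective h)
    obtain ⟨k, k0, k1, k2⟩ := CfsgLib.ThreePoints.exists_frame (y 0) (y 1) (y 2)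
      (fun h => by simpa using y.injective h) (fun h => by simpa using y.injective h)
      (fun h => by simpa using y.injective h)
    set M := ((k * g⁻¹ : GL (Fin 2) F) : Matrix (Fin 2) (Fin 2) F) with hM
    have hdet : M.det ≠ 0 := (Matrix.isUnit_iff_isUnit_det M |>.mp (Units.isUnit _)).ne_zero
    obtain ⟨r, hr⟩ := FiniteField.isSquare_of_char_two h2 M.det⁻¹
    have hr0 : r ≠ 0 := fun e => by rw [e, mul_zero] at hr; exact inv_ne_zero hdet hr
    let S : Matrix.SpecialLinearGroup (Fin 2) F :=
      ⟨r • M, by rw [Matrix.det_smul, Fintype.card_fin, sq, ← hr, inv_mul_cancel₀ hdet]⟩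
    refine ⟨S, Function.Embedding.ext fun i => ?_⟩
    have key : ∀ p : Projectivization F (Fin 2 → F), S • p = (k * g⁻¹) • p := by
      intro p
      induction p using Projectivization.ind with | _ v hv =>
      rw [Projectivization.smul_mk, Projectivization.smul_mk, Projectivization.mk_eq_mk_iff']
      refine ⟨r, ?_⟩
      show r • Matrix.mulVec M v = Matrix.mulVec (r • M) v
      rw [Matrix.smul_mulVec]
    show S • x i = y i
    rw [key]
    fin_cases i
    · show (k * g⁻¹) • x 0 = y 0
      rw [← g0, mul_smul, inv_smul_smul, k0]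
    · show (k * g⁻¹) • x 1 = y 1
      rw [← g1, mul_smul, inv_smul_smul, k1]
    · show (k * g⁻¹) • x 2 = y 2
      rw [← g2, mul_smul, inv_smul_smul, k2]

end Cfsg.Agent.S0267
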