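import Cfsg.Statements.S0268
import Cfsg.Agent.Lib.Classical.Card

set_option autoImplicit false
open Cfsg

namespace Cfsg.Agent.S0268

/-- For q odd, -1 is the unique involution of SL_2(q). -/
theorem result {F : Type*} [Field F] [Fintype F] (hF : Odd (Fintype.card F)) (g : Matrix.SpecialLinearGroup (Fin 2) F) (h1 : g ≠ 1) (h2 : g * g = 1) : (g : Matrix (Fin 2) (Fin 2) F) = -1 := by
  have h2' : (2 : F) ≠ 0 := Ring.two_ne_zero (fun h => by
    have : CharP F 2 := ringChar.eq_iff.mp h
    obtain ⟨k, -, hk⟩ := FiniteField.card F 2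
    rw [hk, Nat.odd_pow_iff k.pos.ne'] at hF
    exact absurd hF (by decide))
  have hinv : g⁻¹ = g := inv_eq_of_mul_eq_one_left h2
  have hm : Matrix.adjugate (g : Matrix (Fin 2) (Fin 2) F) = g := by
    conv_rhs => rw [← hinv]
    exact (Matrix.SpecialLinearGroup.coe_inv g).symm
  rw [Matrix.adjugate_fin_two] at hm
  set a : F := (g : Matrix (Fin 2) (Fin 2) F) 0 0 with ha
  set b : F := (g : Matrix (Fin 2) (Fin 2) F) 0 1 with hb
  set c : F := (g : Matrix (Fin 2) (Fin 2) F) 1 0 with hc
  set d : F := (g : Matrix (Fin 2) (Fin 2) F) 1 1 with hd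
  have e00 : d = a := congrFun (congrFun hm 0) 0
  have e01 : -b = b := congrFun (congrFun hm 0) 1
  have e10 : -c = c := congrFun (congrFun hm 1) 0
  have hb0 : b = 0 := by
    have : (2 : F) * b = 0 := by linear_combination -e01
    exact (mul_eq_zero.mp this).resolve_left h2'
  have hc0 : c = 0 := by
    have : (2 : F) * c = 0 := by linear_combination -e10
    exact (mul_eq_zero.mp this).resolve_left h2'
  have hdet : a * d - b * c = 1 := by
    have h := Matrix.SpecialLinearGroup.det_coe g
    rw [Matrix.det_fin_two] at h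
    exact h
  rw [hb0, e00, zero_mul, sub_zero] at hdet
  rcases mul_self_eq_one_iff.mp hdet with h | h
  · exfalso
    apply h1
    apply Subtype.ext
    ext i j
    fin_cases i <;> fin_cases j <;> simp [← ha, ← hb, ← hc, ← hd, h, e00, hb0, hc0]
  · ext i j
    fin_cases i <;> fin_cases j <;> simp [← ha, ← hb, ← hc, ← hd, h, e00, hb0, hc0]

end Cfsg.Agent.S0268
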