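import Cfsg.Statements.S0273
import Cfsg.Agent.Lib.SL2.Unipotent

set_option autoImplicit false
open Cfsg

namespace Cfsg.Agent.S0273

/-- In GL_2(q) the centraliser of a non-trivial element of a Sylow p-subgroup (p the characteristic) has order q (q-1): the Sylow subgroup times the scalars. -/
theorem result {F : Type*} [Field F] [Fintype F] {q : ℕ} (hF : Fintype.card F = q) (p : ℕ) [Fact p.Prime] [CharP F p] (P : Sylow p (Matrix.GeneralLinearGroup (Fin 2) F)) (a : Matrix.GeneralLinearGroup (Fin 2) F) (ha : a ∈ P) (ha1 : a ≠ 1) : Nat.card (Subgroup.centralizer ({a} : Set (Matrix.GeneralLinearGroup (Fin 2) F))) = q * (q - 1) := by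
  subst hF
  classical
  obtain ⟨g, hg⟩ := CfsgLib.SL2.exists_conj_upperGL p P
  have ha' : a ∈ (P : Subgroup (Matrix.GeneralLinearGroup (Fin 2) F)) := ha
  rw [hg] at ha'
  obtain ⟨_, ⟨b, rfl⟩, hab⟩ := ha'
  have hb : b.toAdd ≠ 0 := by
    intro h
    have h' : b = 1 := h
    apply ha1
    rw [← hab, h']
    simp
  have e : Subgroup.centralizer ({a} : Set (Matrix.GeneralLinearGroup (Fin 2) F)) =
      (Subgroup.centralizer ({CfsgLib.SL2.upperHomGL b} : Set (Matrix.GeneralLinearGroup (Fin 2) F))).map (MulAut.conj g).toMonoidHom := by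
    rw [← hab]
    ext x
    constructor
    · intro hx
      refine ⟨g⁻¹ * x * g, ?_, by simp [mul_assoc]⟩
      rw [SetLike.mem_coe, Subgroup.mem_centralizer_singleton_iff] at *
      have hx' : x * (g * CfsgLib.SL2.upperHomGL b * g⁻¹) = g * CfsgLib.SL2.upperHomGL b * g⁻¹ * x := hx
      calc g⁻¹ * x * g * CfsgLib.SL2.upperHomGL b = g⁻¹ * (x * (g * CfsgLib.SL2.upperHomGL b * g⁻¹)) * g := by group
        _ = CfsgLib.SL2.upperHomGL b * (g⁻¹ * x * g) := by rw [hx']; group
    · rintro ⟨y, hy, rfl⟩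
      rw [SetLike.mem_coe, Subgroup.mem_centralizer_singleton_iff] at *
      show g * y * g⁻¹ * (g * CfsgLib.SL2.upperHomGL b * g⁻¹) = g * CfsgLib.SL2.upperHomGL b * g⁻¹ * (g * y * g⁻¹)
      calc g * y * g⁻¹ * (g * CfsgLib.SL2.upperHomGL b * g⁻¹) = g * (y * CfsgLib.SL2.upperHomGL b) * g⁻¹ := by group
        _ = g * CfsgLib.SL2.upperHomGL b * g⁻¹ * (g * y * g⁻¹) := by rw [hy]; group
  rw [e, Subgroup.card_map_of_injective (MulAut.conj g).injective]
  rw [← Fintype.card_units, ← Nat.card_eq_fintype_card, ← Nat.card_eq_fintype_card, ← Nat.card_prod]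
  have hmem : ∀ y : (Matrix.GeneralLinearGroup (Fin 2) F), y ∈ Subgroup.centralizer ({CfsgLib.SL2.upperHomGL b} : Set (Matrix.GeneralLinearGroup (Fin 2) F)) →
      (y : Matrix (Fin 2) (Fin 2) F) 1 0 = 0 ∧
      (y : Matrix (Fin 2) (Fin 2) F) 0 0 = (y : Matrix (Fin 2) (Fin 2) F) 1 1 := by
    intro y hy
    rw [Subgroup.mem_centralizer_singleton_iff] at hy
    have h := congrArg Units.val hy
    rw [Units.val_mul, Units.val_mul, CfsgLib.SL2.upperHomGL_coe] at h
    have h1 := congrFun (congrFun h (0 : Fin 2)) (0 : Fin 2)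
    have h2 := congrFun (congrFun h (0 : Fin 2)) (1 : Fin 2)
    simp [Matrix.mul_apply, hb] at h1 h2
    refine ⟨h1, mul_right_cancel₀ hb ?_⟩
    linear_combination h2
  have hne : ∀ y : Subgroup.centralizer ({CfsgLib.SL2.upperHomGL b} : Set (Matrix.GeneralLinearGroup (Fin 2) F)),
      ((y : (Matrix.GeneralLinearGroup (Fin 2) F)) : Matrix (Fin 2) (Fin 2) F) 0 0 ≠ 0 := by
    intro y h0
    have hd := ((Matrix.isUnit_iff_isUnit_det _).mp (y : (Matrix.GeneralLinearGroup (Fin 2) F)).isUnit).ne_zero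
    rw [Matrix.det_fin_two, (hmem _ y.2).1, h0] at hd
    simp at hd
  refine Nat.card_eq_of_bijective (fun y => (((y : (Matrix.GeneralLinearGroup (Fin 2) F)) : Matrix (Fin 2) (Fin 2) F) 0 1, Units.mk0 _ (hne y))) ⟨?_, ?_⟩
  · intro y z hyz
    simp only [Prod.mk.injEq, Units.mk0_inj] at hyz
    apply Subtype.ext
    apply Units.ext
    ext i j
    fin_cases i <;> fin_cases j
    · exact hyz.2
    · exact hyz.1
    · exact (hmem _ y.2).1.trans (hmem _ z.2).1.symm
    · exact ((hmem _ y.2).2.symm.trans hyz.2).trans (hmem _ z.2).2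
  · rintro ⟨d, u⟩
    have hu : IsUnit (!![(u : F), d; 0, (u : F)]).det := by
      rw [Matrix.det_fin_two_of]
      simp
    refine ⟨⟨Matrix.GeneralLinearGroup.mk'' _ hu, ?_⟩, ?_⟩
    · rw [Subgroup.mem_centralizer_singleton_iff]
      apply Units.ext
      rw [Units.val_mul, Units.val_mul, CfsgLib.SL2.upperHomGL_coe]
      show !![(u : F), d; 0, (u : F)] * _ = _ * !![(u : F), d; 0, (u : F)]
      rw [Matrix.mul_fin_two, Matrix.mul_fin_two]
      ext i j
      fin_cases i <;> fin_cases j <;> simp <;> ring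
    · simp only [Prod.mk.injEq]
      exact ⟨rfl, Units.ext rfl⟩

end Cfsg.Agent.S0273
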