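import Cfsg.Statements.S0279
import Cfsg.Agent.Lib.FormRep.Unitary

set_option autoImplicit false
open Cfsg

namespace Cfsg.Agent.S0279

/-- The centre of SU_n(q), n at least 3, has order gcd(n, q+1). -/
theorem result {F : Type*} [Field F] [Fintype F] {q : ℕ} (hF : Fintype.card F = q ^ 2) (n : ℕ) (hn : 3 ≤ n) : Nat.card (Subgroup.center (Cfsg.SU n F q)) = Nat.gcd n (q + 1) := by
  classical
  obtain ⟨p, hp⟩ := CharP.exists F
  have hpp : p.Prime := CharP.char_is_prime F p
  have := Fact.mk hpp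
  obtain ⟨k, -, hk⟩ := FiniteField.card F p
  obtain ⟨a, ha⟩ : ∃ a, q = p ^ a := by
    obtain ⟨a, -, ha⟩ := (Nat.dvd_prime_pow hpp).1 (hk ▸ hF ▸ dvd_pow_self q two_ne_zero : q ∣ p ^ (k : ℕ))
    exact ⟨a, ha⟩
  obtain ⟨σ, hσp⟩ := CfsgLib.FormRep.exists_powEquiv (F := F) F p hpp a
  have hσq : ∀ c, σ c = c ^ q := fun c => by rw [ha]; exact hσp c
  have hσ : ∀ c, σ (σ c) = c := fun c => by
    rw [hσq, hσq, ← pow_mul, ← sq, ← hF, FiniteField.pow_card]
  set o : Fin n := ⟨0, by omega⟩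
  have hmem : ∀ g : Subgroup.center (Cfsg.SU n F q), ∃ c : F,
      (g.1.1 : Matrix (Fin n) (Fin n) F) = c • 1 :=
    fun g => (CfsgLib.FormRep.Unitary.center_iff hn hF σ hσq hσ g.1).1 g.2
  have hcoef : ∀ g : Subgroup.center (Cfsg.SU n F q), (g.1.1 : Matrix (Fin n) (Fin n) F) =
      (g.1.1 : Matrix (Fin n) (Fin n) F) o o • 1 := fun g => by
    obtain ⟨c, hc⟩ := hmem g; simp [hc]
  have hne : ∀ g : Subgroup.center (Cfsg.SU n F q), (g.1.1 : Matrix (Fin n) (Fin n) F) o o ≠ 0 := by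
    intro g h
    have h1 := g.1.1.2
    rw [hcoef g, h] at h1
    have : Nonempty (Fin n) := ⟨o⟩
    simp at h1
  let f : Subgroup.center (Cfsg.SU n F q) →* Fˣ :=
    { toFun := fun g => Units.mk0 _ (hne g)
      map_one' := by ext; simp
      map_mul' := fun g h => by
        ext
        show ((g.1.1 : Matrix (Fin n) (Fin n) F) * h.1.1) o o =
          (g.1.1 : Matrix (Fin n) (Fin n) F) o o * (h.1.1 : Matrix (Fin n) (Fin n) F) o o
        conv_lhs => rw [hcoef g, Matrix.smul_mul, Matrix.one_mul]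
        simp }
  have hf : Function.Injective f := fun g h e => by
    refine Subtype.ext (Subtype.ext (Subtype.ext ?_))
    rw [hcoef g, hcoef h, show (g.1.1 : Matrix (Fin n) (Fin n) F) o o = _ from congrArg Units.val e]
    rfl
  have hrange : f.range = (powMonoidHom (Nat.gcd n (q + 1)) : Fˣ →* Fˣ).ker := by
    ext c
    rw [MonoidHom.mem_ker, powMonoidHom_apply, pow_gcd_eq_one, MonoidHom.mem_range]
    have key : ∀ d : F, (∃ g : Subgroup.center (Cfsg.SU n F q),
        (g.1.1 : Matrix (Fin n) (Fin n) F) o o = d) ↔ d ^ n = 1 ∧ d ^ (q + 1) = 1 := by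
      intro d
      constructor
      · rintro ⟨g, rfl⟩
        have h1 := g.1.1.2
        have h2 := (CfsgLib.FormRep.Unitary.mem_SU_iff σ hσq hσ).1 g.1.2
        refine ⟨?_, ?_⟩
        · rw [hcoef g] at h1; simpa using h1
        · rw [hcoef g, (CfsgLib.FormRep.adjU σ hσ (Fin n)).ad_smul,
            (CfsgLib.FormRep.adjU σ hσ (Fin n)).ad_one, smul_mul_smul_comm, one_mul] at h2
          have h3 := congrFun (congrFun h2 o) o
          simp only [Matrix.smul_apply, Matrix.one_apply_eq, smul_eq_mul, mul_one] at h3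
          rw [pow_succ, ← hσq]; exact h3
      · rintro ⟨h1, h2⟩
        obtain ⟨g, hg⟩ := (CfsgLib.FormRep.Unitary.model hn hF σ hσq hσ).mem (d • 1)
          (by rw [(CfsgLib.FormRep.adjU σ hσ (Fin n)).ad_smul,
            (CfsgLib.FormRep.adjU σ hσ (Fin n)).ad_one, smul_mul_smul_comm, one_mul,
            show (CfsgLib.FormRep.adjU σ hσ (Fin n)).σ d * d = 1 by
              show σ d * d = 1
              rw [hσq, ← pow_succ, h2], one_smul])
          (by rw [Matrix.det_smul, Matrix.det_one, mul_one, Fintype.card_fin, h1])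
        refine ⟨⟨g, (CfsgLib.FormRep.Unitary.center_iff hn hF σ hσq hσ g).2 ⟨d, hg⟩⟩, ?_⟩
        show (g.1 : Matrix (Fin n) (Fin n) F) o o = d
        rw [show (g.1 : Matrix (Fin n) (Fin n) F) = d • 1 from hg]
        simp
    rw [show (∃ g, f g = c) ↔ ∃ g : Subgroup.center (Cfsg.SU n F q),
      (g.1.1 : Matrix (Fin n) (Fin n) F) o o = (c : F) from exists_congr fun g => Units.ext_iff]
    rw [key]
    simp [Units.ext_iff]
  rw [Nat.card_congr (MonoidHom.ofInjective hf).toEquiv, hrange, IsCyclic.card_powMonoidHom_ker,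
    Nat.card_units, Nat.card_eq_fintype_card]
  refine Nat.gcd_eq_right ((Nat.gcd_dvd_right n (q + 1)).trans ⟨q - 1, ?_⟩)
  rw [hF, ← Nat.sq_sub_sq q 1, one_pow]

end Cfsg.Agent.S0279
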