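import Cfsg.Statements.S0289
import Mathlib
import Cfsg.Agent.Lib.Classical.ZeroCount

set_option autoImplicit false
open Cfsg

namespace Cfsg.Agent.S0289

/-- The hyperbolic quadratic form on F^(2m), m at least 1, has q^(2m-1) + q^m - q^(m-1) zeros (that is, (q^m - 1)(q^(m-1) + 1) non-zero isotropic vectors). -/
theorem result {F : Type*} [Field F] [Fintype F] {q : ℕ} (hF : Fintype.card F = q) (m : ℕ) (hm : 1 ≤ m) : Nat.card {v : Fin m ⊕ Fin m → F // Cfsg.quadFormPlus m F v = 0} = q ^ (2 * m - 1) + q ^ m - q ^ (m - 1) := by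
  have h := CfsgLib.ZeroCount.card_zero (F := F) (fun _ : Unit => (0 : F)) m
  rw [Nat.card_congr (Equiv.subtypeEquiv
    (p := fun w : (Fin m ⊕ Fin m → F) × Unit => Cfsg.quadFormPlus m F w.1 + 0 = 0)
    (Equiv.prodUnique _ Unit) (q := fun v => Cfsg.quadFormPlus m F v = 0) fun w => by simp),
    Nat.card_congr (Equiv.subtypeUnivEquiv (p := fun _ : Unit => (0 : F) = 0) fun _ => rfl),
    Nat.card_unique (α := Unit), Fintype.card_unit, hF] at h
  obtain ⟨k, rfl⟩ : ∃ k, m = k + 1 := ⟨m - 1, by omega⟩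
  have hq : 0 < q := hF ▸ Fintype.card_pos
  have hle : q ^ k ≤ q ^ (k + 1) := Nat.pow_le_pow_right hq (by omega)
  rw [show 2 * (k + 1) - 1 = 2 * k + 1 by omega, Nat.add_sub_cancel]
  zify [hle.trans (Nat.le_add_left _ (q ^ (2 * k + 1)))]
  refine mul_left_cancel₀ (show (q : ℤ) ≠ 0 by positivity) ?_
  rw [h]
  push_cast
  ring

end Cfsg.Agent.S0289
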