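import Cfsg.Statements.S0290
import Mathlib
import Cfsg.Agent.Lib.Classical.ZeroCount

set_option autoImplicit false
open Cfsg

namespace Cfsg.Agent.S0290

/-- The minus-type quadratic form on F^(2m), m at least 1, has q^(2m-1) + q^(m-1) - q^m zeros (that is, (q^m + 1)(q^(m-1) - 1) non-zero isotropic vectors). -/
theorem result {F : Type*} [Field F] [Fintype F] {q : ℕ} (hF : Fintype.card F = q) (m : ℕ) (hm : 1 ≤ m) (a b : F) (hab : ∀ z₁ z₂ : F, z₁ ^ 2 + a * z₁ * z₂ + b * z₂ ^ 2 = 0 → z₁ = 0 ∧ z₂ = 0) : Nat.card {v : (Fin (m - 1) ⊕ Fin (m - 1)) ⊕ Fin 2 → F // Cfsg.quadFormMinus (m - 1) F a b v = 0} = q ^ (2 * m - 1) + q ^ (m - 1) - q ^ m := by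
  have h := CfsgLib.ZeroCount.card_zero (F := F)
    (fun z : Fin 2 → F => z 0 ^ 2 + a * z 0 * z 1 + b * z 1 ^ 2) (m - 1)
  have h1 : Nat.card {z : Fin 2 → F // z 0 ^ 2 + a * z 0 * z 1 + b * z 1 ^ 2 = 0} = 1 := by
    refine Nat.card_eq_one_iff_unique.mpr ⟨⟨fun s t => ?_⟩, ⟨⟨0, by simp⟩⟩⟩
    obtain ⟨s0, s1⟩ := hab _ _ s.2
    obtain ⟨t0, t1⟩ := hab _ _ t.2
    refine Subtype.ext (funext fun i => ?_)
    fin_cases i <;> simp [s0, s1, t0, t1]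
  rw [h1, hF, Fintype.card_fun, Fintype.card_fin, hF] at h
  obtain ⟨k, rfl⟩ : ∃ k, m = k + 1 := ⟨m - 1, by omega⟩
  have e : {v : (Fin (k + 1 - 1) ⊕ Fin (k + 1 - 1)) ⊕ Fin 2 → F //
        Cfsg.quadFormMinus (k + 1 - 1) F a b v = 0} ≃
      {w : (Fin (k + 1 - 1) ⊕ Fin (k + 1 - 1) → F) × (Fin 2 → F) //
        Cfsg.quadFormPlus (k + 1 - 1) F w.1 + (w.2 0 ^ 2 + a * w.2 0 * w.2 1 + b * w.2 1 ^ 2) = 0} :=
    Equiv.subtypeEquiv (Equiv.sumArrowEquivProdArrow _ _ _) fun v => by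
      simp [Cfsg.quadFormMinus, Cfsg.quadFormPlus, Equiv.sumArrowEquivProdArrow]
  rw [Nat.card_congr e]
  simp only [Nat.add_sub_cancel] at h ⊢
  have hq : 1 < q := hF ▸ Fintype.one_lt_card
  rw [show 2 * (k + 1) - 1 = 2 * k + 1 by omega]
  have hle : q ^ (k + 1) ≤ q ^ (2 * k + 1) + q ^ k :=
    (Nat.pow_le_pow_right (by omega) (by omega)).trans (Nat.le_add_right _ _)
  zify [hle]
  refine mul_left_cancel₀ (show (q : ℤ) ≠ 0 by positivity) ?_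
  rw [h]
  push_cast
  ring

end Cfsg.Agent.S0290
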