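import Cfsg.Statements.S0291
import Mathlib
import Cfsg.Agent.Lib.Classical.ZeroCount

set_option autoImplicit false
open Cfsg

namespace Cfsg.Agent.S0291

/-- For q odd, the form x_0^2 + sum_{i<m} x_i y_i on F^(2m+1) has exactly q^(2m) zeros. -/
theorem result {F : Type*} [Field F] [Fintype F] {q : ℕ} (hF : Fintype.card F = q) (hodd : Odd q) (m : ℕ) : Nat.card {v : Unit ⊕ (Fin m ⊕ Fin m) → F // Cfsg.quadFormOdd m F v = 0} = q ^ (2 * m) := by
  have h := CfsgLib.ZeroCount.card_zero (F := F) (fun t : F => t ^ 2) m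
  rw [CfsgLib.ZeroCount.card_sq_zero, hF] at h
  have e : {v : Unit ⊕ (Fin m ⊕ Fin m) → F // Cfsg.quadFormOdd m F v = 0} ≃
      {w : (Fin m ⊕ Fin m → F) × F // Cfsg.quadFormPlus m F w.1 + w.2 ^ 2 = 0} :=
    Equiv.subtypeEquiv
      { toFun := fun v => (fun i => v (.inr i), v (.inl ()))
        invFun := fun w => Sum.elim (fun _ => w.2) w.1
        left_inv := fun v => by funext i; rcases i with u | i <;> rfl
        right_inv := fun w => rfl } fun v => by
      show Cfsg.quadFormOdd m F v = 0 ↔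
        Cfsg.quadFormPlus m F (fun i => v (.inr i)) + v (.inl ()) ^ 2 = 0
      simp [Cfsg.quadFormOdd, Cfsg.quadFormPlus, add_comm]
  rw [Nat.card_congr e]
  have hq : 0 < q := hF ▸ Fintype.card_pos
  zify
  refine mul_left_cancel₀ (show (q : ℤ) ≠ 0 by positivity) ?_
  rw [h]
  push_cast
  ring

end Cfsg.Agent.S0291
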