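import Cfsg.Statements.S0305
-- import your own Cfsg.Agent.* helpers here

set_option autoImplicit false
open Cfsg Matrix

namespace Cfsg.Agent.S0305

/-- GO^+_2(q) is dihedral of order 2(q-1). -/
theorem result {F : Type*} [Field F] [Fintype F] {q : ℕ} (hF : Fintype.card F = q) : Nonempty (Cfsg.isometryGroup F (Cfsg.quadFormPlus 1 F) ≃* DihedralGroup (q - 1)) := by
  classical
  subst hF
  rw [← Fintype.card_units, ← Nat.card_eq_fintype_card]
  let e : Multiplicative (ZMod (Nat.card Fˣ)) ≃* Fˣ := zmodCyclicMulEquiv inferInstance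
  let c : ZMod (Nat.card Fˣ) → Fˣ := fun i => e (Multiplicative.ofAdd i)
  have hc : ∀ i j, c (i + j) = c i * c j := fun i j => by simp only [c, ofAdd_add, map_mul]
  have hcn : ∀ i, c (-i) = (c i)⁻¹ := fun i => by simp only [c, ofAdd_neg, map_inv]
  have hcs : ∀ i j, c (i - j) = c i * (c j)⁻¹ := fun i j => by rw [sub_eq_add_neg, hc, hcn]
  let mat : DihedralGroup (Nat.card Fˣ) → Matrix (Fin 1 ⊕ Fin 1) (Fin 1 ⊕ Fin 1) F
    | .r i => Matrix.fromBlocks !![(c i : F)] 0 0 !![((c i)⁻¹ : Fˣ)]
    | .sr i => Matrix.fromBlocks 0 !![((c i)⁻¹ : Fˣ)] !![(c i : F)] 0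
  have h1 : mat 1 = 1 := by
    show Matrix.fromBlocks !![(c 0 : F)] 0 0 !![((c 0)⁻¹ : Fˣ)] = 1
    have : c 0 = 1 := by simp only [c, ofAdd_zero, map_one]
    rw [this]
    ext (i | i) (j | j) <;> fin_cases i <;> fin_cases j <;> simp
  have hmul : ∀ x y, mat (x * y) = mat x * mat y := by
    rintro (i | i) (j | j) <;>
      simp only [DihedralGroup.r_mul_r, DihedralGroup.r_mul_sr, DihedralGroup.sr_mul_r,
        DihedralGroup.sr_mul_sr, mat, Matrix.fromBlocks_multiply, hc, hcs, _root_.mul_inv_rev, inv_inv,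
        Units.val_mul] <;>
      ext (a | a) (b | b) <;> fin_cases a <;> fin_cases b <;>
        simp [Matrix.mul_apply] <;> ring
  let f0 : DihedralGroup (Nat.card Fˣ) →* Matrix (Fin 1 ⊕ Fin 1) (Fin 1 ⊕ Fin 1) F :=
    { toFun := mat, map_one' := h1, map_mul' := hmul }
  have hQ : ∀ v : Fin 1 ⊕ Fin 1 → F, Cfsg.quadFormPlus 1 F v = v (.inl 0) * v (.inr 0) := fun v => by
    simp [Cfsg.quadFormPlus]
  have hiso : ∀ x v, Cfsg.quadFormPlus 1 F (mat x *ᵥ v) = Cfsg.quadFormPlus 1 F v := by
    intro x v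
    rw [hQ, hQ]
    rcases x with i | i <;>
      simp [mat, Matrix.mulVec, dotProduct, Fintype.sum_sum_type] <;> field_simp <;> ring
  let f : DihedralGroup (Nat.card Fˣ) →* Cfsg.isometryGroup F (Cfsg.quadFormPlus 1 F) :=
    f0.toHomUnits.codRestrict _ fun x u _ => hiso x u
  refine ⟨(MulEquiv.ofBijective f ⟨?_, ?_⟩).symm⟩
  · intro x y h
    have h' : mat x = mat y := congrArg (fun g : Cfsg.isometryGroup F (Cfsg.quadFormPlus 1 F) =>
      ((g : GL (Fin 1 ⊕ Fin 1) F) : Matrix (Fin 1 ⊕ Fin 1) (Fin 1 ⊕ Fin 1) F)) h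
    have key : ∀ i j, (c i : F) = c j → i = j := fun i j e' =>
      Multiplicative.ofAdd.injective (e.injective (Units.ext e'))
    rcases x with i | i <;> rcases y with j | j
    · exact congrArg DihedralGroup.r (key i j (by simpa [mat] using congrFun (congrFun h' (.inl 0)) (.inl 0)))
    · exact absurd (by simpa [mat] using congrFun (congrFun h' (.inl 0)) (.inl 0)) (c i).ne_zero
    · exact absurd (by simpa [mat] using (congrFun (congrFun h' (.inl 0)) (.inl 0)).symm) (c j).ne_zero
    · exact congrArg DihedralGroup.sr (key i j (by simpa [mat] using congrFun (congrFun h' (.inr 0)) (.inl 0)))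
  · rintro ⟨g, hg⟩
    set M : Matrix (Fin 1 ⊕ Fin 1) (Fin 1 ⊕ Fin 1) F := g.1
    have h : ∀ v : Fin 1 ⊕ Fin 1 → F, (M *ᵥ v) (.inl 0) * (M *ᵥ v) (.inr 0) = v (.inl 0) * v (.inr 0) :=
      fun v => by rw [← hQ, ← hQ]; exact hg v v
    have ha := h (Sum.elim ![1] ![0])
    have hb := h (Sum.elim ![0] ![1])
    have hab := h (Sum.elim ![1] ![1])
    simp [Matrix.mulVec, dotProduct, Fintype.sum_sum_type] at ha hb hab
    set p := M (.inl 0) (.inl 0)
    set r := M (.inl 0) (.inr 0)
    set s := M (.inr 0) (.inl 0)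
    set w := M (.inr 0) (.inr 0)
    have hps : p * s = 0 := by rcases ha with h | h <;> rw [h] <;> ring
    have hrw : r * w = 0 := by rcases hb with h | h <;> rw [h] <;> ring
    have hdet : p * w + r * s = 1 := by linear_combination hab - hps - hrw
    by_cases hp : p = 0
    · have hr : r * s = 1 := by rw [hp] at hdet; linear_combination hdet
      have hw : w = 0 := hb.resolve_left (left_ne_zero_of_mul_eq_one hr)
      refine ⟨.sr (Multiplicative.toAdd (e.symm (Units.mkOfMulEqOne s r (by rw [mul_comm]; exact hr)))),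
        Subtype.ext (Units.ext ?_)⟩
      show mat (.sr _) = M
      ext (a | a) (b | b) <;> fin_cases a <;> fin_cases b <;> simp [mat, c] <;>
        first | exact hp.symm | exact hw.symm | exact (eq_inv_of_mul_eq_one_left hr).symm | rfl
    · have hs : s = 0 := ha.resolve_left hp
      have hpw : p * w = 1 := by rw [hs] at hdet; linear_combination hdet
      have hr : r = 0 := hb.resolve_right (right_ne_zero_of_mul_eq_one hpw)
      refine ⟨.r (Multiplicative.toAdd (e.symm (Units.mkOfMulEqOne p w hpw))),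
        Subtype.ext (Units.ext ?_)⟩
      show mat (.r _) = M
      ext (a | a) (b | b) <;> fin_cases a <;> fin_cases b <;> simp [mat, c] <;>
        first | exact hr.symm | exact hs.symm | exact (eq_inv_of_mul_eq_one_right hpw).symm | rfl

end Cfsg.Agent.S0305
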