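import Cfsg.Statements.S0306
import Cfsg.Agent.Lib.Classical.QuadExt
import Cfsg.Agent.Lib.Classical.OrthOrderStd

set_option autoImplicit false
open Cfsg

namespace Cfsg.Agent.S0306

/-- GO^-_2(q) is dihedral of order 2(q+1). -/
theorem result {F : Type*} [Field F] [Fintype F] {q : ℕ} (hF : Fintype.card F = q) (a b : F) (hab : ∀ z₁ z₂ : F, z₁ ^ 2 + a * z₁ * z₂ + b * z₂ ^ 2 = 0 → z₁ = 0 ∧ z₂ = 0) : Nonempty (Cfsg.isometryGroup F (Cfsg.quadFormMinus 0 F a b) ≃* DihedralGroup (q + 1)) := by
  classical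
  obtain ⟨K, _, _, hK⟩ : ∃ (K : Type) (_ : Field K) (_ : Fintype K), Fintype.card K = q ^ 2 := by
    obtain ⟨p, hp⟩ := CharP.exists F
    obtain ⟨n, hpp, hn⟩ := FiniteField.card F p
    have : Fact p.Prime := ⟨hpp⟩
    let fk : Fintype (GaloisField p (2 * n)) := Fintype.ofFinite _
    refine ⟨GaloisField p (2 * n), inferInstance, fk, ?_⟩
    rw [← Nat.card_eq_fintype_card, GaloisField.card p _ (by have := n.pos; omega), ← hF, hn, ← pow_mul,
      mul_comm]
  obtain ⟨ι, σ, ω, hσq, hσ2, hfix, hsum, hprod, hbij⟩ := CfsgLib.Classical.QuadExt.exists_frame hF hK a b hab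
  have hσι : ∀ y, σ (ι y) = ι y := fun y => (hfix _).2 ⟨y, rfl⟩
  obtain ⟨Q, hQ, hB⟩ := CfsgLib.Orth.exists_quadForm_minus (F := F) 0 hab
  rw [← hQ]
  let _ : Algebra F K := ι.toAlgebra
  let Ψl : ((Fin 0 ⊕ Fin 0) ⊕ Fin 2 → F) →ₗ[F] K :=
    { toFun := fun v => ι (v (.inr 0)) + ω * ι (v (.inr 1))
      map_add' := fun v w => by simp [map_add]; ring
      map_smul' := fun c v => by simp [Algebra.smul_def, RingHom.algebraMap_toAlgebra]; ring }
  let Ψ : ((Fin 0 ⊕ Fin 0) ⊕ Fin 2 → F) ≃ₗ[F] K := LinearEquiv.ofBijective Ψl ⟨fun v w h => by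
      have e := @hbij.1 (v (.inr 0), v (.inr 1)) (w (.inr 0), w (.inr 1)) h
      rw [Prod.mk.injEq] at e
      funext i
      rcases i with (i | i) | i
      · exact i.elim0
      · exact i.elim0
      · fin_cases i
        · exact e.1
        · exact e.2,
    fun x => by
      obtain ⟨⟨z1, z2⟩, hz⟩ := hbij.2 x
      exact ⟨Sum.elim (Sum.elim Fin.elim0 Fin.elim0) ![z1, z2], hz⟩⟩
  have hN : ∀ v, ι (Q v) = Ψ v * σ (Ψ v) := fun v => by
    show ι (Q v) = (ι (v (.inr 0)) + ω * ι (v (.inr 1))) * σ (ι (v (.inr 0)) + ω * ι (v (.inr 1)))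
    rw [hQ]
    simp [Cfsg.quadFormMinus, map_add, map_mul, map_pow, hσι]
    linear_combination (-(ι (v (.inr 0)) * ι (v (.inr 1)))) * hsum - (ι (v (.inr 1))) ^ 2 * hprod
  have hq2 : 2 ≤ q := hF ▸ Fintype.one_lt_card
  obtain ⟨g, hg⟩ := IsCyclic.exists_generator (α := Kˣ)
  have hgo : orderOf g = (q - 1) * (q + 1) := by
    rw [orderOf_eq_card_of_forall_mem_zpowers hg, Nat.card_units, Nat.card_eq_fintype_card, hK, mul_comm,
      ← Nat.sq_sub_sq, one_pow]
  let u : Kˣ := g ^ (q - 1)
  have huo : orderOf u = q + 1 := by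
    rw [orderOf_pow' g (by omega : q - 1 ≠ 0), hgo, Nat.gcd_mul_right_left,
      Nat.mul_div_cancel_left _ (by omega : 0 < q - 1)]
  let up : ZMod (q + 1) → Kˣ := fun i => u ^ i.val
  have hup : ∀ i j, up (i + j) = up i * up j := fun i j => by
    simp only [up, ← pow_add]
    have h := pow_mod_orderOf u (i.val + j.val)
    rw [huo] at h
    rw [ZMod.val_add, h]
  have hup0 : up 0 = 1 := by simp [up]
  have hσu : ∀ i, σ (up i : K) = ((up i)⁻¹ : Kˣ) := fun i => by
    rw [hσq, ← Units.val_pow_eq_pow_val]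
    congr 1
    have h := pow_orderOf_eq_one u
    rw [huo] at h
    rw [eq_inv_iff_mul_eq_one, ← pow_succ, ← pow_mul, mul_comm i.val, pow_mul, h, one_pow]
  have hupn : ∀ i j, up (j - i) = (up i)⁻¹ * up j := fun i j => by
    rw [eq_inv_mul_iff_mul_eq, ← hup, add_sub_cancel]
  let act : DihedralGroup (q + 1) → K → K
    | .r i => fun w => (up i : K) * w
    | .sr i => fun w => σ ((up i : K) * w)
  have hact1 : ∀ w, act 1 w = w := fun w => by
    show (up 0 : K) * w = w
    rw [hup0, Units.val_one, one_mul]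
  have hactm : ∀ x y w, act (x * y) w = act x (act y w) := by
    rintro (i | i) (j | j) w
    · show (up (i + j) : K) * w = (up i : K) * ((up j : K) * w)
      rw [hup, Units.val_mul, mul_assoc]
    · show σ ((up (j - i) : K) * w) = (up i : K) * σ ((up j : K) * w)
      rw [hupn, Units.val_mul, map_mul, map_mul, map_mul, ← hσu, hσ2, mul_assoc]
    · show σ ((up (i + j) : K) * w) = σ ((up i : K) * ((up j : K) * w))
      rw [hup, Units.val_mul, mul_assoc]
    · show (up (j - i) : K) * w = σ ((up i : K) * σ ((up j : K) * w))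
      rw [hupn, Units.val_mul, map_mul, hσ2, hσu, mul_assoc]
  have hlin : ∀ x, ∃ T : K →ₗ[F] K, ∀ w, T w = act x w := by
    rintro (i | i)
    · exact ⟨{ toFun := fun w => (up i : K) * w
               map_add' := mul_add _
               map_smul' := fun c w => by simp [Algebra.smul_def]; ring }, fun w => rfl⟩
    · exact ⟨{ toFun := fun w => σ ((up i : K) * w)
               map_add' := fun w z => by rw [mul_add, map_add]
               map_smul' := fun c w => by
                 simp [Algebra.smul_def, RingHom.algebraMap_toAlgebra, map_mul, hσι]; ring }, fun w => rfl⟩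
  have hnorm : ∀ x w, act x w * σ (act x w) = w * σ w := by
    have h1 : ∀ i, (up i : K) * σ (up i : K) = 1 := fun i => by
      rw [hσu, ← Units.val_mul, mul_inv_cancel, Units.val_one]
    rintro (i | i) w
    · show (up i : K) * w * σ ((up i : K) * w) = _
      rw [map_mul]; linear_combination (w * σ w) * h1 i
    · show σ ((up i : K) * w) * σ (σ ((up i : K) * w)) = _
      rw [hσ2, map_mul]; linear_combination (w * σ w) * h1 i
  have hex : ∀ x, ∃ t : CfsgLib.Orth.Grp Q, ∀ v, Ψ (CfsgLib.Orth.ap t v) = act x (Ψ v) := fun x => by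
    obtain ⟨T, hT⟩ := hlin x
    obtain ⟨t, ht⟩ := CfsgLib.Orth.exists_iso hB (Ψ.symm.toLinearMap ∘ₗ T ∘ₗ Ψ.toLinearMap) fun v => by
      apply ι.injective
      simp only [hN, LinearMap.comp_apply, LinearEquiv.coe_coe, LinearEquiv.apply_symm_apply, hT, hnorm]
    exact ⟨t, fun v => by simp [ht, hT]⟩
  choose φ₀ hφ₀ using hex
  let φ : DihedralGroup (q + 1) →* CfsgLib.Orth.Grp Q := MonoidHom.mk' φ₀ fun x y =>
    CfsgLib.Orth.ext_ap fun v => Ψ.injective (by rw [hφ₀, CfsgLib.Orth.ap_mul, hφ₀, hφ₀, hactm])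
  have hinj : Function.Injective φ := by
    refine (injective_iff_map_eq_one φ).2 fun x hx => ?_
    have h : ∀ w, act x w = w := fun w => by
      have := hφ₀ x (Ψ.symm w)
      rw [show φ₀ x = φ x from rfl, hx, CfsgLib.Orth.ap_one, Ψ.apply_symm_apply] at this
      exact this.symm
    have hone : ∀ i, (up i : K) = 1 → i = 0 := fun i hi => by
      have h0 : u ^ i.val = 1 := Units.ext hi
      have h1 := orderOf_dvd_of_pow_eq_one h0
      rw [huo] at h1
      rw [← ZMod.natCast_zmod_val i, ZMod.natCast_eq_zero_iff]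
      exact h1
    rcases x with i | i
    · rw [hone i (by simpa [act] using h 1)]; rfl
    · exfalso
      have e1 : σ (up i : K) = 1 := by simpa [act] using h 1
      have e2 : (up i : K) = 1 := by have := congrArg σ e1; rwa [hσ2, map_one] at this
      obtain ⟨y, hy⟩ := (hfix ω).1 (by simpa [act, e2] using h ω)
      have := @hbij.1 (y, 0) (0, 1) (by simp [hy])
      simp at this
  have hcard := CfsgLib.Orth.card_orth_minus 1 le_rfl hab hQ hB
  simp only [Nat.sub_self, Nat.mul_zero, pow_zero, pow_one, mul_one, Finset.range_zero, Finset.prod_empty,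
    Nat.card_eq_fintype_card (α := F), hF] at hcard
  exact ⟨(MulEquiv.ofBijective φ ((Nat.bijective_iff_injective_and_card φ).2
    ⟨hinj, by rw [DihedralGroup.nat_card]; exact hcard.symm⟩)).symm⟩

end Cfsg.Agent.S0306
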