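import Cfsg.Statements.S0307
import Cfsg.Agent.Lib.Classical.Card

set_option autoImplicit false
open Cfsg

namespace Cfsg.Agent.S0307

/-- PSL_n(q) is normal in PGL_n(q) with cyclic quotient of order gcd(n, q-1): the image of the natural map PSL_n → PGL_n is the kernel of a surjective homomorphism onto the cyclic group of that order. -/
theorem result {F : Type*} [Field F] [Fintype F] {q : ℕ} (hF : Fintype.card F = q) (n : ℕ) (hn : 1 ≤ n) : ∃ g : Matrix.ProjGenLinGroup (Fin n) F →* Multiplicative (ZMod (Nat.gcd n (q - 1))), Function.Surjective g ∧ g.ker = (Matrix.ProjectiveSpecialLinearGroup.toPGL : Matrix.ProjectiveSpecialLinearGroup (Fin n) F →* Matrix.ProjGenLinGroup (Fin n) F).range := by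
  subst hF
  have : Nonempty (Fin n) := Fin.pos_iff_nonempty.mp (by omega)
  set N : Subgroup Fˣ := (powMonoidHom n : Fˣ →* Fˣ).range with hN
  have hsc : ∀ u : Fˣ, Matrix.GeneralLinearGroup.det (Matrix.GeneralLinearGroup.scalar (Fin n) u) = u ^ n := by
    intro u
    apply Units.ext
    simp
  let f : Matrix.GeneralLinearGroup (Fin n) F →* Fˣ ⧸ N :=
    (QuotientGroup.mk' N).comp Matrix.GeneralLinearGroup.det
  have hf : f.comp (Matrix.GeneralLinearGroup.scalar (Fin n)) = 1 := by
    ext u
    show QuotientGroup.mk' N _ = 1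
    rw [hsc]
    exact (QuotientGroup.eq_one_iff _).mpr ⟨u, rfl⟩
  let g := Matrix.ProjGenLinGroup.lift f hf
  have hg : Function.Surjective g := by
    intro x
    obtain ⟨r, rfl⟩ := QuotientGroup.mk'_surjective N x
    obtain ⟨A, hA⟩ := Matrix.GeneralLinearGroup.det_surjective (n := Fin n) r
    exact ⟨Matrix.ProjGenLinGroup.mk A, by show QuotientGroup.mk' N _ = _; rw [hA]⟩
  have hcard : Nat.card (Fˣ ⧸ N) = Nat.gcd n (Fintype.card F - 1) := by
    rw [← Subgroup.index_eq_card, hN, IsCyclic.index_powMonoidHom_range, Nat.card_units,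
      Nat.card_eq_fintype_card, Nat.gcd_comm]
  have hcyc : IsCyclic (Fˣ ⧸ N) := isCyclic_of_surjective _ (QuotientGroup.mk'_surjective N)
  let e : Fˣ ⧸ N ≃* Multiplicative (ZMod (Nat.gcd n (Fintype.card F - 1))) :=
    hcard ▸ (zmodCyclicMulEquiv hcyc).symm
  refine ⟨e.toMonoidHom.comp g, e.surjective.comp hg, ?_⟩
  rw [show (e.toMonoidHom.comp g).ker = g.ker from MonoidHom.ker_comp_of_injective g e.toMonoidHom e.injective]
  ext x
  induction x using Matrix.ProjGenLinGroup.induction_on with
  | mk A =>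
    constructor
    · intro h
      obtain ⟨u, hu⟩ : Matrix.GeneralLinearGroup.det A ∈ N := (QuotientGroup.eq_one_iff _).mp h
      have hA : A * Matrix.GeneralLinearGroup.scalar (Fin n) u⁻¹ ∈
          (Matrix.GeneralLinearGroup.det : Matrix.GeneralLinearGroup (Fin n) F →* Fˣ).ker := by
        rw [MonoidHom.mem_ker, map_mul, hsc, inv_pow, mul_inv_eq_one]
        exact hu.symm
      rw [← CfsgLib.Classical.range_toGL_eq_ker_det] at hA
      obtain ⟨S, hS⟩ := hA
      refine ⟨QuotientGroup.mk S, ?_⟩
      rw [Matrix.ProjectiveSpecialLinearGroup.toPGL_mk, hS, map_mul,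
        Matrix.ProjGenLinGroup.mk_scalar, mul_one]
    · rintro ⟨S, hS⟩
      rw [MonoidHom.mem_ker, ← hS]
      induction S using QuotientGroup.induction_on with
      | H S =>
        rw [Matrix.ProjectiveSpecialLinearGroup.toPGL_mk]
        show QuotientGroup.mk' N (Matrix.GeneralLinearGroup.det (Matrix.SpecialLinearGroup.toGL S)) = 1
        have : Matrix.GeneralLinearGroup.det (Matrix.SpecialLinearGroup.toGL S) = 1 :=
          Units.ext (by simp)
        rw [this, map_one]

end Cfsg.Agent.S0307
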