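import Cfsg.Statements.S0316
import Cfsg.Agent.Lib.BNPair.Main
-- import your own Cfsg.Agent.* helpers here

set_option autoImplicit false
open Cfsg

namespace Cfsg.Agent.S0316

/-- The map `J ↦ P_J` is a lattice isomorphism from the power set of the set of distinguished generators onto the
subgroups containing `B`. -/
theorem result {G : Type*} [Group G] (P : Cfsg.BNPair G) :
    ∃ e : Set P.S ≃o {M : Subgroup G // P.B ≤ M},
      ∀ J : Set P.S, ((e J : {M : Subgroup G // P.B ≤ M}) : Subgroup G) = P.parabolic (Subtype.val '' J) := by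
  have hsub : ∀ J : Set P.S, Subtype.val '' J ⊆ P.S := fun J => by
    rintro _ ⟨x, -, rfl⟩; exact x.2
  refine ⟨{ toFun := fun J => ⟨P.parabolic (Subtype.val '' J), CfsgLib.BN.B_le_parabolic _⟩
            invFun := fun M => {s | (s : G) ∈ M.1}
            left_inv := fun J => Set.ext fun s => ?_
            right_inv := fun M => Subtype.ext ?_
            map_rel_iff' := fun {J K} => ?_ }, fun J => rfl⟩
  · refine ⟨fun hs => ?_, fun hs => Subgroup.mem_sup_right (Subgroup.subset_closure ⟨s, hs, rfl⟩)⟩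
    obtain ⟨t, ht, e⟩ := CfsgLib.BN.mem_of_mem_parabolic (hsub J) hs
    exact Subtype.ext e ▸ ht
  · have e : Subtype.val '' {s : P.S | (s : G) ∈ M.1} = P.S ∩ (M.1 : Set G) := by
      ext x
      exact ⟨fun ⟨s, hs, e⟩ => e ▸ ⟨s.2, hs⟩, fun hx => ⟨⟨x, hx.1⟩, hx.2, rfl⟩⟩
    show P.parabolic (Subtype.val '' {s : P.S | (s : G) ∈ M.1}) = M.1
    rw [e]
    exact (CfsgLib.BN.eq_parabolic_of_le M.2).symm
  · show P.parabolic (Subtype.val '' J) ≤ P.parabolic (Subtype.val '' K) ↔ J ⊆ K
    rw [CfsgLib.BN.parabolic_le_iff (hsub J) (hsub K)]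
    exact Set.image_subset_image_iff Subtype.val_injective

end Cfsg.Agent.S0316
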