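import Cfsg.Statements.S0321
import Cfsg.Agent.Lib.BNPair.Main
-- import your own Cfsg.Agent.* helpers here

set_option autoImplicit false
open Cfsg

namespace Cfsg.Agent.S0321

/-- For `n ∈ N` not in `B`, the union `B ∪ B n B` is (the underlying set of) a subgroup exactly when `n` agrees
modulo `B ⊓ N` with one of the distinguished representatives; thus the distinguished involutions are
determined by `B` and `N`. -/
theorem result {G : Type*} [Group G] (P : Cfsg.BNPair G) {n : G}
    (hn : n ∈ P.N) (hnB : n ∉ P.B) :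
    (∃ H : Subgroup G, (H : Set G) = (P.B : Set G) ∪ DoubleCoset.doubleCoset n (P.B : Set G) P.B) ↔ ∃ s ∈ P.S, s⁻¹ * n ∈ P.B := by
  open CfsgLib.BN CfsgLib.Coxeter in
  constructor
  · rintro ⟨H, hH⟩
    have hB : P.B ≤ H := fun b hb => by
      rw [← SetLike.mem_coe, hH]; exact Or.inl hb
    have hnH : n ∈ H := by
      rw [← SetLike.mem_coe, hH]
      exact Or.inr (DoubleCoset.mem_doubleCoset_self _ _ _)
    obtain ⟨L, hL, e, -⟩ := gens.exists_red (QuotientGroup.mk (⟨n, hn⟩ : P.N) : Weyl P)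
    have hne : L ≠ [] := fun h => hnB (by
      rw [h, wprod_nil] at e
      exact mk_eq_one.1 e.symm)
    obtain ⟨s, L', rfl⟩ := List.exists_cons_of_ne_nil hne
    have hs : (s : G) ∈ H :=
      letters_mem_of_mem hL (e ▸ mk_mem_cell _) hB hnH s List.mem_cons_self
    rw [← SetLike.mem_coe, hH] at hs
    rcases hs with hs | hs
    · exact absurd (mk_eq_one (n := ⟨(s : G), P.subset s.2⟩).2 hs) (gen_ne_one s)
    · rw [show DoubleCoset.doubleCoset n (P.B : Set G) P.B = _ from (cell_mk ⟨n, hn⟩).symm] at hs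
      exact ⟨s, s.2, mk_eq_mk.1 (cell_inj (gen_mem_cell s) hs)⟩
  · rintro ⟨s, hs, h⟩
    refine ⟨P.parabolic {s}, ?_⟩
    ext g
    rw [SetLike.mem_coe, mem_parabolic_singleton (s := ⟨s, hs⟩),
      show DoubleCoset.doubleCoset n (P.B : Set G) P.B = _ from (cell_mk ⟨n, hn⟩).symm,
      show gen P ⟨s, hs⟩ = QuotientGroup.mk (⟨n, hn⟩ : P.N) from
        (mk_eq_mk (n := ⟨s, P.subset hs⟩) (n' := ⟨n, hn⟩)).2 h]
    rfl

end Cfsg.Agent.S0321
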