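import Cfsg.Statements.S0323
-- import your own Cfsg.Agent.* helpers here

set_option autoImplicit false
open scoped Pointwise
open Cfsg

namespace Cfsg.Agent.S0323

open MulAction

/-- A doubly transitive action on a set with at least three points yields a (B,N)-pair of rank one:
`B` is the stabiliser of a point `x`, `N` the setwise stabiliser of a pair `{x, y}`. -/
theorem result {G Ω : Type*} [Group G] [MulAction G Ω]
    (h2 : MulAction.IsMultiplyPretransitive G Ω 2) {x y z : Ω} (hxy : x ≠ y) (hyz : y ≠ z) (hxz : x ≠ z) :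
    ∃ P : Cfsg.BNPair G, P.B = MulAction.stabilizer G x ∧
      P.N = MulAction.stabilizer G ({x, y} : Set Ω) ∧ P.rank = 1 := by
  rw [MulAction.is_two_pretransitive_iff] at h2
  obtain ⟨s, hsx, hsy⟩ : ∃ s : G, s • x = y ∧ s • y = x := h2 hxy (Ne.symm hxy)
  have hN : ∀ n ∈ stabilizer G ({x, y} : Set Ω),
      (n • x = x ∧ n • y = y) ∨ (n • x = y ∧ n • y = x) := by
    intro n hn
    have h : ∀ u ∈ ({x, y} : Set Ω), n • u = x ∨ n • u = y := fun u hu => by
      have : n • u ∈ n • ({x, y} : Set Ω) := Set.smul_mem_smul_set hu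
      rw [mem_stabilizer_iff.1 hn] at this
      simpa using this
    rcases h x (by simp) with a | a <;> rcases h y (by simp) with b | b
    · exact absurd (MulAction.injective n (a.trans b.symm)) hxy
    · exact Or.inl ⟨a, b⟩
    · exact Or.inr ⟨a, b⟩
    · exact absurd (MulAction.injective n (a.trans b.symm)) hxy
  have hsN : s ∈ stabilizer G ({x, y} : Set Ω) := by
    rw [mem_stabilizer_iff]
    simp [Set.smul_set_insert, hsx, hsy, Set.pair_comm]
  have hss : s * s ∈ stabilizer G x := by rw [mem_stabilizer_iff, mul_smul, hsx, hsy]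
  have cover : ∀ n : G, n • x = y → ∀ g : G,
      g • x = x ∨ g ∈ DoubleCoset.doubleCoset n (stabilizer G x : Set G) (stabilizer G x) := by
    intro n hn g
    by_cases hg : g • x = x
    · exact Or.inl hg
    · obtain ⟨b, hbx, hby⟩ := h2 hxy (Ne.symm hg)
      refine Or.inr (DoubleCoset.mem_doubleCoset.2 ⟨b, hbx, (b * n)⁻¹ * g, ?_, by group⟩)
      show ((b * n)⁻¹ * g) • x = x
      rw [mul_smul, inv_smul_eq_iff, mul_smul, hn, hby]
  refine ⟨{
    B := stabilizer G x
    N := stabilizer G ({x, y} : Set Ω)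
    S := {s}
    sup_eq_top := eq_top_iff.2 fun g _ => ?_
    conj_mem := fun n hn t ht => ?_
    subset := by simpa using hsN
    sq_mem := by rintro _ rfl; exact hss
    inj := by rintro _ rfl _ rfl _; rfl
    closure_sup := le_antisymm (sup_le ((Subgroup.closure_le _).2 (by simpa using hsN)) inf_le_right)
      fun n hn => ?_
    mul_mem_union := ?_
    conj_ne := ?_ }, rfl, rfl, ?_⟩
  · rcases cover s hsx g with hg | hg
    · exact Subgroup.mem_sup_left hg
    · obtain ⟨b, hb, b', hb', rfl⟩ := DoubleCoset.mem_doubleCoset.1 hg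
      exact mul_mem (mul_mem (Subgroup.mem_sup_left hb) (Subgroup.mem_sup_right hsN))
        (Subgroup.mem_sup_left hb')
  · show (n * t * n⁻¹) • x = x
    obtain ⟨htx, htN⟩ := ht
    have hty : t • y = y := by
      rcases hN t htN with ⟨_, h⟩ | ⟨h, _⟩
      · exact h
      · exact absurd ((mem_stabilizer_iff.1 htx).symm.trans h) hxy
    rcases hN n⁻¹ (inv_mem hn) with ⟨h, _⟩ | ⟨h, _⟩
    · rw [mul_smul, mul_smul, h, mem_stabilizer_iff.1 htx]
      exact (eq_inv_smul_iff.1 h.symm)
    · rw [mul_smul, mul_smul, h, hty]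
      exact (eq_inv_smul_iff.1 h.symm)
  · rcases hN n hn with ⟨h, _⟩ | ⟨h, h'⟩
    · exact Subgroup.mem_sup_right ⟨h, hn⟩
    · rw [← mul_inv_cancel_left s n]
      refine mul_mem (Subgroup.mem_sup_left (Subgroup.subset_closure rfl)) (Subgroup.mem_sup_right ⟨?_, ?_⟩)
      · show (s⁻¹ * n) • x = x
        rw [mul_smul, h, inv_smul_eq_iff, hsx]
      · exact (stabilizer G ({x, y} : Set Ω)).mul_mem ((stabilizer G ({x, y} : Set Ω)).inv_mem hsN) hn
  · intro s' hs' n hn b hb
    rw [Set.mem_singleton_iff.1 hs']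
    rcases hN n hn with ⟨h, _⟩ | ⟨h, _⟩
    · refine Or.inl (DoubleCoset.mem_doubleCoset.2 ⟨1, one_mem _, n⁻¹ * b * n, ?_, by group⟩)
      have hB : n ∈ stabilizer G x := h
      exact mul_mem (mul_mem (inv_mem hB) hb) hB
    · rcases cover n h (s * b * n) with hg | hg
      · have hB : s * n ∈ stabilizer G x := by rw [mem_stabilizer_iff, mul_smul, h, hsy]
        refine Or.inl (DoubleCoset.mem_doubleCoset.2 ⟨s * b * n, hg, (s * n)⁻¹, inv_mem hB, by group⟩)
      · exact Or.inr hg
  · intro s' hs'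
    rw [Set.mem_singleton_iff.1 hs']
    intro heq
    obtain ⟨b, hbx, hby⟩ := h2 hxy hxz
    have : s * b * s ∈ (stabilizer G x : Set G) := by rw [← heq]; exact ⟨b, hbx, rfl⟩
    change (s * b * s) • x = x at this
    rw [mul_smul, mul_smul, hsx, hby, ← hsy] at this
    exact hyz (MulAction.injective s this).symm
  · simp [Cfsg.BNPair.rank]

end Cfsg.Agent.S0323
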