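import Cfsg.Statements.S0326
-- import your own Cfsg.Agent.* helpers here

set_option autoImplicit false
open Cfsg

namespace Cfsg.Agent.S0326

/-- The Suzuki–Tits ovoid over a finite field with `q` elements has `q² + 1` points. -/
theorem result {F : Type*} [Field F] [Fintype F] (m : ℕ) :
    Nat.card (Cfsg.suzukiOvoid F m) = Fintype.card F ^ 2 + 1 := by
  classical
  have aff_ne : ∀ x y : F,
      (![x * y + x ^ (2 ^ (m + 1) + 2) + y ^ (2 ^ (m + 1)), y, x, 1] : Fin 4 → F) ≠ 0 :=
    fun x y h => one_ne_zero (α := F) (congrFun h 3)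
  have inf_ne : (![1, 0, 0, 0] : Fin 4 → F) ≠ 0 := fun h => one_ne_zero (α := F) (congrFun h 0)
  let vec : Option (F × F) → {v : Fin 4 → F // v ≠ 0} := fun o => o.elim ⟨_, inf_ne⟩
    fun q => ⟨_, aff_ne q.1 q.2⟩
  let f : Option (F × F) → Projectivization F (Fin 4 → F) := fun o =>
    Projectivization.mk F (vec o).1 (vec o).2
  have hinj : Function.Injective f := by
    intro o o' h
    obtain ⟨a, ha⟩ := (Projectivization.mk_eq_mk_iff' F _ _ _ _).1 h
    have e0 := congrFun ha 0
    have e1 := congrFun ha 1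
    have e2 := congrFun ha 2
    have e3 := congrFun ha 3
    rcases o with _ | ⟨x, y⟩ <;> rcases o' with _ | ⟨x', y'⟩ <;> simp [vec] at e0 e1 e2 e3
    · rfl
    · simp [e3] at e0
    · subst e3
      simp at e1 e2
      rw [e1, e2]
  have hrange : Set.range f = Cfsg.suzukiOvoid F m := by
    ext p
    constructor
    · rintro ⟨_ | ⟨x, y⟩, rfl⟩
      · exact ⟨_, inf_ne, rfl, Or.inl rfl⟩
      · exact ⟨_, aff_ne x y, rfl, Or.inr ⟨x, y, rfl⟩⟩
    · rintro ⟨v, hv, rfl, rfl | ⟨x, y, rfl⟩⟩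
      · exact ⟨none, rfl⟩
      · exact ⟨some (x, y), rfl⟩
  rw [← hrange, Nat.card_range_of_injective hinj, Finite.card_option, Nat.card_prod,
    Nat.card_eq_fintype_card, sq]

end Cfsg.Agent.S0326
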