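import Cfsg.Statements.S0339
import Cfsg.Agent.Lib.Zassenhaus.NormalSubgroup

set_option autoImplicit false
set_option linter.style.haveILetI false
open Cfsg

namespace Cfsg.Agent.S0339

/-- A non-trivial normal subgroup of a Zassenhaus group is itself a Zassenhaus group on the same set. -/
theorem result {G Ω : Type*} [Group G] [MulAction G Ω] [Finite Ω]
    (hZ : Cfsg.IsZassenhausGroup G Ω) (N : Subgroup G) [N.Normal] (hN : N ≠ ⊥) :
    Cfsg.IsZassenhausGroup N Ω := by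
  obtain ⟨hf, h2, h3, h4, h5⟩ := hZ
  have hz := CfsgLib.Zassenhaus.ZG.mk' hf h2 h3 h4
  haveI := CfsgLib.Zassenhaus.finite_points hz
  refine ⟨⟨fun {n m} h => Subtype.ext (hf.eq_of_smul_eq_smul fun x => h x)⟩, ?_,
    fun g a b c hab hbc hac ha hb hc => Subtype.ext (h3 g a b c hab hbc hac ha hb hc), ?_,
    fun M hM hMt => CfsgLib.Zassenhaus.normal_no_regular hz h5 N hN M⟩
  · rw [MulAction.is_two_pretransitive_iff]
    intro x y x' y' h h'
    obtain ⟨n, hn, h1, h2'⟩ := CfsgLib.Zassenhaus.normal_two_transitive hz h5 N hN h h'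
    exact ⟨⟨n, hn⟩, h1, h2'⟩
  · obtain ⟨n, hn, hn1, c, d, hcd, hc, hd⟩ := CfsgLib.Zassenhaus.exists_two_fixed hz h5 N hN
    exact ⟨⟨n, hn⟩, fun e => hn1 (congrArg Subtype.val e), c, d, hcd, hc, hd⟩

end Cfsg.Agent.S0339
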