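import Cfsg.Statements.S0341
import Cfsg.Agent.Lib.FrobCompl.Conjugate
import Cfsg.Agent.Lib.CNOdd.Solvable
import Cfsg.Agent.Lib.PGroup.SuzukiField

set_option autoImplicit false
set_option linter.style.haveILetI false
open Cfsg

namespace Cfsg.Agent.S0341

open MulAction in
theorem main {G Ω : Type*} [Group G] [MulAction G Ω] [Fintype Ω] [FaithfulSMul G Ω]
    (h2 : IsMultiplyPretransitive G Ω 2)
    (h3 : ∀ g : G, ∀ a b c : Ω, a ≠ b → b ≠ c → a ≠ c → g • a = a → g • b = b → g • c = c → g = 1)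
    (N : Subgroup G) [N.Normal] (hNt : IsPretransitive N Ω) (hNr : ∀ a : Ω, stabilizer N a = ⊥)
    (g₀ : G) (hg₀ : g₀ ≠ 1) (a b : Ω) (hab : a ≠ b) (hga : g₀ • a = a) (hgb : g₀ • b = b) :
    ∃ p : ℕ, p.Prime ∧ Fintype.card Ω = 2 ^ p := by
  classical
  haveI := h2
  haveI := hNt
  haveI : Finite G := Finite.of_injective _ (toPerm_injective (α := G) (β := Ω))
  -- two-transitivity
  have htr : ∀ x y x' y' : Ω, x ≠ y → x' ≠ y' → ∃ g : G, g • x = x' ∧ g • y = y' :=
    fun x y x' y' h h' => (is_two_pretransitive_iff (G := G) (α := Ω)).mp h2 h h'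
  -- the bijection with `N`
  let φ : N → Ω := fun n => (n : G) • a
  have hφ : Function.Bijective φ := by
    refine ⟨fun m n h => ?_, fun x => ?_⟩
    · have hm : n⁻¹ * m ∈ stabilizer N a := by
        show (n⁻¹ * m) • a = a
        rw [mul_smul, show m • a = n • a from h, inv_smul_smul]
      rw [hNr a, Subgroup.mem_bot] at hm
      exact (inv_mul_eq_one.mp hm).symm
    · obtain ⟨n, hn⟩ := exists_smul_eq N a x
      exact ⟨n, hn⟩
  have hcard : Nat.card N = Fintype.card Ω := by
    rw [Nat.card_congr (Equiv.ofBijective φ hφ), Nat.card_eq_fintype_card]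
  set X := stabilizer G a with hX
  have hconj : ∀ g ∈ X, ∀ n : N, φ (MulAut.conjNormal g n) = g • φ n := fun g hg n => by
    show (g * (n : G) * g⁻¹) • a = g • (n : G) • a
    rw [mul_smul, mul_smul, mem_stabilizer_iff.mp (X.inv_mem hg)]
  have hφ1 : φ 1 = a := one_smul G a
  -- nonidentity elements of `N` are conjugate
  have hcN : ∀ m n : N, m ≠ 1 → n ≠ 1 → ∃ g ∈ X, MulAut.conjNormal g m = n := by
    intro m n hm hn
    obtain ⟨g, hg1, hg2⟩ := htr a (φ m) a (φ n) (fun h => hm (hφ.1 (h.symm.trans hφ1.symm)))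
      (fun h => hn (hφ.1 (h.symm.trans hφ1.symm)))
    exact ⟨g, hg1, hφ.1 (by rw [hconj g hg1, hg2])⟩
  obtain ⟨nb, hnb⟩ := hφ.2 b
  have hnb1 : nb ≠ 1 := fun h => hab (by rw [← hnb, h, hφ1])
  haveI : Nontrivial N := ⟨nb, 1, hnb1⟩
  -- elementary abelian
  obtain ⟨p, hp, hpd⟩ := Nat.exists_prime_and_dvd (Finite.one_lt_card (α := N)).ne'
  haveI : Fact p.Prime := ⟨hp⟩
  obtain ⟨z, hz⟩ := exists_prime_orderOf_dvd_card' (G := N) p hpd
  have hz1 : z ≠ 1 := fun h => by rw [h, orderOf_one] at hz; exact hp.one_lt.ne hz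
  have hexp : ∀ n : N, n ^ p = 1 := by
    intro n
    by_cases hn : n = 1
    · rw [hn, one_pow]
    obtain ⟨g, -, rfl⟩ := hcN z n hz1 hn
    rw [← map_pow, ← hz, pow_orderOf_eq_one, map_one]
  have hNp : IsPGroup p N := fun n => ⟨1, by rw [pow_one, hexp]⟩
  haveI := hNp.center_nontrivial
  obtain ⟨⟨w, hw⟩, hw1⟩ := exists_ne (1 : Subgroup.center N)
  have hab' : ∀ m n : N, m * n = n * m := by
    intro m n
    by_cases hn : n = 1
    · rw [hn, mul_one, one_mul]
    obtain ⟨g, -, rfl⟩ := hcN w n (fun h => hw1 (Subtype.ext h)) hn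
    have := congrArg (MulAut.conjNormal g) (Subgroup.mem_center_iff.mp hw ((MulAut.conjNormal g)⁻¹ m))
    simpa [map_mul] using this
  -- the point stabilizer is a Frobenius group
  let H : Subgroup X := (stabilizer G b).subgroupOf X
  have memH : ∀ x : X, x ∈ H ↔ (x : G) • b = b := fun x => Iff.rfl
  have h3' : ∀ g : G, ∀ c, c ≠ a → c ≠ b → g • a = a → g • b = b → g • c = c → g = 1 :=
    fun g c hca hcb => h3 g a b c hab (fun h => hcb h.symm) (fun h => hca h.symm)
  have hH : Cfsg.IsFrobeniusComplement H := by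
    refine ⟨fun h => hg₀ ?_, fun h => ?_, fun g hg => ?_⟩
    · have : (⟨g₀, hga⟩ : X) ∈ H := hgb
      rw [h, Subgroup.mem_bot] at this
      exact congrArg Subtype.val this
    · refine hg₀ (eq_of_smul_eq_smul (α := Ω) fun x => ?_)
      rw [one_smul]
      by_cases hxa : x = a
      · rw [hxa, hga]
      obtain ⟨g, hg1, hg2⟩ := htr a b a x hab (Ne.symm hxa)
      have : (⟨g, hg1⟩ : X) ∈ H := h ▸ Subgroup.mem_top _
      rw [memH] at this
      rw [← hg2, this, hgb]
    · rw [Subgroup.eq_bot_iff_forall]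
      rintro x ⟨hx, hxg⟩
      replace hx : (x : G) • b = b := hx
      obtain ⟨y, hy, rfl⟩ := hxg
      refine Subtype.ext (h3' _ ((g : G) • b) (fun h => ?_) hg ?_ hx ?_)
      · exact hab.symm ((smul_left_cancel_iff (g : G)).mp (h.trans g.2.symm))
      · exact (MulAut.conj g y).2
      · show ((g : G) * (y : G) * (g : G)⁻¹) • (g : G) • b = (g : G) • b
        rw [smul_smul, inv_mul_cancel_right, mul_smul, (memH y).mp hy]
  obtain ⟨K, -, hKn, hKc⟩ := CfsgLib.FrobCompl.exists_kernel_complement hH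
  haveI := CfsgLib.FrobCompl.kernel_isNilpotent hH hKn hKc
  have hKH : ∀ k : X, k ∈ K → k ∈ H → k = 1 := fun k hk hk' =>
    Subgroup.disjoint_def.mp hKc.disjoint hk hk'
  -- `K` is regular on the other points
  have hKtr : ∀ x : Ω, x ≠ a → ∃ k ∈ K, (k : G) • b = x := by
    intro x hx
    obtain ⟨g, hg1, hg2⟩ := htr a b a x hab (Ne.symm hx)
    obtain ⟨⟨k, h⟩, hkh⟩ := hKc.surjective (⟨g, hg1⟩ : X)
    refine ⟨k, k.2, ?_⟩
    have h' : ((k : X) : G) * ((h : X) : G) = g := congrArg Subtype.val hkh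
    rw [← hg2, ← h', mul_smul, (memH h).mp h.2]
  have hKfree : ∀ k ∈ K, ∀ x : Ω, x ≠ a → (k : G) • x = x → k = 1 := by
    intro k hk x hx hkx
    obtain ⟨l, hl, rfl⟩ := hKtr x hx
    have : l⁻¹ * k * l = 1 := hKH _ (by simpa using hKn.conj_mem k hk l⁻¹) (by
      rw [memH]; push_cast
      rw [mul_smul, mul_smul, hkx, inv_smul_smul])
    calc k = l * (l⁻¹ * k * l) * l⁻¹ := by group
      _ = 1 := by rw [this]; group
  -- an element fixing two points centralizes exactly two elements of `N`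
  have hfix : ∀ h : G, h ≠ 1 → h • a = a → h • b = b → ∀ n : N,
      MulAut.conjNormal h n = n → n = 1 ∨ n = nb := by
    intro h hh hha hhb n hn
    have hfx : h • φ n = φ n := by rw [← hconj h hha, hn]
    by_contra hne
    push Not at hne
    exact hh (h3' h (φ n) (fun e => hne.1 (hφ.1 (e.trans hφ1.symm)))
      (fun e => hne.2 (hφ.1 (e.trans hnb.symm))) hha hhb hfx)
  have hfixnb : MulAut.conjNormal g₀ nb = nb := hφ.1 (by rw [hconj g₀ hga, hnb, hgb])
  have hp2 : p = 2 := by
    let C : Subgroup N := MonoidHom.eqLocus (MulAut.conjNormal g₀ : MulAut N).toMonoidHom (MonoidHom.id N)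
    have hC2 : Nat.card C = 2 := by
      haveI := Fintype.ofFinite C
      rw [Nat.card_eq_fintype_card, Fintype.card_eq_nat_card, Nat.card_eq_two_iff]
      refine ⟨1, ⟨nb, hfixnb⟩, fun e => hnb1 (congrArg Subtype.val e).symm, ?_⟩
      ext ⟨n, hn⟩
      simp only [Set.mem_insert_iff, Set.mem_singleton_iff, Set.mem_univ, iff_true]
      rcases hfix g₀ hg₀ hga hgb n hn with rfl | rfl
      · exact Or.inl rfl
      · exact Or.inr rfl
    obtain ⟨i, hi⟩ := IsPGroup.iff_card.mp (hNp.to_subgroup C)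
    rw [hC2] at hi
    exact ((Nat.prime_dvd_prime_iff_eq hp Nat.prime_two).mp (hi ▸ dvd_pow_self p (by rintro rfl; simp at hi)))
  subst hp2
  obtain ⟨m, hm⟩ := IsPGroup.iff_card.mp hNp
  rw [hcard] at hm
  refine ⟨m, ?_, hm⟩
  -- `K` has odd order
  haveI : Fintype K := Fintype.ofFinite K
  have hKcard : Nat.card K + 1 = Fintype.card Ω := by
    let f : K → {x : Ω // x ≠ a} := fun k => ⟨((k : X) : G) • b, fun h =>
      hab.symm ((smul_left_cancel_iff ((k : X) : G)).mp (h.trans (k : X).2.symm))⟩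
    have hf : Function.Bijective f := by
      refine ⟨fun k l h => ?_, fun x => ?_⟩
      · have h' : ((k : X) : G) • b = ((l : X) : G) • b := congrArg Subtype.val h
        have hlk := hKfree ((l : X)⁻¹ * k) (K.mul_mem (K.inv_mem l.2) k.2) b hab.symm (by
          push_cast; rw [mul_smul, h', inv_smul_smul])
        exact Subtype.ext (inv_mul_eq_one.mp hlk).symm
      · obtain ⟨k, hk, hkx⟩ := hKtr x x.2
        exact ⟨⟨k, hk⟩, Subtype.ext hkx⟩
    rw [Nat.card_congr (Equiv.ofBijective f hf), Nat.card_eq_fintype_card, Fintype.card_subtype_compl,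
      Fintype.card_subtype_eq]
    have := Fintype.card_pos_iff.mpr ⟨a⟩
    omega
  have hm0 : m ≠ 0 := by
    intro h0
    rw [h0, pow_zero] at hm
    exact hab (Fintype.card_le_one_iff.mp hm.le a b)
  -- `K` is cyclic
  set K' := K.map X.subtype with hK'
  haveI : Group.IsNilpotent K' :=
    Group.nilpotent_of_mulEquiv (K.equivMapOfInjective X.subtype X.subtype_injective)
  have hcK : Nat.card K' = Nat.card K :=
    (Nat.card_congr (K.equivMapOfInjective X.subtype X.subtype_injective).toEquiv).symm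
  haveI : IsMulCommutative N := ⟨⟨hab'⟩⟩
  haveI hKcyc' : IsCyclic K' := by
    refine Cfsg.Agent.CNOdd.isCyclic_of_fpf_odd (V := N) (fun h => ?_) ?_ ?_ inferInstance ?_
    · exact hnb1 (Subtype.ext (Subgroup.mem_bot.mp (h ▸ nb.2 : (nb : G) ∈ (⊥ : Subgroup G))))
    · rw [Subgroup.normalizer_eq_top]; exact le_top
    · rintro _ ⟨k, hk, rfl⟩ hk1
      rw [Subgroup.eq_bot_iff_forall]
      rintro n ⟨hn, hnc⟩
      by_contra hn1
      apply hk1
      have hn' : MulAut.conjNormal (k : G) ⟨n, hn⟩ = ⟨n, hn⟩ := Subtype.ext (by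
        show (k : G) * n * (k : G)⁻¹ = n
        rw [show (k : G) * n = n * k from (Subgroup.mem_centralizer_singleton_iff.mp hnc).symm,
          mul_inv_cancel_right])
      have hk' := hKfree k hk (φ ⟨n, hn⟩) (fun e => hn1 (congrArg Subtype.val (hφ.1 (e.trans hφ1.symm))))
        (by rw [← hconj k k.2, hn'])
      rw [hk']; rfl
    · rw [hcK]
      rcases Nat.even_or_odd (Nat.card K) with h | h
      · exfalso
        obtain ⟨c, hc⟩ := h
        obtain ⟨m', rfl⟩ := Nat.exists_eq_succ_of_ne_zero hm0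
        rw [hm, pow_succ] at hKcard
        omega
      · exact h
  -- the field
  haveI hKcyc : IsCyclic K :=
    isCyclic_of_surjective (K.equivMapOfInjective X.subtype X.subtype_injective).symm.toMonoidHom
      (MulEquiv.surjective _)
  let cg : G → Additive N → Additive N := fun g v => Additive.ofMul (MulAut.conjNormal g v.toMul)
  letI : DistribMulAction K (Additive N) :=
    { smul := fun k v => cg ((k : X) : G) v
      one_smul := fun v => by
        show cg 1 v = v
        simp [cg]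
      mul_smul := fun k l v => by
        show cg (((k : X) : G) * ((l : X) : G)) v = cg _ (cg _ v)
        simp [cg]
      smul_zero := fun k => by
        show cg _ 0 = 0
        simp [cg]
      smul_add := fun k u v => by
        show cg _ (u + v) = cg _ u + cg _ v
        simp [cg] }
  letI : AddCommGroup (Additive N) :=
    { (inferInstance : AddGroup (Additive N)) with
      add_comm := fun u v => Additive.toMul.injective (hab' u.toMul v.toMul) }
  obtain ⟨F, hF, hFfin, e, lam, hlam, hel⟩ := CfsgLib.SuzukiField.exists_field (V := Additive N) (K := K)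
    (fun k l => mul_comm' k l) (by
      intro v w hv hw
      have hva : φ v.toMul ≠ a := fun h => hv (Additive.toMul.injective (hφ.1 (h.trans hφ1.symm)))
      have hwa : φ w.toMul ≠ a := fun h => hw (Additive.toMul.injective (hφ.1 (h.trans hφ1.symm)))
      obtain ⟨k, hk, hkv⟩ := hKtr _ hva
      obtain ⟨l, hl, hlw⟩ := hKtr _ hwa
      refine ⟨⟨l * k⁻¹, K.mul_mem hl (K.inv_mem hk)⟩, Additive.toMul.injective (hφ.1 ?_)⟩
      show φ (MulAut.conjNormal (((l * k⁻¹ : X)) : G) v.toMul) = φ w.toMul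
      rw [hconj _ (l * k⁻¹ : X).2, ← hkv, ← hlw]
      push_cast
      rw [mul_smul, inv_smul_smul])
  have hqF : Nat.card F = 2 ^ m := by
    rw [Nat.card_congr (e.toEquiv.trans Additive.toMul), hcard, hm]
  haveI : CharP F 2 := CharTwo.of_one_ne_zero_of_two_eq_zero one_ne_zero (by
    rw [← one_add_one_eq_two]
    refine e.injective ?_
    rw [map_add, map_zero]
    exact Additive.toMul.injective (by
      show (e 1).toMul * (e 1).toMul = 1
      rw [← pow_two, hexp]))
  have hlmul : ∀ k l, (lam (k * l) : F) = lam k * lam l := by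
    intro k l
    have h : e ((lam (k * l) : F) * 1) = e ((lam k : F) * ((lam l : F) * 1)) := by
      rw [hel, hel, hel, mul_smul]
    have := e.injective h
    rwa [mul_one, mul_one] at this
  set u := e.symm (Additive.ofMul nb) with hu
  have hu0 : u ≠ 0 := fun h => hnb1 (by
    have := congrArg e h
    rw [hu, AddEquiv.apply_symm_apply, map_zero] at this
    exact this)
  -- elements fixing `a` and `b` are field automorphisms
  have hfrob : ∀ h : G, h • a = a → h • b = b → ∃ d : Fin m, ∀ x : F,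
      MulAut.conjNormal h (e (x * u)).toMul = (e (x ^ 2 ^ d.val * u)).toMul := by
    intro h hha hhb
    let g : F →+ F := AddMonoidHom.mk' (fun x => e.symm (cg h (e (x * u))) / u) (fun x y => by
      have : cg h (e ((x + y) * u)) = cg h (e (x * u)) + cg h (e (y * u)) := by simp [cg, add_mul, map_add]
      rw [this, map_add, add_div])
    have hnbfix : cg h (Additive.ofMul nb) = Additive.ofMul nb := by
      show Additive.ofMul (MulAut.conjNormal h nb) = _
      rw [show MulAut.conjNormal h nb = nb from hφ.1 (by rw [hconj h hha, hnb, hhb])]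
    let kh : K → K := fun k => ⟨⟨h, hha⟩ * (k : X) * ⟨h, hha⟩⁻¹, hKn.conj_mem _ k.2 _⟩
    have hg : ∀ k : K, g (lam k : F) = lam (kh k) := by
      intro k
      show e.symm (cg h (e ((lam k : F) * u))) / u = _
      rw [div_eq_iff hu0]
      apply e.injective
      rw [AddEquiv.apply_symm_apply, hel, hel, hu, AddEquiv.apply_symm_apply]
      show cg h (cg ((k : X) : G) (Additive.ofMul nb)) = cg (h * ((k : X) : G) * h⁻¹) (Additive.ofMul nb)
      conv_rhs => rw [← hnbfix]
      simp [cg]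
    obtain ⟨d, hd⟩ := CfsgLib.SuzukiField.eq_frobenius hqF g (fun x y => by
      by_cases hx : x = 0
      · simp [hx]
      by_cases hy : y = 0
      · simp [hy]
      obtain ⟨k, hk⟩ := hlam (Units.mk0 x hx)
      obtain ⟨l, hl⟩ := hlam (Units.mk0 y hy)
      rw [show x = (lam k : F) by rw [hk]; rfl, show y = (lam l : F) by rw [hl]; rfl, ← hlmul, hg, hg, hg,
        ← hlmul]
      congr 2
      exact Subtype.ext (show (⟨h, hha⟩ : X) * ((k : X) * (l : X)) * ⟨h, hha⟩⁻¹
        = (⟨h, hha⟩ * (k : X) * ⟨h, hha⟩⁻¹) * (⟨h, hha⟩ * (l : X) * ⟨h, hha⟩⁻¹) by group)) (by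
      show e.symm (cg h (e (1 * u))) / u = 1
      rw [one_mul, hu, AddEquiv.apply_symm_apply, hnbfix, ← hu, div_self hu0])
    refine ⟨d, fun x => ?_⟩
    have h1 : e.symm (cg h (e (x * u))) / u = x ^ 2 ^ d.val := hd x
    rw [div_eq_iff hu0] at h1
    rw [← h1, AddEquiv.apply_symm_apply]
    rfl
  -- iterates
  have hpowc : ∀ (h : G) (d : ℕ),
      (∀ x : F, MulAut.conjNormal h (e (x * u)).toMul = (e (x ^ 2 ^ d * u)).toMul) →
      ∀ (j : ℕ) (x : F), MulAut.conjNormal (h ^ j) (e (x * u)).toMul = (e (x ^ 2 ^ (d * j) * u)).toMul := by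
    intro h d hd j
    induction j with
    | zero => intro x; simp
    | succ j ih =>
      intro x
      rw [pow_succ', map_mul, MulAut.mul_apply, ih, hd, ← pow_mul, ← pow_add, Nat.mul_succ]
  -- exponents are prime to `m`
  have hgcd : ∀ h : G, h ≠ 1 → h • a = a → h • b = b → ∀ d : ℕ,
      (∀ x : F, MulAut.conjNormal h (e (x * u)).toMul = (e (x ^ 2 ^ d * u)).toMul) → Nat.gcd m d = 1 := by
    intro h hh hha hhb d hd
    set g := Nat.gcd m d with hgdef
    have hgpos : 0 < g := Nat.gcd_pos_of_pos_left d (Nat.pos_of_ne_zero hm0)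
    by_contra hg1
    obtain ⟨ζ, hζ⟩ := IsCyclic.exists_ofOrder_eq_natCard (α := Fˣ)
    rw [Nat.card_units, hqF] at hζ
    have hdv : 2 ^ g - 1 ∣ 2 ^ m - 1 := Nat.pow_sub_one_dvd_pow_sub_one 2 (Nat.gcd_dvd_left m d)
    have h4 : 2 ^ 2 ≤ 2 ^ g := Nat.pow_le_pow_right (by norm_num) (by omega)
    have hpos : 0 < 2 ^ m - 1 := by rw [← hζ]; exact orderOf_pos ζ
    obtain ⟨w, hw⟩ := hdv
    set μ := ζ ^ w
    have hμ : orderOf μ = 2 ^ g - 1 := by
      have := orderOf_pow_orderOf_div (x := ζ) (n := 2 ^ g - 1) (by omega) (hζ ▸ ⟨w, hw⟩)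
      rwa [hζ, hw, Nat.mul_div_cancel_left _ (by omega)] at this
    have hμd : (μ : F) ^ 2 ^ d = μ := by
      have h1 : μ ^ (2 ^ d - 1) = 1 := by
        refine orderOf_dvd_iff_pow_eq_one.mp ?_
        rw [hμ]; exact Nat.pow_sub_one_dvd_pow_sub_one 2 (Nat.gcd_dvd_right m d)
      rw [← Units.val_pow_eq_pow_val, ← Nat.sub_add_cancel (Nat.one_le_two_pow (n := d)), pow_succ, h1,
        one_mul]
    have hne : μ ≠ 1 := fun h0 => by rw [h0, orderOf_one] at hμ; omega
    rcases hfix h hh hha hhb _ ((hd μ).trans (by rw [hμd])) with h0 | h0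
    · have : e ((μ : F) * u) = 0 := Additive.toMul.injective h0
      rw [← map_zero e] at this
      exact mul_ne_zero μ.ne_zero hu0 (e.injective this)
    · have : e ((μ : F) * u) = e (1 * u) := by
        rw [one_mul, hu, AddEquiv.apply_symm_apply]
        exact Additive.toMul.injective h0
      exact hne (Units.ext (mul_right_cancel₀ hu0 (e.injective this)))
  -- conclusion
  obtain ⟨d, hd⟩ := hfrob g₀ hga hgb
  by_contra hmp
  have hcop := hgcd g₀ hg₀ hga hgb d hd
  by_cases hm1 : m = 1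
  · rw [hm1] at hm
    refine hg₀ (eq_of_smul_eq_smul (α := Ω) fun x => ?_)
    rw [one_smul]
    by_cases hxa : x = a
    · rw [hxa, hga]
    by_cases hxb : x = b
    · rw [hxb, hgb]
    have h3c : ({x, a, b} : Finset Ω).card = 3 := by simp [hxa, hxb, hab]
    have := Finset.card_le_univ ({x, a, b} : Finset Ω)
    omega
  obtain ⟨c, hcd, hc1, hcm⟩ := Nat.exists_dvd_of_not_prime (show 2 ≤ m by omega) hmp
  have hhc : g₀ ^ c = 1 := by
    by_contra hne
    have hfx : ∀ (j : ℕ) (x : Ω), g₀ • x = x → (g₀ ^ j) • x = x := by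
      intro j x hx
      induction j with
      | zero => simp
      | succ j ih => rw [pow_succ, mul_smul, hx, ih]
    have := hgcd (g₀ ^ c) hne (hfx c a hga) (hfx c b hgb) (d.val * c) (hpowc g₀ d.val hd c)
    exact hc1 (Nat.dvd_one.mp (this ▸ Nat.dvd_gcd hcd (dvd_mul_left c _)))
  have hdc : m ∣ d.val * c := by
    have h1 : ∀ x : F, x ^ 2 ^ (d.val * c) = x := by
      intro x
      have h2 := hpowc g₀ d.val hd c x
      rw [hhc, map_one, MulAut.one_apply] at h2
      exact (mul_right_cancel₀ hu0 (e.injective (Additive.toMul.injective h2))).symm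
    have hz : (⟨(d.val * c) % m, Nat.mod_lt _ (Nat.pos_of_ne_zero hm0)⟩ : Fin m) = ⟨0, Nat.pos_of_ne_zero hm0⟩ :=
      CfsgLib.SuzukiField.fr_injective hqF fun x => by
        show x ^ 2 ^ ((d.val * c) % m) = x ^ 2 ^ 0
        rw [CfsgLib.SuzukiField.pow_mod_eq hqF, h1, pow_zero, pow_one]
    exact Nat.dvd_of_mod_eq_zero (congrArg Fin.val hz)
  exact hcm (Nat.dvd_antisymm hcd ((Nat.Coprime.dvd_of_dvd_mul_left hcop hdc)))


/-- If a finite group acts faithfully and doubly transitively, no non-identity element fixes three points, some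
non-identity element fixes two points, and some normal subgroup acts regularly, then the number of points
is `2^p` with `p` prime. -/
theorem result {G Ω : Type*} [Group G]
    [MulAction G Ω] [Fintype Ω] [FaithfulSMul G Ω] (h2 : MulAction.IsMultiplyPretransitive G Ω 2)
    (h3 : ∀ g : G, ∀ a b c : Ω, a ≠ b → b ≠ c → a ≠ c → g • a = a → g • b = b → g • c = c → g = 1)
    (hfix : ∃ g : G, g ≠ 1 ∧ ∃ a b : Ω, a ≠ b ∧ g • a = a ∧ g • b = b)
    (N : Subgroup G) [N.Normal] (hNt : MulAction.IsPretransitive N Ω)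
    (hNr : ∀ a : Ω, MulAction.stabilizer N a = ⊥) :
    ∃ p : ℕ, p.Prime ∧ Fintype.card Ω = 2 ^ p := by
  obtain ⟨g, hg, a, b, hab, hga, hgb⟩ := hfix
  exact main h2 h3 N hNt hNr g hg a b hab hga hgb

end Cfsg.Agent.S0341
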