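import Cfsg.Statements.S0345
import Cfsg.Agent.Lib.Zassenhaus.SimpleEven
import Cfsg.Agent.Lib.Zassenhaus.OddStab
import Cfsg.Agent.Lib.FrobCompl.Noncyclic

set_option autoImplicit false
set_option linter.style.haveILetI false
open Cfsg

namespace Cfsg.Agent.S0345

/-- In a finite simple Zassenhaus group the stabiliser `H` of two points `a ≠ b` is cyclic, and some involution
interchanging `a` and `b` inverts every element of `H`. -/
theorem result {G Ω : Type*} [Group G] [Finite G] [MulAction G Ω] [Finite Ω]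
    (hZ : Cfsg.IsZassenhausGroup G Ω) [IsSimpleGroup G]
    {a b : Ω} (hab : a ≠ b) :
    IsCyclic ↥(MulAction.stabilizer G a ⊓ MulAction.stabilizer G b) ∧
      ∃ v : G, orderOf v = 2 ∧ v • a = b ∧ v • b = a ∧ ∀ h ∈ MulAction.stabilizer G a ⊓ MulAction.stabilizer G b, v * h * v⁻¹ = h⁻¹ := by
  classical
  have hz : CfsgLib.Zassenhaus.ZG G Ω := CfsgLib.Zassenhaus.ZG.mk' hZ.1 hZ.2.1 hZ.2.2.1 hZ.2.2.2.1
  have hne : CfsgLib.Zassenhaus.D2 G a b ≠ ⊥ := by
    obtain ⟨g, hg1, c, d, hcd, hgc, hgd⟩ := hZ.2.2.2.1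
    obtain ⟨x, hxa, hxb⟩ := hz.trans c d a b hcd hab
    intro h
    have hm : x * g * x⁻¹ ∈ CfsgLib.Zassenhaus.D2 G a b := CfsgLib.Zassenhaus.mem_D2.mpr
      ⟨by rw [← hxa, mul_smul, mul_smul, inv_smul_smul, hgc],
       by rw [← hxb, mul_smul, mul_smul, inv_smul_smul, hgd]⟩
    rw [h, Subgroup.mem_bot] at hm
    exact hg1 (conj_eq_one_iff.mp hm)
  rcases Nat.even_or_odd (Nat.card (CfsgLib.Zassenhaus.D2 G a b)) with heven | hodd
  · have hx := CfsgLib.Zassenhaus.ext_of_simple hz hab heven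
    obtain ⟨U, hU⟩ := CfsgLib.Zassenhaus.exists_regKernel hz hab hne
    have hS := hU.setting hz hab.symm
    haveI := hU.nil
    set H := CfsgLib.Zassenhaus.D2 G a b with hH
    haveI : IsMulCommutative H :=
      ⟨⟨fun x y => Subtype.ext (CfsgLib.Zassenhaus.D2_comm hx hab x.2 y.2)⟩⟩
    set V := (Subgroup.center U).map U.subtype with hV
    haveI : IsMulCommutative V := ⟨⟨fun x y => by
      obtain ⟨_, u, hu, rfl⟩ := x
      obtain ⟨_, w, hw, rfl⟩ := y
      exact Subtype.ext (congrArg (Subtype.val : U → G) (Subgroup.mem_center_iff.mp hw u))⟩⟩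
    have hVne : V ≠ ⊥ := by
      haveI := U.nontrivial_iff_ne_bot.mpr hS.ne_bot
      rw [hV, Ne, Subgroup.map_eq_bot_iff_of_injective _ U.subtype_injective]
      exact Group.IsNilpotent.center_ne_bot U
    have key : ∀ h ∈ H, ∀ x ∈ V, h * x * h⁻¹ ∈ V := by
      rintro h hh _ ⟨z, hzc, rfl⟩
      refine ⟨⟨h * z * h⁻¹, hS.norm h hh z z.2⟩, Subgroup.mem_center_iff.mpr fun u => Subtype.ext ?_, rfl⟩
      have e : (h⁻¹ * (u : G) * h) * z = z * (h⁻¹ * u * h) :=
        congrArg Subtype.val (Subgroup.mem_center_iff.mp hzc ⟨h⁻¹ * u * h, by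
          simpa using hS.norm h⁻¹ (inv_mem hh) u u.2⟩)
      show (u : G) * (h * z * h⁻¹) = h * z * h⁻¹ * u
      calc (u : G) * (h * z * h⁻¹) = h * ((h⁻¹ * u * h) * z) * h⁻¹ := by group
        _ = h * (z * (h⁻¹ * u * h)) * h⁻¹ := by rw [e]
        _ = _ := by group
    refine ⟨CfsgLib.FrobCompl.isCyclic_of_comm hVne (fun h hh => ?_) ?_, ?_⟩
    · rw [Subgroup.mem_normalizer_iff]
      intro x
      refine ⟨key h hh x, fun hx' => ?_⟩
      have := key h⁻¹ (inv_mem hh) _ hx'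
      simpa [mul_assoc] using this
    · intro e he he1
      rw [Subgroup.eq_bot_iff_forall]
      rintro x ⟨⟨z, -, rfl⟩, hxc⟩
      by_contra hx1
      exact he1 (hS.free e he z z.2 hx1 (mul_inv_eq_iff_eq_mul.mpr
        (Subgroup.mem_centralizer_singleton_iff.mp hxc).symm))
    · obtain ⟨t, ta, tb⟩ := CfsgLib.Zassenhaus.exists_swapping hz hab
      have hr := hx.swap_refl t a b hab ta tb
      refine ⟨t, orderOf_eq_prime (by rw [pow_two]; exact hr.2.1) hr.1, ta, tb, fun h hh => ?_⟩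
      rw [inv_eq_of_mul_eq_one_right hr.2.1]
      exact CfsgLib.Zassenhaus.D2_inverted hx hab ta tb hh
  · obtain ⟨hcyc, hinv⟩ := CfsgLib.Zassenhaus.odd_stab hz hab hne hodd
    refine ⟨hcyc, ?_⟩
    obtain ⟨t, ta, tb⟩ := CfsgLib.Zassenhaus.exists_swapping hz hab
    set v := t ^ Nat.card (CfsgLib.Zassenhaus.D2 G a b) with hv
    obtain ⟨r, hr⟩ := hodd
    have ht2 : t * t ∈ CfsgLib.Zassenhaus.D2 G a b := CfsgLib.Zassenhaus.mem_D2.mpr
      ⟨by rw [mul_smul, ta, tb], by rw [mul_smul, tb, ta]⟩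
    have hmem := Subgroup.pow_mem _ ht2 r
    have hv' : v = t * (t * t) ^ r := by rw [hv, hr, pow_succ', pow_mul, pow_two]
    have hva : v • a = b := by rw [hv', mul_smul, show (t * t) ^ r • a = a from hmem.1, ta]
    have hvb : v • b = a := by rw [hv', mul_smul, show (t * t) ^ r • b = b from hmem.2, tb]
    refine ⟨v, orderOf_eq_prime ?_ ?_, hva, hvb, hinv v hva hvb⟩
    · rw [hv, ← pow_mul, mul_comm, pow_mul, pow_two]
      have := pow_card_eq_one' (x := (⟨t * t, ht2⟩ : CfsgLib.Zassenhaus.D2 G a b))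
      exact congrArg Subtype.val this
    · intro h
      rw [h, one_smul] at hva
      exact hab hva

end Cfsg.Agent.S0345
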