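import Cfsg.Statements.S0347
import Cfsg.Agent.Lib.Zassenhaus.SuzukiMain
import Cfsg.Agent.Lib.Zassenhaus.LargeStab

set_option autoImplicit false
set_option linter.style.haveILetI false
open Cfsg

namespace Cfsg.Agent.S0347

/-- If in a finite simple Zassenhaus group the stabiliser of a point `x` has a normal `2`-subgroup `U` which is
non-abelian and acts regularly on the points other than `x`, then the group is simple of Suzuki order (order-level
predicate `IsSuzuki`). -/
theorem result {G Ω : Type*} [Group G] [Finite G] [MulAction G Ω] [Finite Ω]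
    (hZ : Cfsg.IsZassenhausGroup G Ω) [IsSimpleGroup G]
    (x : Ω) (U : Subgroup G) (hUle : U ≤ MulAction.stabilizer G x) (hUn : (U.subgroupOf (MulAction.stabilizer G x)).Normal)
    (hU2 : IsPGroup 2 U) (hUna : ∃ u v : U, u * v ≠ v * u)
    (hreg : ∀ y z : Ω, y ≠ x → z ≠ x → ∃! u : U, (u : G) • y = z) :
    Cfsg.IsSuzuki G := by
  classical
  have hz : CfsgLib.Zassenhaus.ZG G Ω := CfsgLib.Zassenhaus.ZG.mk' hZ.1 hZ.2.1 hZ.2.2.1 hZ.2.2.2.1
  obtain ⟨b, hb, -⟩ := CfsgLib.Zassenhaus.exists_third hz x x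
  have hne := CfsgLib.Zassenhaus.D2_ne_bot hZ hz hb.symm
  exact CfsgLib.Zassenhaus.isSuzuki_of_case hz hb.symm hne
    (CfsgLib.Zassenhaus.regKernel_of_reg hz hb.symm hne hUle hreg) hU2 hUna

end Cfsg.Agent.S0347
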