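import Cfsg.Statements.S0354
import Mathlib
import Cfsg.Agent.Lib.Design.Steiner

set_option autoImplicit false
set_option linter.style.haveILetI false
open Cfsg

namespace Cfsg.Agent.S0354

/-- In an S(5, 8, 24), each block is disjoint from exactly 30 blocks. -/
theorem result {α : Type*} [Fintype α] [DecidableEq α] (hα : Fintype.card α = 24) {B : Set (Finset α)} (hB : Cfsg.IsSteinerSystem 5 8 B) {b : Finset α} (hb : b ∈ B) : {c : Finset α | c ∈ B ∧ Disjoint b c}.ncard = 30 := by
  obtain ⟨B, rfl, hB'⟩ := CfsgLib.Design.exists_finset hB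
  have hb' : b ∈ B := hb
  have h0 := CfsgLib.Design.block_moment hB' hb' 0 758 (by norm_num) (fun n hn => by
    rw [hα] at hn; norm_num [Nat.choose] at hn ⊢ <;> omega)
  have h1 := CfsgLib.Design.block_moment hB' hb' 1 252 (by norm_num) (fun n hn => by
    rw [hα] at hn; norm_num [Nat.choose] at hn ⊢ <;> omega)
  have h2 := CfsgLib.Design.block_moment hB' hb' 2 76 (by norm_num) (fun n hn => by
    rw [hα] at hn; norm_num [Nat.choose] at hn ⊢ <;> omega)
  have h3 := CfsgLib.Design.block_moment hB' hb' 3 20 (by norm_num) (fun n hn => by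
    rw [hα] at hn; norm_num [Nat.choose] at hn ⊢ <;> omega)
  have h4 := CfsgLib.Design.block_moment hB' hb' 4 4 (by norm_num) (fun n hn => by
    rw [hα] at hn; norm_num [Nat.choose] at hn ⊢ <;> omega)
  simp only [Finset.sum_range_succ, Finset.sum_range_zero, zero_add] at h0 h1 h2 h3 h4
  norm_num [Nat.choose, -Finset.card_eq_zero] at h0 h1 h2 h3 h4
  have hset : {c : Finset α | c ∈ (B : Set (Finset α)) ∧ Disjoint b c} =
      (((B.erase b).filter (fun c => (b ∩ c).card = 0) : Finset (Finset α)) : Set (Finset α)) := by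
    ext c
    simp only [Finset.mem_coe, Set.mem_setOf_eq, Finset.mem_filter, Finset.mem_erase,
      Finset.card_eq_zero, ← Finset.disjoint_iff_inter_eq_empty]
    refine ⟨fun h => ⟨⟨fun e => ?_, h.1⟩, h.2⟩, fun h => ⟨h.1.2, h.2⟩⟩
    have h8 := hB'.1 b hb'
    rw [e, disjoint_self, Finset.bot_eq_empty] at h
    rw [h.2, Finset.card_empty] at h8
    omega
  rw [hset, Set.ncard_coe_finset]
  omega

end Cfsg.Agent.S0354
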