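import Cfsg.Statements.S0375
import Cfsg.Agent.Lib.Steiner.Witt
import  Cfsg.Agent.Lib.SelfDual24.Basic

set_option autoImplicit false
open Cfsg

namespace Cfsg.Agent.S0375

/-- A doubly even self-dual binary code of length 24 with no words of weight 4 is equivalent to the length-24 code built from the squares modulo 23. -/
theorem result (C : Submodule (ZMod 2) (Fin 24 → ZMod 2)) (hdim : Module.finrank (ZMod 2) C = 12) (horth : ∀ v ∈ C, ∀ w ∈ C, ∑ i, v i * w i = 0) (h4 : ∀ w ∈ C, 4 ∣ hammingNorm w) (hno4 : ∀ w ∈ C, hammingNorm w ≠ 4) : ∃ e : Fin 24 ≃ Cfsg.GolayPt, ∀ w : Cfsg.GolayPt → ZMod 2, w ∈ Cfsg.golayCode ↔ (fun i => w (e i)) ∈ C := by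
  classical
  have hC : CfsgLib.SelfDual24.Data C := ⟨hdim, horth, fun w hw h0 => by
    obtain ⟨a, ha⟩ := h4 w hw
    have := hno4 w hw
    have : 0 < hammingNorm w := hammingNorm_pos_iff.2 h0
    omega⟩
  have hB : Cfsg.IsSteinerSystem 5 8
      {T : Finset (Fin 24) | CfsgLib.SelfDual24.word T ∈ C ∧ T.card = 8} :=
    ⟨fun b hb => hb.2, fun s hs => hC.octad s hs⟩
  obtain ⟨φ, hφ⟩ := CfsgLib.Steiner.exists_octad_label (Fintype.card_fin 24) hB
  refine ⟨φ, CfsgLib.Steiner.code_unique hdim fun w hw => ?_⟩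
  have h1 : (Cfsg.support₂ w).image φ.symm ∈ CfsgLib.Steiner.pullback φ Cfsg.octads := by
    rw [CfsgLib.Steiner.mem_pullback, CfsgLib.Steiner.image_symm_image]; exact hw
  rw [hφ] at h1
  convert h1.1 using 1
  funext i
  have hmem : i ∈ (Cfsg.support₂ w).image φ.symm ↔ w (φ i) ≠ 0 := by
    simp only [Finset.mem_image, Cfsg.support₂, Finset.mem_filter, Finset.mem_univ, true_and]
    exact ⟨fun ⟨a, ha, e⟩ => by rw [← e, Equiv.apply_symm_apply]; exact ha, fun h => ⟨φ i, h, φ.symm_apply_apply i⟩⟩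
  simp only [CfsgLib.SelfDual24.word, hmem]
  generalize w (φ i) = v
  revert v
  decide

end Cfsg.Agent.S0375
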