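import Cfsg.Statements.S0385
import Cfsg.Agent.Lib.Golay.MeetCounts
-- import your own Cfsg.Agent.* helpers here

set_option autoImplicit false
open Cfsg

namespace Cfsg.Agent.S0385

/-- The 6-point intersections of octads with a fixed dodecad form a Steiner system S(5, 6, 12) on the dodecad. -/
theorem result (d : Finset Cfsg.GolayPt) (hd : d ∈ Cfsg.dodecads) : Cfsg.IsSteinerSystem 5 6 {h : Finset {p : Cfsg.GolayPt // p ∈ d} | ∃ o ∈ Cfsg.octads, (o ∩ d).card = 6 ∧ h = Finset.subtype (fun p => p ∈ d) o} := by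
  classical
  refine ⟨?_, fun s hs => ?_⟩
  · rintro _ ⟨o, ho, h6, rfl⟩
    rw [Finset.card_subtype, Finset.filter_mem_eq_inter, h6]
  · obtain ⟨o, ⟨ho, hso⟩, huniq⟩ := CfsgLib.Golay.octads_steiner.2
      (s.map (Function.Embedding.subtype _)) (by rw [Finset.card_map]; exact hs)
    have hsd : s.map (Function.Embedding.subtype _) ⊆ d ∩ o := Finset.subset_inter
      (fun x hx => by obtain ⟨y, -, rfl⟩ := Finset.mem_map.1 hx; exact y.2) hso
    have h5 := Finset.card_le_card hsd
    rw [Finset.card_map, hs] at h5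
    have h6 : (o ∩ d).card = 6 := by
      rw [Finset.inter_comm]
      rcases CfsgLib.Golay.card_meet_octad_dodecad ho hd with h | h | h <;> omega
    refine ⟨Finset.subtype (fun p => p ∈ d) o, ⟨⟨o, ho, h6, rfl⟩, fun x hx =>
      Finset.mem_subtype.2 (hso (Finset.mem_map_of_mem _ hx))⟩, ?_⟩
    rintro _ ⟨⟨o', ho', -, rfl⟩, hso'⟩
    rw [huniq o' ⟨ho', fun x hx => ?_⟩]
    obtain ⟨y, hy, rfl⟩ := Finset.mem_map.1 hx
    exact Finset.mem_subtype.1 (hso' hy)

end Cfsg.Agent.S0385
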