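import Cfsg.Statements.S0422
import Cfsg.Agent.Lib.M24Order.Assemble
import Cfsg.Agent.Lib.M24Order.Char4e6
import Cfsg.Agent.Lib.M24Order.K6.Cases22

set_option autoImplicit false
open Cfsg

namespace Cfsg.Agent.S0422

/-- Simple groups of order 244823040 are all isomorphic to the concrete largest Mathieu group. -/
theorem result {G : Type*} [Group G] [Finite G] (hG : Cfsg.IsM24 G) : Nonempty (G ≃* Cfsg.M24) := by
  obtain ⟨hsimp, hcard⟩ := hG
  haveI := hsimp
  letI : Fintype G := Fintype.ofFinite G
  exact CfsgLib.M24Order.isoM24_of_deg hcard (CfsgLib.M24Order.exists_deg23_of CfsgLib.M24Order.E6.cases_all hcard)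

end Cfsg.Agent.S0422
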