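import Cfsg.Statements.S0441
import Cfsg.Agent.Lib.ThreeTransp.Main
-- import your own Cfsg.Agent.* helpers here

set_option autoImplicit false
open Cfsg

namespace Cfsg.Agent.S0441

/-- Fischer's rank-three property. Let a finite group be generated by a conjugacy class D of 3-transpositions, with non-abelian simple commutator subgroup. Then for a in D there are members of D other than a commuting with a and members not commuting with a, and the centraliser of a acts transitively on each of these two sets. -/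
theorem result {G : Type*} [Group G] [Finite G] {D : Set G} (hD : Cfsg.IsThreeTranspositionClass D) (hsimple : IsSimpleGroup (commutator G)) (hnonab : ∃ x y : commutator G, x * y ≠ y * x) {a : G} (ha : a ∈ D) : (∃ b ∈ D, b ≠ a ∧ Commute a b) ∧ (∃ c ∈ D, ¬ Commute a c) ∧ (∀ b ∈ D, ∀ b' ∈ D, b ≠ a → b' ≠ a → Commute a b → Commute a b' → ∃ g : G, Commute g a ∧ g * b * g⁻¹ = b') ∧ (∀ c ∈ D, ∀ c' ∈ D, ¬ Commute a c → ¬ Commute a c' → ∃ g : G, Commute g a ∧ g * c * g⁻¹ = c') := by
  haveI := hsimple
  have hS := hD.1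
  have hc := CfsgLib.ThreeTransp.class_conjClosed hD
  have hns := CfsgLib.ThreeTransp.not_solvable_of_simple_derived hnonab
  have hprim := CfsgLib.ThreeTransp.primitive_of_simple_derived hnonab hD
  have hG := CfsgLib.ThreeTransp.class_isGroup hD
  have hw := CfsgLib.ThreeTransp.exists_commuting_pair hS hc hD.2.2 hns
  have hD2 := CfsgLib.ThreeTransp.exists_two_of_not_solvable hD hns
  have hgd : ∀ g ∈ Subgroup.closure {y : G | y ∈ D ∧ Commute a y}, Commute g a :=
    fun g hg => (CfsgLib.ThreeTransp.perp_closure_conj hS hc hg ha).1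
  refine ⟨?_, CfsgLib.ThreeTransp.exists_not_commute hD hD2 ha, ?_, ?_⟩
  · obtain ⟨p, hp, q, hq, hpq, hcomm⟩ := hw
    obtain ⟨g, rfl⟩ := CfsgLib.ThreeTransp.class_exists_conj hD hp ha
    exact ⟨g * q * g⁻¹, hc g q hq, fun h => hpq (mul_left_cancel (mul_right_cancel h)).symm,
      CfsgLib.ThreeTransp.commute_conj.mpr hcomm⟩
  · intro b hb b' hb' hba hba' hab hab'
    obtain ⟨g, hg, h⟩ := CfsgLib.ThreeTransp.transitive_commute hG hprim hw ha hb hb' hba hba' hab hab'
    exact ⟨g, hgd g (Subgroup.closure_mono (k := {y : G | y ∈ D ∧ Commute a y})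
      (fun z hz => (⟨hz.1, hz.2.2⟩ : z ∈ {y : G | y ∈ D ∧ Commute a y})) hg), h⟩
  · intro c hcD c' hcD' hac hac'
    obtain ⟨g, hg, h⟩ := CfsgLib.ThreeTransp.transitive_not_commute hG hprim hw ha hcD hcD' hac hac'
    exact ⟨g, hgd g hg, h⟩

end Cfsg.Agent.S0441
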