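import Cfsg.Statements.S0442
import Mathlib
-- import your own Cfsg.Agent.* helpers here

set_option autoImplicit false
open Cfsg

namespace Cfsg.Agent.S0442

/-- A standard trick for producing elements of an involution centraliser: for an involution a and an element g, let b be the conjugate g⁻¹ * a * g. If a * b has odd order 2m + 1 then g * (a * b) ^ m commutes with a; if a * b has even order 2m then (a * b) ^ m and (a * (g * a * g⁻¹)) ^ m commute with a. -/
theorem result {G : Type*} [Group G] (a g : G) (ha : orderOf a = 2) : (∀ m : ℕ, orderOf (a * (g⁻¹ * a * g)) = 2 * m + 1 → Commute (g * (a * (g⁻¹ * a * g)) ^ m) a) ∧ (∀ m : ℕ, orderOf (a * (g⁻¹ * a * g)) = 2 * m → Commute ((a * (g⁻¹ * a * g)) ^ m) a ∧ Commute ((a * (g * a * g⁻¹)) ^ m) a) := by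
  have ha2 : a * a = 1 := by rw [← sq, ← ha]; exact pow_orderOf_eq_one a
  have hai : a⁻¹ = a := inv_eq_of_mul_eq_one_right ha2
  set d := a * (g⁻¹ * a * g) with hd
  set d' := a * (g * a * g⁻¹) with hd'
  have key : ∀ b : G, b * b = 1 → ∀ m : ℕ, (a * b) ^ m * a = a * ((a * b) ^ m)⁻¹ := by
    intro b hb m
    have h1 : a * (a * b) * a⁻¹ = (a * b)⁻¹ := by
      rw [hai, mul_inv_rev, hai, inv_eq_of_mul_eq_one_right hb, ← mul_assoc, ha2, one_mul]
    have h2 : a * (a * b) ^ m * a⁻¹ = ((a * b) ^ m)⁻¹ := by rw [← conj_pow, h1, inv_pow]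
    calc (a * b) ^ m * a = a * (a * (a * b) ^ m * a⁻¹) := by
          rw [hai, ← mul_assoc, ← mul_assoc, ha2, one_mul]
      _ = _ := by rw [h2]
  have hg : g⁻¹ * a * g * (g⁻¹ * a * g) = 1 := by
    calc g⁻¹ * a * g * (g⁻¹ * a * g) = g⁻¹ * (a * a) * g := by group
      _ = 1 := by rw [ha2]; group
  have hg' : g * a * g⁻¹ * (g * a * g⁻¹) = 1 := by
    calc g * a * g⁻¹ * (g * a * g⁻¹) = g * (a * a) * g⁻¹ := by group
      _ = 1 := by rw [ha2]; group
  refine ⟨fun m hm => ?_, fun m hm => ?_⟩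
  · have hpow : d ^ (2 * m + 1) = 1 := by rw [← hm]; exact pow_orderOf_eq_one _
    have h1 : (d ^ m)⁻¹ = d * d ^ m := by
      rw [← pow_succ', inv_eq_iff_mul_eq_one, ← pow_add, show m + (m + 1) = 2 * m + 1 by omega, hpow]
    calc g * d ^ m * a = g * (d ^ m * a) := mul_assoc _ _ _
      _ = g * (a * (d ^ m)⁻¹) := by rw [hd, key _ hg m]
      _ = g * (a * d) * d ^ m := by rw [h1]; group
      _ = a * (g * d ^ m) := by
        have : g * (a * d) = a * g := by
          rw [hd, ← mul_assoc a a, ha2, one_mul]; group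
        rw [this, mul_assoc]
  · have hord : orderOf d' = orderOf d := by
      have : d' = g * d⁻¹ * g⁻¹ := by
        rw [hd', hd, mul_inv_rev, inv_eq_of_mul_eq_one_right hg, hai]; group
      rw [this, ← orderOf_inv d]
      exact MulEquiv.orderOf_eq (MulAut.conj g) d⁻¹
    have hp : ∀ e : G, orderOf e = 2 * m → (e ^ m)⁻¹ = e ^ m := fun e he => by
      rw [inv_eq_iff_mul_eq_one, ← pow_add, show m + m = 2 * m by omega, ← he, pow_orderOf_eq_one]
    refine ⟨?_, ?_⟩
    · show d ^ m * a = a * d ^ m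
      rw [hd, key _ hg m, ← hd, hp d hm]
    · show d' ^ m * a = a * d' ^ m
      rw [hd', key _ hg' m, ← hd', hp d' (hord.trans hm)]

end Cfsg.Agent.S0442
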