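import Cfsg.Statements.S0444
import Cfsg.Agent.Lib.ThreeTransp.StringHom
-- import your own Cfsg.Agent.* helpers here

set_option autoImplicit false
open Cfsg

namespace Cfsg.Agent.S0444

/-- Two members of a set of 3-transpositions which do not commute generate a subgroup isomorphic to the symmetric group on three letters. -/
theorem result {G : Type*} [Group G] {E : Set G} (hE : Cfsg.IsThreeTranspositionSet E) {d e : G} (hd : d ∈ E) (he : e ∈ E) (h : ¬ Commute d e) : Nonempty (Subgroup.closure ({d, e} : Set G) ≃* Equiv.Perm (Fin 3)) := by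
  obtain ⟨φ, h0, h1⟩ := CfsgLib.ThreeTransp.exists_hom_perm_three
    (CfsgLib.ThreeTransp.mul_self_eq_one hE hd) (CfsgLib.ThreeTransp.mul_self_eq_one hE he)
    (CfsgLib.ThreeTransp.braid hE hd he h)
  have hrange : φ.range = Subgroup.closure ({d, e} : Set G) := by
    refine le_antisymm ?_ ((Subgroup.closure_le _).mpr ?_)
    · rw [MonoidHom.range_eq_map, Subgroup.map_le_iff_le_comap]
      refine (CfsgLib.ThreeTransp.eq_top_of_two_mem ?_ ?_).ge <;>
        rw [Subgroup.mem_comap]
      · exact h0 ▸ Subgroup.subset_closure (by simp)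
      · exact h1 ▸ Subgroup.subset_closure (by simp)
    · rintro z (rfl | rfl)
      exacts [⟨_, h0⟩, ⟨_, h1⟩]
  have hinj : Function.Injective φ := by
    rw [injective_iff_map_eq_one]
    intro x hx
    by_contra hne
    have key : ∀ x : Equiv.Perm (Fin 3), x ≠ 1 → ∃ u v : Equiv.Perm (Fin 3),
        u * (v * x * v⁻¹ * x⁻¹) * u⁻¹ = Equiv.swap 0 1 * Equiv.swap 1 2 := by decide +kernel
    obtain ⟨u, v, huv⟩ := key x hne
    have : φ (Equiv.swap 0 1 * Equiv.swap 1 2) = 1 := by
      rw [← huv]; simp [hx]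
    rw [map_mul, h0, h1] at this
    exact h (by rw [eq_inv_of_mul_eq_one_left this, CfsgLib.ThreeTransp.inv_eq_self hE he])
  exact ⟨(MulEquiv.subgroupCongr hrange).symm.trans (MonoidHom.ofInjective hinj).symm⟩

end Cfsg.Agent.S0444
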