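import Cfsg.Statements.S0445
-- import your own Cfsg.Agent.* helpers here

set_option autoImplicit false
open Cfsg

namespace Cfsg.Agent.S0445

abbrev F := ZMod 2
abbrev Mat (n : ℕ) := Matrix (Fin n) (Fin n) F

/-- the matrix with given free blocks -/
def build (x : F × (Fin 3 → F) × (Fin 3 → F) × Mat 3) : Mat 5 :=
  !![1, x.1, x.2.1 0, x.2.1 1, x.2.1 2;
     0, 1, 0, 0, 0;
     0, x.2.2.1 0, x.2.2.2 0 0, x.2.2.2 0 1, x.2.2.2 0 2;
     0, x.2.2.1 1, x.2.2.2 1 0, x.2.2.2 1 1, x.2.2.2 1 2;
     0, x.2.2.1 2, x.2.2.2 2 0, x.2.2.2 2 1, x.2.2.2 2 2]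

theorem det_build (x : F × (Fin 3 → F) × (Fin 3 → F) × Mat 3) : (build x).det = x.2.2.2.det := by
  rw [Matrix.det_succ_column_zero, Fin.sum_univ_succ]
  simp only [build, Matrix.of_apply, Fin.sum_univ_succ, Finset.univ_unique, Finset.sum_singleton,
    Matrix.cons_val_zero, Matrix.cons_val_succ]
  simp [Matrix.det_succ_row_zero, Fin.sum_univ_succ, Fin.succAbove]

theorem card_det3 : Fintype.card {M : Mat 3 // M 0 0 * M 1 1 * M 2 2 - M 0 0 * M 1 2 * M 2 1 -
    M 0 1 * M 1 0 * M 2 2 + M 0 1 * M 1 2 * M 2 0 + M 0 2 * M 1 0 * M 2 1 - M 0 2 * M 1 1 * M 2 0 = 1} = 168 := by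
  decide +kernel

theorem commute_iff (A : Mat 5) :
    (1 + Matrix.single 0 1 1) * A = A * (1 + Matrix.single 0 1 1) ↔
      (∀ i, i ≠ 0 → A i 0 = 0) ∧ (∀ j, j ≠ 1 → A 1 j = 0) ∧ A 0 0 = A 1 1 := by
  rw [add_mul, mul_add, one_mul, mul_one, add_right_inj]
  constructor
  · intro h
    refine ⟨fun i hi => ?_, fun j hj => ?_, ?_⟩
    · have := congrFun (congrFun h i) 1
      simpa [hi] using this.symm
    · have := congrFun (congrFun h 0) j
      simpa [hj] using this
    · have := congrFun (congrFun h 0) 1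
      simpa using this.symm
  · rintro ⟨h1, h2, h3⟩
    ext i j
    by_cases hi : i = 0
    · subst hi
      by_cases hj : j = 1
      · subst hj; simp [h3]
      · simp [hj, h2 j hj]
    · by_cases hj : j = 1
      · subst hj; simp [hi, h1 i hi]
      · simp [hi, hj]

/-- In the special linear group of dimension 5 over the field with two elements, the centraliser of a transvection has order 21504 = 2 ^ 7 · 168 (it is an extension of an extraspecial group of order 2 ^ 7 by the simple group of order 168). -/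
theorem result (s : Matrix.SpecialLinearGroup (Fin 5) (ZMod 2)) (hs : (s : Matrix (Fin 5) (Fin 5) (ZMod 2)) = Matrix.transvection 0 1 1) : Nat.card (Subgroup.centralizer ({s} : Set (Matrix.SpecialLinearGroup (Fin 5) (ZMod 2)))) = 21504 := by
  classical
  have hs' : (s : Mat 5) = 1 + Matrix.single 0 1 1 := hs
  let T := {x : F × (Fin 3 → F) × (Fin 3 → F) × Mat 3 // x.2.2.2.det = 1}
  have hA : ∀ A : Matrix.SpecialLinearGroup (Fin 5) F, A ∈ Subgroup.centralizer ({s} : Set _) ↔
      ∃ x : T, build x.1 = (A : Mat 5) := by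
    intro A
    have hc : A * s = s * A ↔ (s : Mat 5) * (A : Mat 5) = (A : Mat 5) * (s : Mat 5) := by
      rw [← Matrix.SpecialLinearGroup.coe_mul, ← Matrix.SpecialLinearGroup.coe_mul]
      exact ⟨fun h => congrArg Subtype.val h.symm, fun h => (Subtype.ext h).symm⟩
    rw [Subgroup.mem_centralizer_singleton_iff, hc, hs', commute_iff]
    constructor
    · rintro ⟨h1, h2, h3⟩
      have hd := A.2
      generalize (A : Mat 5) = B at h1 h2 h3 hd ⊢
      have h00 : B 0 0 = 1 := by
        have : B 0 0 = 0 ∨ B 0 0 = 1 := by generalize B 0 0 = a; revert a; decide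
        refine this.resolve_left fun h => ?_
        rw [Matrix.det_eq_zero_of_column_eq_zero 0 fun i => ?_] at hd
        · exact zero_ne_one hd
        · by_cases hi : i = 0
          · subst hi; exact h
          · exact h1 i hi
      have heq : build (B 0 1, fun j => B 0 ((![2, 3, 4] : Fin 3 → Fin 5) j),
          fun i => B ((![2, 3, 4] : Fin 3 → Fin 5) i) 1,
          B.submatrix (![2, 3, 4] : Fin 3 → Fin 5) ![2, 3, 4]) = B := by
        ext i j
        fin_cases i <;> fin_cases j <;>
          simp [build, h00, ← h3, h1 1 (by decide), h1 2 (by decide), h1 3 (by decide), h1 4 (by decide),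
            h2 0 (by decide), h2 2 (by decide), h2 3 (by decide), h2 4 (by decide)]
      refine ⟨⟨_, ?_⟩, heq⟩
      rw [← det_build, heq]; exact hd
    · rintro ⟨x, hx⟩
      rw [← hx]
      refine ⟨fun i hi => ?_, fun j hj => ?_, ?_⟩
      · fin_cases i <;> simp [build] at hi ⊢
      · fin_cases j <;> simp [build] at hj ⊢
      · simp [build]
  have hinj : Function.Injective fun x : T => build x.1 := by
    rintro ⟨⟨a, u, w, M⟩, hx⟩ ⟨⟨a', u', w', M'⟩, hx'⟩ h
    have e := fun i j => congrFun (congrFun h i) j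
    refine Subtype.ext (Prod.ext ?_ (Prod.ext ?_ (Prod.ext ?_ ?_)))
    · simpa [build] using e 0 1
    · funext j; fin_cases j
      · simpa [build] using e 0 2
      · simpa [build] using e 0 3
      · simpa [build] using e 0 4
    · funext i; fin_cases i
      · simpa [build] using e 2 1
      · simpa [build] using e 3 1
      · simpa [build] using e 4 1
    · ext i j; fin_cases i <;> fin_cases j
      · simpa [build] using e 2 2
      · simpa [build] using e 2 3
      · simpa [build] using e 2 4
      · simpa [build] using e 3 2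
      · simpa [build] using e 3 3
      · simpa [build] using e 3 4
      · simpa [build] using e 4 2
      · simpa [build] using e 4 3
      · simpa [build] using e 4 4
  let f : T → Subgroup.centralizer ({s} : Set (Matrix.SpecialLinearGroup (Fin 5) F)) := fun x =>
    ⟨⟨build x.1, (det_build x.1).trans x.2⟩, (hA _).2 ⟨x, rfl⟩⟩
  have hf : Function.Bijective f := by
    refine ⟨fun x y h => hinj (congrArg (fun z : Subgroup.centralizer ({s} : Set _) =>
      ((z : Matrix.SpecialLinearGroup (Fin 5) F) : Mat 5)) h), fun A => ?_⟩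
    obtain ⟨x, hx⟩ := (hA A.1).1 A.2
    exact ⟨x, Subtype.ext (Subtype.ext hx)⟩
  rw [← Nat.card_eq_of_bijective f hf]
  have e : T ≃ F × (Fin 3 → F) × (Fin 3 → F) × {M : Mat 3 // M.det = 1} :=
    { toFun := fun x => (x.1.1, x.1.2.1, x.1.2.2.1, ⟨x.1.2.2.2, x.2⟩)
      invFun := fun x => ⟨(x.1, x.2.1, x.2.2.1, x.2.2.2.1), x.2.2.2.2⟩
      left_inv := fun _ => rfl
      right_inv := fun _ => rfl }
  rw [Nat.card_congr e]
  have h168 : Nat.card {M : Mat 3 // M.det = 1} = 168 := by
    rw [← card_det3, ← Nat.card_eq_fintype_card]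
    exact Nat.card_congr (Equiv.subtypeEquivRight fun M => by rw [Matrix.det_fin_three])
  rw [Nat.card_prod, Nat.card_prod, Nat.card_prod, h168, Nat.card_fun, Nat.card_zmod, Nat.card_fin]
  norm_num

end Cfsg.Agent.S0445
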