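import Cfsg.Statements.S0891
import Mathlib

set_option autoImplicit false
set_option linter.style.haveILetI false
open Cfsg
open scoped commutatorElement

namespace Cfsg.Agent.S0891

/-- Scalars: a field of order seven, where `2 * 2 ^ 2 = 1`. -/
abbrev F : Type := ZMod 7

instance factSeven : Fact (Nat.Prime 7) := ⟨by norm_num⟩

variable {n : ℕ}

/-- The space carrying the regular module of the Clifford algebra on `n` orthonormal generators. -/
abbrev V (n : ℕ) : Type := (Fin n → ZMod 2) → F

/-- The character of `ZMod 2`. -/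
def chi (a : ZMod 2) : F := if a = 0 then 1 else -1

/-- Sign of a vector over a set of positions. -/
def sg (A : Finset (Fin n)) (S : Fin n → ZMod 2) : F := ∏ j ∈ A, chi (S j)

/-- A coordinate vector. -/
def e (i : Fin n) : Fin n → ZMod 2 := Pi.single i 1

theorem chi_add_one : ∀ a : ZMod 2, chi (a + 1) = -chi a := by decide

theorem chi_sq : ∀ a : ZMod 2, chi a * chi a = 1 := by decide

theorem chi_inj : ∀ a b : ZMod 2, chi a = chi b → a = b := by decide

theorem sg_shift (A : Finset (Fin n)) (S : Fin n → ZMod 2) (k : Fin n) :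
    sg A (S + e k) = (if k ∈ A then -1 else 1) * sg A S := by
  classical
  unfold sg e
  by_cases hk : k ∈ A
  · rw [if_pos hk, ← Finset.mul_prod_erase A _ hk, ← Finset.mul_prod_erase A _ hk,
      Finset.prod_congr rfl (g := fun j => chi (S j)) fun j hj => by
        simp [(Finset.mem_erase.1 hj).1]]
    simp [chi_add_one]
  · rw [if_neg hk, one_mul]
    exact Finset.prod_congr rfl fun j hj => by
      have : j ≠ k := fun h => hk (h ▸ hj)
      simp [this]

theorem sg_sq (A : Finset (Fin n)) (S : Fin n → ZMod 2) : sg A S * sg A S = 1 := by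
  rw [sg, ← Finset.prod_mul_distrib]
  exact Finset.prod_eq_one fun j _ => chi_sq _

theorem add_e_e (S : Fin n → ZMod 2) (i : Fin n) : S + e i + e i = S := by
  rw [add_assoc, show e i + e i = 0 from funext fun j => CharTwo.add_self_eq_zero _, add_zero]

/-- A signed shift. -/
def op (A : Finset (Fin n)) (i : Fin n) : Module.End F (V n) where
  toFun f S := sg A S * f (S + e i)
  map_add' f g := funext fun S => by simp [mul_add]
  map_smul' c f := funext fun S => by simp [mul_left_comm]

theorem op_apply (A : Finset (Fin n)) (i : Fin n) (f : V n) (S : Fin n → ZMod 2) :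
    op A i f S = sg A S * f (S + e i) := rfl

/-- The generators of the Clifford algebra. -/
def gam (i : Fin n) : Module.End F (V n) := op (Finset.univ.filter (· < i)) i

/-- The right multiplications. -/
def rho (i : Fin n) : Module.End F (V n) := op (Finset.univ.filter (i < ·)) i

/-- The parity operator. -/
def par (n : ℕ) : Module.End F (V n) where
  toFun f S := sg Finset.univ S * f S
  map_add' f g := funext fun S => by simp [mul_add]
  map_smul' c f := funext fun S => by simp [mul_left_comm]

theorem par_apply (f : V n) (S : Fin n → ZMod 2) : par n f S = sg Finset.univ S * f S := rfl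

theorem gam_sq (i : Fin n) : gam i * gam i = 1 := by
  refine LinearMap.ext fun f => funext fun S => ?_
  simp only [gam, Module.End.mul_apply, op_apply, sg_shift, Finset.mem_filter, lt_self_iff_false,
    and_false, if_false, one_mul, Module.End.one_apply, add_e_e, ← mul_assoc, sg_sq]

theorem gam_anti {i k : Fin n} (h : i ≠ k) : gam i * gam k = -(gam k * gam i) := by
  refine LinearMap.ext fun f => funext fun S => ?_
  simp only [gam, Module.End.mul_apply, op_apply, sg_shift, Finset.mem_filter, Finset.mem_univ,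
    true_and, LinearMap.neg_apply, Pi.neg_apply]
  rw [add_right_comm S (e k) (e i)]
  rcases lt_or_gt_of_ne h with h | h
  · rw [if_pos h, if_neg h.not_gt]; ring
  · rw [if_pos h, if_neg h.not_gt]; ring

theorem rho_gam (k i : Fin n) : rho k * gam i = gam i * rho k := by
  refine LinearMap.ext fun f => funext fun S => ?_
  simp only [gam, rho, Module.End.mul_apply, op_apply, sg_shift, Finset.mem_filter, Finset.mem_univ,
    true_and]
  rw [add_right_comm S (e k) (e i)]
  split_ifs <;> ring

theorem par_gam (i : Fin n) : par n * gam i = -(gam i * par n) := by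
  refine LinearMap.ext fun f => funext fun S => ?_
  simp only [gam, Module.End.mul_apply, op_apply, par_apply, sg_shift, Finset.mem_univ, if_true,
    LinearMap.neg_apply, Pi.neg_apply]
  ring

theorem par_gam_rho (i : Fin n) (f : V n) (S : Fin n → ZMod 2) :
    (par n * gam i * rho i) f S = chi (S i) * f S := by
  simp only [gam, rho, Module.End.mul_apply, op_apply, par_apply, sg_shift, Finset.mem_filter,
    lt_self_iff_false, and_false, if_false, one_mul, add_e_e]
  have h : sg Finset.univ S =
      sg (Finset.univ.filter (· < i)) S * (chi (S i) * sg (Finset.univ.filter (i < ·)) S) := by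
    rw [sg, ← Finset.prod_filter_mul_prod_filter_not Finset.univ (· < i)]
    congr 1
    have hset : Finset.univ.filter (fun j => ¬ j < i) = insert i (Finset.univ.filter (i < ·)) := by
      ext j
      simp only [Finset.mem_filter, Finset.mem_univ, true_and, Finset.mem_insert, not_lt]
      rw [le_iff_lt_or_eq, or_comm, eq_comm]
    rw [hset, Finset.prod_insert (by simp)]
    rfl
  rw [h]
  have h1 := sg_sq (Finset.univ.filter (· < i)) S
  have h2 := sg_sq (Finset.univ.filter (i < ·)) S
  linear_combination (chi (S i) * f S * sg (Finset.univ.filter (i < ·)) S *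
    sg (Finset.univ.filter (i < ·)) S) * h1 + (chi (S i) * f S) * h2

theorem gam_injective {a b : Fin n} (h : gam a = gam b) : a = b := by
  classical
  have h1 := congrFun (LinearMap.congr_fun h (Pi.single (e a) 1)) 0
  simp only [gam, op_apply, zero_add] at h1
  by_contra hne
  have he : e b ≠ e a := fun h2 => hne (by
    have := congrFun h2 a
    simpa [e, Pi.single_apply] using this)
  rw [Pi.single_eq_same, Pi.single_eq_of_ne he, mul_one, mul_zero] at h1
  have h2 := sg_sq (Finset.univ.filter (· < a)) (0 : Fin n → ZMod 2)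
  rw [h1, mul_zero] at h2
  exact zero_ne_one h2

/-- The standard inner product. -/
def dot (f g : V n) : F := ∑ S, f S * g S

theorem dot_gam (i : Fin n) (f g : V n) : dot (gam i f) g = dot f (gam i g) := by
  refine Fintype.sum_equiv (Equiv.addRight (e i)) _ _ fun S => ?_
  simp only [gam, op_apply, Equiv.coe_addRight, add_e_e, sg_shift, Finset.mem_filter,
    lt_self_iff_false, and_false, if_false, one_mul]
  ring

/-- Operators inducing the signed permutation `σ`. -/
structure Lifts (g : Module.End F (V n)) (σ : Equiv.Perm (Fin n)) : Prop where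
  gam_eq : ∀ k, g * gam k = ((Equiv.Perm.sign σ : ℤ) : F) • (gam (σ k) * g)
  rho_eq : ∀ k, g * rho k = rho k * g
  par_eq : g * par n = ((Equiv.Perm.sign σ : ℤ) : F) • (par n * g)
  dot_eq : ∀ f h, dot (g f) (g h) = dot f h

theorem lifts_mul {g g' : Module.End F (V n)} {σ σ' : Equiv.Perm (Fin n)} (h : Lifts g σ)
    (h' : Lifts g' σ') : Lifts (g * g') (σ * σ') := by
  have hs : ((Equiv.Perm.sign (σ * σ') : ℤ) : F) =
      ((Equiv.Perm.sign σ : ℤ) : F) * ((Equiv.Perm.sign σ' : ℤ) : F) := by
    rw [map_mul, Units.val_mul, Int.cast_mul]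
  refine ⟨fun k => ?_, fun k => ?_, ?_, fun f k => ?_⟩
  · rw [mul_assoc, h'.gam_eq, mul_smul_comm, ← mul_assoc, h.gam_eq, smul_mul_assoc, smul_smul,
      mul_assoc, hs, mul_comm ((Equiv.Perm.sign σ : ℤ) : F)]
    rfl
  · rw [mul_assoc, h'.rho_eq, ← mul_assoc, h.rho_eq, mul_assoc]
  · rw [mul_assoc, h'.par_eq, mul_smul_comm, ← mul_assoc, h.par_eq, smul_mul_assoc, smul_smul,
      mul_assoc, hs, mul_comm ((Equiv.Perm.sign σ : ℤ) : F)]
  · rw [Module.End.mul_apply, Module.End.mul_apply, h.dot_eq, h'.dot_eq]

theorem lifts_one : Lifts (1 : Module.End F (V n)) 1 :=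
  ⟨fun k => by simp, fun k => by simp, by simp, fun f h => rfl⟩

theorem neg_one_mul_comm (g : Module.End F (V n)) : (-1 : Module.End F (V n)) * g = g * -1 :=
  LinearMap.ext fun f => by simp [Module.End.mul_apply]

theorem smul_neg_one (g : Module.End F (V n)) : (-1 : F) • g = -g :=
  LinearMap.ext fun f => funext fun S => by simp

theorem smul_neg_end (c : F) (g : Module.End F (V n)) : c • (-g) = -(c • g) :=
  LinearMap.ext fun f => funext fun S => by simp

theorem lifts_neg_one : Lifts (-1 : Module.End F (V n)) 1 :=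
  ⟨fun k => by
      rw [map_one, Units.val_one, Int.cast_one, one_smul, Equiv.Perm.one_apply, neg_one_mul_comm],
    fun k => neg_one_mul_comm _, by
      rw [map_one, Units.val_one, Int.cast_one, one_smul, neg_one_mul_comm], fun f h => by
    simp [dot, LinearMap.neg_apply]⟩

/-- The lift of a transposition. -/
def tr (i j : Fin n) : Module.End F (V n) := (2 : F) • (gam i - gam j)

theorem tr_sq {i j : Fin n} (h : i ≠ j) : tr i j * tr i j = 1 := by
  have h1 : (gam i - gam j) * (gam i - gam j) = (2 : F) • 1 := by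
    rw [sub_mul, mul_sub, mul_sub, gam_sq, gam_sq, gam_anti h, two_smul]
    abel
  rw [tr, smul_mul_assoc, mul_smul_comm, h1, smul_smul, smul_smul,
    show (2 : F) * 2 * 2 = 1 by decide, one_smul]

theorem lifts_tr {i j : Fin n} (h : i ≠ j) : Lifts (tr i j) (Equiv.swap i j) := by
  have hs : ((Equiv.Perm.sign (Equiv.swap i j) : ℤ) : F) = -1 := by
    rw [Equiv.Perm.sign_swap h]; simp
  refine ⟨fun k => ?_, fun k => ?_, ?_, fun f g => ?_⟩
  · rw [hs, smul_neg_one, tr, smul_mul_assoc, mul_smul_comm]
    refine Eq.trans (congrArg ((2 : F) • ·) ?_) (smul_neg_end _ _)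
    by_cases hki : k = i
    · subst hki
      rw [Equiv.swap_apply_left, sub_mul, mul_sub, gam_sq, gam_sq]
      abel
    · by_cases hkj : k = j
      · subst hkj
        rw [Equiv.swap_apply_right, sub_mul, mul_sub, gam_sq, gam_sq]
        abel
      · rw [Equiv.swap_apply_of_ne_of_ne hki hkj, sub_mul, mul_sub, gam_anti (Ne.symm hki),
          gam_anti (Ne.symm hkj)]
        abel
  · rw [tr, smul_mul_assoc, mul_smul_comm, sub_mul, mul_sub, rho_gam, rho_gam]
  · rw [hs, smul_neg_one, tr, smul_mul_assoc, mul_smul_comm]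
    refine Eq.trans (congrArg ((2 : F) • ·) ?_) (smul_neg_end _ _)
    rw [sub_mul, mul_sub]
    rw [par_gam, par_gam]
    abel
  · have key : ∀ a b : V n, dot (tr i j a) b = dot a (tr i j b) := by
      intro a b
      have h1 := dot_gam i a b
      have h2 := dot_gam j a b
      simp only [dot, tr, LinearMap.smul_apply, LinearMap.sub_apply, Pi.smul_apply, Pi.sub_apply,
        smul_eq_mul, mul_sub, sub_mul, Finset.sum_sub_distrib, mul_left_comm, mul_assoc] at h1 h2 ⊢
      have e2 : ∀ x y : F, x * (2 * y) = 2 * (x * y) := fun x y => mul_left_comm x 2 y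
      simp only [e2, ← Finset.mul_sum]
      rw [h1, h2]
    rw [key, ← Module.End.mul_apply, tr_sq h, Module.End.one_apply]

theorem sum_e (S : Fin n → ZMod 2) : S = ∑ j ∈ Finset.univ.filter (S · ≠ 0), e j := by
  classical
  funext i
  rw [Finset.sum_apply]
  simp only [e, Pi.single_apply, Finset.sum_ite_eq, Finset.mem_filter, Finset.mem_univ, true_and]
  have : ∀ a : ZMod 2, a = if a ≠ 0 then 1 else 0 := by decide
  exact this _

theorem lifts_scalar {g : Module.End F (V n)} (h : Lifts g 1) : g = 1 ∨ g = -1 := by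
  classical
  have hg : ∀ k, g * gam k = gam k * g := fun k => by
    have := h.gam_eq k
    simpa using this
  have hp : g * par n = par n * g := by
    have := h.par_eq
    simpa using this
  set d : (Fin n → ZMod 2) → F := fun S => g (Pi.single S 1) S with hd
  have hdiag : ∀ S T : Fin n → ZMod 2, T ≠ S → g (Pi.single S 1) T = 0 := by
    intro S T hne
    obtain ⟨i, hi⟩ := Function.ne_iff.1 hne
    have hc : g * (par n * gam i * rho i) = (par n * gam i * rho i) * g := by
      rw [← mul_assoc, ← mul_assoc, hp, mul_assoc (par n), hg, ← mul_assoc, mul_assoc (par n * gam i),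
        h.rho_eq, ← mul_assoc]
    have h1 := congrFun (LinearMap.congr_fun hc (Pi.single S 1)) T
    rw [Module.End.mul_apply g, Module.End.mul_apply _ g, par_gam_rho] at h1
    have h2 : (par n * gam i * rho i) (Pi.single S 1) = chi (S i) • (Pi.single S 1 : V n) := by
      funext U
      rw [par_gam_rho, Pi.smul_apply, smul_eq_mul]
      by_cases hU : U = S
      · rw [hU]
      · simp [Pi.single_eq_of_ne hU]
    rw [h2, map_smul, Pi.smul_apply, smul_eq_mul] at h1
    have h3 : (chi (S i) - chi (T i)) * g (Pi.single S 1) T = 0 := by rw [sub_mul, h1, sub_self]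
    exact (mul_eq_zero.1 h3).resolve_left (sub_ne_zero.2 fun h4 => hi (chi_inj _ _ h4).symm)
  have hval : ∀ (f : V n) T, g f T = d T * f T := by
    intro f T
    conv_lhs => rw [show f = ∑ S, f S • (Pi.single S 1 : V n) from funext fun U => by
      simp [Finset.sum_apply, Pi.single_apply]]
    rw [map_sum, Finset.sum_apply, Finset.sum_eq_single T]
    · rw [map_smul, Pi.smul_apply, smul_eq_mul, mul_comm]
    · intro S _ hS
      rw [map_smul, Pi.smul_apply, hdiag S T hS.symm, smul_zero]
    · simp
  have hshift : ∀ S i, d (S + e i) = d S := by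
    intro S i
    have h1 := congrFun (LinearMap.congr_fun (hg i) (Pi.single (S + e i) 1)) S
    simp only [Module.End.mul_apply, gam, op_apply, hval, Pi.single_eq_same, mul_one] at h1
    have h2 := sg_sq (Finset.univ.filter (· < i)) S
    linear_combination (-sg (Finset.univ.filter (· < i)) S) * h1 + (d S - d (S + e i)) * h2
  have hconst : ∀ S, d S = d 0 := by
    intro S
    rw [sum_e S]
    generalize Finset.univ.filter (S · ≠ 0) = A
    induction A using Finset.induction with
    | empty => rw [Finset.sum_empty]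
    | insert i A hi ih => rw [Finset.sum_insert hi, add_comm, hshift, ih]
  have hsq : d 0 * d 0 = 1 := by
    have := h.dot_eq (Pi.single 0 1) (Pi.single 0 1)
    simp only [dot, hval, hconst] at this
    simpa [Pi.single_apply] using this
  rcases mul_self_eq_one_iff.1 hsq with h1 | h1
  · exact Or.inl (LinearMap.ext fun f => funext fun T => by rw [hval, hconst, h1]; simp)
  · exact Or.inr (LinearMap.ext fun f => funext fun T => by rw [hval, hconst, h1]; simp)

theorem exists_lift (σ : Equiv.Perm (Fin n)) :
    ∃ g : (Module.End F (V n))ˣ, Lifts (g : Module.End F (V n)) σ := by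
  induction σ using Equiv.Perm.swap_induction_on with
  | one => exact ⟨1, lifts_one⟩
  | swap_mul f i j hij hf =>
    obtain ⟨g, hg⟩ := hf
    exact ⟨⟨tr i j, tr i j, tr_sq hij, tr_sq hij⟩ * g, lifts_mul (lifts_tr hij) hg⟩

theorem lifts_unique {g : (Module.End F (V n))ˣ} {σ τ : Equiv.Perm (Fin n)}
    (h : Lifts (g : Module.End F (V n)) σ) (h' : Lifts (g : Module.End F (V n)) τ)
    (hσ : Equiv.Perm.sign σ = 1) (hτ : Equiv.Perm.sign τ = 1) : σ = τ := by
  refine Equiv.ext fun k => gam_injective ?_
  have h1 := h.gam_eq k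
  rw [h'.gam_eq k, hσ, hτ] at h1
  simp only [Units.val_one, Int.cast_one, one_smul] at h1
  exact ((Units.mul_left_inj g).1 h1).symm


/-- For every n ≥ 4 there are a finite group Γ and a central element z of Γ of order 2 lying in the commutator subgroup of Γ such that the quotient of Γ by the (normal) subgroup generated by z is isomorphic to the alternating group on n letters. -/
theorem result (n : ℕ) (hn : 4 ≤ n) : ∃ (Γ : Type) (_ : Group Γ) (_ : Finite Γ) (z : Γ) (hz : z ∈ Subgroup.center Γ), orderOf z = 2 ∧ z ∈ commutator Γ ∧ ∃ _ : (Subgroup.zpowers z).Normal, Nonempty (Γ ⧸ Subgroup.zpowers z ≃* alternatingGroup (Fin n)) := by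
  classical
  let U := (Module.End F (V n))ˣ
  haveI : Finite (Module.End F (V n)) := Finite.of_injective _ DFunLike.coe_injective
  haveI : Finite U := Finite.of_injective _ Units.val_injective
  let M : Submonoid U :=
    { carrier := {g | ∃ σ ∈ alternatingGroup (Fin n), Lifts (g : Module.End F (V n)) σ}
      one_mem' := ⟨1, one_mem _, lifts_one⟩
      mul_mem' := fun {a b} ⟨σ, hσ, ha⟩ ⟨τ, hτ, hb⟩ => ⟨σ * τ, mul_mem hσ hτ, lifts_mul ha hb⟩ }
  let Γ : Subgroup U :=
    { M with
      inv_mem' := fun {a} ha => by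
        have : a⁻¹ = a ^ (orderOf a - 1) := (eq_inv_of_mul_eq_one_left (by
          rw [← pow_succ, Nat.sub_add_cancel (orderOf_pos a), pow_orderOf_eq_one])).symm
        show a⁻¹ ∈ M
        rw [this]; exact pow_mem ha _ }
  have hmem : ∀ g : Γ, ∃ σ : alternatingGroup (Fin n), Lifts ((g : U) : Module.End F (V n)) σ :=
    fun g => let ⟨σ, hσ, h⟩ := g.2; ⟨⟨σ, hσ⟩, h⟩
  choose φ hφ using hmem
  have huniq : ∀ (g : Γ) (σ : alternatingGroup (Fin n)), Lifts ((g : U) : Module.End F (V n)) σ → φ g = σ :=
    fun g σ h => Subtype.ext (lifts_unique (hφ g) h (Equiv.Perm.mem_alternatingGroup.1 (φ g).2)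
      (Equiv.Perm.mem_alternatingGroup.1 σ.2))
  let Φ : Γ →* alternatingGroup (Fin n) :=
    MonoidHom.mk' φ fun a b => huniq _ _ (lifts_mul (hφ a) (hφ b))
  have hm1 : (-1 : Module.End F (V n)) * -1 = 1 := LinearMap.ext fun f => by simp [Module.End.mul_apply]
  let zU : U := ⟨-1, -1, hm1, hm1⟩
  let z : Γ := ⟨zU, 1, one_mem _, lifts_neg_one⟩
  have hzc : z ∈ Subgroup.center Γ := Subgroup.mem_center_iff.2 fun g =>
    Subtype.ext (Units.ext (neg_one_mul_comm _).symm)
  have hz1 : z ≠ 1 := fun h => by
    have h1 : (-1 : Module.End F (V n)) = 1 := congrArg (fun w : Γ => ((w : U) : Module.End F (V n))) h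
    have h2 := congrFun (LinearMap.congr_fun h1 (fun _ => 1)) 0
    exact (by decide : (-1 : F) ≠ 1) h2
  have hz2 : z ^ 2 = 1 := Subtype.ext (Units.ext (by
    show (-1 : Module.End F (V n)) ^ 2 = 1
    rw [pow_two, hm1]))
  haveI : Fact (Nat.Prime 2) := ⟨Nat.prime_two⟩
  have hker : Φ.ker = Subgroup.zpowers z := by
    refine le_antisymm (fun g hg => ?_) ?_
    · have h : Lifts ((g : U) : Module.End F (V n)) 1 := by
        have := hφ g
        rwa [show φ g = 1 from hg] at this
      rcases lifts_scalar h with h | h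
      · rw [show g = 1 from Subtype.ext (Units.ext h)]; exact one_mem _
      · rw [show g = z from Subtype.ext (Units.ext h)]; exact Subgroup.mem_zpowers z
    · rw [Subgroup.zpowers_le, MonoidHom.mem_ker]
      exact huniq z 1 lifts_neg_one
  have hsurj : Function.Surjective Φ := by
    intro σ
    obtain ⟨g, hg⟩ := exists_lift (σ : Equiv.Perm (Fin n))
    exact ⟨⟨g, σ, σ.2, hg⟩, huniq _ σ hg⟩
  -- two commuting double transpositions have anticommuting lifts
  let a : Fin 4 → Fin n := Fin.castLE hn
  have hne : ∀ j k, j ≠ k → a j ≠ a k := fun j k h e => h (Fin.castLE_injective hn e)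
  have h01 := hne 0 1 (by decide)
  have h23 := hne 2 3 (by decide)
  have h02 := hne 0 2 (by decide)
  have h13 := hne 1 3 (by decide)
  let mk : (i j k l : Fin n) → i ≠ j → k ≠ l → Γ := fun i j k l h h' =>
    ⟨⟨tr i j, tr i j, tr_sq h, tr_sq h⟩ * ⟨tr k l, tr k l, tr_sq h', tr_sq h'⟩,
      Equiv.swap i j * Equiv.swap k l, by
        rw [Equiv.Perm.mem_alternatingGroup, map_mul, Equiv.Perm.sign_swap h, Equiv.Perm.sign_swap h']
        rfl, lifts_mul (lifts_tr h) (lifts_tr h')⟩
  let A : Γ := mk (a 0) (a 1) (a 2) (a 3) h01 h23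
  let B : Γ := mk (a 0) (a 2) (a 1) (a 3) h02 h13
  have hAB : A * B = z * (B * A) := by
    refine Subtype.ext (Units.ext ?_)
    show tr (a 0) (a 1) * tr (a 2) (a 3) * (tr (a 0) (a 2) * tr (a 1) (a 3)) =
      (-1 : Module.End F (V n)) * (tr (a 0) (a 2) * tr (a 1) (a 3) * (tr (a 0) (a 1) * tr (a 2) (a 3)))
    have hA := lifts_mul (lifts_tr h01) (lifts_tr h23)
    have hs : Equiv.Perm.sign (Equiv.swap (a 0) (a 1) * Equiv.swap (a 2) (a 3)) = 1 := by
      rw [map_mul, Equiv.Perm.sign_swap h01, Equiv.Perm.sign_swap h23]; rfl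
    set P := Equiv.swap (a 0) (a 1) * Equiv.swap (a 2) (a 3) with hP
    set X := tr (a 0) (a 1) * tr (a 2) (a 3) with hX
    have hPv : P (a 0) = a 1 ∧ P (a 2) = a 3 ∧ P (a 1) = a 0 ∧ P (a 3) = a 2 := by
      simp [hP, Equiv.swap_apply_of_ne_of_ne, h02, h13, h02.symm, h13.symm, hne 0 3 (by decide),
        hne 1 2 (by decide), (hne 0 3 (by decide)).symm, (hne 1 2 (by decide)).symm]
    have hmove : ∀ i j, X * tr i j = tr (P i) (P j) * X := by
      intro i j
      simp only [tr, mul_smul_comm, smul_mul_assoc, mul_sub, sub_mul, hA.gam_eq, hs, Units.val_one,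
        Int.cast_one, one_smul]
    have hanti : tr (a 1) (a 3) * tr (a 0) (a 2) = -(tr (a 0) (a 2) * tr (a 1) (a 3)) := by
      simp only [tr, mul_smul_comm, smul_mul_assoc, mul_sub, sub_mul, smul_sub]
      rw [gam_anti (hne 1 0 (by decide)), gam_anti (hne 1 2 (by decide)), gam_anti (hne 3 0 (by decide)),
        gam_anti (hne 3 2 (by decide))]
      simp only [smul_neg]
      abel
    obtain ⟨p0, p2, p1, p3⟩ := hPv
    rw [← mul_assoc, hmove, p0, p2, mul_assoc (tr (a 1) (a 3)), hmove, p1, p3, ← mul_assoc, hanti]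
    exact LinearMap.ext fun f => by simp [Module.End.mul_apply]
  have hzcomm : z ∈ commutator Γ := by
    rw [show z = ⁅A, B⁆ by rw [commutatorElement_def, hAB]; group, commutator_def]
    exact Subgroup.commutator_mem_commutator (Subgroup.mem_top A) (Subgroup.mem_top B)
  haveI hNn : (Subgroup.zpowers z).Normal := hker ▸ inferInstance
  exact ⟨Γ, inferInstance, inferInstance, z, hzc, orderOf_eq_prime hz2 hz1, hzcomm, hNn,
    ⟨(QuotientGroup.quotientMulEquivOfEq hker.symm).trans (QuotientGroup.quotientKerEquivOfSurjective Φ hsurj)⟩⟩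

end Cfsg.Agent.S0891
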