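import Cfsg.Statements.S0447
import Mathlib
import Cfsg.Agent.S0891
import Cfsg.Agent.Lib.Gaschutz.Split
import Cfsg.Agent.Lib.Invol.Dihedral

set_option autoImplicit false
set_option linter.style.haveILetI false
open Cfsg
open scoped commutatorElement

namespace Cfsg.Agent.S0447

/-- An involution moving exactly four points. -/
def IsDT {n : ℕ} (σ : Equiv.Perm (Fin n)) : Prop := σ * σ = 1 ∧ σ.support.card = 4

theorem cycleType_dt {n : ℕ} {σ : Equiv.Perm (Fin n)} (h : IsDT σ) :
    σ.cycleType = Multiset.replicate 2 2 := by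
  have h1 : σ ≠ 1 := fun e => by
    have := h.2; rw [e, Equiv.Perm.support_one] at this; simp at this
  have ho : orderOf σ = 2 := orderOf_eq_prime (by rw [pow_two]; exact h.1) h1
  obtain ⟨m, hm⟩ := Equiv.Perm.cycleType_prime_order (σ := σ) (by rw [ho]; exact Nat.prime_two)
  rw [ho] at hm
  have hsum := σ.sum_cycleType
  rw [hm, Multiset.sum_replicate, smul_eq_mul, h.2] at hsum
  rw [hm, show m + 1 = 2 by omega]

theorem dt_isConj {n : ℕ} (a b : alternatingGroup (Fin n)) (ha : IsDT (a : Equiv.Perm (Fin n)))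
    (hb : IsDT (b : Equiv.Perm (Fin n))) : IsConj a b := by
  classical
  have hc : IsConj (a : Equiv.Perm (Fin n)) b :=
    Equiv.Perm.isConj_iff_cycleType_eq.2 (by rw [cycleType_dt ha, cycleType_dt hb])
  rw [isConj_iff] at hc ⊢
  obtain ⟨g, hg⟩ := hc
  rcases Int.units_eq_one_or (Equiv.Perm.sign g) with hs | hs
  · exact ⟨⟨g, Equiv.Perm.mem_alternatingGroup.2 hs⟩, Subtype.ext hg⟩
  · obtain ⟨x, hx⟩ : (b : Equiv.Perm (Fin n)).support.Nonempty := by
      rw [← Finset.card_pos, hb.2]; norm_num
    rw [Equiv.Perm.mem_support] at hx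
    let β : Equiv.Perm (Fin n) := b
    have hββ : β (β x) = x := by rw [← Equiv.Perm.mul_apply, hb.1]; rfl
    have hcomm : Equiv.swap x (β x) * β = β * Equiv.swap x (β x) := by
      rw [Equiv.mul_swap_eq_swap_mul, hββ, Equiv.swap_comm]
    refine ⟨⟨Equiv.swap x (β x) * g, ?_⟩, Subtype.ext ?_⟩
    · rw [Equiv.Perm.mem_alternatingGroup, map_mul, hs, Equiv.Perm.sign_swap (Ne.symm hx)]; rfl
    · show Equiv.swap x (β x) * g * (a : Equiv.Perm (Fin n)) * (Equiv.swap x (β x) * g)⁻¹ = β
      rw [mul_inv_rev, show Equiv.swap x (β x) * g * (a : Equiv.Perm (Fin n)) * (g⁻¹ * (Equiv.swap x (β x))⁻¹) =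
        Equiv.swap x (β x) * (g * (a : Equiv.Perm (Fin n)) * g⁻¹) * (Equiv.swap x (β x))⁻¹ by group, hg, hcomm]
      group

/-- A double cover all of whose lifts of double transpositions are involutions splits. -/
theorem split {n : ℕ} {H : Type} [Group H] [Finite H] (hZ : Nat.card (Subgroup.center H) = 2)
    (e : H ⧸ Subgroup.center H ≃* alternatingGroup (Fin n))
    (hsq : ∀ y : H, IsDT (e (QuotientGroup.mk y) : Equiv.Perm (Fin n)) → y ^ 2 = 1)
    (s t : alternatingGroup (Fin n)) (hs : IsDT (s : Equiv.Perm (Fin n)))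
    (ht : IsDT (t : Equiv.Perm (Fin n))) (hne : s ≠ t) (m : ℕ) (hm0 : 0 < m)
    (hdt : IsDT (((s * t) ^ m : alternatingGroup (Fin n)) : Equiv.Perm (Fin n)))
    (hord : (s * t) ^ (2 * m) = 1) (hmin : orderOf (s * t) = 2 * m)
    (hpow : ∀ j < 2 * m, s ≠ (s * t) ^ j) (hodd : Odd (Nat.card (alternatingGroup (Fin n)) / (4 * m))) :
    ∃ L : Subgroup H, (Subgroup.center H).IsComplement' L := by
  classical
  let π : H →* alternatingGroup (Fin n) := e.toMonoidHom.comp (QuotientGroup.mk' (Subgroup.center H))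
  have hπ : Function.Surjective π := e.surjective.comp (QuotientGroup.mk'_surjective _)
  have hker : ∀ y, π y = 1 → y ∈ Subgroup.center H := fun y hy => by
    rw [← QuotientGroup.eq_one_iff]; exact e.injective (by rw [map_one]; exact hy)
  obtain ⟨S, hS⟩ := hπ s
  obtain ⟨T, hT⟩ := hπ t
  have hne1 : ∀ {σ : alternatingGroup (Fin n)}, IsDT (σ : Equiv.Perm (Fin n)) → σ ≠ 1 := by
    intro σ h e1
    have := h.2
    rw [e1, OneMemClass.coe_one, Equiv.Perm.support_one] at this
    simp at this
  have hS2 : orderOf S = 2 := orderOf_eq_prime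
    (hsq S (by show IsDT (π S : Equiv.Perm (Fin n)); rw [hS]; exact hs))
    fun h => hne1 hs (by rw [← hS, h, map_one])
  have hT2 : orderOf T = 2 := orderOf_eq_prime
    (hsq T (by show IsDT (π T : Equiv.Perm (Fin n)); rw [hT]; exact ht))
    fun h => hne1 ht (by rw [← hT, h, map_one])
  have hST : π (S * T) = s * t := by rw [map_mul, hS, hT]
  have hST2 : (S * T) ^ (2 * m) = 1 := by
    rw [mul_comm 2 m, pow_mul]
    exact hsq _ (by show IsDT (π ((S * T) ^ m) : Equiv.Perm (Fin n)); rw [map_pow, hST]; exact hdt)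
  have hzpow : ∀ k : ℤ, s ≠ (s * t) ^ k := by
    intro k hk
    rw [← zpow_mod_orderOf, hmin] at hk
    obtain ⟨j, hj⟩ := Int.eq_ofNat_of_zero_le (Int.emod_nonneg k (b := ((2 * m : ℕ) : ℤ)) (by positivity))
    have hlt := Int.emod_lt_of_pos k (b := ((2 * m : ℕ) : ℤ)) (by positivity)
    rw [hj] at hk hlt
    rw [zpow_natCast] at hk
    exact hpow j (by exact_mod_cast hlt) hk
  let L : Subgroup H := Subgroup.closure {S, T}
  have hLZ : L ⊓ Subgroup.center H = ⊥ := by
    rw [eq_bot_iff]
    rintro d ⟨hd, hdz⟩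
    have hd1 : π d = 1 := by
      show e (QuotientGroup.mk d) = 1
      rw [(QuotientGroup.eq_one_iff d).2 hdz, map_one]
    obtain ⟨k, hk | hk⟩ := (CfsgLib.Invol.mem_closure_pair_iff hS2 hT2).1 hd
    · have : (s * t) ^ k = 1 := by rw [← hST, ← map_zpow, ← hk, hd1]
      rw [← orderOf_dvd_iff_zpow_eq_one, hmin] at this
      obtain ⟨c, rfl⟩ := this
      rw [Subgroup.mem_bot, hk, zpow_mul, zpow_natCast, hST2, one_zpow]
    · exfalso
      rw [hk, map_mul, map_zpow, hST, hS, mul_eq_one_iff_eq_inv, ← zpow_neg] at hd1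
      exact hzpow _ hd1
  have hU : ∀ y, π y ∈ Subgroup.closure {s, t} → y ∈ Subgroup.center H ⊔ L := by
    intro y hy
    rw [show ({s, t} : Set (alternatingGroup (Fin n))) = π '' {S, T} by
      rw [Set.image_pair, hS, hT], ← MonoidHom.map_closure] at hy
    obtain ⟨l, hl, hly⟩ := hy
    have hz : y * l⁻¹ ∈ Subgroup.center H := hker _ (by rw [map_mul, map_inv, hly, mul_inv_cancel])
    simpa using Subgroup.mul_mem_sup hz hl
  let D : Subgroup (alternatingGroup (Fin n)) := Subgroup.closure {s, t}
  have hUD : Subgroup.center H ⊔ L = D.comap π := by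
    refine le_antisymm (sup_le (fun z hz => ?_) ((Subgroup.closure_le _).2 ?_)) fun y hy => hU y hy
    · show π z ∈ D
      rw [show π z = 1 from by show e (QuotientGroup.mk z) = 1; rw [(QuotientGroup.eq_one_iff z).2 hz, map_one]]
      exact one_mem _
    · intro x hx
      rcases hx with h | h <;> rw [h]
      · show π S ∈ D; rw [hS]; exact Subgroup.subset_closure (by simp)
      · show π T ∈ D; rw [hT]; exact Subgroup.subset_closure (by simp)
  have hs2 : orderOf s = 2 := orderOf_eq_prime (Subtype.ext (by rw [pow_two]; exact hs.1)) (hne1 hs)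
  have ht2 : orderOf t = 2 := orderOf_eq_prime (Subtype.ext (by rw [pow_two]; exact ht.1)) (hne1 ht)
  have hsD : s ∈ D := Subgroup.subset_closure (by simp)
  have hRD : Subgroup.zpowers (s * t) ≤ D :=
    Subgroup.zpowers_le.2 (mul_mem hsD (Subgroup.subset_closure (by simp)))
  have hD : Nat.card D = 4 * m := by
    have hrel : (Subgroup.zpowers (s * t)).relIndex D = 2 := by
      rw [Subgroup.relIndex, Subgroup.index_eq_two_iff]
      refine ⟨⟨s, hsD⟩, fun b => ?_⟩
      obtain ⟨k, hk | hk⟩ := (CfsgLib.Invol.mem_closure_pair_iff hs2 ht2).1 b.2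
      · refine Or.inr ⟨?_, ?_⟩
        · rw [Subgroup.mem_subgroupOf, hk]; exact zpow_mem (Subgroup.mem_zpowers _) k
        · rw [Subgroup.mem_subgroupOf, Subgroup.coe_mul, hk]
          intro h
          obtain ⟨j, hj⟩ := Subgroup.mem_zpowers_iff.1 h
          exact hzpow (j - k) (by rw [sub_eq_neg_add, zpow_add, zpow_neg, hj, inv_mul_cancel_left])
      · refine Or.inl ⟨?_, ?_⟩
        · rw [Subgroup.mem_subgroupOf, Subgroup.coe_mul, hk]
          show s * (s * t) ^ k * s ∈ _
          have h2 : (s * (s * t) * s⁻¹) ^ k = s * (s * t) ^ k * s⁻¹ := conj_zpow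
          rw [CfsgLib.Invol.conj_prod hs2 ht2, CfsgLib.Invol.inv_of_orderOf_two hs2] at h2
          rw [← h2]
          exact zpow_mem (inv_mem (Subgroup.mem_zpowers _)) k
        · rw [Subgroup.mem_subgroupOf, hk]
          intro h
          obtain ⟨j, hj⟩ := Subgroup.mem_zpowers_iff.1 h
          exact hzpow (j - k) (by rw [zpow_sub, hj, mul_inv_cancel_right])
    rw [← Subgroup.card_mul_index ((Subgroup.zpowers (s * t)).subgroupOf D), ← Subgroup.relIndex, hrel,
      Nat.card_congr (Subgroup.subgroupOfEquivOfLe hRD).toEquiv, Nat.card_zpowers, hmin]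
    ring
  have hidx : (Subgroup.center H ⊔ L).index = Nat.card (alternatingGroup (Fin n)) / (4 * m) := by
    rw [hUD, Subgroup.index_comap_of_surjective _ hπ, ← Subgroup.card_mul_index D, hD,
      Nat.mul_div_cancel_left _ (by omega)]
  exact CfsgLib.Gaschutz.exists_complement (K := Subgroup.center H) le_sup_left
    (by rw [hZ, hidx]; exact Nat.coprime_two_left.2 hodd) hLZ rfl


/-- Involutions in double covers of alternating groups: for n ≤ 7, a finite non-split double cover of the alternating group of degree n has exactly one element of order 2 (the central one); for degree 8 there is a non-split double cover with two distinct involutions. -/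
theorem result : (∀ (n : ℕ) (H : Type) (_ : Group H) (_ : Finite H), n ≤ 7 → Cfsg.IsNonsplitDoubleCover H (alternatingGroup (Fin n)) → ∀ x y : H, orderOf x = 2 → orderOf y = 2 → x = y) ∧ ∃ (H : Type) (_ : Group H) (_ : Finite H), Cfsg.IsNonsplitDoubleCover H (alternatingGroup (Fin 8)) ∧ ∃ x y : H, x ≠ y ∧ orderOf x = 2 ∧ orderOf y = 2 := by
  refine ⟨fun n H _ _ hn ⟨hZ, ⟨e⟩, hns⟩ x y hx hy => ?_, ?_⟩
  · -- every involution is central
    haveI : Nontrivial (Subgroup.center H) := Finite.one_lt_card_iff_nontrivial.1 (by rw [hZ]; norm_num)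
    obtain ⟨z, hz⟩ := exists_ne (1 : Subgroup.center H)
    suffices hmain : ∀ w : H, orderOf w = 2 → w ∈ Subgroup.center H by
      have key : ∀ w : H, orderOf w = 2 → w = (z : H) := fun w hw => by
        have hw1 : (⟨w, hmain w hw⟩ : Subgroup.center H) ≠ 1 := fun h => by
          rw [show w = 1 from congrArg Subtype.val h, orderOf_one] at hw; omega
        obtain ⟨a, b, hab, hu⟩ := Nat.card_eq_two_iff.1 hZ
        have hm : ∀ c : Subgroup.center H, c = a ∨ c = b := fun c => by
          have : c ∈ ({a, b} : Set (Subgroup.center H)) := hu ▸ Set.mem_univ c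
          exact this
        have : (⟨w, hmain w hw⟩ : Subgroup.center H) = z := by
          rcases hm ⟨w, hmain w hw⟩ with h1 | h1 <;> rcases hm z with h2 | h2 <;> rcases hm 1 with h3 | h3
          all_goals first
            | exact h1.trans h2.symm
            | exact absurd (h1.trans h3.symm) hw1
            | exact absurd (h2.trans h3.symm) hz
        exact congrArg Subtype.val this
      rw [key x hx, key y hy]
    intro w hw
    by_contra hwZ
    set σ := e (QuotientGroup.mk w) with hσ
    have hσ1 : σ ≠ 1 := fun h => hwZ ((QuotientGroup.eq_one_iff w).1 (e.injective (h.trans (map_one e).symm)))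
    have hσ2 : σ ^ 2 = 1 := by
      rw [hσ, ← map_pow, ← QuotientGroup.mk_pow, ← hw, pow_orderOf_eq_one, QuotientGroup.mk_one, map_one]
    have hdt : IsDT (σ : Equiv.Perm (Fin n)) := by
      refine ⟨by rw [← pow_two]; exact congrArg Subtype.val hσ2, ?_⟩
      have ho : orderOf (σ : Equiv.Perm (Fin n)) = 2 := by
        rw [Subgroup.orderOf_coe]; exact orderOf_eq_prime hσ2 hσ1
      obtain ⟨k, hk⟩ := Equiv.Perm.cycleType_prime_order (σ := (σ : Equiv.Perm (Fin n))) (by rw [ho]; exact Nat.prime_two)
      rw [ho] at hk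
      have hsum := (σ : Equiv.Perm (Fin n)).sum_cycleType
      rw [hk, Multiset.sum_replicate, smul_eq_mul] at hsum
      have hle : (σ : Equiv.Perm (Fin n)).support.card ≤ n :=
        (Finset.card_le_univ _).trans_eq (Fintype.card_fin n)
      have hsgn := Equiv.Perm.mem_alternatingGroup.1 σ.2
      rw [Equiv.Perm.sign_of_cycleType, hk, Multiset.sum_replicate, Multiset.card_replicate, smul_eq_mul] at hsgn
      have : k = 1 := by
        have : k ≤ 2 := by omega
        interval_cases k
        · exact absurd hsgn (by decide)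
        · rfl
        · exact absurd hsgn (by decide)
      subst this
      omega
    have hsq : ∀ u : H, IsDT (e (QuotientGroup.mk u) : Equiv.Perm (Fin n)) → u ^ 2 = 1 := by
      intro u hu
      obtain ⟨c, hc⟩ := isConj_iff.1 (dt_isConj σ _ hdt hu)
      obtain ⟨C, hC⟩ := QuotientGroup.mk_surjective (e.symm c)
      have hd : (C * w * C⁻¹)⁻¹ * u ∈ Subgroup.center H := by
        rw [← QuotientGroup.eq]
        apply e.injective
        rw [QuotientGroup.mk_mul, QuotientGroup.mk_mul, QuotientGroup.mk_inv, map_mul, map_mul, map_inv, hC,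
          MulEquiv.apply_symm_apply, ← hc]
      set d : Subgroup.center H := ⟨_, hd⟩ with hddef
      have hd2 : d ^ 2 = 1 := by rw [← hZ]; exact pow_card_eq_one'
      have hu' : u = C * w * C⁻¹ * (d : H) := by rw [hddef]; group
      have hcm : Commute (C * w * C⁻¹) (d : H) := Subgroup.mem_center_iff.1 d.2 _
      rw [hu', hcm.mul_pow, conj_pow, ← hw, pow_orderOf_eq_one, mul_one, mul_inv_cancel, one_mul, hw,
        ← Subgroup.coe_pow, hd2, Subgroup.coe_one]
    have h4 : 4 ≤ n := by
      have := hdt.2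
      have hle : (σ : Equiv.Perm (Fin n)).support.card ≤ n :=
        (Finset.card_le_univ _).trans_eq (Fintype.card_fin n)
      omega
    have hcardA : 2 * Nat.card (alternatingGroup (Fin n)) = n.factorial := by
      haveI : Nontrivial (Fin n) := Fin.nontrivial_iff_two_le.2 (by omega)
      rw [Nat.card_eq_fintype_card, two_mul_card_alternatingGroup, Fintype.card_perm, Fintype.card_fin]
    suffices hex : ∃ (s t : alternatingGroup (Fin n)) (m : ℕ), IsDT (s : Equiv.Perm (Fin n)) ∧
        IsDT (t : Equiv.Perm (Fin n)) ∧ s ≠ t ∧ 0 < m ∧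
        IsDT (((s * t) ^ m : alternatingGroup (Fin n)) : Equiv.Perm (Fin n)) ∧ (s * t) ^ (2 * m) = 1 ∧
        orderOf (s * t) = 2 * m ∧ (∀ j < 2 * m, s ≠ (s * t) ^ j) ∧
        Odd (Nat.card (alternatingGroup (Fin n)) / (4 * m)) by
      obtain ⟨s, t, m, h1, h2, h3, h4, h5, h6, h7, h8, h9⟩ := hex
      obtain ⟨L, hL⟩ := split hZ e hsq s t h1 h2 h3 m h4 h5 h6 h7 h8 h9
      exact hns L hL
    haveI : Fact (Nat.Prime 2) := ⟨Nat.prime_two⟩
    interval_cases n
    · refine ⟨⟨Equiv.swap 0 1 * Equiv.swap 2 3, Equiv.Perm.mem_alternatingGroup.2 (by decide)⟩, ⟨Equiv.swap 0 2 * Equiv.swap 1 3, Equiv.Perm.mem_alternatingGroup.2 (by decide)⟩, 1,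
        ⟨by decide, by decide⟩, ⟨by decide, by decide⟩, by decide, by norm_num, ⟨by decide, by decide⟩,
        by decide, (orderOf_eq_prime (p := 2) (by decide) (by decide)).trans (by norm_num), by decide, ?_⟩
      rw [show Nat.card (alternatingGroup (Fin 4)) = 12 from Nat.eq_of_mul_eq_mul_left two_pos (hcardA.trans rfl)]; decide
    · refine ⟨⟨Equiv.swap 0 1 * Equiv.swap 2 3, Equiv.Perm.mem_alternatingGroup.2 (by decide)⟩, ⟨Equiv.swap 0 2 * Equiv.swap 1 3, Equiv.Perm.mem_alternatingGroup.2 (by decide)⟩, 1,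
        ⟨by decide, by decide⟩, ⟨by decide, by decide⟩, by decide, by norm_num, ⟨by decide, by decide⟩,
        by decide, (orderOf_eq_prime (p := 2) (by decide) (by decide)).trans (by norm_num), by decide, ?_⟩
      rw [show Nat.card (alternatingGroup (Fin 5)) = 60 from Nat.eq_of_mul_eq_mul_left two_pos (hcardA.trans rfl)]; decide
    · refine ⟨⟨Equiv.swap 0 1 * Equiv.swap 2 3, Equiv.Perm.mem_alternatingGroup.2 (by decide)⟩, ⟨Equiv.swap 0 2 * Equiv.swap 4 5, Equiv.Perm.mem_alternatingGroup.2 (by decide)⟩, 2,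
        ⟨by decide, by decide⟩, ⟨by decide, by decide⟩, by decide, by norm_num, ⟨by decide, by decide⟩,
        by decide, orderOf_eq_prime_pow (p := 2) (n := 1) (by decide) (by decide), by decide, ?_⟩
      rw [show Nat.card (alternatingGroup (Fin 6)) = 360 from Nat.eq_of_mul_eq_mul_left two_pos (hcardA.trans rfl)]; decide
    · refine ⟨⟨Equiv.swap 0 1 * Equiv.swap 2 3, Equiv.Perm.mem_alternatingGroup.2 (by decide)⟩, ⟨Equiv.swap 0 2 * Equiv.swap 4 5, Equiv.Perm.mem_alternatingGroup.2 (by decide)⟩, 2,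
        ⟨by decide, by decide⟩, ⟨by decide, by decide⟩, by decide, by norm_num, ⟨by decide, by decide⟩,
        by decide, orderOf_eq_prime_pow (p := 2) (n := 1) (by decide) (by decide), by decide, ?_⟩
      rw [show Nat.card (alternatingGroup (Fin 7)) = 2520 from Nat.eq_of_mul_eq_mul_left two_pos (hcardA.trans rfl)]; decide
  · -- the signed permutation cover of `A₈`
    classical
    let V8 := S0891.V 8
    let U := (Module.End S0891.F V8)ˣ
    haveI : Finite (Module.End S0891.F V8) := Finite.of_injective _ DFunLike.coe_injective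
    haveI : Finite U := Finite.of_injective _ Units.val_injective
    let M : Submonoid U :=
      { carrier := {g | ∃ σ ∈ alternatingGroup (Fin 8), S0891.Lifts (g : Module.End S0891.F V8) σ}
        one_mem' := ⟨1, one_mem _, S0891.lifts_one⟩
        mul_mem' := fun {a b} ⟨σ, hσ, ha⟩ ⟨τ, hτ, hb⟩ => ⟨σ * τ, mul_mem hσ hτ, S0891.lifts_mul ha hb⟩ }
    let Γ : Subgroup U :=
      { M with
        inv_mem' := fun {a} ha => by
          have : a⁻¹ = a ^ (orderOf a - 1) := (eq_inv_of_mul_eq_one_left (by
            rw [← pow_succ, Nat.sub_add_cancel (orderOf_pos a), pow_orderOf_eq_one])).symm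
          show a⁻¹ ∈ M
          rw [this]; exact pow_mem ha _ }
    have hmem : ∀ g : Γ, ∃ σ : alternatingGroup (Fin 8), S0891.Lifts ((g : U) : Module.End S0891.F V8) σ :=
      fun g => let ⟨σ, hσ, h⟩ := g.2; ⟨⟨σ, hσ⟩, h⟩
    choose φ hφ using hmem
    have huniq : ∀ (g : Γ) (σ : alternatingGroup (Fin 8)),
        S0891.Lifts ((g : U) : Module.End S0891.F V8) σ → φ g = σ :=
      fun g σ h => Subtype.ext (S0891.lifts_unique (hφ g) h (Equiv.Perm.mem_alternatingGroup.1 (φ g).2)
        (Equiv.Perm.mem_alternatingGroup.1 σ.2))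
    let Φ : Γ →* alternatingGroup (Fin 8) :=
      MonoidHom.mk' φ fun a b => huniq _ _ (S0891.lifts_mul (hφ a) (hφ b))
    have hm1 : (-1 : Module.End S0891.F V8) * -1 = 1 := LinearMap.ext fun f => funext fun S => neg_neg (f S)
    let zU : U := ⟨-1, -1, hm1, hm1⟩
    let z : Γ := ⟨zU, 1, one_mem _, S0891.lifts_neg_one⟩
    have hzc : z ∈ Subgroup.center Γ := Subgroup.mem_center_iff.2 fun g =>
      Subtype.ext (Units.ext (S0891.neg_one_mul_comm _).symm)
    have hne : (-1 : Module.End S0891.F V8) ≠ 1 := fun h1 => by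
      have h2 := congrFun (LinearMap.congr_fun h1 (fun _ => 1)) 0
      exact (by decide : (-1 : S0891.F) ≠ 1) h2
    have hz1 : z ≠ 1 := fun h => hne (congrArg (fun w : Γ => ((w : U) : Module.End S0891.F V8)) h)
    have hz2 : z ^ 2 = 1 := Subtype.ext (Units.ext (by
      show (-1 : Module.End S0891.F V8) ^ 2 = 1
      rw [pow_two, hm1]))
    haveI : Fact (Nat.Prime 2) := ⟨Nat.prime_two⟩
    have hzo : orderOf z = 2 := orderOf_eq_prime hz2 hz1
    have hsurj : Function.Surjective Φ := by
      intro σ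
      obtain ⟨g, hg⟩ := S0891.exists_lift (σ : Equiv.Perm (Fin 8))
      exact ⟨⟨g, σ, σ.2, hg⟩, huniq _ σ hg⟩
    have hΦz : Φ z = 1 := huniq z 1 S0891.lifts_neg_one
    have hker : Φ.ker = Subgroup.zpowers z := by
      refine le_antisymm (fun g hg => ?_) (Subgroup.zpowers_le.2 hΦz)
      have h : S0891.Lifts ((g : U) : Module.End S0891.F V8) 1 := by
        have := hφ g
        rwa [show φ g = 1 from hg] at this
      rcases S0891.lifts_scalar h with h | h
      · rw [show g = 1 from Subtype.ext (Units.ext h)]; exact one_mem _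
      · rw [show g = z from Subtype.ext (Units.ext h)]; exact Subgroup.mem_zpowers z
    haveI := alternatingGroup.isSimpleGroup (α := Fin 8) (by simp)
    have hcenter : Subgroup.center Γ = Subgroup.zpowers z := by
      refine le_antisymm (fun g hg => ?_) (Subgroup.zpowers_le.2 hzc)
      rw [← hker, MonoidHom.mem_ker]
      have hc : Φ g ∈ Subgroup.center (alternatingGroup (Fin 8)) := Subgroup.mem_center_iff.2 fun σ => by
        obtain ⟨h, rfl⟩ := hsurj σ
        rw [← map_mul, ← map_mul, Subgroup.mem_center_iff.1 hg h]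
      rwa [alternatingGroup.center_eq_bot (by simp), Subgroup.mem_bot] at hc
    -- lift of a product of four disjoint transpositions
    have h01 : (0 : Fin 8) ≠ 1 := by decide
    have h23 : (2 : Fin 8) ≠ 3 := by decide
    have h45 : (4 : Fin 8) ≠ 5 := by decide
    have h67 : (6 : Fin 8) ≠ 7 := by decide
    let un : ∀ {i j : Fin 8}, i ≠ j → U := fun h => ⟨_, _, S0891.tr_sq h, S0891.tr_sq h⟩
    have hwmem : Equiv.swap (0 : Fin 8) 1 * Equiv.swap 2 3 * (Equiv.swap 4 5 * Equiv.swap 6 7) ∈ alternatingGroup (Fin 8) := by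
      rw [Equiv.Perm.mem_alternatingGroup, map_mul, map_mul, map_mul, Equiv.Perm.sign_swap h01,
        Equiv.Perm.sign_swap h23, Equiv.Perm.sign_swap h45, Equiv.Perm.sign_swap h67]
      rfl
    have hamem : Equiv.swap (0 : Fin 8) 1 * Equiv.swap 2 3 ∈ alternatingGroup (Fin 8) := by
      rw [Equiv.Perm.mem_alternatingGroup, map_mul, Equiv.Perm.sign_swap h01, Equiv.Perm.sign_swap h23]
      rfl
    let w : Γ := ⟨un h01 * un h23 * (un h45 * un h67), Equiv.swap 0 1 * Equiv.swap 2 3 * (Equiv.swap 4 5 * Equiv.swap 6 7),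
      hwmem, S0891.lifts_mul (S0891.lifts_mul (S0891.lifts_tr h01) (S0891.lifts_tr h23))
        (S0891.lifts_mul (S0891.lifts_tr h45) (S0891.lifts_tr h67))⟩
    have hΦw : Φ w ≠ 1 := by
      rw [show Φ w = ⟨_, hwmem⟩ from
        huniq w _ (S0891.lifts_mul (S0891.lifts_mul (S0891.lifts_tr h01) (S0891.lifts_tr h23))
        (S0891.lifts_mul (S0891.lifts_tr h45) (S0891.lifts_tr h67)))]
      intro h
      have := congrArg (fun v : alternatingGroup (Fin 8) => (v : Equiv.Perm (Fin 8)) 0) h
      simp [Equiv.swap_apply_of_ne_of_ne] at this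
    have hanti : ∀ {i j k l : Fin 8}, i ≠ k → i ≠ l → j ≠ k → j ≠ l →
        S0891.tr i j * S0891.tr k l = -(S0891.tr k l * S0891.tr i j) := by
      intro i j k l a b c d
      simp only [S0891.tr, mul_smul_comm, smul_mul_assoc, mul_sub, sub_mul, smul_sub]
      rw [S0891.gam_anti a, S0891.gam_anti b, S0891.gam_anti c, S0891.gam_anti d]
      simp only [S0891.smul_neg_end]
      abel
    have hw2 : w ^ 2 = 1 := by
      refine Subtype.ext (Units.ext ?_)
      show (S0891.tr 0 1 * S0891.tr 2 3 * (S0891.tr 4 5 * S0891.tr (6 : Fin 8) 7)) ^ 2 = 1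
      have hsw : ∀ {i j k l : Fin 8}, i ≠ k → i ≠ l → j ≠ k → j ≠ l → i ≠ j → k ≠ l →
          (S0891.tr i j * S0891.tr k l) * (S0891.tr i j * S0891.tr k l) = -1 := by
        intro i j k l a b c d hij hkl
        rw [mul_assoc, ← mul_assoc (S0891.tr k l), hanti a.symm c.symm b.symm d.symm]
        exact LinearMap.ext fun f => by
          have h1 := LinearMap.congr_fun (S0891.tr_sq hij) (S0891.tr k l (S0891.tr k l f))
          have h2 := LinearMap.congr_fun (S0891.tr_sq hkl) f
          simp only [Module.End.mul_apply, Module.End.one_apply, LinearMap.neg_apply, map_neg] at h1 h2 ⊢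
          rw [h1, h2]
      have hA := hsw (i := 0) (j := 1) (k := 2) (l := 3) (by decide) (by decide) (by decide) (by decide) h01 h23
      have hB := hsw (i := 4) (j := 5) (k := 6) (l := 7) (by decide) (by decide) (by decide) (by decide) h45 h67
      have hcm : Commute (S0891.tr 0 1 * S0891.tr (2 : Fin 8) 3) (S0891.tr 4 5 * S0891.tr 6 7) :=
        LinearMap.ext fun f => by
          have e1 := fun g => LinearMap.congr_fun (hanti (i := (0 : Fin 8)) (j := 1) (k := 4) (l := 5) (by decide) (by decide) (by decide) (by decide)) g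
          have e2 := fun g => LinearMap.congr_fun (hanti (i := (0 : Fin 8)) (j := 1) (k := 6) (l := 7) (by decide) (by decide) (by decide) (by decide)) g
          have e3 := fun g => LinearMap.congr_fun (hanti (i := (2 : Fin 8)) (j := 3) (k := 4) (l := 5) (by decide) (by decide) (by decide) (by decide)) g
          have e4 := fun g => LinearMap.congr_fun (hanti (i := (2 : Fin 8)) (j := 3) (k := 6) (l := 7) (by decide) (by decide) (by decide) (by decide)) g
          simp only [Module.End.mul_apply, LinearMap.neg_apply] at e1 e2 e3 e4 ⊢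
          simp only [e3, map_neg, e4, e1, e2, neg_neg]
      rw [hcm.mul_pow, pow_two, pow_two, hA, hB, hm1]
    have hwo : orderOf w = 2 := orderOf_eq_prime hw2 fun h => hΦw (by rw [h, map_one])
    refine ⟨Γ, inferInstance, inferInstance, ⟨?_, ⟨?_⟩, fun L hL => ?_⟩, z, w, ?_, hzo, hwo⟩
    · rw [hcenter, Nat.card_zpowers, hzo]
    · exact (QuotientGroup.quotientMulEquivOfEq (hcenter.trans hker.symm)).trans
        (QuotientGroup.quotientKerEquivOfSurjective Φ hsurj)
    · -- the centre lies in the derived subgroup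
      haveI hperf : Group.IsPerfect (alternatingGroup (Fin 8)) := ⟨by
        rw [eq_top_iff, ← commutator_alternatingGroup_eq_top (α := Fin 8) (by simp)]⟩
      have hsplit : ∀ g : Γ, ∃ c ∈ Subgroup.center Γ, ∃ l ∈ L, g = c * l := fun g => by
        obtain ⟨⟨c, l⟩, hcl⟩ := hL.2 g
        exact ⟨c, c.2, l, l.2, hcl.symm⟩
      have hcomm : commutator Γ ≤ L := by
        rw [commutator_def, Subgroup.commutator_le]
        intro a _ b _
        obtain ⟨c, hc, l, hl, rfl⟩ := hsplit a
        obtain ⟨d, hd, k, hk, rfl⟩ := hsplit b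
        have e1 : ⁅c * l, d * k⁆ = ⁅l, k⁆ := by
          have hc' : ∀ v, v * c = c * v := Subgroup.mem_center_iff.1 hc
          have hd' : ∀ v, v * d = d * v := Subgroup.mem_center_iff.1 hd
          rw [commutatorElement_def, commutatorElement_def, mul_inv_rev, mul_inv_rev]
          calc c * l * (d * k) * (l⁻¹ * c⁻¹) * (k⁻¹ * d⁻¹)
              = c * (l * d) * k * l⁻¹ * c⁻¹ * k⁻¹ * d⁻¹ := by group
            _ = c * d * (l * k * l⁻¹) * c⁻¹ * k⁻¹ * d⁻¹ := by rw [hd' l]; group
            _ = d * (c * (l * k * l⁻¹)) * c⁻¹ * k⁻¹ * d⁻¹ := by rw [hd' c]; group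
            _ = d * (l * k * l⁻¹ * k⁻¹) * d⁻¹ := by rw [← hc' (l * k * l⁻¹)]; group
            _ = l * k * l⁻¹ * k⁻¹ := by rw [← hd']; group
        rw [e1, commutatorElement_def]
        exact L.mul_mem (L.mul_mem (L.mul_mem hl hk) (L.inv_mem hl)) (L.inv_mem hk)
      have hzm : z ∈ commutator Γ := by
        let a : Γ := ⟨un h01 * un h23, Equiv.swap 0 1 * Equiv.swap 2 3, hamem,
          S0891.lifts_mul (S0891.lifts_tr h01) (S0891.lifts_tr h23)⟩
        have ha2 : a * a = z := Subtype.ext (Units.ext (by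
          show (S0891.tr 0 1 * S0891.tr 2 3) * (S0891.tr 0 1 * S0891.tr (2 : Fin 8) 3) = -1
          rw [mul_assoc, ← mul_assoc (S0891.tr 2 3), hanti (i := (2 : Fin 8)) (j := 3) (k := 0) (l := 1)
            (by decide) (by decide) (by decide) (by decide)]
          exact LinearMap.ext fun f => by
            have h1 := LinearMap.congr_fun (S0891.tr_sq h01) (S0891.tr 2 3 (S0891.tr 2 3 f))
            have h2 := LinearMap.congr_fun (S0891.tr_sq h23) f
            simp only [Module.End.mul_apply, Module.End.one_apply, LinearMap.neg_apply, map_neg] at h1 h2 ⊢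
            rw [h1, h2]))
        have hmapc : (commutator Γ).map Φ = ⊤ := by
          rw [commutator_def, Subgroup.map_commutator, Subgroup.map_top_of_surjective Φ hsurj, ← commutator_def]
          exact hperf.commutator_eq_top
        obtain ⟨b, hb, hba⟩ : Φ a ∈ (commutator Γ).map Φ := hmapc ▸ Subgroup.mem_top _
        have hdiff : a * b⁻¹ ∈ Subgroup.center Γ := by
          rw [hcenter, ← hker, MonoidHom.mem_ker, map_mul, map_inv, hba, mul_inv_cancel]
        have hsq1 : (a * b⁻¹) * (a * b⁻¹) = 1 := by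
          rw [hcenter] at hdiff
          obtain ⟨j, hj⟩ := Subgroup.mem_zpowers_iff.1 hdiff
          rw [← hj, ← zpow_add, ← two_mul, zpow_mul]
          simp [hz2]
        have hab : z = b * b := by
          have hcb : Commute (a * b⁻¹) b := (Subgroup.mem_center_iff.1 hdiff b).symm
          calc z = (a * b⁻¹ * b) * (a * b⁻¹ * b) := by rw [inv_mul_cancel_right, ha2]
            _ = (a * b⁻¹) * (a * b⁻¹) * (b * b) := by rw [hcb.mul_mul_mul_comm]
            _ = b * b := by rw [hsq1, one_mul]
        rw [hab]; exact mul_mem hb hb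
      have : z ∈ Subgroup.center Γ ⊓ L := ⟨hzc, hcomm hzm⟩
      rw [hL.disjoint.eq_bot, Subgroup.mem_bot] at this
      exact hz1 this
    · intro h
      exact hΦw (by rw [← h]; exact hΦz)

end Cfsg.Agent.S0447
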