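import Cfsg.Statements.S0475
import Cfsg.Agent.Lib.ThPres.CentQuot
import Cfsg.Agent.Lib.ThPres.Statements

set_option autoImplicit false
open Cfsg

namespace Cfsg.Agent.S0475

/-- In some simple group of the Thompson group's order there is an involution whose centraliser C has a normal extraspecial subgroup Q of order 2 ^ 9 such that C / Q is isomorphic to the alternating group of degree 9. -/
theorem result : ∃ (G : Type) (_ : Group G) (_ : Finite G), Cfsg.IsTh G ∧ ∃ z : G, orderOf z = 2 ∧ ∃ (Q : Subgroup (Subgroup.centralizer ({z} : Set G))) (_ : Q.Normal), Nat.card Q = 2 ^ 9 ∧ Cfsg.IsExtraspecial 2 Q ∧ Nonempty ((Subgroup.centralizer ({z} : Set G)) ⧸ Q ≃* alternatingGroup (Fin 9)) := by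
  haveI := CfsgLib.ThPres.finite_PT
  refine ⟨Cfsg.Spor.Th, inferInstance, CfsgLib.ThPres.finite_Th, CfsgLib.ThPres.isTh, CfsgLib.ThPres.toP (CfsgLib.ThPres.pGen 0), ?_,
    CfsgLib.ThPres.qCent, CfsgLib.ThPres.qCent_normal, ?_, CfsgLib.ThPres.qCent_extraspecial,
    CfsgLib.ThPres.quot_iso⟩
  · haveI : Fact (Nat.Prime 2) := ⟨Nat.prime_two⟩
    refine orderOf_eq_prime ?_ fun h => ?_
    · rw [CfsgLib.ThPres.toP_gen (by norm_num), pow_two, CfsgLib.ThPres.tg_sq (by norm_num)]
    · have e : CfsgLib.ThPres.pGen 0 = 1 :=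
        CfsgLib.ThPres.toP_injective (h.trans (map_one CfsgLib.ThPres.toP).symm)
      have h2 := CfsgLib.ThPres.qe_inj 1 (by norm_num) 0 (by norm_num)
        (by rw [CfsgLib.ThPres.qe_zero.1, CfsgLib.ThPres.qe_zero.2, e])
      omega
  · exact CfsgLib.ThPres.card_qCent.trans (by norm_num)

end Cfsg.Agent.S0475
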