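import Cfsg.Statements.S0478
import Cfsg.Agent.Lib.J3.Field

set_option autoImplicit false
open Cfsg

namespace Cfsg.Agent.S0478

/-- A triple cover of Janko's third group inside a unitary group: for a field F with four elements, the special unitary group of dimension 9 (with respect to the form with q = 2) has a subgroup whose centre has order 3 and whose quotient by its centre is simple of order 50232960. -/
theorem result : ∃ (F : Type) (_ : Field F) (_ : Fintype F), Fintype.card F = 4 ∧ ∃ H : Subgroup (Cfsg.SU 9 F 2), Nat.card (Subgroup.center H) = 3 ∧ Cfsg.IsJ3 (H ⧸ Subgroup.center H) := by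
  obtain ⟨F, _, _, ω, hF, hω⟩ := CfsgLib.J3.exists_field_four
  haveI := CfsgLib.J3.charTwo_of_card hF
  obtain ⟨φ, hφ⟩ := CfsgLib.J3.exists_SU_embedding hF hω
  let e := MonoidHom.ofInjective hφ
  have hZ : (Subgroup.center (Cfsg.Spor.threeJ3 F ω)).map e.toMonoidHom = Subgroup.center φ.range := by
    refine le_antisymm ?_ ?_
    · rintro _ ⟨x, hx, rfl⟩
      refine Subgroup.mem_center_iff.mpr fun y => ?_
      obtain ⟨y, rfl⟩ := e.surjective y
      change e y * e x = e x * e y
      rw [← map_mul, ← map_mul, Subgroup.mem_center_iff.mp hx y]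
    intro y hy
    refine ⟨e.symm y, Subgroup.mem_center_iff.mpr fun x => ?_, e.apply_symm_apply y⟩
    have := Subgroup.mem_center_iff.mp hy (e x)
    exact e.injective (by simp [map_mul, this])
  refine ⟨F, inferInstance, inferInstance, hF, φ.range, ?_, ?_⟩
  · rw [← hZ, Subgroup.card_map_of_injective (f := e.toMonoidHom) e.injective, CfsgLib.J3.card_center hF hω]
  · let q := QuotientGroup.congr _ _ e hZ
    haveI := CfsgLib.J3.simple_J3 hF hω
    refine ⟨?_, ?_⟩
    · haveI := q.symm.toEquiv.nontrivial
      exact IsSimpleGroup.isSimpleGroup_of_surjective (f := q.toMonoidHom) q.surjective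
    · rw [← Nat.card_congr q.toEquiv]
      exact CfsgLib.J3.card_J3 hF hω

end Cfsg.Agent.S0478
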