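import Cfsg.Statements.S0499
import Mathlib
import Cfsg.Agent.Lib.Transfer.Frobenius

set_option autoImplicit false
set_option linter.style.haveILetI false
open Cfsg

namespace Cfsg.Agent.S0499

/-- An automorphism of prime order `q ≥ 5` of a group of order `2^e`, `e ≤ 3`, forces `q = 7`, `e = 3`. -/
theorem aut_small {Q : Type*} [Group Q] [Finite Q] {e : ℕ} (hQ : Nat.card Q ∣ 2 ^ e) (he : e ≤ 3)
    (σ : MulAut Q) {q : ℕ} (hq : q.Prime) (h5 : 5 ≤ q) (hσ : orderOf σ = q) :
    q = 7 ∧ Nat.card Q = 8 := by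
  haveI : Fact q.Prime := ⟨hq⟩
  have hp : IsPGroup q (Subgroup.zpowers σ) :=
    IsPGroup.of_card (n := 1) (by rw [Nat.card_zpowers, hσ, pow_one])
  have hmod := hp.card_modEq_card_fixedPoints Q
  set F := (σ : Q ≃* Q).toMonoidHom.eqLocus (MonoidHom.id Q) with hF
  have hfix : MulAction.fixedPoints (Subgroup.zpowers σ) Q = (F : Set Q) := by
    ext x
    simp only [MulAction.mem_fixedPoints, SetLike.mem_coe, hF]
    constructor
    · intro h; exact h ⟨σ, Subgroup.mem_zpowers σ⟩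
    · intro h τ
      have hle : Subgroup.zpowers σ ≤ MulAction.stabilizer (MulAut Q) x :=
        Subgroup.zpowers_le.mpr h
      exact hle τ.2
  rw [hfix] at hmod
  have hne : F ≠ ⊤ := by
    intro h
    have : σ = 1 := MulEquiv.ext fun x => (h ▸ Subgroup.mem_top x : x ∈ F)
    rw [this, orderOf_one] at hσ
    exact hq.one_lt.ne hσ
  have hFdvd := Subgroup.card_subgroup_dvd_card F
  have hFlt : Nat.card F < Nat.card Q :=
    lt_of_le_of_ne (Nat.le_of_dvd Nat.card_pos hFdvd) fun h => hne (Subgroup.eq_top_of_card_eq F h)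
  change Nat.card Q ≡ Nat.card F [MOD q] at hmod
  have hsub := (Nat.modEq_iff_dvd' hFlt.le).mp hmod.symm
  have hQ8 : Nat.card Q ∣ 8 := hQ.trans (pow_dvd_pow 2 he)
  have hq7 : q ≤ 7 := by
    have := Nat.le_of_dvd (by omega) hsub
    have := Nat.le_of_dvd (by norm_num) hQ8
    have := Nat.card_pos (α := F)
    omega
  have hF8 := hFdvd.trans hQ8
  obtain ⟨i, hi, hi'⟩ := (Nat.dvd_prime_pow Nat.prime_two).mp (show Nat.card Q ∣ 2 ^ 3 from hQ8)
  obtain ⟨j, hj, hj'⟩ := (Nat.dvd_prime_pow Nat.prime_two).mp (show Nat.card F ∣ 2 ^ 3 from hF8)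
  rw [hi', hj'] at hsub hFlt
  rw [hi']
  interval_cases i <;> interval_cases j <;> interval_cases q <;>
    first | omega | (exfalso; revert hq; decide)

/-- A non-abelian finite simple group of even order has order divisible by 12, 16 or 56. -/
theorem result {G : Type*} [Group G] [Finite G] [IsSimpleGroup G]
    (hG : ¬ IsMulCommutative G) (h2 : Even (Nat.card G)) :
    12 ∣ Nat.card G ∨ 16 ∣ Nat.card G ∨ 56 ∣ Nat.card G := by
  classical
  by_cases h16 : 16 ∣ Nat.card G
  · exact Or.inr (Or.inl h16)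
  have h2n : 2 ∣ Nat.card G := h2.two_dvd
  obtain ⟨P⟩ := (inferInstance : Nonempty (Sylow 2 G))
  obtain ⟨e, he⟩ := IsPGroup.iff_card.mp P.2
  have hdvd : 2 ^ e ∣ Nat.card G := he ▸ Subgroup.card_subgroup_dvd_card _
  have he3 : e ≤ 3 := by
    by_contra h
    exact h16 ((pow_dvd_pow 2 (show 4 ≤ e by omega)).trans hdvd)
  have hnc : ¬ Cfsg.HasNormalPComplement 2 G := by
    rintro ⟨R, N, hN, hc⟩
    rcases hN.eq_bot_or_eq_top with h | h <;> rw [h] at hc
    · have htop : (R : Subgroup G) = ⊤ := Subgroup.isComplement'_bot_left.mp hc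
      have hGp : IsPGroup 2 G :=
        IsPGroup.of_equiv (htop ▸ R.2 : IsPGroup 2 (⊤ : Subgroup G)) Subgroup.topEquiv
      haveI := hGp.center_nontrivial
      rcases Subgroup.Normal.eq_bot_or_eq_top (H := Subgroup.center G) inferInstance with hz | hz
      · exact absurd hz ((Subgroup.nontrivial_iff_ne_bot _).mp inferInstance)
      · exact hG ⟨⟨fun x y => (Subgroup.mem_center_iff.mp (hz ▸ Subgroup.mem_top y) x)⟩⟩
    · exact R.ne_bot_of_dvd_card h2n (Subgroup.isComplement'_top_left.mp hc)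
  have hnA : ¬ CfsgLib.Transfer.PAutomizers 2 G := fun h =>
    hnc (CfsgLib.Transfer.hasNormalPComplement_of_pAutomizers h)
  obtain ⟨Q, hQP, g, hg, hgc, hgC⟩ : ∃ Q : Subgroup G, Q ≤ (P : Subgroup G) ∧
      ∃ g ∈ Subgroup.normalizer (Q : Set G), (orderOf g).Coprime 2 ∧
        g ∉ Subgroup.centralizer (Q : Set G) := by
    by_contra hcon
    push Not at hcon
    exact hnA (CfsgLib.Transfer.pAutomizers_of_sylow P hcon)
  set σ := Q.normalizerMonoidHom ⟨g, hg⟩ with hσdef
  have hσ1 : σ ≠ 1 := by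
    intro h
    have h' : (⟨g, hg⟩ : Subgroup.normalizer (Q : Set G)) ∈ Q.normalizerMonoidHom.ker := h
    rw [Subgroup.normalizerMonoidHom_ker] at h'
    exact hgC h'
  have hQdvd : Nat.card Q ∣ 2 ^ e := he ▸ Subgroup.card_dvd_of_le hQP
  have he2 : 2 ≤ e := by
    by_contra h
    have hQ2 : Nat.card Q ∣ 2 := hQdvd.trans (by
      simpa using pow_dvd_pow 2 (show e ≤ 1 by omega))
    refine hσ1 (MulEquiv.ext fun x => ?_)
    rcases (Nat.dvd_prime Nat.prime_two).mp hQ2 with h1 | h1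
    · haveI := (Nat.card_eq_one_iff_unique.mp h1).1
      exact Subsingleton.elim _ _
    · by_cases hx : x = 1
      · subst hx; simp
      · obtain ⟨y, hy, huniq⟩ := (Nat.card_eq_two_iff' (1 : Q)).mp h1
        rw [huniq x hx, MulAut.one_apply]
        exact huniq _ (by simpa using hy)
  have hdσ : orderOf σ ∣ orderOf g :=
    (orderOf_map_dvd _ _).trans (by rw [← Subgroup.orderOf_coe])
  set q := (orderOf σ).minFac with hqdef
  have hq : q.Prime := Nat.minFac_prime (by rwa [Ne, orderOf_eq_one_iff])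
  have hqg : q ∣ orderOf g := (Nat.minFac_dvd _).trans hdσ
  have hqn : q ∣ Nat.card G := hqg.trans (orderOf_dvd_natCard g)
  have hq2 : q ≠ 2 := fun h => Nat.prime_two.ne_one
    (Nat.eq_one_of_dvd_coprimes hgc (h ▸ hqg) dvd_rfl)
  have h4 : 4 ∣ Nat.card G := (pow_dvd_pow 2 he2).trans hdvd
  by_cases h3 : q = 3
  · exact Or.inl (Nat.Coprime.mul_dvd_of_dvd_of_dvd (show Nat.Coprime 4 3 by norm_num) h4 (h3 ▸ hqn))
  have h5 : 5 ≤ q := by
    have := hq.two_le
    by_contra h
    interval_cases q <;> first | omega | exact absurd hq (by decide)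
  obtain ⟨hq7, hQ8⟩ := aut_small hQdvd he3 (σ ^ (orderOf σ / q)) hq h5
    (orderOf_pow_orderOf_div (orderOf_pos σ).ne' (Nat.minFac_dvd _))
  refine Or.inr (Or.inr (Nat.Coprime.mul_dvd_of_dvd_of_dvd (show Nat.Coprime 8 7 by norm_num) ?_
    (hq7 ▸ hqn)))
  exact hQ8 ▸ Subgroup.card_subgroup_dvd_card Q

end Cfsg.Agent.S0499
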