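import Cfsg.Statements.S1238
import Cfsg.Agent.Lib.Fusion.Group
import Cfsg.Agent.Lib.TwoRank.SylowRankTwo.Main

set_option autoImplicit false
set_option linter.style.haveILetI false
open Cfsg

namespace Cfsg.Agent.S1238

/-- Let G be a finite group of 2-rank 2 (a Klein four-subgroup but no elementary abelian subgroup of order 8) which is fusion simple: G has no subgroup of index 2 and no isolated involution. Let S be a Sylow 2-subgroup. Then S is dihedral, quasi-dihedral, wreathed, isomorphic to Z_{2^n} × Z_{2^n} for some n ≥ 2, or isomorphic to a Sylow 2-subgroup of PSU(3) over the field with 16 elements. -/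
theorem result {G : Type*} [Group G] [Finite G] (h2 : Cfsg.PRankLE 2 2 G) (h1 : ¬ Cfsg.PRankLE 2 1 G) (hidx : ∀ H : Subgroup G, H.index ≠ 2) (hiso : ∀ z : G, ¬ Cfsg.IsIsolatedInvolution z) (S : Sylow 2 G) {F : Type*} [Field F] [Fintype F] (hF : Fintype.card F = 16) (P : Sylow 2 (Cfsg.PSU 3 F 4)) : (∃ m : ℕ, 2 ≤ m ∧ Nonempty ((S : Subgroup G) ≃* DihedralGroup m)) ∨ Cfsg.IsQuasiDihedral (S : Subgroup G) ∨ Cfsg.IsWreathed (S : Subgroup G) ∨ (∃ n : ℕ, 2 ≤ n ∧ Nonempty ((S : Subgroup G) ≃* Multiplicative (ZMod (2 ^ n) × ZMod (2 ^ n)))) ∨ Nonempty ((S : Subgroup G) ≃* (P : Subgroup (Cfsg.PSU 3 F 4))) := by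
  classical
  haveI : Fact (Nat.Prime 2) := ⟨Nat.prime_two⟩
  have hr : Cfsg.PRankLE 2 2 (S : Subgroup G) := fun A hAc hA2 => by
    haveI := hAc
    rw [Nat.card_congr (A.equivMapOfInjective _ (S : Subgroup G).subtype_injective).toEquiv]
    refine h2 _ inferInstance ?_
    rintro _ ⟨a, ha, rfl⟩
    rw [← map_pow, hA2 a ha, map_one]
  have hr1 : ¬ Cfsg.PRankLE 2 1 (S : Subgroup G) := by
    intro h
    apply h1
    intro A hAc hA2
    haveI := hAc
    obtain ⟨g, hg⟩ := CfsgLib.Fusion.exists_conj_le_sylow S (T := A) fun a => ⟨1, Subtype.ext (by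
      rw [pow_one, SubmonoidClass.coe_pow]; exact hA2 a a.2)⟩
    set B := A.map (MulAut.conj g).toMonoidHom with hB
    have := h (B.subgroupOf (S : Subgroup G)) inferInstance fun a ha => by
      obtain ⟨b, hb, hb'⟩ := Subgroup.mem_map.mp (Subgroup.mem_subgroupOf.mp ha)
      refine Subtype.ext ?_
      rw [SubmonoidClass.coe_pow, ← hb', ← map_pow, hA2 b hb, map_one]
      rfl
    rwa [Nat.card_congr (Subgroup.subgroupOfEquivOfLe hg).toEquiv, hB,
      Subgroup.card_map_of_injective (MulAut.conj g).injective] at this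
  have hfix : ∀ z : (S : Subgroup G), z * z = 1 → z ≠ 1 → (∀ g : (S : Subgroup G), g * z = z * g) →
      ∃ f, CfsgLib.Fusion.IsMap (Cfsg.groupFusionSystem (S : Subgroup G)) (Subgroup.zpowers (z : G)) f ∧
        f z ≠ z := by
    intro z hz hz1 _
    by_contra hcon
    push Not at hcon
    have hz' : (z : G) * z = 1 := congrArg Subtype.val hz
    have hconj : ∀ g : G, g * z * g⁻¹ ∈ (S : Subgroup G) → g * z * g⁻¹ = z := fun g hg => by
      refine hcon _ (CfsgLib.Fusion.isMap_group_of_conj g (Subgroup.zpowers_le.mpr z.2) fun x hx => ?_)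
      rcases CfsgLib.SylowRankTwo.pair_eq hz' hx with rfl | rfl
      · simp
      · exact hg
    refine hiso z ⟨orderOf_eq_prime (by rw [pow_two]; exact hz') fun e => hz1 (Subtype.ext e), fun g hc => ?_⟩
    set y := g * (z : G) * g⁻¹ with hy
    have hy2 : y * y = 1 := by
      rw [hy, show g * (z : G) * g⁻¹ * (g * z * g⁻¹) = g * (z * z) * g⁻¹ by group, hz', mul_one,
        mul_inv_cancel]
    let A : Subgroup G := Subgroup.closure {(z : G), y}
    have hA : IsPGroup 2 A := by
      haveI : IsMulCommutative A := Subgroup.isMulCommutative_closure (by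
        intro a ha b hb
        rcases ha with rfl | rfl <;> rcases hb with rfl | rfl <;>
          first
          | rfl
          | exact hc.eq
          | exact hc.eq.symm)
      refine fun a => ⟨1, Subtype.ext ?_⟩
      obtain ⟨a, ha⟩ := a
      show a ^ 2 ^ 1 = 1
      rw [pow_one]
      induction ha using Subgroup.closure_induction with
      | mem x hx => rcases hx with rfl | rfl <;> rw [pow_two] <;> assumption
      | one => exact one_pow 2
      | mul a b ha hb ia ib =>
        have hab : Commute a b := congrArg Subtype.val (mul_comm' (⟨a, ha⟩ : A) ⟨b, hb⟩)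
        rw [hab.mul_pow, ia, ib, mul_one]
      | inv a _ ia => rw [inv_pow, ia, inv_one]
    obtain ⟨k, hk⟩ := CfsgLib.Fusion.exists_conj_le_sylow S hA
    have hkz : k * z * k⁻¹ ∈ (S : Subgroup G) := hk ⟨z, Subgroup.subset_closure (by simp), rfl⟩
    have hky : k * y * k⁻¹ ∈ (S : Subgroup G) := hk ⟨y, Subgroup.subset_closure (by simp), rfl⟩
    have e1 := hconj k hkz
    have e2 : k * g * z * (k * g)⁻¹ = z := hconj _ (by
      rw [show k * g * z * (k * g)⁻¹ = k * y * k⁻¹ by rw [hy]; group]; exact hky)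
    calc y = k⁻¹ * (k * g * z * (k * g)⁻¹) * k := by rw [hy]; group
      _ = k⁻¹ * (k * z * k⁻¹) * k := by rw [e2, e1]
      _ = z := by group
  rcases CfsgLib.SylowRankTwo.shape_of_fusion S.isPGroup' (CfsgLib.Fusion.isSaturated_group S) hr hr1
    hfix hF P with (h | h) | h | ⟨n, hn, ⟨e⟩⟩ | h
  · exact Or.inl h
  · exact Or.inr (Or.inl h)
  · exact Or.inr (Or.inr (Or.inl h))
  · rcases Nat.lt_or_ge n 2 with hn' | hn'
    · obtain rfl : n = 1 := by omega
      haveI : IsKleinFour (Multiplicative (ZMod (2 ^ 1) × ZMod (2 ^ 1))) :=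
        { card_four := by simp
          exponent_two := by
            refine (Monoid.exponent_dvd_of_forall_pow_eq_one fun p => by
              rw [pow_two]; exact CfsgLib.SylowRankTwo.four_sq p).antisymm ?_
            have h2 : orderOf (Multiplicative.ofAdd ((1, 0) : ZMod (2 ^ 1) × ZMod (2 ^ 1))) = 2 :=
              orderOf_eq_prime (by rw [pow_two]; exact CfsgLib.SylowRankTwo.four_sq _)
                (fun h => one_ne_zero (congrArg (fun p => (Multiplicative.toAdd p).1) h))
            have := Monoid.order_dvd_exponent (Multiplicative.ofAdd ((1, 0) : ZMod (2 ^ 1) × ZMod (2 ^ 1)))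
            rwa [h2] at this }
      obtain ⟨e'⟩ := IsKleinFour.nonempty_mulEquiv
        (G₁ := Multiplicative (ZMod (2 ^ 1) × ZMod (2 ^ 1))) (G₂ := DihedralGroup 2)
      exact Or.inl ⟨2, le_rfl, ⟨e.trans e'⟩⟩
    · exact Or.inr (Or.inr (Or.inr (Or.inl ⟨n, hn', ⟨e⟩⟩)))
  · exact Or.inr (Or.inr (Or.inr (Or.inr h)))

end Cfsg.Agent.S1238
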