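import Cfsg.Statements.S0516
import Cfsg.Agent.S0205
import Cfsg.Agent.S0225
import Cfsg.Agent.S0949
import Cfsg.Agent.S1238

set_option autoImplicit false
open Cfsg

namespace Cfsg.Agent.S0516

/-- In a non-abelian finite simple group of 2-rank at most 2, a Sylow 2-subgroup is dihedral (of order at least 4),
quasi-dihedral, wreathed, or isomorphic to a Sylow 2-subgroup of the projective special unitary group of dimension 3
over the field with 16 elements. -/
theorem result {G : Type*} [Group G] [Finite G] [IsSimpleGroup G]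
    (hG : ¬ IsMulCommutative G) (h2 : Cfsg.PRankLE 2 2 G) (S : Sylow 2 G) {F : Type*} [Field F] [Fintype F]
    (hF : Fintype.card F = 16) (P : Sylow 2 (Cfsg.PSU 3 F 4)) :
    (∃ n : ℕ, 2 ≤ n ∧ Nonempty ((S : Subgroup G) ≃* DihedralGroup n)) ∨ Cfsg.IsQuasiDihedral (S : Subgroup G) ∨
      Cfsg.IsWreathed (S : Subgroup G) ∨ Nonempty ((S : Subgroup G) ≃* (P : Subgroup (Cfsg.PSU 3 F 4))) := by
  classical
  have hnor : ∀ N : Subgroup G, N.Normal → N = ⊥ ∨ N = ⊤ := fun N hN => hN.eq_bot_or_eq_top
  have hnsol : ¬ Group.IsSolvable G := fun hs => hG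
    (IsMulCommutative.mk ⟨fun a b => IsSimpleGroup.comm_iff_isSolvable.mpr hs a b⟩)
  have hodd : ∀ N : Subgroup G, N.Normal → Odd (Nat.card N) → N = ⊥ := fun N hN ho => by
    refine (hnor N hN).resolve_right ?_
    rintro rfl
    rw [Subgroup.card_top] at ho
    exact hnsol (Cfsg.Agent.S0205.result ho)
  have hcore : Cfsg.pPrimeCore 2 G = ⊥ :=
    hodd _ (CfsgLib.Transfer.pPrimeCore_normal 2 G) CfsgLib.ZStar.odd_card_core
  have hcent : ∀ z : G, orderOf z = 2 → ¬ ∀ g : G, Commute z g := fun z hz hc => by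
    have hmem : z ∈ Subgroup.center G := Subgroup.mem_center_iff.mpr fun g => (hc g).eq.symm
    rcases hnor (Subgroup.center G) inferInstance with h | h
    · rw [h, Subgroup.mem_bot] at hmem
      rw [hmem, orderOf_one] at hz
      omega
    · exact hG (IsMulCommutative.mk ⟨fun a b =>
        (Subgroup.mem_center_iff.mp (h ▸ Subgroup.mem_top a) b).symm⟩)
  have hiso : ∀ z : G, ¬ Cfsg.IsIsolatedInvolution z := fun z hz =>
    hcent z hz.1 (CfsgLib.ZStar.commute_of_commutatorsInCore hcore
      (CfsgLib.ZStar.commutatorsInCore_of_isolated hz))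
  have heven : Even (Nat.card G) := by
    by_contra h
    exact hnsol (Cfsg.Agent.S0205.result (Nat.not_even_iff_odd.mp h))
  have h1 : ¬ Cfsg.PRankLE 2 1 G := fun h => by
    obtain ⟨z, hz, N, hN, hNo, hzN⟩ := Cfsg.Agent.S0225.result heven fun E hE => by
      have := h E (IsMulCommutative.mk ⟨mul_comm_of_exponent_two hE.exponent_two⟩) fun a ha =>
        congrArg Subtype.val (show (⟨a, ha⟩ : E) ^ 2 = 1 by
          rw [← hE.exponent_two]; exact Monoid.pow_exponent_eq_one _)
      rw [hE.card_four] at this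
      omega
    refine hcent z hz fun g => ?_
    have := hzN g
    rw [hodd N hN hNo, Subgroup.mem_bot, mul_inv_eq_one, mul_inv_eq_iff_eq_mul] at this
    exact this
  have hidx : ∀ H : Subgroup G, H.index ≠ 2 := fun H hH => by
    rcases hnor H (Subgroup.normal_of_index_eq_two hH) with rfl | rfl
    · rw [Subgroup.index_bot] at hH
      have : Fact (Nat.Prime 2) := ⟨Nat.prime_two⟩
      have : IsCyclic G := isCyclic_of_prime_card hH
      exact hG inferInstance
    · rw [Subgroup.index_top] at hH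
      omega
  rcases Cfsg.Agent.S1238.result h2 h1 hidx hiso S hF P with h | h | h | ⟨n, hn, ⟨e⟩⟩ | h
  · exact Or.inl h
  · exact Or.inr (Or.inl h)
  · exact Or.inr (Or.inr (Or.inl h))
  · exfalso
    have : Fact (Nat.Prime 2) := ⟨Nat.prime_two⟩
    obtain ⟨hSn, -, -⟩ := Cfsg.Agent.S0949.result S n hn e hodd
    rcases hnor _ hSn with hb | ht
    · have hc : Nat.card (S : Subgroup G) = 1 := by rw [hb]; exact Subgroup.card_bot
      rw [Nat.card_congr e.toEquiv] at hc
      simp at hc
      omega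
    · exact hG (IsMulCommutative.mk ⟨fun a b => by
        have := congrArg Subtype.val (e.injective (a₁ := ⟨a, ht ▸ Subgroup.mem_top a⟩ * ⟨b, ht ▸ Subgroup.mem_top b⟩)
          (a₂ := ⟨b, ht ▸ Subgroup.mem_top b⟩ * ⟨a, ht ▸ Subgroup.mem_top a⟩) (by rw [map_mul, map_mul, mul_comm]))
        exact this⟩)
  · exact Or.inr (Or.inr (Or.inr h))

end Cfsg.Agent.S0516
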