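import Mathlib
import Cfsg.Statements.S2947
import Cfsg.Agent.Lib.Strong.Conj
import Cfsg.Agent.Lib.Transfer.Sylow

set_option autoImplicit false
set_option linter.style.haveILetI false
set_option linter.unusedVariables false
open Cfsg

namespace Cfsg.Agent.S2947

/-- Let G be a finite group of characteristic 2 type in which every 2-local subgroup is solvable and the centralizer of Ω₁(Z(S)) lies in N_G(S) for every Sylow 2-subgroup S; suppose O₂(G) = 1, fix a Sylow 2-subgroup S and a 2-local subgroup M containing N_G(J(S)) (J the Thompson subgroup generated by the elementary abelian 2-subgroups of largest order). Then M is strongly embedded in G (a proper subgroup of even order whose intersection with each conjugate by an element outside M has odd order) if and only if no nontrivial 2-subgroup of M lies in a 2-local subgroup of G not contained in M. -/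
theorem result {G : Type*} [Group G] [Finite G] (hL : Cfsg.IsCharacteristicTwoType G) (hN : ∀ N : Subgroup G, Cfsg.IsTwoLocal N → Group.IsSolvable ↥N)
    (hZ : ∀ S : Sylow 2 G, Subgroup.centralizer (Cfsg.omegaCenterOf (S : Subgroup G) : Set G) ≤ Subgroup.normalizer ((S : Subgroup G) : Set G)) (hO : Cfsg.pCore 2 G = ⊥) (S : Sylow 2 G) (M : Subgroup G) (hM : Cfsg.IsTwoLocal M)
    (hMJ : Subgroup.normalizer (Cfsg.thompsonSubgroupOf 2 (S : Subgroup G) : Set G) ≤ M) :
    Cfsg.IsStronglyEmbedded M ↔ Cfsg.straddlingTwoSubgroups M = ∅ := by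
  haveI : Fact (Nat.Prime 2) := ⟨Nat.prime_two⟩
  obtain ⟨Q₀, hQ₀, hQ₀1, hMQ⟩ := hM
  have hQM : Q₀ ≤ M := hMQ ▸ Subgroup.le_normalizer
  have heven : 2 ∣ Nat.card M := by
    haveI : Nontrivial Q₀ := (Subgroup.nontrivial_iff_ne_bot Q₀).2 hQ₀1
    obtain ⟨k, hk, hk'⟩ := hQ₀.nontrivial_iff_card.1 inferInstance
    exact (hk' ▸ dvd_pow_self 2 hk.ne' : 2 ∣ Nat.card Q₀).trans (Subgroup.card_dvd_of_le hQM)
  constructor
  · rintro ⟨hne, -, hodd⟩
    have hN := (CfsgLib.Strong.forall_not_dvd_iff (p := 2)).mp fun g hg hd =>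
      Nat.not_even_iff_odd.mpr (hodd g hg) (even_iff_two_dvd.mpr hd)
    rw [Set.eq_empty_iff_forall_notMem]
    rintro T ⟨hT, hT1, hTM, L, ⟨Q, hQ, hQ1, rfl⟩, hTL, hnle⟩
    apply hnle
    have hsup : IsPGroup 2 ↥(T ⊔ Q) := IsPGroup.to_sup_of_normal_right' hT hQ hTL
    obtain ⟨R, hR⟩ := hsup.exists_le_sylow
    obtain ⟨x, hxT, hx⟩ := CfsgLib.Strong.exists_orderOf_eq_of_ne_bot hT hT1
    have hRM := CfsgLib.Strong.sylow_le_of_normalizer hN R (hR (Subgroup.mem_sup_left hxT)) (hTM hxT) hx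
    exact hN Q hQ ((le_sup_right.trans hR).trans hRM) hQ1
  · intro hemp
    have hN : ∀ Q : Subgroup G, IsPGroup 2 Q → Q ≤ M → Q ≠ ⊥ → Subgroup.normalizer (Q : Set G) ≤ M := by
      intro Q hQ hQM hQ1
      by_contra hnle
      exact Set.eq_empty_iff_forall_notMem.mp hemp Q
        ⟨hQ, hQ1, hQM, _, ⟨Q, hQ, hQ1, rfl⟩, Subgroup.le_normalizer, hnle⟩
    refine ⟨?_, even_iff_two_dvd.mpr heven, fun g hg => Nat.not_even_iff_odd.mp fun he =>
      (CfsgLib.Strong.forall_not_dvd_iff (p := 2)).mpr hN g hg (even_iff_two_dvd.mp he)⟩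
    intro htop
    refine hQ₀1 (le_bot_iff.mp (hO ▸ le_sSup ⟨?_, hQ₀⟩))
    exact Subgroup.normalizer_eq_top_iff.mp (hMQ ▸ htop)

end Cfsg.Agent.S2947
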