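import Cfsg.Statements.S2949
import Cfsg.Agent.Lib.JComp.Straddle

set_option autoImplicit false
open Cfsg

namespace Cfsg.Agent.S2949

/-- Let G be a finite group of characteristic 2 type in which every 2-local subgroup is solvable and the centralizer of Ω₁(Z(S)) lies in N_G(S) for every Sylow 2-subgroup S; suppose O₂(G) = 1, fix a Sylow 2-subgroup S and a 2-local subgroup M containing N_G(J(S)) (J the Thompson subgroup generated by the elementary abelian 2-subgroups of largest order). For every T maximal (for the order of a largest elementary abelian subgroup, then the order of J(T), then the order of T) among the nontrivial 2-subgroups of M lying in a 2-local subgroup not inside M, there is a J(T)-component K not contained in M with J(T) the Thompson subgroup of every Sylow 2-subgroup of N_G(W_K) containing J(T), and O₂(⟨K, T⟩) ≠ 1. -/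
theorem result {G : Type*} [Group G] [Finite G] (hL : Cfsg.IsCharacteristicTwoType G) (hN : ∀ N : Subgroup G, Cfsg.IsTwoLocal N → Group.IsSolvable ↥N)
    (hZ : ∀ S : Sylow 2 G, Subgroup.centralizer (Cfsg.omegaCenterOf (S : Subgroup G) : Set G) ≤ Subgroup.normalizer ((S : Subgroup G) : Set G)) (hO : Cfsg.pCore 2 G = ⊥) (S : Sylow 2 G) (M : Subgroup G) (hM : Cfsg.IsTwoLocal M)
    (hMJ : Subgroup.normalizer (Cfsg.thompsonSubgroupOf 2 (S : Subgroup G) : Set G) ≤ M) (T : Subgroup G) (hT : T ∈ Cfsg.maxStraddlingTwoSubgroups M) :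
    (Cfsg.jComponentsOutside M T).Nonempty := by
  haveI : Fact (Nat.Prime 2) := ⟨Nat.prime_two⟩
  rw [CfsgLib.Transfer.thompsonSubgroupOf_eq] at hMJ
  have P : CfsgLib.JComp.MaxStrad M T := ⟨⟨hL, hN, hZ⟩, ⟨S, hMJ⟩, hT⟩
  obtain ⟨L, hL2, hTL, hLM⟩ := hT.1.2.2.2
  obtain ⟨hover, K, hK, hKL, hKM⟩ := P.local_over hL2 hLM hTL
  have O : CfsgLib.JComp.Over T L := ⟨⟨hL, hN, hZ⟩, P.isPGroup, P.ne_bot, hover⟩
  have St : CfsgLib.JComp.Setting T K := ⟨P.isPGroup, hK⟩
  have hW1 : Cfsg.wOf K ≠ ⊥ := fun h => by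
    have := St.card_W
    rw [h, Subgroup.card_bot] at this
    norm_num at this
  have hNW : ¬ Subgroup.normalizer (Cfsg.wOf K : Set G) ≤ M := fun h =>
    hKM ((Subgroup.le_normalizer.trans (CfsgLib.JComp.normalizer_le_normalizer_wOf K)).trans h)
  refine ⟨K, ⟨hK, fun S' hJS' hS' => ?_⟩, hKM, ?_⟩
  · rw [CfsgLib.Transfer.thompsonSubgroupOf_eq] at hJS'
    rw [CfsgLib.Transfer.thompsonSubgroupOf_eq, CfsgLib.Transfer.thompsonSubgroupOf_eq]
    exact (P.sylow_local ⟨Cfsg.wOf K, CfsgLib.JComp.W_isPGroup, hW1, rfl⟩ hNW hS' hJS').1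
  · -- the 2-core of `L` is a normal 2-subgroup of `⟨K, T⟩`
    intro h
    refine P.ne_bot ?_
    set R := Cfsg.pCoreOf 2 L with hR
    set H := K ⊔ T with hH
    have hRH : R ≤ H := O.R_le_T.trans le_sup_right
    have hn : (R.subgroupOf H).Normal :=
      (Subgroup.normal_subgroupOf_iff_le_normalizer hRH).2 ((sup_le hKL hTL).trans O.L_le_normalizer_R)
    have h2 := CfsgLib.Fitting.le_pCore (G := ↥H) hn
      ((CfsgLib.PReduced.isPGroup_pCoreOf 2 L).comap_of_injective H.subtype H.subtype_injective)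
    have hR1 : R = ⊥ := le_bot_iff.1 fun r hr => h.le ⟨⟨r, hRH hr⟩, h2 hr, rfl⟩
    refine le_bot_iff.1 fun t _ => hR1.le (hover.2.2 ?_)
    rw [← hR, hR1, Subgroup.mem_centralizer_iff]
    intro y hy
    rw [SetLike.mem_coe, Subgroup.mem_bot] at hy
    rw [hy, one_mul, mul_one]

end Cfsg.Agent.S2949
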