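import Cfsg.Statements.S0518
import Cfsg.Agent.Lib.JComp.ZNStructure
import Cfsg.Agent.S2947
import Cfsg.Agent.S2949

set_option autoImplicit false
open Cfsg

namespace Cfsg.Agent.S0518

/-- Let G be a finite group of characteristic 2 type with trivial 2-core in which every 2-local subgroup is solvable
and, for every Sylow 2-subgroup S, the centralizer of the set of central involutions of S lies in the normalizer of S.
Then either G has a strongly embedded subgroup, or the subgroup generated by the elements of odd order has two distinct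
maximal 2-local subgroups, each isomorphic to the symmetric group of degree 4, whose intersection has order 8. -/
theorem result {G : Type*} [Group G] [Finite G]
    (hL : Cfsg.IsCharacteristicTwoType G) (hO : Cfsg.pCore 2 G = ⊥)
    (hN : ∀ N : Subgroup G, Cfsg.IsTwoLocal N → Group.IsSolvable N)
    (hZ : ∀ S : Sylow 2 G,
      Subgroup.centralizer {z : G | z ∈ (S : Subgroup G) ∧ z ^ 2 = 1 ∧ ∀ s ∈ (S : Subgroup G), s * z = z * s} ≤
        Subgroup.normalizer ((S : Subgroup G) : Set G))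
    (H : Subgroup G) (hH : H = Subgroup.closure {g : G | Odd (orderOf g)}) :
    (∃ K : Subgroup G, Cfsg.IsStronglyEmbedded K) ∨
      ∃ M₁ M₂ : Subgroup H, M₁ ≠ M₂ ∧ Cfsg.IsMaximalTwoLocal M₁ ∧ Cfsg.IsMaximalTwoLocal M₂ ∧
        Nonempty (M₁ ≃* Equiv.Perm (Fin 4)) ∧ Nonempty (M₂ ≃* Equiv.Perm (Fin 4)) ∧ Nat.card ↥(M₁ ⊓ M₂) = 8 := by
  classical
  haveI : Fact (Nat.Prime 2) := ⟨Nat.prime_two⟩
  have hZ' : ∀ S : Sylow 2 G, Subgroup.centralizer (Cfsg.omegaCenterOf (S : Subgroup G) : Set G) ≤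
      Subgroup.normalizer ((S : Subgroup G) : Set G) := by
    intro S
    refine (Subgroup.centralizer_le ?_).trans (hZ S)
    rintro z ⟨hz, hz2, hc⟩
    exact CfsgLib.JComp.mem_omegaCenterOf hz hc (by rwa [← pow_two])
  obtain ⟨S⟩ : Nonempty (Sylow 2 G) := inferInstance
  have hS1 : (S : Subgroup G) ≠ ⊥ := fun h => by
    have h2 : ¬ 2 ∣ (S : Subgroup G).index := S.not_dvd_index
    rw [h, Subgroup.index_bot] at h2
    exact h2 (even_iff_two_dvd.1 hL.1)
  set M := Subgroup.normalizer (Cfsg.thompsonSubgroupOf 2 (S : Subgroup G) : Set G) with hMdef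
  have hM : Cfsg.IsTwoLocal M := by
    refine ⟨_, ?_, ?_, rfl⟩ <;> rw [CfsgLib.Transfer.thompsonSubgroupOf_eq]
    · exact S.2.to_le (CfsgLib.Transfer.thompsonJ_le 2 _)
    · exact CfsgLib.Transfer.thompsonJ_ne_bot (dvd_refl 2) S.2 hS1
  rcases (Cfsg.straddlingTwoSubgroups M).eq_empty_or_nonempty with hemp | hne
  · exact Or.inl ⟨M, (Cfsg.Agent.S2947.result hL hN hZ' hO S M hM le_rfl).2 hemp⟩
  right
  obtain ⟨T, hT⟩ := CfsgLib.JComp.exists_maxStraddling hne
  obtain ⟨K, hK⟩ := Cfsg.Agent.S2949.result hL hN hZ' hO S M hM le_rfl T hT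
  have P : CfsgLib.JComp.MaxStrad M T :=
    ⟨⟨hL, hN, hZ'⟩, ⟨S, by rw [← CfsgLib.Transfer.thompsonSubgroupOf_eq]⟩, hT⟩
  have O : CfsgLib.JComp.Out M T K := ⟨hK.1.1, hK.2.1⟩
  obtain ⟨M', K', Q⟩ := P.exists_pair O (P.T_le_maxLocal O hK.2.2) hO
  refine ⟨(K ⊔ T).subgroupOf H, (K' ⊔ T).subgroupOf H, fun e => Q.out ?_, Q.inside_maximal hH,
    Q.symm.inside_maximal hH, Q.inside_iso hH, Q.symm.inside_iso hH, Q.inside_inf hH⟩
  intro k hk
  have hkH : k ∈ H := hH ▸ Q.symm.K_le_closure_odd hk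
  exact Q.fst.sup_le_maxLocal (e.ge (show (⟨k, hkH⟩ : H) ∈ (K' ⊔ T).subgroupOf H from Subgroup.mem_sup_left hk))

end Cfsg.Agent.S0518
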