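import Cfsg.Statements.S0520
import Mathlib

set_option autoImplicit false
open Cfsg
set_option linter.style.haveILetI false

namespace Cfsg.Agent.S0520

variable {G : Type*} [Group G]

/-- Conjugate subgroup. -/
abbrev cg (g : G) (A : Subgroup G) : Subgroup G := A.map (MulAut.conj g).toMonoidHom

theorem cg_cg (g h : G) (A : Subgroup G) : cg g (cg h A) = cg (g * h) A := by
  rw [cg, cg, cg, Subgroup.map_map]
  congr 1
  ext x
  simp [mul_assoc]

theorem cg_one (A : Subgroup G) : cg 1 A = A := by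
  ext x
  simp [cg]

theorem cg_inv_cg (g : G) (A : Subgroup G) : cg g⁻¹ (cg g A) = A := by
  rw [cg_cg, inv_mul_cancel, cg_one]

/-- Adjacency of fours. -/
def Adj4 (A B : Subgroup G) : Prop := IsKleinFour A ∧ IsKleinFour B ∧ ∀ a ∈ A, ∀ b ∈ B, a * b = b * a

theorem four_map {H : Type*} [Group H] (f : G →* H) (hf : Function.Injective f) {A : Subgroup G}
    (h : IsKleinFour A) : IsKleinFour (A.map f) := by
  have e := A.equivMapOfInjective f hf
  exact ⟨by rw [← Nat.card_congr e.toEquiv, h.card_four],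
    by rw [← Monoid.exponent_eq_of_mulEquiv e, h.exponent_two]⟩

theorem four_cg (g : G) {A : Subgroup G} (h : IsKleinFour A) : IsKleinFour (cg g A) :=
  four_map _ (MulAut.conj g).injective h

theorem pow_two_four {A : Subgroup G} (h : IsKleinFour A) (a : A) : a ^ 2 = 1 :=
  h.exponent_two ▸ Monoid.pow_exponent_eq_one a

theorem isPGroup_four {A : Subgroup G} (h : IsKleinFour A) : IsPGroup 2 A :=
  fun a => ⟨1, by rw [pow_one]; exact pow_two_four h a⟩

theorem adj_symm {A B : Subgroup G} (h : Adj4 A B) : Adj4 B A :=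
  ⟨h.2.1, h.1, fun b hb a ha => (h.2.2 a ha b hb).symm⟩

theorem rel_symm {A B : Subgroup G} (h : Relation.ReflTransGen Adj4 A B) :
    Relation.ReflTransGen Adj4 B A := by
  induction h with
  | refl => exact Relation.ReflTransGen.refl
  | tail _ hbc ih => exact Relation.ReflTransGen.head (adj_symm hbc) ih

theorem rel_cg (g : G) {A B : Subgroup G} (h : Relation.ReflTransGen Adj4 A B) :
    Relation.ReflTransGen Adj4 (cg g A) (cg g B) :=
  h.lift (cg g) fun a b hab => ⟨four_cg g hab.1, four_cg g hab.2.1, by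
    rintro _ ⟨x, hx, rfl⟩ _ ⟨y, hy, rfl⟩
    rw [← map_mul, ← map_mul, hab.2.2 x hx y hy]⟩

/-- The stabiliser of the class of `U`. -/
def stab (U : Subgroup G) : Subgroup G where
  carrier := {g | Relation.ReflTransGen Adj4 (cg g U) U}
  one_mem' := by rw [Set.mem_ofPred_eq, cg_one]
  mul_mem' {a b} ha hb := by
    rw [Set.mem_ofPred_eq, ← cg_cg]
    exact (rel_cg a hb).trans ha
  inv_mem' {a} ha := by
    have := rel_symm (rel_cg a⁻¹ ha)
    rwa [cg_inv_cg] at this

theorem centralizer_le_normalizer (A : Subgroup G) :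
    Subgroup.centralizer (A : Set G) ≤ Subgroup.normalizer (A : Set G) := by
  intro c hc
  rw [Subgroup.mem_normalizer_iff]
  intro x
  constructor
  · intro hx
    rw [← Subgroup.mem_centralizer_iff.mp hc x hx]
    simpa using hx
  · intro hx
    have h1 := Subgroup.mem_centralizer_iff.mp hc _ hx
    have h2 : c * x * c⁻¹ = x := by
      have : c * x = c * (c * x * c⁻¹) := by rw [← h1]; group
      exact (mul_left_cancel this).symm
    rwa [h2] at hx

theorem not_rank_of_four {A Q : Subgroup G} (hA : IsKleinFour A) (hAQ : A ≤ Q) :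
    ¬ Cfsg.PRankLE 2 1 Q := by
  intro h
  have hc : ∀ a b : A, a * b = b * a := fun a b => by
    have h2 : ∀ x : A, x⁻¹ = x := fun x => inv_eq_of_mul_eq_one_right (by rw [← sq]; exact pow_two_four hA x)
    calc a * b = (a * b)⁻¹ := (h2 _).symm
      _ = b⁻¹ * a⁻¹ := mul_inv_rev a b
      _ = b * a := by rw [h2, h2]
  have hle := h (A.subgroupOf Q) ⟨⟨fun a b => Subtype.ext (Subtype.ext
      (by simpa using congrArg Subtype.val (hc ⟨((a : Q) : G), a.2⟩ ⟨((b : Q) : G), b.2⟩)))⟩⟩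
    (fun a ha => Subtype.ext (by
      simpa using congrArg Subtype.val (pow_two_four hA ⟨(a : G), ha⟩)))
  rw [Nat.card_congr (Subgroup.subgroupOfEquivOfLe hAQ).toEquiv, hA.card_four] at hle
  norm_num at hle

theorem exists_four_of_not_rank [Finite G] (h : ¬ Cfsg.PRankLE 2 1 G) :
    ∃ A : Subgroup G, IsKleinFour A := by
  unfold Cfsg.PRankLE at h
  push Not at h
  obtain ⟨E, -, hE, hc⟩ := h
  haveI : Fact (Nat.Prime 2) := ⟨Nat.prime_two⟩
  have hp : IsPGroup 2 E := fun e => ⟨1, by rw [pow_one]; exact Subtype.ext (hE e e.2)⟩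
  obtain ⟨k, hk⟩ := IsPGroup.iff_card.mp hp
  have hk2 : 2 ≤ k := by
    rw [hk] at hc
    exact (Nat.pow_lt_pow_iff_right (by norm_num)).mp hc
  obtain ⟨B, hB⟩ := Sylow.exists_subgroup_card_pow_prime (G := E) 2 (n := 2) (by
    rw [hk]; exact pow_dvd_pow 2 hk2)
  have hc4 : Nat.card (B.map E.subtype) = 4 := by
    rw [Subgroup.card_map_of_injective E.subtype_injective, hB]; norm_num
  have hsq : ∀ x : ↥(B.map E.subtype), x ^ 2 = 1 := by
    rintro ⟨_, b, hb, rfl⟩
    exact Subtype.ext (hE b b.2)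
  refine ⟨B.map E.subtype, ⟨hc4, ?_⟩⟩
  have hd : Monoid.exponent ↥(B.map E.subtype) ∣ 2 := Monoid.exponent_dvd_of_forall_pow_eq_one hsq
  rcases (Nat.dvd_prime Nat.prime_two).mp hd with h1 | h1
  · rw [Monoid.exp_eq_one_iff] at h1
    have := Finite.card_le_one_iff_subsingleton.mpr h1
    omega
  · exact h1

theorem exists_four_le [Finite G] {Q : Subgroup G} (h : ¬ Cfsg.PRankLE 2 1 Q) :
    ∃ A : Subgroup G, IsKleinFour A ∧ A ≤ Q := by
  obtain ⟨A, hA⟩ := exists_four_of_not_rank h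
  exact ⟨A.map Q.subtype, four_map _ Q.subtype_injective hA, Subgroup.map_subtype_le _⟩

theorem connected_map {S V W : Subgroup G} (hS : Cfsg.IsFourConnected S) (hV : IsKleinFour V)
    (hW : IsKleinFour W) (hVS : V ≤ S) (hWS : W ≤ S) : Relation.ReflTransGen Adj4 V W := by
  have hsub : ∀ {X : Subgroup G}, IsKleinFour X → X ≤ S → IsKleinFour (X.subgroupOf S) := fun hX hXS =>
    ⟨by rw [Nat.card_congr (Subgroup.subgroupOfEquivOfLe hXS).toEquiv, hX.card_four],
      by rw [Monoid.exponent_eq_of_mulEquiv (Subgroup.subgroupOfEquivOfLe hXS), hX.exponent_two]⟩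
  have := (hS _ _ (hsub hV hVS) (hsub hW hWS)).lift (Subgroup.map S.subtype) (p := Adj4) fun a b hab =>
    ⟨four_map _ S.subtype_injective hab.1, four_map _ S.subtype_injective hab.2.1, by
      rintro _ ⟨x, hx, rfl⟩ _ ⟨y, hy, rfl⟩
      rw [← map_mul, ← map_mul, hab.2.2 x hx y hy]⟩
  simp only [Function.onFun] at this
  rwa [Subgroup.subgroupOf_map_subtype, Subgroup.subgroupOf_map_subtype, inf_eq_left.mpr hVS,
    inf_eq_left.mpr hWS] at this

theorem exists_conj_in [Finite G] [Fact (Nat.Prime 2)] {Γ T : Subgroup G} (hT : IsPGroup 2 T)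
    (hTΓ : T ≤ Γ) (S : Sylow 2 G) (hSΓ : (S : Subgroup G) ≤ Γ) :
    ∃ x ∈ Γ, cg x T ≤ (S : Subgroup G) := by
  obtain ⟨R, hR⟩ := IsPGroup.exists_le_sylow (hT.of_equiv (Subgroup.subgroupOfEquivOfLe hTΓ).symm)
  obtain ⟨x, hx⟩ := MulAction.exists_smul_eq Γ R (S.subtype hSΓ)
  refine ⟨x, x.2, ?_⟩
  rintro _ ⟨t, ht, rfl⟩
  have h1 : MulAut.conj x ⟨t, hTΓ ht⟩ ∈ ((x • R : Sylow 2 Γ) : Subgroup Γ) :=
    ⟨⟨t, hTΓ ht⟩, hR ht, rfl⟩
  rw [hx] at h1
  exact h1

theorem orbit_of_inter [Finite G] [Fact (Nat.Prime 2)] (S : Sylow 2 G) (Γ : Subgroup G)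
    (hN : ∀ Q : Subgroup G, Q ≤ (S : Subgroup G) → (∃ A : Subgroup G, IsKleinFour A ∧ A ≤ Q) →
      Subgroup.normalizer (Q : Set G) ≤ Γ)
    (hin : ∀ T : Subgroup G, IsPGroup 2 T → T ≤ Γ → ∃ x ∈ Γ, cg x T ≤ (S : Subgroup G)) :
    ∀ (n : ℕ) (R : Sylow 2 G), n = Nat.card ↥((R : Subgroup G) ⊓ S) →
      (∃ A : Subgroup G, IsKleinFour A ∧ A ≤ (R : Subgroup G) ⊓ S) → ∃ y ∈ Γ, y • R = S := by
  intro n
  induction n using Nat.strongRecMeasure (fun m => Nat.card G - m) with
  | ind n ih =>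
    rintro R rfl ⟨A, hA, hAT⟩
    by_cases hTS : (R : Subgroup G) ⊓ S = (R : Subgroup G)
    · have hle : (R : Subgroup G) ≤ S := inf_eq_left.mp hTS
      exact ⟨1, Γ.one_mem, by rw [one_smul]; exact (Sylow.ext (R.3 S.2 hle)).symm⟩
    set T := (R : Subgroup G) ⊓ S with hT
    have hlt : T.subgroupOf (R : Subgroup G) < ⊤ := by
      rw [lt_top_iff_ne_top, ne_eq, Subgroup.subgroupOf_eq_top]
      exact fun hle => hTS (le_antisymm inf_le_left hle)
    haveI : Group.IsNilpotent (R : Subgroup G) := R.2.isNilpotent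
    have hgrow := Group.normalizerCondition_of_isNilpotent (G := (R : Subgroup G)) _ hlt
    set T' := (R : Subgroup G) ⊓ Subgroup.normalizer (T : Set G) with hT'
    have hT'lt : T < T' := by
      refine lt_of_le_of_ne (le_inf inf_le_left Subgroup.le_normalizer) fun heq => ?_
      refine absurd hgrow (not_lt_of_ge ?_)
      intro x hx
      rw [Subgroup.mem_subgroupOf]
      rw [heq]
      refine ⟨x.2, ?_⟩
      change (x : G) ∈ Subgroup.normalizer _
      rw [Subgroup.mem_normalizer_iff] at hx ⊢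
      intro y
      constructor
      · intro hy
        exact (hx ⟨y, (inf_le_left : T ≤ _) hy⟩).mp hy
      · intro hy
        have hyR : y ∈ (R : Subgroup G) := by
          have h := (R : Subgroup G).mul_mem ((R : Subgroup G).mul_mem ((R : Subgroup G).inv_mem x.2)
            ((inf_le_left : T ≤ _) hy)) x.2
          simpa [mul_assoc] using h
        exact (hx ⟨y, hyR⟩).mpr hy
    obtain ⟨x, hx, hxT⟩ := hin T' (R.2.to_le inf_le_left)
      ((inf_le_right : T' ≤ _).trans (hN T inf_le_right ⟨A, hA, hAT⟩))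
    have hle : cg x T' ≤ ((x • R : Sylow 2 G) : Subgroup G) ⊓ S :=
      le_inf (Subgroup.map_mono inf_le_left) hxT
    have hcard : Nat.card T < Nat.card ↥(((x • R : Sylow 2 G) : Subgroup G) ⊓ S) := by
      refine lt_of_lt_of_le ?_ (Subgroup.card_le_of_le hle)
      rw [Subgroup.card_map_of_injective (MulAut.conj x).injective]
      exact Set.ncard_lt_ncard hT'lt
    have hbound := Subgroup.card_le_card_group (((x • R : Sylow 2 G) : Subgroup G) ⊓ S)
    obtain ⟨y, hy, hyR⟩ := ih _ (by omega) (x • R) rfl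
      ⟨cg x A, four_cg x hA, (Subgroup.map_mono (hAT.trans hT'lt.le)).trans hle⟩
    exact ⟨y * x, Γ.mul_mem hy hx, by rw [mul_smul, hyR]⟩


/-- Let G be a finite group of 2-rank at least 2 and S a Sylow 2-subgroup whose commuting graph of Klein four-subgroups is
connected. Then the commuting graph of Klein four-subgroups of G is disconnected if and only if the 2-generated core — the
subgroup generated by the normalizers N_G(Q) of the subgroups Q of S that contain a Klein four-group — is a proper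
subgroup of G. -/
theorem result {G : Type*} [Group G] [Finite G] (h2 : ¬ Cfsg.PRankLE 2 1 G)
    (S : Sylow 2 G) (hS : Cfsg.IsFourConnected (S : Subgroup G)) :
    ¬ Cfsg.IsFourConnected G ↔
      (⨆ Q : {Q : Subgroup G // Q ≤ (S : Subgroup G) ∧ ¬ Cfsg.PRankLE 2 1 Q},
          Subgroup.normalizer ((Q : Subgroup G) : Set G)) ≠ ⊤ := by
  haveI : Fact (Nat.Prime 2) := ⟨Nat.prime_two⟩
  set Γ := ⨆ Q : {Q : Subgroup G // Q ≤ (S : Subgroup G) ∧ ¬ Cfsg.PRankLE 2 1 Q},
      Subgroup.normalizer ((Q : Subgroup G) : Set G) with hΓ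
  have hN : ∀ Q : Subgroup G, Q ≤ (S : Subgroup G) → (∃ A : Subgroup G, IsKleinFour A ∧ A ≤ Q) →
      Subgroup.normalizer (Q : Set G) ≤ Γ := by
    rintro Q hQ ⟨A, hA, hAQ⟩
    exact le_iSup (fun Q : {Q : Subgroup G // Q ≤ (S : Subgroup G) ∧ ¬ Cfsg.PRankLE 2 1 Q} =>
      Subgroup.normalizer ((Q : Subgroup G) : Set G)) ⟨Q, hQ, not_rank_of_four hA hAQ⟩
  obtain ⟨A₀, hA₀⟩ := exists_four_of_not_rank h2
  obtain ⟨S₁, hS₁⟩ := IsPGroup.exists_le_sylow (isPGroup_four hA₀)
  obtain ⟨g₁, hg₁⟩ := MulAction.exists_smul_eq G S₁ S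
  set U := cg g₁ A₀ with hU
  have hUS : U ≤ (S : Subgroup G) := (Subgroup.map_mono hS₁).trans (le_of_eq (congrArg Sylow.toSubgroup hg₁))
  have hUf : IsKleinFour U := four_cg g₁ hA₀
  have hSΓ : (S : Subgroup G) ≤ Γ := Subgroup.le_normalizer.trans (hN _ le_rfl ⟨U, hUf, hUS⟩)
  have hinS : ∀ V W : Subgroup G, IsKleinFour V → IsKleinFour W → V ≤ (S : Subgroup G) →
      W ≤ (S : Subgroup G) → Relation.ReflTransGen Adj4 V W :=
    fun V W hV hW hVS hWS => connected_map hS hV hW hVS hWS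
  have hintoS : ∀ T : Subgroup G, IsPGroup 2 T → T ≤ Γ → ∃ x ∈ Γ, cg x T ≤ (S : Subgroup G) :=
    fun T hT hTΓ => exists_conj_in hT hTΓ S hSΓ
  rw [not_iff_comm, not_not, eq_comm]
  constructor
  · intro htop U₁ U₂ h₁ h₂
    let D : Subgroup G := stab U
    have hD : Γ ≤ D := by
      refine iSup_le fun Q g hg => ?_
      obtain ⟨V, hV, hVQ⟩ := exists_four_le Q.2.2
      have hVS := hVQ.trans Q.2.1
      have hgV : cg g V ≤ (S : Subgroup G) := by
        refine le_trans ?_ Q.2.1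
        rintro _ ⟨v, hv, rfl⟩
        exact (Subgroup.mem_normalizer_iff.mp hg v).mp (hVQ hv)
      exact (rel_cg g (hinS U V hUf hV hUS hVS)).trans (hinS _ U (four_cg g hV) hUf hgV hUS)
    have hall : ∀ V : Subgroup G, IsKleinFour V → Relation.ReflTransGen Adj4 V U := by
      intro V hV
      obtain ⟨R, hR⟩ := IsPGroup.exists_le_sylow (isPGroup_four hV)
      obtain ⟨g, hg⟩ := MulAction.exists_smul_eq G R S
      have hgV : cg g V ≤ (S : Subgroup G) :=
        (Subgroup.map_mono hR).trans (le_of_eq (congrArg Sylow.toSubgroup hg))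
      have h3 : Relation.ReflTransGen Adj4 (cg g V) (cg g U) :=
        (hinS _ U (four_cg g hV) hUf hgV hUS).trans
          (rel_symm (hD (by rw [← htop]; exact Subgroup.mem_top g) : Relation.ReflTransGen Adj4 (cg g U) U))
      have h4 := rel_cg g⁻¹ h3
      rwa [cg_inv_cg, cg_inv_cg] at h4
    exact (hall U₁ h₁).trans (rel_symm (hall U₂ h₂))
  · intro hconn
    have hP : ∀ V : Subgroup G, IsKleinFour V → ∃ x ∈ Γ, cg x V ≤ (S : Subgroup G) := by
      intro V hV
      have key : ∀ {A B : Subgroup G}, Adj4 A B → (∃ x ∈ Γ, cg x A ≤ (S : Subgroup G)) →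
          ∃ x ∈ Γ, cg x B ≤ (S : Subgroup G) := by
        rintro A B ⟨hA, hB, hcomm⟩ ⟨x, hx, hxA⟩
        have hle : cg x B ≤ Γ := by
          refine le_trans ?_ (hN _ hxA ⟨_, four_cg x hA, le_rfl⟩)
          rintro _ ⟨b, hb, rfl⟩
          exact centralizer_le_normalizer _ (Subgroup.mem_centralizer_iff.mpr (by
            rintro _ ⟨a, ha, rfl⟩
            rw [← map_mul, ← map_mul, hcomm a ha b hb]))
        obtain ⟨y, hy, hyB⟩ := hintoS _ (isPGroup_four (four_cg x hB)) hle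
        exact ⟨y * x, Γ.mul_mem hy hx, by rwa [← cg_cg]⟩
      induction hconn U V hUf hV with
      | refl => exact ⟨1, Γ.one_mem, by rwa [cg_one]⟩
      | @tail b c _ hbc ih => exact key hbc (ih hbc.1)
    have horb : ∀ R : Sylow 2 G, ∃ x ∈ Γ, x • R = S := by
      intro R
      obtain ⟨g, hg⟩ := MulAction.exists_smul_eq G S R
      have hAR : cg g U ≤ (R : Subgroup G) :=
        (Subgroup.map_mono hUS).trans (le_of_eq (congrArg Sylow.toSubgroup hg))
      obtain ⟨x, hx, hxA⟩ := hP _ (four_cg g hUf)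
      obtain ⟨y, hy, hyR⟩ := orbit_of_inter S Γ hN hintoS _ (x • R) rfl
        ⟨_, four_cg x (four_cg g hUf), le_inf (Subgroup.map_mono hAR) hxA⟩
      exact ⟨y * x, Γ.mul_mem hy hx, by rw [mul_smul, hyR]⟩
    rw [eq_comm, eq_top_iff]
    intro g _
    obtain ⟨x, hx, hxS⟩ := horb (g • S)
    have hn : x * g ∈ Subgroup.normalizer ((S : Subgroup G) : Set G) :=
      Sylow.smul_eq_iff_mem_normalizer.mp (by rw [mul_smul, hxS])
    have h5 := Γ.mul_mem (Γ.inv_mem hx) (hN _ le_rfl ⟨U, hUf, hUS⟩ hn)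
    rwa [inv_mul_cancel_left] at h5

end Cfsg.Agent.S0520
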