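import Cfsg.Statements.S1480
import Mathlib
import Cfsg.Agent.Lib.PSolvable.Transitivity

set_option autoImplicit false
open Cfsg

namespace Cfsg.Agent.S1480

open Pointwise
set_option linter.style.haveILetI false

/-- Let G be a finite group and p a prime such that the normalizer of every nontrivial p-subgroup of G is p-constrained; if p = 2 assume also that the Sylow 2-subgroups of G have nilpotency class at most 2. Let E be an abelian p-subgroup containing an elementary abelian subgroup of order p ^ 3 and containing every element of p-power order of C_G(E). Then for every prime q ≠ p, any two maximal E-invariant q-subgroups of G are conjugate by an element of O_{p'}(C_G(E)). -/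
theorem result {G : Type*} [Group G] [Finite G] (p : ℕ) [Fact p.Prime]
    (hloc : ∀ T : Subgroup G, IsPGroup p T → T ≠ ⊥ → Cfsg.IsPConstrained p ↥(Subgroup.normalizer (T : Set G)))
    (h2 : p = 2 → ∀ S : Sylow p G, Group.IsNilpotent (S : Subgroup G) ∧ Group.nilpotencyClass (S : Subgroup G) ≤ 2)
    (E : Subgroup G) (hEp : IsPGroup p E) (hEc : IsMulCommutative E) (hE3 : ¬ Cfsg.PRankLE p 2 E)
    (hEfull : ∀ x ∈ Subgroup.centralizer (E : Set G), IsPGroup p (Subgroup.zpowers x) → x ∈ E)
    (q : ℕ) [Fact q.Prime] (hqp : q ≠ p) :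
    ∀ Q₁ ∈ Cfsg.maxInvSubgroups ⊤ E {q}, ∀ Q₂ ∈ Cfsg.maxInvSubgroups ⊤ E {q},
        ∃ k ∈ Cfsg.piCoreOf (Cfsg.primesNotDvd p) (Subgroup.centralizer (E : Set G)), Q₂ = Q₁.map (MulAut.conj k).toMonoidHom := by
  intro Q₁ hm1 Q₂ hm2
  have hctrl : ∀ x ∈ E, x ≠ 1 → ∀ U : Subgroup G, U ≤ Subgroup.centralizer ({x} : Set G) →
      (Nat.card U).Coprime p → E ≤ Subgroup.normalizer (U : Set G) →
      U ≤ (Cfsg.pPrimeCore p ↥(Subgroup.centralizer ({x} : Set G))).map
        (Subgroup.centralizer ({x} : Set G)).subtype := by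
    intro x hx hx1 U hU hUp hEU
    set Z := Subgroup.zpowers x
    have hZp : IsPGroup p Z := hEp.to_le (Subgroup.zpowers_le.mpr hx)
    have hN := hloc Z hZp (by rw [Subgroup.zpowers_ne_bot]; exact hx1)
    set N := Subgroup.normalizer (Z : Set G)
    set C := Subgroup.centralizer (Z : Set G)
    have hCN : C ≤ N := Subgroup.centralizer_le_normalizer _
    haveI : (C.subgroupOf N).Normal :=
      (Subgroup.normal_subgroupOf_iff_le_normalizer hCN).mpr
        (CfsgLib.Coprime.le_normalizer_centralizer le_rfl)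
    have hCc : Cfsg.IsPConstrained p C :=
      CfsgLib.PSolvable.isPConstrained_of_mulEquiv (Subgroup.subgroupOfEquivOfLe hCN)
        (CfsgLib.PSolvable.isPConstrained_of_normal hN (C.subgroupOf N))
    rw [CfsgLib.PSolvable.centralizer_singleton_eq_zpowers] at hU ⊢
    have hEC : E ≤ C := by
      rintro e he z hz
      obtain ⟨i, rfl⟩ := Subgroup.mem_zpowers_iff.mp hz
      exact congrArg Subtype.val (hEc.is_comm.comm (⟨x ^ i, zpow_mem hx i⟩ : E) ⟨e, he⟩)
    have hfull : ∀ y ∈ Subgroup.centralizer ((E.subgroupOf C : Subgroup C) : Set C),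
        IsPGroup p (Subgroup.zpowers y) → y ∈ E.subgroupOf C := by
      intro y hy hyp
      rw [Subgroup.mem_subgroupOf]
      refine hEfull _ (fun e he => ?_) ?_
      · exact congrArg Subtype.val (hy ⟨e, hEC he⟩ he)
      · rw [← Subgroup.coe_subtype, ← MonoidHom.map_zpowers]
        exact hyp.map _
    have hEp' : IsPGroup p (E.subgroupOf C) := hEp.comap_of_injective _ C.subtype_injective
    have hUp' : (Nat.card (U.subgroupOf C)).Coprime p := by
      rw [Nat.card_congr (Subgroup.subgroupOfEquivOfLe hU).toEquiv]; exact hUp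
    have hEU' : E.subgroupOf C ≤ Subgroup.normalizer ((U.subgroupOf C : Subgroup C) : Set C) := by
      intro e he
      rw [Subgroup.mem_normalizer_iff]
      intro u
      simp only [Subgroup.mem_subgroupOf, Subgroup.coe_mul, InvMemClass.coe_inv]
      exact Subgroup.mem_normalizer_iff.mp (hEU he) u
    have hle : U.subgroupOf C ≤ Cfsg.pPrimeCore p C := by
      by_cases hp2 : p = 2
      · refine CfsgLib.PSolvable.le_pPrimeCore_of_class_two hCc hEp' hfull ?_ hUp' hEU'
        intro T hT
        obtain ⟨S, hS⟩ := (hT.map C.subtype).exists_le_sylow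
        obtain ⟨hSn, hScl⟩ := h2 hp2 S
        haveI := hSn
        have h3 := congrArg (Subgroup.map (S : Subgroup G).subtype)
          (CfsgLib.PSolvable.commutator_commutator_self_eq_bot hScl)
        rw [Subgroup.map_commutator, Subgroup.map_commutator, Subgroup.map_bot,
          ← MonoidHom.range_eq_map, Subgroup.range_subtype] at h3
        apply Subgroup.map_injective C.subtype_injective
        rw [Subgroup.map_commutator, Subgroup.map_commutator, Subgroup.map_bot, eq_bot_iff, ← h3]
        exact Subgroup.commutator_mono (Subgroup.commutator_mono hS hS) hS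
      · exact CfsgLib.PSolvable.le_pPrimeCore_of_omega hp2 hCc hEp' (fun y hy hyo =>
          hfull y hy (CfsgLib.Transfer.isPGroup_zpowers ⟨1, by rw [pow_one]; exact hyo⟩)) hUp' hEU'
    rw [← Subgroup.map_subgroupOf_eq_of_le hU]
    exact Subgroup.map_mono hle
  obtain ⟨A, hAc, hAexp, hAcard⟩ : ∃ A : Subgroup E, IsMulCommutative A ∧ (∀ a ∈ A, a ^ p = 1) ∧
      p ^ 2 < Nat.card A := by
    by_contra hne
    push Not at hne
    exact hE3 hne
  have hcard : p ^ 3 ≤ Nat.card (A.map E.subtype) := by
    obtain ⟨m, hm⟩ := IsPGroup.iff_card.mp ((hEp.to_subgroup A))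
    rw [Subgroup.card_map_of_injective E.subtype_injective, hm]
    rw [hm] at hAcard
    exact Nat.pow_le_pow_right (Fact.out : p.Prime).pos
      ((Nat.pow_lt_pow_iff_right (Fact.out : p.Prime).one_lt).mp hAcard)
  obtain ⟨c, hc, hce⟩ := CfsgLib.PSolvable.transitivity hqp hEc (Subgroup.map_subtype_le A)
    (fun a ha => by
      obtain ⟨b, hb, rfl⟩ := ha
      exact congrArg Subtype.val (hAexp b hb))
    hcard hctrl hEp Q₁ hm1 Q₂ hm2
  set CE := Subgroup.centralizer (E : Set G)
  let P : Sylow p CE := default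
  have hPE : ∀ u ∈ (P : Subgroup CE), (u : G) ∈ E := by
    intro u hu
    refine hEfull _ u.2 ?_
    rw [← Subgroup.coe_subtype, ← MonoidHom.map_zpowers]
    exact (P.2.to_le (Subgroup.zpowers_le.mpr hu)).map _
  obtain ⟨N, hNn, hNP⟩ := (CfsgLib.Transfer.hasNormalPComplement_iff_forall_sylow P).mp
    (CfsgLib.Transfer.hasNormalPComplement_of_normalizer_le_centralizer P fun g _ u hu =>
      Subtype.ext (g.2 _ (hPE u hu)))
  haveI := hNn
  have hmem : (⟨c, hc⟩ : CE) ∈ N ⊔ (P : Subgroup CE) := by rw [hNP.sup_eq_top]; trivial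
  obtain ⟨d, hd, u, hu, he⟩ := Subgroup.mem_sup_of_normal_left.mp hmem
  refine ⟨(d : G), ⟨d, ?_, rfl⟩, ?_⟩
  · refine le_sSup (a := N) ?_ hd
    refine ⟨hNn, fun r hr hdvd => ⟨hr, fun h => ?_⟩⟩
    have hrp := (Nat.prime_dvd_prime_iff_eq hr Fact.out).mp h
    subst hrp
    exact hr.coprime_iff_not_dvd.mp (CfsgLib.Transfer.coprime_card_of_isComplement' hNP).symm hdvd
  · have he' : (d : G) * u = c := congrArg Subtype.val he
    rw [hce, ← he', map_mul, mul_smul,
      CfsgLib.Coprime.conj_smul_eq_self_of_mem_normalizer (hm1.1.2.2 (hPE u hu))]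
    rfl

end Cfsg.Agent.S1480
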