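import Cfsg.Statements.S0522
import Cfsg.Agent.S1480
import Cfsg.Agent.Lib.PSolvable.Core

set_option autoImplicit false
open Cfsg
set_option linter.style.haveILetI false

namespace Cfsg.Agent.S0522

/-- Transitivity Theorem (odd-order setting). Let X be a finite group of odd order in which the normalizer of every
nontrivial p-subgroup is solvable, P a Sylow p-subgroup, and B an abelian subgroup of P, normalized by P, with
C_P(B) = B and containing an elementary abelian subgroup of order p^3. Then for every prime q ≠ p, any two q-subgroups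
that are maximal among the q-subgroups normalized by B are conjugate by an element of the centralizer of B. -/
theorem result {X : Type*} [Group X] [Finite X] (hX : Odd (Nat.card X)) (p : ℕ)
    [Fact p.Prime] (hloc : ∀ T : Subgroup X, IsPGroup p T → T ≠ ⊥ → Group.IsSolvable (Subgroup.normalizer (T : Set X)))
    (P : Sylow p X) (B : Subgroup X) (hBP : B ≤ (P : Subgroup X))
    (hBn : ∀ x ∈ (P : Subgroup X), ∀ b ∈ B, x * b * x⁻¹ ∈ B) (hBa : IsMulCommutative B)
    (hBc : (P : Subgroup X) ⊓ Subgroup.centralizer (B : Set X) = B)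
    (hB3 : ∃ E : Subgroup X, E ≤ B ∧ (∀ e ∈ E, e ^ p = 1) ∧ p ^ 3 ≤ Nat.card E)
    (q : ℕ) [Fact q.Prime] (hqp : q ≠ p) (Q₁ Q₂ : Subgroup X)
    (h₁ : IsPGroup q Q₁ ∧ B ≤ Subgroup.normalizer (Q₁ : Set X) ∧
      ∀ R : Subgroup X, IsPGroup q R → B ≤ Subgroup.normalizer (R : Set X) → Q₁ ≤ R → R = Q₁)
    (h₂ : IsPGroup q Q₂ ∧ B ≤ Subgroup.normalizer (Q₂ : Set X) ∧
      ∀ R : Subgroup X, IsPGroup q R → B ≤ Subgroup.normalizer (R : Set X) → Q₂ ≤ R → R = Q₂) :
    ∃ c ∈ Subgroup.centralizer (B : Set X), Q₂ = Q₁.map (MulAut.conj c).toMonoidHom := by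
  obtain ⟨E₀, hE₀B, hE₀exp, hE₀card⟩ := hB3
  have hp2 : p ≠ 2 := by
    rintro rfl
    have hdvd : Nat.card E₀ ∣ Nat.card X := Subgroup.card_subgroup_dvd_card E₀
    have hE₀p : IsPGroup 2 E₀ := fun e => ⟨1, by rw [pow_one]; exact Subtype.ext (hE₀exp e e.2)⟩
    obtain ⟨m, hm⟩ := IsPGroup.iff_card.mp hE₀p
    rw [hm] at hE₀card hdvd
    have hm1 : m ≠ 0 := fun h0 => by rw [h0] at hE₀card; norm_num at hE₀card
    exact (Nat.not_even_iff_odd.mpr hX) (even_iff_two_dvd.mpr ((dvd_pow_self 2 hm1).trans hdvd))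
  have hBp : IsPGroup p B := P.2.to_le hBP
  have hfull : ∀ x ∈ Subgroup.centralizer (B : Set X), IsPGroup p (Subgroup.zpowers x) → x ∈ B := by
    intro x hx hxp
    set N := Subgroup.normalizer (B : Set X) with hN
    have hPN : (P : Subgroup X) ≤ N := by
      intro y hy
      rw [hN, Subgroup.mem_normalizer_iff]
      refine fun b => ⟨hBn y hy b, fun h => ?_⟩
      have := hBn y⁻¹ ((P : Subgroup X).inv_mem hy) _ h
      simpa [mul_assoc] using this
    have hxN : x ∈ N := Subgroup.centralizer_le_normalizer _ hx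
    set P' : Sylow p N := P.subtype hPN with hP'
    have hZ : IsPGroup p (Subgroup.zpowers (⟨x, hxN⟩ : N)) := by
      have := hxp.comap_of_injective N.subtype N.subtype_injective
      exact this.to_le (Subgroup.zpowers_le.mpr (Subgroup.mem_zpowers x))
    obtain ⟨T, hT⟩ := hZ.exists_le_sylow
    obtain ⟨n, hn⟩ := MulAction.exists_smul_eq N P' T
    have h2 : (⟨x, hxN⟩ : N) ∈ ((n • P' : Sylow p N) : Subgroup N) := hn ▸ hT (Subgroup.mem_zpowers _)
    obtain ⟨y, hy, hyx⟩ := h2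
    have hyP : (y : X) ∈ (P : Subgroup X) := hy
    have hyx' : (n : X) * y * (n : X)⁻¹ = x := congrArg Subtype.val hyx
    have hyC : (y : X) ∈ Subgroup.centralizer (B : Set X) := by
      intro a ha
      have hna : (n : X) * a * (n : X)⁻¹ ∈ B := (Subgroup.mem_normalizer_iff.mp n.2 a).mp ha
      have h3 := hx _ hna
      rw [← hyx'] at h3
      have h5 := congrArg (fun g => (n : X)⁻¹ * g * (n : X)) h3
      simpa [mul_assoc] using h5
    have hyB : (y : X) ∈ B := hBc ▸ Subgroup.mem_inf.mpr ⟨hyP, hyC⟩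
    rw [← hyx']
    exact (Subgroup.mem_normalizer_iff.mp n.2 y).mp hyB
  have hB3' : ¬ Cfsg.PRankLE p 2 B := by
    intro h
    have := h (E₀.subgroupOf B) ⟨⟨fun a b => Subtype.ext (Subtype.ext (by
        simpa using congrArg Subtype.val (hBa.is_comm.comm (⟨((a : B) : X), a.1.2⟩ : B) ⟨((b : B) : X), b.1.2⟩)))⟩⟩
      (fun a ha => Subtype.ext (hE₀exp (a : X) ha))
    rw [Nat.card_congr (Subgroup.subgroupOfEquivOfLe hE₀B).toEquiv] at this
    have h23 : p ^ 2 < p ^ 3 := Nat.pow_lt_pow_right (Fact.out : p.Prime).one_lt (by norm_num)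
    omega
  have hmem : ∀ Q : Subgroup X, (IsPGroup q Q ∧ B ≤ Subgroup.normalizer (Q : Set X) ∧
      ∀ R : Subgroup X, IsPGroup q R → B ≤ Subgroup.normalizer (R : Set X) → Q ≤ R → R = Q) →
      Q ∈ Cfsg.maxInvSubgroups ⊤ B {q} := by
    rintro Q ⟨hq1, hq2, hq3⟩
    refine ⟨⟨le_top, fun r hr hd => ?_, hq2⟩, fun R hR hle => hq3 R ?_ hR.2.2 hle⟩
    · obtain ⟨m, hm⟩ := IsPGroup.iff_card.mp hq1
      exact (Nat.prime_dvd_prime_iff_eq hr Fact.out).mp (hr.dvd_of_dvd_pow (hm ▸ hd))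
    · exact IsPGroup.of_card (n := (Nat.card R).primeFactorsList.length)
        (Nat.eq_prime_pow_of_unique_prime_dvd Nat.card_pos.ne' fun {d} hd hdvd => hR.2.1 d hd hdvd)
  obtain ⟨k, hk, hkQ⟩ := Cfsg.Agent.S1480.result p
    (fun T hT hT1 => CfsgLib.PSolvable.isPConstrained_of_isPSolvable
      (CfsgLib.PSolvable.isPSolvable_of_isSolvable (hloc T hT hT1)))
    (fun h => absurd h hp2) B hBp hBa hB3' hfull q hqp Q₁ (hmem Q₁ h₁) Q₂ (hmem Q₂ h₂)
  exact ⟨k, Subgroup.map_subtype_le _ hk, hkQ⟩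

end Cfsg.Agent.S0522
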