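import Cfsg.Statements.S0525
import Mathlib
import Cfsg.Agent.Lib.Supersolvable.Basic

set_option autoImplicit false
set_option linter.style.haveILetI false
open scoped commutatorElement
open Cfsg

namespace Cfsg.Agent.S0525

universe u v

theorem main (k : ℕ) : ∀ (G : Type u) (H : Type v) [Group G] [Finite G] [Group H] [Finite H],
    Nat.card G = k → Cfsg.IsSupersolvable G → Cfsg.IsSupersolvable H →
    Cfsg.IsSupersolvable (G × H) := by
  induction k using Nat.strong_induction_on with
  | _ k IH =>
  intro G H _ _ _ _ hk hG hH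
  subst hk
  rcases subsingleton_or_nontrivial G with hsub | hnt
  · exact CfsgLib.Supersolvable.of_surjective hH (MonoidHom.inr G H)
      (fun z => ⟨z.2, Prod.ext (Subsingleton.elim _ _) rfl⟩)
  obtain ⟨N, hN, hNp⟩ := CfsgLib.Supersolvable.exists_normal_prime_card hG
  haveI := hN
  haveI : Fact (Nat.card N).Prime := ⟨hNp⟩
  haveI : IsCyclic N := isCyclic_of_prime_card rfl
  set M : Subgroup (G × H) := N.map (MonoidHom.inl G H)
  haveI : IsCyclic M := isCyclic_of_surjective _
    (N.equivMapOfInjective (MonoidHom.inl G H) (fun a b h => congrArg Prod.fst h)).surjective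
  haveI : M.Normal := ⟨by
    rintro _ ⟨x, hx, rfl⟩ z
    exact ⟨z.1 * x * z.1⁻¹, hN.conj_mem x hx z.1, Prod.ext rfl (by simp)⟩⟩
  have hlt : Nat.card (G ⧸ N) < Nat.card G := by
    rw [Subgroup.card_eq_card_quotient_mul_card_subgroup N]
    exact lt_mul_of_one_lt_right Nat.card_pos hNp.one_lt
  have h1 := IH _ hlt (G ⧸ N) H rfl (CfsgLib.Supersolvable.quotient hG N) hH
  refine CfsgLib.Supersolvable.of_quotient_cyclic M ?_
  set ψ : G × H →* (G ⧸ N) × H := (QuotientGroup.mk' N).prodMap (MonoidHom.id H)
  have hψ : ψ.ker = M := by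
    ext z
    constructor
    · intro hz
      have hz' := Prod.ext_iff.mp hz
      exact ⟨z.1, (QuotientGroup.eq_one_iff z.1).mp hz'.1, Prod.ext rfl hz'.2.symm⟩
    · rintro ⟨x, hx, rfl⟩
      exact Prod.ext ((QuotientGroup.eq_one_iff x).mpr hx) rfl
  have hsurj : Function.Surjective ψ := fun z => by
    obtain ⟨x, hx⟩ := QuotientGroup.mk'_surjective N z.1
    exact ⟨(x, z.2), Prod.ext hx rfl⟩
  exact CfsgLib.Supersolvable.of_mulEquiv h1
    ((QuotientGroup.quotientMulEquivOfEq hψ.symm).trans
      (QuotientGroup.quotientKerEquivOfSurjective ψ hsurj)).symm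

/-- A direct product of two finite supersolvable groups is supersolvable. -/
theorem result {G H : Type*} [Group G] [Group H] [Finite G] [Finite H] (hG : Cfsg.IsSupersolvable G) (hH : Cfsg.IsSupersolvable H) : Cfsg.IsSupersolvable (G × H) := by
  exact main _ G H rfl hG hH

end Cfsg.Agent.S0525
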