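import Cfsg.Statements.S0526
import Mathlib
import Cfsg.Agent.Lib.Supersolvable.Basic

set_option autoImplicit false
set_option linter.style.haveILetI false
open scoped commutatorElement
open Cfsg

namespace Cfsg.Agent.S0526

universe u

theorem main (k : ℕ) : ∀ (G : Type u) [Group G] [Finite G],
    Nat.card G = k → Cfsg.IsSupersolvable G → Group.IsNilpotent (commutator G) := by
  induction k using Nat.strong_induction_on with
  | _ k IH =>
  intro G _ _ hk hG
  subst hk
  rcases subsingleton_or_nontrivial G with hsub | hnt
  · infer_instance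
  obtain ⟨N, hN, hNp⟩ := CfsgLib.Supersolvable.exists_normal_prime_card hG
  haveI := hN
  haveI : Fact (Nat.card N).Prime := ⟨hNp⟩
  haveI : IsCyclic N := isCyclic_of_prime_card rfl
  have hlt : Nat.card (G ⧸ N) < Nat.card G := by
    rw [Subgroup.card_eq_card_quotient_mul_card_subgroup N]
    exact lt_mul_of_one_lt_right Nat.card_pos hNp.one_lt
  have h1 := IH _ hlt (G ⧸ N) rfl (CfsgLib.Supersolvable.quotient hG N)
  have hmem : ∀ x : commutator G, QuotientGroup.mk' N (x : G) ∈ commutator (G ⧸ N) := fun x => by
    rw [commutator_def, ← Subgroup.map_top_of_surjective _ (QuotientGroup.mk'_surjective N),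
      ← Subgroup.map_commutator, ← commutator_def]
    exact Subgroup.mem_map_of_mem _ x.2
  set f : commutator G →* commutator (G ⧸ N) :=
    ((QuotientGroup.mk' N).comp (commutator G).subtype).codRestrict _ hmem
  have hconj : commutator G ≤ Subgroup.centralizer (N : Set G) := by
    rw [commutator_def, Subgroup.commutator_le]
    intro a _ b _
    rw [Subgroup.mem_centralizer_iff]
    intro y hy
    have hc : Commute (MulAut.conjNormal (H := N) a) (MulAut.conjNormal (H := N) b) := by
      obtain ⟨m, hm⟩ := MonoidHom.map_cyclic (MulAut.conjNormal (H := N) a).toMonoidHom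
      obtain ⟨n, hn⟩ := MonoidHom.map_cyclic (MulAut.conjNormal (H := N) b).toMonoidHom
      simp only [MulEquiv.coe_toMonoidHom] at hm hn
      refine MulEquiv.ext fun z => ?_
      simp only [MulAut.mul_apply]
      rw [hn z, hm z, hm, hn, ← zpow_mul, ← zpow_mul, mul_comm]
    have h2 : MulAut.conjNormal (H := N) ⁅a, b⁆ = 1 := by
      rw [map_commutatorElement, commutatorElement_eq_one_iff_commute]; exact hc
    have h3 : ⁅a, b⁆ * y * ⁅a, b⁆⁻¹ = y :=
      (MulAut.conjNormal_apply _ (⟨y, hy⟩ : N)).symm.trans
        (congrArg (fun φ : MulAut N => ((φ ⟨y, hy⟩ : N) : G)) h2)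
    exact (mul_inv_eq_iff_eq_mul.mp h3).symm
  refine isNilpotent_of_ker_le_center f ?_
  intro x hx
  have hxN : (x : G) ∈ N := (QuotientGroup.eq_one_iff (x : G)).mp (congrArg Subtype.val hx)
  exact Subgroup.mem_center_iff.mpr fun y => Subtype.ext (hconj y.2 x hxN).symm

/-- In a finite supersolvable group the commutator subgroup is nilpotent. -/
theorem result {G : Type*} [Group G] [Finite G] (hG : Cfsg.IsSupersolvable G) : Group.IsNilpotent (commutator G) := by
  exact main _ G rfl hG

end Cfsg.Agent.S0526
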