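import Cfsg.Statements.S0527
import Mathlib
import Cfsg.Agent.Lib.Supersolvable.Basic

set_option autoImplicit false
set_option linter.style.haveILetI false
open scoped commutatorElement
open Cfsg

namespace Cfsg.Agent.S0527

universe u

theorem main (k : ℕ) : ∀ (G : Type u) [Group G] [Finite G],
    Nat.card G = k → Cfsg.IsSupersolvable G → ∀ M : Subgroup G, IsCoatom M → M.index.Prime := by
  induction k using Nat.strong_induction_on with
  | _ k IH =>
  intro G _ _ hk hG M hM
  subst hk
  rcases subsingleton_or_nontrivial G with hsub | hnt
  · exact absurd (Subsingleton.elim M ⊤) hM.1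
  obtain ⟨N, hN, hNp⟩ := CfsgLib.Supersolvable.exists_normal_prime_card hG
  haveI := hN
  have hlt : Nat.card (G ⧸ N) < Nat.card G := by
    rw [Subgroup.card_eq_card_quotient_mul_card_subgroup N]
    exact lt_mul_of_one_lt_right Nat.card_pos hNp.one_lt
  by_cases hNM : N ≤ M
  · have hker : (QuotientGroup.mk' N).ker ≤ M := by rwa [QuotientGroup.ker_mk']
    have hco : IsCoatom (M.map (QuotientGroup.mk' N)) := by
      constructor
      · intro h
        have := congrArg (Subgroup.comap (QuotientGroup.mk' N)) h
        rw [Subgroup.comap_map_eq_self hker, Subgroup.comap_top] at this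
        exact hM.1 this
      · intro K hK
        have h2 : M < K.comap (QuotientGroup.mk' N) := by
          rw [← Subgroup.comap_map_eq_self hker]
          exact (Subgroup.comap_lt_comap_of_surjective (QuotientGroup.mk'_surjective N)).mpr hK
        rw [← Subgroup.map_comap_eq_self_of_surjective (QuotientGroup.mk'_surjective N) K,
          hM.2 _ h2, Subgroup.map_top_of_surjective _ (QuotientGroup.mk'_surjective N)]
    have h := IH _ hlt (G ⧸ N) rfl (CfsgLib.Supersolvable.quotient hG N) _ hco
    rwa [Subgroup.index_map_eq _ (QuotientGroup.mk'_surjective N) hker] at h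
  · have htop : M ⊔ N = ⊤ := hM.2 _ (left_lt_sup.mpr hNM)
    have hdisj : Disjoint N M := by
      rw [disjoint_iff]
      rcases (Nat.dvd_prime hNp).mp (Subgroup.card_dvd_of_le (inf_le_left : N ⊓ M ≤ N)) with h2 | h2
      · exact Subgroup.card_eq_one.mp h2
      · exact absurd ((Subgroup.eq_of_le_of_card_ge inf_le_left h2.ge).symm.trans_le inf_le_right) hNM
    have hc : Subgroup.IsComplement' N M := by
      refine Subgroup.isComplement'_of_disjoint_and_mul_eq_univ hdisj ?_
      rw [← Subgroup.normal_mul, sup_comm, htop, Subgroup.coe_top]
    rw [hc.index_eq_card]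
    exact hNp

/-- In a finite supersolvable group the index of any maximal subgroup is a prime number. -/
theorem result {G : Type*} [Group G] [Finite G] (hG : Cfsg.IsSupersolvable G) (M : Subgroup G) (hM : IsCoatom M) : M.index.Prime := by
  exact main _ G rfl hG M hM

end Cfsg.Agent.S0527
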