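import Cfsg.Statements.S0529
import Mathlib
import Cfsg.Agent.Lib.Supersolvable.Basic

set_option autoImplicit false
set_option linter.style.haveILetI false
open scoped commutatorElement
open Cfsg

namespace Cfsg.Agent.S0529

universe u

theorem main (k : ℕ) : ∀ (G : Type u) [Group G] [Finite G],
    Nat.card G = k → Cfsg.IsSupersolvable G →
    ∃ (n : ℕ) (H : Fin (n + 1) → Subgroup G), H 0 = ⊥ ∧ H (Fin.last n) = ⊤ ∧ (∀ i, (H i).Normal) ∧
      (∀ i : Fin n, H i.castSucc ≤ H i.succ ∧ ((H i.castSucc).relIndex (H i.succ)).Prime ∧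
        (H i.castSucc).relIndex (H i.succ) ∣ Nat.card G) ∧
      ∀ i j : Fin n, i ≤ j →
        (H j.castSucc).relIndex (H j.succ) ≤ (H i.castSucc).relIndex (H i.succ) := by
  induction k using Nat.strong_induction_on with
  | _ k IH =>
  intro G _ _ hk hG
  subst hk
  rcases subsingleton_or_nontrivial G with hsub | hnt
  · exact ⟨0, fun _ => ⊥, rfl, Subsingleton.elim _ _, fun _ => inferInstance, fun i => i.elim0,
      fun i => i.elim0⟩
  have hne : (Nat.card G).primeFactors.Nonempty :=
    Nat.nonempty_primeFactors.mpr Finite.one_lt_card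
  set p := (Nat.card G).primeFactors.max' hne
  have hpmem : p ∈ (Nat.card G).primeFactors := Finset.max'_mem _ hne
  haveI : Fact p.Prime := ⟨(Nat.mem_primeFactors.mp hpmem).1⟩
  have hmax : ∀ q : ℕ, q.Prime → q ∣ Nat.card G → q ≤ p := fun q hq hd =>
    Finset.le_max' _ q (Nat.mem_primeFactors.mpr ⟨hq, hd, Nat.card_pos.ne'⟩)
  obtain ⟨P⟩ : Nonempty (Sylow p G) := inferInstance
  haveI := CfsgLib.Supersolvable.normal_sylow_largest_prime hG p hmax P
  obtain ⟨N, hN, hNP, hNp⟩ := CfsgLib.Supersolvable.exists_normal_prime_card_le hG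
    (P : Subgroup G) (P.ne_bot_of_dvd_card (Nat.mem_primeFactors.mp hpmem).2.1)
  haveI := hN
  have hNcard : Nat.card N = p := by
    obtain ⟨a, ha⟩ := IsPGroup.iff_card.mp P.2
    exact (Nat.prime_dvd_prime_iff_eq hNp Fact.out).mp
      (hNp.dvd_of_dvd_pow (ha ▸ Subgroup.card_dvd_of_le hNP))
  have hcard := Subgroup.card_eq_card_quotient_mul_card_subgroup N
  have hlt : Nat.card (G ⧸ N) < Nat.card G := by
    rw [hcard]; exact lt_mul_of_one_lt_right Nat.card_pos hNp.one_lt
  obtain ⟨n, H, h0, hl, hn, hstep, hmono⟩ :=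
    IH _ hlt (G ⧸ N) rfl (CfsgLib.Supersolvable.quotient hG N)
  set f := QuotientGroup.mk' N
  have hf : Function.Surjective f := QuotientGroup.mk'_surjective N
  let H' : Fin (n + 1 + 1) → Subgroup G := Fin.cases ⊥ fun i => (H i).comap f
  have hz : H' 0 = ⊥ := rfl
  have hs : ∀ i, H' i.succ = (H i).comap f := fun i => rfl
  have hrel : ∀ i : Fin n, (H' i.succ.castSucc).relIndex (H' i.succ.succ) =
      (H i.castSucc).relIndex (H i.succ) := by
    intro i
    rw [← Fin.succ_castSucc, hs, hs, Subgroup.relIndex_comap,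
      Subgroup.map_comap_eq_self_of_surjective hf]
  have hrel0 : (H' (0 : Fin (n + 1)).castSucc).relIndex (H' (0 : Fin (n + 1)).succ) = p := by
    rw [Fin.castSucc_zero, hz, hs, h0, MonoidHom.comap_bot, QuotientGroup.ker_mk',
      Subgroup.relIndex_bot_left, hNcard]
  refine ⟨n + 1, H', rfl, ?_, ?_, ?_, ?_⟩
  · rw [show Fin.last (n + 1) = (Fin.last n).succ from rfl, hs, hl, Subgroup.comap_top]
  · intro i
    induction i using Fin.cases with
    | zero => rw [hz]; infer_instance
    | succ i => rw [hs]; exact (hn i).comap f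
  · intro i
    induction i using Fin.cases with
    | zero =>
      refine ⟨?_, ?_, ?_⟩
      · rw [Fin.castSucc_zero, hz]; exact bot_le
      · rw [hrel0]; exact Fact.out
      · rw [hrel0, ← hNcard]; exact Subgroup.card_subgroup_dvd_card N
    | succ i =>
      refine ⟨?_, ?_, ?_⟩
      · rw [← Fin.succ_castSucc, hs, hs]; exact Subgroup.comap_mono (hstep i).1
      · rw [hrel]; exact (hstep i).2.1
      · rw [hrel]; exact (hstep i).2.2.trans (hcard ▸ dvd_mul_right _ _)
  · intro i j hij
    induction j using Fin.cases with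
    | zero => rw [Fin.le_zero_iff.mp hij]
    | succ j =>
      induction i using Fin.cases with
      | zero =>
        rw [hrel, hrel0]
        exact hmax _ (hstep j).2.1 ((hstep j).2.2.trans (hcard ▸ dvd_mul_right _ _))
      | succ i =>
        rw [hrel, hrel]
        exact hmono i j (Fin.succ_le_succ_iff.mp hij)

/-- A finite supersolvable group has a chain of normal subgroups, from the trivial subgroup to the whole group, in which every step has prime index and the primes occurring are non-increasing as one goes up the chain. -/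
theorem result {G : Type*} [Group G] [Finite G] (hG : Cfsg.IsSupersolvable G) : ∃ (n : ℕ) (H : Fin (n + 1) → Subgroup G), H 0 = ⊥ ∧ H (Fin.last n) = ⊤ ∧ (∀ i, (H i).Normal) ∧ (∀ i : Fin n, H i.castSucc ≤ H i.succ ∧ ((H i.castSucc).relIndex (H i.succ)).Prime) ∧ ∀ i j : Fin n, i ≤ j → (H j.castSucc).relIndex (H j.succ) ≤ (H i.castSucc).relIndex (H i.succ) := by
  obtain ⟨n, H, h0, hl, hn, hstep, hmono⟩ := main _ G rfl hG
  exact ⟨n, H, h0, hl, hn, fun i => ⟨(hstep i).1, (hstep i).2.1⟩, hmono⟩

end Cfsg.Agent.S0529
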