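import Cfsg.Statements.S0530
import Mathlib
import Cfsg.Agent.Lib.Supersolvable.Basic

set_option autoImplicit false
set_option linter.style.haveILetI false
open scoped commutatorElement
open Cfsg

namespace Cfsg.Agent.S0530

universe u

theorem exists_normal_prime {G : Type u} [Group G] [Finite G] [Nontrivial G] (p n : ℕ)
    (hp : p.Prime) (hG : Nat.card G ∣ 2 * p ^ n) :
    ∃ N : Subgroup G, N.Normal ∧ (Nat.card N).Prime := by
  by_cases hZ : Subgroup.center G = ⊥
  swap
  · haveI := (Subgroup.nontrivial_iff_ne_bot _).mpr hZ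
    obtain ⟨r, hr, hrd⟩ := Nat.exists_prime_and_dvd
      (Finite.one_lt_card (α := Subgroup.center G)).ne'
    haveI : Fact r.Prime := ⟨hr⟩
    obtain ⟨z, hz⟩ := exists_prime_orderOf_dvd_card' r hrd
    refine ⟨Subgroup.zpowers (z : G), ⟨fun y hy g => ?_⟩, ?_⟩
    · have hy' : y ∈ Subgroup.center G := (Subgroup.zpowers_le.mpr z.2) hy
      rw [Subgroup.mem_center_iff.mp hy' g, mul_inv_cancel_right]
      exact hy
    · rw [Nat.card_zpowers, Subgroup.orderOf_coe, hz]; exact hr
  haveI : Fact p.Prime := ⟨hp⟩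
  haveI : Fact (Nat.Prime 2) := ⟨Nat.prime_two⟩
  -- the group is not of prime power order
  have hnot : ∀ (r : ℕ) [Fact r.Prime], ¬ IsPGroup r G := by
    intro r _ h
    exact (h.bot_lt_center).ne' hZ
  obtain ⟨P⟩ : Nonempty (Sylow p G) := inferInstance
  obtain ⟨a, ha⟩ := IsPGroup.iff_card.mp P.2
  have hp2 : p ≠ 2 := by
    rintro rfl
    obtain ⟨i, -, hi⟩ := (Nat.dvd_prime_pow Nat.prime_two).mp
      (hG.trans (by rw [pow_succ, mul_comm] : 2 * 2 ^ n ∣ 2 ^ (n + 1)))
    exact hnot 2 (IsPGroup.of_card hi)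
  have hidx : (P : Subgroup G).index = 2 := by
    have h1 : (P : Subgroup G).index ∣ 2 := by
      refine (Nat.Coprime.dvd_of_dvd_mul_right ?_ ((Subgroup.index_dvd_card _).trans hG))
      exact Nat.Coprime.pow_right n ((Nat.Prime.coprime_iff_not_dvd hp).mpr P.not_dvd_index).symm
    rcases (Nat.dvd_prime Nat.prime_two).mp h1 with h2 | h2
    · exact absurd (P.2.of_equiv ((MulEquiv.subgroupCongr (Subgroup.index_eq_one.mp h2)).trans
        Subgroup.topEquiv)) (hnot p)
    · exact h2
  haveI : (P : Subgroup G).Normal := Subgroup.normal_of_index_eq_two hidx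
  haveI : Nontrivial (P : Subgroup G) := by
    rw [Subgroup.nontrivial_iff_ne_bot]
    intro h
    rw [h, Subgroup.index_bot] at hidx
    exact hnot 2 (IsPGroup.of_card (n := 1) (by rw [hidx, pow_one]))
  haveI := P.2.center_nontrivial
  obtain ⟨b, hb0, hb⟩ := ((P.2).to_subgroup (Subgroup.center (P : Subgroup G))).nontrivial_iff_card.mp
    inferInstance
  obtain ⟨z, hz⟩ := exists_prime_orderOf_dvd_card' (G := Subgroup.center (P : Subgroup G)) p
    (hb ▸ dvd_pow_self p (by omega))
  set x : G := ((z : (P : Subgroup G)) : G)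
  have hxord : orderOf x = p := by rw [Subgroup.orderOf_coe, Subgroup.orderOf_coe, hz]
  have hxP : x ∈ (P : Subgroup G) := (z : (P : Subgroup G)).2
  have hxc : ∀ y ∈ (P : Subgroup G), y * x = x * y := fun y hy =>
    congrArg Subtype.val (Subgroup.mem_center_iff.mp z.2 ⟨y, hy⟩)
  have hsq : ∀ t : G, t * t ∈ (P : Subgroup G) := fun t =>
    Subgroup.mul_self_mem_of_index_two hidx t
  -- an element outside `P` inverts `x`
  have hinv : ∀ t : G, t ∉ (P : Subgroup G) → t * x * t⁻¹ = x⁻¹ := by
    intro t ht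
    have hcm : ∀ y ∈ (P : Subgroup G), y * (t * x * t⁻¹) = t * x * t⁻¹ * y := by
      intro y hy
      have h1 := hxc (t⁻¹ * y * t) (by
        simpa using Subgroup.Normal.conj_mem inferInstance y hy t⁻¹)
      have h2 := congrArg (fun w => t * w * t⁻¹) h1
      simpa [mul_assoc] using h2
    set w := x * (t * x * t⁻¹) with hw
    have hwP : ∀ y ∈ (P : Subgroup G), y * w = w * y := by
      intro y hy
      rw [hw, ← mul_assoc, hxc y hy, mul_assoc, hcm y hy, ← mul_assoc]
    have hwt : t * w * t⁻¹ = w := by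
      have h3 : t * (t * x * t⁻¹) * t⁻¹ = x := by
        rw [show t * (t * x * t⁻¹) * t⁻¹ = t * t * x * (t * t)⁻¹ by group, hxc _ (hsq t),
          mul_inv_cancel_right]
      rw [hw, show t * (x * (t * x * t⁻¹)) * t⁻¹ = (t * x * t⁻¹) * (t * (t * x * t⁻¹) * t⁻¹) by
        group, h3, hcm x hxP]
    have hwc : w ∈ Subgroup.center G := by
      rw [Subgroup.mem_center_iff]
      intro g
      have hwt' : t * w = w * t := mul_inv_eq_iff_eq_mul.mp hwt
      by_cases hg : g ∈ (P : Subgroup G)
      · exact hwP g hg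
      · have hgt : g * t⁻¹ ∈ (P : Subgroup G) := by
          rw [Subgroup.mul_mem_iff_of_index_two hidx]
          simp [hg, ht]
        have h4 := hwP _ hgt
        calc g * w = g * t⁻¹ * (t * w) := by group
          _ = g * t⁻¹ * (w * t) := by rw [hwt']
          _ = g * t⁻¹ * w * t := by group
          _ = w * (g * t⁻¹) * t := by rw [h4]
          _ = w * g := by group
    rw [hZ, Subgroup.mem_bot, hw] at hwc
    exact (eq_inv_of_mul_eq_one_right hwc)
  refine ⟨Subgroup.zpowers x, ⟨fun y hy g => ?_⟩, by rw [Nat.card_zpowers, hxord]; exact hp⟩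
  obtain ⟨j, rfl⟩ := Subgroup.mem_zpowers_iff.mp hy
  rw [← conj_zpow]
  refine Subgroup.zpow_mem _ ?_ j
  by_cases hg : g ∈ (P : Subgroup G)
  · rw [hxc g hg, mul_inv_cancel_right]; exact Subgroup.mem_zpowers x
  · rw [hinv g hg]; exact Subgroup.inv_mem _ (Subgroup.mem_zpowers x)

theorem main (p n : ℕ) (hp : p.Prime) (k : ℕ) : ∀ (G : Type u) [Group G] [Finite G],
    Nat.card G = k → Nat.card G ∣ 2 * p ^ n → Cfsg.IsSupersolvable G := by
  induction k using Nat.strong_induction_on with
  | _ k IH =>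
  intro G _ _ hk hG
  subst hk
  rcases subsingleton_or_nontrivial G with hsub | hnt
  · exact CfsgLib.Supersolvable.of_subsingleton
  obtain ⟨N, hN, hNp⟩ := exists_normal_prime p n hp hG
  haveI := hN
  haveI : Fact (Nat.card N).Prime := ⟨hNp⟩
  haveI : IsCyclic N := isCyclic_of_prime_card rfl
  have hcard := Subgroup.card_eq_card_quotient_mul_card_subgroup N
  have hlt : Nat.card (G ⧸ N) < Nat.card G := by
    rw [hcard]; exact lt_mul_of_one_lt_right Nat.card_pos hNp.one_lt
  exact CfsgLib.Supersolvable.of_quotient_cyclic N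
    (IH _ hlt (G ⧸ N) rfl ((hcard ▸ dvd_mul_right _ _ : Nat.card (G ⧸ N) ∣ Nat.card G).trans hG))

/-- A finite group whose order is twice a prime power is supersolvable. -/
theorem result {G : Type*} [Group G] [Finite G] (p n : ℕ) (hp : p.Prime) (hG : Nat.card G = 2 * p ^ n) : Cfsg.IsSupersolvable G := by
  exact main p n hp _ G rfl hG.dvd

end Cfsg.Agent.S0530
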