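import Cfsg.Statements.S0531
import Mathlib
import Cfsg.Agent.Lib.PSolvable.Core
import Cfsg.Agent.Lib.Coprime.Action

set_option autoImplicit false
open Cfsg

namespace Cfsg.Agent.S0531
theorem prime_normal {G : Type*} [Group G] [Finite G] [Nontrivial G]
    (hG : Cfsg.IsSupersolvable G) :
    ∃ N : Subgroup G, N.Normal ∧ (Nat.card N).Prime := by
  obtain ⟨n, H, h0, hl, hn, hstep⟩ := hG
  have hex : ∃ i : Fin n, H i.castSucc = ⊥ ∧ H i.succ ≠ ⊥ := by
    by_contra hno
    push Not at hno
    have h : ∀ i : Fin (n + 1), H i = ⊥ := by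
      intro i
      induction i using Fin.induction with
      | zero => exact h0
      | succ i ih => exact hno i ih
    exact top_ne_bot (hl.symm.trans (h _))
  obtain ⟨i, hi, hne⟩ := hex
  obtain ⟨g, hg⟩ := hstep i
  rw [hi, bot_sup_eq] at hg
  have hnorm : (Subgroup.zpowers g).Normal := hg ▸ hn i.succ
  have hg1 : g ≠ 1 := fun h => hne (by rw [hg, h, Subgroup.zpowers_one_eq_bot])
  obtain ⟨r, hr, hrd⟩ := Nat.exists_prime_and_dvd (mt orderOf_eq_one_iff.mp hg1)
  refine ⟨Subgroup.zpowers (g ^ (orderOf g / r)), ⟨fun y hy x => ?_⟩, ?_⟩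
  · obtain ⟨k, rfl⟩ := Subgroup.mem_zpowers_iff.mp hy
    obtain ⟨j, hj⟩ := Subgroup.mem_zpowers_iff.mp
      (hnorm.conj_mem g (Subgroup.mem_zpowers g) x)
    refine Subgroup.mem_zpowers_iff.mpr ⟨j * k, ?_⟩
    rw [← conj_zpow, ← conj_pow, ← hj, ← zpow_natCast g, ← zpow_natCast (g ^ j), ← zpow_mul,
      ← zpow_mul, ← zpow_mul]
    congr 1
    ring
  · rw [Nat.card_zpowers, orderOf_pow_orderOf_div (orderOf_pos g).ne' hrd]
    exact hr

universe u

theorem aux (k : ℕ) : ∀ {G : Type u} [Group G] [Finite G], Nat.card G = k →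
    Cfsg.IsSupersolvable G → Cfsg.HasSubgroupOfEveryOrder G := by
  induction k using Nat.strong_induction_on with
  | _ k IH =>
  intro G _ _ hk hG d hd
  subst hk
  rcases subsingleton_or_nontrivial G with hsub | hnt
  · rw [Nat.card_of_subsingleton 1, Nat.dvd_one] at hd
    exact ⟨⊥, by rw [Subgroup.card_bot, hd]⟩
  obtain ⟨N, hN, hNp⟩ := prime_normal hG
  haveI := hN
  set r := Nat.card N
  set f := QuotientGroup.mk' N
  have hsurj : Function.Surjective f := QuotientGroup.mk'_surjective N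
  have hcardG : Nat.card G = Nat.card (G ⧸ N) * r :=
    Subgroup.card_eq_card_quotient_mul_card_subgroup N
  have hlt : Nat.card (G ⧸ N) < Nat.card G := by
    rw [hcardG]
    exact lt_mul_of_one_lt_right Nat.card_pos hNp.one_lt
  have hQ : Cfsg.IsSupersolvable (G ⧸ N) := by
    obtain ⟨n, H, h0, hl, hn, hstep⟩ := hG
    refine ⟨n, fun i => (H i).map f, by simp [h0], by
      change (H (Fin.last n)).map f = ⊤
      rw [hl, Subgroup.map_top_of_surjective f hsurj], fun i => (hn i).map f hsurj, fun i => ?_⟩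
    obtain ⟨g, hg⟩ := hstep i
    refine ⟨f g, ?_⟩
    change (H i.succ).map f = (H i.castSucc).map f ⊔ _
    rw [hg, Subgroup.map_sup, MonoidHom.map_zpowers]
  have IH' := IH _ hlt (G := G ⧸ N) rfl hQ
  have hker : Nat.card f.ker = r := by rw [QuotientGroup.ker_mk']
  by_cases hrd : r ∣ d
  · obtain ⟨c, rfl⟩ := hrd
    obtain ⟨M, hM⟩ := IH' c (Nat.dvd_of_mul_dvd_mul_left hNp.pos (by rwa [mul_comm _ (Nat.card (G ⧸ N)), ← hcardG]))
    exact ⟨M.comap f, by rw [CfsgLib.PSolvable.card_comap_of_surjective hsurj, hker, hM]⟩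
  · have hcop : r.Coprime d := (Nat.Prime.coprime_iff_not_dvd hNp).mpr hrd
    obtain ⟨M, hM⟩ := IH' d (hcop.symm.dvd_of_dvd_mul_right (hcardG ▸ hd))
    have hle : N ≤ M.comap f := (QuotientGroup.ker_mk' N).symm.trans_le (Subgroup.ker_le_comap f M)
    have hrel : N.relIndex (M.comap f) = d := by
      have h1 := CfsgLib.Coprime.relIndex_mul_card_inf N (M.comap f)
      rw [inf_eq_left.mpr hle, CfsgLib.PSolvable.card_comap_of_surjective hsurj, hker, hM] at h1
      refine Nat.eq_of_mul_eq_mul_right hNp.pos (h1.trans ?_)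
      ring
    obtain ⟨B, -, -, -, hB⟩ := CfsgLib.Coprime.exists_complement_of_coprime (N := N)
      (S := M.comap f) Subgroup.le_normalizer_of_normal
      (by rw [inf_eq_left.mpr hle, hrel]; exact hcop)
    exact ⟨B, hB.trans hrel⟩


/-- A finite supersolvable group has a subgroup of each order dividing its order. -/
theorem result {G : Type*} [Group G] [Finite G] (hG : Cfsg.IsSupersolvable G) : Cfsg.HasSubgroupOfEveryOrder G := by
  exact aux _ rfl hG

end Cfsg.Agent.S0531
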