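import Cfsg.Statements.S0532
import Mathlib
import Cfsg.Agent.Lib.Supersolvable.Basic

set_option autoImplicit false
set_option linter.style.haveILetI false
open scoped commutatorElement
open Cfsg

namespace Cfsg.Agent.S0532

universe u

theorem main (k : ℕ) : ∀ (G : Type u) [Group G] [Finite G], Nat.card G = k →
    (∀ H : Subgroup G, Cfsg.HasSubgroupOfEveryOrder H) →
    ∀ (p : ℕ) [Fact p.Prime], (∀ q : ℕ, q.Prime → q ∣ Nat.card G → q ≤ p) →
    ∀ P : Sylow p G, (P : Subgroup G).Normal := by
  induction k using Nat.strong_induction_on with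
  | _ k IH =>
  intro G _ _ hk h p hp hmax P
  subst hk
  by_cases hPtop : (P : Subgroup G) = ⊤
  · rw [hPtop]; infer_instance
  set q := (Nat.card G).minFac with hq
  have h1 : Nat.card G ≠ 1 := fun h1 => hPtop
    (Subgroup.eq_top_of_le_card _ (h1 ▸ Nat.card_pos))
  have hqp : q.Prime := Nat.minFac_prime h1
  have hqdvd : q ∣ Nat.card G := Nat.minFac_dvd _
  -- the smallest prime is less than `p`
  have hlt : q < p := by
    refine lt_of_le_of_ne (hmax q hqp hqdvd) fun heq => hPtop ?_
    have hpg : IsPGroup p G := by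
      refine IsPGroup.of_card (n := (Nat.card G).factorization p) ?_
      refine Nat.eq_pow_of_factorization_eq_single Nat.card_pos.ne' ?_
      ext r
      by_cases hr : r = p
      · subst hr; simp
      · rw [Finsupp.single_eq_of_ne hr]
        refine Classical.byContradiction fun hne => hr ?_
        have hrp : r.Prime := Nat.prime_of_mem_primeFactors (Finsupp.mem_support_iff.mpr hne)
        have hrd : r ∣ Nat.card G := Nat.dvd_of_factorization_pos hne
        exact le_antisymm (hmax r hrp hrd) (heq ▸ Nat.minFac_le_of_dvd hrp.two_le hrd)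
    exact (P.3 (Q := ⊤) (hpg.of_equiv Subgroup.topEquiv.symm) le_top).symm
  obtain ⟨c, hc⟩ := hqdvd
  obtain ⟨M, hM⟩ := h ⊤ c (by rw [Subgroup.card_top, hc]; exact dvd_mul_left _ _)
  set L : Subgroup G := M.map (⊤ : Subgroup G).subtype
  have hLcard : Nat.card L = c := by
    rw [← hM]
    exact (Nat.card_congr (M.equivMapOfInjective _ (Subgroup.subtype_injective _)).toEquiv).symm
  have hcpos : 0 < c := hLcard ▸ Nat.card_pos
  have hLindex : L.index = q := by
    have e := L.card_mul_index
    rw [hLcard] at e
    exact Nat.eq_of_mul_eq_mul_left hcpos (e.trans (hc.trans (mul_comm _ _)))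
  haveI hLn : L.Normal := Subgroup.normal_of_index_eq_minFac_card hLindex
  -- `L` contains `P`
  have hPL : (P : Subgroup G) ≤ L := by
    intro x hx
    obtain ⟨a, ha⟩ := IsPGroup.iff_card.mp P.2
    have hord : orderOf (QuotientGroup.mk' L x) ∣ p ^ a := by
      refine (orderOf_map_dvd _ x).trans (ha ▸ ?_)
      exact Subgroup.orderOf_dvd_natCard (s := (P : Subgroup G)) hx
    have hord' : orderOf (QuotientGroup.mk' L x) ∣ q := by
      rw [← hLindex, Subgroup.index_eq_card]; exact orderOf_dvd_natCard _
    have h1 : orderOf (QuotientGroup.mk' L x) = 1 :=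
      Nat.eq_one_of_dvd_coprimes (Nat.Coprime.pow_right a
        ((Nat.coprime_primes hqp hp.out).mpr hlt.ne)) hord' hord
    exact (QuotientGroup.eq_one_iff x).mp (orderOf_eq_one_iff.mp h1)
  have hlt' : Nat.card L < Nat.card G := by
    rw [hLcard, hc]; exact lt_mul_of_one_lt_left hcpos hqp.one_lt
  have hh : ∀ H : Subgroup L, Cfsg.HasSubgroupOfEveryOrder H := by
    intro H d hd
    have e := H.equivMapOfInjective L.subtype L.subtype_injective
    obtain ⟨K, hK⟩ := h (H.map L.subtype) d (by rwa [← Nat.card_congr e.toEquiv])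
    exact ⟨K.map e.symm.toMonoidHom, by
      rw [← hK]; exact (Nat.card_congr (K.equivMapOfInjective _ e.symm.injective).toEquiv).symm⟩
  have hPn := IH _ hlt' L rfl hh p
    (fun r hr hd => hmax r hr (hd.trans (Subgroup.card_subgroup_dvd_card L))) (P.subtype hPL)
  haveI := Sylow.characteristic_of_normal (P.subtype hPL) hPn
  have hmap : ((P.subtype hPL : Sylow p L) : Subgroup L).map L.subtype = (P : Subgroup G) := by
    rw [Sylow.coe_subtype]; exact Subgroup.map_subgroupOf_eq_of_le hPL
  rw [← hmap]; infer_instance

/-- If each subgroup of a finite group satisfies the converse of Lagrange's theorem, then a Sylow subgroup for the largest prime dividing the group order is normal. -/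
theorem result {G : Type*} [Group G] [Finite G] (h : ∀ H : Subgroup G, Cfsg.HasSubgroupOfEveryOrder H) (p : ℕ) [Fact p.Prime] (hdvd : p ∣ Nat.card G) (hmax : ∀ q : ℕ, q.Prime → q ∣ Nat.card G → q ≤ p) (P : Sylow p G) : (P : Subgroup G).Normal := by
  exact main _ G rfl h p hmax P

end Cfsg.Agent.S0532
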