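import Cfsg.Statements.S0533
import Mathlib
import Cfsg.Agent.Lib.Supersolvable.Crit
import Cfsg.Agent.S0532

set_option autoImplicit false
set_option linter.style.haveILetI false
open scoped commutatorElement
open Cfsg

namespace Cfsg.Agent.S0533

universe u

theorem main (k : ℕ) : ∀ (G : Type u) [Group G] [Finite G], Nat.card G = k →
    (∀ H : Subgroup G, Cfsg.HasSubgroupOfEveryOrder H) → Cfsg.IsSupersolvable G := by
  induction k using Nat.strong_induction_on with
  | _ k IH =>
  intro G _ _ hk h
  subst hk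
  rcases subsingleton_or_nontrivial G with hsub | hnt
  · exact CfsgLib.Supersolvable.of_subsingleton
  have hne : (Nat.card G).primeFactors.Nonempty :=
    Nat.nonempty_primeFactors.mpr Finite.one_lt_card
  set p := (Nat.card G).primeFactors.max' hne
  have hpmem : p ∈ (Nat.card G).primeFactors := Finset.max'_mem _ hne
  haveI : Fact p.Prime := ⟨(Nat.mem_primeFactors.mp hpmem).1⟩
  have hmax : ∀ q : ℕ, q.Prime → q ∣ Nat.card G → q ≤ p := fun q hq hd =>
    Finset.le_max' _ q (Nat.mem_primeFactors.mpr ⟨hq, hd, Nat.card_pos.ne'⟩)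
  obtain ⟨P⟩ : Nonempty (Sylow p G) := inferInstance
  haveI := Cfsg.Agent.S0532.result h p (Nat.mem_primeFactors.mp hpmem).2.1 hmax P
  obtain ⟨c, hc⟩ := (Nat.mem_primeFactors.mp hpmem).2.1
  obtain ⟨M', hM'⟩ := h ⊤ c (by rw [Subgroup.card_top, hc]; exact dvd_mul_left _ _)
  set M : Subgroup G := M'.map (⊤ : Subgroup G).subtype
  have hMcard : Nat.card M = c := by
    rw [← hM']
    exact (Nat.card_congr (M'.equivMapOfInjective _ (Subgroup.subtype_injective _)).toEquiv).symm
  have hcpos : 0 < c := hMcard ▸ Nat.card_pos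
  have hMindex : M.index = p := by
    have e := M.card_mul_index
    rw [hMcard] at e
    exact Nat.eq_of_mul_eq_mul_left hcpos (e.trans (hc.trans (mul_comm _ _)))
  have hlt : Nat.card M < Nat.card G := by
    rw [hMcard, hc]; exact lt_mul_of_one_lt_left hcpos (Fact.out : p.Prime).one_lt
  have hh : ∀ H : Subgroup M, Cfsg.HasSubgroupOfEveryOrder H := by
    intro H d hd
    have e := H.equivMapOfInjective M.subtype M.subtype_injective
    obtain ⟨K, hK⟩ := h (H.map M.subtype) d (by rwa [← Nat.card_congr e.toEquiv])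
    exact ⟨K.map e.symm.toMonoidHom, by
      rw [← hK]; exact (Nat.card_congr (K.equivMapOfInjective _ e.symm.injective).toEquiv).symm⟩
  have hMs := IH _ hlt M rfl hh
  obtain ⟨a, ha⟩ := IsPGroup.iff_card.mp P.2
  have hPM : ¬ (P : Subgroup G) ≤ M := by
    intro hle
    have h1 : Nat.card G ∣ c := by
      rw [← hMcard]
      have h2 := P.not_dvd_index
      have h3 : M.index ∣ (P : Subgroup G).index := Subgroup.index_dvd_of_le hle
      rw [hMindex] at h3
      exact absurd h3 h2
    exact absurd (Nat.le_of_dvd hcpos h1) (not_le.mpr (hMcard ▸ hlt))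
  have hsup : (P : Subgroup G) ⊔ M = ⊤ := by
    rcases (Nat.dvd_prime (Fact.out : p.Prime)).mp
      (hMindex ▸ Subgroup.index_dvd_of_le (le_sup_right : M ≤ (P : Subgroup G) ⊔ M)) with h1 | h1
    · exact Subgroup.index_eq_one.mp h1
    · exfalso
      have h2 := Subgroup.relIndex_mul_index (le_sup_right : M ≤ (P : Subgroup G) ⊔ M)
      rw [h1, hMindex] at h2
      have h3 := Nat.eq_of_mul_eq_mul_right (Fact.out : p.Prime).pos (h2.trans (one_mul p).symm)
      exact hPM (le_sup_left.trans (Subgroup.relIndex_eq_one.mp h3))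
  refine CfsgLib.Supersolvable.of_normal_pgroup_sup p (P : Subgroup G) M P.2 hMs hsup ?_
  have h4 : M.relIndex (P : Subgroup G) ∣ p ^ a := by
    rw [← ha]; exact Subgroup.index_dvd_card _
  obtain ⟨b, -, hb⟩ := (Nat.dvd_prime_pow (Fact.out : p.Prime)).mp h4
  have h5 : M.relIndex (P : Subgroup G) ≤ p := by
    refine le_trans (Subgroup.relIndex_le_of_le_right (L := ⊤) le_top
      (by rw [Subgroup.relIndex_top_right, hMindex]; exact (Fact.out : p.Prime).ne_zero)) ?_
    rw [Subgroup.relIndex_top_right, hMindex]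
  rw [hb] at h5 ⊢
  rcases b with _ | _ | b
  · simp
  · simp
  · exact absurd h5 (not_le.mpr (lt_self_pow₀ (Fact.out : p.Prime).one_lt (by omega)))

/-- If every subgroup of a finite group has subgroups of all orders dividing its order, then the group is supersolvable. -/
theorem result {G : Type*} [Group G] [Finite G] (h : ∀ H : Subgroup G, Cfsg.HasSubgroupOfEveryOrder H) : Cfsg.IsSupersolvable G := by
  exact main _ G rfl h

end Cfsg.Agent.S0533
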