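import Cfsg.Statements.S0534
import Mathlib
import Cfsg.Agent.Lib.Hall.Basic

set_option autoImplicit false
open Cfsg

namespace Cfsg.Agent.S0534
theorem exists_card {A : Type*} [CommGroup A] [Finite A] (d : ℕ) :
    d ∣ Nat.card A → ∃ B : Subgroup A, Nat.card B = d := by
  induction d using Nat.recOnPrimeCoprime with
  | zero =>
    intro h
    exact absurd (Nat.eq_zero_of_zero_dvd h) Nat.card_pos.ne'
  | prime_pow p n hp =>
    intro h
    haveI := Fact.mk hp
    exact Sylow.exists_subgroup_card_pow_prime p h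
  | coprime a b ha hb hab iha ihb =>
    intro h
    obtain ⟨B, hB⟩ := iha (dvd_of_mul_right_dvd h)
    obtain ⟨C, hC⟩ := ihb (dvd_of_mul_left_dvd h)
    refine ⟨B ⊔ C, ?_⟩
    rw [CfsgLib.Coprime.card_sup_of_coprime Subgroup.le_normalizer_of_normal
      (by rw [hB, hC]; exact hab), hB, hC]


/-- Let G be a finite solvable group and A a finite abelian group such that every prime dividing the order of A divides the order of G and, for each prime p dividing the order of G, the exponent of p in the order of A is one less than its exponent in the order of G. Then G × A has a subgroup of every order dividing its order. -/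
theorem result {G A : Type*} [Group G] [CommGroup A] [Finite G] [Finite A] [Group.IsSolvable G] (hA : ∀ p : ℕ, p.Prime → p ∣ Nat.card A → p ∣ Nat.card G) (hexp : ∀ p : ℕ, p.Prime → p ∣ Nat.card G → (Nat.card A).factorization p + 1 = (Nat.card G).factorization p) : Cfsg.HasSubgroupOfEveryOrder (G × A) := by
  classical
  intro d hd
  rw [Nat.card_prod] at hd
  suffices h : ∃ x y : ℕ, x * y = d ∧ x ∣ Nat.card G ∧ x.Coprime (Nat.card G / x) ∧ y ∣ Nat.card A by
    obtain ⟨x, y, rfl, hx, hxc, hy⟩ := h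
    obtain ⟨H, hH⟩ := CfsgLib.Hall.exists_hall (Nat.mul_div_cancel' hx).symm hxc
    obtain ⟨B, hB⟩ := exists_card y hy
    exact ⟨H.prod B, by
      rw [Nat.card_congr (Subgroup.prodEquiv H B).toEquiv, Nat.card_prod, hH, hB]⟩
  induction d using Nat.recOnPrimeCoprime with
  | zero =>
    exact absurd (Nat.eq_zero_of_zero_dvd hd) (Nat.mul_pos Nat.card_pos Nat.card_pos).ne'
  | prime_pow p n hp =>
    set g := (Nat.card G).factorization p
    set a := (Nat.card A).factorization p
    have hG0 : Nat.card G ≠ 0 := Nat.card_pos.ne'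
    have hA0 : Nat.card A ≠ 0 := Nat.card_pos.ne'
    have hn : n ≤ g + a := by
      have := (hp.pow_dvd_iff_le_factorization (mul_ne_zero hG0 hA0)).mp hd
      rwa [Nat.factorization_mul hG0 hA0, Finsupp.add_apply] at this
    by_cases hpG : p ∣ Nat.card G
    · have hag : a + 1 = g := hexp p hp hpG
      by_cases hng : g ≤ n
      · refine ⟨p ^ g, p ^ (n - g), by rw [← pow_add]; congr 1; omega, Nat.ordProj_dvd _ _,
          ((Nat.coprime_ordCompl hp hG0).pow_left g), ?_⟩
        exact (hp.pow_dvd_iff_le_factorization hA0).mpr (by omega)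
      · exact ⟨1, p ^ n, one_mul _, one_dvd _, Nat.coprime_one_left _,
          (hp.pow_dvd_iff_le_factorization hA0).mpr (by omega)⟩
    · have hg : g = 0 := Nat.factorization_eq_zero_of_not_dvd hpG
      have ha : a = 0 := Nat.factorization_eq_zero_of_not_dvd fun h => hpG (hA p hp h)
      exact ⟨1, p ^ n, one_mul _, one_dvd _, Nat.coprime_one_left _,
        (hp.pow_dvd_iff_le_factorization hA0).mpr (by omega)⟩
  | coprime a b ha hb hab iha ihb =>
    obtain ⟨x₁, y₁, he₁, hx₁, hc₁, hy₁⟩ := iha (dvd_of_mul_right_dvd hd)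
    obtain ⟨x₂, y₂, he₂, hx₂, hc₂, hy₂⟩ := ihb (dvd_of_mul_left_dvd hd)
    have hx : x₁.Coprime x₂ := (hab.coprime_dvd_left (he₁ ▸ dvd_mul_right x₁ y₁)).coprime_dvd_right
      (he₂ ▸ dvd_mul_right x₂ y₂)
    have hy : y₁.Coprime y₂ := (hab.coprime_dvd_left (he₁ ▸ dvd_mul_left y₁ x₁)).coprime_dvd_right
      (he₂ ▸ dvd_mul_left y₂ x₂)
    refine ⟨x₁ * x₂, y₁ * y₂, by rw [← he₁, ← he₂]; ring, hx.mul_dvd_of_dvd_of_dvd hx₁ hx₂, ?_,
      hy.mul_dvd_of_dvd_of_dvd hy₁ hy₂⟩
    refine Nat.Coprime.mul_left (hc₁.coprime_dvd_right ?_) (hc₂.coprime_dvd_right ?_)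
    · exact Nat.div_dvd_div_left (hx.mul_dvd_of_dvd_of_dvd hx₁ hx₂) (dvd_mul_right _ _)
    · exact Nat.div_dvd_div_left (hx.mul_dvd_of_dvd_of_dvd hx₁ hx₂) (dvd_mul_left _ _)

end Cfsg.Agent.S0534
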