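import Cfsg.Statements.S0535
import Mathlib
import Cfsg.Agent.Lib.Hall.System
import Cfsg.Agent.S0144

set_option autoImplicit false
set_option linter.style.haveILetI false
open Cfsg
open scoped commutatorElement Pointwise

namespace Cfsg.Agent.S0535

universe u

theorem wielandt (n : ℕ) : ∀ (G : Type u) [Group G] [Finite G], Nat.card G = n →
    ∀ A B C : Subgroup G, Group.IsSolvable A → Group.IsSolvable B → Group.IsSolvable C →
    A.index.Coprime B.index → A.index.Coprime C.index → B.index.Coprime C.index →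
    Group.IsSolvable G := by
  induction n using Nat.strong_induction_on with
  | _ n IH =>
  intro G _ _ hn A B C hA hB hC hAB hAC hBC
  subst hn
  have htop : ∀ K : Subgroup G, Group.IsSolvable K → K = ⊤ → Group.IsSolvable G := by
    intro K hK e
    subst e
    exact solvable_of_surjective (f := (Subgroup.topEquiv (G := G)).toMonoidHom) (MulEquiv.surjective _)
  by_cases hAne : A = ⊥
  · refine htop B hB (Subgroup.index_eq_one.mp ?_)
    have h1 := hAB
    rw [hAne, Subgroup.index_bot] at h1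
    exact h1.symm.eq_one_of_dvd B.index_dvd_card
  haveI := hA
  haveI : Nontrivial A := (Subgroup.nontrivial_iff_ne_bot A).mpr hAne
  obtain ⟨ℓ, hℓ, N, hN, hNne, hNp, -⟩ := CfsgLib.Hall.exists_normal_pgroup_ne_bot (G := A)
  haveI := Fact.mk hℓ
  -- one of `B`, `C` contains a Sylow `ℓ`-subgroup
  obtain ⟨D, hD, hDA, hDℓ⟩ : ∃ D : Subgroup G, Group.IsSolvable D ∧ A.index.Coprime D.index ∧ ¬ ℓ ∣ D.index := by
    by_cases hb : ℓ ∣ B.index
    · refine ⟨C, hC, hAC, fun hc => hℓ.ne_one ?_⟩
      exact Nat.eq_one_of_dvd_coprimes hBC hb hc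
    · exact ⟨B, hB, hAB, hb⟩
  set N' := N.map A.subtype with hN'
  have hN'p : IsPGroup ℓ N' := hNp.map _
  obtain ⟨P⟩ := (inferInstance : Nonempty (Sylow ℓ D))
  have hPi : ¬ ℓ ∣ ((P : Subgroup D).map D.subtype).index := by
    rw [Subgroup.index_map_subtype]
    exact fun h => (hℓ.dvd_mul.mp h).elim P.not_dvd_index hDℓ
  let S : Sylow ℓ G := IsPGroup.toSylow (P.2.map D.subtype) hPi
  obtain ⟨T, hT⟩ := hN'p.exists_le_sylow
  obtain ⟨g, hg⟩ := MulAction.exists_smul_eq G S T
  obtain ⟨a, ha, d, hd, rfl⟩ := CfsgLib.Hall.exists_eq_mul_of_coprime_index hDA g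
  have hND : N' ≤ D := by
    intro x hx
    have hx' : a * x * a⁻¹ ∈ N' := by
      obtain ⟨⟨y, hy⟩, hyN, rfl⟩ := hx
      exact ⟨⟨a, ha⟩ * ⟨y, hy⟩ * ⟨a, ha⟩⁻¹, hN.conj_mem _ hyN _, rfl⟩
    have h1 : a * x * a⁻¹ ∈ (T : Subgroup G) := hT hx'
    rw [← hg, Sylow.coe_subgroup_smul, Subgroup.mem_pointwise_smul_iff_inv_smul_mem] at h1
    have h2 : (a * d)⁻¹ * (a * x * a⁻¹) * (a * d) ∈ D := by
      have : (S : Subgroup G) ≤ D := Subgroup.map_subtype_le _
      have h3 := this h1
      simpa [MulAut.smul_def, mul_assoc] using h3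
    have h4 := D.mul_mem (D.mul_mem hd h2) (D.inv_mem hd)
    simpa [mul_assoc] using h4
  have hconj : ∀ u : G, ∀ x ∈ N', u * x * u⁻¹ ∈ D := by
    intro u x hx
    obtain ⟨d', hd', a', ha', rfl⟩ := CfsgLib.Hall.exists_eq_mul_of_coprime_index hDA.symm u
    have hx' : a' * x * a'⁻¹ ∈ N' := by
      obtain ⟨⟨y, hy⟩, hyN, rfl⟩ := hx
      exact ⟨⟨a', ha'⟩ * ⟨y, hy⟩ * ⟨a', ha'⟩⁻¹, hN.conj_mem _ hyN _, rfl⟩
    have := D.mul_mem (D.mul_mem hd' (hND hx')) (D.inv_mem hd')
    simpa [mul_assoc] using this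
  set M := Subgroup.normalClosure (N' : Set G) with hM
  have hMD : M ≤ D := by
    rw [hM, Subgroup.normalClosure, Subgroup.closure_le]
    intro y hy
    obtain ⟨x, hx, hxy⟩ := Group.mem_conjugatesOfSet_iff.mp hy
    obtain ⟨u, rfl⟩ := isConj_iff.mp hxy
    exact hconj u x hx
  haveI : M.Normal := Subgroup.normalClosure_normal
  haveI := hD
  have hMs : Group.IsSolvable M :=
    solvable_of_solvable_injective (f := Subgroup.inclusion hMD) (Subgroup.inclusion_injective hMD)
  have hMne : M ≠ ⊥ := fun h => by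
    have h1 : N' ≤ M := Subgroup.subset_normalClosure
    rw [h, le_bot_iff, Subgroup.map_eq_bot_iff_of_injective _ A.subtype_injective] at h1
    exact hNne h1
  have hlt : Nat.card (G ⧸ M) < Nat.card G := by
    rw [Subgroup.card_eq_card_quotient_mul_card_subgroup M]
    exact lt_mul_of_one_lt_right Nat.card_pos (M.one_lt_card_iff_ne_bot.mpr hMne)
  set f := QuotientGroup.mk' M
  have hf : Function.Surjective f := QuotientGroup.mk'_surjective M
  have himg : ∀ K : Subgroup G, Group.IsSolvable K → Group.IsSolvable (K.map f) := fun K hK =>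
    haveI := hK; solvable_of_surjective (f := f.subgroupMap K) (f.subgroupMap_surjective K)
  have hcp : ∀ K L : Subgroup G, K.index.Coprime L.index → (K.map f).index.Coprime (L.map f).index :=
    fun K L h => (h.coprime_dvd_left (Subgroup.index_map_dvd K hf)).coprime_dvd_right (Subgroup.index_map_dvd L hf)
  haveI := IH _ hlt (G ⧸ M) rfl _ _ _ (himg A hA) (himg B hB) (himg C hC) (hcp _ _ hAB) (hcp _ _ hAC) (hcp _ _ hBC)
  haveI := hMs
  exact solvable_of_ker_le_range M.subtype f (by rw [QuotientGroup.ker_mk', Subgroup.range_subtype])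

theorem solv_aux {G : Type u} [Group G] [Finite G]
    (h : ∀ H : Subgroup G, H ≠ ⊥ → ∀ p : ℕ, p.Prime → p ∣ Nat.card H →
      ∃ K : Subgroup H, K ≠ ⊤ ∧ ∃ k : ℕ, K.index = p ^ k) (n : ℕ) :
    ∀ H : Subgroup G, Nat.card H = n → Group.IsSolvable H := by
  induction n using Nat.strong_induction_on with
  | _ n IH =>
  intro H hn
  subst hn
  have hprop : ∀ p : ℕ, p ∈ (Nat.card H).primeFactors →
      ∃ K : Subgroup H, Group.IsSolvable K ∧ ∃ k : ℕ, K.index = p ^ k := by
    intro p hp
    obtain ⟨hpp, hpd, -⟩ := Nat.mem_primeFactors.mp hp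
    have hne : H ≠ ⊥ := fun e => by
      rw [e, Subgroup.card_bot, Nat.dvd_one] at hpd
      exact hpp.ne_one hpd
    obtain ⟨K, hK, k, hk⟩ := h H hne p hpp hpd
    refine ⟨K, ?_, k, hk⟩
    have hlt : Nat.card (K.map H.subtype) < Nat.card H := by
      rw [Subgroup.card_map_of_injective H.subtype_injective]
      exact lt_of_le_of_ne K.card_le_card_group (fun e => hK (Subgroup.eq_top_of_card_eq K e))
    haveI := IH _ hlt (K.map H.subtype) rfl
    exact solvable_of_surjective (f := (K.equivMapOfInjective H.subtype H.subtype_injective).symm.toMonoidHom)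
      (MulEquiv.surjective _)
  by_cases hc : 2 < (Nat.card H).primeFactors.card
  · obtain ⟨p, q, r, hp, hq, hr, hpq, hpr, hqr⟩ := Finset.two_lt_card_iff.mp hc
    obtain ⟨A, hA, a, ha⟩ := hprop p hp
    obtain ⟨B, hB, b, hb⟩ := hprop q hq
    obtain ⟨C, hC, c, hc'⟩ := hprop r hr
    have hcp : ∀ {x y i j : ℕ}, x ∈ (Nat.card H).primeFactors → y ∈ (Nat.card H).primeFactors → x ≠ y →
        (x ^ i).Coprime (y ^ j) := fun hx hy hne =>
      Nat.Coprime.pow _ _ ((Nat.coprime_primes (Nat.mem_primeFactors.mp hx).1 (Nat.mem_primeFactors.mp hy).1).mpr hne)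
    exact wielandt _ H rfl A B C hA hB hC (ha ▸ hb ▸ hcp hp hq hpq) (ha ▸ hc' ▸ hcp hp hr hpr)
      (hb ▸ hc' ▸ hcp hq hr hqr)
  · -- at most two primes
    have hexp : ∃ p q a b : ℕ, p.Prime ∧ q.Prime ∧ Nat.card H = p ^ a * q ^ b := by
      have hprod := (Nat.factorization_prod_pow_eq_self (Nat.card_pos (α := H)).ne').symm
      rw [Finsupp.prod, Nat.support_factorization] at hprod
      rcases (show (Nat.card H).primeFactors.card = 0 ∨ (Nat.card H).primeFactors.card = 1 ∨
          (Nat.card H).primeFactors.card = 2 by omega) with e | e | e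
      · rw [Finset.card_eq_zero] at e
        exact ⟨2, 3, 0, 0, Nat.prime_two, Nat.prime_three, by rw [hprod, e]; simp⟩
      · obtain ⟨p, hp⟩ := Finset.card_eq_one.mp e
        have hpp := Nat.prime_of_mem_primeFactors (hp.symm ▸ Finset.mem_singleton_self p : p ∈ (Nat.card H).primeFactors)
        refine ⟨p, p, (Nat.card H).factorization p, 0, hpp, hpp, ?_⟩
        conv_lhs => rw [hprod, hp, Finset.prod_singleton]
        simp
      · obtain ⟨p, q, hne, hpq⟩ := Finset.card_eq_two.mp e
        refine ⟨p, q, (Nat.card H).factorization p, (Nat.card H).factorization q,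
          Nat.prime_of_mem_primeFactors (hpq.symm ▸ by simp : p ∈ (Nat.card H).primeFactors),
          Nat.prime_of_mem_primeFactors (hpq.symm ▸ by simp : q ∈ (Nat.card H).primeFactors), ?_⟩
        conv_lhs => rw [hprod, hpq, Finset.prod_pair hne]
    obtain ⟨p, q, a, b, hp, hq, e⟩ := hexp
    exact Cfsg.Agent.S0144.result p q a b hp hq e

/-- Suppose that for every nontrivial subgroup H of a finite group and every prime p dividing the order of H there is a proper subgroup of H whose index in H is a power of p. Then the group is solvable. -/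
theorem result {G : Type*} [Group G] [Finite G] (h : ∀ H : Subgroup G, H ≠ ⊥ → ∀ p : ℕ, p.Prime → p ∣ Nat.card H → ∃ K : Subgroup H, K ≠ ⊤ ∧ ∃ k : ℕ, K.index = p ^ k) : Group.IsSolvable G := by
  haveI := solv_aux h _ (⊤ : Subgroup G) rfl
  exact solvable_of_surjective (f := (Subgroup.topEquiv (G := G)).toMonoidHom) (MulEquiv.surjective _)

end Cfsg.Agent.S0535
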