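import Cfsg.Statements.S0536
import Cfsg.Agent.Lib.Schmidt.Solvable

set_option autoImplicit false
set_option linter.style.haveILetI false
open Cfsg

namespace Cfsg.Agent.S0536

universe u

/-- The structure theorem of Schmidt. -/
theorem structure_aux {G : Type u} [Group G] [Finite G] (hG : Cfsg.IsMinimalNonNilpotent G) :
    ∃ p q : ℕ, p.Prime ∧ q.Prime ∧ p ≠ q ∧ ∃ (P : Sylow p G) (Q : Sylow q G), IsCyclic P ∧
      (Q : Subgroup G).Normal ∧ (P : Subgroup G) ⊔ Q = ⊤ ∧
      ¬ (P : Subgroup G) ≤ Subgroup.centralizer ((Q : Subgroup G) : Set G) := by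
  classical
  obtain ⟨hnn, hsub⟩ := hG
  rcases subsingleton_or_nontrivial G with hs | hs
  · exact absurd Group.isNilpotent_of_subsingleton hnn
  have hsol : Group.IsSolvable G := CfsgLib.Schmidt.isSolvable fun M hM => hsub M hM.1
  -- commuting across two primes in proper subgroups
  have hcomm : ∀ (r s : ℕ) [Fact r.Prime] [Fact s.Prime], r ≠ s → ∀ (X Y : Subgroup G),
      IsPGroup r X → IsPGroup s Y → X ⊔ Y ≠ ⊤ → X ≤ Subgroup.centralizer (Y : Set G) := by
    intro r s _ _ hrs X Y hX hY hne x hx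
    rw [Subgroup.mem_centralizer_iff]
    intro y hy
    haveI := hsub _ hne
    set Z : Subgroup G := X ⊔ Y
    have hnil := ((Group.isNilpotent_of_finite_tfae (G := Z)).out 0 3 : Group.IsNilpotent Z ↔
        ∀ (p : ℕ) (_hp : Fact p.Prime) (P : Sylow p Z), (P : Subgroup Z).Normal).mp inferInstance
    obtain ⟨R, hR⟩ := (hX.of_equiv (Subgroup.subgroupOfEquivOfLe (le_sup_left : X ≤ Z)).symm).exists_le_sylow
    obtain ⟨S, hS⟩ := (hY.of_equiv (Subgroup.subgroupOfEquivOfLe (le_sup_right : Y ≤ Z)).symm).exists_le_sylow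
    have h1 := Subgroup.commute_of_normal_of_disjoint (R : Subgroup Z) S (hnil r inferInstance R)
      (hnil s inferInstance S) (IsPGroup.disjoint_of_ne r s hrs _ _ R.2 S.2)
      ⟨x, Subgroup.mem_sup_left hx⟩ ⟨y, Subgroup.mem_sup_right hy⟩ (hR hx) (hS hy)
    exact (congrArg Subtype.val h1.eq).symm
  -- a normal maximal subgroup
  obtain ⟨M, hM, hcM⟩ := (IsCoatomic.eq_top_or_exists_le_coatom (commutator G)).resolve_left
    (Group.IsSolvable.commutator_lt_top_of_nontrivial G).ne
  haveI : M.Normal := ⟨fun m hm g => by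
    rw [show g * m * g⁻¹ = (g * m * g⁻¹ * m⁻¹) * m by group]
    exact M.mul_mem (hcM (Subgroup.commutator_mem_commutator (Subgroup.mem_top g) (Subgroup.mem_top m))) hm⟩
  haveI := hsub M hM.1
  obtain ⟨p, hp, hpd⟩ := Nat.exists_prime_and_dvd (fun e => hM.1 (Subgroup.index_eq_one.mp e) : M.index ≠ 1)
  haveI : Fact p.Prime := ⟨hp⟩
  -- the Sylow subgroups for other primes are normal
  have hnormal : ∀ (r : ℕ) [Fact r.Prime], ¬ r ∣ M.index → ∀ R : Sylow r G, (R : Subgroup G).Normal := by
    intro r _ hr R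
    have hRM : (R : Subgroup G) ≤ M := by
      intro x hx
      obtain ⟨j, hj⟩ := R.2 ⟨x, hx⟩
      have h2 : (x : G ⧸ M) ^ r ^ j = 1 := by
        have h3 : x ^ r ^ j = 1 := congrArg Subtype.val hj
        rw [← QuotientGroup.mk_pow, h3, QuotientGroup.mk_one]
      have h3 : orderOf (x : G ⧸ M) = 1 := Nat.eq_one_of_dvd_coprimes
        (((Fact.out : r.Prime).coprime_iff_not_dvd.mpr hr).pow_left j)
        (orderOf_dvd_of_pow_eq_one h2) (by rw [Subgroup.index]; exact orderOf_dvd_natCard _)
      exact (QuotientGroup.eq_one_iff x).mp (orderOf_eq_one_iff.mp h3)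
    haveI hnM : ((R.subtype hRM : Sylow r M) : Subgroup M).Normal :=
      ((Group.isNilpotent_of_finite_tfae (G := M)).out 0 3 : Group.IsNilpotent M ↔
        ∀ (p : ℕ) (_hp : Fact p.Prime) (P : Sylow p M), (P : Subgroup M).Normal).mp inferInstance r
        inferInstance _
    haveI := Sylow.characteristic_of_normal _ hnM
    have h4 : ((R : Subgroup G).subgroupOf M).map M.subtype = R := Subgroup.map_subgroupOf_eq_of_le hRM
    rw [← h4]
    change (((R.subtype hRM : Sylow r M) : Subgroup M).map M.subtype).Normal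
    infer_instance
  -- `M.index` is a power of `p`
  have hidx : ∀ r : ℕ, r.Prime → r ∣ M.index → r = p := by
    intro r hr hrd
    haveI : Fact r.Prime := ⟨hr⟩
    obtain ⟨x, hx⟩ := exists_prime_orderOf_dvd_card' (G := G ⧸ M) p hpd
    obtain ⟨y, hy⟩ := exists_prime_orderOf_dvd_card' (G := G ⧸ M) r hrd
    have hf := QuotientGroup.mk'_surjective M
    have h1 : (Subgroup.zpowers x).comap (QuotientGroup.mk' M) = ⊤ := by
      refine hM.2 _ (lt_of_le_of_ne ?_ fun e => ?_)
      · conv_lhs => rw [← QuotientGroup.ker_mk' M]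
        exact Subgroup.ker_le_comap _ _
      · obtain ⟨z, rfl⟩ := hf x
        have hz : z ∈ M := by rw [e]; exact Subgroup.mem_zpowers _
        rw [show QuotientGroup.mk' M z = 1 from (QuotientGroup.eq_one_iff z).mpr hz, orderOf_one] at hx
        exact hp.ne_one hx.symm
    have h2 : Subgroup.zpowers x = ⊤ := by
      rw [← Subgroup.map_comap_eq_self_of_surjective hf (Subgroup.zpowers x), h1,
        Subgroup.map_top_of_surjective _ hf]
    have h3 := Subgroup.orderOf_dvd_natCard (Subgroup.zpowers x) (show y ∈ Subgroup.zpowers x by rw [h2]; trivial)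
    rw [hy, Nat.card_zpowers, hx] at h3
    exact (Nat.prime_dvd_prime_iff_eq hr hp).mp h3
  obtain ⟨P⟩ := (inferInstance : Nonempty (Sylow p G))
  -- some other Sylow subgroup is not centralized by `P`
  obtain ⟨q, hq, hqp, Q, hPQ⟩ : ∃ q : ℕ, q.Prime ∧ q ≠ p ∧ ∃ Q : Sylow q G,
      ¬ (P : Subgroup G) ≤ Subgroup.centralizer ((Q : Subgroup G) : Set G) := by
    by_contra hc
    push Not at hc
    apply hnn
    refine ((Group.isNilpotent_of_finite_tfae (G := G)).out 0 3 : Group.IsNilpotent G ↔
        ∀ (p : ℕ) (_hp : Fact p.Prime) (P : Sylow p G), (P : Subgroup G).Normal).mpr fun r hr R => ?_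
    haveI := hr
    by_cases hrp : r = p
    · subst hrp
      rw [← Subgroup.normalizer_eq_top_iff, ← Subgroup.index_eq_one]
      by_contra hne
      obtain ⟨s, hs', hsd⟩ := Nat.exists_prime_and_dvd hne
      haveI : Fact s.Prime := ⟨hs'⟩
      obtain ⟨g, hg⟩ := MulAction.exists_smul_eq G R P
      have hsd' : s ∣ (Subgroup.normalizer ((P : Subgroup G) : Set G)).index := by
        rw [show (Subgroup.normalizer ((P : Subgroup G) : Set G)).index = Nat.card (Sylow r G) from
          (Sylow.card_eq_index_normalizer P).symm, Sylow.card_eq_index_normalizer R]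
        exact hsd
      obtain ⟨S⟩ := (inferInstance : Nonempty (Sylow s G))
      by_cases hsr : s = r
      · subst hsr
        exact P.not_dvd_index (hsd'.trans (Subgroup.index_dvd_of_le Subgroup.le_normalizer))
      · refine S.not_dvd_index (hsd'.trans (Subgroup.index_dvd_of_le ?_))
        refine le_trans ?_ (Subgroup.centralizer_le_normalizer _)
        intro x hx
        rw [Subgroup.mem_centralizer_iff]
        intro y hy
        exact (Subgroup.mem_centralizer_iff.mp (hc s hs' hsr S hy) x hx).symm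
    · exact hnormal r (fun hd => hrp (hidx r hr.out hd)) R
  haveI : Fact q.Prime := ⟨hq⟩
  haveI hQn : (Q : Subgroup G).Normal := hnormal q (fun hd => hqp (hidx q hq hd)) Q
  have htop : (P : Subgroup G) ⊔ Q = ⊤ := by
    by_contra hne
    exact hPQ (hcomm p q hqp.symm _ _ P.2 Q.2 hne)
  refine ⟨p, q, hp, hq, hqp.symm, P, Q, ?_, hQn, htop, hPQ⟩
  by_contra hcyc
  apply hPQ
  intro x hx
  have hne : Subgroup.zpowers x ⊔ Q ≠ ⊤ := by
    intro he
    apply hcyc
    set f := (QuotientGroup.mk' (Q : Subgroup G)).comp (P : Subgroup G).subtype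
    have hinj : Function.Injective f := by
      rw [injective_iff_map_eq_one]
      intro y hy
      have h1 : (y : G) ∈ (Q : Subgroup G) := (QuotientGroup.eq_one_iff (y : G)).mp hy
      obtain ⟨i, hi⟩ := P.2 y
      obtain ⟨j, hj⟩ := Q.2 ⟨y, h1⟩
      have : orderOf (y : G) = 1 := Nat.eq_one_of_dvd_coprimes
        (Nat.coprime_pow_primes i j hp hq hqp.symm)
        (orderOf_dvd_of_pow_eq_one (congrArg Subtype.val hi))
        (orderOf_dvd_of_pow_eq_one (congrArg Subtype.val hj))
      exact Subtype.ext (orderOf_eq_one_iff.mp this)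
    have htop' : ∀ z : G ⧸ (Q : Subgroup G), z ∈ Subgroup.zpowers (x : G ⧸ (Q : Subgroup G)) := by
      intro z
      obtain ⟨w, rfl⟩ := QuotientGroup.mk'_surjective (Q : Subgroup G) z
      obtain ⟨a, ha, b, hb, rfl⟩ := Subgroup.mem_sup_of_normal_right.mp
        (show w ∈ Subgroup.zpowers x ⊔ Q by rw [he]; trivial)
      obtain ⟨i, rfl⟩ := Subgroup.mem_zpowers_iff.mp ha
      refine Subgroup.mem_zpowers_iff.mpr ⟨i, ?_⟩
      rw [map_mul, map_zpow, show QuotientGroup.mk' (Q : Subgroup G) b = 1 from (QuotientGroup.eq_one_iff b).mpr hb, mul_one]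
      rfl
    haveI : IsCyclic (G ⧸ (Q : Subgroup G)) := ⟨⟨_, htop'⟩⟩
    exact isCyclic_of_injective f hinj
  exact hcomm p q hqp.symm _ _ (P.2.to_le (Subgroup.zpowers_le.mpr hx)) Q.2 hne (Subgroup.mem_zpowers x)

/-- Structure of minimal non-nilpotent groups: if a finite group is not nilpotent but all its proper subgroups are, then there are distinct primes p and q, a cyclic Sylow p-subgroup P and a normal Sylow q-subgroup Q with G generated by P and Q. -/
theorem result {G : Type*} [Group G] [Finite G] (hG : Cfsg.IsMinimalNonNilpotent G) : ∃ p q : ℕ, p.Prime ∧ q.Prime ∧ p ≠ q ∧ ∃ (P : Sylow p G) (Q : Sylow q G), IsCyclic P ∧ (Q : Subgroup G).Normal ∧ (P : Subgroup G) ⊔ Q = ⊤ := by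
  obtain ⟨p, q, hp, hq, hpq, P, Q, h1, h2, h3, -⟩ := structure_aux hG
  exact ⟨p, q, hp, hq, hpq, P, Q, h1, h2, h3⟩

end Cfsg.Agent.S0536
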