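import Cfsg.Statements.S0537
import Cfsg.Agent.S0536

set_option autoImplicit false
set_option linter.style.haveILetI false
open Cfsg

namespace Cfsg.Agent.S0537

universe u

theorem main {G : Type u} [Group G] [Finite G] (hna : ¬ IsMulCommutative G)
    (h : ∀ H : Subgroup G, H ≠ ⊤ → IsMulCommutative H) :
    (∃ p : ℕ, p.Prime ∧ IsPGroup p G) ∨ ∃ p q : ℕ, p.Prime ∧ q.Prime ∧ p ≠ q ∧
      ∃ (P : Sylow p G) (Q : Sylow q G), IsCyclic P ∧ (Q : Subgroup G).Normal ∧
        Cfsg.IsElementaryAbelian q (Q : Subgroup G) ∧ (P : Subgroup G) ⊔ Q = ⊤ := by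
  classical
  by_cases hp : ∃ p : ℕ, p.Prime ∧ IsPGroup p G
  · exact Or.inl hp
  refine Or.inr ?_
  have hnil : ¬ Group.IsNilpotent G := by
    intro hn
    apply hna
    obtain ⟨e⟩ := ((Group.isNilpotent_of_finite_tfae (G := G)).out 0 4 : Group.IsNilpotent G ↔
      Nonempty ((∀ p : (Nat.card G).primeFactors, ∀ P : Sylow p G, P) ≃* G)).mp hn
    refine ⟨⟨fun a b => e.symm.injective ?_⟩⟩
    rw [map_mul, map_mul]
    funext r R
    haveI : IsMulCommutative (R : Subgroup G) := h _ fun hR => hp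
      ⟨r, Nat.prime_of_mem_primeFactors r.2, R.2.of_equiv ((MulEquiv.subgroupCongr hR).trans Subgroup.topEquiv)⟩
    exact mul_comm' _ _
  have hmin : Cfsg.IsMinimalNonNilpotent G := ⟨hnil, fun H hH => by
    haveI := h H hH
    letI : CommGroup H := { (inferInstance : Group H) with mul_comm := fun a b => mul_comm' a b }
    exact CommGroup.isNilpotent⟩
  obtain ⟨p, q, hp', hq', hpq, P, Q, hcyc, hQn, htop, hnc⟩ := Cfsg.Agent.S0536.structure_aux hmin
  haveI : Fact p.Prime := ⟨hp'⟩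
  haveI : Fact q.Prime := ⟨hq'⟩
  haveI := hQn
  have hQne : (Q : Subgroup G) ≠ ⊤ := fun e => hp
    ⟨q, hq', Q.2.of_equiv ((MulEquiv.subgroupCongr e).trans Subgroup.topEquiv)⟩
  haveI hQc := h _ hQne
  refine ⟨p, q, hp', hq', hpq, P, Q, hcyc, hQn, ⟨hQc, fun x hx => ?_⟩, htop⟩
  have hQcomm : ∀ a ∈ (Q : Subgroup G), ∀ b ∈ (Q : Subgroup G), a * b = b * a := fun a ha b hb =>
    congrArg Subtype.val (hQc.is_comm.comm (⟨a, ha⟩ : (Q : Subgroup G)) ⟨b, hb⟩)
  by_contra hxq
  apply hnc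
  let R : Subgroup G :=
    { carrier := {x | x ∈ (Q : Subgroup G) ∧ x ^ q = 1}
      one_mem' := ⟨one_mem _, one_pow _⟩
      mul_mem' := fun {a b} ha hb => ⟨mul_mem ha.1 hb.1, by
        rw [Commute.mul_pow (hQcomm a ha.1 b hb.1), ha.2, hb.2, mul_one]⟩
      inv_mem' := fun {a} ha => ⟨inv_mem ha.1, by rw [inv_pow, ha.2, inv_one]⟩ }
  haveI hRn : R.Normal := ⟨fun y hy g => ⟨hQn.conj_mem y hy.1 g, by
    rw [conj_pow, hy.2, mul_one, mul_inv_cancel]⟩⟩
  have hne : (P : Subgroup G) ⊔ R ≠ ⊤ := by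
    intro he
    obtain ⟨a, ha, b, hb, hab⟩ := Subgroup.mem_sup_of_normal_right.mp
      (show x ∈ (P : Subgroup G) ⊔ R by rw [he]; trivial)
    have haQ : a ∈ (Q : Subgroup G) := by
      rw [show a = x * b⁻¹ by rw [← hab]; group]
      exact mul_mem hx (inv_mem hb.1)
    obtain ⟨i, hi⟩ := P.2 ⟨a, ha⟩
    obtain ⟨j, hj⟩ := Q.2 ⟨a, haQ⟩
    have ha1 : a = 1 := orderOf_eq_one_iff.mp (Nat.eq_one_of_dvd_coprimes
        (Nat.coprime_pow_primes i j hp' hq' hpq)
        (orderOf_dvd_of_pow_eq_one (congrArg Subtype.val hi))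
        (orderOf_dvd_of_pow_eq_one (congrArg Subtype.val hj)))
    rw [ha1, one_mul] at hab
    exact hxq (hab ▸ hb.2)
  haveI hPR := h _ hne
  intro y hy
  rw [Subgroup.mem_centralizer_iff]
  intro z hz
  have hcomm : ∀ d ∈ R, y * d = d * y := fun d hd => congrArg Subtype.val (hPR.is_comm.comm
    (⟨y, Subgroup.mem_sup_left hy⟩ : ((P : Subgroup G) ⊔ R : Subgroup G)) ⟨d, Subgroup.mem_sup_right hd⟩)
  have key : ∀ (k : ℕ) (z : G), z ∈ (Q : Subgroup G) → z ^ q ^ k = 1 → y * z = z * y := by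
    intro k
    induction k with
    | zero => intro z _ hz1; rw [pow_zero, pow_one] at hz1; simp [hz1]
    | succ k ih =>
      intro z hz hz1
      have h1 : y * z ^ q = z ^ q * y := ih (z ^ q) (pow_mem hz q) (by rw [← pow_mul, ← pow_succ']; exact hz1)
      set d := y * z * y⁻¹ * z⁻¹ with hd
      have hyz : y * z * y⁻¹ ∈ (Q : Subgroup G) := hQn.conj_mem z hz y
      have hdR : d ∈ R := ⟨mul_mem hyz (inv_mem hz), by
        rw [hd, Commute.mul_pow (hQcomm _ hyz _ (inv_mem hz)), conj_pow, h1, inv_pow]; group⟩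
      have hpow : ∀ m : ℕ, y ^ m * z * (y ^ m)⁻¹ = d ^ m * z := by
        intro m
        induction m with
        | zero => simp
        | succ m ihm =>
          have hfix : y * d ^ m * y⁻¹ = d ^ m := by rw [hcomm _ (R.pow_mem hdR m)]; group
          calc y ^ (m + 1) * z * (y ^ (m + 1))⁻¹ = y * (y ^ m * z * (y ^ m)⁻¹) * y⁻¹ := by
                rw [pow_succ']; group
            _ = (y * d ^ m * y⁻¹) * (y * z * y⁻¹) := by rw [ihm]; group
            _ = d ^ m * (d * z) := by rw [hfix, hd, inv_mul_cancel_right]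
            _ = d ^ (m + 1) * z := by rw [pow_succ, ← mul_assoc]
      have hd1 : d ^ orderOf y = 1 := by
        have := hpow (orderOf y)
        rw [pow_orderOf_eq_one, inv_one, one_mul, mul_one] at this
        exact mul_eq_right.mp this.symm
      obtain ⟨i, hi⟩ := P.2 ⟨y, hy⟩
      have : d = 1 := orderOf_eq_one_iff.mp (Nat.eq_one_of_dvd_coprimes
        (Nat.Coprime.coprime_dvd_left (orderOf_dvd_of_pow_eq_one (congrArg Subtype.val hi))
          (Nat.Coprime.pow_left i ((Nat.coprime_primes hp' hq').mpr hpq)))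
        (orderOf_dvd_of_pow_eq_one hd1) (orderOf_dvd_of_pow_eq_one hdR.2))
      rw [hd, mul_inv_eq_one, mul_inv_eq_iff_eq_mul] at this
      exact this
  obtain ⟨k, hk⟩ := Q.2 ⟨z, hz⟩
  exact (key k z hz (congrArg Subtype.val hk)).symm

/-- A finite non-abelian group in which every proper subgroup is abelian is either of prime-power order, or is generated by a cyclic Sylow p-subgroup and a normal Sylow q-subgroup that is elementary abelian, for distinct primes p and q. -/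
theorem result {G : Type*} [Group G] [Finite G] (hna : ¬ IsMulCommutative G) (h : ∀ H : Subgroup G, H ≠ ⊤ → IsMulCommutative H) : (∃ p : ℕ, p.Prime ∧ IsPGroup p G) ∨ ∃ p q : ℕ, p.Prime ∧ q.Prime ∧ p ≠ q ∧ ∃ (P : Sylow p G) (Q : Sylow q G), IsCyclic P ∧ (Q : Subgroup G).Normal ∧ Cfsg.IsElementaryAbelian q (Q : Subgroup G) ∧ (P : Subgroup G) ⊔ Q = ⊤ := by
  exact main hna h

end Cfsg.Agent.S0537
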