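import Cfsg.Statements.S0540
import Cfsg.Agent.S0066

set_option autoImplicit false
open Pointwise
open Cfsg

namespace Cfsg.Agent.S0540

open scoped Pointwise
open Cfsg.Agent.S0066

/-- A subgroup normalizes the join of a family it permutes. -/
theorem le_normalizer_sSup {G : Type*} [Group G] [Finite G] {M : Subgroup G} {D : Set (Subgroup G)}
    (h : ∀ B ∈ D, ∀ m ∈ M, MulAut.conj m • B ∈ D) : M ≤ Subgroup.normalizer ((sSup D : Subgroup G) : Set G) := by
  intro m hm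
  rw [Subgroup.mem_normalizer_iff_map_conj_eq]
  refine Subgroup.eq_of_le_of_card_ge ?_ (le_of_eq (Nat.card_congr
    ((sSup D).equivMapOfInjective _ (MulAut.conj m).injective).toEquiv))
  rw [Subgroup.map_le_iff_le_comap]
  refine sSup_le fun B hB => ?_
  rw [← Subgroup.map_le_iff_le_comap]
  exact le_trans (le_of_eq rfl) (le_sSup (h B hB m hm))


/-- A uniqueness lemma of zipper type. Let A be a subgroup of a finite group G and U a nonempty family of subgroups. For V in U write S(V) for the set of conjugates of A that lie in V and are subnormal in V. Assume: A belongs to S(V) for every V in U; a member of some S(W) that lies in V belongs to S(V); and for all V, W in U the normalizer of the join of S(V) ∩ S(W) lies in some member of U. Then U has a greatest element. -/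
theorem result {G : Type*} [Group G] [Finite G] (A : Subgroup G) (U : Set (Subgroup G)) (hU : U.Nonempty) (S : Subgroup G → Set (Subgroup G)) (hS : ∀ V B : Subgroup G, B ∈ S V ↔ (∃ g : G, B = MulAut.conj g • A) ∧ B ≤ V ∧ (B.subgroupOf V).IsSubnormal) (h1 : ∀ V ∈ U, A ∈ S V) (h2 : ∀ V ∈ U, ∀ W ∈ U, ∀ B ∈ S W, B ≤ V → B ∈ S V) (h3 : ∀ V ∈ U, ∀ W ∈ U, ∃ X ∈ U, Subgroup.normalizer ((sSup (S V ∩ S W) : Subgroup G) : Set G) ≤ X) : ∃ M ∈ U, ∀ V ∈ U, V ≤ M := by
  classical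
  have hmem : ∀ {V B : Subgroup G}, B ∈ S V → B ≤ V := fun {V B} h => ((hS V B).mp h).2.1
  have hconj : ∀ V : Subgroup G, ∀ B ∈ S V, ∀ g ∈ V, MulAut.conj g • B ∈ S V := by
    intro V B hB g hg
    obtain ⟨⟨a, rfl⟩, hle, hsn⟩ := (hS V B).mp hB
    refine (hS V _).mpr ⟨⟨g * a, (conj_smul_mul A g a).symm⟩, fun x hx => ?_, ?_⟩
    · rw [mem_conj_smul] at hx
      have := V.mul_mem (V.mul_mem hg (hle hx)) (V.inv_mem hg)
      simpa [mul_assoc] using this
    · have e : (MulAut.conj g • MulAut.conj a • A).subgroupOf V =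
          ((MulAut.conj a • A).subgroupOf V).comap (MulAut.conj (⟨g, hg⟩ : V)⁻¹).toMonoidHom := by
        ext x
        rw [Subgroup.mem_subgroupOf, mem_conj_smul]
        simp [Subgroup.mem_subgroupOf, mul_assoc]
      rw [e]
      exact hsn.comap _
  have hsn : ∀ V : Subgroup G, ∀ B ∈ S V, (B.subgroupOf V).IsSubnormal := fun V B hB => ((hS V B).mp hB).2.2
  obtain ⟨M, hM, hMmax⟩ := Set.Finite.exists_maximal (Set.toFinite U) hU
  refine ⟨M, hM, fun V hV => ?_⟩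
  by_contra hVM
  have habove : ∀ V ∈ U, ∃ W, W ∈ U ∧ V ≤ W ∧ ∀ X ∈ U, W ≤ X → X ≤ W := by
    intro V hV
    obtain ⟨W, hW, hmax⟩ := Set.Finite.exists_maximal (Set.toFinite {X | X ∈ U ∧ V ≤ X}) ⟨V, hV, le_rfl⟩
    exact ⟨W, hW.1, hW.2, fun X hX hWX => hmax ⟨hX, hW.2.trans hWX⟩ hWX⟩
  obtain ⟨N0, hN0, hVN0, hN0max⟩ := habove V hV
  let P : Set (Subgroup G × Subgroup G) :=
    {q | q.1 ∈ U ∧ q.2 ∈ U ∧ (∀ X ∈ U, q.1 ≤ X → X ≤ q.1) ∧ (∀ X ∈ U, q.2 ≤ X → X ≤ q.2) ∧ q.1 ≠ q.2}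
  have hP : P.Nonempty := ⟨(M, N0), hM, hN0, fun X hX h => hMmax hX h, hN0max, fun e => hVM (hVN0.trans (le_of_eq e.symm))⟩
  obtain ⟨⟨M, N⟩, ⟨hM, hN, hMm, hNm, hne⟩, hmax⟩ :=
    Set.exists_max_image P (fun q => (S q.1 ∩ S q.2).ncard) (Set.toFinite P) hP
  simp only at hmax hM hN hMm hNm hne
  set D := S M ∩ S N with hD
  obtain ⟨R0, hR0U, hR0⟩ := h3 M hM N hN
  obtain ⟨R, hRU, hR0R, hRm⟩ := habove R0 hR0U
  have hRle : Subgroup.normalizer ((sSup D : Subgroup G) : Set G) ≤ R := hR0.trans hR0R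
  have hDR : ∀ B ∈ D, B ∈ S R := fun B hB =>
    h2 R hRU M hM B hB.1 (((le_sSup hB).trans Subgroup.le_normalizer).trans hRle)
  have hgrow : ∀ M N : Subgroup G, M ∈ U → N ∈ U → (∀ X ∈ U, M ≤ X → X ≤ M) → (∀ X ∈ U, N ≤ X → X ≤ N) → M ≠ N →
      S M ∩ S N = D → S M ∩ S N ≠ S M := by
    intro M N hM hN hMm hNm hne hd heq
    have hMR : R = M := le_antisymm (hMm R hRU ((le_normalizer_sSup fun B hB m hm => by
      rw [← hd, heq] at hB ⊢; exact hconj M B hB m hm).trans hRle)) ((le_normalizer_sSup fun B hB m hm => by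
      rw [← hd, heq] at hB ⊢; exact hconj M B hB m hm).trans hRle)
    by_cases heqN : S M ∩ S N = S N
    · have hNR := (le_normalizer_sSup (M := N) (D := D) fun B hB m hm => by
        rw [← hd, heqN] at hB ⊢; exact hconj N B hB m hm).trans hRle
      rw [hMR] at hNR
      exact hne (le_antisymm (hNm M hM hNR) hNR)
    · obtain ⟨Y, hY, hY0, hYn⟩ := exists_normalizing (S N) D (fun U hU => hmem hU) (hsn N) (hconj N)
        (hd ▸ lt_of_le_of_ne Set.inter_subset_right heqN)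
      exact hY0 (hd ▸ ⟨h2 M hM N hN Y hY (hMR ▸ hYn.trans hRle), hY⟩)
  obtain ⟨X, hX, hX0, hXn⟩ := exists_normalizing (S M) D (fun U hU => hmem hU) (hsn M) (hconj M)
    (lt_of_le_of_ne Set.inter_subset_left (hgrow M N hM hN hMm hNm hne rfl))
  obtain ⟨Y, hY, hY0, hYn⟩ := exists_normalizing (S N) D (fun U hU => hmem hU) (hsn N) (hconj N)
    (lt_of_le_of_ne Set.inter_subset_right (fun h => hgrow N M hN hM hNm hMm (Ne.symm hne) (Set.inter_comm _ _) (by rw [Set.inter_comm]; exact h)))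
  by_cases hRM : R = M
  · exact hY0 ⟨h2 M hM N hN Y hY (hRM ▸ hYn.trans hRle), hY⟩
  · have h := hmax (M, R) ⟨hM, hRU, hMm, hRm, Ne.symm hRM⟩
    refine absurd h (not_le.mpr (Set.ncard_lt_ncard ?_ (Set.toFinite _)))
    refine (Set.ssubset_iff_of_subset ?_).mpr ⟨X, ⟨hX, h2 R hRU M hM X hX (hXn.trans hRle)⟩, hX0⟩
    exact fun B hB => ⟨hB.1, hDR B hB⟩
end Cfsg.Agent.S0540
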