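import Cfsg.Statements.S0541
import Cfsg.Agent.Lib.Baer.Basic

set_option autoImplicit false
open Pointwise
open Cfsg

namespace Cfsg.Agent.S0541

/-- Let Z and Y be subgroups of a finite group G and p a prime. Suppose that for every g in G the subgroup generated by the conjugates of g Z g⁻¹ under Y is a p-group. Then there is a Sylow p-subgroup P of G such that Y normalizes the subgroup generated by all conjugates of Z contained in P. -/
theorem result {G : Type*} [Group G] [Finite G] (p : ℕ) [Fact p.Prime] (Z Y : Subgroup G) (h : ∀ g : G, IsPGroup p ↥(⨆ y ∈ Y, MulAut.conj (y * g) • Z)) : ∃ P : Sylow p G, Y ≤ Subgroup.normalizer ((⨆ g ∈ {g : G | MulAut.conj g • Z ≤ (P : Subgroup G)}, MulAut.conj g • Z : Subgroup G) : Set G) := by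
  classical
  let D : Set (Subgroup G) := Set.range fun g : G => MulAut.conj g • Z
  have hDc : ∀ g : G, ∀ s ∈ D, MulAut.conj g • s ∈ D := by
    rintro g _ ⟨k, rfl⟩
    exact ⟨g * k, by simp only [map_mul, mul_smul]⟩
  let F : Set (Set (Subgroup G)) := {E | E ⊆ D ∧ (∀ y ∈ Y, ∀ s ∈ E, MulAut.conj y • s ∈ E) ∧ IsPGroup p ↥(sSup E)}
  have hF : F.Nonempty := ⟨∅, Set.empty_subset _, fun y _ s hs => absurd hs (Set.notMem_empty s), by rw [sSup_empty]; exact IsPGroup.of_bot⟩
  obtain ⟨E, hEF, hmax⟩ := Set.exists_max_image F Set.ncard (Set.toFinite _) hF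
  obtain ⟨hED, hEY, hEp⟩ := hEF
  set R := sSup E with hR
  have hYR : Y ≤ Subgroup.normalizer (R : Set G) := CfsgLib.Baer.le_normalizer_sSup_of_forall hEY
  have hclosed : ∀ s ∈ D, s ≤ R → s ∈ E := by
    intro s hs hsR
    by_contra hsE
    have hmem : {s ∈ D | s ≤ R} ∈ F := by
      refine ⟨fun s hs => hs.1, fun y hy s hs => ⟨hDc y s hs.1, ?_⟩, hEp.to_le (sSup_le fun s hs => hs.2)⟩
      rw [CfsgLib.Baer.conj_smul_def, Subgroup.map_le_iff_le_comap]
      exact fun z hz => (Subgroup.mem_normalizer_iff.mp (hYR hy) z).mp (hs.2 hz)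
    refine absurd (hmax _ hmem) (not_le.mpr (Set.ncard_lt_ncard ⟨fun t ht => ⟨hED ht, le_sSup ht⟩, ?_⟩ (Set.toFinite _)))
    exact fun h' => hsE (h' ⟨hs, hsR⟩)
  obtain ⟨P, hP⟩ := hEp.exists_le_sylow
  refine ⟨P, ?_⟩
  have hDP : {s ∈ D | s ≤ (P : Subgroup G)} = E := by
    by_contra hne
    set DP := {s ∈ D | s ≤ (P : Subgroup G)}
    have hle : sSup DP ≤ (P : Subgroup G) := sSup_le fun s hs => hs.2
    obtain ⟨x, hx, hxE, hxn⟩ := CfsgLib.Baer.exists_normalizing (p := p) _ (sSup DP) rfl (P.2.to_le hle) DP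
      (fun g hg s hs => ⟨hDc g s hs.1, by
        calc MulAut.conj g • s ≤ MulAut.conj g • (P : Subgroup G) :=
              Subgroup.pointwise_smul_le_pointwise_smul_iff.mpr hs.2
          _ = (P : Subgroup G) := Subgroup.conj_smul_eq_self_of_mem (hle hg)⟩) rfl E
      (fun s hs => ⟨hED hs, (le_sSup hs).trans hP⟩) (Ne.symm hne) fun s hs hsR => hclosed s hs.1 hsR
    obtain ⟨g, rfl⟩ := hx.1
    let O : Set (Subgroup G) := (fun y => MulAut.conj (y * g) • Z) '' (Y : Set G)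
    have hOp : IsPGroup p ↥(sSup O) := by
      refine (h g).to_le (sSup_le ?_)
      rintro _ ⟨y, hy, rfl⟩
      exact le_iSup₂ (f := fun y (_ : y ∈ Y) => MulAut.conj (y * g) • Z) y hy
    have hOn : sSup O ≤ Subgroup.normalizer (R : Set G) := by
      refine sSup_le ?_
      rintro _ ⟨y, hy, rfl⟩ _ ⟨z, hz, rfl⟩
      have h1 : MulAut.conj g z ∈ Subgroup.normalizer (R : Set G) := hxn ⟨z, hz, rfl⟩
      have h2 : y * MulAut.conj g z * y⁻¹ ∈ Subgroup.normalizer (R : Set G) :=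
        mul_mem (mul_mem (hYR hy) h1) (inv_mem (hYR hy))
      simpa [mul_assoc] using h2
    have hmem : E ∪ O ∈ F := by
      refine ⟨Set.union_subset hED ?_, ?_, ?_⟩
      · rintro _ ⟨y, hy, rfl⟩
        exact ⟨y * g, rfl⟩
      · rintro y hy s (hs | ⟨z, hz, rfl⟩)
        · exact Or.inl (hEY y hy s hs)
        · exact Or.inr ⟨y * z, mul_mem hy hz, by simp only [map_mul, mul_smul]⟩
      · rw [sSup_union]
        exact hEp.to_sup_of_normal_left' hOp hOn
    refine absurd (hmax _ hmem) (not_le.mpr (Set.ncard_lt_ncard ⟨Set.subset_union_left, ?_⟩ (Set.toFinite _)))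
    exact fun h' => hxE (h' (Or.inr ⟨1, one_mem Y, by simp⟩))
  have heq : (⨆ g ∈ {g : G | MulAut.conj g • Z ≤ (P : Subgroup G)}, MulAut.conj g • Z : Subgroup G) = R := by
    rw [hR, ← hDP]
    refine le_antisymm (iSup₂_le fun g hg => le_sSup ⟨⟨g, rfl⟩, hg⟩) (sSup_le ?_)
    rintro _ ⟨⟨g, rfl⟩, hg⟩
    exact le_iSup₂ (f := fun g (_ : g ∈ {g : G | MulAut.conj g • Z ≤ (P : Subgroup G)}) => MulAut.conj g • Z) g hg
  rw [heq]
  exact hYR
end Cfsg.Agent.S0541
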