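import Cfsg.Statements.S0546
import Mathlib
import Cfsg.Agent.Lib.Hall.System

set_option autoImplicit false
open Cfsg

namespace Cfsg.Agent.S0546

/-- The normal closure of a system normalizer of a finite solvable group is the whole group. -/
theorem result {G : Type*} [Group G] [Finite G] [Group.IsSolvable G] (K : Nat.Primes → Subgroup G) (hK : Cfsg.IsComplementSystem K) : Subgroup.normalClosure ((Cfsg.systemNormalizer K : Subgroup G) : Set G) = ⊤ := by
  classical
  by_contra hne
  set R := Subgroup.normalClosure ((Cfsg.systemNormalizer K : Subgroup G) : Set G)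
  haveI : R.Normal := Subgroup.normalClosure_normal
  set f := QuotientGroup.mk' R
  have hsurj : Function.Surjective f := QuotientGroup.mk'_surjective R
  haveI : Group.IsSolvable (G ⧸ R) := Group.isSolvable_of_surjective hsurj
  haveI : Nontrivial (G ⧸ R) := QuotientGroup.nontrivial_iff.mpr hne
  set M : Subgroup G := (commutator (G ⧸ R)).comap f
  have hRM : R ≤ M := by
    intro x hx
    rw [Subgroup.mem_comap, QuotientGroup.mk'_apply, (QuotientGroup.eq_one_iff x).mpr hx]
    exact one_mem _
  have hM : M ≠ ⊤ := by
    intro h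
    refine (Group.IsSolvable.commutator_lt_top_of_nontrivial (G := G ⧸ R)).ne ?_
    rw [← Subgroup.map_comap_eq_self_of_surjective hsurj (commutator (G ⧸ R))]
    change M.map f = ⊤
    rw [h, Subgroup.map_top_of_surjective f hsurj]
  have hcomm : ∀ x y : G, x * y * x⁻¹ * y⁻¹ ∈ M := by
    intro x y
    change f (x * y * x⁻¹ * y⁻¹) ∈ commutator (G ⧸ R)
    rw [commutator_def]
    simpa [commutatorElement_def] using
      Subgroup.commutator_mem_commutator (Subgroup.mem_top (f x)) (Subgroup.mem_top (f y))
  have hDM : Cfsg.systemNormalizer K ≤ M := fun x hx => hRM (Subgroup.subset_normalClosure hx)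
  haveI : M.Normal := inferInstance
  have h1 := CfsgLib.Hall.map_systemNormalizer hK M
  have h2 : (Cfsg.systemNormalizer K).map (QuotientGroup.mk' M) = ⊥ := by
    rw [Subgroup.map_eq_bot_iff, QuotientGroup.ker_mk']
    exact hDM
  have h3 : Cfsg.systemNormalizer (fun p => (K p).map (QuotientGroup.mk' M)) = ⊤ := by
    rw [eq_top_iff]
    intro y _
    obtain ⟨y, rfl⟩ := QuotientGroup.mk'_surjective M y
    simp only [Cfsg.systemNormalizer, Subgroup.mem_iInf]
    intro p
    refine Subgroup.mem_normalizer_fintype ?_
    rintro _ ⟨x, hx, rfl⟩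
    refine ⟨x, hx, ?_⟩
    rw [← map_inv, ← map_mul, ← map_mul, QuotientGroup.mk'_apply, QuotientGroup.mk'_apply,
      QuotientGroup.eq]
    simpa [mul_assoc] using hcomm x⁻¹ y
  rw [h3, h2] at h1
  haveI : Nontrivial (G ⧸ M) := QuotientGroup.nontrivial_iff.mpr hM
  exact top_ne_bot h1

end Cfsg.Agent.S0546
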