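import Cfsg.Statements.S0547
import Mathlib
import Cfsg.Agent.S0043

set_option autoImplicit false
set_option linter.style.haveILetI false
open Cfsg

namespace Cfsg.Agent.S0547

theorem regular {G : Type*} [Group G] [Finite G] [Group.IsSolvable G] {Ω : Type*} [MulAction G Ω]
    [FaithfulSMul G Ω] (hprim : MulAction.IsPreprimitive G Ω) (M : Subgroup G) [M.Normal] (hM : M ≠ ⊥)
    (hmin : ∀ K : Subgroup G, K.Normal → K ≤ M → K = ⊥ ∨ K = M) :
    IsMulCommutative M ∧ MulAction.IsPretransitive M Ω ∧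
      ∀ ω : Ω, ∀ m ∈ M, m • ω = ω → m = 1 := by
  have hc : IsMulCommutative M := (Cfsg.Agent.S0043.result M hM hmin).1
  haveI := hprim
  have htr : MulAction.IsPretransitive M Ω := by
    refine MulAction.IsQuasiPreprimitive.isPretransitive_of_normal (G := G) fun h => hM ?_
    rw [eq_bot_iff]
    intro m hm
    rw [Subgroup.mem_bot]
    refine eq_of_smul_eq_smul fun ω : Ω => ?_
    rw [one_smul]
    have : ω ∈ MulAction.fixedPoints M Ω := h ▸ Set.mem_univ ω
    exact this ⟨m, hm⟩
  refine ⟨hc, htr, fun ω m hm hω => eq_of_smul_eq_smul fun x : Ω => ?_⟩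
  rw [one_smul]
  obtain ⟨u, rfl⟩ := htr.exists_smul_eq ω x
  have hmu : m * (u : G) = (u : G) * m :=
    congrArg Subtype.val (mul_comm' (⟨m, hm⟩ : M) u)
  show m • (u : G) • ω = (u : G) • ω
  rw [← mul_smul, hmu, mul_smul, hω]

/-- Let a finite solvable group G act faithfully and primitively on a set, and let M be a minimal normal subgroup of G. Then M is transitive with trivial point stabilizers, and the number of points equals the order of M, which is a prime power p ^ d with d ≥ 1. -/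
theorem result {G : Type*} [Group G] [Finite G] [Group.IsSolvable G] {Ω : Type*} [Nonempty Ω] [MulAction G Ω] [FaithfulSMul G Ω] (hprim : MulAction.IsPreprimitive G Ω) (M : Subgroup G) [M.Normal] (hM : M ≠ ⊥) (hmin : ∀ K : Subgroup G, K.Normal → K ≤ M → K = ⊥ ∨ K = M) : MulAction.IsPretransitive M Ω ∧ (∀ ω : Ω, MulAction.stabilizer M ω = ⊥) ∧ ∃ p d : ℕ, p.Prime ∧ 0 < d ∧ Nat.card Ω = p ^ d ∧ Nat.card M = p ^ d := by
  obtain ⟨hc, htr, hreg⟩ := regular hprim M hM hmin
  refine ⟨htr, fun ω => ?_, ?_⟩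
  · rw [eq_bot_iff]
    intro m hm
    exact Subtype.ext (hreg ω m m.2 hm)
  obtain ⟨-, p, hp, hexp⟩ := Cfsg.Agent.S0043.result M hM hmin
  haveI := Fact.mk hp
  obtain ⟨d, hd⟩ := IsPGroup.iff_card.mp (show IsPGroup p M from fun x => ⟨1, Subtype.ext (by
    rw [pow_one]; exact hexp _ x.2)⟩)
  obtain ⟨ω⟩ := (inferInstance : Nonempty Ω)
  have hbij : Function.Bijective fun m : M => m • ω := by
    refine ⟨fun a b h => ?_, fun x => htr.exists_smul_eq ω x⟩
    have h' : (a : G) • ω = (b : G) • ω := h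
    have := hreg ω _ (M.mul_mem (M.inv_mem b.2) a.2) (by rw [mul_smul, h', inv_smul_smul])
    exact Subtype.ext (inv_mul_eq_one.mp this).symm
  refine ⟨p, d, hp, Nat.pos_of_ne_zero ?_, by rw [← hd]; exact (Nat.card_congr (Equiv.ofBijective _ hbij)).symm, hd⟩
  rintro rfl
  rw [pow_zero] at hd
  exact hM (Subgroup.eq_bot_of_card_eq M hd)

end Cfsg.Agent.S0547
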