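import Cfsg.Statements.S0548
import Mathlib
import Cfsg.Agent.S0547

set_option autoImplicit false
set_option linter.style.haveILetI false
open Cfsg

namespace Cfsg.Agent.S0548

/-- Let a finite solvable group G act faithfully and primitively on a set, let M be a minimal normal subgroup and H the stabilizer of a point. Then H is a complement to M, no non-identity element of H centralizes M, and the only subgroups of M normalized by H are the trivial subgroup and M. -/
theorem result {G : Type*} [Group G] [Finite G] [Group.IsSolvable G] {Ω : Type*} [MulAction G Ω] [FaithfulSMul G Ω] (hprim : MulAction.IsPreprimitive G Ω) (M : Subgroup G) [M.Normal] (hM : M ≠ ⊥) (hmin : ∀ K : Subgroup G, K.Normal → K ≤ M → K = ⊥ ∨ K = M) (ω : Ω) : Subgroup.IsComplement' M (MulAction.stabilizer G ω) ∧ MulAction.stabilizer G ω ⊓ Subgroup.centralizer (M : Set G) = ⊥ ∧ ∀ K : Subgroup G, K ≤ M → MulAction.stabilizer G ω ≤ Subgroup.normalizer (K : Set G) → K = ⊥ ∨ K = M := by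
  obtain ⟨hc, htr, hreg⟩ := Cfsg.Agent.S0547.regular hprim M hM hmin
  set H := MulAction.stabilizer G ω with hH
  have hsup : ∀ g : G, ∃ m ∈ M, ∃ h ∈ H, m * h = g := by
    intro g
    obtain ⟨m, hm⟩ := htr.exists_smul_eq ω (g • ω)
    refine ⟨m, m.2, (m : G)⁻¹ * g, ?_, mul_inv_cancel_left _ _⟩
    rw [hH, MulAction.mem_stabilizer_iff, mul_smul, inv_smul_eq_iff]
    exact hm.symm
  have hbot : M ⊓ H = ⊥ := by
    rw [eq_bot_iff]
    rintro x ⟨hxM, hxH⟩
    exact hreg ω x hxM hxH
  refine ⟨Subgroup.isComplement'_of_disjoint_and_mul_eq_univ (disjoint_iff.mpr hbot)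
    (Set.eq_univ_of_forall fun g => ?_), ?_, ?_⟩
  · obtain ⟨m, hm, h, hh, e⟩ := hsup g
    exact ⟨m, hm, h, hh, e⟩
  · rw [eq_bot_iff]
    rintro x ⟨hxH, hxC⟩
    rw [Subgroup.mem_bot]
    refine eq_of_smul_eq_smul fun y : Ω => ?_
    rw [one_smul]
    obtain ⟨u, rfl⟩ := htr.exists_smul_eq ω y
    show x • (u : G) • ω = (u : G) • ω
    rw [← mul_smul, ← (Subgroup.mem_centralizer_iff.mp hxC u u.2), mul_smul,
      MulAction.mem_stabilizer_iff.mp hxH]
  · intro K hK hHK
    haveI := hc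
    have key : ∀ g : G, ∀ k ∈ K, g * k * g⁻¹ ∈ K := by
      intro g k hk
      obtain ⟨m, hm, h, hh, rfl⟩ := hsup g
      have h1 : h * k * h⁻¹ ∈ K := (Subgroup.mem_normalizer_iff.mp (hHK hh) k).mp hk
      rw [show m * h * k * (m * h)⁻¹ = m * (h * k * h⁻¹) * m⁻¹ by group,
        show m * (h * k * h⁻¹) = (h * k * h⁻¹) * m from
          congrArg Subtype.val (mul_comm' (⟨m, hm⟩ : M) ⟨_, hK h1⟩), mul_inv_cancel_right]
      exact h1
    exact hmin K ⟨fun k hk g => key g k hk⟩ hK

end Cfsg.Agent.S0548
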