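import Cfsg.Statements.S0549
import Mathlib

set_option autoImplicit false
set_option linter.style.haveILetI false
open Cfsg

namespace Cfsg.Agent.S0549

/-- Let U be a maximal subgroup of a finite group G whose normal core is trivial, and N a nontrivial normal subgroup with centralizer C. Then C ∩ U = 1, and either C = 1 or C is a minimal normal subgroup of G. -/
theorem result {G : Type*} [Group G] [Finite G] (U : Subgroup G) (hU : IsCoatom U) (hcore : U.normalCore = ⊥) (N : Subgroup G) [N.Normal] (hN : N ≠ ⊥) : Subgroup.centralizer (N : Set G) ⊓ U = ⊥ ∧ (Subgroup.centralizer (N : Set G) = ⊥ ∨ (Subgroup.centralizer (N : Set G) ≠ ⊥ ∧ ∀ K : Subgroup G, K.Normal → K ≤ Subgroup.centralizer (N : Set G) → K = ⊥ ∨ K = Subgroup.centralizer (N : Set G))) := by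
  set C := Subgroup.centralizer (N : Set G) with hC
  haveI : C.Normal := by rw [hC]; infer_instance
  have hnle : ∀ K : Subgroup G, K.Normal → K ≠ ⊥ → K ⊔ U = ⊤ := fun K hK hne =>
    hU.2 _ (right_lt_sup.mpr fun hle => hne (by
      haveI := hK
      have := Subgroup.normal_le_normalCore.mpr hle
      rwa [hcore, le_bot_iff] at this))
  have hkey : ∀ g : G, ∀ x ∈ C ⊓ U, g * x * g⁻¹ ∈ C ⊓ U := by
    intro g x hx
    obtain ⟨n, hn, u, hu, rfl⟩ := Subgroup.mem_sup_of_normal_left.mp (hnle N inferInstance hN ▸ Subgroup.mem_top g)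
    have h1 : u * x * u⁻¹ ∈ C ⊓ U :=
      ⟨(inferInstance : C.Normal).conj_mem x hx.1 u, U.mul_mem (U.mul_mem hu hx.2) (U.inv_mem hu)⟩
    rw [show n * u * x * (n * u)⁻¹ = n * (u * x * u⁻¹) * n⁻¹ by group,
      Subgroup.mem_centralizer_iff.mp h1.1 n hn, mul_inv_cancel_right]
    exact h1
  haveI : (C ⊓ U).Normal := ⟨fun x hx g => hkey g x hx⟩
  have hbot : C ⊓ U = ⊥ := by
    have := (Subgroup.normal_le_normalCore (H := U) (N := C ⊓ U)).mpr inf_le_right
    rwa [hcore, le_bot_iff] at this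
  refine ⟨hbot, ?_⟩
  rcases eq_or_ne C ⊥ with h | h
  · exact Or.inl h
  refine Or.inr ⟨h, fun K hK hKC => ?_⟩
  rcases eq_or_ne K ⊥ with hK0 | hK0
  · exact Or.inl hK0
  refine Or.inr (le_antisymm hKC fun c hc => ?_)
  haveI := hK
  obtain ⟨k, hk, u, hu, rfl⟩ := Subgroup.mem_sup_of_normal_left.mp (hnle K hK hK0 ▸ Subgroup.mem_top c)
  have huC : u ∈ C := by simpa using C.mul_mem (C.inv_mem (hKC hk)) hc
  have : u ∈ (⊥ : Subgroup G) := hbot ▸ ⟨huC, hu⟩
  rw [Subgroup.mem_bot] at this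
  simpa [this] using hk

end Cfsg.Agent.S0549
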