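import Mathlib
import Cfsg.Statements.S0550

set_option autoImplicit false
open Cfsg
open scoped Pointwise

namespace Cfsg.Agent.S0550

variable {G : Type*} [Group G] [Finite G]

theorem eq_top_of_sup {U A : Subgroup G} (hU : IsCoatom U) (hcore : U.normalCore = ⊥) [A.Normal]
    (hA : A ≠ ⊥) : A ⊔ U = ⊤ := by
  apply hU.2
  refine lt_of_le_of_ne le_sup_right ?_
  intro h
  have hle : A ≤ U := h ▸ le_sup_left
  exact hA (le_bot_iff.mp (hcore ▸ Subgroup.normal_le_normalCore.mpr hle))

/-- a subgroup contained in `U`, normalised by `U` and centralised by a supplement is trivial -/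
theorem inf_eq_bot {U A N : Subgroup G} (hcore : U.normalCore = ⊥) [N.Normal]
    (hsup : A ⊔ U = ⊤) (hc : N ≤ Subgroup.centralizer (A : Set G)) : N ⊓ U = ⊥ := by
  have hnorm : (N ⊓ U).Normal := by
    rw [← Subgroup.normalizer_eq_top_iff]
    rw [eq_top_iff, ← hsup, sup_le_iff]
    refine ⟨?_, ?_⟩
    · intro a ha
      rw [Subgroup.mem_normalizer_iff]
      intro n
      constructor
      · intro hn
        have h := Subgroup.mem_centralizer_iff.mp (hc hn.1) a ha
        have : a * n * a⁻¹ = n := by rw [h]; group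
        simpa [this] using hn
      · intro hn
        have h := Subgroup.mem_centralizer_iff.mp (hc hn.1) a ha
        have : n = a * n * a⁻¹ := by
          calc n = a⁻¹ * (a * n * a⁻¹) * a := by group
            _ = a⁻¹ * (a * (a * n * a⁻¹)) := by rw [h]; group
            _ = a * n * a⁻¹ := by group
        rw [this]; exact hn
    · intro u hu
      rw [Subgroup.mem_normalizer_iff]
      intro n
      constructor
      · intro hn
        exact ⟨‹N.Normal›.conj_mem n hn.1 u, U.mul_mem (U.mul_mem hu hn.2) (U.inv_mem hu)⟩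
      · intro hn
        have h1 : n = u⁻¹ * (u * n * u⁻¹) * u⁻¹⁻¹ := by group
        rw [h1]
        exact ⟨‹N.Normal›.conj_mem _ hn.1 u⁻¹,
          U.mul_mem (U.mul_mem (U.inv_mem hu) hn.2) (U.inv_mem (U.inv_mem hu))⟩
  haveI := hnorm
  exact le_bot_iff.mp (hcore ▸ Subgroup.normal_le_normalCore.mpr inf_le_right)

theorem le_centralizer' {A B : Subgroup G} [A.Normal] [B.Normal] (h : A ⊓ B = ⊥) :
    B ≤ Subgroup.centralizer (A : Set G) := by
  intro b hb
  rw [Subgroup.mem_centralizer_iff]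
  intro a ha
  exact (Subgroup.commute_of_normal_of_disjoint A B inferInstance inferInstance
    (disjoint_iff.mpr h) a b ha hb).eq

/-- `(A ⊔ B) ⊓ U` is isomorphic to `B`. -/
theorem equiv_inf {U A B : Subgroup G} [A.Normal] [B.Normal] (hAB : A ⊓ B = ⊥)
    (hsup : A ⊔ U = ⊤) (hint : A ⊓ U = ⊥) : Nonempty (B ≃* ↥((A ⊔ B) ⊓ U)) := by
  set D : Subgroup G := (A ⊔ B) ⊓ U with hD
  let f : B →* G ⧸ A := (QuotientGroup.mk' A).comp B.subtype
  let g : D →* G ⧸ A := (QuotientGroup.mk' A).comp D.subtype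
  have hf : Function.Injective f := by
    rw [← MonoidHom.ker_eq_bot_iff, eq_bot_iff]
    intro b hb
    have h1 : (b : G) ∈ A := (QuotientGroup.eq_one_iff _).mp (MonoidHom.mem_ker.mp hb)
    have h2 : (b : G) ∈ A ⊓ B := ⟨h1, b.2⟩
    rw [hAB, Subgroup.mem_bot] at h2
    exact Subgroup.mem_bot.mpr (Subtype.ext h2)
  have hg : Function.Injective g := by
    rw [← MonoidHom.ker_eq_bot_iff, eq_bot_iff]
    intro b hb
    have h1 : (b : G) ∈ A := (QuotientGroup.eq_one_iff _).mp (MonoidHom.mem_ker.mp hb)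
    have h2 : (b : G) ∈ A ⊓ U := ⟨h1, b.2.2⟩
    rw [hint, Subgroup.mem_bot] at h2
    exact Subgroup.mem_bot.mpr (Subtype.ext h2)
  have hrange : f.range = g.range := by
    apply le_antisymm
    · rintro x ⟨b, rfl⟩
      have hb : (b : G) ∈ A ⊔ U := by rw [hsup]; trivial
      rw [← SetLike.mem_coe, Subgroup.normal_mul A U, Set.mem_mul] at hb
      obtain ⟨a, ha, u, hu, hau⟩ := hb
      have hu' : u ∈ A ⊔ B := by
        have : u = a⁻¹ * (b : G) := by rw [← hau]; group
        rw [this]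
        exact mul_mem (inv_mem (Subgroup.mem_sup_left ha)) (Subgroup.mem_sup_right b.2)
      refine ⟨⟨u, hu', hu⟩, ?_⟩
      simp only [g, f, MonoidHom.comp_apply, Subgroup.coe_subtype, QuotientGroup.mk'_apply]
      rw [← hau, QuotientGroup.mk_mul, (QuotientGroup.eq_one_iff a).mpr ha, one_mul]
    · rintro x ⟨d, rfl⟩
      have hd : (d : G) ∈ A ⊔ B := d.2.1
      rw [← SetLike.mem_coe, Subgroup.normal_mul A B, Set.mem_mul] at hd
      obtain ⟨a, ha, b, hb, hab⟩ := hd
      refine ⟨⟨b, hb⟩, ?_⟩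
      simp only [g, f, MonoidHom.comp_apply, Subgroup.coe_subtype, QuotientGroup.mk'_apply]
      rw [← hab, QuotientGroup.mk_mul, (QuotientGroup.eq_one_iff a).mpr ha, one_mul]
  exact ⟨(MonoidHom.ofInjective hf).trans
    ((MulEquiv.subgroupCongr hrange).trans (MonoidHom.ofInjective hg).symm)⟩

theorem result {G : Type*} [Group G] [Finite G] (U : Subgroup G) (hU : IsCoatom U) (hcore : U.normalCore = ⊥) (A B : Subgroup G) [A.Normal] [B.Normal] (hA : A ≠ ⊥) (hB : B ≠ ⊥) (hAmin : ∀ K : Subgroup G, K.Normal → K ≤ A → K = ⊥ ∨ K = A) (hBmin : ∀ K : Subgroup G, K.Normal → K ≤ B → K = ⊥ ∨ K = B) (hAB : A ≠ B) : Subgroup.centralizer (B : Set G) = A ∧ Subgroup.centralizer (A : Set G) = B ∧ Subgroup.IsComplement' A U ∧ Subgroup.IsComplement' B U ∧ ¬ IsMulCommutative A ∧ Nonempty (A ≃* B) ∧ Nonempty (A ≃* ↥((A ⊔ B) ⊓ U)) := by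
  have hint : A ⊓ B = ⊥ := by
    rcases hAmin (A ⊓ B) inferInstance inf_le_left with h | h
    · exact h
    · rcases hBmin A inferInstance (h ▸ inf_le_right) with h' | h'
      · exact absurd h' hA
      · exact absurd h' hAB
  have hint' : B ⊓ A = ⊥ := by rw [inf_comm]; exact hint
  have hAU := eq_top_of_sup hU hcore hA
  have hBU := eq_top_of_sup hU hcore hB
  have hCA : A ≤ Subgroup.centralizer (B : Set G) := le_centralizer' hint'
  have hCB : B ≤ Subgroup.centralizer (A : Set G) := le_centralizer' hint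
  haveI : (Subgroup.centralizer (A : Set G)).Normal := Subgroup.normal_centralizer
  haveI : (Subgroup.centralizer (B : Set G)).Normal := Subgroup.normal_centralizer
  have hA0 : A ⊓ U = ⊥ := inf_eq_bot hcore hBU hCA
  have hB0 : B ⊓ U = ⊥ := inf_eq_bot hcore hAU hCB
  have hcA : Subgroup.centralizer (A : Set G) ⊓ U = ⊥ := inf_eq_bot hcore hAU le_rfl
  have hcB : Subgroup.centralizer (B : Set G) ⊓ U = ⊥ := inf_eq_bot hcore hBU le_rfl
  have compl : ∀ N : Subgroup G, N.Normal → N ⊔ U = ⊤ → N ⊓ U = ⊥ →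
      Subgroup.IsComplement' N U := fun N hN h1 h2 => by
    haveI := hN
    refine Subgroup.isComplement'_of_disjoint_and_mul_eq_univ (disjoint_iff.mpr h2) ?_
    rw [← Subgroup.normal_mul N U, h1, Subgroup.coe_top]
  have hAcomp := compl A inferInstance hAU hA0
  have hBcomp := compl B inferInstance hBU hB0
  have hCBcomp := compl (Subgroup.centralizer (B : Set G)) inferInstance
    (eq_top_iff.mpr (hAU ▸ sup_le_sup_right hCA U)) hcB
  have hCAcomp := compl (Subgroup.centralizer (A : Set G)) inferInstance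
    (eq_top_iff.mpr (hBU ▸ sup_le_sup_right hCB U)) hcA
  have hUpos : 0 < Nat.card U := Nat.card_pos
  have hCBeq : Subgroup.centralizer (B : Set G) = A := by
    symm
    apply Subgroup.eq_of_le_of_card_ge hCA
    exact le_of_eq (Nat.eq_of_mul_eq_mul_right hUpos
      (hCBcomp.card_mul.trans hAcomp.card_mul.symm))
  have hCAeq : Subgroup.centralizer (A : Set G) = B := by
    symm
    apply Subgroup.eq_of_le_of_card_ge hCB
    exact le_of_eq (Nat.eq_of_mul_eq_mul_right hUpos
      (hCAcomp.card_mul.trans hBcomp.card_mul.symm))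
  refine ⟨hCBeq, hCAeq, hAcomp, hBcomp, ?_, ?_, ?_⟩
  · intro hcomm
    have : A ≤ Subgroup.centralizer (A : Set G) := fun a ha =>
      Subgroup.mem_centralizer_iff.mpr fun b hb =>
        congrArg Subtype.val (hcomm.is_comm.comm (⟨b, hb⟩ : A) ⟨a, ha⟩)
    rw [hCAeq] at this
    exact hA (le_bot_iff.mp (hint ▸ le_inf le_rfl this))
  · obtain ⟨e1⟩ := equiv_inf hint hAU hA0
    obtain ⟨e2⟩ := equiv_inf hint' hBU hB0
    exact ⟨e2.trans ((MulEquiv.subgroupCongr (by rw [sup_comm])).trans e1.symm)⟩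
  · obtain ⟨e2⟩ := equiv_inf hint' hBU hB0
    exact ⟨e2.trans (MulEquiv.subgroupCongr (by rw [sup_comm]))⟩

end Cfsg.Agent.S0550
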