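import Cfsg.Statements.S0583
import Mathlib
import Cfsg.Agent.Lib.Fitting.Basic
import Cfsg.Agent.Lib.Critical.Basic

set_option autoImplicit false
set_option linter.style.haveILetI false
open Cfsg
open scoped commutatorElement Pointwise

namespace Cfsg.Agent.S0583

/-- In a finite group the Fitting subgroup is contained in the centralizer of each minimal normal subgroup. -/
theorem result {G : Type*} [Group G] [Finite G] (M : Subgroup G) [M.Normal] (hM : M ≠ ⊥) (hmin : ∀ K : Subgroup G, K.Normal → K ≤ M → K = ⊥ ∨ K = M) : Cfsg.fittingSubgroup G ≤ Subgroup.centralizer (M : Set G) := by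
  haveI := CfsgLib.Fitting.fittingSubgroup_normal (G := G)
  set F := Cfsg.fittingSubgroup G with hF
  haveI := CfsgLib.Fitting.fittingSubgroup_isNilpotent (G := G)
  rcases hmin (F ⊓ M) inferInstance inf_le_right with h | h
  · intro f hf
    rw [Subgroup.mem_centralizer_iff]
    intro m hm
    have : ⁅m, f⁆ ∈ (⊥ : Subgroup G) := by
      rw [← h]
      refine ⟨?_, ?_⟩
      · rw [commutatorElement_def]
        exact F.mul_mem ((inferInstance : F.Normal).conj_mem f hf m) (F.inv_mem hf)
      · rw [show ⁅m, f⁆ = m * (f * m⁻¹ * f⁻¹) by rw [commutatorElement_def]; group]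
        exact M.mul_mem hm ((inferInstance : M.Normal).conj_mem _ (M.inv_mem hm) f)
    exact commutatorElement_eq_one_iff_mul_comm.mp this
  · have hMF : M ≤ F := h ▸ inf_le_left
    set Z := (Subgroup.center F).map F.subtype with hZ
    haveI : Z.Normal := ConjAct.normal_of_characteristic_of_normal
    have hne : M.subgroupOf F ≠ ⊥ := by
      rw [Ne, Subgroup.subgroupOf_eq_bot, disjoint_iff, inf_eq_left.mpr hMF]
      exact hM
    obtain ⟨⟨z, hz⟩, hz1⟩ := Subgroup.ne_bot_iff_exists_ne_one.mp (CfsgLib.Critical.inf_center_ne_bot _ hne)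
    have hMZ : M ≤ Z := by
      rcases hmin (Z ⊓ M) inferInstance inf_le_right with h2 | h2
      · exfalso
        have : (z : G) ∈ Z ⊓ M := ⟨⟨z, (Subgroup.mem_inf.mp hz).2, rfl⟩, (Subgroup.mem_inf.mp hz).1⟩
        rw [h2, Subgroup.mem_bot] at this
        exact hz1 (Subtype.ext (Subtype.ext this))
      · exact h2 ▸ inf_le_left
    intro f hf
    rw [Subgroup.mem_centralizer_iff]
    intro m hm
    obtain ⟨u, hu, rfl⟩ := hMZ hm
    exact (congrArg Subtype.val (Subgroup.mem_center_iff.mp hu ⟨f, hf⟩)).symm

end Cfsg.Agent.S0583
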