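import Cfsg.Statements.S0551
import Mathlib
import Cfsg.Agent.S0043
import Cfsg.Agent.S0549
import Cfsg.Agent.S0583
import Cfsg.Agent.Lib.Hall.Basic
import Cfsg.Agent.Lib.Coprime.Action
import Cfsg.Agent.Lib.Fitting.Basic

set_option autoImplicit false
set_option linter.style.haveILetI false
open Pointwise
open Cfsg
open scoped commutatorElement Pointwise

namespace Cfsg.Agent.S0551

/-- In a finite solvable group all core-free maximal subgroups are conjugate. -/
theorem result {G : Type*} [Group G] [Finite G] [Group.IsSolvable G] (U V : Subgroup G) (hU : IsCoatom U) (hV : IsCoatom V) (hUc : U.normalCore = ⊥) (hVc : V.normalCore = ⊥) : ∃ g : G, MulAut.conj g • U = V := by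
  classical
  haveI : Nontrivial G := by
    by_contra h
    rw [not_nontrivial_iff_subsingleton] at h
    exact hU.1 (Subsingleton.elim _ _)
  haveI : Finite (Subgroup G) := Finite.of_injective (fun K => (K : Set G)) SetLike.coe_injective
  obtain ⟨N, hN, hNmin⟩ := (Set.toFinite {N : Subgroup G | N.Normal ∧ N ≠ ⊥}).exists_minimal
    ⟨⊤, inferInstance, top_ne_bot⟩
  obtain ⟨hNn, hNne⟩ := hN
  haveI := hNn
  have hmin : ∀ K : Subgroup G, K.Normal → K ≤ N → K = ⊥ ∨ K = N := fun K hK hle =>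
    (eq_or_ne K ⊥).imp id fun h => le_antisymm hle (hNmin ⟨hK, h⟩ hle)
  obtain ⟨hNc, p, hp, hexp⟩ := Cfsg.Agent.S0043.result N hNne hmin
  haveI := Fact.mk hp
  haveI := hNc
  have hNp : IsPGroup p N := fun x => ⟨1, Subtype.ext (by rw [pow_one]; exact hexp _ x.2)⟩
  set C := Subgroup.centralizer (N : Set G)
  haveI : C.Normal := inferInstance
  have hNC : N ≤ C := fun x hx => Subgroup.mem_centralizer_iff.mpr fun y hy =>
    congrArg Subtype.val (mul_comm' (⟨y, hy⟩ : N) ⟨x, hx⟩)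
  obtain ⟨hCU, hCmin⟩ := Cfsg.Agent.S0549.result U hU hUc N hNne
  have hCN : C = N := by
    rcases hCmin with h | ⟨-, h⟩
    · exact absurd (le_bot_iff.mp (h ▸ hNC)) hNne
    · exact ((h N hNn hNC).resolve_left hNne).symm
  have hNU : N ⊓ U = ⊥ := le_bot_iff.mp (hCU ▸ inf_le_inf_right U hNC)
  have hNV : N ⊓ V = ⊥ :=
    le_bot_iff.mp ((Cfsg.Agent.S0549.result V hV hVc N hNne).1 ▸ inf_le_inf_right V hNC)
  have hsup : ∀ W : Subgroup G, IsCoatom W → W.normalCore = ⊥ → N ⊔ W = ⊤ := fun W hW hWc =>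
    hW.2 _ (right_lt_sup.mpr fun hle => hNne (by
      have := Subgroup.normal_le_normalCore.mpr hle
      rwa [hWc, le_bot_iff] at this))
  by_cases hUne : U = ⊥
  · have hN' : N = ⊤ := by have := hsup U hU hUc; rwa [hUne, sup_bot_eq] at this
    refine ⟨1, ?_⟩
    rw [map_one, one_smul, hUne]
    rw [hN', top_inf_eq] at hNV
    exact hNV.symm
  haveI : Nontrivial U := (Subgroup.nontrivial_iff_ne_bot U).mpr hUne
  obtain ⟨q, hq, Q₀, hQ₀, hQ₀ne, hQ₀q, -⟩ := CfsgLib.Hall.exists_normal_pgroup_ne_bot (G := U)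
  haveI := Fact.mk hq
  set Q := Q₀.map U.subtype with hQdef
  have hQU : Q ≤ U := Subgroup.map_subtype_le _
  have hQne : Q ≠ ⊥ := fun h => hQ₀ne ((Subgroup.map_eq_bot_iff_of_injective _ U.subtype_injective).mp h)
  have hQq : IsPGroup q Q := hQ₀q.map _
  have hQconj : ∀ u ∈ U, ∀ x ∈ Q, u * x * u⁻¹ ∈ Q := by
    rintro u hu _ ⟨⟨y, hy⟩, hyQ, rfl⟩
    exact ⟨⟨u, hu⟩ * ⟨y, hy⟩ * ⟨u, hu⟩⁻¹, hQ₀.conj_mem _ hyQ _, rfl⟩
  set L := N ⊔ Q with hL
  haveI hLn : L.Normal := by
    refine ⟨fun x hx g => ?_⟩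
    obtain ⟨a, ha, y, hy, rfl⟩ := Subgroup.mem_sup_of_normal_left.mp hx
    obtain ⟨n, hn, u, hu, rfl⟩ := Subgroup.mem_sup_of_normal_left.mp (hsup U hU hUc ▸ Subgroup.mem_top g)
    rw [show n * u * (a * y) * (n * u)⁻¹ = n * (u * a * u⁻¹) * (u * y * u⁻¹) * n⁻¹ by group]
    exact Subgroup.mul_mem _ (Subgroup.mul_mem _ (Subgroup.mul_mem _ (Subgroup.mem_sup_left hn)
      (Subgroup.mem_sup_left (hNn.conj_mem a ha u))) (Subgroup.mem_sup_right (hQconj u hu y hy)))
      (Subgroup.inv_mem _ (Subgroup.mem_sup_left hn))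
  have hqp : q ≠ p := by
    rintro rfl
    haveI := (IsPGroup.to_sup_of_normal_left hNp hQq).isNilpotent
    have hLC : L ≤ C := (CfsgLib.Fitting.le_fittingSubgroup hLn inferInstance).trans
      (Cfsg.Agent.S0583.result N hNne hmin)
    rw [hCN] at hLC
    exact hQne (le_bot_iff.mp (hNU ▸ le_inf (le_sup_right.trans hLC) hQU))
  obtain ⟨b, hb⟩ := IsPGroup.iff_card.mp hNp
  obtain ⟨c, hc⟩ := IsPGroup.iff_card.mp hQq
  set W := L ⊓ V with hW
  have hWsup : N ⊔ W = L := by
    refine le_antisymm (sup_le le_sup_left inf_le_left) fun x hx => ?_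
    obtain ⟨n, hn, v, hv, rfl⟩ := Subgroup.mem_sup_of_normal_left.mp (hsup V hV hVc ▸ Subgroup.mem_top x)
    have hvL : v ∈ L := by simpa using L.mul_mem (L.inv_mem (Subgroup.mem_sup_left hn)) hx
    exact Subgroup.mul_mem _ (Subgroup.mem_sup_left hn) (Subgroup.mem_sup_right ⟨hvL, hv⟩)
  have hcard : ∀ X : Subgroup G, N ⊔ X = L → N ⊓ X = ⊥ → Nat.card L = Nat.card N * Nat.card X := by
    intro X hX hX'
    have h1 := CfsgLib.Coprime.card_sup_mul_card_inf (K := N) (S := X) Subgroup.le_normalizer_of_normal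
    rwa [hX, hX', Subgroup.card_bot, mul_one] at h1
  have hcQ : Nat.card W = q ^ c := by
    have h1 := hcard W hWsup (le_bot_iff.mp (hNV ▸ inf_le_inf_left N inf_le_right))
    rw [hcard Q hL.symm (le_bot_iff.mp (hNU ▸ inf_le_inf_left N hQU)), hc] at h1
    exact (Nat.eq_of_mul_eq_mul_left Nat.card_pos h1).symm
  have hndvd : ∀ X : Subgroup G, X ≤ L → Nat.card X = q ^ c → ¬ q ∣ X.relIndex L := by
    intro X hX hXc hd
    have h1 := Subgroup.relIndex_mul_relIndex ⊥ X L bot_le hX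
    rw [Subgroup.relIndex_bot_left, Subgroup.relIndex_bot_left, hXc,
      hcard Q hL.symm (le_bot_iff.mp (hNU ▸ inf_le_inf_left N hQU)), hc, hb, mul_comm (p ^ b)] at h1
    have h2 : X.relIndex L = p ^ b := Nat.eq_of_mul_eq_mul_left (pow_pos hq.pos c) h1
    rw [h2] at hd
    exact hqp ((Nat.prime_dvd_prime_iff_eq hq hp).mp (hq.dvd_of_dvd_pow hd))
  let SQ : Sylow q L := IsPGroup.toSylow
    (show IsPGroup q (Q.subgroupOf L) from hQq.of_equiv (Subgroup.subgroupOfEquivOfLe le_sup_right).symm)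
    (hndvd Q le_sup_right hc)
  let SW : Sylow q L := IsPGroup.toSylow
    (show IsPGroup q (W.subgroupOf L) from (IsPGroup.of_card hcQ).of_equiv
      (Subgroup.subgroupOfEquivOfLe inf_le_left).symm) (hndvd W inf_le_left hcQ)
  obtain ⟨l, hl⟩ := MulAction.exists_smul_eq L SQ SW
  have hconj : ∀ x : G, x ∈ W ↔ (l : G)⁻¹ * x * l ∈ Q := by
    intro x
    constructor
    · intro hx
      have h1 : (⟨x, hx.1⟩ : L) ∈ (SW : Subgroup L) := hx
      rw [← hl, Sylow.coe_subgroup_smul, Subgroup.mem_pointwise_smul_iff_inv_smul_mem] at h1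
      have h2 : l⁻¹ * (⟨x, hx.1⟩ : L) * l ∈ Q.subgroupOf L := by
        simp [MulAut.smul_def, SQ] at h1
        exact h1
      exact Subgroup.mem_subgroupOf.mp h2
    · intro hx
      have hxL : x ∈ L := by
        have := L.mul_mem (L.mul_mem l.2 (Subgroup.mem_sup_right hx)) (L.inv_mem l.2)
        simpa [mul_assoc] using this
      have h1 : (⟨x, hxL⟩ : L) ∈ ((l • SQ : Sylow q L) : Subgroup L) := by
        rw [Sylow.coe_subgroup_smul, Subgroup.mem_pointwise_smul_iff_inv_smul_mem]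
        have h2 : l⁻¹ * (⟨x, hxL⟩ : L) * l ∈ Q.subgroupOf L := Subgroup.mem_subgroupOf.mpr hx
        simp [MulAut.smul_def, SQ]
        exact h2
      rw [hl] at h1
      exact h1
  -- the normalizer of `W` is `V`
  have hWne : W ≠ ⊥ := fun h => hQne (by
    have : Nat.card Q = 1 := by rw [hc, ← hcQ, h, Subgroup.card_bot]
    exact Subgroup.eq_bot_of_card_eq Q this)
  have hNW : Subgroup.normalizer (W : Set G) = V := by
    have hle : V ≤ Subgroup.normalizer (W : Set G) := by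
      intro v hv
      rw [Subgroup.mem_normalizer_iff]
      intro x
      refine ⟨fun hx => ⟨hLn.conj_mem x hx.1 v, V.mul_mem (V.mul_mem hv hx.2) (V.inv_mem hv)⟩, fun hx => ?_⟩
      exact ⟨by simpa [mul_assoc] using hLn.conj_mem _ hx.1 v⁻¹,
        by simpa [mul_assoc] using V.mul_mem (V.mul_mem (V.inv_mem hv) hx.2) hv⟩
    rcases hle.eq_or_lt with h | h
    · exact h.symm
    · exfalso
      haveI : W.Normal := Subgroup.normalizer_eq_top_iff.mp (hV.2 _ h)
      have := (Subgroup.normal_le_normalCore (H := V) (N := W)).mpr inf_le_right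
      rw [hVc, le_bot_iff] at this
      exact hWne this
  refine ⟨l, ?_⟩
  have hle : MulAut.conj (l : G) • U ≤ V := by
    intro y hy
    rw [Subgroup.mem_pointwise_smul_iff_inv_smul_mem, ← map_inv, MulAut.smul_def, MulAut.conj_apply, inv_inv] at hy
    rw [← hNW, Subgroup.mem_normalizer_iff]
    intro x
    rw [hconj, hconj]
    set u := (l : G)⁻¹ * y * l with hu
    have e : (l : G)⁻¹ * (y * x * y⁻¹) * l = u * ((l : G)⁻¹ * x * l) * u⁻¹ := by rw [hu]; group
    rw [e]
    refine ⟨hQconj u hy _, fun h => ?_⟩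
    simpa [mul_assoc] using hQconj u⁻¹ (U.inv_mem hy) _ h
  rcases hle.eq_or_lt with h | h
  · exact h
  · exfalso
    have h2 : U < MulAut.conj (l : G)⁻¹ • V := by
      refine lt_of_le_of_ne ?_ ?_
      · rw [map_inv, ← Subgroup.pointwise_smul_le_pointwise_smul_iff (a := MulAut.conj (l : G)), smul_inv_smul]
        exact hle
      · intro e
        apply h.ne
        rw [e, map_inv, smul_inv_smul]
    have h3 := hU.2 _ h2
    apply hV.1
    rw [← smul_inv_smul (MulAut.conj (l : G)) V, ← map_inv, h3]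
    rw [eq_top_iff]
    intro x _
    rw [Subgroup.mem_pointwise_smul_iff_inv_smul_mem]
    exact Subgroup.mem_top _

end Cfsg.Agent.S0551
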