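import Cfsg.Statements.S0552
import Mathlib
import Cfsg.Agent.Lib.PSolvable.Core

set_option autoImplicit false
set_option linter.style.haveILetI false
open Cfsg

namespace Cfsg.Agent.S0552

/-- Let σ be an automorphism of a finite solvable group G fixing every element of the Fitting subgroup. If σ is not the identity then the order of σ and the order of G have a common prime factor. -/
theorem result {G : Type*} [Group G] [Finite G] [Group.IsSolvable G] (σ : G ≃* G) (hσ : ∀ x ∈ Cfsg.fittingSubgroup G, σ x = x) (hne : σ ≠ MulEquiv.refl G) : ¬ (orderOf σ).Coprime (Nat.card G) := by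
  intro hcop
  refine hne (MulEquiv.ext fun x => ?_)
  set F := Cfsg.fittingSubgroup G with hF
  haveI := CfsgLib.Fitting.fittingSubgroup_normal (G := G)
  set c := x⁻¹ * σ x with hc
  have hcC : c ∈ Subgroup.centralizer (F : Set G) := by
    rw [Subgroup.mem_centralizer_iff]
    intro f hf
    have h1 : σ x * f * (σ x)⁻¹ = x * f * x⁻¹ := by
      have := hσ _ ((inferInstance : F.Normal).conj_mem f hf x)
      rwa [map_mul, map_mul, map_inv, hσ f hf] at this
    rw [hc]
    calc f * (x⁻¹ * σ x) = x⁻¹ * (x * f * x⁻¹) * σ x := by group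
      _ = x⁻¹ * (σ x * f * (σ x)⁻¹) * σ x := by rw [h1]
      _ = x⁻¹ * σ x * f := by group
  have hcF : c ∈ F := CfsgLib.PSolvable.centralizer_fittingSubgroup_le hcC
  have hit : ∀ n : ℕ, (σ ^ n : MulAut G) x = x * c ^ n := by
    intro n
    induction n with
    | zero => simp
    | succ n ih =>
      rw [pow_succ', MulAut.mul_apply, ih, map_mul, hσ _ (F.pow_mem hcF n),
        show σ x = x * c by rw [hc, mul_inv_cancel_left], pow_succ', mul_assoc]
  have h1 := hit (orderOf σ)
  rw [show (σ ^ orderOf σ : MulAut G) = 1 from pow_orderOf_eq_one σ] at h1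
  have h2 : c ^ orderOf σ = 1 := mul_eq_left.mp h1.symm
  have h3 := Nat.eq_one_of_dvd_coprimes hcop (orderOf_dvd_of_pow_eq_one h2) (orderOf_dvd_natCard c)
  show σ x = x
  rw [show σ x = x * c by rw [hc, mul_inv_cancel_left], orderOf_eq_one_iff.mp h3, mul_one]

end Cfsg.Agent.S0552
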