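import Cfsg.Statements.S0553
import Mathlib
import Cfsg.Agent.Lib.Hall.Basic

set_option autoImplicit false
open Cfsg

namespace Cfsg.Agent.S0553

/-- Let G be a nontrivial finite solvable group in which every maximal subgroup has order coprime to its index. Then for some prime p dividing the order of G the Sylow p-subgroups of G are normal. -/
theorem result {G : Type*} [Group G] [Finite G] [Group.IsSolvable G] [Nontrivial G] (h : ∀ M : Subgroup G, IsCoatom M → (Nat.card M).Coprime M.index) : ∃ p : ℕ, p.Prime ∧ p ∣ Nat.card G ∧ ∀ P : Sylow p G, (P : Subgroup G).Normal := by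
  classical
  set Φ : Subgroup G := frattini G
  have hΦ : Φ ≠ ⊤ := by
    obtain h | ⟨M, hM, -⟩ := eq_top_or_exists_le_coatom (⊥ : Subgroup G)
    · exact absurd h bot_ne_top
    · intro hΦ
      exact hM.1 (top_unique (hΦ.ge.trans (frattini_le_coatom hM)))
  set f := QuotientGroup.mk' Φ
  have hsurj : Function.Surjective f := QuotientGroup.mk'_surjective Φ
  haveI : Nontrivial (G ⧸ Φ) := QuotientGroup.nontrivial_iff.mpr hΦ
  haveI : Group.IsSolvable (G ⧸ Φ) := Group.isSolvable_of_surjective hsurj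
  obtain ⟨p, hp, R₀, hR₀, hR₀ne, hR₀p, -⟩ := CfsgLib.Hall.exists_normal_pgroup_ne_bot (G := G ⧸ Φ)
  haveI := Fact.mk hp
  set R := R₀.comap f
  haveI : R.Normal := inferInstance
  have hΦR : Φ ≤ R := (QuotientGroup.ker_mk' Φ).symm.trans_le (Subgroup.ker_le_comap f R₀)
  obtain ⟨P⟩ : Nonempty (Sylow p R) := inferInstance
  set P₁ := (P : Subgroup R).map R.subtype
  have hRsup : R ≤ Φ ⊔ P₁ := by
    intro x hx
    have hrel : (Φ.subgroupOf R ⊔ (P : Subgroup R)).index = 1 := by
      obtain ⟨e, he⟩ := IsPGroup.iff_card.mp hR₀p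
      refine Nat.eq_one_of_dvd_coprimes (a := p ^ e)
        (((Nat.Prime.coprime_iff_not_dvd hp).mpr P.not_dvd_index).pow_left e) ?_
        (Subgroup.index_dvd_of_le le_sup_right)
      refine (Subgroup.index_dvd_of_le le_sup_left).trans ?_
      have h1 : Φ.relIndex R * R.index = Φ.index := Subgroup.relIndex_mul_index hΦR
      rw [Subgroup.index_comap_of_surjective _ hsurj, Subgroup.index_eq_card Φ,
        ← R₀.card_mul_index, he] at h1
      exact dvd_of_eq (Nat.eq_of_mul_eq_mul_right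
        (Nat.pos_of_ne_zero R₀.index_ne_zero_of_finite) h1)
    have h2 : (⟨x, hx⟩ : R) ∈ Φ.subgroupOf R ⊔ (P : Subgroup R) := by
      rw [Subgroup.index_eq_one.mp hrel]; trivial
    have h3 := Subgroup.mem_map_of_mem R.subtype h2
    rw [Subgroup.map_sup, Subgroup.map_subgroupOf_eq_of_le hΦR] at h3
    exact h3
  have hP₁ : P₁ ≤ Subgroup.normalizer (P₁ : Set G) := Subgroup.le_normalizer
  have hN : Subgroup.normalizer (P₁ : Set G) = ⊤ := by
    refine frattini_nongenerating (top_unique ?_)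
    rw [← Sylow.normalizer_sup_eq_top P]
    exact sup_le le_sup_left (hRsup.trans (sup_le le_sup_right (hP₁.trans le_sup_left)))
  haveI hPn : P₁.Normal := Subgroup.normalizer_eq_top_iff.mp hN
  have hP₁Φ : ¬ P₁ ≤ Φ := fun hle => hR₀ne (by
    rw [← Subgroup.map_comap_eq_self_of_surjective hsurj R₀, Subgroup.map_eq_bot_iff,
      QuotientGroup.ker_mk']
    exact hRsup.trans (sup_le le_rfl hle))
  obtain ⟨M, hM, hPM⟩ : ∃ M : Subgroup G, IsCoatom M ∧ ¬ P₁ ≤ M := by
    by_contra hno
    push Not at hno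
    exact hP₁Φ (le_iInf fun M => le_iInf fun hM => hno M hM)
  obtain ⟨e, he⟩ := IsPGroup.iff_card.mp (P.2.map R.subtype : IsPGroup p P₁)
  have hsup : P₁ ⊔ M = ⊤ := hM.2 _ (right_lt_sup.mpr hPM)
  have hidx : M.index ∣ Nat.card P₁ := by
    have h1 := CfsgLib.Coprime.card_sup_mul_card_inf (K := P₁) (S := M) Subgroup.le_normalizer_of_normal
    rw [hsup, Subgroup.card_top, ← M.index_mul_card] at h1
    exact Dvd.intro (Nat.card ↥(P₁ ⊓ M))
      (Nat.eq_of_mul_eq_mul_right (Nat.card_pos (α := M)) (by rw [mul_right_comm]; exact h1))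
  obtain ⟨j, -, hj⟩ := (Nat.dvd_prime_pow hp).mp (he ▸ hidx)
  have hj0 : j ≠ 0 := fun h0 => hM.1 (Subgroup.index_eq_one.mp (by rw [hj, h0, pow_zero]))
  have hpG : p ∣ Nat.card G := ((dvd_pow_self p hj0).trans (hj ▸ dvd_rfl)).trans M.index_dvd_card
  refine ⟨p, hp, hpG, ?_⟩
  have hcop := (hj ▸ h M hM).coprime_dvd_right (dvd_pow_self p hj0)
  have hfull : ¬ p ∣ P₁.index := by
    intro hd
    obtain ⟨c, hc⟩ := hd
    have h1 : p ^ (j + 1) ∣ Nat.card M * p ^ j := by
      rw [← hj, M.card_mul_index, ← P₁.card_mul_index, hc, ← mul_assoc, pow_succ]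
      refine Dvd.dvd.mul_right (mul_dvd_mul ?_ dvd_rfl) c
      rw [← hj]
      exact hidx
    rw [pow_succ', Nat.mul_dvd_mul_iff_right (pow_pos hp.pos j)] at h1
    exact (Nat.Prime.coprime_iff_not_dvd hp).mp hcop.symm h1
  set P₀ : Sylow p G := (P.2.map R.subtype : IsPGroup p P₁).toSylow hfull
  intro Q
  haveI : (P₀ : Subgroup G).Normal := hPn
  haveI := Sylow.unique_of_normal P₀ hPn
  rw [Subsingleton.elim Q P₀]
  exact hPn

end Cfsg.Agent.S0553
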