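import Cfsg.Statements.S0554
import Mathlib
import Cfsg.Agent.Lib.Hall.Basic

set_option autoImplicit false
set_option linter.style.haveILetI false
open Cfsg

namespace Cfsg.Agent.S0554

universe u

theorem absorb {G : Type u} [Group G] : ∀ (t : ℕ) (S : Fin t → Subgroup G) (N : Subgroup G), N.Normal →
    (∃ j, N ≤ S j) → ∀ s : Fin t → G, (∀ i, s i ∈ S i) → ∀ n ∈ N,
    ∃ s' : Fin t → G, (∀ i, s' i ∈ S i) ∧ (List.ofFn s').prod = (List.ofFn s).prod * n := by
  intro t
  induction t with
  | zero => rintro S N - ⟨j, -⟩; exact Fin.elim0 j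
  | succ t ih =>
    intro S N hN hj s hs n hn
    obtain ⟨j, hj⟩ := hj
    rcases Fin.eq_zero_or_eq_succ j with rfl | ⟨i, rfl⟩
    · set r := (List.ofFn fun i : Fin t => s i.succ).prod
      refine ⟨Fin.cons (s 0 * (r * n * r⁻¹)) fun i => s i.succ, ?_, ?_⟩
      · intro i
        rcases Fin.eq_zero_or_eq_succ i with rfl | ⟨i, rfl⟩
        · simpa using (S 0).mul_mem (hs 0) (hj (hN.conj_mem n hn r))
        · simpa using hs i.succ
      · rw [List.ofFn_succ, List.ofFn_succ, List.prod_cons, List.prod_cons]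
        simp only [Fin.cons_zero, Fin.cons_succ]
        show s 0 * (r * n * r⁻¹) * r = s 0 * r * n
        group
    · obtain ⟨s', hs', e⟩ := ih (fun i => S i.succ) N hN ⟨i, hj⟩ (fun i => s i.succ) (fun i => hs i.succ) n hn
      refine ⟨Fin.cons (s 0) s', ?_, ?_⟩
      · intro i
        rcases Fin.eq_zero_or_eq_succ i with rfl | ⟨i, rfl⟩
        · simpa using hs 0
        · simpa using hs' i
      · rw [List.ofFn_succ, List.ofFn_succ, List.prod_cons, List.prod_cons]
        simp only [Fin.cons_zero, Fin.cons_succ]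
        rw [e, mul_assoc]

theorem main (k : ℕ) : ∀ (G : Type u) [Group G] [Finite G] [Group.IsSolvable G], Nat.card G = k →
    ∀ (t : ℕ) (p : Fin t → ℕ), (∀ i, (p i).Prime) →
    (∀ q : ℕ, q.Prime → q ∣ Nat.card G → ∃ i, p i = q) → ∀ S : (i : Fin t) → Sylow (p i) G,
    ∀ g : G, ∃ s : (i : Fin t) → G, (∀ i, s i ∈ (S i : Subgroup G)) ∧ g = (List.ofFn s).prod := by
  induction k using Nat.strong_induction_on with
  | _ k IH =>
  intro G _ _ _ hk t p hp hall S g
  subst hk
  rcases subsingleton_or_nontrivial G with hs | hs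
  · exact ⟨fun _ => 1, fun i => one_mem _, Subsingleton.elim _ _⟩
  obtain ⟨ℓ, hℓ, N, hN, hNne, hNp, -⟩ := CfsgLib.Hall.exists_normal_pgroup_ne_bot (G := G)
  haveI := hN
  haveI := Fact.mk hℓ
  obtain ⟨j, hj⟩ : ∃ j, N ≤ (S j : Subgroup G) := by
    have hdvd : ℓ ∣ Nat.card G := by
      obtain ⟨a, ha⟩ := IsPGroup.iff_card.mp hNp
      rcases a with _ | a
      · rw [pow_zero] at ha
        exact absurd (Subgroup.eq_bot_of_card_eq N ha) hNne
      · exact (ha ▸ dvd_pow_self ℓ (Nat.succ_ne_zero a)).trans (Subgroup.card_subgroup_dvd_card N)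
    obtain ⟨j, hj⟩ := hall ℓ hℓ hdvd
    subst hj
    exact ⟨j, IsPGroup.le_sylow_of_normal hNp (S j)⟩
  set f := QuotientGroup.mk' N
  have hf : Function.Surjective f := QuotientGroup.mk'_surjective N
  have hlt : Nat.card (G ⧸ N) < Nat.card G := by
    rw [Subgroup.card_eq_card_quotient_mul_card_subgroup N]
    exact lt_mul_of_one_lt_right Nat.card_pos (N.one_lt_card_iff_ne_bot.mpr hNne)
  haveI : ∀ i, Fact (p i).Prime := fun i => ⟨hp i⟩
  obtain ⟨u, hu, e⟩ := IH _ hlt (G ⧸ N) rfl t p hp
    (fun q hq hd => hall q hq (hd.trans (Subgroup.card_quotient_dvd_card N)))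
    (fun i => (S i).mapSurjective hf) (f g)
  choose s hs hsu using fun i => hu i
  have hprod : f (List.ofFn s).prod = f g := by
    rw [e, map_list_prod, List.map_ofFn]
    congr 1
    exact congrArg List.ofFn (funext hsu)
  have hn : (List.ofFn s).prod⁻¹ * g ∈ N := QuotientGroup.eq.mp hprod
  obtain ⟨s', hs', e'⟩ := absorb t (fun i => (S i : Subgroup G)) N hN ⟨j, hj⟩ s hs _ hn
  exact ⟨s', hs', by rw [e', mul_inv_cancel_left]⟩

/-- Let G be a finite solvable group and let S assign to each of t distinct primes, including every prime divisor of the order of G, a Sylow subgroup of G. Then every element of G is a product s_0 s_1 ⋯ s_(t-1) with s_i in S i, the factors taken in the given order. -/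
theorem result {G : Type*} [Group G] [Finite G] [Group.IsSolvable G] (t : ℕ) (p : Fin t → ℕ) (hp : ∀ i, (p i).Prime) (hinj : Function.Injective p) (hall : ∀ q : ℕ, q.Prime → q ∣ Nat.card G → ∃ i, p i = q) (S : (i : Fin t) → Sylow (p i) G) : ∀ g : G, ∃ s : (i : Fin t) → G, (∀ i, s i ∈ (S i : Subgroup G)) ∧ g = (List.ofFn s).prod := by
  exact main _ G rfl t p hp hall S

end Cfsg.Agent.S0554
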