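import Cfsg.Statements.S0555
import Mathlib

set_option autoImplicit false
set_option linter.style.haveILetI false
open Cfsg
open scoped commutatorElement Pointwise

namespace Cfsg.Agent.S0555

/-- Let i ≥ 1. If in the derived series of a group the quotient of the i-th term by the (i+1)-st and the quotient of the (i+1)-st by the (i+2)-nd are both cyclic, then the (i+1)-st and (i+2)-nd terms coincide. -/
theorem result {G : Type*} [Group G] (i : ℕ) (hi : 1 ≤ i) (h₁ : IsCyclic (↥(derivedSeries G i) ⧸ (derivedSeries G (i + 1)).subgroupOf (derivedSeries G i))) (h₂ : IsCyclic (↥(derivedSeries G (i + 1)) ⧸ (derivedSeries G (i + 2)).subgroupOf (derivedSeries G (i + 1)))) : derivedSeries G (i + 1) = derivedSeries G (i + 2) := by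
  set A := derivedSeries G i with hA
  set B := derivedSeries G (i + 1) with hB
  set C := derivedSeries G (i + 2) with hC
  haveI := derivedSeries_normal G i
  haveI := derivedSeries_normal G (i + 1)
  haveI := derivedSeries_normal G (i + 2)
  have hAB : ⁅A, A⁆ = B := (derivedSeries_succ G i).symm
  have hBC : ⁅B, B⁆ = C := (derivedSeries_succ G (i + 1)).symm
  have hCB : C ≤ B := derivedSeries_antitone G (by omega)
  have hBA : B ≤ A := derivedSeries_antitone G (by omega)
  have hAG : A ≤ commutator G := by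
    rw [← derivedSeries_one]; exact derivedSeries_antitone G hi
  set f := QuotientGroup.mk' C with hf
  haveI : (B.map f).Normal := Subgroup.Normal.map inferInstance f (QuotientGroup.mk'_surjective C)
  set Q := B.map f with hQ
  -- `Q` is cyclic
  haveI hQc : IsCyclic Q := by
    let g : B ⧸ C.subgroupOf B →* Q := QuotientGroup.lift _ (f.subgroupMap B) fun x hx => by
      rw [MonoidHom.mem_ker]
      exact Subtype.ext ((QuotientGroup.eq_one_iff (x : G)).mpr hx)
    refine isCyclic_of_surjective g fun y => ?_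
    obtain ⟨x, rfl⟩ := f.subgroupMap_surjective B y
    exact ⟨QuotientGroup.mk x, rfl⟩
  -- hence centralized by the derived group
  have hcomm : commutator G ≤ ((MulAut.conjNormal (H := Q)).comp f).ker := by
    rw [commutator_def, Subgroup.commutator_le]
    intro a _ b _
    rw [MonoidHom.mem_ker, map_commutatorElement, commutatorElement_eq_one_iff_commute]
    obtain ⟨m, hm⟩ := MonoidHom.map_cyclic (((MulAut.conjNormal (H := Q)).comp f) a).toMonoidHom
    obtain ⟨k, hk⟩ := MonoidHom.map_cyclic (((MulAut.conjNormal (H := Q)).comp f) b).toMonoidHom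
    have hm' : ∀ y, ((MulAut.conjNormal (H := Q)).comp f) a y = y ^ m := hm
    have hk' : ∀ y, ((MulAut.conjNormal (H := Q)).comp f) b y = y ^ k := hk
    refine MulEquiv.ext fun x => ?_
    rw [MulAut.mul_apply, MulAut.mul_apply, hk', hm', hm', hk', ← zpow_mul, ← zpow_mul, mul_comm]
  have hcent : ∀ a ∈ A, ∀ b ∈ B, Commute (f a) (f b) := by
    intro a ha b hb
    have := MulEquiv.congr_fun (MonoidHom.mem_ker.mp (hcomm (hAG ha))) ⟨f b, ⟨b, hb, rfl⟩⟩
    have h' : f a * f b * (f a)⁻¹ = f b := congrArg Subtype.val this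
    exact mul_inv_eq_iff_eq_mul.mp h'
  -- the image of `A` is abelian
  obtain ⟨⟨a₀⟩, hgen⟩ : (Nonempty A) ∧ ∃ a₀ : A, ∀ a : A, ∃ (n : ℤ) (b : G), b ∈ B ∧ (a : G) = (a₀ : G) ^ n * b := by
    refine ⟨⟨1⟩, ?_⟩
    obtain ⟨q, hq⟩ := h₁.exists_generator
    obtain ⟨a₀, rfl⟩ := QuotientGroup.mk_surjective q
    refine ⟨a₀, fun a => ?_⟩
    obtain ⟨n, hn⟩ := Subgroup.mem_zpowers_iff.mp (hq (a : A ⧸ B.subgroupOf A))
    refine ⟨n, ((a₀ : G) ^ n)⁻¹ * a, ?_, by group⟩
    rw [← QuotientGroup.mk_zpow, QuotientGroup.eq, Subgroup.mem_subgroupOf] at hn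
    simp only [Subgroup.coe_mul, InvMemClass.coe_inv, SubgroupClass.coe_zpow] at hn
    exact hn
  obtain ⟨a₀, hgen⟩ := hgen
  have habel : ∀ a ∈ A, ∀ c ∈ A, Commute (f a) (f c) := by
    intro a ha c hc
    obtain ⟨n, b, hb, e⟩ := hgen ⟨a, ha⟩
    obtain ⟨m, b', hb', e'⟩ := hgen ⟨c, hc⟩
    rw [show a = (a₀ : G) ^ n * b from e, show c = (a₀ : G) ^ m * b' from e', map_mul, map_mul, map_zpow, map_zpow]
    have hbb : Commute (f b) (f b') := hcent b (hBA hb) b' hb'
    exact ((((Commute.refl (f (a₀ : G))).zpow_left n).zpow_right m).mul_right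
      ((hcent _ a₀.2 b' hb').zpow_left n)).mul_left
      (((hcent _ a₀.2 b hb).symm.zpow_right m).mul_right hbb)
  refine le_antisymm ?_ hCB
  rw [← hAB, Subgroup.commutator_le]
  intro a ha c hc
  rw [← QuotientGroup.eq_one_iff]
  show f ⁅a, c⁆ = 1
  rw [map_commutatorElement, commutatorElement_eq_one_iff_commute]
  exact habel a ha c hc

end Cfsg.Agent.S0555
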