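import Cfsg.Statements.S0556
import Cfsg.Agent.Lib.FrobCompl.Conjugate
import Cfsg.Agent.Lib.FrobCompl.Fpf

set_option autoImplicit false
set_option linter.style.haveILetI false
open Cfsg

namespace Cfsg.Agent.S0556

open scoped Pointwise commutatorElement

universe u

theorem main {G : Type u} [Group G] [Finite G] (A : Subgroup G) (hA : IsCoatom A)
    [hAc : IsMulCommutative A] : derivedSeries G 3 = ⊥ := by
  classical
  have hcommA : ∀ a ∈ A, ∀ b ∈ A, a * b = b * a := fun a ha b hb =>
    congrArg Subtype.val (hAc.is_comm.comm (⟨a, ha⟩ : A) ⟨b, hb⟩)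
  have h3 : ∀ C : Subgroup G, C ≤ A → derivedSeries G 2 ≤ C → derivedSeries G 3 = ⊥ := by
    intro C hCA hle
    rw [derivedSeries_succ, Subgroup.commutator_eq_bot_iff_le_centralizer]
    exact fun x hx => Subgroup.mem_centralizer_iff.mpr fun y hy => hcommA y (hCA (hle hy)) x (hCA (hle hx))
  by_cases hn : A.Normal
  · haveI := hn
    -- the quotient has prime order
    have h1 : derivedSeries G 1 ≤ A := by
      rw [derivedSeries_one]
      rw [commutator_def, Subgroup.commutator_le]
      intro a _ b _
      by_cases ha : a ∈ A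
      · rw [commutatorElement_def, mul_assoc a b, mul_assoc a (b * a⁻¹)]
        exact A.mul_mem ha (hn.conj_mem _ (A.inv_mem ha) b)
      have htop : A ⊔ Subgroup.zpowers a = ⊤ := hA.2 _ (lt_of_le_of_ne le_sup_left fun e =>
        ha (e ▸ Subgroup.mem_sup_right (Subgroup.mem_zpowers a)))
      obtain ⟨u, hu, z, hz, rfl⟩ := Subgroup.mem_sup_of_normal_left.mp
        (show b ∈ A ⊔ Subgroup.zpowers a by rw [htop]; trivial)
      obtain ⟨i, rfl⟩ := Subgroup.mem_zpowers_iff.mp hz
      have : ⁅a, u * a ^ i⁆ = (a * u * a⁻¹) * u⁻¹ := by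
        rw [commutatorElement_def]; group
      rw [this]
      exact A.mul_mem (hn.conj_mem u hu a) (A.inv_mem hu)
    refine h3 A le_rfl ?_
    exact le_trans (derivedSeries_antitone G (by omega : 1 ≤ 2)) h1
  set C := A.normalCore
  haveI hCn : C.Normal := Subgroup.normalCore_normal A
  have hCA : C ≤ A := Subgroup.normalCore_le A
  have hnorm : Subgroup.normalizer (A : Set G) = A := by
    rcases lt_or_eq_of_le (Subgroup.le_normalizer (H := A)) with e | e
    · exact absurd (Subgroup.normalizer_eq_top_iff.mp (hA.2 _ e)) hn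
    · exact e.symm
  set f := QuotientGroup.mk' C
  have hf : Function.Surjective f := QuotientGroup.mk'_surjective C
  set B := A.map f
  have hBcomap : B.comap f = A := by
    rw [Subgroup.comap_map_eq, QuotientGroup.ker_mk', sup_eq_left.mpr hCA]
  have hcent : ∀ x : G, x ∉ A → ∀ y : G, y ∈ A → x⁻¹ * y * x ∈ A → y ∈ C := by
    intro x hx y hy hy'
    set D := A ⊓ MulAut.conj x • A
    have hxA : MulAut.conj x • A ≠ A := fun e => hx (by
      rw [← hnorm, Subgroup.mem_normalizer_iff]
      intro z
      conv_rhs => rw [← e]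
      rw [CfsgLib.FrobCompl.mem_conj_smul]
      simp [mul_assoc])
    have htop : A ⊔ MulAut.conj x • A = ⊤ := hA.2 _ (lt_of_le_of_ne le_sup_left fun e => hxA
      (Subgroup.eq_of_le_of_card_ge (le_sup_right.trans e.symm.le)
        (Nat.card_congr (Subgroup.equivSMul (MulAut.conj x) A).toEquiv).le))
    have hcen : A ⊔ MulAut.conj x • A ≤ Subgroup.centralizer (D : Set G) := by
      refine sup_le (fun a ha => Subgroup.mem_centralizer_iff.mpr fun d hd => hcommA d hd.1 a ha) ?_
      intro a ha
      rw [Subgroup.mem_centralizer_iff]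
      intro d hd
      rw [CfsgLib.FrobCompl.mem_conj_smul] at ha
      have hd' := CfsgLib.FrobCompl.mem_conj_smul.mp hd.2
      have h1 := hcommA _ hd' _ ha
      calc d * a = x * ((x⁻¹ * d * x) * (x⁻¹ * a * x)) * x⁻¹ := by group
        _ = a * d := by rw [h1]; group
    rw [htop] at hcen
    haveI : D.Normal := ⟨fun d hd g => by
      have h1 := Subgroup.mem_centralizer_iff.mp (hcen (Subgroup.mem_top g)) d hd
      rw [show g * d * g⁻¹ = d by rw [← h1]; group]
      exact hd⟩
    exact (Subgroup.normal_le_normalCore.mpr (inf_le_left : D ≤ A))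
      ⟨hy, CfsgLib.FrobCompl.mem_conj_smul.mpr hy'⟩
  have hF : Cfsg.IsFrobeniusComplement B := by
    refine ⟨fun e => hn ?_, fun e => hA.1 ?_, fun g hg => ?_⟩
    · rw [Subgroup.map_eq_bot_iff, QuotientGroup.ker_mk'] at e
      rw [le_antisymm e hCA]
      exact hCn
    · rw [← hBcomap, e, Subgroup.comap_top]
    · obtain ⟨x, rfl⟩ := hf g
      rw [eq_bot_iff]
      rintro y ⟨⟨a, ha, rfl⟩, hy⟩
      have hx : x ∉ A := fun h => hg (Subgroup.mem_map_of_mem f h)
      have hy' : f (x⁻¹ * a * x) ∈ B := by
        simpa using CfsgLib.FrobCompl.mem_conj_smul.mp hy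
      have h2 : x⁻¹ * a * x ∈ B.comap f := hy'
      rw [hBcomap] at h2
      exact (QuotientGroup.eq_one_iff a).mpr (hcent x hx a ha h2)
  obtain ⟨N, -, hNn, hNc⟩ := CfsgLib.FrobCompl.exists_kernel_complement hF
  haveI := hNn
  haveI := CfsgLib.FrobCompl.kernel_isNilpotent hF hNn hNc
  have hN0 : N ≠ ⊥ := fun e => by
    rw [e] at hNc
    exact hF.2.1 (Subgroup.isComplement'_bot_left.mp hNc)
  -- the kernel is abelian
  have hNab : commutator N = ⊥ := by
    by_contra hc
    set N' := (commutator N).map N.subtype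
    haveI : N'.Normal := inferInstance
    have hN'0 : N' ≠ ⊥ := fun e =>
      hc ((Subgroup.map_eq_bot_iff_of_injective _ N.subtype_injective).mp e)
    have hlt : A < (N' ⊔ B).comap f := by
      refine lt_of_le_of_ne (hBcomap.symm.trans_le (Subgroup.comap_mono le_sup_right)) fun e => hN'0 ?_
      have h1 : N' ⊔ B = B := by
        rw [← Subgroup.map_comap_eq_self_of_surjective hf (N' ⊔ B), ← e]
      rw [← le_bot_iff, ← hNc.disjoint.eq_bot]
      exact le_inf (Subgroup.map_subtype_le _) (h1 ▸ le_sup_left)
    have htop : N' ⊔ B = ⊤ := by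
      rw [← Subgroup.map_comap_eq_self_of_surjective hf (N' ⊔ B), hA.2 _ hlt,
        Subgroup.map_top_of_surjective _ hf]
    have hN' : N' = N := by
      refine le_antisymm (Subgroup.map_subtype_le _) fun y hy => ?_
      obtain ⟨u, hu, b, hb, rfl⟩ := Subgroup.mem_sup_of_normal_left.mp
        (show y ∈ N' ⊔ B by rw [htop]; trivial)
      have hbN : b ∈ N ⊓ B := ⟨by
        have := N.mul_mem (N.inv_mem (Subgroup.map_subtype_le _ hu)) hy
        simpa using this, hb⟩
      rw [hNc.disjoint.eq_bot, Subgroup.mem_bot] at hbN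
      rw [hbN, mul_one]
      exact hu
    haveI : Nontrivial N := (Subgroup.nontrivial_iff_ne_bot N).mpr hN0
    exact (Group.IsSolvable.commutator_lt_top_of_nontrivial N).ne
      (Subgroup.map_injective N.subtype_injective
        (by rw [show (commutator N).map N.subtype = N from hN', ← MonoidHom.range_eq_map, Subgroup.range_subtype]))
  -- second derived subgroup lies in the core
  have hd1 : derivedSeries (G ⧸ C) 1 ≤ N := by
    rw [derivedSeries_one, commutator_def, Subgroup.commutator_le]
    intro a _ b _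
    obtain ⟨k, hk, u, hu, rfl⟩ := CfsgLib.FrobCompl.exists_kernel_mul hNc a
    obtain ⟨l, hl, v, hv, rfl⟩ := CfsgLib.FrobCompl.exists_kernel_mul hNc b
    have huv : u * v = v * u := by
      obtain ⟨u, hu', rfl⟩ := hu
      obtain ⟨v, hv', rfl⟩ := hv
      rw [← map_mul, hcommA u hu' v hv', map_mul]
    rw [← QuotientGroup.eq_one_iff]
    show QuotientGroup.mk' N ⁅k * u, l * v⁆ = 1
    have ek : QuotientGroup.mk' N k = 1 := (QuotientGroup.eq_one_iff k).mpr hk
    have el : QuotientGroup.mk' N l = 1 := (QuotientGroup.eq_one_iff l).mpr hl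
    rw [map_commutatorElement, map_mul, map_mul, ek, el, one_mul, one_mul,
      ← map_commutatorElement, commutatorElement_eq_one_iff_mul_comm.mpr huv, map_one]
  have hd2 : derivedSeries (G ⧸ C) 2 = ⊥ := by
    rw [derivedSeries_succ, Subgroup.commutator_eq_bot_iff_le_centralizer]
    intro x hx
    rw [Subgroup.mem_centralizer_iff]
    intro y hy
    have h1 : ⁅(⟨y, hd1 hy⟩ : N), ⟨x, hd1 hx⟩⁆ ∈ commutator N :=
      Subgroup.commutator_mem_commutator (Subgroup.mem_top _) (Subgroup.mem_top _)
    rw [hNab, Subgroup.mem_bot, commutatorElement_eq_one_iff_mul_comm] at h1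
    exact congrArg Subtype.val h1
  refine h3 C hCA fun x hx => ?_
  have h1 := map_derivedSeries_le_derivedSeries f 2 (Subgroup.mem_map_of_mem f hx)
  rw [hd2, Subgroup.mem_bot] at h1
  exact (QuotientGroup.eq_one_iff x).mp h1

/-- If a finite group has a maximal subgroup that is abelian, then the third term of its derived series is trivial (so the group is solvable of derived length at most three). -/
theorem result {G : Type*} [Group G] [Finite G] (A : Subgroup G) (hA : IsCoatom A) [IsMulCommutative A] : derivedSeries G 3 = ⊥ := by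
  exact main A hA

end Cfsg.Agent.S0556
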