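import Cfsg.Statements.S0557
import Mathlib
import Cfsg.Agent.Lib.Coprime.Action

set_option autoImplicit false
set_option linter.style.haveILetI false
open Cfsg
open scoped Pointwise commutatorElement

namespace Cfsg.Agent.S0557

universe u

theorem main (n : ℕ) : ∀ {G : Type u} [Group G] [Finite G] (H : Subgroup G),
    (Nat.card H).Coprime H.index → (fun K : Subgroup G => Subgroup.focalSubgroup K)^[n] H = ⊥ →
    ∃ N : Subgroup G, N.Normal ∧ Subgroup.IsComplement' N H := by
  induction n with
  | zero =>
    intro G _ _ H _ h
    rw [Function.iterate_zero_apply] at h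
    exact ⟨⊤, inferInstance, Subgroup.isComplement'_top_left.mpr h⟩
  | succ n ih =>
    intro G _ _ H hHall h
    rw [Function.iterate_succ_apply] at h
    set F := H.focalSubgroup with hF
    set K := H.transferFocal.ker with hK
    have hFH : F ≤ H := Subgroup.focalSubgroup_le (H := H)
    have hpow : ∀ x : H, H.transferFocal x = (x : H ⧸ H.focalSubgroupOf) ^ H.index :=
      fun x => Subgroup.transferFocal_eq_pow H x
    have hcopQ : (Nat.card (H ⧸ H.focalSubgroupOf)).Coprime H.index :=
      hHall.coprime_dvd_left (Subgroup.card_quotient_dvd_card _)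
    have hKH : K ⊓ H = F := by
      ext x
      constructor
      · rintro ⟨hx, hxH⟩
        have h1 := hpow ⟨x, hxH⟩
        rw [show H.transferFocal ((⟨x, hxH⟩ : H) : G) = 1 from hx] at h1
        have h2 := Nat.eq_one_of_dvd_coprimes hcopQ
          (orderOf_dvd_natCard ((⟨x, hxH⟩ : H) : H ⧸ H.focalSubgroupOf))
          (orderOf_dvd_of_pow_eq_one h1.symm)
        rw [orderOf_eq_one_iff, QuotientGroup.eq_one_iff] at h2
        rw [hF, ← Subgroup.map_focalSubgroupOf]
        exact ⟨_, h2, rfl⟩
      · intro hx
        have hxH := hFH hx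
        refine ⟨?_, hxH⟩
        show H.transferFocal ((⟨x, hxH⟩ : H) : G) = 1
        rw [hpow]
        have hmem : (⟨x, hxH⟩ : H) ∈ H.focalSubgroupOf := by
          have hx' : x ∈ H.focalSubgroupOf.map H.subtype := Subgroup.map_focalSubgroupOf H ▸ hx
          obtain ⟨y, hy, e⟩ := hx'
          rwa [show (⟨x, hxH⟩ : H) = y from Subtype.ext e.symm]
        rw [(QuotientGroup.eq_one_iff _).mpr hmem, one_pow]
    have hsup : K ⊔ H = ⊤ := by
      rw [Subgroup.eq_top_iff']
      intro g
      obtain ⟨q, hq⟩ := (powCoprime hcopQ).surjective (H.transferFocal g)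
      obtain ⟨y, rfl⟩ := QuotientGroup.mk_surjective q
      have hq' : (y : H ⧸ H.focalSubgroupOf) ^ H.index = H.transferFocal g := hq
      rw [← hpow] at hq'
      have : g * (y : G)⁻¹ ∈ K := by
        rw [hK, MonoidHom.mem_ker, map_mul, map_inv, hq', mul_inv_cancel]
      simpa using Subgroup.mul_mem _ (Subgroup.mem_sup_left (T := H) this) (Subgroup.mem_sup_right (S := K) y.2)
    haveI : K.Normal := MonoidHom.normal_ker _
    have hcard : Nat.card K = H.index * Nat.card F := by
      have h1 := CfsgLib.Coprime.card_sup_mul_card_inf (K := K) (S := H) Subgroup.le_normalizer_of_normal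
      rw [hsup, Subgroup.card_top, hKH, ← H.card_mul_index] at h1
      exact Nat.eq_of_mul_eq_mul_left (Nat.card_pos (α := H)) (by rw [← mul_assoc, mul_comm (Nat.card H) (Nat.card K)]; exact h1.symm)
    set F' := F.subgroupOf K with hF'
    have hFK : F ≤ K := hKH ▸ inf_le_left
    have hcF : Nat.card F' = Nat.card F := Nat.card_congr (Subgroup.subgroupOfEquivOfLe hFK).toEquiv
    have hidx : F'.index = H.index := by
      have h1 := F'.card_mul_index
      rw [hcard, hcF, mul_comm H.index] at h1
      exact Nat.eq_of_mul_eq_mul_left (Nat.card_pos (α := F)) h1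
    have hHall' : (Nat.card F').Coprime F'.index := by
      rw [hcF, hidx]
      exact hHall.coprime_dvd_left (Subgroup.card_dvd_of_le hFH)
    have hiter : ∀ (m : ℕ) (X : Subgroup K) (Y : Subgroup G), X.map K.subtype ≤ Y →
        ((fun K' : Subgroup K => Subgroup.focalSubgroup K')^[m] X).map K.subtype ≤
          (fun K' : Subgroup G => Subgroup.focalSubgroup K')^[m] Y := by
      intro m
      induction m with
      | zero => exact fun X Y hXY => hXY
      | succ m ihm =>
        intro X Y hXY
        rw [Function.iterate_succ_apply, Function.iterate_succ_apply]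
        refine ihm _ _ ?_
        rw [Subgroup.focalSubgroup_def, MonoidHom.map_closure, Subgroup.closure_le]
        rintro _ ⟨g, ⟨hg, x, hx, w, rfl⟩, rfl⟩
        rw [Subgroup.focalSubgroup_def]
        exact Subgroup.subset_closure ⟨hXY (Subgroup.mem_map_of_mem _ hg), K.subtype x,
          hXY (Subgroup.mem_map_of_mem _ hx), K.subtype w, map_commutatorElement _ _ _⟩
    have hbot : (fun K' : Subgroup K => Subgroup.focalSubgroup K')^[n] F' = ⊥ := by
      have h1 := hiter n F' F (Subgroup.map_subgroupOf_eq_of_le hFK).le
      rw [h, le_bot_iff, Subgroup.map_eq_bot_iff_of_injective _ K.subtype_injective] at h1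
      exact h1
    obtain ⟨N, hN, hc⟩ := ih F' hHall' hbot
    haveI := hN
    have hNcard : Nat.card N = H.index := by rw [← hidx, hc.index_eq_card]
    haveI : N.Characteristic := by
      rw [Subgroup.characteristic_iff_map_le]
      rintro φ _ ⟨x, hx, rfl⟩
      have hcop : (Nat.card N).Coprime N.index := by
        rw [hc.symm.index_eq_card, hNcard, ← hidx]
        exact hHall'.symm
      have hy : (φ x : K) ^ Nat.card N = 1 := by
        rw [← map_pow, show x ^ Nat.card N = 1 from congrArg Subtype.val (pow_card_eq_one' (x := (⟨x, hx⟩ : N))),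
          map_one]
      show φ x ∈ N
      rw [← QuotientGroup.eq_one_iff, ← orderOf_eq_one_iff]
      refine Nat.eq_one_of_dvd_coprimes hcop (orderOf_dvd_of_pow_eq_one ?_) (orderOf_dvd_natCard _)
      rw [← QuotientGroup.mk_pow, hy, QuotientGroup.mk_one]
    refine ⟨N.map K.subtype, ConjAct.normal_of_characteristic_of_normal, ?_⟩
    refine Subgroup.isComplement'_of_card_mul_and_disjoint ?_ ?_
    · rw [Subgroup.card_map_of_injective K.subtype_injective, hNcard, mul_comm, H.card_mul_index]
    · rw [disjoint_iff, eq_bot_iff]
      rintro _ ⟨⟨x, hx, rfl⟩, hxH⟩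
      have hxF : (x : G) ∈ F := hKH ▸ ⟨x.2, hxH⟩
      have : x ∈ N ⊓ F' := ⟨hx, hxF⟩
      rw [hc.disjoint.eq_bot, Subgroup.mem_bot] at this
      rw [Subgroup.mem_bot, this, map_one]

/-- Let H be a subgroup of a finite group G with order coprime to its index. If iterating the focal-subgroup construction starting from H reaches the trivial subgroup after finitely many steps, then H has a normal complement in G. -/
theorem result {G : Type*} [Group G] [Finite G] (H : Subgroup G) (hHall : (Nat.card H).Coprime H.index) (n : ℕ) (hfoc : (fun K : Subgroup G => Subgroup.focalSubgroup K)^[n] H = ⊥) : ∃ N : Subgroup G, N.Normal ∧ Subgroup.IsComplement' N H := by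
  exact main n H hHall hfoc

end Cfsg.Agent.S0557
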