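import Cfsg.Statements.S0558
import Cfsg.Agent.Lib.Transfer.Hall
import Cfsg.Agent.Lib.Coprime.Action

set_option autoImplicit false
set_option linter.style.haveILetI false
open Cfsg

namespace Cfsg.Agent.S0558

open CfsgLib.Transfer
open scoped Pointwise
open CfsgLib.Coprime (not_dvd_relIndex_of_normalizer)

universe u

variable {G : Type u} [Group G]

theorem exists_complement_of_no_p_fusion [Finite G] (H : Subgroup G) [Group.IsNilpotent H]
    (hH : Nat.Coprime (Nat.card H) H.index)
    (h : ∀ (p : ℕ) (_ : Fact p.Prime), p ∣ Nat.card H → ∀ (S : Sylow p H), ∀ x ∈ (S : Subgroup H).map H.subtype,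
      ∀ g : G, g * x * g⁻¹ ∈ (S : Subgroup H).map H.subtype → ∃ k ∈ H, k * x * k⁻¹ = g * x * g⁻¹) :
    ∃ N : Subgroup G, N.Normal ∧ N.IsComplement' H := by
  set N := Subgroup.closure {g : G | (orderOf g).Coprime (Nat.card H)} with hN
  have hnorm : N.Normal := by
    refine ⟨fun x hx g => ?_⟩
    have : N.map (MulAut.conj g).toMonoidHom ≤ N := by
      rw [hN, MonoidHom.map_closure]
      refine Subgroup.closure_mono ?_
      rintro _ ⟨y, hy, rfl⟩
      simpa [orderOf_conj] using hy
    exact this ⟨x, hx, rfl⟩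
  have hcop : (Nat.card N).Coprime (Nat.card H) := by
    refine Nat.coprime_of_dvd fun p hp hpN hpH => ?_
    haveI := Fact.mk hp
    obtain ⟨S⟩ := (inferInstance : Nonempty (Sylow p H))
    obtain ⟨P, hP⟩ := exists_sylow_le_of_hall hH hpH S
    have hc : Cfsg.HasNormalPComplement p G := by
      refine hasNormalPComplement_of_no_fusion P fun x hx g hgx => ?_
      rw [hP] at hx hgx ⊢
      obtain ⟨⟨x, hxH⟩, hxS, rfl⟩ := hx
      obtain ⟨⟨y, hyH⟩, hyS, hy⟩ := hgx
      simp only [Subgroup.coe_subtype] at hy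
      obtain ⟨k, hk, hkx⟩ := h p inferInstance hpH S x ⟨⟨x, hxH⟩, hxS, rfl⟩ g ⟨⟨y, hyH⟩, hyS, hy⟩
      haveI := sylow_normal_of_isNilpotent S
      have hkmem : (⟨k, hk⟩ : H) ∈ (S : Subgroup H) ⊔ Subgroup.centralizer ((S : Subgroup H) : Set H) := by
        rw [sylow_sup_centralizer_eq_top]; trivial
      obtain ⟨z, hz, c, hc, hzc⟩ := Subgroup.mem_sup_of_normal_left.mp hkmem
      refine ⟨(z : G), ⟨z, hz, rfl⟩, ?_⟩
      have e1 : x * (c : G) = (c : G) * x :=
        congrArg Subtype.val (Subgroup.mem_centralizer_iff.mp hc ⟨x, hxH⟩ hxS)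
      have e2 : k = (z : G) * (c : G) := (congrArg Subtype.val hzc).symm
      change (z : G) * x * (z : G)⁻¹ = g * x * g⁻¹
      rw [← hkx, e2]
      calc (z : G) * x * (z : G)⁻¹ = (z : G) * (x * (c : G)) * (c : G)⁻¹ * (z : G)⁻¹ := by group
        _ = (z : G) * ((c : G) * x) * (c : G)⁻¹ * (z : G)⁻¹ := by rw [e1]
        _ = _ := by group
    refine hasNormalPComplement_iff_pResidual.mp hc (hpN.trans (Subgroup.card_dvd_of_le ?_))
    rw [hN, Subgroup.closure_le]
    exact fun g hg => mem_pResidual_of_coprime (hg.coprime_dvd_right hpH)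
  have hidx : N.index.Coprime H.index := by
    refine Nat.coprime_of_dvd fun q hq hqN hqH => ?_
    haveI := Fact.mk hq
    obtain ⟨Q⟩ := (inferInstance : Nonempty (Sylow q G))
    refine Q.not_dvd_index (hqN.trans (Subgroup.index_dvd_of_le fun x hx => ?_))
    refine Subgroup.subset_closure ?_
    obtain ⟨k, hk⟩ := IsPGroup.iff_orderOf.mp Q.2 ⟨x, hx⟩
    rw [← Subgroup.orderOf_coe] at hk
    rw [Set.mem_setOf_eq, hk]
    refine Nat.Coprime.pow_left _ (hq.coprime_iff_not_dvd.mpr fun hd => ?_)
    exact hq.ne_one (Nat.eq_one_of_dvd_coprimes hH hd hqH)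
  have hcard : Nat.card N = H.index := by
    refine Nat.dvd_antisymm ?_ ?_
    · refine hcop.dvd_of_dvd_mul_left ?_
      rw [Subgroup.card_mul_index]
      exact Subgroup.card_subgroup_dvd_card N
    · refine hidx.symm.dvd_of_dvd_mul_right ?_
      rw [Subgroup.card_mul_index]
      exact H.index_dvd_card
  exact ⟨N, hnorm, Subgroup.isComplement'_of_coprime
    (by rw [hcard, mul_comm, Subgroup.card_mul_index]) hcop⟩

/-- Let H be a subgroup of a finite group G that is not a Sylow subgroup of G for any prime, and suppose that for every prime p dividing the order of H and every Sylow p-subgroup P of H the normalizer of P in G is exactly H. Then some normal subgroup of G is a complement to H. -/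
theorem result {G : Type*} [Group G] [Finite G] (H : Subgroup G) (hnot : ∀ p : ℕ, p.Prime → ∀ P : Sylow p G, (P : Subgroup G) ≠ H) (hnorm : ∀ p : ℕ, p.Prime → p ∣ Nat.card H → ∀ P : Sylow p H, Subgroup.normalizer (((P : Subgroup H).map H.subtype : Subgroup G) : Set G) = H) : ∃ N : Subgroup G, N.Normal ∧ Subgroup.IsComplement' N H := by
  have hPsyl : ∀ p (_ : Fact p.Prime), p ∣ Nat.card H → ∀ P : Sylow p H,
      ∃ S : Sylow p G, (S : Subgroup G) = (P : Subgroup H).map H.subtype := by
    intro p hp hpd P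
    set P' := (P : Subgroup H).map H.subtype with hP'
    obtain ⟨S, hS⟩ := not_dvd_relIndex_of_normalizer (K := (⊤ : Subgroup G)) le_top
      (P.2.map H.subtype) (fun Q hQ hPQ _ hQN => by
        rw [hnorm p hp.out hpd P] at hQN
        refine le_antisymm ?_ hPQ
        have h1 : Q.subgroupOf H = (P : Subgroup H) := P.3 (hQ.comap_of_injective H.subtype H.subtype_injective)
          (fun z hz => hPQ ⟨z, hz, rfl⟩)
        rw [← Subgroup.map_subgroupOf_eq_of_le hQN, h1])
    refine ⟨(S.2.map (⊤ : Subgroup G).subtype).toSylow ?_, ?_⟩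
    · rw [Subgroup.index_map_subtype, Subgroup.index_top, mul_one]
      exact S.not_dvd_index
    · exact hS
  haveI hnil : Group.IsNilpotent H := by
    have htfae : Group.IsNilpotent H ↔ ∀ (q : ℕ) (_hq : Fact q.Prime) (P : Sylow q H), (P : Subgroup H).Normal :=
      (Group.isNilpotent_of_finite_tfae (G := H)).out 0 3
    refine htfae.mpr fun q hq P => ?_
    by_cases hqd : q ∣ Nat.card H
    · refine ⟨fun z hz k => ?_⟩
      have h1 : (k : G) ∈ Subgroup.normalizer (((P : Subgroup H).map H.subtype : Subgroup G) : Set G) := by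
        rw [hnorm q hq.out hqd P]; exact k.2
      obtain ⟨w, hw, hwe⟩ := (Subgroup.mem_normalizer_iff.mp h1 (z : G)).mp ⟨z, hz, rfl⟩
      have : w = k * z * k⁻¹ := Subtype.ext hwe
      exact this ▸ hw
    · have : (P : Subgroup H) = ⊥ := Subgroup.eq_bot_of_card_eq _ (by
        rw [P.card_eq_multiplicity, Nat.factorization_eq_zero_of_not_dvd hqd, pow_zero])
      rw [this]; infer_instance
  have hHall : (Nat.card H).Coprime H.index := by
    refine Nat.coprime_of_dvd fun p hp hpH hpI => ?_
    haveI := Fact.mk hp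
    obtain ⟨S, hS⟩ := hPsyl p inferInstance hpH default
    refine S.not_dvd_index (hpI.trans ?_)
    rw [hS, Subgroup.index_map_subtype]
    exact dvd_mul_left _ _
  have htwo : ∀ p, p.Prime → ∃ q, q.Prime ∧ q ∣ Nat.card H ∧ q ≠ p := by
    intro p hp
    haveI := Fact.mk hp
    by_contra hne
    push Not at hne
    by_cases hpH : p ∣ Nat.card H
    · obtain ⟨S, hS⟩ := hPsyl p inferInstance hpH default
      refine hnot p hp S ?_
      rw [hS]
      refine Subgroup.eq_of_le_of_card_ge (Subgroup.map_subtype_le _) (le_of_eq ?_)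
      rw [Subgroup.card_map_of_injective H.subtype_injective, Sylow.card_eq_multiplicity]
      obtain ⟨n, h2⟩ : ∃ n, Nat.card H = p ^ n :=
        ⟨_, Nat.eq_prime_pow_of_unique_prime_dvd (Nat.card_pos (α := H)).ne' fun {d} hd hdd => hne d hd hdd⟩
      rw [h2, hp.factorization_pow, Finsupp.single_eq_same]
    · have h1 : Nat.card H = 1 := by
        by_contra h
        obtain ⟨d, hd, hdd⟩ := Nat.exists_prime_and_dvd h
        exact hpH (hne d hd hdd ▸ hdd)
      obtain ⟨r, hr, hrp⟩ := Nat.exists_infinite_primes (Nat.card G + 1)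
      haveI := Fact.mk hrp
      refine hnot r hrp default (Eq.trans (Subgroup.eq_bot_of_card_eq _ ?_) (Subgroup.eq_bot_of_card_eq H h1).symm)
      rw [Sylow.card_eq_multiplicity, Nat.factorization_eq_zero_of_not_dvd (fun hd => ?_), pow_zero]
      have := Nat.le_of_dvd Nat.card_pos hd
      omega
  refine exists_complement_of_no_p_fusion H hHall fun p hp hpH S x hx g hgx => ?_
  obtain ⟨q, hq, hqH, hqp⟩ := htwo p hp.out
  haveI := Fact.mk hq
  obtain ⟨R⟩ : Nonempty (Sylow q H) := inferInstance
  obtain ⟨Q, hQ⟩ := hPsyl q inferInstance hqH R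
  haveI := sylow_normal_of_isNilpotent S
  haveI := sylow_normal_of_isNilpotent R
  have hcomm : ∀ z ∈ (S : Subgroup H).map H.subtype, (Q : Subgroup G) ≤ Subgroup.centralizer ({z} : Set G) := by
    rintro z ⟨s, hs, rfl⟩
    rw [hQ]
    rintro _ ⟨r, hr, rfl⟩
    refine Subgroup.mem_centralizer_singleton_iff.mpr ?_
    exact congrArg Subtype.val (Subgroup.commute_of_normal_of_disjoint _ _ inferInstance inferInstance
      (IsPGroup.disjoint_of_ne p q hqp.symm _ _ S.2 R.2) s r hs hr).symm
  set y := g * x * g⁻¹ with hy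
  set C := Subgroup.centralizer ({y} : Set G)
  have hQC : (Q : Subgroup G) ≤ C := hcomm y hgx
  have hgQ : ((g • Q : Sylow q G) : Subgroup G) ≤ C := by
    intro z hz
    rw [Sylow.coe_subgroup_smul, Subgroup.mem_pointwise_smul_iff_inv_smul_mem, ← map_inv] at hz
    simp only [MulAut.smul_def, MulAut.conj_apply, inv_inv] at hz
    refine Subgroup.mem_centralizer_singleton_iff.mpr ?_
    have h4 := Subgroup.mem_centralizer_singleton_iff.mp (hcomm x hx hz)
    calc z * y = g * ((g⁻¹ * z * g) * x) * g⁻¹ := by rw [hy]; group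
      _ = g * (x * (g⁻¹ * z * g)) * g⁻¹ := by rw [h4]
      _ = y * z := by rw [hy]; group
  obtain ⟨c, hc⟩ := MulAction.exists_smul_eq C ((g • Q).subtype hgQ) (Q.subtype hQC)
  have hN : (c : G) * g ∈ Subgroup.normalizer ((Q : Subgroup G) : Set G) := by
    rw [CfsgLib.Coprime.mem_normalizer_iff_conj_smul, ← Sylow.coe_subgroup_smul]
    rw [Sylow.smul_subtype] at hc
    have h5 := congrArg (Subgroup.map C.subtype) (congrArg Sylow.toSubgroup hc)
    simp only [Sylow.coe_subtype] at h5
    rw [Subgroup.map_subgroupOf_eq_of_le hQC, Subgroup.map_subgroupOf_eq_of_le] at h5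
    · rw [mul_smul]; exact h5
    · intro z hz
      rw [Subgroup.smul_def, Sylow.coe_subgroup_smul] at hz
      obtain ⟨w, hw, rfl⟩ := hz
      exact mul_mem (mul_mem c.2 (hgQ hw)) (inv_mem c.2)
  rw [hQ, hnorm q hq hqH R] at hN
  refine ⟨(c : G) * g, hN, ?_⟩
  have h6 : (c : G) * y = y * c := Subgroup.mem_centralizer_singleton_iff.mp c.2
  calc (c : G) * g * x * ((c : G) * g)⁻¹ = (c : G) * y * (c : G)⁻¹ := by rw [hy]; group
    _ = y := by rw [h6, mul_inv_cancel_right]
end Cfsg.Agent.S0558
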