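import Cfsg.Statements.S0567
import Mathlib

set_option autoImplicit false
set_option linter.style.haveILetI false
open Cfsg
open scoped commutatorElement Pointwise

namespace Cfsg.Agent.S0567

variable {G : Type*} [Group G]

theorem normalizes_commutator (K H : Subgroup G) :
    K ≤ Subgroup.normalizer ((⁅K, H⁆ : Subgroup G) : Set G) := by
  intro x hx
  have key : ∀ g ∈ K, ∀ u ∈ ⁅K, H⁆, g * u * g⁻¹ ∈ ⁅K, H⁆ := by
    intro g hg u hu
    refine Subgroup.closure_induction (p := fun y _ => g * y * g⁻¹ ∈ ⁅K, H⁆) ?_ ?_ ?_ ?_ hu
    · rintro _ ⟨a, ha, b, hb, rfl⟩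
      rw [show g * ⁅a, b⁆ * g⁻¹ = ⁅g * a, b⁆ * ⁅g, b⁆⁻¹ by simp only [commutatorElement_def]; group]
      exact Subgroup.mul_mem _ (Subgroup.commutator_mem_commutator (K.mul_mem hg ha) hb)
        (Subgroup.inv_mem _ (Subgroup.commutator_mem_commutator hg hb))
    · simp
    · intro a b _ _ ha hb
      rw [show g * (a * b) * g⁻¹ = (g * a * g⁻¹) * (g * b * g⁻¹) by group]
      exact Subgroup.mul_mem _ ha hb
    · intro a _ ha
      rw [show g * a⁻¹ * g⁻¹ = (g * a * g⁻¹)⁻¹ by group]
      exact Subgroup.inv_mem _ ha
  rw [Subgroup.mem_normalizer_iff]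
  intro u
  refine ⟨key x hx u, fun h => ?_⟩
  simpa [mul_assoc] using key x⁻¹ (K.inv_mem hx) _ h

abbrev iter (H : Subgroup G) (m : ℕ) : Subgroup G := (fun K : Subgroup G => ⁅K, H⁆)^[m] ⊤

theorem iter_succ (H : Subgroup G) (m : ℕ) : iter H (m + 1) = ⁅iter H m, H⁆ :=
  Function.iterate_succ_apply' _ _ _

theorem iter_mono {H K : Subgroup G} (h : H ≤ K) : ∀ m, iter H m ≤ iter K m := by
  intro m
  induction m with
  | zero => exact le_rfl
  | succ m ih => rw [iter_succ, iter_succ]; exact Subgroup.commutator_mono ih h

theorem iff_exists (H : Subgroup G) : H.IsSubnormal ↔ ∃ m : ℕ, iter H m ≤ H := by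
  constructor
  · intro hs
    induction hs with
    | top => exact ⟨0, le_top⟩
    | step H K h_le hK hN ih =>
      obtain ⟨m, hm⟩ := ih
      refine ⟨m + 1, ?_⟩
      rw [iter_succ]
      refine le_trans (Subgroup.commutator_mono ((iter_mono h_le m).trans hm) le_rfl) ?_
      rw [Subgroup.normal_subgroupOf_iff_le_normalizer h_le] at hN
      rw [Subgroup.commutator_le]
      intro a ha b hb
      rw [commutatorElement_def]
      exact H.mul_mem ((Subgroup.mem_normalizer_iff.mp (hN ha) b).mp hb) (H.inv_mem hb)
  · rintro ⟨m, hm⟩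
    have hnorm : ∀ i, H ≤ Subgroup.normalizer ((iter H i : Subgroup G) : Set G) := by
      intro i
      induction i with
      | zero =>
        intro x _
        rw [Subgroup.mem_normalizer_iff]
        simp [iter]
      | succ i ih =>
        rw [iter_succ]
        intro h hh
        have key : ∀ g ∈ H, ∀ u ∈ ⁅iter H i, H⁆, g * u * g⁻¹ ∈ ⁅iter H i, H⁆ := by
          intro g hg u hu
          refine Subgroup.closure_induction (p := fun y _ => g * y * g⁻¹ ∈ ⁅iter H i, H⁆) ?_ ?_ ?_ ?_ hu
          · rintro _ ⟨a, ha, b, hb, rfl⟩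
            rw [show g * ⁅a, b⁆ * g⁻¹ = ⁅g * a * g⁻¹, g * b * g⁻¹⁆ by
              simp only [commutatorElement_def]; group]
            exact Subgroup.commutator_mem_commutator ((Subgroup.mem_normalizer_iff.mp (ih hg) a).mp ha)
              (H.mul_mem (H.mul_mem hg hb) (H.inv_mem hg))
          · simp
          · intro a b _ _ ha hb
            rw [show g * (a * b) * g⁻¹ = (g * a * g⁻¹) * (g * b * g⁻¹) by group]
            exact Subgroup.mul_mem _ ha hb
          · intro a _ ha
            rw [show g * a⁻¹ * g⁻¹ = (g * a * g⁻¹)⁻¹ by group]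
            exact Subgroup.inv_mem _ ha
        rw [Subgroup.mem_normalizer_iff]
        intro u
        refine ⟨key h hh u, fun hu => ?_⟩
        simpa [mul_assoc] using key h⁻¹ (H.inv_mem hh) _ hu
    have hchain : ∀ i, (H ⊔ iter H i).IsSubnormal := by
      intro i
      induction i with
      | zero => simp [iter]
      | succ i ih =>
        have hle : H ⊔ iter H (i + 1) ≤ H ⊔ iter H i := by
          refine sup_le le_sup_left ?_
          rw [iter_succ, Subgroup.commutator_le]
          intro a ha b hb
          rw [commutatorElement_def]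
          exact Subgroup.mul_mem _ (Subgroup.mul_mem _ (Subgroup.mul_mem _ (Subgroup.mem_sup_right ha)
            (Subgroup.mem_sup_left hb)) (Subgroup.inv_mem _ (Subgroup.mem_sup_right ha)))
            (Subgroup.inv_mem _ (Subgroup.mem_sup_left hb))
        refine Subgroup.IsSubnormal.step _ _ hle ih ?_
        rw [Subgroup.normal_subgroupOf_iff_le_normalizer hle]
        refine sup_le (le_sup_left.trans Subgroup.le_normalizer) ?_
        intro x hx
        have key : ∀ g ∈ iter H i, ∀ u ∈ H ⊔ iter H (i + 1), g * u * g⁻¹ ∈ H ⊔ iter H (i + 1) := by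
          intro g hg u hu
          rw [Subgroup.sup_eq_closure] at hu
          refine Subgroup.closure_induction (p := fun y _ => g * y * g⁻¹ ∈ H ⊔ iter H (i + 1)) ?_ ?_ ?_ ?_ hu
          · rintro y (hy | hy)
            · rw [show g * y * g⁻¹ = ⁅g, y⁆ * y by simp [commutatorElement_def]]
              refine Subgroup.mul_mem _ (Subgroup.mem_sup_right ?_) (Subgroup.mem_sup_left hy)
              rw [iter_succ]
              exact Subgroup.commutator_mem_commutator hg hy
            · refine Subgroup.mem_sup_right ?_
              rw [iter_succ]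
              replace hy : y ∈ iter H (i + 1) := hy
              rw [iter_succ] at hy
              exact (Subgroup.mem_normalizer_iff.mp (normalizes_commutator _ H hg) y).mp hy
          · simp
          · intro a b _ _ ha hb
            rw [show g * (a * b) * g⁻¹ = (g * a * g⁻¹) * (g * b * g⁻¹) by group]
            exact Subgroup.mul_mem _ ha hb
          · intro a _ ha
            rw [show g * a⁻¹ * g⁻¹ = (g * a * g⁻¹)⁻¹ by group]
            exact Subgroup.inv_mem _ ha
        rw [Subgroup.mem_normalizer_iff]
        intro u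
        refine ⟨key x hx u, fun hu => ?_⟩
        simpa [mul_assoc] using key x⁻¹ (Subgroup.inv_mem _ hx) _ hu
    have := hchain m
    rwa [sup_eq_left.mpr hm] at this

/-- A subgroup H of a group G is subnormal exactly when, for some m, the subgroup obtained from G by taking the commutator with H m times in succession is contained in H. -/
theorem result {G : Type*} [Group G] (H : Subgroup G) : H.IsSubnormal ↔ ∃ m : ℕ, (fun K : Subgroup G => ⁅K, H⁆)^[m] ⊤ ≤ H := by
  exact iff_exists H

end Cfsg.Agent.S0567
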