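import Cfsg.Statements.S0568
import Mathlib
import Cfsg.Agent.Lib.Hall.Chief

set_option autoImplicit false
open Cfsg

namespace Cfsg.Agent.S0568

/-- Let D be the system normalizer of a Hall complement system of a finite solvable group G, and let A < B be normal subgroups with no normal subgroup of G strictly between them (a chief factor). If G centralizes B modulo A then B ≤ A ⊔ D (D covers the factor); otherwise B ∩ D ≤ A (D avoids it). -/
theorem result {G : Type*} [Group G] [Finite G] [Group.IsSolvable G] (K : Nat.Primes → Subgroup G) (hK : Cfsg.IsComplementSystem K) (A B : Subgroup G) [A.Normal] [B.Normal] (hAB : A < B) (hchief : ∀ N : Subgroup G, N.Normal → A ≤ N → N ≤ B → N = A ∨ N = B) : (⁅B, (⊤ : Subgroup G)⁆ ≤ A → B ≤ A ⊔ Cfsg.systemNormalizer K) ∧ (¬ ⁅B, (⊤ : Subgroup G)⁆ ≤ A → B ⊓ Cfsg.systemNormalizer K ≤ A) := by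
  classical
  set f := QuotientGroup.mk' A
  have hsurj : Function.Surjective f := QuotientGroup.mk'_surjective A
  haveI : Group.IsSolvable (G ⧸ A) := Group.isSolvable_of_surjective hsurj
  set B' := B.map f
  haveI : B'.Normal := Subgroup.Normal.map inferInstance f hsurj
  have hker : f.ker = A := QuotientGroup.ker_mk' A
  have hne : B' ≠ ⊥ := fun h => hAB.not_ge (by
    rw [Subgroup.map_eq_bot_iff, hker] at h
    exact h)
  have hmin : ∀ N : Subgroup (G ⧸ A), N.Normal → N ≤ B' → N = ⊥ ∨ N = B' := by
    intro N hN hNB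
    have h1 : A ≤ N.comap f := hker.symm.trans_le (Subgroup.ker_le_comap f N)
    have h2 : N.comap f ≤ B := by
      have := Subgroup.comap_mono (f := f) hNB
      rwa [Subgroup.comap_map_eq, hker, sup_eq_left.mpr hAB.le] at this
    rcases hchief _ (hN.comap f) h1 h2 with h | h
    · left
      rw [← Subgroup.map_comap_eq_self_of_surjective hsurj N, h, Subgroup.map_eq_bot_iff, hker]
    · right
      rw [← Subgroup.map_comap_eq_self_of_surjective hsurj N, h]
  have hcomm : ⁅B', (⊤ : Subgroup (G ⧸ A))⁆ = ⊥ ↔ ⁅B, (⊤ : Subgroup G)⁆ ≤ A := by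
    rw [← Subgroup.map_top_of_surjective f hsurj, ← Subgroup.map_commutator, Subgroup.map_eq_bot_iff,
      hker]
  have hK' := CfsgLib.Hall.isComplementSystem_map hK A
  have hD := CfsgLib.Hall.map_systemNormalizer hK A
  refine ⟨fun h => ?_, fun h => ?_⟩
  · have h1 : B' ≤ Cfsg.systemNormalizer (fun p => (K p).map f) := by
      intro b hb
      refine CfsgLib.Hall.mem_systemNormalizer.mpr fun p => ?_
      refine CfsgLib.Coprime.conj_smul_eq_self_of_mem_normalizer
        (Subgroup.mem_normalizer_fintype fun x hx => ?_)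
      have h2 := hcomm.mpr h
      rw [Subgroup.commutator_eq_bot_iff_le_centralizer] at h2
      have h3 := Subgroup.mem_centralizer_iff.mp (h2 hb) x (Subgroup.mem_top x)
      rwa [← h3, mul_inv_cancel_right]
    rw [hD] at h1
    have h4 := Subgroup.comap_mono (f := f) h1
    rw [Subgroup.comap_map_eq, Subgroup.comap_map_eq, hker] at h4
    exact le_sup_left.trans (h4.trans (sup_comm _ A).le)
  · have h1 := CfsgLib.Hall.inf_systemNormalizer_eq_bot hK' hne hmin (fun e => h (hcomm.mp e))
    rw [hD] at h1
    intro x hx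
    have h2 : f x ∈ B' ⊓ (Cfsg.systemNormalizer K).map f :=
      ⟨Subgroup.mem_map_of_mem f hx.1, Subgroup.mem_map_of_mem f hx.2⟩
    rwa [h1, Subgroup.mem_bot, ← MonoidHom.mem_ker, hker] at h2

end Cfsg.Agent.S0568
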