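import Cfsg.Statements.S0570
import Mathlib
import Cfsg.Agent.Lib.Hall.Carter

set_option autoImplicit false
open Cfsg

namespace Cfsg.Agent.S0570
open Pointwise


/-- Let G be a finite group with a nilpotent normal subgroup F such that G modulo F is nilpotent (nilpotent length at most two). Then a subgroup of G is a Carter subgroup if and only if it is the system normalizer of some Hall complement system. -/
theorem result {G : Type*} [Group G] [Finite G] (F : Subgroup G) [F.Normal] (hF : Group.IsNilpotent F) (hGF : Group.IsNilpotent (G ⧸ F)) (C : Subgroup G) : Cfsg.IsCarterSubgroup C ↔ ∃ K : Nat.Primes → Subgroup G, Cfsg.IsComplementSystem K ∧ C = Cfsg.systemNormalizer K := by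
  haveI := hF
  haveI := hGF
  haveI : Group.IsSolvable G := Group.isSolvable_of_ker_le_range F.subtype (QuotientGroup.mk' F)
    (le_of_eq (by rw [QuotientGroup.ker_mk', Subgroup.range_subtype]))
  have key : ∀ K : Nat.Primes → Subgroup G, Cfsg.IsComplementSystem K →
      ∃ D : Subgroup G, Cfsg.IsCarterSubgroup D ∧ D = Cfsg.systemNormalizer K := by
    intro K hK
    obtain ⟨D, hD, hle, hR⟩ := CfsgLib.Hall.exists_carter_ge_systemNormalizer hK
    exact ⟨D, hD, le_antisymm (CfsgLib.Hall.le_systemNormalizer_of_reduces hF hGF hK hD hR) hle⟩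
  refine ⟨fun hC => ?_, fun ⟨K, hK, hCK⟩ => ?_⟩
  · obtain ⟨K, hK⟩ := CfsgLib.Hall.exists_complementSystem (G := G)
    obtain ⟨D, hD, hDK⟩ := key K hK
    obtain ⟨g, rfl⟩ := CfsgLib.Hall.carter_conj hD hC
    exact ⟨fun p => MulAut.conj g • K p, CfsgLib.Hall.isComplementSystem_conj hK g,
      by rw [CfsgLib.Hall.systemNormalizer_conj, hDK]⟩
  · obtain ⟨D, hD, hDK⟩ := key K hK
    exact (hCK.trans hDK.symm) ▸ hD

end Cfsg.Agent.S0570
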