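import Cfsg.Statements.S0573
import Cfsg.Agent.S0572
import Cfsg.Agent.Lib.Hall.Basic

set_option autoImplicit false
open Cfsg

namespace Cfsg.Agent.S0573

open scoped Pointwise commutatorElement

/-- A cocycle of a cyclic coprime action is a coboundary. -/
theorem exists_coboundary {C : Type*} [CommGroup C] (σ : C →* C) {p : ℕ} (v : C)
    (hnorm : ∏ i ∈ Finset.range p, σ^[i] v = 1) (hcop : p.Coprime (orderOf v)) :
    ∃ z : C, v = z / σ z := by
  set Φ : ℕ → C := fun i => ∏ j ∈ Finset.range i, σ^[j] v with hΦ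
  have hrec : ∀ i, Φ (i + 1) = v * σ (Φ i) := fun i => by
    simp only [hΦ]
    rw [Finset.prod_range_succ', map_prod, mul_comm]
    congr 1
    exact Finset.prod_congr rfl fun j _ => Function.iterate_succ_apply' σ j v
  set z := ∏ i ∈ Finset.range p, Φ i with hz
  have h : z = v ^ p * σ z := by
    have e : ∏ i ∈ Finset.range p, Φ (i + 1) = z := by
      have h1 := Finset.prod_range_succ Φ p
      rw [Finset.prod_range_succ', show Φ p = 1 from hnorm, show Φ 0 = 1 by simp [hΦ], mul_one, mul_one] at h1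
      exact h1
    conv_lhs => rw [← e]
    rw [Finset.prod_congr rfl fun i _ => hrec i, Finset.prod_mul_distrib, Finset.prod_const, Finset.card_range, map_prod]
  obtain ⟨r, hr⟩ := exists_pow_eq_self_of_coprime hcop
  refine ⟨z ^ r, ?_⟩
  rw [map_pow, ← div_pow, div_eq_iff_eq_mul.mpr h, hr]

/-- An element shared by one factor and a conjugate of the other one is central. -/
theorem mem_center_of_shared {G : Type*} [Group G] {A B : Subgroup G} [IsMulCommutative A] [IsMulCommutative B]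
    (hAB : ∀ g : G, ∃ a ∈ A, ∃ b ∈ B, g = a * b) {z g : G} (hz : g⁻¹ * z * g ∈ A) (hzB : z ∈ B) :
    z ∈ Subgroup.center G := by
  have hBA : ∀ x : G, ∃ b ∈ B, ∃ a ∈ A, x = b * a := fun x => by
    obtain ⟨a, ha, b, hb, h⟩ := hAB x⁻¹
    exact ⟨b⁻¹, inv_mem hb, a⁻¹, inv_mem ha, by rw [← mul_inv_rev, ← h, inv_inv]⟩
  obtain ⟨b₀, hb₀, a₀, ha₀, rfl⟩ := hBA g
  have cB : ∀ b ∈ B, b * z = z * b := fun b hb => congrArg Subtype.val (mul_comm' (⟨b, hb⟩ : B) ⟨z, hzB⟩)
  have hzA : z ∈ A := by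
    have e : (b₀ * a₀)⁻¹ * z * (b₀ * a₀) = a₀⁻¹ * z * a₀ := by
      rw [mul_inv_rev, show a₀⁻¹ * b₀⁻¹ * z * (b₀ * a₀) = a₀⁻¹ * (b₀⁻¹ * (z * b₀)) * a₀ by group, ← cB b₀ hb₀,
        inv_mul_cancel_left]
    rw [e] at hz
    have h2 := mul_mem (mul_mem ha₀ hz) (inv_mem ha₀)
    have e2 : a₀ * (a₀⁻¹ * z * a₀) * a₀⁻¹ = z := by group
    rwa [e2] at h2
  refine Subgroup.mem_center_iff.mpr fun x => ?_
  obtain ⟨a, ha, b, hb, rfl⟩ := hAB x
  rw [mul_assoc, cB b hb, ← mul_assoc, show a * z = z * a from congrArg Subtype.val (mul_comm' (⟨a, ha⟩ : A) ⟨z, hzA⟩),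
    mul_assoc]

/-- A factor meeting its product with the derived subgroup centrally gives a central element. -/
theorem center_ne_bot {G : Type*} [Group G] {A B : Subgroup G} [IsMulCommutative A] [IsMulCommutative B]
    (hAB : ∀ g : G, ∃ a ∈ A, ∃ b ∈ B, g = a * b) {z : G} (hz1 : z ≠ 1)
    (hz : ∀ a ∈ A, ∀ μ ∈ commutator G, Commute z (a * μ)) (hzm : z ∈ A ⊔ commutator G) :
    Subgroup.center G ≠ ⊥ ∨ ∃ N : Subgroup G, N.Normal ∧ N ≠ ⊥ ∧ N ≤ A := by
  by_cases hZ : Subgroup.center G ≠ ⊥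
  · exact Or.inl hZ
  rw [not_not] at hZ
  right
  set A1 := A ⊔ commutator G
  haveI hA1 : A1.Normal := by
    refine ⟨fun x hx g => ?_⟩
    have h1 : ⁅g, x⁆ ∈ A1 := Subgroup.mem_sup_right (Subgroup.commutator_mem_commutator (Subgroup.mem_top g) (Subgroup.mem_top x))
    have h2 := mul_mem h1 hx
    rwa [commutatorElement_def, inv_mul_cancel_right] at h2
  refine ⟨(Subgroup.center A1).map A1.subtype, inferInstance, ?_, ?_⟩
  · rw [Subgroup.ne_bot_iff_exists_ne_one]
    refine ⟨⟨z, ⟨⟨z, hzm⟩, Subgroup.mem_center_iff.mpr fun y => Subtype.ext ?_, rfl⟩⟩, fun h => hz1 (congrArg Subtype.val h)⟩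
    have hyA : (y : G) ∈ (A : Set G) * (commutator G : Set G) := by
      rw [← Subgroup.mul_normal A (commutator G)]; exact y.2
    obtain ⟨a, ha, μ, hμ, e⟩ := hyA
    show (y : G) * z = z * y
    rw [← e]
    exact (hz a ha μ hμ).eq.symm
  · rintro _ ⟨⟨w, hw⟩, hwc, rfl⟩
    obtain ⟨a, ha, b, hb, e⟩ := hAB w
    show w ∈ A
    have hbA1 : b ∈ A1 := by
      have := mul_mem (inv_mem (Subgroup.mem_sup_left ha : a ∈ A1)) hw
      rwa [e, inv_mul_cancel_left] at this
    have hbc : b ∈ Subgroup.center G := by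
      refine Subgroup.mem_center_iff.mpr fun x => ?_
      obtain ⟨a', ha', b', hb', rfl⟩ := hAB x
      have h1 : a' * b = b * a' := by
        have h2 : a' * w = w * a' := congrArg Subtype.val (Subgroup.mem_center_iff.mp hwc ⟨a', Subgroup.mem_sup_left ha'⟩)
        have h3 : a' * a = a * a' := congrArg Subtype.val (mul_comm' (⟨a', ha'⟩ : A) ⟨a, ha⟩)
        calc a' * b = a⁻¹ * (a' * a) * b := by rw [h3]; group
          _ = a⁻¹ * (a' * w) := by rw [e]; group
          _ = a⁻¹ * (w * a') := by rw [h2]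
          _ = b * a' := by rw [e]; group
      have h4 : b' * b = b * b' := congrArg Subtype.val (mul_comm' (⟨b', hb'⟩ : B) ⟨b, hb⟩)
      rw [mul_assoc, h4, ← mul_assoc, h1, mul_assoc]
    rw [hZ, Subgroup.mem_bot] at hbc
    rw [e, hbc, mul_one]
    exact ha

/-- The main case: both factors are complements of the derived subgroup in their products with it. -/
theorem exists_shared {G : Type*} [Group G] [Finite G] [Group.IsSolvable G] {A B : Subgroup G} [IsMulCommutative A]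
    [IsMulCommutative B] (hAB : ∀ g : G, ∃ a ∈ A, ∃ b ∈ B, g = a * b)
    (hM : ∀ x ∈ commutator G, ∀ y ∈ commutator G, Commute x y) (hM1 : commutator G ≠ ⊥)
    (hAM : A ⊓ commutator G = ⊥)
    (hCA : ∀ x ∈ commutator G, (∀ a ∈ A, Commute a x) → x = 1) (hCB : ∀ x ∈ commutator G, (∀ b ∈ B, Commute b x) → x = 1)
    (hBM : B ⊓ commutator G = ⊥) (hAB1 : A ⊓ B = ⊥) :
    ∃ z g : G, z ≠ 1 ∧ z ∈ B ∧ g⁻¹ * z * g ∈ A := by
  classical
  set M := commutator G with hMdef
  haveI : M.Normal := by rw [hMdef]; infer_instance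
  obtain ⟨p, hp, hpM⟩ := Nat.exists_prime_and_dvd (fun h => hM1 (Subgroup.eq_bot_of_card_eq M h))
  haveI := Fact.mk hp
  set e := (Nat.card G).factorization p
  set n := Nat.card G / p ^ e with hn
  have hGn : Nat.card G = p ^ e * n := (Nat.ordProj_mul_ordCompl_eq_self _ _).symm
  have hcop : (p ^ e).Coprime n := (Nat.coprime_ordCompl hp Nat.card_pos.ne').pow_left e
  -- `p`-part and `p'`-part of the derived subgroup
  let K : Subgroup G :=
    { carrier := {x | x ∈ M ∧ x ^ n = 1}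
      one_mem' := ⟨one_mem M, one_pow n⟩
      mul_mem' := fun {x y} hx hy => ⟨mul_mem hx.1 hy.1, by rw [(hM x hx.1 y hy.1).mul_pow, hx.2, hy.2, one_mul]⟩
      inv_mem' := fun {x} hx => ⟨inv_mem hx.1, by rw [inv_pow, hx.2, inv_one]⟩ }
  let P : Subgroup G :=
    { carrier := {x | x ∈ M ∧ x ^ p ^ e = 1}
      one_mem' := ⟨one_mem M, one_pow _⟩
      mul_mem' := fun {x y} hx hy => ⟨mul_mem hx.1 hy.1, by rw [(hM x hx.1 y hy.1).mul_pow, hx.2, hy.2, one_mul]⟩
      inv_mem' := fun {x} hx => ⟨inv_mem hx.1, by rw [inv_pow, hx.2, inv_one]⟩ }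
  haveI hKn : K.Normal := ⟨fun x hx g => ⟨‹M.Normal›.conj_mem x hx.1 g, by rw [conj_pow, hx.2, mul_one, mul_inv_cancel]⟩⟩
  haveI hPn : P.Normal := ⟨fun x hx g => ⟨‹M.Normal›.conj_mem x hx.1 g, by rw [conj_pow, hx.2, mul_one, mul_inv_cancel]⟩⟩
  have hsplit : ∀ x : G, ∃ u v : G, u ^ p ^ e = 1 ∧ v ^ n = 1 ∧ x = u * v ∧ u ∈ Subgroup.zpowers x ∧ v ∈ Subgroup.zpowers x := by
    intro x
    have hb := Nat.gcd_eq_gcd_ab (p ^ e) n
    rw [hcop.gcd_eq_one, Nat.cast_one] at hb
    have hx : ∀ k : ℤ, x ^ ((Nat.card G : ℤ) * k) = 1 := fun k => by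
      rw [zpow_mul, zpow_natCast, pow_card_eq_one', one_zpow]
    refine ⟨x ^ ((n : ℤ) * Nat.gcdB (p ^ e) n), x ^ ((p ^ e : ℕ) * Nat.gcdA (p ^ e) n : ℤ), ?_, ?_, ?_,
      zpow_mem (Subgroup.mem_zpowers x) _, zpow_mem (Subgroup.mem_zpowers x) _⟩
    · rw [← zpow_natCast (x ^ _), ← zpow_mul, ← hx (Nat.gcdB (p ^ e) n), hGn]; congr 1; push_cast; ring
    · rw [← zpow_natCast (x ^ _), ← zpow_mul, ← hx (Nat.gcdA (p ^ e) n), hGn]; congr 1; push_cast; ring
    · rw [← zpow_add, add_comm, ← hb, zpow_one]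
  have hpart : ∀ x : G, x ^ p ^ e = 1 → x ^ n = 1 → x = 1 := fun x h1 h2 => by
    rw [← orderOf_eq_one_iff]
    exact Nat.eq_one_of_dvd_coprimes hcop (orderOf_dvd_of_pow_eq_one h1) (orderOf_dvd_of_pow_eq_one h2)
  have hcard : ∀ X : Subgroup G, (∀ x ∈ X, ∃ N, x ^ n ^ N = 1) → (Nat.card X).Coprime (p ^ e) := by
    intro X hX
    refine Nat.Coprime.pow_right e (hp.coprime_iff_not_dvd.mpr fun h => ?_).symm
    obtain ⟨x, hx⟩ := exists_prime_orderOf_dvd_card' p h
    obtain ⟨N, hN⟩ := hX x x.2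
    rw [← Subgroup.orderOf_coe] at hx
    have hd : p ∣ n ^ N := hx ▸ orderOf_dvd_of_pow_eq_one hN
    exact hp.coprime_iff_not_dvd.mp (Nat.coprime_ordCompl hp Nat.card_pos.ne') (hp.dvd_of_dvd_pow hd)
  have hGnp : Nat.card G = n * p ^ e := by rw [hGn, mul_comm]
  -- the part of an abelian factor of order prime to `p`
  have hpprime : ∀ (A : Subgroup G) [IsMulCommutative A], ∃ L : Subgroup G, L ≤ A ∧ (∀ x ∈ L, x ^ n = 1) ∧
      (∀ x ∈ A, x ^ n = 1 → x ∈ L) := by
    intro A _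
    refine ⟨{ carrier := {x | x ∈ A ∧ x ^ n = 1}
              one_mem' := ⟨one_mem A, one_pow n⟩
              mul_mem' := fun {x y} hx hy => ⟨mul_mem hx.1 hy.1, by
                rw [Commute.mul_pow (show Commute x y from congrArg Subtype.val (mul_comm' (⟨x, hx.1⟩ : A) ⟨y, hy.1⟩)),
                  hx.2, hy.2, one_mul]⟩
              inv_mem' := fun {x} hx => ⟨inv_mem hx.1, by rw [inv_pow, hx.2, inv_one]⟩ },
      fun x hx => hx.1, fun x hx => hx.2, fun x hx h => ⟨hx, h⟩⟩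
  obtain ⟨L, hLA, hLn, hLmem⟩ := hpprime A
  obtain ⟨L', hLB', hLn', hLmem'⟩ := hpprime B
  have hKL : (Nat.card (K ⊔ L : Subgroup G)).Coprime (p ^ e) := hcard _ fun x hx => by
    rw [← SetLike.mem_coe, Subgroup.normal_mul K L] at hx
    obtain ⟨k, hk, l, hl, rfl⟩ := hx
    refine ⟨2, ?_⟩
    have h1 : (k * l) ^ n ∈ K := by
      rw [← QuotientGroup.eq_one_iff]
      rw [QuotientGroup.mk_pow, QuotientGroup.mk_mul, show ((k : G) : G ⧸ K) = 1 from (QuotientGroup.eq_one_iff k).mpr hk, one_mul,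
        ← QuotientGroup.mk_pow]
      exact congrArg (fun y : G => (y : G ⧸ K)) (hLn l hl)
    rw [sq, pow_mul]
    exact h1.2
  obtain ⟨H, hH, hKLH⟩ := CfsgLib.Hall.exists_hall_ge hGnp hcop.symm hKL
  obtain ⟨g, hg⟩ := CfsgLib.Hall.exists_conj_le hGnp hcop.symm hH (hcard L' fun x hx => ⟨1, by rw [pow_one]; exact hLn' x hx⟩)
  set H' := MulAut.conj g • H with hH'
  have hH'c : Nat.card H' = n := (Nat.card_congr (Subgroup.equivSMul (MulAut.conj g) H).toEquiv).symm.trans hH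
  have hmemH' : ∀ x, x ∈ H → g * x * g⁻¹ ∈ H' := fun x hx => ⟨x, hx, rfl⟩
  have hKH' : K ≤ H' := fun x hx => by
    have := hmemH' _ (hKLH (Subgroup.mem_sup_left (hKn.conj_mem x hx g⁻¹)))
    simpa [mul_assoc] using this
  have hPH : ∀ x ∈ P, x ∈ H' → x = 1 := fun x hx hxH => hpart x hx.2 (by
    rw [← hH'c]
    exact orderOf_dvd_iff_pow_eq_one.mp (Subgroup.orderOf_dvd_natCard H' hxH))
  have hMsplit : ∀ x ∈ M, ∃ u ∈ P, ∃ v ∈ K, x = u * v := fun x hx => by
    obtain ⟨u, v, h1, h2, h3, h4, h5⟩ := hsplit x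
    exact ⟨u, ⟨Subgroup.zpowers_le.mpr hx h4, h1⟩, v, ⟨Subgroup.zpowers_le.mpr hx h5, h2⟩, h3⟩
  -- a `p'`-subgroup of an abelian factor has no fixed points on `P`
  have hfix : ∀ (A : Subgroup G) [IsMulCommutative A], (∀ x ∈ M, (∀ a ∈ A, Commute a x) → x = 1) →
      ∀ L : Subgroup G, L ≤ A → (∀ x ∈ A, x ^ n = 1 → x ∈ L) → ∀ u ∈ P, (∀ l ∈ L, Commute l u) → u = 1 := by
    intro A _ hC L hLA hLmem u hu hul
    by_contra hu1
    let R : Subgroup G := P ⊓ Subgroup.centralizer (L : Set G)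
    have hRconj : ∀ a ∈ A, ∀ x ∈ R, a * x * a⁻¹ ∈ R := by
      intro a ha x hx
      refine ⟨hPn.conj_mem x hx.1 a, Subgroup.mem_centralizer_iff.mpr fun l hl => ?_⟩
      have h1 : l * a = a * l := congrArg Subtype.val (mul_comm' (⟨l, hLA hl⟩ : A) ⟨a, ha⟩)
      have h2 : l * x = x * l := Subgroup.mem_centralizer_iff.mp hx.2 l hl
      have h3 : l * a⁻¹ = a⁻¹ * l := congrArg Subtype.val (mul_comm' (⟨l, hLA hl⟩ : A) ⟨a⁻¹, inv_mem ha⟩)
      rw [← mul_assoc, ← mul_assoc, h1, mul_assoc a, h2, ← mul_assoc, mul_assoc (a * x), h3, ← mul_assoc]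
    let Ap : Subgroup G := A ⊓ Subgroup.centralizer (A : Set G)
    let S : Subgroup A :=
      { carrier := {x | x ^ p ^ e = 1}
        one_mem' := one_pow _
        mul_mem' := fun {x y} hx hy => by
          show (x * y) ^ p ^ e = 1
          rw [(show Commute x y from mul_comm' x y).mul_pow, hx, hy, one_mul]
        inv_mem' := fun {x} hx => by show x⁻¹ ^ p ^ e = 1; rw [inv_pow, hx, inv_one] }
    have hS : IsPGroup p S := fun x => ⟨e, Subtype.ext x.2⟩
    letI : MulAction S R :=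
      { smul := fun s x => ⟨(s : A) * x * ((s : A) : G)⁻¹, hRconj _ (s : A).2 x x.2⟩
        one_smul := fun x => Subtype.ext (by show ((1 : A) : G) * (x : G) * ((1 : A) : G)⁻¹ = x; simp)
        mul_smul := fun s t x => Subtype.ext (by
          show (((s * t : S) : A) : G) * (x : G) * (((s * t : S) : A) : G)⁻¹ =
            ((s : A) : G) * (((t : A) : G) * (x : G) * ((t : A) : G)⁻¹) * ((s : A) : G)⁻¹
          push_cast; group) }
    have hR : IsPGroup p R := fun x => ⟨e, Subtype.ext x.2.1.2⟩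
    have hu' : u ∈ R := ⟨hu, Subgroup.mem_centralizer_iff.mpr fun l hl => (hul l hl).eq⟩
    have hdvd : p ∣ Nat.card R := by
      have ho := Subgroup.orderOf_dvd_natCard R hu'
      obtain ⟨i, -, hi⟩ := (Nat.dvd_prime_pow hp).mp (orderOf_dvd_of_pow_eq_one hu.2)
      rcases i with _ | i
      · exact absurd (orderOf_eq_one_iff.mp (by simpa using hi)) hu1
      · exact (dvd_pow_self p i.succ_ne_zero).trans (hi ▸ ho)
    obtain ⟨x, hx, hx1⟩ := hS.exists_fixed_point_of_prime_dvd_card_of_fixed_point R hdvd (a := 1) (fun s => Subtype.ext (by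
      show ((s : A) : G) * ((1 : R) : G) * ((s : A) : G)⁻¹ = _; simp))
    refine hx1 (Subtype.ext (hC x x.2.1.1 fun a ha => ?_).symm)
    obtain ⟨s, t, hs, ht, rfl, hsm, htm⟩ := hsplit a
    have hcs : Commute s (x : G) := by
      have h := congrArg Subtype.val (hx ⟨⟨s, Subgroup.zpowers_le.mpr ha hsm⟩, Subtype.ext (by simpa using hs)⟩)
      exact mul_inv_eq_iff_eq_mul.mp h
    exact hcs.mul_left (Subgroup.mem_centralizer_iff.mp x.2.2 t (hLmem t (Subgroup.zpowers_le.mpr ha htm) ht))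
  -- elements centralizing such a subgroup of `H'` normalize `H'`
  have hM_PH : M ≤ P ⊔ H' := fun x hx => by
    obtain ⟨u, hu, v, hv, rfl⟩ := hMsplit x hx
    exact Subgroup.mul_mem_sup hu (hKH' hv)
  have hnorm : ∀ (L : Subgroup G), L ≤ H' → (∀ u ∈ P, (∀ l ∈ L, Commute l u) → u = 1) → ∀ y : G,
      (∀ l ∈ L, Commute l y) → y ∈ Subgroup.normalizer (H' : Set G) := by
    intro L hL hfixL y hy
    set X := P ⊔ H'
    haveI hXn : X.Normal := by
      refine ⟨fun x hx w => ?_⟩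
      have h2 := mul_mem (hM_PH (Subgroup.commutator_mem_commutator (Subgroup.mem_top w) (Subgroup.mem_top x)) : ⁅w, x⁆ ∈ X) hx
      rwa [commutatorElement_def, inv_mul_cancel_right] at h2
    have hle : MulAut.conj y • H' ≤ X := by
      rintro _ ⟨x, hx, rfl⟩
      exact hXn.conj_mem x (Subgroup.mem_sup_right hx) y
    have hXc : Nat.card X = n * (Nat.card X / n) :=
      (Nat.mul_div_cancel' (hH'c ▸ Subgroup.card_dvd_of_le le_sup_right)).symm
    have hXd : Nat.card X / n ∣ p ^ e := by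
      have := Subgroup.card_subgroup_dvd_card X
      rw [hXc, hGnp] at this
      exact Nat.dvd_of_mul_dvd_mul_left (hH'c ▸ Nat.card_pos) this
    obtain ⟨w, hw⟩ := CfsgLib.Hall.exists_conj_eq (G := X) hXc (hcop.symm.coprime_dvd_right hXd)
      (H := H'.subgroupOf X) (K := (MulAut.conj y • H').subgroupOf X)
      (by rw [Nat.card_congr (Subgroup.subgroupOfEquivOfLe le_sup_right).toEquiv, hH'c])
      (by rw [Nat.card_congr (Subgroup.subgroupOfEquivOfLe hle).toEquiv,
        ← Nat.card_congr (Subgroup.equivSMul (MulAut.conj y) H').toEquiv, hH'c])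
    have hwX : (w : G) ∈ (P : Set G) * (H' : Set G) := by
      rw [← Subgroup.normal_mul P H']; exact w.2
    obtain ⟨u, hu, h, hh, huh⟩ := hwX
    simp only at huh
    have hnN : u⁻¹ * y ∈ Subgroup.normalizer (H' : Set G) := by
      rw [Subgroup.mem_normalizer_iff_map_conj_eq]
      refine Subgroup.eq_of_le_of_card_ge ?_ (le_of_eq (Nat.card_congr
        (H'.equivMapOfInjective _ (MulAut.conj (u⁻¹ * y)).injective).toEquiv))
      rintro _ ⟨x, hx, rfl⟩
      have hmem : (⟨y * x * y⁻¹, hle ⟨x, hx, rfl⟩⟩ : X) ∈ MulAut.conj w • H'.subgroupOf X := by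
        rw [hw]; exact ⟨x, hx, rfl⟩
      obtain ⟨x', hx', he⟩ := hmem
      have he' : (w : G) * (x' : G) * (w : G)⁻¹ = y * x * y⁻¹ := congrArg Subtype.val he
      show u⁻¹ * y * x * (u⁻¹ * y)⁻¹ ∈ H'
      rw [mul_inv_rev, inv_inv, show u⁻¹ * y * x * (y⁻¹ * u) = u⁻¹ * (y * x * y⁻¹) * u by group, ← he', ← huh,
        show u⁻¹ * (u * h * (x' : G) * (u * h)⁻¹) * u = h * x' * h⁻¹ by group]
      exact mul_mem (mul_mem hh hx') (inv_mem hh)
    suffices u = 1 by simpa [this] using hnN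
    refine hfixL u hu fun l hl => ?_
    have h1 : u⁻¹ * l * u ∈ H' := by
      have := (Subgroup.mem_normalizer_iff.mp hnN l).mp (hL hl)
      rwa [mul_inv_rev, inv_inv, show u⁻¹ * y * l * (y⁻¹ * u) = u⁻¹ * (y * l * y⁻¹) * u by group, ← (hy l hl).eq,
        mul_inv_cancel_right] at this
    have h2 : u⁻¹ * l * u * l⁻¹ = 1 := hPH _ (by
      have := mul_mem (inv_mem hu) (hPn.conj_mem u hu l)
      simpa [mul_assoc] using this) (mul_mem h1 (inv_mem (hL hl)))
    show l * u = u * l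
    have h3 := congrArg (fun t => u * t * l) h2
    simpa [mul_assoc] using h3
  -- an element of order `p` in the trace of `B`
  obtain ⟨y, hyA1, hyB, hyo⟩ : ∃ y, y ∈ A ⊔ M ∧ y ∈ B ∧ orderOf y = p := by
    haveI : Fintype G := Fintype.ofFinite G
    have hdM : Nat.card A * Nat.card M ≤ Nat.card A * Nat.card (B ⊓ (A ⊔ M) : Subgroup G) := by
      rw [← Nat.card_prod, ← Nat.card_prod]
      have hdec : ∀ x : A × M, ∃ z : A × (B ⊓ (A ⊔ M) : Subgroup G), (z.1 : G) * z.2 = (x.1 : G) * x.2 := by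
        intro x
        obtain ⟨a, ha, b, hb, e⟩ := hAB ((x.1 : G) * x.2)
        refine ⟨(⟨a, ha⟩, ⟨b, hb, ?_⟩), e.symm⟩
        have := mul_mem (inv_mem (Subgroup.mem_sup_left ha : a ∈ A ⊔ M)) (Subgroup.mul_mem_sup x.1.2 x.2.2)
        rwa [e, inv_mul_cancel_left] at this
      choose f hf using hdec
      refine Nat.card_le_card_of_injective f fun x x' h => ?_
      have h1 : (x.1 : G) * x.2 = (x'.1 : G) * x'.2 := by rw [← hf, ← hf, h]
      have h2 := Subgroup.disjoint_iff_mul_eq_one.mp (disjoint_iff.mpr hAM) (mul_mem (inv_mem x'.1.2) x.1.2)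
        (mul_mem x.2.2 (inv_mem x'.2.2)) (by rw [mul_assoc, ← mul_assoc (x.1 : G), h1]; group)
      exact Prod.ext (Subtype.ext (inv_mul_eq_one.mp h2.1).symm) (Subtype.ext (mul_inv_eq_one.mp h2.2))
    have heq : Nat.card M = Nat.card (B ⊓ (A ⊔ M) : Subgroup G) := by
      refine le_antisymm (Nat.le_of_mul_le_mul_left hdM Nat.card_pos) ?_
      have hdec : ∀ b : (B ⊓ (A ⊔ M) : Subgroup G), ∃ μ : M, ∃ a ∈ A, (b : G) = a * μ := by
        intro b
        have : (b : G) ∈ (A : Set G) * (M : Set G) := by rw [← Subgroup.mul_normal A M]; exact b.2.2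
        obtain ⟨a, ha, μ, hμ, e⟩ := this
        exact ⟨⟨μ, hμ⟩, a, SetLike.mem_coe.mp ha, e.symm⟩
      choose f a haA hf using hdec
      have haA' : ∀ b, a b ∈ A := haA
      -- equal derived parts force the quotient into `A ⊓ B`
      refine Nat.card_le_card_of_injective f fun b b' h => ?_
      have hz : (b : G) * (b' : G)⁻¹ ∈ A := by
        rw [hf b, hf b', h]
        simpa [mul_assoc] using mul_mem (haA' b) (inv_mem (haA' b'))
      have hbB : ∀ c : (B ⊓ (A ⊔ M) : Subgroup G), (c : G) ∈ B := fun c => c.2.1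
      have : (b : G) * (b' : G)⁻¹ ∈ A ⊓ B := Subgroup.mem_inf.mpr ⟨hz, mul_mem (hbB b) (inv_mem (hbB b'))⟩
      rw [hAB1, Subgroup.mem_bot] at this
      exact Subtype.ext (mul_inv_eq_one.mp this)
    obtain ⟨y, hy⟩ := exists_prime_orderOf_dvd_card' p (heq ▸ hpM)
    exact ⟨y, y.2.2, y.2.1, by rw [Subgroup.orderOf_coe]; exact hy⟩
  have hyA1' := hyA1
  rw [sup_comm, ← SetLike.mem_coe, Subgroup.normal_mul M A] at hyA1'
  obtain ⟨μ, hμ, s, hs, hμs⟩ := hyA1'
  simp only at hμs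
  have hsp : s ^ p = 1 := by
    have h1 : s ^ p ∈ M := by
      rw [← QuotientGroup.eq_one_iff]
      have h2 : ((y : G) : G ⧸ M) ^ p = 1 := by
        rw [← QuotientGroup.mk_pow, ← hyo, pow_orderOf_eq_one]; rfl
      rwa [← hμs, QuotientGroup.mk_mul, (QuotientGroup.eq_one_iff μ).mpr hμ, one_mul, ← QuotientGroup.mk_pow] at h2
    exact Subgroup.mem_bot.mp (hAM ▸ ⟨pow_mem hs p, h1⟩)
  -- both normalize the Hall subgroup
  have hconjL : (MulAut.conj g • L) ≤ H' :=
    Subgroup.pointwise_smul_le_pointwise_smul_iff.mpr (le_sup_right.trans hKLH)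
  have hs' : g * s * g⁻¹ ∈ Subgroup.normalizer (H' : Set G) := by
    refine hnorm _ hconjL (fun u hu hul => ?_) _ ?_
    · have := hfix A hCA L hLA hLmem (g⁻¹ * u * g) (by simpa using hPn.conj_mem u hu g⁻¹) fun l hl => by
        have h := (hul _ ⟨l, hl, rfl⟩).map (MulAut.conj g⁻¹).toMonoidHom
        simpa [mul_assoc] using h
      simpa [mul_assoc] using congrArg (fun t => g * t * g⁻¹) this
    · rintro _ ⟨l, hl, rfl⟩
      exact Commute.map (congrArg Subtype.val (mul_comm' (⟨l, hLA hl⟩ : A) ⟨s, hs⟩)) (MulAut.conj g).toMonoidHom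
  have hy' : y ∈ Subgroup.normalizer (H' : Set G) :=
    hnorm L' hg (fun u hu hul => hfix B hCB L' hLB' hLmem' u hu hul) y fun l hl =>
      congrArg Subtype.val (mul_comm' (⟨l, hLB' hl⟩ : B) ⟨y, hyB⟩)
  -- compare `y` with the conjugate of `s`
  set s' := g * s * g⁻¹ with hs'def
  have hdiff : y * s'⁻¹ ∈ M := by
    rw [← QuotientGroup.eq_one_iff, QuotientGroup.mk_mul, QuotientGroup.mk_inv, mul_inv_eq_one, ← hμs, QuotientGroup.mk_mul,
      (QuotientGroup.eq_one_iff μ).mpr hμ, one_mul, hs'def, QuotientGroup.mk_mul, QuotientGroup.mk_mul]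
    have hc : ∀ x z : G ⧸ M, x * z = z * x := by
      intro x z
      induction x using QuotientGroup.induction_on with | _ x => ?_
      induction z using QuotientGroup.induction_on with | _ z => ?_
      rw [← QuotientGroup.mk_mul, ← QuotientGroup.mk_mul, QuotientGroup.eq, ← inv_mem_iff]
      have := Subgroup.commutator_mem_commutator (Subgroup.mem_top x⁻¹) (Subgroup.mem_top z⁻¹)
      simpa [hMdef, commutator_def, commutatorElement_def, mul_assoc] using this
    rw [hc, ← mul_assoc, ← QuotientGroup.mk_mul, inv_mul_cancel]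
    exact (one_mul _).symm
  obtain ⟨u, hu, v, hv, huv⟩ := hMsplit _ hdiff
  have huN : u ∈ Subgroup.normalizer (H' : Set G) := by
    have h1 := mul_mem (mul_mem hy' (inv_mem hs')) (inv_mem (Subgroup.le_normalizer (hKH' hv)))
    rwa [huv, mul_inv_cancel_right] at h1
  have hu1 : u = 1 := hfix B hCB L' hLB' hLmem' u hu fun l hl => by
    have h1 : u * l * u⁻¹ * l⁻¹ = 1 := hPH _ (by
      have := mul_mem hu (hPn.conj_mem u⁻¹ (inv_mem hu) l)
      simpa [mul_assoc] using this) (mul_mem ((Subgroup.mem_normalizer_iff.mp huN l).mp (hg hl)) (inv_mem (hg hl)))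
    exact (mul_inv_eq_iff_eq_mul.mp (mul_inv_eq_one.mp h1)).symm
  rw [hu1, one_mul, mul_inv_eq_iff_eq_mul] at huv
  -- make the cocycle trivial
  haveI : IsMulCommutative K := ⟨⟨fun x x' => Subtype.ext (hM x x.2.1 x' x'.2.1)⟩⟩
  letI : CommGroup K := { (inferInstance : Group K) with mul_comm := mul_comm' }
  let σ : K →* K :=
    { toFun := fun x => ⟨s' * x * s'⁻¹, hKn.conj_mem x x.2 s'⟩
      map_one' := Subtype.ext (by simp)
      map_mul' := fun x x' => Subtype.ext (by show s' * ((x : G) * x') * s'⁻¹ = s' * x * s'⁻¹ * (s' * x' * s'⁻¹); group) }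
  have hit : ∀ k, (v * s') ^ k = ((∏ i ∈ Finset.range k, σ^[i] ⟨v, hv⟩ : K) : G) * s' ^ k := by
    intro k
    induction k with
    | zero => simp
    | succ k ih =>
      have hitv : ∀ i, ((σ^[i] ⟨v, hv⟩ : K) : G) = s' ^ i * v * (s' ^ i)⁻¹ := by
        intro i
        induction i with
        | zero => simp
        | succ i ihi =>
          rw [Function.iterate_succ_apply']
          show s' * _ * s'⁻¹ = _
          rw [ihi, pow_succ']; group
      rw [pow_succ, ih, Finset.prod_range_succ, Subgroup.coe_mul, hitv, pow_succ]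
      group
  obtain ⟨z, hz⟩ := exists_coboundary σ (p := p) ⟨v, hv⟩ (by
    have h := hit p
    rw [← huv, ← hyo, pow_orderOf_eq_one, hyo, hs'def, conj_pow, hsp, mul_one, mul_inv_cancel, mul_one] at h
    exact Subtype.ext h.symm)
    (by
      rw [hp.coprime_iff_not_dvd, ← Subgroup.orderOf_coe]
      exact fun h => hp.coprime_iff_not_dvd.mp (Nat.coprime_ordCompl hp Nat.card_pos.ne')
        (h.trans (orderOf_dvd_of_pow_eq_one hv.2)))
  refine ⟨y, (z : G) * g, fun h => by rw [h, orderOf_one] at hyo; exact hp.ne_one hyo.symm, hyB, ?_⟩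
  have hzv := congrArg Subtype.val hz
  rw [div_eq_mul_inv, Subgroup.coe_mul, Subgroup.coe_inv] at hzv
  change v = (z : G) * (s' * (z : G) * s'⁻¹)⁻¹ at hzv
  have hfin : ((z : G) * g)⁻¹ * y * ((z : G) * g) = s := by
    rw [huv, hzv, hs'def]; group
  rw [hfin]; exact hs


/-- If a nontrivial finite group G is the product AB of abelian subgroups A and B, then some nontrivial normal subgroup of G is contained in A or in B. -/
theorem result {G : Type*} [Group G] [Finite G] [Nontrivial G] (A B : Subgroup G) [IsMulCommutative A] [IsMulCommutative B] (hAB : ∀ g : G, ∃ a ∈ A, ∃ b ∈ B, g = a * b) : ∃ N : Subgroup G, N.Normal ∧ N ≠ ⊥ ∧ (N ≤ A ∨ N ≤ B) := by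
  classical
  haveI : Group.IsSolvable G := ⟨⟨2, Cfsg.Agent.S0572.metabelian A B hAB⟩⟩
  have hmeta := Cfsg.Agent.S0572.metabelian A B hAB
  rw [derivedSeries_succ, derivedSeries_one] at hmeta
  have hM : ∀ x ∈ commutator G, ∀ y ∈ commutator G, Commute x y := fun x hx y hy =>
    commutatorElement_eq_one_iff_commute.mp (Subgroup.mem_bot.mp (hmeta ▸ Subgroup.commutator_mem_commutator hx hy))
  have hBA : ∀ x : G, ∃ b ∈ B, ∃ a ∈ A, x = b * a := fun x => by
    obtain ⟨a, ha, b, hb, h⟩ := hAB x⁻¹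
    exact ⟨b⁻¹, inv_mem hb, a⁻¹, inv_mem ha, by rw [← mul_inv_rev, ← h, inv_inv]⟩
  -- a non-trivial centre gives a normal subgroup inside a factor
  have hcent : Subgroup.center G ≠ ⊥ → ∃ N : Subgroup G, N.Normal ∧ N ≠ ⊥ ∧ (N ≤ A ∨ N ≤ B) := by
    intro h
    obtain ⟨⟨z, hz⟩, hz1⟩ := Subgroup.ne_bot_iff_exists_ne_one.mp h
    obtain ⟨a, ha, b, hb, e⟩ := hAB z
    by_cases hb1 : b = 1
    · refine ⟨Subgroup.zpowers z, ?_, ?_, Or.inl (Subgroup.zpowers_le.mpr (by rw [e, hb1, mul_one]; exact ha))⟩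
      · exact ⟨fun x hx w => by
          have hxc : x ∈ Subgroup.center G := Subgroup.zpowers_le.mpr hz hx
          rw [Subgroup.mem_center_iff.mp hxc w, mul_inv_cancel_right]; exact hx⟩
      · rw [Ne, Subgroup.zpowers_eq_bot]
        exact fun h => hz1 (Subtype.ext h)
    · have hbc : b ∈ Subgroup.center G := by
        refine Subgroup.mem_center_iff.mpr fun x => ?_
        obtain ⟨a', ha', b', hb', rfl⟩ := hAB x
        have h1 : a' * b = b * a' := by
          have h2 : a' * z = z * a' := Subgroup.mem_center_iff.mp hz a'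
          have h3 : a' * a = a * a' := congrArg Subtype.val (mul_comm' (⟨a', ha'⟩ : A) ⟨a, ha⟩)
          calc a' * b = a⁻¹ * (a' * a) * b := by rw [h3]; group
            _ = a⁻¹ * (a' * z) := by rw [e]; group
            _ = a⁻¹ * (z * a') := by rw [h2]
            _ = b * a' := by rw [e]; group
        have h4 : b' * b = b * b' := congrArg Subtype.val (mul_comm' (⟨b', hb'⟩ : B) ⟨b, hb⟩)
        rw [mul_assoc, h4, ← mul_assoc, h1, mul_assoc]
      refine ⟨Subgroup.zpowers b, ?_, by rwa [Ne, Subgroup.zpowers_eq_bot], Or.inr (Subgroup.zpowers_le.mpr hb)⟩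
      exact ⟨fun x hx w => by
        have hxc : x ∈ Subgroup.center G := Subgroup.zpowers_le.mpr hbc hx
        rw [Subgroup.mem_center_iff.mp hxc w, mul_inv_cancel_right]; exact hx⟩
  by_cases hM1 : commutator G = ⊥
  · refine hcent ?_
    have htop : Subgroup.center G = ⊤ := eq_top_iff.mpr fun x _ => Subgroup.mem_center_iff.mpr fun w => by
      have := Subgroup.commutator_mem_commutator (Subgroup.mem_top w) (Subgroup.mem_top x)
      rw [← commutator_def, hM1, Subgroup.mem_bot, commutatorElement_eq_one_iff_mul_comm] at this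
      exact this
    rw [htop]; exact top_ne_bot
  have viaA : ∀ z : G, z ≠ 1 → z ∈ A ⊔ commutator G → (∀ a ∈ A, ∀ μ ∈ commutator G, Commute z (a * μ)) →
      ∃ N : Subgroup G, N.Normal ∧ N ≠ ⊥ ∧ (N ≤ A ∨ N ≤ B) := fun z h1 h2 h3 => by
    rcases center_ne_bot hAB h1 h3 h2 with h | ⟨N, hN1, hN2, hN3⟩
    · exact hcent h
    · exact ⟨N, hN1, hN2, Or.inl hN3⟩
  have viaB : ∀ z : G, z ≠ 1 → z ∈ B ⊔ commutator G → (∀ b ∈ B, ∀ μ ∈ commutator G, Commute z (b * μ)) →
      ∃ N : Subgroup G, N.Normal ∧ N ≠ ⊥ ∧ (N ≤ A ∨ N ≤ B) := fun z h1 h2 h3 => by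
    rcases center_ne_bot hBA h1 h3 h2 with h | ⟨N, hN1, hN2, hN3⟩
    · exact hcent h
    · exact ⟨N, hN1, hN2, Or.inr hN3⟩
  by_cases hAM : A ⊓ commutator G = ⊥
  swap
  · obtain ⟨⟨z, hzA, hzM⟩, hz1⟩ := Subgroup.ne_bot_iff_exists_ne_one.mp hAM
    exact viaA z (fun h => hz1 (Subtype.ext h)) (Subgroup.mem_sup_left hzA) fun a ha μ hμ =>
      (show Commute z a from congrArg Subtype.val (mul_comm' (⟨z, hzA⟩ : A) ⟨a, ha⟩)).mul_right (hM z hzM μ hμ)
  by_cases hBM : B ⊓ commutator G = ⊥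
  swap
  · obtain ⟨⟨z, hzB, hzM⟩, hz1⟩ := Subgroup.ne_bot_iff_exists_ne_one.mp hBM
    exact viaB z (fun h => hz1 (Subtype.ext h)) (Subgroup.mem_sup_left hzB) fun a ha μ hμ =>
      (show Commute z a from congrArg Subtype.val (mul_comm' (⟨z, hzB⟩ : B) ⟨a, ha⟩)).mul_right (hM z hzM μ hμ)
  by_cases hCA : ∀ x ∈ commutator G, (∀ a ∈ A, Commute a x) → x = 1
  swap
  · push Not at hCA
    obtain ⟨x, hx, hxc, hx1⟩ := hCA
    exact viaA x hx1 (Subgroup.mem_sup_right hx) fun a ha μ hμ => (hxc a ha).symm.mul_right (hM x hx μ hμ)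
  by_cases hCB : ∀ x ∈ commutator G, (∀ b ∈ B, Commute b x) → x = 1
  swap
  · push Not at hCB
    obtain ⟨x, hx, hxc, hx1⟩ := hCB
    exact viaB x hx1 (Subgroup.mem_sup_right hx) fun a ha μ hμ => (hxc a ha).symm.mul_right (hM x hx μ hμ)
  by_cases hAB1 : A ⊓ B = ⊥
  swap
  · obtain ⟨⟨z, hzA, hzB⟩, hz1⟩ := Subgroup.ne_bot_iff_exists_ne_one.mp hAB1
    refine hcent fun h => hz1 ?_
    have := mem_center_of_shared hAB (z := z) (g := 1) (by simpa using hzA) hzB
    rw [h, Subgroup.mem_bot] at this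
    exact Subtype.ext this
  obtain ⟨z, g, hz1, hzB, hzA⟩ := exists_shared hAB hM hM1 hAM hCA hCB hBM hAB1
  refine hcent fun h => hz1 ?_
  have := mem_center_of_shared hAB hzA hzB
  rwa [h, Subgroup.mem_bot] at this
end Cfsg.Agent.S0573
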