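import Cfsg.Statements.S0571
import Cfsg.Agent.S0573
import Cfsg.Agent.Lib.Supersolvable.Basic

set_option autoImplicit false
open Cfsg

namespace Cfsg.Agent.S0571

/-- Induction on the order. -/
theorem supersolvable_of_card.{w} : ∀ n : ℕ, ∀ (G : Type w) [Group G] [Finite G], Nat.card G ≤ n →
    ∀ (A B : Subgroup G) [IsCyclic A] [IsCyclic B], (∀ g : G, ∃ a ∈ A, ∃ b ∈ B, g = a * b) →
      Cfsg.IsSupersolvable G := by
  intro n
  induction n with
  | zero => exact fun G _ _ h => absurd h (by have := Nat.card_pos (α := G); omega)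
  | succ n ih =>
    intro G _ _ hn A B hA hB hAB
    rcases subsingleton_or_nontrivial G with hs | hs
    · exact CfsgLib.Supersolvable.of_subsingleton
    haveI : IsMulCommutative A := ⟨⟨fun x y => by
      letI := IsCyclic.commGroup (α := A)
      exact mul_comm x y⟩⟩
    haveI : IsMulCommutative B := ⟨⟨fun x y => by
      letI := IsCyclic.commGroup (α := B)
      exact mul_comm x y⟩⟩
    obtain ⟨N, hN, hN1, hle⟩ := Cfsg.Agent.S0573.result A B hAB
    haveI := hN
    haveI : IsCyclic N := by
      rcases hle with h | h
      · exact isCyclic_of_injective (Subgroup.inclusion h) (Subgroup.inclusion_injective h)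
      · exact isCyclic_of_injective (Subgroup.inclusion h) (Subgroup.inclusion_injective h)
    refine CfsgLib.Supersolvable.of_quotient_cyclic N ?_
    have hlt : Nat.card (G ⧸ N) < Nat.card G := by
      rw [Subgroup.card_eq_card_quotient_mul_card_subgroup N]
      refine lt_mul_of_one_lt_right Nat.card_pos ?_
      exact (Subgroup.one_lt_card_iff_ne_bot N).mpr hN1
    set f := QuotientGroup.mk' N
    haveI : IsCyclic (A.map f) := isCyclic_of_surjective _ (f.subgroupMap_surjective A)
    haveI : IsCyclic (B.map f) := isCyclic_of_surjective _ (f.subgroupMap_surjective B)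
    refine ih (G ⧸ N) (by omega) (A.map f) (B.map f) fun g => ?_
    obtain ⟨x, rfl⟩ := QuotientGroup.mk'_surjective N g
    obtain ⟨a, ha, b, hb, rfl⟩ := hAB x
    exact ⟨f a, ⟨a, ha, rfl⟩, f b, ⟨b, hb, rfl⟩, map_mul f a b⟩


/-- If a finite group G is the product AB of two cyclic subgroups (every element is a product ab), then G is supersolvable. -/
theorem result {G : Type*} [Group G] [Finite G] (A B : Subgroup G) [IsCyclic A] [IsCyclic B] (hAB : ∀ g : G, ∃ a ∈ A, ∃ b ∈ B, g = a * b) : Cfsg.IsSupersolvable G := by
  exact supersolvable_of_card _ G le_rfl A B hAB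
end Cfsg.Agent.S0571
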