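import Cfsg.Statements.S0574
import Mathlib
import Cfsg.Agent.S0572
import Cfsg.Agent.Lib.AbelianNilProduct.Normal

set_option autoImplicit false
open Cfsg

namespace Cfsg.Agent.S0574

open scoped commutatorElement

universe u

variable {G : Type u} [Group G]

/-- If the subgroup `A K` meets `B` in a commutative set, then `K` is metabelian. -/
theorem derived_two_eq_bot {A B K : Subgroup G} [K.Normal] [IsMulCommutative A]
    (hAB : ∀ g : G, ∃ a ∈ A, ∃ b ∈ B, g = a * b)
    (hc : ∀ x ∈ B, x ∈ A ⊔ K → ∀ y ∈ B, y ∈ A ⊔ K → Commute x y) : derivedSeries K 2 = ⊥ := by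
  set X := (A ⊔ K) ⊓ (B ⊔ K)
  haveI : IsMulCommutative (A.subgroupOf X) := ⟨⟨fun x y => Subtype.ext (Subtype.ext
    (congrArg Subtype.val (mul_comm' (⟨_, x.2⟩ : A) ⟨_, y.2⟩) :))⟩⟩
  haveI : IsMulCommutative (B.subgroupOf X) := ⟨⟨fun x y => Subtype.ext (Subtype.ext
    (hc _ x.2 x.1.2.1 _ y.2 y.1.2.1).eq)⟩⟩
  have hfac : ∀ g : X, ∃ a ∈ A.subgroupOf X, ∃ b ∈ B.subgroupOf X, g = a * b := by
    intro g
    obtain ⟨a, ha, b, hb, e⟩ := hAB (g : G)
    have hbX : b ∈ X := by
      refine Subgroup.mem_inf.mpr ⟨?_, Subgroup.mem_sup_left hb⟩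
      have : b = a⁻¹ * (g : G) := by rw [e, inv_mul_cancel_left]
      rw [this]
      exact mul_mem (inv_mem (Subgroup.mem_sup_left ha)) g.2.1
    have haX : a ∈ X := by
      have : a = (g : G) * b⁻¹ := by rw [e, mul_inv_cancel_right]
      rw [this]
      exact mul_mem g.2 (inv_mem hbX)
    exact ⟨⟨a, haX⟩, ha, ⟨b, hbX⟩, hb, Subtype.ext e⟩
  have h := Cfsg.Agent.S0572.metabelian _ _ hfac
  have hKX : K ≤ X := le_inf le_sup_right le_sup_right
  have h2 := map_derivedSeries_le_derivedSeries (Subgroup.inclusion hKX) 2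
  rw [h, le_bot_iff, Subgroup.map_eq_bot_iff_of_injective _ (Subgroup.inclusion_injective hKX)] at h2
  exact h2

/-- Derived series through a normal subgroup. -/
theorem derived_add_le {K : Subgroup G} {i : ℕ} (h : derivedSeries G i ≤ K) (j : ℕ) :
    derivedSeries G (i + j) ≤ (derivedSeries K j).map K.subtype := by
  induction j with
  | zero => simpa [← MonoidHom.range_eq_map] using h
  | succ j ih =>
    rw [← add_assoc, derivedSeries_succ, derivedSeries_succ, Subgroup.map_commutator]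
    exact Subgroup.commutator_mono ih ih

theorem length_lt {d c : ℕ} (hc : c ≠ 0) (h : d ∣ c) (hlt : d ≠ c) :
    d.primeFactorsList.length < c.primeFactorsList.length := by
  obtain ⟨k, rfl⟩ := h
  have hd : d ≠ 0 := left_ne_zero_of_mul hc
  have hk : k ≠ 0 := right_ne_zero_of_mul hc
  rw [(Nat.perm_primeFactorsList_mul hd hk).length_eq, List.length_append]
  refine Nat.lt_add_of_pos_right (List.length_pos_iff.mpr fun hnil => ?_)
  rcases (Nat.primeFactorsList_eq_nil k).mp hnil with h0 | h1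
  · exact hk h0
  · exact hlt (by rw [h1, mul_one])

theorem aux (k : ℕ) : ∀ (G : Type u) [Group G] [Finite G], Nat.card G = k → ∀ A B : Subgroup G,
    (∀ a ∈ A, ∀ a' ∈ A, Commute a a') →
    (∀ z ∈ ⁅B, B⁆, ∀ b ∈ B, Commute b z) → (∀ g : G, ∃ a ∈ A, ∃ b ∈ B, g = a * b) →
    derivedSeries G (2 * (1 + (Nat.card ↥⁅B, B⁆).primeFactorsList.length)) = ⊥ := by
  induction k using Nat.strong_induction_on with
  | _ k IH =>
  intro G _ _ hk A B hA hB hAB
  subst hk
  classical
  haveI hAc : IsMulCommutative A := ⟨⟨fun x y => Subtype.ext (hA x x.2 y y.2).eq⟩⟩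
  set D := ⁅B, B⁆ with hD
  have hDB : D ≤ B := Subgroup.commutator_le.mpr fun x hx y hy => by
    rw [commutatorElement_def]
    exact mul_mem (mul_mem (mul_mem hx hy) (inv_mem hx)) (inv_mem hy)
  have hBA : ∀ g : G, ∃ b ∈ B, ∃ a ∈ A, g = b * a := by
    intro g
    obtain ⟨a, ha, b, hb, h⟩ := hAB g⁻¹
    exact ⟨b⁻¹, inv_mem hb, a⁻¹, inv_mem ha, by rw [← mul_inv_rev, ← h, inv_inv]⟩
  by_cases hD0 : D = ⊥
  · haveI : IsMulCommutative B := ⟨⟨fun x y => Subtype.ext (commutatorElement_eq_one_iff_mul_comm.mp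
      (Subgroup.mem_bot.mp (hD0 ▸ Subgroup.commutator_mem_commutator x.2 y.2)))⟩⟩
    exact le_bot_iff.mp ((derivedSeries_antitone G (by omega : 2 ≤ _)).trans
      (Cfsg.Agent.S0572.metabelian A B hAB).le)
  -- it suffices to find a metabelian normal subgroup meeting the derived subgroup of `B`
  suffices hK : ∃ K : Subgroup G, ∃ _ : K.Normal, derivedSeries K 2 = ⊥ ∧ D ⊓ K ≠ ⊥ by
    obtain ⟨K, _, hK2, hDK⟩ := hK
    set π := QuotientGroup.mk' K
    have hK0 : K ≠ ⊥ := fun h => hDK (by rw [h, inf_bot_eq])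
    have hmap : ⁅B.map π, B.map π⁆ = D.map π := (Subgroup.map_commutator B B π).symm
    have hIH := IH _ (CfsgLib.NilProduct.card_quotient_lt hK0) (G ⧸ K) rfl (A.map π) (B.map π) ?_ ?_
      (CfsgLib.NilProduct.exists_fac_map hAB K)
    · have hlt : (Nat.card ↥⁅B.map π, B.map π⁆).primeFactorsList.length <
          (Nat.card D).primeFactorsList.length := by
        rw [hmap]
        refine length_lt Nat.card_pos.ne' (Subgroup.card_map_dvd _ _) fun he => hDK ?_
        refine (Subgroup.eq_bot_iff_forall _).mpr fun x hx => ?_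
        have hinj : Function.Injective (π.subgroupMap D) :=
          ((Nat.bijective_iff_surjective_and_card _).mpr ⟨π.subgroupMap_surjective D, he.symm⟩).1
        have h1 : π.subgroupMap D ⟨x, hx.1⟩ = π.subgroupMap D 1 := by
          rw [map_one]; exact Subtype.ext ((QuotientGroup.eq_one_iff x).mpr hx.2)
        exact congrArg Subtype.val (hinj h1)
      set ω := (Nat.card D).primeFactorsList.length
      have h1 : derivedSeries G (2 * ω) ≤ K := by
        have h2 := map_derivedSeries_eq (f := π) (QuotientGroup.mk'_surjective K) (2 * ω)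
        rw [le_bot_iff.mp ((derivedSeries_antitone (G ⧸ K)
          (show 2 * (1 + (Nat.card ↥⁅B.map π, B.map π⁆).primeFactorsList.length) ≤ 2 * ω by omega)).trans hIH.le),
          Subgroup.map_eq_bot_iff, QuotientGroup.ker_mk'] at h2
        exact h2
      have h3 := derived_add_le h1 2
      rw [hK2, Subgroup.map_bot, le_bot_iff] at h3
      rw [show 2 * (1 + ω) = 2 * ω + 2 by omega]
      exact h3
    · rintro _ ⟨a, ha, rfl⟩ _ ⟨a', ha', rfl⟩
      exact (hA a ha a' ha').map π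
    · rw [hmap]
      rintro _ ⟨z, hz, rfl⟩ _ ⟨b, hb, rfl⟩
      exact (hB z hz b hb).map π
  -- the normal closure of `A ⊓ B`
  set Q := Subgroup.closure (((A ⊓ B : Subgroup G) : Set G) ∪ (D : Set G)) with hQ
  have hQB : Q ≤ B := (Subgroup.closure_le _).mpr (Set.union_subset (fun x hx => hx.2) hDB)
  haveI : IsMulCommutative Q := by
    refine Subgroup.isMulCommutative_closure ?_
    rintro x (hx | hx) y (hy | hy)
    · exact (hA x hx.1 y hy.1).eq
    · exact (hB y hy x hx.2).eq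
    · exact (hB x hx y hy.2).eq.symm
    · exact (hB y hy x (hDB hx)).eq
  have hQc : ∀ x ∈ Q, ∀ y ∈ Q, Commute x y := fun x hx y hy =>
    congrArg Subtype.val (mul_comm' (⟨x, hx⟩ : Q) ⟨y, hy⟩)
  set K₀ := Subgroup.normalClosure ((A ⊓ B : Subgroup G) : Set G) with hK₀
  have hK₀Q : K₀ ≤ Q := by
    rw [hK₀, Subgroup.normalClosure, Subgroup.closure_le]
    intro y hy
    obtain ⟨u, hu, huy⟩ := Group.mem_conjugatesOfSet_iff.mp hy
    obtain ⟨g, rfl⟩ := isConj_iff.mp huy
    obtain ⟨b, hb, a, ha, rfl⟩ := hBA g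
    have e : b * a * u * (b * a)⁻¹ = u * ⁅u⁻¹, b⁆ := by
      rw [mul_assoc b a u, (hA a ha u hu.1).eq, commutatorElement_def]; group
    rw [e]
    exact mul_mem (Subgroup.subset_closure (Or.inl hu))
      (Subgroup.subset_closure (Or.inr (Subgroup.commutator_mem_commutator (inv_mem hu.2) hb)))
  by_cases hc₀ : D ⊓ K₀ = ⊥
  swap
  · refine ⟨K₀, inferInstance, derived_two_eq_bot hAB ?_, hc₀⟩
    have hmem : ∀ x ∈ B, x ∈ A ⊔ K₀ → x ∈ Q := by
      intro x hx hxs
      obtain ⟨a, ha, c, hc, rfl⟩ := Subgroup.mem_sup_of_normal_right.mp hxs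
      have haB : a ∈ B := (B.mul_mem_cancel_right (hQB (hK₀Q hc))).mp hx
      exact mul_mem (Subgroup.subset_closure (Or.inl ⟨ha, haB⟩)) (hK₀Q hc)
    exact fun x hx hxs y hy hys => hQc x (hmem x hx hxs) y (hmem y hy hys)
  -- a maximal normal subgroup `N` with `B ⊓ A N` central in `B`
  let good : Subgroup G → Prop := fun N => N.Normal ∧ ∀ x ∈ B, x ∈ A ⊔ N → ∀ y ∈ B, Commute y x
  have hbot : good ⊥ := by
    refine ⟨inferInstance, fun x hx hxs y hy => ?_⟩
    rw [sup_bot_eq] at hxs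
    have hxK : x ∈ K₀ := Subgroup.subset_normalClosure ⟨hxs, hx⟩
    refine commutatorElement_eq_one_iff_mul_comm.mp (Subgroup.mem_bot.mp (hc₀ ▸ ?_))
    refine Subgroup.mem_inf.mpr ⟨Subgroup.commutator_mem_commutator hy hx, ?_⟩
    rw [commutatorElement_def]
    exact mul_mem (Subgroup.normalClosure_normal.conj_mem x hxK y) (inv_mem hxK)
  obtain ⟨N, -, ⟨hNn, hN⟩, hmax⟩ := Finite.exists_le_maximal (p := good) hbot
  haveI := hNn
  by_cases hc₁ : D ⊓ N = ⊥
  swap
  · exact ⟨N, hNn, derived_two_eq_bot hAB fun x hx hxs y hy _ => (hN x hx hxs y hy).symm, hc₁⟩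
  have hNt : N ≠ ⊤ := by
    rintro rfl
    refine hD0 (le_bot_iff.mp (Subgroup.commutator_le.mpr fun x hx y hy => ?_))
    rw [Subgroup.mem_bot, commutatorElement_eq_one_iff_mul_comm]
    exact (hN x hx (Subgroup.mem_sup_right (Subgroup.mem_top x)) y hy).eq.symm
  set π := QuotientGroup.mk' N with hπ
  haveI : Nontrivial (G ⧸ N) := QuotientGroup.nontrivial_iff.mpr hNt
  have hBnil : Group.IsNilpotent B := by
    rw [Subgroup.nilpotent_iff_lowerCentralSeries]
    refine ⟨2, ?_⟩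
    rw [Subgroup.lowerCentralSeries_succ, Subgroup.lowerCentralSeries_succ, Subgroup.lowerCentralSeries_zero, eq_bot_iff]
    refine Subgroup.commutator_le.mpr fun z hz b hb => ?_
    rw [Subgroup.mem_bot, commutatorElement_eq_one_iff_mul_comm]
    refine Subtype.ext (hB z ?_ b b.2).eq.symm
    rw [hD, ← Subgroup.map_subtype_commutator B, commutator_def]
    exact Subgroup.mem_map_of_mem _ hz
  obtain ⟨T, hTn, hT0, hT⟩ := CfsgLib.AbelianNil.exists_normal_le (A.map π) (B.map π)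
    (by rintro _ ⟨a, ha, rfl⟩ _ ⟨a', ha', rfl⟩; exact (hA a ha a' ha').map π)
    (CfsgLib.NilProduct.isNilpotent_map hBnil π) (CfsgLib.NilProduct.exists_fac_map hAB N)
  have hgt : ∀ S : Subgroup (G ⧸ N), S ≠ ⊥ → ¬ S.comap π ≤ N := fun S hS h => hS <| by
    refine (Subgroup.eq_bot_iff_forall S).mpr fun u hu => ?_
    obtain ⟨x, rfl⟩ := QuotientGroup.mk'_surjective N u
    exact (QuotientGroup.eq_one_iff x).mpr (h hu)
  have hNle : ∀ S : Subgroup (G ⧸ N), N ≤ S.comap π := fun S x hx => by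
    rw [Subgroup.mem_comap, show π x = 1 from (QuotientGroup.eq_one_iff x).mpr hx]; exact one_mem S
  rcases hT with hTA | hTB
  · exfalso
    refine hgt T hT0 (hmax ⟨hTn.comap π, fun x hx hxs => hN x hx ?_⟩ (hNle T))
    refine (sup_le le_sup_left ?_ : A ⊔ T.comap π ≤ A ⊔ N) hxs
    intro m hm
    obtain ⟨a, ha, ham⟩ := hTA hm
    have h1 : a⁻¹ * m ∈ N := QuotientGroup.eq.mp ham
    simpa using mul_mem (Subgroup.mem_sup_left ha) (Subgroup.mem_sup_right h1 : a⁻¹ * m ∈ A ⊔ N)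
  obtain ⟨S, hSn, hS0, hSB, hSc⟩ : ∃ S : Subgroup (G ⧸ N), S.Normal ∧ S ≠ ⊥ ∧ S ≤ B.map π ∧
      ∀ x ∈ S, ∀ y ∈ S, Commute x y := by
    haveI := hTn
    by_cases h : ⁅T, T⁆ = ⊥
    · exact ⟨T, hTn, hT0, hTB, fun x hx y hy => commutatorElement_eq_one_iff_mul_comm.mp
        (Subgroup.mem_bot.mp (h ▸ Subgroup.commutator_mem_commutator hx hy))⟩
    · have hle : ⁅T, T⁆ ≤ D.map π := (Subgroup.commutator_mono hTB hTB).trans
        (Subgroup.map_commutator B B π).ge
      refine ⟨⁅T, T⁆, inferInstance, h, (Subgroup.commutator_le_left T T).trans hTB, fun x hx y hy => ?_⟩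
      obtain ⟨x₀, hx₀, rfl⟩ := hle hx
      obtain ⟨y₀, hy₀, rfl⟩ := hle hy
      exact ((hB y₀ hy₀ x₀ (hDB hx₀))).map π
  set M := S.comap π with hMdef
  haveI : M.Normal := hSn.comap π
  have hMc : ∀ q ∈ B, q ∈ M → ∀ q' ∈ B, q' ∈ M → Commute q q' := by
    intro q hq hqM q' hq' hq'M
    refine commutatorElement_eq_one_iff_mul_comm.mp (Subgroup.mem_bot.mp (hc₁ ▸ ?_))
    refine Subgroup.mem_inf.mpr ⟨Subgroup.commutator_mem_commutator hq hq', ?_⟩
    refine (QuotientGroup.eq_one_iff _).mp ?_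
    change π ⁅q, q'⁆ = 1
    rw [map_commutatorElement, commutatorElement_eq_one_iff_mul_comm]
    exact (hSc _ hqM _ hq'M).eq
  have hdec : ∀ x ∈ B, x ∈ A ⊔ M → ∃ w, (∀ y ∈ B, Commute y w) ∧ ∃ q ∈ B, q ∈ M ∧ x = w * q := by
    intro x hx hxs
    obtain ⟨a, ha, m, hm, rfl⟩ := Subgroup.mem_sup_of_normal_right.mp hxs
    obtain ⟨q, hq, hqm⟩ := hSB hm
    have hqM : q ∈ M := by rw [hMdef, Subgroup.mem_comap, hqm]; exact hm
    have hn : q⁻¹ * m ∈ N := QuotientGroup.eq.mp hqm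
    refine ⟨a * m * q⁻¹, hN _ (mul_mem hx (inv_mem hq)) ?_, q, hq, hqM, (inv_mul_cancel_right _ _).symm⟩
    have := hNn.conj_mem _ hn q
    rw [mul_assoc]
    refine mul_mem (Subgroup.mem_sup_left ha) (Subgroup.mem_sup_right ?_)
    rwa [mul_inv_cancel_left] at this
  by_cases hcen : ∀ q ∈ B, q ∈ M → ∀ y ∈ B, Commute y q
  · exfalso
    refine hgt S hS0 (hmax ⟨inferInstance, fun x hx hxs y hy => ?_⟩ (hNle S))
    obtain ⟨w, hw, q, hq, hqM, rfl⟩ := hdec x hx hxs
    exact (hw y hy).mul_right (hcen q hq hqM y hy)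
  push Not at hcen
  obtain ⟨q, hq, hqM, y, hy, hyq⟩ := hcen
  refine ⟨M, inferInstance, derived_two_eq_bot hAB fun x hx hxs x' hx' hxs' => ?_, fun h => hyq ?_⟩
  · obtain ⟨w, hw, q₁, hq₁, hq₁M, rfl⟩ := hdec x hx hxs
    obtain ⟨w', hw', q₂, hq₂, hq₂M, rfl⟩ := hdec x' hx' hxs'
    have hwB : w ∈ B := (B.mul_mem_cancel_right hq₁).mp hx
    exact ((hw' w hwB).mul_right (hw q₂ hq₂).symm).mul_left
      ((hw' q₁ hq₁).mul_right (hMc q₁ hq₁ hq₁M q₂ hq₂ hq₂M))
  · refine commutatorElement_eq_one_iff_mul_comm.mp (Subgroup.mem_bot.mp (h ▸ ?_))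
    refine Subgroup.mem_inf.mpr ⟨Subgroup.commutator_mem_commutator hy hq, ?_⟩
    rw [commutatorElement_def]
    exact mul_mem (‹M.Normal›.conj_mem q hqM y) (inv_mem hqM)

/-- Let the finite group G be the product AB of an abelian subgroup A and a subgroup B of nilpotency class at most two, and let Ω be the number of prime factors, with multiplicity, of the order of the commutator subgroup of B. Then the term of index 2(1 + Ω) of the derived series of G is trivial. -/
theorem result {G : Type*} [Group G] [Finite G] (A B : Subgroup G) [IsMulCommutative A] (hB : commutator ↥B ≤ Subgroup.center ↥B) (hAB : ∀ g : G, ∃ a ∈ A, ∃ b ∈ B, g = a * b) : derivedSeries G (2 * (1 + (Nat.card ↥(commutator ↥B)).primeFactorsList.length)) = ⊥ := by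
  have hD : ⁅B, B⁆ = (commutator ↥B).map B.subtype := (Subgroup.map_subtype_commutator B).symm
  have hc : Nat.card ↥(commutator ↥B) = Nat.card ↥⁅B, B⁆ := by
    rw [hD, Subgroup.card_map_of_injective B.subtype_injective]
  rw [hc]
  refine aux _ G rfl A B
    (fun a ha a' ha' => congrArg Subtype.val (mul_comm' (⟨a, ha⟩ : A) ⟨a', ha'⟩))
    (fun z hz b hb => ?_) hAB
  rw [hD] at hz
  obtain ⟨z, hz, rfl⟩ := hz
  exact congrArg Subtype.val (Subgroup.mem_center_iff.mp (hB hz) ⟨b, hb⟩)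

end Cfsg.Agent.S0574
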