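import Cfsg.Statements.S0575
import Mathlib

set_option autoImplicit false
set_option linter.style.haveILetI false
open Cfsg

namespace Cfsg.Agent.S0575

/-- If H is a normal subgroup of a finite group G, then the Frattini subgroup of H, viewed in G, lies in the Frattini subgroup of G. -/
theorem result {G : Type*} [Group G] [Finite G] (H : Subgroup G) [H.Normal] : (frattini ↥H).map H.subtype ≤ frattini G := by
  haveI : ((frattini H).map H.subtype).Normal := ConjAct.normal_of_characteristic_of_normal
  set N := (frattini H).map H.subtype with hN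
  have hNH : N ≤ H := Subgroup.map_subtype_le _
  refine le_iInf₂ fun M hM => ?_
  by_contra hNM
  have htop : M ⊔ N = ⊤ := hM.2 _ (left_lt_sup.mpr hNM)
  refine hNM (hNH.trans ?_)
  have hsup : M.subgroupOf H ⊔ frattini H = ⊤ := by
    rw [Subgroup.eq_top_iff']
    intro x
    have hx : (x : G) ∈ M ⊔ N := htop ▸ Subgroup.mem_top _
    obtain ⟨m, hm, n, ⟨n', hn', rfl⟩, e⟩ := Subgroup.mem_sup_of_normal_right.mp hx
    have hmH : m ∈ H := by
      have : m = (x : G) * (n' : G)⁻¹ := eq_mul_inv_of_mul_eq e
      rw [this]
      exact H.mul_mem x.2 (H.inv_mem n'.2)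
    rw [show x = (⟨m, hmH⟩ : H) * n' from Subtype.ext e.symm]
    exact Subgroup.mul_mem _ (Subgroup.mem_sup_left hm) (Subgroup.mem_sup_right hn')
  exact Subgroup.subgroupOf_eq_top.mp (frattini_nongenerating hsup)

end Cfsg.Agent.S0575
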