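import Cfsg.Statements.S0576
import Mathlib

set_option autoImplicit false
open Cfsg

namespace Cfsg.Agent.S0576

/-- Let H be a normal subgroup of a finite group G with H contained in the Frattini subgroup of G. Then the group of inner automorphisms of H is contained in the Frattini subgroup of the automorphism group of H. -/
theorem result {G : Type*} [Group G] [Finite G] (H : Subgroup G) [H.Normal] (hH : H ≤ frattini G) : (MulAut.conj : ↥H →* MulAut ↥H).range ≤ frattini (MulAut ↥H) := by
  let φ : G →* MulAut ↥H := MulAut.conjNormal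
  set N : Subgroup (MulAut ↥H) := (MulAut.conj : ↥H →* MulAut ↥H).range with hN
  haveI : Finite (MulAut ↥H) := Finite.of_injective (fun f => (f : ↥H → ↥H)) DFunLike.coe_injective
  have hφ : ∀ h : ↥H, φ (h : G) = MulAut.conj h := fun h => by
    ext x; simp [φ, MulAut.conjNormal_apply]
  haveI : N.Normal := ⟨fun n hn f => by
    obtain ⟨h, rfl⟩ := hn
    refine ⟨f h, MulEquiv.ext fun x => ?_⟩
    simp⟩
  have hNL : N ≤ φ.range := fun n hn => by
    obtain ⟨h, rfl⟩ := hn
    exact ⟨h, hφ h⟩
  have hNF : N.subgroupOf φ.range ≤ frattini φ.range := by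
    intro l hl
    obtain ⟨h, hh⟩ := hl
    have h1 := frattini_le_comap_frattini_of_surjective φ.rangeRestrict_surjective (hH h.2)
    rwa [Subgroup.mem_comap, show φ.rangeRestrict (h : G) = l from Subtype.ext ((hφ h).trans hh)] at h1
  refine le_iInf₂ fun M hM => ?_
  by_contra hNM
  have htop : N ⊔ M = ⊤ := hM.2 _ (lt_of_le_of_ne le_sup_right fun e => hNM (le_sup_left.trans e.ge))
  have hML : M.subgroupOf φ.range ⊔ frattini φ.range = ⊤ := by
    refine eq_top_iff.mpr fun l _ => ?_
    have hl : (l : MulAut ↥H) ∈ ((N ⊔ M : Subgroup _) : Set (MulAut ↥H)) := by rw [htop]; trivial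
    rw [Subgroup.normal_mul, Set.mem_mul] at hl
    obtain ⟨n, hn, m, hm, hnm⟩ := hl
    have hn' : (⟨n, hNL hn⟩ : φ.range) ∈ frattini φ.range := hNF hn
    have hm' : (⟨n, hNL hn⟩ : φ.range)⁻¹ * l ∈ M.subgroupOf φ.range := by
      rw [Subgroup.mem_subgroupOf]
      show n⁻¹ * (l : MulAut ↥H) ∈ M
      rw [← hnm, inv_mul_cancel_left]
      exact hm
    have := mul_mem (Subgroup.mem_sup_right (S := M.subgroupOf φ.range) hn') (Subgroup.mem_sup_left hm')
    rwa [mul_inv_cancel_left] at this
  have h2 := frattini_nongenerating hML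
  rw [Subgroup.subgroupOf_eq_top] at h2
  exact hNM (hNL.trans h2)

end Cfsg.Agent.S0576
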