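import Cfsg.Statements.S0577
import Cfsg.Agent.S0536
import Cfsg.Agent.Lib.RootSub.RankOne
import Cfsg.Agent.Lib.Hall.Carter

set_option autoImplicit false
open Cfsg

namespace Cfsg.Agent.S0577

open scoped commutatorElement


/-- Let G be a finite minimal non-nilpotent group and Q a normal Sylow q-subgroup of G, and let D be the commutator subgroup of Q regarded in G (a normal subgroup). Then G modulo D is non-abelian and all its proper subgroups are abelian. -/
theorem result {G : Type*} [Group G] [Finite G] (hG : Cfsg.IsMinimalNonNilpotent G) (q : ℕ) [Fact q.Prime] (hq : q ∣ Nat.card G) (Q : Sylow q G) (hQ : (Q : Subgroup G).Normal) (D : Subgroup G) [D.Normal] (hD : D = (commutator ↥(Q : Subgroup G)).map (Q : Subgroup G).subtype) : ¬ IsMulCommutative (G ⧸ D) ∧ ∀ K : Subgroup (G ⧸ D), K ≠ ⊤ → IsMulCommutative K := by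
  classical
  have hq' := (Fact.out : q.Prime)
  obtain ⟨p, q₀, hp, hq₀, hpq, P, Q₀, hPc, hQ₀, htop, hPQ⟩ := Cfsg.Agent.S0536.structure_aux hG
  haveI := Fact.mk hp
  haveI := Fact.mk hq₀
  -- `Q` is the normal one of the two Sylow subgroups
  have hqq : q = q₀ := by
    by_contra hne
    haveI := hQ
    haveI := hQ₀
    by_cases hqp : q = p
    · subst hqp
      haveI := Sylow.unique_of_normal Q hQ
      rw [Subsingleton.elim P Q] at hPQ
      refine hPQ fun x hx => Subgroup.mem_centralizer_iff.mpr fun y hy => ?_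
      exact (Subgroup.commute_of_normal_of_disjoint (Q : Subgroup G) (Q₀ : Subgroup G) hQ hQ₀
        (IsPGroup.disjoint_of_ne q q₀ hne _ _ Q.2 Q₀.2) x y hx hy).symm
    · have hcardG : ∀ g : G, g ∈ (P : Subgroup G) ⊔ (Q₀ : Subgroup G) := fun g => htop ▸ Subgroup.mem_top g
      obtain ⟨i, hi⟩ := IsPGroup.iff_card.mp P.2
      obtain ⟨j, hj⟩ := IsPGroup.iff_card.mp Q₀.2
      have hdvd : Nat.card G ∣ p ^ i * q₀ ^ j := by
        have hN : (P : Subgroup G) ≤ Subgroup.normalizer ((Q₀ : Subgroup G) : Set G) := Subgroup.le_normalizer_of_normal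
        have hc : Nat.card G = (Q₀ : Subgroup G).index * Nat.card Q₀ := (Subgroup.index_mul_card _).symm
        rw [hc, hj]
        refine mul_dvd_mul_right (hi ▸ ?_) _
        have hsurj : Function.Surjective ((QuotientGroup.mk' (Q₀ : Subgroup G)).comp (P : Subgroup G).subtype) := by
          intro z
          obtain ⟨g, rfl⟩ := QuotientGroup.mk'_surjective _ z
          obtain ⟨a, ha, b, hb, rfl⟩ := Subgroup.mem_sup_of_normal_right.mp (hcardG g)
          exact ⟨⟨a, ha⟩, by
            show QuotientGroup.mk' _ a = QuotientGroup.mk' _ (a * b)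
            rw [map_mul, show QuotientGroup.mk' (Q₀ : Subgroup G) b = 1 from (QuotientGroup.eq_one_iff b).mpr hb, mul_one]⟩
        exact Subgroup.card_dvd_of_surjective _ hsurj
      rcases hq'.dvd_mul.mp (hq.trans hdvd) with h | h
      · exact hqp ((Nat.prime_dvd_prime_iff_eq hq' hp).mp (hq'.dvd_of_dvd_pow h))
      · exact hne ((Nat.prime_dvd_prime_iff_eq hq' hq₀).mp (hq'.dvd_of_dvd_pow h))
  subst hqq
  haveI := Sylow.unique_of_normal Q hQ
  rw [Subsingleton.elim Q₀ Q] at htop hPQ
  haveI := hQ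
  have hDQ : D ≤ (Q : Subgroup G) := hD ▸ Subgroup.map_subtype_le _
  -- images in the quotient
  set f := QuotientGroup.mk' D
  have hQab : ∀ x ∈ (Q : Subgroup G), ∀ y ∈ (Q : Subgroup G), f x * f y = f y * f x := by
    intro x hx y hy
    rw [← commutatorElement_eq_one_iff_mul_comm, ← map_commutatorElement]
    refine (QuotientGroup.eq_one_iff _).mpr (hD ▸ ⟨⁅(⟨x, hx⟩ : (Q : Subgroup G)), ⟨y, hy⟩⁆,
      Subgroup.commutator_mem_commutator (Subgroup.mem_top _) (Subgroup.mem_top _), rfl⟩)
  refine ⟨fun hab => ?_, fun K hK => ?_⟩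
  · -- an abelian quotient forces the Sylow subgroups to commute
    have hcD : ∀ x y : G, ⁅x, y⁆ ∈ D := fun x y => by
      rw [← QuotientGroup.eq_one_iff]
      show f ⁅x, y⁆ = 1
      rw [map_commutatorElement, commutatorElement_eq_one_iff_mul_comm]
      exact hab.is_comm.comm _ _
    haveI : Group.IsNilpotent (Q : Subgroup G) := Q.2.isNilpotent
    set N := Subgroup.normalizer ((P : Subgroup G) : Set G)
    haveI hPD : ((P : Subgroup G) ⊔ D).Normal := ⟨fun x hx w => by
      have h2 := mul_mem (Subgroup.mem_sup_right (hcD w x) : ⁅w, x⁆ ∈ (P : Subgroup G) ⊔ D) hx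
      rwa [commutatorElement_def, inv_mul_cancel_right] at h2⟩
    have hfr : N ⊔ ((P : Subgroup G) ⊔ D) = ⊤ :=
      Sylow.normalizer_sup_eq_top' P le_sup_left
    rw [← sup_assoc, sup_eq_left.mpr (Subgroup.le_normalizer : (P : Subgroup G) ≤ N)] at hfr
    have hQN : (Q : Subgroup G) ≤ N := by
      have hH : (N.subgroupOf (Q : Subgroup G)) ⊔ commutator (Q : Subgroup G) = ⊤ := by
        rw [eq_top_iff]
        rintro ⟨x, hx⟩ -
        obtain ⟨a, ha, b, hb, hab'⟩ := Subgroup.mem_sup_of_normal_right.mp (hfr ▸ Subgroup.mem_top x)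
        have hb' : b ∈ (commutator ↥(Q : Subgroup G)).map (Q : Subgroup G).subtype := hD ▸ hb
        obtain ⟨b0, hb0, rfl⟩ := hb'
        have haQ : a ∈ (Q : Subgroup G) := by
          have := mul_mem hx (inv_mem b0.2)
          rwa [← hab', Subgroup.coe_subtype, mul_inv_cancel_right] at this
        have e : (⟨x, hx⟩ : (Q : Subgroup G)) = ⟨a, haQ⟩ * b0 := Subtype.ext hab'.symm
        rw [e]
        exact Subgroup.mul_mem_sup (Subgroup.mem_subgroupOf.mpr ha) hb0
      exact Subgroup.subgroupOf_eq_top.mp (CfsgLib.RootSub.eq_top_of_sup_commutator _ hH)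
    have hPn : (P : Subgroup G).Normal := by
      rw [← Subgroup.normalizer_eq_top_iff, eq_top_iff, ← htop]
      exact sup_le Subgroup.le_normalizer hQN
    exact hPQ fun x hx => Subgroup.mem_centralizer_iff.mpr fun y hy =>
      (Subgroup.commute_of_normal_of_disjoint (P : Subgroup G) (Q : Subgroup G) hPn hQ
        (IsPGroup.disjoint_of_ne p q hpq _ _ P.2 Q.2) x y hx hy).symm
  · set H := K.comap f with hH
    have hHtop : H ≠ ⊤ := fun h => hK (by
      rw [← Subgroup.map_comap_eq_self_of_surjective (QuotientGroup.mk'_surjective D) K]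
      show H.map f = ⊤
      rw [h, Subgroup.map_top_of_surjective _ (QuotientGroup.mk'_surjective D)])
    haveI := hG.2 H hHtop
    set e := (Nat.card G).factorization p
    set n := Nat.card G / p ^ e
    have hGn : Nat.card G = p ^ e * n := (Nat.ordProj_mul_ordCompl_eq_self _ _).symm
    have hcop : (p ^ e).Coprime n := (Nat.coprime_ordCompl hp Nat.card_pos.ne').pow_left e
    -- `p`-elements commute, the others lie in `Q`
    have hp2 : ∀ x ∈ H, ∀ y ∈ H, x ^ p ^ e = 1 → y ^ p ^ e = 1 → x * y = y * x := by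
      intro x hx y hy hxp hyp
      obtain ⟨S⟩ : Nonempty (Sylow p H) := inferInstance
      have hn : (S : Subgroup H).Normal := ((Group.isNilpotent_of_finite_tfae (G := H)).out 0 3 : Group.IsNilpotent H ↔ ∀ (p : ℕ) (_hp : Fact p.Prime) (P : Sylow p H), (P : Subgroup H).Normal).mp inferInstance p inferInstance S
      haveI := Sylow.unique_of_normal S hn
      have hmem : ∀ z : H, (z : G) ^ p ^ e = 1 → z ∈ (S : Subgroup H) := fun z hz => by
        have hz' : IsPGroup p (Subgroup.zpowers z) := fun w => by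
          obtain ⟨k, hk⟩ := Subgroup.mem_zpowers_iff.mp w.2
          refine ⟨e, Subtype.ext (Subtype.ext ?_)⟩
          push_cast
          rw [← hk]; push_cast
          rw [← zpow_natCast, ← zpow_mul, mul_comm, zpow_mul, zpow_natCast, hz, one_zpow]
        obtain ⟨T, hT⟩ := hz'.exists_le_sylow
        rw [Subsingleton.elim S T]
        exact hT (Subgroup.mem_zpowers z)
      obtain ⟨T, hT⟩ := (S.2.map H.subtype).exists_le_sylow
      obtain ⟨g, hg⟩ := MulAction.exists_smul_eq G P T
      have h1 := hT ⟨⟨x, hx⟩, hmem ⟨x, hx⟩ hxp, rfl⟩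
      have h2 := hT ⟨⟨y, hy⟩, hmem ⟨y, hy⟩ hyp, rfl⟩
      rw [← hg, Sylow.coe_subgroup_smul] at h1 h2
      obtain ⟨x', hx', ex⟩ := h1
      obtain ⟨y', hy', ey⟩ := h2
      letI := IsCyclic.commGroup (α := (P : Subgroup G))
      have hc : x' * y' = y' * x' := congrArg Subtype.val (mul_comm (⟨x', hx'⟩ : (P : Subgroup G)) ⟨y', hy'⟩)
      replace ex : g * x' * g⁻¹ = x := ex
      replace ey : g * y' * g⁻¹ = y := ey
      rw [← ex, ← ey, show g * x' * g⁻¹ * (g * y' * g⁻¹) = g * (x' * y') * g⁻¹ by group, hc]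
      group
    have hqpart : ∀ x : G, x ^ n = 1 → x ∈ (Q : Subgroup G) := by
      intro x hx
      obtain ⟨a, ha, b, hb, rfl⟩ := Subgroup.mem_sup_of_normal_right.mp (htop ▸ Subgroup.mem_top x)
      have h1 : ((a : G) : G ⧸ (Q : Subgroup G)) ^ n = 1 := by
        have := congrArg (fun z : G => (z : G ⧸ (Q : Subgroup G))) hx
        simpa [QuotientGroup.mk_mul, (QuotientGroup.eq_one_iff b).mpr hb] using this
      rw [← QuotientGroup.mk_pow, QuotientGroup.eq_one_iff] at h1
      obtain ⟨i, hi⟩ := IsPGroup.iff_orderOf.mp P.2 ⟨a, ha⟩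
      rw [← Subgroup.orderOf_coe] at hi
      obtain ⟨m, hm⟩ := exists_pow_eq_self_of_coprime (show n.Coprime (orderOf a) from
        hi ▸ (Nat.coprime_ordCompl hp Nat.card_pos.ne').symm.pow_right i)
      exact mul_mem (hm ▸ pow_mem h1 m) hb
    refine ⟨⟨fun u v => Subtype.ext ?_⟩⟩
    obtain ⟨x, hx⟩ := QuotientGroup.mk'_surjective D (u : G ⧸ D)
    obtain ⟨y, hy⟩ := QuotientGroup.mk'_surjective D (v : G ⧸ D)
    have hsplit : ∀ x ∈ H, ∃ a ∈ H, ∃ b ∈ H, a ^ p ^ e = 1 ∧ b ^ n = 1 ∧ x = a * b := by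
      intro x hx
      have hb := Nat.gcd_eq_gcd_ab (p ^ e) n
      rw [hcop.gcd_eq_one, Nat.cast_one] at hb
      have hxG : ∀ k : ℤ, x ^ ((Nat.card G : ℤ) * k) = 1 := fun k => by
        rw [zpow_mul, zpow_natCast, pow_card_eq_one', one_zpow]
      refine ⟨x ^ ((n : ℤ) * Nat.gcdB (p ^ e) n), zpow_mem hx _, x ^ ((p ^ e : ℕ) * Nat.gcdA (p ^ e) n : ℤ), zpow_mem hx _, ?_, ?_, ?_⟩
      · rw [← zpow_natCast (x ^ _), ← zpow_mul, ← hxG (Nat.gcdB (p ^ e) n), hGn]; congr 1; push_cast; ring
      · rw [← zpow_natCast (x ^ _), ← zpow_mul, ← hxG (Nat.gcdA (p ^ e) n), hGn]; congr 1; push_cast; ring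
      · rw [← zpow_add, add_comm, ← hb, zpow_one]
    obtain ⟨a, ha, b, hb, hap, hbn, rfl⟩ := hsplit x (show f x ∈ K by rw [show f x = u from hx]; exact u.2)
    obtain ⟨c, hc, d, hd, hcp, hdn, rfl⟩ := hsplit y (show f y ∈ K by rw [show f y = v from hy]; exact v.2)
    have hcross : ∀ a ∈ H, ∀ b ∈ H, a ^ p ^ e = 1 → b ^ n = 1 → Commute (f a) (f b) := by
      intro a ha b hb hap hbn
      have h := CfsgLib.Hall.commute_of_coprime_orderOf (G := H) (x := ⟨a, ha⟩) (y := ⟨b, hb⟩) (p := p) (j := e)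
        (orderOf_dvd_of_pow_eq_one (Subtype.ext (by simpa using hap)))
        (Nat.Coprime.coprime_dvd_left (orderOf_dvd_of_pow_eq_one (Subtype.ext (by simpa using hbn)))
          (Nat.coprime_ordCompl hp Nat.card_pos.ne').symm)
      exact (show Commute a b from congrArg Subtype.val h).map f
    show (u : G ⧸ D) * v = v * u
    rw [← hx, ← hy]
    show f (a * b) * f (c * d) = f (c * d) * f (a * b)
    rw [map_mul, map_mul]
    have e1 : Commute (f a) (f c) := (show Commute a c from hp2 a ha c hc hap hcp).map f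
    have e2 : Commute (f b) (f d) := hQab b (hqpart b hbn) d (hqpart d hdn)
    exact (Commute.mul_left (e1.mul_right (hcross a ha d hd hap hdn)) (((hcross c hc b hb hcp hbn).symm).mul_right e2)).eq
end Cfsg.Agent.S0577
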