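import Cfsg.Statements.S0578
import Mathlib
import Cfsg.Agent.S0015
import Cfsg.Agent.Lib.Transfer.Basic

set_option autoImplicit false
set_option linter.style.haveILetI false
open Cfsg
open scoped commutatorElement Pointwise

namespace Cfsg.Agent.S0578

/-- If in a finite group the normalizer of each abelian subgroup coincides with its centralizer, then the group is abelian. -/
theorem result {G : Type*} [Group G] [Finite G] (h : ∀ A : Subgroup G, IsMulCommutative A → Subgroup.normalizer (A : Set G) = Subgroup.centralizer (A : Set G)) : IsMulCommutative G := by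
  classical
  -- every Sylow subgroup is abelian
  have hab : ∀ (p : ℕ) [Fact p.Prime] (P : Sylow p G), IsMulCommutative (P : Subgroup G) := by
    intro p hp P
    haveI := (show IsPGroup p (P : Subgroup G) from P.2).isNilpotent
    haveI : Finite (Subgroup (P : Subgroup G)) :=
      Finite.of_injective (fun K => (K : Set (P : Subgroup G))) SetLike.coe_injective
    obtain ⟨A, hA, hAmax⟩ := (Set.toFinite {A : Subgroup (P : Subgroup G) | A.Normal ∧ IsMulCommutative A}).exists_maximal
      ⟨⊥, inferInstance, inferInstance⟩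
    haveI := hA.1
    haveI := hA.2
    have hC := Cfsg.Agent.S0015.result A fun M hM hMc hle => le_antisymm (hAmax ⟨hM, hMc⟩ hle) hle
    set B := A.map (P : Subgroup G).subtype with hB
    have hBc : IsMulCommutative B := ⟨⟨by
      rintro ⟨_, a, ha, rfl⟩ ⟨_, b, hb, rfl⟩
      exact Subtype.ext (congrArg (Subgroup.subtype _)
        (congrArg Subtype.val (mul_comm' (⟨a, ha⟩ : A) ⟨b, hb⟩)))⟩⟩
    have hPN : (P : Subgroup G) ≤ Subgroup.normalizer (B : Set G) := by
      intro x hx
      rw [Subgroup.mem_normalizer_iff]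
      intro u
      constructor
      · rintro ⟨a, ha, rfl⟩
        exact ⟨⟨x, hx⟩ * a * (⟨x, hx⟩ : (P : Subgroup G))⁻¹, hA.1.conj_mem a ha _, rfl⟩
      · rintro ⟨a, ha, e⟩
        refine ⟨(⟨x, hx⟩ : (P : Subgroup G))⁻¹ * a * ⟨x, hx⟩, ?_, ?_⟩
        · simpa using hA.1.conj_mem a ha (⟨x, hx⟩ : (P : Subgroup G))⁻¹
        · show x⁻¹ * (a : G) * x = u
          rw [show (a : G) = x * u * x⁻¹ from e]
          group
    rw [h B hBc] at hPN
    have htop : Subgroup.centralizer (A : Set (P : Subgroup G)) = ⊤ := by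
      rw [Subgroup.eq_top_iff']
      intro y
      rw [Subgroup.mem_centralizer_iff]
      intro a ha
      exact Subtype.ext (Subgroup.mem_centralizer_iff.mp (hPN y.2) (a : G) ⟨a, ha, rfl⟩)
    rw [hC] at htop
    exact ⟨⟨fun a b => congrArg Subtype.val
      (mul_comm' (⟨a, htop ▸ Subgroup.mem_top a⟩ : A) ⟨b, htop ▸ Subgroup.mem_top b⟩)⟩⟩
  have hcop : ∀ p : ℕ, p.Prime → ¬ p ∣ Nat.card (commutator G) := by
    intro p hp hdvd
    haveI := Fact.mk hp
    obtain ⟨P₀⟩ := (inferInstance : Nonempty (Sylow p G))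
    obtain ⟨P, N, hN, hc⟩ := CfsgLib.Transfer.hasNormalPComplement_of_normalizer_le_centralizer P₀
      (h _ (hab p P₀)).le
    haveI := hN
    have hcomm : commutator G ≤ N := by
      rw [← QuotientGroup.ker_mk' N, commutator_def, Subgroup.commutator_le]
      intro a _ b _
      have hg : ∀ g : G, ∃ u : (P : Subgroup G), QuotientGroup.mk' N g = QuotientGroup.mk' N u := by
        intro g
        obtain ⟨n, hn, u, hu, rfl⟩ := Subgroup.mem_sup_of_normal_left.mp (hc.sup_eq_top ▸ Subgroup.mem_top g)
        exact ⟨⟨u, hu⟩, by rw [map_mul, show QuotientGroup.mk' N n = 1 from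
          (QuotientGroup.eq_one_iff n).mpr hn, one_mul]⟩
      obtain ⟨u, hu⟩ := hg a
      obtain ⟨v, hv⟩ := hg b
      rw [MonoidHom.mem_ker, map_commutatorElement, commutatorElement_eq_one_iff_commute, hu, hv]
      haveI := hab p P
      exact (show Commute (u : G) (v : G) from congrArg Subtype.val (mul_comm' u v)).map _
    exact (hp.coprime_iff_not_dvd.mp (CfsgLib.Transfer.coprime_card_of_isComplement' hc).symm)
      (hdvd.trans (Subgroup.card_dvd_of_le hcomm))
  have hbot : commutator G = ⊥ := by
    by_contra hne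
    obtain ⟨p, hp, hdvd⟩ := Nat.exists_prime_and_dvd ((commutator G).one_lt_card_iff_ne_bot.mpr hne).ne'
    exact hcop p hp hdvd
  refine ⟨⟨fun a b => ?_⟩⟩
  have := Subgroup.commutator_mem_commutator (Subgroup.mem_top a) (Subgroup.mem_top b)
  rwa [← commutator_def, hbot, Subgroup.mem_bot, commutatorElement_eq_one_iff_mul_comm] at this

end Cfsg.Agent.S0578
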