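import Cfsg.Statements.S0580
import Mathlib

set_option autoImplicit false
set_option linter.style.haveILetI false
open Cfsg

namespace Cfsg.Agent.S0580

universe u

/-- With all maximal subgroups of prime index, the Sylow subgroup for the largest prime is normal. -/
theorem sylow_normal {G : Type u} [Group G] [Finite G] (h : ∀ M : Subgroup G, IsCoatom M → M.index.Prime)
    {p : ℕ} [Fact p.Prime] (hmax : ∀ q : ℕ, q.Prime → q ∣ Nat.card G → q ≤ p) (P : Sylow p G) :
    (P : Subgroup G).Normal := by
  by_contra hn
  obtain ⟨M, hM, hle⟩ := (IsCoatomic.eq_top_or_exists_le_coatom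
    (Subgroup.normalizer ((P : Subgroup G) : Set G))).resolve_left
      (fun e => hn (Subgroup.normalizer_eq_top_iff.mp e))
  have hq := h M hM
  have hPM : (P : Subgroup G) ≤ M := Subgroup.le_normalizer.trans hle
  have e1 : (Subgroup.normalizer ((P : Subgroup G) : Set G)).index % p = 1 % p := by
    have h1 := card_sylow_modEq_one p G
    rw [Sylow.card_eq_index_normalizer P] at h1
    exact h1
  have e2 : (Subgroup.normalizer ((P : Subgroup G) : Set G)).relIndex M % p = 1 % p := by
    have h1 := card_sylow_modEq_one p M
    rw [Sylow.card_eq_index_normalizer (P.subtype hPM)] at h1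
    have hN : (Subgroup.normalizer ((P.subtype hPM : Sylow p M) : Set M)) =
        (Subgroup.normalizer ((P : Subgroup G) : Set G)).subgroupOf M := by
      change Subgroup.normalizer (((P : Subgroup G).subgroupOf M : Subgroup M) : Set M) = _
      exact (Subgroup.subgroupOf_normalizer_eq hPM).symm
    rw [hN] at h1
    exact h1
  rw [← Subgroup.relIndex_mul_index hle, Nat.mul_mod, e2, ← Nat.mul_mod, one_mul] at e1
  have hp := (Fact.out : p.Prime).one_lt
  rw [Nat.mod_eq_of_lt hp] at e1
  have hle' := hmax _ hq M.index_dvd_card
  rcases hle'.eq_or_lt with e | e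
  · rw [e, Nat.mod_self] at e1
    omega
  · rw [Nat.mod_eq_of_lt e] at e1
    exact hq.ne_one e1

theorem main (n : ℕ) : ∀ (G : Type u) [Group G] [Finite G], Nat.card G = n →
    (∀ M : Subgroup G, IsCoatom M → M.index.Prime) → Group.IsSolvable G := by
  induction n using Nat.strong_induction_on with
  | _ n IH =>
  intro G _ _ hn h
  subst hn
  rcases subsingleton_or_nontrivial G with hs | hs
  · infer_instance
  have hne : (Nat.card G).primeFactors.Nonempty :=
    Nat.nonempty_primeFactors.mpr (Finite.one_lt_card (α := G))
  set p := (Nat.card G).primeFactors.max' hne with hp'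
  have hpm := Finset.max'_mem _ hne
  obtain ⟨hpp, hpd, -⟩ := Nat.mem_primeFactors.mp hpm
  haveI : Fact p.Prime := ⟨hpp⟩
  obtain ⟨P⟩ := (inferInstance : Nonempty (Sylow p G))
  haveI := sylow_normal h (fun q hq hd => Finset.le_max' _ q (Nat.mem_primeFactors.mpr ⟨hq, hd, Nat.card_pos.ne'⟩)) P
  set f := QuotientGroup.mk' (P : Subgroup G)
  have hf : Function.Surjective f := QuotientGroup.mk'_surjective _
  have hPne : (P : Subgroup G) ≠ ⊥ := fun e => P.not_dvd_index (by rw [e, Subgroup.index_bot]; exact hpd)
  have hlt : Nat.card (G ⧸ (P : Subgroup G)) < Nat.card G := by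
    rw [Subgroup.card_eq_card_quotient_mul_card_subgroup (P : Subgroup G)]
    exact lt_mul_of_one_lt_right Nat.card_pos ((P : Subgroup G).one_lt_card_iff_ne_bot.mpr hPne)
  haveI := IH _ hlt (G ⧸ (P : Subgroup G)) rfl fun K hK => by
    rw [← Subgroup.index_comap_of_surjective K hf]
    exact h _ (Subgroup.isCoatom_comap_of_surjective hf hK)
  haveI := (show IsPGroup p (P : Subgroup G) from P.2).isNilpotent
  exact solvable_of_ker_le_range (P : Subgroup G).subtype f
    (by rw [QuotientGroup.ker_mk', Subgroup.range_subtype])

/-- If every maximal subgroup of a finite group has prime index, then the group is solvable. -/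
theorem result {G : Type*} [Group G] [Finite G] (h : ∀ M : Subgroup G, IsCoatom M → M.index.Prime) : Group.IsSolvable G := by
  exact main _ G rfl h

end Cfsg.Agent.S0580
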