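import Cfsg.Statements.S0579
import Cfsg.Agent.S0580
import Cfsg.Agent.Lib.Huppert.Supersolvable

set_option autoImplicit false
set_option linter.style.haveILetI false
open Cfsg

namespace Cfsg.Agent.S0579

open scoped Pointwise commutatorElement

universe u

theorem main (n : ℕ) : ∀ (G : Type u) [Group G] [Finite G], Nat.card G = n →
    (∀ M : Subgroup G, IsCoatom M → M.index.Prime) → Cfsg.IsSupersolvable G := by
  induction n using Nat.strong_induction_on with
  | _ n IH =>
  intro G _ _ hn h
  classical
  rcases subsingleton_or_nontrivial G with hs | hs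
  · exact CfsgLib.Supersolvable.of_subsingleton
  haveI := Cfsg.Agent.S0580.result h
  haveI : Finite (Subgroup G) := Finite.of_injective (fun K => (K : Set G)) SetLike.coe_injective
  -- quotients by nontrivial normal subgroups are supersolvable
  have hq : ∀ (R : Subgroup G) [R.Normal], R ≠ ⊥ → Cfsg.IsSupersolvable (G ⧸ R) := by
    intro R _ hR
    refine IH (Nat.card (G ⧸ R)) ?_ (G ⧸ R) rfl fun K hK => ?_
    · rw [← hn, Subgroup.card_eq_card_quotient_mul_card_subgroup R]
      exact lt_mul_of_one_lt_right Nat.card_pos (R.one_lt_card_iff_ne_bot.mpr hR)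
    · rw [← Subgroup.index_comap_of_surjective K (QuotientGroup.mk'_surjective R)]
      exact h _ (Subgroup.isCoatom_comap_of_surjective (QuotientGroup.mk'_surjective R) hK)
  -- it suffices to find a cyclic nontrivial normal subgroup
  suffices hcyc : ∃ R : Subgroup G, R.Normal ∧ R ≠ ⊥ ∧ IsCyclic R by
    obtain ⟨R, hRn, hR, hRc⟩ := hcyc
    haveI := hRn
    haveI := hRc
    exact CfsgLib.Supersolvable.of_quotient_cyclic R (hq R hR)
  by_contra hno
  push Not at hno
  obtain ⟨N, -, ⟨hNn, hN⟩, hNmin⟩ := (Set.toFinite {R : Subgroup G | R.Normal ∧ R ≠ ⊥}).exists_le_minimal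
    (show (⊤ : Subgroup G) ∈ {R : Subgroup G | R.Normal ∧ R ≠ ⊥} from ⟨inferInstance, top_ne_bot⟩)
  haveI := hNn
  have hmin : ∀ R : Subgroup G, R.Normal → R ≠ ⊥ → R ≤ N → R = N :=
    fun R hR hR0 hle => le_antisymm hle (hNmin ⟨hR, hR0⟩ hle)
  -- `N` is abelian
  haveI : Nontrivial N := (Subgroup.nontrivial_iff_ne_bot N).mpr hN
  have hNc : IsMulCommutative N := by
    have hc : commutator N = ⊥ := by
      by_contra hc
      have h2 := hmin ((commutator N).map N.subtype) inferInstance
        (fun e => hc ((Subgroup.map_eq_bot_iff_of_injective _ N.subtype_injective).mp e))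
        (Subgroup.map_subtype_le _)
      exact (Group.IsSolvable.commutator_lt_top_of_nontrivial N).ne
        (Subgroup.map_injective N.subtype_injective
          (by rw [h2, ← MonoidHom.range_eq_map, Subgroup.range_subtype]))
    refine ⟨⟨fun a b => commutatorElement_eq_one_iff_mul_comm.mp ?_⟩⟩
    rw [← Subgroup.mem_bot, ← hc]
    exact Subgroup.commutator_mem_commutator (Subgroup.mem_top a) (Subgroup.mem_top b)
  -- `N` lies in the Frattini subgroup
  have hΦ : N ≤ frattini G := by
    rw [frattini, Order.radical]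
    refine le_iInf₂ fun M hM => ?_
    by_contra hNM
    have hsup : N ⊔ M = ⊤ := hM.2 _ (lt_of_le_of_ne le_sup_right fun e => hNM (e ▸ le_sup_left))
    have hinf : N ⊓ M = ⊥ := by
      by_contra h0
      have hn' : (N ⊓ M).Normal := by
        rw [← Subgroup.normalizer_eq_top_iff, eq_top_iff, ← hsup]
        refine sup_le (le_trans ?_ (Subgroup.centralizer_le_normalizer _))
          ((le_inf Subgroup.le_normalizer_of_normal Subgroup.le_normalizer).trans
            (Subgroup.inf_normalizer_le_normalizer_inf))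
        exact fun x hx => Subgroup.mem_centralizer_iff.mpr fun y hy =>
          congrArg Subtype.val (hNc.is_comm.comm (⟨y, hy.1⟩ : N) ⟨x, hx⟩)
      exact hNM (le_trans (hmin _ hn' h0 inf_le_left).ge inf_le_right)
    have hc : Subgroup.IsComplement' N M :=
      Subgroup.isComplement'_of_disjoint_and_mul_eq_univ (disjoint_iff.mpr hinf)
        (by rw [← Subgroup.normal_mul, hsup, Subgroup.coe_top])
    have hp : (Nat.card N).Prime := hc.index_eq_card ▸ h M hM
    haveI : Fact (Nat.card N).Prime := ⟨hp⟩
    exact hno N hNn hN (isCyclic_of_prime_card rfl)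
  -- `N` is the only minimal normal subgroup
  have huniq : ∀ R : Subgroup G, R.Normal → R ≠ ⊥ → N ≤ R := by
    intro R hR hR0
    obtain ⟨T, hTR, ⟨hTn, hT⟩, hTmin⟩ := (Set.toFinite {T : Subgroup G | T.Normal ∧ T ≠ ⊥}).exists_le_minimal
      (show R ∈ {T : Subgroup G | T.Normal ∧ T ≠ ⊥} from ⟨hR, hR0⟩)
    haveI := hTn
    refine le_trans ?_ hTR
    by_contra hNT
    have hdis : T ⊓ N = ⊥ := by
      by_contra h0
      exact hNT ((hmin _ inferInstance h0 inf_le_right).ge.trans inf_le_left)
    set f := QuotientGroup.mk' N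
    have hf : Function.Surjective f := QuotientGroup.mk'_surjective N
    haveI : (T.map f).Normal := Subgroup.Normal.map hTn f hf
    have hTf : T.map f ≠ ⊥ := fun e => hT (by
      rw [Subgroup.map_eq_bot_iff, QuotientGroup.ker_mk'] at e
      rw [← inf_eq_left.mpr e, hdis])
    obtain ⟨L, hLn, hLT, hLc⟩ :=
      CfsgLib.Supersolvable.exists_normal_prime_card_le (hq N hN) (T.map f) hTf
    haveI := hLn
    have hT' : T ⊓ L.comap f ≠ ⊥ := by
      intro e
      obtain ⟨⟨y, hy⟩, hy1⟩ := (Subgroup.nontrivial_iff_exists_ne_one L).mp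
        (Finite.one_lt_card_iff_nontrivial.mp hLc.one_lt) |> fun ⟨y, hy, h1⟩ =>
          (⟨⟨y, hy⟩, h1⟩ : ∃ z : L, (z : G ⧸ N) ≠ 1)
      obtain ⟨t, ht, rfl⟩ := hLT hy
      have : t ∈ T ⊓ L.comap f := ⟨ht, hy⟩
      rw [e, Subgroup.mem_bot] at this
      exact hy1 (by rw [show ((⟨f t, hy⟩ : L) : G ⧸ N) = f t from rfl, this, map_one])
    have hTL : T ≤ L.comap f := (hTmin ⟨inferInstance, hT'⟩ inf_le_left).trans inf_le_right
    let φ : T →* L := (f.comp T.subtype).codRestrict L fun t => hTL t.2
    have hinj : Function.Injective φ := by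
      rw [injective_iff_map_eq_one]
      intro t ht
      have h1 : (t : G) ∈ T ⊓ N := ⟨t.2, (QuotientGroup.eq_one_iff (t : G)).mp (congrArg Subtype.val ht)⟩
      rw [hdis, Subgroup.mem_bot] at h1
      exact Subtype.ext h1
    haveI : Fact (Nat.card L).Prime := ⟨hLc⟩
    haveI : IsCyclic L := isCyclic_of_prime_card rfl
    exact hno T hTn hT (isCyclic_of_injective φ hinj)
  -- the largest prime
  have hne : (Nat.card G).primeFactors.Nonempty :=
    Nat.nonempty_primeFactors.mpr (Finite.one_lt_card (α := G))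
  obtain ⟨hpp, hpd, -⟩ := Nat.mem_primeFactors.mp (Finset.max'_mem _ hne)
  haveI : Fact ((Nat.card G).primeFactors.max' hne).Prime := ⟨hpp⟩
  obtain ⟨P⟩ := (inferInstance : Nonempty (Sylow ((Nat.card G).primeFactors.max' hne) G))
  haveI := Cfsg.Agent.S0580.sylow_normal h (fun q hq hd =>
    Finset.le_max' _ q (Nat.mem_primeFactors.mpr ⟨hq, hd, Nat.card_pos.ne'⟩)) P
  exact hno N hNn hN (CfsgLib.Huppert.isCyclic_of_unique _ P
    (fun e => P.not_dvd_index (by rw [e, Subgroup.index_bot]; exact hpd)) N hN huniq hΦ (hq N hN))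

/-- Huppert's supersolvability criterion: if every maximal subgroup of a finite group has prime index, then the group is supersolvable. -/
theorem result {G : Type*} [Group G] [Finite G] (h : ∀ M : Subgroup G, IsCoatom M → M.index.Prime) : Cfsg.IsSupersolvable G := by
  exact main _ G rfl h

end Cfsg.Agent.S0579
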