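import Cfsg.Statements.S0582
import Cfsg.Agent.Lib.Supersolvable.Basic
import Cfsg.Agent.Lib.FrobCompl.Counting

set_option autoImplicit false
set_option linter.style.haveILetI false
open Pointwise
open Cfsg

namespace Cfsg.Agent.S0582

open scoped Pointwise

universe u

theorem main (n : ℕ) : ∀ (G : Type u) [Group G] [Finite G], Nat.card G = n →
    ∀ H K : Subgroup G, Cfsg.IsSupersolvable H → Cfsg.IsSupersolvable K → Nat.card H = Nat.card K →
      (Nat.card H).Coprime H.index → ∃ x : G, MulAut.conj x • H = K := by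
  induction n using Nat.strong_induction_on with
  | _ n IH =>
  intro G _ _ hn H K hH hK hcard hHall
  subst hn
  classical
  by_cases h1 : Nat.card H = 1
  · refine ⟨1, ?_⟩
    rw [map_one, one_smul, H.eq_bot_of_card_eq h1, K.eq_bot_of_card_eq (hcard ▸ h1)]
  have hne : (Nat.card H).primeFactors.Nonempty := Nat.nonempty_primeFactors.mpr
    (lt_of_le_of_ne Nat.card_pos (Ne.symm h1))
  set p := (Nat.card H).primeFactors.max' hne with hp'
  obtain ⟨hpp, hpd, -⟩ := Nat.mem_primeFactors.mp (Finset.max'_mem _ hne)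
  haveI : Fact p.Prime := ⟨hpp⟩
  have hmax : ∀ q : ℕ, q.Prime → q ∣ Nat.card H → q ≤ p := fun q hq hd =>
    Finset.le_max' _ q (Nat.mem_primeFactors.mpr ⟨hq, hd, Nat.card_pos.ne'⟩)
  have hKi : K.index = H.index := by
    refine Nat.eq_of_mul_eq_mul_right (Nat.card_pos (α := K)) ?_
    rw [K.index_mul_card, ← hcard, H.index_mul_card]
  -- a Sylow subgroup of `G` normal in `X`
  have mk : ∀ X : Subgroup G, Cfsg.IsSupersolvable X → Nat.card X = Nat.card H → X.index = H.index →
      ∃ P : Sylow p G, (P : Subgroup G) ≤ X ∧ X ≤ Subgroup.normalizer ((P : Subgroup G) : Set G) := by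
    intro X hX hXc hXi
    obtain ⟨P⟩ := (inferInstance : Nonempty (Sylow p X))
    haveI := CfsgLib.Supersolvable.normal_sylow_largest_prime hX p (fun q hq hd => hmax q hq (hXc ▸ hd)) P
    refine ⟨IsPGroup.toSylow (P.2.map X.subtype) ?_, Subgroup.map_subtype_le _, ?_⟩
    · rw [Subgroup.index_map_subtype]
      exact fun hd => (hpp.dvd_mul.mp hd).elim P.not_dvd_index fun h2 =>
        hpp.ne_one (Nat.eq_one_of_dvd_coprimes hHall hpd (hXi ▸ h2))
    · have h2 : ((P : Subgroup X).map X.subtype).subgroupOf X = P := Subgroup.comap_map_eq_self_of_injective X.subtype_injective _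
      have h3 : (((P : Subgroup X).map X.subtype).subgroupOf X).Normal := by rw [h2]; infer_instance
      exact (Subgroup.normal_subgroupOf_iff_le_normalizer (Subgroup.map_subtype_le _)).mp h3
  obtain ⟨P, hPH, hHN⟩ := mk H hH rfl rfl
  obtain ⟨Q, hQK, hKN⟩ := mk K hK hcard.symm hKi
  obtain ⟨g, hg⟩ := MulAction.exists_smul_eq G P Q
  suffices h : ∀ X : Subgroup G, Cfsg.IsSupersolvable X → Nat.card H = Nat.card X →
      (P : Subgroup G) ≤ X → X ≤ Subgroup.normalizer ((P : Subgroup G) : Set G) →
      ∃ x : G, MulAut.conj x • H = X by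
    have hsub : (Q : Subgroup G) = MulAut.conj g • (P : Subgroup G) := by
      rw [← hg]; exact Sylow.coe_subgroup_smul
    obtain ⟨x, hx⟩ := h (MulAut.conj g⁻¹ • K)
      (CfsgLib.Supersolvable.of_mulEquiv hK (Subgroup.equivSMul (MulAut.conj g⁻¹) K))
      (hcard.trans (Nat.card_congr (Subgroup.equivSMul (MulAut.conj g⁻¹) K).toEquiv))
      (by
        intro y hy
        rw [CfsgLib.FrobCompl.mem_conj_smul, inv_inv]
        refine hQK ?_
        rw [hsub, CfsgLib.FrobCompl.mem_conj_smul]
        simpa [mul_assoc] using hy)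
      (by
        intro y hy
        rw [CfsgLib.FrobCompl.mem_conj_smul, inv_inv] at hy
        have h2 := hKN hy
        rw [Subgroup.mem_normalizer_iff] at h2 ⊢
        intro z
        have h3 := h2 (g * z * g⁻¹)
        rw [hsub, CfsgLib.FrobCompl.mem_conj_smul, CfsgLib.FrobCompl.mem_conj_smul] at h3
        simpa [mul_assoc] using h3)
    exact ⟨g * x, by rw [map_mul, mul_smul, hx, ← mul_smul, ← map_mul, mul_inv_cancel, map_one, one_smul]⟩
  intro X hX hXc hPX hXN
  set N := Subgroup.normalizer ((P : Subgroup G) : Set G) with hN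
  by_cases htop : N = ⊤
  · haveI : (P : Subgroup G).Normal := Subgroup.normalizer_eq_top_iff.mp htop
    set f := QuotientGroup.mk' (P : Subgroup G)
    have hf : Function.Surjective f := QuotientGroup.mk'_surjective _
    have hP0 : (P : Subgroup G) ≠ ⊥ := fun e => P.not_dvd_index (by
      rw [e, Subgroup.index_bot]; exact hpd.trans H.card_subgroup_dvd_card)
    have hlt : Nat.card (G ⧸ (P : Subgroup G)) < Nat.card G := by
      rw [Subgroup.card_eq_card_quotient_mul_card_subgroup (P : Subgroup G)]
      exact lt_mul_of_one_lt_right Nat.card_pos ((P : Subgroup G).one_lt_card_iff_ne_bot.mpr hP0)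
    have hc : ∀ Y : Subgroup G, (P : Subgroup G) ≤ Y → (Y.map f).index = Y.index := fun Y hY =>
      Subgroup.index_map_eq Y hf (by rw [QuotientGroup.ker_mk']; exact hY)
    have hcard' : Nat.card (H.map f) = Nat.card (X.map f) := by
      refine Nat.eq_of_mul_eq_mul_right (Nat.pos_of_ne_zero (H.map f).index_ne_zero_of_finite) ?_
      rw [(H.map f).card_mul_index, hc H hPH]
      have hXi : X.index = H.index := by
        refine Nat.eq_of_mul_eq_mul_right (Nat.card_pos (α := X)) ?_
        rw [X.index_mul_card, ← hXc, H.index_mul_card]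
      rw [← hXi, ← hc X hPX, (X.map f).card_mul_index]
    obtain ⟨x, hx⟩ := IH _ hlt _ rfl (H.map f) (X.map f)
      (CfsgLib.Supersolvable.of_surjective hH (f.subgroupMap H) (f.subgroupMap_surjective H))
      (CfsgLib.Supersolvable.of_surjective hX (f.subgroupMap X) (f.subgroupMap_surjective X)) hcard'
      (by rw [hc H hPH]; exact hHall.coprime_dvd_left (H.card_map_dvd f))
    obtain ⟨a, rfl⟩ := hf x
    refine ⟨a, Subgroup.eq_of_le_of_card_ge ?_
      (by rw [← hXc, Nat.card_congr (Subgroup.equivSMul (MulAut.conj a) H).toEquiv])⟩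
    intro y hy
    have h1 : f y ∈ MulAut.conj (f a) • H.map f := by
      rw [CfsgLib.FrobCompl.mem_conj_smul] at hy ⊢
      exact ⟨_, hy, by simp⟩
    rw [hx] at h1
    have h2 : y ∈ (X.map f).comap f := h1
    rwa [Subgroup.comap_map_eq, QuotientGroup.ker_mk', sup_eq_left.mpr hPX] at h2
  · have hlt : Nat.card N < Nat.card G :=
      lt_of_le_of_ne (Nat.le_of_dvd Nat.card_pos N.card_subgroup_dvd_card)
        fun e => htop (Subgroup.eq_top_of_card_eq N e)
    obtain ⟨x, hx⟩ := IH _ hlt N rfl (H.subgroupOf N) (X.subgroupOf N)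
      (CfsgLib.Supersolvable.of_mulEquiv hH (Subgroup.subgroupOfEquivOfLe hHN).symm)
      (CfsgLib.Supersolvable.of_mulEquiv hX (Subgroup.subgroupOfEquivOfLe hXN).symm)
      (by rw [Nat.card_congr (Subgroup.subgroupOfEquivOfLe hHN).toEquiv,
        Nat.card_congr (Subgroup.subgroupOfEquivOfLe hXN).toEquiv, hXc])
      (by
        rw [Nat.card_congr (Subgroup.subgroupOfEquivOfLe hHN).toEquiv]
        exact hHall.coprime_dvd_right (Subgroup.relIndex_dvd_index_of_le hHN))
    refine ⟨(x : G), Subgroup.eq_of_le_of_card_ge ?_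
      (by rw [← hXc, Nat.card_congr (Subgroup.equivSMul (MulAut.conj (x : G)) H).toEquiv])⟩
    intro y hy
    rw [CfsgLib.FrobCompl.mem_conj_smul] at hy
    have hyN : y ∈ N := by
      have h1 := N.mul_mem (N.mul_mem x.2 (hHN hy)) (N.inv_mem x.2)
      simpa [mul_assoc] using h1
    have h2 : (⟨y, hyN⟩ : N) ∈ MulAut.conj x • H.subgroupOf N := by
      rw [CfsgLib.FrobCompl.mem_conj_smul, Subgroup.mem_subgroupOf]
      exact hy
    rw [hx] at h2
    exact Subgroup.mem_subgroupOf.mp h2

/-- Let H and K be supersolvable subgroups of a finite group G of the same order, that order being coprime to their index. Then H and K are conjugate in G. -/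
theorem result {G : Type*} [Group G] [Finite G] (H K : Subgroup G) (hH : Cfsg.IsSupersolvable H) (hK : Cfsg.IsSupersolvable K) (hcard : Nat.card H = Nat.card K) (hHall : (Nat.card H).Coprime H.index) : ∃ x : G, MulAut.conj x • H = K := by
  exact main _ G rfl H K hH hK hcard hHall

end Cfsg.Agent.S0582
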