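import Cfsg.Statements.S0585
import Mathlib

set_option autoImplicit false
set_option linter.style.haveILetI false
open Cfsg

namespace Cfsg.Agent.S0585

/-- If the Frattini subgroup of a finite group G is trivial, then every abelian normal subgroup of G has a complement in G. -/
theorem result {G : Type*} [Group G] [Finite G] (hΦ : frattini G = ⊥) (A : Subgroup G) [A.Normal] [IsMulCommutative A] : ∃ H : Subgroup G, Subgroup.IsComplement' A H := by
  classical
  obtain ⟨H, hH, hHmin⟩ := (Set.toFinite {H : Subgroup G | A ⊔ H = ⊤}).exists_minimal ⟨⊤, by simp⟩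
  have hH' : A ⊔ H = ⊤ := hH
  have hkey : ∀ g ∈ A ⊔ H, ∀ x ∈ A ⊓ H, g * x * g⁻¹ ∈ A ⊓ H := by
    intro g hg x hx
    obtain ⟨a, ha, h, hh, rfl⟩ := Subgroup.mem_sup_of_normal_left.mp hg
    have h1 : h * x * h⁻¹ ∈ A ⊓ H :=
      ⟨(inferInstance : A.Normal).conj_mem x hx.1 h, H.mul_mem (H.mul_mem hh hx.2) (H.inv_mem hh)⟩
    have h2 : a * (h * x * h⁻¹) = (h * x * h⁻¹) * a :=
      congrArg Subtype.val (mul_comm' (⟨a, ha⟩ : A) ⟨_, h1.1⟩)
    rw [show a * h * x * (a * h)⁻¹ = a * (h * x * h⁻¹) * a⁻¹ by group, h2, mul_inv_cancel_right]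
    exact h1
  haveI : (A ⊓ H).Normal := ⟨fun x hx g => hkey g (hH' ▸ Subgroup.mem_top g) x hx⟩
  have hbot : A ⊓ H = ⊥ := by
    by_contra hne
    obtain ⟨M, hM, hnM⟩ : ∃ M : Subgroup G, IsCoatom M ∧ ¬ A ⊓ H ≤ M := by
      by_contra h'
      push Not at h'
      exact hne (le_bot_iff.mp (hΦ ▸ le_iInf₂ fun M hM => h' M hM))
    have htop : (A ⊓ H) ⊔ M = ⊤ := hM.2 _ (right_lt_sup.mpr hnM)
    have hmem : A ⊔ (M ⊓ H) = ⊤ := by
      rw [eq_top_iff, ← hH']
      refine sup_le le_sup_left fun x hx => ?_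
      obtain ⟨d, hd, m, hm, rfl⟩ := Subgroup.mem_sup_of_normal_left.mp (htop ▸ Subgroup.mem_top x)
      exact Subgroup.mul_mem _ (Subgroup.mem_sup_left hd.1) (Subgroup.mem_sup_right
        ⟨hm, by simpa using H.mul_mem (H.inv_mem hd.2) hx⟩)
    exact hnM (inf_le_right.trans ((hHmin hmem inf_le_right).trans inf_le_left))
  refine ⟨H, Subgroup.isComplement'_of_disjoint_and_mul_eq_univ (disjoint_iff.mpr hbot) ?_⟩
  rw [← Subgroup.normal_mul, hH', Subgroup.coe_top]

end Cfsg.Agent.S0585
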