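import Cfsg.Statements.S0586
import Mathlib
import Cfsg.Agent.Lib.Fitting.Basic
import Cfsg.Agent.S0575
import Cfsg.Agent.S0585

set_option autoImplicit false
set_option linter.style.haveILetI false
open Cfsg
open scoped commutatorElement Pointwise

namespace Cfsg.Agent.S0586

/-- If the Frattini subgroup of a finite group G is trivial, then the Fitting subgroup of G equals the join of all abelian minimal normal subgroups of G. -/
theorem result {G : Type*} [Group G] [Finite G] (hΦ : frattini G = ⊥) : Cfsg.fittingSubgroup G = sSup {N : Subgroup G | N.Normal ∧ N ≠ ⊥ ∧ IsMulCommutative N ∧ ∀ K : Subgroup G, K.Normal → K ≤ N → K = ⊥ ∨ K = N} := by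
  haveI := CfsgLib.Fitting.fittingSubgroup_normal (G := G)
  haveI := CfsgLib.Fitting.fittingSubgroup_isNilpotent (G := G)
  set F := Cfsg.fittingSubgroup G with hF
  set T := {N : Subgroup G | N.Normal ∧ N ≠ ⊥ ∧ IsMulCommutative N ∧
    ∀ K : Subgroup G, K.Normal → K ≤ N → K = ⊥ ∨ K = N}
  set S := sSup T with hS
  have hSF : S ≤ F := sSup_le fun N hN =>
    haveI := hN.2.2.1
    CfsgLib.Fitting.le_fittingSubgroup hN.1 (by
      letI : CommGroup N := { (inferInstance : Group N) with mul_comm := fun a b => mul_comm' a b }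
      exact CommGroup.isNilpotent)
  -- `F` is commutative
  have hΦF : ∀ x : F, x ∈ frattini F → x = 1 := fun x hx => by
    have h := Cfsg.Agent.S0575.result F (Subgroup.mem_map_of_mem _ hx)
    rw [hΦ] at h
    exact Subtype.ext h
  have hFc : ∀ x ∈ F, ∀ y ∈ F, x * y = y * x := by
    intro x hx y hy
    have hmem : ⁅(⟨x, hx⟩ : F), ⟨y, hy⟩⁆ ∈ frattini F := by
      rw [frattini, Order.radical]
      simp only [Subgroup.mem_iInf]
      intro M hM
      haveI : M.Normal :=
        Subgroup.NormalizerCondition.normal_of_coatom M Group.normalizerCondition_of_isNilpotent hM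
      haveI : IsSimpleOrder (Set.Ici M) := Set.isSimpleOrder_Ici_iff_isCoatom.mpr hM
      rw [← QuotientGroup.eq_one_iff]
      show QuotientGroup.mk' M ⁅_, _⁆ = 1
      rw [map_commutatorElement, commutatorElement_eq_one_iff_mul_comm]
      haveI hcyc : IsCyclic (F ⧸ M) := by
        haveI : Nontrivial (F ⧸ M) := QuotientGroup.nontrivial_iff.mpr hM.1
        obtain ⟨q, hq⟩ := exists_ne (1 : F ⧸ M)
        refine ⟨q, fun z => ?_⟩
        have htop : Subgroup.zpowers q = ⊤ := by
          obtain ⟨u, rfl⟩ := QuotientGroup.mk'_surjective M q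
          have h1 : (Subgroup.zpowers (QuotientGroup.mk' M u)).comap (QuotientGroup.mk' M) = ⊤ := by
            refine hM.2 _ (lt_of_le_of_ne ?_ ?_)
            · conv_lhs => rw [← QuotientGroup.ker_mk' M]
              exact Subgroup.ker_le_comap _ _
            · intro h
              have h2 : u ∈ M := h ▸ Subgroup.mem_comap.mpr (Subgroup.mem_zpowers _)
              exact hq ((QuotientGroup.eq_one_iff u).mpr h2)
          rw [← Subgroup.map_comap_eq_self_of_surjective (QuotientGroup.mk'_surjective M)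
            (Subgroup.zpowers _), h1, Subgroup.map_top_of_surjective _ (QuotientGroup.mk'_surjective M)]
        have hz := Subgroup.mem_top z
        rw [← htop] at hz
        exact hz
      haveI : IsMulCommutative (F ⧸ M) := IsCyclic.isMulCommutative
      exact mul_comm' _ _
    exact congrArg Subtype.val (commutatorElement_eq_one_iff_mul_comm.mp (hΦF _ hmem))
  haveI : S.Normal := Subgroup.sSup_normal _ (fun _ h => h.1)
  haveI : IsMulCommutative S := ⟨⟨fun a b => Subtype.ext (hFc _ (hSF a.2) _ (hSF b.2))⟩⟩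
  obtain ⟨H, hc⟩ := Cfsg.Agent.S0585.result hΦ S
  refine le_antisymm (fun x hx => ?_) hSF
  have hbot : F ⊓ H = ⊥ := by
    have hn : (F ⊓ H).Normal := by
      refine ⟨fun k hk g => ?_⟩
      obtain ⟨s, hs, h, hh, rfl⟩ := Subgroup.mem_sup_of_normal_left.mp (hc.sup_eq_top ▸ Subgroup.mem_top g)
      have h1 : h * k * h⁻¹ ∈ F ⊓ H :=
        ⟨(inferInstance : F.Normal).conj_mem k hk.1 h, H.mul_mem (H.mul_mem hh hk.2) (H.inv_mem hh)⟩
      rw [show s * h * k * (s * h)⁻¹ = s * (h * k * h⁻¹) * s⁻¹ by group, hFc s (hSF hs) _ h1.1,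
        mul_inv_cancel_right]
      exact h1
    by_contra hne
    obtain ⟨N, hN, hNmin⟩ := (Set.toFinite {N : Subgroup G | N.Normal ∧ N ≠ ⊥ ∧ N ≤ F ⊓ H}).exists_minimal
      ⟨F ⊓ H, hn, hne, le_rfl⟩
    have hNT : N ∈ T := by
      refine ⟨hN.1, hN.2.1, ⟨⟨fun a b => Subtype.ext (hFc _ (hN.2.2 a.2).1 _ (hN.2.2 b.2).1)⟩⟩,
        fun K hK hKN => ?_⟩
      rcases eq_or_ne K ⊥ with h | h
      · exact Or.inl h
      · exact Or.inr (le_antisymm hKN (hNmin ⟨hK, h, hKN.trans hN.2.2⟩ hKN))
    refine hN.2.1 (le_bot_iff.mp ?_)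
    rw [← hc.disjoint.eq_bot]
    exact le_inf (le_sSup hNT) (hN.2.2.trans inf_le_right)
  obtain ⟨s, hs, h, hh, rfl⟩ := Subgroup.mem_sup_of_normal_left.mp (hc.sup_eq_top ▸ Subgroup.mem_top x)
  have : h ∈ (⊥ : Subgroup G) := hbot ▸ ⟨by simpa using F.mul_mem (F.inv_mem (hSF hs)) hx, hh⟩
  rw [Subgroup.mem_bot] at this
  simpa [this] using hs

end Cfsg.Agent.S0586
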