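import Cfsg.Statements.S0587
import Mathlib
import Cfsg.Agent.S0575
import Cfsg.Agent.Lib.Fitting.Basic
import Cfsg.Agent.Lib.PSolvable.Omega

set_option autoImplicit false
set_option linter.style.haveILetI false
open Cfsg
open scoped commutatorElement Pointwise

namespace Cfsg.Agent.S0587

/-- Let G be a finite group whose largest normal p-subgroup L is nontrivial, and M a maximal subgroup of G with trivial normal core. Then L is elementary abelian, M is a complement to L, L is a minimal normal subgroup of G, the centralizer of L is L, and for every prime q such that the largest normal q-subgroup of M is nontrivial, the order of L is congruent to 1 modulo q and q ≠ p. -/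
theorem result {G : Type*} [Group G] [Finite G] (p : ℕ) [Fact p.Prime] (hL : Cfsg.pCore p G ≠ ⊥) (M : Subgroup G) (hM : IsCoatom M) (hcore : M.normalCore = ⊥) : Cfsg.IsElementaryAbelian p (Cfsg.pCore p G) ∧ Subgroup.IsComplement' (Cfsg.pCore p G) M ∧ (∀ K : Subgroup G, K.Normal → K ≤ Cfsg.pCore p G → K = ⊥ ∨ K = Cfsg.pCore p G) ∧ Subgroup.centralizer ((Cfsg.pCore p G : Subgroup G) : Set G) = Cfsg.pCore p G ∧ ∀ (q : ℕ) [Fact q.Prime], Cfsg.pCore q ↥M ≠ ⊥ → Nat.card (Cfsg.pCore p G) % q = 1 % q ∧ q ≠ p := by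
  haveI := CfsgLib.Fitting.pCore_normal (G := G) p
  set P := Cfsg.pCore p G with hP
  have hPp : IsPGroup p P := CfsgLib.Fitting.pCore_isPGroup p
  have hnle : ∀ K : Subgroup G, K.Normal → K ≠ ⊥ → K ⊔ M = ⊤ := fun K hK hne =>
    hM.2 _ (right_lt_sup.mpr fun hle => hne (by
      haveI := hK
      have := Subgroup.normal_le_normalCore.mpr hle
      rwa [hcore, le_bot_iff] at this))
  have hΦ : ∀ x : P, x ∈ frattini P → x = 1 := by
    intro x hx
    have hle : (frattini P).map P.subtype ≤ M.normalCore := by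
      haveI : ((frattini P).map P.subtype).Normal := ConjAct.normal_of_characteristic_of_normal
      exact Subgroup.normal_le_normalCore.mpr
        ((Cfsg.Agent.S0575.result P).trans (frattini_le_coatom hM))
    rw [hcore] at hle
    exact Subtype.ext (hle (Subgroup.mem_map_of_mem _ hx))
  obtain ⟨hc, hpow⟩ := CfsgLib.PSolvable.commutator_le_frattini hPp
  haveI hPc : IsMulCommutative P := ⟨⟨fun a b => commutatorElement_eq_one_iff_mul_comm.mp
    (hΦ _ (hc (Subgroup.commutator_mem_commutator (Subgroup.mem_top a) (Subgroup.mem_top b))))⟩⟩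
  have hel : Cfsg.IsElementaryAbelian p P :=
    ⟨hPc, fun a ha => congrArg Subtype.val (hΦ _ (hpow ⟨a, ha⟩))⟩
  have hPM := hnle P inferInstance hL
  -- subgroups of `P` normalized by `M` are normal
  have hnorm : ∀ K : Subgroup G, (∀ k ∈ K, ∀ x ∈ P, x * k = k * x) → (∀ m ∈ M, ∀ k ∈ K, m * k * m⁻¹ ∈ K) →
      K.Normal := by
    intro K hKP hKM
    refine ⟨fun k hk g => ?_⟩
    obtain ⟨x, hx, m, hm, rfl⟩ := Subgroup.mem_sup_of_normal_left.mp (hPM ▸ Subgroup.mem_top g)
    have h1 := hKM m hm k hk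
    rw [show x * m * k * (x * m)⁻¹ = x * (m * k * m⁻¹) * x⁻¹ by group, hKP _ h1 x hx, mul_inv_cancel_right]
    exact h1
  have hcommP : ∀ k ∈ P, ∀ x ∈ P, x * k = k * x := fun k hk x hx =>
    congrArg Subtype.val (mul_comm' (⟨x, hx⟩ : P) ⟨k, hk⟩)
  have hbot : P ⊓ M = ⊥ := by
    haveI := hnorm (P ⊓ M) (fun k hk => hcommP k hk.1) (fun m hm k hk =>
      ⟨(inferInstance : P.Normal).conj_mem k hk.1 m, M.mul_mem (M.mul_mem hm hk.2) (M.inv_mem hm)⟩)
    have := (Subgroup.normal_le_normalCore (H := M) (N := P ⊓ M)).mpr inf_le_right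
    rwa [hcore, le_bot_iff] at this
  have hcompl : Subgroup.IsComplement' P M := by
    refine Subgroup.isComplement'_of_disjoint_and_mul_eq_univ (disjoint_iff.mpr hbot) ?_
    rw [← Subgroup.normal_mul, hPM, Subgroup.coe_top]
  have hminP : ∀ K : Subgroup G, K.Normal → K ≤ P → K = ⊥ ∨ K = P := by
    intro K hK hKP
    rcases eq_or_ne K ⊥ with h | h
    · exact Or.inl h
    refine Or.inr (le_antisymm hKP fun x hx => ?_)
    haveI := hK
    obtain ⟨k, hk, m, hm, rfl⟩ := Subgroup.mem_sup_of_normal_left.mp (hnle K hK h ▸ Subgroup.mem_top x)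
    have hmP : m ∈ P := by simpa using P.mul_mem (P.inv_mem (hKP hk)) hx
    have : m ∈ (⊥ : Subgroup G) := hbot ▸ ⟨hmP, hm⟩
    rw [Subgroup.mem_bot] at this
    simpa [this] using hk
  have hCP : Subgroup.centralizer (P : Set G) = P := by
    refine le_antisymm (fun c hcc => ?_) (fun x hx => Subgroup.mem_centralizer_iff.mpr fun y hy =>
      hcommP x hx y hy)
    haveI := hnorm (Subgroup.centralizer (P : Set G) ⊓ M) (fun k hk x hx =>
      Subgroup.mem_centralizer_iff.mp hk.1 x hx) (fun m hm k hk =>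
      ⟨(inferInstance : (Subgroup.centralizer (P : Set G)).Normal).conj_mem k hk.1 m,
        M.mul_mem (M.mul_mem hm hk.2) (M.inv_mem hm)⟩)
    have hb := (Subgroup.normal_le_normalCore (H := M) (N := Subgroup.centralizer (P : Set G) ⊓ M)).mpr
      inf_le_right
    rw [hcore, le_bot_iff] at hb
    obtain ⟨x, hx, m, hm, rfl⟩ := Subgroup.mem_sup_of_normal_left.mp (hPM ▸ Subgroup.mem_top c)
    have hxC : x ∈ Subgroup.centralizer (P : Set G) :=
      Subgroup.mem_centralizer_iff.mpr fun y hy => hcommP x hx y hy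
    have hmC : m ∈ Subgroup.centralizer (P : Set G) := by
      simpa using mul_mem (inv_mem hxC) hcc
    have : m ∈ (⊥ : Subgroup G) := hb ▸ ⟨hmC, hm⟩
    rw [Subgroup.mem_bot] at this
    simpa [this] using hx
  refine ⟨hel, hcompl, hminP, hCP, fun q hq hQ => ?_⟩
  haveI := hq
  haveI := CfsgLib.Fitting.pCore_normal (G := M) q
  set Q := (Cfsg.pCore q M).map M.subtype with hQdef
  have hQq : IsPGroup q Q := (CfsgLib.Fitting.pCore_isPGroup q).map _
  have hQM : Q ≤ M := Subgroup.map_subtype_le _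
  have hQne : Q ≠ ⊥ := fun h => hQ ((Subgroup.map_eq_bot_iff_of_injective _ M.subtype_injective).mp h)
  have hQconj : ∀ m ∈ M, ∀ y ∈ Q, m * y * m⁻¹ ∈ Q := by
    rintro m hm _ ⟨z, hz, rfl⟩
    exact ⟨⟨m, hm⟩ * z * (⟨m, hm⟩ : M)⁻¹,
      (inferInstance : (Cfsg.pCore q M).Normal).conj_mem z hz _, rfl⟩
  -- the fixed points of `Q` on `P` are trivial
  haveI hfixn := hnorm (P ⊓ Subgroup.centralizer (Q : Set G)) (fun k hk => hcommP k hk.1) (fun m hm k hk => by
    refine ⟨(inferInstance : P.Normal).conj_mem k hk.1 m, Subgroup.mem_centralizer_iff.mpr fun y hy => ?_⟩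
    have h1 : m⁻¹ * y * m ∈ Q := by simpa using hQconj m⁻¹ (M.inv_mem hm) y hy
    have h2 := Subgroup.mem_centralizer_iff.mp hk.2 _ h1
    calc y * (m * k * m⁻¹) = m * ((m⁻¹ * y * m) * k) * m⁻¹ := by group
      _ = m * k * m⁻¹ * y := by rw [h2]; group)
  have hfix : P ⊓ Subgroup.centralizer (Q : Set G) = ⊥ := by
    rcases hminP _ hfixn inf_le_left with h | h
    · exact h
    · exfalso
      apply hQne
      rw [eq_bot_iff, ← hbot]
      refine le_inf ?_ hQM
      rw [← hCP, Subgroup.le_centralizer_iff]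
      exact h ▸ inf_le_right
  have hqp : q ≠ p := by
    rintro rfl
    apply hQne
    rw [eq_bot_iff, ← hbot]
    refine le_inf ?_ hQM
    -- `P ⊔ Q` is a normal `p`-subgroup
    have hPQ : IsPGroup q ↥(P ⊔ Q) := IsPGroup.to_sup_of_normal_left hPp hQq
    have hn : (P ⊔ Q).Normal := by
      refine ⟨fun k hk g => ?_⟩
      obtain ⟨a, ha, y, hy, rfl⟩ := Subgroup.mem_sup_of_normal_left.mp hk
      obtain ⟨x, hx, m, hm, rfl⟩ := Subgroup.mem_sup_of_normal_left.mp (hPM ▸ Subgroup.mem_top g)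
      rw [show x * m * (a * y) * (x * m)⁻¹ = x * (m * a * m⁻¹) * (m * y * m⁻¹) * x⁻¹ by group]
      exact Subgroup.mul_mem _ (Subgroup.mul_mem _ (Subgroup.mul_mem _ (Subgroup.mem_sup_left hx)
        (Subgroup.mem_sup_left ((inferInstance : P.Normal).conj_mem a ha m)))
        (Subgroup.mem_sup_right (hQconj m hm y hy))) (Subgroup.inv_mem _ (Subgroup.mem_sup_left hx))
    exact le_sup_right.trans (CfsgLib.Fitting.le_pCore hn hPQ)
  refine ⟨?_, hqp⟩
  let act : MulAction Q P :=
    { smul := fun y x => ⟨(y : G) * x * (y : G)⁻¹, (inferInstance : P.Normal).conj_mem x x.2 y⟩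
      one_smul := fun x => Subtype.ext (by show (1 : G) * (x : G) * (1 : G)⁻¹ = x; group)
      mul_smul := fun a b x => Subtype.ext (by
        show (a : G) * (b : G) * (x : G) * ((a : G) * (b : G))⁻¹ =
          (a : G) * ((b : G) * (x : G) * (b : G)⁻¹) * (a : G)⁻¹
        group) }
  letI := act
  have hmod := hQq.card_modEq_card_fixedPoints (α := P)
  have h1 : Nat.card (MulAction.fixedPoints Q P) = 1 := by
    rw [Nat.card_eq_one_iff_unique]
    refine ⟨⟨fun a b => ?_⟩, ⟨⟨1, fun y => Subtype.ext (by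
      show (y : G) * (1 : G) * (y : G)⁻¹ = 1; group)⟩⟩⟩
    have key : ∀ a : MulAction.fixedPoints Q P, (a : P) = 1 := by
      rintro ⟨a, ha⟩
      have : (a : G) ∈ (⊥ : Subgroup G) := hfix ▸ ⟨a.2, Subgroup.mem_centralizer_iff.mpr fun y hy => by
        have := congrArg Subtype.val (ha ⟨y, hy⟩)
        exact mul_inv_eq_iff_eq_mul.mp (show y * (a : G) * y⁻¹ = a from this)⟩
      exact Subtype.ext this
    exact Subtype.ext ((key a).trans (key b).symm)
  rw [h1] at hmod
  exact hmod

end Cfsg.Agent.S0587
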