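import Cfsg.Statements.S0588
import Mathlib

set_option autoImplicit false
set_option linter.style.haveILetI false
open Cfsg

namespace Cfsg.Agent.S0588

/-- If a subgroup H of a finite group G contains the centralizer of every non-identity element of H, then the order of H is coprime to its index. -/
theorem result {G : Type*} [Group G] [Finite G] (H : Subgroup G) (h : ∀ x ∈ H, x ≠ 1 → Subgroup.centralizer ({x} : Set G) ≤ H) : (Nat.card H).Coprime H.index := by
  classical
  refine Nat.coprime_of_dvd fun p hp hpH hpI => ?_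
  haveI := Fact.mk hp
  obtain ⟨P⟩ := (inferInstance : Nonempty (Sylow p H))
  obtain ⟨S, hS⟩ := ((show IsPGroup p ((P : Subgroup H).map H.subtype) from P.2.map _)).exists_le_sylow
  obtain ⟨⟨x, hxH⟩, hxP, hx1⟩ : ∃ x : H, x ∈ (P : Subgroup H) ∧ x ≠ 1 := by
    by_contra h'
    push Not at h'
    have : (P : Subgroup H) = ⊥ := (Subgroup.eq_bot_iff_forall _).mpr h'
    have h1 := P.not_dvd_index
    rw [this, Subgroup.index_bot] at h1
    exact h1 hpH
  have hx1' : x ≠ 1 := fun e => hx1 (Subtype.ext e)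
  have hxS : x ∈ (S : Subgroup G) := hS ⟨⟨x, hxH⟩, hxP, rfl⟩
  haveI : Nontrivial (S : Subgroup G) := ⟨⟨x, hxS⟩, 1, fun e => hx1' (congrArg Subtype.val e)⟩
  haveI := (show IsPGroup p (S : Subgroup G) from S.2).center_nontrivial
  obtain ⟨⟨z, hz⟩, hz1⟩ := exists_ne (1 : Subgroup.center (S : Subgroup G))
  have hzH : (z : G) ∈ H := h x hxH hx1' (Subgroup.mem_centralizer_singleton_iff.mpr
    (congrArg Subtype.val (Subgroup.mem_center_iff.mp hz ⟨x, hxS⟩)).symm)
  have hSH : (S : Subgroup G) ≤ H := fun y hy => h z hzH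
    (fun e => hz1 (Subtype.ext (Subtype.ext e))) (Subgroup.mem_centralizer_singleton_iff.mpr
      (congrArg Subtype.val (Subgroup.mem_center_iff.mp hz ⟨y, hy⟩)))
  exact S.not_dvd_index (hpI.trans (Subgroup.index_dvd_of_le hSH))

end Cfsg.Agent.S0588
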