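import Cfsg.Statements.S0590
import Cfsg.Agent.Lib.Layer.Basic

set_option autoImplicit false
open Cfsg
open scoped commutatorElement

namespace Cfsg.Agent.S0590

/-- Quadratic action on an elementary abelian p-group forces the acting group modulo the kernel of the action to be elementary abelian. -/
theorem result {G : Type*} [Group G] [Finite G] {p : ℕ} [Fact p.Prime] (V H : Subgroup G) (hV : Cfsg.IsElementaryAbelian p V) (hHV : H ≤ Subgroup.normalizer (V : Set G)) (hq : ⁅⁅V, H⁆, H⁆ = ⊥) : ⁅H, H⁆ ≤ Subgroup.centralizer (V : Set G) ∧ ∀ a ∈ H, a ^ p ∈ Subgroup.centralizer (V : Set G) := by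
  have h1 : ⁅⁅H, V⁆, H⁆ = ⊥ := by rwa [Subgroup.commutator_comm H V]
  have h2 := Subgroup.commutator_commutator_eq_bot_of_rotate (H₁ := H) (H₂ := H) (H₃ := V) h1 hq
  refine ⟨Subgroup.commutator_eq_bot_iff_le_centralizer.mp h2, fun a ha => ?_⟩
  refine Subgroup.mem_centralizer_iff.mpr fun v hv => ?_
  set c := v⁻¹ * (a * v * a⁻¹) with hc
  have hcV : c ∈ V := mul_mem (inv_mem hv) ((Subgroup.mem_normalizer_iff.mp (hHV ha) v).mp hv)
  have hcH : c ∈ ⁅V, H⁆ := by
    have h3 := Subgroup.commutator_mem_commutator (inv_mem hv) ha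
    rwa [commutatorElement_def, show v⁻¹ * a * v⁻¹⁻¹ * a⁻¹ = v⁻¹ * (a * v * a⁻¹) by group] at h3
  have hac : a * c * a⁻¹ = c := by
    rw [Subgroup.mem_centralizer_iff.mp (Subgroup.commutator_eq_bot_iff_le_centralizer.mp hq hcH) a ha,
      mul_inv_cancel_right]
  have key : ∀ n : ℕ, a ^ n * v * (a ^ n)⁻¹ = v * c ^ n := by
    intro n
    induction n with
    | zero => simp
    | succ n ih =>
      rw [pow_succ', show a * a ^ n * v * (a * a ^ n)⁻¹ = a * (a ^ n * v * (a ^ n)⁻¹) * a⁻¹ by group, ih,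
        show a * (v * c ^ n) * a⁻¹ = (a * v * a⁻¹) * (a * c * a⁻¹) ^ n by rw [conj_pow]; group, hac,
        pow_succ' c n, ← mul_assoc v, hc]
      group
  have h3 := key p
  rw [hV.2 c hcV, mul_one] at h3
  exact (mul_inv_eq_iff_eq_mul.mp h3).symm

end Cfsg.Agent.S0590
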