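import Cfsg.Statements.S0591
import Mathlib

set_option autoImplicit false
open Cfsg
open scoped commutatorElement

namespace Cfsg.Agent.S0591

/-- For a quadratically acting element a on an elementary abelian p-group V, the fixed points C_V(a) have order at least the square root of the order of V. -/
theorem result {G : Type*} [Group G] [Finite G] {p : ℕ} [Fact p.Prime] (V : Subgroup G) (hV : Cfsg.IsElementaryAbelian p V) (a : G) (ha : a ∈ Subgroup.normalizer (V : Set G)) (hq : ⁅⁅V, Subgroup.zpowers a⁆, Subgroup.zpowers a⁆ = ⊥) : Nat.card V ≤ Nat.card ↥(V ⊓ Subgroup.centralizer (Subgroup.zpowers a : Set G)) ^ 2 := by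
  set A := Subgroup.zpowers a with hA
  set C := V ⊓ Subgroup.centralizer (A : Set G) with hC
  have hVc : ∀ x ∈ V, ∀ y ∈ V, x * y = y * x := fun x hx y hy =>
    congrArg Subtype.val (hV.1.is_comm.comm (⟨x, hx⟩ : ↥V) ⟨y, hy⟩)
  have hmem : ∀ v ∈ V, v⁻¹ * (a * v * a⁻¹) ∈ C := fun v hv => by
    refine Subgroup.mem_inf.mpr ⟨mul_mem (inv_mem hv) ((Subgroup.mem_normalizer_iff.mp ha v).mp hv), ?_⟩
    have h3 := Subgroup.commutator_mem_commutator (inv_mem hv) (Subgroup.mem_zpowers a)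
    rw [commutatorElement_def, show v⁻¹ * a * v⁻¹⁻¹ * a⁻¹ = v⁻¹ * (a * v * a⁻¹) by group] at h3
    exact Subgroup.commutator_eq_bot_iff_le_centralizer.mp hq h3
  let f : ↥V →* ↥C := MonoidHom.mk' (fun v => ⟨(v : G)⁻¹ * (a * v * a⁻¹), hmem v v.2⟩) fun v w => by
    refine Subtype.ext ?_
    show ((v : G) * w)⁻¹ * (a * ((v : G) * w) * a⁻¹) =
      (v : G)⁻¹ * (a * v * a⁻¹) * ((w : G)⁻¹ * (a * w * a⁻¹))
    have h1 := hVc _ (inv_mem w.2) _ (Subgroup.mem_inf.mp (hmem v v.2)).1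
    calc ((v : G) * w)⁻¹ * (a * ((v : G) * w) * a⁻¹)
        = (w : G)⁻¹ * ((v : G)⁻¹ * (a * v * a⁻¹)) * (a * w * a⁻¹) := by group
      _ = _ := by rw [h1, mul_assoc]
  have hk : Nat.card f.ker ≤ Nat.card C := by
    rw [← Subgroup.card_map_of_injective (f := V.subtype) V.subtype_injective]
    refine Subgroup.card_le_of_le ?_
    rintro _ ⟨v, hv, rfl⟩
    refine Subgroup.mem_inf.mpr ⟨v.2, ?_⟩
    have h1 : (v : G)⁻¹ * (a * v * a⁻¹) = 1 := congrArg Subtype.val hv
    rw [hA, Subgroup.zpowers_eq_closure, Subgroup.centralizer_closure]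
    refine Subgroup.mem_centralizer_singleton_iff.mpr ?_
    exact (mul_inv_eq_iff_eq_mul.mp (inv_mul_eq_one.mp h1).symm).symm
  rw [Subgroup.card_eq_card_quotient_mul_card_subgroup f.ker,
    Nat.card_congr (QuotientGroup.quotientKerEquivRange f).toEquiv, pow_two]
  exact Nat.mul_le_mul (Subgroup.card_le_card_group _) hk

end Cfsg.Agent.S0591
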