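import Cfsg.Statements.S0592
import Cfsg.Agent.Lib.Quadratic.Groups
import Mathlib.FieldTheory.Finite.GaloisField

set_option autoImplicit false
open Cfsg

namespace Cfsg.Agent.S0592

open CfsgLib

/-- Two quadratically acting generators of a linear group that is not a p-group, with the p'-part of the order of their product dividing q - 1, give a homomorphism onto a subgroup of SL(2, q) that is not a p-group. -/
theorem result {K : Type*} [Field K] [Fintype K] {p : ℕ} [Fact p.Prime] [CharP K p] {W : Type*} [AddCommGroup W] [Module K W] [FiniteDimensional K W] [Finite W] [Nontrivial W] (H : Subgroup (W ≃ₗ[K] W)) (a b : W ≃ₗ[K] W) (hH : H = Subgroup.closure {a, b}) (ha : ∀ w : W, a (a w - w) = a w - w) (hb : ∀ w : W, b (b w - w) = b w - w) (hnp : ¬ IsPGroup p H) (hk : ∃ e k : ℕ, orderOf (a * b) = p ^ e * k ∧ k ∣ Fintype.card K - 1) : ∃ φ : H →* Matrix.SpecialLinearGroup (Fin 2) K, ¬ IsPGroup p φ.range := by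
  obtain ⟨e0, k, hord, hk⟩ := hk
  obtain ⟨n, -, hq⟩ := FiniteField.card K p
  let a' : H := ⟨a, hH ▸ Subgroup.subset_closure (Set.mem_insert _ _)⟩
  let b' : H := ⟨b, hH ▸ Subgroup.subset_closure (Set.mem_insert_of_mem _ rfl)⟩
  let act : H →* AddMonoid.End W :=
    { toFun := fun h => (h : W ≃ₗ[K] W).toLinearMap.toAddMonoidHom
      map_one' := rfl
      map_mul' := fun _ _ => rfl }
  have hact : Function.Injective act := fun x y h => Subtype.ext
    (LinearEquiv.ext fun w => DFunLike.congr_fun h w)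
  have hpW : ∀ w : W, p • w = 0 := fun w => by
    rw [← Nat.cast_smul_eq_nsmul K, CharP.cast_eq_zero, zero_smul]
  have hquad : ∀ c : H, (∀ w : W, (c : W ≃ₗ[K] W) ((c : W ≃ₗ[K] W) w - w) = (c : W ≃ₗ[K] W) w - w) →
      (act c - 1) * (act c - 1) = 0 := by
    intro c hc
    refine AddMonoidHom.ext fun w => ?_
    show (c : W ≃ₗ[K] W) ((c : W ≃ₗ[K] W) w - w) - ((c : W ≃ₗ[K] W) w - w) = 0
    rw [hc, sub_self]
  have hgen : Subgroup.closure ({a', b'} : Set H) = ⊤ :=
    Quadratic.closure_pair_eq_top hH a'.2 b'.2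
  obtain ⟨W', i1, i2, θ, hW', hirr, ⟨x, -, hx⟩, hqd, hker, -⟩ :=
    Quadratic.exists_irreducible_factor (⊤ : Subgroup H) _ W rfl hpW act
      (fun h => hnp fun g => by
        obtain ⟨j, hj⟩ := h g (Subgroup.mem_top g)
        exact ⟨j, hact (by rw [map_pow, map_one, hj])⟩)
  obtain ⟨F, i3, i4, i5, lam, hlam, hcl, ρ, hρa, hρb, hρ, -⟩ :=
    Quadratic.exists_sl2_of_irreducible hW' θ hirr hgen (hqd a' (hquad a' ha)) (hqd b' (hquad b' hb))
      ⟨x, hx⟩
  -- the trace of the image of `ab` lies in the subfield of order `|K|`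
  have hlamq : lam ^ Fintype.card K = lam := by
    set M : Matrix (Fin 2) (Fin 2) F := (ρ (a' * b')).1 with hM
    set M' : Matrix (Fin 2) (Fin 2) F := (ρ (a' * b')⁻¹).1 with hM'
    have hsum : M + M' = (2 + lam) • (1 : Matrix (Fin 2) (Fin 2) F) := by
      rw [hM, hM', map_inv, map_mul, hρa, hρb, Matrix.SpecialLinearGroup.coe_inv,
        Matrix.adjugate_fin_two]
      ext i j
      fin_cases i <;> fin_cases j <;>
        simp [SL2.mul_entry, SL2.up_coe, SL2.lo_coe, Matrix.one_apply] <;> ring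
    have hcomm : Commute M M' := by
      show M * M' = M' * M
      rw [hM, hM', ← Matrix.SpecialLinearGroup.coe_mul, ← Matrix.SpecialLinearGroup.coe_mul,
        ← map_mul, ← map_mul, mul_inv_cancel, inv_mul_cancel]
    have hpow : ∀ j : ℕ, M ^ p ^ j + M' ^ p ^ j =
        (2 + lam) ^ p ^ j • (1 : Matrix (Fin 2) (Fin 2) F) := fun j => by
      rw [← add_pow_char_pow_of_commute p j hcomm, hsum, smul_pow, one_pow]
    have hab : (a' * b') ^ (p ^ e0 * k) = 1 := by
      rw [← hord]
      exact Subtype.ext (by rw [Subgroup.coe_pow]; exact pow_orderOf_eq_one _)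
    have hstep : (a' * b') ^ p ^ (e0 + (n : ℕ)) = (a' * b') ^ p ^ e0 := by
      obtain ⟨c, hc⟩ := hk
      have h1 : p ^ (e0 + (n : ℕ)) = p ^ e0 * k * c + p ^ e0 := by
        have hq1 : 1 ≤ Fintype.card K := Fintype.card_pos
        rw [pow_add, ← hq, mul_assoc, ← hc, ← Nat.mul_succ, Nat.succ_eq_add_one,
          Nat.sub_add_cancel hq1]
      rw [h1, pow_add, pow_mul, hab, one_pow, one_mul]
    have h2 : (2 + lam) ^ p ^ (e0 + (n : ℕ)) = (2 + lam) ^ p ^ e0 := by
      have h3 := hpow (e0 + n)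
      have h4 : M ^ p ^ (e0 + (n : ℕ)) = M ^ p ^ e0 := by
        rw [hM, ← Matrix.SpecialLinearGroup.coe_pow, ← map_pow, hstep, map_pow,
          Matrix.SpecialLinearGroup.coe_pow]
      have h5 : M' ^ p ^ (e0 + (n : ℕ)) = M' ^ p ^ e0 := by
        rw [hM', ← Matrix.SpecialLinearGroup.coe_pow, ← map_pow, inv_pow, hstep, ← inv_pow,
          map_pow, Matrix.SpecialLinearGroup.coe_pow]
      rw [h4, h5, hpow e0] at h3
      have := congrArg (fun A : Matrix (Fin 2) (Fin 2) F => A 0 0) h3
      simpa using this.symm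
    have h6 : (2 + lam) ^ p ^ (n : ℕ) = 2 + lam := by
      refine iterateFrobenius_inj F p e0 ?_
      rw [iterateFrobenius_def, iterateFrobenius_def, ← pow_mul, ← pow_add, Nat.add_comm]
      exact h2
    rw [add_pow_char_pow] at h6
    have h7 : (2 : F) ^ p ^ (n : ℕ) = 2 := by
      have h := map_natCast (iterateFrobenius F p (n : ℕ)) 2
      simpa [iterateFrobenius_def] using h
    rw [h7, ← hq] at h6
    exact add_left_cancel h6
  -- hence every element of `F` does
  have hall : ∀ y : F, y ^ p ^ (n : ℕ) = y := by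
    have h : Subfield.closure ({lam} : Set F) ≤
        (iterateFrobenius F p (n : ℕ)).eqLocusField (RingHom.id F) := by
      rw [Subfield.closure_le, Set.singleton_subset_iff]
      show iterateFrobenius F p (n : ℕ) lam = lam
      rw [iterateFrobenius_def, ← hq]
      exact hlamq
    intro y
    exact h (hcl ▸ Subfield.mem_top y)
  letI : Algebra (ZMod p) F := ZMod.algebra F p
  letI : Algebra (ZMod p) K := ZMod.algebra K p
  have hdvd : Module.finrank (ZMod p) F ∣ Module.finrank (ZMod p) K := by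
    rw [← FiniteField.orderOf_frobeniusAlgHom (ZMod p) F]
    refine orderOf_dvd_of_pow_eq_one (AlgHom.ext fun y => ?_)
    rw [AlgHom.coe_pow, FiniteField.coe_frobeniusAlgHom, ZMod.card, pow_iterate]
    have h := Module.card_eq_pow_finrank (K := ZMod p) (V := K)
    rw [ZMod.card] at h
    rw [← h, hq]
    exact hall y
  obtain ⟨ι⟩ := FiniteField.nonempty_algHom_of_finrank_dvd hdvd
  let μ : Matrix.SpecialLinearGroup (Fin 2) F →* Matrix.SpecialLinearGroup (Fin 2) K :=
    Matrix.SpecialLinearGroup.map ι.toRingHom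
  refine ⟨μ.comp ρ, fun hp' => ?_⟩
  have hμ : Function.Injective μ := by
    intro A B h
    refine Subtype.ext (Matrix.ext fun i j => ι.toRingHom.injective ?_)
    exact congrArg (fun C : Matrix.SpecialLinearGroup (Fin 2) K => C.1 i j) h
  have h1 : IsPGroup p ρ.range := by
    rw [MonoidHom.range_comp] at hp'
    exact hp'.of_equiv (ρ.range.equivMapOfInjective μ hμ).symm
  have h2 := Quadratic.one_lt_card_sylow_range ρ hlam hρa hρb
  haveI : Subsingleton (Sylow p ρ.range) := ⟨fun P Q => Sylow.ext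
    ((P.3 (h1.to_subgroup ⊤) le_top).symm.trans (Q.3 (h1.to_subgroup ⊤) le_top))⟩
  exact h2.ne' (Nat.card_unique)
end Cfsg.Agent.S0592
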