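import Cfsg.Statements.S0594
import Cfsg.Agent.Lib.Quadratic.Groups

set_option autoImplicit false
open Cfsg

namespace Cfsg.Agent.S0594

open CfsgLib CfsgLib.Quadratic
open scoped IsMulCommutative commutatorElement

theorem commute_of_mem_pCore {p : ℕ} [Fact p.Prime] {X : Type*} [Group X] [Finite X] (N : Subgroup X)
    [hn : N.Normal] (hN : (Nat.card N).Coprime p) {a : X} (ha : a ∈ Cfsg.pCore p X) {q : X} (hq : q ∈ N) :
    Commute q a := by
  refine commutatorElement_eq_one_iff_commute.mp (PSolvable.eq_one_of_mem_of_mem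
    (Fitting.pCore_isPGroup p) hN ?_ ?_)
  · rw [commutatorElement_def]
    exact mul_mem ((Fitting.pCore_normal p).conj_mem a ha q) (inv_mem ha)
  · rw [commutatorElement_def, mul_assoc q, mul_assoc q]
    exact mul_mem hq (hn.conj_mem _ (inv_mem hq) a)

/-- For odd p, two quadratic generators of a faithful group that is not a p-group, one of which acts nontrivially on a normal subgroup of order prime to p, force p = 3 and a section isomorphic to SL(2,3). -/
theorem result {G : Type*} [Group G] [Finite G] {p : ℕ} [Fact p.Prime] (hp : p ≠ 2) (V H : Subgroup G) (hV : Cfsg.IsElementaryAbelian p V) (hHV : H ≤ Subgroup.normalizer (V : Set G)) (hf : H ⊓ Subgroup.centralizer (V : Set G) = ⊥) (a b : G) (hab : H = Subgroup.closure {a, b}) (ha : ⁅⁅V, Subgroup.zpowers a⁆, Subgroup.zpowers a⁆ = ⊥) (hb : ⁅⁅V, Subgroup.zpowers b⁆, Subgroup.zpowers b⁆ = ⊥) (hnp : ¬ IsPGroup p H) (Q : Subgroup G) (hQH : Q ≤ H) (hQn : H ≤ Subgroup.normalizer (Q : Set G)) (hQ : (Nat.card Q).Coprime p) (hQa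 : ⁅Q, Subgroup.zpowers a⁆ ≠ ⊥) : p = 3 ∧ ∃ (K L : Subgroup G) (hL : (L.subgroupOf K).Normal), K ≤ H ∧ Nonempty ((K ⧸ L.subgroupOf K) ≃* Matrix.SpecialLinearGroup (Fin 2) (ZMod 3)) := by
  haveI := hV.1
  have haH : a ∈ H := hab ▸ Subgroup.subset_closure (Set.mem_insert _ _)
  have contra : ∀ R : Subgroup G, ∀ haR : a ∈ R, Q ≤ R → R ≤ Subgroup.normalizer (Q : Set G) →
      (⟨a, haR⟩ : R) ∉ Cfsg.pCore p R := by
    intro R haR hQR hRn hm
    apply hQa
    rw [Subgroup.commutator_eq_bot_iff_le_centralizer, Subgroup.le_centralizer_iff,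
      Subgroup.zpowers_le]
    intro q hq
    haveI := Subgroup.normal_subgroupOf_of_le_normalizer hRn
    have hcard : (Nat.card (Q.subgroupOf R)).Coprime p := by
      rw [Nat.card_congr (Subgroup.subgroupOfEquivOfLe hQR).toEquiv]; exact hQ
    exact congrArg Subtype.val (commute_of_mem_pCore (Q.subgroupOf R) hcard hm
      (q := ⟨q, hQR hq⟩) hq).eq
  obtain ⟨K, L, hL, hK, hiso⟩ := exists_sl2_section hp V H hV hHV hf haH ha (contra H haH hQH hQn)
  suffices h3 : p = 3 by
    subst h3
    exact ⟨rfl, K, L, hL, hK, hiso⟩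
  by_contra h3
  have hp5 : 5 ≤ p := by
    have := (Fact.out : p.Prime).two_le
    rcases Nat.lt_or_ge p 5 with h | h
    · interval_cases p
      · exact absurd rfl hp
      · exact absurd rfl h3
      · exact absurd (Fact.out : Nat.Prime 4) (by decide)
    · exact h
  set R := Q ⊔ Subgroup.zpowers a with hR
  have hRH : R ≤ H := sup_le hQH (by simpa using haH)
  have haR : a ∈ R := Subgroup.mem_sup_right (Subgroup.mem_zpowers a)
  have hQR : Q ≤ R := le_sup_left
  refine contra R haR hQR (hRH.trans hQn) (mem_pCore_of_isPSolvable hp5 ?_ (act_nsmul hV)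
    (act V R (hRH.trans hHV)) (act_injective V R _ (le_bot_iff.1 (le_trans
      (inf_le_inf_right _ hRH) hf.le))) (act_quadratic V R _ (a := ⟨a, haR⟩) ha))
  haveI := Subgroup.normal_subgroupOf_of_le_normalizer (hRH.trans hQn)
  have hcard : (Nat.card (Q.subgroupOf R)).Coprime p := by
    rw [Nat.card_congr (Subgroup.subgroupOfEquivOfLe hQR).toEquiv]; exact hQ
  refine PSolvable.isPSolvable_of_quotient (Q.subgroupOf R) (Or.inr hcard)
    (PSolvable.isPSolvable_of_isSolvable ?_)
  set π := QuotientGroup.mk' (Q.subgroupOf R)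
  have htop : Subgroup.zpowers (π ⟨a, haR⟩) = ⊤ := by
    have h : (Q.subgroupOf R) ⊔ Subgroup.zpowers (⟨a, haR⟩ : R) = ⊤ := by
      apply Subgroup.map_injective R.subtype_injective
      rw [Subgroup.map_sup, Subgroup.map_subgroupOf_eq_of_le hQR, MonoidHom.map_zpowers,
        ← MonoidHom.range_eq_map, Subgroup.range_subtype]
      rfl
    rw [← MonoidHom.map_zpowers, eq_top_iff, ← Subgroup.map_top_of_surjective π
      (QuotientGroup.mk'_surjective _), ← h, Subgroup.map_sup, QuotientGroup.map_mk'_self, bot_sup_eq]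
  haveI : IsCyclic (↥R ⧸ Q.subgroupOf R) := ⟨⟨_, (Subgroup.eq_top_iff' _).1 htop⟩⟩
  exact Group.isSolvable_of_comm fun x y => by
    obtain ⟨g, hg⟩ := IsCyclic.exists_generator (α := ↥R ⧸ Q.subgroupOf R)
    obtain ⟨i, rfl⟩ := hg x
    obtain ⟨j, rfl⟩ := hg y
    exact zpow_mul_comm g i j

end Cfsg.Agent.S0594
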