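import Cfsg.Statements.S0596
import Cfsg.Agent.Lib.Quadratic.Groups

set_option autoImplicit false
open Cfsg

namespace Cfsg.Agent.S0596

open scoped IsMulCommutative

/-- For odd p, a p-separable group with a faithful action on an elementary abelian p-group that is not p-stable has p = 3 and involves SL(2,3). -/
theorem result {G : Type*} [Group G] [Finite G] {p : ℕ} [Fact p.Prime] (hp : p ≠ 2) (V H : Subgroup G) (hV : Cfsg.IsElementaryAbelian p V) (hHV : H ≤ Subgroup.normalizer (V : Set G)) (hf : H ⊓ Subgroup.centralizer (V : Set G) = ⊥) (hsep : Cfsg.IsPSolvable p H) (a : G) (haH : a ∈ H) (hq : ⁅⁅V, Subgroup.zpowers a⁆, Subgroup.zpowers a⁆ = ⊥) (hna : a ∉ (Cfsg.pCore p H).map H.subtype) : p = 3 ∧ ∃ (K L : Subgroup G) (hL : (L.subgroupOf K).Normal), K ≤ H ∧ Nonempty ((K ⧸ L.subgroupOf K) ≃* Matrix.SpecialLinearGroup (Fin 2) (ZMod 3)) := by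
  haveI := hV.1
  have hna' := CfsgLib.Quadratic.not_mem_pCore_of_not_mem_map haH hna
  have hp3 : p = 3 := by
    by_contra h3
    have hp5 : 5 ≤ p := by
      have h2 := (Fact.out : p.Prime).two_le
      have h4 : p ≠ 4 := fun h4 => by
        have := (Fact.out : p.Prime)
        rw [h4] at this
        norm_num at this
      omega
    exact hna' (CfsgLib.Quadratic.mem_pCore_of_isPSolvable hp5 hsep
      (CfsgLib.Quadratic.act_nsmul hV) _ (CfsgLib.Quadratic.act_injective V H hHV hf)
      (CfsgLib.Quadratic.act_quadratic V H hHV (a := ⟨a, haH⟩) hq))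
  subst hp3
  exact ⟨rfl, CfsgLib.Quadratic.exists_sl2_section hp V H hV hHV hf haH hq hna'⟩

end Cfsg.Agent.S0596
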