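import Cfsg.Statements.S0599
import Cfsg.Agent.Lib.Offender.Timmesfeld

set_option autoImplicit false
open Cfsg

namespace Cfsg.Agent.S0599

/-- The Timmesfeld replacement Theorem: replacing a best offender A by C_A([U, A]) gives a best offender with fixed points [U, A]C_V(A), still nontrivial on V if A was. -/
theorem result {G : Type*} [Group G] [Finite G] {p : ℕ} [Fact p.Prime] (V A : Subgroup G) (hV : Cfsg.IsElementaryAbelian p V) (hAV : A ≤ Subgroup.normalizer (V : Set G)) (hA : Cfsg.IsBestOffenderOn p V A) (U : Subgroup G) (hU : U ≤ V) : Cfsg.IsBestOffenderOn p V (A ⊓ Subgroup.centralizer ((⁅U, A⁆ : Subgroup G) : Set G)) ∧ V ⊓ Subgroup.centralizer ((A ⊓ Subgroup.centralizer ((⁅U, A⁆ : Subgroup G) : Set G) : Subgroup G) : Set G) = ⁅U, A⁆ ⊔ (V ⊓ Subgroup.centralizer (A : Set G)) ∧ (⁅V, A⁆ ≠ ⊥ → ⁅V, A ⊓ Subgroup.centralizer ((⁅U, A⁆ : Subgroup G) : Set G)⁆ ≠ ⊥) := by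
  have hVc : ∀ x ∈ V, ∀ y ∈ V, Commute x y := fun x hx y hy =>
    congrArg Subtype.val (hV.1.is_comm.comm (⟨x, hx⟩ : ↥V) ⟨y, hy⟩)
  obtain ⟨hmax, hab, hap⟩ := hA
  have hVp : IsPGroup p ↥V := fun v => ⟨1, Subtype.ext (by
    rw [pow_one, SubmonoidClass.coe_pow]; exact hV.2 v v.2)⟩
  obtain ⟨h1, h2⟩ := CfsgLib.Offender.Timmesfeld.replacement hVc hAV hab hmax hU
  refine ⟨⟨fun B hB => ?_, (Subgroup.commutator_mono inf_le_left inf_le_left).trans hab,
    fun a ha => hap a (Subgroup.mem_inf.mp ha).1⟩, h2,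
    fun hne => CfsgLib.Offender.Timmesfeld.commutator_ne_bot hVc hAV hab hVp hap hmax hU hne⟩
  exact (hmax B (hB.trans inf_le_left)).trans h1.ge

end Cfsg.Agent.S0599
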