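import Cfsg.Statements.S0600
import Cfsg.Agent.Lib.ZJ.Centers

set_option autoImplicit false
open Cfsg

namespace Cfsg.Agent.S0600

/-- A normal elementary abelian p-subgroup generated by the fixed points of the Sylow p-subgroups admits no nontrivial normal p-subgroup of G modulo its centralizer. -/
theorem result {G : Type*} [Group G] [Finite G] {p : ℕ} [Fact p.Prime] (V : Subgroup G) [V.Normal] (hV : Cfsg.IsElementaryAbelian p V) (hgen : V = ⨆ S : Sylow p G, V ⊓ Subgroup.centralizer ((S : Subgroup G) : Set G)) : Cfsg.pCore p (G ⧸ Subgroup.centralizer (V : Set G)) = ⊥ := by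
  haveI : (Cfsg.pCore p (G ⧸ Subgroup.centralizer (V : Set G))).Normal := CfsgLib.Fitting.pCore_normal p
  rw [eq_bot_iff]
  intro x hx
  obtain ⟨g, rfl⟩ := QuotientGroup.mk'_surjective _ x
  rw [Subgroup.mem_bot, QuotientGroup.mk'_apply, QuotientGroup.eq_one_iff]
  have key : ∀ S : Sylow p G, V ⊓ Subgroup.centralizer ((S : Subgroup G) : Set G) ≤
      Subgroup.centralizer ({g} : Set G) := by
    intro S v hv
    obtain ⟨hvV, hvS⟩ := Subgroup.mem_inf.mp hv
    have h1 := CfsgLib.ZJ.normal_le_sylow (CfsgLib.Fitting.pCore_isPGroup p)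
      (S.mapSurjective (f := QuotientGroup.mk' (Subgroup.centralizer (V : Set G)))
        (QuotientGroup.mk'_surjective _)) hx
    obtain ⟨s, hs, hsg⟩ := (by rwa [Sylow.coe_mapSurjective] at h1 : QuotientGroup.mk' (Subgroup.centralizer (V : Set G)) g ∈ (S : Subgroup G).map (QuotientGroup.mk' (Subgroup.centralizer (V : Set G))))
    have hc : s⁻¹ * g ∈ Subgroup.centralizer (V : Set G) := QuotientGroup.eq.mp hsg
    rw [Subgroup.mem_centralizer_singleton_iff]
    have h2 : Commute v (s * (s⁻¹ * g)) :=
      (show Commute v s from (hvS s hs).symm).mul_right (hc v hvV)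
    rw [mul_inv_cancel_left] at h2
    exact h2.eq
  intro v hv
  have h3 := iSup_le key (hgen ▸ hv)
  exact Subgroup.mem_centralizer_singleton_iff.mp h3

end Cfsg.Agent.S0600
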