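import Cfsg.Statements.S0601
import Cfsg.Agent.Lib.ZJ.Centers
import Cfsg.Agent.S0600

set_option autoImplicit false
open Cfsg

namespace Cfsg.Agent.S0601

/-- When O_p(G) contains its centralizer, the normal closure of Ω₁(Z(S)) is elementary abelian and G has no nontrivial normal p-subgroup modulo its centralizer. -/
theorem result {G : Type*} [Group G] [Finite G] {p : ℕ} [Fact p.Prime] (hc : Subgroup.centralizer (Cfsg.pCore p G : Set G) ≤ Cfsg.pCore p G) : (⨆ S : Sylow p G, Cfsg.omegaOne p (((S : Subgroup G)) ⊓ Subgroup.centralizer ((S : Subgroup G) : Set G))).Normal ∧ Cfsg.IsElementaryAbelian p (⨆ S : Sylow p G, Cfsg.omegaOne p (((S : Subgroup G)) ⊓ Subgroup.centralizer ((S : Subgroup G) : Set G))) ∧ ∀ D : Subgroup G, D.Normal → Subgroup.centralizer ((⨆ S : Sylow p G, Cfsg.omegaOne p (((S : Subgroup G)) ⊓ Subgroup.centralizer ((S : Subgroup G) : Set G)) : Subgroup G) : Set G) ≤ D → (∃ k : ℕ, (Subgroup.centralizer ((⨆ S : Sylow p G, Cfsg.omegaOne p (((S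 : Subgroup G)) ⊓ Subgroup.centralizer ((S : Subgroup G) : Set G)) : Subgroup G) : Set G)).relIndex D = p ^ k) → D = Subgroup.centralizer ((⨆ S : Sylow p G, Cfsg.omegaOne p (((S : Subgroup G)) ⊓ Subgroup.centralizer ((S : Subgroup G) : Set G)) : Subgroup G) : Set G) := by
  set f : Sylow p G → Subgroup G := fun S =>
    Cfsg.omegaOne p (((S : Subgroup G)) ⊓ Subgroup.centralizer ((S : Subgroup G) : Set G)) with hf
  set W : Subgroup G := ⨆ S, f S with hW
  haveI : (Cfsg.pCore p G).Normal := CfsgLib.Fitting.pCore_normal p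
  set Z : Subgroup G := Cfsg.pCore p G ⊓ Subgroup.centralizer (Cfsg.pCore p G : Set G) with hZ
  have hgen : ∀ S : Sylow p G, ((S : Subgroup G)) ⊓ Subgroup.centralizer ((S : Subgroup G) : Set G) ≤ Z := by
    intro S x hx
    have h1 : x ∈ Subgroup.centralizer (Cfsg.pCore p G : Set G) :=
      Subgroup.centralizer_le (SetLike.coe_subset_coe.mpr
        (CfsgLib.ZJ.normal_le_sylow (CfsgLib.Fitting.pCore_isPGroup p) S)) hx.2
    exact Subgroup.mem_inf.mpr ⟨hc h1, h1⟩
  let Ω : Subgroup G :=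
    { carrier := {x | x ∈ Z ∧ x ^ p = 1}
      one_mem' := ⟨one_mem _, one_pow p⟩
      mul_mem' := fun {x z} hx hz => ⟨mul_mem hx.1 hz.1, by
        rw [Commute.mul_pow (show Commute x z from hz.1.2 x hx.1.1), hx.2, hz.2, one_mul]⟩
      inv_mem' := fun {x} hx => ⟨inv_mem hx.1, by rw [inv_pow, hx.2, inv_one]⟩ }
  have hWΩ : W ≤ Ω := iSup_le fun S => (Subgroup.closure_le _).mpr fun x hx => ⟨hgen S hx.1, hx.2⟩
  have hEl : Cfsg.IsElementaryAbelian p W :=
    ⟨⟨⟨fun a b => Subtype.ext ((hWΩ b.2).1.2 (a : G) (hWΩ a.2).1.1)⟩⟩, fun a ha => (hWΩ ha).2⟩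
  have hN : W.Normal := by
    refine ⟨fun x hx g => ?_⟩
    have h1 : W ≤ W.comap (MulAut.conj g).toMonoidHom := iSup_le fun S =>
      (Subgroup.closure_le _).mpr fun y hy => by
        refine le_iSup f (g • S) (Subgroup.subset_closure ⟨Subgroup.mem_inf.mpr ⟨?_, ?_⟩, ?_⟩)
        · exact Subgroup.smul_mem_pointwise_smul y (MulAut.conj g) (S : Subgroup G) hy.1.1
        · intro z hz
          obtain ⟨w, hw, rfl⟩ := hz
          show (MulAut.conj g) w * (MulAut.conj g) y = (MulAut.conj g) y * (MulAut.conj g) w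
          rw [← map_mul, ← map_mul, hy.1.2 w hw]
        · rw [← map_pow, hy.2, map_one]
    exact h1 hx
  refine ⟨hN, hEl, fun D hD hCD ⟨k, hk⟩ => le_antisymm ?_ hCD⟩
  haveI := hN
  have h0 := Cfsg.Agent.S0600.result W hEl (le_antisymm
    (iSup_mono fun S => le_inf (le_iSup f S) ((CfsgLib.ZJ.omegaOne_le p _).trans inf_le_right))
    (iSup_le fun S => inf_le_left))
  have hcard : Nat.card (D.map (QuotientGroup.mk' (Subgroup.centralizer (W : Set G)))) = p ^ k := by
    rw [← Subgroup.relIndex_ker, QuotientGroup.ker_mk']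
    exact hk
  have h2 : D.map (QuotientGroup.mk' (Subgroup.centralizer (W : Set G))) ≤
      Cfsg.pCore p (G ⧸ Subgroup.centralizer (W : Set G)) :=
    CfsgLib.Fitting.le_pCore (hD.map _ (QuotientGroup.mk'_surjective _)) (IsPGroup.of_card hcard)
  rw [h0, le_bot_iff, Subgroup.map_eq_bot_iff, QuotientGroup.ker_mk'] at h2
  exact h2

end Cfsg.Agent.S0601
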