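import Cfsg.Statements.S0602
import Cfsg.Agent.Lib.Transfer.ThompsonBasics

set_option autoImplicit false
open Cfsg

namespace Cfsg.Agent.S0602

/-- The Thompson subgroup is characteristic, and nontrivial as soon as p divides the group order. -/
theorem result {G : Type*} [Group G] [Finite G] {p : ℕ} [Fact p.Prime] : (Cfsg.thompsonSubgroup p G).Characteristic ∧ (p ∣ Nat.card G → Cfsg.thompsonSubgroup p G ≠ ⊥) := by
  rw [CfsgLib.ZJ.thompsonSubgroup_eq_top]
  refine ⟨Subgroup.characteristic_iff_map_eq.mpr fun φ => ?_, fun hdvd h => ?_⟩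
  · rw [CfsgLib.Transfer.map_thompsonJ p φ.toMonoidHom φ.injective.injOn,
      Subgroup.map_top_of_surjective _ φ.surjective]
  · obtain ⟨x, hx⟩ := exists_prime_orderOf_dvd_card' (G := G) p hdvd
    obtain ⟨A, hA⟩ := CfsgLib.Transfer.thompsonJ_nonempty p (⊤ : Subgroup G)
    have hA1 : A = ⊥ := le_bot_iff.mp (h ▸ le_sSup hA)
    have := hA.2.2 (Subgroup.zpowers x) le_top ⟨inferInstance, fun a ha =>
      orderOf_dvd_iff_pow_eq_one.mp ((orderOf_dvd_of_mem_zpowers ha).trans (hx ▸ dvd_rfl))⟩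
    rw [hA1, Subgroup.card_bot, Nat.card_zpowers, hx] at this
    exact absurd this (not_le.mpr (Fact.out : p.Prime).one_lt)

end Cfsg.Agent.S0602
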