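import Cfsg.Statements.S0607
import Cfsg.Agent.Lib.Offender.Timmesfeld

set_option autoImplicit false
open Cfsg
open scoped commutatorElement

namespace Cfsg.Agent.S0607

/-- The replacement Theorem for the Thompson subgroup: from A of maximal order among elementary abelian p-subgroups one obtains A₀ = [V, A] C_A([V, A]) of the same kind, quadratic on V and nontrivial on V when A is. -/
theorem result {G : Type*} [Group G] [Finite G] {p : ℕ} [Fact p.Prime] (V : Subgroup G) [V.Normal] (hV : Cfsg.IsElementaryAbelian p V) (A : Subgroup G) (hA : A ∈ Cfsg.maxElementaryAbelianSubgroups p G) : (⁅V, A⁆ ⊔ (A ⊓ Subgroup.centralizer ((⁅V, A⁆ : Subgroup G) : Set G))) ∈ Cfsg.maxElementaryAbelianSubgroups p G ∧ ⁅⁅V, ⁅V, A⁆ ⊔ (A ⊓ Subgroup.centralizer ((⁅V, A⁆ : Subgroup G) : Set G))⁆, ⁅V, A⁆ ⊔ (A ⊓ Subgroup.centralizer ((⁅V, A⁆ : Subgroup G) : Set G))⁆ = ⊥ ∧ (⁅V, A⁆ ≠ ⊥ → ⁅V, ⁅V, A⁆ ⊔ (A ⊓ Subgroup.centralizer ((⁅V, A⁆ : Subgroup G) : Set G))⁆ ≠ ⊥) := by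
  classical
  obtain ⟨hAel, hAmax⟩ := hA
  have hVc : ∀ x ∈ V, ∀ y ∈ V, Commute x y := fun x hx y hy =>
    congrArg Subtype.val (hV.1.is_comm.comm (⟨x, hx⟩ : ↥V) ⟨y, hy⟩)
  have hAc : ∀ x ∈ A, ∀ y ∈ A, Commute x y := fun x hx y hy =>
    congrArg Subtype.val (hAel.1.is_comm.comm (⟨x, hx⟩ : ↥A) ⟨y, hy⟩)
  have hAV : A ≤ Subgroup.normalizer (V : Set G) := Subgroup.le_normalizer_of_normal
  have hVp : IsPGroup p ↥V := fun v => ⟨1, Subtype.ext (by
    rw [pow_one, SubmonoidClass.coe_pow]; exact hV.2 v v.2)⟩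
  have hel : ∀ B C : Subgroup G, Cfsg.IsElementaryAbelian p B → Cfsg.IsElementaryAbelian p C →
      (∀ x ∈ B, ∀ y ∈ C, Commute x y) → Cfsg.IsElementaryAbelian p (B ⊔ C) := by
    intro B C hB hC hBC
    have hs : B ⊔ C = Subgroup.closure ((B : Set G) ∪ C) := by
      rw [Subgroup.closure_union, Subgroup.closure_eq, Subgroup.closure_eq]
    have hc : IsMulCommutative ↥(B ⊔ C) := by
      rw [hs]
      refine Subgroup.isMulCommutative_closure ?_
      rintro x (hx | hx) y (hy | hy)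
      · exact congrArg Subtype.val (hB.1.is_comm.comm (⟨x, hx⟩ : ↥B) ⟨y, hy⟩)
      · exact hBC x hx y hy
      · exact (hBC y hy x hx).symm
      · exact congrArg Subtype.val (hC.1.is_comm.comm (⟨x, hx⟩ : ↥C) ⟨y, hy⟩)
    refine ⟨hc, fun x hx => ?_⟩
    have hn : C ≤ Subgroup.normalizer (B : Set G) := fun c hc' => Subgroup.centralizer_le_normalizer _
      (Subgroup.mem_centralizer_iff.mpr fun b hb => (hBC b hb c hc').eq)
    obtain ⟨b, hb, c, hc', rfl⟩ := (Subgroup.coe_mul_of_right_le_normalizer_left B C hn).le hx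
    rw [(hBC b hb c hc').mul_pow, hB.2 b hb, hC.2 c hc', one_mul]
  have hsub : ∀ {B : Subgroup G}, B ≤ A → Cfsg.IsElementaryAbelian p B := fun hB =>
    ⟨⟨⟨fun x y => Subtype.ext (hAc x (hB x.2) y (hB y.2)).eq⟩⟩, fun x hx => hAel.2 x (hB hx)⟩
  have hsubV : ∀ {B : Subgroup G}, B ≤ V → Cfsg.IsElementaryAbelian p B := fun hB =>
    ⟨⟨⟨fun x y => Subtype.ext (hVc x (hB x.2) y (hB y.2)).eq⟩⟩, fun x hx => hV.2 x (hB hx)⟩
  set C := CfsgLib.Offender.Timmesfeld.fix V A with hC
  have hCA : C = V ⊓ A := by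
    refine le_antisymm (le_inf inf_le_left fun c hc => ?_) (le_inf inf_le_left (inf_le_right.trans
      fun a ha => Subgroup.mem_centralizer_iff.mpr fun b hb => (hAc b hb a ha).eq))
    have h := hel A C hAel (hsubV inf_le_left)
      (fun x hx y hy => Subgroup.mem_centralizer_iff.mp hy.2 x hx)
    rw [Subgroup.eq_of_le_of_card_ge (le_sup_left : A ≤ A ⊔ C) (hAmax _ h)]
    exact Subgroup.mem_sup_right hc
  have hmax : ∀ B ≤ A, CfsgLib.Offender.Timmesfeld.meas V B ≤ CfsgLib.Offender.Timmesfeld.meas V A := by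
    intro B hB
    set F := CfsgLib.Offender.Timmesfeld.fix V B with hF
    have h := hAmax _ (hel B F (hsub hB) (hsubV inf_le_left)
      fun x hx y hy => Subgroup.mem_centralizer_iff.mp hy.2 x hx)
    have h2 : B ⊓ F ≤ C := by
      rw [hCA]; exact le_inf (inf_le_right.trans inf_le_left) (inf_le_left.trans hB)
    exact (CfsgLib.Offender.Timmesfeld.card_mul_card_le B F).trans
      (Nat.mul_le_mul h (Subgroup.card_le_of_le h2))
  have hab : ⁅A, A⁆ ≤ Subgroup.centralizer (V : Set G) := by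
    rw [Subgroup.commutator_le]
    intro a ha b hb
    rw [commutatorElement_eq_one_iff_mul_comm.mpr (hAc a ha b hb).eq]
    exact one_mem _
  have hap : ∀ a ∈ A, a ^ p ∈ Subgroup.centralizer (V : Set G) := fun a ha => by
    rw [hAel.2 a ha]; exact one_mem _
  obtain ⟨h1, h2⟩ := CfsgLib.Offender.Timmesfeld.replacement hVc hAV hab hmax (le_refl V)
  set W := ⁅V, A⁆ with hW
  set B := A ⊓ Subgroup.centralizer (W : Set G) with hB
  have hWV : W ≤ V := Subgroup.commutator_le_left V A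
  have hWB : ∀ x ∈ W, ∀ y ∈ B, Commute x y := fun x hx y hy =>
    Subgroup.mem_centralizer_iff.mp hy.2 x hx
  have hS : Cfsg.IsElementaryAbelian p (W ⊔ B) := hel W B (hsubV hWV) (hsub inf_le_left) hWB
  have hge : Nat.card ↥A ≤ Nat.card ↥(W ⊔ B) := by
    -- compare cardinalities
    have hCB : C ≤ B := by
      rw [hCA]
      exact le_inf inf_le_right fun z hz => Subgroup.mem_centralizer_iff.mpr fun w hw => (hVc w (hWV hw) z hz.1).eq
    have e1 := CfsgLib.Coprime.relIndex_mul_card_inf C B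
    rw [inf_eq_left.mpr hCB] at e1
    have e2 := CfsgLib.Coprime.relIndex_mul_card_inf (W ⊔ C) (W ⊔ B)
    rw [inf_eq_left.mpr (sup_le_sup_left hCB W)] at e2
    have e3 : C.relIndex B ≤ (W ⊔ C).relIndex (W ⊔ B) := by
      refine le_trans ?_ (Subgroup.relIndex_le_of_le_right le_sup_right Subgroup.index_ne_zero_of_finite)
      have e4 : (W ⊔ C) ⊓ B ≤ C := by
        rw [hCA]
        exact le_inf (inf_le_left.trans (sup_le hWV inf_le_left)) (inf_le_right.trans inf_le_left)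
      rw [← Subgroup.inf_relIndex_right C B, ← Subgroup.inf_relIndex_right (W ⊔ C) B]
      exact Subgroup.relIndex_le_of_le_left (le_inf e4 inf_le_right) Subgroup.index_ne_zero_of_finite
    have h3 : Nat.card ↥B * Nat.card ↥(W ⊔ C) = Nat.card ↥A * Nat.card ↥C := by
      have h4 : Nat.card ↥B * Nat.card ↥(CfsgLib.Offender.Timmesfeld.fix V B) =
          Nat.card ↥A * Nat.card ↥C := h1
      rwa [h2] at h4
    refine Nat.le_of_mul_le_mul_right ?_ (Nat.card_pos (α := ↥C))
    calc Nat.card ↥A * Nat.card ↥C = C.relIndex B * Nat.card ↥(W ⊔ C) * Nat.card ↥C := by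
          rw [← h3, ← e1]; ring
      _ ≤ (W ⊔ C).relIndex (W ⊔ B) * Nat.card ↥(W ⊔ C) * Nat.card ↥C :=
          Nat.mul_le_mul_right _ (Nat.mul_le_mul_right _ e3)
      _ = _ := by rw [e2]
  refine ⟨⟨hS, fun D hD => (hAmax D hD).trans hge⟩, ?_, fun hne h => ?_⟩
  · have hVS : ⁅V, W ⊔ B⁆ ≤ W := by
      rw [Subgroup.commutator_le]
      intro v hv s hs
      have hn : B ≤ Subgroup.normalizer (W : Set G) :=
        inf_le_right.trans (Subgroup.centralizer_le_normalizer _)
      obtain ⟨w, hw, b, hb, rfl⟩ := (Subgroup.coe_mul_of_right_le_normalizer_left W B hn).le hs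
      have h5 : ⁅v, b⁆ ∈ W := Subgroup.commutator_mem_commutator hv (Subgroup.mem_inf.mp hb).1
      have h6 := (hVc v hv w (hWV hw)).eq
      have h7 : ⁅v, w * b⁆ = w * ⁅v, b⁆ * w⁻¹ := by
        rw [commutatorElement_def, commutatorElement_def, mul_inv_rev, ← mul_assoc v w b, h6]; group
      rw [h7]
      exact mul_mem (mul_mem hw h5) (inv_mem hw)
    refine le_bot_iff.mp ((Subgroup.commutator_mono hVS le_rfl).trans (le_of_eq ?_))
    rw [Subgroup.commutator_eq_bot_iff_le_centralizer, Subgroup.le_centralizer_iff]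
    refine sup_le (fun w hw => Subgroup.mem_centralizer_iff.mpr fun u hu => (hVc u (hWV hu) w (hWV hw)).eq) inf_le_right
  · exact CfsgLib.Offender.Timmesfeld.commutator_ne_bot hVc hAV hab hVp hap hmax le_rfl hne
      (le_bot_iff.mp ((Subgroup.commutator_mono le_rfl le_sup_right).trans h.le))

end Cfsg.Agent.S0607
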