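import Cfsg.Statements.S0608
import Cfsg.Agent.Lib.Transfer.ThompsonBasics
import Cfsg.Agent.Lib.Transfer.Sylow
-- import your own Cfsg.Agent.* helpers here

set_option autoImplicit false
open Cfsg CfsgLib

namespace Cfsg.Agent.S0608

/-- With trivial p'-core, Thompson factorizability is equivalent to J(G) centralizing the subgroup generated by all Ω₁(Z(S)), S Sylow. -/
theorem result {G : Type*} [Group G] [Finite G] {p : ℕ} [Fact p.Prime] (hO : Cfsg.pPrimeCore p G = ⊥) : Cfsg.IsThompsonFactorizable p G ↔ Cfsg.thompsonSubgroup p G ≤ Subgroup.centralizer ((⨆ S : Sylow p G, Cfsg.omegaOne p (((S : Subgroup G)) ⊓ Subgroup.centralizer ((S : Subgroup G) : Set G)) : Subgroup G) : Set G) := by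
  have hJ : Cfsg.thompsonSubgroup p G = ⨆ S : Sylow p G, Transfer.thompsonJ p (S : Subgroup G) := by
    rw [← Transfer.thompsonJ_top_eq_iSup]
    unfold Cfsg.thompsonSubgroup Transfer.thompsonJ
    congr 1
    ext A
    simp [Cfsg.maxElementaryAbelianSubgroups, Transfer.maxAbExp, Cfsg.IsElementaryAbelian, Transfer.IsAbExp]
  set Z : Sylow p G → Subgroup G := fun S =>
    Cfsg.omegaOne p ((S : Subgroup G) ⊓ Subgroup.centralizer ((S : Subgroup G) : Set G)) with hZ
  have hZle : ∀ S, Z S ≤ Subgroup.centralizer ((S : Subgroup G) : Set G) := fun S =>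
    (Subgroup.closure_le _).mpr fun x hx => hx.1.2
  have hmap : ∀ (g : G) (S : Sylow p G), Z (g • S) = (Z S).map (MulAut.conj g).toMonoidHom := by
    have hle : ∀ (g : G) (S : Sylow p G), (Z S).map (MulAut.conj g).toMonoidHom ≤ Z (g • S) := by
      intro g S
      rw [Subgroup.map_le_iff_le_comap]
      refine (Subgroup.closure_le _).mpr ?_
      rintro x ⟨⟨hxS, hxC⟩, hxp⟩
      refine Subgroup.subset_closure ⟨⟨⟨x, hxS, rfl⟩, ?_⟩, ?_⟩
      · rintro _ ⟨y, hy, rfl⟩
        show MulAut.conj g y * MulAut.conj g x = MulAut.conj g x * MulAut.conj g y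
        rw [← map_mul, ← map_mul, hxC y hy]
      · show (MulAut.conj g x) ^ p = 1
        rw [← map_pow, hxp, map_one]
    intro g S
    refine le_antisymm ?_ (hle g S)
    intro x hx
    have h := hle g⁻¹ (g • S) (Subgroup.mem_map_of_mem _ hx)
    rw [inv_smul_smul] at h
    refine ⟨_, h, ?_⟩
    show g * (g⁻¹ * x * g⁻¹⁻¹) * g⁻¹ = x
    group
  constructor
  · intro hf
    rw [hJ, Subgroup.le_centralizer_iff]
    refine iSup_le fun T => ?_
    rw [← Subgroup.le_centralizer_iff]
    refine iSup_le fun S => ?_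
    obtain ⟨g, rfl⟩ := MulAction.exists_smul_eq G S T
    obtain ⟨x, hx, c, hc, n, hn, hgx⟩ := hf S g⁻¹
    rw [hO, Subgroup.mem_bot] at hx
    rw [hx, one_mul] at hgx
    intro j hj z hz
    rw [Transfer.thompsonSubgroupOf_eq] at hn
    rw [SetLike.mem_coe] at hz
    change z ∈ Z (g • S) at hz
    rw [hmap] at hz
    obtain ⟨v, hv, rfl⟩ := hz
    have hjn : n * j * n⁻¹ ∈ (S : Subgroup G) :=
      Transfer.thompsonJ_le p _ ((Subgroup.mem_normalizer_iff.mp hn j).mp hj)
    have h1 : n * j * n⁻¹ * v = v * (n * j * n⁻¹) := hZle S hv _ hjn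
    have h2 : v * c = c * v := hc v hv
    have hg : g = n⁻¹ * c⁻¹ := by rw [← mul_inv_rev, ← hgx, inv_inv]
    show g * v * g⁻¹ * j = j * (g * v * g⁻¹)
    have h3 : g * v * g⁻¹ = n⁻¹ * v * n := by
      calc g * v * g⁻¹ = n⁻¹ * (c⁻¹ * (v * c)) * n := by rw [hg]; group
        _ = n⁻¹ * v * n := by rw [h2, inv_mul_cancel_left]
    rw [h3]
    calc n⁻¹ * v * n * j = n⁻¹ * (v * (n * j * n⁻¹)) * n := by group
      _ = n⁻¹ * (n * j * n⁻¹ * v) * n := by rw [h1]
      _ = j * (n⁻¹ * v * n) := by group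
  · intro h S g
    set V := ⨆ S : Sylow p G, Z S with hV
    have hVn : V.Normal := by
      refine ⟨fun v hv a => ?_⟩
      have h1 : V.map (MulAut.conj a).toMonoidHom ≤ V := by
        rw [hV, Subgroup.map_iSup]
        exact iSup_le fun S => hmap a S ▸ le_iSup Z (a • S)
      exact h1 (Subgroup.mem_map_of_mem _ hv)
    set C := Subgroup.centralizer (V : Set G) with hC
    have hJC : Transfer.thompsonJ p (S : Subgroup G) ≤ (S : Subgroup G) ⊓ C :=
      le_inf (Transfer.thompsonJ_le p _)
        ((le_iSup (fun S : Sylow p G => Transfer.thompsonJ p (S : Subgroup G)) S).trans (hJ.ge.trans h))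
    set U := (S : Subgroup G) ⊓ C with hU
    have hUJ : Transfer.thompsonJ p U = Transfer.thompsonJ p (S : Subgroup G) :=
      Transfer.thompsonJ_eq_of_le hJC inf_le_left
    let P : Sylow p C := (S.2.comap_of_injective C.subtype C.subtype_injective).toSylow
      (fun hd => S.not_dvd_index (hd.trans (Transfer.relIndex_dvd_index_of_normal _ C)))
    have htop := Sylow.normalizer_sup_eq_top P
    have hPU : (P : Subgroup C).map C.subtype = U := Subgroup.subgroupOf_map_subtype _ _
    rw [hPU] at htop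
    have hg : g ∈ ((C ⊔ Subgroup.normalizer (U : Set G) : Subgroup G) : Set G) := by
      rw [sup_comm, htop]; trivial
    rw [Subgroup.normal_mul] at hg
    obtain ⟨c, hc, n, hn, rfl⟩ := hg
    refine ⟨1, one_mem _, c, Subgroup.centralizer_le (le_iSup Z S) hc, n, ?_, by rw [one_mul]⟩
    rw [Transfer.thompsonSubgroupOf_eq, ← hUJ]
    exact Transfer.normalizer_le_normalizer_thompsonJ p U hn

end Cfsg.Agent.S0608
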