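import Cfsg.Statements.S0609
import Cfsg.Agent.Lib.ZJ.Centers
import Cfsg.Agent.Lib.Layer.PComponent

set_option autoImplicit false
open Cfsg

namespace Cfsg.Agent.S0609

/-- Thompson factorizability passes to and from the quotient by the largest normal subgroup of order prime to p. -/
theorem result {G : Type*} [Group G] [Finite G] {p : ℕ} [Fact p.Prime] : Cfsg.IsThompsonFactorizable p G ↔ Cfsg.IsThompsonFactorizable p (G ⧸ Cfsg.pPrimeCore p G) := by
  haveI := CfsgLib.Transfer.pPrimeCore_normal p G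
  set O := Cfsg.pPrimeCore p G with hO
  set f := QuotientGroup.mk' O with hf
  have hsurj : Function.Surjective f := QuotientGroup.mk'_surjective _
  have hK : (Nat.card f.ker).Coprime p := by
    rw [hf, QuotientGroup.ker_mk']; exact CfsgLib.Transfer.pPrimeCore_coprime p
  have hbot : Cfsg.pPrimeCore p (G ⧸ O) = ⊥ := CfsgLib.Layer.pPrimeCore_quotient_eq_bot p
  have hinj : ∀ S : Sylow p G, Set.InjOn f ((S : Subgroup G) : Set G) := fun S a ha b hb h =>
    inv_mul_eq_one.mp (CfsgLib.PSolvable.eq_one_of_mem_of_mem S.2 hK (mul_mem (inv_mem ha) hb)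
      (by rw [MonoidHom.mem_ker, map_mul, map_inv, h, inv_mul_cancel]))
  have hJ : ∀ S : Sylow p G, (Cfsg.thompsonSubgroupOf p (S : Subgroup G)).map f =
      Cfsg.thompsonSubgroupOf p ((S.mapSurjective hsurj : Sylow p (G ⧸ O)) : Subgroup (G ⧸ O)) := by
    intro S
    rw [Sylow.coe_mapSurjective, CfsgLib.Transfer.thompsonSubgroupOf_eq,
      CfsgLib.Transfer.thompsonSubgroupOf_eq, CfsgLib.Transfer.map_thompsonJ p f (hinj S)]
  have hZ : ∀ S : Sylow p G, (Cfsg.omegaOne p ((S : Subgroup G) ⊓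
      Subgroup.centralizer ((S : Subgroup G) : Set G))).map f =
      Cfsg.omegaOne p (((S.mapSurjective hsurj : Sylow p (G ⧸ O)) : Subgroup (G ⧸ O)) ⊓
        Subgroup.centralizer (((S.mapSurjective hsurj : Sylow p (G ⧸ O)) : Subgroup (G ⧸ O)) : Set (G ⧸ O))) := by
    intro S
    rw [Sylow.coe_mapSurjective, ← CfsgLib.Transfer.map_centerOf f (hinj S),
      ← CfsgLib.ZJ.map_omegaOne p f ((hinj S).mono inf_le_left)]
  constructor
  · intro hF T y
    obtain ⟨S, rfl⟩ := Sylow.mapSurjective_surjective hsurj p T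
    obtain ⟨g, rfl⟩ := hsurj y
    obtain ⟨x, hx, c, hc, n, hn, rfl⟩ := hF S g
    refine ⟨1, one_mem _, f c, ?_, f n, ?_, ?_⟩
    · rw [← hZ]
      rintro _ ⟨z, hz, rfl⟩
      rw [← map_mul, ← map_mul, hc z hz]
    · rw [← hJ]
      exact Subgroup.le_normalizer_map f ⟨n, hn, rfl⟩
    · rw [one_mul, map_mul, map_mul, show f x = 1 from (QuotientGroup.eq_one_iff x).mpr hx, one_mul]
  · intro hF S g
    obtain ⟨x, hx, c, hc, n, hn, hg⟩ := hF (S.mapSurjective hsurj) (f g)
    rw [hbot, Subgroup.mem_bot] at hx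
    rw [hx, one_mul] at hg
    rw [← hJ, ← CfsgLib.PSolvable.map_normalizer_eq hsurj hK
      (S.2.to_le ((CfsgLib.Transfer.thompsonSubgroupOf_eq p (S : Subgroup G)).le.trans
        (CfsgLib.Transfer.thompsonJ_le p _)))] at hn
    obtain ⟨n₀, hn₀, rfl⟩ := hn
    obtain ⟨c₀, rfl⟩ := hsurj c
    rw [← hZ] at hc
    obtain ⟨c₁, hc₁, hc₁f⟩ := CfsgLib.PSolvable.exists_mem_centralizer_of_map hK
      (S.2.to_le ((CfsgLib.ZJ.omegaOne_le p _).trans inf_le_left)) hc
    refine ⟨g * (c₁ * n₀)⁻¹, ?_, c₁, hc₁, n₀, hn₀, by group⟩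
    rw [← QuotientGroup.eq_one_iff, ← QuotientGroup.mk'_apply O, ← hf, map_mul, map_inv, map_mul,
      hc₁f, ← hg, mul_inv_cancel]

end Cfsg.Agent.S0609
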