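import Cfsg.Statements.S0613
import Cfsg.Agent.Lib.FFPair.Structure

set_option autoImplicit false
open Cfsg

namespace Cfsg.Agent.S0613

open Cfsg.Agent.FFPair
open scoped MatrixGroups commutatorElement


/-- A minimal nontrivially-acting best offender and a conjugate of it under a non-centralizing element of the p'-core generate SL(2, p) acting naturally on a plane, and p is 2 or 3. -/
theorem result {G : Type*} [Group G] [Finite G] {p : ℕ} [Fact p.Prime] (V H : Subgroup G) (hV : Cfsg.IsElementaryAbelian p V) (hHV : H ≤ Subgroup.normalizer (V : Set G)) (hf : H ⊓ Subgroup.centralizer (V : Set G) = ⊥) (hS1 : Subgroup.centralizer (Cfsg.pPrimeCore p ↥H : Set ↥H) ≤ Cfsg.pPrimeCore p ↥H) (hS3 : H = ⨆ A : {A : Subgroup G // A ≤ H ∧ Cfsg.IsBestOffenderOn p V A}, (A : Subgroup G)) (hH1 : H ≠ ⊥) (A : Subgroup G) (hAH : A ≤ H) (hA : Cfsg.IsBestOffenderOn p V A) (hAV : ⁅V, A⁆ ≠ ⊥) (hmin : ∀ B : Subgroup G, B ≤ A → Cfsg.IsBestOffenderOn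 p V B → ⁅V, B⁆ ≠ ⊥ → B = A) (x : G) (hx : x ∈ ((Cfsg.pPrimeCore p ↥H).map H.subtype)) (hxA : x ∉ Subgroup.centralizer (A : Set G)) : (p = 2 ∨ p = 3) ∧ Nat.card ↥(⁅V, A ⊔ A.map (MulAut.conj x).toMonoidHom⁆) = p ^ 2 ∧ (A ⊔ A.map (MulAut.conj x).toMonoidHom) ⊓ Subgroup.centralizer ((⁅V, A ⊔ A.map (MulAut.conj x).toMonoidHom⁆ : Subgroup G) : Set G) = ⊥ ∧ Nonempty (↥(A ⊔ A.map (MulAut.conj x).toMonoidHom) ≃* Matrix.SpecialLinearGroup (Fin 2) (ZMod p)) := by
  have hS := setting_of_pPrimeCore hV hHV hf hS1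
  have hT := Tv.of_minimal hS hAH hA hAV hmin
  obtain ⟨k, hk, rfl⟩ := hx
  set K := (Cfsg.pPrimeCore p ↥H).map H.subtype with hK
  have hkK : (k : G) ∈ K := ⟨k, hk, rfl⟩
  have hne : A.map (MulAut.conj (k : G)).toMonoidHom ≠ A := by
    intro h
    refine hxA (Subgroup.mem_centralizer_iff.2 fun a ha => ?_)
    have h1 : ⁅(k : G), a⁆ ∈ A ⊓ K := by
      refine Subgroup.mem_inf.2 ⟨?_, (comm_le hS hT) (Subgroup.commutator_mem_commutator hkK ha)⟩
      rw [commutatorElement_def]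
      refine mul_mem ?_ (inv_mem ha)
      have h2 : (k : G) * a * (k : G)⁻¹ ∈ A.map (MulAut.conj (k : G)).toMonoidHom := ⟨a, ha, rfl⟩
      rwa [h] at h2
    rw [hS.inf_eq_bot hT.isPGroup, Subgroup.mem_bot, commutatorElement_eq_one_iff_mul_comm] at h1
    exact h1.symm
  have P := pairData hS hT hT (hT.conj hS (hS.le hkK)) le_sup_right
    (map_conj_le_sup (le_sup_left (b := A) hkK)) (Ne.symm hne)
  refine ⟨P.small, ?_, ?_, P.sl2⟩
  · simp only [Subgroup.coe_subtype]; rw [P.commutator]; exact P.cardW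
  · simp only [Subgroup.coe_subtype]; rw [P.commutator]; exact P.faithful
end Cfsg.Agent.S0613
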