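import Cfsg.Statements.S0614
import Cfsg.Agent.Lib.FFPair.Structure

set_option autoImplicit false
open Cfsg

namespace Cfsg.Agent.S0614

open Cfsg.Agent.FFPair
open scoped MatrixGroups


/-- The commutator of the p'-core with a minimal nontrivially-acting best offender is a 3-group (when p = 2) or a non-abelian 2-group (when p = 3). -/
theorem result {G : Type*} [Group G] [Finite G] {p : ℕ} [Fact p.Prime] (V H : Subgroup G) (hV : Cfsg.IsElementaryAbelian p V) (hHV : H ≤ Subgroup.normalizer (V : Set G)) (hf : H ⊓ Subgroup.centralizer (V : Set G) = ⊥) (hS1 : Subgroup.centralizer (Cfsg.pPrimeCore p ↥H : Set ↥H) ≤ Cfsg.pPrimeCore p ↥H) (hS3 : H = ⨆ A : {A : Subgroup G // A ≤ H ∧ Cfsg.IsBestOffenderOn p V A}, (A : Subgroup G)) (hH1 : H ≠ ⊥) (A : Subgroup G) (hAH : A ≤ H) (hA : Cfsg.IsBestOffenderOn p V A) (hAV : ⁅V, A⁆ ≠ ⊥) (hmin : ∀ B : Subgroup G, B ≤ A → Cfsg.IsBestOffenderOn p V B → ⁅V, B⁆ ≠ ⊥ → B = A) : (p = 2 ∧ IsPGroup 3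 ↥(⁅((Cfsg.pPrimeCore p ↥H).map H.subtype), A⁆)) ∨ (p = 3 ∧ IsPGroup 2 ↥(⁅((Cfsg.pPrimeCore p ↥H).map H.subtype), A⁆) ∧ ¬ IsMulCommutative ↥(⁅((Cfsg.pPrimeCore p ↥H).map H.subtype), A⁆)) := by
  have hS := setting_of_pPrimeCore hV hHV hf hS1
  have hT := Tv.of_minimal hS hAH hA hAV hmin
  set K := (Cfsg.pPrimeCore p ↥H).map H.subtype with hK
  have D := compData hS hT
  obtain ⟨φ⟩ := D.sl2
  have hc := D.card
  rw [Nat.card_congr φ.toEquiv, CfsgLib.SL2.card_SL_two', Nat.card_zmod] at hc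
  rcases D.small with h | h
  · left
    refine ⟨h, IsPGroup.of_card (n := 1) ?_⟩
    subst h
    omega
  · right
    subst h
    have h8 : Nat.card ↥⁅K, A⁆ = 8 := by omega
    refine ⟨rfl, IsPGroup.of_card (n := 3) (by rw [h8]; norm_num), fun hab => ?_⟩
    have hle : ⁅K, A⁆ ≤ comp K A := le_sup_left
    set X := (⁅K, A⁆.subgroupOf (comp K A)).map φ.toMonoidHom with hX
    have hX8 : Nat.card X = 8 := by
      rw [hX, Subgroup.card_map_of_injective φ.injective,
        Nat.card_congr (Subgroup.subgroupOfEquivOfLe hle).toEquiv, h8]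
    haveI := Fact.mk Nat.prime_two
    obtain ⟨T, hT'⟩ := (IsPGroup.of_card (n := 3) (by rw [hX8]; norm_num) :
      IsPGroup 2 X).exists_le_sylow
    have hTc : Nat.card (T : Subgroup SL(2, ZMod 3)) ∣ 24 := by
      refine (Subgroup.card_subgroup_dvd_card _).trans ?_
      rw [CfsgLib.SL2.card_SL_two', Nat.card_zmod]
    have hTeq : X = (T : Subgroup SL(2, ZMod 3)) := by
      refine Subgroup.eq_of_le_of_card_ge hT' ?_
      obtain ⟨n, hn⟩ := IsPGroup.iff_card.1 T.2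
      rw [hn] at hTc ⊢
      rw [hX8]
      by_contra h'
      push Not at h'
      have h'' : 2 ^ 4 ≤ 2 ^ n := Nat.pow_le_pow_right (by omega) (by
        by_contra hn4
        push Not at hn4
        have := Nat.pow_le_pow_right (show 2 > 0 by omega) (show n ≤ 3 by omega)
        omega)
      have : 2 ^ 4 ∣ 24 := (pow_dvd_pow 2 (show 4 ≤ n from
        (Nat.pow_le_pow_iff_right (by omega)).1 h'')).trans hTc
      omega
    refine CfsgLib.Quadratic.not_isMulCommutative_sylow_two_zmod (p := 3) (by norm_num) T ?_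
    haveI := hab
    refine ⟨⟨?_⟩⟩
    rintro ⟨x, hx⟩ ⟨y, hy⟩
    rw [← hTeq] at hx hy
    obtain ⟨a, ha, rfl⟩ := hx
    obtain ⟨b, hb, rfl⟩ := hy
    refine Subtype.ext ?_
    show φ.toMonoidHom a * φ.toMonoidHom b = φ.toMonoidHom b * φ.toMonoidHom a
    rw [← map_mul, ← map_mul]
    refine congrArg _ ?_
    apply Subtype.ext
    exact congrArg (fun z : ↥⁅K, A⁆ => (z : G)) (mul_comm' (⟨(a : G), ha⟩ : ↥⁅K, A⁆) ⟨b, hb⟩)
end Cfsg.Agent.S0614
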