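import Cfsg.Statements.S0615
import Cfsg.Agent.Lib.FFPair.SubnormalPair

set_option autoImplicit false
open Cfsg

namespace Cfsg.Agent.S0615

open Cfsg.Agent.FFPair
open scoped commutatorElement

/-- Two subnormal subgroups acting irreducibly on their incomparable commutator modules, in a faithful group with trivial largest normal p-subgroup, generate their direct product, and the commutator module splits accordingly. -/
theorem result {G : Type*} [Group G] [Finite G] {p : ℕ} [Fact p.Prime] (V E E₁ E₂ : Subgroup G) (hV : Cfsg.IsElementaryAbelian p V) (hEV : E ≤ Subgroup.normalizer (V : Set G)) (hf : E ⊓ Subgroup.centralizer (V : Set G) = ⊥) (hgen : E = E₁ ⊔ E₂) (hs₁ : (E₁.subgroupOf E).IsSubnormal) (hs₂ : (E₂.subgroupOf E).IsSubnormal) (hOp : Cfsg.pCore p ↥E = ⊥) (hirr₁ : (∀ U : Subgroup G, U ≤ ⁅V, E₁⁆ → E₁ ≤ Subgroup.normalizer (U : Set G) → U = ⊥ ∨ U = ⁅V,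 E₁⁆)) (hirr₂ : (∀ U : Subgroup G, U ≤ ⁅V, E₂⁆ → E₂ ≤ Subgroup.normalizer (U : Set G) → U = ⊥ ∨ U = ⁅V, E₂⁆)) (h12 : ¬ ⁅V, E₁⁆ ≤ ⁅V, E₂⁆) (h21 : ¬ ⁅V, E₂⁆ ≤ ⁅V, E₁⁆) (hc₁ : 2 < Nat.card E₁) (hc₂ : 2 < Nat.card E₂) : ⁅E₁, E₂⁆ = ⊥ ∧ E₁ ⊓ E₂ = ⊥ ∧ ⁅V, E₁⁆ ⊓ ⁅V, E₂⁆ = ⊥ ∧ ⁅V, E⁆ = ⁅V, E₁⁆ ⊔ ⁅V, E₂⁆ := by
  have h₁ : E₁ ≤ E := hgen ▸ le_sup_left
  have h₂ : E₂ ≤ E := hgen ▸ le_sup_right
  obtain ⟨hcomm, hint⟩ := pair_aux hV (Nat.card E) E rfl hEV hf hOp E₁ E₂ h₁ h₂ hs₁ hs₂ hirr₁ hirr₂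
    h12 h21 hc₁ hc₂
  have hn : E₁ ≤ Subgroup.normalizer ((⁅V, E₂⁆ : Subgroup G) : Set G) :=
    CfsgLib.Coprime.le_normalizer_commutator (h₁.trans hEV)
      ((Subgroup.commutator_eq_bot_iff_le_centralizer.1 hcomm).trans
        (Subgroup.centralizer_le_normalizer _))
  have hn' : E₂ ≤ Subgroup.normalizer ((⁅V, E₁⁆ : Subgroup G) : Set G) :=
    CfsgLib.Coprime.le_normalizer_commutator (h₂.trans hEV)
      ((Subgroup.commutator_eq_bot_iff_le_centralizer.1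
        (by rwa [Subgroup.commutator_comm] at hcomm)).trans (Subgroup.centralizer_le_normalizer _))
  refine ⟨hcomm, (Subgroup.eq_bot_iff_forall _).2 fun x hx => ?_, hint, ?_⟩
  · refine (Subgroup.eq_bot_iff_forall _).1 hf x ⟨h₁ hx.1, fun v hv => ?_⟩
    have h : ⁅v, x⁆ ∈ ⁅V, E₁⁆ ⊓ ⁅V, E₂⁆ := Subgroup.mem_inf.2
      ⟨Subgroup.commutator_mem_commutator hv hx.1, Subgroup.commutator_mem_commutator hv hx.2⟩
    rw [hint, Subgroup.mem_bot, commutatorElement_eq_one_iff_mul_comm] at h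
    exact h
  · refine le_antisymm ?_ (sup_le (Subgroup.commutator_mono le_rfl h₁)
      (Subgroup.commutator_mono le_rfl h₂))
    conv_lhs => rw [hgen]
    exact commutator_le_sup (sup_le (modV_le hEV h₁) (modV_le hEV h₂)) le_sup_left le_sup_right
end Cfsg.Agent.S0615
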