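import Cfsg.Statements.S0617
import Cfsg.Agent.Lib.FFPair.Structure

set_option autoImplicit false
open Cfsg

namespace Cfsg.Agent.S0617

open Cfsg.Agent.FFPair


/-- Structure Theorem for failure of factorization: a faithful group generated by best offenders, with self-centralizing p'-core, is a direct product of copies of SL(2, p) (p = 2 or 3), each acting on its own plane in V, which is the direct product of these planes and C_V(H). -/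
theorem result {G : Type*} [Group G] [Finite G] {p : ℕ} [Fact p.Prime] (V H : Subgroup G) (hV : Cfsg.IsElementaryAbelian p V) (hHV : H ≤ Subgroup.normalizer (V : Set G)) (hf : H ⊓ Subgroup.centralizer (V : Set G) = ⊥) (hS1 : Subgroup.centralizer (Cfsg.pPrimeCore p ↥H : Set ↥H) ≤ Cfsg.pPrimeCore p ↥H) (hS3 : H = ⨆ A : {A : Subgroup G // A ≤ H ∧ Cfsg.IsBestOffenderOn p V A}, (A : Subgroup G)) (hH1 : H ≠ ⊥) : (p = 2 ∨ p = 3) ∧ (∀ E : {E : Subgroup G // ∃ A : Subgroup G, A ≤ H ∧ Cfsg.IsBestOffenderOn p V A ∧ ⁅V, A⁆ ≠ ⊥ ∧ (∀ B : Subgroup G, B ≤ A → Cfsg.IsBestOffenderOn p V B → ⁅V, B⁆ ≠ ⊥ → B = A) ∧ E = ⁅((Cfsg.pPrimeCore p ↥H).map H.subtype), A⁆ ⊔ A}, H ≤ Subgroup.normalizer ((E : Subgroup G) : Set G) ∧ Nonempty (↥(E : Subgroup G) ≃* Matrix.SpecialLinearGroup (Fin 2) (ZMod p)) ∧ Nat.card ↥(⁅V, (E : Subgroup G)⁆) = p ^ 2) ∧ iSupIndep (fun E : {E : Subgroup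 G // ∃ A : Subgroup G, A ≤ H ∧ Cfsg.IsBestOffenderOn p V A ∧ ⁅V, A⁆ ≠ ⊥ ∧ (∀ B : Subgroup G, B ≤ A → Cfsg.IsBestOffenderOn p V B → ⁅V, B⁆ ≠ ⊥ → B = A) ∧ E = ⁅((Cfsg.pPrimeCore p ↥H).map H.subtype), A⁆ ⊔ A} => (E : Subgroup G)) ∧ (⨆ E : {E : Subgroup G // ∃ A : Subgroup G, A ≤ H ∧ Cfsg.IsBestOffenderOn p V A ∧ ⁅V, A⁆ ≠ ⊥ ∧ (∀ B : Subgroup G, B ≤ A → Cfsg.IsBestOffenderOn p V B → ⁅V, B⁆ ≠ ⊥ → B = A) ∧ E = ⁅((Cfsg.pPrimeCore p ↥H).map H.subtype), A⁆ ⊔ A}, (E : Subgroup G)) = H ∧ iSupIndep (fun o : Option {E : Subgroup G // ∃ A : Subgroup G, A ≤ H ∧ Cfsg.IsBestOffenderOn p V A ∧ ⁅V, A⁆ ≠ ⊥ ∧ (∀ B : Subgroup G, B ≤ A → Cfsg.IsBestOffenderOn p V B → ⁅V, B⁆ ≠ ⊥ → B = A) ∧ E = ⁅((Cfsg.pPrimeCore p ↥H).map H.subtype), A⁆ ⊔ A} => o.elim (V ⊓ Subgroup.centralizer (H : Set G)) (fun E => ⁅V, (E : Subgroup G)⁆)) ∧ (V ⊓ Subgroup.centralizer (H : Set G)) ⊔ (⨆ E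 : {E : Subgroup G // ∃ A : Subgroup G, A ≤ H ∧ Cfsg.IsBestOffenderOn p V A ∧ ⁅V, A⁆ ≠ ⊥ ∧ (∀ B : Subgroup G, B ≤ A → Cfsg.IsBestOffenderOn p V B → ⁅V, B⁆ ≠ ⊥ → B = A) ∧ E = ⁅((Cfsg.pPrimeCore p ↥H).map H.subtype), A⁆ ⊔ A}, ⁅V, (E : Subgroup G)⁆) = V := by
  have hS := setting_of_pPrimeCore hV hHV hf hS1
  set K := (Cfsg.pPrimeCore p ↥H).map H.subtype with hK
  obtain ⟨A₀, hA₀⟩ : ∃ A, Tv p V H A := by
    by_contra h
    push Not at h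
    apply hH1
    rw [le_iSup_tv hS hS3, iSup_eq_bot]
    exact fun A => absurd A.2 (h A.1)
  have hE : ∀ E : {E : Subgroup G // ∃ A : Subgroup G, A ≤ H ∧ Cfsg.IsBestOffenderOn p V A ∧ ⁅V, A⁆ ≠ ⊥ ∧ (∀ B : Subgroup G, B ≤ A → Cfsg.IsBestOffenderOn p V B → ⁅V, B⁆ ≠ ⊥ → B = A) ∧ E = ⁅((Cfsg.pPrimeCore p ↥H).map H.subtype), A⁆ ⊔ A},
      ∃ A, Tv p V H A ∧ (E : Subgroup G) = comp K A := fun E => by
    obtain ⟨A, h1, h2, h3, h4, h5⟩ := E.2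
    exact ⟨A, Tv.of_minimal hS h1 h2 h3 h4, h5⟩
  obtain ⟨h1, h2, h3, h4, h5⟩ := decomposition hS hS3 (Subtype.val) Subtype.val_injective hE
    (fun A hA => ⟨⟨comp K A, A, hA.le, hA.off, (Tv.minimal hS hA).1, (Tv.minimal hS hA).2, rfl⟩, rfl⟩)
  refine ⟨(compData hS hA₀).small, fun E => ?_, h1, h2, fun o => ?_, h5⟩
  · obtain ⟨A, hA, hEA⟩ := hE E
    have D := compData hS hA
    rw [hEA]
    exact ⟨normalizes_comp hS hS3 hA, D.sl2, D.cardW⟩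
  · rw [disjoint_iff, eq_bot_iff]
    cases o with
    | none =>
      refine le_trans (inf_le_inf_left _ (iSup₂_le fun o' ho' => ?_)) (le_of_eq h4)
      cases o' with
      | none => exact absurd rfl ho'
      | some F => exact le_iSup (fun E => ⁅V, Subtype.val E⁆) F
    | some E =>
      refine le_trans (inf_le_inf_left _ (iSup₂_le fun o' ho' => ?_)) (le_of_eq (h3 E))
      cases o' with
      | none => exact le_sup_right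
      | some F =>
        exact le_sup_of_le_left (le_iSup₂ (f := fun j (_ : j ≠ E) => ⁅V, Subtype.val j⁆) F
          fun h => ho' (congrArg some h))
end Cfsg.Agent.S0617
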