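import Cfsg.Statements.S0620
import Cfsg.Agent.Lib.FFPair.OperatorThompson

set_option autoImplicit false
open Cfsg

namespace Cfsg.Agent.S0620

open Cfsg.Agent.FFPair

/-- Under coprime action of an elementary abelian q-group X on a p-separable group K with trivial p'-core, K is generated by the normalizer of J(S), the centralizer of Ω₁(Z(S)) and the fixed points of X. -/
theorem result {G : Type*} [Group G] [Finite G] {p : ℕ} [Fact p.Prime] {q : ℕ} [Fact q.Prime] (K X : Subgroup G) (hXK : X ≤ Subgroup.normalizer (K : Set G)) (hX : Cfsg.IsElementaryAbelian q X) (hq : ¬ q ∣ Nat.card K) (hsep : Cfsg.IsPSolvable p ↥K) (hO : Cfsg.pPrimeCore p ↥K = ⊥) (S : Sylow p ↥K) : (Subgroup.normalizer (Cfsg.thompsonSubgroupOf p (S : Subgroup ↥K) : Set ↥K) ⊔ Subgroup.centralizer (Cfsg.omegaOne p ((S : Subgroup ↥K) ⊓ Subgroup.centralizer ((S : Subgroup ↥K) : Set ↥K)) : Set ↥K) ⊔ (Subgroup.centralizer (X : Set G)).subgroupOf K) = ⊤ := by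
  have hj := Subgroup.inclusion_injective (le_sup_left : K ≤ K ⊔ X)
  haveI : (Subgroup.inclusion (le_sup_left : K ≤ K ⊔ X)).range.Normal := by
    rw [Subgroup.inclusion_range]
    exact Subgroup.normal_subgroupOf_of_le_normalizer (sup_le Subgroup.le_normalizer hXK)
  have hX' : ∀ x ∈ X.subgroupOf (K ⊔ X), x ^ q = 1 := fun x hx => Subtype.ext (hX.2 _ hx)
  have h := sup_fixed_eq_top _ hj hsep hO hX' hq S
  have e : (Subgroup.centralizer (X.subgroupOf (K ⊔ X) : Set ↥(K ⊔ X))).comap
      (Subgroup.inclusion (le_sup_left : K ≤ K ⊔ X)) =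
      (Subgroup.centralizer (X : Set G)).subgroupOf K := by
    ext k
    constructor
    · intro hk x hx
      exact congrArg Subtype.val (hk ⟨x, le_sup_right (a := K) hx⟩ hx)
    · intro hk x hx
      exact Subtype.ext (hk _ hx)
  rw [e] at h
  exact h
end Cfsg.Agent.S0620
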