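import Cfsg.Statements.S0621
import Cfsg.Agent.Lib.FFPair.OperatorThompson
import Cfsg.Agent.S0608

set_option autoImplicit false
open Cfsg

namespace Cfsg.Agent.S0621

open Cfsg.Agent.FFPair

/-- Let K be p-separable with O_p'(K) = 1, normalized by an elementary abelian q-group X for a prime q not dividing the order of K. If the Thompson factorization fails in K, then p is 2 or 3 and the fixed points of X contain a plane W of order p² and a subgroup inducing SL(2, p) on it. -/
theorem result {G : Type*} [Group G] [Finite G] {p : ℕ} [Fact p.Prime] {q : ℕ} [Fact q.Prime] (K X : Subgroup G) (hXK : X ≤ Subgroup.normalizer (K : Set G)) (hX : Cfsg.IsElementaryAbelian q X) (hq : ¬ q ∣ Nat.card K) (hsep : Cfsg.IsPSolvable p ↥K) (hO : Cfsg.pPrimeCore p ↥K = ⊥) (hnf : ¬ Cfsg.IsThompsonFactorizable p ↥K) : (p = 2 ∨ p = 3) ∧ ∃ W D : Subgroup G, W ≤ K ⊓ Subgroup.centralizer (X : Set G) ∧ D ≤ K ⊓ Subgroup.centralizer (X : Set G) ∧ Cfsg.IsElementaryAbelian p W ∧ Nat.card W = p ^ 2 ∧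 D ≤ Subgroup.normalizer (W : Set G) ∧ ∃ hn : ((Subgroup.centralizer (W : Set G)).subgroupOf D).Normal, Nonempty ((↥D ⧸ (Subgroup.centralizer (W : Set G)).subgroupOf D) ≃* Matrix.SpecialLinearGroup (Fin 2) (ZMod p)) := by
  have hj := Subgroup.inclusion_injective (le_sup_left : K ≤ K ⊔ X)
  haveI : (Subgroup.inclusion (le_sup_left : K ≤ K ⊔ X)).range.Normal := by
    rw [Subgroup.inclusion_range]
    exact Subgroup.normal_subgroupOf_of_le_normalizer (sup_le Subgroup.le_normalizer hXK)
  have hX' : ∀ x ∈ X.subgroupOf (K ⊔ X), x ^ q = 1 := fun x hx => Subtype.ext (hX.2 _ hx)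
  set M := K ⊔ X with hM
  obtain ⟨hp23, W, D, hW, hD, hWe, hWc, hDW, Φ, hΦ, hker⟩ := exists_fixed_sl2 _ hj hsep hO hX' hq
    fun h => hnf ((Cfsg.Agent.S0608.result hO).2 h)
  have hinto : ∀ Y : Subgroup M, Y ≤ (Subgroup.inclusion (le_sup_left : K ≤ M)).range ⊓
      Subgroup.centralizer (X.subgroupOf M : Set M) →
      Y.map M.subtype ≤ K ⊓ Subgroup.centralizer (X : Set G) := by
    rintro Y hY _ ⟨y, hy, rfl⟩
    obtain ⟨⟨k, hk⟩, hc⟩ := hY hy
    refine ⟨hk ▸ k.2, fun x hx => ?_⟩
    exact congrArg Subtype.val (hc ⟨x, le_sup_right (a := K) hx⟩ hx)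
  refine ⟨hp23, W.map M.subtype, D.map M.subtype, hinto W hW, hinto D hD, elem_map _ hWe,
    (Subgroup.card_map_of_injective M.subtype_injective).trans hWc,
    (Subgroup.map_mono hDW).trans (Subgroup.le_normalizer_map M.subtype), ?_⟩
  let e := D.equivMapOfInjective M.subtype M.subtype_injective
  have hk : (Subgroup.centralizer ((W.map M.subtype : Subgroup G) : Set G)).subgroupOf
      (D.map M.subtype) = (Φ.comp e.symm.toMonoidHom).ker := by
    ext d
    obtain ⟨d, rfl⟩ := e.surjective d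
    rw [Subgroup.mem_subgroupOf, MonoidHom.mem_ker, MonoidHom.comp_apply,
      MulEquiv.coe_toMonoidHom, e.symm_apply_apply, hker]
    constructor
    · intro h w hw
      exact Subtype.ext (h _ ⟨w, hw, rfl⟩)
    · rintro h _ ⟨w, hw, rfl⟩
      exact congrArg Subtype.val (h w hw)
  have hn : ((Subgroup.centralizer ((W.map M.subtype : Subgroup G) : Set G)).subgroupOf
      (D.map M.subtype)).Normal := hk ▸ inferInstance
  exact ⟨hn, ⟨(QuotientGroup.quotientMulEquivOfEq hk).trans
    (QuotientGroup.quotientKerEquivOfSurjective _ (hΦ.comp e.symm.surjective))⟩⟩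
end Cfsg.Agent.S0621
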