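import Cfsg.Statements.S0627
import Cfsg.Agent.Lib.Quadratic.Stable
import Cfsg.Agent.Lib.ZJ.StableClosure
import Cfsg.Agent.Lib.PSolvable.Constrained

set_option autoImplicit false
open Cfsg

namespace Cfsg.Agent.S0627

/-- In a p-separable group with p at least 5, the normalizer of W(S) supplements the largest normal subgroup of order prime to p. -/
theorem result {G : Type*} [Group G] [Finite G] {p : ℕ} [Fact p.Prime] (hp : 5 ≤ p) (hsep : Cfsg.IsPSolvable p G) (S : Sylow p G) : Cfsg.pPrimeCore p G ⊔ Subgroup.normalizer (((Cfsg.stableNormalClosure p ↥(S : Subgroup G)).map (S : Subgroup G).subtype) : Set G) = ⊤ := by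
  have hp2 : p ≠ 2 := by omega
  haveI := CfsgLib.Transfer.pPrimeCore_normal p G
  set K := Cfsg.pPrimeCore p G with hKdef
  set π := QuotientGroup.mk' K
  have hπs : Function.Surjective π := QuotientGroup.mk'_surjective K
  have hker : π.ker = K := QuotientGroup.ker_mk' K
  have hK : (Nat.card π.ker).Coprime p := by
    rw [hker]; exact CfsgLib.Transfer.pPrimeCore_coprime p
  have hinj : Set.InjOn π (S : Subgroup G) := fun a ha b hb h =>
    inv_mul_eq_one.mp (CfsgLib.PSolvable.eq_one_of_mem_of_mem S.2 hK (mul_mem (inv_mem ha) hb)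
      (MonoidHom.mem_ker.mpr (by rw [map_mul, map_inv, h, inv_mul_cancel])))
  set W := (Cfsg.stableNormalClosure p ↥(S : Subgroup G)).map (S : Subgroup G).subtype with hW
  have hWp : IsPGroup p W := S.2.to_le (Subgroup.map_subtype_le _)
  have hc : Subgroup.centralizer (Cfsg.pCore p (G ⧸ K) : Set (G ⧸ K)) ≤ Cfsg.pCore p (G ⧸ K) :=
    CfsgLib.PSolvable.isPConstrained_iff.mp (CfsgLib.PSolvable.isPConstrained_of_isPSolvable hsep)
  have hn := CfsgLib.ZJ.stableNormalClosure_normal
    (CfsgLib.Quadratic.isActionPStable_of_sectionsStable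
      (CfsgLib.Quadratic.sectionsStable_of_isPSolvable hp
        (CfsgLib.PSolvable.isPSolvable_of_surjective π hπs hsep))) hc (S.mapSurjective (f := π) hπs)
  have hmap : W.map π = (Cfsg.stableNormalClosure p ↥((S : Subgroup G).map π)).map
      ((S : Subgroup G).map π).subtype :=
    (CfsgLib.ZJ.isZJFunctor_stableClosure hp2).map π (S : Subgroup G) S.2 hinj
  have hWn : (W.map π).Normal := hmap ▸ hn
  refine eq_top_iff.mpr fun g _ => ?_
  obtain ⟨n, hn', he⟩ := CfsgLib.PSolvable.exists_mem_normalizer_of_map hK hWp (x := g)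
    ((Subgroup.normalizer_eq_top_iff.mpr hWn).symm ▸ Subgroup.mem_top _)
  have hk : g * n⁻¹ ∈ K :=
    hker.le (MonoidHom.mem_ker.mpr (by rw [map_mul, map_inv, he, mul_inv_cancel]))
  have := Subgroup.mul_mem_sup hk hn'
  rwa [inv_mul_cancel_right] at this

end Cfsg.Agent.S0627
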