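import Cfsg.Statements.S0632
import Cfsg.Agent.Lib.ZJ.NormQuot
import Cfsg.Agent.Lib.PSolvable.Core

set_option autoImplicit false
open Cfsg

namespace Cfsg.Agent.S0632

/-- For a group with a nontrivial normal p-subgroup, p-stability passes to and from the quotient by the largest normal subgroup of order prime to p. -/
theorem result {G : Type*} [Group G] [Finite G] {p : ℕ} [Fact p.Prime] (hO : Cfsg.pCore p G ≠ ⊥) : Cfsg.IsPStable p G ↔ Cfsg.IsPStable p (G ⧸ Cfsg.pPrimeCore p G) := by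
  haveI := CfsgLib.Transfer.pPrimeCore_normal p G
  set K := Cfsg.pPrimeCore p G with hKdef
  set π := QuotientGroup.mk' K with hπ
  have hπs : Function.Surjective π := QuotientGroup.mk'_surjective K
  have hker : π.ker = K := QuotientGroup.ker_mk' K
  have hK : (Nat.card π.ker).Coprime p := by
    rw [hker]; exact CfsgLib.Transfer.pPrimeCore_coprime p
  have hinj : ∀ P : Subgroup G, IsPGroup p P → Set.InjOn π (P : Set G) := by
    intro P hP a ha b hb h
    exact inv_mul_eq_one.mp (CfsgLib.PSolvable.eq_one_of_mem_of_mem hP hK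
      (mul_mem (inv_mem ha) hb) (MonoidHom.mem_ker.mpr
        (by rw [map_mul, map_inv, h, inv_mul_cancel])))
  have hbot : Cfsg.pPrimeCore p (G ⧸ K) = ⊥ :=
    CfsgLib.PSolvable.pPrimeCore_eq_bot_of_ker hπs hker
  have hO' : Cfsg.pCore p (G ⧸ K) ≠ ⊥ := by
    intro h
    refine hO ((Subgroup.eq_bot_iff_forall _).mpr fun x hx => ?_)
    refine CfsgLib.PSolvable.eq_one_of_mem_of_mem (CfsgLib.Fitting.pCore_isPGroup p) hK hx
      (MonoidHom.mem_ker.mpr ?_)
    have h1 : π x ∈ Cfsg.pCore p (G ⧸ K) := CfsgLib.Fitting.le_pCore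
      ((CfsgLib.Fitting.pCore_normal p).map π hπs) ((CfsgLib.Fitting.pCore_isPGroup p).map π)
      ⟨x, hx, rfl⟩
    rwa [h, Subgroup.mem_bot] at h1
  constructor
  · rintro ⟨hodd, -, hst⟩
    refine ⟨hodd, hO', fun A P hA hP hAP hPle hPn hq => ?_⟩
    rw [hbot, bot_sup_eq] at hPn
    obtain ⟨P₀, hP₀p, rfl⟩ : ∃ P₀ : Subgroup G, IsPGroup p P₀ ∧ P₀.map π = P := by
      obtain ⟨P₁, hP₁⟩ := CfsgLib.PSolvable.exists_map_eq hπs hP hK
      exact ⟨_, P₁.2.map _, hP₁⟩
    have hN : (Subgroup.normalizer (P₀ : Set G)).map π = ⊤ := by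
      rw [CfsgLib.PSolvable.map_normalizer_eq hπs hK hP₀p]
      exact Subgroup.normalizer_eq_top_iff.mpr hPn
    set N := Subgroup.normalizer (P₀ : Set G) with hNdef
    have hfs : Function.Surjective (π.comp N.subtype) := fun y => by
      obtain ⟨n, hn, rfl⟩ : y ∈ N.map π := hN.symm ▸ Subgroup.mem_top y
      exact ⟨⟨n, hn⟩, rfl⟩
    have hKN : (Nat.card (π.comp N.subtype).ker).Coprime p :=
      Nat.Coprime.coprime_dvd_left (Subgroup.card_dvd_of_injective
        ((N.subtype.comp (π.comp N.subtype).ker.subtype).codRestrict π.ker fun x => x.2)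
        fun x y h => Subtype.ext (Subtype.ext (congrArg Subtype.val h :))) hK
    obtain ⟨A₁, hA₁⟩ := CfsgLib.PSolvable.exists_map_eq hfs hA hKN
    set A₀ := ((A₁ : Subgroup (A.comap (π.comp N.subtype))).map
      (A.comap (π.comp N.subtype)).subtype).map N.subtype with hA₀
    have hA₀N : A₀ ≤ N := Subgroup.map_subtype_le _
    have hA₀map : A₀.map π = A := by rw [hA₀, Subgroup.map_map]; exact hA₁
    have hle : ⁅⁅P₀, A₀⁆, A₀⁆ ≤ P₀ := by
      have h1 : ⁅P₀, A₀⁆ ≤ P₀ := Subgroup.commutator_le.mpr fun x hx a ha => by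
        rw [commutatorElement_def, show x * a * x⁻¹ * a⁻¹ = x * (a * x⁻¹ * a⁻¹) by group]
        exact mul_mem hx ((Subgroup.mem_normalizer_iff.mp (hA₀N ha) _).mp (inv_mem hx))
      exact (Subgroup.commutator_mono h1 le_rfl).trans h1
    have hq₀ : ⁅⁅P₀, A₀⁆, A₀⁆ = ⊥ := by
      refine (Subgroup.eq_bot_iff_forall _).mpr fun x hx => ?_
      refine CfsgLib.PSolvable.eq_one_of_mem_of_mem hP₀p hK (hle hx) (MonoidHom.mem_ker.mpr ?_)
      have h1 := Subgroup.mem_map_of_mem π hx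
      rwa [Subgroup.map_commutator, Subgroup.map_commutator, hA₀map, hq, Subgroup.mem_bot] at h1
    have hsup : (K ⊔ P₀).Normal := by
      rw [sup_comm, ← hker, ← Subgroup.comap_map_eq]
      exact hPn.comap π
    have hle' : P₀ ≤ Cfsg.pPrimePCore p G := Subgroup.map_le_iff_le_comap.mp
      (CfsgLib.Fitting.le_pCore hPn (hP₀p.map π))
    have h2 := hst A₀ P₀ ((A₁.2.map _).map _) hP₀p
      (fun a ha x hx => (Subgroup.mem_normalizer_iff.mp (hA₀N ha) x).mp hx) hle' hsup hq₀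
    rintro _ ⟨⟨b, hb⟩, hbA, rfl⟩
    rw [SetLike.mem_coe, Subgroup.mem_subgroupOf] at hbA
    have hbA' : b ∈ A₀.map π := hA₀map.symm ▸ hbA
    obtain ⟨a, ha, rfl⟩ := hbA'
    exact CfsgLib.ZJ.map_mem_pCore_normQuot π
      (CfsgLib.PSolvable.map_normalizer_eq hπs hK hP₀p).ge (hA₀N ha) (h2 ⟨⟨a, hA₀N ha⟩, ha, rfl⟩)
  · rintro ⟨hodd, -, hst⟩
    refine ⟨hodd, hO, fun A P hA hP hAP hPle hPn hq => ?_⟩
    have hPn' : (P.map π).Normal := by
      have h := hPn.map π hπs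
      rwa [Subgroup.map_sup, (Subgroup.map_eq_bot_iff _).mpr hker.ge, bot_sup_eq] at h
    have hq' : ⁅⁅P.map π, A.map π⁆, A.map π⁆ = ⊥ := by
      rw [← Subgroup.map_commutator, ← Subgroup.map_commutator, hq, Subgroup.map_bot]
    have hle' : P.map π ≤ Cfsg.pPrimePCore p (G ⧸ K) := by
      haveI := CfsgLib.Transfer.pPrimeCore_normal p (G ⧸ K)
      exact Subgroup.map_le_iff_le_comap.mp (CfsgLib.Fitting.le_pCore
        (hPn'.map _ (QuotientGroup.mk'_surjective _)) ((hP.map π).map _))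
    have h2 := hst (A.map π) (P.map π) (hA.map π) (hP.map π)
      (by rintro _ ⟨a, ha, rfl⟩ _ ⟨x, hx, rfl⟩
          exact ⟨a * x * a⁻¹, hAP a ha x hx, by rw [map_mul, map_mul, map_inv]⟩)
      hle' (by rw [hbot, bot_sup_eq]; exact hPn') hq'
    rintro _ ⟨⟨a, ha⟩, haA, rfl⟩
    exact CfsgLib.ZJ.mem_pCore_normQuot_of_map π (hinj P hP) ha
      (h2 ⟨⟨π a, CfsgLib.ZJ.apply_mem_normalizer_map ha⟩, ⟨a, haA, rfl⟩, rfl⟩)

end Cfsg.Agent.S0632
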