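import Cfsg.Statements.S0633
import Cfsg.Agent.Lib.HallHigman.Main

set_option autoImplicit false
open Cfsg

namespace Cfsg.Agent.S0633

/-- Theorem B of Hall and Higman on the minimal polynomial of a p-element of order p^n in a p-solvable linear group on a nonzero vector space in characteristic p with no nontrivial normal p-subgroup: its degree is p^n, except when some p^n₀ - 1 (n₀ ≤ n) is a power of a prime q for which the Sylow q-subgroups are non-abelian, in which case the degree is at least p^(n-n₀)(p^n₀ - 1). -/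
theorem result {F : Type*} [Field F] {p : ℕ} [Fact p.Prime] [CharP F p] {V : Type*} [AddCommGroup V] [Module F V] [FiniteDimensional F V] [Nontrivial V] (H : Subgroup (V ≃ₗ[F] V)) [Finite H] (hsol : Cfsg.IsPSolvable p H) (hOp : Cfsg.pCore p H = ⊥) (x : V ≃ₗ[F] V) (hx : x ∈ H) (n : ℕ) (hn : orderOf x = p ^ n) (r : ℕ) (hr : minpoly F (x : Module.End F V) = (Polynomial.X - 1) ^ r) : r = p ^ n ∨ ∃ n₀ q m : ℕ, 1 ≤ n₀ ∧ n₀ ≤ n ∧ q.Prime ∧ 1 ≤ m ∧ p ^ n₀ - 1 = q ^ m ∧ (∀ Q : Sylow q H, ¬ IsMulCommutative Q) ∧ p ^ (n - n₀) * (p ^ n₀ - 1) ≤ r := by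
  classical
  set K := AlgebraicClosure F with hK
  haveI : CharP K p := charP_of_injective_algebraMap (algebraMap F K).injective p
  set N := Module.finrank F V with hN
  set b := Module.finBasis F V with hb
  haveI : Nonempty (Fin N) := ⟨⟨0, Module.finrank_pos⟩⟩
  let Φ : Module.End F V →+* Module.End K (Fin N → K) :=
    ((Matrix.toLinAlgEquiv' (R := K) (n := Fin N)).toRingEquiv.toRingHom.comp
      (RingHom.mapMatrix (algebraMap F K))).comp (LinearMap.toMatrixAlgEquiv b).toRingEquiv.toRingHom
  have hΦ : Function.Injective Φ := by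
    show Function.Injective (fun f => Matrix.toLinAlgEquiv' ((LinearMap.toMatrixAlgEquiv b f).map (algebraMap F K)))
    exact ((Matrix.toLinAlgEquiv' (R := K) (n := Fin N)).injective.comp
      (Matrix.map_injective (algebraMap F K).injective)).comp (LinearMap.toMatrixAlgEquiv b).injective
  let ι : H →* Module.End F V :=
    { toFun := fun g => ((g : V ≃ₗ[F] V) : V →ₗ[F] V)
      map_one' := rfl
      map_mul' := fun _ _ => rfl }
  let ρ : H →* Module.End K (Fin N → K) := Φ.toMonoidHom.comp ι
  have hι : Function.Injective ι := fun g h e => Subtype.ext (LinearEquiv.toLinearMap_injective e)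
  have hρ : Function.Injective ρ := hΦ.comp hι
  set xe : Module.End F V := ((x : V ≃ₗ[F] V) : Module.End F V) with hxe
  have hρx : ρ ⟨x, hx⟩ = Φ xe := rfl
  have h0 : (xe - 1) ^ r = 0 := by
    have h := minpoly.aeval F xe
    rw [hr] at h
    simpa using h
  have h1 : (ρ ⟨x, hx⟩ - 1) ^ r = 0 := by
    rw [hρx, ← map_one Φ, ← map_sub, ← map_pow, h0, map_zero]
  haveI : CharP (Module.End F V) p := CfsgLib.HallHigman.charP_end p V
  have hrle : r ≤ p ^ n := by
    have hxn : xe ^ p ^ n = 1 := by
      have h := congrArg ι (show (⟨x, hx⟩ : H) ^ p ^ n = 1 from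
        Subtype.ext (by rw [← hn]; exact pow_orderOf_eq_one x))
      rw [map_pow, map_one] at h
      exact h
    have hdvd : minpoly F xe ∣ (Polynomial.X - 1) ^ p ^ n := minpoly.dvd F xe (by
      simp only [map_pow, map_sub, Polynomial.aeval_X, map_one]
      rw [CfsgLib.HallHigman.sub_one_pow_prime_pow, hxn, sub_self])
    rw [hr] at hdvd
    have hne : (Polynomial.X - 1 : Polynomial F) ≠ 0 := by
      simpa using Polynomial.X_sub_C_ne_zero (1 : F)
    have hdeg := Polynomial.natDegree_le_of_dvd hdvd (pow_ne_zero _ hne)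
    rw [Polynomial.natDegree_pow, Polynomial.natDegree_pow,
      show (Polynomial.X - 1 : Polynomial F) = Polynomial.X - Polynomial.C 1 by simp,
      Polynomial.natDegree_X_sub_C, mul_one, mul_one] at hdeg
    exact hdeg
  rcases CfsgLib.HallHigman.theorem_b ρ hρ hsol hOp ⟨x, hx⟩ n
    (by rw [← Subgroup.orderOf_coe]; exact hn) r h1 with h | h
  · exact Or.inl (le_antisymm hrle h)
  · exact Or.inr h

end Cfsg.Agent.S0633
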