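import Cfsg.Statements.S0634
import Mathlib
import Cfsg.Agent.Lib.PSolvable.Core

set_option autoImplicit false
open Cfsg

namespace Cfsg.Agent.S0634

/-- In a p-soluble group each p-factor of the upper p-series contains its own centralizer in the corresponding quotient. -/
theorem result {G : Type*} [Group G] [Finite G] {p : ℕ} [Fact p.Prime] (hsol : Cfsg.IsPSolvable p G) (k : ℕ) : Subgroup.centralizer ((((Cfsg.upperPSeries p G (2 * k + 2)).1.map (QuotientGroup.mk' (Cfsg.upperPSeries p G (2 * k + 1)).1)) : Subgroup (G ⧸ (Cfsg.upperPSeries p G (2 * k + 1)).1)) : Set (G ⧸ (Cfsg.upperPSeries p G (2 * k + 1)).1)) ≤ (Cfsg.upperPSeries p G (2 * k + 2)).1.map (QuotientGroup.mk' (Cfsg.upperPSeries p G (2 * k + 1)).1) := by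
  set U₀ := Cfsg.upperPSeries p G (2 * k) with hU₀
  set U₁ := Cfsg.upperPSeries p G (2 * k + 1) with hU₁
  haveI := U₀.2
  haveI := U₁.2
  have e1 : U₁.1 = (Cfsg.pPrimeCore p (G ⧸ U₀.1)).comap (QuotientGroup.mk' U₀.1) := by
    rw [hU₁, Cfsg.upperPSeries]
    split_ifs with h
    · rfl
    · exact absurd (even_two_mul k) h
  have e2 : (Cfsg.upperPSeries p G (2 * k + 2)).1
      = (Cfsg.pCore p (G ⧸ U₁.1)).comap (QuotientGroup.mk' U₁.1) := by
    rw [Cfsg.upperPSeries]
    split_ifs with h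
    · exact absurd h (Nat.not_even_iff_odd.mpr (odd_two_mul_add_one k))
    · rfl
  have hle : U₀.1 ≤ U₁.1 := by
    rw [e1]
    intro x hx
    rw [Subgroup.mem_comap, QuotientGroup.mk'_apply, (QuotientGroup.eq_one_iff x).mpr hx]
    exact one_mem _
  have hle' : U₀.1 ≤ Subgroup.comap (MonoidHom.id G) U₁.1 := hle
  set g := QuotientGroup.map U₀.1 U₁.1 (MonoidHom.id G) hle'
  have hg : Function.Surjective g := by
    intro y
    obtain ⟨x, rfl⟩ := QuotientGroup.mk'_surjective U₁.1 y
    exact ⟨QuotientGroup.mk' U₀.1 x, rfl⟩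
  have hker : g.ker = Cfsg.pPrimeCore p (G ⧸ U₀.1) := by
    rw [QuotientGroup.ker_map, Subgroup.comap_id, e1,
      Subgroup.map_comap_eq_self_of_surjective (QuotientGroup.mk'_surjective _)]
  rw [e2, Subgroup.map_comap_eq_self_of_surjective (QuotientGroup.mk'_surjective _)]
  exact CfsgLib.PSolvable.centralizer_pCore_le
    (CfsgLib.PSolvable.isPSolvable_of_surjective _ (QuotientGroup.mk'_surjective _) hsol)
    (CfsgLib.PSolvable.pPrimeCore_eq_bot_of_ker hg hker)

end Cfsg.Agent.S0634
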