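import Cfsg.Statements.S0635
import Cfsg.Agent.S0634
import Cfsg.Agent.Lib.PSolvable.Core

set_option autoImplicit false
set_option linter.style.haveILetI false
open Cfsg

namespace Cfsg.Agent.S0635

theorem pCore_le_sylow' {G : Type*} [Group G] [Finite G] {p : ℕ} [Fact p.Prime] (P : Sylow p G) :
    Cfsg.pCore p G ≤ P := by
  refine sSup_le fun L hL => ?_
  haveI := hL.1
  obtain ⟨Q, hQ⟩ := hL.2.exists_le_sylow
  obtain ⟨g, rfl⟩ := MulAction.exists_smul_eq G Q P
  intro x hx
  refine ⟨g⁻¹ * x * g, hQ ?_, by simp [mul_assoc]⟩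
  simpa using hL.1.conj_mem x hx g⁻¹

theorem upperPSeries_le_succ {G : Type*} [Group G] (p n : ℕ) :
    (Cfsg.upperPSeries p G n).1 ≤ (Cfsg.upperPSeries p G (n + 1)).1 := by
  intro x hx
  rw [Cfsg.upperPSeries]
  split_ifs with h
  all_goals
    rw [Subgroup.mem_comap, QuotientGroup.mk'_apply, (QuotientGroup.eq_one_iff x).mpr hx]
    exact one_mem _

/-- The `j`th centre of a Sylow subgroup lies in the `j`th `p`-term of the upper `p`-series. -/
theorem upperCentralSeries_le {G : Type*} [Group G] [Finite G] {p : ℕ} [Fact p.Prime]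
    (hsol : Cfsg.IsPSolvable p G) (S : Sylow p G) :
    ∀ j, (Subgroup.upperCentralSeries ↥(S : Subgroup G) j).map (S : Subgroup G).subtype
      ≤ (Cfsg.upperPSeries p G (2 * j)).1 := by
  intro j
  induction j with
  | zero => rw [Subgroup.upperCentralSeries_zero, Subgroup.map_bot]; exact bot_le
  | succ j ih =>
    rintro _ ⟨x, hx, rfl⟩
    set U := (Cfsg.upperPSeries p G (2 * j + 1)).1 with hU
    let π := QuotientGroup.mk' U
    have e2 : (Cfsg.upperPSeries p G (2 * (j + 1))).1 = (Cfsg.pCore p (G ⧸ U)).comap π := by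
      rw [show 2 * (j + 1) = 2 * j + 1 + 1 from by ring, Cfsg.upperPSeries]
      split_ifs with h
      · exact absurd h (Nat.not_even_iff_odd.mpr (odd_two_mul_add_one j))
      · rfl
    have hmap : ((Cfsg.upperPSeries p G (2 * j + 2)).1).map π = Cfsg.pCore p (G ⧸ U) := by
      rw [show 2 * j + 2 = 2 * (j + 1) from by ring, e2,
        Subgroup.map_comap_eq_self_of_surjective (QuotientGroup.mk'_surjective _)]
    have key := Cfsg.Agent.S0634.result hsol j
    rw [hmap] at key
    rw [e2, Subgroup.mem_comap]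
    apply key
    rw [Subgroup.mem_centralizer_iff]
    intro y hy
    have hS : Cfsg.pCore p (G ⧸ U) ≤ (S : Subgroup G).map π :=
      pCore_le_sylow' (S.mapSurjective (QuotientGroup.mk'_surjective U))
    obtain ⟨s, hs, rfl⟩ := hS hy
    have hc : x * ⟨s, hs⟩ * x⁻¹ * (⟨s, hs⟩ : ↥(S : Subgroup G))⁻¹ ∈
        Subgroup.upperCentralSeries ↥(S : Subgroup G) j :=
      Subgroup.mem_upperCentralSeries_succ_iff.mp hx ⟨s, hs⟩
    have h1 : (x : G) * s * (x : G)⁻¹ * s⁻¹ ∈ U :=
      upperPSeries_le_succ p (2 * j) (ih ⟨_, hc, rfl⟩)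
    rw [← QuotientGroup.eq_one_iff] at h1
    change π ((x : G) * s * (x : G)⁻¹ * s⁻¹) = 1 at h1
    rw [map_mul, map_mul, map_mul, map_inv, map_inv, mul_inv_eq_one, mul_inv_eq_iff_eq_mul] at h1
    exact h1.symm


/-- The p-length of a p-soluble group is at most the nilpotency class of its Sylow p-subgroups. -/
theorem result {G : Type*} [Group G] [Finite G] {p : ℕ} [Fact p.Prime] (hsol : Cfsg.IsPSolvable p G) (S : Sylow p G) : Cfsg.PLengthLE p (Group.nilpotencyClass ↥(S : Subgroup G)) G := by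
  haveI : Group.IsNilpotent ↥(S : Subgroup G) := S.isPGroup'.isNilpotent
  set c := Group.nilpotencyClass ↥(S : Subgroup G)
  have h := upperCentralSeries_le hsol S c
  rw [Subgroup.upperCentralSeries_nilpotencyClass, ← MonoidHom.range_eq_map, Subgroup.range_subtype] at h
  set W := (Cfsg.upperPSeries p G (2 * c)).1 with hW
  have hidx : ¬ p ∣ W.index := fun hd => Sylow.not_dvd_index S (hd.trans (Subgroup.index_dvd_of_le h))
  show (Cfsg.upperPSeries p G (2 * c + 1)).1 = ⊤
  rw [Cfsg.upperPSeries]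
  split_ifs with he
  · show Subgroup.comap _ (Cfsg.pPrimeCore p (G ⧸ W)) = ⊤
    have : Cfsg.pPrimeCore p (G ⧸ W) = ⊤ := by
      refine eq_top_iff.mpr (le_sSup ⟨inferInstance, ?_⟩)
      rw [Nat.card_congr Subgroup.topEquiv.toEquiv, ← Subgroup.index_eq_card]
      exact ((Fact.out : p.Prime).coprime_iff_not_dvd.mpr hidx).symm
    rw [this, Subgroup.comap_top]
  · exact absurd (even_two_mul c) he
end Cfsg.Agent.S0635
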