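import Cfsg.Statements.S0640
import Cfsg.Agent.Lib.PGroup.RankTwoAut

set_option autoImplicit false
open Cfsg

namespace Cfsg.Agent.S0640

/-- For odd p, a prime q ≠ p dividing the order of the automorphism group of a p-group of rank at most 2 divides p² - 1 and is less than p. -/
theorem result {R : Type*} [Group R] [Finite R] {p : ℕ} [Fact p.Prime] (hp : p ≠ 2) (hR : IsPGroup p R) (hrk : Cfsg.PRankLE p 2 R) (q : ℕ) (hq : q.Prime) (hqp : q ≠ p) (hdvd : q ∣ Nat.card (MulAut R)) : q ∣ p ^ 2 - 1 ∧ q < p := by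
  haveI : Fact q.Prime := ⟨hq⟩
  haveI : Finite (MulAut R) := Finite.of_injective (fun f => (f : R → R)) DFunLike.coe_injective
  obtain ⟨φ, hφ⟩ := exists_prime_orderOf_dvd_card' (G := MulAut R) q hdvd
  have hd := CfsgLib.RankTwoAut.prime_dvd_of_rank_two hR hp hrk hqp φ hφ
  refine ⟨hd, ?_⟩
  have hp3 : 3 ≤ p := by
    have := (Fact.out : p.Prime).two_le
    omega
  rw [show p ^ 2 - 1 = p ^ 2 - 1 ^ 2 by simp, Nat.sq_sub_sq] at hd
  rcases (Nat.Prime.dvd_mul hq).mp hd with h | h
  · have hle := Nat.le_of_dvd (by omega) h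
    by_contra hcon
    rcases Nat.lt_or_ge q (p + 1) with h1 | h1
    · exact hqp (by omega)
    · have hq1 : q = p + 1 := by omega
      have hodd : Odd p := (Fact.out : p.Prime).odd_of_ne_two hp
      rcases hq.eq_two_or_odd' with h2 | h2
      · omega
      · rw [hq1] at h2
        exact (Nat.odd_add_one.mp h2) hodd
  · exact lt_of_le_of_lt (Nat.le_of_dvd (by omega) h) (by omega)

end Cfsg.Agent.S0640
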