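import Cfsg.Statements.S0642
import Cfsg.Agent.Lib.OddOmega.Basic

set_option autoImplicit false
open Cfsg
open scoped commutatorElement

namespace Cfsg.Agent.S0642

/-- Among finite 2-groups the regular ones are exactly the abelian ones. -/
theorem result {G : Type*} [Group G] [Finite G] (hG : IsPGroup 2 G) : Cfsg.IsRegularPGroup 2 G ↔ ∀ a b : G, a * b = b * a := by
  refine ⟨fun hr a b => ?_, fun h => ⟨hG, fun a b n => ⟨1, one_mem _, by
    rw [mul_one, (show Commute a b from h a b).mul_pow]⟩⟩⟩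
  set H := Subgroup.closure ({a, b} : Set G) with hH
  set D := ⁅H, H⁆ with hD
  set M := Cfsg.powerClosure 2 1 D with hM
  obtain ⟨c, hc, he⟩ := hr.2 a b 1
  have haH : a ∈ H := Subgroup.subset_closure (by simp)
  have hbH : b ∈ H := Subgroup.subset_closure (by simp)
  have hnM : ∀ h ∈ H, ∀ m ∈ M, h * m * h⁻¹ ∈ M := by
    intro h hh
    have h1 : M ≤ M.comap (MulAut.conj h).toMonoidHom := by
      refine (Subgroup.closure_le _).mpr ?_
      rintro _ ⟨x, hx, rfl⟩
      refine Subgroup.subset_closure ⟨h * x * h⁻¹, ?_, by simp [conj_pow]⟩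
      have h2 : D ≤ D.comap (MulAut.conj h).toMonoidHom := by
        refine Subgroup.commutator_le.mpr fun u hu v hv => ?_
        rw [Subgroup.mem_comap, map_commutatorElement]
        exact Subgroup.commutator_mem_commutator (mul_mem (mul_mem hh hu) (inv_mem hh))
          (mul_mem (mul_mem hh hv) (inv_mem hh))
      exact h2 hx
    exact fun m hm => h1 hm
  have hMH : M ≤ H := (Subgroup.closure_le _).mpr (by
    rintro _ ⟨x, hx, rfl⟩
    exact pow_mem (Subgroup.commutator_le_self H hx) _)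
  haveI : (M.subgroupOf H).Normal := ⟨fun m hm h => hnM h h.2 m hm⟩
  have hab : a⁻¹ * b⁻¹ * a * b ∈ M := by
    rw [pow_one, pow_two, pow_two, pow_two] at he
    have hc' : c = b⁻¹ * b⁻¹ * a⁻¹ * b * a * b := by
      calc c = (a * a * (b * b))⁻¹ * (a * a * (b * b) * c) := by group
        _ = _ := by rw [← he]; group
    have h3 := inv_mem (hnM b hbH c hc)
    rwa [hc', show (b * (b⁻¹ * b⁻¹ * a⁻¹ * b * a * b) * b⁻¹)⁻¹ = a⁻¹ * b⁻¹ * a * b by group] at h3
  have hDM : D ≤ M := by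
    let f := QuotientGroup.mk' (M.subgroupOf H)
    have hcomm : Commute (f ⟨a, haH⟩) (f ⟨b, hbH⟩) := by
      have h1 : f ((⟨a, haH⟩ : H)⁻¹ * (⟨b, hbH⟩ : H)⁻¹ * ⟨a, haH⟩ * ⟨b, hbH⟩) = 1 :=
        (QuotientGroup.eq_one_iff _).mpr hab
      rw [map_mul, map_mul, map_mul, map_inv, map_inv] at h1
      calc f ⟨a, haH⟩ * f ⟨b, hbH⟩ = f ⟨b, hbH⟩ * f ⟨a, haH⟩ *
            ((f ⟨a, haH⟩)⁻¹ * (f ⟨b, hbH⟩)⁻¹ * f ⟨a, haH⟩ * f ⟨b, hbH⟩) := by group
        _ = _ := by rw [h1, mul_one]
    have hall : ∀ x : H, f x ∈ Subgroup.closure ({f ⟨a, haH⟩, f ⟨b, hbH⟩} : Set _) := by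
      rintro ⟨x, hx⟩
      induction hx using Subgroup.closure_induction with
      | mem y hy =>
        rcases hy with rfl | rfl
        · exact Subgroup.subset_closure (by simp)
        · exact Subgroup.subset_closure (by simp)
      | one => exact one_mem _
      | mul y z _ _ iy iz => exact mul_mem iy iz
      | inv y _ iy => exact inv_mem iy
    haveI := Subgroup.isMulCommutative_closure (k := ({f ⟨a, haH⟩, f ⟨b, hbH⟩} : Set _)) (by
      rintro u (rfl | rfl) v (rfl | rfl)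
      · rfl
      · exact hcomm
      · exact hcomm.symm
      · rfl)
    refine Subgroup.commutator_le.mpr fun u hu v hv => ?_
    have h1 : f ⁅(⟨u, hu⟩ : H), ⟨v, hv⟩⁆ = 1 := by
      rw [map_commutatorElement, commutatorElement_eq_one_iff_commute]
      exact congrArg Subtype.val (mul_comm' (⟨_, hall ⟨u, hu⟩⟩ :
        ↥(Subgroup.closure ({f ⟨a, haH⟩, f ⟨b, hbH⟩} : Set _))) ⟨_, hall ⟨v, hv⟩⟩)
    exact Subgroup.mem_subgroupOf.mp ((QuotientGroup.eq_one_iff _).mp h1)
  have hDtop : frattini D = ⊤ := by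
    refine eq_top_iff.mpr fun x _ => ?_
    have h1 : M ≤ (frattini D).map D.subtype := by
      refine (Subgroup.closure_le _).mpr ?_
      rintro _ ⟨y, hy, rfl⟩
      exact ⟨(⟨y, hy⟩ : D) ^ 2, CfsgLib.OddOmega.pow_mem_frattini (hG.to_subgroup D) _, by simp⟩
    obtain ⟨y, hy, hyx⟩ := h1 (hDM x.2)
    rwa [← Subtype.ext hyx]
  have hDbot : D = ⊥ := by
    have h1 := frattini_nongenerating (K := (⊥ : Subgroup D)) (by rw [hDtop, bot_sup_eq])
    refine (Subgroup.eq_bot_iff_forall D).mpr fun x hx => ?_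
    exact congrArg Subtype.val (Subgroup.mem_bot.mp (h1.ge (Subgroup.mem_top (⟨x, hx⟩ : D))))
  exact (commutatorElement_eq_one_iff_commute.mp (Subgroup.mem_bot.mp
    (hDbot ▸ Subgroup.commutator_mem_commutator haH hbH))).eq

end Cfsg.Agent.S0642
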