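import Cfsg.Statements.S0645
import Cfsg.Agent.Lib.PGroup.CyclicMax
import Cfsg.Agent.Lib.Char.CyclicTI

set_option autoImplicit false
open Cfsg

namespace Cfsg.Agent.S0645

/-- Classification of p-groups with a cyclic maximal subgroup, odd p: a non-abelian one of order p^n has generators a of order p^(n-1) and b of order p, b outside the cyclic subgroup generated by a, with b a b⁻¹ = a^(1 + p^(n-2)). -/
theorem result {G : Type*} [Group G] [Finite G] {p : ℕ} [Fact p.Prime] (hp : p ≠ 2) (n : ℕ) (hn : 3 ≤ n) (hG : Nat.card G = p ^ n) (C : Subgroup G) (hC : IsCyclic C) (hCi : C.index = p) (hna : ∃ x y : G, x * y ≠ y * x) : ∃ a b : G, orderOf a = p ^ (n - 1) ∧ orderOf b = p ∧ b ∉ Subgroup.zpowers a ∧ b * a * b⁻¹ = a ^ (1 + p ^ (n - 2)) := by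
  have hp1 : p.Prime := Fact.out
  have hpg : IsPGroup p G := IsPGroup.of_card hG
  obtain ⟨x₁, y₁, hxy⟩ := hna
  have hnc : ¬ IsCyclic G := fun h => hxy (by letI := h.commGroup; exact mul_comm x₁ y₁)
  obtain ⟨hpow, W, hW, hWe, hWmem⟩ := CfsgLib.CyclicMax.pow_hom_ker hpg hp hnc hC hCi
  haveI : C.Normal := by
    refine Subgroup.normal_of_index_eq_minFac_card ?_
    rw [hCi, hG, Nat.Prime.pow_minFac hp1 (by omega)]
  obtain ⟨g, hg⟩ := hC.exists_ofOrder_eq_natCard
  set a : G := (g : G) with ha_def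
  have hcardC : Nat.card C = p ^ (n - 1) := by
    have h1 := C.card_mul_index
    rw [hCi, hG, show p ^ n = p ^ (n - 1) * p by rw [← pow_succ, Nat.sub_add_cancel (by omega)]] at h1
    exact Nat.eq_of_mul_eq_mul_right hp1.pos h1
  have hao : orderOf a = p ^ (n - 1) := by rw [ha_def, Subgroup.orderOf_coe, hg, hcardC]
  have hCz : Subgroup.zpowers a = C := by
    refine Subgroup.eq_of_le_of_card_ge (Subgroup.zpowers_le.mpr g.2) ?_
    rw [Nat.card_zpowers, hao, hcardC]
  obtain ⟨b₀, hb₀W, hb₀C⟩ : ∃ b₀ ∈ W, b₀ ∉ C := by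
    by_contra h
    push Not at h
    have hWC : W ≤ C := h
    haveI := hC
    haveI : IsCyclic W :=
      isCyclic_of_surjective (Subgroup.subgroupOfEquivOfLe hWC) (MulEquiv.surjective _)
    obtain ⟨w, hw⟩ := IsCyclic.exists_ofOrder_eq_natCard (α := W)
    have h1 : orderOf w ∣ p := orderOf_dvd_of_pow_eq_one (Subtype.ext (hWe.2 w w.2))
    rw [hw, hW] at h1
    have h2 := Nat.le_of_dvd hp1.pos h1
    nlinarith [hp1.one_lt]
  have hbp : b₀ ^ p = 1 := (hWmem b₀).mp hb₀W
  obtain ⟨i, hi⟩ := Subgroup.mem_zpowers_iff.mp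
    (hCz ▸ (inferInstance : C.Normal).conj_mem a (hCz ▸ Subgroup.mem_zpowers a) b₀ :
      b₀ * a * b₀⁻¹ ∈ Subgroup.zpowers a)
  set d := a ^ (i - 1) with hd
  have hd1 : b₀ * a * b₀⁻¹ = a * d := by
    rw [hd, ← hi]
    nth_rw 2 [← zpow_one a]
    rw [← zpow_add, show (1 : ℤ) + (i - 1) = i by ring]
  have hconjp : (b₀ * a * b₀⁻¹) ^ p = a ^ p := by
    rw [hpow, hpow, hbp, inv_pow, hbp, inv_one, one_mul, mul_one]
  have hdp : d ^ p = 1 := by
    have h1 : (a * d) ^ p = a ^ p := hd1 ▸ hconjp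
    rw [hpow] at h1
    exact mul_eq_left.mp h1
  have hdne : d ≠ 1 := by
    intro hd0
    rw [hd0, mul_one, mul_inv_eq_iff_eq_mul] at hd1
    apply hxy
    have htop : Subgroup.closure ({a, b₀} : Set G) = ⊤ := by
      have hle : C ≤ Subgroup.closure ({a, b₀} : Set G) := by
        rw [← hCz, Subgroup.zpowers_le]; exact Subgroup.subset_closure (by simp)
      rcases (Nat.dvd_prime hp1).mp (hCi ▸ Subgroup.index_dvd_of_le hle) with h | h
      · exact Subgroup.index_eq_one.mp h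
      · have h2 := Subgroup.relIndex_mul_index hle
        rw [h, hCi] at h2
        exact absurd (Subgroup.relIndex_eq_one.mp (Nat.eq_of_mul_eq_mul_right hp1.pos
          (h2.trans (one_mul p).symm)) (Subgroup.subset_closure (by simp))) hb₀C
    haveI := Subgroup.isMulCommutative_closure (k := ({a, b₀} : Set G)) (by
      rintro u (rfl | rfl) v (rfl | rfl)
      · rfl
      · exact hd1.symm
      · exact hd1
      · rfl)
    exact congrArg Subtype.val (mul_comm'
      (⟨x₁, htop ▸ Subgroup.mem_top x₁⟩ : ↥(Subgroup.closure ({a, b₀} : Set G)))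
      ⟨y₁, htop ▸ Subgroup.mem_top y₁⟩)
  set u := a ^ (p ^ (n - 2)) with hu
  have huo : orderOf u = p := by
    rw [hu, orderOf_pow' a (pow_ne_zero _ hp1.ne_zero), hao,
      Nat.gcd_eq_right (pow_dvd_pow p (by omega)), Nat.pow_div (by omega) hp1.pos,
      show n - 1 - (n - 2) = 1 by omega, pow_one]
  -- `u` and `d` generate the same subgroup
  obtain ⟨k, hk⟩ : ∃ k : ℤ, d ^ k = u := by
    haveI := hC
    have h1 : Subgroup.zpowers d ≤ C := Subgroup.zpowers_le.mpr (hCz ▸ ⟨i - 1, rfl⟩)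
    have h2 : Subgroup.zpowers u ≤ C := Subgroup.zpowers_le.mpr (hCz ▸ pow_mem (Subgroup.mem_zpowers a) _)
    have h3 : Subgroup.zpowers d = Subgroup.zpowers u :=
      CfsgLib.Char.CyclicTI.eq_of_card_eq_in_cyclic h1 h2 (by
        rw [Nat.card_zpowers, Nat.card_zpowers, huo, orderOf_eq_prime hdp hdne])
    exact Subgroup.mem_zpowers_iff.mp (h3 ▸ Subgroup.mem_zpowers u)
  have hdc : Commute b₀ d := by
    have h1 : b₀ * d * b₀⁻¹ = d := by
      rw [hd, ← conj_zpow, hd1, (show Commute a d from (Commute.refl a).zpow_right _).mul_zpow,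
        hd, ← zpow_mul a (i - 1) (i - 1)]
      have hp1' : d ^ (i - 1) = 1 := by
        rw [← orderOf_dvd_iff_zpow_eq_one, orderOf_eq_prime hdp hdne]
        have h2 : (orderOf a : ℤ) ∣ (i - 1) * p := by
          rw [orderOf_dvd_iff_zpow_eq_one, zpow_mul, zpow_natCast]
          exact hdp
        rw [hao] at h2
        push_cast at h2
        rw [show n - 1 = (n - 2) + 1 by omega, pow_succ] at h2
        exact dvd_trans (dvd_pow_self _ (by omega))
          (Int.dvd_of_mul_dvd_mul_right (by exact_mod_cast hp1.ne_zero) h2)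
      rw [zpow_mul, ← hd, hp1', mul_one]
    exact mul_inv_eq_iff_eq_mul.mp h1
  have hiter : ∀ m : ℕ, b₀ ^ m * a * (b₀ ^ m)⁻¹ = a * d ^ m := by
    intro m
    induction m with
    | zero => simp
    | succ m ih =>
      calc b₀ ^ (m + 1) * a * (b₀ ^ (m + 1))⁻¹ = b₀ * (b₀ ^ m * a * (b₀ ^ m)⁻¹) * b₀⁻¹ := by
            rw [pow_succ']; group
        _ = (b₀ * a * b₀⁻¹) * (b₀ * d ^ m * b₀⁻¹) := by rw [ih]; group
        _ = _ := by rw [hd1, (hdc.pow_right m).eq, mul_inv_cancel_right, pow_succ', mul_assoc]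
  set j := (k % p).toNat with hj
  have hjk : d ^ j = u := by
    rw [← hk, ← zpow_natCast, hj,
      Int.toNat_of_nonneg (Int.emod_nonneg _ (by exact_mod_cast hp1.ne_zero))]
    conv_rhs => rw [← Int.emod_add_mul_ediv k p, zpow_add, zpow_mul, zpow_natCast, hdp, one_zpow,
      mul_one]
  have hj0 : ¬ p ∣ j := by
    rintro ⟨r, hr⟩
    rw [hr, pow_mul, hdp, one_pow] at hjk
    rw [← hjk, orderOf_one] at huo
    exact hp1.one_lt.ne huo
  refine ⟨a, b₀ ^ j, hao, orderOf_eq_prime (by rw [← pow_mul, mul_comm, pow_mul, hbp, one_pow]) ?_,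
    ?_, ?_⟩
  · intro h
    have h1 := orderOf_dvd_of_pow_eq_one h
    rw [orderOf_eq_prime hbp (fun h2 => hb₀C (h2 ▸ one_mem C))] at h1
    exact hj0 h1
  · intro h
    obtain ⟨r, hr⟩ := exists_pow_eq_self_of_coprime
      (((hp1.coprime_iff_not_dvd).mpr hj0).symm.coprime_dvd_right (orderOf_dvd_of_pow_eq_one hbp))
    exact hb₀C (hr ▸ pow_mem (hCz ▸ h) r)
  · rw [hiter, hjk, hu, pow_add, pow_one]

end Cfsg.Agent.S0645
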