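import Cfsg.Statements.S0646
import Mathlib

set_option autoImplicit false
open Cfsg

namespace Cfsg.Agent.S0646

/-- Classification of non-abelian 2-groups with a cyclic maximal subgroup: dihedral, generalized quaternion, and for order at least 16 the modular group and the semidihedral group, each given by generators a (of index 2) and b with the stated relations. -/
theorem result {G : Type*} [Group G] [Finite G] (n : ℕ) (hn : 3 ≤ n) (hG : Nat.card G = 2 ^ n) (C : Subgroup G) (hC : IsCyclic C) (hCi : C.index = 2) (hna : ∃ x y : G, x * y ≠ y * x) : ∃ a b : G, orderOf a = 2 ^ (n - 1) ∧ b ∉ Subgroup.zpowers a ∧ ((b ^ 2 = 1 ∧ b * a * b⁻¹ = a⁻¹) ∨ (b ^ 2 = a ^ (2 ^ (n - 2)) ∧ b * a * b⁻¹ = a⁻¹) ∨ (4 ≤ n ∧ b ^ 2 = 1 ∧ b * a * b⁻¹ = a ^ (1 + 2 ^ (n - 2))) ∨ (4 ≤ n ∧ b ^ 2 = 1 ∧ b * a * b⁻¹ = a ^ (2 ^ (n - 2) - 1))) := by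
  haveI : C.Normal := Subgroup.normal_of_index_eq_two hCi
  obtain ⟨m, rfl⟩ : ∃ m, n = m + 1 := ⟨n - 1, by omega⟩
  simp only [Nat.add_sub_cancel, show m + 1 - 2 = m - 1 by omega]
  obtain ⟨g, hg⟩ := hC.exists_ofOrder_eq_natCard
  set a : G := (g : G) with ha_def
  have hcardC : Nat.card C = 2 ^ m := by
    have h1 := C.card_mul_index
    rw [hCi, hG, pow_succ] at h1
    exact Nat.eq_of_mul_eq_mul_right two_pos h1
  have hao : orderOf a = 2 ^ m := by rw [ha_def, Subgroup.orderOf_coe, hg, hcardC]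
  have hCz : Subgroup.zpowers a = C := by
    refine Subgroup.eq_of_le_of_card_ge (Subgroup.zpowers_le.mpr g.2) ?_
    rw [Nat.card_zpowers, hao, hcardC]
  have hmem : ∀ x, x ∈ C ↔ ∃ k : ℤ, a ^ k = x := fun x => by
    rw [← hCz, Subgroup.mem_zpowers_iff]
  obtain ⟨b, hb⟩ : ∃ b, b ∉ C := by
    by_contra h
    push Not at h
    rw [(Subgroup.eq_top_iff' C).mpr h, Subgroup.index_top] at hCi
    exact absurd hCi (by norm_num)
  have heq : ∀ x y : ℤ, a ^ x = a ^ y ↔ (2 : ℤ) ^ m ∣ x - y := fun x y => by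
    rw [← mul_inv_eq_one, ← zpow_neg, ← zpow_add, ← sub_eq_add_neg,
      ← orderOf_dvd_iff_zpow_eq_one, hao]
    push_cast
    rfl
  obtain ⟨i, hi⟩ := (hmem _).mp ((inferInstance : C.Normal).conj_mem a ((hmem a).mpr ⟨1, zpow_one a⟩) b)
  have hconj : ∀ k : ℤ, b * a ^ k * b⁻¹ = a ^ (i * k) := fun k => by
    rw [← conj_zpow, ← hi, ← zpow_mul]
  obtain ⟨t, ht⟩ := (hmem _).mp (hCi ▸ C.pow_index_mem b : b ^ 2 ∈ C)
  have hi2 : (2 : ℤ) ^ m ∣ i * i - 1 := by
    rw [← heq, zpow_one, ← hconj, hi]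
    have hc : Commute (b ^ 2) a := ht ▸ (Commute.refl a).zpow_left t
    calc b * (b * a * b⁻¹) * b⁻¹ = b ^ 2 * a * (b ^ 2)⁻¹ := by rw [pow_two]; group
      _ = a := by rw [hc.eq, mul_inv_cancel_right]
  have hti : (2 : ℤ) ^ m ∣ i * t - t := by
    rw [← heq, ← hconj, ht, pow_two]; group
  have hprod : ∀ x : G, ∃ (k : ℤ) (l : ℕ), x = a ^ k * b ^ l := by
    intro x
    by_cases hx : x ∈ C
    · obtain ⟨k, rfl⟩ := (hmem x).mp hx
      exact ⟨k, 0, by simp⟩
    · have h : x * b⁻¹ ∈ C := (Subgroup.mul_mem_iff_of_index_two hCi).mpr (iff_of_false hx (by simpa using hb))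
      obtain ⟨k, hk⟩ := (hmem _).mp h
      exact ⟨k, 1, by rw [hk, pow_one, inv_mul_cancel_right]⟩
  obtain ⟨x₁, y₁, hxy⟩ := hna
  have hni : ¬ (2 : ℤ) ^ m ∣ i - 1 := by
    intro h
    rw [← heq, zpow_one] at h
    have hc : Commute b a := by
      rw [hi] at h
      exact mul_inv_eq_iff_eq_mul.mp h
    obtain ⟨k, l, rfl⟩ := hprod x₁
    obtain ⟨k', l', rfl⟩ := hprod y₁
    exact hxy ((((Commute.refl a).zpow_zpow k k').mul_right ((hc.symm.zpow_left k).pow_right l')).mul_left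
      (((hc.pow_left l).zpow_right k').mul_right ((Commute.refl b).pow_pow l l'))).eq
  have htev : (2 : ℤ) ∣ t := by
    by_contra hod
    have hcop : IsCoprime t ((2 : ℤ) ^ m) :=
      (Int.prime_two.coprime_iff_not_dvd.mpr hod).symm.pow_right
    obtain ⟨u, v, huv⟩ := hcop
    have hab : a = (b ^ 2) ^ u := by
      rw [← ht, ← zpow_mul]
      conv_lhs => rw [← zpow_one a]
      rw [heq, ← huv]
      exact ⟨v, by ring⟩
    have hc : Commute b a := hab ▸ ((Commute.refl b).pow_right 2).zpow_right u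
    refine hni ?_
    rw [← heq, zpow_one, hi, hc.eq, mul_inv_cancel_right]
  have hnew : ∀ s : ℤ, (b * a ^ s) ∉ Subgroup.zpowers a ∧ b * a ^ s * a * (b * a ^ s)⁻¹ = a ^ i ∧
      (b * a ^ s) ^ 2 = a ^ (s * i + s + t) := by
    intro s
    refine ⟨fun h => hb ?_, ?_, ?_⟩
    · rw [hCz] at h
      exact (Subgroup.mul_mem_cancel_right _ ((hmem _).mpr ⟨s, rfl⟩)).mp h
    · calc b * a ^ s * a * (b * a ^ s)⁻¹ = b * a * b⁻¹ := by group
        _ = a ^ i := hi.symm
    · calc (b * a ^ s) ^ 2 = (b * a ^ s * b⁻¹) * b ^ 2 * a ^ s := by rw [pow_two, pow_two]; group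
        _ = a ^ (i * s) * a ^ t * a ^ s := by rw [hconj, ht]
        _ = _ := by rw [← zpow_add, ← zpow_add]; ring_nf
  have hiodd : ¬ (2 : ℤ) ∣ i := fun h => by
    have h1 : (2 : ℤ) ∣ i * i - 1 := dvd_trans (dvd_pow_self _ (by omega)) hi2
    have h2 : (2 : ℤ) ∣ i * i := dvd_mul_of_dvd_left h i
    omega
  obtain ⟨q, hq⟩ : ∃ q : ℤ, q = (2 : ℤ) ^ (m - 1) := ⟨_, rfl⟩
  have hM : (2 : ℤ) ^ m = 2 * q := by rw [hq, ← pow_succ', Nat.sub_add_cancel (by omega : 1 ≤ m)]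
  have hqcast : ((2 ^ (m - 1) : ℕ) : ℤ) = q := by rw [hq]; norm_num
  have hroot : q ∣ i - 1 ∨ q ∣ i + 1 := by
    obtain ⟨r, hr⟩ : ∃ r, i = 2 * r + 1 := ⟨i / 2, by omega⟩
    have h4 : 2 * q ∣ 4 * (r * (r + 1)) := by
      refine dvd_trans (hM ▸ hi2) (dvd_of_eq ?_)
      rw [hr]; ring
    rcases m with _ | _ | k
    · omega
    · omega
    have h5 : (2 : ℤ) ^ k ∣ r * (r + 1) := by
      rw [hq, Nat.add_sub_cancel, pow_succ, show 2 * ((2 : ℤ) ^ k * 2) = 4 * 2 ^ k by ring] at h4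
      exact Int.dvd_of_mul_dvd_mul_left (by norm_num) h4
    have hq' : q = 2 * 2 ^ k := by rw [hq, Nat.add_sub_cancel, pow_succ']
    by_cases hre : (2 : ℤ) ∣ r
    · left
      have hc : IsCoprime ((2 : ℤ) ^ k) (r + 1) :=
        (Int.prime_two.coprime_iff_not_dvd.mpr (by omega)).pow_left
      rw [hq', hr, show 2 * r + 1 - 1 = 2 * r by ring]
      exact mul_dvd_mul_left 2 (hc.dvd_of_dvd_mul_right h5)
    · right
      have hc : IsCoprime ((2 : ℤ) ^ k) r :=
        (Int.prime_two.coprime_iff_not_dvd.mpr hre).pow_left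
      rw [hq', hr, show 2 * r + 1 + 1 = 2 * (r + 1) by ring]
      exact mul_dvd_mul_left 2 (hc.dvd_of_dvd_mul_left h5)
  by_cases hneg : (2 : ℤ) ^ m ∣ i + 1
  · -- `b a b⁻¹ = a⁻¹`
    have hinv : a ^ i = a⁻¹ := by
      rw [← zpow_neg_one, heq, sub_neg_eq_add]; exact hneg
    have ht2 : 2 * q ∣ 2 * t := by
      have h1 := dvd_sub (dvd_mul_of_dvd_left hneg t) hti
      rwa [show (i + 1) * t - (i * t - t) = 2 * t by ring, hM] at h1
    obtain ⟨r, hr⟩ := Int.dvd_of_mul_dvd_mul_left (by norm_num) ht2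
    refine ⟨a, b, hao, fun h => hb (hCz ▸ h), ?_⟩
    rcases Int.emod_two_eq_zero_or_one r with hr2 | hr2
    · refine Or.inl ⟨?_, hi.symm.trans hinv⟩
      rw [← ht, ← zpow_zero a, heq, hM, sub_zero, hr]
      exact ⟨r / 2, by rw [show q * r = q * (2 * (r / 2)) by congr 1; omega]; ring⟩
    · refine Or.inr (Or.inl ⟨?_, hi.symm.trans hinv⟩)
      rw [← ht, ← zpow_natCast a (2 ^ (m - 1)), heq, hqcast, hM, hr]
      exact ⟨r / 2, by rw [show q * r = q * (2 * (r / 2) + 1) by congr 1; omega]; ring⟩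
  have hm3 : 3 ≤ m := by
    by_contra hlt
    have hm2 : m = 2 := by omega
    subst hm2
    norm_num at hneg hni
    omega
  obtain ⟨w, hw⟩ : ∃ w, q = 4 * w := ⟨2 ^ (m - 3), by
    rw [hq, show m - 1 = 2 + (m - 3) by omega, pow_add]; norm_num⟩
  rcases hroot with ⟨r, hr⟩ | ⟨r, hr⟩
  · -- `i = 1 + q`
    have hrodd : r % 2 = 1 := by
      by_contra h
      exact hni (hM ▸ ⟨r / 2, by rw [hr, show q * r = q * (2 * (r / 2)) by congr 1; omega]; ring⟩)
    obtain ⟨t', rfl⟩ := htev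
    have hodd : ¬ (2 : ℤ) ∣ 1 + 2 * w * r := by rw [mul_assoc]; omega
    obtain ⟨u, v, huv⟩ : IsCoprime (1 + 2 * w * r) q := by
      rw [hq]
      exact (Int.prime_two.coprime_iff_not_dvd.mpr hodd).symm.pow_right
    obtain ⟨h1, h2, h3⟩ := hnew (-t' * u)
    refine ⟨a, b * a ^ (-t' * u), hao, h1, Or.inr (Or.inr (Or.inl ⟨by omega, ?_, ?_⟩))⟩
    · rw [h3, ← zpow_zero a, heq, hM, sub_zero, show i = 1 + q * r by omega]
      refine ⟨t' * v, ?_⟩
      calc -t' * u * (1 + q * r) + -t' * u + 2 * t' = -2 * t' * (u * (1 + 2 * w * r)) + 2 * t' := by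
            rw [hw]; ring
        _ = -2 * t' * (1 - v * q) + 2 * t' := by rw [show u * (1 + 2 * w * r) = 1 - v * q by omega]
        _ = _ := by ring
    · rw [h2, ← zpow_natCast, heq, hM]
      push_cast
      rw [← hq]
      exact ⟨r / 2, by rw [show i = 1 + q * r by omega, show q * r = q * (2 * (r / 2) + 1) by congr 1; omega]; ring⟩
  · -- `i = q - 1`
    have hrodd : r % 2 = 1 := by
      by_contra h
      exact hneg (hM ▸ ⟨r / 2, by rw [hr, show q * r = q * (2 * (r / 2)) by congr 1; omega]; ring⟩)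
    have hit : i = q * r - 1 := by omega
    have htq : q ∣ t := by
      have h1 : 2 * q ∣ 2 * (t * (2 * w * r - 1)) := by
        refine dvd_trans (hM ▸ hti) (dvd_of_eq ?_)
        rw [hit, hw]; ring
      have h2 := Int.dvd_of_mul_dvd_mul_left (by norm_num) h1
      have hc : IsCoprime q (2 * w * r - 1) := by
        rw [hq]
        exact (Int.prime_two.coprime_iff_not_dvd.mpr (by rw [mul_assoc]; omega)).pow_left
      exact hc.dvd_of_dvd_mul_right h2
    obtain ⟨t', rfl⟩ := htq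
    obtain ⟨h1, h2, h3⟩ := hnew t'
    refine ⟨a, b * a ^ t', hao, h1, Or.inr (Or.inr (Or.inr ⟨by omega, ?_, ?_⟩))⟩
    · rw [h3, ← zpow_zero a, heq, hM, sub_zero, hit]
      exact ⟨t' * ((r + 1) / 2), by
        rw [show t' * (q * r - 1) + t' + q * t' = q * t' * (r + 1) by ring,
          show q * t' * (r + 1) = q * t' * (2 * ((r + 1) / 2)) by congr 1; omega]; ring⟩
    · rw [h2, ← zpow_natCast, heq, hM, Nat.cast_sub (Nat.one_le_two_pow)]
      push_cast
      rw [← hq, hit]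
      exact ⟨r / 2, by rw [show q * r = q * (2 * (r / 2) + 1) by congr 1; omega]; ring⟩

end Cfsg.Agent.S0646
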