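import Cfsg.Statements.S0647
import Mathlib

set_option autoImplicit false
open Cfsg

namespace Cfsg.Agent.S0647

/-- For a nonempty family of maximal abelian subgroups of a finite group, the intersection of the family is the centre of the subgroup it generates, which is also the full centralizer of that subgroup. -/
theorem result {S : Type*} [Group S] [Finite S] (𝒜 : Set (Subgroup S)) (hne : 𝒜.Nonempty) (hab : ∀ A ∈ 𝒜, IsMulCommutative A) (hmax : ∀ A ∈ 𝒜, ∀ B : Subgroup S, IsMulCommutative B → A ≤ B → B = A) : sInf 𝒜 = sSup 𝒜 ⊓ Subgroup.centralizer ((sSup 𝒜 : Subgroup S) : Set S) ∧ sInf 𝒜 = Subgroup.centralizer ((sSup 𝒜 : Subgroup S) : Set S) := by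
  have h1 : sInf 𝒜 = Subgroup.centralizer ((sSup 𝒜 : Subgroup S) : Set S) := by
    refine le_antisymm ?_ (le_sInf fun A hA => ?_)
    · rw [Subgroup.le_centralizer_iff]
      refine sSup_le fun A hA => Subgroup.le_centralizer_iff.mp ?_
      exact (sInf_le hA).trans fun x hx => Subgroup.mem_centralizer_iff.mpr fun y hy =>
        congrArg Subtype.val ((hab A hA).is_comm.comm (⟨y, hy⟩ : ↥A) ⟨x, hx⟩)
    · intro x hx
      have hxA : ∀ a ∈ A, a * x = x * a := fun a ha =>
        Subgroup.mem_centralizer_iff.mp hx a (le_sSup hA ha)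
      haveI := hab A hA
      have hc : IsMulCommutative ↥(Subgroup.closure ((A : Set S) ∪ {x})) := by
        refine Subgroup.isMulCommutative_closure ?_
        rintro u (hu | hu) v (hv | hv)
        · exact congrArg Subtype.val ((hab A hA).is_comm.comm (⟨u, hu⟩ : ↥A) ⟨v, hv⟩)
        · rw [Set.mem_singleton_iff.mp hv]; exact hxA u hu
        · rw [Set.mem_singleton_iff.mp hu]; exact (hxA v hv).symm
        · rw [Set.mem_singleton_iff.mp hu, Set.mem_singleton_iff.mp hv]
      rw [← hmax A hA _ hc (fun a ha => Subgroup.subset_closure (Or.inl ha))]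
      exact Subgroup.subset_closure (Or.inr rfl)
  refine ⟨le_antisymm (le_inf ?_ h1.le) (inf_le_right.trans h1.ge), h1⟩
  obtain ⟨A, hA⟩ := hne
  exact (sInf_le hA).trans (le_sSup hA)

end Cfsg.Agent.S0647
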