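import Cfsg.Statements.S0648
import Cfsg.Agent.Lib.Coprime.Action

set_option autoImplicit false
open Cfsg
open scoped commutatorElement

namespace Cfsg.Agent.S0648

/-- If A acts on B centralizing [B, B], then [B, A] has derived subgroup central in B, and for abelian A and b ∈ B with [[b, A], A, A] = 1 the derived subgroup of the subgroup [b, A] generated by the commutators of b with A has exponent dividing 2. -/
theorem result {G : Type*} [Group G] [Finite G] (A B : Subgroup G) (hAB : A ≤ Subgroup.normalizer (B : Set G)) (hc : ⁅⁅B, B⁆, A⁆ = ⊥) : ⁅⁅B, A⁆, ⁅B, A⁆⁆ ≤ B ⊓ Subgroup.centralizer (B : Set G) ∧ (IsMulCommutative A → ∀ b ∈ B, ⁅⁅(Subgroup.closure {g : G | ∃ a ∈ A, g = b⁻¹ * a * b * a⁻¹}), A⁆, A⁆ = ⊥ → ∀ w ∈ ⁅(Subgroup.closure {g : G | ∃ a ∈ A, g = b⁻¹ * a * b * a⁻¹}), (Subgroup.closure {g : G | ∃ a ∈ A, g = b⁻¹ * a * b * a⁻¹})⁆, w ^ 2 = 1) := by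
  have hWB : ⁅B, A⁆ ≤ B := CfsgLib.Coprime.commutator_le_left_of_le_normalizer hAB
  have hDA : ⁅B, B⁆ ≤ Subgroup.centralizer (A : Set G) :=
    Subgroup.commutator_eq_bot_iff_le_centralizer.mp hc
  have hBC : B ≤ Subgroup.normalizer (Subgroup.centralizer ((⁅B, B⁆ : Subgroup G) : Set G) : Set G) :=
    CfsgLib.Coprime.le_normalizer_centralizer
      (CfsgLib.Coprime.le_normalizer_commutator Subgroup.le_normalizer Subgroup.le_normalizer)
  have hWD : ⁅B, A⁆ ≤ Subgroup.centralizer ((⁅B, B⁆ : Subgroup G) : Set G) := by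
    refine Subgroup.commutator_le.mpr fun x hx a ha => ?_
    have haC : a ∈ Subgroup.centralizer ((⁅B, B⁆ : Subgroup G) : Set G) := fun d hd => (hDA hd a ha).symm
    rw [commutatorElement_def]
    exact mul_mem ((Subgroup.mem_normalizer_iff.mp (hBC hx) a).mp haC) (inv_mem haC)
  set W := ⁅B, A⁆ with hW
  have hZle : ⁅W, W⁆ ≤ Subgroup.centralizer (B : Set G) := by
    rw [← Subgroup.commutator_eq_bot_iff_le_centralizer]
    have h1 : ⁅⁅W, B⁆, W⁆ = ⊥ := by
      rw [Subgroup.commutator_eq_bot_iff_le_centralizer]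
      exact (Subgroup.commutator_mono hWB le_rfl).trans fun d hd w hw => (hWD hw d hd).symm
    exact Subgroup.commutator_commutator_eq_bot_of_rotate h1 (by rw [Subgroup.commutator_comm B W]; exact h1)
  refine ⟨le_inf ((Subgroup.commutator_mono hWB hWB).trans (Subgroup.commutator_le_self B)) hZle, ?_⟩
  intro hA b hb hY
  set X := Subgroup.closure {g : G | ∃ a ∈ A, g = b⁻¹ * a * b * a⁻¹} with hX
  have hXA : ⁅X, A⁆ ≤ Subgroup.centralizer (A : Set G) :=
    Subgroup.commutator_eq_bot_iff_le_centralizer.mp hY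
  set u : G → G := fun a => b⁻¹ * a * b * a⁻¹ with hu
  have huX : ∀ a ∈ A, u a ∈ X := fun a ha => Subgroup.subset_closure ⟨a, ha, rfl⟩
  have huW : ∀ a ∈ A, u a ∈ W := fun a ha => by
    have : u a = ⁅b⁻¹, a⁆ := by simp only [hu, commutatorElement_def, inv_inv]
    rw [this]
    exact Subgroup.commutator_mem_commutator (inv_mem hb) ha
  have hXW : X ≤ W := (Subgroup.closure_le _).mpr (by rintro _ ⟨a, ha, rfl⟩; exact huW a ha)
  have hAc : ∀ a ∈ A, ∀ d ∈ A, Commute a d := fun a ha d hd =>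
    congrArg Subtype.val (mul_comm' (⟨a, ha⟩ : A) ⟨d, hd⟩)
  have hD : ∀ d ∈ (⁅B, B⁆ : Subgroup G), (∀ a ∈ A, Commute d a) ∧ ∀ w ∈ W, Commute d w :=
    fun d hd => ⟨fun a ha => (hDA hd a ha).symm, fun w hw => hWD hw d hd⟩
  have hZ : ∀ x ∈ W, ∀ y ∈ W, (∀ a ∈ A, Commute ⁅x, y⁆ a) ∧ ∀ z ∈ B, Commute ⁅x, y⁆ z :=
    fun x hx y hy => ⟨(hD _ (Subgroup.commutator_mem_commutator (hWB hx) (hWB hy))).1,
      fun z hz => (hZle (Subgroup.commutator_mem_commutator hx hy) z hz).symm⟩
  have hcd : ∀ a, b⁻¹ * a * b = u a * a := fun a => by simp only [hu]; group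
  -- `s = [a, u d]` commutes with all generators
  have hs : ∀ a ∈ A, ∀ d ∈ A, (∀ e ∈ A, Commute ⁅a, u d⁆ (u e)) ∧ ∀ e ∈ A, Commute ⁅a, u d⁆ e := by
    intro a ha d hd
    set v := u d with hv
    set s := ⁅a, v⁆ with hs
    have hsA : ∀ e ∈ A, Commute s e := fun e he => by
      have h1 : ⁅v, a⁆ ∈ Subgroup.centralizer (A : Set G) :=
        hXA (Subgroup.commutator_mem_commutator (huX d hd) ha)
      rw [hs, ← commutatorElement_inv]
      exact (show Commute ⁅v, a⁆ e from (h1 e he).symm).inv_left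
    have hsW : s ∈ W := by
      rw [hs, show ⁅a, v⁆ = (a * v * a⁻¹) * v⁻¹ by rw [commutatorElement_def]]
      refine mul_mem ?_ (inv_mem (huW d hd))
      have hAW : A ≤ Subgroup.normalizer (W : Set G) :=
        CfsgLib.Coprime.le_normalizer_commutator hAB Subgroup.le_normalizer
      exact (Subgroup.mem_normalizer_iff.mp (hAW ha) v).mp (huW d hd)
    refine ⟨fun e he => ?_, hsA⟩
    -- conjugate `[s, e] = 1` by `b`
    set δ := ⁅b⁻¹, v⁆ with hδ
    have hδD : δ ∈ (⁅B, B⁆ : Subgroup G) :=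
      Subgroup.commutator_mem_commutator (inv_mem hb) (hWB (huW d hd))
    have h2 : b⁻¹ * s * b = ⁅u a, s⁆ * s * ⁅u a, v⁆ := by
      have e1 : b⁻¹ * s * b = ⁅u a * a, δ * v⁆ := by
        rw [← hcd, hs, hδ]; simp only [commutatorElement_def]; group
      have e2 : ⁅u a * a, δ * v⁆ = ⁅u a * a, v⁆ := by
        have hcm : Commute δ (u a * a) := ((hD δ hδD).2 _ (huW a ha)).mul_right ((hD δ hδD).1 a ha)
        have hcv : Commute δ v := (hD δ hδD).2 _ (huW d hd)
        calc ⁅u a * a, δ * v⁆ = (u a * a) * δ * v * (u a * a)⁻¹ * v⁻¹ * δ⁻¹ := by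
              rw [commutatorElement_def]; group
          _ = δ * ((u a * a) * v * (u a * a)⁻¹ * v⁻¹) * δ⁻¹ := by rw [← hcm.eq]; group
          _ = δ * δ⁻¹ * ((u a * a) * v * (u a * a)⁻¹ * v⁻¹) := by
            rw [mul_assoc δ, ← ((((hcm.mul_right hcv).mul_right hcm.inv_right).mul_right
              hcv.inv_right).inv_left).eq, ← mul_assoc]
          _ = _ := by rw [mul_inv_cancel, one_mul, commutatorElement_def]
      rw [e1, e2, hs]; simp only [commutatorElement_def]; group
    have h3 : Commute (b⁻¹ * s * b) (b⁻¹ * e * b) := by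
      show _ = _
      calc b⁻¹ * s * b * (b⁻¹ * e * b) = b⁻¹ * (s * e) * b := by group
        _ = _ := by rw [(hsA e he).eq]; group
    rw [h2, hcd e] at h3
    have c1 : Commute ⁅u a, s⁆ (u e * e) := ((hZ _ (huW a ha) _ hsW).2 _ (hWB (huW e he))).mul_right
      ((hZ _ (huW a ha) _ hsW).1 e he)
    have c2 : Commute ⁅u a, v⁆ (u e * e) :=
      ((hZ _ (huW a ha) _ (huW d hd)).2 _ (hWB (huW e he))).mul_right
      ((hZ _ (huW a ha) _ (huW d hd)).1 e he)
    have h4 : Commute s (u e * e) := by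
      have := (c1.inv_left.mul_left h3).mul_left c2.inv_left
      rwa [mul_assoc ⁅u a, s⁆ s, inv_mul_cancel_left, mul_inv_cancel_right] at this
    have h5 := h4.mul_right (hsA e he).inv_right
    rwa [mul_inv_cancel_right] at h5
  have hk : ∀ a ∈ A, ∀ d ∈ A, ⁅u a, u d⁆ ^ 2 = 1 := by
    intro a ha d hd
    set x := u a with hx
    set v := u d with hv
    set s := ⁅a, v⁆ with hsdef
    set t := ⁅d, x⁆ with ht
    set k := ⁅x, v⁆ with hkdef
    have hsx : Commute s x := (hs a ha d hd).1 a ha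
    have hsv : Commute s v := (hs a ha d hd).1 d hd
    have hsa : Commute s a := (hs a ha d hd).2 a ha
    have hsd : Commute s d := (hs a ha d hd).2 d hd
    have htx : Commute t x := (hs d hd a ha).1 a ha
    have htv : Commute t v := (hs d hd a ha).1 d hd
    have hta : Commute t a := (hs d hd a ha).2 a ha
    have htd : Commute t d := (hs d hd a ha).2 d hd
    obtain ⟨hkA, hkB⟩ := hZ x (huW a ha) v (huW d hd)
    have hkv : Commute k v := hkB v (hWB (huW d hd))
    have hkx : Commute k x := hkB x (hWB (huW a ha))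
    have hks : Commute k s :=
      ((hkA a ha).mul_right hkv).mul_right (hkA a ha).inv_right |>.mul_right hkv.inv_right
    have hav : a * v = s * v * a := by rw [hsdef, commutatorElement_def]; group
    have hdx : d * x = t * x * d := by rw [ht, commutatorElement_def]; group
    have hxv : x * v = k * v * x := by rw [hkdef, commutatorElement_def]; group
    have had : a * d = d * a := (hAc a ha d hd).eq
    have e1 : s * k = t := by
      have h : x * a * (v * d) = v * d * (x * a) := by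
        rw [hx, hv, ← hcd, ← hcd]
        calc b⁻¹ * a * b * (b⁻¹ * d * b) = b⁻¹ * (a * d) * b := by group
          _ = _ := by rw [had]; group
      have hl : x * a * (v * d) = s * k * (v * x * (a * d)) := by
        calc x * a * (v * d) = x * (a * v) * d := by group
          _ = (x * s) * (v * a * d) := by rw [hav]; group
          _ = s * (x * v) * (a * d) := by rw [← hsx.eq]; group
          _ = _ := by rw [hxv]; group
      have hr : v * d * (x * a) = t * (v * x * (a * d)) := by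
        calc v * d * (x * a) = v * (d * x) * a := by group
          _ = (v * t) * (x * (d * a)) := by rw [hdx]; group
          _ = _ := by rw [← htv.eq, ← had]; group
      rw [hl, hr] at h
      exact mul_right_cancel h
    have e2 : t * k = s := by
      set ea := ⁅b, x⁻¹⁆ with hea
      set ed := ⁅b, v⁻¹⁆ with hed
      have hea' : ea ∈ (⁅B, B⁆ : Subgroup G) :=
        Subgroup.commutator_mem_commutator hb (inv_mem (hWB (huW a ha)))
      have hed' : ed ∈ (⁅B, B⁆ : Subgroup G) :=
        Subgroup.commutator_mem_commutator hb (inv_mem (hWB (huW d hd)))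
      have hca : b * a * b⁻¹ = ea * (x⁻¹ * a) := by
        rw [hea, hx, hu]; simp only [commutatorElement_def]; group
      have hcd' : b * d * b⁻¹ = ed * (v⁻¹ * d) := by
        rw [hed, hv, hu]; simp only [commutatorElement_def]; group
      have hedW : ∀ w ∈ W, Commute ed w := (hD ed hed').2
      have heaW : ∀ w ∈ W, Commute ea w := (hD ea hea').2
      have hee : Commute ea ed := by
        have h1 : ∀ w ∈ W, Commute ea w := heaW
        have h3 : Commute ea (b * v⁻¹ * b⁻¹) := by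
          have hc1 : ∀ q ∈ (⁅B, B⁆ : Subgroup G), b⁻¹ * q * b ∈ (⁅B, B⁆ : Subgroup G) := fun q hq => by
            have hn : B ≤ Subgroup.normalizer ((⁅B, B⁆ : Subgroup G) : Set G) :=
              CfsgLib.Coprime.le_normalizer_commutator Subgroup.le_normalizer Subgroup.le_normalizer
            exact (Subgroup.mem_normalizer_iff''.mp (hn hb) q).mp hq
          have h4 := (show Commute (b⁻¹ * ea * b) v⁻¹ from (hD _ (hc1 ea hea')).2 _ (inv_mem (huW d hd))).eq
          show ea * (b * v⁻¹ * b⁻¹) = b * v⁻¹ * b⁻¹ * ea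
          calc ea * (b * v⁻¹ * b⁻¹) = b * (b⁻¹ * ea * b * v⁻¹) * b⁻¹ := by group
            _ = _ := by rw [h4]; group
        rw [hed, commutatorElement_def, inv_inv]
        exact h3.mul_right (h1 v (huW d hd))
      have h' : x⁻¹ * a * (v⁻¹ * d) = v⁻¹ * d * (x⁻¹ * a) := by
        have h : b * a * b⁻¹ * (b * d * b⁻¹) = b * d * b⁻¹ * (b * a * b⁻¹) := by
          calc b * a * b⁻¹ * (b * d * b⁻¹) = b * (a * d) * b⁻¹ := by group
            _ = _ := by rw [had]; group
        have c1 : Commute (x⁻¹ * a) ed :=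
          ((hedW _ (inv_mem (huW a ha))).mul_right ((hD ed hed').1 a ha)).symm
        have c2 : Commute (v⁻¹ * d) ea :=
          ((heaW _ (inv_mem (huW d hd))).mul_right ((hD ea hea').1 d hd)).symm
        rw [hca, hcd'] at h
        have hl : ea * (x⁻¹ * a) * (ed * (v⁻¹ * d)) = ea * ed * (x⁻¹ * a * (v⁻¹ * d)) := by
          rw [mul_assoc ea, ← mul_assoc (x⁻¹ * a), c1.eq]; group
        have hr : ed * (v⁻¹ * d) * (ea * (x⁻¹ * a)) = ea * ed * (v⁻¹ * d * (x⁻¹ * a)) := by
          rw [mul_assoc ed, ← mul_assoc (v⁻¹ * d), c2.eq, hee.eq]; group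
        rw [hl, hr] at h
        exact mul_left_cancel h
      have hav' : a * v⁻¹ = v⁻¹ * s⁻¹ * a := by
        calc a * v⁻¹ = v⁻¹ * s⁻¹ * (s * v * a) * v⁻¹ := by group
          _ = _ := by rw [← hav]; group
      have hdx' : d * x⁻¹ = x⁻¹ * t⁻¹ * d := by
        calc d * x⁻¹ = x⁻¹ * t⁻¹ * (t * x * d) * x⁻¹ := by group
          _ = _ := by rw [← hdx]; group
      have h7 : x⁻¹ * v⁻¹ * s⁻¹ = v⁻¹ * x⁻¹ * t⁻¹ := by
        have h8 : x⁻¹ * (a * v⁻¹) * d = v⁻¹ * (d * x⁻¹) * a := by
          calc x⁻¹ * (a * v⁻¹) * d = x⁻¹ * a * (v⁻¹ * d) := by group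
            _ = _ := by rw [h']; group
        rw [hav', hdx'] at h8
        have h9 : x⁻¹ * v⁻¹ * s⁻¹ * (a * d) = v⁻¹ * x⁻¹ * t⁻¹ * (a * d) := by
          calc x⁻¹ * v⁻¹ * s⁻¹ * (a * d) = x⁻¹ * (v⁻¹ * s⁻¹ * a) * d := by group
            _ = v⁻¹ * (x⁻¹ * t⁻¹ * d) * a := h8
            _ = v⁻¹ * x⁻¹ * t⁻¹ * (d * a) := by group
            _ = _ := by rw [← had]
        exact mul_right_cancel h9
      have h10 : s * (v * x) = t * (x * v) := by
        have h11 := congrArg (·⁻¹) h7
        simp only [mul_inv_rev, inv_inv] at h11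
        exact h11
      rw [hxv, show t * (k * v * x) = t * k * (v * x) by group] at h10
      exact (mul_right_cancel h10).symm
    rw [pow_two]
    have h12 : s * (k * k) = s * 1 := by rw [← mul_assoc, e1, e2, mul_one]
    exact mul_left_cancel h12
  -- squares of the commutators of `X`
  have hmul : ∀ x ∈ W, ∀ y ∈ W, ∀ z ∈ W, ⁅x * y, z⁆ = ⁅x, z⁆ * ⁅y, z⁆ := fun x hx y hy z hz => by
    have h1 := ((hZ y hy z hz).2 x (hWB hx)).eq
    have h2 := ((hZ y hy z hz).2 ⁅x, z⁆
      (Subgroup.commutator_le_self B (Subgroup.commutator_mem_commutator (hWB hx) (hWB hz)))).eq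
    rw [← h2, show ⁅x * y, z⁆ = x * ⁅y, z⁆ * x⁻¹ * ⁅x, z⁆ by simp only [commutatorElement_def]; group,
      ← h1, mul_inv_cancel_right]
  have hgen : ∀ x ∈ X, ∀ d ∈ A, ⁅x, u d⁆ ^ 2 = 1 := by
    intro x hx d hd
    induction hx using Subgroup.closure_induction with
    | mem y hy =>
      obtain ⟨a, ha, rfl⟩ := hy
      exact hk a ha d hd
    | one => simp
    | mul y z hy hz iy iz =>
      rw [hmul y (hXW hy) z (hXW hz) _ (huW d hd),
        Commute.mul_pow ((hZ y (hXW hy) _ (huW d hd)).2 _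
          (Subgroup.commutator_le_self B (Subgroup.commutator_mem_commutator (hWB (hXW hz)) (hWB (huW d hd))))),
        iy, iz, one_mul]
    | inv y hy iy =>
      have h1 := hmul y⁻¹ (inv_mem (hXW hy)) y (hXW hy) _ (huW d hd)
      rw [inv_mul_cancel, commutatorElement_one_left] at h1
      rw [eq_inv_of_mul_eq_one_left h1.symm, inv_pow, iy, inv_one]
  have hall : ∀ x ∈ X, ∀ y ∈ X, ⁅x, y⁆ ^ 2 = 1 := by
    intro x hx y hy
    induction hy using Subgroup.closure_induction with
    | mem z hz =>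
      obtain ⟨d, hd, rfl⟩ := hz
      exact hgen x hx d hd
    | one => simp
    | mul y z hy hz iy iz =>
      rw [← commutatorElement_inv, inv_pow, hmul y (hXW hy) z (hXW hz) x (hXW hx),
        Commute.mul_pow ((hZ y (hXW hy) x (hXW hx)).2 _
          (Subgroup.commutator_le_self B (Subgroup.commutator_mem_commutator (hWB (hXW hz)) (hWB (hXW hx))))),
        ← commutatorElement_inv x y, ← commutatorElement_inv x z, inv_pow, inv_pow, iy, iz, inv_one,
        one_mul, inv_one]
    | inv y hy iy =>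
      have h1 := hmul y⁻¹ (inv_mem (hXW hy)) y (hXW hy) x (hXW hx)
      rw [inv_mul_cancel, commutatorElement_one_left] at h1
      rw [← commutatorElement_inv, inv_pow, eq_inv_of_mul_eq_one_left h1.symm, inv_pow, inv_inv,
        ← commutatorElement_inv x y, inv_pow, iy, inv_one]
  intro w hw
  let Ω : Subgroup G :=
    { carrier := {z | z ∈ ⁅W, W⁆ ∧ z ^ 2 = 1}
      one_mem' := ⟨one_mem _, one_pow 2⟩
      mul_mem' := fun {p q} hp hq => ⟨mul_mem hp.1 hq.1, by
        have hpq : Commute p q :=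
          (hZle hp.1 q ((Subgroup.commutator_mono hWB hWB).trans (Subgroup.commutator_le_self B) hq.1)).symm
        rw [hpq.mul_pow, hp.2, hq.2, one_mul]⟩
      inv_mem' := fun {p} hp => ⟨inv_mem hp.1, by rw [inv_pow, hp.2, inv_one]⟩ }
  exact ((Subgroup.commutator_le.mpr fun x hx y hy =>
    ⟨Subgroup.commutator_mem_commutator (hXW hx) (hXW hy), hall x hx y hy⟩ : ⁅X, X⁆ ≤ Ω) hw).2

end Cfsg.Agent.S0648
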