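import Cfsg.Statements.S0649
import Cfsg.Agent.Lib.ZJ.Replacement

set_option autoImplicit false
open Cfsg

namespace Cfsg.Agent.S0649

/-- In the Glauberman replacement situation, if B does not normalize A then some element of B normalizes N_S(A) without normalizing A. -/
theorem result {S : Type*} [Group S] [Finite S] {p : ℕ} [Fact p.Prime] (hS : IsPGroup p S) (B : Subgroup S) [B.Normal] (hB2 : p = 2 → IsMulCommutative B) (A : Subgroup S) (hA : IsMulCommutative A) (hBA : ⁅B, B⁆ ≤ A) (hnot : ¬ B ≤ Subgroup.normalizer (A : Set S)) : ∃ b ∈ B, b ∈ Subgroup.normalizer ((Subgroup.normalizer (A : Set S)) : Set S) ∧ b ∉ Subgroup.normalizer (A : Set S) := by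
  set N := Subgroup.normalizer (A : Set S) with hN
  have hlt : N < B ⊔ N := lt_of_le_of_ne le_sup_right fun h => hnot (le_sup_left.trans h.ge)
  obtain ⟨g, hg, hgN⟩ := SetLike.exists_of_lt
    (CfsgLib.Transfer.lt_inf_normalizer (hS.to_subgroup _) hlt)
  obtain ⟨hg1, hg2⟩ := Subgroup.mem_inf.mp hg
  obtain ⟨b, hb, n, hn, rfl⟩ := CfsgLib.ZJ.exists_mul_of_mem_sup
    (show N ≤ Subgroup.normalizer (B : Set S) from Subgroup.le_normalizer_of_normal) hg1
  refine ⟨b, hb, ?_, fun h => hgN (mul_mem h hn)⟩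
  have := mul_mem hg2 (inv_mem (Subgroup.le_normalizer hn))
  rwa [mul_inv_cancel_right] at this

end Cfsg.Agent.S0649
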