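import Cfsg.Statements.S0655
import Cfsg.Agent.Lib.Transfer.ThompsonBasics

set_option autoImplicit false
open Cfsg

namespace Cfsg.Agent.S0655

/-- In a p-group the intersection of all elementary abelian subgroups of largest order is the subgroup generated by the elements of order dividing p in the centre (equivalently the centralizer) of the elementary-version Thompson subgroup. -/
theorem result {S : Type*} [Group S] [Finite S] {p : ℕ} [Fact p.Prime] (hS : IsPGroup p S) : sInf (Cfsg.maxElementaryAbelianSubgroups p S) = Cfsg.omegaCenterThompson p S ∧ Cfsg.omegaCenterThompson p S = Cfsg.omegaOne p (Subgroup.centralizer (Cfsg.thompsonSubgroup p S : Set S)) := by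
  have hM : Cfsg.maxElementaryAbelianSubgroups p S
      = CfsgLib.Transfer.maxAbExp p (⊤ : Subgroup S) := by
    ext A
    simp [Cfsg.maxElementaryAbelianSubgroups, CfsgLib.Transfer.maxAbExp,
      Cfsg.IsElementaryAbelian, CfsgLib.Transfer.IsAbExp]
  rw [hM, CfsgLib.ZJ.omegaCenterThompson_eq, CfsgLib.ZJ.thompsonSubgroup_eq_top]
  obtain ⟨A₀, hA₀⟩ := CfsgLib.Transfer.thompsonJ_nonempty p (⊤ : Subgroup S)
  refine ⟨le_antisymm (fun x hx => ?_) ((Subgroup.closure_le _).mpr fun z hz => ?_), ?_⟩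
  · rw [Subgroup.mem_sInf] at hx
    refine Subgroup.subset_closure ⟨Subgroup.mem_inf.mpr ⟨le_sSup hA₀ (hx A₀ hA₀), ?_⟩,
      hA₀.2.1.2 x (hx A₀ hA₀)⟩
    have hle : CfsgLib.Transfer.thompsonJ p (⊤ : Subgroup S) ≤ Subgroup.centralizer {x} :=
      sSup_le fun A hA a ha => Subgroup.mem_centralizer_singleton_iff.mpr <| by
        haveI := hA.2.1.1
        exact congrArg Subtype.val (mul_comm' (⟨a, ha⟩ : A) ⟨x, hx A hA⟩)
    exact fun j hj => Subgroup.mem_centralizer_singleton_iff.mp (hle hj)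
  · exact Subgroup.mem_sInf.mpr
      (CfsgLib.Transfer.mem_thompsonJ_top_of_commute hz.2 (Subgroup.mem_inf.mp hz.1).2)
  · refine le_antisymm (Subgroup.closure_mono fun z hz => ⟨(Subgroup.mem_inf.mp hz.1).2, hz.2⟩)
      (Subgroup.closure_mono fun z hz => ⟨Subgroup.mem_inf.mpr ⟨le_sSup hA₀
        (CfsgLib.Transfer.mem_thompsonJ_top_of_commute hz.2 hz.1 A₀ hA₀), hz.1⟩, hz.2⟩)

end Cfsg.Agent.S0655
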