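import Cfsg.Statements.S0657
import Cfsg.Agent.Lib.Qd.Stable
import Cfsg.Agent.Lib.Qd.Local

set_option autoImplicit false
open Cfsg

namespace Cfsg.Agent.S0657

/-- For odd p, a group that fails to be p-stable modulo its largest normal subgroup of order prime to p, and whose upper p-series does not stop there, has a section isomorphic to SL(2, p). -/
theorem result {G : Type*} [Group G] [Finite G] {p : ℕ} [Fact p.Prime] (hp : p ≠ 2) (hO : Cfsg.pPrimeCore p G < Cfsg.pPrimePCore p G) (hns : ¬ Cfsg.IsPStable p (G ⧸ Cfsg.pPrimeCore p G)) : ∃ (K L : Subgroup G) (hL : (L.subgroupOf K).Normal), K ≤ ⊤ ∧ Nonempty ((K ⧸ L.subgroupOf K) ≃* Matrix.SpecialLinearGroup (Fin 2) (ZMod p)) := by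
  haveI := CfsgLib.Transfer.pPrimeCore_normal p G
  by_contra hne
  refine hns ⟨(Fact.out : p.Prime).odd_of_ne_two hp, fun hbot => hO.ne ?_, ?_⟩
  · rw [Cfsg.pPrimePCore, hbot, MonoidHom.comap_bot, QuotientGroup.ker_mk']
  · intro A P hA hP hAP _ _ hq
    set X := G ⧸ Cfsg.pPrimeCore p G
    have hst : Cfsg.IsNormalizerPStable p X :=
      CfsgLib.Qd.isNormalizerPStable_of_qdFree hp (CfsgLib.Qd.not_involves_quotient _ fun hqd => by
        obtain ⟨K, L, hL, e⟩ := CfsgLib.Qd.involves_sl2_of_involves_qd hqd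
        exact hne ⟨K, L, hL, le_top, e⟩)
    rintro _ ⟨⟨a, ha⟩, haA, rfl⟩
    refine hst P hP a ha (le_bot_iff.mp (hq ▸ Subgroup.commutator_mono
      (Subgroup.commutator_mono le_rfl ?_) ?_)) <;> exact Subgroup.zpowers_le.mpr haA

end Cfsg.Agent.S0657
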