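import Cfsg.Statements.S0662
import Cfsg.Agent.Lib.PGroup.MaximalClass

set_option autoImplicit false
open Cfsg

namespace Cfsg.Agent.S0662

/-- In a p-group of maximal class of order at least p³ the normal subgroups of index at least p² are exactly the terms of the lower central series, and there are exactly p + 1 normal subgroups of index p. -/
theorem result {G : Type*} [Group G] [Finite G] {p : ℕ} [Fact p.Prime] (n : ℕ) (hG : Nat.card G = p ^ n) (hcl : Group.nilpotencyClass G = n - 1) (hn : 3 ≤ n) : (∀ (N : Subgroup G) [N.Normal] (r : ℕ), 2 ≤ r → N.index = p ^ r → N = (⊤ : Subgroup G).lowerCentralSeries (r - 1)) ∧ Nat.card {N : Subgroup G // N.Normal ∧ N.index = p} = p + 1 := by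
  have hp1 : p.Prime := Fact.out
  have hP : IsPGroup p G := IsPGroup.of_card hG
  haveI := hP.isNilpotent
  have hcard := CfsgLib.MaxClass.card_lcs_eq hG hcl hn
  refine ⟨fun N _ r hr hidx => ?_, ?_⟩
  · have hrn : r ≤ n := (Nat.pow_dvd_pow_iff_le_right hp1.one_lt).mp
      (by rw [← hidx, ← hG]; exact N.index_dvd_card)
    have hQ : Nat.card (G ⧸ N) = p ^ r := hidx
    have h1 := CfsgLib.MaxClass.card_lcs_succ_le hQ (r - 2)
    rw [Nat.sub_self, pow_zero, show r - 2 + 1 = r - 1 by omega] at h1
    have hbot : (⊤ : Subgroup (G ⧸ N)).lowerCentralSeries (r - 1) = ⊥ := Subgroup.eq_bot_of_card_le _ h1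
    have hle : (⊤ : Subgroup G).lowerCentralSeries (r - 1) ≤ N := by
      have h2 : ((⊤ : Subgroup G).lowerCentralSeries (r - 1)).map (QuotientGroup.mk' N) = ⊥ := by
        rw [Subgroup.map_lowerCentralSeries, Subgroup.map_top_of_surjective _ (QuotientGroup.mk'_surjective N)]
        exact hbot
      rwa [Subgroup.map_eq_bot_iff, QuotientGroup.ker_mk'] at h2
    refine (Subgroup.eq_of_le_of_card_ge hle ?_).symm
    have h3 := N.card_mul_index
    rw [hidx, hG, show p ^ n = p ^ (n - r) * p ^ r by rw [← pow_add, Nat.sub_add_cancel hrn]] at h3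
    rw [show r - 1 = r - 2 + 1 by omega, hcard (r - 2) (by omega),
      Nat.eq_of_mul_eq_mul_right (pow_pos hp1.pos r) h3]
    exact (congrArg _ (by omega)).le
  · set D := commutator G with hD
    have hDcard : Nat.card D = p ^ (n - 2) := by
      rw [hD, ← Subgroup.top_lowerCentralSeries_one]
      exact hcard 0 (by omega)
    have hQ : Nat.card (G ⧸ D) = p ^ 2 := by
      have h1 := D.card_mul_index
      rw [hDcard, hG, show p ^ n = p ^ (n - 2) * p ^ 2 by rw [← pow_add, Nat.sub_add_cancel (by omega)]] at h1
      exact Nat.eq_of_mul_eq_mul_left (pow_pos hp1.pos _) h1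
    have hexp : ∀ x : G ⧸ D, x ^ p = 1 := by
      intro x
      by_contra hx
      have hle : D ⊔ frattini G ≤ frattini G := sup_le (CfsgLib.PSolvable.commutator_le_frattini hP).1 le_rfl
      obtain ⟨g, rfl⟩ := QuotientGroup.mk'_surjective D x
      have hord : orderOf (QuotientGroup.mk' D g) = p ^ 2 := by
        obtain ⟨k, hk⟩ := IsPGroup.iff_orderOf.mp (hP.to_quotient D) (QuotientGroup.mk' D g)
        have h2 : k ≤ 2 := (Nat.pow_dvd_pow_iff_le_right hp1.one_lt).mp
          (by rw [← hk, ← hQ]; exact orderOf_dvd_natCard _)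
        rcases Nat.lt_or_ge k 2 with h3 | h3
        · exfalso
          apply hx
          rw [← orderOf_dvd_iff_pow_eq_one, hk]
          exact (pow_dvd_pow p (by omega : k ≤ 1)).trans (by rw [pow_one])
        · rw [hk, show k = 2 by omega]
      have hz : Subgroup.zpowers (QuotientGroup.mk' D g) = ⊤ :=
        Subgroup.eq_top_of_card_eq _ (by rw [Nat.card_zpowers, hord, hQ])
      have hg : Subgroup.zpowers g ⊔ D = ⊤ := by
        have h4 := congrArg (Subgroup.comap (QuotientGroup.mk' D)) hz
        rwa [← MonoidHom.map_zpowers, Subgroup.comap_map_eq, Subgroup.comap_top,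
          QuotientGroup.ker_mk'] at h4
      have htop : Subgroup.zpowers g = ⊤ := frattini_nongenerating
        (le_antisymm le_top (hg.ge.trans (sup_le_sup_left (le_sup_left.trans hle) _)))
      have hab : D = ⊥ := by
        rw [hD, commutator_def, Subgroup.commutator_eq_bot_iff_le_centralizer, ← htop]
        exact Subgroup.le_centralizer _
      rw [hab, Subgroup.card_bot] at hDcard
      exact (Nat.one_lt_pow (show n - 2 ≠ 0 by omega) hp1.one_lt).ne hDcard
    rw [← CfsgLib.MaxClass.card_lines hQ hexp]
    set f := QuotientGroup.mk' D with hf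
    have hsurj : Function.Surjective f := QuotientGroup.mk'_surjective D
    haveI : IsMulCommutative (G ⧸ D) := IsPGroup.isMulCommutative_of_card_eq_prime_sq hQ
    have hDle : ∀ N : Subgroup G, N.Normal → N.index = p → D ≤ N := fun N hNn hNi => by
      haveI := hNn
      haveI : IsCyclic (G ⧸ N) := isCyclic_of_prime_card (p := p) hNi
      haveI : IsMulCommutative (G ⧸ N) := ⟨⟨fun a b => (IsCyclic.commGroup (α := G ⧸ N)).mul_comm a b⟩⟩
      exact Subgroup.Normal.quotient_commutative_iff_commutator_le.mp inferInstance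
    have hcardmap : ∀ L : Subgroup (G ⧸ D), (L.comap f).index = p ↔ Nat.card L = p := fun L => by
      rw [Subgroup.index_comap_of_surjective L hsurj]
      have h1 := L.card_mul_index
      rw [hQ] at h1
      constructor <;> intro h <;> rw [h, pow_two] at h1
      · exact Nat.eq_of_mul_eq_mul_right hp1.pos h1
      · exact Nat.eq_of_mul_eq_mul_left hp1.pos h1
    exact Nat.card_congr
      { toFun := fun N => ⟨N.1.map f, (hcardmap _).mp (by
          rw [Subgroup.comap_map_eq, hf, QuotientGroup.ker_mk', sup_eq_left.mpr (hDle N.1 N.2.1 N.2.2)]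
          exact N.2.2)⟩
        invFun := fun L => ⟨L.1.comap f,
          ⟨(Subgroup.normal_of_comm L.1).comap f, (hcardmap L.1).mpr L.2⟩⟩
        left_inv := fun N => Subtype.ext (by
          show (N.1.map f).comap f = N.1
          rw [Subgroup.comap_map_eq, hf, QuotientGroup.ker_mk', sup_eq_left.mpr (hDle N.1 N.2.1 N.2.2)])
        right_inv := fun L => Subtype.ext (Subgroup.map_comap_eq_self_of_surjective hsurj L.1) }

end Cfsg.Agent.S0662
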