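import Cfsg.Statements.S0663
import Cfsg.Agent.Lib.PGroup.Uniserial

set_option autoImplicit false
open Cfsg

namespace Cfsg.Agent.S0663

/-- A p-group acts uniserially on a p-group N of order p^n exactly when the iterated commutator chain from N has length n; in that case the chain terms are all the invariant subgroups of N and they are normal in N. -/
theorem result {L : Type*} [Group L] [Finite L] {p : ℕ} [Fact p.Prime] (N G : Subgroup L) (hN : IsPGroup p N) (hG : IsPGroup p G) (hGN : G ≤ Subgroup.normalizer (N : Set L)) (n : ℕ) (hn : Nat.card N = p ^ n) : ((∀ H : Subgroup L, H ≤ N → G ≤ Subgroup.normalizer (H : Set L) → H ≠ ⊥ → (⁅H, G⁆).relIndex H = p) ↔ Cfsg.iterCommutator N G (n - 1) ≠ ⊥ ∨ n = 0) ∧ ((∀ H : Subgroup L, H ≤ N → G ≤ Subgroup.normalizer (H : Set L) → H ≠ ⊥ → (⁅H, G⁆).relIndex H = p) → ∀ H : Subgroup L, H ≤ N → G ≤ Subgroup.normalizer (H : Set L) → (∃ i ≤ n, H = Cfsg.iterCommutator N G i) ∧ N ≤ Subgroup.normalizer (H : Set L)) := by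
  have hp1 : p.Prime := Fact.out
  have hfwd : (∀ H : Subgroup L, H ≤ N → G ≤ Subgroup.normalizer (H : Set L) → H ≠ ⊥ →
      (⁅H, G⁆).relIndex H = p) → Cfsg.iterCommutator N G (n - 1) ≠ ⊥ ∨ n = 0 := by
    intro hU
    by_cases hn0 : n = 0
    · exact Or.inr hn0
    left
    have key : ∀ i, i ≤ n - 1 → Nat.card ↥(Cfsg.iterCommutator N G i) = p ^ (n - i) := by
      intro i
      induction i with
      | zero => intro _; exact hn
      | succ i ih =>
        intro hi
        have h1 := ih (by omega)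
        have hne : Cfsg.iterCommutator N G i ≠ ⊥ := fun h0 => by
          rw [h0, Subgroup.card_bot] at h1
          exact (Nat.one_lt_pow (show n - i ≠ 0 by omega) hp1.one_lt).ne h1
        have h2 := hU _ (CfsgLib.Uniserial.iter_le hGN i) (CfsgLib.Uniserial.iter_invariant hGN i) hne
        have hle := CfsgLib.Uniserial.iter_succ_le (G := G) hGN i
        have h3 := Subgroup.card_mul_index
          ((Cfsg.iterCommutator N G (i + 1)).subgroupOf (Cfsg.iterCommutator N G i))
        rw [Nat.card_congr (Subgroup.subgroupOfEquivOfLe hle).toEquiv] at h3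
        change _ * (⁅Cfsg.iterCommutator N G i, G⁆).relIndex (Cfsg.iterCommutator N G i) = _ at h3
        rw [h2, h1, show n - i = n - (i + 1) + 1 by omega, pow_succ] at h3
        exact Nat.eq_of_mul_eq_mul_right hp1.pos h3
    intro h0
    have h1 := key (n - 1) le_rfl
    rw [h0, Subgroup.card_bot] at h1
    exact (Nat.one_lt_pow (show n - (n - 1) ≠ 0 by omega) hp1.one_lt).ne h1
  refine ⟨⟨hfwd, fun h H hH hGH hne => ?_⟩, fun hU H hH hGH => ?_⟩
  · obtain ⟨hcard, hclass⟩ := CfsgLib.Uniserial.long_chain hG hN hGN hn h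
    obtain ⟨i, hi, rfl⟩ := hclass H hH hGH
    have hin : i < n := by
      by_contra hge
      refine hne (Subgroup.card_eq_one.mp ?_)
      rw [hcard i hi, show n - i = 0 by omega, pow_zero]
    have hle := CfsgLib.Uniserial.iter_succ_le (G := G) hGN i
    have h3 := Subgroup.card_mul_index
      ((Cfsg.iterCommutator N G (i + 1)).subgroupOf (Cfsg.iterCommutator N G i))
    rw [Nat.card_congr (Subgroup.subgroupOfEquivOfLe hle).toEquiv, hcard i hi, hcard (i + 1) hin,
      show n - i = n - (i + 1) + 1 by omega, pow_succ] at h3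
    exact Nat.eq_of_mul_eq_mul_left (pow_pos hp1.pos _) h3
  · obtain ⟨i, hi, rfl⟩ := (CfsgLib.Uniserial.long_chain hG hN hGN hn (hfwd hU)).2 H hH hGH
    exact ⟨⟨i, hi, rfl⟩, CfsgLib.Uniserial.chain_normal hG hN hGN hn (hfwd hU) i hi⟩

end Cfsg.Agent.S0663
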