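import Cfsg.Statements.S0668

set_option autoImplicit false
open Cfsg

namespace Cfsg.Agent.S0668

open MulAction

variable (G : Type*) [Group G] (K : Type*) [Field K] (Ω₁ Ω₂ : Type*) [Fintype Ω₁] [Fintype Ω₂]
  [MulAction G Ω₁] [MulAction G Ω₂]

theorem single_smul [DecidableEq Ω₁] (g : G) (x : Ω₁) :
    Cfsg.permRep K G Ω₁ g (Pi.single x (1 : K)) = Pi.single (g • x) 1 := by
  funext z
  show (Pi.single x (1 : K) : Ω₁ → K) (g⁻¹ • z) = _
  simp [Pi.single_apply, inv_smul_eq_iff]

theorem mem_inv (f : (Ω₁ → K) →ₗ[K] (Ω₂ → K))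
    (hf : f ∈ ((Cfsg.permRep K G Ω₁).linHom (Cfsg.permRep K G Ω₂)).invariants) [DecidableEq Ω₁]
    (g : G) (x : Ω₁) (y : Ω₂) : f (Pi.single (g • x) 1) (g • y) = f (Pi.single x 1) y := by
  have h := congrFun (LinearMap.congr_fun (hf g⁻¹) (Pi.single x (1 : K))) y
  rw [Representation.linHom_apply] at h
  simp only [LinearMap.comp_apply, inv_inv, single_smul] at h
  simpa [Cfsg.permRep] using h

open scoped Classical in
noncomputable def toFun : ((Cfsg.permRep K G Ω₁).linHom (Cfsg.permRep K G Ω₂)).invariants ≃ₗ[K]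
    (MulAction.orbitRel.Quotient G (Ω₁ × Ω₂) → K) where
  toFun f q := Quotient.liftOn' q (fun p => f.1 (Pi.single p.1 1) p.2) (by
    rintro a b ⟨g, rfl⟩
    exact mem_inv G K Ω₁ Ω₂ f.1 f.2 g b.1 b.2)
  map_add' f f' := by
    funext q; induction q using Quotient.inductionOn'; rfl
  map_smul' c f := by
    funext q; induction q using Quotient.inductionOn'; rfl
  invFun h := ⟨
    { toFun := fun v y => ∑ x, v x * h (Quotient.mk'' (x, y))
      map_add' := fun v w => by funext y; simp [add_mul, Finset.sum_add_distrib]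
      map_smul' := fun c v => by funext y; simp [Finset.mul_sum, mul_assoc] }, by
    intro g
    refine LinearMap.ext fun v => funext fun y => ?_
    show ∑ x, v ((g⁻¹)⁻¹ • x) * h (Quotient.mk'' (x, g⁻¹ • y)) = ∑ x, v x * h (Quotient.mk'' (x, y))
    refine Fintype.sum_equiv (MulAction.toPerm g) _ _ fun x => ?_
    have he : (Quotient.mk'' (x, g⁻¹ • y) : MulAction.orbitRel.Quotient G (Ω₁ × Ω₂))
        = Quotient.mk'' (g • x, y) := Quotient.eq''.2 ⟨g⁻¹, by simp⟩
    simp [he]⟩
  left_inv f := by
    refine Subtype.ext (LinearMap.ext fun v => funext fun y => ?_)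
    show ∑ x, v x * f.1 (Pi.single x 1) y = f.1 v y
    have hv : v = ∑ x, v x • (Pi.single x (1 : K) : Ω₁ → K) := by
      funext z; simp [Pi.single_apply]
    conv_rhs => rw [hv]
    simp [Finset.sum_apply]
  right_inv h := by
    funext q
    induction q using Quotient.inductionOn' with
    | h p =>
      show ∑ x, (Pi.single p.1 (1 : K) : Ω₁ → K) x * h (Quotient.mk'' (x, p.2)) = h (Quotient.mk'' p)
      simp [Pi.single_apply]


/-- The equivariant linear maps between the permutation modules of two finite `G`-sets form a space whose dimension is the number of `G`-orbits on the product of the two sets. -/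
theorem result {G : Type*} [Group G] {K : Type*} [Field K] {Ω₁ Ω₂ : Type*} [Fintype Ω₁] [Fintype Ω₂] [MulAction G Ω₁] [MulAction G Ω₂] : Module.finrank K ((Cfsg.permRep K G Ω₁).linHom (Cfsg.permRep K G Ω₂)).invariants = Nat.card (MulAction.orbitRel.Quotient G (Ω₁ × Ω₂)) := by
  classical
  letI : Fintype (MulAction.orbitRel.Quotient G (Ω₁ × Ω₂)) := Fintype.ofFinite _
  rw [Nat.card_eq_fintype_card, ← Module.finrank_fintype_fun_eq_card K]
  exact LinearEquiv.finrank_eq (toFun G K Ω₁ Ω₂)

end Cfsg.Agent.S0668
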