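import Cfsg.Statements.S0669
import Mathlib

set_option autoImplicit false
open Cfsg

namespace Cfsg.Agent.S0669

/-- The rank of a transitive action: orbits on ordered pairs correspond to orbits of a point stabiliser. -/
theorem result {G : Type*} [Group G] {Ω : Type*} [Finite Ω] [MulAction G Ω] [MulAction.IsPretransitive G Ω] (a : Ω) : Nat.card (MulAction.orbitRel.Quotient G (Ω × Ω)) = Nat.card (MulAction.orbitRel.Quotient (MulAction.stabilizer G a) Ω) := by
  refine (Nat.card_congr (Equiv.ofBijective
    (Quotient.map' (fun ω : Ω => (a, ω)) ?_ :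
      MulAction.orbitRel.Quotient (MulAction.stabilizer G a) Ω → MulAction.orbitRel.Quotient G (Ω × Ω))
    ⟨?_, ?_⟩)).symm
  · intro ω ω' h
    obtain ⟨g, hg⟩ := MulAction.orbitRel_apply.1 h
    refine MulAction.orbitRel_apply.2 ⟨(g : G), ?_⟩
    exact Prod.ext g.2 hg
  · intro u v
    induction u using Quotient.inductionOn' with | h x => ?_
    induction v using Quotient.inductionOn' with | h y => ?_
    intro h
    simp only [Quotient.map'_mk''] at h
    obtain ⟨g, hg⟩ := MulAction.orbitRel_apply.1 (Quotient.eq''.1 h)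
    refine Quotient.eq''.2 (MulAction.orbitRel_apply.2 ⟨⟨g, ?_⟩, ?_⟩)
    · exact congrArg Prod.fst hg
    · exact congrArg Prod.snd hg
  · intro u
    induction u using Quotient.inductionOn' with | h p => ?_
    obtain ⟨b, c⟩ := p
    obtain ⟨g, hg⟩ := MulAction.exists_smul_eq G b a
    refine ⟨Quotient.mk'' (g • c), ?_⟩
    simp only [Quotient.map'_mk'']
    exact Quotient.eq''.2 (MulAction.orbitRel_apply.2 ⟨g, Prod.ext hg rfl⟩)

end Cfsg.Agent.S0669
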