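import Cfsg.Statements.S0677
import Cfsg.Agent.S0676
import Cfsg.Agent.S0675
import Mathlib.GroupTheory.GroupAction.Primitive

set_option autoImplicit false
open Cfsg

namespace Cfsg.Agent.S0677

open scoped Pointwise

theorem parity {p : ℕ} [Fact p.Prime] [DecidableEq (ZMod p)] (h2 : (2 : ZMod p) ≠ 0) (D : Finset (ZMod p))
    (hsym : ∀ j, -j ∈ D ↔ j ∈ D) (d : ZMod p) :
    (D.filter fun j => j + d ∈ D).card % 2 = if d / 2 ∈ D then 1 else 0 := by
  set S := D.filter fun j => j + d ∈ D with hS
  have hinv : ∀ j ∈ S, -j - d ∈ S := by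
    intro j hj
    simp only [hS, Finset.mem_filter] at hj ⊢
    refine ⟨?_, ?_⟩
    · rw [show -j - d = -(j + d) by ring]; exact (hsym _).2 hj.2
    · rw [show -j - d + d = -j by ring]; exact (hsym _).2 hj.1
  have hfixed : ∀ j, -j - d = j ↔ j = -(d / 2) := by
    intro j
    constructor
    · intro h
      field_simp
      linear_combination -h
    · rintro rfl
      field_simp
      ring
  have key : ((∑ j ∈ S.filter (fun j => j ≠ -(d / 2)), (1 : ZMod 2))) = 0 := by
    refine Finset.sum_involution (fun j _ => -j - d) (fun j _ => by decide) ?_ ?_ ?_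
    · intro j hj _ h
      exact (Finset.mem_filter.1 hj).2 ((hfixed j).1 h)
    · intro j hj
      obtain ⟨h1, h2⟩ := Finset.mem_filter.1 hj
      refine Finset.mem_filter.2 ⟨hinv j h1, fun h => h2 ?_⟩
      rw [show j = -(-j - d) - d by ring, h]
      exact (hfixed _).2 rfl
    · intro j _
      ring
  rw [Finset.sum_const, nsmul_eq_mul, mul_one, ZMod.natCast_eq_zero_iff] at key
  have hmem : -(d / 2) ∈ S ↔ d / 2 ∈ D := by
    simp only [hS, Finset.mem_filter]
    rw [show -(d / 2) + d = d / 2 by field_simp; ring, hsym, and_self]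
  have hsplit := Finset.card_filter_add_card_filter_not (s := S) (fun j => j ≠ -(d / 2))
  have hrest : (S.filter fun j => ¬ j ≠ -(d / 2)).card = if d / 2 ∈ D then 1 else 0 := by
    simp only [not_not, Finset.filter_eq', hmem]
    split_ifs <;> simp
  rw [hrest] at hsplit
  obtain ⟨m, hm⟩ := key
  split_ifs at hsplit ⊢ <;> omega

variable {α : Type*} [Fintype α] [DecidableEq α] {p : ℕ} [Fact p.Prime]

theorem exists_normal_abelian {G : Type*} [Group G] [Group.IsSolvable G] [Nontrivial G] :
    ∃ N : Subgroup G, N.Normal ∧ N ≠ ⊥ ∧ IsMulCommutative N := by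
  classical
  obtain ⟨n, hn⟩ := (Group.isSolvable_def G).1 inferInstance
  have hex : ∃ k, derivedSeries G k = ⊥ := ⟨n, hn⟩
  set k := Nat.find hex with hk
  have hk0 : k ≠ 0 := fun h => by
    have := Nat.find_spec hex
    rw [← hk, h, derivedSeries_zero] at this
    exact top_ne_bot this
  obtain ⟨m, hm⟩ := Nat.exists_eq_succ_of_ne_zero hk0
  refine ⟨derivedSeries G m, derivedSeries_normal G m, Nat.find_min hex (by omega), ?_⟩
  have h := Nat.find_spec hex
  rw [← hk, hm, derivedSeries_succ] at h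
  refine ⟨⟨fun a b => Subtype.ext ?_⟩⟩
  have := Subgroup.commutator_mem_commutator a.2 b.2
  rw [h, Subgroup.mem_bot, commutatorElement_eq_one_iff_mul_comm] at this
  exact this

theorem commute_of_solvable (hα : Fintype.card α = p) (G : Subgroup (Equiv.Perm α))
    [MulAction.IsPretransitive G α] (hsol : Group.IsSolvable G) (x : G) (e : ZMod p ≃ α)
    (he : ∀ i, (x : Equiv.Perm α) (e i) = e (i + 1)) (H : Subgroup G) (hH : ¬ p ∣ Nat.card H) :
    ∀ a ∈ H, ∀ b ∈ H, a * b = b * a := by
  classical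
  have hp := (Fact.out : p.Prime)
  haveI := hsol
  haveI : Nontrivial G := ⟨⟨x, 1, fun h => by
    have := he 0
    rw [h] at this
    exact zero_ne_one ((e.injective this).trans (zero_add 1))⟩⟩
  obtain ⟨N, hN, hN0, hNc⟩ := exists_normal_abelian (G := G)
  haveI := hN
  haveI : MulAction.IsPreprimitive G α := MulAction.IsPreprimitive.of_prime_card (by
    rw [Nat.card_eq_fintype_card, hα]; exact hp)
  haveI : MulAction.IsPretransitive N α := by
    refine MulAction.IsQuasiPreprimitive.isPretransitive_of_normal (G := G) ?_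
    intro h
    apply hN0
    refine (Subgroup.eq_bot_iff_forall _).2 fun n hn => Subtype.ext (Equiv.ext fun a => ?_)
    exact (Set.eq_univ_iff_forall.1 h a) ⟨n, hn⟩
  have hreg : ∀ n : N, ∀ a : α, n • a = a → n = 1 := by
    intro n a h
    refine Subtype.ext (Subtype.ext (Equiv.ext fun b => ?_))
    obtain ⟨m, rfl⟩ := MulAction.exists_smul_eq N a b
    show n • m • a = m • a
    rw [← mul_smul, hNc.is_comm.comm n m, mul_smul, h]
  haveI : Nonempty α := Fintype.card_pos_iff.1 (hα ▸ hp.pos)
  have hNp : Nat.card N = p := by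
    rw [← hα, ← Nat.card_eq_fintype_card]
    exact Nat.card_eq_of_bijective (fun n : N => n • Classical.arbitrary α) ⟨fun a b h => by
      have := hreg (b⁻¹ * a) (Classical.arbitrary α) (by rw [mul_smul]; exact inv_smul_eq_iff.2 h)
      exact (inv_mul_eq_one.1 this).symm, fun b => MulAction.exists_smul_eq N _ b⟩
  haveI : Nontrivial N := (Subgroup.nontrivial_iff_ne_bot N).2 hN0
  obtain ⟨n₀, hn₀⟩ := exists_ne (1 : N)
  have hcyc : ∀ n : N, n ∈ Subgroup.zpowers n₀ := by
    intro n
    rw [show Subgroup.zpowers n₀ = ⊤ from (Subgroup.eq_bot_or_eq_top_of_prime_card (hp := ⟨by rw [hNp]; exact hp⟩) _).resolve_left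
      (Subgroup.zpowers_ne_bot.2 hn₀)]
    trivial
  -- conjugation exponents
  have hconj : ∀ a : G, ∃ s : ℤ, a * (n₀ : G) * a⁻¹ = (n₀ : G) ^ s := by
    intro a
    obtain ⟨s, hs⟩ := Subgroup.mem_zpowers_iff.1 (hcyc ⟨_, hN.conj_mem _ n₀.2 a⟩)
    exact ⟨s, (congrArg Subtype.val hs).symm⟩
  intro a ha b hb
  obtain ⟨s, hs⟩ := hconj a
  obtain ⟨t, ht⟩ := hconj b
  have hc : Commute (a * b * a⁻¹ * b⁻¹) (n₀ : G) := by
    have hab : (a * b) * (n₀ : G) * (a * b)⁻¹ = (b * a) * (n₀ : G) * (b * a)⁻¹ := by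
      rw [mul_inv_rev, mul_inv_rev, show a * b * (n₀ : G) * (b⁻¹ * a⁻¹) = a * (b * (n₀ : G) * b⁻¹) * a⁻¹ by group,
        show b * a * (n₀ : G) * (a⁻¹ * b⁻¹) = b * (a * (n₀ : G) * a⁻¹) * b⁻¹ by group, ht, hs,
        ← conj_zpow, ← conj_zpow, hs, ht, ← zpow_mul, ← zpow_mul, mul_comm]
    show a * b * a⁻¹ * b⁻¹ * (n₀ : G) = (n₀ : G) * (a * b * a⁻¹ * b⁻¹)
    calc a * b * a⁻¹ * b⁻¹ * (n₀ : G) = (a * b) * ((b * a)⁻¹ * (n₀ : G) * (b * a)) * (b * a)⁻¹ := by group
      _ = (a * b) * ((a * b)⁻¹ * (n₀ : G) * (a * b)) * (b * a)⁻¹ := by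
        congr 2
        have h3 : ((a * b)⁻¹ * (n₀ : G) * (a * b)) = (b * a)⁻¹ * (n₀ : G) * (b * a) := by
          obtain ⟨u, hu⟩ := hconj (a * b)
          obtain ⟨v, hv⟩ := hconj (b * a)
          obtain ⟨k, hk⟩ := Subgroup.mem_zpowers_iff.1 (hcyc ⟨_, hN.conj_mem _ n₀.2 (a * b)⁻¹⟩)
          have hk' : (n₀ : G) ^ k = (a * b)⁻¹ * (n₀ : G) * (a * b) := by
            have := congrArg Subtype.val hk
            simpa using this
          rw [← hk']
          have h4 : (n₀ : G) = (a * b) * (n₀ : G) ^ k * (a * b)⁻¹ := by rw [hk']; group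
          rw [← conj_zpow, hab, conj_zpow] at h4
          conv_rhs => rw [h4]
          group
        exact h3.symm
      _ = (n₀ : G) * (a * b * a⁻¹ * b⁻¹) := by group
  -- an element commuting with the regular subgroup lies in it
  have hmemN : a * b * a⁻¹ * b⁻¹ ∈ N := by
    set c := a * b * a⁻¹ * b⁻¹
    let a0 : α := Classical.arbitrary α
    obtain ⟨m, hm⟩ := MulAction.exists_smul_eq N a0 (c • a0)
    have hcN : ∀ n : N, Commute c (n : G) := by
      intro n
      obtain ⟨i, rfl⟩ := Subgroup.mem_zpowers_iff.1 (hcyc n)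
      rw [Subgroup.coe_zpow]
      exact hc.zpow_right i
    have : c = (m : G) := by
      refine Subtype.ext (Equiv.ext fun y => ?_)
      obtain ⟨n, rfl⟩ := MulAction.exists_smul_eq N a0 y
      show c • (n : G) • a0 = (m : G) • (n : G) • a0
      rw [← mul_smul, (hcN n).eq, mul_smul, show c • a0 = (m : G) • a0 from hm.symm, ← mul_smul, ← mul_smul]
      congr 1
      exact congrArg Subtype.val (hNc.is_comm.comm n m)
    rw [this]
    exact m.2
  have hcH : a * b * a⁻¹ * b⁻¹ ∈ H := H.mul_mem (H.mul_mem (H.mul_mem ha hb) (H.inv_mem ha)) (H.inv_mem hb)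
  have h1 : a * b * a⁻¹ * b⁻¹ = 1 := by
    by_contra hne
    apply hH
    have hd : orderOf (a * b * a⁻¹ * b⁻¹) ∣ p := hNp ▸ Subgroup.orderOf_dvd_natCard N hmemN
    rcases (Nat.dvd_prime hp).1 hd with h | h
    · exact absurd (orderOf_eq_one_iff.1 h) hne
    · exact h ▸ Subgroup.orderOf_dvd_natCard H hcH
  rw [← commutatorElement_def, commutatorElement_eq_one_iff_mul_comm] at h1
  exact h1


/-- In a transitive permutation group of prime degree `p` whose Sylow `p`-normaliser has even order, the point stabilisers are the only subgroups of index `p`. -/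
theorem result {α : Type*} [Fintype α] [DecidableEq α] {p : ℕ} [Fact p.Prime] (hα : Fintype.card α = p) (G : Subgroup (Equiv.Perm α)) [MulAction.IsPretransitive G α] (P : Sylow p G) (heven : Even (Nat.card (Subgroup.normalizer ((P : Subgroup G) : Set G)))) (H : Subgroup G) (hH : H.index = p) : ∃ a : α, H = MulAction.stabilizer G a := by
  classical
  have hp := (Fact.out : p.Prime)
  haveI : NeZero p := ⟨hp.ne_zero⟩
  haveI : Nonempty α := Fintype.card_pos_iff.1 (hα ▸ hp.pos)
  have hGp : p ∣ Nat.card G := hH ▸ H.index_dvd_card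
  have hsq : ¬ p ^ 2 ∣ Nat.card G := by
    intro h
    have h1 := h.trans (show Nat.card G ∣ p.factorial by
      have := Subgroup.card_subgroup_dvd_card G
      rwa [Nat.card_perm, Nat.card_eq_fintype_card (α := α), hα] at this)
    obtain ⟨m, hm⟩ : ∃ m, p = m + 1 := ⟨p - 1, (Nat.sub_add_cancel hp.pos).symm⟩
    rw [hm, Nat.factorial_succ, sq] at h1
    have h3 := Nat.dvd_of_mul_dvd_mul_left (Nat.succ_pos m) h1
    rw [← hm] at h3
    exact absurd ((hp.dvd_factorial).1 h3) (by omega)
  have hHp : ∀ K : Subgroup G, K.index = p → ¬ p ∣ Nat.card K := by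
    intro K hK h
    exact hsq (by rw [sq, ← K.card_mul_index, hK]; exact mul_dvd_mul_right h p)
  by_cases hp2 : p = 2
  · subst hp2
    obtain ⟨a⟩ := ‹Nonempty α›
    have h2 : Nat.card G = 2 := le_antisymm (Nat.le_of_dvd (by norm_num) (by
      have := Subgroup.card_subgroup_dvd_card G
      rwa [Nat.card_perm, Nat.card_eq_fintype_card (α := α), hα] at this)) (Nat.le_of_dvd Nat.card_pos hGp)
    have hbot : ∀ K : Subgroup G, K.index = 2 → K = ⊥ := by
      intro K hK
      have := K.card_mul_index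
      rw [hK, h2] at this
      exact Subgroup.eq_bot_of_card_eq _ (by omega)
    refine ⟨a, (hbot H hH).trans (hbot _ ?_).symm⟩
    rw [MulAction.index_stabilizer_of_transitive, Nat.card_eq_fintype_card, hα]
  have hp3 : 3 ≤ p := by have := hp.two_le; omega
  obtain ⟨x, e, he, w, hw⟩ := Cfsg.Agent.S0676.coordinates hα G (Ne.symm hp2) P heven
  have hwe0 : w • e 0 = e 0 := by
    show (w : Equiv.Perm α) (e 0) = e 0
    rw [hw, neg_zero]
  have h2zmod : (2 : ZMod p) ≠ 0 := by
    intro h3
    have h4 : ((2 : ℕ) : ZMod p) = 0 := by exact_mod_cast h3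
    rw [ZMod.natCast_eq_zero_iff] at h4
    have := Nat.le_of_dvd (by norm_num) h4
    omega
  have hw2 : w * w = 1 := Subtype.ext (Equiv.ext fun a => by
    rw [← e.apply_symm_apply a]
    show (w : Equiv.Perm α) ((w : Equiv.Perm α) _) = _
    rw [hw, hw, neg_neg]
    rfl)
  have hxpow : ∀ (n : ℕ) i, (x ^ n) • e i = e (i + n) := by
    intro n
    induction n with
    | zero => intro i; simp
    | succ n ih =>
      intro i
      rw [pow_succ', mul_smul, ih]
      show (x : Equiv.Perm α) _ = _
      rw [he, Nat.cast_succ, add_assoc]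
  -- a conjugate of `H` contains `w`
  obtain ⟨g, hg⟩ : ∃ g : G, g⁻¹ * w * g ∈ H := by
    have hP2 : IsPGroup 2 (Subgroup.zpowers w) := by
      intro ⟨y, hy⟩
      refine ⟨1, Subtype.ext ?_⟩
      obtain ⟨i, rfl⟩ := Subgroup.mem_zpowers_iff.1 hy
      show (w ^ i) ^ (2 ^ 1) = 1
      rw [pow_one, ← zpow_natCast, ← zpow_mul, mul_comm, zpow_mul, zpow_natCast, sq, hw2, one_zpow]
    haveI : Fact (Nat.Prime 2) := ⟨Nat.prime_two⟩
    obtain ⟨q, hq⟩ := hP2.nonempty_fixed_point_of_prime_not_dvd_card (G ⧸ H) (by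
      rw [← Subgroup.index_eq_card, hH]
      exact fun h => hp2 ((Nat.prime_dvd_prime_iff_eq Nat.prime_two hp).1 h).symm)
    induction q using QuotientGroup.induction_on with
    | H g =>
      refine ⟨g, ?_⟩
      have h1 := hq ⟨w, Subgroup.mem_zpowers w⟩
      have h2 := QuotientGroup.eq.1 (show ((w * g : G) : G ⧸ H) = g from h1)
      rw [mul_inv_rev] at h2
      have := H.inv_mem h2
      simpa [mul_assoc] using this
  set H' := H.map (MulAut.conj g).toMonoidHom with hH'
  have hH'i : H'.index = p := by rw [hH', MulEquiv.toMonoidHom_eq_coe, Subgroup.index_map_equiv, hH]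
  have hwH' : w ∈ H' := ⟨g⁻¹ * w * g, hg, by simp [mul_assoc]⟩
  suffices hfix : H' = MulAction.stabilizer G (e 0) by
    refine ⟨g⁻¹ • e 0, Subgroup.map_injective (f := (MulAut.conj g).toMonoidHom) (MulAut.conj g).injective ?_⟩
    rw [← hH', hfix, ← MulAction.stabilizer_smul_eq_stabilizer_map_conj, smul_inv_smul]
  suffices hle : H' ≤ MulAction.stabilizer G (e 0) by
    refine Subgroup.eq_of_le_of_card_ge hle ?_
    have h1 := H'.card_mul_index
    have h2 := (MulAction.stabilizer G (e 0)).card_mul_index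
    rw [hH'i] at h1
    rw [MulAction.index_stabilizer_of_transitive, Nat.card_eq_fintype_card (α := α), hα] at h2
    exact le_of_eq (Nat.eq_of_mul_eq_mul_right hp.pos (h2.trans h1.symm))
  have hwfix : ∀ a, w • a = a → a = e 0 := by
    intro a ha
    rw [← e.apply_symm_apply a] at ha ⊢
    have : (w : Equiv.Perm α) (e (e.symm a)) = e (e.symm a) := ha
    rw [hw] at this
    have h0 : (2 : ZMod p) * e.symm a = 0 := by linear_combination -(e.injective this)
    rw [(mul_eq_zero.1 h0).resolve_left h2zmod]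
  rcases Cfsg.Agent.S0675.result (hα ▸ hp) G with hsol | h2
  · -- soluble groups: the conjugate is abelian
    intro h hh
    have hab := commute_of_solvable hα G hsol x e he H' (hHp H' hH'i) h hh w hwH'
    rw [MulAction.mem_stabilizer_iff]
    refine hwfix _ ?_
    rw [← mul_smul, ← hab, mul_smul, hwe0]
  -- the orbit of the fixed point
  intro h hh
  set D := MulAction.orbit H' (e 0) with hD
  have hbij : Function.Bijective fun i : ZMod p => ((x ^ i.val : G) : G ⧸ H') := by
    rw [Fintype.bijective_iff_injective_and_card]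
    refine ⟨fun i j hij => ?_, by rw [ZMod.card, ← Nat.card_eq_fintype_card, ← Subgroup.index_eq_card, hH'i]⟩
    have hmem := QuotientGroup.eq.1 hij
    by_contra hne
    set y := (x ^ i.val)⁻¹ * x ^ j.val with hy
    have hxp : x ^ p = 1 := Subtype.ext (Equiv.ext fun a => by
      rw [← e.apply_symm_apply a]
      show (x ^ p) • e (e.symm a) = e (e.symm a)
      rw [hxpow, ZMod.natCast_self, add_zero])
    have hyp : y ^ p = 1 := by
      rw [hy, (((Commute.refl x).pow_pow i.val j.val).inv_left).mul_pow, inv_pow, ← pow_mul, ← pow_mul,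
        mul_comm i.val, mul_comm j.val, pow_mul, pow_mul, hxp, one_pow, one_pow, inv_one, one_mul]
    have hy1 : y ≠ 1 := by
      intro h1
      apply hne
      have h4 := congrArg (fun z : G => z • e 0) (inv_mul_eq_one.1 h1)
      simp only [hxpow, zero_add, ZMod.natCast_zmod_val] at h4
      exact e.injective h4
    exact hHp H' hH'i ((orderOf_eq_prime hyp hy1) ▸ Subgroup.orderOf_dvd_natCard H' hmem)
  let B : G ⧸ H' → Set α := fun q => Quotient.liftOn' q (fun k => k • D) (by
    intro k l hkl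
    rw [QuotientGroup.leftRel_apply] at hkl
    show k • D = l • D
    have : (k⁻¹ * l) • D = D := MulAction.smul_orbit (⟨_, hkl⟩ : H') (e 0)
    conv_lhs => rw [← this]
    rw [smul_smul, mul_inv_cancel_left])
  have hB : ∀ (k : G) q, B (k • q) = k • B q := by
    intro k q
    induction q using QuotientGroup.induction_on with
    | H l => exact mul_smul k l D
  set D' : Finset (ZMod p) := Finset.univ.filter fun i => e i ∈ D with hD'
  have hmemB : ∀ (i j : ZMod p), e j ∈ B ((x ^ i.val : G) : G ⧸ H') ↔ j - i ∈ D' := by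
    intro i j
    show e j ∈ (x ^ i.val) • D ↔ _
    rw [Set.mem_smul_set_iff_inv_smul_mem, show (x ^ i.val)⁻¹ • e j = e (j - i) by
      rw [inv_smul_eq_iff, hxpow, ZMod.natCast_zmod_val, sub_add_cancel]]
    simp [hD']
  let lam : ZMod p → ℕ := fun d => (D'.filter fun j => j + d ∈ D').card
  have hlam : ∀ d, lam d = Nat.card {q : G ⧸ H' // e 0 ∈ B q ∧ e d ∈ B q} := by
    intro d
    rw [← Nat.card_congr ((Equiv.ofBijective _ hbij).subtypeEquiv (p := fun i => 0 - i ∈ D' ∧ d - i ∈ D')
      (q := fun q => e 0 ∈ B q ∧ e d ∈ B q) fun i => by rw [Equiv.ofBijective_apply, hmemB, hmemB]),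
      Nat.card_eq_fintype_card, Fintype.card_subtype]
    refine Finset.card_bij (fun j _ => -j) ?_ ?_ ?_
    · intro j hj
      simp only [Finset.mem_filter] at hj
      simp only [Finset.mem_filter, Finset.mem_univ, true_and]
      rw [zero_sub, neg_neg, sub_neg_eq_add, add_comm d]
      exact hj
    · intro a _ b _ hab
      exact neg_injective hab
    · intro b hb
      simp only [Finset.mem_filter, Finset.mem_univ, true_and] at hb
      refine ⟨-b, ?_, neg_neg b⟩
      simp only [Finset.mem_filter]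
      rw [← zero_sub, show (0 - b) + d = d - b by ring]
      exact hb
  have hconst : ∀ d, d ≠ 0 → lam d = lam 1 := by
    intro d hd
    obtain ⟨k, k0, k1⟩ := MulAction.is_two_pretransitive_iff.1 h2 (e.injective.ne (zero_ne_one : (0 : ZMod p) ≠ 1))
      (e.injective.ne hd.symm)
    rw [hlam, hlam]
    refine (Nat.card_congr ((MulAction.toPerm k).subtypeEquiv fun q => ?_)).symm
    show _ ↔ e 0 ∈ B (k • q) ∧ e d ∈ B (k • q)
    rw [hB, Set.mem_smul_set_iff_inv_smul_mem, Set.mem_smul_set_iff_inv_smul_mem,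
      inv_smul_eq_iff.2 k0.symm, inv_smul_eq_iff.2 k1.symm]
  have hsym : ∀ j, -j ∈ D' ↔ j ∈ D' := by
    intro j
    simp only [hD', Finset.mem_filter, Finset.mem_univ, true_and]
    have h1 : ∀ a, a ∈ D → w • a ∈ D := fun a ha =>
      MulAction.mem_orbit_of_mem_orbit (⟨w, hwH'⟩ : H') ha
    constructor
    · intro hj
      have h3 := h1 _ hj
      rwa [show w • e (-j) = e j by show (w : Equiv.Perm α) _ = _; rw [hw, neg_neg]] at h3
    · intro hj
      have h3 := h1 _ hj
      rwa [show w • e j = e (-j) from hw j] at h3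
  have hpar := parity h2zmod D' hsym
  have hzero : (0 : ZMod p) ∈ D' := by simp [hD', hD, MulAction.mem_orbit_self]
  by_contra hmove
  obtain ⟨j, hj, hjne⟩ : ∃ j ∈ D', j ≠ 0 := by
    refine ⟨e.symm (h • e 0), ?_, fun h0 => hmove ?_⟩
    · simp only [hD', Finset.mem_filter, Finset.mem_univ, true_and, Equiv.apply_symm_apply]
      exact ⟨⟨h, hh⟩, rfl⟩
    · rw [MulAction.mem_stabilizer_iff]
      exact e.symm_apply_eq.1 h0
  have hall : ∀ i, i ∈ D' := by
    intro i
    rcases eq_or_ne i 0 with rfl | hi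
    · exact hzero
    have h1 := hpar (2 * j)
    have h3 := hpar (2 * i)
    rw [mul_div_cancel_left₀ _ h2zmod, if_pos hj] at h1
    rw [mul_div_cancel_left₀ _ h2zmod] at h3
    change lam (2 * j) % 2 = 1 at h1
    change lam (2 * i) % 2 = _ at h3
    rw [hconst _ (mul_ne_zero h2zmod hjne)] at h1
    rw [hconst _ (mul_ne_zero h2zmod hi), h1] at h3
    by_contra hni
    rw [if_neg hni] at h3
    exact one_ne_zero h3
  have htr : ∀ a, a ∈ D := fun a => by
    have := hall (e.symm a)
    simpa [hD'] using this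
  apply hHp H' hH'i
  rw [show p = Nat.card D by rw [Nat.card_coe_set_eq, Set.eq_univ_of_forall htr, Set.ncard_univ, Nat.card_eq_fintype_card, hα]]
  rw [Nat.card_congr (MulAction.orbitEquivQuotientStabilizer H' (e 0)), ← Subgroup.index_eq_card]
  exact Subgroup.index_dvd_card _

end Cfsg.Agent.S0677
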