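import Cfsg.Statements.S0679
import Cfsg.Agent.Lib.Perm.DegreeElevenSharp
import Cfsg.Agent.S0498

set_option autoImplicit false
open Cfsg

namespace Cfsg.Agent.S0679

/-- A non-solvable transitive permutation group on 11 points that does not contain the alternating group is either sharply 4-transitive (of order 7920) or isomorphic to the projective special linear group of degree 2 over the field with 11 elements. -/
theorem result {α : Type*} [Fintype α] [DecidableEq α] (hα : Fintype.card α = 11) (G : Subgroup (Equiv.Perm α)) [MulAction.IsPretransitive G α] (hG : ¬ Group.IsSolvable G) (hA : ¬ alternatingGroup α ≤ G) : (MulAction.IsMultiplyPretransitive G α 4 ∧ ∀ x : Fin 4 ↪ α, MulAction.stabilizer G x = ⊥) ∨ Nonempty (G ≃* Matrix.ProjectiveSpecialLinearGroup (Fin 2) (ZMod 11)) := by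
  classical
  have hp : (Fintype.card α).Prime := by rw [hα]; norm_num
  have h2 := (Cfsg.Agent.S0675.result hp G).resolve_left hG
  have hS : CfsgLib.DegreeEleven.Small G := ⟨hα, h2, hA⟩
  obtain ⟨T, hT⟩ : ∃ T : Subgroup (Equiv.Perm α), T = G ⊓ alternatingGroup α := ⟨_, rfl⟩
  set T₀ : Subgroup G := T.subgroupOf G with hT₀
  haveI hn : T₀.Normal := ⟨fun t ht g => by
    rw [hT₀, Subgroup.mem_subgroupOf] at ht ⊢
    rw [hT, Subgroup.mem_inf] at ht ⊢
    refine ⟨(g * t * g⁻¹).2, ?_⟩
    rw [Subgroup.coe_mul, Subgroup.coe_mul, Subgroup.coe_inv]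
    exact (inferInstance : (alternatingGroup α).Normal).conj_mem _ ht.2 _⟩
  haveI : Nontrivial α := Fintype.one_lt_card_iff_nontrivial.1 (by rw [hα]; norm_num)
  let e : T₀ ≃* T := Subgroup.subgroupOfEquivOfLe (hT.le.trans inf_le_left)
  have hidx : T₀.index ∣ 2 := by
    rw [hT₀, hT, show (G ⊓ alternatingGroup α).subgroupOf G = (alternatingGroup α).subgroupOf G from
      Subgroup.inf_subgroupOf_left _ _, ← alternatingGroup.index_eq_two (α := α)]
    exact Subgroup.relIndex_dvd_index_of_normal _ _
  have hins : ¬ Group.IsSolvable T := by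
    intro hs
    refine hG ?_
    haveI : Group.IsSolvable T₀ :=
      Group.isSolvable_of_isSolvable_injective (f := e.toMonoidHom) e.injective
    have hq : Nat.card (G ⧸ T₀) ∣ 2 := hidx
    haveI : Group.IsSolvable (G ⧸ T₀) := by
      rcases (Nat.dvd_prime Nat.prime_two).1 hq with h | h
      · haveI : Subsingleton (G ⧸ T₀) := (Nat.card_eq_one_iff_unique.1 h).1
        exact Group.isSolvable_of_comm fun a b => Subsingleton.elim _ _
      · haveI := isCyclic_of_prime_card (p := 2) h
        letI := IsCyclic.commGroup (α := G ⧸ T₀)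
        infer_instance
    exact Group.isSolvable_of_ker_le_range T₀.subtype (QuotientGroup.mk' T₀) (by simp)
  have hne : T₀ ≠ ⊥ := fun h => by
    refine hins ?_
    haveI : Subsingleton T := by
      rw [← Equiv.subsingleton_congr e.toEquiv, h]; infer_instance
    exact Group.isSolvable_of_comm fun a b => Subsingleton.elim _ _
  haveI := hS.prim
  haveI hT₀t : MulAction.IsPretransitive T₀ α := by
    refine MulAction.IsQuasiPreprimitive.isPretransitive_of_normal fun hf => hne ?_
    rw [Subgroup.eq_bot_iff_forall]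
    intro x hx
    refine Subtype.ext (Equiv.ext fun y => ?_)
    have hy : y ∈ MulAction.fixedPoints T₀ α := hf ▸ Set.mem_univ y
    exact hy ⟨x, hx⟩
  haveI : MulAction.IsPretransitive T α := ⟨fun a b => by
    obtain ⟨g, hg⟩ := MulAction.exists_smul_eq T₀ a b
    exact ⟨e g, hg⟩⟩
  have hTS : CfsgLib.DegreeEleven.Even11 T :=
    { card := hα
      two := (Cfsg.Agent.S0675.result hp T).resolve_left hins
      alt := fun h => hA (h.trans (hT.le.trans inf_le_left))
      le_alt := (hT.le.trans inf_le_right)
      insol := hins }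
  obtain ⟨hord, hsimp⟩ := hTS.order
  have hcG : Nat.card G = Nat.card T * T₀.index := by
    rw [← T₀.card_mul_index, Nat.card_congr e.toEquiv]
  have heq : G = T := by
    refine le_antisymm ?_ (hT.le.trans inf_le_left)
    rcases (Nat.dvd_prime Nat.prime_two).1 hidx with h | h
    · exact Subgroup.subgroupOf_eq_top.1 (Subgroup.index_eq_one.1 h)
    · exfalso
      rw [h, mul_comm] at hcG
      rcases hord with ho | ho
      · refine CfsgLib.DegreeEleven.no_odd_660 hS hTS ho (hT.le.trans inf_le_left) ?_ hcG
        intro g hg t ht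
        rw [hT, Subgroup.mem_inf] at ht ⊢
        exact ⟨G.mul_mem (G.mul_mem hg ht.1) (G.inv_mem hg),
          (inferInstance : (alternatingGroup α).Normal).conj_mem _ ht.2 _⟩
      · exact CfsgLib.DegreeEleven.no_odd_7920 hS hTS ho (hT.le.trans inf_le_left)
          (fun g hg hs => hT.ge ⟨hg, Equiv.Perm.mem_alternatingGroup.2 hs⟩) hcG
  subst heq
  rcases hord with ho | ho
  · right
    haveI := hsimp
    exact Cfsg.Agent.S0498.result 11 (Or.inl rfl) (by rw [ho]; norm_num) (ZMod.card 11)
  · exact Or.inl (hTS.four_transitive ho)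

end Cfsg.Agent.S0679
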