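import Cfsg.Statements.S0680
import Cfsg.Agent.Lib.Perm.SharplyTwo

set_option autoImplicit false
open Cfsg

namespace Cfsg.Agent.S0680

/-- A finite sharply doubly transitive permutation group has degree a prime power `p ^ j`; a Sylow `p`-subgroup is normal, elementary abelian and regular, and consists of the identity together with the elements without fixed points. (Frobenius' Theorem is not needed.) -/
theorem result {α : Type*} [Fintype α] [DecidableEq α] (G : Subgroup (Equiv.Perm α)) [MulAction.IsMultiplyPretransitive G α 2] (hsharp : ∀ x : Fin 2 ↪ α, MulAction.stabilizer G x = ⊥) (h2 : 2 ≤ Fintype.card α) : ∃ p j : ℕ, p.Prime ∧ 1 ≤ j ∧ Fintype.card α = p ^ j ∧ ∀ (hp : Fact p.Prime) (P : Sylow p G), (P : Subgroup G).Normal ∧ IsMulCommutative (P : Subgroup G) ∧ (∀ x ∈ (P : Subgroup G), x ^ p = 1) ∧ MulAction.IsPretransitive (P : Subgroup G) α ∧ (∀ a : α, MulAction.stabilizer (P : Subgroup G) a = ⊥) ∧ ∀ g : G, g ∈ (P : Subgroup G) ↔ g = 1 ∨ ∀ a : α, g •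 a ≠ a := by
  classical
  obtain ⟨N, p, j, hp, hj, hn, hN, hcard, hmem, hcomm, hexp⟩ :=
    CfsgLib.SharplyTwo.exists_translations hsharp h2
  refine ⟨p, j, hp, hj, hn, fun hp' P => ?_⟩
  have hNP : IsPGroup p N := fun g => ⟨1, by rw [pow_one]; exact Subtype.ext (hexp g g.2)⟩
  have hle : N ≤ P := by
    obtain ⟨Q, hQ⟩ := hNP.exists_le_sylow
    obtain ⟨g, hg⟩ := MulAction.exists_smul_eq G Q P
    intro x hx
    rw [← hg, Sylow.coe_subgroup_smul]
    refine ⟨g⁻¹ * x * g, hQ ?_, ?_⟩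
    · simpa using hN.conj_mem x hx g⁻¹
    · simp [mul_assoc]
  have hG := CfsgLib.SharplyTwo.natCard hsharp h2
  have hPN : (P : Subgroup G) = N := by
    refine (Subgroup.eq_of_le_of_card_ge hle ?_).symm
    have hfac : (Nat.card G).factorization p = j := by
      have hne : ¬ p ∣ p ^ j - 1 := fun h => by
        have h1 := Nat.dvd_sub (dvd_pow_self p (by omega : j ≠ 0)) h
        rw [Nat.sub_sub_self (Nat.one_le_pow _ _ hp.pos), Nat.dvd_one] at h1
        exact hp.ne_one h1
      have h0 : p ^ j - 1 ≠ 0 := fun h => hne (by rw [h]; exact dvd_zero p)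
      rw [hG, hn, Nat.factorization_mul (pow_ne_zero _ hp.ne_zero) h0]
      simp [hp.factorization_pow, Nat.factorization_eq_zero_of_not_dvd hne]
    rw [P.card_eq_multiplicity, hfac, hcard, hn]
  have hmem' : ∀ g : G, g ∈ (P : Subgroup G) ↔ g = 1 ∨ ∀ a : α, g • a ≠ a := by
    rw [hPN]; exact hmem
  have huniq := CfsgLib.SharplyTwo.exists_unique_smul (N := (P : Subgroup G))
    (by rw [hPN, hcard]) (fun g hg => (hmem' g).mp hg)
  refine ⟨hPN ▸ hN, ⟨⟨fun x y => Subtype.ext (hcomm _ (hPN ▸ x.2) _ (hPN ▸ y.2))⟩⟩,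
    fun x hx => hexp x (hPN ▸ hx), ⟨fun a b => (huniq a b).exists⟩, fun a => ?_, hmem'⟩
  rw [Subgroup.eq_bot_iff_forall]
  intro x hx
  exact (huniq a a).unique hx (one_smul _ a)

end Cfsg.Agent.S0680
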