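import Cfsg.Statements.S0681
import Mathlib

set_option autoImplicit false
open Cfsg

namespace Cfsg.Agent.S0681

/-- The affine maps `x ↦ x * a + b`, `a ≠ 0`, of a near-field form a sharply doubly transitive permutation group. -/
theorem result {F : Type*} [Cfsg.NearField F] : ∃ H : Subgroup (Equiv.Perm F), (∀ σ : Equiv.Perm F, σ ∈ H ↔ ∃ a b : F, a ≠ 0 ∧ ∀ x : F, σ x = x * a + b) ∧ MulAction.IsMultiplyPretransitive H F 2 ∧ ∀ x : Fin 2 ↪ F, MulAction.stabilizer H x = ⊥ := by
  have hsub : ∀ a b c : F, (a - b) * c = a * c - b * c := fun a b c => by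
    rw [eq_sub_iff_add_eq, ← NearField.right_distrib, sub_add_cancel]
  let H : Subgroup (Equiv.Perm F) :=
    { carrier := {σ | ∃ a b : F, a ≠ 0 ∧ ∀ x : F, σ x = x * a + b}
      one_mem' := ⟨1, 0, NearField.zero_ne_one.symm, fun x => by simp⟩
      mul_mem' := by
        rintro σ τ ⟨a, b, ha, hσ⟩ ⟨c, d, hc, hτ⟩
        refine ⟨c * a, d * a + b, fun h0 => ?_, fun x => ?_⟩
        · obtain ⟨a', ha', -⟩ := NearField.exists_inv a ha
          have : (0 : F) * a' = c := by rw [← h0, mul_assoc, ha', mul_one]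
          apply hc
          rw [← this]
          have h00 := NearField.right_distrib (0 : F) 0 a'
          rw [add_zero] at h00
          exact left_eq_add.1 h00
        · rw [Equiv.Perm.mul_apply, hτ, hσ, NearField.right_distrib, mul_assoc, add_assoc]
      inv_mem' := by
        rintro σ ⟨a, b, ha, hσ⟩
        obtain ⟨a', h1, h2⟩ := NearField.exists_inv a ha
        refine ⟨a', (-b) * a', fun h0 => ?_, fun x => ?_⟩
        · apply NearField.zero_ne_one (F := F)
          rw [← h1, h0, NearField.mul_zero]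
        · apply σ.injective
          rw [Equiv.Perm.inv_def, Equiv.apply_symm_apply, hσ, ← NearField.right_distrib,
            mul_assoc, h2, mul_one, neg_add_cancel_right] }
  refine ⟨H, fun σ => Iff.rfl, ?_, fun e => ?_⟩
  · rw [MulAction.is_two_pretransitive_iff]
    intro x₀ x₁ y₀ y₁ hx hy
    obtain ⟨c, hc1, hc2⟩ := NearField.exists_inv (x₁ - x₀) (sub_ne_zero.2 hx.symm)
    have ha : c * (y₁ - y₀) ≠ 0 := fun h0 => by
      have h3 : (x₁ - x₀) * (c * (y₁ - y₀)) = y₁ - y₀ := by rw [← mul_assoc, hc1, one_mul]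
      rw [h0, NearField.mul_zero] at h3
      exact sub_ne_zero.2 hy.symm h3.symm
    obtain ⟨a', ha1, ha2⟩ := NearField.exists_inv _ ha
    let σ : Equiv.Perm F :=
      { toFun := fun x => (x - x₀) * (c * (y₁ - y₀)) + y₀
        invFun := fun x => (x - y₀) * a' + x₀
        left_inv := fun x => by simp [mul_assoc, ha1]
        right_inv := fun x => by simp [mul_assoc, ha2] }
    refine ⟨⟨σ, _, -(x₀ * (c * (y₁ - y₀))) + y₀, ha, fun x => ?_⟩, ?_, ?_⟩
    · show (x - x₀) * _ + y₀ = _
      rw [hsub, sub_eq_add_neg, add_assoc]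
    · show (x₀ - x₀) * (c * (y₁ - y₀)) + y₀ = y₀
      rw [hsub, sub_self, zero_add]
    · show (x₁ - x₀) * (c * (y₁ - y₀)) + y₀ = y₁
      rw [← mul_assoc, hc1, one_mul, sub_add_cancel]
  · rw [Subgroup.eq_bot_iff_forall]
    rintro ⟨σ, a, b, ha, hσ⟩ hm
    have h : ∀ i, σ (e i) = e i := fun i =>
      congrArg (fun f : Fin 2 ↪ F => f i) hm
    have hne : e 1 - e 0 ≠ 0 := sub_ne_zero.2 (fun h => by simpa using e.injective h)
    obtain ⟨c, -, hc2⟩ := NearField.exists_inv _ hne
    have h1 : (e 1 - e 0) * a = e 1 - e 0 := by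
      conv_rhs => rw [← h 1, ← h 0, hσ, hσ, add_sub_add_right_eq_sub]
      exact hsub _ _ _
    have ha1 : a = 1 := by
      have := congrArg (c * ·) h1
      simpa [← mul_assoc, hc2] using this
    subst ha1
    have hb : b = 0 := by
      have := h 0
      rw [hσ, mul_one] at this
      exact add_eq_left.1 this
    apply Subtype.ext
    ext x
    show σ x = x
    rw [hσ, hb, mul_one, add_zero]

end Cfsg.Agent.S0681
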