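import Cfsg.Statements.S0682
import Mathlib

set_option autoImplicit false
open Cfsg

namespace Cfsg.Agent.S0682

/-- A finite near-field has prime-power order; its additive group is commutative of prime exponent. -/
theorem result {F : Type*} [Cfsg.NearField F] [Finite F] : ∃ p j : ℕ, p.Prime ∧ 1 ≤ j ∧ Nat.card F = p ^ j ∧ (∀ x y : F, x + y = y + x) ∧ ∀ x : F, p • x = 0 := by
  classical
  have hzero : ∀ a : F, (0 : F) * a = 0 := fun a => by
    have h00 := NearField.right_distrib (0 : F) 0 a
    rw [add_zero] at h00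
    exact left_eq_add.1 h00
  have : Nontrivial F := ⟨0, 1, NearField.zero_ne_one⟩
  have htr : ∀ x y : F, x ≠ 0 → ∃ c, x * c = y := fun x y hx => by
    obtain ⟨c, hc, -⟩ := NearField.exists_inv x hx
    exact ⟨c * y, by rw [← mul_assoc, hc, one_mul]⟩
  obtain ⟨p, hp, hdvd⟩ := Nat.exists_prime_and_dvd (Finite.one_lt_card (α := F)).ne'
  have : Fact p.Prime := ⟨hp⟩
  obtain ⟨x, hx⟩ := exists_prime_addOrderOf_dvd_card' p hdvd
  have hx0 : x ≠ 0 := fun h => hp.ne_one (by rw [← hx, h, addOrderOf_zero])
  have hexp : ∀ y : F, p • y = 0 := fun y => by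
    obtain ⟨c, rfl⟩ := htr x y hx0
    let r : F →+ F := AddMonoidHom.mk' (· * c) (fun a b => NearField.right_distrib a b c)
    show p • r x = 0
    rw [← map_nsmul, ← hx, addOrderOf_nsmul_eq_zero, map_zero]
  have hpg : IsPGroup p (Multiplicative F) := fun y =>
    ⟨1, by rw [pow_one]; exact hexp (Multiplicative.toAdd y)⟩
  obtain ⟨j, hj⟩ := hpg.exists_card_eq
  have hj' : Nat.card F = p ^ j := (Nat.card_congr Multiplicative.ofAdd).trans hj
  refine ⟨p, j, hp, ?_, hj', ?_, hexp⟩
  · by_contra h
    have : j = 0 := by omega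
    rw [this, pow_zero] at hj'
    exact (Finite.one_lt_card (α := F)).ne' hj'
  · have : Nontrivial (Multiplicative F) := Multiplicative.toAdd.nontrivial
    have := hpg.center_nontrivial
    obtain ⟨⟨z, hz⟩, hz1⟩ := exists_ne (1 : Subgroup.center (Multiplicative F))
    have hz0 : Multiplicative.toAdd z ≠ 0 := fun h => hz1 (Subtype.ext h)
    intro u v
    rcases eq_or_ne v 0 with rfl | hv
    · simp
    obtain ⟨c, rfl⟩ := htr _ v hz0
    have hc : c ≠ 0 := fun h => hv (by rw [h, NearField.mul_zero])
    obtain ⟨c', -, hc'⟩ := NearField.exists_inv c hc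
    have hu : u = (u * c') * c := by rw [mul_assoc, hc', mul_one]
    have hcomm := congrArg Multiplicative.toAdd
      (Subgroup.mem_center_iff.1 hz (Multiplicative.ofAdd (u * c')))
    simp only [toAdd_mul, toAdd_ofAdd] at hcomm
    rw [hu, ← NearField.right_distrib, hcomm, NearField.right_distrib]

end Cfsg.Agent.S0682
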