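import Cfsg.Statements.S0683
import Cfsg.Agent.Lib.Perm.SharplyTwo

set_option autoImplicit false
open Cfsg

namespace Cfsg.Agent.S0683

/-- A finite sharply doubly transitive permutation group is the affine group of a near-field: the permuted set carries a near-field structure for which the group consists exactly of the maps `x ↦ x * a + b` with `a ≠ 0`. -/
theorem result {α : Type*} [Fintype α] [DecidableEq α] (H : Subgroup (Equiv.Perm α)) [MulAction.IsMultiplyPretransitive H α 2] (hsharp : ∀ x : Fin 2 ↪ α, MulAction.stabilizer H x = ⊥) (h2 : 2 ≤ Fintype.card α) : ∃ _ : Cfsg.NearField α, ∀ σ : Equiv.Perm α, σ ∈ H ↔ ∃ a b : α, a ≠ 0 ∧ ∀ x : α, σ x = x * a + b := by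
  classical
  obtain ⟨N, p, j, -, -, -, hN, hcard, hmem, hcomm, -⟩ :=
    CfsgLib.SharplyTwo.exists_translations (G := H) hsharp h2
  haveI : MulAction.IsPretransitive H α :=
    MulAction.isPretransitive_of_is_two_pretransitive
  have huniq := CfsgLib.SharplyTwo.exists_unique_smul (G := H) hcard (fun g hg => (hmem g).mp hg)
  obtain ⟨o, e, hoe⟩ := Fintype.one_lt_card_iff.mp (show 1 < Fintype.card α by omega)
  choose t ht htu using huniq o
  simp only at ht htu
  have hS : ∀ a : α, a ≠ o → ∃ g : H, g • o = o ∧ g • e = a := fun a ha =>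
    (MulAction.is_two_pretransitive_iff.mp inferInstance) hoe (Ne.symm ha)
  choose s hso hse using hS
  have hsu : ∀ (g : H) (a : α) (ha : a ≠ o), g • o = o → g • e = a → g = s a ha := by
    intro g a ha h1 h2'
    have : (s a ha)⁻¹ * g = 1 :=
      CfsgLib.SharplyTwo.eq_one hsharp hoe (by rw [mul_smul, h1, inv_smul_eq_iff, hso])
        (by rw [mul_smul, h2', inv_smul_eq_iff, hse])
    exact (inv_mul_eq_one.mp this).symm
  -- addition and multiplication
  let add : α → α → α := fun x y => (t x : H) • y
  let neg : α → α := fun x => (t x : H)⁻¹ • o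
  let mul : α → α → α := fun x a => if h : a = o then o else (s a h) • x
  have ht' : ∀ x, (t x : H) • o = x := ht
  have ht1 : t o = 1 := (htu o 1 (one_smul _ o)).symm
  have tadd : ∀ x y, t (add x y) = t x * t y := fun x y =>
    (htu _ (t x * t y) (by
      show ((t x : H) * (t y : H)) • o = (t x : H) • y
      rw [mul_smul, ht'])).symm
  have tneg : ∀ x, t (neg x) = (t x)⁻¹ := fun x => (htu _ ((t x)⁻¹) rfl).symm
  have conj : ∀ (g : H), g • o = o → ∀ x y, g • add x y = add (g • x) (g • y) := by
    intro g hg x y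
    have h1 : t (g • x) = ⟨g * (t x : H) * g⁻¹, hN.conj_mem _ (t x).2 g⟩ :=
      (htu _ ⟨g * (t x : H) * g⁻¹, hN.conj_mem _ (t x).2 g⟩ (by
        show (g * (t x : H) * g⁻¹) • o = g • x
        rw [mul_smul, mul_smul, inv_smul_eq_iff.mpr hg.symm, ht'])).symm
    show g • ((t x : H) • y) = (t (g • x) : H) • (g • y)
    rw [h1]
    simp only [mul_smul, inv_smul_smul]
  have hmulne : ∀ a b, a ≠ o → b ≠ o → mul a b ≠ o := by
    intro a b ha hb
    simp only [mul, dif_neg hb]
    intro h
    exact ha (MulAction.injective (s b hb) (h.trans (hso b hb).symm))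
  have smul_s : ∀ a b (ha : a ≠ o) (hb : b ≠ o), s (mul a b) (hmulne a b ha hb) = s b hb * s a ha := by
    intro a b ha hb
    refine (hsu _ _ _ ?_ ?_).symm
    · rw [mul_smul, hso, hso]
    · rw [mul_smul, hse]; simp only [mul, dif_neg hb]
  have mul_o : ∀ x, mul x o = o := fun x => dif_pos rfl
  have o_mul : ∀ x, mul o x = o := fun x => by
    by_cases hx : x = o
    · rw [hx, mul_o]
    · simp only [mul, dif_neg hx, hso]
  have mul_assoc' : ∀ x a b, mul (mul x a) b = mul x (mul a b) := by
    intro x a b
    by_cases hb : b = o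
    · rw [hb, mul_o, mul_o, mul_o]
    by_cases ha : a = o
    · rw [ha, mul_o, o_mul, mul_o]
    have hab := hmulne a b ha hb
    show (if h : b = o then o else (s b h) • mul x a) = if h : mul a b = o then o else (s _ h) • x
    rw [dif_neg hb, dif_neg hab, smul_s a b ha hb, mul_smul]
    simp only [mul, dif_neg ha]
  have mul_e : ∀ x, mul x e = x := fun x => by
    have : s e hoe.symm = 1 := (hsu 1 e hoe.symm (one_smul _ o) (one_smul _ e)).symm
    simp only [mul, dif_neg hoe.symm, this, one_smul]
  have e_mul : ∀ x, mul e x = x := fun x => by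
    by_cases hx : x = o
    · rw [hx, mul_o]
    · simp only [mul, dif_neg hx, hse]
  have hinv : ∀ a : α, a ≠ o → ∃ b : α, b ≠ o ∧ mul a b = e ∧ mul b a = e := by
    intro a ha
    have hb : (s a ha)⁻¹ • e ≠ o := fun h => by
      rw [inv_smul_eq_iff, hso] at h
      exact hoe h.symm
    have hsb : s _ hb = (s a ha)⁻¹ :=
      (hsu (s a ha)⁻¹ _ hb (by rw [inv_smul_eq_iff, hso]) rfl).symm
    refine ⟨_, hb, ?_, ?_⟩
    · show (if h : _ = o then o else (s _ h) • a) = e
      rw [dif_neg hb, hsb, inv_smul_eq_iff, hse]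
    · show (if h : a = o then o else (s a h) • _) = e
      rw [dif_neg ha, smul_inv_smul]
  let iN : Cfsg.NearField α :=
    { add := add
      zero := o
      neg := neg
      nsmul := @nsmulRec α ⟨o⟩ ⟨add⟩
      zsmul := @zsmulRec α ⟨o⟩ ⟨add⟩ ⟨neg⟩ (@nsmulRec α ⟨o⟩ ⟨add⟩)
      add_assoc := fun x y z => by
        show (t (add x y) : H) • z = (t x : H) • ((t y : H) • z)
        rw [tadd, Subgroup.coe_mul, mul_smul]
      zero_add := fun x => by
        show (t o : H) • x = x
        rw [ht1, Subgroup.coe_one, one_smul]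
      add_zero := ht'
      neg_add_cancel := fun x => by
        show (t (neg x) : H) • x = o
        rw [tneg, Subgroup.coe_inv, inv_smul_eq_iff, ht']
      mul := mul
      one := e
      mul_assoc := mul_assoc'
      one_mul := e_mul
      mul_one := mul_e
      right_distrib := fun a b c => by
        show mul (add a b) c = add (mul a c) (mul b c)
        by_cases hc : c = o
        · rw [hc, mul_o, mul_o, mul_o]
          exact (ht' o).symm
        · simp only [mul, dif_neg hc]
          exact conj _ (hso c hc) a b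
      mul_zero := mul_o
      zero_ne_one := hoe
      exists_inv := fun a ha => (hinv a ha).imp fun b hb => hb.2 }
  refine ⟨iN, fun σ => ⟨fun hσ => ?_, ?_⟩⟩
  · -- decompose into translation and stabiliser part
    set g : H := ⟨σ, hσ⟩
    set b := g • o with hb
    set g' : H := (t b : H)⁻¹ * g with hg'
    have hg'o : g' • o = o := by rw [hg', mul_smul, ← hb, inv_smul_eq_iff, ht']
    have ha : g' • e ≠ o := fun h => hoe (MulAction.injective g' (hg'o.trans h.symm))
    refine ⟨g' • e, b, ha, fun x => ?_⟩
    show g • x = add (mul x (g' • e)) b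
    have hadd : ∀ u, add u b = add b u := fun u => by
      show (t u : H) • b = (t b : H) • u
      conv_lhs => rw [← ht' b]
      conv_rhs => rw [← ht' u]
      rw [← mul_smul, ← mul_smul, hcomm _ (t u).2 _ (t b).2]
    rw [hadd]
    show g • x = (t b : H) • mul x (g' • e)
    simp only [mul, dif_neg ha, ← hsu g' _ ha hg'o rfl]
    rw [hg', mul_smul, smul_inv_smul]
  · rintro ⟨a, b, ha, hσ⟩
    have hadd : ∀ u, add u b = add b u := fun u => by
      show (t u : H) • b = (t b : H) • u
      conv_lhs => rw [← ht' b]
      conv_rhs => rw [← ht' u]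
      rw [← mul_smul, ← mul_smul, hcomm _ (t u).2 _ (t b).2]
    have ha' : a ≠ o := ha
    have hσ' : σ = (((t b : H) * s a ha' : H) : Equiv.Perm α) := by
      refine Equiv.ext fun x => ?_
      rw [hσ x]
      show add (mul x a) b = ((t b : H) * s a ha') • x
      rw [hadd, mul_smul]
      simp only [mul, dif_neg ha']
      rfl
    rw [hσ']
    exact Subtype.prop _

end Cfsg.Agent.S0683
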