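import Cfsg.Statements.S0686
import Cfsg.Agent.Lib.TransLinear.Regular
import Cfsg.Agent.Lib.PerfectCompl.Main

set_option autoImplicit false
open Cfsg
open CfsgLib.FrobCompl
open scoped commutatorElement

namespace Cfsg.Agent.S0686

/-- In a linear group over the prime field that is regular on non-zero vectors and has no irreducible cyclic normal subgroup, let `A` be a maximal normal abelian subgroup and `N` a normal subgroup centralising `A` that is minimal among non-abelian normal subgroups centralising `A`. Then `N` is quaternion of order 8 or isomorphic to `SL(2,5)`. -/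
theorem result {p : ℕ} [Fact p.Prime] {V : Type*} [AddCommGroup V] [Module (ZMod p) V] [Finite V] (H : Subgroup (V ≃ₗ[ZMod p] V)) (hreg : ∀ v w : V, v ≠ 0 → w ≠ 0 → ∃! h : H, (h : V ≃ₗ[ZMod p] V) v = w) (hI : ∀ A : Subgroup H, A.Normal → IsCyclic A → ∃ W : Submodule (ZMod p) V, W ≠ ⊥ ∧ W ≠ ⊤ ∧ ∀ a ∈ A, ∀ v ∈ W, ((a : H) : V ≃ₗ[ZMod p] V) v ∈ W) (A : Subgroup H) (hAn : A.Normal) (hAc : IsMulCommutative A) (hAmax : ∀ B : Subgroup H, B.Normal → IsMulCommutative B → A ≤ B → B = A) (N : Subgroup H) (hNn : N.Normal) (hNle : N ≤ Subgroup.centralizer (A : Set H)) (hNna : ¬ IsMulCommutative N) (hNmin : ∀ M : Subgroup H, M.Normal → M ≤ N → ¬ IsMulCommutative M → M = N) : Nonempty (N ≃* QuaternionGroup 2) ∨ Nonempty (N ≃* Matrix.SpecialLinearGroup (Fin 2) (ZMod 5)) := by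
  classical
  haveI := hNn
  haveI hV : Nontrivial V := by
    by_contra hV
    rw [not_nontrivial_iff_subsingleton] at hV
    haveI := hV
    exact hNna ⟨⟨fun a b => Subtype.ext (Subtype.ext (LinearEquiv.ext fun v => Subsingleton.elim _ _))⟩⟩
  haveI : Finite H := by
    haveI : Finite (V ≃ₗ[ZMod p] V) := Finite.of_injective (fun e => (e : V → V)) DFunLike.coe_injective
    infer_instance
  let ρ : H →* (V ≃ₗ[ZMod p] V) := H.subtype
  have hρ : Function.Injective ρ := H.subtype_injective
  have hfix : ∀ v : V, v ≠ 0 → ∀ g : H, ρ g v = v → g = 1 := fun v hv g hg => by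
    obtain ⟨h, -, huniq⟩ := hreg v v hv hv
    exact (huniq g hg).trans (huniq 1 rfl).symm
  have hG : HasFpf H := by
    let e : V ≃+ Shrink.{0} V := (Shrink.addEquiv).symm
    haveI : Finite (Shrink.{0} V) := Finite.of_equiv _ e.toEquiv
    haveI : Nontrivial (Shrink.{0} V) := e.symm.toEquiv.nontrivial
    let σ : H →* AddMonoid.End (Shrink.{0} V) :=
      { toFun := fun g => e.toAddMonoidHom.comp ((ρ g).toAddEquiv.toAddMonoidHom.comp e.symm.toAddMonoidHom)
        map_one' := AddMonoidHom.ext fun x => by
          show e (ρ 1 (e.symm x)) = x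
          rw [map_one]; exact e.apply_symm_apply x
        map_mul' := fun a b => AddMonoidHom.ext fun x => by
          show e (ρ (a * b) (e.symm x)) = e (ρ a (e.symm (e (ρ b (e.symm x)))))
          rw [e.symm_apply_apply, map_mul]; rfl }
    refine ⟨Shrink.{0} V, inferInstance, inferInstance, inferInstance, σ, fun g hg x hx => ?_⟩
    by_contra hx0
    refine hg (hfix (e.symm x) (fun h => hx0 (by simpa using congrArg e h)) g (e.injective ?_))
    rw [e.apply_symm_apply]; exact hx
  haveI : Nontrivial N := by
    by_contra h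
    rw [not_nontrivial_iff_subsingleton] at h
    haveI := h
    exact hNna ⟨⟨fun a b => Subsingleton.elim _ _⟩⟩
  set D : Subgroup H := (commutator N).map N.subtype with hD
  haveI hDn : D.Normal := ConjAct.normal_of_characteristic_of_normal
  by_cases hDc : IsMulCommutative D
  swap
  · have h := hNmin D hDn (Subgroup.map_subtype_le _) hDc
    have hperf : commutator N = ⊤ := by
      apply Subgroup.map_injective N.subtype_injective
      rw [← MonoidHom.range_eq_map, Subgroup.range_subtype]
      exact h
    exact Or.inr (CfsgLib.PerfectCompl.iso_of_perfect_fpf (hG.of_injective N.subtype N.subtype_injective) hperf)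
  left
  have hDA : D ≤ A := by
    have hDle : D ≤ Subgroup.centralizer (A : Set H) := (Subgroup.map_subtype_le _).trans hNle
    have hcomm : IsMulCommutative (A ⊔ D : Subgroup H) := by
      have key : A ⊔ D ≤ Subgroup.centralizer ((A ⊔ D : Subgroup H) : Set H) := by
        refine sup_le (Subgroup.le_centralizer_iff.mpr (sup_le ?_ ?_)) (Subgroup.le_centralizer_iff.mpr (sup_le ?_ ?_))
        · exact Subgroup.le_centralizer A
        · exact hDle
        · exact Subgroup.le_centralizer_iff.mp hDle
        · exact Subgroup.le_centralizer D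
      exact ⟨⟨fun a b => Subtype.ext (Subgroup.mem_centralizer_iff.mp (key b.2) a a.2)⟩⟩
    have := hAmax _ (Subgroup.sup_normal A D) hcomm le_sup_left
    exact le_sup_right.trans this.le
  have hcen : commutator N ≤ Subgroup.center N := fun c hc => Subgroup.mem_center_iff.mpr fun n => by
    refine Subtype.ext ?_
    exact (Subgroup.mem_centralizer_iff.mp (hNle n.2) _ (hDA ⟨c, hc, rfl⟩)).symm
  haveI : Group.IsNilpotent N := by
    haveI : Group.IsNilpotent (Abelianization N) := CommGroup.isNilpotent
    exact isNilpotent_of_ker_le_center (Abelianization.of (G := N))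
      (by rw [Abelianization.ker_of]; exact hcen)
  have hsn : ∀ (q : ℕ) (_hq : Fact q.Prime) (P : Sylow q N), (P : Subgroup N).Normal :=
    ((Group.isNilpotent_of_finite_tfae (G := N)).out 0 3).mp ‹Group.IsNilpotent N›
  obtain ⟨r, hr, P, hP⟩ : ∃ (r : ℕ) (_ : Fact r.Prime) (P : Sylow r N), ¬ IsMulCommutative (P : Subgroup N) := by
    by_contra hall
    push Not at hall
    refine hNna ⟨⟨fun a b => ?_⟩⟩
    have hn : ∀ {q : ℕ} [Fact q.Prime] (P : Sylow q N), (P : Subgroup N).Normal := fun {q} hq P => hsn q hq P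
    let E := Sylow.directProductOfNormal hn
    obtain ⟨x, rfl⟩ := E.surjective a
    obtain ⟨y, rfl⟩ := E.surjective b
    rw [← map_mul, ← map_mul]
    refine congrArg E (funext fun q => funext fun Q => ?_)
    haveI : Fact (q : ℕ).Prime := ⟨Nat.prime_of_mem_primeFactors q.2⟩
    haveI := hall (q : ℕ) inferInstance Q
    exact mul_comm' _ _
  haveI := hr
  haveI : (P : Subgroup N).Normal := hsn r hr P
  haveI : (P : Subgroup N).Characteristic := Sylow.characteristic_of_normal P inferInstance
  have hPn : ((P : Subgroup N).map N.subtype).Normal := ConjAct.normal_of_characteristic_of_normal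
  have hPN := hNmin _ hPn (Subgroup.map_subtype_le _) (fun h => hP ⟨⟨fun a b => by
    have := h.is_comm.comm ⟨((a : N) : H), Subgroup.mem_map_of_mem N.subtype a.2⟩
      ⟨((b : N) : H), Subgroup.mem_map_of_mem N.subtype b.2⟩
    have h2 : ((a : N) : H) * ((b : N) : H) = ((b : N) : H) * ((a : N) : H) := congrArg Subtype.val this
    exact Subtype.ext (Subtype.ext h2)⟩⟩)
  have hNp : IsPGroup r N := hPN ▸ (P.2.map N.subtype)
  have hr2 : r = 2 := by
    by_contra hr2
    haveI := CfsgLib.TransLinear.isCyclic_of_odd (ρ := ρ) hfix hr2 hNp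
    letI := IsCyclic.commGroup (α := N)
    exact hNna ⟨⟨fun a b => mul_comm a b⟩⟩
  subst hr2
  rcases CfsgLib.TransLinear.cyclic_or_quaternion_eight (ρ := ρ) hρ hfix hNp (fun x hx y hy z hz => by
    have hc : (⁅(⟨x, hx⟩ : N), ⟨y, hy⟩⁆ : N) ∈ Subgroup.center N :=
      hcen (Subgroup.commutator_mem_commutator (Subgroup.mem_top _) (Subgroup.mem_top _))
    have := congrArg Subtype.val (Subgroup.mem_center_iff.mp hc ⟨z, hz⟩)
    simp only [Subgroup.coe_mul, commutatorElement_def, Subgroup.coe_inv] at this
    exact this.symm) with hc | he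
  · letI := hc.commGroup
    exact (hNna ⟨⟨fun a b => mul_comm a b⟩⟩).elim
  · obtain ⟨e⟩ := he
    exact ⟨e.symm⟩

end Cfsg.Agent.S0686
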