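import Cfsg.Statements.S0689
import Cfsg.Agent.Lib.PerfectCompl.Nonsolvable

set_option autoImplicit false
set_option linter.style.haveILetI false
open Cfsg

namespace Cfsg.Agent.S0689

open scoped Classical

theorem dvd_card_of_free {M X : Type*} [Group M] [Finite M] [Finite X] [MulAction M X]
    (hfree : ∀ (m : M) (x : X), m • x = x → m = 1) : Nat.card M ∣ Nat.card X := by
  letI := Fintype.ofFinite (MulAction.orbitRel.Quotient M X)
  rw [Nat.card_congr (MulAction.selfEquivSigmaOrbits' M X), Nat.card_sigma]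
  refine Finset.dvd_sum fun q _ => ?_
  induction q using Quotient.inductionOn' with
  | h x =>
    rw [MulAction.orbitRel.Quotient.orbit_mk, Nat.card_coe_set_eq, ← MulAction.index_stabilizer,
      show MulAction.stabilizer M x = ⊥ from (Subgroup.eq_bot_iff_forall _).mpr fun m hm => hfree m x hm,
      Subgroup.index_bot]

theorem arith {q m p k e : ℕ} (hp : p.Prime) (hq : q = p ^ k) (hm : m.Coprime 30) (he : e = 1 ∨ e = 2)
    (h : q * q = 120 * m * e + 1) (hd : m ∣ q - 1) :
    e = 1 ∧ ((q = 11 ∧ m = 1) ∨ (q = 29 ∧ m = 7) ∨ (q = 59 ∧ m = 29)) := by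
  have hq1 : 1 ≤ q := by rw [hq]; exact Nat.one_le_pow _ _ hp.pos
  obtain ⟨t, ht⟩ := hd
  have hm0 : 0 < m := Nat.pos_of_ne_zero fun h0 => by simp [h0] at hm
  have h1 : (q + 1) * t = 120 * e := by
    have : m * ((q + 1) * t) = m * (120 * e) := by
      rw [show m * ((q + 1) * t) = (q + 1) * (m * t) by ring, ← ht]
      zify [hq1] at h ⊢
      linear_combination h
    exact Nat.eq_of_mul_eq_mul_left hm0 this
  have hdiv : q + 1 ∈ Nat.divisors 240 := Nat.mem_divisors.mpr
    ⟨(Dvd.intro t h1).trans (by rcases he with rfl | rfl <;> norm_num), by norm_num⟩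
  have hlist : Nat.divisors 240 = {1, 2, 3, 4, 5, 6, 8, 10, 12, 15, 16, 20, 24, 30, 40, 48, 60, 80, 120, 240} := by
    decide
  rw [hlist] at hdiv
  simp only [Finset.mem_insert, Finset.mem_singleton] at hdiv
  have h30 : ∀ r : ℕ, r.Prime → r ∣ 30 → ¬ r ∣ m := fun r hr h30 hrm =>
    hr.one_lt.ne' (Nat.eq_one_of_dvd_coprimes hm hrm h30)
  have h3 := h30 3 Nat.prime_three (by norm_num)
  have h5 := h30 5 Nat.prime_five (by norm_num)
  have h2 := h30 2 Nat.prime_two (by norm_num)
  have h119 : q ≠ 119 := by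
    intro h9
    have h7 : (7 : ℕ).Prime := by norm_num
    have h17 : (17 : ℕ).Prime := by norm_num
    have e7 := (Nat.prime_dvd_prime_iff_eq h7 hp).mp (h7.dvd_of_dvd_pow (show 7 ∣ p ^ k by rw [← hq, h9]; norm_num))
    have e17 := (Nat.prime_dvd_prime_iff_eq h17 hp).mp (h17.dvd_of_dvd_pow (show 17 ∣ p ^ k by rw [← hq, h9]; norm_num))
    omega
  rcases hdiv with h' | h' | h' | h' | h' | h' | h' | h' | h' | h' | h' | h' | h' | h' | h' | h' | h' | h' | h' | h' <;>
    (obtain rfl : q = _ - 1 := (Nat.eq_sub_of_add_eq h'); rcases he with rfl | rfl <;> omega)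

theorem isCyclic_of_prime_or_one {M : Type*} [Group M] [Finite M] {n : ℕ} [NeZero n] (hn : n.Prime)
    (h : Nat.card M = n) : Nonempty (M ≃* Multiplicative (ZMod n)) := by
  haveI := Fact.mk hn
  haveI : IsCyclic M := isCyclic_of_prime_card h
  exact ⟨(zmodCyclicMulEquiv ‹_›).symm.trans (AddEquiv.toMultiplicative (ZMod.ringEquivCongr h).toAddEquiv)⟩

/-- The insoluble sharply doubly transitive groups: a non-solvable linear group over the prime field that is regular on the non-zero vectors of `V` occurs only for `|V| = 11², 29², 59²`, and is `SL(2,5) × C_m` with `m = 1, 7, 29` respectively. -/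
theorem result {p : ℕ} [Fact p.Prime] {V : Type*} [AddCommGroup V] [Module (ZMod p) V] [Finite V] (H : Subgroup (V ≃ₗ[ZMod p] V)) (hreg : ∀ v w : V, v ≠ 0 → w ≠ 0 → ∃! h : H, (h : V ≃ₗ[ZMod p] V) v = w) (hsolv : ¬ Group.IsSolvable H) : (Nat.card V = 121 ∧ Nonempty (H ≃* Matrix.SpecialLinearGroup (Fin 2) (ZMod 5))) ∨ (Nat.card V = 841 ∧ Nonempty (H ≃* Matrix.SpecialLinearGroup (Fin 2) (ZMod 5) × Multiplicative (ZMod 7))) ∨ (Nat.card V = 3481 ∧ Nonempty (H ≃* Matrix.SpecialLinearGroup (Fin 2) (ZMod 5) × Multiplicative (ZMod 29))) := by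
  have hp : p.Prime := Fact.out
  haveI : Nontrivial V := by
    by_contra h
    rw [not_nontrivial_iff_subsingleton] at h
    haveI : Subsingleton H := ⟨fun a b => Subtype.ext (LinearEquiv.ext fun v => Subsingleton.elim _ _)⟩
    exact hsolv inferInstance
  obtain ⟨v0, hv0⟩ := exists_ne (0 : V)
  have hne : ∀ (h : H) (v : V), v ≠ 0 → (h : V ≃ₗ[ZMod p] V) v ≠ 0 := fun h v hv e =>
    hv ((LinearEquiv.map_eq_zero_iff _).mp e)
  have hfix : ∀ h : H, h ≠ 1 → ∀ v : V, (h : V ≃ₗ[ZMod p] V) v = v → v = 0 := fun h hh v hv => by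
    by_contra hv'
    exact hh ((hreg v v hv' hv').unique hv rfl)
  let f : H → {w : V // w ≠ 0} := fun h => ⟨(h : V ≃ₗ[ZMod p] V) v0, hne h v0 hv0⟩
  have hf : Function.Bijective f :=
    ⟨fun a b e => (hreg v0 _ hv0 (hne b v0 hv0)).unique (congrArg Subtype.val e) rfl,
      fun w => let ⟨h, hh, _⟩ := hreg v0 w hv0 w.2; ⟨h, Subtype.ext hh⟩⟩
  haveI : Finite H := Finite.of_injective f hf.1
  haveI : Nontrivial H := by
    by_contra h
    rw [not_nontrivial_iff_subsingleton] at h
    exact hsolv inferInstance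
  have hHcard : Nat.card H + 1 = Nat.card V := by
    rw [Nat.card_congr (Equiv.ofBijective f hf)]
    have h := Set.ncard_compl ({0} : Set V)
    rw [Set.ncard_singleton, ← Nat.card_coe_set_eq] at h
    show Nat.card ({0}ᶜ : Set V) + 1 = _
    have : 0 < Nat.card V := Nat.card_pos
    omega
  obtain ⟨L, _, _, C, hC, ⟨eC⟩⟩ := CfsgLib.FrobCompl.exists_isFrobeniusComplement (H := H) (V := V)
    (fun h v => (h : V ≃ₗ[ZMod p] V) v) (fun _ => rfl) (fun _ _ _ => rfl) (fun h v w => map_add _ v w) hfix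
  have hG := CfsgLib.FrobCompl.hasFpf_of_complement hC eC
  obtain ⟨D, M, θ, hDn, hMn, ⟨eD⟩, hdisj, hcomm, hcop, -, -, -, -, -, -, hidx⟩ :=
    CfsgLib.PerfectCompl.nonsolvable_structure hG hsolv
  let I : Matrix.SpecialLinearGroup (Fin 2) (ZMod 5) := ⟨!![0, -1; 1, 0], by decide⟩
  let B : Matrix.SpecialLinearGroup (Fin 2) (ZMod 5) := ⟨!![2, 0; 0, 3], by decide⟩
  have hI4 : I * I * (I * I) = 1 := by decide
  have hI2 : I * I ≠ 1 := by decide
  have hBB : B * B = I * I := by decide
  have hBI : B * I = I * B * (I * I) := by decide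
  set i : H := (eD.symm I : H)
  set b : H := (eD.symm B : H)
  set z : H := i * i
  have hz2 : z * z = 1 := by
    show ((eD.symm I : H) * eD.symm I) * (eD.symm I * eD.symm I) = 1
    rw [← Subgroup.coe_mul, ← Subgroup.coe_mul, ← map_mul, ← map_mul, hI4, map_one, Subgroup.coe_one]
  have hz1 : z ≠ 1 := fun e => hI2 (eD.symm.injective (Subtype.ext (by rw [map_mul, map_one]; exact e)))
  have hbb : b * b = z := by
    show (eD.symm B : H) * eD.symm B = eD.symm I * eD.symm I
    rw [← Subgroup.coe_mul, ← Subgroup.coe_mul, ← map_mul, ← map_mul, hBB]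
  have hbi : b * i = i * b * z := by
    show (eD.symm B : H) * eD.symm I = eD.symm I * eD.symm B * (eD.symm I * eD.symm I)
    rw [← Subgroup.coe_mul, ← Subgroup.coe_mul, ← Subgroup.coe_mul, ← Subgroup.coe_mul, ← map_mul, ← map_mul,
      ← map_mul, ← map_mul, hBI]
  let act : H → V →ₗ[ZMod p] V := fun h => ((h : V ≃ₗ[ZMod p] V) : V →ₗ[ZMod p] V)
  have hact : ∀ (g h : H) v, act (g * h) v = act g (act h v) := fun _ _ _ => rfl
  have hzv : ∀ v, act z v = -v := fun v => by
    have h0 : v + act z v = 0 := by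
      refine hfix z hz1 _ ?_
      show act z (v + act z v) = _
      rw [map_add, ← hact, hz2, add_comm]; rfl
    exact eq_neg_of_add_eq_zero_right h0
  have hp2 : p ≠ 2 := by
    rintro rfl
    refine hv0 (hfix z hz1 v0 ?_)
    show act z v0 = v0
    rw [hzv, ← one_smul (ZMod 2) v0, ← neg_smul, show (-1 : ZMod 2) = 1 from rfl]
  obtain ⟨a, c, hac⟩ := ZMod.sq_add_sq p (-1)
  set L : V →ₗ[ZMod p] V := a • act i + c • act b with hL
  set K : V →ₗ[ZMod p] V := (act i).comp (act b) with hK
  have hii : ∀ v, act i (act i v) = -v := fun v => by rw [← hact]; exact hzv v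
  have hbb' : ∀ v, act b (act b v) = -v := fun v => by rw [← hact, hbb]; exact hzv v
  have hbi' : ∀ v, act b (act i v) = -act i (act b v) := fun v => by
    rw [← hact, hbi, hact, hzv, map_neg, hact]
  have hLL : ∀ v, L (L v) = v := fun v => by
    have e : L (L v) = -((a ^ 2 + c ^ 2 : ZMod p) • v) := by
      simp only [hL, LinearMap.add_apply, LinearMap.smul_apply, map_add, map_smul, hii, hbb', hbi', smul_neg,
        smul_smul]
      module
    rw [e, hac, neg_smul, one_smul, neg_neg]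
  have hLK : ∀ v, L (K v) = -K (L v) := fun v => by
    simp only [hL, hK, LinearMap.add_apply, LinearMap.smul_apply, LinearMap.comp_apply, map_add, map_smul,
      map_neg, hbi', hii, hbb', smul_neg, neg_neg]
    module
  have hKK : ∀ v, K (K v) = -v := fun v => by
    simp only [hK, LinearMap.comp_apply, hbi', map_neg, hbb', hii, neg_neg]
  have h2 : (2 : ZMod p) ≠ 0 := by
    intro h
    apply hp2
    have := (ZMod.natCast_eq_zero_iff 2 p).mp (by exact_mod_cast h)
    exact (Nat.prime_dvd_prime_iff_eq hp Nat.prime_two).mp this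
  let U : Submodule (ZMod p) V := LinearMap.ker (L - LinearMap.id)
  have hU : ∀ v, v ∈ U ↔ L v = v := fun v => by
    rw [LinearMap.mem_ker, LinearMap.sub_apply, LinearMap.id_apply, sub_eq_zero]
  have hVU : Nat.card V = Nat.card U * Nat.card U := by
    rw [← Nat.card_prod]
    refine (Nat.card_congr (Equiv.ofBijective (fun q : U × U => (q.1 : V) + K q.2) ⟨?_, ?_⟩)).symm
    · rintro ⟨⟨u, hu⟩, w, hw⟩ ⟨⟨u', hu'⟩, w', hw'⟩ h
      rw [hU] at hu hw hu' hw'
      have h' : u + K w = u' + K w' := h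
      have hl := congrArg L h'
      rw [map_add, map_add, hLK, hLK, hu, hw, hu', hw'] at hl
      have e1 : (2 : ZMod p) • (u - u') = 0 := by
        calc (2 : ZMod p) • (u - u') = (u + K w) - (u' + K w') + ((u + -K w) - (u' + -K w')) := by module
          _ = 0 := by rw [h', hl, sub_self, sub_self, add_zero]
      have e2 : u = u' := sub_eq_zero.mp ((smul_eq_zero.mp e1).resolve_left h2)
      subst e2
      have e3 : w = w' := by
        have := congrArg K (add_left_cancel h')
        rwa [hKK, hKK, neg_inj] at this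
      subst e3
      rfl
    · intro v
      refine ⟨(⟨(2 : ZMod p)⁻¹ • (v + L v), (hU _).mpr ?_⟩,
        ⟨-K ((2 : ZMod p)⁻¹ • (v - L v)), (hU _).mpr ?_⟩), ?_⟩
      · rw [map_smul, map_add, hLL, add_comm]
      · rw [map_neg, hLK, neg_neg, map_smul, map_smul, map_sub, hLL, ← neg_sub v (L v), map_neg, smul_neg, map_smul]
      · show (2 : ZMod p)⁻¹ • (v + L v) + K (-K ((2 : ZMod p)⁻¹ • (v - L v))) = v
        rw [map_neg, hKK, neg_neg, ← smul_add, add_add_sub_cancel, ← two_smul (ZMod p) v, smul_smul,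
          inv_mul_cancel₀ h2, one_smul]
  have hiD : i ∈ D := (eD.symm I).2
  have hbD : b ∈ D := (eD.symm B).2
  have hMU : ∀ (m : M) (u : V), u ∈ U → act m u ∈ U := fun m u hu => by
    rw [hU] at hu ⊢
    have e1 : ∀ d ∈ D, ∀ v, act d (act (m : H) v) = act (m : H) (act d v) := fun d hd v => by
      rw [← hact, ← hact, hcomm d hd m m.2]
    conv_rhs => rw [← hu]
    simp only [hL, LinearMap.add_apply, LinearMap.smul_apply, e1 i hiD, e1 b hbD, map_add, map_smul]
  letI : MulAction M {u : U // u ≠ 0} :=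
    { smul := fun m u => ⟨⟨act m u.1.1, hMU m _ u.1.2⟩, fun e => u.2 (Subtype.ext (by
        by_contra h
        exact hne (m : H) u.1.1 h (congrArg Subtype.val e)))⟩
      one_smul := fun u => rfl
      mul_smul := fun _ _ u => rfl }
  have hdiv : Nat.card M ∣ Nat.card U - 1 := by
    have h := dvd_card_of_free (M := M) (X := {u : U // u ≠ 0}) fun m u e => by
      by_contra hm
      exact u.2 (Subtype.ext (hfix m (fun h => hm (Subtype.ext h)) u.1.1
        (congrArg (fun w : {u : U // u ≠ 0} => (w.1 : V)) e)))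
    rwa [show Nat.card {u : U // u ≠ 0} = Nat.card U - 1 by
      have h' := Set.ncard_compl ({0} : Set U)
      rw [Set.ncard_singleton, ← Nat.card_coe_set_eq] at h'
      exact h'] at h
  let g : D × M →* H := (D.subtype.noncommCoprod M.subtype fun d m => hcomm d d.2 m m.2)
  have hg : Function.Injective g := by
    refine (injective_iff_map_eq_one g).mpr ?_
    rintro ⟨d, m⟩ h
    have h' : (d : H) * m = 1 := h
    have hm : (m : H) ∈ D ⊓ M := ⟨by rw [← inv_eq_of_mul_eq_one_right h']; exact D.inv_mem d.2, m.2⟩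
    rw [hdisj, Subgroup.mem_bot] at hm
    rw [hm, mul_one] at h'
    exact Prod.ext (Subtype.ext h') (Subtype.ext hm)
  have hgr : g.range = D ⊔ M := by
    show (D.subtype.noncommCoprod M.subtype _).range = _
    refine (MonoidHom.noncommCoprod_range _ _ _).trans ?_
    rw [Subgroup.range_subtype, Subgroup.range_subtype]
  have hcardDM : Nat.card ↥(D ⊔ M) = 120 * Nat.card M := by
    rw [← hgr, ← Nat.card_congr (MonoidHom.ofInjective hg).toEquiv, Nat.card_prod, Nat.card_congr eD.toEquiv,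
      CfsgLib.Classical.card_SL_two, ZMod.card]
    norm_num
  obtain ⟨k, hk⟩ : ∃ k, Nat.card U = p ^ k := by
    refine ⟨Module.finrank (ZMod p) U, ?_⟩
    rw [Module.natCard_eq_pow_finrank (K := ZMod p), Nat.card_zmod]
  have heq : Nat.card U * Nat.card U = 120 * Nat.card M * (D ⊔ M).index + 1 := by
    rw [← hVU, ← hHcard, ← (D ⊔ M).card_mul_index, hcardDM]
  obtain ⟨he1, hres⟩ := arith hp hk hcop hidx heq hdiv
  have htop : g.range = ⊤ := hgr.trans (Subgroup.index_eq_one.mp he1)
  let e : H ≃* Matrix.SpecialLinearGroup (Fin 2) (ZMod 5) × M :=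
    ((MonoidHom.ofInjective hg).trans ((MulEquiv.subgroupCongr htop).trans Subgroup.topEquiv)).symm.trans
      (eD.prodCongr (MulEquiv.refl M))
  rcases hres with ⟨hq, hm⟩ | ⟨hq, hm⟩ | ⟨hq, hm⟩ <;> rw [hVU, hq]
  · refine Or.inl ⟨rfl, ⟨e.trans ?_⟩⟩
    haveI := (Nat.card_eq_one_iff_unique.mp hm).1
    haveI : Unique M := uniqueOfSubsingleton 1
    exact MulEquiv.prodUnique
  · obtain ⟨em⟩ := isCyclic_of_prime_or_one (by norm_num : Nat.Prime 7) hm
    exact Or.inr (Or.inl ⟨rfl, ⟨e.trans ((MulEquiv.refl _).prodCongr em)⟩⟩)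
  · obtain ⟨em⟩ := isCyclic_of_prime_or_one (by norm_num : Nat.Prime 29) hm
    exact Or.inr (Or.inr ⟨rfl, ⟨e.trans ((MulEquiv.refl _).prodCongr em)⟩⟩)

end Cfsg.Agent.S0689
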