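import Cfsg.Statements.S0687
import Cfsg.Agent.S0688
import Cfsg.Agent.S0689

set_option autoImplicit false
open Cfsg

namespace Cfsg.Agent.S0687

/-- In a linear group over the prime field that is regular on non-zero vectors and has no irreducible cyclic normal subgroup, a normal subgroup `N` minimal among the non-abelian normal subgroups centralising a maximal normal abelian subgroup `A` is irreducible on `V`, and its centraliser is `A`. -/
theorem result {p : ℕ} [Fact p.Prime] {V : Type*} [AddCommGroup V] [Module (ZMod p) V] [Finite V] (H : Subgroup (V ≃ₗ[ZMod p] V)) (hreg : ∀ v w : V, v ≠ 0 → w ≠ 0 → ∃! h : H, (h : V ≃ₗ[ZMod p] V) v = w) (hI : ∀ A : Subgroup H, A.Normal → IsCyclic A → ∃ W : Submodule (ZMod p) V, W ≠ ⊥ ∧ W ≠ ⊤ ∧ ∀ a ∈ A, ∀ v ∈ W, ((a : H) : V ≃ₗ[ZMod p] V) v ∈ W) (A : Subgroup H) (hAn : A.Normal) (hAc : IsMulCommutative A) (hAmax : ∀ B : Subgroup H, B.Normal → IsMulCommutative B → A ≤ B → B = A) (N : Subgroup H) (hNn : N.Normal) (hNle : N ≤ Subgroup.centralizer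 (A : Set H)) (hNna : ¬ IsMulCommutative N) (hNmin : ∀ M : Subgroup H, M.Normal → M ≤ N → ¬ IsMulCommutative M → M = N) : (∀ W : Submodule (ZMod p) V, (∀ n ∈ N, ∀ v ∈ W, ((n : H) : V ≃ₗ[ZMod p] V) v ∈ W) → W = ⊥ ∨ W = ⊤) ∧ Subgroup.centralizer (N : Set H) = A := by
  classical
  haveI := hNn
  have htwo : Module.finrank (ZMod p) V = 2 := by
    have hc : Nat.card V ∈ ({25, 49, 121, 529, 841, 3481} : Finset ℕ) := by
      by_cases hs : Group.IsSolvable H
      · rcases Cfsg.Agent.S0688.result H hreg hI hs with h | h | h | h <;> simp [h]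
      · rcases Cfsg.Agent.S0689.result H hreg hs with h | h | h <;> simp [h.1]
    have hV : Nat.card V = p ^ Module.finrank (ZMod p) V := by
      rw [Module.natCard_eq_pow_finrank (K := ZMod p) (V := V), Nat.card_zmod]
    rw [hV] at hc
    obtain ⟨q, hq, hqe⟩ : ∃ q : ℕ, q.Prime ∧ p ^ Module.finrank (ZMod p) V = q ^ 2 := by
      simp only [Finset.mem_insert, Finset.mem_singleton] at hc
      rcases hc with h | h | h | h | h | h
      · exact ⟨5, by norm_num, by omega⟩
      · exact ⟨7, by norm_num, by omega⟩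
      · exact ⟨11, by norm_num, by omega⟩
      · exact ⟨23, by norm_num, by omega⟩
      · exact ⟨29, by norm_num, by omega⟩
      · exact ⟨59, by norm_num, by omega⟩
    have hp : p.Prime := Fact.out
    have hpq : p = q := by
      have : q ∣ p ^ Module.finrank (ZMod p) V := hqe ▸ dvd_pow_self q two_ne_zero
      exact ((Nat.prime_dvd_prime_iff_eq hq hp).mp (hq.dvd_of_dvd_pow this)).symm
    rw [← hpq] at hqe
    exact Nat.pow_right_injective hp.two_le hqe
  have hirr : ∀ W : Submodule (ZMod p) V,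
      (∀ n ∈ N, ∀ v ∈ W, ((n : H) : V ≃ₗ[ZMod p] V) v ∈ W) → W = ⊥ ∨ W = ⊤ := by
    intro W hW
    by_contra hh
    obtain ⟨hbot, htop⟩ := not_or.mp hh
    have h1 : Module.finrank (ZMod p) W = 1 := by
      have := Submodule.finrank_lt htop
      have := Submodule.one_le_finrank_iff.mpr hbot
      omega
    obtain ⟨w, hwW, hw⟩ := Submodule.exists_mem_ne_zero_of_ne_bot hbot
    have hscal : ∀ n ∈ N, ∃ c : ZMod p, ((n : H) : V ≃ₗ[ZMod p] V) w = c • w := fun n hn => by
      obtain ⟨c, hc⟩ := exists_smul_eq_of_finrank_eq_one h1 (x := (⟨w, hwW⟩ : W))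
        (fun h => hw (congrArg Subtype.val h)) ⟨_, hW n hn w hwW⟩
      exact ⟨c, (congrArg Subtype.val hc).symm⟩
    refine hNna ⟨⟨fun a b => Subtype.ext ?_⟩⟩
    obtain ⟨c, hc⟩ := hscal a a.2
    obtain ⟨d, hd⟩ := hscal b b.2
    have hne : ((((a * b : N) : H)) : V ≃ₗ[ZMod p] V) w ≠ 0 := by
      simpa using hw
    obtain ⟨h, -, huniq⟩ := hreg w _ hw hne
    rw [huniq ((a * b : N) : H) rfl]
    refine (huniq _ ?_).symm
    simp [LinearEquiv.mul_apply, hc, hd, smul_smul, mul_comm]
  refine ⟨hirr, ?_⟩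
  refine hAmax _ inferInstance ?_ (Subgroup.le_centralizer_iff.mp hNle)
  obtain ⟨v, hv⟩ : ∃ v : V, v ≠ 0 := by
    haveI : Nontrivial V := Module.nontrivial_of_finrank_eq_succ htwo
    exact exists_ne 0
  obtain ⟨n, hn, hnv⟩ : ∃ n ∈ N, ((n : H) : V ≃ₗ[ZMod p] V) v ∉ Submodule.span (ZMod p) {v} := by
    by_contra hall
    push Not at hall
    rcases hirr (Submodule.span (ZMod p) {v}) (fun m hm x hx => by
      obtain ⟨c, rfl⟩ := Submodule.mem_span_singleton.mp hx
      rw [map_smul]
      exact Submodule.smul_mem _ _ (hall m hm)) with h | h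
    · exact hv (by simpa using h)
    · have := finrank_span_singleton (K := ZMod p) hv
      rw [h, finrank_top] at this
      omega
  set T : V →ₗ[ZMod p] V := ((n : H) : V ≃ₗ[ZMod p] V).toLinearMap with hT
  have hspan : Submodule.span (ZMod p) {v, T v} = ⊤ := by
    refine Submodule.eq_top_of_finrank_eq (le_antisymm (Submodule.finrank_le _) ?_)
    have hlt : Submodule.span (ZMod p) {v} < Submodule.span (ZMod p) {v, T v} :=
      lt_of_le_of_ne (Submodule.span_mono (by simp)) fun h => hnv (by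
        rw [h]; exact Submodule.subset_span (by simp [hT]))
    have := Submodule.finrank_lt_finrank_of_lt hlt
    rw [finrank_span_singleton hv] at this
    omega
  have hcomm : ∀ c ∈ Subgroup.centralizer (N : Set H), ∀ x : V,
      ((c : H) : V ≃ₗ[ZMod p] V) (T x) = T (((c : H) : V ≃ₗ[ZMod p] V) x) := fun c hc x => by
    have := congrArg (fun g : H => (g : V ≃ₗ[ZMod p] V) x) (hc n hn)
    simpa [hT, LinearEquiv.mul_apply] using this.symm
  have hform : ∀ c ∈ Subgroup.centralizer (N : Set H), ∃ a b : ZMod p, ∀ x : V,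
      ((c : H) : V ≃ₗ[ZMod p] V) x = a • x + b • T x := fun c hc => by
    obtain ⟨a, b, hab⟩ := Submodule.mem_span_pair.mp
      (hspan ▸ Submodule.mem_top : ((c : H) : V ≃ₗ[ZMod p] V) v ∈ Submodule.span (ZMod p) {v, T v})
    refine ⟨a, b, fun x => ?_⟩
    have heq : ((c : H) : V ≃ₗ[ZMod p] V).toLinearMap = a • LinearMap.id + b • T := by
      refine LinearMap.ext_on hspan ?_
      rintro y (rfl | rfl)
      · simpa using hab.symm
      · simp [hcomm c hc, ← hab, map_add, map_smul]
    simpa using LinearMap.congr_fun heq x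
  refine ⟨⟨fun c d => Subtype.ext (Subtype.ext (LinearEquiv.ext fun x => ?_))⟩⟩
  obtain ⟨a, b, hab⟩ := hform c c.2
  simp only [Subgroup.coe_mul, LinearEquiv.mul_apply]
  rw [hab, hab, map_add, map_smul, map_smul, hcomm d d.2]

end Cfsg.Agent.S0687
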