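import Cfsg.Statements.S0690
import Cfsg.Agent.Lib.PerfectCompl.Main

set_option autoImplicit false
open Cfsg

namespace Cfsg.Agent.S0690

/-- Zassenhaus: a perfect non-trivial group of fixed-point-free automorphisms of a finite group is isomorphic to `SL(2,5)`. -/
theorem result {K : Type*} [Group K] [Finite K] (G : Subgroup (MulAut K)) (hfpf : ∀ φ ∈ G, φ ≠ 1 → ∀ k : K, φ k = k → k = 1) (hperf : commutator G = ⊤) (hne : G ≠ ⊥) : Nonempty (G ≃* Matrix.SpecialLinearGroup (Fin 2) (ZMod 5)) := by
  haveI : Nontrivial G := (Subgroup.nontrivial_iff_ne_bot G).mpr hne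
  have hK : Nontrivial K := by
    by_contra h
    rw [not_nontrivial_iff_subsingleton] at h
    exact hne ((Subgroup.eq_bot_iff_forall G).mpr fun φ _ => MulEquiv.ext fun k => Subsingleton.elim _ _)
  haveI := hK
  haveI : Finite (MulAut K) := Finite.of_injective (fun φ : MulAut K => (φ : K → K)) DFunLike.coe_injective
  let K' := Shrink.{0} K
  let e : K ≃* K' := (Shrink.mulEquiv).symm
  haveI : Finite K' := Finite.of_equiv _ e.toEquiv
  haveI : Nontrivial K' := e.injective.nontrivial
  let φ : G →* MulAut K' := (MulAut.congr e).toMonoidHom.comp G.subtype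
  obtain ⟨L, _, _, C, hC, ⟨ψ⟩⟩ := CfsgLib.FrobCompl.exists_isFrobeniusComplement (H := G) (V := Additive K')
    (fun h v => Additive.ofMul (φ h v.toMul)) (fun v => by rw [map_one]; rfl) (fun g h v => by rw [map_mul]; rfl)
    (fun h v w => congrArg Additive.ofMul (map_mul (φ h) v.toMul w.toMul)) (fun h hh v hv => by
      have h1 : e ((h : MulAut K) (e.symm v.toMul)) = v.toMul := congrArg Additive.toMul hv
      have h2 := hfpf h h.2 (fun e' => hh (Subtype.ext e')) (e.symm v.toMul) (by
        conv_rhs => rw [← h1, e.symm_apply_apply])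
      exact Additive.toMul.injective (e.symm.injective (h2.trans (map_one e.symm).symm)))
  exact CfsgLib.PerfectCompl.iso_of_perfect_fpf (CfsgLib.FrobCompl.hasFpf_of_complement hC ψ) hperf

end Cfsg.Agent.S0690
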