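import Cfsg.Statements.S0691
import Cfsg.Agent.Lib.Perm.RegularGL2

set_option autoImplicit false
open Cfsg

namespace Cfsg.Agent.S0691

def elems : List (CfsgLib.RegularGL2.Q × ℕ × ℕ) :=
  [ ((1, 0, 0, 1), 0, 0),
    ((2, 0, 0, 3), 0, 0),
    ((0, 4, 1, 0), 0, 1),
    ((1, 2, 1, 3), 0, 2),
    ((4, 0, 0, 4), 1, 0),
    ((0, 3, 3, 0), 1, 1),
    ((2, 4, 3, 4), 1, 2),
    ((0, 2, 2, 0), 2, 0),
    ((4, 2, 1, 2), 2, 2),
    ((2, 1, 2, 4), 3, 0),
    ((3, 3, 4, 1), 3, 2),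
    ((3, 0, 0, 2), 4, 0),
    ((0, 1, 4, 0), 4, 1),
    ((4, 3, 4, 2), 4, 2),
    ((3, 4, 3, 1), 5, 2),
    ((1, 1, 2, 3), 6, 2),
    ((3, 1, 2, 1), 8, 0),
    ((1, 4, 3, 3), 8, 2),
    ((1, 3, 4, 3), 9, 1),
    ((3, 2, 1, 1), 9, 2),
    ((2, 2, 1, 4), 13, 2),
    ((2, 3, 4, 4), 14, 2),
    ((4, 4, 3, 2), 16, 2),
    ((4, 1, 2, 2), 18, 2) ]

def gens : List CfsgLib.RegularGL2.Q := [(2, 0, 0, 3), (0, 4, 1, 0), (1, 2, 1, 3)]

theorem check_elems : CfsgLib.RegularGL2.check 5 1 1 gens elems = true := by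
  decide +kernel


/-- An exceptional sharply doubly transitive group of degree 5^2: the listed matrices generate a subgroup of GL(2,5) of order 24 acting regularly on the non-zero vectors. -/
theorem result (A : Matrix.GeneralLinearGroup (Fin 2) (ZMod 5)) (B : Matrix.GeneralLinearGroup (Fin 2) (ZMod 5)) (C : Matrix.GeneralLinearGroup (Fin 2) (ZMod 5)) (hA : (A : Matrix (Fin 2) (Fin 2) (ZMod 5)) = !![2, 0; 0, -2]) (hB : (B : Matrix (Fin 2) (Fin 2) (ZMod 5)) = !![0, -1; 1, 0]) (hC : (C : Matrix (Fin 2) (Fin 2) (ZMod 5)) = !![1, 2; 1, -2]) : Nat.card (Subgroup.closure ({A, B, C} : Set (Matrix.GeneralLinearGroup (Fin 2) (ZMod 5)))) = 24 ∧ ∀ v w : Fin 2 → ZMod 5, v ≠ 0 → w ≠ 0 → ∃! h : Subgroup.closure ({A, B, C} : Set (Matrix.GeneralLinearGroup (Fin 2) (ZMod 5))), Matrix.mulVec ((h : Matrix.GeneralLinearGroup (Fin 2) (ZMod 5)) : Matrix (Fin 2) (Fin 2) (ZMod 5)) v = w := by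
  haveI : Fact (Nat.Prime 5) := ⟨by norm_num⟩
  have hlen : elems.length * 1 = 24 := by decide +kernel
  rw [← hlen]
  refine CfsgLib.RegularGL2.regular_of_check (p := 5) 1 1 (by norm_num) (by rfl) gens elems check_elems _ ?_ ?_ ?_
  · rintro g (rfl | rfl | rfl)
    · left; exact ⟨(2, 0, 0, 3), by simp [gens], hA.trans (by simp [CfsgLib.RegularGL2.mat]; rfl)⟩
    · left; exact ⟨(0, 4, 1, 0), by simp [gens], hB.trans (by simp [CfsgLib.RegularGL2.mat]; rfl)⟩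
    · left; exact ⟨(1, 2, 1, 3), by simp [gens], hC.trans (by simp [CfsgLib.RegularGL2.mat]; rfl)⟩
  · intro q hq
    simp only [gens, List.mem_cons, List.not_mem_nil, or_false] at hq
    rcases hq with rfl | rfl | rfl
    · exact ⟨A, Subgroup.subset_closure (by simp), hA.trans (by simp [CfsgLib.RegularGL2.mat]; rfl)⟩
    · exact ⟨B, Subgroup.subset_closure (by simp), hB.trans (by simp [CfsgLib.RegularGL2.mat]; rfl)⟩
    · exact ⟨C, Subgroup.subset_closure (by simp), hC.trans (by simp [CfsgLib.RegularGL2.mat]; rfl)⟩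
  · exact ⟨1, one_mem _, by simp⟩

end Cfsg.Agent.S0691
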