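import Cfsg.Statements.S0692
import Cfsg.Agent.Lib.Perm.RegularGL2

set_option autoImplicit false
open Cfsg

namespace Cfsg.Agent.S0692

def elems : List (CfsgLib.RegularGL2.Q × ℕ × ℕ) :=
  [ ((1, 0, 0, 1), 0, 0),
    ((0, 10, 1, 0), 0, 0),
    ((2, 4, 1, 8), 0, 1),
    ((10, 0, 0, 10), 1, 0),
    ((10, 3, 2, 4), 1, 1),
    ((4, 9, 8, 10), 2, 0),
    ((8, 7, 10, 2), 2, 1),
    ((0, 1, 10, 0), 3, 0),
    ((9, 7, 10, 3), 3, 1),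
    ((3, 1, 4, 9), 4, 0),
    ((1, 9, 8, 7), 4, 1),
    ((6, 0, 4, 2), 5, 1),
    ((7, 3, 2, 1), 6, 0),
    ((1, 8, 9, 7), 7, 1),
    ((7, 2, 3, 1), 8, 0),
    ((3, 4, 1, 9), 8, 1),
    ((7, 9, 6, 0), 9, 1),
    ((9, 10, 7, 3), 10, 0),
    ((0, 5, 2, 7), 11, 0),
    ((1, 2, 10, 10), 11, 1),
    ((6, 8, 5, 5), 12, 1),
    ((8, 10, 7, 2), 13, 0),
    ((10, 2, 3, 4), 13, 1),
    ((5, 0, 7, 9), 14, 1),
    ((4, 8, 9, 10), 15, 0),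
    ((9, 4, 0, 5), 16, 0),
    ((1, 1, 1, 2), 16, 1),
    ((6, 6, 6, 8), 17, 1),
    ((5, 7, 0, 9), 18, 1),
    ((2, 10, 10, 1), 19, 0),
    ((8, 5, 5, 6), 20, 0),
    ((9, 0, 4, 5), 20, 1),
    ((4, 2, 5, 0), 21, 1),
    ((2, 1, 4, 8), 22, 0),
    ((0, 6, 9, 4), 23, 0),
    ((10, 9, 1, 1), 23, 1),
    ((5, 3, 6, 6), 24, 1),
    ((0, 2, 5, 7), 25, 1),
    ((1, 10, 2, 10), 26, 0),
    ((6, 5, 8, 5), 27, 0),
    ((7, 6, 9, 0), 27, 1),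
    ((6, 10, 9, 6), 28, 1),
    ((3, 0, 10, 4), 29, 1),
    ((10, 6, 5, 2), 30, 1),
    ((2, 7, 0, 6), 32, 0),
    ((10, 10, 10, 9), 32, 1),
    ((5, 5, 5, 3), 33, 1),
    ((6, 4, 0, 2), 34, 1),
    ((9, 1, 1, 10), 35, 0),
    ((3, 6, 6, 5), 36, 0),
    ((2, 0, 7, 6), 36, 1),
    ((2, 5, 6, 10), 37, 1),
    ((1, 7, 3, 0), 38, 1),
    ((6, 9, 10, 6), 39, 1),
    ((10, 5, 6, 2), 41, 0),
    ((0, 8, 4, 1), 42, 0),
    ((6, 1, 2, 6), 42, 1),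
    ((4, 0, 1, 3), 43, 1),
    ((0, 9, 6, 4), 44, 1),
    ((10, 1, 9, 1), 45, 0),
    ((5, 6, 3, 6), 46, 0),
    ((4, 5, 2, 0), 46, 1),
    ((5, 1, 2, 5), 47, 1),
    ((8, 0, 1, 7), 48, 1),
    ((1, 5, 6, 9), 49, 1),
    ((5, 9, 10, 5), 51, 0),
    ((7, 10, 0, 8), 52, 0),
    ((9, 5, 6, 1), 52, 1),
    ((10, 8, 4, 0), 53, 1),
    ((3, 3, 3, 7), 54, 1),
    ((8, 9, 9, 2), 55, 1),
    ((0, 7, 3, 10), 57, 0),
    ((9, 6, 5, 1), 58, 1),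
    ((10, 4, 8, 0), 59, 1),
    ((5, 2, 1, 5), 60, 1),
    ((1, 6, 5, 9), 62, 0),
    ((0, 3, 7, 10), 63, 0),
    ((5, 10, 9, 5), 63, 1),
    ((7, 0, 10, 8), 64, 1),
    ((8, 4, 3, 3), 65, 1),
    ((2, 9, 8, 9), 66, 1),
    ((8, 1, 0, 7), 68, 0),
    ((3, 8, 7, 8), 69, 0),
    ((9, 3, 2, 2), 69, 1),
    ((3, 5, 9, 8), 70, 1),
    ((7, 1, 5, 4), 71, 1),
    ((6, 2, 1, 6), 72, 0),
    ((4, 1, 0, 3), 73, 0),
    ((2, 6, 5, 10), 73, 1),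
    ((1, 3, 7, 0), 74, 1),
    ((8, 8, 8, 4), 75, 1),
    ((3, 2, 2, 9), 76, 1),
    ((0, 4, 8, 1), 78, 0),
    ((4, 3, 3, 8), 79, 0),
    ((9, 9, 9, 3), 79, 1),
    ((2, 3, 3, 5), 80, 1),
    ((6, 7, 7, 1), 81, 1),
    ((3, 10, 0, 4), 82, 1),
    ((5, 8, 8, 2), 84, 0),
    ((1, 4, 4, 6), 85, 0),
    ((3, 7, 8, 8), 86, 1),
    ((9, 2, 3, 2), 87, 1),
    ((8, 3, 4, 3), 90, 0),
    ((2, 8, 9, 9), 90, 1),
    ((8, 6, 2, 3), 91, 1),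
    ((4, 10, 6, 7), 92, 1),
    ((3, 9, 5, 8), 95, 0),
    ((7, 5, 1, 4), 96, 0),
    ((5, 4, 4, 10), 97, 1),
    ((7, 7, 7, 4), 98, 1),
    ((6, 3, 3, 9), 99, 1),
    ((7, 8, 8, 3), 100, 0),
    ((2, 2, 2, 8), 100, 1),
    ((9, 8, 8, 6), 101, 1),
    ((10, 7, 7, 5), 105, 0),
    ((4, 7, 7, 7), 106, 1),
    ((8, 2, 6, 3), 107, 1),
    ((4, 6, 10, 7), 108, 0),
    ((7, 4, 4, 4), 109, 0),
    ((4, 4, 4, 7), 110, 1) ]

def gens : List CfsgLib.RegularGL2.Q := [(0, 10, 1, 0), (2, 4, 1, 8)]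

theorem check_elems : CfsgLib.RegularGL2.check 11 1 1 gens elems = true := by
  decide +kernel


/-- An exceptional sharply doubly transitive group of degree 11^2: the listed matrices generate a subgroup of GL(2,11) of order 120 acting regularly on the non-zero vectors. -/
theorem result (A : Matrix.GeneralLinearGroup (Fin 2) (ZMod 11)) (B : Matrix.GeneralLinearGroup (Fin 2) (ZMod 11)) (hA : (A : Matrix (Fin 2) (Fin 2) (ZMod 11)) = !![0, -1; 1, 0]) (hB : (B : Matrix (Fin 2) (Fin 2) (ZMod 11)) = !![2, 4; 1, -3]) : Nat.card (Subgroup.closure ({A, B} : Set (Matrix.GeneralLinearGroup (Fin 2) (ZMod 11)))) = 120 ∧ ∀ v w : Fin 2 → ZMod 11, v ≠ 0 → w ≠ 0 → ∃! h : Subgroup.closure ({A, B} : Set (Matrix.GeneralLinearGroup (Fin 2) (ZMod 11))), Matrix.mulVec ((h : Matrix.GeneralLinearGroup (Fin 2) (ZMod 11)) : Matrix (Fin 2) (Fin 2) (ZMod 11))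 v = w := by
  haveI : Fact (Nat.Prime 11) := ⟨by norm_num⟩
  have hlen : elems.length * 1 = 120 := by decide +kernel
  rw [← hlen]
  refine CfsgLib.RegularGL2.regular_of_check (p := 11) 1 1 (by norm_num) (by rfl) gens elems check_elems _ ?_ ?_ ?_
  · rintro g (rfl | rfl)
    · left; exact ⟨(0, 10, 1, 0), by simp [gens], hA.trans (by simp [CfsgLib.RegularGL2.mat]; rfl)⟩
    · left; exact ⟨(2, 4, 1, 8), by simp [gens], hB.trans (by simp [CfsgLib.RegularGL2.mat]; rfl)⟩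
  · intro q hq
    simp only [gens, List.mem_cons, List.not_mem_nil, or_false] at hq
    rcases hq with rfl | rfl
    · exact ⟨A, Subgroup.subset_closure (by simp), hA.trans (by simp [CfsgLib.RegularGL2.mat]; rfl)⟩
    · exact ⟨B, Subgroup.subset_closure (by simp), hB.trans (by simp [CfsgLib.RegularGL2.mat]; rfl)⟩
  · exact ⟨1, one_mem _, by simp⟩

end Cfsg.Agent.S0692
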