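import Cfsg.Statements.S0693
import Cfsg.Agent.Lib.Perm.RegularGL2

set_option autoImplicit false
open Cfsg

namespace Cfsg.Agent.S0693

def elems : List (CfsgLib.RegularGL2.Q × ℕ × ℕ) :=
  [ ((1, 0, 0, 1), 0, 0),
    ((0, 58, 1, 0), 0, 0),
    ((9, 15, 49, 49), 0, 1),
    ((58, 0, 0, 58), 1, 0),
    ((10, 10, 9, 15), 1, 1),
    ((15, 50, 49, 10), 2, 0),
    ((49, 44, 10, 9), 2, 1),
    ((0, 1, 58, 0), 3, 0),
    ((50, 44, 10, 10), 3, 1),
    ((10, 49, 15, 50), 4, 0),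
    ((49, 50, 49, 44), 4, 1),
    ((48, 20, 46, 45), 5, 1),
    ((44, 10, 9, 49), 6, 0),
    ((49, 49, 50, 44), 7, 1),
    ((44, 9, 10, 49), 8, 0),
    ((10, 15, 49, 50), 8, 1),
    ((13, 14, 48, 20), 9, 1),
    ((50, 10, 44, 10), 10, 0),
    ((20, 11, 45, 13), 11, 0),
    ((55, 48, 23, 4), 11, 1),
    ((1, 29, 4, 58), 12, 1),
    ((49, 10, 44, 9), 13, 0),
    ((10, 9, 10, 15), 13, 1),
    ((11, 39, 13, 14), 14, 1),
    ((15, 49, 50, 10), 15, 0),
    ((14, 46, 20, 11), 16, 0),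
    ((36, 55, 55, 48), 16, 1),
    ((55, 1, 1, 29), 17, 1),
    ((11, 13, 39, 14), 18, 1),
    ((48, 4, 4, 36), 19, 0),
    ((29, 58, 58, 55), 20, 0),
    ((14, 20, 46, 11), 20, 1),
    ((46, 45, 11, 39), 21, 1),
    ((9, 49, 15, 49), 22, 0),
    ((39, 48, 14, 46), 23, 0),
    ((4, 11, 36, 55), 23, 1),
    ((58, 30, 55, 1), 24, 1),
    ((20, 45, 11, 13), 25, 1),
    ((55, 23, 48, 4), 26, 0),
    ((1, 4, 29, 58), 27, 0),
    ((13, 48, 14, 20), 27, 1),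
    ((28, 35, 34, 32), 28, 1),
    ((38, 31, 30, 54), 29, 1),
    ((35, 32, 31, 25), 30, 1),
    ((45, 13, 39, 48), 32, 0),
    ((23, 4, 4, 11), 32, 1),
    ((4, 58, 58, 30), 33, 1),
    ((48, 46, 20, 45), 34, 1),
    ((11, 55, 55, 23), 35, 0),
    ((30, 1, 1, 4), 36, 0),
    ((45, 39, 13, 48), 36, 1),
    ((25, 27, 28, 35), 37, 1),
    ((29, 5, 38, 31), 38, 1),
    ((28, 34, 35, 32), 39, 1),
    ((35, 31, 32, 25), 41, 0),
    ((31, 21, 54, 29), 42, 0),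
    ((32, 24, 25, 28), 42, 1),
    ((54, 28, 29, 38), 43, 1),
    ((39, 14, 48, 46), 44, 1),
    ((4, 36, 11, 55), 45, 0),
    ((58, 55, 30, 1), 46, 0),
    ((46, 11, 45, 39), 46, 1),
    ((31, 24, 25, 27), 47, 1),
    ((21, 28, 29, 5), 48, 1),
    ((24, 27, 28, 34), 49, 1),
    ((27, 34, 35, 31), 51, 0),
    ((5, 30, 31, 21), 52, 0),
    ((34, 31, 32, 24), 52, 1),
    ((30, 21, 54, 28), 53, 1),
    ((5, 38, 38, 53), 54, 1),
    ((10, 19, 19, 48), 55, 1),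
    ((28, 5, 38, 30), 57, 0),
    ((34, 32, 31, 24), 58, 1),
    ((30, 54, 21, 28), 59, 1),
    ((31, 25, 24, 27), 60, 1),
    ((24, 28, 27, 34), 62, 0),
    ((28, 38, 5, 30), 63, 0),
    ((27, 35, 34, 31), 63, 1),
    ((5, 31, 30, 21), 64, 1),
    ((21, 6, 5, 38), 65, 1),
    ((40, 11, 10, 19), 66, 1),
    ((21, 29, 28, 5), 68, 0),
    ((38, 54, 53, 21), 69, 0),
    ((19, 49, 48, 40), 69, 1),
    ((18, 19, 45, 41), 70, 1),
    ((25, 16, 42, 34), 71, 1),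
    ((32, 25, 24, 28), 72, 0),
    ((54, 29, 28, 38), 73, 0),
    ((25, 28, 27, 35), 73, 1),
    ((29, 38, 5, 31), 74, 1),
    ((54, 21, 21, 6), 75, 1),
    ((49, 40, 40, 11), 76, 1),
    ((31, 54, 21, 29), 78, 0),
    ((6, 38, 38, 54), 79, 0),
    ((11, 19, 19, 49), 79, 1),
    ((14, 18, 18, 19), 80, 1),
    ((17, 25, 25, 16), 81, 1),
    ((38, 30, 31, 54), 82, 1),
    ((19, 41, 41, 14), 84, 0),
    ((16, 34, 34, 17), 85, 0),
    ((38, 53, 54, 21), 86, 1),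
    ((19, 48, 49, 40), 87, 1),
    ((21, 5, 6, 38), 90, 0),
    ((40, 10, 11, 19), 90, 1),
    ((41, 40, 14, 18), 91, 1),
    ((34, 43, 17, 25), 92, 1),
    ((18, 45, 19, 41), 95, 0),
    ((25, 42, 16, 34), 96, 0),
    ((42, 34, 34, 43), 97, 1),
    ((56, 52, 52, 3), 98, 1),
    ((40, 18, 18, 45), 99, 1),
    ((53, 21, 21, 5), 100, 0),
    ((48, 40, 40, 10), 100, 1),
    ((45, 41, 41, 40), 101, 1),
    ((43, 25, 25, 42), 105, 0),
    ((7, 56, 56, 52), 106, 1),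
    ((41, 14, 40, 18), 107, 1),
    ((34, 17, 43, 25), 108, 0),
    ((52, 3, 3, 7), 109, 0),
    ((3, 7, 7, 56), 110, 1) ]

def gens : List CfsgLib.RegularGL2.Q := [(0, 58, 1, 0), (9, 15, 49, 49)]

theorem check_elems : CfsgLib.RegularGL2.check 59 4 29 gens elems = true := by
  decide +kernel


/-- An exceptional sharply doubly transitive group of degree 59^2: the listed matrices generate a subgroup of GL(2,59) of order 3480 acting regularly on the non-zero vectors. -/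
theorem result (A : Matrix.GeneralLinearGroup (Fin 2) (ZMod 59)) (B : Matrix.GeneralLinearGroup (Fin 2) (ZMod 59)) (C : Matrix.GeneralLinearGroup (Fin 2) (ZMod 59)) (hA : (A : Matrix (Fin 2) (Fin 2) (ZMod 59)) = !![0, -1; 1, 0]) (hB : (B : Matrix (Fin 2) (Fin 2) (ZMod 59)) = !![9, 15; -10, -10]) (hC : (C : Matrix (Fin 2) (Fin 2) (ZMod 59)) = !![4, 0; 0, 4]) : Nat.card (Subgroup.closure ({A, B, C} : Set (Matrix.GeneralLinearGroup (Fin 2) (ZMod 59)))) = 3480 ∧ ∀ v w : Fin 2 → ZMod 59, v ≠ 0 → w ≠ 0 → ∃! h : Subgroup.closure ({A, B, C} : Set (Matrix.GeneralLinearGroup (Fin 2) (ZMod 59))), Matrix.mulVec ((h : Matrix.GeneralLinearGroup (Fin 2) (ZMod 59)) : Matrix (Fin 2) (Fin 2) (ZMod 59)) v = w := by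
  haveI : Fact (Nat.Prime 59) := ⟨by norm_num⟩
  have hlen : elems.length * 29 = 3480 := by decide +kernel
  rw [← hlen]
  refine CfsgLib.RegularGL2.regular_of_check (p := 59) 4 29 (by norm_num) (by rfl) gens elems check_elems _ ?_ ?_ ?_
  · rintro g (rfl | rfl | rfl)
    · left; exact ⟨(0, 58, 1, 0), by simp [gens], hA.trans (by simp [CfsgLib.RegularGL2.mat]; rfl)⟩
    · left; exact ⟨(9, 15, 49, 49), by simp [gens], hB.trans (by simp [CfsgLib.RegularGL2.mat]; rfl)⟩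
    · right; rw [hC]; ext i j; fin_cases i <;> fin_cases j <;> simp
  · intro q hq
    simp only [gens, List.mem_cons, List.not_mem_nil, or_false] at hq
    rcases hq with rfl | rfl
    · exact ⟨A, Subgroup.subset_closure (by simp), hA.trans (by simp [CfsgLib.RegularGL2.mat]; rfl)⟩
    · exact ⟨B, Subgroup.subset_closure (by simp), hB.trans (by simp [CfsgLib.RegularGL2.mat]; rfl)⟩
  · exact ⟨C, Subgroup.subset_closure (by simp), by rw [hC]; ext i j; fin_cases i <;> fin_cases j <;> simp⟩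

end Cfsg.Agent.S0693
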