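import Cfsg.Statements.S0694
import Mathlib.NumberTheory.Multiplicity
import Mathlib.Algebra.Ring.GeomSum
import Mathlib.FieldTheory.Finite.Basic
import Mathlib.Data.Nat.Factorization.Induction

set_option autoImplicit false
open Cfsg

namespace Cfsg.Agent.S0694

def S (q i : ℕ) : ℕ := ∑ j ∈ Finset.range i, q ^ j

theorem S_mul {q : ℕ} (hq : 1 < q) (i : ℕ) : (q - 1) * S q i = q ^ i - 1 := by
  unfold S
  induction i with
  | zero => simp
  | succ i ih =>
    rw [Finset.sum_range_succ, mul_add, ih, pow_succ, Nat.sub_mul, one_mul]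
    have : 1 ≤ q ^ i := Nat.one_le_pow _ _ (by omega)
    have h2 : q ^ i * 1 ≤ q ^ i * q := Nat.mul_le_mul_left _ (by omega)
    rw [mul_comm q]
    omega

theorem modEq_iff {q n i : ℕ} (hq : 1 < q) : q ^ i ≡ 1 [MOD n * (q - 1)] ↔ n ∣ S q i := by
  rw [Nat.ModEq.comm, Nat.modEq_iff_dvd' (Nat.one_le_pow _ _ (by omega)), ← S_mul hq, mul_comm n]
  exact Nat.mul_dvd_mul_iff_left (by omega)

theorem S_mul_index (q d k : ℕ) : S q (d * k) = S q d * ∑ j ∈ Finset.range k, q ^ (d * j) := by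
  induction k with
  | zero => simp [S]
  | succ k ih =>
    rw [Finset.sum_range_succ, mul_add (S q d), ← ih, Nat.mul_succ]
    simp [S, Finset.sum_range_add, pow_add, Finset.sum_mul, mul_comm]

theorem S_dvd (q d k : ℕ) : S q d ∣ S q (d * k) := ⟨_, S_mul_index q d k⟩

theorem S_cast {q r : ℕ} (hq : 1 < q) (hr : r ∣ q - 1) (i : ℕ) : (S q i : ZMod r) = i := by
  have h : (q : ZMod r) = 1 := by
    obtain ⟨c, hc⟩ := hr
    rw [show q = r * c + 1 by omega]
    simp
  simp [S, h]

theorem pow_dvd_S {q r : ℕ} (hq : 1 < q) (hr : r ∣ q - 1) : ∀ e, r ^ e ∣ S q (r ^ e)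
  | 0 => by simp
  | e + 1 => by
    rw [pow_succ, S_mul_index]
    refine mul_dvd_mul (pow_dvd_S hq hr e) ?_
    rw [← ZMod.natCast_eq_zero_iff]
    obtain ⟨c, hc⟩ := hr
    have h : (q : ZMod r) = 1 := by
      rw [show q = r * c + 1 by omega]
      simp
    simp [h]

theorem two_bad {q : ℕ} (hq : 1 < q) (h2 : 2 ∣ q - 1) (h4 : ¬ 4 ∣ q - 1) : ∀ e, 2 ≤ e →
    2 ^ e ∣ S q (2 ^ (e - 1)) := by
  intro e he
  induction e, he using Nat.le_induction with
  | base =>
    simp [S, Finset.sum_range_succ]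
    omega
  | succ e he ih =>
    rw [show e + 1 - 1 = (e - 1) + 1 by omega, pow_succ (2:ℕ) (e-1), pow_succ (2:ℕ) e, S_mul_index]
    refine mul_dvd_mul ih ?_
    simp [Finset.sum_range_succ]
    obtain ⟨c, hc⟩ := h2
    have ho : Odd (q ^ 2 ^ (e - 1)) := Odd.pow ⟨c, by omega⟩
    obtain ⟨d, hd⟩ := ho
    omega

theorem euler {q r : ℕ} (hq : 1 < q) (hr : r.Prime) (h : ¬ r ∣ q) (h1 : ¬ r ∣ q - 1) (e : ℕ) :
    r ^ e ∣ S q (r ^ e).totient := by
  have hc : Nat.Coprime q (r ^ e) := Nat.Coprime.pow_right e ((hr.coprime_iff_not_dvd.2 h).symm)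
  have h2 := Nat.ModEq.pow_totient hc
  rw [Nat.ModEq.comm, Nat.modEq_iff_dvd' (Nat.one_le_pow _ _ (by omega)), ← S_mul hq] at h2
  exact (Nat.Coprime.pow_left e (hr.coprime_iff_not_dvd.2 h1)).dvd_of_dvd_mul_left h2

theorem exists_small {q : ℕ} (hq : 1 < q) : ∀ m, 0 < m → (∀ s, s.Prime → s ∣ m → ¬ s ∣ q) →
    ∃ M, 0 < M ∧ M ≤ m ∧ m ∣ S q M := by
  intro m
  induction m using Nat.recOnPosPrimePosCoprime with
  | prime_pow r e hr he =>
    intro _ h
    by_cases h1 : r ∣ q - 1
    · exact ⟨_, pow_pos hr.pos e, le_rfl, pow_dvd_S hq h1 e⟩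
    · exact ⟨_, Nat.totient_pos.2 (pow_pos hr.pos e), Nat.totient_le _,
        euler hq hr (h r hr (dvd_pow_self r (by omega))) h1 e⟩
  | zero => intro h; omega
  | one => intro _ _; exact ⟨1, one_pos, le_rfl, one_dvd _⟩
  | coprime a b ha hb hab iha ihb =>
    intro _ h
    obtain ⟨A, A0, Aa, Ad⟩ := iha (by omega) (fun s hs hsa => h s hs (hsa.mul_right _))
    obtain ⟨B, B0, Bb, Bd⟩ := ihb (by omega) (fun s hs hsb => h s hs (hsb.mul_left _))
    exact ⟨A * B, Nat.mul_pos A0 B0, Nat.mul_le_mul Aa Bb,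
      hab.mul_dvd_of_dvd_of_dvd (Ad.trans (S_dvd q A B)) (Bd.trans (mul_comm B A ▸ S_dvd q B A))⟩

theorem lte {q r : ℕ} (hq : 1 < q) (hr : r.Prime) (h1 : r ∣ q - 1) (e i : ℕ)
    (h : e ≤ 1 ∨ r ≠ 2 ∨ 4 ∣ q - 1) : r ^ e ∣ S q i ↔ r ^ e ∣ i := by
  haveI : Fact r.Prime := ⟨hr⟩
  have small : r ∣ S q i ↔ r ∣ i := by
    rw [← ZMod.natCast_eq_zero_iff, ← ZMod.natCast_eq_zero_iff, S_cast hq h1]
  rcases Nat.lt_or_ge e 2 with he | he
  · interval_cases e
    · simp
    · simpa using small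
  rcases Nat.eq_zero_or_pos i with rfl | hi
  · simp [S]
  have hS : S q i ≠ 0 := by
    intro h0
    have := S_mul hq i
    rw [h0, mul_zero] at this
    have := Nat.one_lt_pow (n := i) (by omega) hq
    omega
  by_cases hri : r ∣ i
  swap
  · have hd : r ∣ r ^ e := dvd_pow_self r (by omega)
    exact iff_of_false (fun hh => hri (small.1 (hd.trans hh))) (fun hh => hri (hd.trans hh))
  have hq' : ¬ r ∣ q := fun hh => hr.ne_one (Nat.dvd_one.1 (by
    have := Nat.dvd_sub hh h1
    rwa [show q - (q - 1) = 1 by omega] at this))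
  have hv : padicValNat r (S q i) = padicValNat r i := by
    have hm : padicValNat r (q ^ i - 1) = padicValNat r (q - 1) + padicValNat r (S q i) := by
      rw [← S_mul hq, padicValNat.mul (by omega) hS]
    by_cases h2 : r = 2
    · subst h2
      have h4 : 4 ∣ q - 1 := by
        rcases h with h | h | h
        · omega
        · exact absurd rfl h
        · exact h
      have hl := padicValNat.pow_two_sub_one hq hq' hi.ne' (even_iff_two_dvd.2 hri)
      obtain ⟨c, hc⟩ := h4
      have hp1 : padicValNat 2 (q + 1) = 1 := by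
        rw [show q + 1 = 2 * (2 * c + 1) by omega, padicValNat.mul (by norm_num) (by omega),
          padicValNat.self (by norm_num), padicValNat.eq_zero_of_not_dvd (by omega)]
      omega
    · have hl := padicValNat.pow_sub_pow (p := r) (x := q) (y := 1) (hr.odd_of_ne_two h2) hq h1 hq' hi.ne'
      rw [one_pow] at hl
      omega
  rw [padicValNat_dvd_iff_le hS, padicValNat_dvd_iff_le hi.ne', hv]


/-- The Dickson pair condition: for a prime power `q` and `n > 1`, (every prime factor of `n` divides `q - 1`, and `4 ∣ n → 4 ∣ q - 1`) holds exactly when `q ^ n ≡ 1` modulo `n * (q - 1)` but `q ^ i` is not, for `0 < i < n`. -/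
theorem result (q n : ℕ) (hq : IsPrimePow q) (hn : 1 < n) : ((∀ r : ℕ, r.Prime → r ∣ n → r ∣ q - 1) ∧ (4 ∣ n → 4 ∣ q - 1)) ↔ (q ^ n ≡ 1 [MOD n * (q - 1)] ∧ ∀ i : ℕ, 0 < i → i < n → ¬ q ^ i ≡ 1 [MOD n * (q - 1)]) := by
  have hq1 : 1 < q := hq.one_lt
  simp only [modEq_iff hq1]
  constructor
  · rintro ⟨h1, h4⟩
    have key : ∀ i, n ∣ S q i ↔ n ∣ i := by
      intro i
      rw [Nat.dvd_iff_prime_pow_dvd_dvd, Nat.dvd_iff_prime_pow_dvd_dvd]
      refine forall_congr' fun r => forall_congr' fun e => ?_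
      refine imp_congr_right fun hr => imp_congr_right fun he => ?_
      rcases Nat.eq_zero_or_pos e with rfl | he0
      · simp
      have hrn : r ∣ n := (dvd_pow_self r (by omega)).trans he
      refine lte hq1 hr (h1 r hr hrn) e i ?_
      by_cases h2 : r = 2
      · subst h2
        by_cases hee : e ≤ 1
        · exact Or.inl hee
        · exact Or.inr (Or.inr (h4 (((pow_dvd_pow 2 (show 2 ≤ e by omega))).trans he)))
      · exact Or.inr (Or.inl h2)
    refine ⟨(key n).2 dvd_rfl, fun i hi hin h => ?_⟩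
    exact absurd (Nat.le_of_dvd hi ((key i).1 h)) (by omega)
  · rintro ⟨hn0, hmin⟩
    have hcop : ∀ r, r.Prime → r ∣ n → ¬ r ∣ q := by
      intro r hr hrn hrq
      obtain ⟨m, rfl⟩ : ∃ m, n = m + 1 := ⟨n - 1, by omega⟩
      have h := hrn.trans hn0
      rw [S, geom_sum_succ] at h
      exact hr.ne_one (Nat.dvd_one.1 ((Nat.dvd_add_right (hrq.mul_right _)).1 h))
    have bad : ∀ r, r.Prime → r ∣ n → ∀ d, 0 < d → d < r ^ n.factorization r →
        r ^ n.factorization r ∣ S q d → False := by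
      intro r hr hrn d hd hlt hdvd
      obtain ⟨M, hM0, hM, hMd⟩ := exists_small hq1 (n / r ^ n.factorization r)
        (Nat.div_pos (Nat.le_of_dvd (by omega) (Nat.ordProj_dvd n r)) (pow_pos hr.pos _))
        (fun s hs hsn => hcop s hs (hsn.trans (Nat.ordCompl_dvd n r)))
      refine hmin (d * M) (Nat.mul_pos hd hM0) ?_ ?_
      · calc d * M < r ^ n.factorization r * M := Nat.mul_lt_mul_of_pos_right hlt hM0
          _ ≤ r ^ n.factorization r * (n / r ^ n.factorization r) := Nat.mul_le_mul_left _ hM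
          _ = n := Nat.ordProj_mul_ordCompl_eq_self n r
      · have h := Nat.Coprime.mul_dvd_of_dvd_of_dvd
          ((Nat.coprime_ordCompl hr (by omega)).pow_left _)
          (hdvd.trans (S_dvd q d M)) (hMd.trans (mul_comm M d ▸ S_dvd q M d))
        rwa [Nat.ordProj_mul_ordCompl_eq_self n r] at h
    have first : ∀ r, r.Prime → r ∣ n → r ∣ q - 1 := by
      intro r hr hrn
      apply Classical.byContradiction
      intro hc
      exact bad r hr hrn (r ^ n.factorization r).totient (Nat.totient_pos.2 (pow_pos hr.pos _))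
        (Nat.totient_lt _ (one_lt_pow₀ hr.one_lt (by
          have := hr.factorization_pos_of_dvd (by omega) hrn; omega)))
        (euler hq1 hr (hcop r hr hrn) hc _)
    refine ⟨first, fun h4 => ?_⟩
    apply Classical.byContradiction
    intro hc
    have h2n : 2 ∣ n := (show (2:ℕ) ∣ 4 by norm_num).trans h4
    have he : 2 ≤ n.factorization 2 :=
      (Nat.prime_two.pow_dvd_iff_le_factorization (by omega)).1 (by simpa using h4)
    refine bad 2 Nat.prime_two h2n (2 ^ (n.factorization 2 - 1)) (by positivity)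
      (Nat.pow_lt_pow_right (by norm_num) (by omega)) ?_
    exact two_bad hq1 (first 2 Nat.prime_two h2n) hc _ he

end Cfsg.Agent.S0694
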