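import Cfsg.Statements.S0698
import Cfsg.Agent.Lib.Perm.MultPrim

set_option autoImplicit false
open Cfsg

namespace Cfsg.Agent.S0698

/-- Jordan's Theorem on normal subgroups of multiply transitive groups: if `G` is `k`-transitive (`k > 1`) of degree greater than `k`, a non-trivial normal subgroup is `(k-1)`-transitive, except possibly for `k = 3` when it may be an elementary abelian 2-group. -/
theorem result {α : Type*} [Fintype α] [DecidableEq α] (G : Subgroup (Equiv.Perm α)) {k : ℕ} (hk : 1 < k) (hdeg : k < Fintype.card α) (hG : MulAction.IsMultiplyPretransitive G α k) (N : Subgroup G) [N.Normal] (hN : N ≠ ⊥) : MulAction.IsMultiplyPretransitive N α (k - 1) ∨ (k = 3 ∧ IsMulCommutative N ∧ ∀ n ∈ N, n ^ 2 = 1) := by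
  classical
  have hprim := CfsgLib.MultPrim.preprimitive_of_transitive (X := α) (show 2 ≤ k by omega) hdeg.le hG
  by_cases hnr : ∃ a : α, MulAction.stabilizer N a ≠ ⊥
  · rcases CfsgLib.MultPrim.normal_k_primitive (k - 1) (by omega) (by omega) hprim N inferInstance hnr with
      h | ⟨-, hle⟩
    · exact .inl h
    · omega
  push Not at hnr
  haveI := hprim.isMultiplyPretransitive
  haveI hGprim : MulAction.IsPreprimitive G α := by
    haveI := hG
    haveI : MulAction.IsMultiplyPretransitive G α 2 :=
      MulAction.isMultiplyPretransitive_of_le (n := k) (by omega)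
        (by rw [Nat.card_eq_fintype_card]; omega)
    exact MulAction.isPreprimitive_of_is_two_pretransitive inferInstance
  haveI hNt : MulAction.IsPretransitive N α := by
    refine MulAction.IsQuasiPreprimitive.isPretransitive_of_normal fun h => hN ?_
    rw [Subgroup.eq_bot_iff_forall]
    intro x hx
    refine Subtype.ext (Equiv.ext fun y => ?_)
    exact (h ▸ Set.mem_univ y : y ∈ MulAction.fixedPoints N α) ⟨x, hx⟩
  rcases (show k = 2 ∨ k = 3 ∨ 4 ≤ k by omega) with h | h | h
  · left; subst h; exact MulAction.is_one_pretransitive_iff.mpr hNt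
  · right; subst h
    rcases CfsgLib.MultPrim.two_primitive (by omega) hprim hNt hnr with h | ⟨hc, hsq, -⟩
    · omega
    · exact ⟨rfl, hc, hsq⟩
  · exfalso
    have h3 : MulAction.IsMultiplyPreprimitive G α 3 := by
      haveI := hG
      exact CfsgLib.MultPrim.preprimitive_of_transitive (show 2 ≤ 4 by norm_num) (by omega)
        (MulAction.isMultiplyPretransitive_of_le (n := k) h (by rw [Nat.card_eq_fintype_card]; omega))
    rcases CfsgLib.MultPrim.three_primitive (by omega) h3 hNt hnr with h | h <;> omega

end Cfsg.Agent.S0698
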