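import Cfsg.Statements.S0699
import Mathlib
-- import your own Cfsg.Agent.* helpers here

set_option autoImplicit false
open Cfsg

namespace Cfsg.Agent.S0699

/-- Wagner's Theorem: a non-trivial normal subgroup of a triply transitive permutation group of odd degree at least 5 is triply transitive. -/
theorem result {α : Type*} [Fintype α] [DecidableEq α] (G : Subgroup (Equiv.Perm α)) (hodd : Odd (Fintype.card α)) (h5 : 5 ≤ Fintype.card α) (hG : MulAction.IsMultiplyPretransitive G α 3) (N : Subgroup G) [N.Normal] (hN : N ≠ ⊥) : MulAction.IsMultiplyPretransitive N α 3 := by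
  classical
  haveI : Fact (Nat.Prime 2) := ⟨Nat.prime_two⟩
  have htrip : ∀ a b c a' b' c' : α, a ≠ b → a ≠ c → b ≠ c → a' ≠ b' → a' ≠ c' → b' ≠ c' →
      ∃ g : G, g • a = a' ∧ g • b = b' ∧ g • c = c' := by
    intro a b c a' b' c' h1 h2 h3 h1' h2' h3'
    have mk : ∀ x y z : α, x ≠ y → x ≠ z → y ≠ z →
        ∃ e : Fin 3 ↪ α, e 0 = x ∧ e 1 = y ∧ e 2 = z := fun x y z u v w =>
      ⟨⟨![x, y, z], fun i j h => by fin_cases i <;> fin_cases j <;> simp_all [eq_comm]⟩, rfl, rfl, rfl⟩
    obtain ⟨e, e0, e1, e2⟩ := mk a b c h1 h2 h3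
    obtain ⟨f, f0, f1, f2⟩ := mk a' b' c' h1' h2' h3'
    obtain ⟨g, hg⟩ := hG.exists_smul_eq e f
    refine ⟨g, ?_, ?_, ?_⟩
    · rw [← e0, ← f0, ← hg]; rfl
    · rw [← e1, ← f1, ← hg]; rfl
    · rw [← e2, ← f2, ← hg]; rfl
  have hthird : ∀ a b : α, ∃ c, c ≠ a ∧ c ≠ b := by
    intro a b
    have : (({a, b} : Finset α)).card < (Finset.univ : Finset α).card := by
      rw [Finset.card_univ]
      exact lt_of_le_of_lt Finset.card_le_two (by omega)
    obtain ⟨c, -, hc⟩ := Finset.exists_mem_notMem_of_card_lt_card this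
    simp at hc
    exact ⟨c, hc.1, hc.2⟩
  have hpair : ∀ a b a' b' : α, a ≠ b → a' ≠ b' → ∃ g : G, g • a = a' ∧ g • b = b' := by
    intro a b a' b' h h'
    obtain ⟨c, hc1, hc2⟩ := hthird a b
    obtain ⟨c', hc1', hc2'⟩ := hthird a' b'
    obtain ⟨g, g1, g2, -⟩ := htrip a b c a' b' c' h hc1.symm hc2.symm h' hc1'.symm hc2'.symm
    exact ⟨g, g1, g2⟩
  have hone : ∀ a a' : α, ∃ g : G, g • a = a' := by
    intro a a'
    obtain ⟨b, hb, -⟩ := hthird a a
    obtain ⟨b', hb', -⟩ := hthird a' a'
    obtain ⟨g, g1, -⟩ := hpair a b a' b' hb.symm hb'.symm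
    exact ⟨g, g1⟩
  have hconj : ∀ (g : G) (m : N) (x : α),
      ((⟨g * m * g⁻¹, Subgroup.Normal.conj_mem inferInstance (m : G) m.2 g⟩ : N)) • (g • x) = g • (m • x) := by
    intro g m x
    show (g * (m : G) * g⁻¹) • (g • x) = g • ((m : G) • x)
    rw [mul_smul, mul_smul, inv_smul_smul]
  -- `N` is transitive
  have hN1 : ∀ a b : α, ∃ m : N, m • a = b := by
    intro a b
    obtain ⟨m, x, hmx⟩ : ∃ (m : N) (x : α), m • x ≠ x := by
      by_contra h
      push Not at h
      refine hN (N.eq_bot_iff_forall.mpr fun g hg => Subtype.ext (Equiv.ext fun x => ?_))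
      exact h ⟨g, hg⟩ x
    by_cases hab : a = b
    · exact ⟨1, by rw [one_smul, hab]⟩
    obtain ⟨g, g1, g2⟩ := hpair x (m • x) a b hmx.symm hab
    exact ⟨_, by rw [← g1, hconj g m x, g2]⟩
  -- a one point stabiliser in `N` moves something
  have hmove : ∀ a : α, ∃ (m : N) (x : α), m • a = a ∧ m • x ≠ x := by
    intro a
    by_contra h
    push Not at h
    have hfree : ∀ m m' : N, m • a = m' • a → m = m' := by
      intro m m' he
      have h1 : (m'⁻¹ * m) • a = a := by rw [mul_smul, he, inv_smul_smul]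
      refine (inv_mul_eq_one.mp (Subtype.ext (Subtype.ext (Equiv.ext fun x => ?_)))).symm
      exact h (m'⁻¹ * m) x h1
    have hcard : Nat.card N = Fintype.card α := by
      rw [← Nat.card_eq_fintype_card]
      exact Nat.card_congr (Equiv.ofBijective (fun m : N => m • a) ⟨fun m m' he => hfree m m' he, hN1 a⟩)
    obtain ⟨b, hb, -⟩ := hthird a a
    obtain ⟨x, hx⟩ := hN1 a b
    have hxx : x⁻¹ • a ≠ x • a := by
      intro he
      have h1 := hfree _ _ he
      have h2 : x ^ 2 = 1 := by rw [pow_two]; nth_rewrite 1 [← h1]; rw [inv_mul_cancel]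
      have h3 : orderOf x ∣ 1 := by
        have := Nat.dvd_gcd (orderOf_dvd_of_pow_eq_one h2) (hcard ▸ orderOf_dvd_natCard x)
        rwa [(Nat.coprime_two_left.mpr hodd : Nat.gcd 2 _ = 1)] at this
      rw [Nat.dvd_one, orderOf_eq_one_iff] at h3
      rw [h3, one_smul] at hx
      exact hb hx.symm
    have hxa : x • a ≠ a := hx ▸ hb
    have hxia : x⁻¹ • a ≠ a := fun he => hxa (by nth_rewrite 1 [← he]; rw [smul_inv_smul])
    obtain ⟨c, hc⟩ : ∃ c, c ∉ ({a, x • a, x⁻¹ • a} : Finset α) := by
      by_contra h'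
      push Not at h'
      have := Finset.card_le_card (s := (Finset.univ : Finset α)) (fun c _ => h' c)
      rw [Finset.card_univ] at this
      have := this.trans Finset.card_le_three
      omega
    simp only [Finset.mem_insert, Finset.mem_singleton, not_or] at hc
    obtain ⟨g, g1, g2, g3⟩ := htrip a (x • a) (x⁻¹ • a) a (x • a) c hxa.symm hxia.symm hxx.symm
      hxa.symm (Ne.symm hc.1) (Ne.symm hc.2.1)
    set y : N := ⟨g * x * g⁻¹, Subgroup.Normal.conj_mem inferInstance (x : G) x.2 g⟩ with hy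
    have hy1 : y • a = x • a := by
      conv_lhs => rw [← g1]
      rw [hconj g x a, g2]
    have hyx := hfree _ _ hy1
    have hc' : y⁻¹ • a = c := by
      rw [inv_smul_eq_iff, ← g3, hconj g x, smul_inv_smul, g1]
    rw [hyx] at hc'
    exact hc.2.2 hc'.symm
  have hN2 : ∀ a b a' b' : α, a ≠ b → a' ≠ b' → ∃ m : N, m • a = a' ∧ m • b = b' := by
    intro a b a' b' h h'
    obtain ⟨m1, hm1⟩ := hN1 a a'
    obtain ⟨m, x, hma, hmx⟩ := hmove a'
    have hx : x ≠ a' := fun he => hmx (he ▸ hma)
    have hbne : m1 • b ≠ a' := fun he => h ((smul_left_cancel_iff m1).mp (he.trans hm1.symm)).symm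
    by_cases hbb : m1 • b = b'
    · exact ⟨m1, hm1, hbb⟩
    have hmxa : m • x ≠ a' := fun he => hx (smul_left_cancel m (he.trans hma.symm))
    obtain ⟨g, g1, g2, g3⟩ := htrip a' x (m • x) a' (m1 • b) b' hx.symm hmxa.symm hmx.symm
      hbne.symm h' hbb
    refine ⟨⟨g * m * g⁻¹, Subgroup.Normal.conj_mem inferInstance (m : G) m.2 g⟩ * m1, ?_, ?_⟩
    · rw [mul_smul, hm1]
      conv_lhs => rw [← g1]
      rw [hconj g m, hma, g1]
    · rw [mul_smul, ← g2, hconj g m, g3]
  -- some element of `N` swaps two points and fixes a third, hence always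
  have hswap : ∀ a b c : α, a ≠ b → a ≠ c → b ≠ c → ∃ m : N, m • a = b ∧ m • b = a ∧ m • c = c := by
    intro a b c hab hac hbc
    obtain ⟨m, m1, m2⟩ := hN2 a b b a hab hab.symm
    obtain ⟨k, j, hj, hk⟩ := Nat.exists_eq_two_pow_mul_odd (orderOf_pos m).ne'
    have hsq : ∀ i : ℕ, (m ^ (2 * i)) • a = a ∧ (m ^ (2 * i)) • b = b := by
      intro i
      induction i with
      | zero => simp
      | succ i ih =>
        rw [show 2 * (i + 1) = 2 * i + 2 from by ring, pow_add, mul_smul, mul_smul, pow_two, mul_smul,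
          mul_smul, m1, m2, m1, ih.1, ih.2]
        exact ⟨rfl, rfl⟩
    obtain ⟨i, rfl⟩ := hj
    set u := m ^ (2 * i + 1) with hu
    have u1 : u • a = b := by rw [hu, pow_succ', mul_smul, (hsq i).1, m1]
    have u2 : u • b = a := by rw [hu, pow_succ', mul_smul, (hsq i).2, m2]
    have hup : IsPGroup 2 (Subgroup.zpowers u) := by
      refine IsPGroup.of_card (n := k) ?_
      rw [Nat.card_zpowers, hu, orderOf_pow' _ (by omega), hk,
        Nat.gcd_eq_right (Dvd.intro_left _ rfl), Nat.mul_div_cancel _ (by omega)]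
    obtain ⟨d, hd⟩ := hup.nonempty_fixed_point_of_prime_not_dvd_card α (by
      rw [Nat.card_eq_fintype_card]
      exact hodd.not_two_dvd_nat)
    have hud : u • d = d := hd ⟨u, Subgroup.mem_zpowers u⟩
    have hda : d ≠ a := fun he => hab (by rw [← u1, ← he, hud])
    have hdb : d ≠ b := fun he => hab (by rw [← u2, ← he, hud])
    obtain ⟨g, g1, g2, g3⟩ := htrip a b d a b c hab hda.symm hdb.symm hab hac hbc
    refine ⟨⟨g * u * g⁻¹, Subgroup.Normal.conj_mem inferInstance (u : G) u.2 g⟩, ?_, ?_, ?_⟩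
    · conv_lhs => rw [← g1]
      rw [hconj g u, u1, g2]
    · conv_lhs => rw [← g2]
      rw [hconj g u, u2, g1]
    · conv_lhs => rw [← g3]
      rw [hconj g u, hud, g3]
  -- the two point stabiliser of `N` is transitive on the rest
  have hN3 : ∀ a b c c' : α, a ≠ b → c ≠ a → c ≠ b → c' ≠ a → c' ≠ b →
      ∃ m : N, m • a = a ∧ m • b = b ∧ m • c = c' := by
    intro a b c c' hab hca hcb hca' hcb'
    set K : Subgroup N := MulAction.stabilizer N a ⊓ MulAction.stabilizer N b with hK
    obtain ⟨w, w1, w2, -⟩ := hswap a b c hab hca.symm hcb.symm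
    have hwa : w⁻¹ • a = b := by rw [inv_smul_eq_iff, w2]
    have hwb : w⁻¹ • b = a := by rw [inv_smul_eq_iff, w1]
    let P : Sylow 2 K := default
    let ψ : N →* MulAut N := MulAut.conj
    have hwK : ∀ x : N, x ∈ K → w * x * w⁻¹ ∈ K := by
      intro x hx
      have hx1 : x • a = a := hx.1
      have hx2 : x • b = b := hx.2
      refine ⟨?_, ?_⟩
      · show (w * x * w⁻¹) • a = a
        rw [mul_smul, mul_smul, hwa, hx2, w2]
      · show (w * x * w⁻¹) • b = b
        rw [mul_smul, mul_smul, hwb, hx1, w1]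
    -- a swapping element normalising `P`
    set P' : Subgroup N := (P : Subgroup K).map K.subtype with hP'
    have hP'K : P' ≤ K := Subgroup.map_subtype_le _
    have hconjle : P'.map (MulAut.conj w).toMonoidHom ≤ K := by
      rintro _ ⟨x, hx, rfl⟩
      exact hwK x (hP'K hx)
    obtain ⟨Q, hQ⟩ := (((P.isPGroup'.map K.subtype).map (MulAut.conj w).toMonoidHom).comap_of_injective K.subtype K.subtype_injective).exists_le_sylow
    obtain ⟨k, hk⟩ := MulAction.exists_smul_eq K Q P
    set w' : N := (k : N) * w with hw'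
    have hk' : (k : N) ∈ MulAction.stabilizer N a ⊓ MulAction.stabilizer N b := k.2
    have hk1 : (k : N) • a = a := hk'.1
    have hk2 : (k : N) • b = b := hk'.2
    have w1' : w' • a = b := by rw [hw', mul_smul, w1, hk2]
    have w2' : w' • b = a := by rw [hw', mul_smul, w2, hk1]
    have hnorm : w' ∈ Subgroup.normalizer (P' : Set N) := by
      refine Subgroup.mem_normalizer_fintype fun x hx => ?_
      have h1 : (⟨w * x * w⁻¹, hwK x (hP'K hx)⟩ : K) ∈ (Q : Subgroup K) :=
        hQ (show (⟨w * x * w⁻¹, hwK x (hP'K hx)⟩ : K) ∈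
          ((P'.map (MulAut.conj w).toMonoidHom)).comap K.subtype from ⟨x, hx, rfl⟩)
      have h2 : (MulAut.conj k) (⟨w * x * w⁻¹, hwK x (hP'K hx)⟩ : K) ∈ (P : Subgroup K) := by
        rw [← hk]
        exact Subgroup.smul_mem_pointwise_smul _ (MulAut.conj k) _ h1
      refine ⟨_, h2, ?_⟩
      show (k : N) * (w * x * w⁻¹) * (k : N)⁻¹ = w' * x * w'⁻¹
      rw [hw', mul_inv_rev]
      group
    obtain ⟨e, j, hj, he⟩ := Nat.exists_eq_two_pow_mul_odd (orderOf_pos w').ne'
    obtain ⟨i, rfl⟩ := hj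
    set u := w' ^ (2 * i + 1) with hu
    have hsq : ∀ l : ℕ, (w' ^ (2 * l)) • a = a ∧ (w' ^ (2 * l)) • b = b := by
      intro l
      induction l with
      | zero => simp
      | succ l ih =>
        have e2 : ∀ z : α, (w' ^ 2) • z = w' • (w' • z) := fun z => by rw [pow_two, mul_smul]
        rw [show 2 * (l + 1) = 2 * l + 2 from by ring, pow_add, mul_smul, mul_smul, e2, e2, w1', w2', w1',
          ih.1, ih.2]
        exact ⟨rfl, rfl⟩
    have u1 : u • a = b := by rw [hu, pow_succ', mul_smul, (hsq i).1, w1']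
    have u2 : u • b = a := by rw [hu, pow_succ', mul_smul, (hsq i).2, w2']
    have hup : IsPGroup 2 (Subgroup.zpowers u) := by
      refine IsPGroup.of_card (n := e) ?_
      rw [Nat.card_zpowers, hu, orderOf_pow' _ (by omega), he,
        Nat.gcd_eq_right (Dvd.intro_left _ rfl), Nat.mul_div_cancel _ (by omega)]
    set R : Subgroup N := Subgroup.zpowers u ⊔ P' with hR
    have hRp : IsPGroup 2 R := hup.to_sup_of_normal_right' (P.isPGroup'.map K.subtype)
      (Subgroup.zpowers_le.mpr (pow_mem hnorm _))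
    have huR : u ∈ R := le_sup_left (b := P') (Subgroup.mem_zpowers u)
    have hPR : P' < R := lt_of_le_of_ne le_sup_right fun he' => hab (by
      have := hP'K (he'.symm ▸ huR)
      rw [← u1, (MulAction.mem_stabilizer_iff.mp this.1)])
    -- a larger 2-subgroup fixes at most one point
    have huniqfix : ∀ x y : α, (∀ r : R, r • x = x) → (∀ r : R, r • y = y) → x = y := by
      intro x y hx hy
      by_contra hxy
      obtain ⟨g, g1, g2⟩ := hN2 x y a b hxy hab
      have hle : R.map (MulAut.conj g).toMonoidHom ≤ K := by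
        rintro _ ⟨r, hr, rfl⟩
        have e1 : r • x = x := hx ⟨r, hr⟩
        have e2 : r • y = y := hy ⟨r, hr⟩
        have gx : g⁻¹ • a = x := by rw [inv_smul_eq_iff, g1]
        have gy : g⁻¹ • b = y := by rw [inv_smul_eq_iff, g2]
        refine ⟨?_, ?_⟩
        · show (g * r * g⁻¹) • a = a
          rw [mul_smul, mul_smul, gx, e1, g1]
        · show (g * r * g⁻¹) • b = b
          rw [mul_smul, mul_smul, gy, e2, g2]
      obtain ⟨T, hT⟩ := ((hRp.map (MulAut.conj g).toMonoidHom).comap_of_injective K.subtype K.subtype_injective).exists_le_sylow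
      have h1 : Nat.card ((R.map (MulAut.conj g).toMonoidHom).comap K.subtype) = Nat.card R := by
        show Nat.card ((R.map (MulAut.conj g).toMonoidHom).subgroupOf K) = _
        rw [Nat.card_congr (Subgroup.subgroupOfEquivOfLe hle).toEquiv,
          Subgroup.card_map_of_injective (MulAut.conj g).injective]
      have h2 : Nat.card P' = Nat.card T := by
        rw [hP', Subgroup.card_map_of_injective K.subtype_injective]
        exact Nat.card_congr (P.equiv T).toEquiv
      have h3 := Subgroup.card_le_of_le hT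
      rw [h1, ← h2] at h3
      exact hPR.ne (Subgroup.eq_of_le_of_card_ge hPR.le h3)
    obtain ⟨c0, hc0⟩ := hRp.nonempty_fixed_point_of_prime_not_dvd_card α (by
      rw [Nat.card_eq_fintype_card]
      exact hodd.not_two_dvd_nat)
    have hc0' : ∀ r : R, r • c0 = c0 := hc0
    have hc0a : c0 ≠ a := fun h => hab (by
      have := hc0' ⟨u, huR⟩
      rw [h] at this
      exact this.symm.trans u1)
    have hc0b : c0 ≠ b := fun h => hab (by
      have := hc0' ⟨u, huR⟩
      rw [h] at this
      exact u2.symm.trans this)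
    -- orbits of `K` off `a, b` are invariant under `R`
    have hinv : ∀ x : α, x ≠ a → x ≠ b → ∀ r : R, ∀ y ∈ MulAction.orbit K x,
        (r : N) • y ∈ MulAction.orbit K x := by
      intro x hxa hxb r y hy
      obtain ⟨k', rfl⟩ := hy
      obtain ⟨v, v1, v2, v3⟩ := hswap a b x hab hxa.symm hxb.symm
      have hk1' : (k' : N) • a = a := (show (k' : N) ∈ K from k'.2).1
      have hk2' : (k' : N) • b = b := (show (k' : N) ∈ K from k'.2).2
      have hmemK : ∀ q : N, q • a = a → q • b = b → q • x ∈ MulAction.orbit K x := fun q q1 q2 =>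
        ⟨⟨q, q1, q2⟩, rfl⟩
      have hmemS : ∀ q : N, q • a = b → q • b = a → q • x ∈ MulAction.orbit K x := fun q q1 q2 => by
        have := hmemK (q * v) (by rw [mul_smul, v1, q2]) (by rw [mul_smul, v2, q1])
        rwa [mul_smul, v3] at this
      let S : Subgroup N :=
        { carrier := {q | (q • a = a ∧ q • b = b) ∨ (q • a = b ∧ q • b = a)}
          one_mem' := Or.inl ⟨one_smul _ a, one_smul _ b⟩
          mul_mem' := by
            rintro q q' (⟨q1, q2⟩ | ⟨q1, q2⟩) (⟨p1, p2⟩ | ⟨p1, p2⟩)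
            · exact Or.inl ⟨by rw [mul_smul, p1, q1], by rw [mul_smul, p2, q2]⟩
            · exact Or.inr ⟨by rw [mul_smul, p1, q2], by rw [mul_smul, p2, q1]⟩
            · exact Or.inr ⟨by rw [mul_smul, p1, q1], by rw [mul_smul, p2, q2]⟩
            · exact Or.inl ⟨by rw [mul_smul, p1, q2], by rw [mul_smul, p2, q1]⟩
          inv_mem' := by
            rintro q (⟨q1, q2⟩ | ⟨q1, q2⟩)
            · exact Or.inl ⟨by rw [inv_smul_eq_iff, q1], by rw [inv_smul_eq_iff, q2]⟩
            · exact Or.inr ⟨by rw [inv_smul_eq_iff, q2], by rw [inv_smul_eq_iff, q1]⟩ }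
      have hRS : R ≤ S := sup_le (Subgroup.zpowers_le.mpr (Or.inr ⟨u1, u2⟩))
        (fun q hq => Or.inl ⟨(hP'K hq).1, (hP'K hq).2⟩)
      show (r : N) • ((k' : N) • x) ∈ MulAction.orbit K x
      rw [← mul_smul]
      rcases hRS r.2 with ⟨r1, r2⟩ | ⟨r1, r2⟩
      · exact hmemK _ (by rw [mul_smul, hk1', r1]) (by rw [mul_smul, hk2', r2])
      · exact hmemS _ (by rw [mul_smul, hk1', r1]) (by rw [mul_smul, hk2', r2])
    have hall : ∀ x : α, x ≠ a → x ≠ b → c0 ∈ MulAction.orbit K x := by
      intro x hxa hxb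
      by_contra hx
      -- both orbits have the same odd size
      let AR : ∀ z : α, z ≠ a → z ≠ b → MulAction R (MulAction.orbit K z) := fun z z1 z2 =>
        { smul := fun r y => ⟨(r : N) • (y : α), hinv z z1 z2 r y y.2⟩
          one_smul := fun y => Subtype.ext (one_smul N (y : α))
          mul_smul := fun r r' y => Subtype.ext (mul_smul (r : N) (r' : N) (y : α)) }
      have hoddO : ¬ 2 ∣ Nat.card (MulAction.orbit K c0) := by
        letI := AR c0 hc0a hc0b
        have h := hRp.card_modEq_card_fixedPoints (MulAction.orbit K c0)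
        have h1 : Nat.card (MulAction.fixedPoints R (MulAction.orbit K c0)) = 1 := by
          rw [Nat.card_eq_one_iff_unique]
          refine ⟨⟨fun y y' => Subtype.ext (Subtype.ext ?_)⟩,
            ⟨⟨⟨c0, MulAction.mem_orbit_self c0⟩, fun r => Subtype.ext (hc0' r)⟩⟩⟩
          exact huniqfix _ _ (fun r => congrArg Subtype.val (y.2 r))
            (fun r => congrArg Subtype.val (y'.2 r))
        rw [h1, Nat.ModEq] at h
        omega
      have hsize : ¬ 2 ∣ Nat.card (MulAction.orbit K x) := by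
        intro hdvd
        apply hoddO
        obtain ⟨g, g1, g2, g3⟩ := htrip a b x a b c0 hab hxa.symm hxb.symm hab hc0a.symm hc0b.symm
        have himg : (fun y => g • y) '' MulAction.orbit K x = MulAction.orbit K c0 := by
          ext y
          constructor
          · rintro ⟨_, ⟨k', rfl⟩, rfl⟩
            refine ⟨⟨⟨g * (k' : N) * g⁻¹, Subgroup.Normal.conj_mem inferInstance ((k' : N) : G) (k' : N).2 g⟩, ?_, ?_⟩, ?_⟩
            · show _ • a = a
              conv_lhs => rw [← g1]
              rw [hconj g k', (show (k' : N) • a = a from (show (k' : N) ∈ K from k'.2).1), g1]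
            · show _ • b = b
              conv_lhs => rw [← g2]
              rw [hconj g k', (show (k' : N) • b = b from (show (k' : N) ∈ K from k'.2).2), g2]
            · show _ • c0 = g • ((k' : N) • x)
              exact (congrArg (_ • ·) g3.symm).trans (hconj g (k' : N) x)
          · rintro ⟨k', rfl⟩
            have hi1 : g⁻¹ • a = a := by rw [inv_smul_eq_iff, g1]
            have hi2 : g⁻¹ • b = b := by rw [inv_smul_eq_iff, g2]
            refine ⟨g⁻¹ • ((k' : N) • c0), ⟨⟨⟨g⁻¹ * (k' : N) * g⁻¹⁻¹, Subgroup.Normal.conj_mem inferInstance ((k' : N) : G) (k' : N).2 g⁻¹⟩, ?_, ?_⟩, ?_⟩, ?_⟩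
            · show _ • a = a
              conv_lhs => rw [← hi1]
              rw [hconj g⁻¹ k', (show (k' : N) • a = a from (show (k' : N) ∈ K from k'.2).1), hi1]
            · show _ • b = b
              conv_lhs => rw [← hi2]
              rw [hconj g⁻¹ k', (show (k' : N) • b = b from (show (k' : N) ∈ K from k'.2).2), hi2]
            · have hi3 : g⁻¹ • c0 = x := by rw [inv_smul_eq_iff, g3]
              exact (congrArg (_ • ·) hi3.symm).trans (hconj g⁻¹ (k' : N) c0)
            · show g • (g⁻¹ • ((k' : N) • c0)) = _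
              rw [smul_inv_smul]
              rfl
        rw [← himg, Nat.card_image_of_injective (MulAction.injective g)]
        exact hdvd
      letI := AR x hxa hxb
      obtain ⟨y, hy⟩ := hRp.nonempty_fixed_point_of_prime_not_dvd_card (MulAction.orbit K x) hsize
      have := huniqfix (y : α) c0 (fun r => congrArg Subtype.val (hy r)) hc0'
      exact hx (this ▸ y.2)
    obtain ⟨k1, e1⟩ := hall c hca hcb
    obtain ⟨k2, e2⟩ := hall c' hca' hcb'
    have e3 : (k2⁻¹ * k1) • c = c' := by
      rw [mul_smul, inv_smul_eq_iff]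
      exact e1.trans e2.symm
    exact ⟨((k2⁻¹ * k1 : K) : N), (show ((k2⁻¹ * k1 : K) : N) ∈ K from (k2⁻¹ * k1).2).1,
      (show ((k2⁻¹ * k1 : K) : N) ∈ K from (k2⁻¹ * k1).2).2, e3⟩
  refine ⟨fun e f => ?_⟩
  have ne : ∀ (e : Fin 3 ↪ α) {i j}, i ≠ j → e i ≠ e j := fun e i j hij h => hij (e.injective h)
  obtain ⟨m, m1, m2⟩ := hN2 (e 0) (e 1) (f 0) (f 1) (ne e (by decide)) (ne f (by decide))
  obtain ⟨k, k1, k2, k3⟩ := hN3 (f 0) (f 1) (m • e 2) (f 2) (ne f (by decide))
    (fun h => ne e (show (2 : Fin 3) ≠ 0 by decide) (smul_left_cancel m (h.trans m1.symm)))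
    (fun h => ne e (show (2 : Fin 3) ≠ 1 by decide) (smul_left_cancel m (h.trans m2.symm)))
    (ne f (by decide)) (ne f (by decide))
  refine ⟨k * m, ?_⟩
  ext i
  fin_cases i
  · show (k * m) • e 0 = f 0
    rw [mul_smul, m1, k1]
  · show (k * m) • e 1 = f 1
    rw [mul_smul, m2, k2]
  · show (k * m) • e 2 = f 2
    rw [mul_smul, k3]

end Cfsg.Agent.S0699
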