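import Cfsg.Statements.S0701

set_option autoImplicit false
open Cfsg

namespace Cfsg.Agent.S0701

/-- The centraliser in the full symmetric group of a transitive permutation group `G` is semiregular, and it is transitive if and only if `G` is regular. -/
theorem result {α : Type*} (G : Subgroup (Equiv.Perm α)) [MulAction.IsPretransitive G α] : (∀ c ∈ Subgroup.centralizer (G : Set (Equiv.Perm α)), ∀ a : α, c a = a → c = 1) ∧ (MulAction.IsPretransitive (Subgroup.centralizer (G : Set (Equiv.Perm α))) α ↔ ∀ a : α, MulAction.stabilizer G a = ⊥) := by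
  classical
  refine ⟨fun c hc a ha => ?_, ⟨fun hT a => ?_, fun hreg => ?_⟩⟩
  · ext b
    obtain ⟨g, rfl⟩ := MulAction.exists_smul_eq G a b
    have h := Equiv.congr_fun (Subgroup.mem_centralizer_iff.1 hc g g.2) a
    simp only [Equiv.Perm.coe_mul, Function.comp_apply, ha] at h
    show c ((g : Equiv.Perm α) a) = (g : Equiv.Perm α) a
    exact h.symm
  · rw [Subgroup.eq_bot_iff_forall]
    intro g hg
    have hga : (g : Equiv.Perm α) a = a := hg
    apply Subtype.ext
    ext b
    obtain ⟨c, rfl⟩ := hT.exists_smul_eq a b
    have h := Equiv.congr_fun (Subgroup.mem_centralizer_iff.1 c.2 g g.2) a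
    simp only [Equiv.Perm.coe_mul, Function.comp_apply, hga] at h
    show (g : Equiv.Perm α) ((c : Equiv.Perm α) a) = (c : Equiv.Perm α) a
    exact h
  · have huniq : ∀ (a : α) (g g' : G), g • a = g' • a → g = g' := fun a g g' h => by
      have hm : g'⁻¹ * g ∈ MulAction.stabilizer G a := by
        rw [MulAction.mem_stabilizer_iff, mul_smul, h, inv_smul_smul]
      rw [hreg a, Subgroup.mem_bot, inv_mul_eq_one] at hm
      exact hm.symm
    refine ⟨fun a b => ?_⟩
    choose g hg using fun x => MulAction.exists_smul_eq G a x
    choose k hk using fun x => MulAction.exists_smul_eq G b x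
    let c : Equiv.Perm α :=
      { toFun := fun x => g x • b
        invFun := fun x => k x • a
        left_inv := fun x => by
          have : k (g x • b) = g x := huniq b _ _ (hk _)
          simp [this, hg]
        right_inv := fun x => by
          have : g (k x • a) = k x := huniq a _ _ (hg _)
          simp [this, hk] }
    have hc : c ∈ Subgroup.centralizer (G : Set (Equiv.Perm α)) := by
      rw [Subgroup.mem_centralizer_iff]
      intro h hh
      ext x
      have : g ((⟨h, hh⟩ : G) • x) = ⟨h, hh⟩ * g x := huniq a _ _ (by rw [hg, mul_smul, hg])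
      show h (g x • b) = g (h x) • b
      change g (h x) = _ at this
      rw [this, mul_smul]
      rfl
    refine ⟨⟨c, hc⟩, ?_⟩
    show g a • b = b
    have : g a = 1 := huniq a _ _ (by rw [hg, one_smul])
    rw [this, one_smul]

end Cfsg.Agent.S0701
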