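import Cfsg.Statements.S0702
import Mathlib.GroupTheory.QuotientGroup.Basic
import Mathlib.Data.Fintype.Pi
import Mathlib.Data.Finite.Defs
import Mathlib.Data.Fintype.EquivFin
import Mathlib.Data.Finite.Prod

set_option autoImplicit false
open Cfsg

namespace Cfsg.Agent.S0702

open MulAction

variable {α : Type*} [Finite α] (G : Subgroup (Equiv.Perm α)) [MulAction.IsPretransitive G α] (a : α)

local notation "N" => Subgroup.normalizer ((MulAction.stabilizer G a : Subgroup G) : Set G)

theorem mem_norm (g : G) (h : ∀ s ∈ stabilizer G a, g⁻¹ * s * g ∈ stabilizer G a) : g ∈ N := by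
  rw [← inv_inv g]
  apply inv_mem
  rw [Subgroup.mem_normalizer_iff]
  intro s
  constructor
  · intro hs
    simpa using h s hs
  · intro hs
    have hinj : Function.Injective (fun t : stabilizer G a => (⟨g⁻¹ * t.1 * g, h _ t.2⟩ : stabilizer G a)) :=
      fun t u htu => Subtype.ext (mul_left_cancel (mul_right_cancel (congrArg Subtype.val htu)))
    haveI : Finite (Equiv.Perm α) := Finite.of_injective (fun e : Equiv.Perm α => (e : α → α)) DFunLike.coe_injective
    haveI : Finite G := Finite.of_injective _ Subtype.val_injective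
    haveI : Finite (stabilizer G a) := Finite.of_injective _ Subtype.val_injective
    obtain ⟨t, ht⟩ := Finite.injective_iff_surjective.1 hinj ⟨g⁻¹ * s * g⁻¹⁻¹, hs⟩
    have h2 : g⁻¹ * t.1 * g = g⁻¹ * s * g⁻¹⁻¹ := congrArg Subtype.val ht
    rw [inv_inv] at h2
    have : t.1 = s := mul_left_cancel (mul_right_cancel h2)
    exact this ▸ t.2

noncomputable def rep (x : α) : G := (exists_smul_eq G a x).choose

theorem rep_smul (x : α) : rep G a x • a = x := (exists_smul_eq G a x).choose_spec

noncomputable def cFun (n : N) (x : α) : α := (rep G a x * (n : G)⁻¹) • a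

theorem cFun_apply (n : N) {x : α} (g : G) (hg : g • a = x) : cFun G a n x = (g * (n : G)⁻¹) • a := by
  unfold cFun
  have hs : g⁻¹ * rep G a x ∈ stabilizer G a := by
    rw [mem_stabilizer_iff, mul_smul, rep_smul, ← hg, inv_smul_smul]
  have := ((Subgroup.mem_normalizer_iff.1 n.2) _).1 hs
  rw [show rep G a x * (n : G)⁻¹ = g * (n : G)⁻¹ * ((n : G) * (g⁻¹ * rep G a x) * (n : G)⁻¹) by simp [mul_assoc],
    mul_smul (g * (n : G)⁻¹) _ a, mem_stabilizer_iff.1 this]

theorem cFun_one (x : α) : cFun G a 1 x = x := by simp [cFun, rep_smul]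

theorem cFun_mul (n m : N) (x : α) : cFun G a (n * m) x = cFun G a n (cFun G a m x) := by
  rw [show cFun G a m x = (rep G a x * (m : G)⁻¹) • a from rfl,
    cFun_apply G a n (rep G a x * (m : G)⁻¹) rfl, cFun]
  simp [mul_assoc]

theorem comm (c : Subgroup.centralizer (G : Set (Equiv.Perm α))) (g : G) (x : α) :
    (c : Equiv.Perm α) (g • x) = g • (c : Equiv.Perm α) x :=
  (DFunLike.congr_fun (Subgroup.mem_centralizer_iff.1 c.2 (g : Equiv.Perm α) g.2) x).symm

noncomputable def toC : N →* Subgroup.centralizer (G : Set (Equiv.Perm α)) where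
  toFun n := ⟨⟨cFun G a n, cFun G a n⁻¹, fun x => by rw [← cFun_mul, inv_mul_cancel, cFun_one],
      fun x => by rw [← cFun_mul, mul_inv_cancel, cFun_one]⟩, by
    rw [Subgroup.mem_centralizer_iff]
    intro g hg
    refine Equiv.ext fun x => ?_
    show (⟨g, hg⟩ : G) • cFun G a n x = cFun G a n ((⟨g, hg⟩ : G) • x)
    rw [cFun_apply G a n (x := (⟨g, hg⟩ : G) • x) ((⟨g, hg⟩ : G) * rep G a x) (by rw [mul_smul, rep_smul]),
      cFun, ← mul_smul, mul_assoc]⟩
  map_one' := Subtype.ext (Equiv.ext (cFun_one G a))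
  map_mul' n m := Subtype.ext (Equiv.ext (cFun_mul G a n m))

theorem ker_toC : (toC G a).ker = (stabilizer G a).subgroupOf N := by
  ext n
  rw [MonoidHom.mem_ker, Subgroup.mem_subgroupOf]
  constructor
  · intro h
    have h1 : cFun G a n a = a := DFunLike.congr_fun (congrArg Subtype.val h) a
    rw [cFun_apply G a n 1 (one_smul _ a), one_mul, inv_smul_eq_iff] at h1
    exact h1.symm
  · intro h
    refine Subtype.ext (Equiv.ext fun x => ?_)
    show cFun G a n x = x
    rw [cFun, mul_smul, mem_stabilizer_iff.1 (inv_mem h), rep_smul]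

theorem toC_surjective : Function.Surjective (toC G a) := by
  intro c
  obtain ⟨g, hg⟩ := exists_smul_eq G a ((c : Equiv.Perm α) a)
  have hn : g ∈ N := mem_norm G a g fun s hs => by
    rw [mem_stabilizer_iff, mul_smul, mul_smul, hg, ← comm G c s a, mem_stabilizer_iff.1 hs, ← hg,
      inv_smul_smul]
  refine ⟨⟨g, hn⟩⁻¹, Subtype.ext (Equiv.ext fun x => ?_)⟩
  show cFun G a _ x = _
  simp only [cFun, Subgroup.coe_inv, inv_inv]
  conv_rhs => rw [← rep_smul G a x]
  rw [comm G c, ← hg, mul_smul]


/-- For a transitive permutation group `G` on a finite set, the centraliser of `G` in the symmetric group is isomorphic to `N_G(G_ω)/G_ω`, and its orbit of `ω` is the set of fixed points of `G_ω`. -/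
theorem result {α : Type*} [Finite α] (G : Subgroup (Equiv.Perm α)) [MulAction.IsPretransitive G α] (a : α) : Nonempty (Subgroup.centralizer (G : Set (Equiv.Perm α)) ≃* Subgroup.normalizer ((MulAction.stabilizer G a : Subgroup G) : Set G) ⧸ (MulAction.stabilizer G a).subgroupOf (Subgroup.normalizer ((MulAction.stabilizer G a : Subgroup G) : Set G))) ∧ MulAction.orbit (Subgroup.centralizer (G : Set (Equiv.Perm α))) a = MulAction.fixedPoints (MulAction.stabilizer G a) α := by
  refine ⟨⟨?_⟩, ?_⟩
  · have e := QuotientGroup.quotientKerEquivOfSurjective (toC G a) (toC_surjective G a)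
    exact ((QuotientGroup.quotientMulEquivOfEq (ker_toC G a).symm).trans e).symm
  · ext x
    constructor
    · rintro ⟨c, rfl⟩
      intro h
      show (h : G) • ((c : Equiv.Perm α) a) = (c : Equiv.Perm α) a
      rw [← comm G c, h.2]
    · intro hx
      obtain ⟨g, hg⟩ := MulAction.exists_smul_eq G a x
      have hn : g⁻¹ ∈ Subgroup.normalizer ((MulAction.stabilizer G a : Subgroup G) : Set G) :=
        inv_mem (mem_norm G a g fun h hh => by
          rw [MulAction.mem_stabilizer_iff, mul_smul, mul_smul, hg]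
          rw [show h • x = x from hx ⟨h, hh⟩, ← hg, inv_smul_smul])
      refine ⟨toC G a ⟨g⁻¹, hn⟩, ?_⟩
      show cFun G a ⟨g⁻¹, hn⟩ a = x
      rw [cFun_apply G a _ 1 (one_smul _ a)]
      simpa using hg

end Cfsg.Agent.S0702
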