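import Cfsg.Statements.S0703
import Mathlib.GroupTheory.Perm.Cycle.Type

set_option autoImplicit false
open Cfsg

namespace Cfsg.Agent.S0703

/-- An abelian transitive minimal normal subgroup `M` of a permutation group on a finite set is self-centralising in the symmetric group, regular, elementary abelian, and is the unique minimal normal subgroup. -/
theorem result {α : Type*} [Finite α] (G : Subgroup (Equiv.Perm α)) (M : Subgroup G) [M.Normal] (hM : M ≠ ⊥) (hmin : ∀ L : Subgroup G, L.Normal → L ≤ M → L = ⊥ ∨ L = M) (hab : IsMulCommutative M) (htrans : MulAction.IsPretransitive M α) : Subgroup.centralizer ((M.map G.subtype : Subgroup (Equiv.Perm α)) : Set (Equiv.Perm α)) = M.map G.subtype ∧ (∀ a : α, MulAction.stabilizer M a = ⊥) ∧ (∃ p : ℕ, p.Prime ∧ ∀ m ∈ M, m ^ p = 1) ∧ ∀ L : Subgroup G, L.Normal → L ≠ ⊥ → (∀ L' : Subgroup G, L'.Normal → L' ≤ L → L' = ⊥ ∨ L' = L) → L = M := by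
  have hcomm : ∀ m m' : M, (m : G) * m' = (m' : G) * m := fun m m' =>
    congrArg Subtype.val (hab.is_comm.comm m m')
  have hsemi : ∀ c ∈ Subgroup.centralizer ((M.map G.subtype : Subgroup (Equiv.Perm α)) :
      Set (Equiv.Perm α)), ∀ a : α, c a = a → c = 1 := by
    intro c hc a ha
    ext b
    obtain ⟨m, rfl⟩ := htrans.exists_smul_eq a b
    have h := Equiv.congr_fun (Subgroup.mem_centralizer_iff.1 hc _ ⟨(m : G), m.2, rfl⟩) a
    simp only [Equiv.Perm.coe_mul, Function.comp_apply, ha] at h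
    exact h.symm
  have hle : M.map G.subtype ≤ Subgroup.centralizer
      ((M.map G.subtype : Subgroup (Equiv.Perm α)) : Set (Equiv.Perm α)) := by
    rintro _ ⟨m, hm, rfl⟩
    rw [Subgroup.mem_centralizer_iff]
    rintro _ ⟨m', hm', rfl⟩
    exact congrArg Subtype.val (hcomm ⟨m', hm'⟩ ⟨m, hm⟩)
  have hreg : ∀ a : α, MulAction.stabilizer M a = ⊥ := fun a => by
    rw [Subgroup.eq_bot_iff_forall]
    intro m hm
    have := hsemi _ (hle ⟨(m : G), m.2, rfl⟩) a hm
    exact Subtype.ext (Subtype.ext this)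
  have hcent : Subgroup.centralizer ((M.map G.subtype : Subgroup (Equiv.Perm α)) :
      Set (Equiv.Perm α)) = M.map G.subtype := by
    refine le_antisymm (fun c hc => ?_) hle
    rcases isEmpty_or_nonempty α with hα | ⟨⟨a⟩⟩
    · exact Subsingleton.elim (1 : Equiv.Perm α) c ▸ one_mem _
    · obtain ⟨m, hm⟩ := htrans.exists_smul_eq a (c a)
      have hm' : ((m : G) : Equiv.Perm α) ∈ M.map G.subtype := ⟨(m : G), m.2, rfl⟩
      have h1 := hsemi (((m : G) : Equiv.Perm α)⁻¹ * c)
        (Subgroup.mul_mem _ (Subgroup.inv_mem _ (hle hm')) hc) a (by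
          simp only [Equiv.Perm.coe_mul, Function.comp_apply]
          rw [Equiv.Perm.inv_def, Equiv.symm_apply_eq]
          exact hm.symm)
      rw [inv_mul_eq_one] at h1
      exact h1 ▸ hm'
  refine ⟨hcent, hreg, ?_, ?_⟩
  · have hnt : Nontrivial M := (Subgroup.nontrivial_iff_ne_bot M).2 hM
    obtain ⟨p, hp, hdvd⟩ := Nat.exists_prime_and_dvd (Finite.one_lt_card (α := M)).ne'
    refine ⟨p, hp, ?_⟩
    have : Fact p.Prime := ⟨hp⟩
    let L : Subgroup G :=
      { carrier := {m | m ∈ M ∧ m ^ p = 1}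
        one_mem' := ⟨M.one_mem, one_pow p⟩
        mul_mem' := fun {x y} hx hy => ⟨M.mul_mem hx.1 hy.1, by
          rw [(show Commute x y from hcomm ⟨x, hx.1⟩ ⟨y, hy.1⟩).mul_pow, hx.2, hy.2, one_mul]⟩
        inv_mem' := fun {x} hx => ⟨M.inv_mem hx.1, by rw [inv_pow, hx.2, inv_one]⟩ }
    have hLn : L.Normal := ⟨fun x hx g => ⟨Subgroup.Normal.conj_mem inferInstance x hx.1 g, by
      rw [conj_pow, hx.2, mul_one, mul_inv_cancel]⟩⟩
    rcases hmin L hLn (fun x hx => hx.1) with h | h
    · obtain ⟨x, hx⟩ := exists_prime_orderOf_dvd_card' p hdvd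
      have hxL : (x : G) ∈ L := ⟨x.2, by
        rw [← SubmonoidClass.coe_pow, ← hx, pow_orderOf_eq_one, OneMemClass.coe_one]⟩
      rw [h, Subgroup.mem_bot] at hxL
      have : orderOf x = 1 := orderOf_eq_one_iff.2 (Subtype.ext hxL)
      exact absurd (hx.symm.trans this) hp.ne_one
    · intro m hm
      exact (h.symm ▸ hm : m ∈ L).2
  · intro L hLn hL hLmin
    have key : L ⊓ M = ⊥ → False := fun hdisj => by
      have hLM : L ≤ M := fun l hl => by
        have hc : (l : Equiv.Perm α) ∈ Subgroup.centralizer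
            ((M.map G.subtype : Subgroup (Equiv.Perm α)) : Set (Equiv.Perm α)) := by
          rw [Subgroup.mem_centralizer_iff]
          rintro _ ⟨m, hm, rfl⟩
          exact congrArg Subtype.val
            (Subgroup.commute_of_normal_of_disjoint M L inferInstance hLn
              (disjoint_iff.2 (inf_comm L M ▸ hdisj)) m l hm hl)
        rw [hcent] at hc
        obtain ⟨m, hm, hml⟩ := hc
        rwa [Subtype.ext hml] at hm
      exact hL (by rwa [inf_eq_left.2 hLM] at hdisj)
    rcases hLmin (L ⊓ M) inferInstance inf_le_left with h | h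
    · exact (key h).elim
    · rcases hmin L hLn (h ▸ inf_le_right) with h' | h'
      · exact absurd h' hL
      · exact h'

end Cfsg.Agent.S0703
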