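import Cfsg.Statements.S0704
import Mathlib

set_option autoImplicit false
open Cfsg

namespace Cfsg.Agent.S0704

/-- Two distinct transitive minimal normal subgroups `M`, `N` of a permutation group are regular, non-abelian, isomorphic, each other's centraliser in the symmetric group, and the only minimal normal subgroups. -/
theorem result {α : Type*} (G : Subgroup (Equiv.Perm α)) (M N : Subgroup G) [M.Normal] [N.Normal] (hM : M ≠ ⊥) (hN : N ≠ ⊥) (hMmin : ∀ L : Subgroup G, L.Normal → L ≤ M → L = ⊥ ∨ L = M) (hNmin : ∀ L : Subgroup G, L.Normal → L ≤ N → L = ⊥ ∨ L = N) (hMN : M ≠ N) (hMt : MulAction.IsPretransitive M α) (hNt : MulAction.IsPretransitive N α) : (∀ a : α, MulAction.stabilizer M a = ⊥) ∧ (∀ a : α, MulAction.stabilizer N a = ⊥) ∧ ¬ IsMulCommutative M ∧ Nonempty (M ≃* N) ∧ Subgroup.centralizer ((M.map G.subtype : Subgroup (Equiv.Perm α)) : Set (Equiv.Perm α)) = N.map G.subtype ∧ Subgroup.centralizer ((N.map G.subtype : Subgroup (Equiv.Perm α)) : Set (Equiv.Perm α)) = M.map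 G.subtype ∧ ∀ L : Subgroup G, L.Normal → L ≠ ⊥ → (∀ L' : Subgroup G, L'.Normal → L' ≤ L → L' = ⊥ ∨ L' = L) → L = M ∨ L = N := by
  classical
  have hinf : M ⊓ N = ⊥ := by
    rcases hMmin (M ⊓ N) inferInstance inf_le_left with h | h
    · exact h
    · rcases hNmin (M ⊓ N) inferInstance inf_le_right with h' | h'
      · exact h'
      · exact absurd (h.symm.trans h') hMN
  have hcomm : ∀ {A B : Subgroup G}, A.Normal → B.Normal → A ⊓ B = ⊥ →
      ∀ a ∈ A, ∀ b ∈ B, a * b = b * a := fun hA hB hd a ha b hb =>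
    Subgroup.commute_of_normal_of_disjoint _ _ hA hB (disjoint_iff.mpr hd) a b ha hb
  have hMNc := hcomm (A := M) (B := N) inferInstance inferInstance hinf
  -- semiregularity of anything commuting with a transitive group
  have semi : ∀ {A : Subgroup G}, MulAction.IsPretransitive A α → ∀ c : Equiv.Perm α,
      (∀ a ∈ A, c * (a : Equiv.Perm α) = (a : Equiv.Perm α) * c) → ∀ x, c x = x → c = 1 := by
    intro A hA c hc x hx
    refine Equiv.ext fun y => ?_
    obtain ⟨a, ha⟩ := hA.exists_smul_eq x y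
    have hy : ((a : G) : Equiv.Perm α) x = y := ha
    have := Equiv.Perm.ext_iff.mp (hc (a : G) a.2) x
    simp only [Equiv.Perm.mul_apply, hy, hx] at this
    simpa using this
  have stab : ∀ {A B : Subgroup G}, MulAction.IsPretransitive B α →
      (∀ a ∈ A, ∀ b ∈ B, a * b = b * a) → ∀ x : α, MulAction.stabilizer A x = ⊥ := by
    intro A B hB hc x
    rw [Subgroup.eq_bot_iff_forall]
    intro a ha
    have := semi hB ((a : G) : Equiv.Perm α)
      (fun b hb => congrArg Subtype.val (hc a a.2 b hb)) x ha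
    exact Subtype.ext (Subtype.ext this)
  have hne : Nonempty α := by
    by_contra h
    rw [not_nonempty_iff] at h
    exact hM ((Subgroup.eq_bot_iff_forall _).mpr fun m _ => Subtype.ext (Equiv.ext fun x => isEmptyElim x))
  obtain ⟨x₀⟩ := hne
  have cent : ∀ {A B : Subgroup G}, MulAction.IsPretransitive A α → MulAction.IsPretransitive B α →
      (∀ a ∈ A, ∀ b ∈ B, a * b = b * a) →
      Subgroup.centralizer ((A.map G.subtype : Subgroup (Equiv.Perm α)) : Set (Equiv.Perm α)) =
        B.map G.subtype := by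
    intro A B hA hB hc
    refine le_antisymm (fun c hcc => ?_) ?_
    · rw [Subgroup.mem_centralizer_iff] at hcc
      obtain ⟨b, hb⟩ := hB.exists_smul_eq x₀ (c x₀)
      have hb' : ((b : G) : Equiv.Perm α) x₀ = c x₀ := hb
      have h1 : ((b : G) : Equiv.Perm α)⁻¹ * c = 1 := by
        refine semi hA _ (fun a ha => ?_) x₀ ?_
        · have e1 : Commute ((a : G) : Equiv.Perm α) ((b : G) : Equiv.Perm α) :=
            congrArg Subtype.val (hc a ha b b.2)
          have e2 : Commute ((a : G) : Equiv.Perm α) c := hcc _ ⟨a, ha, rfl⟩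
          exact ((Commute.inv_right e1).mul_right e2).eq.symm
        · rw [Equiv.Perm.mul_apply, Equiv.Perm.inv_eq_iff_eq, hb']
      exact ⟨b, b.2, (inv_mul_eq_one.mp h1)⟩
    · rintro _ ⟨b, hb, rfl⟩
      rw [Subgroup.mem_centralizer_iff]
      rintro _ ⟨a, ha, rfl⟩
      exact congrArg Subtype.val (hc a ha b hb)
  have hNMc : ∀ b ∈ N, ∀ a ∈ M, b * a = a * b := fun b hb a ha => (hMNc a ha b hb).symm
  have cM := cent hMt hNt hMNc
  have cN := cent hNt hMt hNMc
  refine ⟨stab hNt hMNc, stab hMt hNMc, fun hab => ?_, ?_, cM, cN, fun L hL hL0 hLmin => ?_⟩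
  · refine hM (le_bot_iff.mp (hinf ▸ le_inf le_rfl ?_))
    intro m hm
    have h1 : (m : Equiv.Perm α) ∈ N.map G.subtype := by
      rw [← cM, Subgroup.mem_centralizer_iff]
      rintro _ ⟨a, ha, rfl⟩
      exact congrArg (fun z : M => ((z : G) : Equiv.Perm α)) (hab.is_comm.comm ⟨a, ha⟩ ⟨m, hm⟩)
    obtain ⟨n, hn, he⟩ := h1
    exact (G.subtype_injective he) ▸ hn
  · have hex : ∀ m : M, ∃! n : N, ((n : G) : Equiv.Perm α) x₀ = ((m : G) : Equiv.Perm α)⁻¹ x₀ := by
      intro m
      obtain ⟨n, hn⟩ := hNt.exists_smul_eq x₀ (((m : G) : Equiv.Perm α)⁻¹ x₀)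
      refine ⟨n, hn, fun n' hn' => ?_⟩
      have h1 : n⁻¹ * n' ∈ MulAction.stabilizer N x₀ := by
        rw [MulAction.mem_stabilizer_iff, mul_smul]
        have : n' • x₀ = n • x₀ := by rw [hn]; exact hn'
        rw [this, inv_smul_smul]
      rw [stab hMt hNMc, Subgroup.mem_bot, inv_mul_eq_one] at h1
      exact h1.symm
    choose φ hφ huniq using hex
    simp only at hφ huniq
    refine ⟨MulEquiv.ofBijective (MonoidHom.mk' φ fun m m' => ?_) ⟨?_, ?_⟩⟩
    · refine (huniq _ _ ?_).symm
      have e1 : Commute (((m' : G) : Equiv.Perm α)⁻¹) ((φ m : G) : Equiv.Perm α) :=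
        (Commute.inv_left_iff (G := Equiv.Perm α)).mpr (congrArg Subtype.val (hMNc m' m'.2 _ (φ m).2))
      simp only [Subgroup.coe_mul, mul_inv_rev, Equiv.Perm.mul_apply]
      rw [hφ m', ← hφ m]
      exact (Equiv.Perm.ext_iff.mp e1.eq x₀).symm
    · intro m m' h
      simp only [MonoidHom.mk'_apply] at h
      have h2 : ((m : G) : Equiv.Perm α)⁻¹ x₀ = ((m' : G) : Equiv.Perm α)⁻¹ x₀ := by
        rw [← hφ, ← hφ, h]
      have h1 : m * m'⁻¹ ∈ MulAction.stabilizer M x₀ := by
        show ((m : G) : Equiv.Perm α) (((m' : G) : Equiv.Perm α)⁻¹ x₀) = x₀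
        rw [← h2]; simp
      rw [stab hNt hMNc, Subgroup.mem_bot, mul_inv_eq_one] at h1
      exact h1
    · intro n
      obtain ⟨m, hm⟩ := hMt.exists_smul_eq (((n : G) : Equiv.Perm α) x₀) x₀
      refine ⟨m, (huniq m n ?_).symm⟩
      rw [Equiv.Perm.eq_inv_iff_eq]
      exact hm
  · rcases hMmin (M ⊓ L) inferInstance inf_le_left with h | h
    · right
      have hLN : L ≤ N := fun l hl => by
        have h1 : (l : Equiv.Perm α) ∈ N.map G.subtype := by
          rw [← cM, Subgroup.mem_centralizer_iff]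
          rintro _ ⟨a, ha, rfl⟩
          exact congrArg Subtype.val (hcomm (A := M) (B := L) inferInstance hL h a ha l hl)
        obtain ⟨n, hn, he⟩ := h1
        exact (G.subtype_injective he) ▸ hn
      exact (hNmin L hL hLN).resolve_left hL0
    · left
      exact ((hLmin M inferInstance (inf_eq_left.mp h)).resolve_left hM).symm

end Cfsg.Agent.S0704
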