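import Cfsg.Statements.S0705

set_option autoImplicit false
open scoped Pointwise
open Cfsg

namespace Cfsg.Agent.S0705

open MulAction Pointwise

theorem reach {α : Type*} [Fintype α] [DecidableEq α] (G : Subgroup (Equiv.Perm α)) {k : ℕ}
    (hk : k < Fintype.card α)
    (hgen : ∀ s : Finset α, s.card = k + 1 → ∀ σ : Equiv.Perm ↥s, ∃ g ∈ G, ∀ x : ↥s, g (x : α) = σ x)
    (n : ℕ) : ∀ x y : Fin k ↪ α, (Finset.univ.filter fun i => x i ≠ y i).card = n →
      ∃ g : G, g • x = y := by
  induction n using Nat.strong_induction_on with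
  | _ n ih =>
    intro x y hn
    by_cases hall : ∀ i, x i = y i
    · exact ⟨1, Function.Embedding.ext fun i => hall i⟩
    push Not at hall
    obtain ⟨i, hi⟩ := hall
    let R : Finset α := Finset.univ.map x
    have hR : R.card = k := by simp [R]
    have hxi : x i ∈ R := by simp [R]
    obtain ⟨c, hc, hyi⟩ : ∃ c, c ∉ R ∧ y i ∈ insert c R := by
      by_cases hy : y i ∈ R
      · obtain ⟨c, hc⟩ := Finset.exists_mem_notMem_of_card_lt_card (s := R) (t := Finset.univ)
          (by rw [hR, Finset.card_univ]; exact hk)
        exact ⟨c, hc.2, Finset.mem_insert_of_mem hy⟩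
      · exact ⟨y i, hy, Finset.mem_insert_self _ _⟩
    have hs : (insert c R).card = k + 1 := by rw [Finset.card_insert_of_notMem hc, hR]
    obtain ⟨g, hgG, hg⟩ := hgen _ hs
      (Equiv.swap (⟨x i, Finset.mem_insert_of_mem hxi⟩ : ↥(insert c R)) ⟨y i, hyi⟩)
    have hgj : ∀ j, g (x j) = if j = i then y i else if x j = y i then x i else x j := by
      intro j
      have hj : x j ∈ insert c R := Finset.mem_insert_of_mem (by simp [R])
      rw [hg ⟨x j, hj⟩, Equiv.swap_apply_def]
      simp only [Subtype.mk.injEq, EmbeddingLike.apply_eq_iff_eq]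
      split_ifs <;> rfl
    let x' : Fin k ↪ α := (⟨g, hgG⟩ : G) • x
    have hx' : ∀ j, x' j = g (x j) := fun j => rfl
    obtain ⟨g', hg'⟩ := ih _ (by
      rw [← hn]
      apply Finset.card_lt_card
      rw [Finset.ssubset_iff_of_subset]
      · refine ⟨i, by simp [hi], ?_⟩
        simp [hx', hgj]
      · intro j hj
        simp only [Finset.mem_filter, Finset.mem_univ, true_and, hx', hgj] at hj ⊢
        by_cases hji : j = i
        · simp [hji] at hj
        rw [if_neg hji] at hj
        split_ifs at hj with h1
        · rw [h1]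
          exact fun he => hji (y.injective he).symm
        · exact hj) x' y rfl
    exact ⟨g' * ⟨g, hgG⟩, (mul_smul g' (⟨g, hgG⟩ : G) x).trans hg'⟩


/-- A generously `k`-transitive permutation group (every `(k+1)`-subset has its full symmetric group induced by the setwise stabiliser) of degree greater than `k` is `k`-transitive, and for a `k`-subset the setwise and pointwise stabilisers have the same orbits outside it. -/
theorem result {α : Type*} [Fintype α] [DecidableEq α] (G : Subgroup (Equiv.Perm α)) {k : ℕ} (hk : k < Fintype.card α) (hgen : ∀ s : Finset α, s.card = k + 1 → ∀ σ : Equiv.Perm ↥s, ∃ g ∈ G, ∀ x : ↥s, g (x : α) = σ x) : MulAction.IsMultiplyPretransitive G α k ∧ ∀ s : Finset α, s.card = k → ∀ a b : α, a ∉ s → b ∉ s → (∃ g ∈ G, g • s = s ∧ g a = b) → ∃ g ∈ G, (∀ x ∈ s, g x = x) ∧ g a = b := by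
  classical
  refine ⟨?_, ?_⟩
  · rw [isMultiplyPretransitive_iff]
    intro x y
    exact reach G hk hgen _ x y rfl
  · rintro s hs a b ha hb ⟨g, hgG, hgs, hgab⟩
    have hcard : (insert b s).card = k + 1 := by rw [Finset.card_insert_of_notMem hb, hs]
    have hmem : ∀ x : α, x ∈ s → g x ∈ s := fun x hx => by
      have := Finset.smul_mem_smul_finset (a := g) hx
      rw [hgs] at this
      exact this
    have hmem' : ∀ x : α, x ∈ s → g.symm x ∈ s := fun x hx => by
      rw [← hgs] at hx
      obtain ⟨z, hz, rfl⟩ := Finset.mem_smul_finset.1 hx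
      simpa using hz
    let f : ↥(insert b s) → ↥(insert b s) := fun x =>
      if h : (x : α) = b then x else ⟨g.symm x, Finset.mem_insert_of_mem
        (hmem' _ (Finset.mem_of_mem_insert_of_ne x.2 h))⟩
    have hf : Function.Injective f := by
      intro x z he
      have hval := congrArg Subtype.val he
      apply Subtype.ext
      by_cases hx : (x : α) = b <;> by_cases hz : (z : α) = b
      · rw [hx, hz]
      · simp only [f, dif_pos hx, dif_neg hz] at hval
        exact absurd (hmem' _ (Finset.mem_of_mem_insert_of_ne z.2 hz)) (by rw [← hval, hx]; exact hb)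
      · simp only [f, dif_neg hx, dif_pos hz] at hval
        exact absurd (hmem' _ (Finset.mem_of_mem_insert_of_ne x.2 hx)) (by rw [hval, hz]; exact hb)
      · simp only [f, dif_neg hx, dif_neg hz] at hval
        exact g.symm.injective hval
    obtain ⟨h, hhG, hh⟩ := hgen _ hcard (Equiv.ofBijective f (Finite.injective_iff_bijective.1 hf))
    refine ⟨h * g, mul_mem hhG hgG, fun x hx => ?_, ?_⟩
    · have := hh ⟨g x, Finset.mem_insert_of_mem (hmem x hx)⟩
      have hne : g x ≠ b := fun he => hb (he ▸ hmem x hx)
      simpa [Equiv.Perm.mul_apply, f, hne] using this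
    · have := hh ⟨b, Finset.mem_insert_self b s⟩
      simpa [Equiv.Perm.mul_apply, hgab, f] using this

end Cfsg.Agent.S0705
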