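import Cfsg.Statements.S0706
import Cfsg.Agent.S0705
import Mathlib.GroupTheory.Sylow
import Mathlib.GroupTheory.GroupAction.FixingSubgroup
import Mathlib.GroupTheory.GroupAction.SubMulAction.OfFixingSubgroup

set_option autoImplicit false
open Cfsg

namespace Cfsg.Agent.S0706

open MulAction Pointwise

variable {α : Type*} [Fintype α] [DecidableEq α] (G : Subgroup (Equiv.Perm α)) {k : ℕ}

theorem orbit_invariant (hk : k < Fintype.card α)
    (hgen : ∀ s : Finset α, s.card = k + 1 → ∀ σ : Equiv.Perm ↥s, ∃ g ∈ G, ∀ x : ↥s, g (x : α) = σ x)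
    (Γ : Finset α) (hΓ : Γ.card = k) (g : G) (hg : g ∈ stabilizer G (Γ : Set α)) (y : α) (hy : y ∉ Γ)
    (x : α) (hx : x ∈ orbit (fixingSubgroup G (Γ : Set α)) y) :
    g • x ∈ orbit (fixingSubgroup G (Γ : Set α)) y := by
  obtain ⟨h, rfl⟩ := hx
  show g • (h : G) • y ∈ _
  rw [← mul_smul]
  have hmem : g * (h : G) ∈ stabilizer G (Γ : Set α) := mul_mem hg (fixingSubgroup_le_stabilizer G _ h.2)
  have hny : (g * (h : G)) • y ∉ Γ := by
    intro hc
    refine hy ?_
    have : (g * (h : G)) • y ∈ (g * (h : G)) • (Γ : Set α) := by rw [hmem]; exact hc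
    exact Set.smul_mem_smul_set_iff.1 this
  obtain ⟨k', hk'G, hfix, hk'⟩ := (Cfsg.Agent.S0705.result G hk hgen).2 Γ hΓ y ((g * (h : G)) • y) hy hny
    ⟨((g * (h : G) : G) : Equiv.Perm α), (g * (h : G)).2, Finset.coe_injective (by rw [Finset.coe_smul_finset]; exact hmem), rfl⟩
  exact ⟨⟨⟨k', hk'G⟩, (mem_fixingSubgroup_iff G).2 fun z hz => hfix z hz⟩, hk'⟩

theorem exists_map (hk : k < Fintype.card α)
    (hgen : ∀ s : Finset α, s.card = k + 1 → ∀ σ : Equiv.Perm ↥s, ∃ g ∈ G, ∀ x : ↥s, g (x : α) = σ x)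
    (Γ : Finset α) (hΓ : Γ.card = k) (Γ' : Finset α) (hΓ' : Γ'.card = k) :
    ∃ g : G, g • (Γ : Set α) = (Γ' : Set α) := by
  haveI := (Cfsg.Agent.S0705.result G hk hgen).1
  obtain ⟨g, hg⟩ := exists_smul_eq G
    ((Γ.equivFinOfCardEq hΓ).symm.toEmbedding.trans (Function.Embedding.subtype _))
    ((Γ'.equivFinOfCardEq hΓ').symm.toEmbedding.trans (Function.Embedding.subtype _))
  refine ⟨g, ?_⟩
  have h : ∀ i, g • ((Γ.equivFinOfCardEq hΓ).symm i : α) = ((Γ'.equivFinOfCardEq hΓ').symm i : α) :=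
    fun i => DFunLike.congr_fun hg i
  ext z
  constructor
  · rintro ⟨w, hw, rfl⟩
    show g • w ∈ _
    have := h (Γ.equivFinOfCardEq hΓ ⟨w, hw⟩)
    rw [Equiv.symm_apply_apply] at this
    rw [this]
    exact ((Γ'.equivFinOfCardEq hΓ').symm _).2
  · intro hz
    refine ⟨((Γ.equivFinOfCardEq hΓ).symm (Γ'.equivFinOfCardEq hΓ' ⟨z, hz⟩) : α), Subtype.property _, ?_⟩
    show g • _ = z
    rw [h, Equiv.symm_apply_apply]

theorem exists_cycle (hk : k < Fintype.card α)
    (hgen : ∀ s : Finset α, s.card = k + 1 → ∀ σ : Equiv.Perm ↥s, ∃ g ∈ G, ∀ x : ↥s, g (x : α) = σ x)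
    (Γ : Finset α) (hΓ : Γ.card = k) (Δ : Finset α) (hΔsub : Δ ⊆ Γ) {p : ℕ} [hp : Fact p.Prime]
    (hΔ : Δ.card = p) (f : Fin p → α) (hf : ∀ i, f i ∉ Γ) :
    ∃ c : G, c ∈ fixingSubgroup G ((Γ \ Δ : Finset α) : Set α) ⊓ stabilizer G (Γ : Set α) ∧
      (c ^ p ∈ fixingSubgroup G (Γ : Set α) ∧ ∃ δ ∈ Δ, c • δ ≠ δ) := by
  set b := f ⟨0, hp.out.pos⟩
  have hb : b ∉ Γ := hf _
  let e := Δ.equivFinOfCardEq hΔ
  let rot : Equiv.Perm ↥Δ := e.trans ((finRotate p).trans e.symm)
  have hsub : ∀ x, x ∈ Δ → x ∈ insert b Γ := fun x hx => Finset.mem_insert_of_mem (hΔsub hx)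
  let emb : ↥Δ → ↥(insert b Γ) := fun x => ⟨x.1, hsub x.1 x.2⟩
  let σ : Equiv.Perm ↥(insert b Γ) := (rot.viaFintypeEmbedding ⟨emb, fun x y h => Subtype.ext (congrArg Subtype.val h :)⟩)
  obtain ⟨g, hgG, hg⟩ := hgen _ (by rw [Finset.card_insert_of_notMem hb, hΓ]) σ
  have hin : ∀ x (hx : x ∈ Δ), g x = rot ⟨x, hx⟩ := by
    intro x hx
    have := hg ⟨x, hsub x hx⟩
    rw [show σ ⟨x, hsub x hx⟩ = emb (rot ⟨x, hx⟩) from Equiv.Perm.viaFintypeEmbedding_apply_image rot _ ⟨x, hx⟩] at this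
    exact this
  have hout : ∀ x, x ∈ Γ → x ∉ Δ → g x = x := by
    intro x hx hxΔ
    have := hg ⟨x, Finset.mem_insert_of_mem hx⟩
    rw [show σ ⟨x, Finset.mem_insert_of_mem hx⟩ = ⟨x, Finset.mem_insert_of_mem hx⟩ from
      Equiv.Perm.viaFintypeEmbedding_apply_notMem_range rot _ (by
        rintro ⟨y, hy⟩
        have hyx : (y : α) = x := congrArg Subtype.val hy
        exact hxΔ (hyx ▸ y.2))] at this
    exact this
  have hmaps : ∀ x, x ∈ Γ → g x ∈ Γ := by
    intro x hx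
    by_cases h : x ∈ Δ
    · rw [hin x h]; exact hΔsub (rot ⟨x, h⟩).2
    · rw [hout x hx h]; exact hx
  refine ⟨⟨g, hgG⟩, ⟨(mem_fixingSubgroup_iff G).2 fun x hx => ?_, ?_⟩, (mem_fixingSubgroup_iff G).2 fun x hx => ?_, ?_⟩
  · obtain ⟨h1, h2⟩ := Finset.mem_sdiff.1 (Finset.mem_coe.1 hx)
    exact hout x h1 h2
  · refine mem_stabilizer_iff.2 (Set.eq_of_subset_of_ncard_le ?_ ?_ (Set.toFinite _))
    · rintro _ ⟨x, hx, rfl⟩
      exact hmaps x hx
    · rw [Set.ncard_smul_set]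
  · show (g ^ p) x = x
    by_cases h : x ∈ Δ
    · have key : ∀ n (y : ↥Δ), (g ^ n) (y : α) = ((rot ^ n) y : α) := by
        intro n
        induction n with
        | zero => intro y; rfl
        | succ n ih => intro y; rw [pow_succ, pow_succ, Equiv.Perm.mul_apply, Equiv.Perm.mul_apply, hin _ y.2]; exact ih _
      have hrot : rot ^ p = 1 := by
        have h2 : (finRotate p) ^ p = 1 := by
          have := (Equiv.Perm.IsCycle.orderOf (isCycle_finRotate_of_le hp.out.two_le))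
          rw [support_finRotate_of_le hp.out.two_le, Finset.card_univ, Fintype.card_fin] at this
          have h3 := pow_orderOf_eq_one (finRotate p)
          rw [this] at h3
          exact h3
        have : rot = e.symm.permCongr (finRotate p) := rfl
        rw [this, ← Equiv.permCongrHom_coe, ← map_pow, h2, map_one]
      rw [key p ⟨x, h⟩, hrot]
      rfl
    · exact Equiv.Perm.pow_apply_eq_self_of_apply_eq_self (hout x hx h) p
  · obtain ⟨δ, hδ⟩ : ∃ δ, δ ∈ Δ := Finset.card_pos.1 (hΔ ▸ hp.out.pos)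
    refine ⟨δ, hδ, fun h => ?_⟩
    have h1 : rot ⟨δ, hδ⟩ = ⟨δ, hδ⟩ := Subtype.ext ((hin δ hδ).symm.trans h)
    have h2 : finRotate p (e ⟨δ, hδ⟩) = e ⟨δ, hδ⟩ := e.symm.injective (by simpa [rot] using h1)
    have := hp.out.two_le
    exact (Equiv.Perm.mem_support.1 (by rw [support_finRotate_of_le this]; exact Finset.mem_univ _)) h2


/-- In a generously `k`-transitive permutation group, for a prime `p ≤ k` and a `k`-set `Γ`, there are no `p` points outside `Γ` lying in distinct orbits of the pointwise stabiliser of `Γ` all of length prime to `p` (at most `p - 1` such orbits). -/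
theorem result {α : Type*} [Fintype α] [DecidableEq α] (G : Subgroup (Equiv.Perm α)) {k : ℕ} (hk : k < Fintype.card α) (hgen : ∀ s : Finset α, s.card = k + 1 → ∀ σ : Equiv.Perm ↥s, ∃ g ∈ G, ∀ x : ↥s, g (x : α) = σ x) {p : ℕ} (hp : p.Prime) (hpk : p ≤ k) (Γ : Finset α) (hΓ : Γ.card = k) (f : Fin p → α) (hf : ∀ i, f i ∉ Γ) (hdist : ∀ i j, i ≠ j → f j ∉ MulAction.orbit (fixingSubgroup G (Γ : Set α)) (f i)) : ∃ i, p ∣ Nat.card (MulAction.orbit (fixingSubgroup G (Γ : Set α)) (f i)) := by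
  classical
  haveI : Fact p.Prime := ⟨hp⟩
  apply Classical.byContradiction
  intro hcon
  push Not at hcon
  obtain ⟨Δ, hΔsub, hΔ⟩ := Finset.exists_subset_card_eq (s := Γ) (n := p) (by omega)
  set H := fixingSubgroup G (Γ : Set α) with hH
  set K := fixingSubgroup G ((Γ \ Δ : Finset α) : Set α) ⊓ stabilizer G (Γ : Set α) with hK
  have hHK : H ≤ K := by
    intro g hg
    have hg' := (mem_fixingSubgroup_iff G).1 hg
    refine ⟨(mem_fixingSubgroup_iff G).2 fun x hx => hg' x (Finset.mem_sdiff.1 (Finset.mem_coe.1 hx)).1, ?_⟩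
    refine mem_stabilizer_iff.2 (Set.ext fun x => ⟨?_, fun hx => ⟨x, hx, hg' x hx⟩⟩)
    rintro ⟨y, hy, rfl⟩
    show g • y ∈ _
    rwa [hg' y hy]
  have horb : ∀ (i : Fin p) (g : G), g ∈ K → ∀ x ∈ orbit H (f i), g • x ∈ orbit H (f i) :=
    fun i g hg x hx => orbit_invariant G hk hgen Γ hΓ g hg.2 (f i) (hf i) x hx
  obtain ⟨c, hcK, hc3⟩ := exists_cycle G hk hgen Γ hΓ Δ hΔsub hΔ f hf
  -- p divides the index of H in K
  have hdvd : p ∣ H.relIndex K := by
    have h1 : (H.subgroupOf K).Normal := by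
      refine ⟨fun h hh g => ?_⟩
      rw [Subgroup.mem_subgroupOf] at hh ⊢
      refine (mem_fixingSubgroup_iff G).2 fun x hx => ?_
      have hgx : (g : G)⁻¹ • x ∈ (Γ : Set α) := by
        rw [← inv_mem_iff] at hh
        obtain ⟨y, hy, hy2⟩ : x ∈ (g : G) • (Γ : Set α) := by rw [g.2.2]; exact hx
        rw [← hy2, inv_smul_smul]; exact hy
      simp only [Subgroup.coe_mul, Subgroup.coe_inv, mul_smul]
      rw [(mem_fixingSubgroup_iff G).1 hh _ hgx, smul_inv_smul]
    set q := QuotientGroup.mk' (H.subgroupOf K)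
    have hc : q ⟨c, hcK⟩ ≠ 1 := fun h => by
      obtain ⟨δ, hδ, hne⟩ := hc3.2
      exact hne ((mem_fixingSubgroup_iff G).1 (Subgroup.mem_subgroupOf.1 ((QuotientGroup.eq_one_iff _).1 h)) δ (hΔsub hδ))
    have hp1 : q ⟨c, hcK⟩ ^ p = 1 := by
      rw [← map_pow]
      exact (QuotientGroup.eq_one_iff _).2 (Subgroup.mem_subgroupOf.2 hc3.1)
    show p ∣ (H.subgroupOf K).index
    rw [← orderOf_eq_prime hp1 hc]
    exact orderOf_dvd_natCard _
  have hcard : Nat.card H * H.relIndex K = Nat.card K := by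
    have := Subgroup.card_mul_index (H.subgroupOf K)
    rwa [Nat.card_congr (Subgroup.subgroupOfEquivOfLe hHK).toEquiv] at this
  set v := (Nat.card H).factorization p with hv
  have hpv : p ^ (v + 1) ∣ Nat.card K := by
    rw [← hcard, pow_succ]
    exact mul_dvd_mul (Nat.ordProj_dvd _ _) hdvd
  obtain ⟨Q, hQ⟩ := Sylow.exists_subgroup_card_pow_prime p hpv
  have hQp : IsPGroup p Q := IsPGroup.of_card hQ
  -- fixed point of Q in each orbit
  have hfixpt : ∀ i, ∃ x ∈ orbit H (f i), ∀ g : Q, ((g : K) : G) • x = x := by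
    intro i
    letI : MulAction Q (orbit H (f i)) :=
      { smul := fun g x => ⟨((g : K) : G) • x.1, horb i _ (g : K).2 x.1 x.2⟩
        one_smul := fun x => Subtype.ext (one_smul G x.1)
        mul_smul := fun g g' x => Subtype.ext (mul_smul ((g : K) : G) ((g' : K) : G) x.1) }
    obtain ⟨x, hx⟩ := hQp.nonempty_fixed_point_of_prime_not_dvd_card (orbit H (f i)) (hcon i)
    exact ⟨x.1, x.2, fun g => congrArg Subtype.val (hx g)⟩
  choose x hx hxfix using hfixpt
  have hxinj : Function.Injective x := by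
    intro i j hij
    apply Classical.byContradiction
    intro hne
    refine hdist i j hne ?_
    rw [mem_orbit_symm]
    have h1 := hx j
    rw [← hij] at h1
    exact (orbit_eq_iff.2 h1).symm.trans (orbit_eq_iff.2 (hx i)) ▸ mem_orbit_self (f i)
  have hxΓ : ∀ i, x i ∉ Γ := by
    intro i hmem
    obtain ⟨h, hh⟩ := hx i
    have he : h • f i = h • x i := hh.trans ((mem_fixingSubgroup_iff G).1 h.2 _ hmem).symm
    exact hf i ((smul_left_cancel h he) ▸ hmem)
  set Γ' := (Γ \ Δ) ∪ Finset.univ.image x with hΓ'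
  have hΓ'c : Γ'.card = k := by
    rw [hΓ', Finset.card_union_of_disjoint, Finset.card_sdiff_of_subset hΔsub, hΓ, hΔ,
      Finset.card_image_of_injective _ hxinj, Finset.card_univ, Fintype.card_fin]
    · omega
    · rw [Finset.disjoint_right]
      intro y hy hy'
      obtain ⟨i, -, rfl⟩ := Finset.mem_image.1 hy
      exact hxΓ i (Finset.mem_sdiff.1 hy').1
  have hle : Q.map K.subtype ≤ fixingSubgroup G (Γ' : Set α) := by
    rintro _ ⟨g, hg, rfl⟩
    refine (mem_fixingSubgroup_iff G).2 fun y hy => ?_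
    rw [hΓ', Finset.coe_union] at hy
    rcases hy with hy | hy
    · exact (mem_fixingSubgroup_iff G).1 g.2.1 y hy
    · obtain ⟨i, -, rfl⟩ := Finset.mem_image.1 (Finset.mem_coe.1 hy)
      exact hxfix i ⟨g, hg⟩
  have hsame : Nat.card (fixingSubgroup G (Γ' : Set α)) = Nat.card H := by
    obtain ⟨g, hg⟩ := exists_map G hk hgen Γ hΓ Γ' hΓ'c
    rw [← hg, hH]
    rw [← SubMulAction.fixingSubgroup_map_conj_eq (g := g) (t := (Γ : Set α)) rfl]
    exact Subgroup.card_map_of_injective (MulAut.conj g).injective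
  have h1 := Subgroup.card_dvd_of_le hle
  rw [Subgroup.card_map_of_injective (Subgroup.subtype_injective K), hQ, hsame] at h1
  have := (hp.pow_dvd_iff_le_factorization Nat.card_pos.ne').1 h1
  omega

end Cfsg.Agent.S0706
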