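import Cfsg.Statements.S0707
import Mathlib.GroupTheory.SpecificGroups.Cyclic

set_option autoImplicit false
open Cfsg

namespace Cfsg.Agent.S0707

/-- In a primitive permutation group, distinct points have distinct stabilisers unless the group is regular of prime degree. -/
theorem result {α : Type*} (G : Subgroup (Equiv.Perm α)) [MulAction.IsPreprimitive G α] (h : ¬ (Nat.card α).Prime ∨ ∃ a : α, MulAction.stabilizer G a ≠ ⊥) {a b : α} (hab : a ≠ b) : MulAction.stabilizer G a ≠ MulAction.stabilizer G b := by
  intro heq
  let B : Set α := {x | MulAction.stabilizer G x = MulAction.stabilizer G a}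
  have hB : MulAction.IsBlock G B := by
    rw [MulAction.isBlock_iff_smul_eq_of_nonempty]
    rintro g ⟨y, hy, hy'⟩
    obtain ⟨x, hx, rfl⟩ := hy
    have hconj := MulAction.stabilizer_smul_eq_stabilizer_map_conj g x
    rw [show MulAction.stabilizer G (g • x) = MulAction.stabilizer G a from hy',
      show MulAction.stabilizer G x = MulAction.stabilizer G a from hx] at hconj
    ext z
    rw [Set.mem_smul_set_iff_inv_smul_mem]
    show MulAction.stabilizer G (g⁻¹ • z) = _ ↔ MulAction.stabilizer G z = _
    constructor
    · intro h
      have := MulAction.stabilizer_smul_eq_stabilizer_map_conj g (g⁻¹ • z)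
      rw [smul_inv_smul, h, ← hconj] at this
      exact this
    · intro h
      have := MulAction.stabilizer_smul_eq_stabilizer_map_conj g (g⁻¹ • z)
      rw [smul_inv_smul, h] at this
      exact (Subgroup.map_injective (MulAut.conj g).injective) (this.symm.trans hconj)
  rcases MulAction.IsPreprimitive.isTrivialBlock_of_isBlock hB with hs | hu
  · exact hab (hs (show a ∈ B from rfl) (show b ∈ B from heq.symm))
  · have hall : ∀ x, MulAction.stabilizer G x = MulAction.stabilizer G a := fun x =>
      (hu ▸ Set.mem_univ x : x ∈ B)
    have hbot : ∀ x, MulAction.stabilizer G x = ⊥ := fun x => by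
      rw [Subgroup.eq_bot_iff_forall]
      intro g hg
      apply Subtype.ext
      ext y
      have : g ∈ MulAction.stabilizer G y := by rw [hall y, ← hall x]; exact hg
      exact this
    rcases h with hp | ⟨c, hc⟩
    · have : Nontrivial α := ⟨a, b, hab⟩
      have hco := MulAction.IsPreprimitive.isCoatom_stabilizer_of_isPreprimitive (G := G) a
      rw [hbot a] at hco
      have hG : Nontrivial G := by
        by_contra hn
        rw [not_nontrivial_iff_subsingleton] at hn
        exact hco.1 (Subsingleton.elim _ _)
      have htop : ∀ K : Subgroup G, K = ⊥ ∨ K = ⊤ := fun K =>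
        or_iff_not_imp_left.2 fun hK => hco.2 K (Ne.bot_lt hK)
      obtain ⟨g, hg⟩ := exists_ne (1 : G)
      have hgen := (htop (Subgroup.zpowers g)).resolve_left (Subgroup.zpowers_ne_bot.2 hg)
      have : IsCyclic G := ⟨⟨g, fun x => Subgroup.mem_zpowers_iff.1 (hgen.symm ▸ Subgroup.mem_top x)⟩⟩
      let _ : CommGroup G := IsCyclic.commGroup
      have : IsSimpleGroup G := ⟨fun K _ => htop K⟩
      apply hp
      have hbij : Function.Bijective (fun g : G => g • a) := by
        refine ⟨fun g g' hgg => ?_, MulAction.exists_smul_eq G a⟩
        have hm : g'⁻¹ * g ∈ MulAction.stabilizer G a := by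
          rw [MulAction.mem_stabilizer_iff, mul_smul, show g • a = g' • a from hgg, inv_smul_smul]
        rw [hbot a, Subgroup.mem_bot, inv_mul_eq_one] at hm
        exact hm.symm
      rw [← Nat.card_congr (Equiv.ofBijective _ hbij)]
      exact IsSimpleGroup.prime_card
    · exact hc (hbot c)

end Cfsg.Agent.S0707
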