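import Cfsg.Statements.S0708

set_option autoImplicit false
open Cfsg

namespace Cfsg.Agent.S0708

variable {G : Type*} [Group G] {Ω : Type*} [MulAction G Ω]

/-- Four distinct points as an embedding. -/
def quad {a b c d : Ω} (h : List.Nodup [a, b, c, d]) : Fin 4 ↪ Ω :=
  ⟨fun i => [a, b, c, d].get i, fun _ _ e => h.get_inj_iff.1 e⟩

theorem quad_apply {a b c d : Ω} (h : List.Nodup [a, b, c, d]) :
    quad h 0 = a ∧ quad h 1 = b ∧ quad h 2 = c ∧ quad h 3 = d := ⟨rfl, rfl, rfl, rfl⟩

theorem eq_one_of_fix (hsharp : ∀ x : Fin 4 ↪ Ω, MulAction.stabilizer G x = ⊥) {g : G} {a b c d : Ω}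
    (h : List.Nodup [a, b, c, d]) (ha : g • a = a) (hb : g • b = b) (hc : g • c = c) (hd : g • d = d) : g = 1 := by
  rw [← Subgroup.mem_bot, ← hsharp (quad h), MulAction.mem_stabilizer_iff]
  ext i
  rw [Function.Embedding.smul_apply]
  fin_cases i <;> assumption

theorem exists_map (h4 : MulAction.IsMultiplyPretransitive G Ω 4) {a b c d a' b' c' d' : Ω}
    (h : List.Nodup [a, b, c, d]) (h' : List.Nodup [a', b', c', d']) :
    ∃ g : G, g • a = a' ∧ g • b = b' ∧ g • c = c' ∧ g • d = d' := by
  obtain ⟨g, hg⟩ := h4.exists_smul_eq (quad h) (quad h')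
  exact ⟨g, congrArg (· 0) hg, congrArg (· 1) hg, congrArg (· 2) hg, congrArg (· 3) hg⟩

/-- Tits' argument: a sharply 4-transitive group (no finiteness assumed) has finite degree at most 11, and at most 6 when the degree is even. -/
theorem result {G : Type*} [Group G] {Ω : Type*} [MulAction G Ω] (h4 : MulAction.IsMultiplyPretransitive G Ω 4) (hsharp : ∀ x : Fin 4 ↪ Ω, MulAction.stabilizer G x = ⊥) (hne : Nonempty (Fin 4 ↪ Ω)) : Finite Ω ∧ Nat.card Ω ≤ 11 ∧ (Even (Nat.card Ω) → Nat.card Ω ≤ 6) := by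
  classical
  obtain ⟨v⟩ := hne
  by_cases hsmall : ∃ s : Finset Ω, s.card ≤ 6 ∧ ∀ p, p ∈ s
  · obtain ⟨s, hs, hall⟩ := hsmall
    haveI : Fintype Ω := ⟨s, hall⟩
    have h6 : Nat.card Ω ≤ 6 := by
      rw [Nat.card_eq_fintype_card, ← Finset.card_univ, ← Finset.eq_univ_of_forall hall]
      exact hs
    exact ⟨inferInstance, h6.trans (by norm_num), fun _ => h6⟩
  push Not at hsmall
  have hne' : ∀ i j : Fin 4, i ≠ j → v i ≠ v j := fun i j h e => h (v.injective e)
  set a := v 0 with ha
  set b := v 1 with hb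
  set c := v 2 with hc
  set d := v 3 with hd
  have nd : List.Nodup [a, b, c, d] := by
    simpa [ha, hb, hc, hd] using
      (⟨⟨hne' 0 1 (by decide), hne' 0 2 (by decide), hne' 0 3 (by decide)⟩,
        ⟨hne' 1 2 (by decide), hne' 1 3 (by decide)⟩, hne' 2 3 (by decide)⟩ :
        (v 0 ≠ v 1 ∧ v 0 ≠ v 2 ∧ v 0 ≠ v 3) ∧ (v 1 ≠ v 2 ∧ v 1 ≠ v 3) ∧ v 2 ≠ v 3)
  have nd' : List.Nodup [b, a, c, d] := (List.Perm.swap b a [c, d]).nodup nd
  obtain ⟨t, hta, htb, htc, htd⟩ := exists_map h4 nd nd'
  have htt : ∀ p : Ω, t • t • p = p := by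
    have : t * t = 1 := eq_one_of_fix hsharp nd (by rw [mul_smul, hta, htb]) (by rw [mul_smul, htb, hta])
      (by rw [mul_smul, htc, htc]) (by rw [mul_smul, htd, htd])
    intro p; rw [← mul_smul, this, one_smul]
  have ht1 : t ≠ 1 := fun e => by
    rw [e, one_smul] at hta
    exact (List.nodup_cons.1 nd).1 (by simp [hta])
  have hfix3 : ∀ p q r u : Ω, t • p = p → t • q = q → t • r = r → t • u = u → ¬ List.Nodup [p, q, r, u] :=
    fun p q r u hp hq hr hu h => ht1 (eq_one_of_fix hsharp h hp hq hr hu)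
  have hab : a ≠ b := hne' 0 1 (by decide)
  have hcd : c ≠ d := hne' 2 3 (by decide)
  -- the fixed points
  obtain ⟨F, hF, hF3⟩ : ∃ F : Finset Ω, (∀ p, p ∈ F ↔ t • p = p) ∧ F.card ≤ 3 := by
    by_cases h : ∃ e, t • e = e ∧ e ≠ c ∧ e ≠ d
    · obtain ⟨e, he, hec, hed⟩ := h
      refine ⟨{c, d, e}, fun p => ⟨fun hp => ?_, fun hp => ?_⟩, Finset.card_le_three⟩
      · simp only [Finset.mem_insert, Finset.mem_singleton] at hp
        rcases hp with rfl | rfl | rfl <;> assumption
      · simp only [Finset.mem_insert, Finset.mem_singleton]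
        by_contra hc'
        push Not at hc'
        refine hfix3 c d e p htc htd he hp ?_
        simp [hcd, hec.symm, hed.symm, hc'.1.symm, hc'.2.1.symm, hc'.2.2.symm]
    · push Not at h
      refine ⟨{c, d}, fun p => ⟨fun hp => ?_, fun hp => ?_⟩, Finset.card_le_two.trans (by norm_num)⟩
      · simp only [Finset.mem_insert, Finset.mem_singleton] at hp
        rcases hp with rfl | rfl <;> assumption
      · simp only [Finset.mem_insert, Finset.mem_singleton]
        by_cases h' : p = c
        · exact Or.inl h'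
        · exact Or.inr (h p hp h')
  have hcF : c ∈ F := (hF c).2 htc
  have hdF : d ∈ F := (hF d).2 htd
  have haF : a ∉ F := fun h => hab (((hF a).1 h).symm.trans hta)
  have hbF : b ∉ F := fun h => hab ((htb.symm.trans ((hF b).1 h)))
  obtain ⟨q, hq⟩ := hsmall (insert a (insert b F))
    (by have h1 := Finset.card_insert_le a (insert b F); have h2 := Finset.card_insert_le b F; omega)
  -- four points in two cycles
  have good : ∀ r : Ω, r ∉ insert a (insert b F) → List.Nodup [a, b, r, t • r] := by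
    intro r hr
    simp only [Finset.mem_insert, not_or] at hr
    obtain ⟨hra, hrb, hrF⟩ := hr
    have h1 : t • r ≠ r := fun e => hrF ((hF r).2 e)
    have h2 : t • r ≠ a := fun e => hrb (by rw [← htt r, e, hta])
    have h3 : t • r ≠ b := fun e => hra (by rw [← htt r, e, htb])
    simp [hab, Ne.symm hra, Ne.symm hrb, Ne.symm h1, Ne.symm h2, Ne.symm h3]
  choose γ hγ using fun r : {r : Ω // r ∉ insert a (insert b F)} => exists_map h4 (good q hq) (good r r.2)
  have hcomm : ∀ r, ∀ p : Ω, γ r • t • p = t • γ r • p := by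
    intro r p
    obtain ⟨g1, g2, g3, g4⟩ := hγ r
    have : (t * γ r)⁻¹ * (γ r * t) = 1 := by
      refine eq_one_of_fix hsharp (good q hq) ?_ ?_ ?_ ?_ <;>
        rw [mul_smul, inv_smul_eq_iff, mul_smul, mul_smul]
      · rw [hta, g2, g1, hta]
      · rw [htb, g1, g2, htb]
      · rw [g4, g3]
      · rw [htt, g3, g4, htt]
    rw [inv_mul_eq_one] at this
    rw [← mul_smul, ← mul_smul, this]
  let φ : {r : Ω // r ∉ insert a (insert b F)} → Equiv.Perm ↥F := fun r =>
    (MulAction.toPerm (γ r)).subtypePerm fun p => by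
      simp only [MulAction.toPerm_apply, hF, ← hcomm, smul_left_cancel_iff]
  have hφ : Function.Injective φ := by
    intro r r' e
    have h1 : ∀ p ∈ F, γ r • p = γ r' • p := fun p hp => congrArg Subtype.val (Equiv.Perm.congr_fun e ⟨p, hp⟩)
    have hnd : List.Nodup [a, b, c, d] := nd
    have : (γ r')⁻¹ * γ r = 1 := by
      refine eq_one_of_fix hsharp hnd ?_ ?_ ?_ ?_ <;> rw [mul_smul, inv_smul_eq_iff]
      · rw [(hγ r).1, (hγ r').1]
      · rw [(hγ r).2.1, (hγ r').2.1]
      · exact h1 c hcF
      · exact h1 d hdF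
    rw [inv_mul_eq_one] at this
    apply Subtype.ext
    rw [← (hγ r).2.2.1, ← (hγ r').2.2.1, this]
  haveI : Finite {r : Ω // r ∉ insert a (insert b F)} := Finite.of_injective φ hφ
  haveI : Finite Ω := by
    have h1 : (Set.univ : Set Ω) ⊆ ↑(insert a (insert b F)) ∪ {r | r ∉ insert a (insert b F)} := fun p _ => em _
    exact Set.finite_univ_iff.1 ((((insert a (insert b F)).finite_toSet).union (Set.finite_coe_iff.1 this)).subset h1)
  haveI : Fintype Ω := Fintype.ofFinite Ω
  have hcard : Nat.card Ω ≤ F.card + 2 + F.card.factorial := by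
    have h1 : Fintype.card {r : Ω // r ∉ insert a (insert b F)} ≤ F.card.factorial := by
      refine (Fintype.card_le_of_injective φ hφ).trans (le_of_eq ?_)
      rw [Fintype.card_perm, Fintype.card_coe]
    have h2 : (insert a (insert b F)).card ≤ F.card + 2 :=
      (Finset.card_insert_le _ _).trans (Nat.succ_le_succ (Finset.card_insert_le _ _))
    rw [Fintype.card_subtype_compl, Fintype.card_coe] at h1
    rw [Nat.card_eq_fintype_card]
    omega
  refine ⟨inferInstance, ?_, fun hev => ?_⟩
  · exact hcard.trans (by have := Nat.factorial_le hF3; norm_num [Nat.factorial] at this ⊢; omega)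
  · have hpar : (MulAction.toPerm t : Equiv.Perm Ω).supportᶜ.card ≡ Fintype.card Ω [MOD 2] := by
      refine Equiv.Perm.card_compl_support_modEq (n := 1) ?_
      ext p
      simp [pow_two, htt]
    have hFc : (MulAction.toPerm t : Equiv.Perm Ω).supportᶜ = F := by
      ext p
      simp [hF]
    rw [hFc, ← Nat.card_eq_fintype_card] at hpar
    have h2 : 2 ≤ F.card := (Finset.card_pair hcd).ge.trans (Finset.card_le_card (by
      intro p hp
      simp only [Finset.mem_insert, Finset.mem_singleton] at hp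
      rcases hp with rfl | rfl <;> assumption))
    have hF2 : F.card = 2 := by
      have := Nat.even_iff.1 hev
      have := hpar.trans (show Nat.card Ω ≡ 0 [MOD 2] from this)
      unfold Nat.ModEq at this
      omega
    rw [hF2] at hcard
    norm_num [Nat.factorial] at hcard ⊢
    omega

end Cfsg.Agent.S0708
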