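import Cfsg.Statements.S0709
import Mathlib
-- import your own Cfsg.Agent.* helpers here

set_option autoImplicit false
open Cfsg

namespace Cfsg.Agent.S0709

open scoped Pointwise

/-- If `s` normalises `L`, `K = L ∪ L t L`, `s ^ 2 ∈ L` and `(t s) ^ 3 ∈ L`, the subgroup generated by
`K` and `s` is `K ∪ K s K`. -/
theorem double_coset_closed {P : Type*} [Group P] (L K : Subgroup P) (s t : P) (hLK : L ≤ K)
    (htK : t ∈ K) (hK : ∀ k ∈ K, k ∈ L ∨ ∃ a ∈ L, ∃ b ∈ L, k = a * t * b)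
    (hs : ∀ l ∈ L, s * l * s⁻¹ ∈ L) (hs2 : s ^ 2 ∈ L) (hts : (t * s) ^ 3 ∈ L) :
    ∀ g ∈ K ⊔ Subgroup.zpowers s, g ∈ K ∨ ∃ a ∈ K, ∃ b ∈ K, g = a * s * b := by
  have hsinv : ∃ l ∈ L, s⁻¹ = s * l := ⟨(s ^ 2)⁻¹, L.inv_mem hs2, by group⟩
  have hmid : ∀ k ∈ K, s * k * s ∈ K ∨ ∃ a ∈ K, ∃ b ∈ K, s * k * s = a * s * b := by
    intro k hk
    rcases hK k hk with hl | ⟨a, ha, b, hb, rfl⟩
    · left
      have : s * k * s = (s * k * s⁻¹) * s ^ 2 := by group
      rw [this]
      exact hLK (L.mul_mem (hs k hl) hs2)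
    · right
      obtain ⟨l, hl, hsl⟩ := hsinv
      have hb' : s⁻¹ * b * s ∈ L := by
        have : s⁻¹ * b * s = (s ^ 2)⁻¹ * (s * b * s⁻¹) * s ^ 2 := by group
        rw [this]
        exact L.mul_mem (L.mul_mem (L.inv_mem hs2) (hs b hb)) hs2
      have hsts : s * t * s = t⁻¹ * (t * s) ^ 3 * s⁻¹ * t⁻¹ := by
        simp only [pow_succ, pow_zero, one_mul]; group
      refine ⟨(s * a * s⁻¹) * (t⁻¹ * (t * s) ^ 3), ?_, l * t⁻¹ * (s⁻¹ * b * s), ?_, ?_⟩
      · exact K.mul_mem (hLK (hs a ha)) (K.mul_mem (K.inv_mem htK) (hLK hts))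
      · exact K.mul_mem (K.mul_mem (hLK hl) (K.inv_mem htK)) (hLK hb')
      · calc s * (a * t * b) * s = (s * a * s⁻¹) * (s * t * s) * (s⁻¹ * b * s) := by group
          _ = (s * a * s⁻¹) * (t⁻¹ * (t * s) ^ 3 * s⁻¹ * t⁻¹) * (s⁻¹ * b * s) := by rw [hsts]
          _ = (s * a * s⁻¹) * (t⁻¹ * (t * s) ^ 3) * s * (l * t⁻¹ * (s⁻¹ * b * s)) := by
            rw [hsl]; simp only [mul_assoc]
  let U : Subgroup P :=
    { carrier := {g | g ∈ K ∨ ∃ a ∈ K, ∃ b ∈ K, g = a * s * b}
      one_mem' := Or.inl K.one_mem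
      mul_mem' := by
        rintro x y (hx | ⟨a, ha, b, hb, rfl⟩) (hy | ⟨c, hc, d, hd, rfl⟩)
        · exact Or.inl (K.mul_mem hx hy)
        · exact Or.inr ⟨x * c, K.mul_mem hx hc, d, hd, by group⟩
        · exact Or.inr ⟨a, ha, b * y, K.mul_mem hb hy, by group⟩
        · rcases hmid (b * c) (K.mul_mem hb hc) with h | ⟨e, he, f, hf, h⟩
          · left
            have : a * s * b * (c * s * d) = a * (s * (b * c) * s) * d := by group
            rw [this]
            exact K.mul_mem (K.mul_mem ha h) hd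
          · right
            refine ⟨a * e, K.mul_mem ha he, f * d, K.mul_mem hf hd, ?_⟩
            calc a * s * b * (c * s * d) = a * (s * (b * c) * s) * d := by group
              _ = a * e * s * (f * d) := by rw [h]; group
      inv_mem' := by
        rintro x (hx | ⟨a, ha, b, hb, rfl⟩)
        · exact Or.inl (K.inv_mem hx)
        · obtain ⟨l, hl, hsl⟩ := hsinv
          exact Or.inr ⟨b⁻¹, K.inv_mem hb, l * a⁻¹, K.mul_mem (hLK hl) (K.inv_mem ha),
            by rw [mul_inv_rev, mul_inv_rev, hsl]; group⟩ }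
  have hle : K ⊔ Subgroup.zpowers s ≤ U :=
    sup_le (fun k hk => Or.inl hk) (Subgroup.zpowers_le.mpr
      (Or.inr ⟨1, K.one_mem, 1, K.one_mem, by group⟩))
  exact fun g hg => hle hg


/-- Witt's Lemma for constructing transitive extensions. Points `q 1, …, q t` (`t ≥ 2`) of a finite set are given; `G` fixes `q i` for `i ≥ 3` and is doubly transitive on the remaining points; `s 1 ∈ G` swaps `q 1, q 2`; for `2 ≤ i ≤ t-1`, `s i` swaps `q i, q (i+1)` and fixes the other `q j`; with `H` the stabiliser of `q 1, q 2` in `G`: `s i ^ 2 ∈ H`, `(s i * s (i+1)) ^ 3 ∈ H`, `(s i * s j) ^ 2 ∈ H` for `j ≥ i + 2`, and `s i` (`i ≥ 2`) normalises the stabiliser of `q 2` in `G`. Then `G` and the `s i` generate a `t`-transitive group whose pointwise stabiliser of the `q`'s is `H`. -/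
theorem result {α : Type*} [Fintype α] [DecidableEq α] (t : ℕ) (ht : 2 ≤ t) (q : ℕ → α) (hq : ∀ i j : ℕ, 1 ≤ i → i ≤ t → 1 ≤ j → j ≤ t → q i = q j → i = j) (G : Subgroup (Equiv.Perm α)) (hfix : ∀ g ∈ G, ∀ i : ℕ, 3 ≤ i → i ≤ t → g (q i) = q i) (h2 : ∀ a b c d : α, (∀ i, 3 ≤ i → i ≤ t → a ≠ q i ∧ b ≠ q i ∧ c ≠ q i ∧ d ≠ q i) → a ≠ b → c ≠ d → ∃ g ∈ G, g a = c ∧ g b = d) (s : ℕ → Equiv.Perm α) (hs1 : s 1 ∈ G) (hs1q : s 1 (q 1) = q 2 ∧ s 1 (q 2) = q 1) (hsq : ∀ i : ℕ, 2 ≤ i → i + 1 ≤ t → s i (q i) = q (i + 1) ∧ s i (q (i + 1)) = q i ∧ ∀ j : ℕ, 1 ≤ j → j ≤ t → j ≠ i → j ≠ i + 1 → s i (q j) = q j) (H : Subgroup (Equiv.Perm α)) (hH : H = G ⊓ MulAction.stabilizer (Equiv.Perm α) (q 1) ⊓ MulAction.stabilizer (Equiv.Perm α) (q 2)) (hsq2 : ∀ i : ℕ, 1 ≤ i → i + 1 ≤ t → s i ^ 2 ∈ H) (hbraid : ∀ i : ℕ, 1 ≤ i → i + 2 ≤ t → (s i * s (i + 1)) ^ 3 ∈ H) (hcomm : ∀ i j : ℕ, 1 ≤ i → i + 2 ≤ j → j + 1 ≤ t → (s i * s j) ^ 2 ∈ H ∧ (s j * s i) ^ 2 ∈ H) (hnorm : ∀ i : ℕ, 2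 ≤ i → i + 1 ≤ t → ∀ g ∈ G ⊓ MulAction.stabilizer (Equiv.Perm α) (q 2), s i * g * (s i)⁻¹ ∈ G ⊓ MulAction.stabilizer (Equiv.Perm α) (q 2)) : MulAction.IsMultiplyPretransitive ↥(Subgroup.closure ((G : Set (Equiv.Perm α)) ∪ {x | ∃ i : ℕ, 2 ≤ i ∧ i + 1 ≤ t ∧ x = s i})) α t ∧ Subgroup.closure ((G : Set (Equiv.Perm α)) ∪ {x | ∃ i : ℕ, 2 ≤ i ∧ i + 1 ≤ t ∧ x = s i}) ⊓ fixingSubgroup (Equiv.Perm α) {x | ∃ i : ℕ, 1 ≤ i ∧ i ≤ t ∧ x = q i} = H := by
  classical
  set K1 : Subgroup (Equiv.Perm α) := G ⊓ MulAction.stabilizer (Equiv.Perm α) (q 2) with hK1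
  let gens : ℕ → Set (Equiv.Perm α) := fun m => {x | ∃ i : ℕ, 1 ≤ i ∧ i < m ∧ x = s i}
  let Km : ℕ → Subgroup (Equiv.Perm α) := fun m => K1 ⊔ Subgroup.closure (gens m)
  have hK1G : K1 ≤ G := inf_le_left
  have hHK1 : H ≤ K1 := by
    rw [hH]; exact le_inf (inf_le_left.trans inf_le_left) inf_le_right
  have hK1K : ∀ m, K1 ≤ Km m := fun m => le_sup_left
  have hsK : ∀ i m : ℕ, 1 ≤ i → i < m → s i ∈ Km m := fun i m h1 h2 =>
    le_sup_right (a := K1) (Subgroup.subset_closure ⟨i, h1, h2, rfl⟩)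
  have hKmono : ∀ m m' : ℕ, m ≤ m' → Km m ≤ Km m' := fun m m' h =>
    sup_le_sup_left (Subgroup.closure_mono (show gens m ⊆ gens m' by rintro x ⟨i, h1, h2, hx⟩; exact ⟨i, h1, by omega, hx⟩)) _
  have hKsucc : ∀ m, 1 ≤ m → Km (m + 1) = Km m ⊔ Subgroup.zpowers (s m) := by
    intro m hm
    refine le_antisymm (sup_le ((hK1K m).trans le_sup_left) ((Subgroup.closure_le _).mpr ?_))
      (sup_le (hKmono m (m + 1) (by omega)) (Subgroup.zpowers_le.mpr (hsK m (m + 1) hm (by omega))))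
    rintro x ⟨i, h1, h2, rfl⟩
    rcases Nat.lt_or_ge i m with h | h
    · exact le_sup_left (b := Subgroup.zpowers (s m)) (hsK i m h1 h)
    · obtain rfl : i = m := by omega
      exact le_sup_right (a := Km i) (Subgroup.mem_zpowers _)
  have hKone : Km 1 = K1 := by
    have : gens 1 = ∅ := by
      rw [Set.eq_empty_iff_forall_notMem]
      rintro x ⟨i, h1, h2, -⟩
      omega
    show K1 ⊔ Subgroup.closure (gens 1) = K1
    rw [this, Subgroup.closure_empty, sup_bot_eq]
  have hq12 : q 1 ≠ q 2 := fun h => by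
    have := hq 1 2 le_rfl (by omega) (by omega) ht h
    omega
  have hne : ∀ i j : ℕ, 1 ≤ i → i ≤ t → 1 ≤ j → j ≤ t → i ≠ j → q i ≠ q j :=
    fun i j a b c d hij h => hij (hq i j a b c d h)
  -- `G` is the union of two double cosets
  have hG2 : ∀ g ∈ G, g ∈ K1 ∨ ∃ a ∈ K1, ∃ b ∈ K1, g = a * s 1 * b := by
    intro g hg
    by_cases hga : g (q 2) = q 2
    · exact Or.inl ⟨hg, hga⟩
    right
    have hnot : ∀ i, 3 ≤ i → i ≤ t → g (q 2) ≠ q i := by
      intro i h3 hit h
      rw [← hfix g hg i h3 hit] at h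
      exact hne 2 i (by omega) ht (by omega) hit (by omega) (g.injective h)
    obtain ⟨k, hkG, hk1, hk2⟩ := h2 (q 2) (q 1) (q 2) (g (q 2))
      (fun i h3 hit => ⟨hne 2 i (by omega) ht (by omega) hit (by omega),
        hne 1 i le_rfl (by omega) (by omega) hit (by omega),
        hne 2 i (by omega) ht (by omega) hit (by omega), hnot i h3 hit⟩) hq12.symm (Ne.symm hga)
    refine ⟨k, ⟨hkG, hk1⟩, (k * s 1)⁻¹ * g, ⟨G.mul_mem (G.inv_mem (G.mul_mem hkG hs1)) hg, ?_⟩,
      by group⟩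
    show ((k * s 1)⁻¹ * g) (q 2) = q 2
    rw [Equiv.Perm.mul_apply, Equiv.Perm.inv_eq_iff_eq, Equiv.Perm.mul_apply, hs1q.2, hk2]
  have hK2 : Km 2 = G := by
    refine le_antisymm (sup_le hK1G ((Subgroup.closure_le _).mpr ?_)) ?_
    · rintro x ⟨i, h1, h2, rfl⟩
      obtain rfl : i = 1 := by omega
      exact hs1
    · intro g hg
      rcases hG2 g hg with h | ⟨a, ha, b, hb, rfl⟩
      · exact hK1K 2 h
      · exact (Km 2).mul_mem ((Km 2).mul_mem (hK1K 2 ha) (hsK 1 2 le_rfl (by omega))) (hK1K 2 hb)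
  -- `Km m` fixes the later points
  have hKfix : ∀ m, 1 ≤ m → ∀ j, m < j → j ≤ t → Km m ≤ MulAction.stabilizer (Equiv.Perm α) (q j) := by
    intro m hm j hj hjt
    refine sup_le ?_ ((Subgroup.closure_le _).mpr ?_)
    · intro g hg
      rcases Nat.lt_or_ge j 3 with h | h
      · obtain rfl : j = 2 := by omega
        exact hg.2
      · exact hfix g hg.1 j h hjt
    · rintro x ⟨i, h1, h2', rfl⟩
      show s i (q j) = q j
      rcases Nat.lt_or_ge i 2 with h | h
      · obtain rfl : i = 1 := by omega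
        exact hfix _ hs1 j (by omega) hjt
      · exact (hsq i h (by omega)).2.2 j (by omega) hjt (by omega) (by omega)
  have hsnorm : ∀ m, 2 ≤ m → m + 1 ≤ t → ∀ l ∈ Km (m - 1), s m * l * (s m)⁻¹ ∈ Km (m - 1) := by
    intro m hm hmt
    have hle : Km (m - 1) ≤ (Km (m - 1)).comap (MulAut.conj (s m)).toMonoidHom := by
      refine sup_le ?_ ((Subgroup.closure_le _).mpr ?_)
      · exact fun g hg => hK1K (m - 1) (hnorm m hm hmt g hg)
      · rintro x ⟨i, h1, h2', rfl⟩
        show s m * s i * (s m)⁻¹ ∈ Km (m - 1)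
        have h := (hcomm i m h1 (by omega) hmt).2
        have e : s m * s i * (s m)⁻¹ = (s m * s i) ^ 2 * (s i)⁻¹ * (s m ^ 2)⁻¹ := by
          simp only [pow_succ, pow_zero, one_mul]; group
        rw [e]
        exact (Km (m - 1)).mul_mem ((Km (m - 1)).mul_mem (hK1K _ (hHK1 h))
          ((Km (m - 1)).inv_mem (hsK i (m - 1) h1 h2')))
          ((Km (m - 1)).inv_mem (hK1K _ (hHK1 (hsq2 m (by omega) hmt))))
    exact fun l hl => hle hl
  have hdec : ∀ m, 1 ≤ m → m + 1 ≤ t → ∀ g ∈ Km (m + 1),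
      g ∈ Km m ∨ ∃ a ∈ Km m, ∃ b ∈ Km m, g = a * s m * b := by
    intro m hm
    induction m, hm using Nat.le_induction with
    | base =>
      intro _ g hg
      rw [hKone]
      exact hG2 g (hK2 ▸ hg)
    | succ m hm ih =>
      intro hmt g hg
      rw [hKsucc (m + 1) (by omega)] at hg
      have hn := hsnorm (m + 1) (by omega) hmt
      simp only [Nat.add_sub_cancel] at hn
      exact double_coset_closed (Km m) (Km (m + 1)) (s (m + 1)) (s m) (hKmono _ _ (by omega))
        (hsK m (m + 1) hm (by omega)) (ih (by omega)) hn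
        (hK1K m (hHK1 (hsq2 (m + 1) (by omega) hmt))) (hK1K m (hHK1 (hbraid m hm (by omega)))) g hg
  have hreach : ∀ m, 2 ≤ m → m ≤ t → ∀ a : α, (∀ i, m < i → i ≤ t → a ≠ q i) →
      ∃ k ∈ Km m, k a = q m := by
    intro m hm
    induction m, hm using Nat.le_induction with
    | base =>
      intro _ a ha
      by_cases h : a = q 2
      · exact ⟨1, one_mem _, by simp [h]⟩
      · obtain ⟨g, hg, h1, -⟩ := h2 a (q 2) (q 2) (q 1)
          (fun i h3 hit => ⟨ha i (by omega) hit, hne 2 i (by omega) ht (by omega) hit (by omega),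
            hne 2 i (by omega) ht (by omega) hit (by omega),
            hne 1 i le_rfl (by omega) (by omega) hit (by omega)⟩) h hq12.symm
        exact ⟨g, by rw [hK2]; exact hg, h1⟩
    | succ m hm ih =>
      intro hmt a ha
      by_cases h : a = q (m + 1)
      · exact ⟨1, one_mem _, by simp [h]⟩
      · obtain ⟨k, hk, hka⟩ := ih (by omega) a (fun i hi hit => by
          rcases Nat.lt_or_ge (m + 1) i with h' | h'
          · exact ha i h' hit
          · obtain rfl : i = m + 1 := by omega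
            exact h)
        exact ⟨s m * k, (Km (m + 1)).mul_mem (hsK m (m + 1) (by omega) (by omega))
          (hKmono m (m + 1) (by omega) hk), by rw [Equiv.Perm.mul_apply, hka, (hsq m hm hmt).1]⟩
  have hclo : Subgroup.closure ((G : Set (Equiv.Perm α)) ∪ {x | ∃ i : ℕ, 2 ≤ i ∧ i + 1 ≤ t ∧ x = s i})
      = Km t := by
    refine le_antisymm ((Subgroup.closure_le _).mpr ?_)
      (sup_le (hK1G.trans fun g hg => Subgroup.subset_closure (Or.inl hg))
        ((Subgroup.closure_le _).mpr ?_))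
    · rintro x (hx | ⟨i, h1, h2', rfl⟩)
      · exact hKmono 2 t ht (hK2.symm ▸ hx)
      · exact hsK i t (by omega) (by omega)
    · rintro x ⟨i, h1, h2', rfl⟩
      rcases Nat.lt_or_ge i 2 with h | h
      · obtain rfl : i = 1 := by omega
        exact Subgroup.subset_closure (Or.inl hs1)
      · exact Subgroup.subset_closure (Or.inr ⟨i, h, by omega, rfl⟩)
  rw [hclo]
  refine ⟨?_, ?_⟩
  · have hbase : ∀ x : Fin t ↪ α, ∃ g ∈ Km t, ∀ i : Fin t, g (x i) = q (i + 1) := by
      suffices H' : ∀ m, 2 ≤ m → m ≤ t → ∀ x : Fin t ↪ α, (∀ i : Fin t, m ≤ (i : ℕ) → x i = q (i + 1)) →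
          ∃ g ∈ Km t, ∀ i : Fin t, g (x i) = q (i + 1) from
        fun x => H' t ht le_rfl x fun i hi => absurd i.2 (by omega)
      intro m hm
      induction m, hm using Nat.le_induction with
      | base =>
        intro _ x hx
        have hx' : ∀ j : Fin t, (j : ℕ) < 2 → ∀ i, 3 ≤ i → i ≤ t → x j ≠ q i := by
          intro j hj i h3 hit h
          have := hx ⟨i - 1, by omega⟩ (by simp; omega)
          simp only [show i - 1 + 1 = i by omega] at this
          have := congrArg Fin.val (x.injective (h.trans this.symm))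
          simp only at this
          omega
        obtain ⟨g, hg, ha, hb⟩ := h2 (x ⟨0, by omega⟩) (x ⟨1, by omega⟩) (q 1) (q 2)
          (fun i h3 hit => ⟨hx' _ (by simp) i h3 hit, hx' _ (by simp) i h3 hit,
            hne 1 i le_rfl (by omega) (by omega) hit (by omega),
            hne 2 i (by omega) ht (by omega) hit (by omega)⟩)
          (fun h => by simpa using x.injective h) hq12
        refine ⟨g, hKmono 2 t ht (hK2.symm ▸ hg), fun i => ?_⟩
        rcases i with ⟨i, hi⟩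
        match i, hi with
        | 0, _ => exact ha
        | 1, _ => exact hb
        | i + 2, hi =>
          rw [hx _ (by simp)]
          exact hfix g hg _ (by simp only; omega) (by simp only; omega)
      | succ m hm ih =>
        intro hmt x hx
        obtain ⟨k, hk, hka⟩ := hreach (m + 1) (by omega) hmt (x ⟨m, by omega⟩) (fun i hi hit h => by
          have := hx ⟨i - 1, by omega⟩ (by simp; omega)
          simp only [show i - 1 + 1 = i by omega] at this
          have := congrArg Fin.val (x.injective (h.trans this.symm))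
          simp only at this
          omega)
        obtain ⟨g, hg, hgx⟩ := ih (by omega) (x.trans k.toEmbedding) (fun i hi => by
          show k (x i) = _
          rcases Nat.lt_or_ge m (i : ℕ) with h | h
          · rw [hx i h]
            exact hKfix (m + 1) (by omega) _ (by omega) (by have := i.2; omega) hk
          · have him : i = ⟨m, by omega⟩ := Fin.ext (by simp only; omega)
            rw [him]; exact hka)
        exact ⟨g * k, (Km t).mul_mem hg (hKmono (m + 1) t hmt hk), fun i => hgx i⟩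
    refine ⟨fun x y => ?_⟩
    obtain ⟨g, hg, hgx⟩ := hbase x
    obtain ⟨g', hg', hgy⟩ := hbase y
    refine ⟨⟨g'⁻¹ * g, (Km t).mul_mem ((Km t).inv_mem hg') hg⟩, ?_⟩
    ext i
    show (g'⁻¹ * g) (x i) = y i
    rw [Equiv.Perm.mul_apply, hgx i, ← hgy i]
    simp
  · refine le_antisymm ?_ ?_
    · rintro g ⟨hgt, hgf⟩
      have hgf' : ∀ i, 1 ≤ i → i ≤ t → g (q i) = q i := fun i h1 h2' =>
        (mem_fixingSubgroup_iff (Equiv.Perm α)).mp hgf (q i) ⟨i, h1, h2', rfl⟩
      have hdown : ∀ m, 1 ≤ m → m ≤ t → g ∈ Km m → g ∈ K1 := by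
        intro m hm
        induction m, hm using Nat.le_induction with
        | base => exact fun _ h => hKone ▸ h
        | succ m hm ih =>
          intro hmt hgm
          rcases hdec m hm hmt g hgm with h | ⟨a, ha, b, hb, rfl⟩
          · exact ih (by omega) h
          · exfalso
            have hfa := hKfix m hm (m + 1) (by omega) hmt ha
            have hfb := hKfix m hm (m + 1) (by omega) hmt hb
            have h1 := hgf' (m + 1) (by omega) hmt
            rw [MulAction.mem_stabilizer_iff, Equiv.Perm.smul_def] at hfa hfb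
            have hsm : s m (q (m + 1)) = q m := by
              rcases Nat.lt_or_ge m 2 with h | h
              · obtain rfl : m = 1 := by omega
                exact hs1q.2
              · exact (hsq m h hmt).2.1
            rw [Equiv.Perm.mul_apply, Equiv.Perm.mul_apply, hfb, hsm] at h1
            exact hne m (m + 1) hm (by omega) (by omega) hmt (by omega) (a.injective (h1.trans hfa.symm))
      have hg1 := hdown t (by omega) le_rfl hgt
      rw [hH]
      exact ⟨⟨hg1.1, hgf' 1 le_rfl (by omega)⟩, hg1.2⟩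
    · refine le_inf (hHK1.trans (hK1K t)) ?_
      intro g hg
      rw [hH] at hg
      rw [mem_fixingSubgroup_iff]
      rintro x ⟨i, h1, h2', rfl⟩
      match i, h1 with
      | 1, _ => exact hg.1.2
      | 2, _ => exact hg.2
      | i + 3, _ => exact hfix g hg.1.1 _ (by omega) h2'

end Cfsg.Agent.S0709
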