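import Cfsg.Statements.S0710
import Mathlib.GroupTheory.Sylow
import Mathlib.GroupTheory.SpecificGroups.Cyclic
import Mathlib.Tactic

set_option autoImplicit false
open Cfsg

namespace Cfsg.Agent.S0710

/-- No transitive permutation group on 13 points has order `13 * 12 * 11 * 10 * 9 * 8`. -/
theorem result {α : Type*} [Fintype α] [DecidableEq α] (hα : Fintype.card α = 13) (G : Subgroup (Equiv.Perm α)) [MulAction.IsPretransitive G α] : Nat.card G ≠ 13 * 12 * 11 * 10 * 9 * 8 := by
  classical
  intro hG
  have : Fact (Nat.Prime 13) := ⟨by norm_num⟩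
  obtain ⟨P⟩ : Nonempty (Sylow 13 G) := inferInstance
  have hPcard : Nat.card P = 13 := by
    have hidx := P.not_dvd_index
    obtain ⟨k, hk⟩ := (P.isPGroup').exists_card_eq
    have hmul := (P : Subgroup G).card_mul_index
    rw [hG, hk] at hmul
    have h2 : 13 ^ k ∣ 13 * 95040 := ⟨(P : Subgroup G).index, by rw [hmul]⟩
    rcases k with _ | _ | k
    · exfalso
      rw [pow_zero, one_mul] at hmul
      exact hidx (⟨95040, by rw [hmul]⟩)
    · simpa using hk
    · exfalso
      have h3 : 13 * 13 ∣ 13 * 95040 := (Dvd.intro_left (13 ^ k) (by ring)).trans h2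
      norm_num at h3
  have hne : (P : Subgroup G) ≠ ⊥ := fun h => by
    rw [h, Subgroup.card_bot] at hPcard; omega
  obtain ⟨x, hxP, hx1⟩ := (Subgroup.bot_or_exists_ne_one (P : Subgroup G)).resolve_left hne
  obtain ⟨a, ha⟩ : ∃ a, (x : Equiv.Perm α) a ≠ a := by
    by_contra h
    push_neg at h
    exact hx1 (Subtype.ext (Equiv.ext h))
  have horb : MulAction.orbit (P : Subgroup G) a = Set.univ := by
    have h1 := MulAction.card_orbit_mul_card_stabilizer_eq_card_group (P : Subgroup G) a
    rw [← Nat.card_eq_fintype_card, ← Nat.card_eq_fintype_card, ← Nat.card_eq_fintype_card, hPcard] at h1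
    have h2 : Nat.card (MulAction.orbit (P : Subgroup G) a) = 13 := by
      rcases (Nat.dvd_prime (by norm_num)).1 (Dvd.intro _ h1) with h | h
      · exfalso
        rw [Nat.card_eq_one_iff_unique] at h
        obtain ⟨hs, _⟩ := h
        have := Subsingleton.elim (⟨_, MulAction.mem_orbit a (⟨x, hxP⟩ : (P : Subgroup G))⟩ :
          MulAction.orbit (P : Subgroup G) a) ⟨a, MulAction.mem_orbit_self a⟩
        exact ha (congrArg Subtype.val this)
      · exact h
    apply Set.eq_univ_iff_forall.2
    have hnc : (MulAction.orbit (P : Subgroup G) a).ncard = Nat.card α := by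
      rw [← Nat.card_coe_set_eq, h2, Nat.card_eq_fintype_card, hα]
    rw [Set.eq_univ_iff_forall.symm]
    exact Set.eq_of_subset_of_ncard_le (Set.subset_univ _) (by rw [hnc, Set.ncard_univ])
  have hcen : Nat.card (Subgroup.centralizer ((P : Subgroup G) : Set G)) ≤ 13 := by
    have hinj : Function.Injective
        (fun c : Subgroup.centralizer ((P : Subgroup G) : Set G) => ((c : G) : Equiv.Perm α) a) := by
      intro c c' hcc
      apply Subtype.ext
      apply Subtype.ext
      ext b
      obtain ⟨q, rfl⟩ : ∃ q : (P : Subgroup G), q • a = b := by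
        have hb : b ∈ MulAction.orbit (P : Subgroup G) a := by rw [horb]; trivial
        exact hb
      have h1 := Equiv.congr_fun (congrArg Subtype.val
        (Subgroup.mem_centralizer_iff.1 c.2 (q : G) q.2)) a
      have h2 := Equiv.congr_fun (congrArg Subtype.val
        (Subgroup.mem_centralizer_iff.1 c'.2 (q : G) q.2)) a
      simp only [Subgroup.coe_mul, Equiv.Perm.coe_mul, Function.comp_apply] at h1 h2
      show ((c : G) : Equiv.Perm α) (((q : G) : Equiv.Perm α) a)
        = ((c' : G) : Equiv.Perm α) (((q : G) : Equiv.Perm α) a)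
      rw [← h1, ← h2]
      exact congrArg _ hcc
    have := Nat.card_le_card_of_injective _ hinj
    rwa [Nat.card_eq_fintype_card (α := α), hα] at this
  have : IsCyclic (P : Subgroup G) := isCyclic_of_prime_card hPcard
  have hN : ∃ d, d ∣ 12 ∧
      Nat.card (Subgroup.normalizer ((P : Subgroup G) : Set G)) = 13 * d := by
    let φ := (P : Subgroup G).normalizerMonoidHom
    refine ⟨Nat.card φ.range, ?_, ?_⟩
    · have := Subgroup.card_subgroup_dvd_card φ.range
      rwa [IsCyclic.card_mulAut, hPcard, Nat.totient_prime (by norm_num)] at this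
    · have hker : Nat.card φ.ker = 13 := by
        rw [Subgroup.normalizerMonoidHom_ker]
        have e := Subgroup.subgroupOfEquivOfLe
          (H := Subgroup.centralizer ((P : Subgroup G) : Set G))
          (K := Subgroup.normalizer ((P : Subgroup G) : Set G))
          (Subgroup.centralizer_le_normalizer _)
        rw [Nat.card_congr e.toEquiv]
        refine le_antisymm hcen ?_
        have hle : (P : Subgroup G) ≤ Subgroup.centralizer ((P : Subgroup G) : Set G) :=
          Subgroup.le_centralizer (P : Subgroup G)
        calc 13 = Nat.card P := hPcard.symm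
          _ ≤ _ := Subgroup.card_le_of_le hle
      rw [← φ.ker.card_mul_index, hker, Subgroup.index_ker]
  obtain ⟨d, hd, hN⟩ := hN
  have hidx := Subgroup.card_mul_index (Subgroup.normalizer ((P : Subgroup G) : Set G))
  have hsy : Nat.card (Sylow 13 G) =
      (Subgroup.normalizer ((P : Subgroup G) : Set G)).index := Sylow.card_eq_index_normalizer P
  have hmod := card_sylow_modEq_one 13 G
  rw [hsy] at hmod
  rw [hN, hG] at hidx
  have h : d * (Subgroup.normalizer ((P : Subgroup G) : Set G)).index = 95040 := by linarith
  have hd12 : d ≤ 12 := Nat.le_of_dvd (by norm_num) hd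
  generalize (Subgroup.normalizer ((P : Subgroup G) : Set G)).index = m at h hmod
  unfold Nat.ModEq at hmod
  interval_cases d <;> omega

end Cfsg.Agent.S0710
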