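import Cfsg.Statements.S0712
import Mathlib

set_option autoImplicit false
open Cfsg

namespace Cfsg.Agent.S0712

/-- Jordan: a primitive group in which the pointwise stabiliser of a set `s` is doubly transitive on the complement of `s` (which has at least 2 points) is `(|s| + 2)`-transitive. -/
theorem result {α : Type*} [Fintype α] [DecidableEq α] (G : Subgroup (Equiv.Perm α)) (hG : MulAction.IsPreprimitive G α) (s : Set α) {m : ℕ} (hsm : s.ncard = m) (hm : m + 2 ≤ Fintype.card α) (h2 : MulAction.IsMultiplyPretransitive (fixingSubgroup G s) (SubMulAction.ofFixingSubgroup G s) 2) : MulAction.IsMultiplyPretransitive G α (m + 2) := by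
  classical
  haveI := h2
  have htr : MulAction.IsMultiplyPretransitive G α m := by
    rcases m with _ | n
    · exact MulAction.is_zero_pretransitive
    · have hprim : MulAction.IsPreprimitive (fixingSubgroup G s)
          (SubMulAction.ofFixingSubgroup G s) :=
        MulAction.isPreprimitive_of_is_two_pretransitive inferInstance
      haveI := MulAction.IsPreprimitive.isMultiplyPreprimitive hG hsm
        (by rw [Nat.card_eq_fintype_card]; omega) hprim
      exact MulAction.isMultiplyPretransitive_of_le (n := n + 2) (by omega)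
        (by rw [Nat.card_eq_fintype_card]; omega)
  obtain ⟨e⟩ : Nonempty (Fin m ≃ s) :=
    Finite.card_eq.mp (by rw [Nat.card_fin, Nat.card_coe_set_eq, hsm])
  let se : Fin m ↪ α := ⟨fun i => e i, fun i j h => e.injective (Subtype.ext h)⟩
  -- normalise an embedding: its first `m` values enumerate `s`
  have norm : ∀ x : Fin (m + 2) ↪ α, ∃ (g : G) (r : Fin 2 ↪ SubMulAction.ofFixingSubgroup G s),
      (∀ i, g • x (Fin.castAdd 2 i) = se i) ∧ ∀ j, g • x (Fin.natAdd m j) = (r j : α) := by
    intro x
    obtain ⟨g, hg⟩ := htr.exists_smul_eq ((Fin.castAddEmb 2).trans x) se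
    have hg' : ∀ i, g • x (Fin.castAdd 2 i) = se i := fun i => DFunLike.congr_fun hg i
    refine ⟨g, ⟨fun j => ⟨g • x (Fin.natAdd m j), ?_⟩, fun j j' h => ?_⟩, hg', fun j => rfl⟩
    · rw [SubMulAction.mem_ofFixingSubgroup_iff]
      intro hmem
      have h1 : g • x (Fin.natAdd m j) = se (e.symm ⟨_, hmem⟩) := by
        show _ = ((e (e.symm ⟨_, hmem⟩) : s) : α)
        rw [e.apply_symm_apply]
      rw [← hg'] at h1
      have := congrArg Fin.val (x.injective (MulAction.injective g h1))
      simp only [Fin.val_natAdd, Fin.val_castAdd] at this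
      have := (e.symm ⟨_, hmem⟩).isLt
      omega
    · exact Fin.natAdd_injective _ _ (x.injective (MulAction.injective g (congrArg Subtype.val h)))
  refine ⟨fun x y => ?_⟩
  obtain ⟨g₁, r₁, ha₁, hb₁⟩ := norm x
  obtain ⟨g₂, r₂, ha₂, hb₂⟩ := norm y
  obtain ⟨k, hk⟩ := MulAction.exists_smul_eq (fixingSubgroup G s) r₁ r₂
  refine ⟨g₂⁻¹ * (k : G) * g₁, ?_⟩
  ext i
  simp only [Function.Embedding.smul_apply, mul_smul, inv_smul_eq_iff]
  refine Fin.addCases (fun i => ?_) (fun j => ?_) i
  · rw [ha₁, ha₂]
    exact (mem_fixingSubgroup_iff G).mp k.2 _ (e i).2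
  · rw [hb₁, hb₂]
    exact congrArg Subtype.val (DFunLike.congr_fun hk j)

end Cfsg.Agent.S0712
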