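import Cfsg.Statements.S0714
import Mathlib

set_option autoImplicit false
open Cfsg

namespace Cfsg.Agent.S0714

/-- Over any field, the permutation module of the alternating group of degree at least 5 has exactly four invariant subspaces: zero, the constant functions, the functions with coordinate sum zero, and everything. -/
theorem result {α : Type*} [Fintype α] [DecidableEq α] (hα : 5 ≤ Fintype.card α) {K : Type*} [Field K] (W : Subrepresentation (Cfsg.permRep K (alternatingGroup α) α)) : W.toSubmodule = ⊥ ∨ W = Cfsg.permConstants K (alternatingGroup α) α ∨ W = Cfsg.permSumZero K (alternatingGroup α) α ∨ W.toSubmodule = ⊤ := by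
  classical
  set V := W.toSubmodule with hV
  have hact : ∀ (g : alternatingGroup α) (v : α → K), v ∈ V → (fun x => v ((g : Equiv.Perm α)⁻¹ x)) ∈ V := by
    intro g v hv
    exact W.apply_mem_toSubmodule g hv
  by_cases hconst : ∀ v ∈ V, ∀ x y, v x = v y
  · haveI : Nonempty α := Fintype.card_pos_iff.mp (by omega)
    obtain ⟨a₀⟩ := ‹Nonempty α›
    by_cases h0 : V = ⊥
    · exact .inl h0
    right; left
    obtain ⟨v, hv, hv0⟩ := (Submodule.ne_bot_iff V).mp h0
    refine Subrepresentation.toSubmodule_injective ?_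
    show V = Submodule.span K {fun _ => (1 : K)}
    refine le_antisymm (fun w hw => Submodule.mem_span_singleton.mpr ⟨w a₀, ?_⟩)
      (Submodule.span_le.mpr ?_)
    · funext x; simp [hconst w hw a₀ x]
    · rintro _ ⟨rfl⟩
      have hva : v a₀ ≠ 0 := fun h => hv0 (funext fun x => (hconst v hv x a₀).trans h)
      have : (fun _ => (1 : K)) = (v a₀)⁻¹ • v := by
        funext x; simp [hconst v hv x a₀, inv_mul_cancel₀ hva]
      show (fun _ => (1 : K)) ∈ V
      rw [this]; exact V.smul_mem _ hv
  push Not at hconst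
  obtain ⟨w, hw, a, b, hab'⟩ := hconst
  have hab : a ≠ b := fun h => hab' (by rw [h])
  have pick : ∀ (l : List α), l.length < 5 → ∃ c : α, c ∉ l := by
    intro l hl
    by_contra h
    push Not at h
    have : (Finset.univ : Finset α) ⊆ l.toFinset := fun x _ => List.mem_toFinset.mpr (h x)
    have := (Finset.card_le_card this).trans l.toFinset_card_le
    simp only [Finset.card_univ] at this
    omega
  obtain ⟨c, hc⟩ := pick [a, b] (by simp)
  obtain ⟨d, hd⟩ := pick [a, b, c] (by simp)
  simp only [List.mem_cons, List.not_mem_nil, or_false, not_or] at hc hd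
  obtain ⟨(hca : c ≠ a), (hcb : c ≠ b)⟩ := hc
  obtain ⟨(hda : d ≠ a), (hdb : d ≠ b), (hdc : d ≠ c)⟩ := hd
  -- step 1: a vector supported on three points
  let σ : Equiv.Perm α := Equiv.swap a b * Equiv.swap a c
  have hσ : σ ∈ alternatingGroup α := by
    simp [σ, Equiv.Perm.mem_alternatingGroup, Equiv.Perm.sign_swap hab, Equiv.Perm.sign_swap hca.symm]
  set u : α → K := fun x => w (σ⁻¹ x) - w x with hu
  have huV : u ∈ V := V.sub_mem (hact ⟨σ, hσ⟩ w hw) hw
  have hσinv : ∀ x, σ⁻¹ x = Equiv.swap a c (Equiv.swap a b x) := fun x => by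
    simp [σ, Equiv.swap_inv]
  have hsupp : ∀ x, x ≠ a → x ≠ b → x ≠ c → u x = 0 := by
    intro x h1 h2 h3
    simp [hu, hσinv, Equiv.swap_apply_of_ne_of_ne h1 h3, Equiv.swap_apply_of_ne_of_ne h1 h2]
  -- step 2: a difference of two basis vectors
  obtain ⟨p, q, hpq, hpqV⟩ : ∃ p q : α, p ≠ q ∧ (Pi.single p (1 : K) - Pi.single q 1 : α → K) ∈ V := by
    by_cases hbc : u b = u c
    · have hua : u a ≠ 0 := by
        have hx : σ⁻¹ a = b := by
          simp [hσinv, Equiv.swap_apply_of_ne_of_ne hab.symm hcb.symm]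
        simp only [hu, hx]
        exact sub_ne_zero.mpr (Ne.symm hab')
      let τ : Equiv.Perm α := Equiv.swap a d * Equiv.swap b c
      have hτ : τ ∈ alternatingGroup α := by
        simp [τ, Equiv.Perm.mem_alternatingGroup, Equiv.Perm.sign_swap hda.symm,
          Equiv.Perm.sign_swap hcb.symm]
      have hmem : (fun x => u x - u (τ⁻¹ x)) ∈ V := V.sub_mem huV (hact ⟨τ, hτ⟩ u huV)
      have hτinv : ∀ x, τ⁻¹ x = Equiv.swap b c (Equiv.swap a d x) := fun x => by
        simp [τ, Equiv.swap_inv]
      refine ⟨a, d, hda.symm, ?_⟩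
      have h : (Pi.single a (1 : K) - Pi.single d 1 : α → K) =
          (u a)⁻¹ • fun x => u x - u (τ⁻¹ x) := by
        funext x
        have hud : u d = 0 := hsupp d hda hdb hdc
        rcases eq_or_ne x a with rfl | hxa
        · simp [hτinv, Equiv.swap_apply_of_ne_of_ne hdb hdc, hud, hua, hda.symm]
        rcases eq_or_ne x d with rfl | hxd
        · simp [hτinv, Equiv.swap_apply_of_ne_of_ne hab hca.symm, hud, hua, hxa]
        rcases eq_or_ne x b with rfl | hxb
        · simp [hτinv, Equiv.swap_apply_of_ne_of_ne hxa hxd, hbc, hxa, hxd]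
        rcases eq_or_ne x c with rfl | hxc
        · simp [hτinv, Equiv.swap_apply_of_ne_of_ne hxa hxd, hbc, hxa, hxd]
        simp [hτinv, Equiv.swap_apply_of_ne_of_ne hxa hxd, Equiv.swap_apply_of_ne_of_ne hxb hxc,
          hxa, hxd]
      rw [h]; exact V.smul_mem _ hmem
    · obtain ⟨e, he⟩ := pick [a, b, c, d] (by simp)
      simp only [List.mem_cons, List.not_mem_nil, or_false, not_or] at he
      obtain ⟨(hea : e ≠ a), (heb : e ≠ b), (hec : e ≠ c), (hed : e ≠ d)⟩ := he
      let τ : Equiv.Perm α := Equiv.swap b c * Equiv.swap d e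
      have hτ : τ ∈ alternatingGroup α := by
        simp [τ, Equiv.Perm.mem_alternatingGroup, Equiv.Perm.sign_swap hcb.symm,
          Equiv.Perm.sign_swap hed.symm]
      have hmem : (fun x => u x - u (τ⁻¹ x)) ∈ V := V.sub_mem huV (hact ⟨τ, hτ⟩ u huV)
      have hτinv : ∀ x, τ⁻¹ x = Equiv.swap d e (Equiv.swap b c x) := fun x => by
        simp [τ, Equiv.swap_inv]
      refine ⟨b, c, hcb.symm, ?_⟩
      have hne : u b - u c ≠ 0 := sub_ne_zero.mpr hbc
      have h : (Pi.single b (1 : K) - Pi.single c 1 : α → K) =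
          (u b - u c)⁻¹ • fun x => u x - u (τ⁻¹ x) := by
        funext x
        rcases eq_or_ne x b with rfl | hxb
        · simp [hτinv, Equiv.swap_apply_of_ne_of_ne hdc.symm hec.symm, hne, hcb.symm]
        rcases eq_or_ne x c with rfl | hxc
        · simp [hτinv, Equiv.swap_apply_of_ne_of_ne hdb.symm heb.symm, hxb]
          field_simp
          ring
        rcases eq_or_ne x d with rfl | hxd
        · simp [hτinv, Equiv.swap_apply_of_ne_of_ne hxb hxc, hxb, hxc, hsupp x hda hdb hdc,
            hsupp e hea heb hec]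
        rcases eq_or_ne x e with rfl | hxe
        · simp [hτinv, Equiv.swap_apply_of_ne_of_ne hxb hxc, hxb, hxc, hsupp x hea heb hec,
            hsupp d hda hdb hdc]
        simp [hτinv, Equiv.swap_apply_of_ne_of_ne hxb hxc, Equiv.swap_apply_of_ne_of_ne hxd hxe,
          hxb, hxc]
      rw [h]; exact V.smul_mem _ hmem
  -- step 3: all differences
  haveI h2 : MulAction.IsMultiplyPretransitive (alternatingGroup α) α 2 := by
    haveI := alternatingGroup.isMultiplyPretransitive α
    exact MulAction.isMultiplyPretransitive_of_le (n := Nat.card α - 2)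
      (by rw [Nat.card_eq_fintype_card]; omega) (Nat.sub_le _ _)
  have hall : ∀ x y : α, x ≠ y → (Pi.single x (1 : K) - Pi.single y 1 : α → K) ∈ V := by
    intro x y hxy
    obtain ⟨g, hgp, hgq⟩ := (MulAction.is_two_pretransitive_iff.mp h2) hpq hxy
    have := hact g _ hpqV
    convert this using 1
    funext z
    simp only [Pi.sub_apply, Pi.single_apply, Equiv.Perm.inv_eq_iff_eq]
    rw [show ((g : Equiv.Perm α) p) = x from hgp, show ((g : Equiv.Perm α) q) = y from hgq]
  haveI : Nonempty α := ⟨a⟩
  obtain ⟨q₀⟩ := ‹Nonempty α›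
  have hsum : ∀ v : α → K, ∑ x, v x = 0 → v ∈ V := by
    intro v hv
    have h : v = ∑ x, v x • (Pi.single x (1 : K) - Pi.single q₀ 1 : α → K) := by
      simp only [smul_sub, Finset.sum_sub_distrib, ← Finset.sum_smul, hv, zero_smul, sub_zero]
      funext y
      simp [Finset.sum_apply, Pi.single_apply]
    rw [h]
    refine V.sum_mem fun x _ => V.smul_mem _ ?_
    rcases eq_or_ne x q₀ with rfl | hx
    · rw [sub_self]; exact V.zero_mem
    · exact hall x q₀ hx
  right; right
  by_cases hex : ∃ v ∈ V, ∑ x, v x ≠ 0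
  · obtain ⟨v, hv, hv0⟩ := hex
    right
    rw [eq_top_iff]
    rintro y -
    have h1 : y - ((∑ x, y x) / ∑ x, v x) • v ∈ V := hsum _ (by
      simp only [Pi.sub_apply, Pi.smul_apply, smul_eq_mul, Finset.sum_sub_distrib, ← Finset.mul_sum]
      field_simp
      ring)
    have := V.add_mem h1 (V.smul_mem ((∑ x, y x) / ∑ x, v x) hv)
    simpa using this
  · left
    push Not at hex
    exact Subrepresentation.toSubmodule_injective (le_antisymm hex hsum)

end Cfsg.Agent.S0714
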