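import Cfsg.Statements.S0715
import Cfsg.Prelude.Def_Perm
import Cfsg.Agent.Lib.Char.Orth
import Mathlib.LinearAlgebra.Eigenspace.Charpoly
import Mathlib.LinearAlgebra.Eigenspace.Zero
import Mathlib.LinearAlgebra.Trace
import Mathlib.Analysis.Complex.Polynomial.Basic
import Mathlib.RingTheory.IntegralClosure.IntegrallyClosed

set_option autoImplicit false
open Cfsg

namespace Cfsg.Agent.S0715

open Module CfsgLib.Char

variable (G : Type*) [Group G] {Ω : Type*} [MulAction G Ω]

open scoped Classical in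
noncomputable def adj (a b : Ω) : Matrix Ω Ω ℤ :=
  Matrix.of fun x y => if ∃ g : G, g • a = x ∧ g • b = y then 1 else 0

theorem adj_smul (a b x y : Ω) (g : G) : adj G a b (g • x) (g • y) = adj G a b x y := by
  classical
  unfold adj
  simp only [Matrix.of_apply]
  refine if_congr ⟨?_, ?_⟩ rfl rfl
  · rintro ⟨h, h1, h2⟩
    exact ⟨g⁻¹ * h, by rw [mul_smul, h1, inv_smul_smul], by rw [mul_smul, h2, inv_smul_smul]⟩
  · rintro ⟨h, rfl, rfl⟩
    exact ⟨g * h, mul_smul g h a, mul_smul g h b⟩

theorem adj_self {a b : Ω} (hab : b ≠ a) (x : Ω) : adj G a b x x = 0 := by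
  classical
  unfold adj
  simp only [Matrix.of_apply, ite_eq_right_iff]
  rintro ⟨g, h1, h2⟩
  exact absurd (smul_left_cancel g (h2.trans h1.symm)) hab

theorem row_sum [Fintype Ω] [MulAction.IsPretransitive G Ω] (a b x : Ω) :
    ∑ y, adj G a b x y = (Nat.card (MulAction.orbit (MulAction.stabilizer G a) b) : ℤ) := by
  classical
  obtain ⟨g, rfl⟩ := MulAction.exists_smul_eq G a x
  rw [← Fintype.sum_equiv (MulAction.toPerm g) (fun y => adj G a b a y) _ (fun y => (adj_smul G a b a y g).symm)]
  unfold adj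
  simp only [Matrix.of_apply, Finset.sum_boole]
  rw [Nat.card_coe_set_eq, Set.ncard_eq_toFinset_card']
  congr 2
  ext y
  simp only [Finset.mem_filter, Finset.mem_univ, true_and, Set.mem_toFinset]
  exact ⟨fun ⟨h, h1, h2⟩ => ⟨⟨h, h1⟩, h2⟩, fun ⟨⟨h, h1⟩, h2⟩ => ⟨h, h1, h2⟩⟩

/-- Invariant subspaces of the sum-zero module have dimension divisible by `f`. -/
theorem dvd_finrank [Fintype G] [Fintype Ω] [MulAction.IsPretransitive G Ω] (f : ℕ)
    (hf : ∀ χ : G → ℂ, Cfsg.IsIrrCharacter G χ → χ ≠ (fun _ => 1) →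
      Cfsg.classInner (fun g : G => (Nat.card (MulAction.fixedBy Ω g) : ℂ)) χ ≠ 0 →
      ∃ m : ℕ, χ 1 = (f : ℂ) * m)
    (T : Subrepresentation (Cfsg.permSumZero ℂ G Ω).toRepresentation) :
    f ∣ finrank ℂ T.toSubmodule := by
  classical
  let π := Cfsg.permRep ℂ G Ω
  let S := Cfsg.permSumZero ℂ G Ω
  have hπ : π.character = fun g : G => (Nat.card (MulAction.fixedBy Ω g) : ℂ) := by
    funext g
    show LinearMap.trace ℂ _ (π g) = _
    rw [LinearMap.trace_eq_matrix_trace ℂ (Pi.basisFun ℂ Ω), LinearMap.toMatrix_eq_toMatrix', Matrix.trace]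
    simp only [Matrix.diag, LinearMap.toMatrix'_apply]
    have : ∀ i, π g (Pi.single i 1) i = if g • i = i then (1 : ℂ) else 0 := by
      intro i
      show (Pi.single i (1 : ℂ) : Ω → ℂ) (g⁻¹ • i) = _
      rw [Pi.single_apply]
      exact if_congr (by rw [inv_smul_eq_iff]; exact eq_comm) rfl rfl
    rw [Finset.sum_congr rfl fun i _ => this i, Finset.sum_boole, Nat.card_coe_set_eq,
      Set.ncard_eq_toFinset_card']
    congr 2
    ext i
    simp
  obtain ⟨C, hC⟩ := exists_isCompl_subrep π S
  obtain ⟨D, hD⟩ := exists_isCompl_subrep S.toRepresentation T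
  have hTc := isCharacter_character (G := G) (V := T.toSubmodule) T.toRepresentation
  obtain ⟨m, hm⟩ := exists_multiplicities hTc
  have hinner : ∀ ψ : Cfsg.IrrCharacter G, m ψ ≠ 0 → ∃ k : ℕ, (ψ : G → ℂ) 1 = (f : ℂ) * k := by
    intro ψ hψ
    have hT : Cfsg.classInner (Representation.character (V := T.toSubmodule) T.toRepresentation) (ψ : G → ℂ) = m ψ := by
      rw [hm, classInner_sum_smul_irr]
    refine hf ψ ψ.2 ?_ ?_
    · intro h1
      apply hψ
      have hone : (Representation.trivial ℂ G ℂ).character = fun _ => (1 : ℂ) := by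
        funext g
        show LinearMap.trace ℂ ℂ _ = 1
        rw [show (Representation.trivial ℂ G ℂ) g = LinearMap.id from rfl, LinearMap.trace_id, finrank_self]
        norm_num
      rw [h1, ← hone, classInner_character_eq_finrank] at hT
      have hsub : Subsingleton (Representation.IntertwiningMap (Representation.trivial ℂ G ℂ) T.toRepresentation) := by
        suffices hall : ∀ φ : Representation.IntertwiningMap (Representation.trivial ℂ G ℂ) T.toRepresentation,
            φ.toLinearMap 1 = 0 by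
          refine ⟨fun φ φ' => ?_⟩
          have : φ.toLinearMap = φ'.toLinearMap := LinearMap.ext_ring ((hall φ).trans (hall φ').symm)
          exact DFunLike.ext _ _ fun v => LinearMap.congr_fun this v
        intro φ
        set v : Ω → ℂ := ((φ.toLinearMap 1).1).1 with hv
        have hinv : ∀ (g : G) (x : Ω), v (g⁻¹ • x) = v x := by
          intro g x
          have h2 := LinearMap.congr_fun (φ.isIntertwining' g) 1
          exact (congrFun (congrArg (fun w => ((w.1).1)) h2) x).symm
        refine Subtype.ext (Subtype.ext (funext fun x => ?_))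
        have hsum : ∑ y, v y = 0 := (φ.toLinearMap 1).1.2
        have hconst : ∀ y, v y = v x := by
          intro y
          obtain ⟨g, rfl⟩ := MulAction.exists_smul_eq G y x
          rw [← hinv g (g • y), inv_smul_smul]
        rw [Finset.sum_congr rfl fun y _ => hconst y, Finset.sum_const, Finset.card_univ, nsmul_eq_mul] at hsum
        haveI : Nonempty Ω := ⟨x⟩
        exact (mul_eq_zero.1 hsum).resolve_left (Nat.cast_ne_zero.2 Fintype.card_ne_zero)
      rw [Module.finrank_zero_of_subsingleton, Nat.cast_zero] at hT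
      exact_mod_cast hT.symm
    · obtain ⟨nC, hnC⟩ := exists_nat_classInner (isCharacter_character (V := C.toSubmodule) C.toRepresentation) (isCharacter_of_isIrr ψ.2)
      obtain ⟨nD, hnD⟩ := exists_nat_classInner (isCharacter_character (V := D.toSubmodule) D.toRepresentation) (isCharacter_of_isIrr ψ.2)
      rw [← hπ, char_eq_add_of_isCompl π S C hC, char_eq_add_of_isCompl S.toRepresentation T D hD,
        classInner_add_left, classInner_add_left, hT, hnC, hnD]
      exact_mod_cast fun h : m ψ + nD + nC = 0 => hψ (by omega)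
  have h1 := congrFun hm 1
  rw [Representation.char_one] at h1
  simp only [Finset.sum_apply, Pi.smul_apply, smul_eq_mul] at h1
  have hk : ∀ ψ : Cfsg.IrrCharacter G, ∃ k : ℕ, (m ψ : ℂ) * (ψ : G → ℂ) 1 = (f : ℂ) * k := by
    intro ψ
    rcases eq_or_ne (m ψ) 0 with h0 | h0
    · exact ⟨0, by simp [h0]⟩
    · obtain ⟨k, hk⟩ := hinner ψ h0
      exact ⟨m ψ * k, by rw [hk]; push_cast; ring⟩
  choose k hk using hk
  rw [Finset.sum_congr rfl fun ψ _ => hk ψ, ← Finset.mul_sum] at h1
  exact ⟨∑ ψ, k ψ, by exact_mod_cast h1⟩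


/-- If a natural number `f` divides the degree of every non-principal irreducible constituent of the permutation character of a transitive group, then `f` divides every non-trivial subdegree. -/
theorem result {G : Type*} [Group G] [Fintype G] {Ω : Type*} [Fintype Ω] [MulAction G Ω] [MulAction.IsPretransitive G Ω] (f : ℕ) (hf : ∀ χ : G → ℂ, Cfsg.IsIrrCharacter G χ → χ ≠ (fun _ => 1) → Cfsg.classInner (fun g : G => (Nat.card (MulAction.fixedBy Ω g) : ℂ)) χ ≠ 0 → ∃ m : ℕ, χ 1 = (f : ℂ) * m) (a b : Ω) (hab : b ≠ a) : f ∣ Nat.card (MulAction.orbit (MulAction.stabilizer G a) b) := by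
  classical
  set A : (Ω → ℂ) →ₗ[ℂ] (Ω → ℂ) := Matrix.toLin' ((adj G a b).map (Int.cast : ℤ → ℂ)) with hA
  set S := (Cfsg.permSumZero ℂ G Ω) with hS
  haveI : Nonempty Ω := ⟨a⟩
  have hAapp : ∀ v x, A v x = ∑ y, ((adj G a b x y : ℤ) : ℂ) * v y := by
    intro v x
    rw [hA, Matrix.toLin'_apply]
    rfl
  have hcomm : ∀ g v, A (Cfsg.permRep ℂ G Ω g v) = Cfsg.permRep ℂ G Ω g (A v) := by
    intro g v
    funext x
    show _ = A v (g⁻¹ • x)
    rw [hAapp, hAapp]
    refine Fintype.sum_equiv (MulAction.toPerm g⁻¹) _ _ fun y => ?_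
    show _ = ((adj G a b (g⁻¹ • x) (g⁻¹ • y) : ℤ) : ℂ) * v (g⁻¹ • y)
    rw [adj_smul]
    rfl
  set d := Nat.card (MulAction.orbit (MulAction.stabilizer G a) b) with hd
  have hrow : ∀ x, ∑ y, ((adj G a b x y : ℤ) : ℂ) = d := by
    intro x
    rw [← Int.cast_sum, row_sum, Int.cast_natCast]
  have hcol : ∀ y, ∑ x, ((adj G a b x y : ℤ) : ℂ) = ∑ x, ((adj G a b x b : ℤ) : ℂ) := by
    intro y
    obtain ⟨g, rfl⟩ := MulAction.exists_smul_eq G b y
    symm
    refine Fintype.sum_equiv (MulAction.toPerm g) _ _ fun x => ?_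
    show _ = ((adj G a b (g • x) (g • b) : ℤ) : ℂ)
    rw [adj_smul]
  have hmaps : ∀ v ∈ S.toSubmodule, A v ∈ S.toSubmodule := by
    intro v hv
    change ∑ x, A v x = 0
    simp only [hAapp]
    rw [Finset.sum_comm]
    simp only [← Finset.sum_mul, hcol, ← Finset.mul_sum]
    rw [show ∑ x, v x = 0 from hv, mul_zero]
  set B := A.restrict hmaps with hB
  have hBcomm : ∀ g v, B (S.toRepresentation g v) = S.toRepresentation g (B v) :=
    fun g v => Subtype.ext (hcomm g v.1)
  have hdim : ∀ μ : ℂ, f ∣ Module.finrank ℂ (Module.End.maxGenEigenspace B μ) := by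
    intro μ
    exact dvd_finrank G f hf
      ⟨Module.End.maxGenEigenspace B μ, fun g v hv =>
        Module.End.mapsTo_maxGenEigenspace_of_comm
          (show Commute B (S.toRepresentation g) from LinearMap.ext fun w => hBcomm g w) μ hv⟩
  have hint : ∀ μ ∈ B.charpoly.roots, IsIntegral ℤ μ := by
    intro μ hμ
    have hr := (Polynomial.mem_roots (LinearMap.charpoly_monic B).ne_zero).1 hμ
    obtain ⟨v, hv⟩ := ((Module.End.hasEigenvalue_iff_isRoot_charpoly B μ).2 hr).exists_hasEigenvector
    have hv' : Module.End.HasEigenvector A μ (v : Ω → ℂ) :=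
      ⟨Module.End.mem_eigenspace_iff.2 (congrArg Subtype.val hv.apply_eq_smul),
        fun h => hv.2 (Subtype.ext h)⟩
    have h2 := (Module.End.hasEigenvalue_iff_isRoot_charpoly A μ).1
      (Module.End.hasEigenvalue_of_hasEigenvector hv')
    rw [hA, ← LinearMap.charpoly_toMatrix _ (Pi.basisFun ℂ Ω), LinearMap.toMatrix_eq_toMatrix',
      LinearMap.toMatrix'_toLin', show (adj G a b).map (Int.cast : ℤ → ℂ) = (adj G a b).map (Int.castRingHom ℂ) from rfl,
      Matrix.charpoly_map] at h2
    exact ⟨(adj G a b).charpoly, Matrix.charpoly_monic _, by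
      rwa [algebraMap_int_eq, ← Polynomial.eval_map]⟩
  have hsum : B.charpoly.roots.sum = -(d : ℂ) := by
    rw [← Module.End.trace_eq_sum_roots_charpoly_of_splits (IsAlgClosed.splits _)]
    let P : (Ω → ℂ) →ₗ[ℂ] S.toSubmodule :=
      { toFun := fun v => ⟨fun x => v x - (∑ y, v y) / (Fintype.card Ω : ℂ), by
          show ∑ x, (v x - (∑ y, v y) / (Fintype.card Ω : ℂ)) = 0
          rw [Finset.sum_sub_distrib, Finset.sum_const, Finset.card_univ, nsmul_eq_mul,
            mul_div_cancel₀ _ (Nat.cast_ne_zero.2 Fintype.card_ne_zero), sub_self]⟩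
        map_add' := fun v w => by
          refine Subtype.ext (funext fun x => ?_)
          simp [Finset.sum_add_distrib, add_div]; ring
        map_smul' := fun c v => by
          refine Subtype.ext (funext fun x => ?_)
          simp [← Finset.mul_sum, mul_sub, mul_div_assoc] }
    have hP : ∀ v : S.toSubmodule, P v = v := fun v => Subtype.ext (funext fun x => by
      show v.1 x - (∑ y, v.1 y) / (Fintype.card Ω : ℂ) = v.1 x
      rw [show ∑ y, v.1 y = 0 from v.2, zero_div, sub_zero])
    have hBe : B = (P ∘ₗ A) ∘ₗ S.toSubmodule.subtype :=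
      LinearMap.ext fun v => (hP (B v)).symm
    rw [hBe, ← LinearMap.trace_comp_comm' (P ∘ₗ A) S.toSubmodule.subtype]
    rw [show S.toSubmodule.subtype ∘ₗ (P ∘ₗ A) = (S.toSubmodule.subtype ∘ₗ P) ∘ₗ A from rfl,
      LinearMap.trace_eq_matrix_trace ℂ (Pi.basisFun ℂ Ω), LinearMap.toMatrix_eq_toMatrix']
    simp only [Matrix.trace, Matrix.diag, LinearMap.toMatrix'_apply]
    have key : ∀ i, (((S.toSubmodule.subtype ∘ₗ P) ∘ₗ A) (Pi.single i 1)) i
        = ((adj G a b i i : ℤ) : ℂ) - (∑ x, ((adj G a b x i : ℤ) : ℂ)) / (Fintype.card Ω : ℂ) := by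
      intro i
      show A (Pi.single i 1) i - (∑ y, A (Pi.single i 1) y) / (Fintype.card Ω : ℂ) = _
      simp [hAapp, Pi.single_apply]
    rw [Finset.sum_congr rfl fun i _ => key i, Finset.sum_sub_distrib, ← Finset.sum_div, Finset.sum_comm]
    simp only [hrow, Finset.sum_const, Finset.card_univ, nsmul_eq_mul]
    rw [Finset.sum_eq_zero fun i _ => by rw [adj_self G hab i, Int.cast_zero],
      mul_div_cancel_left₀ _ (Nat.cast_ne_zero.2 Fintype.card_ne_zero), zero_sub]
  have hcount : ∀ μ, f ∣ B.charpoly.roots.count μ := fun μ => by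
    rw [Polynomial.count_roots, ← LinearMap.finrank_maxGenEigenspace_eq]
    exact hdim μ
  rw [Finset.sum_multiset_count] at hsum
  choose c hc using hcount
  set X := ∑ μ ∈ B.charpoly.roots.toFinset, c μ • μ with hX
  replace hsum : (f : ℂ) * X = -(d : ℂ) := by
    rw [← hsum, hX, Finset.mul_sum]
    refine Finset.sum_congr rfl fun μ _ => ?_
    rw [hc]
    simp [nsmul_eq_mul, mul_assoc]
  have hXint : IsIntegral ℤ X := IsIntegral.sum _ fun μ hμ =>
    (hint μ (Multiset.mem_toFinset.1 hμ)).smul (c μ)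
  rcases Nat.eq_zero_or_pos f with hf0 | hf0
  · rw [hf0, Nat.cast_zero, zero_mul] at hsum
    have : d = 0 := by simpa using hsum.symm
    rw [this]
    exact dvd_zero f
  have hXq : X = algebraMap ℚ ℂ (-(d : ℚ) / f) := by
    rw [map_div₀, map_neg, map_natCast, map_natCast, eq_div_iff (Nat.cast_ne_zero.2 hf0.ne'), ← hsum]
    ring
  rw [hXq, isIntegral_algebraMap_iff (algebraMap ℚ ℂ).injective, IsIntegrallyClosed.isIntegral_iff] at hXint
  obtain ⟨z, hz⟩ := hXint
  rw [eq_div_iff (Nat.cast_ne_zero.2 hf0.ne')] at hz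
  have hz' : z * (f : ℤ) = -(d : ℤ) := by
    rw [algebraMap_int_eq, eq_intCast] at hz
    exact_mod_cast hz
  exact Int.natCast_dvd_natCast.1 ⟨-z, by rw [mul_neg, mul_comm, hz', neg_neg]⟩

end Cfsg.Agent.S0715
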