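import Cfsg.Statements.S0716
import Cfsg.Agent.Lib.Perm.PermRank
import Cfsg.Agent.S0715

set_option autoImplicit false
open Cfsg

namespace Cfsg.Agent.S0716

open CfsgLib.Char


/-- (a) If all non-principal irreducible constituents of the permutation character of a transitive group have the same degree `f`, the character is multiplicity-free and all non-trivial subdegrees equal `f`. (b) A transitive group of rank at most 5 has multiplicity-free permutation character. -/
theorem result {G : Type*} [Group G] [Fintype G] {Ω : Type*} [Fintype Ω] [MulAction G Ω] [MulAction.IsPretransitive G Ω] (a : Ω) : ((f : ℕ) → (∀ χ : G → ℂ, Cfsg.IsIrrCharacter G χ → χ ≠ (fun _ => 1) → Cfsg.classInner (fun g : G => (Nat.card (MulAction.fixedBy Ω g) : ℂ)) χ ≠ 0 → χ 1 = f) → (∀ χ : G → ℂ, Cfsg.IsIrrCharacter G χ → Cfsg.classInner (fun g : G => (Nat.card (MulAction.fixedBy Ω g) : ℂ)) χ = 0 ∨ Cfsg.classInner (fun g : G => (Nat.card (MulAction.fixedBy Ω g) : ℂ)) χ =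 1) ∧ ∀ b : Ω, b ≠ a → Nat.card (MulAction.orbit (MulAction.stabilizer G a) b) = f) ∧ (Nat.card (MulAction.orbitRel.Quotient (MulAction.stabilizer G a) Ω) ≤ 5 → ∀ χ : G → ℂ, Cfsg.IsIrrCharacter G χ → Cfsg.classInner (fun g : G => (Nat.card (MulAction.fixedBy Ω g) : ℂ)) χ = 0 ∨ Cfsg.classInner (fun g : G => (Nat.card (MulAction.fixedBy Ω g) : ℂ)) χ = 1) := by
  classical
  haveI : Nonempty Ω := ⟨a⟩
  obtain ⟨m, hin, hsq, hone, hdim⟩ := Cfsg.Agent.Lib.Perm.exists_mult (G := G) (Ω := Ω) a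
  let χ₀ : Cfsg.IrrCharacter G := ⟨fun _ => 1, isIrrCharacter_one⟩
  have h0 : m χ₀ = 1 := hone χ₀ rfl
  have hne : ∀ χ : Cfsg.IrrCharacter G, χ ≠ χ₀ → (χ : G → ℂ) ≠ fun _ => 1 :=
    fun χ hχ h => hχ (Subtype.ext h)
  have hsq' : 1 + ∑ χ ∈ Finset.univ.erase χ₀, m χ * m χ
      = Nat.card (MulAction.orbitRel.Quotient (MulAction.stabilizer G a) Ω) := by
    rw [← hsq, ← Finset.add_sum_erase _ _ (Finset.mem_univ χ₀), h0]
  have part1 : (f : ℕ) → (∀ χ : G → ℂ, Cfsg.IsIrrCharacter G χ → χ ≠ (fun _ => 1) →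
      Cfsg.classInner (fun g : G => (Nat.card (MulAction.fixedBy Ω g) : ℂ)) χ ≠ 0 → χ 1 = f) →
      (∀ χ : G → ℂ, Cfsg.IsIrrCharacter G χ →
        Cfsg.classInner (fun g : G => (Nat.card (MulAction.fixedBy Ω g) : ℂ)) χ = 0 ∨
        Cfsg.classInner (fun g : G => (Nat.card (MulAction.fixedBy Ω g) : ℂ)) χ = 1) ∧
      ∀ b : Ω, b ≠ a → Nat.card (MulAction.orbit (MulAction.stabilizer G a) b) = f := by
    intro f hf
    set M := ∑ χ ∈ Finset.univ.erase χ₀, m χ with hM
    have hn : Fintype.card Ω = 1 + f * M := by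
      have h := hdim
      rw [← Finset.add_sum_erase _ _ (Finset.mem_univ χ₀), h0] at h
      have hterm : ∀ χ ∈ Finset.univ.erase χ₀, (m χ : ℂ) * (χ : G → ℂ) 1 = ((f * m χ : ℕ) : ℂ) := by
        intro χ hχ
        rcases eq_or_ne (m χ) 0 with hm0 | hm0
        · simp [hm0]
        · rw [hf χ χ.2 (hne χ (Finset.ne_of_mem_erase hχ)) (by rw [hin]; exact_mod_cast hm0)]
          push_cast
          ring
      rw [Finset.sum_congr rfl hterm, show ((χ₀ : G → ℂ) 1) = 1 from rfl] at h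
      rw [hM, Finset.mul_sum]
      exact_mod_cast (by simpa using h : (Fintype.card Ω : ℂ) = 1 + ∑ χ ∈ Finset.univ.erase χ₀, ((f * m χ : ℕ) : ℂ))
    haveI : Fintype (MulAction.orbitRel.Quotient (MulAction.stabilizer G a) Ω) := Fintype.ofFinite _
    set q₀ : MulAction.orbitRel.Quotient (MulAction.stabilizer G a) Ω := Quotient.mk'' a with hq₀
    have horb : ∀ b : Ω, MulAction.orbitRel.Quotient.orbit (Quotient.mk'' b : MulAction.orbitRel.Quotient (MulAction.stabilizer G a) Ω)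
        = MulAction.orbit (MulAction.stabilizer G a) b :=
      fun b => MulAction.orbitRel.Quotient.orbit_mk b
    have hsame : ∀ b, b ≠ a → (Quotient.mk'' b : MulAction.orbitRel.Quotient (MulAction.stabilizer G a) Ω) ≠ q₀ := by
      intro b hb h
      obtain ⟨g, hg⟩ := Quotient.eq''.1 h
      exact hb (hg.symm.trans g.2)
    have hdiv : ∀ b, b ≠ a → f ∣ Nat.card (MulAction.orbit (MulAction.stabilizer G a) b) := fun b hb =>
      Cfsg.Agent.S0715.result f (fun χ hχ h1 h2 => ⟨1, by rw [hf χ hχ h1 h2, Nat.cast_one, mul_one]⟩) a b hb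
    have hge : ∀ q ∈ Finset.univ.erase q₀, f ≤ Nat.card q.orbit := by
      intro q hq
      induction q using Quotient.inductionOn' with
      | h b =>
        have hb : b ≠ a := fun h => Finset.ne_of_mem_erase hq (by rw [hq₀, h])
        rw [horb b]
        haveI : Nonempty (MulAction.orbit (MulAction.stabilizer G a) b) := ⟨⟨b, MulAction.mem_orbit_self b⟩⟩
        exact Nat.le_of_dvd Nat.card_pos (hdiv b hb)
    have hq0 : Nat.card q₀.orbit = 1 := by
      rw [hq₀, horb a, Nat.card_coe_set_eq, Set.ncard_eq_one]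
      refine ⟨a, Set.eq_singleton_iff_unique_mem.2 ⟨MulAction.mem_orbit_self a, ?_⟩⟩
      rintro _ ⟨g, rfl⟩
      exact g.2
    have hsum : ∑ q ∈ Finset.univ.erase q₀, Nat.card q.orbit = f * M := by
      have h := Cfsg.Agent.Lib.Perm.sum_orbits (G := G) (Ω := Ω) a
      rw [← Finset.add_sum_erase _ _ (Finset.mem_univ q₀), hq0, hn] at h
      omega
    have hcard : (Finset.univ.erase q₀).card = ∑ χ ∈ Finset.univ.erase χ₀, m χ * m χ := by
      rw [Finset.card_erase_of_mem (Finset.mem_univ q₀), Finset.card_univ, ← Nat.card_eq_fintype_card, ← hsq']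
      omega
    have hle : f * ∑ χ ∈ Finset.univ.erase χ₀, m χ * m χ ≤ f * M := by
      have h := Finset.card_nsmul_le_sum _ _ _ hge
      rw [hsum, smul_eq_mul, hcard] at h
      rwa [mul_comm]
    have hmf : ∀ χ ∈ Finset.univ.erase χ₀, m χ ≤ 1 := by
      intro χ hχ
      rcases eq_or_ne (m χ) 0 with hm0 | hm0
      · omega
      have hf0 : 0 < f := by
        rcases Nat.eq_zero_or_pos f with hf0 | hf0
        · exfalso
          have h := hf χ χ.2 (hne χ (Finset.ne_of_mem_erase hχ)) (by rw [hin]; exact_mod_cast hm0)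
          rw [hf0, Nat.cast_zero] at h
          exact irr_degree_ne_zero χ.2 h
        · exact hf0
      have h1 := Nat.le_of_mul_le_mul_left hle hf0
      have h2 : ∀ ψ ∈ Finset.univ.erase χ₀, m ψ ≤ m ψ * m ψ := fun ψ _ => Nat.le_mul_self _
      have h3 := (Finset.sum_eq_sum_iff_of_le h2).1 (le_antisymm (Finset.sum_le_sum h2) (by rw [← hM]; exact h1)) χ hχ
      nlinarith [Nat.pos_of_ne_zero hm0]
    refine ⟨?_, ?_⟩
    · intro χ hχ
      rw [show Cfsg.classInner _ χ = _ from hin ⟨χ, hχ⟩]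
      rcases eq_or_ne (⟨χ, hχ⟩ : Cfsg.IrrCharacter G) χ₀ with h | h
      · rw [h, h0]; simp
      · have := hmf _ (Finset.mem_erase.2 ⟨h, Finset.mem_univ _⟩)
        rcases Nat.le_one_iff_eq_zero_or_eq_one.1 this with h' | h' <;> simp [h']
    · intro b hb
      have hMeq : ∑ χ ∈ Finset.univ.erase χ₀, m χ * m χ = M := by
        rw [hM]
        refine Finset.sum_congr rfl fun χ hχ => ?_
        rcases Nat.le_one_iff_eq_zero_or_eq_one.1 (hmf χ hχ) with h' | h' <;> simp [h']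
      have hall : ∀ q ∈ Finset.univ.erase q₀, f = Nat.card q.orbit := by
        refine (Finset.sum_eq_sum_iff_of_le hge).1 ?_
        rw [hsum, Finset.sum_const, smul_eq_mul, hcard, hMeq, mul_comm]
      have := hall _ (Finset.mem_erase.2 ⟨hsame b hb, Finset.mem_univ _⟩)
      rw [horb b] at this
      exact this.symm
  refine ⟨part1, fun hr χ hχ => ?_⟩
  rw [← hsq'] at hr
  by_contra hcon
  push Not at hcon
  have hm : 2 ≤ m ⟨χ, hχ⟩ := by
    by_contra h
    push Not at h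
    rcases Nat.le_one_iff_eq_zero_or_eq_one.1 (Nat.lt_succ_iff.1 h) with h' | h'
    · exact hcon.1 ((hin ⟨χ, hχ⟩).trans (by rw [h', Nat.cast_zero]))
    · exact hcon.2 ((hin ⟨χ, hχ⟩).trans (by rw [h', Nat.cast_one]))
  have hmem : (⟨χ, hχ⟩ : Cfsg.IrrCharacter G) ∈ Finset.univ.erase χ₀ :=
    Finset.mem_erase.2 ⟨fun h => by rw [h, h0] at hm; omega, Finset.mem_univ _⟩
  obtain ⟨d, hd⟩ := exists_nat_degree_irr hχ
  refine absurd ((part1 d ?_).1 χ hχ) (by push Not; exact hcon)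
  intro ψ hψ hψ1 hψne
  by_cases hψχ : ψ = χ
  · rw [hψχ]
    exact hd.2
  exfalso
  have hmemψ : (⟨ψ, hψ⟩ : Cfsg.IrrCharacter G) ∈ Finset.univ.erase χ₀ :=
    Finset.mem_erase.2 ⟨fun h => hψ1 (congrArg Subtype.val h), Finset.mem_univ _⟩
  have hpair : (({⟨χ, hχ⟩, ⟨ψ, hψ⟩} : Finset (Cfsg.IrrCharacter G)).sum fun x => m x * m x)
      ≤ ∑ x ∈ Finset.univ.erase χ₀, m x * m x :=
    Finset.sum_le_sum_of_subset (by
      intro x hx
      rcases Finset.mem_insert.1 hx with rfl | hx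
      · exact hmem
      · rw [Finset.mem_singleton.1 hx]; exact hmemψ)
  rw [Finset.sum_pair (fun h => hψχ (congrArg Subtype.val h).symm)] at hpair
  have hmψ : m ⟨ψ, hψ⟩ ≠ 0 := fun h => hψne ((hin ⟨ψ, hψ⟩).trans (by rw [h, Nat.cast_zero]))
  nlinarith [Nat.pos_of_ne_zero hmψ]

end Cfsg.Agent.S0716
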