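import Cfsg.Statements.S0717
import Cfsg.Agent.Lib.Perm.MultFree
import Cfsg.Agent.Lib.Perm.PermChar
import Cfsg.Agent.Lib.Char.Central

set_option autoImplicit false
open Cfsg

namespace Cfsg.Agent.S0717

open Module Representation CfsgLib.Char

universe u

section

variable {G : Type*} [Group G] [Fintype G]

theorem exists_injective {V W : Type*} [AddCommGroup V] [Module ℂ V] [FiniteDimensional ℂ V]
    [AddCommGroup W] [Module ℂ W] [FiniteDimensional ℂ W] (σ : Representation ℂ G V) [hσ : σ.IsIrreducible]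
    (ρ : Representation ℂ G W) (h : Cfsg.classInner ρ.character σ.character ≠ 0) :
    ∃ ι : V →ₗ[ℂ] W, (∀ g v, ι (σ g v) = ρ g (ι v)) ∧ Function.Injective ι := by
  rw [classInner_character_eq_finrank] at h
  obtain ⟨ι, hι⟩ : ∃ ι : IntertwiningMap σ ρ, ι ≠ 0 := by
    by_contra hc
    push Not at hc
    have : Subsingleton (IntertwiningMap σ ρ) := ⟨fun a b => (hc a).trans (hc b).symm⟩
    exact h (by rw [Module.finrank_zero_of_subsingleton, Nat.cast_zero])
  have hιeq : ∀ g v, ι.toLinearMap (σ g v) = ρ g (ι.toLinearMap v) := fun g v =>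
    LinearMap.congr_fun (ι.isIntertwining' g) v
  refine ⟨ι.toLinearMap, hιeq, LinearMap.ker_eq_bot.1 ?_⟩
  let K : Subrepresentation σ := ⟨LinearMap.ker ι.toLinearMap, fun g v hv => by
    rw [LinearMap.mem_ker] at hv ⊢
    rw [hιeq, hv, map_zero]⟩
  rcases hσ.eq_bot_or_eq_top K with h1 | h1
  · exact congrArg Subrepresentation.toSubmodule h1
  · exact absurd (IntertwiningMap.ext (LinearMap.ker_eq_top.1 (congrArg Subrepresentation.toSubmodule h1))) hι

theorem isIrrCharacter_conj_of {n : ℕ} (σ : Representation ℂ G (Fin n → ℂ)) [hσ : σ.IsIrreducible] :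
    Cfsg.IsIrrCharacter G (fun g => (starRingEnd ℂ) (σ.character g)) := by
  obtain ⟨m, hm⟩ := exists_multiplicities (isCharacter_conj (⟨n, σ, rfl⟩ : Cfsg.IsCharacter G σ.character))
  have h1 : Cfsg.classInner (fun g => (starRingEnd ℂ) (σ.character g)) (fun g => (starRingEnd ℂ) (σ.character g)) = 1 := by
    have h2 := classInner_irr_self (φ := σ.character) ⟨n, σ, hσ, rfl⟩
    have h3 : (starRingEnd ℂ) (Cfsg.classInner σ.character σ.character) = 1 := by rw [h2, map_one]
    unfold Cfsg.classInner at h3 ⊢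
    simpa [map_mul, map_sum] using h3
  rw [hm, classInner_sum_smul_sum_smul] at h1
  simp only [Complex.conj_natCast] at h1
  norm_cast at h1
  obtain ⟨ψ, hψ⟩ : ∃ ψ, m ψ ≠ 0 := by
    by_contra hc
    push Not at hc
    simp [hc] at h1
  rw [hm, Finset.sum_eq_single ψ]
  · have hle : m ψ * m ψ ≤ 1 := h1 ▸ Finset.single_le_sum (f := fun x => m x * m x) (fun _ _ => Nat.zero_le _) (Finset.mem_univ ψ)
    have : m ψ = 1 := by nlinarith [Nat.pos_of_ne_zero hψ]
    rw [this, Nat.cast_one, one_smul]
    exact ψ.2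
  · intro φ _ hne
    have hle : m φ * m φ + m ψ * m ψ ≤ 1 := h1 ▸ (by
      classical
      rw [← Finset.sum_pair (f := fun x => m x * m x) hne]
      exact Finset.sum_le_sum_of_subset (Finset.subset_univ _))
    have : m φ = 0 := by nlinarith [Nat.pos_of_ne_zero hψ]
    rw [this, Nat.cast_zero, zero_smul]
  · exact fun h => absurd (Finset.mem_univ ψ) h

theorem twistedSum_natural {V W : Type*} [AddCommGroup V] [Module ℂ V] [AddCommGroup W] [Module ℂ W]
    {σ : Representation ℂ G V} {ρ : Representation ℂ G W} {ι : V →ₗ[ℂ] W}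
    (hι : ∀ g v, ι (σ g v) = ρ g (ι v)) {f : G → ℂ} {v : V} :
    twistedSum ρ f (ι v) = ι (twistedSum σ f v) := by
  simp [twistedSum, hι, map_sum]

theorem twistedSum_smul {V : Type*} [AddCommGroup V] [Module ℂ V] (ρ : Representation ℂ G V)
    (a : ℂ) (f : G → ℂ) : twistedSum ρ (a • f) = a • twistedSum ρ f := by
  simp [twistedSum, Finset.smul_sum, smul_smul]

theorem twistedSum_add {V : Type*} [AddCommGroup V] [Module ℂ V] (ρ : Representation ℂ G V)
    (f f' : G → ℂ) : twistedSum ρ (f + f') = twistedSum ρ f + twistedSum ρ f' := by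
  simp [twistedSum, add_smul, Finset.sum_add_distrib]

theorem isClassFunction_combination (c : Cfsg.IrrCharacter G → ℂ) :
    Cfsg.IsClassFunction G (∑ ψ : Cfsg.IrrCharacter G, c ψ • (ψ : G → ℂ)) := by
  intro g h
  simp only [Finset.sum_apply, Pi.smul_apply]
  exact Finset.sum_congr rfl fun ψ _ => by
    rw [isClassFunction_of_isCharacter (isCharacter_of_isIrr ψ.2) g h]

theorem twistedSum_irreducible {V : Type*} [AddCommGroup V] [Module ℂ V] [FiniteDimensional ℂ V]
    (ρ : Representation ℂ G V) [hρ : ρ.IsIrreducible] {f : G → ℂ} (hf : Cfsg.IsClassFunction G f) :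
    ∃ c : ℂ, twistedSum ρ f = c • LinearMap.id ∧
      c * (Module.finrank ℂ V : ℂ) = (Nat.card G : ℂ) * Cfsg.classInner f ρ.character := by
  let T : IntertwiningMap ρ ρ := ⟨twistedSum ρ f, fun g => twistedSum_comm ρ hf g⟩
  obtain ⟨c, hc⟩ := (IsIrreducible.algebraMap_intertwiningMap_bijective_of_isAlgClosed (ρ := ρ)).2 T
  have hT : twistedSum ρ f = c • LinearMap.id := by
    rw [show twistedSum ρ f = T.toLinearMap from rfl, ← hc, Algebra.algebraMap_eq_smul_one]
    rfl
  refine ⟨c, hT, ?_⟩
  have := trace_twistedSum ρ f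
  rw [hT, map_smul, LinearMap.trace_id, smul_eq_mul] at this
  exact this

theorem twistedSum_eq_zero_of {V : Type u} [AddCommGroup V] [Module ℂ V] [FiniteDimensional ℂ V]
    (ρ : Representation ℂ G V) {f : G → ℂ} (hf : Cfsg.IsClassFunction G f)
    (horth : ∀ χ : Cfsg.IrrCharacter G, Cfsg.classInner ρ.character (χ : G → ℂ) ≠ 0 →
      Cfsg.classInner f (χ : G → ℂ) = 0) : twistedSum ρ f = 0 := by
  revert horth
  refine rep_induction (G := G) (fun {V} _ _ ρ => ∀ [FiniteDimensional ℂ V],
    (∀ χ : Cfsg.IrrCharacter G, Cfsg.classInner ρ.character (χ : G → ℂ) ≠ 0 →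
      Cfsg.classInner f (χ : G → ℂ) = 0) → twistedSum ρ f = 0) ?_ ?_ ?_ ρ
  · intro V _ _ _ ρ _ _
    exact LinearMap.ext fun v => Subsingleton.elim _ _
  · intro V _ _ _ ρ hρ _ h
    obtain ⟨c, hc, hcd⟩ := twistedSum_irreducible ρ hf
    have h0 := h (irrOf ρ) (by
      show Cfsg.classInner ρ.character ρ.character ≠ 0
      rw [classInner_irr_self (isIrrCharacter_character ρ)]; exact one_ne_zero)
    rw [show Cfsg.classInner f ρ.character = 0 from h0, mul_zero] at hcd
    have : c = 0 := (mul_eq_zero.1 hcd).resolve_right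
      (Nat.cast_ne_zero.2 (finrank_pos_of_irreducible ρ).ne')
    rw [hc, this, zero_smul]
  · intro V _ _ _ ρ A B hAB hA hB _ h
    have hchar : ρ.character = A.toRepresentation.character + B.toRepresentation.character :=
      char_eq_add_of_isCompl ρ A B hAB
    have hpos : ∀ χ : Cfsg.IrrCharacter G, ∃ a b : ℕ,
        Cfsg.classInner (Representation.character (V := A.toSubmodule) A.toRepresentation) (χ : G → ℂ) = a ∧
        Cfsg.classInner (Representation.character (V := B.toSubmodule) B.toRepresentation) (χ : G → ℂ) = b ∧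
        (a + b ≠ 0 → Cfsg.classInner ρ.character (χ : G → ℂ) ≠ 0) := by
      intro χ
      obtain ⟨a, ha⟩ := exists_nat_classInner (isCharacter_character (V := A.toSubmodule) A.toRepresentation) (isCharacter_of_isIrr χ.2)
      obtain ⟨b, hb⟩ := exists_nat_classInner (isCharacter_character (V := B.toSubmodule) B.toRepresentation) (isCharacter_of_isIrr χ.2)
      refine ⟨a, b, ha, hb, fun hab => ?_⟩
      rw [hchar, classInner_add_left, ha, hb]
      exact_mod_cast hab
    have hA' := hA fun χ hχ => by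
      obtain ⟨a, b, ha, hb, hab⟩ := hpos χ
      exact h χ (hab (fun h0 => hχ (by rw [ha]; exact_mod_cast (by omega : a = 0))))
    have hB' := hB fun χ hχ => by
      obtain ⟨a, b, ha, hb, hab⟩ := hpos χ
      exact h χ (hab (fun h0 => hχ (by rw [hb]; exact_mod_cast (by omega : b = 0))))
    refine LinearMap.ext fun v => ?_
    have hv : v ∈ (A ⊔ B).toSubmodule := by rw [hAB.sup_eq_top]; trivial
    rw [Subrepresentation.toSubmodule_sup, Submodule.mem_sup] at hv
    obtain ⟨a, ha, b, hb, rfl⟩ := hv
    rw [map_add,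
      show twistedSum ρ f a = A.toSubmodule.subtype (twistedSum A.toRepresentation f ⟨a, ha⟩) from
        twistedSum_natural (σ := A.toRepresentation) (ι := A.toSubmodule.subtype) (fun g v => rfl) (v := ⟨a, ha⟩),
      show twistedSum ρ f b = B.toSubmodule.subtype (twistedSum B.toRepresentation f ⟨b, hb⟩) from
        twistedSum_natural (σ := B.toRepresentation) (ι := B.toSubmodule.subtype) (fun g v => rfl) (v := ⟨b, hb⟩),
      hA', hB']
    simp

theorem exists_coeff {V : Type u} [AddCommGroup V] [Module ℂ V] [FiniteDimensional ℂ V]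
    (ρ : Representation ℂ G V) (hmf : Cfsg.Agent.Lib.Perm.MultFree ρ) (S : V →ₗ[ℂ] V)
    (hS : ∀ g v, S (ρ g v) = ρ g (S v)) : ∃ c : Cfsg.IrrCharacter G → ℂ,
      (∀ ψ : Cfsg.IrrCharacter G, Cfsg.classInner ρ.character (ψ : G → ℂ) = 0 → c ψ = 0) ∧
      S = twistedSum ρ (∑ ψ : Cfsg.IrrCharacter G, c ψ • (ψ : G → ℂ)) := by
  revert hmf S
  refine rep_induction (G := G) (fun {V} _ _ ρ => ∀ [FiniteDimensional ℂ V],
    Cfsg.Agent.Lib.Perm.MultFree ρ → ∀ (S : V →ₗ[ℂ] V), (∀ g v, S (ρ g v) = ρ g (S v)) →
    ∃ c : Cfsg.IrrCharacter G → ℂ,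
      (∀ ψ : Cfsg.IrrCharacter G, Cfsg.classInner ρ.character (ψ : G → ℂ) = 0 → c ψ = 0) ∧
      S = twistedSum ρ (∑ ψ : Cfsg.IrrCharacter G, c ψ • (ψ : G → ℂ))) ?_ ?_ ?_ ρ
  · intro V _ _ _ ρ _ _ S _
    exact ⟨0, fun _ _ => rfl, LinearMap.ext fun v => Subsingleton.elim _ _⟩
  · intro V _ _ _ ρ hρ _ _ S hS
    classical
    obtain ⟨s, hs⟩ := (IsIrreducible.algebraMap_intertwiningMap_bijective_of_isAlgClosed (ρ := ρ)).2
      ⟨S, fun g => LinearMap.ext fun v => hS g v⟩
    have hS' : S = s • LinearMap.id := by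
      have := congrArg IntertwiningMap.toLinearMap hs
      rw [Algebra.algebraMap_eq_smul_one] at this
      exact this.symm
    have hn : ((Nat.card G : ℂ) / (Module.finrank ℂ V : ℂ)) ≠ 0 :=
      div_ne_zero (Nat.cast_ne_zero.2 Nat.card_pos.ne') (Nat.cast_ne_zero.2 (finrank_pos_of_irreducible ρ).ne')
    refine ⟨fun ψ => if ψ = irrOf ρ then s / ((Nat.card G : ℂ) / (Module.finrank ℂ V : ℂ)) else 0, ?_, ?_⟩
    · intro ψ h0
      dsimp only
      rw [if_neg]
      rintro rfl
      rw [show ((irrOf ρ : Cfsg.IrrCharacter G) : G → ℂ) = ρ.character from rfl,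
        classInner_irr_self (isIrrCharacter_character ρ)] at h0
      exact one_ne_zero h0
    · obtain ⟨c, hc, hcd⟩ := twistedSum_irreducible ρ (isClassFunction_character ρ)
      rw [classInner_irr_self (isIrrCharacter_character ρ), mul_one] at hcd
      simp only [ite_smul, zero_smul, Finset.sum_ite_eq', Finset.mem_univ, if_true]
      rw [twistedSum_smul, show ((irrOf ρ : Cfsg.IrrCharacter G) : G → ℂ) = ρ.character from rfl, hc,
        hS', smul_smul]
      congr 1
      have hd : (Module.finrank ℂ V : ℂ) ≠ 0 := Nat.cast_ne_zero.2 (finrank_pos_of_irreducible ρ).ne'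
      have hc0 : c ≠ 0 := by
        intro hc0
        rw [hc0, zero_mul] at hcd
        exact (Nat.cast_ne_zero (R := ℂ)).2 Nat.card_pos.ne' hcd.symm
      rw [← hcd]
      field_simp
  · intro V _ _ _ ρ A B hAB hA hB _ hmf S hS
    have hsplit : ρ.character = A.toRepresentation.character + B.toRepresentation.character :=
      char_eq_add_of_isCompl ρ A B hAB
    obtain ⟨a, ha⟩ := exists_multiplicities (isCharacter_character (V := A.toSubmodule) A.toRepresentation)
    obtain ⟨b, hb⟩ := exists_multiplicities (isCharacter_character (V := B.toSubmodule) B.toRepresentation)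
    have hab : ∀ ψ : Cfsg.IrrCharacter G, a ψ + b ψ ≤ 1 := by
      intro ψ
      have := hmf ψ ψ.2
      rw [hsplit, classInner_add_left, ha, hb, classInner_sum_smul_irr, classInner_sum_smul_irr] at this
      norm_cast at this
      omega
    have hcomm := Cfsg.Agent.Lib.Perm.commEnd_of_multFree ρ hmf
    have hc : IsCompl A.toSubmodule B.toSubmodule := by
      constructor
      · rw [disjoint_iff, ← Subrepresentation.toSubmodule_inf, hAB.inf_eq_bot]
        rfl
      · rw [codisjoint_iff, ← Subrepresentation.toSubmodule_sup, hAB.sup_eq_top]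
        rfl
    have hinv : ∀ (C D : Subrepresentation ρ) (hCD : IsCompl C.toSubmodule D.toSubmodule),
        ∀ x ∈ C.toSubmodule, S x ∈ C.toSubmodule := by
      intro C D hCD x hx
      let P : V →ₗ[ℂ] V := C.toSubmodule.subtype ∘ₗ C.toSubmodule.projectionOnto D.toSubmodule hCD
      have hP : ∀ g v, P (ρ g v) = ρ g (P v) := by
        intro g v
        obtain ⟨y, hy, z, hz, rfl⟩ := Submodule.mem_sup.1
          (show v ∈ C.toSubmodule ⊔ D.toSubmodule by rw [hCD.sup_eq_top]; trivial)
        have e1 : ∀ y ∈ C.toSubmodule, P y = y := fun y hy => by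
          show ((C.toSubmodule.projectionOnto D.toSubmodule hCD y : C.toSubmodule) : V) = y
          rw [Submodule.projectionOnto_apply_left hCD ⟨y, hy⟩]
        have e2 : ∀ z ∈ D.toSubmodule, P z = 0 := fun z hz => by
          show ((C.toSubmodule.projectionOnto D.toSubmodule hCD z : C.toSubmodule) : V) = 0
          rw [(Submodule.projectionOnto_apply_eq_zero_iff hCD).2 hz]
          rfl
        rw [map_add, map_add, map_add, e1 y hy, e1 _ (C.apply_mem_toSubmodule g hy), e2 z hz,
          e2 _ (D.apply_mem_toSubmodule g hz), add_zero, add_zero]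
      have := hcomm S P hS hP x
      rw [show P x = x from by
        show ((C.toSubmodule.projectionOnto D.toSubmodule hCD x : C.toSubmodule) : V) = x
        rw [Submodule.projectionOnto_apply_left hCD ⟨x, hx⟩]] at this
      rw [this]
      exact Subtype.property _
    obtain ⟨cA, hcA0, hcA⟩ := hA (fun χ hχ => by
        have h1 := hab ⟨χ, hχ⟩
        rw [ha, show χ = ((⟨χ, hχ⟩ : Cfsg.IrrCharacter G) : G → ℂ) from rfl, classInner_sum_smul_irr]
        norm_cast
        omega) (S.restrict (hinv A B hc)) (fun g w => Subtype.ext (hS g w.1))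
    obtain ⟨cB, hcB0, hcB⟩ := hB (fun χ hχ => by
        have h1 := hab ⟨χ, hχ⟩
        rw [hb, show χ = ((⟨χ, hχ⟩ : Cfsg.IrrCharacter G) : G → ℂ) from rfl, classInner_sum_smul_irr]
        norm_cast
        omega) (S.restrict (hinv B A hc.symm)) (fun g w => Subtype.ext (hS g w.1))
    have hA0 : ∀ ψ, a ψ = 0 → cA ψ = 0 := fun ψ h0 => hcA0 ψ (by
      rw [ha, classInner_sum_smul_irr, h0, Nat.cast_zero])
    have hB0 : ∀ ψ, b ψ = 0 → cB ψ = 0 := fun ψ h0 => hcB0 ψ (by
      rw [hb, classInner_sum_smul_irr, h0, Nat.cast_zero])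
    refine ⟨cA + cB, fun ψ h0 => ?_, ?_⟩
    · rw [hsplit, classInner_add_left, ha, hb, classInner_sum_smul_irr, classInner_sum_smul_irr] at h0
      norm_cast at h0
      rw [Pi.add_apply, hA0 ψ (by omega), hB0 ψ (by omega), add_zero]
    · refine LinearMap.ext fun v => ?_
      obtain ⟨x, hx, y, hy, rfl⟩ := Submodule.mem_sup.1
        (show v ∈ A.toSubmodule ⊔ B.toSubmodule by rw [hc.sup_eq_top]; trivial)
      simp only [Pi.add_apply, add_smul, Finset.sum_add_distrib, twistedSum_add, map_add]
      have zA : twistedSum (V := A.toSubmodule) A.toRepresentation (∑ ψ : Cfsg.IrrCharacter G, cB ψ • (ψ : G → ℂ)) = 0 := by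
        refine twistedSum_eq_zero_of (V := A.toSubmodule) A.toRepresentation (isClassFunction_combination cB) fun χ hχ => ?_
        rw [ha, classInner_sum_smul_irr] at hχ
        rw [classInner_sum_smul_irr]
        refine hB0 χ ?_
        have := hab χ
        have : a χ ≠ 0 := fun h0 => hχ (by rw [h0, Nat.cast_zero])
        omega
      have zB : twistedSum (V := B.toSubmodule) B.toRepresentation (∑ ψ : Cfsg.IrrCharacter G, cA ψ • (ψ : G → ℂ)) = 0 := by
        refine twistedSum_eq_zero_of (V := B.toSubmodule) B.toRepresentation (isClassFunction_combination cA) fun χ hχ => ?_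
        rw [hb, classInner_sum_smul_irr] at hχ
        rw [classInner_sum_smul_irr]
        refine hA0 χ ?_
        have := hab χ
        have : b χ ≠ 0 := fun h0 => hχ (by rw [h0, Nat.cast_zero])
        omega
      simp only [LinearMap.add_apply]
      have eA : ∀ f : G → ℂ, twistedSum ρ f x = A.toSubmodule.subtype (twistedSum A.toRepresentation f ⟨x, hx⟩) :=
        fun f => twistedSum_natural (ρ := ρ) (σ := A.toRepresentation) (ι := A.toSubmodule.subtype) (fun g v => rfl) (v := ⟨x, hx⟩)
      have eB : ∀ f : G → ℂ, twistedSum ρ f y = B.toSubmodule.subtype (twistedSum B.toRepresentation f ⟨y, hy⟩) :=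
        fun f => twistedSum_natural (ρ := ρ) (σ := B.toRepresentation) (ι := B.toSubmodule.subtype) (fun g v => rfl) (v := ⟨y, hy⟩)
      rw [eA, eA, eB, eB, zA, zB, ← hcA, ← hcB]
      simp

end

section

variable {G : Type*} [Group G] {Ω : Type*} [MulAction G Ω] [DecidableEq Ω]

theorem single_smul (g : G) (x : Ω) :
    Cfsg.permRep ℂ G Ω g (Pi.single x (1 : ℂ)) = Pi.single (g • x) 1 := by
  funext z
  show (Pi.single x (1 : ℂ) : Ω → ℂ) (g⁻¹ • z) = _
  simp [Pi.single_apply, inv_smul_eq_iff]

variable [Fintype G]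

/-- The matrix of a twisted sum on the permutation module. -/
noncomputable def mat (f : G → ℂ) : Matrix Ω Ω ℂ :=
  Matrix.of fun x y => ∑ g, if g • x = y then f g else 0

theorem toMatrix_twistedSum [Fintype Ω] (f : G → ℂ) :
    LinearMap.toMatrix' (twistedSum (Cfsg.permRep ℂ G Ω) f) = mat f := by
  ext x y
  simp only [LinearMap.toMatrix'_apply, twistedSum, LinearMap.sum_apply, LinearMap.smul_apply,
    Finset.sum_apply, Pi.smul_apply, smul_eq_mul, mat, Matrix.of_apply]
  refine Finset.sum_congr rfl fun g _ => ?_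
  show f g * (Pi.single y (1 : ℂ) : Ω → ℂ) ((g⁻¹)⁻¹ • x) = _
  simp [Pi.single_apply]

theorem transpose_mat (f : G → ℂ) : (mat (Ω := Ω) f).transpose = mat fun g => f g⁻¹ := by
  ext x y
  simp only [Matrix.transpose_apply, mat, Matrix.of_apply]
  refine Fintype.sum_equiv (Equiv.inv G) _ _ fun g => ?_
  simp only [Equiv.inv_apply, inv_inv]
  exact if_congr (by rw [inv_smul_eq_iff]; exact eq_comm) rfl rfl

end


/-- All suborbits of a transitive group are self-paired (every pair of points is interchanged by some group element) if and only if the permutation character is multiplicity-free and each of its irreducible constituents is real-valued. -/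
theorem result {G : Type*} [Group G] [Fintype G] {Ω : Type*} [Fintype Ω] [MulAction G Ω] [MulAction.IsPretransitive G Ω] : (∀ a b : Ω, ∃ g : G, g • a = b ∧ g • b = a) ↔ ∀ χ : G → ℂ, Cfsg.IsIrrCharacter G χ → Cfsg.classInner (fun g : G => (Nat.card (MulAction.fixedBy Ω g) : ℂ)) χ ≠ 0 → Cfsg.classInner (fun g : G => (Nat.card (MulAction.fixedBy Ω g) : ℂ)) χ = 1 ∧ ∀ g : G, (starRingEnd ℂ) (χ g) = χ g := by
  classical
  set π := Cfsg.permRep ℂ G Ω with hπ
  have hchar : π.character = fun g : G => (Nat.card (MulAction.fixedBy Ω g) : ℂ) :=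
    Cfsg.Agent.Lib.Perm.permRep_character
  constructor
  · intro hgen χ hχ hne
    have hsym : ∀ S : (Ω → ℂ) →ₗ[ℂ] (Ω → ℂ), (∀ g v, S (π g v) = π g (S v)) →
        (LinearMap.toMatrix' S).transpose = LinearMap.toMatrix' S := by
      intro S hS
      ext x y
      obtain ⟨g, hgx, hgy⟩ := hgen x y
      rw [Matrix.transpose_apply, LinearMap.toMatrix'_apply, LinearMap.toMatrix'_apply]
      have h1 := congrFun (hS g (Pi.single x 1)) x
      rw [show π g (Pi.single x 1) = Pi.single y 1 by
        rw [← hgx]; exact single_smul g x] at h1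
      show S (Pi.single x 1) y = S (Pi.single y 1) x
      rw [h1]
      show _ = S (Pi.single x 1) (g⁻¹ • x)
      rw [show g⁻¹ • x = y by rw [inv_smul_eq_iff, hgy]]
    refine ⟨?_, fun g => ?_⟩
    · have hmf := Cfsg.Agent.Lib.Perm.multFree_of_commEnd π (fun S T hS hT v => by
        have hST : ∀ g v, (S ∘ₗ T) (π g v) = π g ((S ∘ₗ T) v) := fun g v => by
          simp only [LinearMap.comp_apply, hT, hS]
        have h1 := hsym (S ∘ₗ T) hST
        rw [LinearMap.toMatrix'_comp, Matrix.transpose_mul, hsym S hS, hsym T hT,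
          ← LinearMap.toMatrix'_comp, ← LinearMap.toMatrix'_comp] at h1
        exact (LinearMap.congr_fun (LinearMap.toMatrix'.injective h1) v).symm)
      rw [← hchar] at hne ⊢
      exact (hmf χ hχ).resolve_left hne
    · have key : (fun g => (starRingEnd ℂ) (χ g)) = χ := by
        obtain ⟨n, σ, hσ, rfl⟩ := hχ
        rw [← hchar] at hne
        obtain ⟨ι, hι, hinj⟩ := exists_injective σ π hne
        have hcl := isClassFunction_character σ
        have hcl' : Cfsg.IsClassFunction G (fun g => (starRingEnd ℂ) (σ.character g)) :=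
          fun g h => congrArg (starRingEnd ℂ) (hcl g h)
        have hT := hsym (twistedSum π σ.character) (fun g v => LinearMap.congr_fun (twistedSum_comm π hcl g) v)
        rw [toMatrix_twistedSum] at hT
        have heq : twistedSum π σ.character = twistedSum π (fun g => (starRingEnd ℂ) (σ.character g)) := by
          apply LinearMap.toMatrix'.injective
          rw [toMatrix_twistedSum, toMatrix_twistedSum, ← hT, transpose_mat]
          congr 1
          funext g
          exact char_value_inv σ g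
        have hσeq : twistedSum σ σ.character = twistedSum σ (fun g => (starRingEnd ℂ) (σ.character g)) := by
          refine LinearMap.ext fun v => hinj ?_
          rw [← twistedSum_natural hι, ← twistedSum_natural hι, heq]
        have h1 := congrArg (LinearMap.trace ℂ _) hσeq
        rw [trace_twistedSum, trace_twistedSum] at h1
        have h2 := mul_left_cancel₀ (Nat.cast_ne_zero.2 Nat.card_pos.ne') h1
        rw [classInner_irr_self ⟨n, σ, hσ, rfl⟩] at h2
        by_contra hne'
        obtain ⟨m, ρ', hρ', hρc⟩ : Cfsg.IsIrrCharacter G (fun g => (starRingEnd ℂ) (σ.character g)) :=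
          isIrrCharacter_conj_of σ
        rw [classInner_irr_ne ⟨m, ρ', hρ', hρc⟩ ⟨n, σ, hσ, rfl⟩ hne'] at h2
        exact one_ne_zero h2
      exact congrFun key g
  · intro h a b
    rcases eq_or_ne a b with rfl | hab
    · exact ⟨1, one_smul _ _, one_smul _ _⟩
    have hmf : Cfsg.Agent.Lib.Perm.MultFree π := by
      intro χ hχ
      by_cases h0 : Cfsg.classInner π.character χ = 0
      · exact Or.inl h0
      · exact Or.inr (by rw [hchar] at h0 ⊢; exact (h χ hχ h0).1)
    let M : Matrix Ω Ω ℂ := Matrix.of fun x y => if ∃ g : G, g • a = x ∧ g • b = y then 1 else 0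
    have hM : ∀ g v, Matrix.toLin' M (π g v) = π g (Matrix.toLin' M v) := by
      intro g v
      funext x
      show _ = Matrix.toLin' M v (g⁻¹ • x)
      simp only [Matrix.toLin'_apply, Matrix.mulVec, dotProduct]
      refine Fintype.sum_equiv (MulAction.toPerm g⁻¹) _ _ fun y => ?_
      show M x y * v (g⁻¹ • y) = M (g⁻¹ • x) (g⁻¹ • y) * v (g⁻¹ • y)
      congr 1
      simp only [M, Matrix.of_apply]
      refine if_congr ⟨?_, ?_⟩ rfl rfl
      · rintro ⟨k, k1, k2⟩
        exact ⟨g⁻¹ * k, by rw [mul_smul, k1], by rw [mul_smul, k2]⟩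
      · rintro ⟨k, k1, k2⟩
        exact ⟨g * k, by rw [mul_smul, k1, smul_inv_smul], by rw [mul_smul, k2, smul_inv_smul]⟩
    obtain ⟨c, hc0, hc⟩ := exists_coeff π hmf (Matrix.toLin' M) hM
    have hMT : M.transpose = M := by
      have h1 : M = mat (∑ ψ : Cfsg.IrrCharacter G, c ψ • (ψ : G → ℂ)) := by
        rw [← toMatrix_twistedSum, ← hc, LinearMap.toMatrix'_toLin']
      rw [h1, transpose_mat]
      congr 1
      funext g
      simp only [Finset.sum_apply, Pi.smul_apply]
      refine Finset.sum_congr rfl fun ψ _ => ?_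
      by_cases h0 : Cfsg.classInner π.character (ψ : G → ℂ) = 0
      · rw [hc0 ψ h0, zero_smul, zero_smul]
      · obtain ⟨n, σ, hσ, hσc⟩ := ψ.2
        congr 1
        rw [← hσc, char_value_inv σ g, hσc]
        exact (h ψ ψ.2 (by rw [← hchar]; exact h0)).2 g
    have h1 : M b a = M a b := congrFun (congrFun hMT a) b
    simp only [M, Matrix.of_apply] at h1
    rw [if_pos (⟨1, one_smul _ _, one_smul _ _⟩ : ∃ g : G, g • a = a ∧ g • b = b)] at h1
    by_contra hcon
    rw [if_neg (fun ⟨g, g1, g2⟩ => hcon ⟨g, g1, g2⟩)] at h1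
    exact one_ne_zero h1.symm

end Cfsg.Agent.S0717
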