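import Cfsg.Statements.S0719
import Cfsg.Agent.Lib.Perm.EigenChar
import Cfsg.Agent.Lib.Perm.PermRank
import Cfsg.Agent.S0715
import Cfsg.Agent.S0717

set_option autoImplicit false
open Cfsg

namespace Cfsg.Agent.S0719

open CfsgLib.Char

variable (G : Type*) [Group G] [Fintype G] {Ω : Type*} [Fintype Ω] [MulAction G Ω]

omit [Fintype G] in
theorem exists_ne_of_card {m : ℕ} (hm2 : 2 ≤ m) (hm : Fintype.card Ω = 2 * m) (a : Ω) : ∃ b, b ≠ a :=
  haveI : Nontrivial Ω := Fintype.one_lt_card_iff_nontrivial.1 (by omega)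
  exists_ne a

omit [Fintype G] in
theorem exists_third {a : Ω} (hrank : Nat.card (MulAction.orbitRel.Quotient (MulAction.stabilizer G a) Ω) = 3)
    (a' b : Ω) (hb : b ≠ a') (h : a' = a := by rfl) :
    ∃ c, c ≠ a' ∧ c ∉ MulAction.orbit (MulAction.stabilizer G a') b := by
  subst h
  by_contra hc
  push Not at hc
  have : Nat.card (MulAction.orbitRel.Quotient (MulAction.stabilizer G a') Ω) ≤ Nat.card Bool :=
    Nat.card_le_card_of_surjective (fun t : Bool => if t then Quotient.mk'' a' else Quotient.mk'' b) fun q => by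
      induction q using Quotient.inductionOn' with
      | h x =>
        by_cases hx : x = a'
        · exact ⟨true, by simp [hx]⟩
        · obtain ⟨g, hg⟩ := hc x hx
          exact ⟨false, (Quotient.eq''.2 ⟨g⁻¹, by
            show g⁻¹ • x = b
            rw [← hg, inv_smul_smul]⟩)⟩
  rw [hrank, Nat.card_eq_fintype_card, Fintype.card_bool] at this
  omega

omit [Fintype G] [Fintype Ω] in
theorem not_orbit {a b : Ω} (hb : b ≠ a) : b ∉ MulAction.orbit (MulAction.stabilizer G a) a := by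
  rintro ⟨g, rfl⟩
  exact hb g.2

omit [Fintype G] in
theorem cover {a : Ω} (hrank : Nat.card (MulAction.orbitRel.Quotient (MulAction.stabilizer G a) Ω) = 3)
    {b c : Ω} (hb : b ≠ a) (hc : c ≠ a) (hcb : c ∉ MulAction.orbit (MulAction.stabilizer G a) b) (y : Ω) :
    y = a ∨ y ∈ MulAction.orbit (MulAction.stabilizer G a) b ∨
      y ∈ MulAction.orbit (MulAction.stabilizer G a) c := by
  by_contra hcon
  push Not at hcon
  let f : Fin 4 → MulAction.orbitRel.Quotient (MulAction.stabilizer G a) Ω :=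
    ![Quotient.mk'' a, Quotient.mk'' b, Quotient.mk'' c, Quotient.mk'' y]
  have hinj : Function.Injective f := by
    have hb' := not_orbit G hb
    have hc' := not_orbit G hc
    have hy' := not_orbit G hcon.1
    intro i j hij
    fin_cases i <;> fin_cases j <;> simp [f, Quotient.eq'', MulAction.orbitRel_apply] at hij <;>
      first
        | rfl
        | exact absurd hij hb'
        | exact absurd (MulAction.mem_orbit_symm.1 hij) hb'
        | exact absurd hij hc'
        | exact absurd (MulAction.mem_orbit_symm.1 hij) hc'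
        | exact absurd hij hy'
        | exact absurd (MulAction.mem_orbit_symm.1 hij) hy'
        | exact absurd hij hcb
        | exact absurd (MulAction.mem_orbit_symm.1 hij) hcb
        | exact absurd hij hcon.2.1
        | exact absurd (MulAction.mem_orbit_symm.1 hij) hcon.2.1
        | exact absurd hij hcon.2.2
        | exact absurd (MulAction.mem_orbit_symm.1 hij) hcon.2.2
  have := Nat.card_le_card_of_injective f hinj
  rw [hrank, Nat.card_eq_fintype_card, Fintype.card_fin] at this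
  omega

theorem fixed_false (hprim : MulAction.IsPreprimitive G Ω) {m : ℕ} (hm2 : 2 ≤ m) (hm : Fintype.card Ω = 2 * m)
    {a : Ω} (hrank : Nat.card (MulAction.orbitRel.Quotient (MulAction.stabilizer G a) Ω) = 3)
    {b : Ω} (hb : b ≠ a) (hfix : MulAction.stabilizer G a ≤ MulAction.stabilizer G b) : False := by
  haveI := hprim
  have heq : MulAction.stabilizer G a = MulAction.stabilizer G b := by
    apply Subgroup.eq_of_le_of_card_ge hfix
    obtain ⟨g, hg⟩ := MulAction.exists_smul_eq G a b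
    rw [Nat.card_congr (MulAction.stabilizerEquivStabilizer hg.symm).toEquiv]
  have hB : MulAction.IsBlock G {x : Ω | MulAction.stabilizer G x = MulAction.stabilizer G a} := by
    rw [MulAction.isBlock_iff_smul_eq_of_nonempty]
    rintro g ⟨z, ⟨w, hw, rfl⟩, hz⟩
    have hg : (MulAction.stabilizer G a).map (MulAut.conj g).toMonoidHom = MulAction.stabilizer G a := by
      conv_rhs => rw [← (show MulAction.stabilizer G (g • w) = MulAction.stabilizer G a from hz)]
      rw [← (show MulAction.stabilizer G w = MulAction.stabilizer G a from hw)]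
      exact (MulAction.stabilizer_smul_eq_stabilizer_map_conj g w).symm
    ext u
    constructor
    · rintro ⟨v, hv, rfl⟩
      show MulAction.stabilizer G (g • v) = _
      rw [MulAction.stabilizer_smul_eq_stabilizer_map_conj, (show MulAction.stabilizer G v = _ from hv)]
      exact hg
    · intro hu
      refine ⟨g⁻¹ • u, ?_, smul_inv_smul g u⟩
      apply Subgroup.map_injective (f := (MulAut.conj g).toMonoidHom) (MulAut.conj g).injective
      show (MulAction.stabilizer G (g⁻¹ • u)).map (MulAut.conj g).toMonoidHom = _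
      rw [← MulAction.stabilizer_smul_eq_stabilizer_map_conj, smul_inv_smul, (show MulAction.stabilizer G u = _ from hu)]
      exact hg.symm
  rcases hprim.isTrivialBlock_of_isBlock hB with h | h
  · exact hb (h heq.symm rfl)
  · have hinj : Function.Injective (Quotient.mk'' : Ω → MulAction.orbitRel.Quotient (MulAction.stabilizer G a) Ω) := by
      intro x y hxy
      obtain ⟨g, hg⟩ := Quotient.eq''.1 hxy
      have : (g : G) ∈ MulAction.stabilizer G y := by
        rw [(Set.eq_univ_iff_forall.1 h y : MulAction.stabilizer G y = _)]; exact g.2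
      exact hg.symm.trans this
    have h4 := Nat.card_le_card_of_injective _ hinj
    rw [hrank, Nat.card_eq_fintype_card, hm] at h4
    omega

set_option maxHeartbeats 2000000 in
open scoped Classical in
theorem main [MulAction.IsPretransitive G Ω] {m : ℕ} (hm2 : 2 ≤ m) (hm : Fintype.card Ω = 2 * m)
    (hgen : ∀ a b : Ω, ∃ g : G, g • a = b ∧ g • b = a) {a b c : Ω}
    (hcover : ∀ y : Ω, y = a ∨ y ∈ MulAction.orbit (MulAction.stabilizer G a) b ∨
      y ∈ MulAction.orbit (MulAction.stabilizer G a) c)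
    (hb : b ≠ a) (hc : c ≠ a) (hcb : c ∉ MulAction.orbit (MulAction.stabilizer G a) b)
    (π₀ : G → ℂ) (hchar : (Cfsg.permRep ℂ G Ω).character = π₀)
    (hmf : Cfsg.Agent.Lib.Perm.MultFree (Cfsg.permRep ℂ G Ω))
    (m' : Cfsg.IrrCharacter G → ℕ) (hin : ∀ χ : Cfsg.IrrCharacter G, Cfsg.classInner π₀ (χ : G → ℂ) = m' χ)
    (ψ₀ ψ₁ ψ₂ : Cfsg.IrrCharacter G) (h01 : ψ₀ ≠ ψ₁) (h02 : ψ₀ ≠ ψ₂) (h12 : ψ₁ ≠ ψ₂)
    (hm' : ∀ ψ : Cfsg.IrrCharacter G, m' ψ =
      (if ψ = ψ₀ then 1 else 0) + (if ψ = ψ₁ then 1 else 0) + (if ψ = ψ₂ then 1 else 0))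
    (hd₁ : (ψ₁ : G → ℂ) 1 = (m : ℂ) - 1) (hd₂ : (ψ₂ : G → ℂ) 1 = m) (h₀ : (ψ₀ : G → ℂ) = fun _ => 1)
    (huniv : ∀ y : Ω, y ≠ a → Nat.card (MulAction.orbit (MulAction.stabilizer G a) y) ≠ 1) :
    ∃ _ : ℤ, ∃ r : ℕ, 0 < r ∧ m = 2 * r ^ 2 + 2 * r + 1 ∧
      ((Nat.card (MulAction.orbit (MulAction.stabilizer G a) b) = r * (2 * r + 1) ∨
        Nat.card (MulAction.orbit (MulAction.stabilizer G a) b) = (r + 1) * (2 * r + 1)) ∧
       (Nat.card (MulAction.orbit (MulAction.stabilizer G a) c) = r * (2 * r + 1) ∨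
        Nat.card (MulAction.orbit (MulAction.stabilizer G a) c) = (r + 1) * (2 * r + 1))) := by
  haveI : Nonempty Ω := ⟨a⟩
  set π := Cfsg.permRep ℂ G Ω with hπ
  set k := Nat.card (MulAction.orbit (MulAction.stabilizer G a) b) with hk
  set l := Nat.card (MulAction.orbit (MulAction.stabilizer G a) c) with hl
  -- the adjacency matrix
  let A : Matrix Ω Ω ℤ := Cfsg.Agent.S0715.adj G a b
  have hAinv : ∀ (g : G) x y, A (g • x) (g • y) = A x y := fun g x y => Cfsg.Agent.S0715.adj_smul G a b x y g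
  have hAsymm : ∀ x y, A x y = A y x := by
    intro x y
    obtain ⟨g, g1, g2⟩ := hgen x y
    rw [← hAinv g x y, g1, g2]
  have hAaa : ∀ x, A x x = 0 := Cfsg.Agent.S0715.adj_self G hb
  have hAab : A a b = 1 := by
    show Cfsg.Agent.S0715.adj G a b a b = 1
    unfold Cfsg.Agent.S0715.adj
    exact if_pos ⟨1, one_smul _ _, one_smul _ _⟩
  have hAac : A a c = 0 := by
    show Cfsg.Agent.S0715.adj G a b a c = 0
    unfold Cfsg.Agent.S0715.adj
    exact if_neg fun ⟨g, g1, g2⟩ => hcb ⟨⟨g, g1⟩, g2⟩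
  have hrow : ∀ x, ∑ y, A x y = (k : ℤ) := fun x => Cfsg.Agent.S0715.row_sum G a b x
  have hA01 : ∀ x y, A x y * A x y = A x y := by
    intro x y
    show Cfsg.Agent.S0715.adj G a b x y * Cfsg.Agent.S0715.adj G a b x y = Cfsg.Agent.S0715.adj G a b x y
    unfold Cfsg.Agent.S0715.adj
    simp only [Matrix.of_apply]
    split_ifs <;> norm_num
  -- the square of the adjacency matrix
  have hdecomp : ∀ x y, (A * A) x y = (A * A) a c * 1 + ((A * A) a a - (A * A) a c) * (if x = y then 1 else 0)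
      + ((A * A) a b - (A * A) a c) * A x y := by
    have hinv2 : ∀ (g : G) x y, (A * A) (g • x) (g • y) = (A * A) x y := by
      intro g x y
      simp only [Matrix.mul_apply]
      refine (Fintype.sum_equiv (MulAction.toPerm g) _ _ fun z => ?_).symm
      show A x z * A z y = A (g • x) (g • z) * A (g • z) (g • y)
      rw [hAinv, hAinv]
    intro x y
    obtain ⟨g, rfl⟩ := MulAction.exists_smul_eq G a x
    obtain ⟨z, rfl⟩ : ∃ z, g • z = y := ⟨g⁻¹ • y, smul_inv_smul g y⟩
    simp only [hinv2, hAinv, smul_left_cancel_iff]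
    rcases hcover z with rfl | ⟨h, rfl⟩ | ⟨h, rfl⟩
    · simp [hAaa]
    · have e1 : (A * A) a (h • b) = (A * A) a b := by
        have h2 := hinv2 (h : G) a b
        rw [show (h : G) • a = a from h.2] at h2
        exact h2
      have e2 : A a (h • b) = A a b := by
        have h2 := hAinv (h : G) a b
        rw [show (h : G) • a = a from h.2] at h2
        exact h2
      have e3 : a ≠ h • b := fun e => hb (smul_left_cancel (h : G) ((e.symm).trans (show (h : G) • a = a from h.2).symm))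
      rw [show (fun m => m • b) h = h • b from rfl, e1, e2, hAab, if_neg e3]
      ring
    · have e1 : (A * A) a (h • c) = (A * A) a c := by
        have h2 := hinv2 (h : G) a c
        rw [show (h : G) • a = a from h.2] at h2
        exact h2
      have e2 : A a (h • c) = A a c := by
        have h2 := hAinv (h : G) a c
        rw [show (h : G) • a = a from h.2] at h2
        exact h2
      have e3 : a ≠ h • c := fun e => hc (smul_left_cancel (h : G) ((e.symm).trans (show (h : G) • a = a from h.2).symm))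
      rw [show (fun m => m • c) h = h • c from rfl, e1, e2, hAac, if_neg e3]
      ring
  set μ : ℤ := (A * A) a c
  set α' : ℤ := (A * A) a a - (A * A) a c
  set β : ℤ := (A * A) a b - (A * A) a c
  -- as a linear map
  let S : (Ω → ℂ) →ₗ[ℂ] (Ω → ℂ) := Matrix.toLin' (A.map (Int.cast : ℤ → ℂ))
  have hSapp : ∀ v x, S v x = ∑ y, ((A x y : ℤ) : ℂ) * v y := by
    intro v x
    show Matrix.toLin' _ v x = _
    rw [Matrix.toLin'_apply]
    rfl
  have hS : ∀ g v, S (π g v) = π g (S v) := by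
    intro g v
    funext x
    show _ = S v (g⁻¹ • x)
    rw [hSapp, hSapp]
    refine Fintype.sum_equiv (MulAction.toPerm g⁻¹) _ _ fun y => ?_
    show _ = ((A (g⁻¹ • x) (g⁻¹ • y) : ℤ) : ℂ) * v (g⁻¹ • y)
    rw [hAinv]
    rfl
  obtain ⟨e, he⟩ := Cfsg.Agent.Lib.Perm.exists_eigen π hmf S hS
  have hsum : ∀ (j : ℕ) (g : G), LinearMap.trace ℂ _ (π g ∘ₗ (S ^ j))
      = e ψ₀ ^ j * (ψ₀ : G → ℂ) g + e ψ₁ ^ j * (ψ₁ : G → ℂ) g + e ψ₂ ^ j * (ψ₂ : G → ℂ) g := by
    intro j g
    rw [he, hchar]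
    simp only [hin, hm', Nat.cast_add, Nat.cast_ite, Nat.cast_one, Nat.cast_zero, add_mul, ite_mul,
      one_mul, zero_mul, Finset.sum_add_distrib, Finset.sum_ite_eq', Finset.mem_univ, if_true]
  -- coefficients by orthogonality
  have hproj : ∀ (j : ℕ) (ψ : Cfsg.IrrCharacter G), Cfsg.classInner (fun g => LinearMap.trace ℂ _ (π g ∘ₗ (S ^ j))) (ψ : G → ℂ)
      = (if ψ = ψ₀ then e ψ₀ ^ j else 0) + (if ψ = ψ₁ then e ψ₁ ^ j else 0) + (if ψ = ψ₂ then e ψ₂ ^ j else 0) := by
    intro j ψ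
    rw [show (fun g => LinearMap.trace ℂ _ (π g ∘ₗ (S ^ j))) = e ψ₀ ^ j • (ψ₀ : G → ℂ) + e ψ₁ ^ j • (ψ₁ : G → ℂ) + e ψ₂ ^ j • (ψ₂ : G → ℂ) from
      funext fun g => hsum j g]
    simp only [classInner_add_left, classInner_smul_left, classInner_coe, mul_ite, mul_one, mul_zero, eq_comm (a := ψ)]
  let J : (Ω → ℂ) →ₗ[ℂ] (Ω → ℂ) := Matrix.toLin' (Matrix.of fun _ _ => (1 : ℂ))
  have hJapp : ∀ v x, J v x = ∑ y, v y := by
    intro v x
    show Matrix.toLin' _ v x = _
    rw [Matrix.toLin'_apply]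
    simp [Matrix.mulVec, dotProduct]
  have htrace : ∀ F : (Ω → ℂ) →ₗ[ℂ] (Ω → ℂ), LinearMap.trace ℂ _ F = ∑ x, F (Pi.single x 1) x := by
    intro F
    rw [LinearMap.trace_eq_matrix_trace ℂ (Pi.basisFun ℂ Ω), LinearMap.toMatrix_eq_toMatrix', Matrix.trace]
    simp [Matrix.diag, LinearMap.toMatrix'_apply]
  have hπJ : ∀ g, π g ∘ₗ J = J := fun g => LinearMap.ext fun v => funext fun x => by
    show J v (g⁻¹ • x) = J v x
    rw [hJapp, hJapp]
  -- the trivial component
  have he0 : e ψ₀ = k := by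
    have h1 := hproj 1 ψ₀
    rw [if_pos rfl, if_neg h01, if_neg h02, add_zero, add_zero, pow_one, pow_one, h₀] at h1
    rw [← h1]
    unfold Cfsg.classInner
    simp only [map_one, mul_one]
    have h2 : ∑ g : G, LinearMap.trace ℂ _ (π g ∘ₗ S) = LinearMap.trace ℂ _ ((∑ g : G, π g) ∘ₗ S) := by
      rw [← map_sum]
      congr 1
      exact LinearMap.ext fun v => by simp
    rw [h2, htrace]
    simp only [LinearMap.comp_apply, LinearMap.sum_apply, Finset.sum_apply]
    rw [Finset.sum_comm]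
    have h3 : ∀ g : G, ∑ x, π g (S (Pi.single x 1)) x = ∑ x, ((A (g⁻¹ • x) x : ℤ) : ℂ) := by
      intro g
      refine Finset.sum_congr rfl fun x _ => ?_
      show S (Pi.single x 1) (g⁻¹ • x) = _
      simp [hSapp, Pi.single_apply]
    simp only [h3]
    rw [Finset.sum_comm]
    have h4 : ∀ x : Ω, ∑ g : G, ((A (g⁻¹ • x) x : ℤ) : ℂ) = (Nat.card (MulAction.stabilizer G x) : ℂ) * k := by
      intro x
      rw [show (k : ℂ) = ((∑ y, A y x : ℤ) : ℂ) by rw [Finset.sum_congr rfl fun y _ => hAsymm y x, hrow]; norm_num,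
        Int.cast_sum, Finset.mul_sum, ← Finset.sum_fiberwise (Finset.univ : Finset G) (fun g => g⁻¹ • x)]
      refine Finset.sum_congr rfl fun y _ => ?_
      rw [Finset.sum_congr rfl fun g hg => by rw [(Finset.mem_filter.1 hg).2], Finset.sum_const, nsmul_eq_mul]
      congr 2
      obtain ⟨g₀, hg₀⟩ := MulAction.exists_smul_eq G x y
      rw [Nat.card_eq_fintype_card, Fintype.card_subtype]
      refine Finset.card_bij (fun g _ => g₀⁻¹ * g⁻¹) ?_ ?_ ?_
      · intro g hg
        simp only [Finset.mem_filter, Finset.mem_univ, true_and, MulAction.mem_stabilizer_iff] at hg ⊢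
        rw [mul_smul, hg, ← hg₀, inv_smul_smul]
      · intro g _ g' _ h
        simpa using h
      · intro h hh
        simp only [Finset.mem_filter, Finset.mem_univ, true_and, MulAction.mem_stabilizer_iff] at hh ⊢
        exact ⟨(g₀ * h)⁻¹, by simp [mul_smul, hh, hg₀], by simp⟩
    simp only [h4]
    have h5 : ∀ x : Ω, Nat.card (MulAction.stabilizer G x) * Fintype.card Ω = Nat.card G := by
      intro x
      rw [← Nat.card_eq_fintype_card, ← MulAction.index_stabilizer_of_transitive G x]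
      exact Subgroup.card_mul_index _
    have h6 : ∑ x : Ω, (Nat.card (MulAction.stabilizer G x) : ℂ) = Nat.card G := by
      have h7 : ∀ x : Ω, Nat.card (MulAction.stabilizer G x) = Nat.card (MulAction.stabilizer G a) := fun x =>
        Nat.eq_of_mul_eq_mul_right Fintype.card_pos ((h5 x).trans (h5 a).symm)
      simp only [h7, Finset.sum_const, Finset.card_univ, nsmul_eq_mul]
      rw [mul_comm]
      exact_mod_cast h5 a
    rw [← Finset.sum_mul, h6, inv_mul_cancel_left₀ (Nat.cast_ne_zero.2 Nat.card_pos.ne')]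
  -- quadratic relation
  have hSS : S ^ 2 = (α' : ℂ) • LinearMap.id + (β : ℂ) • S + (μ : ℂ) • J := by
    rw [sq]
    refine LinearMap.ext fun v => funext fun x => ?_
    show S (S v) x = _
    simp only [LinearMap.add_apply, LinearMap.smul_apply, LinearMap.id_apply, Pi.add_apply, Pi.smul_apply,
      smul_eq_mul, hSapp, hJapp, Finset.mul_sum]
    rw [Finset.sum_comm]
    rw [show (α' : ℂ) * v x = ∑ y, (α' : ℂ) * ((if x = y then 1 else 0) * v y) by simp,
      ← Finset.sum_add_distrib, ← Finset.sum_add_distrib]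
    refine Finset.sum_congr rfl fun y _ => ?_
    have hd : ∑ z, ((A x z : ℤ) : ℂ) * ((A z y : ℤ) : ℂ) = (((A * A) x y : ℤ) : ℂ) := by
      rw [Matrix.mul_apply]
      push_cast
      rfl
    rw [show ∑ z, ((A x z : ℤ) : ℂ) * (((A z y : ℤ) : ℂ) * v y) = (∑ z, ((A x z : ℤ) : ℂ) * ((A z y : ℤ) : ℂ)) * v y by
      rw [Finset.sum_mul]; simp only [mul_assoc], hd, hdecomp]
    push_cast
    ring
  have hquad : ∀ ψ, (ψ = ψ₁ ∨ ψ = ψ₂) → e ψ ^ 2 = (α' : ℂ) + (β : ℂ) * e ψ := by
    intro ψ hψ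
    have hf : (fun g => LinearMap.trace ℂ _ (π g ∘ₗ (S ^ 2))) = (α' : ℂ) • (fun g => LinearMap.trace ℂ _ (π g ∘ₗ (S ^ 0)))
        + (β : ℂ) • (fun g => LinearMap.trace ℂ _ (π g ∘ₗ (S ^ 1)))
        + ((μ : ℂ) * LinearMap.trace ℂ _ J) • (fun _ : G => (1 : ℂ)) := by
      funext g
      rw [hSS, LinearMap.comp_add, LinearMap.comp_add, map_add, map_add, LinearMap.comp_smul, LinearMap.comp_smul,
        LinearMap.comp_smul, map_smul, map_smul, map_smul, hπJ, pow_zero, pow_one, Module.End.one_eq_id]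
      simp [smul_eq_mul]
    have h1 := congrArg (fun f => Cfsg.classInner f (ψ : G → ℂ)) hf
    simp only [classInner_add_left, classInner_smul_left, hproj] at h1
    rw [← h₀, classInner_coe] at h1
    rcases hψ with rfl | rfl
    · simpa [h01, h01.symm, h12] using h1
    · simpa [h02, h02.symm, h12.symm] using h1
  have htr1 : (k : ℂ) + e ψ₁ * ((m : ℂ) - 1) + e ψ₂ * m = 0 := by
    have h1 := hsum 1 1
    rw [pow_one, pow_one, pow_one, pow_one, map_one, Module.End.one_eq_id, LinearMap.id_comp, htrace, he0,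
      hd₁, hd₂, h₀] at h1
    rw [Finset.sum_eq_zero (fun x _ => by simp [hSapp, Pi.single_apply, hAaa])] at h1
    simp only [mul_one] at h1
    exact h1.symm
  have htr2 : (k : ℂ) ^ 2 + e ψ₁ ^ 2 * ((m : ℂ) - 1) + e ψ₂ ^ 2 * m = 2 * m * k := by
    have h1 := hsum 2 1
    rw [map_one, Module.End.one_eq_id, LinearMap.id_comp, htrace, he0, hd₁, hd₂, h₀] at h1
    rw [Finset.sum_congr rfl (fun x _ => show (S ^ 2) (Pi.single x 1) x = (k : ℂ) by
      rw [sq]
      show S (S (Pi.single x 1)) x = _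
      simp only [hSapp, Pi.single_apply, mul_ite, mul_one, mul_zero, Finset.sum_ite_eq', Finset.mem_univ, if_true]
      rw [← Int.cast_natCast, ← hrow x, Int.cast_sum]
      refine Finset.sum_congr rfl fun y _ => ?_
      rw [hAsymm y x, ← Int.cast_mul, hA01]), Finset.sum_const, Finset.card_univ, hm, nsmul_eq_mul] at h1
    push_cast at h1
    simp only [mul_one] at h1
    exact h1.symm
  -- degrees of the orbits
  have hkl : 1 + k + l = 2 * m := by
    have hd1 : MulAction.orbit (MulAction.stabilizer G a) b ∩ MulAction.orbit (MulAction.stabilizer G a) c = ∅ := by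
      rw [Set.eq_empty_iff_forall_notMem]
      rintro y ⟨hy1, hy2⟩
      apply hcb
      rw [← MulAction.orbit_eq_iff.2 hy1, MulAction.orbit_eq_iff.2 hy2]
      exact MulAction.mem_orbit_self c
    have hU : (Set.univ : Set Ω) = insert a (MulAction.orbit (MulAction.stabilizer G a) b ∪ MulAction.orbit (MulAction.stabilizer G a) c) := by
      symm
      rw [Set.eq_univ_iff_forall]
      exact hcover
    have hnot : a ∉ MulAction.orbit (MulAction.stabilizer G a) b ∪ MulAction.orbit (MulAction.stabilizer G a) c := by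
      rintro (h | h)
      · exact not_orbit G hb (MulAction.mem_orbit_symm.1 h)
      · exact not_orbit G hc (MulAction.mem_orbit_symm.1 h)
    have h := congrArg Set.ncard hU
    rw [Set.ncard_univ, Nat.card_eq_fintype_card, hm, Set.ncard_insert_of_notMem hnot (Set.toFinite _),
      Set.ncard_union_eq (Set.disjoint_iff_inter_eq_empty.2 hd1) (Set.toFinite _) (Set.toFinite _),
      ← Nat.card_coe_set_eq, ← Nat.card_coe_set_eq] at h
    omega
  have hk2 : 2 ≤ k := by
    haveI : Nonempty (MulAction.orbit (MulAction.stabilizer G a) b) := ⟨⟨b, MulAction.mem_orbit_self b⟩⟩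
    have := huniv b hb
    have := Nat.card_pos (α := MulAction.orbit (MulAction.stabilizer G a) b)
    omega
  have hl2 : 2 ≤ l := by
    haveI : Nonempty (MulAction.orbit (MulAction.stabilizer G a) c) := ⟨⟨c, MulAction.mem_orbit_self c⟩⟩
    have := huniv c hc
    have := Nat.card_pos (α := MulAction.orbit (MulAction.stabilizer G a) c)
    omega
  -- integrality
  have hne : e ψ₁ ≠ e ψ₂ := by
    intro heq
    have hq := hquad ψ₁ (Or.inl rfl)
    rw [← heq] at htr1
    have hs : e ψ₁ * (2 * (m : ℂ) - 1) = -(k : ℂ) := by linear_combination htr1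
    have hz : (k : ℤ) ^ 2 + β * k * (2 * m - 1) - α' * (2 * m - 1) ^ 2 = 0 := by
      have : ((k : ℂ)) ^ 2 + β * k * (2 * m - 1) - α' * (2 * (m : ℂ) - 1) ^ 2 = 0 := by
        linear_combination (2 * (m : ℂ) - 1) ^ 2 * hq - (e ψ₁ * (2 * (m : ℂ) - 1) - k) * hs
          + (β : ℂ) * (2 * (m : ℂ) - 1) * hs
      exact_mod_cast this
    have hcop : ((2 * m - 1 : ℤ)) ∣ (k : ℤ) ^ 2 := ⟨α' * (2 * m - 1) - β * k, by linear_combination hz⟩
    -- the eigenvalue would be a rational integer
    have hdiv : (2 * m - 1 : ℤ) ∣ (k : ℤ) := by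
      obtain ⟨d, k', w, hd, hcpw, hk', hw⟩ : ∃ (d : ℕ) (k' w : ℤ), 0 < d ∧ IsCoprime k' w ∧ (k : ℤ) = d * k' ∧ (2 * m - 1 : ℤ) = d * w := by
        obtain ⟨k', w, hcpw, hk', hw⟩ := Int.exists_gcd_one (m := (k : ℤ)) (n := 2 * m - 1)
          (Int.gcd_pos_of_ne_zero_left _ (Int.natCast_ne_zero.2 (by omega : k ≠ 0)))
        exact ⟨Int.gcd (k : ℤ) (2 * m - 1), k', w, Int.gcd_pos_of_ne_zero_left _ (Int.natCast_ne_zero.2 (by omega : k ≠ 0)),
          Int.isCoprime_iff_gcd_eq_one.2 hcpw, hk'.trans (mul_comm _ _), hw.trans (mul_comm _ _)⟩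
      have h1 : k' ^ 2 + β * k' * w - α' * w ^ 2 = 0 := by
        have hd' : (d : ℤ) ^ 2 ≠ 0 := by positivity
        apply mul_left_cancel₀ hd'
        rw [mul_zero, ← hz, hk', hw]
        ring
      have h2 : w ∣ k' ^ 2 := ⟨α' * w - β * k', by linear_combination h1⟩
      have h3 : IsUnit w := (IsCoprime.pow_left hcpw).isUnit_of_dvd' h2 dvd_rfl
      rw [hk', hw]
      exact mul_dvd_mul_left _ (h3.dvd)
    have := Int.le_of_dvd (by omega) hdiv
    omega
  have hst : e ψ₁ + e ψ₂ = (β : ℂ) := by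
    apply mul_left_cancel₀ (sub_ne_zero.2 hne)
    linear_combination hquad ψ₁ (Or.inl rfl) - hquad ψ₂ (Or.inr rfl)
  set s : ℤ := (k : ℤ) + m * β with hsdef
  have hs1 : e ψ₁ = (s : ℂ) := by
    rw [hsdef]
    push_cast
    linear_combination -htr1 + (m : ℂ) * hst
  have hs2 : e ψ₂ = ((β - s : ℤ) : ℂ) := by
    push_cast
    linear_combination hst - hs1
  rw [hs1, hs2] at htr2
  have hid : ((k : ℤ)) ^ 2 + s ^ 2 * ((m : ℤ) - 1) + (β - s) ^ 2 * m = 2 * m * k := by exact_mod_cast htr2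
  -- the key identity
  have hkey : 2 * (-β) * (-β - 2) * ((m : ℤ) - 1) + (2 * s + 2 * (-β) - 1) ^ 2 = 1 := by
    have hm0 : (m : ℤ) ≠ 0 := by omega
    apply mul_left_cancel₀ hm0
    have hkval : (k : ℤ) = s - m * β := by rw [hsdef]; ring
    rw [hkval] at hid
    linear_combination 2 * hid
  have hβ : -β = 1 := by
    by_contra hb1
    rcases lt_trichotomy (-β) 1 with h | h | h
    · rcases eq_or_lt_of_le (show -β ≤ 0 by omega) with h0 | h0
      · rw [h0] at hkey
        have : (2 * s - 1) ^ 2 = 1 := by linear_combination hkey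
        rcases sq_eq_one_iff.1 this with e | e
        all_goals
          have : (k : ℤ) = s := by rw [hsdef, show β = 0 by omega]; ring
          omega
      · have h1 : 3 ≤ (-β) * (-β - 2) := by nlinarith
        have h2 : (0 : ℤ) ≤ (2 * s + 2 * (-β) - 1) ^ 2 := sq_nonneg _
        have h4 : (1 : ℤ) ≤ (m : ℤ) - 1 := by omega
        have h5 := mul_le_mul h1 h4 (by norm_num) (by linarith)
        linarith
    · exact hb1 h
    · rcases eq_or_lt_of_le (show 2 ≤ -β by omega) with h0 | h0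
      · rw [← h0] at hkey
        have : (2 * s + 3) ^ 2 = 1 := by linear_combination hkey
        rcases sq_eq_one_iff.1 this with e | e
        all_goals
          have : (k : ℤ) = s + 2 * m := by rw [hsdef, show β = -2 by omega]; ring
          omega
      · have h1 : 3 ≤ (-β) * (-β - 2) := by nlinarith
        have h2 : (0 : ℤ) ≤ (2 * s + 2 * (-β) - 1) ^ 2 := sq_nonneg _
        have h4 : (1 : ℤ) ≤ (m : ℤ) - 1 := by omega
        have h5 := mul_le_mul h1 h4 (by norm_num) (by linarith)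
        linarith
  rw [hβ] at hkey
  have hmval : (m : ℤ) = 2 * s ^ 2 + 2 * s + 1 := by nlinarith [hkey]
  have hkval : (k : ℤ) = (s + 1) * (2 * s + 1) := by
    have hβ' : β = -1 := by omega
    rw [hβ'] at hsdef
    linear_combination -hsdef + hmval
  have hlval : (l : ℤ) = s * (2 * s + 1) := by
    have : (1 : ℤ) + k + l = 2 * m := by exact_mod_cast hkl
    rw [hkval, hmval] at this
    linear_combination this
  rcases le_or_gt 0 s with hs0 | hs0
  · have hspos : 0 < s := by
      rcases eq_or_lt_of_le hs0 with h | h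
      · rw [← h] at hmval; omega
      · exact h
    obtain ⟨r, hr⟩ := Int.eq_ofNat_of_zero_le hs0
    rw [hr] at hkval hlval hmval hspos
    refine ⟨0, r, by omega, by exact_mod_cast hmval, Or.inr ?_, Or.inl ?_⟩
    · exact_mod_cast hkval
    · exact_mod_cast hlval
  · have hs1' : s ≠ -1 := by
      intro h
      rw [h] at hkval
      omega
    obtain ⟨r, hr⟩ := Int.eq_ofNat_of_zero_le (show (0 : ℤ) ≤ -1 - s by omega)
    have hr' : s = -1 - r := by omega
    rw [hr'] at hkval hlval hmval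
    refine ⟨0, r, by omega, ?_, Or.inl ?_, Or.inr ?_⟩
    · have : (m : ℤ) = 2 * (r : ℤ) ^ 2 + 2 * r + 1 := by rw [hmval]; ring
      exact_mod_cast this
    · have : (k : ℤ) = (r : ℤ) * (2 * r + 1) := by rw [hkval]; ring
      exact_mod_cast this
    · have : (l : ℤ) = ((r : ℤ) + 1) * (2 * r + 1) := by rw [hlval]; ring
      exact_mod_cast this


/-- Groups of Wielandt type: if a primitive group of degree `2m` has rank 3 and permutation character `1 + χ₁ + χ₂` with irreducible `χ₁, χ₂` of degrees `m - 1` and `m`, then `m = 2a² + 2a + 1` for some positive integer `a` and the two non-trivial subdegrees are `a(2a+1)` and `(a+1)(2a+1)`. -/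
theorem result {G : Type*} [Group G] [Fintype G] {Ω : Type*} [Fintype Ω] [MulAction G Ω] (hprim : MulAction.IsPreprimitive G Ω) {m : ℕ} (hm : Fintype.card Ω = 2 * m) (a₀ : Ω) (hrank : Nat.card (MulAction.orbitRel.Quotient (MulAction.stabilizer G a₀) Ω) = 3) (χ₁ χ₂ : G → ℂ) (h₁ : Cfsg.IsIrrCharacter G χ₁) (h₂ : Cfsg.IsIrrCharacter G χ₂) (hπ : (fun g : G => (Nat.card (MulAction.fixedBy Ω g) : ℂ)) = fun g => 1 + χ₁ g + χ₂ g) (hd₁ : χ₁ 1 = (m : ℂ) - 1) (hd₂ : χ₂ 1 = m) : ∃ a : ℕ, 0 < a ∧ m = 2 * a ^ 2 + 2 * a + 1 ∧ ∀ b : Ω, b ≠ a₀ → Nat.card (MulAction.orbit (MulAction.stabilizer G a₀) b) = a * (2 * a + 1) ∨ Nat.card (MulAction.orbit (MulAction.stabilizer G a₀) b) = (a + 1) * (2 * a + 1) := by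
  classical
  haveI := hprim
  haveI : Nonempty Ω := ⟨a₀⟩
  haveI : MulAction.IsPretransitive G Ω := inferInstance
  set π₀ : G → ℂ := fun g => (Nat.card (MulAction.fixedBy Ω g) : ℂ) with hπ₀
  obtain ⟨m', hin, hsq, hone, -⟩ := Cfsg.Agent.Lib.Perm.exists_mult (G := G) (Ω := Ω) a₀
  rw [hrank] at hsq
  set ψ₀ : Cfsg.IrrCharacter G := ⟨fun _ => 1, isIrrCharacter_one⟩
  set ψ₁ : Cfsg.IrrCharacter G := ⟨χ₁, h₁⟩
  set ψ₂ : Cfsg.IrrCharacter G := ⟨χ₂, h₂⟩
  have h12 : ψ₁ ≠ ψ₂ := by
    intro h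
    have h' := congrFun (congrArg Subtype.val h) 1
    rw [show (ψ₁ : G → ℂ) = χ₁ from rfl, show (ψ₂ : G → ℂ) = χ₂ from rfl, hd₁, hd₂] at h'
    simp at h'
  have hm' : ∀ ψ : Cfsg.IrrCharacter G, m' ψ =
      (if ψ = ψ₀ then 1 else 0) + (if ψ = ψ₁ then 1 else 0) + (if ψ = ψ₂ then 1 else 0) := by
    intro ψ
    have h : Cfsg.classInner π₀ (ψ : G → ℂ) = m' ψ := hin ψ
    rw [hπ, show (fun g => 1 + χ₁ g + χ₂ g) = (ψ₀ : G → ℂ) + (ψ₁ : G → ℂ) + (ψ₂ : G → ℂ) from rfl,
      classInner_add_left, classInner_add_left, classInner_coe, classInner_coe, classInner_coe] at h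
    simp only [eq_comm (a := ψ)]
    split_ifs at h ⊢ <;> exact_mod_cast h.symm
  have h01 : ψ₀ ≠ ψ₁ := by
    intro h
    have h1 := hm' ψ₀
    rw [if_pos rfl, if_pos h, hone ψ₀ rfl] at h1
    omega
  have h02 : ψ₀ ≠ ψ₂ := by
    intro h
    have h1 := hm' ψ₀
    rw [if_pos rfl, if_pos h, hone ψ₀ rfl] at h1
    omega
  have hle1 : ∀ ψ, m' ψ ≤ 1 := by
    intro ψ
    rw [hm']
    by_cases e0 : ψ = ψ₀
    · subst e0; simp [h01, h02]
    by_cases e1 : ψ = ψ₁
    · subst e1; simp [e0, h12]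
    simp [e0, e1]
    split_ifs <;> omega
  have hcard3 : ∀ ψ, m' ψ ≠ 0 → ψ = ψ₀ ∨ ψ = ψ₁ ∨ ψ = ψ₂ := by
    intro ψ hψ
    rw [hm'] at hψ
    by_contra hc
    push Not at hc
    simp [hc.1, hc.2.1, hc.2.2] at hψ
  have hconjπ : ∀ ψ : Cfsg.IrrCharacter G, m' ψ ≠ 0 → ∀ g, (starRingEnd ℂ) ((ψ : G → ℂ) g) = (ψ : G → ℂ) g := by
    intro ψ hψ g
    obtain ⟨n, σ, hσ, hσc⟩ := ψ.2
    have hirr : Cfsg.IsIrrCharacter G (fun g => (starRingEnd ℂ) ((ψ : G → ℂ) g)) := by
      rw [← hσc]
      exact @Cfsg.Agent.S0717.isIrrCharacter_conj_of G _ _ n σ hσ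
    set φ : Cfsg.IrrCharacter G := ⟨_, hirr⟩
    have hφ : m' φ = m' ψ := by
      have h1 := hin φ
      have h2 := congrArg (starRingEnd ℂ) (hin ψ)
      rw [Complex.conj_natCast] at h2
      have e : Cfsg.classInner π₀ (φ : G → ℂ) = (starRingEnd ℂ) (Cfsg.classInner π₀ (ψ : G → ℂ)) := by
        simp [Cfsg.classInner, φ, hπ₀, map_sum]
      exact_mod_cast h1.symm.trans (e.trans h2)
    have hdeg : (φ : G → ℂ) 1 = (ψ : G → ℂ) 1 := by
      obtain ⟨d, -, hd⟩ := exists_nat_degree_irr ψ.2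
      show (starRingEnd ℂ) ((ψ : G → ℂ) 1) = _
      rw [hd, Complex.conj_natCast]
    have hφ0 : ∀ x : Cfsg.IrrCharacter G, (∀ y, (x : G → ℂ) y = (starRingEnd ℂ) ((ψ : G → ℂ) y)) → x = ψ₀ → ψ = ψ₀ := by
      intro x hx hx0
      refine Subtype.ext (funext fun y => ?_)
      have h2 := hx y
      rw [hx0] at h2
      rw [← Complex.conj_conj ((ψ : G → ℂ) y), ← h2]
      exact map_one _
    have h12d : (ψ₁ : G → ℂ) 1 ≠ (ψ₂ : G → ℂ) 1 := by
      show χ₁ 1 ≠ χ₂ 1
      rw [hd₁, hd₂]
      simp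
    have this : φ = ψ := by
      rcases hcard3 φ (by rw [hφ]; exact hψ) with hp | hp | hp
      · exact hp.trans (hφ0 φ (fun y => rfl) hp).symm
      · rcases hcard3 ψ hψ with hq | hq | hq
        · exfalso
          refine h01 (hp.symm.trans (Subtype.ext (funext fun x => ?_))).symm
          show (starRingEnd ℂ) ((ψ : G → ℂ) x) = (ψ₀ : G → ℂ) x
          rw [hq]
          exact map_one _
        · exact hp.trans hq.symm
        · rw [hp, hq] at hdeg; exact absurd hdeg h12d
      · rcases hcard3 ψ hψ with hq | hq | hq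
        · exfalso
          refine h02 (hp.symm.trans (Subtype.ext (funext fun x => ?_))).symm
          show (starRingEnd ℂ) ((ψ : G → ℂ) x) = (ψ₀ : G → ℂ) x
          rw [hq]
          exact map_one _
        · rw [hp, hq] at hdeg; exact absurd hdeg h12d.symm
        · exact hp.trans hq.symm
    exact congrFun (congrArg Subtype.val this) g
  -- every pair can be swapped
  have hgen : ∀ a b : Ω, ∃ g : G, g • a = b ∧ g • b = a := by
    refine (Cfsg.Agent.S0717.result (G := G) (Ω := Ω)).2 fun χ hχ hne => ?_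
    have h := hin ⟨χ, hχ⟩
    change Cfsg.classInner π₀ χ = _ at h
    have hm0 : m' ⟨χ, hχ⟩ ≠ 0 := fun h0 => hne (h.trans (by rw [h0, Nat.cast_zero]))
    have := hle1 ⟨χ, hχ⟩
    exact ⟨h.trans (by rw [show m' ⟨χ, hχ⟩ = 1 by omega, Nat.cast_one]), hconjπ ⟨χ, hχ⟩ hm0⟩
  set π := Cfsg.permRep ℂ G Ω with hπdef
  have hchar : π.character = π₀ := Cfsg.Agent.Lib.Perm.permRep_character
  have hmf : Cfsg.Agent.Lib.Perm.MultFree π := by
    intro χ hχ
    rw [hchar]
    have h := hin ⟨χ, hχ⟩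
    change Cfsg.classInner π₀ χ = _ at h
    rcases Nat.le_one_iff_eq_zero_or_eq_one.1 (hle1 ⟨χ, hχ⟩) with h0 | h0 <;> rw [h, h0] <;> simp
  -- the main computation
  haveI : Fintype (MulAction.orbitRel.Quotient (MulAction.stabilizer G a₀) Ω) := Fintype.ofFinite _
  have hm1 : 1 ≤ m := by
    have := Fintype.card_pos (α := Ω)
    omega
  have hm2 : 2 ≤ m := by
    by_contra hc
    have hle : Nat.card (MulAction.orbitRel.Quotient (MulAction.stabilizer G a₀) Ω) ≤ Nat.card Ω :=
      Nat.card_le_card_of_surjective Quotient.mk'' Quotient.mk''_surjective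
    rw [hrank, Nat.card_eq_fintype_card, hm] at hle
    omega
  have huniv : ∀ b : Ω, b ≠ a₀ → Nat.card (MulAction.orbit (MulAction.stabilizer G a₀) b) ≠ 1 := by
    intro b hb h1
    have hfix : MulAction.stabilizer G a₀ ≤ MulAction.stabilizer G b := by
      intro g hg
      obtain ⟨hs, -⟩ := Nat.card_eq_one_iff_unique.1 h1
      exact congrArg Subtype.val (hs.elim ⟨g • b, ⟨⟨g, hg⟩, rfl⟩⟩ ⟨b, MulAction.mem_orbit_self b⟩)
    exact fixed_false G hprim hm2 hm hrank hb hfix
  obtain ⟨b, hb⟩ := exists_ne_of_card hm2 hm a₀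
  obtain ⟨c, hc, hcb⟩ := exists_third G hrank a₀ b hb
  have hcover : ∀ y : Ω, y = a₀ ∨ y ∈ MulAction.orbit (MulAction.stabilizer G a₀) b ∨
      y ∈ MulAction.orbit (MulAction.stabilizer G a₀) c := cover G hrank hb hc hcb
  obtain ⟨s, hs⟩ := main G hm2 hm hgen hcover hb hc hcb π₀ hchar hmf m' hin ψ₀ ψ₁ ψ₂ h01 h02 h12 hm' hd₁ hd₂ rfl huniv
  obtain ⟨a, ha, hma, hab⟩ := hs
  refine ⟨a, ha, hma, fun y hy => ?_⟩
  rcases hcover y with h | h | h
  · exact absurd h hy
  · rw [MulAction.orbit_eq_iff.2 h]; exact hab.1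
  · rw [MulAction.orbit_eq_iff.2 h]; exact hab.2

end Cfsg.Agent.S0719
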