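import Cfsg.Statements.S0722

set_option autoImplicit false
open Cfsg

namespace Cfsg.Agent.S0722

/-- In a primitive group `H`, with `N` a minimal normal subgroup and `K` a point stabiliser, `K ⊓ N` is maximal among proper `K`-invariant subgroups of `N`. -/
theorem result {α : Type*} [Finite α] (H : Subgroup (Equiv.Perm α)) [MulAction.IsPreprimitive H α] (N : Subgroup H) [N.Normal] (hN : N ≠ ⊥) (hmin : ∀ M : Subgroup H, M.Normal → M ≤ N → M = ⊥ ∨ M = N) (a : α) (X : Subgroup H) (hX : X ≤ N) (hKX : MulAction.stabilizer H a ⊓ N ≤ X) (hinv : MulAction.stabilizer H a ≤ Subgroup.normalizer (X : Set H)) : X = MulAction.stabilizer H a ⊓ N ∨ X = N := by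
  rcases subsingleton_or_nontrivial α with hα | hα
  · right
    refine le_antisymm hX (le_trans (le_inf (fun n _ => ?_) le_rfl) hKX)
    exact Subsingleton.elim _ _
  have hco := MulAction.IsPreprimitive.isCoatom_stabilizer_of_isPreprimitive (G := H) a
  rcases hco.le_iff.1 (le_sup_right : MulAction.stabilizer H a ≤ X ⊔ MulAction.stabilizer H a) with h | h
  · right
    refine le_antisymm hX fun n hn => ?_
    have hn' : n ∈ ((X ⊔ MulAction.stabilizer H a : Subgroup H) : Set H) := h ▸ Subgroup.mem_top n
    rw [Subgroup.coe_mul_of_right_le_normalizer_left _ _ hinv] at hn'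
    obtain ⟨x, hx, k, hk, rfl⟩ := hn'
    refine X.mul_mem hx (hKX ⟨hk, ?_⟩)
    have h1 := N.mul_mem (N.inv_mem (hX hx)) hn
    simpa using h1
  · left
    exact le_antisymm (le_inf (h ▸ le_sup_left) hX) hKX

end Cfsg.Agent.S0722
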