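import Cfsg.Statements.S0723
import Cfsg.Agent.S0721
import Cfsg.Agent.S0722
import Cfsg.Agent.Lib.Perm.SubdirectSimple
set_option autoImplicit false
open Cfsg

namespace Cfsg.Agent.S0723

open CfsgLib

/-- The core of the O'Nan–Scott Theorem. Let `H` be a primitive permutation group on a finite set whose unique minimal normal subgroup `N` is non-abelian, and `K` a point stabiliser. Then there are a non-abelian simple group `T` and an isomorphism `N ≃* T^m` (`m ≥ 1`) under which `K ⊓ N` becomes either a product `∏ K_i` of proper subgroups `K_i < T`, or the set of functions constant on each block of a partition of the index set into blocks of one common size `k ≥ 2`. -/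
theorem result {α : Type*} [Finite α] (H : Subgroup (Equiv.Perm α)) [MulAction.IsPreprimitive H α] (N : Subgroup H) [N.Normal] (hN : N ≠ ⊥) (hmin : ∀ M : Subgroup H, M.Normal → M ≤ N → M = ⊥ ∨ M = N) (huniq : ∀ L : Subgroup H, L.Normal → L ≠ ⊥ → (∀ M : Subgroup H, M.Normal → M ≤ L → M = ⊥ ∨ M = L) → L = N) (hnab : ¬ IsMulCommutative N) (a : α) : ∃ (T : Type) (_ : Group T) (m : ℕ) (e : N ≃* (Fin m → T)), IsSimpleGroup T ∧ ¬ IsMulCommutative T ∧ 0 < m ∧ ((∃ K : Fin m → Subgroup T, (∀ i, K i ≠ ⊤) ∧ ∀ n : N, (n : H) ∈ MulAction.stabilizer H a ↔ ∀ i, e n i ∈ K i) ∨ (∃ (k : ℕ) (c : Fin m → Fin m), 2 ≤ k ∧ (∀ j : Fin m, Nat.card {i : Fin m // c i = j} = k ∨ Nat.card {i : Fin m // c i = j} = 0) ∧ ∀ n : N, (n : H) ∈ MulAction.stabilizer H a ↔ ∀ i j : Fin m, c i = c j → e n i = e n j)) := by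
  classical
  obtain ⟨T, iT, m, hTs, hm, ⟨e⟩⟩ := S0721.result N hN hmin
  haveI := hTs
  have hT : ¬ IsMulCommutative T := fun hc => hnab ⟨⟨fun x y => e.injective (by
    rw [map_mul, map_mul]; funext i; exact mul_comm' (e x i) (e y i))⟩⟩
  set S : Subgroup H := MulAction.stabilizer H a with hS
  have hfix : MulAction.fixedPoints N α ≠ Set.univ := fun h => hN <| (Subgroup.eq_bot_iff_forall _).mpr
    fun n hn => Subtype.ext <| Equiv.ext fun x =>
      (h ▸ Set.mem_univ x : x ∈ MulAction.fixedPoints N α) ⟨n, hn⟩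
  haveI hNt : MulAction.IsPretransitive N α :=
    MulAction.IsQuasiPreprimitive.isPretransitive_of_normal hfix
  have hNS : ¬ N ≤ S := fun h => hfix <| Set.eq_univ_iff_forall.mpr fun x n => by
    obtain ⟨k, hk⟩ := MulAction.exists_smul_eq N a x
    rw [← hk, ← mul_smul]
    exact (h (n * k).2 : ((n * k : N) : H) • a = a).trans (h k.2 : ((k : N) : H) • a = a).symm
  haveI : Finite T := Finite.of_injective (fun t => e.symm (Pi.mulSingle (⟨0, hm⟩ : Fin m) t))
    fun s t hst => Pi.mulSingle_injective _ (e.symm.injective hst)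
  let φ : H → ((Fin m → T) ≃* (Fin m → T)) := fun h =>
    e.symm.trans ((MulAut.conjNormal h : N ≃* N).trans e)
  have hφ : ∀ (h : H) (n : N), φ h (e n) = e (MulAut.conjNormal h n) := fun h n => by simp [φ]
  choose σ A hA hσ using fun h => SubdirectSimple.exists_factor_map hT (φ h)
  have hσinj : ∀ h, Function.Injective (σ h) := fun h =>
    SubdirectSimple.factor_map_injective (hA h) (hσ h)
  have hmul : ∀ g h i, σ (g * h) i = σ g (σ h i) := fun g h => congrFun
    (SubdirectSimple.factor_map_unique (hσinj (g * h)) (hA _) (hσ _)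
      (τ := fun i => σ g (σ h i)) (β := fun i => (A g (σ h i)).comp (A h i))
      (fun i x => by
        have h1 : φ (g * h) x = φ g (φ h x) := by simp [φ]
        rw [h1, hσ g, hσ h]; rfl)
      (fun i => (hA g _).comp (hA h i)))
  have hσN : ∀ (n : N) i, σ (n : H) i = i := fun n => congrFun
    (SubdirectSimple.factor_map_unique (hσinj _) (hA _) (hσ _)
      (τ := id) (β := fun i => (MulAut.conj (e n i)).toMonoidHom)
      (fun i x => by
        obtain ⟨y, rfl⟩ := e.surjective x
        have h1 : (MulAut.conjNormal (n : H) : N ≃* N) y = n * y * n⁻¹ := Subtype.ext (by simp)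
        rw [hφ, h1]
        simp)
      (fun i => (MulAut.conj (e n i)).surjective))
  have hone : ∀ i, σ 1 i = i := by
    intro i
    have := hσN 1 i
    simpa using this
  have htrans : ∀ i j, ∃ h ∈ S, σ h i = j := by
    intro i j
    obtain ⟨g, hg⟩ : ∃ g, σ g i = j := by
      by_contra! hcon
      let Q : Subgroup (Fin m → T) :=
        { carrier := {x | ∀ l, (∀ g, σ g i ≠ l) → x l = 1}
          one_mem' := fun _ _ => rfl
          mul_mem' := fun {x y} hx hy l hl => by simp [hx l hl, hy l hl]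
          inv_mem' := fun {x} hx l hl => by simp [hx l hl] }
      let M : Subgroup H := (Q.comap e.toMonoidHom).map N.subtype
      have hMn : M.Normal := by
        refine ⟨?_⟩
        rintro _ ⟨n, hn, rfl⟩ g
        refine ⟨MulAut.conjNormal g n, fun l hl => ?_, by simp⟩
        obtain ⟨k, rfl⟩ := Finite.surjective_of_injective (hσinj g) l
        show e (MulAut.conjNormal g n) (σ g k) = 1
        have h2 : e n k = 1 := hn k fun g' hg' => hl (g * g') (by rw [hmul, hg'])
        rw [← hφ, hσ, h2, map_one]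
      rcases hmin M hMn (Subgroup.map_subtype_le _) with h | h
      · obtain ⟨u, hu⟩ := exists_ne (1 : T)
        have hmem : ((e.symm (Pi.mulSingle i u) : N) : H) ∈ M := by
          refine ⟨_, fun l hl => ?_, rfl⟩
          show e (e.symm (Pi.mulSingle i u)) l = 1
          rw [e.apply_symm_apply]
          exact Pi.mulSingle_eq_of_ne (fun he => hl 1 (by rw [hone, he])) _
        rw [h, Subgroup.mem_bot, OneMemClass.coe_eq_one, MulEquiv.map_eq_one_iff,
          Pi.mulSingle_eq_one_iff] at hmem
        exact hu hmem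
      · obtain ⟨u, hu⟩ := exists_ne (1 : T)
        have hmem : ((e.symm (Pi.mulSingle j u) : N) : H) ∈ M := by
          rw [h]; exact (e.symm (Pi.mulSingle j u)).2
        obtain ⟨n, hn, hne⟩ := hmem
        rw [Subgroup.coe_subtype, ← Subtype.ext_iff] at hne
        subst hne
        have := hn j (fun g => hcon g)
        simp at this
        exact hu this
    obtain ⟨n, hn⟩ := MulAction.exists_smul_eq N a (g • a)
    refine ⟨(n : H)⁻¹ * g, ?_, ?_⟩
    · show ((n : H)⁻¹ * g) • a = a
      rw [mul_smul, ← hn]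
      exact inv_smul_smul (n : H) a
    · have h1 := hσN n⁻¹ j
      rw [hmul, hg]
      simpa using h1
  let D : Subgroup (Fin m → T) := (S.subgroupOf N).map e.toMonoidHom
  have hDmem : ∀ n : N, (n : H) ∈ S ↔ e n ∈ D := fun n =>
    ⟨fun h => ⟨n, h, rfl⟩, fun ⟨k, hk, he⟩ => e.injective he ▸ hk⟩
  have hDinv : ∀ h ∈ S, ∀ x ∈ D, φ h x ∈ D := by
    rintro h hh _ ⟨n, hn, rfl⟩
    have h1 : φ h (e n) ∈ D := by
      rw [hφ, ← hDmem]
      simpa using mul_mem (mul_mem hh hn) (inv_mem hh)
    exact h1
  by_cases hfull : ∀ i, ∀ t : T, ∃ x ∈ D, x i = t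
  · obtain ⟨c, θ, hcc, hc, hD⟩ := SubdirectSimple.exists_diagonal hT hfull
    let e' : N ≃* (Fin m → T) := e.trans (MulEquiv.piCongrRight fun i => (θ i).symm)
    have hcσ : ∀ h ∈ S, ∀ i j, c i = c j → c (σ h i) = c (σ h j) := by
      intro h hh i j hij
      rw [hc] at hij ⊢
      intro x hx hxi
      have hy : φ h⁻¹ x ∈ D := hDinv _ (inv_mem hh) x hx
      have hxy : φ h (φ h⁻¹ x) = x := by simp [φ]
      rw [← hxy, hσ] at hxi ⊢
      have hinj : Function.Injective (A h i) :=
        (Finite.injective_iff_surjective (f := A h i)).mpr (hA h i)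
      haveI : Finite N := inferInstance
      rw [hij _ hy (hinj (by rw [hxi, map_one])), map_one]
    have hcard : ∀ i j, c i = i → c j = j →
        Nat.card {l // c l = i} ≤ Nat.card {l // c l = j} := by
      intro i j hi hj
      obtain ⟨h, hh, hij⟩ := htrans i j
      refine Nat.card_le_card_of_injective (fun l => ⟨σ h l.1, ?_⟩) fun x y hxy =>
        Subtype.ext (hσinj h (congrArg Subtype.val hxy))
      rw [hcσ h hh l.1 i (by rw [l.2, hi]), hij, hj]
    let i₀ : Fin m := c ⟨0, hm⟩
    have hk : ∀ j, Nat.card {i // c i = j} = Nat.card {i // c i = i₀} ∨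
        Nat.card {i // c i = j} = 0 := by
      intro j
      by_cases hj : c j = j
      · exact Or.inl (le_antisymm (hcard j i₀ hj (hcc _)) (hcard i₀ j (hcc _) hj))
      · haveI : IsEmpty {i // c i = j} := ⟨fun l => hj (by rw [← l.2, hcc])⟩
        exact Or.inr Nat.card_of_isEmpty
    refine ⟨T, iT, m, e', hTs, hT, hm, Or.inr ⟨Nat.card {i // c i = i₀}, c, ?_, hk, fun n => ?_⟩⟩
    · by_contra hlt
      refine hNS fun n hn => (hDmem ⟨n, hn⟩).mpr ((hD _).mpr fun i => ?_)
      have hci : c i = i := by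
        have hcard1 : Nat.card {l // c l = c i} ≤ 1 :=
          (hcard (c i) i₀ (hcc i) (hcc _)).trans (by omega)
        haveI := (Finite.card_le_one_iff_subsingleton (α := {l // c l = c i})).mp hcard1
        exact congrArg Subtype.val (Subsingleton.elim (⟨c i, hcc i⟩ : {l // c l = c i}) ⟨i, rfl⟩)
      have hθ : θ i = MulEquiv.refl T := by
        ext t
        obtain ⟨x, hx, hxi⟩ := hfull i t
        have := (hD x).mp hx i
        rw [hci, hxi] at this
        exact this.symm
      rw [hci, hθ]; rfl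
    · rw [hDmem, hD]
      have hθr : ∀ j, c j = j → θ j = MulEquiv.refl T := by
        intro j hj
        ext t
        obtain ⟨x, hx, hxj⟩ := hfull j t
        have := (hD x).mp hx j
        rw [hj, hxj] at this
        exact this.symm
      have key : ∀ i, e' n i = (θ i).symm (e n i) := fun i => rfl
      constructor
      · intro h i j hij
        rw [key, key, h i, h j, MulEquiv.symm_apply_apply, MulEquiv.symm_apply_apply, hij]
      · intro h i
        have := h i (c i) (hcc i).symm
        rw [key, key, hθr (c i) (hcc i)] at this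
        rw [MulEquiv.symm_apply_eq] at this
        simpa using this
  · push Not at hfull
    obtain ⟨i₁, t₁, ht₁⟩ := hfull
    let K : Fin m → Subgroup T := fun i => D.map (Pi.evalMonoidHom (fun _ : Fin m => T) i)
    have hKne : ∀ i, K i ≠ ⊤ := by
      intro i hi
      obtain ⟨h, hh, hhi⟩ := htrans i i₁
      obtain ⟨u, hu⟩ := hA h i t₁
      obtain ⟨x, hx, hxi⟩ := (hi ▸ Subgroup.mem_top u : u ∈ K i)
      refine ht₁ (φ h x) (hDinv h hh x hx) ?_
      rw [← hhi, hσ]
      exact (congrArg (A h i) hxi).trans hu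
    let P : Subgroup (Fin m → T) := Subgroup.pi Set.univ K
    let X : Subgroup H := (P.comap e.toMonoidHom).map N.subtype
    have hXmem : ∀ n : N, (n : H) ∈ X ↔ ∀ i, e n i ∈ K i := fun n => by
      simp [X, P, Subgroup.mem_pi]
    have hPinv : ∀ h ∈ S, ∀ x : Fin m → T, (∀ i, x i ∈ K i) → ∀ i, φ h x i ∈ K i := by
      intro h hh x hx i
      obtain ⟨k, rfl⟩ := Finite.surjective_of_injective (hσinj h) i
      obtain ⟨y, hy, hyk⟩ := hx k
      refine ⟨φ h y, hDinv h hh y hy, ?_⟩
      show φ h y (σ h k) = φ h x (σ h k)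
      rw [hσ, hσ]
      exact congrArg _ hyk
    have key := S0722.result H N hN hmin a X (Subgroup.map_subtype_le _) (fun n hn =>
      (hXmem ⟨n, hn.2⟩).mpr fun i => ⟨_, (hDmem ⟨n, hn.2⟩).mp hn.1, rfl⟩) (fun h hh => by
      have step : ∀ g ∈ S, ∀ x ∈ X, g * x * g⁻¹ ∈ X := by
        rintro g hg _ ⟨n, hn, rfl⟩
        have h1 : ((MulAut.conjNormal g n : N) : H) ∈ X := by
          rw [hXmem]
          intro i
          rw [← hφ]
          exact hPinv g hg _ ((hXmem n).mp ⟨n, hn, rfl⟩) i
        simpa using h1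
      refine Subgroup.mem_normalizer_iff.mpr fun x => ⟨step h hh x, fun hx => ?_⟩
      simpa [mul_assoc] using step h⁻¹ (inv_mem hh) _ hx)
    rcases key with h | h
    · refine ⟨T, iT, m, e, hTs, hT, hm, Or.inl ⟨K, hKne, fun n => ?_⟩⟩
      rw [← hXmem, h]
      exact ⟨fun hn => ⟨hn, n.2⟩, fun hn => hn.1⟩
    · exfalso
      refine hKne ⟨0, hm⟩ ((Subgroup.eq_top_iff' _).mpr fun u => ?_)
      have hu : ((e.symm fun _ => u : N) : H) ∈ X := by rw [h]; exact (e.symm fun _ => u).2
      have := (hXmem (e.symm fun _ => u)).mp hu ⟨0, hm⟩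
      simpa using this
end Cfsg.Agent.S0723
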