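import Cfsg.Statements.S0724
import Mathlib

set_option autoImplicit false
open Cfsg

namespace Cfsg.Agent.S0724

/-- Blichfeldt's Theorem: if a finite set `L` of natural numbers contains the number of fixed points of every non-identity element of a permutation group `G` of degree `n`, then the order of `G` divides `∏ (n - l)` over `l ∈ L`. -/
theorem result {α : Type*} [Fintype α] [DecidableEq α] (G : Subgroup (Equiv.Perm α)) (L : Finset ℕ) (hL : ∀ g ∈ G, g ≠ 1 → Nat.card (MulAction.fixedBy α g) ∈ L) : Nat.card G ∣ ∏ l ∈ L, (Fintype.card α - l) := by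
  classical
  set n := Fintype.card α with hn
  by_cases hbig : ∃ l ∈ L, n ≤ l
  · obtain ⟨l, hl, hln⟩ := hbig
    rw [Finset.prod_eq_zero hl (Nat.sub_eq_zero_of_le hln)]
    exact dvd_zero _
  · push_neg at hbig
    have key : (∏ l ∈ L, ((n : ℤ) - (l : ℤ)))
        = ∑ g : G, ∏ l ∈ L, ((Fintype.card (MulAction.fixedBy α g) : ℤ) - (l : ℤ)) := by
      rw [Finset.sum_eq_single (1 : G)]
      · refine Finset.prod_congr rfl fun l _ => ?_
        have : Fintype.card (MulAction.fixedBy α (1 : G)) = n :=
          Fintype.card_congr (Equiv.subtypeUnivEquiv fun x => by simp)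
        rw [this]
      · intro g _ hg
        have hmem := hL (g : Equiv.Perm α) g.2 (fun h => hg (Subtype.ext h))
        refine Finset.prod_eq_zero hmem ?_
        have : Nat.card (MulAction.fixedBy α (g : Equiv.Perm α))
            = Fintype.card (MulAction.fixedBy α g) := by
          rw [← Nat.card_eq_fintype_card]; rfl
        rw [this, sub_self]
      · simp
    have hcast : ((∏ l ∈ L, (n - l) : ℕ) : ℤ) = ∏ l ∈ L, ((n : ℤ) - (l : ℤ)) := by
      rw [Nat.cast_prod]
      exact Finset.prod_congr rfl fun l hl => Nat.cast_sub (hbig l hl).le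
    rw [← Int.natCast_dvd_natCast, hcast, key, Nat.card_eq_fintype_card]
    simp only [sub_eq_add_neg, Finset.prod_add, Finset.prod_const]
    rw [Finset.sum_comm]
    refine Finset.dvd_sum fun t _ => ?_
    rw [← Finset.sum_mul]
    refine Dvd.dvd.mul_right ?_ _
    have hb := MulAction.sum_card_fixedBy_eq_card_orbits_mul_card_group G (Fin t.card → α)
    have he : ∀ g : G, Fintype.card (MulAction.fixedBy (Fin t.card → α) g)
        = Fintype.card (MulAction.fixedBy α g) ^ t.card := fun g => by
      have e : MulAction.fixedBy (Fin t.card → α) g ≃ (Fin t.card → MulAction.fixedBy α g) :=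
        { toFun := fun f i => ⟨f.1 i, congrFun f.2 i⟩
          invFun := fun f => ⟨fun i => (f i).1, funext fun i => (f i).2⟩ }
      rw [Fintype.card_congr e, Fintype.card_fun, Fintype.card_fin]
    simp only [he] at hb
    have : ((∑ g : G, Fintype.card (MulAction.fixedBy α g) ^ t.card : ℕ) : ℤ) = _ := congrArg Nat.cast hb
    push_cast at this
    rw [this]
    exact dvd_mul_left _ _

end Cfsg.Agent.S0724
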