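import Cfsg.Statements.S0726

set_option autoImplicit false
open Cfsg

namespace Cfsg.Agent.S0726

/-- The left and right regular permutation representations of a group are each other's centralisers in the symmetric group: the centraliser of the left regular image is the right regular image, and a transitive subgroup centralising the left regular image is the whole right regular image. -/
theorem result {G : Type*} [Group G] : Subgroup.centralizer ((MulAction.toPermHom G G).range : Set (Equiv.Perm G)) = (MulAction.toPermHom Gᵐᵒᵖ G).range ∧ ∀ H : Subgroup (Equiv.Perm G), H ≤ Subgroup.centralizer ((MulAction.toPermHom G G).range : Set (Equiv.Perm G)) → MulAction.IsPretransitive H G → H = (MulAction.toPermHom Gᵐᵒᵖ G).range := by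
  have key : Subgroup.centralizer ((MulAction.toPermHom G G).range : Set (Equiv.Perm G))
      = (MulAction.toPermHom Gᵐᵒᵖ G).range := by
    ext c
    constructor
    · intro hc
      refine ⟨MulOpposite.op (c 1), ?_⟩
      ext x
      have h := Equiv.congr_fun (Subgroup.mem_centralizer_iff.1 hc _ ⟨x, rfl⟩) (1 : G)
      simp only [Equiv.Perm.coe_mul, Function.comp_apply, MulAction.toPermHom_apply,
        MulAction.toPerm_apply, smul_eq_mul, mul_one] at h
      show x * c 1 = c x
      exact h
    · rintro ⟨g, rfl⟩
      rw [Subgroup.mem_centralizer_iff]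
      rintro _ ⟨h, rfl⟩
      ext x
      show h * (x * g.unop) = h * x * g.unop
      rw [mul_assoc]
  refine ⟨key, fun H hH hT => le_antisymm (key ▸ hH) ?_⟩
  rintro _ ⟨g, rfl⟩
  obtain ⟨h, hh⟩ := hT.exists_smul_eq (1 : G) g.unop
  obtain ⟨g', hg'⟩ := (key ▸ hH) h.2
  have he : g' = g := by
    apply MulOpposite.unop_injective
    have h1 : (1 : G) * g'.unop = g.unop := by
      rw [← hh]
      exact Equiv.congr_fun hg' 1
    rwa [one_mul] at h1
  rw [← he, hg']
  exact h.2

end Cfsg.Agent.S0726
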