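import Cfsg.Statements.S0728
import Mathlib.GroupTheory.PGroup
import Mathlib.Data.Fintype.CardEmbedding
import Mathlib.Combinatorics.Enumerative.DoubleCounting
import Mathlib.Tactic.Group
import Mathlib.Tactic.FinCases

set_option autoImplicit false
open Cfsg

namespace Cfsg.Agent.S0728

/-- In a sharply triply transitive group of even degree at least 6 (degree `q + 1`, `q` odd), a two-point stabiliser has at most one subgroup of order 3. -/
theorem result {α : Type*} [Fintype α] [DecidableEq α] (heven : Even (Fintype.card α)) (h6 : 6 ≤ Fintype.card α) (G : Subgroup (Equiv.Perm α)) (h3 : MulAction.IsMultiplyPretransitive G α 3) (hsharp : ∀ x : Fin 3 ↪ α, MulAction.stabilizer G x = ⊥) {a b : α} (hab : a ≠ b) (A B : Subgroup G) (hA : A ≤ MulAction.stabilizer G a ⊓ MulAction.stabilizer G b) (hB : B ≤ MulAction.stabilizer G a ⊓ MulAction.stabilizer G b) (hA3 : Nat.card A = 3) (hB3 : Nat.card B = 3) : A = B := by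
  classical
  haveI : Fintype G := Fintype.ofFinite G
  haveI := h3
  set E := (Finset.univ : Finset G).filter fun g => orderOf g = 3 with hE
  have hfree : ∀ g : G, ∀ x y z : α, x ≠ y → y ≠ z → x ≠ z → g • x = x → g • y = y → g • z = z → g = 1 := by
    intro g x y z hxy hyz hxz hx hy hz
    let e : Fin 3 ↪ α := ⟨![x, y, z], by
      intro i j hij
      fin_cases i <;> fin_cases j <;> first | rfl | (exfalso; simp at hij; tauto)⟩
    have : g ∈ MulAction.stabilizer G e := by
      refine Function.Embedding.ext fun i => ?_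
      show g • e i = e i
      fin_cases i <;> assumption
    rw [hsharp e] at this
    simpa using this
  have hne : ∀ g : G, orderOf g = 3 → ∀ x : α, g • x ≠ x →
      x ≠ g • x ∧ g • x ≠ g • g • x ∧ x ≠ g • g • x ∧ g • g • g • x = x := by
    intro g hg x hx
    have h3' : g • g • g • x = x := by
      rw [← mul_smul, ← mul_smul, show g * g * g = g ^ 3 by rw [pow_succ, pow_succ, pow_one], ← hg, pow_orderOf_eq_one, one_smul]
    refine ⟨Ne.symm hx, fun h => hx (smul_left_cancel g h).symm, fun h => ?_, h3'⟩
    exact hx ((congrArg (g • ·) h).trans h3')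
  have hcyc : ∀ t : Fin 3 ↪ α, ∃! g : G, orderOf g = 3 ∧ g • t 0 = t 1 ∧ g • t 1 = t 2 := by
    intro t
    obtain ⟨g, hg⟩ := MulAction.exists_smul_eq G t ((finRotate 3).toEmbedding.trans t)
    have g0 : g • t 0 = t 1 := DFunLike.congr_fun hg 0
    have g1 : g • t 1 = t 2 := DFunLike.congr_fun hg 1
    have g2 : g • t 2 = t 0 := DFunLike.congr_fun hg 2
    have n01 : t 0 ≠ t 1 := t.injective.ne (by decide)
    have n12 : t 1 ≠ t 2 := t.injective.ne (by decide)
    have n02 : t 0 ≠ t 2 := t.injective.ne (by decide)
    have hg3 : g ^ 3 = 1 := by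
      apply hfree _ (t 0) (t 1) (t 2) n01 n12 n02 <;>
        simp [pow_succ, mul_smul, g0, g1, g2]
    refine ⟨g, ⟨orderOf_eq_prime hg3 (fun h => n01 (by simpa [h] using g0)), g0, g1⟩, ?_⟩
    rintro k ⟨hk, k0, k1⟩
    have hx : k • t 0 ≠ t 0 := by rw [k0]; exact Ne.symm n01
    have k2 : k • t 2 = t 0 := by rw [← k1, ← k0]; exact (hne k hk _ hx).2.2.2
    have h1 : g⁻¹ * k = 1 := by
      apply hfree _ (t 0) (t 1) (t 2) n01 n12 n02 <;> rw [mul_smul, inv_smul_eq_iff]
      · rw [k0, g0]
      · rw [k1, g1]
      · rw [k2, g2]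
    exact (inv_mul_eq_one.1 h1).symm
  set n := Fintype.card α with hn
  have hA3' : ∀ g : G, orderOf g = 3 → g • a = a → g • b = b →
      ∀ h : G, orderOf h = 3 → (Finset.univ.filter fun x : α => h • x = x).card = 2 := by
    intro g hg hga hgb h hh
    have key : ∀ k : G, orderOf k = 3 → (Finset.univ.filter fun x : α => k • x = x).card ≤ 2 ∧
        (Finset.univ.filter fun x : α => k • x = x).card % 3 = n % 3 := by
      intro k hk
      constructor
      · apply Classical.byContradiction
        intro hc
        push Not at hc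
        obtain ⟨x, y, z, hx, hy, hz, hxy, hxz, hyz⟩ := Finset.two_lt_card_iff.1 hc
        simp only [Finset.mem_filter, Finset.mem_univ, true_and] at hx hy hz
        have := hfree k x y z hxy hyz hxz hx hy hz
        simp [this] at hk
      · haveI : Fact (Nat.Prime 3) := ⟨Nat.prime_three⟩
        have hP : IsPGroup 3 (Subgroup.zpowers k) := IsPGroup.of_card (n := 1) (by rw [Nat.card_zpowers, hk, pow_one])
        have hmod := hP.card_modEq_card_fixedPoints α
        have he : MulAction.fixedPoints (Subgroup.zpowers k) α = ↑(Finset.univ.filter fun x : α => k • x = x) := by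
          ext x
          simp only [Finset.coe_filter, Finset.mem_univ, true_and]
          constructor
          · intro hx
            exact hx ⟨k, Subgroup.mem_zpowers k⟩
          · rintro hx ⟨u, hu⟩
            obtain ⟨i, rfl⟩ := Subgroup.mem_zpowers_iff.1 hu
            exact MulAction.mem_fixedBy_zpow (g := k) hx i
        rw [he, Nat.card_eq_fintype_card (α := α), Nat.card_coe_set_eq, Set.ncard_coe_finset] at hmod
        exact hmod.symm
    have h1 := key g hg
    have h2 := key h hh
    have : ({a, b} : Finset α).card ≤ (Finset.univ.filter fun x : α => g • x = x).card :=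
      Finset.card_le_card (by intro x hx; simp at hx; rcases hx with rfl | rfl <;> simp [hga, hgb])
    rw [Finset.card_pair hab] at this
    omega
  have hmemA : ∀ (A : Subgroup G), A ≤ MulAction.stabilizer G a ⊓ MulAction.stabilizer G b → Nat.card A = 3 →
      ∀ x ∈ A, x ≠ 1 → orderOf x = 3 ∧ x • a = a ∧ x • b = b := by
    intro A hA hA3 x hx hx1
    refine ⟨?_, (hA hx).1, (hA hx).2⟩
    have : orderOf x ∣ 3 := hA3 ▸ Subgroup.orderOf_dvd_natCard A hx
    exact ((Nat.dvd_prime Nat.prime_three).1 this).resolve_left (fun h => hx1 (orderOf_eq_one_iff.1 h))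
  obtain ⟨x0, hx0, hx01⟩ : ∃ x ∈ A, x ≠ 1 := by
    apply A.bot_or_exists_ne_one.resolve_left
    rintro rfl
    simp at hA3
  have hg0 := hmemA A hA hA3 x0 hx0 hx01
  have hfix := hA3' x0 hg0.1 hg0.2.1 hg0.2.2
  -- triples
  have hP : E.card * (n - 2) = n * (n - 1) * (n - 2) := by
    have hcardT : Fintype.card (Fin 3 ↪ α) = n * (n - 1) * (n - 2) := by
      rw [Fintype.card_embedding_eq, Fintype.card_fin, hn]
      simp [Nat.descFactorial_succ]
      ring
    rw [← hcardT]
    let P := E.sigma fun g => Finset.univ.filter fun x : α => g • x ≠ x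
    have : P.card = E.card * (n - 2) := by
      rw [Finset.card_sigma, Finset.sum_const_nat fun g hg => ?_]
      have hg3 : orderOf g = 3 := by simpa [hE] using hg
      have h1 := Finset.card_filter_add_card_filter_not (s := (Finset.univ : Finset α)) (fun x : α => g • x = x)
      rw [hfix g hg3, Finset.card_univ] at h1
      simp only [ne_eq]
      omega
    rw [← this, ← Finset.card_univ]
    symm
    refine Finset.card_bij (fun t _ => (⟨(hcyc t).choose, t 0⟩ : Σ _ : G, α)) ?_ ?_ ?_
    · intro t _
      obtain ⟨h1, h2, h3'⟩ := (hcyc t).choose_spec.1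
      simp only [P, hE, Finset.mem_sigma, Finset.mem_filter, Finset.mem_univ, true_and]
      exact ⟨h1, by rw [h2]; exact t.injective.ne (by decide)⟩
    · intro s _ t _ hst
      obtain ⟨-, hs0, hs1⟩ := (hcyc s).choose_spec.1
      obtain ⟨-, ht0, ht1⟩ := (hcyc t).choose_spec.1
      simp only [Sigma.mk.injEq, heq_eq_eq] at hst
      obtain ⟨hg, h0⟩ := hst
      have e1 : s 1 = t 1 := by rw [← hs0, ← ht0, hg, h0]
      refine Function.Embedding.ext fun i => ?_
      fin_cases i
      · exact h0
      · exact e1
      · show s 2 = t 2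
        rw [← hs1, ← ht1, hg, e1]
    · rintro ⟨g, x⟩ hgx
      simp only [P, hE, Finset.mem_sigma, Finset.mem_filter, Finset.mem_univ, true_and] at hgx
      obtain ⟨d1, d2, d3, _⟩ := hne g hgx.1 x hgx.2
      let t : Fin 3 ↪ α := ⟨![x, g • x, g • g • x], by
        intro i j hij
        fin_cases i <;> fin_cases j <;> first | rfl | (exfalso; simp at hij; first | exact d1 hij | exact d2 hij | exact d3 hij | exact d1 hij.symm | exact d2 hij.symm | exact d3 hij.symm)⟩
      refine ⟨t, Finset.mem_univ _, ?_⟩
      have := (hcyc t).choose_spec.2 g ⟨hgx.1, rfl, rfl⟩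
      rw [← this]
      rfl
  set Eab := E.filter fun g => g • a = a ∧ g • b = b with hEab
  have h2tr : MulAction.IsMultiplyPretransitive G α 2 :=
    MulAction.isMultiplyPretransitive_of_le (n := 3) (by norm_num) (by rw [Nat.card_eq_fintype_card, ← hn]; omega)
  have hconst : ∀ c d : α, c ≠ d → (E.filter fun g => g • c = c ∧ g • d = d).card = Eab.card := by
    intro c d hcd
    obtain ⟨k, k1, k2⟩ := MulAction.is_two_pretransitive_iff.1 h2tr hab hcd
    symm
    refine Finset.card_bij (fun g _ => k * g * k⁻¹) ?_ ?_ ?_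
    · intro g hg
      simp only [hEab, hE, Finset.mem_filter, Finset.mem_univ, true_and] at hg ⊢
      refine ⟨(orderOf_injective (MulAut.conj k).toMonoidHom (MulAut.conj k).injective g).trans hg.1, ?_, ?_⟩
      · rw [← k1]; simp [mul_smul, hg.2.1]
      · rw [← k2]; simp [mul_smul, hg.2.2]
    · intro g _ g' _ h
      simpa using h
    · intro g hg
      simp only [hEab, hE, Finset.mem_filter, Finset.mem_univ, true_and] at hg ⊢
      refine ⟨k⁻¹ * g * k, ⟨?_, ?_, ?_⟩, by group⟩
      · have h1 := orderOf_injective (MulAut.conj k⁻¹).toMonoidHom (MulAut.conj k⁻¹).injective g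
        simp at h1
        exact h1.trans hg.1
      · simp [mul_smul, k1, hg.2.1, inv_smul_eq_iff]
      · simp [mul_smul, k2, hg.2.2, inv_smul_eq_iff]
  have hQ : E.card * 2 = n * (n - 1) * Eab.card := by
    have := Finset.sum_card_bipartiteAbove_eq_sum_card_bipartiteBelow
      (fun (g : G) (p : α × α) => g • p.1 = p.1 ∧ g • p.2 = p.2) (s := E) (t := Finset.univ.offDiag)
    simp only [Finset.bipartiteAbove, Finset.bipartiteBelow] at this
    rw [Finset.sum_const_nat (fun g hg => ?_), Finset.sum_const_nat (fun p hp => hconst p.1 p.2 (Finset.mem_offDiag.1 hp).2.2)] at this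
    · rw [Finset.offDiag_card, Finset.card_univ] at this
      rw [Nat.mul_sub_one]
      exact this
    · have hg3 : orderOf g = 3 := by simpa [hE] using hg
      have hset : (Finset.univ.offDiag.filter fun p : α × α => g • p.1 = p.1 ∧ g • p.2 = p.2)
          = (Finset.univ.filter fun x : α => g • x = x).offDiag := by
        ext p; simp [Finset.mem_offDiag]; tauto
      rw [hset, Finset.offDiag_card, hfix g hg3]
  have he : Eab.card = 2 := by
    have h1 : E.card = n * (n - 1) := Nat.eq_of_mul_eq_mul_right (by omega) hP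
    rw [h1] at hQ
    exact (Nat.eq_of_mul_eq_mul_left (Nat.mul_pos (by omega) (by omega)) hQ).symm
  have hsub : ∀ (C : Subgroup G), C ≤ MulAction.stabilizer G a ⊓ MulAction.stabilizer G b → Nat.card C = 3 →
      (Finset.univ.filter fun g : G => g ∈ C ∧ g ≠ 1) = Eab := by
    intro C hC hC3
    refine Finset.eq_of_subset_of_card_le (fun g hg => ?_) ?_
    · simp only [Finset.mem_filter, Finset.mem_univ, true_and] at hg
      simp only [hEab, hE, Finset.mem_filter, Finset.mem_univ, true_and]
      exact hmemA C hC hC3 g hg.1 hg.2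
    · rw [he, show (Finset.univ.filter fun g : G => g ∈ C ∧ g ≠ 1) = (Finset.univ.filter fun g : G => g ∈ C).erase 1 by
        ext g; simp [and_comm]]
      rw [Finset.card_erase_of_mem (by simp), ← Fintype.card_subtype, ← Nat.card_eq_fintype_card]
      show 2 ≤ Nat.card C - 1
      omega
  ext g
  by_cases hg : g = 1
  · simp [hg]
  have := Finset.ext_iff.1 ((hsub A hA hA3).trans (hsub B hB hB3).symm) g
  simpa [hg] using this

end Cfsg.Agent.S0728
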