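import Cfsg.Statements.S0729
import Cfsg.Agent.Lib.Zassenhaus.SharplyEven
import Cfsg.Agent.Lib.Perm.SharplyThree

set_option autoImplicit false
set_option linter.style.haveILetI false
open Cfsg

namespace Cfsg.Agent.S0729

/-- In a sharply triply transitive group of even degree at least 6, the two-point stabiliser `H = G_{a,b}` has a normal subgroup of index 2 that is normalised by the element `s` interchanging `a, b` and fixing a third point `c`. -/
theorem result {α : Type*} [Fintype α] [DecidableEq α] (heven : Even (Fintype.card α)) (h6 : 6 ≤ Fintype.card α) (G : Subgroup (Equiv.Perm α)) (h3 : MulAction.IsMultiplyPretransitive G α 3) (hsharp : ∀ x : Fin 3 ↪ α, MulAction.stabilizer G x = ⊥) {a b c : α} (hab : a ≠ b) (hac : a ≠ c) (hbc : b ≠ c) (s : G) (hsa : s • a = b) (hsb : s • b = a) (hsc : s • c = c) : ∃ N : Subgroup G, N ≤ MulAction.stabilizer G a ⊓ MulAction.stabilizer G b ∧ (N.subgroupOf (MulAction.stabilizer G a ⊓ MulAction.stabilizer G b)).Normal ∧ N.relIndex (MulAction.stabilizer G a ⊓ MulAction.stabilizer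 G b) = 2 ∧ ∀ n ∈ N, s * n * s⁻¹ ∈ N := by
  classical
  have hfree : ∀ g : G, ∀ x y z : α, x ≠ y → y ≠ z → x ≠ z → g • x = x → g • y = y → g • z = z → g = 1 :=
    fun g x y z h1 h2 h3 e1 e2 e3 => Cfsg.Agent.Lib.Perm.SharplyThree.free hsharp h1 h2 h3 e1 e2 e3
  haveI := h3
  have h2 : MulAction.IsMultiplyPretransitive G α 2 :=
    MulAction.isMultiplyPretransitive_of_le (show 2 ≤ 3 by norm_num) (by
      rw [Nat.card_eq_fintype_card]; omega)
  have hz : CfsgLib.Zassenhaus.ZG G α :=
    ⟨fun x y z w hxy hzw => (MulAction.is_two_pretransitive_iff.mp h2) hxy hzw, hfree,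
      by rw [Nat.card_eq_fintype_card]; omega⟩
  set H := MulAction.stabilizer G a ⊓ MulAction.stabilizer G b with hH
  have hcard : Nat.card H + 2 = Nat.card α := by
    let f : H → {x : α // x ∉ ({a, b} : Set α)} := fun h => ⟨(h : G) • c, by
      rintro (e | e)
      · exact hac ((smul_left_cancel_iff (h : G)).mp (e.trans h.2.1.symm)).symm
      · exact hbc ((smul_left_cancel_iff (h : G)).mp (e.trans h.2.2.symm)).symm⟩
    have hf : Function.Bijective f := by
      refine ⟨fun h h' e => Subtype.ext (CfsgLib.Zassenhaus.eq_of_three hz hab hbc hac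
        ((show (h : G) • a = a from h.2.1).trans h'.2.1.symm)
        ((show (h : G) • b = b from h.2.2).trans h'.2.2.symm) (congrArg Subtype.val e)), fun ⟨d, hd⟩ => ?_⟩
      simp only [Set.mem_insert_iff, Set.mem_singleton_iff, not_or] at hd
      let t : Fin 3 ↪ α := ⟨![a, b, c], by
        intro i j hij
        fin_cases i <;> fin_cases j <;> first | rfl | (exfalso; simp at hij; tauto)⟩
      let t' : Fin 3 ↪ α := ⟨![a, b, d], by
        intro i j hij
        fin_cases i <;> fin_cases j <;> first | rfl | (exfalso; simp at hij; tauto)⟩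
      obtain ⟨g, hg⟩ := MulAction.exists_smul_eq G t t'
      refine ⟨⟨g, ?_, ?_⟩, Subtype.ext ?_⟩
      · exact congrArg (fun e : Fin 3 ↪ α => e 0) hg
      · exact congrArg (fun e : Fin 3 ↪ α => e 1) hg
      · exact congrArg (fun e : Fin 3 ↪ α => e 2) hg
    rw [Nat.card_congr (Equiv.ofBijective f hf),
      show Nat.card {x : α // x ∉ ({a, b} : Set α)} = ({a, b} : Set α)ᶜ.ncard from Nat.card_coe_set_eq _,
      Set.ncard_compl, Set.ncard_pair hab, Nat.card_eq_fintype_card]
    omega
  obtain ⟨M, hM, hMi, hMH⟩ := CfsgLib.Zassenhaus.exists_index_two hz hab hcard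
    (by rwa [Nat.card_eq_fintype_card])
  haveI := hM
  refine ⟨M ⊓ H, inf_le_right, ?_, ?_, fun n hn => ?_⟩
  · rw [Subgroup.inf_subgroupOf_right]
    infer_instance
  · rw [Subgroup.inf_relIndex_right]
    have hd := Subgroup.relIndex_dvd_index_of_normal M H
    rw [hMi] at hd
    rcases (Nat.dvd_prime Nat.prime_two).mp hd with h | h
    · exact absurd (Subgroup.relIndex_eq_one.mp h) hMH
    · exact h
  · have hsi : ∀ {x y : α}, s • x = y → s⁻¹ • y = x := fun e => by rw [← e, inv_smul_smul]
    refine ⟨hM.conj_mem n hn.1 s, ?_, ?_⟩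
    · show (s * n * s⁻¹) • a = a
      rw [mul_smul, mul_smul, hsi hsb, show n • b = b from hn.2.2, hsb]
    · show (s * n * s⁻¹) • b = b
      rw [mul_smul, mul_smul, hsi hsa, show n • a = a from hn.2.1, hsa]

end Cfsg.Agent.S0729
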