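import Cfsg.Statements.S0733
import Mathlib.Algebra.Module.ZMod

set_option autoImplicit false
open Cfsg

namespace Cfsg.Agent.S0733

open Pointwise


/-- A permutation group of affine type — generated by the translations of a finite vector space `V` over `ZMod p` together with a group `G₀` of linear automorphisms — is primitive on `V` if and only if `G₀` is irreducible on `V`. -/
theorem result {p : ℕ} [Fact p.Prime] {V : Type*} [AddCommGroup V] [Module (ZMod p) V] [Finite V] [Nontrivial V] (G₀ : Subgroup (V ≃ₗ[ZMod p] V)) (G : Subgroup (Equiv.Perm V)) (hG : ∀ σ : Equiv.Perm V, σ ∈ G ↔ ∃ g ∈ G₀, ∃ b : V, ∀ x : V, σ x = (g : V ≃ₗ[ZMod p] V) x + b) : MulAction.IsPreprimitive G V ↔ ∀ W : Submodule (ZMod p) V, (∀ g ∈ G₀, ∀ v ∈ W, (g : V ≃ₗ[ZMod p] V) v ∈ W) → W = ⊥ ∨ W = ⊤ := by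
  have hmem : ∀ g ∈ G₀, ∀ b : V, ∃ σ : G, ∀ x, σ • x = (g : V ≃ₗ[ZMod p] V) x + b := by
    intro g hg b
    refine ⟨⟨(g.toEquiv.trans (Equiv.addRight b)), (hG _).2 ⟨g, hg, b, fun x => rfl⟩⟩, fun x => rfl⟩
  have htr : MulAction.IsPretransitive G V := by
    refine ⟨fun x y => ?_⟩
    obtain ⟨σ, hσ⟩ := hmem 1 (one_mem _) (y - x)
    exact ⟨σ, by rw [hσ]; simp⟩
  constructor
  · intro hp W hW
    have hB : MulAction.IsBlock G (W : Set V) := by
      rw [MulAction.isBlock_iff_smul_eq_of_nonempty]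
      intro σ hne
      obtain ⟨z, ⟨w, hw, rfl⟩, hz⟩ := hne
      obtain ⟨g, hg, b, hb⟩ := (hG σ.1).1 σ.2
      have hσ : ∀ x, σ • x = g x + b := hb
      have hzw : g w + b ∈ W := by rw [← hσ]; exact hz
      have hb' : b ∈ W := by simpa using W.sub_mem hzw (hW g hg w hw)
      ext u
      constructor
      · rintro ⟨v, hv, rfl⟩
        show σ • v ∈ W
        rw [hσ]
        exact W.add_mem (hW g hg v hv) hb'
      · intro hu
        refine ⟨g.symm (u - b), ?_, by simp [hσ]⟩
        have := hW (g⁻¹) (inv_mem hg) (u - b) (W.sub_mem hu hb')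
        exact this
    rcases hp.isTrivialBlock_of_isBlock hB with h | h
    · left
      exact (Submodule.eq_bot_iff _).2 fun x hx => h hx W.zero_mem
    · right
      exact SetLike.coe_injective h
  · intro h
    refine MulAction.IsPreprimitive.of_isTrivialBlock_base (0 : V) ?_
    intro B h0 hB
    have hadd : ∀ a ∈ B, ∀ b ∈ B, a + b ∈ B := by
      intro a ha b hb
      obtain ⟨σ, hσ⟩ := hmem 1 (one_mem _) b
      have : σ • B = B := hB.smul_eq_of_nonempty ⟨b, ⟨0, h0, by simp [hσ]⟩, hb⟩
      rw [← this]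
      exact ⟨a, ha, by simp [hσ]⟩
    let M : AddSubmonoid V := ⟨⟨B, fun ha hb => hadd _ ha _ hb⟩, h0⟩
    have hneg : ∀ a ∈ B, -a ∈ B := by
      intro a ha
      have hn := M.nsmul_mem ha (p - 1)
      have hpa : (p : ℕ) • a = 0 := by
        rw [← Nat.cast_smul_eq_nsmul (ZMod p), ZMod.natCast_self, zero_smul]
      have : (p - 1) • a = -a := by
        rw [eq_neg_iff_add_eq_zero, ← succ_nsmul, Nat.sub_add_cancel (Fact.out : p.Prime).pos, hpa]
      rw [this] at hn
      exact hn
    let A : AddSubgroup V := { M with neg_mem' := fun {a} ha => hneg a ha }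
    rcases h (AddSubgroup.toZModSubmodule p A) (by
      intro g hg v hv
      obtain ⟨σ, hσ⟩ := hmem g hg 0
      have : σ • B = B := hB.smul_eq_of_nonempty ⟨0, ⟨0, h0, by simp [hσ]⟩, h0⟩
      show g v ∈ B
      rw [← this]
      exact ⟨v, hv, by simp [hσ]⟩) with hW | hW
    · left
      intro x hx y hy
      have hx' : x ∈ AddSubgroup.toZModSubmodule p A := hx
      have hy' : y ∈ AddSubgroup.toZModSubmodule p A := hy
      rw [hW, Submodule.mem_bot] at hx' hy'
      rw [hx', hy']
    · right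
      refine Set.eq_univ_of_forall fun x => ?_
      have : x ∈ AddSubgroup.toZModSubmodule p A := by rw [hW]; trivial
      exact this

end Cfsg.Agent.S0733
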