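import Cfsg.Statements.S0734

set_option autoImplicit false
open Cfsg

namespace Cfsg.Agent.S0734

open Pointwise


/-- Higman's criterion for primitivity: a transitive action on a finite set is primitive if and only if every non-trivial orbital graph (edges = images of a fixed pair of distinct points) is connected. -/
theorem result {G : Type*} [Group G] {Ω : Type*} [Finite Ω] [MulAction G Ω] [MulAction.IsPretransitive G Ω] [Nontrivial Ω] : MulAction.IsPreprimitive G Ω ↔ ∀ a b : Ω, a ≠ b → (SimpleGraph.fromRel fun x y : Ω => ∃ g : G, g • a = x ∧ g • b = y).Connected := by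
  constructor
  · intro hp a b hab
    set Γ := SimpleGraph.fromRel fun x y : Ω => ∃ g : G, g • a = x ∧ g • b = y
    have hadj : ∀ (g : G) x y, Γ.Adj x y → Γ.Adj (g • x) (g • y) := by
      intro g x y hxy
      rw [SimpleGraph.fromRel_adj] at hxy ⊢
      refine ⟨fun he => hxy.1 (smul_left_cancel g he), ?_⟩
      rcases hxy.2 with ⟨h, h1, h2⟩ | ⟨h, h1, h2⟩
      · exact Or.inl ⟨g * h, by simp [mul_smul, h1], by simp [mul_smul, h2]⟩
      · exact Or.inr ⟨g * h, by simp [mul_smul, h1], by simp [mul_smul, h2]⟩
    have hre : ∀ (g : G) x y, Γ.Reachable x y → Γ.Reachable (g • x) (g • y) := by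
      intro g x y hxy
      exact hxy.map (⟨fun z => g • z, fun {u v} huv => hadj g u v huv⟩ : Γ →g Γ)
    have hB : MulAction.IsBlock G {x | Γ.Reachable a x} := by
      rw [MulAction.isBlock_iff_smul_eq_of_nonempty]
      rintro g ⟨z, ⟨w, hw, rfl⟩, hz⟩
      have hga : Γ.Reachable a (g • a) :=
        (show Γ.Reachable a (g • w) from hz).trans (hre g _ _ (show Γ.Reachable a w from hw)).symm
      ext u
      constructor
      · rintro ⟨v, hv, rfl⟩
        exact hga.trans (hre g _ _ hv)
      · intro hu
        refine ⟨g⁻¹ • u, ?_, by simp⟩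
        have h1 := hre g⁻¹ _ _ (hga.symm.trans hu)
        rw [inv_smul_smul] at h1
        exact h1
    rcases hp.isTrivialBlock_of_isBlock hB with h | h
    · exfalso
      refine hab (h (SimpleGraph.Reachable.refl a) (SimpleGraph.Adj.reachable ?_))
      rw [SimpleGraph.fromRel_adj]
      exact ⟨hab, Or.inl ⟨1, by simp, by simp⟩⟩
    · exact SimpleGraph.Connected.mk fun u v =>
        (Set.eq_univ_iff_forall.1 h u : Γ.Reachable a u).symm.trans (Set.eq_univ_iff_forall.1 h v)
  · intro h
    refine { isTrivialBlock_of_isBlock := fun {B} hB => ?_ }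
    by_cases hs : B.Subsingleton
    · exact Or.inl hs
    obtain ⟨a, ha, b, hb, hab⟩ := Set.not_subsingleton_iff.1 hs
    right
    refine Set.eq_univ_of_forall fun z => ?_
    obtain ⟨w⟩ := (h a b hab).preconnected a z
    suffices ∀ u v, (SimpleGraph.fromRel fun x y : Ω => ∃ g : G, g • a = x ∧ g • b = y).Walk u v →
        u ∈ B → v ∈ B from this a z w ha
    intro u v w
    induction w with
    | nil => exact id
    | @cons x y _ hxy _ ih =>
      intro hx
      apply ih
      rw [SimpleGraph.fromRel_adj] at hxy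
      rcases hxy.2 with ⟨g, h1, h2⟩ | ⟨g, h1, h2⟩
      · have : g • B = B := hB.smul_eq_of_nonempty ⟨x, ⟨a, ha, h1⟩, hx⟩
        rw [← this]; exact ⟨b, hb, h2⟩
      · have : g • B = B := hB.smul_eq_of_nonempty ⟨x, ⟨b, hb, h2⟩, hx⟩
        rw [← this]; exact ⟨a, ha, h1⟩

end Cfsg.Agent.S0734
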