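import Cfsg.Statements.S0735

set_option autoImplicit false
open Cfsg

namespace Cfsg.Agent.S0735

open Pointwise


/-- A 2-homogeneous permutation group (transitive on 2-subsets) of even order is doubly transitive; a non-trivial 2-homogeneous group is primitive. -/
theorem result {α : Type*} [Fintype α] [DecidableEq α] (G : Subgroup (Equiv.Perm α)) (h2 : MulAction.IsPretransitive G (Set.powersetCard α 2)) (hα : 3 ≤ Fintype.card α) : (Even (Nat.card G) → MulAction.IsMultiplyPretransitive G α 2) ∧ (G ≠ ⊥ → MulAction.IsPreprimitive G α) := by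
  classical
  have hpair : ∀ a b c d : α, a ≠ b → c ≠ d → ∃ g : G, (g • a = c ∧ g • b = d) ∨ (g • a = d ∧ g • b = c) := by
    intro a b c d hab hcd
    obtain ⟨g, hg⟩ := h2.exists_smul_eq (⟨{a, b}, Finset.card_pair hab⟩ : Set.powersetCard α 2)
      ⟨{c, d}, Finset.card_pair hcd⟩
    have hs : g • ({a, b} : Finset α) = {c, d} := congrArg Subtype.val hg
    have hga : g • a ∈ ({c, d} : Finset α) := hs ▸ Finset.smul_mem_smul_finset (by simp)
    have hgb : g • b ∈ ({c, d} : Finset α) := hs ▸ Finset.smul_mem_smul_finset (by simp)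
    have hne : g • a ≠ g • b := fun he => hab (smul_left_cancel g he)
    simp only [Finset.mem_insert, Finset.mem_singleton] at hga hgb
    refine ⟨g, ?_⟩
    rcases hga with h | h <;> rcases hgb with h' | h'
    · exact absurd (h.trans h'.symm) hne
    · exact Or.inl ⟨h, h'⟩
    · exact Or.inr ⟨h, h'⟩
    · exact absurd (h.trans h'.symm) hne
  have hthird : ∀ a b : α, ∃ c, c ≠ a ∧ c ≠ b := by
    intro a b
    obtain ⟨c, _, hc⟩ := Finset.exists_mem_notMem_of_card_lt_card (s := {a, b}) (t := Finset.univ)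
      (lt_of_le_of_lt Finset.card_le_two (by rw [Finset.card_univ]; omega))
    simp at hc
    exact ⟨c, hc.1, hc.2⟩
  constructor
  · intro hev
    haveI : Fintype G := Fintype.ofFinite _
    obtain ⟨s, hs⟩ := exists_prime_orderOf_dvd_card' 2 (even_iff_two_dvd.1 hev)
    obtain ⟨x, hx⟩ : ∃ x, s • x ≠ x := by
      apply Classical.byContradiction
      intro hc
      push Not at hc
      have : s = 1 := Subtype.ext (Equiv.ext hc)
      simp [this] at hs
    have hss : ∀ z : α, s • s • z = z := fun z => by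
      rw [← mul_smul, ← sq, ← hs, pow_orderOf_eq_one, one_smul]
    have hswap : ∀ c d : α, c ≠ d → ∃ t : G, t • c = d ∧ t • d = c := by
      intro c d hcd
      obtain ⟨g, hg⟩ := hpair x (s • x) c d (fun he => hx he.symm) hcd
      refine ⟨g * s * g⁻¹, ?_⟩
      rcases hg with ⟨h1, h2⟩ | ⟨h1, h2⟩ <;>
        simp [mul_smul, ← h1, ← h2, hss]
    rw [MulAction.is_two_pretransitive_iff]
    intro a b c d hab hcd
    obtain ⟨g, ⟨h1, h2⟩ | ⟨h1, h2⟩⟩ := hpair a b c d hab hcd
    · exact ⟨g, h1, h2⟩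
    · obtain ⟨t, t1, t2⟩ := hswap c d hcd
      exact ⟨t * g, by rw [mul_smul, h1, t2], by rw [mul_smul, h2, t1]⟩
  · intro _
    haveI : MulAction.IsPretransitive G α := by
      refine ⟨fun a b => ?_⟩
      by_cases hab : a = b
      · exact ⟨1, by simp [hab]⟩
      obtain ⟨c, hca, hcb⟩ := hthird a b
      obtain ⟨g, ⟨h1, h2⟩ | ⟨h1, h2⟩⟩ := hpair a c b c (Ne.symm hca) (Ne.symm hcb)
      · exact ⟨g, h1⟩
      · obtain ⟨k, ⟨k1, k2⟩ | ⟨k1, k2⟩⟩ := hpair a c a b (Ne.symm hca) hab
        · exact ⟨k * g, by rw [mul_smul, h1, k2]⟩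
        · exact ⟨k, k1⟩
    refine { isTrivialBlock_of_isBlock := fun {B} hB => ?_ }
    by_cases hs : B.Subsingleton
    · exact Or.inl hs
    obtain ⟨a, ha, b, hb, hab⟩ := Set.not_subsingleton_iff.1 hs
    right
    refine Set.eq_univ_of_forall fun c => ?_
    by_cases hca : a = c
    · exact hca ▸ ha
    obtain ⟨g, hg⟩ := hpair a b a c hab hca
    have : g • B = B := by
      rcases hg with ⟨h1, _⟩ | ⟨_, h2⟩
      · exact hB.smul_eq_of_nonempty ⟨a, ⟨a, ha, h1⟩, ha⟩
      · exact hB.smul_eq_of_nonempty ⟨a, ⟨b, hb, h2⟩, ha⟩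
    rw [← this]
    rcases hg with ⟨_, h2⟩ | ⟨h1, _⟩
    · exact ⟨b, hb, h2⟩
    · exact ⟨a, ha, h1⟩

end Cfsg.Agent.S0735
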