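import Cfsg.Statements.S0737
import Cfsg.Agent.S0735
import Cfsg.Agent.Lib.OddOrder.Solvable
import Cfsg.Agent.Lib.Perm.Isospectral
import Cfsg.Agent.Lib.Perm.SignTransitive
-- import your own Cfsg.Agent.* helpers here

set_option autoImplicit false
set_option linter.style.haveILetI false
set_option linter.unusedSimpArgs false
open Cfsg

namespace Cfsg.Agent.S0737

open MulAction Pointwise

/-- A non-trivial 2-homogeneous permutation group that is not doubly transitive has odd order and degree `p^f ≡ 3 (mod 4)`, and is permutation-isomorphic to a group of semi-affine transformations `x ↦ a φ(x) + b` of the field with `p^f` elements containing all translations. -/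
theorem result {α : Type*} [Fintype α] [DecidableEq α] (G : Subgroup (Equiv.Perm α)) (hne : G ≠ ⊥) (h2 : MulAction.IsPretransitive G (Set.powersetCard α 2)) (hn2 : ¬ MulAction.IsMultiplyPretransitive G α 2) : Odd (Nat.card G) ∧ ∃ (p f : ℕ) (_ : Fact p.Prime), p ≠ 2 ∧ Fintype.card α = p ^ f ∧ p ^ f % 4 = 3 ∧ ∃ e : α ≃ GaloisField p f, (∀ g : G, e.symm.trans (((g : Equiv.Perm α)).trans e) ∈ Cfsg.semiaffineGroup (GaloisField p f)) ∧ ∀ b : GaloisField p f, ∃ g : G, ∀ x : α, e ((g : Equiv.Perm α) x) = e x + b := by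
  classical
  -- degree at least three
  have hα : 3 ≤ Fintype.card α := by
    by_contra hlt
    obtain ⟨g, hg1⟩ : ∃ g : G, g ≠ 1 := by
      obtain ⟨g, hg, hg1⟩ := (Subgroup.bot_or_exists_ne_one G).resolve_left hne
      exact ⟨⟨g, hg⟩, fun e => hg1 (congrArg Subtype.val e)⟩
    obtain ⟨x, hx⟩ : ∃ x, g • x ≠ x := by
      by_contra hc
      push Not at hc
      exact hg1 (Subtype.ext (Equiv.ext hc))
    have hall : ∀ y, y = x ∨ y = g • x := by
      intro y
      by_contra hy
      push Not at hy
      exact hlt (Fintype.two_lt_card_iff.mpr ⟨x, g • x, y, hx.symm, hy.1.symm, hy.2.symm⟩)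
    have hgg : g • g • x = x := by
      rcases hall (g • g • x) with h | h
      · exact h
      · exact absurd (smul_left_cancel g h) hx
    apply hn2
    rw [MulAction.is_two_pretransitive_iff]
    intro a b c d hab hcd
    rcases hall a with rfl | rfl <;> rcases hall b with rfl | rfl <;> rcases hall c with rfl | rfl <;>
      rcases hall d with rfl | rfl <;>
      first
      | exact absurd rfl hab
      | exact absurd rfl hcd
      | exact ⟨1, one_smul _ _, one_smul _ _⟩
      | exact ⟨g, rfl, hgg⟩
      | exact ⟨g, hgg, rfl⟩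
  obtain ⟨hev, hprim⟩ := Cfsg.Agent.S0735.result G h2 hα
  haveI := hprim hne
  have hodd : Odd (Nat.card G) := Nat.not_even_iff_odd.mp fun h => hn2 (hev h)
  refine ⟨hodd, ?_⟩
  haveI : Group.IsSolvable G := CfsgLib.OddOrder.odd_order_solvable hodd
  haveI : Nontrivial G := (Subgroup.nontrivial_iff_ne_bot G).mpr hne
  haveI : Group.IsSolvable (⊤ : Subgroup G) :=
    Group.isSolvable_of_isSolvable_injective (Subgroup.subtype_injective _)
  obtain ⟨N, p, hp, hNn, hNne, hcomm, hexp⟩ :=
    CfsgLib.Isospectral.exists_elementary (⊤ : Subgroup G) top_ne_bot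
  haveI := hNn
  haveI := Fact.mk hp
  haveI : Nonempty α := Fintype.card_pos_iff.mp (by omega)
  obtain ⟨a⟩ := ‹Nonempty α›
  have hfaith : ∀ m : G, (∀ x : α, m • x = x) → m = 1 := fun m h => Subtype.ext (Equiv.ext h)
  haveI : IsPretransitive N α := by
    refine IsQuasiPreprimitive.isPretransitive_of_normal ?_
    intro hfix
    obtain ⟨m, hm, hm1⟩ := (Subgroup.bot_or_exists_ne_one N).resolve_left hNne
    refine hm1 (hfaith m fun x => ?_)
    have hx : x ∈ fixedPoints N α := hfix ▸ Set.mem_univ x
    exact hx ⟨m, hm⟩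
  have hbij : Function.Bijective fun w : N => (w : G) • a := by
    refine ⟨fun v w e => ?_, fun x => ?_⟩
    · refine Subtype.ext (inv_mul_eq_one.mp (hfaith _ fun x => ?_))
      obtain ⟨u, rfl⟩ := exists_smul_eq N a x
      show ((v : G)⁻¹ * (w : G)) • ((u : G) • a) = (u : G) • a
      rw [← mul_smul, ← hcomm _ u.2 _ (mul_mem (inv_mem v.2) w.2), mul_smul, mul_smul]
      congr 1
      rw [inv_smul_eq_iff]
      exact e.symm
    · exact exists_smul_eq N a x
  letI : CommGroup N :=
    { (inferInstance : Group N) with mul_comm := fun x y => Subtype.ext (hcomm x x.2 y y.2) }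
  have hexp' : ∀ x : Additive N, p • x = 0 := fun x => by
    apply Additive.toMul.injective
    rw [toMul_nsmul, toMul_zero]
    exact Subtype.ext (hexp _ x.toMul.2)
  -- coordinates
  let pt : Additive N ≃ α := Additive.toMul.trans (Equiv.ofBijective _ hbij)
  have hpt : ∀ x : Additive N, pt x = ((x.toMul : N) : G) • a := fun _ => rfl
  have hpt0 : pt 0 = a := (hpt 0).trans (one_smul G a)
  let cj : G → Additive N ≃+ Additive N := fun g =>
    MulEquiv.toAdditive (MulAut.conjNormal g : MulAut N)
  have hcjv : ∀ (g : G) (x : Additive N),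
      (((cj g x).toMul : N) : G) = g * ((x.toMul : N) : G) * g⁻¹ :=
    fun g x => MulAut.conjNormal_apply g x.toMul
  have hptA : ∀ (g : G), g • a = a → ∀ x, pt (cj g x) = g • pt x := fun g hg x => by
    rw [hpt, hpt, hcjv, mul_smul, mul_smul, inv_smul_eq_iff.mpr hg.symm]
  -- degree
  have hcardN : Nat.card N = Fintype.card α := by
    rw [Nat.card_congr (Equiv.ofBijective _ hbij), Nat.card_eq_fintype_card]
  obtain ⟨f, hf⟩ : ∃ f, Nat.card N = p ^ f := by
    haveI := Fact.mk hp
    exact IsPGroup.exists_card_eq (G := N)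
      (fun x => ⟨1, Subtype.ext (by rw [pow_one]; exact hexp _ x.2)⟩)
  have hf0 : f ≠ 0 := fun h => by rw [h, pow_zero] at hf; omega
  have hp2 : p ≠ 2 := by
    rintro rfl
    have h := (hodd.of_dvd_nat ((hf ▸ dvd_pow_self 2 hf0 : 2 ∣ Nat.card N).trans
      (Subgroup.card_subgroup_dvd_card N)))
    exact absurd h (by decide)
  have hchoose : Odd ((p ^ f).choose 2) := by
    haveI := h2
    obtain ⟨b, c, hbc⟩ : ∃ b c : α, b ≠ c := Fintype.one_lt_card_iff.mp (by omega)
    refine hodd.of_dvd_nat ?_
    have h := MulAction.index_stabilizer_of_transitive G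
      (⟨{b, c}, Finset.card_pair hbc⟩ : Set.powersetCard α 2)
    have hcard : Nat.card (Set.powersetCard α 2) = (p ^ f).choose 2 := by
      rw [Set.powersetCard.card, ← hf, hcardN, Nat.card_eq_fintype_card]
    rw [← hcard]
    refine Eq.mp (congrArg (· ∣ Nat.card G) h) ?_
    exact Subgroup.index_dvd_card _
  have hmod : p ^ f % 4 = 3 := by
    have hp' : Odd (p ^ f) := (hp.odd_of_ne_two hp2).pow
    rw [Nat.choose_two_right, Nat.odd_iff] at hchoose
    obtain ⟨k, hk⟩ := hp'
    rw [hk, Nat.add_sub_cancel] at hchoose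
    rw [show (2 * k + 1) * (2 * k) / 2 = (2 * k + 1) * k by
      rw [← mul_assoc, mul_comm _ 2, mul_assoc, mul_comm 2, Nat.mul_div_cancel _ two_pos]] at hchoose
    rw [Nat.mul_mod] at hchoose
    rw [hk]
    rcases Nat.mod_two_eq_zero_or_one k with h | h
    · rw [h] at hchoose; simp at hchoose
    · omega
  have htr : ∀ v w : Additive N, v ≠ 0 → w ≠ 0 →
      ∃ k : stabilizer G a, cj k v = w ∨ cj k v = -w := by
    intro v w hv hw
    have hne' : ∀ z, z ≠ 0 → a ≠ pt z := fun z hz e => hz (pt.injective (e.symm.trans hpt0.symm))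
    obtain ⟨g, hg⟩ := h2.exists_smul_eq
      (⟨{a, pt v}, Finset.card_pair (hne' v hv)⟩ : Set.powersetCard α 2)
      ⟨{a, pt w}, Finset.card_pair (hne' w hw)⟩
    have hs : g • ({a, pt v} : Finset α) = {a, pt w} := congrArg Subtype.val hg
    have hga : g • a ∈ ({a, pt w} : Finset α) := hs ▸ Finset.smul_mem_smul_finset (by simp)
    have hgb : g • pt v ∈ ({a, pt w} : Finset α) := hs ▸ Finset.smul_mem_smul_finset (by simp)
    have hne2 : g • a ≠ g • pt v := fun he => hne' v hv (smul_left_cancel g he)
    simp only [Finset.mem_insert, Finset.mem_singleton] at hga hgb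
    rcases hga with h | h <;> rcases hgb with h' | h'
    · exact absurd (h.trans h'.symm) hne2
    · exact ⟨⟨g, h⟩, Or.inl (pt.injective (by rw [hptA g h, h']))⟩
    · -- composed with the translation back to `a`
      have hh : ((((w.toMul : N) : G))⁻¹ * g) • a = a := by
        rw [mul_smul, h, hpt, inv_smul_smul]
      refine ⟨⟨_, hh⟩, Or.inr (pt.injective ?_)⟩
      rw [hptA _ hh, mul_smul, h', hpt (-w), toMul_neg, Subgroup.coe_inv]
    · exact absurd (h.trans h'.symm) hne2
  haveI : Nontrivial N := (Subgroup.nontrivial_iff_ne_bot N).mpr hNne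
  haveI : Group.IsSolvable (stabilizer G a) :=
    Group.isSolvable_of_isSolvable_injective (Subgroup.subtype_injective _)
  obtain ⟨e, he⟩ := CfsgLib.SignTransitive.exists_field (K := stabilizer G a) (W := Additive N) hexp' hp2 hf hmod
    (hodd.of_dvd_nat (Subgroup.card_subgroup_dvd_card _)) (fun k => cj (k : G))
    (fun g h x => by
      apply Additive.toMul.injective
      show (MulAut.conjNormal ((g : G) * (h : G)) : MulAut N) x.toMul =
        MulAut.conjNormal (g : G) (MulAut.conjNormal (h : G) x.toMul)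
      rw [map_mul]; rfl)
    (fun k hk => Subtype.ext (hfaith _ fun z => by rw [← pt.apply_symm_apply z, ← hptA k k.2, hk]))
    htr
  let E : α ≃ GaloisField p f := pt.symm.trans e.toEquiv
  have hEpt : ∀ x, E (pt x) = e x := fun x => by simp [E]
  refine ⟨p, f, inferInstance, hp2, by rw [← hcardN, hf], hmod, E, ?_, fun b => ?_⟩
  · intro g
    set v := pt.symm (g • a) with hv
    have hva : ((v.toMul : N) : G) • a = g • a := by rw [← hpt, hv, pt.apply_symm_apply]
    have hh : ((((v.toMul : N) : G))⁻¹ * g) • a = a := by rw [mul_smul, ← hva, inv_smul_smul]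
    obtain ⟨c, σ, hcσ⟩ := he ⟨_, hh⟩
    refine ⟨c, e v, σ, fun y => ?_⟩
    obtain ⟨z, rfl⟩ := E.surjective y
    obtain ⟨x, rfl⟩ := pt.surjective z
    show E ((g : Equiv.Perm α) (E.symm (E (pt x)))) = _
    rw [E.symm_apply_apply]
    have hgx : g • pt x = pt (v + cj ((((v.toMul : N) : G))⁻¹ * g) x) := by
      rw [hpt (v + _), toMul_add, Subgroup.coe_mul, mul_smul, ← hpt (cj _ x), hptA _ hh, mul_smul,
        smul_inv_smul]
    show E (g • pt x) = _
    rw [hgx, hEpt, hEpt, map_add, add_comm]
    exact congrArg (· + e v) (hcσ x)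
  · obtain ⟨w, hw⟩ := e.surjective b
    refine ⟨((w.toMul : N) : G), fun z => ?_⟩
    obtain ⟨x, rfl⟩ := pt.surjective z
    have : ((w.toMul : N) : G) • pt x = pt (w + x) := by
      rw [hpt, hpt, toMul_add, Subgroup.coe_mul, mul_smul]
    rw [← hw]
    show E (((w.toMul : N) : G) • pt x) = _
    rw [this, hEpt, hEpt, map_add, add_comm]

end Cfsg.Agent.S0737
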