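import Cfsg.Statements.S0739
import Cfsg.Agent.Lib.Zassenhaus.OddStab

set_option autoImplicit false
set_option linter.style.haveILetI false
open Cfsg

namespace Cfsg.Agent.S0739

/-- In a finite Zassenhaus group whose two-point stabiliser `H = G_{a,b}` has odd order `d`, and which has no normal `q`-complement for any prime `q ∣ d`, `H` is cyclic, `C_G(H) = H`, and every element swapping `a` and `b` inverts each element of `H`. -/
theorem result {G Ω : Type*} [Group G] [Finite G] [MulAction G Ω] [Fintype Ω] (hZ : Cfsg.IsZassenhausGroup G Ω) {a b : Ω} (hab : a ≠ b) (hodd : Odd (Nat.card ↥(MulAction.stabilizer G a ⊓ MulAction.stabilizer G b))) (hnil : ∀ q : ℕ, q.Prime → q ∣ Nat.card ↥(MulAction.stabilizer G a ⊓ MulAction.stabilizer G b) → ¬ ∃ N : Subgroup G, N.Normal ∧ N.index = q ^ (Nat.card G).factorization q) : IsCyclic ↥(MulAction.stabilizer G a ⊓ MulAction.stabilizer G b) ∧ Subgroup.centralizer ((MulAction.stabilizer G a ⊓ MulAction.stabilizer G b : Subgroup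 G) : Set G) = MulAction.stabilizer G a ⊓ MulAction.stabilizer G b ∧ ∀ s : G, s • a = b → s • b = a → ∀ h ∈ MulAction.stabilizer G a ⊓ MulAction.stabilizer G b, s * h * s⁻¹ = h⁻¹ := by
  classical
  have hz : CfsgLib.Zassenhaus.ZG G Ω := CfsgLib.Zassenhaus.ZG.mk' hZ.1 hZ.2.1 hZ.2.2.1 hZ.2.2.2.1
  have hne : CfsgLib.Zassenhaus.D2 G a b ≠ ⊥ := by
    obtain ⟨g, hg1, c, d, hcd, hgc, hgd⟩ := hZ.2.2.2.1
    obtain ⟨x, hxa, hxb⟩ := hz.trans c d a b hcd hab
    intro h
    have hm : x * g * x⁻¹ ∈ CfsgLib.Zassenhaus.D2 G a b := CfsgLib.Zassenhaus.mem_D2.mpr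
      ⟨by rw [← hxa, mul_smul, mul_smul, inv_smul_smul, hgc],
       by rw [← hxb, mul_smul, mul_smul, inv_smul_smul, hgd]⟩
    rw [h, Subgroup.mem_bot] at hm
    exact hg1 (conj_eq_one_iff.mp hm)
  obtain ⟨hcyc, hinv⟩ := CfsgLib.Zassenhaus.odd_stab' hz hab hne hodd hnil
  refine ⟨hcyc, le_antisymm ?_ ?_, hinv⟩
  · intro g hg
    obtain ⟨h, hh, hh1⟩ := (CfsgLib.Zassenhaus.D2 G a b).bot_or_exists_ne_one.resolve_left hne
    have hc : h * g = g * h := Subgroup.mem_centralizer_iff.mp hg h hh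
    have hga := CfsgLib.Zassenhaus.fixed_of_mem hz hab hh hh1 (x := g • a)
      (by rw [smul_smul, hc, mul_smul, show h • a = a from hh.1])
    have hgb := CfsgLib.Zassenhaus.fixed_of_mem hz hab hh hh1 (x := g • b)
      (by rw [smul_smul, hc, mul_smul, show h • b = b from hh.2])
    rcases hga with hga | hga <;> rcases hgb with hgb | hgb
    · exact absurd ((smul_left_cancel_iff g).mp (hga.trans hgb.symm)) hab
    · exact ⟨hga, hgb⟩
    · exfalso
      have h1 := hinv g hga hgb h hh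
      rw [← hc, mul_inv_cancel_right] at h1
      have h2 : h ^ 2 = 1 := by
        rw [pow_two]; nth_rewrite 1 [h1]; rw [inv_mul_cancel]
      have h3 : orderOf h ∣ 2 := orderOf_dvd_of_pow_eq_one h2
      rcases (Nat.dvd_prime Nat.prime_two).mp h3 with h4 | h4
      · exact hh1 (orderOf_eq_one_iff.mp h4)
      · exact Nat.not_even_iff_odd.mpr hodd (even_iff_two_dvd.mpr
          (h4 ▸ Subgroup.orderOf_dvd_natCard _ hh))
    · exact absurd ((smul_left_cancel_iff g).mp (hga.trans hgb.symm)) hab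
  · intro x hx
    rw [Subgroup.mem_centralizer_iff]
    intro y hy
    exact congrArg Subtype.val ((IsCyclic.commGroup (α := CfsgLib.Zassenhaus.D2 G a b)).mul_comm ⟨y, hy⟩ ⟨x, hx⟩)

end Cfsg.Agent.S0739
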