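import Cfsg.Statements.S0740

set_option autoImplicit false
open Cfsg

namespace Cfsg.Agent.S0740

/-- In a finite Zassenhaus group any two points `a ≠ b` are swapped by an involution; every such involution has exactly one fixed point when the degree is odd and 0 or 2 fixed points when the degree is even; and if the two-point stabiliser has even order, some such involution has exactly 2 fixed points. -/
theorem result {G Ω : Type*} [Group G] [Finite G] [MulAction G Ω] [Fintype Ω] (hZ : Cfsg.IsZassenhausGroup G Ω) {a b : Ω} (hab : a ≠ b) : (∃ s : G, orderOf s = 2 ∧ s • a = b ∧ s • b = a) ∧ (∀ s : G, orderOf s = 2 → s • a = b → s • b = a → (Odd (Fintype.card Ω) → Nat.card (MulAction.fixedBy Ω s) = 1) ∧ (Even (Fintype.card Ω) → Nat.card (MulAction.fixedBy Ω s) = 0 ∨ Nat.card (MulAction.fixedBy Ω s) = 2)) ∧ (Even (Fintype.card Ω) → Even (Nat.card ↥(MulAction.stabilizer G a ⊓ MulAction.stabilizer G b)) → ∃ s : G, orderOf s = 2 ∧ s • a = b ∧ s • b = a ∧ Nat.card (MulAction.fixedBy Ω s) = 2) := by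
  classical
  obtain ⟨hf, h2, h3, ⟨g0, hg0, p0, q0, hpq, hp0, hq0⟩, -⟩ := hZ
  haveI := hf
  rw [MulAction.is_two_pretransitive_iff] at h2
  have hconj : ∀ t : G, orderOf t = 2 → ∀ c : Ω, t • c ≠ c → ∃ g : G, orderOf (g * t * g⁻¹) = 2 ∧
      (g * t * g⁻¹) • a = b ∧ (g * t * g⁻¹) • b = a := by
    intro t ht c hc
    have htt : t • t • c = c := by rw [← mul_smul, ← sq, ← ht, pow_orderOf_eq_one, one_smul]
    obtain ⟨g, h1, h2'⟩ := h2 (Ne.symm hc) hab
    refine ⟨g, ?_, ?_, ?_⟩
    · exact (orderOf_injective (MulAut.conj g).toMonoidHom (MulAut.conj g).injective t).trans ht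
    · rw [← h1, mul_smul, mul_smul, inv_smul_smul, h2']
    · rw [← h2', mul_smul, mul_smul, inv_smul_smul, htt, h1]
  have hmove : ∀ t : G, t ≠ 1 → ∃ c : Ω, t • c ≠ c := by
    intro t ht
    apply Classical.byContradiction
    intro hc
    push Not at hc
    exact ht (eq_of_smul_eq_smul fun x => by rw [hc x, one_smul])
  have hcount : ∀ t : G, orderOf t = 2 → Nat.card (MulAction.fixedBy Ω t) ≤ 2 ∧
      Nat.card (MulAction.fixedBy Ω t) ≡ Fintype.card Ω [MOD 2] := by
    intro t ht
    have ht1 : t ≠ 1 := fun h => by simp [h] at ht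
    constructor
    · apply Classical.byContradiction
      intro hc
      push Not at hc
      rw [Nat.card_coe_set_eq] at hc
      obtain ⟨x, y, z, hx, hy, hz, hxy, hxz, hyz⟩ := (Set.two_lt_ncard_iff).1 hc
      exact ht1 (h3 t x y z hxy hyz hxz hx hy hz)
    · have hP : IsPGroup 2 (Subgroup.zpowers t) := IsPGroup.of_card (n := 1) (by rw [Nat.card_zpowers, ht, pow_one])
      haveI : Fact (Nat.Prime 2) := ⟨Nat.prime_two⟩
      have := hP.card_modEq_card_fixedPoints Ω
      rw [Nat.card_eq_fintype_card (α := Ω)] at this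
      have he : MulAction.fixedPoints (Subgroup.zpowers t) Ω = MulAction.fixedBy Ω t := by
        ext x
        constructor
        · intro hx
          exact hx ⟨t, Subgroup.mem_zpowers t⟩
        · rintro hx ⟨u, hu⟩
          obtain ⟨i, rfl⟩ := Subgroup.mem_zpowers_iff.1 hu
          exact MulAction.mem_fixedBy_zpow (g := t) (by exact hx) i
      rw [he] at this
      exact this.symm
  refine ⟨?_, ?_, ?_⟩
  · have heven : 2 ∣ Nat.card G := by
      obtain ⟨c, hc⟩ := hmove g0 hg0
      obtain ⟨g, h1, h2'⟩ := h2 hab (Ne.symm hab)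
      have hg1 : g ≠ 1 := fun h => hab (by simpa [h] using h1)
      rcases Nat.even_or_odd (orderOf g) with he | he
      · exact (even_iff_two_dvd.1 he).trans (orderOf_dvd_natCard g)
      · exfalso
        obtain ⟨m, hm⟩ := he
        have hp : ∀ i, g ^ (2 * i) • a = a := fun i => by
          induction i with
          | zero => simp
          | succ i ih => rw [show 2 * (i + 1) = 2 + 2 * i by ring, pow_add, mul_smul, ih, sq, mul_smul, h1, h2']
        have : g ^ orderOf g • a = b := by rw [hm, pow_succ', mul_smul, hp, h1]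
        rw [pow_orderOf_eq_one, one_smul] at this
        exact hab this
    obtain ⟨t, ht⟩ := exists_prime_orderOf_dvd_card' 2 heven
    obtain ⟨c, hc⟩ := hmove t (fun h => by simp [h] at ht)
    obtain ⟨g, hg⟩ := hconj t ht c hc
    exact ⟨_, hg⟩
  · intro s hs _ _
    obtain ⟨h1, h2'⟩ := hcount s hs
    unfold Nat.ModEq at h2'
    constructor
    · intro ho
      rw [Nat.odd_iff.1 ho] at h2'
      omega
    · intro he
      rw [Nat.even_iff.1 he] at h2'
      omega
  · intro hev hH
    obtain ⟨t, ht⟩ := exists_prime_orderOf_dvd_card' 2 (even_iff_two_dvd.1 hH)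
    have ht' : orderOf (t : G) = 2 := by rw [Subgroup.orderOf_coe, ht]
    obtain ⟨c, hc⟩ := hmove (t : G) (fun h => by simp [h] at ht')
    obtain ⟨g, hg⟩ := hconj _ ht' c hc
    refine ⟨_, hg.1, hg.2.1, hg.2.2, le_antisymm (hcount _ hg.1).1 ?_⟩
    rw [Nat.card_coe_set_eq]
    have hsub : ({g • a, g • b} : Set Ω) ⊆ MulAction.fixedBy Ω (g * (t : G) * g⁻¹) := by
      have ta : (t : G) • a = a := t.2.1
      have tb : (t : G) • b = b := t.2.2
      intro x hx
      rcases hx with rfl | rfl <;> simp [MulAction.mem_fixedBy, mul_smul, ta, tb]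
    calc 2 = ({g • a, g • b} : Set Ω).ncard := (Set.ncard_pair (fun h => hab (smul_left_cancel g h))).symm
      _ ≤ _ := Set.ncard_le_ncard hsub

end Cfsg.Agent.S0740
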