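import Cfsg.Statements.S0744
import Cfsg.Agent.Lib.Perm.StepTransitive
import Mathlib.GroupTheory.GroupAction.Quotient
import Mathlib.GroupTheory.Coset.Card

set_option autoImplicit false
open Cfsg

namespace Cfsg.Agent.S0744

/-- If for some `k > 1` the pointwise stabilisers of all `(k-1)`-subsets have the same order `> 1` and those of all `k`-subsets have the same order, then the group is `(k-1)`-transitive. -/
theorem result {α : Type*} [Fintype α] [DecidableEq α] (G : Subgroup (Equiv.Perm α)) {k : ℕ} (hk : 1 < k) (hkn : k ≤ Fintype.card α) (l m : ℕ) (hl : 1 < l) (hkm1 : ∀ s : Finset α, s.card = k - 1 → Nat.card (fixingSubgroup G (s : Set α)) = l) (hkm : ∀ s : Finset α, s.card = k → Nat.card (fixingSubgroup G (s : Set α)) = m) : MulAction.IsMultiplyPretransitive G α (k - 1) := by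
  classical
  apply Cfsg.Agent.Lib.Perm.multiplyPretransitive_of_step
  intro t _ ht a b ha hb
  by_cases hab : a = b
  · exact ⟨1, fun x _ => one_smul _ x, by simp [hab]⟩
  obtain ⟨T, htT, hTsub, hT⟩ := Finset.exists_subsuperset_card_eq
    (s := t.toFinset) (t := (Finset.univ.erase a).erase b) (n := k - 2)
    (fun x hx => by
      simp only [Set.mem_toFinset] at hx
      simp only [Finset.mem_erase, Finset.mem_univ, and_true]
      exact ⟨fun h => hb (h ▸ hx), fun h => ha (h ▸ hx)⟩)
    (by rw [← Set.ncard_eq_toFinset_card']; omega)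
    (by rw [Finset.card_erase_of_mem (by simp [Ne.symm hab]), Finset.card_erase_of_mem (Finset.mem_univ a),
      Finset.card_univ]; omega)
  have haT : a ∉ T := fun h => by simpa using hTsub h
  have hbT : b ∉ T := fun h => by simpa using hTsub h
  suffices hb' : b ∈ MulAction.orbit (fixingSubgroup G (T : Set α)) a by
    obtain ⟨g, hg⟩ := hb'
    exact ⟨g, fun x hx => (mem_fixingSubgroup_iff G).1 g.2 x (by simpa using htT (by simpa using hx)), hg⟩
  apply Classical.byContradiction
  intro hcon
  have hl0 : 0 < l := by omega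
  have hstab : ∀ (U : Finset α) (y : α), Nat.card (MulAction.stabilizer (fixingSubgroup G (U : Set α)) y)
      = Nat.card (fixingSubgroup G ((insert y U : Finset α) : Set α)) := by
    intro U y
    refine Nat.card_congr
      { toFun := fun g => ⟨(g.1 : G), (mem_fixingSubgroup_iff G).2 fun x hx => ?_⟩
        invFun := fun g => ⟨⟨(g : G), (mem_fixingSubgroup_iff G).2 fun x hx =>
          (mem_fixingSubgroup_iff G).1 g.2 x (by simp [Finset.mem_coe.1 hx])⟩,
          (mem_fixingSubgroup_iff G).1 g.2 y (by simp)⟩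
        left_inv := fun g => rfl
        right_inv := fun g => rfl }
    simp only [Finset.coe_insert, Set.mem_insert_iff] at hx
    rcases hx with rfl | hx
    · exact g.2
    · exact (mem_fixingSubgroup_iff G).1 g.1.2 x hx
  have horb : ∀ (U : Finset α) (y : α), (MulAction.orbit (fixingSubgroup G (U : Set α)) y).ncard *
      Nat.card (fixingSubgroup G ((insert y U : Finset α) : Set α)) = Nat.card (fixingSubgroup G (U : Set α)) := by
    intro U y
    rw [← hstab, ← Nat.card_coe_set_eq, Nat.card_congr (MulAction.orbitEquivQuotientStabilizer _ y)]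
    exact (Subgroup.card_eq_card_quotient_mul_card_subgroup _).symm
  set H := fixingSubgroup G (T : Set α) with hH
  have hsame : (MulAction.orbit H a).ncard = (MulAction.orbit H b).ncard := by
    have h1 := horb T a
    have h2 := horb T b
    rw [hkm1 _ (by rw [Finset.card_insert_of_notMem haT, hT]; omega)] at h1
    rw [hkm1 _ (by rw [Finset.card_insert_of_notMem hbT, hT]; omega)] at h2
    exact Nat.eq_of_mul_eq_mul_right hl0 (h1.trans h2.symm)
  set T' := insert a T with hT'
  have hT'c : T'.card = k - 1 := by rw [hT', Finset.card_insert_of_notMem haT, hT]; omega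
  have hm0 : 0 < m := by
    have := horb T' b
    rw [hkm1 _ hT'c] at this
    rw [hkm _ (by rw [Finset.card_insert_of_notMem (by simp [hT', Ne.symm hab, hbT]), hT'c]; omega)] at this
    exact Nat.pos_of_ne_zero fun h => by rw [h, mul_zero] at this; omega
  have hlm : l ≠ m := by
    intro hlm
    have hfix : ∀ g : fixingSubgroup G (T' : Set α), g = 1 := by
      intro g
      refine Subtype.ext (Subtype.ext (Equiv.ext fun y => ?_))
      by_cases hy : y ∈ T'
      · exact (mem_fixingSubgroup_iff G).1 g.2 y hy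
      have h1 := horb T' y
      rw [hkm1 _ hT'c, hkm _ (by rw [Finset.card_insert_of_notMem hy, hT'c]; omega), hlm] at h1
      have h2 : (MulAction.orbit (fixingSubgroup G (T' : Set α)) y).ncard = 1 :=
        Nat.eq_of_mul_eq_mul_right hm0 (h1.trans (one_mul m).symm)
      obtain ⟨z, hz⟩ := Set.ncard_eq_one.1 h2
      have ha1 : g • y ∈ MulAction.orbit (fixingSubgroup G (T' : Set α)) y := MulAction.mem_orbit y g
      have hb1 := MulAction.mem_orbit_self (M := fixingSubgroup G (T' : Set α)) y
      rw [hz, Set.mem_singleton_iff] at ha1 hb1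
      exact ha1.trans hb1.symm
    have := hkm1 _ hT'c
    rw [Nat.card_eq_one_iff_unique.2 ⟨⟨fun x y => (hfix x).trans (hfix y).symm⟩, ⟨1⟩⟩] at this
    omega
  obtain ⟨c, hc⟩ : m ∣ l := by
    have := horb T' b
    rw [hkm1 _ hT'c, hkm _ (by rw [Finset.card_insert_of_notMem (by simp [hT', Ne.symm hab, hbT]), hT'c]; omega)] at this
    exact ⟨_, by rw [← this, mul_comm]⟩
  have hfixmem : ∀ (g : fixingSubgroup G (T' : Set α)), (g : G) ∈ H := fun g =>
    (mem_fixingSubgroup_iff G).2 fun x hx => (mem_fixingSubgroup_iff G).1 g.2 x (by simp [hT', Finset.mem_coe.1 hx])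
  have hdvd : ∀ S : Set α, S.Finite → (∀ g : fixingSubgroup G (T' : Set α), ∀ x ∈ S, g • x ∈ S) →
      (∀ x ∈ S, x ∉ T') → c ∣ S.ncard := by
    intro S hS hinv hout
    refine Cfsg.Agent.Lib.Perm.dvd_ncard_of_orbits S hS hinv fun x hx => ?_
    have h1 := horb T' x
    rw [hkm1 _ hT'c, hkm _ (by rw [Finset.card_insert_of_notMem (hout x hx), hT'c]; omega), hc, mul_comm m c] at h1
    rw [Nat.eq_of_mul_eq_mul_right hm0 h1]
  have hout : ∀ y, y ∉ T → ∀ x ∈ MulAction.orbit H y, x ∉ T := by
    rintro y hy _ ⟨g, rfl⟩ hx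
    have he : g • g • y = g • y := (mem_fixingSubgroup_iff G).1 g.2 _ hx
    exact hy ((smul_left_cancel g he) ▸ hx)
  have hA := hdvd (MulAction.orbit H a \ {a}) (Set.toFinite _) (fun g x hx => ⟨by
      obtain ⟨h0, rfl⟩ := hx.1
      exact ⟨⟨(g : G), hfixmem g⟩ * h0, mul_smul _ _ _⟩, by
      intro he
      have hga : g • a = a := (mem_fixingSubgroup_iff G).1 g.2 a (by simp [hT'])
      exact hx.2 (smul_left_cancel g ((he : g • x = a).trans hga.symm))⟩)
    (fun x hx => by
      simp only [hT', Finset.mem_insert, not_or]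
      exact ⟨hx.2, hout a haT x hx.1⟩)
  have hB := hdvd (MulAction.orbit H b) (Set.toFinite _) (fun g x hx => by
      obtain ⟨h0, rfl⟩ := hx
      exact ⟨⟨(g : G), hfixmem g⟩ * h0, mul_smul _ _ _⟩)
    (fun x hx => by
      simp only [hT', Finset.mem_insert, not_or]
      refine ⟨fun he => hcon ?_, hout b hbT x hx⟩
      rw [MulAction.mem_orbit_symm, ← he]
      exact hx)
  rw [← hsame, ← Set.ncard_sdiff_singleton_add_one (MulAction.mem_orbit_self a) (Set.toFinite _)] at hB
  have : c = 1 := Nat.dvd_one.1 ((Nat.dvd_add_right hA).1 hB)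
  rw [this, mul_one] at hc
  exact hlm hc

end Cfsg.Agent.S0744
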