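import Cfsg.Statements.S0745
import Cfsg.Agent.Lib.Perm.LW.Classify

set_option autoImplicit false
open Cfsg

namespace Cfsg.Agent.S0745

/-- Let `G` have degree `n` and `3 ≤ k ≤ n`; suppose `G` is `(k-2)`-transitive but not `(k-1)`-transitive, and is `(k-1)`-homogeneous and `k`-homogeneous. Then `k = n` and `G` is the alternating group, or `n = 5, k = 4, |G| = 20`, or `n = 6, k = 5, |G| = 120`, or `n = 9, k = 5, |G| ∈ {504, 1512}`. -/
theorem result {α : Type*} [Fintype α] [DecidableEq α] (G : Subgroup (Equiv.Perm α)) {k : ℕ} (hk : 3 ≤ k) (hkn : k ≤ Fintype.card α) (ht : MulAction.IsMultiplyPretransitive G α (k - 2)) (hnt : ¬ MulAction.IsMultiplyPretransitive G α (k - 1)) (hh1 : MulAction.IsPretransitive G (Set.powersetCard α (k - 1))) (hh : MulAction.IsPretransitive G (Set.powersetCard α k)) : (k = Fintype.card α ∧ G = alternatingGroup α) ∨ (Fintype.card α = 5 ∧ k = 4 ∧ Nat.card G = 20) ∨ (Fintype.card α = 6 ∧ k = 5 ∧ Nat.card G = 120) ∨ (Fintype.card α = 9 ∧ k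 = 5 ∧ (Nat.card G = 504 ∨ Nat.card G = 1512)) := by
  classical
  have hkt : CfsgLib.LW.KT G (k - 2) := CfsgLib.LW.kt_of_isMultiplyPretransitive (by omega) ht
  have hnk : ¬ CfsgLib.LW.KT G (k - 1) := fun h =>
    hnt (CfsgLib.LW.isMultiplyPretransitive_of_kt h)
  have h1 := CfsgLib.LW.hom_of_powersetCard hh1
  have h2 := CfsgLib.LW.hom_of_powersetCard hh
  rcases eq_or_lt_of_le hkn with he | hlt
  · left
    refine ⟨he, ?_⟩
    have hA : alternatingGroup α ≤ G := by
      rw [← Nat.card_eq_fintype_card] at he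
      rw [he] at ht
      exact _root_.IsMultiplyPretransitive.alternatingGroup_le α G ht
    refine le_antisymm (fun g hg => ?_) hA
    by_contra hgo
    rw [Equiv.Perm.mem_alternatingGroup] at hgo
    refine hnk fun T _ σ => ⟨σ, ?_, fun _ _ => rfl⟩
    rcases Int.units_eq_one_or (Equiv.Perm.sign σ) with h | h
    · exact hA (Equiv.Perm.mem_alternatingGroup.2 h)
    · have : σ * g ∈ alternatingGroup α := Equiv.Perm.mem_alternatingGroup.2 (by
        rw [map_mul, h, (Int.units_eq_one_or _).resolve_left hgo]; rfl)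
      simpa using mul_mem (hA this) (inv_mem hg)
  right
  rcases (show k = 3 ∨ k = 4 ∨ k = 5 ∨ 6 ≤ k by omega) with rfl | rfl | rfl | hk6
  · exact absurd (CfsgLib.LW.kt_two hkt h1 h2 (by omega)) hnk
  · have := CfsgLib.LW.classify_four hlt hkt h1 h2 hnk
    exact Or.inl ⟨this.1, rfl, this.2⟩
  · rcases CfsgLib.LW.classify_five hlt hkt h1 h2 hnk with h | h
    · exact Or.inr (Or.inl ⟨h.1, rfl, h.2⟩)
    · exact Or.inr (Or.inr ⟨h.1, rfl, h.2⟩)
  · exact absurd (CfsgLib.LW.kt_step (k := k - 1) (by omega) (by omega) hkt h1) hnk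

end Cfsg.Agent.S0745
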