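import Cfsg.Statements.S0753
import Cfsg.Agent.Lib.Classical.UnitaryOrder

set_option autoImplicit false
open Cfsg

namespace Cfsg.Agent.S0753

/-- If σ is a ring endomorphism of the field F other than the identity and B is a σ-sesquilinear conjugate-symmetric form with B v v = 0 for every v, then B = 0. -/
theorem result {F V : Type*} [Field F] [AddCommGroup V] [Module F V] (σ : F →+* F) (hσ : σ ≠ RingHom.id F) (B : V →ₛₗ[σ] V →ₗ[F] F) (hS : B.IsSymm) (h0 : ∀ v : V, B v v = 0) : B = 0 := by
  refine LinearMap.ext fun u => LinearMap.ext fun v => ?_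
  by_contra hc
  have hneg : ∀ a b : V, σ (B a b) = -B a b := fun a b => by
    have h1 := h0 (a + b)
    simp only [map_add, LinearMap.add_apply, h0, zero_add, add_zero] at h1
    rw [LinearMap.IsSymm.eq hS a b]
    exact eq_neg_of_add_eq_zero_left h1
  refine hσ (RingHom.ext fun a => ?_)
  have h2 := hneg (a • u) v
  rw [map_smulₛₗ, LinearMap.smul_apply, smul_eq_mul, map_mul, hneg u v] at h2
  have h3 : σ (σ a) = σ a := by
    refine mul_right_cancel₀ (show B u v ≠ 0 from hc) ?_
    linear_combination -h2
  exact σ.injective h3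

end Cfsg.Agent.S0753
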