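import Cfsg.Statements.S0754
import Cfsg.Agent.Lib.Classical.UnitaryOrder

set_option autoImplicit false
open Cfsg

namespace Cfsg.Agent.S0754

/-- In a field F with q^2 elements, every non-zero μ with μ^q = μ (that is, μ in the subfield of order q) has exactly q + 1 solutions λ of λ^(q+1) = μ. -/
theorem result {F : Type*} [Field F] [Fintype F] {q : ℕ} (hF : Fintype.card F = q ^ 2) (μ : F) (hμ : μ ≠ 0) (hμq : μ ^ q = μ) : Nat.card {x : F // x ^ (q + 1) = μ} = q + 1 := by
  obtain ⟨K⟩ := CfsgLib.Classical.Herm.exists_conj_of_card hF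
  obtain ⟨e, he⟩ := K.exists_norm μ (by rw [K.bar_apply, hμq])
  have he0 : e ≠ 0 := fun h => hμ (by rw [← he, h, zero_mul])
  refine Eq.trans ?_ (CfsgLib.Classical.Herm.card_norm_one K)
  refine Nat.card_congr ((Equiv.mulLeft₀ e⁻¹ (inv_ne_zero he0)).subtypeEquiv fun x => ?_)
  show x ^ (q + 1) = μ ↔ e⁻¹ * x * K.bar (e⁻¹ * x) = 1
  have he1 : K.bar e ≠ 0 := (map_ne_zero K.bar).2 he0
  rw [map_mul, map_inv₀, pow_succ', ← K.bar_apply]
  constructor
  · intro h
    field_simp
    linear_combination h - he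
  · intro h
    field_simp at h
    linear_combination h + he

end Cfsg.Agent.S0754
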