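import Cfsg.Statements.S0757
import Mathlib

set_option autoImplicit false
open Cfsg

namespace Cfsg.Agent.S0757

/-- The two diagonal forms Σ x_i^2 and Σ_(i<n) x_i^2 + α x_n^2 on F^(n+1), with α a non-square and 2 ≠ 0 in F, are inequivalent quadratic forms (so over a finite field of odd order there are exactly two classes of non-singular symmetric bilinear forms in each dimension). -/
theorem result {F : Type*} [Field F] (h2 : (2 : F) ≠ 0) (n : ℕ) (α : F) (hα : ¬ IsSquare α) : ¬ (QuadraticMap.weightedSumSquares F (fun _ : Fin (n + 1) => (1 : F))).Equivalent (QuadraticMap.weightedSumSquares F (fun i : Fin (n + 1) => if i = Fin.last n then α else (1 : F))) := by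
  intro ⟨e⟩
  let S : (Fin (n + 1) → F) ≃ₗ[F] (Fin (n + 1) → F) := e.toLinearEquiv
  let M : Matrix (Fin (n + 1)) (Fin (n + 1)) F := LinearMap.toMatrix' S.toLinearMap
  let w : Fin (n + 1) → F := fun i => if i = Fin.last n then α else 1
  have hq : ∀ v, ∑ i, w i * (S v i * S v i) = ∑ i, v i * v i := fun v => by
    have := e.map_app v
    simp only [QuadraticMap.weightedSumSquares_apply, smul_eq_mul, one_mul] at this
    exact this
  have hkey : M.transpose * Matrix.diagonal w * M = 1 := by
    have hb : ∀ u v, ∑ i, w i * (S u i * S v i) = ∑ i, u i * v i := by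
      intro u v
      have h := hq (u + v)
      simp only [map_add, Pi.add_apply] at h
      have e1 : ∀ i, w i * ((S u i + S v i) * (S u i + S v i)) =
          w i * (S u i * S u i) + w i * (S v i * S v i) + 2 * (w i * (S u i * S v i)) := fun i => by ring
      have e2 : ∀ i, (u i + v i) * (u i + v i) = u i * u i + v i * v i + 2 * (u i * v i) :=
        fun i => by ring
      simp only [e1, e2, Finset.sum_add_distrib, ← Finset.mul_sum, hq] at h
      exact mul_left_cancel₀ h2 (add_left_cancel h)
    ext i j
    have := hb (Pi.single i 1) (Pi.single j 1)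
    have hM : ∀ l i, M l i = S (Pi.single i 1) l := fun l i => by
      simp [M, LinearMap.toMatrix'_apply]
    rw [Matrix.mul_apply]
    simp only [Matrix.mul_diagonal, Matrix.transpose_apply, hM]
    rw [show (1 : Matrix (Fin (n + 1)) (Fin (n + 1)) F) i j =
      ∑ l, (Pi.single i (1 : F) : Fin (n + 1) → F) l * (Pi.single j (1 : F) : Fin (n + 1) → F) l by
        simp [Matrix.one_apply, Pi.single_apply, eq_comm], ← this]
    exact Finset.sum_congr rfl fun l _ => by ring
  have hd := congrArg Matrix.det hkey
  rw [Matrix.det_mul, Matrix.det_mul, Matrix.det_transpose, Matrix.det_diagonal, Matrix.det_one,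
    show ∏ i, w i = α by simp [w]] at hd
  refine hα ⟨M.det⁻¹, ?_⟩
  have h0 : M.det ≠ 0 := fun h => by simp [h] at hd
  field_simp
  linear_combination hd

end Cfsg.Agent.S0757
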