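import Cfsg.Statements.S0758
import Mathlib

set_option autoImplicit false
open Cfsg

namespace Cfsg.Agent.S0758

/-- For a finite field F of odd order q and a non-square α: the form x² + y² is isotropic iff q ≡ 1 mod 4, and the form x² + α y² is isotropic iff q ≡ 3 mod 4. -/
theorem result {F : Type*} [Field F] [Fintype F] (h2 : (2 : F) ≠ 0) (α : F) (hα : ¬ IsSquare α) : ((∃ x y : F, (x ≠ 0 ∨ y ≠ 0) ∧ x ^ 2 + y ^ 2 = 0) ↔ Fintype.card F % 4 = 1) ∧ ((∃ x y : F, (x ≠ 0 ∨ y ≠ 0) ∧ x ^ 2 + α * y ^ 2 = 0) ↔ Fintype.card F % 4 = 3) := by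
  classical
  have hodd : Fintype.card F % 2 = 1 := FiniteField.odd_card_of_char_ne_two
    (fun h => h2 (by
      haveI := ringChar.charP F
      haveI : CharP F 2 := h ▸ ringChar.charP F
      exact CharTwo.two_eq_zero))
  have hiff : ∀ c : F, c ≠ 0 → ((∃ x y : F, (x ≠ 0 ∨ y ≠ 0) ∧ x ^ 2 + c * y ^ 2 = 0) ↔ IsSquare (-c)) := by
    intro c hc
    constructor
    · rintro ⟨x, y, hxy, h⟩
      have hy : y ≠ 0 := by
        rintro rfl
        rcases hxy with hx | hx
        · simp at h; exact hx h
        · exact hx rfl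
      refine ⟨x / y, ?_⟩
      field_simp
      linear_combination -h
    · rintro ⟨t, ht⟩
      exact ⟨t, 1, Or.inr one_ne_zero, by linear_combination -ht⟩
  have h1 : IsSquare (-1 : F) ↔ Fintype.card F % 4 = 1 := by
    rw [FiniteField.isSquare_neg_one_iff]
    omega
  have hα0 : α ≠ 0 := fun h => hα (h ▸ IsSquare.zero)
  constructor
  · rw [← h1, ← hiff 1 one_ne_zero]
    simp
  · rw [hiff α hα0]
    have hne : IsSquare (-α) ↔ ¬ IsSquare (-1 : F) := by
      constructor
      · intro h h'
        apply hα
        simpa using h'.mul h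
      · intro h'
        rw [show -α = (-1) * α by ring]
        have a := FiniteField.isSquare_iff (F := F) (fun h => h2 (by
          haveI : CharP F 2 := h ▸ ringChar.charP F
          exact CharTwo.two_eq_zero)) (neg_ne_zero.mpr (one_ne_zero (α := F)))
        have b := FiniteField.pow_dichotomy (F := F) (fun h => h2 (by
          haveI : CharP F 2 := h ▸ ringChar.charP F
          exact CharTwo.two_eq_zero)) (neg_ne_zero.mpr (one_ne_zero (α := F)))
        have hc : ringChar F ≠ 2 := fun h => h2 (by
          haveI : CharP F 2 := h ▸ ringChar.charP F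
          exact CharTwo.two_eq_zero)
        rw [FiniteField.isSquare_iff hc (mul_ne_zero (neg_ne_zero.mpr one_ne_zero) hα0), mul_pow,
          b.resolve_left (fun e => h' (a.mpr e)),
          (FiniteField.pow_dichotomy hc hα0).resolve_left
            (fun e => hα ((FiniteField.isSquare_iff hc hα0).mpr e))]
        ring
    rw [hne, h1]
    omega

end Cfsg.Agent.S0758
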