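import Cfsg.Statements.S0761
import Mathlib
-- import your own Cfsg.Agent.* helpers here

set_option autoImplicit false
open Cfsg

namespace Cfsg.Agent.S0761

/-- Hyperbolic partners: let B be a non-degenerate bilinear form on a finite-dimensional space, either alternating, or symmetric with 2 ≠ 0. If Z is a subspace on which B vanishes, x ∉ Z is isotropic and orthogonal to Z, then there is an isotropic y with B x y = 1 which is orthogonal to Z. -/
theorem result {F V : Type*} [Field F] [AddCommGroup V] [Module F V] [FiniteDimensional F V] (B : LinearMap.BilinForm F V) (hB : B.Nondegenerate) (hform : B.IsAlt ∨ (B.IsSymm ∧ (2 : F) ≠ 0)) (x : V) (Z : Submodule F V) (hxZ : x ∉ Z) (hx : B x x = 0) (hxz : ∀ z ∈ Z, B x z = 0) (hZ : ∀ z ∈ Z, ∀ z' ∈ Z, B z z' = 0) : ∃ y : V, B y y = 0 ∧ B x y = 1 ∧ ∀ z ∈ Z, B z y = 0 := by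
  classical
  have hrefl : B.IsRefl := hform.elim (fun h => h.isRefl) (fun h => h.1.isRefl)
  obtain ⟨φ, hφx, hφZ⟩ := Submodule.exists_dual_map_eq_bot_of_notMem hxZ inferInstance
  set ψ : Module.Dual F V := (φ x)⁻¹ • φ with hψ
  have hx1 : ψ x = 1 := by simp [hψ, hφx]
  have hz0 : ∀ z ∈ Z, ψ z = 0 := fun z hz => by
    have : φ z ∈ Z.map φ := Submodule.mem_map_of_mem hz
    rw [hφZ, Submodule.mem_bot] at this
    simp [hψ, this]
  obtain ⟨y₀, hy₀⟩ : ∃ y₀, ∀ v, B v y₀ = ψ v := by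
    refine ⟨(B.flip.toDual hB.flip).symm ψ, fun v => ?_⟩
    have := LinearMap.BilinForm.apply_toDual_symm_apply (B := B.flip) (hB := hB.flip) ψ v
    exact this
  rcases hform with halt | ⟨hsym, h2⟩
  · exact ⟨y₀, halt y₀, (hy₀ x).trans hx1, fun z hz => (hy₀ z).trans (hz0 z hz)⟩
  · refine ⟨y₀ + (-(B y₀ y₀) / 2) • x, ?_, ?_, fun z hz => ?_⟩
    · have e1 : B y₀ x = 1 := by rw [hsym.eq, hy₀, hx1]
      have e2 : B x y₀ = 1 := (hy₀ x).trans hx1
      simp [e1, e2, hx]
      field_simp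
      ring
    · simp [(hy₀ x).trans hx1, hx]
    · simp [(hy₀ z).trans (hz0 z hz), hrefl x z (hxz z hz)]


end Cfsg.Agent.S0761
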