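import Cfsg.Statements.S0762
import Mathlib

set_option autoImplicit false
open Cfsg

namespace Cfsg.Agent.S0762

/-- In characteristic two over a finite field, a quadratic form on a space of dimension at least 3 vanishes on some non-zero vector. -/
theorem result {F V : Type*} [Field F] [Finite F] [CharP F 2] [AddCommGroup V] [Module F V] [FiniteDimensional F V] (Q : QuadraticForm F V) (h3 : 3 ≤ Module.finrank F V) : ∃ v : V, v ≠ 0 ∧ Q v = 0 := by
  classical
  haveI := Fintype.ofFinite F
  obtain ⟨b⟩ : Nonempty (Fin 3 ↪ Module.Free.ChooseBasisIndex F V) := by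
    refine Function.Embedding.nonempty_of_card_le ?_
    rw [Fintype.card_fin, ← Module.finrank_eq_card_chooseBasisIndex]; exact h3
  let B := Module.Free.chooseBasis F V
  have hsurj : ∀ c : F, ∃ r, r ^ 2 = c := fun c => by
    obtain ⟨r, hr⟩ := FiniteField.isSquare_of_char_two (ringChar.eq F 2) c
    exact ⟨r, by rw [sq]; exact hr.symm⟩
  -- three independent vectors span a space with a singular vector
  have hli := B.linearIndependent.comp b b.injective
  set u := B (b 0) with hu
  have hpair : ∀ (c : Fin 3 → F), (∑ i, c i • B (b i)) = 0 → c = 0 := fun c hc =>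
    funext (Fintype.linearIndependent_iff.mp hli c hc)
  -- a vector orthogonal to `u` and independent of it
  obtain ⟨w, hwu, hw⟩ : ∃ w : V, QuadraticMap.polar Q u w = 0 ∧ ∀ s t : F, s • u + t • w = 0 → t = 0 := by
    by_cases h1 : QuadraticMap.polar Q u (B (b 1)) = 0
    · refine ⟨B (b 1), h1, fun s t h => ?_⟩
      have := congrFun (hpair ![s, t, 0] (by simpa [Fin.sum_univ_three] using h)) 1
      simpa using this
    · refine ⟨B (b 2) - (QuadraticMap.polar Q u (B (b 2)) / QuadraticMap.polar Q u (B (b 1))) • B (b 1),
        ?_, fun s t h => ?_⟩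
      · rw [sub_eq_add_neg, ← neg_smul, QuadraticMap.polar_add_right, QuadraticMap.polar_smul_right,
          smul_eq_mul]
        field_simp
        ring
      · have := congrFun (hpair ![s, -(t * (QuadraticMap.polar Q u (B (b 2)) / QuadraticMap.polar Q u (B (b 1)))), t]
          (by
            rw [Fin.sum_univ_three]
            simp only [Matrix.cons_val_zero, Matrix.cons_val_one, Matrix.cons_val, neg_smul, mul_smul]
            rw [← h, smul_sub]
            abel)) 2
        simpa using this
  by_cases hw0 : Q w = 0
  · exact ⟨w, fun e => one_ne_zero (hw 0 1 (by simp [e])), hw0⟩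
  obtain ⟨r, hr⟩ := hsurj (Q u / Q w)
  refine ⟨u + r • w, fun e => ?_, ?_⟩
  · have hr0 := hw 1 r (by simpa using e)
    rw [hr0, zero_smul, add_zero] at e
    exact B.ne_zero _ e
  · have h := QuadraticMap.map_add Q u (r • w)
    rw [QuadraticMap.polar_smul_right, hwu, smul_zero, add_zero, QuadraticMap.map_smul, smul_eq_mul,
      ← sq, hr, div_mul_cancel₀ _ hw0, CharTwo.add_self_eq_zero] at h
    exact h

end Cfsg.Agent.S0762
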