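import Cfsg.Statements.S0769
import Mathlib

set_option autoImplicit false
open Cfsg

namespace Cfsg.Agent.S0769

/-- Order of the Borel subgroup of GL_n(q): the invertible lower-triangular n × n matrices over a field with q elements number q^(n(n-1)/2) (q-1)^n (unitriangular part times the diagonal torus). -/
theorem result {F : Type*} [Field F] [Fintype F] {q : ℕ} (hF : Fintype.card F = q) (n : ℕ) : Nat.card {g : Matrix.GeneralLinearGroup (Fin n) F // ∀ i j : Fin n, i < j → (g : Matrix (Fin n) (Fin n) F) i j = 0} = q ^ (n * (n - 1) / 2) * (q - 1) ^ n := by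
  classical
  let P := {p : Fin n × Fin n // p.2 < p.1}
  have e : {g : Matrix.GeneralLinearGroup (Fin n) F // ∀ i j : Fin n, i < j →
      (g : Matrix (Fin n) (Fin n) F) i j = 0} ≃ (P → F) × (Fin n → Fˣ) :=
    { toFun := fun g => (fun p => (g.1 : Matrix (Fin n) (Fin n) F) p.1.1 p.1.2,
        fun i => Units.mk0 ((g.1 : Matrix (Fin n) (Fin n) F) i i) (by
          have hd := ((Matrix.isUnit_iff_isUnit_det _).mp (Units.isUnit g.1)).ne_zero
          rw [Matrix.det_of_lowerTriangular _ (fun i j h => g.2 i j h), Finset.prod_ne_zero_iff] at hd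
          exact hd i (Finset.mem_univ i)))
      invFun := fun w =>
        ⟨Matrix.GeneralLinearGroup.mkOfDetNeZero
          (Matrix.of fun i j => if h : j < i then w.1 ⟨(i, j), h⟩ else if i = j then (w.2 i : F) else 0) (by
            rw [Matrix.det_of_lowerTriangular _ (fun i j h => by
              show dite _ _ _ = _
              have h' : i < j := h
              rw [dif_neg (not_lt.mpr h'.le), if_neg h'.ne]), Finset.prod_ne_zero_iff]
            intro i _
            simp), fun i j h => by
              show dite _ _ _ = _
              rw [dif_neg (not_lt.mpr h.le), if_neg h.ne]⟩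
      left_inv := fun g => by
        refine Subtype.ext (Units.ext ?_)
        ext i j
        show dite _ _ _ = _
        rcases lt_trichotomy j i with h | h | h
        · rw [dif_pos h]
        · subst h; rw [dif_neg (lt_irrefl _), if_pos rfl]; rfl
        · rw [dif_neg (not_lt.mpr h.le), if_neg h.ne]; exact (g.2 i j h).symm
      right_inv := fun w => by
        refine Prod.ext (funext fun p => ?_) (funext fun i => Units.ext ?_)
        · show dite _ _ _ = _
          rw [dif_pos p.2]
        · show dite _ _ _ = _
          rw [dif_neg (lt_irrefl _), if_pos rfl] }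
  rw [Nat.card_congr e, Nat.card_prod, Nat.card_fun, Nat.card_fun, Nat.card_units, Nat.card_fin,
    Nat.card_eq_fintype_card (α := F), hF]
  congr 2
  let eP : P ≃ (Σ i : Fin n, Fin (i : ℕ)) :=
    { toFun := fun p => ⟨p.1.1, ⟨p.1.2, p.2⟩⟩
      invFun := fun s => ⟨(s.1, ⟨s.2, lt_trans s.2.2 s.1.2⟩), s.2.2⟩
      left_inv := fun p => rfl
      right_inv := fun s => rfl }
  rw [Nat.card_congr eP, Nat.card_eq_fintype_card, Fintype.card_sigma]
  simp only [Fintype.card_fin]
  rw [Fin.sum_univ_eq_sum_range (fun i => i), Finset.sum_range_id]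

end Cfsg.Agent.S0769
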