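import Cfsg.Statements.S0770
import Mathlib

set_option autoImplicit false
open Cfsg

namespace Cfsg.Agent.S0770

/-- For a field with at least 3 elements, an invertible matrix normalises the subgroup of invertible diagonal matrices of GL_n if and only if it is monomial (exactly one non-zero entry in each row). -/
theorem result {F : Type*} [Field F] (hF : ∃ a : F, a ≠ 0 ∧ a ≠ 1) (n : ℕ) (g : Matrix.GeneralLinearGroup (Fin n) F) : g ∈ Subgroup.normalizer ((Units.map (Matrix.diagonalRingHom (Fin n) F).toMonoidHom).range : Subgroup (Matrix.GeneralLinearGroup (Fin n) F)) ↔ ∀ i : Fin n, ∃! j : Fin n, (g : Matrix (Fin n) (Fin n) F) i j ≠ 0 := by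
  classical
  obtain ⟨a, ha0, ha1⟩ := hF
  set D : Subgroup (Matrix.GeneralLinearGroup (Fin n) F) :=
    (Units.map (Matrix.diagonalRingHom (Fin n) F).toMonoidHom).range with hD
  have hmemD : ∀ x : Matrix.GeneralLinearGroup (Fin n) F, x ∈ D ↔
      ∃ t : Fin n → F, (∀ i, t i ≠ 0) ∧ (x : Matrix (Fin n) (Fin n) F) = Matrix.diagonal t := by
    intro x
    constructor
    · rintro ⟨u, rfl⟩
      refine ⟨(u : Fin n → F), fun i hi => ?_, rfl⟩
      have := congrFun u.mul_inv i
      simp [hi] at this
    · rintro ⟨t, ht, hx⟩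
      refine ⟨⟨t, fun i => (t i)⁻¹, funext fun i => mul_inv_cancel₀ (ht i),
        funext fun i => inv_mul_cancel₀ (ht i)⟩, Units.ext ?_⟩
      exact hx.symm
  set M := (g : Matrix (Fin n) (Fin n) F) with hM
  have hrow : ∀ i, ∃ j, M i j ≠ 0 := by
    intro i
    by_contra h
    push_neg at h
    have h1 := congrFun (congrFun g.mul_inv i) i
    simp [Matrix.mul_apply, ← hM, h] at h1
  constructor
  · intro hg i
    obtain ⟨j, hj⟩ := hrow i
    refine ⟨j, hj, fun k hk => by_contra fun hkj => ?_⟩
    let x : Matrix.GeneralLinearGroup (Fin n) F :=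
      Units.map (Matrix.diagonalRingHom (Fin n) F).toMonoidHom
        ⟨Function.update 1 j a, Function.update 1 j a⁻¹, funext fun l => by
          rcases eq_or_ne l j with rfl | h <;> simp [*], funext fun l => by
          rcases eq_or_ne l j with rfl | h <;> simp [*]⟩
    have hx : g * x * g⁻¹ ∈ D := (Subgroup.mem_normalizer_iff.mp hg x).mp ⟨_, rfl⟩
    obtain ⟨t, ht, e⟩ := (hmemD _).mp hx
    have e2 : M * Matrix.diagonal (Function.update (1 : Fin n → F) j a) = Matrix.diagonal t * M := by
      rw [← e, hM, Units.val_mul, Units.val_mul, Matrix.mul_assoc, Units.inv_mul, Matrix.mul_one]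
      rfl
    have h1 := congrFun (congrFun e2 i) j
    have h2 := congrFun (congrFun e2 i) k
    simp only [Matrix.mul_diagonal, Matrix.diagonal_mul, Function.update_self,
      Function.update_of_ne hkj, Pi.one_apply, mul_one] at h1 h2
    have e3 : t i = 1 := mul_right_cancel₀ hk (by rw [← h2, one_mul])
    rw [e3, one_mul] at h1
    exact ha1 (mul_left_cancel₀ hj (by rw [h1, mul_one]))
  · intro hg
    choose σ hσ hσu using fun i => (hg i)
    have hsurj : Function.Surjective σ := by
      intro j
      by_contra h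
      push_neg at h
      have h1 := congrFun (congrFun g.inv_mul j) j
      have h0 : ∀ i, M i j = 0 := fun i => by_contra fun hne => h i (hσu i j hne).symm
      simp [Matrix.mul_apply, ← hM, h0] at h1
    have hz : ∀ i j, j ≠ σ i → M i j = 0 := fun i j h => by_contra fun hne => h (hσu i j hne)
    have hbij : Function.Bijective σ := ⟨Finite.injective_iff_surjective.mpr hsurj, hsurj⟩
    let e := Equiv.ofBijective σ hbij
    have hkey : ∀ t : Fin n → F, M * Matrix.diagonal t = Matrix.diagonal (t ∘ σ) * M := by
      intro t; ext i j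
      rw [Matrix.mul_diagonal, Matrix.diagonal_mul, Function.comp_apply]
      rcases eq_or_ne j (σ i) with rfl | h
      · ring
      · rw [hz i j h, mul_zero, zero_mul]
    rw [Subgroup.mem_normalizer_iff]
    intro x
    rw [hmemD, hmemD]
    constructor
    · rintro ⟨t, ht, hx⟩
      refine ⟨t ∘ σ, fun i => ht _, ?_⟩
      rw [Units.val_mul, Units.val_mul, hx, ← hM, hkey, Matrix.mul_assoc, hM, Units.mul_inv,
        Matrix.mul_one]
    · rintro ⟨t, ht, hx⟩
      refine ⟨t ∘ e.symm, fun i => ht _, ?_⟩
      have h1 : M * (x : Matrix (Fin n) (Fin n) F) = Matrix.diagonal t * M := by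
        rw [← hx, hM, Units.val_mul, Units.val_mul, Matrix.mul_assoc _ _ (g : Matrix (Fin n) (Fin n) F),
          Units.inv_mul, Matrix.mul_one]
      have h2 : (t ∘ e.symm) ∘ σ = t := funext fun i => by
        show t (e.symm (e i)) = t i
        rw [e.symm_apply_apply]
      have h3 : M * (x : Matrix (Fin n) (Fin n) F) = M * Matrix.diagonal (t ∘ e.symm) := by
        rw [h1, hkey, h2]
      exact g.isUnit.mul_left_cancel h3

end Cfsg.Agent.S0770
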