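import Cfsg.Statements.S0772
import Cfsg.Agent.Lib.Classical.SubspaceStab

set_option autoImplicit false
open Cfsg

namespace Cfsg.Agent.S0772

/-- Maximal parabolics are maximal: over a finite field, for 0 < k < n the stabiliser in GL_n of the span of the first k coordinate vectors is a maximal proper subgroup. -/
theorem result {F : Type*} [Field F] [Finite F] (n k : ℕ) (hk0 : 0 < k) (hkn : k < n) : IsCoatom (Cfsg.stabilizing (Cfsg.glToMat (Fin n) F) {v : Fin n → F | ∀ i : Fin n, k ≤ (i : ℕ) → v i = 0}) := by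
  let W : Submodule F (Fin n → F) :=
    { carrier := {v | ∀ i : Fin n, k ≤ (i : ℕ) → v i = 0}
      zero_mem' := fun _ _ => rfl
      add_mem' := fun hx hy i hi => by simp [hx i hi, hy i hi]
      smul_mem' := fun c x hx i hi => by simp [hx i hi] }
  let G := Cfsg.stabilizing (Cfsg.glToMat (Fin n) F) {v : Fin n → F | ∀ i : Fin n, k ≤ (i : ℕ) → v i = 0}
  have hs : ∀ s : Matrix.SpecialLinearGroup (Fin n) F,
      (Matrix.SpecialLinearGroup.toGL s ∈ G ↔ s ∈ CfsgLib.Classical.MinIndex.stab W) := fun s =>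
    ⟨fun h w hw => (h w).1 hw, fun h v => CfsgLib.Classical.MinIndex.stab_of_injOn h v⟩
  have hW0 : W ≠ ⊥ := fun h => by
    have hm : (Pi.single ⟨0, by omega⟩ 1 : Fin n → F) ∈ W := fun i hi =>
      Pi.single_eq_of_ne (fun hc => by rw [hc] at hi; simp at hi; omega) _
    rw [h, Submodule.mem_bot] at hm
    simpa using congrFun hm ⟨0, by omega⟩
  have hW1 : W ≠ ⊤ := fun h => by
    have hm : (Pi.single ⟨k, hkn⟩ 1 : Fin n → F) ∈ W := h ▸ Submodule.mem_top
    simpa using hm ⟨k, hkn⟩ le_rfl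
  have hd : ∀ g : GL (Fin n) F, ∃ d ∈ G, Matrix.GeneralLinearGroup.det d = Matrix.GeneralLinearGroup.det g := by
    intro g
    let w : Fin n → F := Function.update 1 ⟨0, by omega⟩ (Matrix.GeneralLinearGroup.det g : F)
    have hw : ∀ i, w i ≠ 0 := fun i => by
      by_cases hi : i = ⟨0, by omega⟩
      · rw [hi]; simpa [w] using (Matrix.GeneralLinearGroup.det g).ne_zero
      · simp [w, hi]
    refine ⟨Matrix.GeneralLinearGroup.mkOfDetNeZero (Matrix.diagonal w)
      (by rw [Matrix.det_diagonal]; exact Finset.prod_ne_zero_iff.2 fun i _ => hw i), fun v => ?_, ?_⟩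
    · refine ⟨fun h i hi => ?_, fun h i hi => ?_⟩
      · show (Matrix.diagonal w).mulVec v i = 0
        rw [Matrix.mulVec_diagonal, h i hi, mul_zero]
      · have h1 : (Matrix.diagonal w).mulVec v i = 0 := h i hi
        rw [Matrix.mulVec_diagonal, mul_eq_zero] at h1
        exact h1.resolve_left (hw i)
    · apply Units.ext
      show (Matrix.diagonal w).det = _
      rw [Matrix.det_diagonal]
      simp [w, Finset.prod_update_of_mem]
  have hsl : ∀ g : GL (Fin n) F, Matrix.GeneralLinearGroup.det g = 1 →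
      ∃ s : Matrix.SpecialLinearGroup (Fin n) F, Matrix.SpecialLinearGroup.toGL s = g := fun g hg =>
    ⟨⟨(g : Matrix (Fin n) (Fin n) F), congrArg Units.val hg⟩, Units.ext rfl⟩
  refine ⟨fun h => ?_, fun K hK => ?_⟩
  · obtain ⟨g, hg⟩ := CfsgLib.Classical.MinIndex.exists_notMem_stab hW0 hW1
    exact hg ((hs g).1 (by show _ ∈ G; rw [show G = ⊤ from h]; exact Subgroup.mem_top _))
  rw [Subgroup.eq_top_iff']
  intro g
  obtain ⟨d, hd1, hd2⟩ := hd g
  obtain ⟨s, hs'⟩ := hsl (d⁻¹ * g) (by rw [map_mul, map_inv, hd2, inv_mul_cancel])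
  rcases CfsgLib.Classical.MinIndex.le_stab_or_top hW0 hW1 (K.comap Matrix.SpecialLinearGroup.toGL)
    (fun x hx => hK.le ((hs x).2 hx)) with h | h
  · have : Matrix.SpecialLinearGroup.toGL s ∈ K := (h ▸ Subgroup.mem_top s : s ∈ K.comap _)
    have := K.mul_mem (hK.le hd1) this
    rwa [hs', mul_inv_cancel_left] at this
  · refine absurd (fun x hx => ?_) hK.not_ge
    obtain ⟨e, he1, he2⟩ := hd x
    obtain ⟨t, ht⟩ := hsl (e⁻¹ * x) (by rw [map_mul, map_inv, he2, inv_mul_cancel])
    have htK : Matrix.SpecialLinearGroup.toGL t ∈ K := by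
      rw [ht]; exact K.mul_mem (K.inv_mem (hK.le he1)) hx
    have := G.mul_mem he1 ((hs t).2 (h htK))
    rwa [ht, mul_inv_cancel_left] at this

end Cfsg.Agent.S0772
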