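import Cfsg.Statements.S0773
import Mathlib

set_option autoImplicit false
open Cfsg

namespace Cfsg.Agent.S0773

section
open Matrix
variable {F : Type*} [Field F] [Finite F] {n : ℕ}

/-- The coordinate subspace of dimension `k`. -/
def sub (k : ℕ) : Submodule F (Fin n → F) where
  carrier := {v | ∀ i : Fin n, k ≤ (i : ℕ) → v i = 0}
  zero_mem' _ _ := rfl
  add_mem' ha hb i hi := by rw [Pi.add_apply, ha i hi, hb i hi, add_zero]
  smul_mem' c _ ha i hi := by rw [Pi.smul_apply, ha i hi, smul_zero]

theorem mem_stab (k : ℕ) (g : Matrix.GeneralLinearGroup (Fin n) F) :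
    g ∈ Cfsg.stabilizing (Cfsg.glToMat (Fin n) F) {v : Fin n → F | ∀ i : Fin n, k ≤ (i : ℕ) → v i = 0} ↔
      ∀ i j : Fin n, k ≤ (i : ℕ) → (j : ℕ) < k → (g : Matrix (Fin n) (Fin n) F) i j = 0 := by
  constructor
  · intro h i j hi hj
    have := (h (Pi.single j (1 : F))).mp (fun l hl => by
      rw [Pi.single_eq_of_ne]
      rintro rfl
      omega) i hi
    change ((g : Matrix (Fin n) (Fin n) F) *ᵥ Pi.single j (1 : F)) i = 0 at this
    simpa [Matrix.mulVec, dotProduct, Pi.single_apply] using this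
  · intro h
    have hmap : ∀ v ∈ sub (F := F) (n := n) k, (g : Matrix (Fin n) (Fin n) F) *ᵥ v ∈ sub k := by
      intro v hv i hi
      show ∑ j, (g : Matrix (Fin n) (Fin n) F) i j * v j = 0
      refine Finset.sum_eq_zero fun j _ => ?_
      rcases lt_or_ge (j : ℕ) k with hj | hj
      · exact mul_eq_zero_of_left (h i j hi hj) _
      · exact mul_eq_zero_of_right _ (hv j hj)
    intro v
    refine ⟨hmap v, fun hv => ?_⟩
    -- a finite set mapped into itself injectively
    let T : sub (F := F) (n := n) k → sub (F := F) (n := n) k := fun w => ⟨_, hmap w w.2⟩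
    have hinj : Function.Injective T := fun a b e => Subtype.ext
      ((Matrix.mulVec_injective_iff_isUnit.mpr g.isUnit) (congrArg Subtype.val e))
    obtain ⟨⟨w, hw⟩, e⟩ := (Finite.injective_iff_surjective.mp hinj) ⟨_, hv⟩
    have : w = v := (Matrix.mulVec_injective_iff_isUnit.mpr g.isUnit) (congrArg Subtype.val e)
    exact this ▸ hw

/-- Inverse transpose followed by reversal of the coordinates. -/
def twist : Matrix.GeneralLinearGroup (Fin n) F ≃* Matrix.GeneralLinearGroup (Fin n) F where
  toFun g :=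
    ⟨((((g⁻¹ : Matrix.GeneralLinearGroup (Fin n) F) : Matrix (Fin n) (Fin n) F)).transpose).submatrix
        Fin.revPerm Fin.revPerm,
      ((g : Matrix (Fin n) (Fin n) F).transpose).submatrix Fin.revPerm Fin.revPerm,
      by rw [Matrix.submatrix_mul_equiv _ _ _ (Fin.revPerm) _, ← Matrix.transpose_mul, Units.mul_inv,
          Matrix.transpose_one]; exact Matrix.submatrix_one_equiv Fin.revPerm,
      by rw [Matrix.submatrix_mul_equiv _ _ _ (Fin.revPerm) _, ← Matrix.transpose_mul, Units.inv_mul,
          Matrix.transpose_one]; exact Matrix.submatrix_one_equiv Fin.revPerm⟩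
  invFun g :=
    ⟨((((g⁻¹ : Matrix.GeneralLinearGroup (Fin n) F) : Matrix (Fin n) (Fin n) F)).transpose).submatrix
        Fin.revPerm Fin.revPerm,
      ((g : Matrix (Fin n) (Fin n) F).transpose).submatrix Fin.revPerm Fin.revPerm,
      by rw [Matrix.submatrix_mul_equiv _ _ _ (Fin.revPerm) _, ← Matrix.transpose_mul, Units.mul_inv,
          Matrix.transpose_one]; exact Matrix.submatrix_one_equiv Fin.revPerm,
      by rw [Matrix.submatrix_mul_equiv _ _ _ (Fin.revPerm) _, ← Matrix.transpose_mul, Units.inv_mul,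
          Matrix.transpose_one]; exact Matrix.submatrix_one_equiv Fin.revPerm⟩
  left_inv g := by
    refine Units.ext ?_
    show ((((g : Matrix (Fin n) (Fin n) F).transpose).submatrix Fin.revPerm Fin.revPerm).transpose).submatrix
      Fin.revPerm Fin.revPerm = _
    ext i j; simp
  right_inv g := by
    refine Units.ext ?_
    show ((((g : Matrix (Fin n) (Fin n) F).transpose).submatrix Fin.revPerm Fin.revPerm).transpose).submatrix
      Fin.revPerm Fin.revPerm = _
    ext i j; simp
  map_mul' g h := by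
    refine Units.ext ?_
    show (((((g * h)⁻¹ : Matrix.GeneralLinearGroup (Fin n) F)) : Matrix (Fin n) (Fin n) F)).transpose.submatrix
        Fin.revPerm Fin.revPerm = ((((g⁻¹ : Matrix.GeneralLinearGroup (Fin n) F) : Matrix (Fin n) (Fin n) F)).transpose).submatrix
        Fin.revPerm Fin.revPerm *
      ((((h⁻¹ : Matrix.GeneralLinearGroup (Fin n) F) : Matrix (Fin n) (Fin n) F)).transpose).submatrix
        Fin.revPerm Fin.revPerm
    rw [Matrix.submatrix_mul_equiv _ _ _ (Fin.revPerm) _, ← Matrix.transpose_mul, ← Units.val_mul,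
      ← _root_.mul_inv_rev]

theorem twist_mem {k : ℕ} (hk : k ≤ n) {g : Matrix.GeneralLinearGroup (Fin n) F}
    (hg : g ∈ Cfsg.stabilizing (Cfsg.glToMat (Fin n) F) {v : Fin n → F | ∀ i : Fin n, k ≤ (i : ℕ) → v i = 0}) :
    twist g ∈ Cfsg.stabilizing (Cfsg.glToMat (Fin n) F)
      {v : Fin n → F | ∀ i : Fin n, n - k ≤ (i : ℕ) → v i = 0} := by
  rw [mem_stab]
  intro i j hi hj
  show ((((g⁻¹ : Matrix.GeneralLinearGroup (Fin n) F) : Matrix (Fin n) (Fin n) F)).transpose).submatrix
        Fin.revPerm Fin.revPerm i j = 0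
  rw [Matrix.submatrix_apply, Matrix.transpose_apply]
  refine (mem_stab k _).mp (inv_mem hg) _ _ ?_ ?_
  · rw [Fin.revPerm_apply, Fin.val_rev]; omega
  · rw [Fin.revPerm_apply, Fin.val_rev]; omega

/-- Subspaces invariant under the stabiliser of a coordinate subspace. -/
theorem invariant {l : ℕ} (U : Submodule F (Fin n → F))
    (hU : ∀ g ∈ Cfsg.stabilizing (Cfsg.glToMat (Fin n) F) {v : Fin n → F | ∀ i : Fin n, l ≤ (i : ℕ) → v i = 0},
      ∀ u ∈ U, (g : Matrix (Fin n) (Fin n) F) *ᵥ u ∈ U) (hU0 : U ≠ ⊥) :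
    U = ⊤ ∨ U = sub l := by
  classical
  have hel : ∀ v ∈ U, ∀ a i : Fin n, a ≠ i → ((a : ℕ) < l ∨ l ≤ (i : ℕ)) → v i ≠ 0 →
      Pi.single a (1 : F) ∈ U := by
    intro v hv a i hai hor hvi
    let g : Matrix.GeneralLinearGroup (Fin n) F :=
      ⟨Matrix.transvection a i 1, Matrix.transvection a i (-1),
        by rw [Matrix.transvection_mul_transvection_same _ _ hai, add_neg_cancel, Matrix.transvection_zero],
        by rw [Matrix.transvection_mul_transvection_same _ _ hai, neg_add_cancel, Matrix.transvection_zero]⟩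
    have hg : g ∈ Cfsg.stabilizing (Cfsg.glToMat (Fin n) F)
        {v : Fin n → F | ∀ i : Fin n, l ≤ (i : ℕ) → v i = 0} := by
      rw [mem_stab]
      intro p q hp hq
      show Matrix.transvection a i (1 : F) p q = 0
      simp only [Matrix.transvection, Matrix.add_apply, Matrix.one_apply, Matrix.single_apply]
      rw [if_neg (fun e => by rw [e] at hp; omega), if_neg, add_zero]
      rintro ⟨rfl, rfl⟩
      omega
    have h := U.sub_mem (hU g hg v hv) hv
    have e : (g : Matrix (Fin n) (Fin n) F) *ᵥ v - v = v i • Pi.single a (1 : F) := by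
      show Matrix.transvection a i (1 : F) *ᵥ v - v = _
      rw [Matrix.transvection, Matrix.add_mulVec, Matrix.one_mulVec, add_sub_cancel_left,
        Matrix.single_mulVec]
      funext p
      rcases eq_or_ne p a with rfl | hp <;> simp [*]
    rw [e] at h
    exact (U.smul_mem_iff hvi).mp h
  -- all unit vectors allowed by one non-zero coordinate
  have hgen : ∀ v ∈ U, ∀ i : Fin n, v i ≠ 0 → (∀ j, j ≠ i → v j ≠ 0 → Pi.single j (1 : F) ∈ U) →
      Pi.single i (1 : F) ∈ U := by
    intro v hv i hvi h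
    have hsum : ∑ j ∈ Finset.univ.erase i, v j • Pi.single j (1 : F) ∈ U := by
      refine U.sum_mem fun j hj => ?_
      rcases eq_or_ne (v j) 0 with h0 | h0
      · rw [h0, zero_smul]; exact U.zero_mem
      · exact U.smul_mem _ (h j (Finset.ne_of_mem_erase hj) h0)
    have e : v i • Pi.single i (1 : F) = v - ∑ j ∈ Finset.univ.erase i, v j • Pi.single j (1 : F) := by
      rw [eq_sub_iff_add_eq, Finset.add_sum_erase _ (fun j => v j • Pi.single j (1 : F)) (Finset.mem_univ i)]
      funext p
      simp [Finset.sum_apply, Pi.single_apply]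
    exact (U.smul_mem_iff hvi).mp (e ▸ U.sub_mem hv hsum)
  have hspan : ∀ S : Submodule F (Fin n → F), (∀ v ∈ S, ∀ i, v i ≠ 0 → Pi.single i (1 : F) ∈ U) →
      S ≤ U := by
    intro S h v hv
    have e : v = ∑ j, v j • Pi.single j (1 : F) := by
      funext p; simp [Finset.sum_apply, Pi.single_apply]
    rw [e]
    refine U.sum_mem fun j _ => ?_
    rcases eq_or_ne (v j) 0 with h0 | h0
    · rw [h0, zero_smul]; exact U.zero_mem
    · exact U.smul_mem _ (h v hv j h0)
  by_cases hcase : ∃ v ∈ U, ∃ i : Fin n, l ≤ (i : ℕ) ∧ v i ≠ 0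
  · obtain ⟨v, hv, i, hi, hvi⟩ := hcase
    have ha : ∀ a, a ≠ i → Pi.single a (1 : F) ∈ U := fun a h => hel v hv a i h (Or.inr hi) hvi
    left
    refine eq_top_iff.mpr (hspan ⊤ fun w _ j _ => ?_)
    rcases eq_or_ne j i with rfl | hj
    · exact hgen v hv j hvi fun k hk _ => ha k hk
    · exact ha j hj
  · push_neg at hcase
    right
    have hle : U ≤ sub l := fun v hv i hi => hcase v hv i hi
    refine le_antisymm hle (hspan _ fun w hw j hwj => ?_)
    have hjl : (j : ℕ) < l := by by_contra h; exact hwj (hw j (by omega))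
    obtain ⟨v, hv, hv0⟩ := (Submodule.ne_bot_iff U).mp hU0
    obtain ⟨i, hvi⟩ := Function.ne_iff.mp hv0
    have hil : (i : ℕ) < l := by by_contra h; exact hvi (hle hv i (by omega))
    rcases eq_or_ne j i with rfl | hj
    · exact hgen v hv j hvi fun k hk hk0 => hel v hv k j hk (Or.inl (by
        by_contra h; exact hk0 (hle hv k (by omega)))) hvi
    · exact hel v hv j i hj (Or.inl hjl) hvi

theorem card_sub {k : ℕ} (hk : k ≤ n) : Nat.card (sub (F := F) (n := n) k) = Nat.card F ^ k := by
  let e : sub (F := F) (n := n) k ≃ (Fin k → F) :=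
    { toFun := fun v i => (v : Fin n → F) (Fin.castLE hk i)
      invFun := fun w => ⟨fun i => if h : (i : ℕ) < k then w ⟨i, h⟩ else 0, fun i hi => dif_neg (by omega)⟩
      left_inv := fun v => by
        refine Subtype.ext (funext fun i => ?_)
        by_cases h : (i : ℕ) < k
        · simp [h]
        · simp [h, v.2 i (by omega)]
      right_inv := fun w => funext fun i => by simp [i.2] }
  rw [Nat.card_congr e, Nat.card_fun, Nat.card_fin]

end

open Matrix

/-- The stabilisers in GL_n(F), F finite, of the coordinate subspaces of dimensions k and n − k are isomorphic groups, but when 2k ≠ n (and 0 < k < n) no element of GL_n conjugates one onto the other. -/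
theorem result {F : Type*} [Field F] [Finite F] (n k : ℕ) (hk0 : 0 < k) (hkn : k < n) (h2 : 2 * k ≠ n) : Nonempty (↥(Cfsg.stabilizing (Cfsg.glToMat (Fin n) F) {v : Fin n → F | ∀ i : Fin n, k ≤ (i : ℕ) → v i = 0}) ≃* ↥(Cfsg.stabilizing (Cfsg.glToMat (Fin n) F) {v : Fin n → F | ∀ i : Fin n, n - k ≤ (i : ℕ) → v i = 0})) ∧ ∀ g : Matrix.GeneralLinearGroup (Fin n) F, (Cfsg.stabilizing (Cfsg.glToMat (Fin n) F) {v : Fin n → F | ∀ i : Fin n, k ≤ (i : ℕ) → v i = 0}).map (MulAut.conj g).toMonoidHom ≠ Cfsg.stabilizing (Cfsg.glToMat (Fin n) F) {v : Fin n → F | ∀ i : Fin n, n - k ≤ (i : ℕ) → v i = 0} := by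
  refine ⟨⟨?_⟩, ?_⟩
  · refine (twist (F := F) (n := n)).subgroupMap _ |>.trans (MulEquiv.subgroupCongr ?_)
    ext x
    constructor
    · rintro ⟨g, hg, rfl⟩
      exact twist_mem hkn.le hg
    · intro hx
      refine ⟨twist.symm x, ?_, twist.apply_symm_apply x⟩
      have h := twist_mem (k := n - k) (n.sub_le k) hx
      rw [show n - (n - k) = k by omega] at h
      exact h
  · intro g hg
    classical
    let T : (Fin n → F) →ₗ[F] (Fin n → F) := Matrix.mulVecLin (g : Matrix (Fin n) (Fin n) F)
    have hTinj : Function.Injective T := Matrix.mulVec_injective_iff_isUnit.mpr g.isUnit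
    set U := (sub (F := F) (n := n) k).map T with hU
    have hcard : Nat.card U = Nat.card F ^ k := by
      rw [← card_sub (F := F) hkn.le]
      exact (Nat.card_congr (Submodule.equivMapOfInjective T hTinj _).toEquiv).symm
    have hq : 2 ≤ Nat.card F := Finite.one_lt_card
    have hU0 : U ≠ ⊥ := by
      intro e
      rw [e] at hcard
      have h1 : Nat.card (⊥ : Submodule F (Fin n → F)) = 1 := Nat.card_unique
      have := Nat.one_lt_pow (show k ≠ 0 by omega) hq
      omega
    have hinv : ∀ h ∈ Cfsg.stabilizing (Cfsg.glToMat (Fin n) F)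
        {v : Fin n → F | ∀ i : Fin n, n - k ≤ (i : ℕ) → v i = 0},
        ∀ u ∈ U, (h : Matrix (Fin n) (Fin n) F) *ᵥ u ∈ U := by
      intro h hh u hu
      rw [← hg] at hh
      obtain ⟨p, hp, rfl⟩ := hh
      obtain ⟨w, hw, rfl⟩ := hu
      refine ⟨(p : Matrix (Fin n) (Fin n) F) *ᵥ w, (hp w).mp hw, ?_⟩
      show (g : Matrix (Fin n) (Fin n) F) *ᵥ ((p : Matrix (Fin n) (Fin n) F) *ᵥ w) =
        ((MulAut.conj g p : Matrix.GeneralLinearGroup (Fin n) F) : Matrix (Fin n) (Fin n) F) *ᵥ
          ((g : Matrix (Fin n) (Fin n) F) *ᵥ w)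
      rw [MulAut.conj_apply, Matrix.mulVec_mulVec, Matrix.mulVec_mulVec, Units.val_mul, Units.val_mul,
        Matrix.mul_assoc ((g : Matrix (Fin n) (Fin n) F) * (p : Matrix (Fin n) (Fin n) F)),
        Units.inv_mul, Matrix.mul_one]
    rcases invariant U hinv hU0 with e | e
    · rw [e] at hcard
      have h1 : Nat.card (⊤ : Submodule F (Fin n → F)) = Nat.card F ^ n := by
        rw [Nat.card_congr (Submodule.topEquiv).toEquiv, Nat.card_fun, Nat.card_fin]
      rw [h1] at hcard
      exact hkn.ne' (Nat.pow_right_injective hq hcard)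
    · rw [e, card_sub (n.sub_le k)] at hcard
      exact h2 (by have := Nat.pow_right_injective hq hcard; omega)

end Cfsg.Agent.S0773
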