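import Cfsg.Statements.S0778
import Cfsg.Agent.Lib.Classical.SympOrder
import Cfsg.Agent.Lib.FormRep.Symplectic

set_option autoImplicit false
open Cfsg
open scoped Matrix

namespace Cfsg.Agent.S0778

/-- The elements of Sp_2m(F) stabilising both W = ⟨e_1..e_m⟩ and U = ⟨f_1..f_m⟩ form a subgroup isomorphic to GL_m(F) (block-diagonal matrices diag(X, X^(−ᵀ)) up to the sign convention of J), for m ≥ 1 or m = 0 alike. -/
theorem result {F : Type*} [Field F] (m : ℕ) : Nonempty (↥(Cfsg.stabilizing (Cfsg.spToMat m F) {v : Fin m ⊕ Fin m → F | ∀ i : Fin m, v (Sum.inr i) = 0} ⊓ Cfsg.stabilizing (Cfsg.spToMat m F) {v : Fin m ⊕ Fin m → F | ∀ i : Fin m, v (Sum.inl i) = 0}) ≃* Matrix.GeneralLinearGroup (Fin m) F) := by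
  classical
  set A := Cfsg.stabilizing (Cfsg.spToMat m F) {v : Fin m ⊕ Fin m → F | ∀ i : Fin m, v (Sum.inr i) = 0} ⊓
    Cfsg.stabilizing (Cfsg.spToMat m F) {v : Fin m ⊕ Fin m → F | ∀ i : Fin m, v (Sum.inl i) = 0}
  have hblk : ∀ g : A, ((g : Matrix.symplecticGroup (Fin m) F) : Matrix (Fin m ⊕ Fin m) (Fin m ⊕ Fin m) F) =
      Matrix.fromBlocks ((g : Matrix.symplecticGroup (Fin m) F) : Matrix (Fin m ⊕ Fin m) (Fin m ⊕ Fin m) F).toBlocks₁₁ 0 0
        ((g : Matrix.symplecticGroup (Fin m) F) : Matrix (Fin m ⊕ Fin m) (Fin m ⊕ Fin m) F).toBlocks₂₂ := by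
    intro g
    ext (i | i) (j | j)
    · rfl
    · have h := (g.2.2 (Pi.single (.inr j) 1)).1 (fun i => by simp) i
      simpa using h
    · have h := (g.2.1 (Pi.single (.inl j) 1)).1 (fun i => by simp) i
      simpa using h
    · rfl
  have hinv : ∀ g : A, (((g : Matrix.symplecticGroup (Fin m) F) : Matrix (Fin m ⊕ Fin m) (Fin m ⊕ Fin m) F).toBlocks₁₁)ᵀ *
      ((g : Matrix.symplecticGroup (Fin m) F) : Matrix (Fin m ⊕ Fin m) (Fin m ⊕ Fin m) F).toBlocks₂₂ = 1 := fun g => by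
    have h := (g : Matrix.symplecticGroup (Fin m) F).2
    rw [hblk g] at h
    simpa using (SymplecticGroup.fromBlocks_mem_iff.1 h).2.2
  have hdet : ∀ g : A, IsUnit (((g : Matrix.symplecticGroup (Fin m) F) : Matrix (Fin m ⊕ Fin m) (Fin m ⊕ Fin m) F).toBlocks₁₁) := fun g => by
    rw [Matrix.isUnit_iff_isUnit_det, ← Matrix.det_transpose]
    exact Matrix.isUnit_det_of_right_inverse (hinv g)
  let φ : A →* Matrix.GeneralLinearGroup (Fin m) F := MonoidHom.mk' (fun g => (hdet g).unit) fun g h => by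
    refine Units.ext ?_
    show (((g : Matrix.symplecticGroup (Fin m) F) : Matrix (Fin m ⊕ Fin m) (Fin m ⊕ Fin m) F) *
      ((h : Matrix.symplecticGroup (Fin m) F) : Matrix (Fin m ⊕ Fin m) (Fin m ⊕ Fin m) F)).toBlocks₁₁ =
      ((g : Matrix.symplecticGroup (Fin m) F) : Matrix (Fin m ⊕ Fin m) (Fin m ⊕ Fin m) F).toBlocks₁₁ *
      ((h : Matrix.symplecticGroup (Fin m) F) : Matrix (Fin m ⊕ Fin m) (Fin m ⊕ Fin m) F).toBlocks₁₁
    conv_lhs => rw [hblk g, hblk h, Matrix.fromBlocks_multiply]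
    simp
  refine ⟨MulEquiv.ofBijective φ ⟨fun g h e => ?_, fun X => ?_⟩⟩
  · have e1 := congrArg (fun u : Matrix.GeneralLinearGroup (Fin m) F => (u : Matrix (Fin m) (Fin m) F)) e
    refine Subtype.ext (Subtype.ext ?_)
    have e2 := Matrix.inv_eq_right_inv (hinv g)
    have e3 := Matrix.inv_eq_right_inv (hinv h)
    change ((g : Matrix.symplecticGroup (Fin m) F) : Matrix (Fin m ⊕ Fin m) (Fin m ⊕ Fin m) F).toBlocks₁₁ =
      ((h : Matrix.symplecticGroup (Fin m) F) : Matrix (Fin m ⊕ Fin m) (Fin m ⊕ Fin m) F).toBlocks₁₁ at e1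
    rw [e1, e3] at e2
    rw [hblk g, hblk h, e1, e2]
  · have hX : Matrix.fromBlocks (X : Matrix (Fin m) (Fin m) F) 0 0 (((X⁻¹ : Matrix.GeneralLinearGroup (Fin m) F) : Matrix (Fin m) (Fin m) F))ᵀ ∈ Matrix.symplecticGroup (Fin m) F := by
      rw [SymplecticGroup.fromBlocks_mem_iff]
      refine ⟨by simp, by simp, ?_⟩
      rw [Matrix.transpose_zero, Matrix.zero_mul, sub_zero, ← Matrix.transpose_mul, Units.inv_mul,
        Matrix.transpose_one]
    have hiff : ∀ (Z : Matrix.GeneralLinearGroup (Fin m) F) (w : Fin m → F),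
        (∀ i, w i = 0) ↔ ∀ i, ((Z : Matrix (Fin m) (Fin m) F) *ᵥ w) i = 0 := fun Z w => by
      constructor
      · intro h i
        rw [show w = 0 from funext h, Matrix.mulVec_zero]
        rfl
      · intro h i
        have h' : (((Z⁻¹ : Matrix.GeneralLinearGroup (Fin m) F) : Matrix (Fin m) (Fin m) F) * (Z : Matrix (Fin m) (Fin m) F)) *ᵥ w = 0 := by
          rw [← Matrix.mulVec_mulVec, show (Z : Matrix (Fin m) (Fin m) F) *ᵥ w = 0 from funext h, Matrix.mulVec_zero]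
        rw [Units.inv_mul, Matrix.one_mulVec] at h'
        exact congrFun h' i
    let Y : Matrix.GeneralLinearGroup (Fin m) F :=
      ⟨((X⁻¹ : Matrix.GeneralLinearGroup (Fin m) F) : Matrix (Fin m) (Fin m) F)ᵀ, (X : Matrix (Fin m) (Fin m) F)ᵀ,
        by rw [← Matrix.transpose_mul, Units.mul_inv, Matrix.transpose_one],
        by rw [← Matrix.transpose_mul, Units.inv_mul, Matrix.transpose_one]⟩
    refine ⟨⟨⟨_, hX⟩, ?_, ?_⟩, Units.ext ?_⟩
    · intro v
      show (∀ i, v (Sum.inr i) = 0) ↔ ∀ i, (Matrix.fromBlocks _ 0 0 _ *ᵥ v) (Sum.inr i) = 0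
      simp only [Matrix.fromBlocks_mulVec, Sum.elim_inr, Matrix.zero_mulVec, zero_add]
      exact hiff Y (v ∘ Sum.inr)
    · intro v
      show (∀ i, v (Sum.inl i) = 0) ↔ ∀ i, (Matrix.fromBlocks _ 0 0 _ *ᵥ v) (Sum.inl i) = 0
      simp only [Matrix.fromBlocks_mulVec, Sum.elim_inl, Matrix.zero_mulVec, add_zero]
      exact hiff X (v ∘ Sum.inl)
    · rfl

end Cfsg.Agent.S0778
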