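import Cfsg.Statements.S0779
import Cfsg.Agent.Lib.Classical.UnitarySimple

set_option autoImplicit false
open Cfsg

namespace Cfsg.Agent.S0779

/-- Unitary transvections: let |F| = q², h the standard Hermitian form Σ x_i y_i^q and v ≠ 0 with h(v, v) = 0. The linear map x ↦ x + c h(x, v) v is an isometry of h if and only if c = 0 or c^(q−1) = −1. -/
theorem result {F : Type*} [Field F] [Fintype F] {q : ℕ} (hF : Fintype.card F = q ^ 2) (n : ℕ) (v : Fin n → F) (hv : v ≠ 0) (hv0 : Cfsg.hermForm n F q v v = 0) (c : F) : (∀ x y : Fin n → F, Cfsg.hermForm n F q ((Cfsg.unitaryTransvection n q v c).mulVec x) ((Cfsg.unitaryTransvection n q v c).mulVec y) = Cfsg.hermForm n F q x y) ↔ (c = 0 ∨ c ^ (q - 1) = -1) := by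
  obtain ⟨K⟩ := CfsgLib.Classical.Herm.exists_conj_of_card hF
  have hq : 2 ≤ q := K.two_le
  have hcq : c ^ (q - 1) * c = c ^ q := by rw [← pow_succ, Nat.sub_add_cancel (by omega : 1 ≤ q)]
  constructor
  · intro h
    have h1 := CfsgLib.Classical.Herm.skew_of_isometry K hv0 hv (fun x y => by
      rw [← CfsgLib.Classical.Herm.quasi_apply K, ← CfsgLib.Classical.Herm.quasi_apply K,
        ← CfsgLib.Classical.Herm.unitaryTransvection_eq K]
      exact h x y)
    rw [K.bar_apply] at h1
    by_cases hc : c = 0
    · exact Or.inl hc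
    · exact Or.inr (mul_right_cancel₀ hc (by linear_combination hcq + h1))
  · intro h x y
    rw [CfsgLib.Classical.Herm.unitaryTransvection_eq K]
    refine CfsgLib.Classical.Herm.quasi_isometry K ?_ x y
    rw [hv0, mul_zero, add_zero, K.bar_apply]
    rcases h with h | h
    · rw [h, zero_pow (by omega), add_zero]
    · rw [← hcq, h]; ring

end Cfsg.Agent.S0779
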