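import Cfsg.Statements.S0785
import Mathlib
import Cfsg.Agent.Lib.Classical.Reflect

set_option autoImplicit false
open Cfsg

namespace Cfsg.Agent.S0785

/-- det(I) = {±1}: for a quadratic form on F^n whose polar form is non-degenerate, every element of the isometry group has determinant 1 or −1, and as soon as Q takes a non-zero value some isometry has determinant −1. -/
theorem result {F : Type*} [Field F] {n : ℕ} (Q : QuadraticForm F (Fin n → F)) (hQ : (QuadraticMap.polarBilin Q).Nondegenerate) : (∀ g : ↥(Cfsg.isometryGroup F ⇑Q), ((g : Matrix.GeneralLinearGroup (Fin n) F) : Matrix (Fin n) (Fin n) F).det = 1 ∨ ((g : Matrix.GeneralLinearGroup (Fin n) F) : Matrix (Fin n) (Fin n) F).det = -1) ∧ ((∃ v, Q v ≠ 0) → ∃ g : ↥(Cfsg.isometryGroup F ⇑Q), ((g : Matrix.GeneralLinearGroup (Fin n) F) : Matrix (Fin n) (Fin n) F).det = -1) := by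
  classical
  refine ⟨fun g => ?_, fun ⟨v, hv⟩ => ?_⟩
  · set A := ((g : Matrix.GeneralLinearGroup (Fin n) F) : Matrix (Fin n) (Fin n) F)
    have hg : ∀ u, Q (A.mulVec u) = Q u := fun u => g.2 u u
    set B : LinearMap.BilinForm F (Fin n → F) := QuadraticMap.polarBilin Q with hB
    have hcomp : B.comp (Matrix.toLin' A) (Matrix.toLin' A) = B := by
      refine LinearMap.BilinForm.ext fun x y => ?_
      rw [LinearMap.BilinForm.comp_apply, hB, QuadraticMap.polarBilin_apply_apply,
        QuadraticMap.polarBilin_apply_apply, Matrix.toLin'_apply, Matrix.toLin'_apply,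
        QuadraticMap.polar, QuadraticMap.polar, ← Matrix.mulVec_add, hg, hg, hg]
    have h1 := congrArg Matrix.det (congrArg LinearMap.BilinForm.toMatrix' hcomp)
    rw [LinearMap.BilinForm.toMatrix'_comp, LinearMap.toMatrix'_toLin', Matrix.det_mul,
      Matrix.det_mul, Matrix.det_transpose] at h1
    have h0 : (LinearMap.BilinForm.toMatrix' B).det ≠ 0 :=
      Matrix.nondegenerate_iff_det_ne_zero.mp (LinearMap.BilinForm.nondegenerate_toMatrix'_iff.mpr hQ)
    have h2 : A.det * A.det = 1 := mul_left_cancel₀ h0 (by linear_combination h1)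
    exact mul_self_eq_one_iff.mp h2
  · have hdet := CfsgLib.Reflect.reflection_det Q v hv
    refine ⟨⟨Matrix.GeneralLinearGroup.mkOfDetNeZero (Cfsg.reflectionMatrix ⇑Q v)
      (by rw [hdet]; exact neg_ne_zero.mpr one_ne_zero), fun u w => ?_⟩, hdet⟩
    exact CfsgLib.Reflect.reflection_isometry Q v hv u

end Cfsg.Agent.S0785
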