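import Cfsg.Statements.S0786
import Cfsg.Agent.Lib.Classical.OrthSpinor
import Cfsg.Agent.Lib.Classical.Reflect

set_option autoImplicit false
open Cfsg

namespace Cfsg.Agent.S0786

/-- Generation by reflections: if F is finite, Q is a quadratic form on F^n with non-degenerate polar form, and (|F|, n) ≠ (2, 4), then the isometry group of Q is generated by the reflections r_v, Q(v) ≠ 0. -/
theorem result {F : Type*} [Field F] [Fintype F] {n : ℕ} (Q : QuadraticForm F (Fin n → F)) (hQ : (QuadraticMap.polarBilin Q).Nondegenerate) (h : Fintype.card F ≠ 2 ∨ n ≠ 4) : Subgroup.closure {g : ↥(Cfsg.isometryGroup F ⇑Q) | ∃ v : Fin n → F, Q v ≠ 0 ∧ ((g : Matrix.GeneralLinearGroup (Fin n) F) : Matrix (Fin n) (Fin n) F) = Cfsg.reflectionMatrix ⇑Q v} = ⊤ := by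
  classical
  have hB : CfsgLib.Orth.Nondeg Q := fun x hx => hQ.1 x hx
  have hex : Module.finrank F (Fin n → F) = 4 → Nat.card F ≠ 2 := fun h4 h2 => by
    rw [Module.finrank_fin_fun] at h4
    rw [Nat.card_eq_fintype_card] at h2
    exact h.elim (fun h' => h' h2) (fun h' => h' h4)
  rw [← CfsgLib.Orth.refl_eq_top hB hex]
  refine congrArg Subgroup.closure (Set.ext fun g => ?_)
  exact ⟨fun ⟨v, hv, hg⟩ => ⟨v, (CfsgLib.Orth.refl_iff hv).2 hg⟩,
    fun ⟨v, hg⟩ => ⟨v, hg.1, (CfsgLib.Orth.refl_iff hg.1).1 hg⟩⟩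

end Cfsg.Agent.S0786
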