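import Cfsg.Statements.S0789
import Cfsg.Agent.Lib.Classical.OrthSpinor
import Cfsg.Agent.Lib.Classical.Reflect

set_option autoImplicit false
open Cfsg

namespace Cfsg.Agent.S0789

/-- Ω has index 2 in O for q even: if F is finite of characteristic two, n ≥ 2, Q is a quadratic form on F^n with non-degenerate polar form, and (|F|, n) ≠ (2, 4), then the commutator subgroup of the isometry group of Q has index 2 in it. -/
theorem result {F : Type*} [Field F] [Fintype F] [CharP F 2] {n : ℕ} (hn : 2 ≤ n) (Q : QuadraticForm F (Fin n → F)) (hQ : (QuadraticMap.polarBilin Q).Nondegenerate) (h : Fintype.card F ≠ 2 ∨ n ≠ 4) : (Cfsg.Omega F ⇑Q).index = 2 := by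
  classical
  have hB : CfsgLib.Orth.Nondeg Q := fun x hx => hQ.1 x hx
  have hex : Module.finrank F (Fin n → F) = 4 → Nat.card F ≠ 2 := fun h4 h2 => by
    rw [Module.finrank_fin_fun] at h4
    rw [Nat.card_eq_fintype_card] at h2
    exact h.elim (fun h' => h' h2) (fun h' => h' h4)
  have hn' : 1 ≤ Module.finrank F (Fin n → F) := by rw [Module.finrank_fin_fun]; omega
  rw [CfsgLib.Orth.omega_eq_ker_dickson hB CharTwo.two_eq_zero hn' hex, Subgroup.index_ker]
  obtain ⟨v, hv⟩ := CfsgLib.Orth.exists_aniso hB hn'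
  obtain ⟨r, hr⟩ := CfsgLib.Orth.exists_refl hB hv
  have htop : (CfsgLib.Orth.dickson hB).range = ⊤ := eq_top_iff.2 fun z _ => by
    rcases Int.units_eq_one_or z with rfl | rfl
    · exact one_mem _
    · exact ⟨r, CfsgLib.Orth.dickson_refl hB hr⟩
  rw [htop, Subgroup.card_top, Nat.card_eq_fintype_card]
  rfl

end Cfsg.Agent.S0789
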