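import Cfsg.Statements.S0790
import Cfsg.Agent.Lib.Classical.OrthDisc

set_option autoImplicit false
open Cfsg

namespace Cfsg.Agent.S0790

/-- −1 ∈ Ω⁺_2m(q) iff q^m ≡ 1 (mod 4), for q odd and m ≥ 1 (so that in the other case SO⁺_2m(q) = 2 × Ω⁺_2m(q)). -/
theorem result {F : Type*} [Field F] [Fintype F] {q : ℕ} (hF : Fintype.card F = q) (hodd : Odd q) (m : ℕ) (hm : 1 ≤ m) : (∃ g : ↥(Cfsg.isometryGroup F (Cfsg.quadFormPlus m F)), g ∈ Cfsg.Omega F (Cfsg.quadFormPlus m F) ∧ ((g : Matrix.GeneralLinearGroup (Fin m ⊕ Fin m) F) : Matrix (Fin m ⊕ Fin m) (Fin m ⊕ Fin m) F) = -1) ↔ q ^ m % 4 = 1 := by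
  classical
  have h2 : (2 : F) ≠ 0 := Ring.two_ne_zero fun e =>
    Nat.not_even_iff_odd.2 (hF ▸ hodd) (Nat.even_iff.2 (FiniteField.even_card_of_char_two e))
  obtain ⟨Q, hQ, hB⟩ := CfsgLib.Orth.exists_quadForm_plus (F := F) m
  obtain ⟨e, he, hp, hprod⟩ := CfsgLib.Orth.frame_plus h2 m hQ
  have hfin : Fintype.card (Fin m ⊕ Fin m) = Module.finrank F (Fin m ⊕ Fin m → F) :=
    (Module.finrank_pi F).symm
  have hc : Fintype.card (Fin m ⊕ Fin m) = m + m := by rw [Fintype.card_sum, Fintype.card_fin]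
  rw [← hQ, CfsgLib.Orth.neg_one_mem_omega_iff hB h2 hfin ⟨m, hc⟩ (by omega) e he hp, hprod]
  have h4 : q % 4 = 1 ∨ q % 4 = 3 := by rw [Nat.odd_iff] at hodd; omega
  rcases Nat.even_or_odd m with h | h
  · rw [h.neg_one_pow]
    obtain ⟨j, rfl⟩ := h
    refine iff_of_true IsSquare.one ?_
    rw [← two_mul, pow_mul, Nat.pow_mod, Nat.pow_mod q 2]
    rcases h4 with h4 | h4 <;> rw [h4] <;> norm_num
  · rw [h.neg_one_pow, FiniteField.isSquare_neg_one_iff, hF]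
    obtain ⟨j, rfl⟩ := h
    rw [pow_succ, pow_mul, Nat.mul_mod, Nat.pow_mod, Nat.pow_mod q 2]
    rcases h4 with h4 | h4 <;> rw [h4] <;> norm_num

end Cfsg.Agent.S0790
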