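import Cfsg.Statements.S0791
import Cfsg.Agent.Lib.Classical.OrthDisc

set_option autoImplicit false
open Cfsg

namespace Cfsg.Agent.S0791

/-- −1 ∈ Ω⁻_2m(q) iff q^m ≡ −1 (mod 4), for q odd and m ≥ 1; for the minus-type form quadFormMinus (m−1) with anisotropic binary part. -/
theorem result {F : Type*} [Field F] [Fintype F] {q : ℕ} (hF : Fintype.card F = q) (hodd : Odd q) (m : ℕ) (hm : 1 ≤ m) (a b : F) (hab : ∀ z₁ z₂ : F, z₁ ^ 2 + a * z₁ * z₂ + b * z₂ ^ 2 = 0 → z₁ = 0 ∧ z₂ = 0) : (∃ g : ↥(Cfsg.isometryGroup F (Cfsg.quadFormMinus (m - 1) F a b)), g ∈ Cfsg.Omega F (Cfsg.quadFormMinus (m - 1) F a b) ∧ ((g : Matrix.GeneralLinearGroup ((Fin (m - 1) ⊕ Fin (m - 1)) ⊕ Fin 2) F) : Matrix ((Fin (m - 1) ⊕ Fin (m - 1)) ⊕ Fin 2) ((Fin (m - 1) ⊕ Fin (m - 1)) ⊕ Fin 2) F) = -1) ↔ q ^ m % 4 = 3 := by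
  classical
  have h2 : (2 : F) ≠ 0 := Ring.two_ne_zero fun e =>
    Nat.not_even_iff_odd.2 (hF ▸ hodd) (Nat.even_iff.2 (FiniteField.even_card_of_char_two e))
  obtain ⟨Q, hQ, hB⟩ := CfsgLib.Orth.exists_quadForm_minus (m - 1) hab
  obtain ⟨e, he, hp, hprod⟩ := CfsgLib.Orth.frame_minus h2 (m - 1) hab hQ
  have hfin : Fintype.card ((Fin (m - 1) ⊕ Fin (m - 1)) ⊕ Fin 2) =
      Module.finrank F ((Fin (m - 1) ⊕ Fin (m - 1)) ⊕ Fin 2 → F) := (Module.finrank_pi F).symm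
  have hc : Fintype.card ((Fin (m - 1) ⊕ Fin (m - 1)) ⊕ Fin 2) = m + m := by
    simp only [Fintype.card_sum, Fintype.card_fin]; omega
  rw [← hQ, CfsgLib.Orth.neg_one_mem_omega_iff hB h2 hfin ⟨m, hc⟩ (by omega) e he hp, hprod]
  have hd : ¬ IsSquare (a ^ 2 - 4 * b) := by
    rintro ⟨r, hr⟩
    exact h2 (hab (-a + r) 2 (by linear_combination -hr)).2
  have hd0 : a ^ 2 - 4 * b ≠ 0 := fun e' => hd (e' ▸ IsSquare.zero)
  have e1 : (-1 : F) ^ (m - 1) * (4 * b - a ^ 2) = (-1) ^ m * (a ^ 2 - 4 * b) := by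
    obtain ⟨j, rfl⟩ : ∃ j, m = j + 1 := ⟨m - 1, by omega⟩
    rw [Nat.add_sub_cancel, pow_succ]; ring
  rw [e1, CfsgLib.Orth.isSquare_mul_iff (pow_ne_zero _ (neg_ne_zero.2 one_ne_zero))]
  simp only [hd0, hd, iff_false, false_or]
  have h4 : q % 4 = 1 ∨ q % 4 = 3 := by rw [Nat.odd_iff] at hodd; omega
  rcases Nat.even_or_odd m with h | h
  · rw [h.neg_one_pow]
    obtain ⟨j, rfl⟩ := h
    refine iff_of_false (fun h' => h' IsSquare.one) ?_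
    rw [← two_mul, pow_mul, Nat.pow_mod, Nat.pow_mod q 2]
    rcases h4 with h4 | h4 <;> rw [h4] <;> norm_num
  · rw [h.neg_one_pow, FiniteField.isSquare_neg_one_iff, hF]
    obtain ⟨j, rfl⟩ := h
    rw [pow_succ, pow_mul, Nat.mul_mod, Nat.pow_mod, Nat.pow_mod q 2]
    rcases h4 with h4 | h4 <;> rw [h4] <;> norm_num

end Cfsg.Agent.S0791
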