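import Cfsg.Statements.S0792
import Cfsg.Agent.Lib.Classical.OrthSpinor
import Cfsg.Agent.Lib.Classical.Reflect

set_option autoImplicit false
open Cfsg

namespace Cfsg.Agent.S0792

/-- For q odd and Q with non-degenerate polar form on F^n, the determinant-one isometries form the subgroup generated by all products r_u r_v of two reflections (Q(u), Q(v) ≠ 0). -/
theorem result {F : Type*} [Field F] [Fintype F] (h2 : (2 : F) ≠ 0) {n : ℕ} (Q : QuadraticForm F (Fin n → F)) (hQ : (QuadraticMap.polarBilin Q).Nondegenerate) : Cfsg.specialIsometryGroup F ⇑Q = Subgroup.closure {g : ↥(Cfsg.isometryGroup F ⇑Q) | ∃ u v : Fin n → F, Q u ≠ 0 ∧ Q v ≠ 0 ∧ ((g : Matrix.GeneralLinearGroup (Fin n) F) : Matrix (Fin n) (Fin n) F) = Cfsg.reflectionMatrix ⇑Q u * Cfsg.reflectionMatrix ⇑Q v} := by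
  classical
  have hB : CfsgLib.Orth.Nondeg Q := fun x hx => hQ.1 x hx
  have hq : Module.finrank F (Fin n → F) = 4 → Nat.card F ≠ 2 := fun _ e => h2 (by
    rw [Nat.card_eq_fintype_card] at e
    have := FiniteField.cast_card_eq_zero F
    rwa [e, Nat.cast_ofNat] at this)
  set P := Subgroup.closure {g : ↥(Cfsg.isometryGroup F ⇑Q) | ∃ u v : Fin n → F, Q u ≠ 0 ∧ Q v ≠ 0 ∧ ((g : Matrix.GeneralLinearGroup (Fin n) F) : Matrix (Fin n) (Fin n) F) = Cfsg.reflectionMatrix ⇑Q u * Cfsg.reflectionMatrix ⇑Q v} with hP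
  have hpair : ∀ (u v : Fin n → F) (r s : CfsgLib.Orth.Grp Q), CfsgLib.Orth.IsRefl u r →
      CfsgLib.Orth.IsRefl v s → r * s ∈ P := fun u v r s hr hs => Subgroup.subset_closure
    ⟨u, v, hr.1, hs.1, by
      rw [← (CfsgLib.Orth.refl_iff hr.1).1 hr, ← (CfsgLib.Orth.refl_iff hs.1).1 hs]; rfl⟩
  refine le_antisymm (fun g hg => ?_) ((Subgroup.closure_le _).2 ?_)
  · have hdet : ∀ (v : Fin n → F) (r : CfsgLib.Orth.Grp Q), CfsgLib.Orth.IsRefl v r →
        ((r : Matrix.GeneralLinearGroup (Fin n) F) : Matrix (Fin n) (Fin n) F).det = -1 := fun v r hr => by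
      rw [(CfsgLib.Orth.refl_iff hr.1).1 hr, CfsgLib.Reflect.reflection_det Q v hr.1]
    have key : ∀ x : CfsgLib.Orth.Grp Q, x ∈ CfsgLib.Orth.Refl Q →
        (x ∈ P ∧ ((x : Matrix.GeneralLinearGroup (Fin n) F) : Matrix (Fin n) (Fin n) F).det = 1) ∨
        (((x : Matrix.GeneralLinearGroup (Fin n) F) : Matrix (Fin n) (Fin n) F).det = -1 ∧
          ∀ v r, CfsgLib.Orth.IsRefl v r → r * x ∈ P ∧ x * r ∈ P) := by
      intro x hx
      induction hx using Subgroup.closure_induction with
      | mem r hr =>
          obtain ⟨v, hv⟩ := hr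
          exact Or.inr ⟨hdet v r hv, fun u s hs => ⟨hpair u v s r hs hv, hpair v u r s hv hs⟩⟩
      | one => exact Or.inl ⟨one_mem P, by simp⟩
      | mul a b _ _ ha hb =>
          have hab : (((a * b : CfsgLib.Orth.Grp Q) : Matrix.GeneralLinearGroup (Fin n) F) : Matrix (Fin n) (Fin n) F).det =
              ((a : Matrix.GeneralLinearGroup (Fin n) F) : Matrix (Fin n) (Fin n) F).det *
              ((b : Matrix.GeneralLinearGroup (Fin n) F) : Matrix (Fin n) (Fin n) F).det := by
            rw [← Matrix.det_mul]; rfl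
          have hconj : ∀ v r, CfsgLib.Orth.IsRefl v r → ∀ y ∈ P, r * y * r ∈ P := by
            intro v r hr y hy
            induction hy using Subgroup.closure_induction with
            | mem y hy =>
                obtain ⟨p, q, hp, hq, hy⟩ := hy
                obtain ⟨s, hs⟩ := CfsgLib.Orth.exists_refl hB hp
                obtain ⟨t, ht⟩ := CfsgLib.Orth.exists_refl hB hq
                have e : y = s * t := Subtype.ext (Units.ext (by
                  rw [hy, ← (CfsgLib.Orth.refl_iff hp).1 hs, ← (CfsgLib.Orth.refl_iff hq).1 ht]; rfl))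
                rw [e, show r * (s * t) * r = (r * s) * (t * r) by group]
                exact mul_mem (hpair v p r s hr hs) (hpair q v t r ht hr)
            | one => rw [mul_one, CfsgLib.Orth.refl_mul_self hr]; exact one_mem P
            | mul c d _ _ hc hd =>
                rw [show r * (c * d) * r = r * c * r * (r * d * r) by
                  simp [mul_assoc, ← mul_assoc r r, CfsgLib.Orth.refl_mul_self hr]]
                exact mul_mem hc hd
            | inv c _ hc =>
                rw [show r * c⁻¹ * r = (r * c * r)⁻¹ by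
                  rw [mul_inv_rev, mul_inv_rev, CfsgLib.Orth.refl_inv hr, mul_assoc]]
                exact inv_mem hc
          have hcc : ∀ (v : Fin n → F) (r : CfsgLib.Orth.Grp Q), CfsgLib.Orth.IsRefl v r → ∀ y : CfsgLib.Orth.Grp Q, r * (r * y) = y := fun v r hr y => by
            rw [← mul_assoc, CfsgLib.Orth.refl_mul_self hr, one_mul]
          rcases ha with ⟨ha, da⟩ | ⟨da, ha⟩ <;> rcases hb with ⟨hb, db⟩ | ⟨db, hb⟩
          · exact Or.inl ⟨mul_mem ha hb, by rw [hab, da, db, one_mul]⟩
          · refine Or.inr ⟨by rw [hab, da, db, one_mul], fun v r hr => ⟨?_, ?_⟩⟩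
            · rw [show r * (a * b) = r * a * r * (r * b) by
                simp [mul_assoc, hcc v r hr]]
              exact mul_mem (hconj v r hr a ha) (hb v r hr).1
            · rw [mul_assoc]; exact mul_mem ha (hb v r hr).2
          · refine Or.inr ⟨by rw [hab, da, db, mul_one], fun v r hr => ⟨?_, ?_⟩⟩
            · rw [← mul_assoc]; exact mul_mem (ha v r hr).1 hb
            · rw [show a * b * r = a * r * (r * b * r) by
                simp [mul_assoc, hcc v r hr]]
              exact mul_mem (ha v r hr).2 (hconj v r hr b hb)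
          · refine Or.inl ⟨?_, by rw [hab, da, db, neg_mul_neg, one_mul]⟩
            by_cases he : ∃ v r, CfsgLib.Orth.IsRefl (Q := Q) v r
            · obtain ⟨v, r, hr⟩ := he
              rw [show a * b = a * r * (r * b) by simp [mul_assoc, hcc v r hr]]
              exact mul_mem (ha v r hr).2 (hb v r hr).1
            · have hall : CfsgLib.Orth.Refl Q = ⊥ :=
                (Subgroup.closure_eq_bot_iff).2 fun s ⟨v, hs⟩ => absurd ⟨v, s, hs⟩ he
              rw [CfsgLib.Orth.refl_eq_top hB hq] at hall
              have h1 : a * b = 1 := by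
                have : a * b ∈ (⊥ : Subgroup (CfsgLib.Orth.Grp Q)) := hall ▸ Subgroup.mem_top _
                exact Subgroup.mem_bot.1 this
              rw [h1]; exact one_mem P
      | inv a _ ha =>
          have hai : (((a⁻¹ : CfsgLib.Orth.Grp Q) : Matrix.GeneralLinearGroup (Fin n) F) : Matrix (Fin n) (Fin n) F).det *
              ((a : Matrix.GeneralLinearGroup (Fin n) F) : Matrix (Fin n) (Fin n) F).det = 1 := by
            rw [← Matrix.det_mul]
            have : (((a⁻¹ * a : CfsgLib.Orth.Grp Q) : Matrix.GeneralLinearGroup (Fin n) F) : Matrix (Fin n) (Fin n) F).det = 1 := by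
              rw [inv_mul_cancel]; simp
            exact this
          rcases ha with ⟨ha, da⟩ | ⟨da, ha⟩
          · exact Or.inl ⟨inv_mem ha, by rwa [da, mul_one] at hai⟩
          · refine Or.inr ⟨by rw [da] at hai; linear_combination -hai, fun v r hr => ⟨?_, ?_⟩⟩
            · rw [show r * a⁻¹ = (a * r)⁻¹ by rw [mul_inv_rev, CfsgLib.Orth.refl_inv hr]]
              exact inv_mem (ha v r hr).2
            · rw [show a⁻¹ * r = (r * a)⁻¹ by rw [mul_inv_rev, CfsgLib.Orth.refl_inv hr]]
              exact inv_mem (ha v r hr).1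
    have hd : ((g : Matrix.GeneralLinearGroup (Fin n) F) : Matrix (Fin n) (Fin n) F).det = 1 :=
      congrArg Units.val (MonoidHom.mem_ker.1 hg)
    rcases key g (by rw [CfsgLib.Orth.refl_eq_top hB hq]; trivial) with ⟨h, -⟩ | ⟨h, -⟩
    · exact h
    · rw [hd] at h
      exact absurd (by linear_combination h) h2
  · rintro g ⟨u, v, hu, hv, hg⟩
    refine MonoidHom.mem_ker.2 (Units.ext ?_)
    show ((g : Matrix.GeneralLinearGroup (Fin n) F) : Matrix (Fin n) (Fin n) F).det = 1
    rw [hg, Matrix.det_mul, CfsgLib.Reflect.reflection_det Q u hu, CfsgLib.Reflect.reflection_det Q v hv, neg_mul_neg, one_mul]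

end Cfsg.Agent.S0792
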