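import Cfsg.Statements.S0794
import Cfsg.Agent.Lib.Classical.OrthOmega
import Cfsg.Agent.Lib.Classical.Reflect

set_option autoImplicit false
open Cfsg

namespace Cfsg.Agent.S0794

/-- For q odd, n ≥ 5 and Q with non-degenerate polar form: an isometry whose matrix is a Siegel transformation T_(u,v)(c) (u, v singular and orthogonal) is a commutator in the isometry group, so lies in Ω. -/
theorem result {F : Type*} [Field F] [Fintype F] (h2 : (2 : F) ≠ 0) {n : ℕ} (hn : 5 ≤ n) (Q : QuadraticForm F (Fin n → F)) (hQ : (QuadraticMap.polarBilin Q).Nondegenerate) (u v : Fin n → F) (hu : Q u = 0) (hv : Q v = 0) (huv : QuadraticMap.polar ⇑Q u v = 0) (c : F) (g : ↥(Cfsg.isometryGroup F ⇑Q)) (hg : ((g : Matrix.GeneralLinearGroup (Fin n) F) : Matrix (Fin n) (Fin n) F) = Cfsg.siegelMatrix ⇑Q u v c) : g ∈ commutatorSet ↥(Cfsg.isometryGroup F ⇑Q) ∧ g ∈ Cfsg.Omega F ⇑Q := by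
  classical
  have hB : CfsgLib.Orth.Nondeg Q := fun x hx => hQ.1 x hx
  have hn' : 5 ≤ Module.finrank F (Fin n → F) := by rw [Module.finrank_fin_fun]; exact hn
  have hs : CfsgLib.Orth.IsSiegel u (c • v) g := by
    refine ⟨hu, ?_, fun x => ?_⟩
    · rw [CfsgLib.Orth.b_smul_right, huv, mul_zero]
    · show (((g : Matrix.GeneralLinearGroup (Fin n) F)) : Matrix (Fin n) (Fin n) F).mulVec x = _
      rw [hg, CfsgLib.Reflect.siegel_mulVec, CfsgLib.Orth.q_smul, hv, mul_zero, zero_mul, zero_smul,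
        sub_zero, CfsgLib.Orth.b_smul_right, QuadraticMap.polar_comm ⇑Q x v,
        QuadraticMap.polar_comm ⇑Q x u, smul_smul, mul_comm (QuadraticMap.polar ⇑Q u x) c]
  obtain ⟨a, -, b, -, hab⟩ := CfsgLib.Orth.siegel_mem_commutator hB hn' hs
    (by rw [CfsgLib.Orth.q_smul, hv, mul_zero])
  refine ⟨⟨a, b, by rw [commutatorElement_def]; exact hab⟩, ?_⟩
  rw [CfsgLib.Orth.omega_eq_El hB hn']
  exact CfsgLib.Orth.siegel_mem_El hs

end Cfsg.Agent.S0794
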