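import Cfsg.Statements.S0795
import Cfsg.Agent.Lib.Classical.OrthOmega
import Cfsg.Agent.Lib.Classical.Reflect

set_option autoImplicit false
open Cfsg

namespace Cfsg.Agent.S0795

/-- Generation of Ω by root elements: for q odd, n ≥ 5 and Q with non-degenerate polar form on F^n, the commutator subgroup of the isometry group equals the subgroup generated by the isometries whose matrices are Siegel transformations T_(u,v)(c) with u, v singular and orthogonal. -/
theorem result {F : Type*} [Field F] [Fintype F] (h2 : (2 : F) ≠ 0) {n : ℕ} (hn : 5 ≤ n) (Q : QuadraticForm F (Fin n → F)) (hQ : (QuadraticMap.polarBilin Q).Nondegenerate) : Cfsg.Omega F ⇑Q = Subgroup.closure {g : ↥(Cfsg.isometryGroup F ⇑Q) | ∃ (u v : Fin n → F) (c : F), Q u = 0 ∧ Q v = 0 ∧ QuadraticMap.polar ⇑Q u v = 0 ∧ ((g : Matrix.GeneralLinearGroup (Fin n) F) : Matrix (Fin n) (Fin n) F) = Cfsg.siegelMatrix ⇑Q u v c} := by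
  classical
  have hB : CfsgLib.Orth.Nondeg Q := fun x hx => hQ.1 x hx
  have hn' : 5 ≤ Module.finrank F (Fin n → F) := by rw [Module.finrank_fin_fun]; exact hn
  rw [CfsgLib.Orth.omega_eq_El hB hn']
  refine le_antisymm ?_ ((Subgroup.closure_le _).2 ?_)
  · refine (Subgroup.closure_le _).2 ?_
    rintro g ⟨u, v, hg⟩
    refine Subgroup.closure_mono ?_ (CfsgLib.Orth.siegel_mem_closure_singular hB hn' hg)
    rintro h ⟨z, hz, hh⟩
    refine ⟨u, z, 1, hh.1, hz, hh.2.1, Matrix.ext_iff_mulVec.mpr fun x => ?_⟩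
    rw [CfsgLib.Reflect.siegel_mulVec]
    refine (hh.2.2 x).trans ?_
    rw [hz, zero_mul, zero_smul, sub_zero, one_mul, one_mul, QuadraticMap.polar_comm ⇑Q x u,
      QuadraticMap.polar_comm ⇑Q x z]
  · rintro g ⟨u, v, c, hu, hv, huv, hg⟩
    refine CfsgLib.Orth.siegel_mem_El (u := u) (v := c • v) ⟨hu, ?_, fun x => ?_⟩
    · rw [CfsgLib.Orth.b_smul_right, huv, mul_zero]
    · show (((g : Matrix.GeneralLinearGroup (Fin n) F)) : Matrix (Fin n) (Fin n) F).mulVec x = _
      rw [hg, CfsgLib.Reflect.siegel_mulVec, CfsgLib.Orth.q_smul, hv, mul_zero, zero_mul, zero_smul,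
        sub_zero, CfsgLib.Orth.b_smul_right, QuadraticMap.polar_comm ⇑Q x v,
        QuadraticMap.polar_comm ⇑Q x u, smul_smul, mul_comm (QuadraticMap.polar ⇑Q u x) c]

end Cfsg.Agent.S0795
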