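import Cfsg.Statements.S0796
-- import your own Cfsg.Agent.* helpers here

set_option autoImplicit false
open Cfsg

namespace Cfsg.Agent.S0796

/-- If G is finite and acts faithfully and primitively on X, H is the stabiliser of a point, A is a normal subgroup of H whose normal closure in G is G, then for every non-trivial normal subgroup K of G the quotient G ⧸ K is isomorphic to A ⧸ B for some normal subgroup B of A. -/
theorem result {G X : Type*} [Group G] [Finite G] [MulAction G X] [FaithfulSMul G X] (hprim : MulAction.IsPreprimitive G X) (x : X) (A : Subgroup G) (hA : A ≤ MulAction.stabilizer G x) (hAn : (A.subgroupOf (MulAction.stabilizer G x)).Normal) (hgen : Subgroup.normalClosure (A : Set G) = ⊤) (K : Subgroup G) [K.Normal] (hK : K ≠ ⊥) : ∃ (B : Subgroup A) (_ : B.Normal), Nonempty (G ⧸ K ≃* A ⧸ B) := by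
  have := hprim
  have hmov : MulAction.fixedPoints K X ≠ Set.univ := by
    intro h
    apply hK
    rw [eq_bot_iff]
    intro k hk
    rw [Subgroup.mem_bot]
    apply FaithfulSMul.eq_of_smul_eq_smul (α := X)
    intro y
    rw [one_smul]
    exact (MulAction.mem_fixedPoints.mp (Set.eq_univ_iff_forall.mp h y)) ⟨k, hk⟩
  have htr : MulAction.IsPretransitive K X :=
    MulAction.IsQuasiPreprimitive.isPretransitive_of_normal hmov
  have hle : Subgroup.normalClosure (A : Set G) ≤ A ⊔ K := by
    rw [Subgroup.normalClosure, Subgroup.closure_le]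
    intro c hc
    obtain ⟨a, ha, hconj⟩ := Group.mem_conjugatesOfSet_iff.mp hc
    obtain ⟨g, rfl⟩ := isConj_iff.mp hconj
    obtain ⟨k, hk⟩ := MulAction.exists_smul_eq K x (g • x)
    set h : G := (k : G)⁻¹ * g with hh
    have hmem : h ∈ MulAction.stabilizer G x := by
      rw [MulAction.mem_stabilizer_iff, hh, mul_smul, inv_smul_eq_iff]
      exact hk.symm
    have hb : h * a * h⁻¹ ∈ A := hAn.conj_mem ⟨a, hA ha⟩ ha ⟨h, hmem⟩
    have e : g * a * g⁻¹ = (k : G) * (h * a * h⁻¹) * (k : G)⁻¹ := by rw [hh]; group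
    rw [e]
    exact mul_mem (mul_mem (Subgroup.mem_sup_right k.2) (Subgroup.mem_sup_left hb))
      (inv_mem (Subgroup.mem_sup_right k.2))
  rw [hgen, top_le_iff] at hle
  let φ : A →* G ⧸ K := (QuotientGroup.mk' K).comp A.subtype
  have hsurj : Function.Surjective φ := by
    intro q
    obtain ⟨g, rfl⟩ := QuotientGroup.mk'_surjective K q
    have hg : g ∈ A ⊔ K := by rw [hle]; trivial
    obtain ⟨a, ha, k, hk, rfl⟩ := Subgroup.mem_sup_of_normal_right.mp hg
    exact ⟨⟨a, ha⟩, (QuotientGroup.eq).mpr (by simpa using hk)⟩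
  exact ⟨φ.ker, inferInstance, ⟨(QuotientGroup.quotientKerEquivOfSurjective φ hsurj).symm⟩⟩

end Cfsg.Agent.S0796
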