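import Cfsg.Statements.S0797
import Cfsg.Agent.Lib.Classical.OrthSum
import Cfsg.Agent.Lib.Classical.Reflect

set_option autoImplicit false
open Cfsg

namespace Cfsg.Agent.S0797

/-- O^ε_2m(q) ≅ Ω.2² for q odd: if F is finite of odd characteristic, n ≥ 2 is even and Q has non-degenerate polar form on F^n, the isometry group of Q has exactly three subgroups of index 2. -/
theorem result {F : Type*} [Field F] [Fintype F] (h2 : (2 : F) ≠ 0) {n : ℕ} (hn : 2 ≤ n) (heven : Even n) (Q : QuadraticForm F (Fin n → F)) (hQ : (QuadraticMap.polarBilin Q).Nondegenerate) : Nat.card {H : Subgroup ↥(Cfsg.isometryGroup F ⇑Q) // H.index = 2} = 3 := by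
  classical
  have hB : CfsgLib.Orth.Nondeg Q := fun x hx => hQ.1 x hx
  obtain ⟨h1, hr, -⟩ := CfsgLib.Orth.omega_eq_ker_psi hB h2
    (by rw [Module.finrank_fin_fun]; exact hn) (one_ne_zero (α := F))
  set φ := CfsgLib.Orth.psi hB (1 : F) with hφ
  have hs : Function.Surjective φ := MonoidHom.range_eq_top.1 hr
  have hker : ∀ H : Subgroup ↥(Cfsg.isometryGroup F ⇑Q), H.index = 2 → φ.ker ≤ H := by
    intro H hH
    rw [← h1]
    have := Subgroup.normal_of_index_eq_two hH
    have hc : Nat.card (↥(Cfsg.isometryGroup F ⇑Q) ⧸ H) = 2 := hH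
    have : Fact (Nat.Prime 2) := ⟨Nat.prime_two⟩
    have hcyc := isCyclic_of_prime_card hc
    exact Subgroup.Normal.quotient_commutative_iff_commutator_le.1 ⟨⟨fun a b => (IsCyclic.commGroup (α := ↥(Cfsg.isometryGroup F ⇑Q) ⧸ H)).mul_comm a b⟩⟩
  let e : {K : Subgroup (ℤˣ × ℤˣ) // K.index = 2} ≃
      {H : Subgroup ↥(Cfsg.isometryGroup F ⇑Q) // H.index = 2} :=
    { toFun := fun K => ⟨K.1.comap φ, by rw [Subgroup.index_comap_of_surjective _ hs]; exact K.2⟩
      invFun := fun H => ⟨H.1.map φ, by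
        rw [Subgroup.index_map_eq _ hs (hker H.1 H.2)]; exact H.2⟩
      left_inv := fun K => Subtype.ext (Subgroup.map_comap_eq_self_of_surjective hs K.1)
      right_inv := fun H => Subtype.ext (Subgroup.comap_map_eq_self (hker H.1 H.2)) }
  rw [← Nat.card_congr e]
  have hsq : ∀ x : ℤˣ × ℤˣ, x * x = 1 := by decide
  have h4 : Nat.card (ℤˣ × ℤˣ) = 4 := by rw [Nat.card_eq_fintype_card]; rfl
  let f : {x : ℤˣ × ℤˣ // x ≠ 1} → {K : Subgroup (ℤˣ × ℤˣ) // K.index = 2} := fun x =>
    ⟨Subgroup.zpowers x.1, by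
      have ho : orderOf x.1 = 2 := orderOf_eq_prime (by rw [sq]; exact hsq _) x.2
      have := Subgroup.card_mul_index (Subgroup.zpowers x.1)
      rw [Nat.card_zpowers, ho, h4] at this
      omega⟩
  have hf : Function.Bijective f := by
    refine ⟨fun x y hxy => ?_, fun K => ?_⟩
    · have hz : Subgroup.zpowers x.1 = Subgroup.zpowers y.1 := congrArg Subtype.val hxy
      have hmem : x.1 ∈ Subgroup.zpowers y.1 := hz ▸ Subgroup.mem_zpowers x.1
      obtain ⟨k, hk⟩ := Subgroup.mem_zpowers_iff.1 hmem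
      rcases Int.even_or_odd k with ⟨m, hm⟩ | ⟨m, hm⟩
      · rw [hm, ← two_mul, zpow_mul, zpow_two, hsq, one_zpow] at hk
        exact absurd hk.symm x.2
      · rw [hm, zpow_add, zpow_mul, zpow_two, hsq, one_zpow, one_mul, zpow_one] at hk
        exact Subtype.ext hk.symm
    · have hne : K.1 ≠ ⊥ := fun e' => by
        have h := K.2
        rw [e', Subgroup.index_bot, h4] at h
        exact absurd h (by decide)
      obtain ⟨x, hx, hx1⟩ := (K.1.ne_bot_iff_exists_ne_one).1 hne |>.elim fun x hx =>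
        (⟨x.1, x.2, fun e' => hx (Subtype.ext e')⟩ : ∃ x, x ∈ K.1 ∧ x ≠ 1)
      refine ⟨⟨x, hx1⟩, Subtype.ext ?_⟩
      show Subgroup.zpowers x = K.1
      refine Subgroup.eq_of_le_of_card_ge ((Subgroup.zpowers_le).2 hx) ?_
      rw [Nat.card_zpowers, orderOf_eq_prime (by rw [sq]; exact hsq _) hx1]
      have := Subgroup.card_mul_index K.1
      rw [K.2, h4] at this
      omega
  rw [← Nat.card_congr (Equiv.ofBijective f hf), Nat.card_eq_fintype_card]
  rfl

end Cfsg.Agent.S0797
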