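import Cfsg.Statements.S0798
import Cfsg.Agent.Lib.Classical.OrthClassRefl

set_option autoImplicit false
open Cfsg

namespace Cfsg.Agent.S0798

/-- For q odd, n ≥ 2 even, Q with non-degenerate polar form (n, |F|) ≠ (4, 3), and a fixed c ≠ 0: the subgroup of the isometry group generated by the reflections r_v with Q(v) ∈ c·(F^×)² has index 2. -/
theorem result {F : Type*} [Field F] [Fintype F] (h2 : (2 : F) ≠ 0) {n : ℕ} (hn : 2 ≤ n) (heven : Even n) (Q : QuadraticForm F (Fin n → F)) (hQ : (QuadraticMap.polarBilin Q).Nondegenerate) (h43 : ¬ (n = 4 ∧ Fintype.card F = 3)) (c : F) (hc : c ≠ 0) : (Subgroup.closure {g : ↥(Cfsg.isometryGroup F ⇑Q) | ∃ (v : Fin n → F) (t : F), t ≠ 0 ∧ Q v = c * t ^ 2 ∧ ((g : Matrix.GeneralLinearGroup (Fin n) F) : Matrix (Fin n) (Fin n) F) = Cfsg.reflectionMatrix ⇑Q v}).index = 2 := by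
  classical
  have hB : CfsgLib.Orth.Nondeg Q := fun x hx => hQ.1 x hx
  have hch : ringChar F ≠ 2 := fun e => h2 (by
    have := CharP.cast_eq_zero F (ringChar F)
    rwa [e, Nat.cast_ofNat] at this)
  have hodd := FiniteField.odd_card_of_char_ne_two hch
  have hn' : Module.finrank F (Fin n → F) = 2 ∨
      (4 ≤ Module.finrank F (Fin n → F) ∧ 5 ≤ Nat.card F) ∨ 5 ≤ Module.finrank F (Fin n → F) := by
    rw [Module.finrank_fin_fun, Nat.card_eq_fintype_card]
    obtain ⟨k, hk⟩ := heven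
    have := Fintype.one_lt_card (α := F)
    by_cases h4 : n = 4
    · have : Fintype.card F ≠ 3 := fun e => h43 ⟨h4, e⟩
      omega
    · omega
  refine Eq.trans ?_ (CfsgLib.Orth.index_classRefl hB h2 hn' hc)
  refine congrArg (fun s => (Subgroup.closure s).index) (Set.ext fun g => ⟨?_, ?_⟩)
  · rintro ⟨v, t, ht, hv, hg⟩
    exact ⟨v, (CfsgLib.Orth.refl_iff (by rw [hv]; exact mul_ne_zero hc (pow_ne_zero _ ht))).2 hg,
      c * t, by rw [hv]; ring⟩
  · rintro ⟨v, hv, k, hk⟩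
    have hk0 : k ≠ 0 := fun e => mul_ne_zero hv.1 hc (by rw [hk, e, mul_zero])
    exact ⟨v, k / c, div_ne_zero hk0 hc, by field_simp; linear_combination hk,
      (CfsgLib.Orth.refl_iff hv.1).1 hv⟩

end Cfsg.Agent.S0798
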