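import Cfsg.Statements.S0800
import Cfsg.Agent.Lib.SL2.Facts

set_option autoImplicit false
open Cfsg

namespace Cfsg.Agent.S0800

/-- Tori of SL_2(q): if g ∈ SL_2(q) has order coprime to the characteristic p, then the order of g divides q − 1 or q + 1. -/
theorem result {F : Type*} [Field F] [Fintype F] {q : ℕ} (hF : Fintype.card F = q) (p : ℕ) [Fact p.Prime] [CharP F p] (g : Matrix.SpecialLinearGroup (Fin 2) F) (hg : Nat.Coprime (orderOf g) p) : orderOf g ∣ q - 1 ∨ orderOf g ∣ q + 1 := by
  subst hF
  by_cases hreg : CfsgLib.SL2.Regular g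
  · have h := CfsgLib.SL2.orderOf_regular hreg
    rwa [Nat.card_eq_fintype_card] at h
  · left
    have h := orderOf_dvd_of_pow_eq_one (CfsgLib.SL2.pow_two_mul_char_of_not_regular hreg p)
    have h2 : orderOf g ∣ 2 := hg.dvd_of_dvd_mul_right h
    obtain ⟨k, -, hk⟩ := FiniteField.card F p
    rcases (Fact.out : p.Prime).eq_two_or_odd' with rfl | hodd
    · have h1 : orderOf g = 1 := by
        rcases (Nat.dvd_prime Nat.prime_two).mp h2 with h1 | h1
        · exact h1
        · rw [h1] at hg
          exact absurd hg (by decide)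
      rw [h1]
      exact one_dvd _
    · refine h2.trans ?_
      have : Fintype.card F % 2 = 1 := by
        rw [hk]
        exact Nat.odd_iff.mp hodd.pow
      omega

end Cfsg.Agent.S0800
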