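import Cfsg.Statements.S0802
import Cfsg.Agent.Lib.SL2.Exist

set_option autoImplicit false
open Cfsg

namespace Cfsg.Agent.S0802

/-- PSL_2(p^n) has a subgroup isomorphic to A_4 if and only if it is not the case that p = 2 and n is odd. -/
theorem result {F : Type*} [Field F] [Fintype F] (p n : ℕ) [Fact p.Prime] [CharP F p] (hF : Fintype.card F = p ^ n) : (∃ H : Subgroup (Matrix.ProjectiveSpecialLinearGroup (Fin 2) F), Nonempty (H ≃* alternatingGroup (Fin 4))) ↔ ¬ (p = 2 ∧ Odd n) := by
  rw [Fintype.card_eq_nat_card] at hF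
  have hn0 : n ≠ 0 := by
    rintro rfl
    rw [pow_zero] at hF
    have : 1 < Nat.card F := Finite.one_lt_card
    omega
  by_cases hp : p = 2
  · subst hp
    have heven : Even (Nat.card F) := by rw [hF]; exact Nat.even_pow.2 ⟨even_two, hn0⟩
    constructor
    · rintro ⟨H, ⟨e⟩⟩ ⟨-, j, rfl⟩
      have h := CfsgLib.SL2.three_dvd_pred_of_alternating_four e heven
      rw [hF, pow_succ, pow_mul] at h
      have h2 : (2 ^ 2) ^ j % 3 = 1 := by rw [Nat.pow_mod]; norm_num
      omega
    · intro h
      obtain ⟨m, rfl⟩ : Even n := Nat.not_odd_iff_even.1 fun ho => h ⟨rfl, ho⟩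
      exact CfsgLib.SL2.exists_alternating_four_of_five
        (CfsgLib.SL2.exists_alternating_five_of_pow_four m (by rw [hF, ← two_mul, pow_mul]; norm_num))
  · refine ⟨fun _ h => hp h.1, fun _ => CfsgLib.SL2.exists_alternating_four ?_⟩
    rw [hF]
    exact ((Fact.out : p.Prime).odd_of_ne_two hp).pow

end Cfsg.Agent.S0802
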