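import Cfsg.Statements.S0805
import Cfsg.Agent.Lib.SL2.Large

set_option autoImplicit false
open Cfsg

namespace Cfsg.Agent.S0805

/-- Subfield subgroups: let F be a finite field of odd order q and K a finite field with |K|^m = q, m ≥ 1. Then PSL_2(F) has a subgroup isomorphic to PSL_2(K), and has a subgroup isomorphic to PGL_2(K) if and only if m is even. -/
theorem result {F K : Type*} [Field F] [Fintype F] [Field K] [Fintype K] {q : ℕ} (hF : Fintype.card F = q) (hodd : Odd q) (m : ℕ) (hm : 1 ≤ m) (hK : Fintype.card K ^ m = q) : (∃ H : Subgroup (Matrix.ProjectiveSpecialLinearGroup (Fin 2) F), Nonempty (H ≃* Matrix.ProjectiveSpecialLinearGroup (Fin 2) K)) ∧ ((∃ H : Subgroup (Matrix.ProjectiveSpecialLinearGroup (Fin 2) F), Nonempty (H ≃* Matrix.ProjGenLinGroup (Fin 2) K)) ↔ Even m) := by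
  rw [Fintype.card_eq_nat_card] at hF hK
  obtain ⟨f⟩ := CfsgLib.SL2.nonempty_ringHom_of_pow_card (K := K) (F := F) m (by rw [hK, hF])
  refine ⟨⟨_, ⟨(MonoidHom.ofInjective (CfsgLib.SL2.pslMap_injective f)).symm⟩⟩, fun ⟨H, ⟨e⟩⟩ => ?_, fun hev => ?_⟩
  · have hk : 2 ≤ Nat.card K := Finite.one_lt_card
    have hko : Odd (Nat.card K) := Nat.Odd.of_mul_left (n := Nat.card K ^ (m - 1))
      (by rw [← pow_succ', Nat.sub_add_cancel hm, hK]; exact hodd)
    refine CfsgLib.SL2.even_of_pgl_card_dvd hk hko hK ?_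
    have h1 := H.card_subgroup_dvd_card
    rw [Nat.card_congr e.toEquiv, CfsgLib.Classical.card_PGL_eq_card_SL, CfsgLib.SL2.card_SL_two'] at h1
    have h2 := CfsgLib.SL2.card_PSL (F := F)
    rw [show Nat.gcd 2 (Nat.card F - 1) = 2 from CfsgLib.SL2.dd_of_odd (by rw [hF]; exact hodd), hF] at h2
    rw [← h2, mul_comm 2]
    exact Nat.mul_dvd_mul_right h1 2
  · have hsq : ∀ a : K, IsSquare (f a) := fun a => by
      by_cases ha : a = 0
      · exact ⟨0, by simp [ha]⟩
      have h2 : ringChar F ≠ 2 := fun h => by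
        have h3 : ∃ c, q = 2 ^ c := by
          obtain ⟨c, -, hc⟩ := FiniteField.card F (ringChar F)
          exact ⟨c, by rw [← hF, Nat.card_eq_fintype_card, hc, h]⟩
        obtain ⟨c, hc⟩ := h3
        have h1 : 1 < Nat.card F := Finite.one_lt_card
        rcases c with _ | c
        · rw [hF, hc] at h1; norm_num at h1
        · exact Nat.not_even_iff_odd.2 hodd ⟨2 ^ c, by rw [hc, pow_succ]; ring⟩
      rw [FiniteField.isSquare_iff h2 (by simpa using ha)]
      obtain ⟨c, rfl⟩ := hev
      have hdvd : Nat.card K - 1 ∣ Fintype.card F / 2 := by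
        rw [Fintype.card_eq_nat_card, hF, ← hK, show c + c = 2 * c by ring, pow_mul]
        have hk : 2 ≤ Nat.card K := Finite.one_lt_card
        have hko : Odd (Nat.card K) := Nat.Odd.of_mul_left (n := Nat.card K ^ (2 * c - 1))
          (by rw [← pow_succ', Nat.sub_add_cancel (by omega), show 2 * c = c + c by ring, hK]; exact hodd)
        obtain ⟨j, hj⟩ := hko
        have h4 := geom_sum_mul_add (4 * j * (j + 1)) c
        rw [show 4 * j * (j + 1) + 1 = Nat.card K ^ 2 by rw [hj]; ring] at h4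
        rw [← h4, show (∑ i ∈ Finset.range c, (Nat.card K ^ 2) ^ i) * (4 * j * (j + 1)) + 1 =
          2 * (2 * j * ((j + 1) * ∑ i ∈ Finset.range c, (Nat.card K ^ 2) ^ i)) + 1 by ring]
        rw [Nat.mul_add_div two_pos, Nat.add_zero, hj, Nat.add_sub_cancel]
        exact dvd_mul_right _ _
      obtain ⟨d, hd⟩ := hdvd
      have h1 : (a : K) ^ (Nat.card K - 1) = 1 := by
        rw [← Fintype.card_eq_nat_card]; exact FiniteField.pow_card_sub_one_eq_one a ha
      rw [hd, pow_mul, ← map_pow, h1, map_one, one_pow]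
    exact ⟨_, ⟨(MonoidHom.ofInjective (CfsgLib.SL2.pglMap_injective f hsq)).symm⟩⟩

end Cfsg.Agent.S0805
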