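import Cfsg.Statements.S0809
import Cfsg.Agent.Lib.SL2.Facts

set_option autoImplicit false
open Cfsg

namespace Cfsg.Agent.S0809

/-- In SL_2(q), q odd: any two subgroups of order 4 are conjugate, and the normaliser of a subgroup of order 4 has order 2(q − 1) if q ≡ 1 (mod 4) and 2(q + 1) if q ≡ 3 (mod 4); consequently all involutions of PSL_2(q) are conjugate. -/
theorem result {F : Type*} [Field F] [Fintype F] {q : ℕ} (hF : Fintype.card F = q) (hodd : Odd q) (A : Subgroup (Matrix.SpecialLinearGroup (Fin 2) F)) (hA : Nat.card A = 4) : (∀ B : Subgroup (Matrix.SpecialLinearGroup (Fin 2) F), Nat.card B = 4 → ∃ g : Matrix.SpecialLinearGroup (Fin 2) F, B = A.map (MulAut.conj g).toMonoidHom) ∧ (q % 4 = 1 → Nat.card ↥(Subgroup.normalizer (A : Set (Matrix.SpecialLinearGroup (Fin 2) F))) = 2 * (q - 1)) ∧ (q % 4 = 3 → Nat.card ↥(Subgroup.normalizer (A : Set (Matrix.SpecialLinearGroup (Fin 2) F))) = 2 * (q + 1)) ∧ (∀ x y : Matrix.ProjectiveSpecialLinearGroup (Fin 2) F, orderOf x = 2 → orderOf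 y = 2 → IsConj x y) := by
  subst hF
  have hodd' : Odd (Nat.card F) := by rwa [Nat.card_eq_fintype_card]
  have h2 := CfsgLib.SL2.odd_card_two_ne_zero hodd'
  set G := Matrix.SpecialLinearGroup (Fin 2) F
  -- subgroups of order four are generated by an element with square `-1`
  have hgen : ∀ B : Subgroup G, Nat.card B = 4 → ∃ y : G, y * y = -1 ∧ B = Subgroup.zpowers y := by
    intro B hB
    have hex : ∃ y ∈ B, y ≠ 1 ∧ y ≠ -1 := by
      by_contra hc
      push Not at hc
      have hsub : (B : Set G) ⊆ {1, -1} := by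
        intro y hy
        by_cases h : y = 1
        · exact Or.inl h
        · exact Or.inr (hc y hy h)
      have h := (Set.ncard_le_ncard hsub (Set.toFinite _)).trans
        ((Set.ncard_insert_le _ _).trans (by rw [Set.ncard_singleton]))
      rw [← Nat.card_coe_set_eq] at h
      exact absurd (hB ▸ h : 4 ≤ 2) (by norm_num)
    obtain ⟨y, hy, hy1, hy2⟩ := hex
    have hsq : y * y ≠ 1 := fun h => hy2 (CfsgLib.SL2.eq_neg_one_of_mul_self h2 h hy1)
    have h4 : (y * y) * (y * y) = 1 := by
      have h : y ^ 4 = 1 := by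
        rw [← hB]
        exact congrArg Subtype.val (pow_card_eq_one' (x := (⟨y, hy⟩ : B)))
      rw [← h]
      simp [pow_succ, mul_assoc]
    have hy4 := CfsgLib.SL2.eq_neg_one_of_mul_self h2 h4 hsq
    refine ⟨y, hy4, (Subgroup.eq_of_le_of_card_ge (Subgroup.zpowers_le.mpr hy) ?_).symm⟩
    rw [hB, Nat.card_zpowers, CfsgLib.SL2.orderOf_of_mul_self h2 hy4]
  have hconj : ∀ x y : G, x * x = -1 → y * y = -1 → ∃ g : G, g * x * g⁻¹ = y := by
    intro x y hx hy
    refine CfsgLib.SL2.isConj_of_trace (CfsgLib.SL2.regular_of_mul_self h2 hx).nonScalar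
      (CfsgLib.SL2.regular_of_mul_self h2 hy).nonScalar ?_
      (Or.inl (CfsgLib.SL2.regular_of_mul_self h2 hx))
    rw [CfsgLib.SL2.trace_eq_zero_of_mul_self h2 hx, CfsgLib.SL2.trace_eq_zero_of_mul_self h2 hy]
  obtain ⟨x, hx, rfl⟩ := hgen A hA
  have hreg := CfsgLib.SL2.regular_of_mul_self h2 hx
  have hN : Subgroup.normalizer (Subgroup.zpowers x : Set G) =
      Subgroup.normalizer (CfsgLib.SL2.cent x : Set G) := by
    ext h
    rw [CfsgLib.SL2.mem_normalizer_cent_iff hreg]
    constructor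
    · intro hh
      have hm := (Subgroup.mem_normalizer_iff.mp hh x).mp (Subgroup.mem_zpowers x)
      have hle : Subgroup.zpowers x ≤ CfsgLib.SL2.cent x :=
        Subgroup.zpowers_le.mpr (CfsgLib.SL2.self_mem_cent x)
      exact CfsgLib.SL2.eq_or_eq_inv_of_trace hreg (hle hm) (CfsgLib.SL2.trace_conj h x)
    · intro hh
      rw [Subgroup.mem_normalizer_iff_map_conj_eq, MonoidHom.map_zpowers]
      have e : (MulAut.conj h).toMonoidHom x = h * x * h⁻¹ := rfl
      change Subgroup.zpowers ((MulAut.conj h).toMonoidHom x) = Subgroup.zpowers x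
      rw [e]
      rcases hh with hh | hh <;> rw [hh]
      rw [Subgroup.zpowers_inv]
  have htr := CfsgLib.SL2.trace_eq_zero_of_mul_self h2 hx
  refine ⟨fun B hB => ?_, fun h4 => ?_, fun h4 => ?_, fun u v hu hv => ?_⟩
  · obtain ⟨y, hy, rfl⟩ := hgen B hB
    obtain ⟨g, hg⟩ := hconj x y hx hy
    refine ⟨g, ?_⟩
    rw [MonoidHom.map_zpowers]
    exact congrArg Subgroup.zpowers hg.symm
  · obtain ⟨c, hc⟩ : IsSquare (-1 : F) := FiniteField.isSquare_neg_one_iff.mpr (by omega)
    rw [hN, CfsgLib.SL2.card_normalizer_cent hreg,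
      (CfsgLib.SL2.cent_split (c := c) (by rw [htr, ← hc]; ring) hreg).2, Nat.card_eq_fintype_card]
  · rw [hN, CfsgLib.SL2.card_normalizer_cent hreg, (CfsgLib.SL2.cent_nonsplit ?_).2,
      Nat.card_eq_fintype_card]
    intro c hc
    rw [htr, zero_mul, sub_zero] at hc
    exact FiniteField.isSquare_neg_one_iff.mp ⟨c, by linear_combination -hc⟩ h4
  · have key : ∀ w : Matrix.ProjectiveSpecialLinearGroup (Fin 2) F, orderOf w = 2 →
        ∃ g : G, g * g = -1 ∧ QuotientGroup.mk' (Subgroup.center G) g = w := by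
      intro w hw
      obtain ⟨g, rfl⟩ := QuotientGroup.mk'_surjective (Subgroup.center G) w
      refine ⟨g, ?_, rfl⟩
      have h1 : g * g ∈ Subgroup.center G := by
        rw [← QuotientGroup.eq_one_iff]
        have h := pow_orderOf_eq_one (QuotientGroup.mk' (Subgroup.center G) g)
        rw [hw, sq, ← map_mul] at h
        exact h
      rcases CfsgLib.SL2.eq_one_or_eq_neg_one_of_mem_center _ h1 with h | h
      · exfalso
        have hgz : g ∈ Subgroup.center G := by
          by_cases h1' : g = 1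
          · rw [h1']; exact one_mem _
          · rw [CfsgLib.SL2.eq_neg_one_of_mul_self h2 h h1']
            exact CfsgLib.SL2.neg_one_mem_center
        rw [QuotientGroup.mk'_apply, (QuotientGroup.eq_one_iff g).mpr hgz, orderOf_one] at hw
        exact absurd hw (by norm_num)
      · exact h
    obtain ⟨a, ha, rfl⟩ := key u hu
    obtain ⟨b, hb, rfl⟩ := key v hv
    obtain ⟨g, hg⟩ := hconj a b ha hb
    exact (QuotientGroup.mk' _).map_isConj (isConj_iff.mpr ⟨g, hg⟩)

end Cfsg.Agent.S0809
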