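import Cfsg.Statements.S0817
import Cfsg.Agent.Lib.OrthAut.OutPlus
import Cfsg.Agent.Lib.ChevAut.D4OutOrth
-- import your own Cfsg.Agent.* helpers here

set_option autoImplicit false
open Cfsg

namespace Cfsg.Agent.S0817

/-- |Aut(PΩ⁺_2m(q))| for q = p^f, m ≥ 4: |PΩ⁺_2m(q)| times f, times 3 when m = 4, times 2 if p = 2, and times 8 or 4 if p is odd according as m(q−1)/2 is even or odd. -/
theorem result {F : Type*} [Field F] [Fintype F] (p f : ℕ) [Fact p.Prime] (hf : 1 ≤ f) (hF : Fintype.card F = p ^ f) (m : ℕ) (hm : 4 ≤ m) : Nat.card (MulAut (Cfsg.POmega F (Cfsg.quadFormPlus m F))) = (if m = 4 then 3 else 1) * (if p = 2 then 2 else (if Even (m * (p ^ f - 1) / 2) then 8 else 4)) * f * Nat.card (Cfsg.POmega F (Cfsg.quadFormPlus m F)) := by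
  rcases eq_or_lt_of_le hm with rfl | h5
  · rw [CfsgLib.ChevAut.D4.card_mulAut_orth hF, if_pos rfl, hF]
    have hp1 : 1 < p := (Fact.out : p.Prime).one_lt
    rcases (Fact.out : p.Prime).eq_two_or_odd with rfl | hodd
    · have he : (2 ^ f) % 2 = 0 := by rw [Nat.pow_mod]; simp [Nat.zero_pow hf]
      have h1 : 1 ≤ 2 ^ f := Nat.one_le_two_pow
      rw [if_pos rfl, Nat.Coprime.gcd_eq_one (Nat.coprime_two_left.2 (Nat.odd_iff.2 (by omega)))]
      ring
    · have ho : (p ^ f) % 2 = 1 := by rw [Nat.pow_mod, hodd, one_pow, Nat.one_mod]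
      have hev : Even (4 * (p ^ f - 1) / 2) := ⟨p ^ f - 1, by omega⟩
      rw [if_neg (by omega), if_pos hev, Nat.gcd_eq_left (show 2 ∣ p ^ f - 1 by omega)]
      ring
  · obtain ⟨Q, hQ, hB⟩ := CfsgLib.Orth.exists_quadForm_plus (F := F) m
    rw [if_neg (show m ≠ 4 by omega), one_mul, ← hQ]
    exact CfsgLib.OrthAut.card_mulAut_plus p f hf hF h5 hQ hB

end Cfsg.Agent.S0817
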