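import Cfsg.Statements.S0831
import Cfsg.Agent.Lib.Classical.OrthFamily
import Cfsg.Agent.Lib.Classical.OrthForms

set_option autoImplicit false
open Cfsg

namespace Cfsg.Agent.S0831

/-- The two families of maximal totally singular subspaces of the hyperbolic quadric: for the form Σ x_i y_i on F^(2m), m ≥ 1, and m-dimensional subspaces U, W, X on which it vanishes, the parities of m − dim(U ∩ W), m − dim(W ∩ X) and m − dim(U ∩ X) sum to an even number (so 'even codimension of the intersection' is an equivalence relation), and there exist two such subspaces meeting in codimension 1 (so there are exactly two classes). -/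
theorem result {F : Type*} [Field F] (m : ℕ) (hm : 1 ≤ m) : (∀ U W X : Submodule F (Fin m ⊕ Fin m → F), (Module.finrank F U = m ∧ ∀ w ∈ U, Cfsg.quadFormPlus m F w = 0) → (Module.finrank F W = m ∧ ∀ w ∈ W, Cfsg.quadFormPlus m F w = 0) → (Module.finrank F X = m ∧ ∀ w ∈ X, Cfsg.quadFormPlus m F w = 0) → Even ((m - Module.finrank F ↥(U ⊓ W)) + (m - Module.finrank F ↥(W ⊓ X)) + (m - Module.finrank F ↥(U ⊓ X)))) ∧ ∃ U W : Submodule F (Fin m ⊕ Fin m → F), (Module.finrank F U = m ∧ ∀ w ∈ U, Cfsg.quadFormPlus m F w = 0) ∧ (Module.finrank F W = m ∧ ∀ w ∈ W, Cfsg.quadFormPlus m F w = 0) ∧ Module.finrank F ↥(U ⊓ W) + 1 = m := by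
  classical
  obtain ⟨Q, hQ, hB⟩ := CfsgLib.Orth.exists_quadForm_plus (F := F) m
  rw [← hQ]
  have hn : Module.finrank F (Fin m ⊕ Fin m → F) = 2 * m := by
    rw [Module.finrank_pi, Fintype.card_sum, Fintype.card_fin]; omega
  have half : ∀ U : Submodule F (Fin m ⊕ Fin m → F),
      (Module.finrank F U = m ∧ ∀ w ∈ U, Q w = 0) → CfsgLib.Orth.IsHalf Q U := fun U h =>
    ⟨h.2, by rw [hn, h.1]⟩
  refine ⟨fun U W X hU hW hX => ?_, ?_⟩
  · have h := CfsgLib.Orth.even_half_triangle hB (half U hU) (half W hW) (half X hX)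
    have := Submodule.finrank_mono (inf_le_left : U ⊓ W ≤ U)
    have := Submodule.finrank_mono (inf_le_left : W ⊓ X ≤ W)
    have := Submodule.finrank_mono (inf_le_left : U ⊓ X ≤ U)
    have := hU.1
    have := hW.1
    rw [Nat.even_iff] at h ⊢
    omega
  · obtain ⟨U, hU⟩ : ∃ U : Submodule F (Fin m ⊕ Fin m → F), ∀ x, x ∈ U ↔ ∀ i, x (.inr i) = 0 :=
      ⟨⨅ i : Fin m, LinearMap.ker (LinearMap.proj (Sum.inr i)), fun x => by
        simp [Submodule.mem_iInf]⟩
    have hUq : ∀ x ∈ U, Q x = 0 := fun x hx => by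
      rw [hQ]
      exact Finset.sum_eq_zero fun i _ => by rw [(hU x).1 hx i, mul_zero]
    have hUd : m ≤ Module.finrank F U := by
      let f : (Fin m → F) →ₗ[F] U :=
        { toFun := fun y => ⟨Sum.elim y 0, (hU _).2 fun i => rfl⟩
          map_add' := fun a b => Subtype.ext (funext fun j => by rcases j with j | j <;> simp)
          map_smul' := fun c a => Subtype.ext (funext fun j => by rcases j with j | j <;> simp) }
      have hf : Function.Injective f := fun a b e => funext fun i =>
        congrFun (congrArg Subtype.val e) (.inl i)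
      have := LinearMap.finrank_le_finrank_of_injective hf
      rwa [Module.finrank_fin_fun] at this
    have := CfsgLib.Orth.two_mul_finrank_le hB (CfsgLib.Orth.le_orth_of_singular hUq)
    have hUm : Module.finrank F U = m := by omega
    have hxU : (Pi.single (Sum.inr ⟨0, hm⟩) 1 : Fin m ⊕ Fin m → F) ∉ U := fun h => by
      simpa using (hU _).1 h ⟨0, hm⟩
    obtain ⟨W, hW, -, hadj, -⟩ := CfsgLib.Orth.exists_adjacent hB (half U ⟨hUm, hUq⟩)
      (x := Pi.single (Sum.inr ⟨0, hm⟩) 1) (by rw [hQ]; simp [Cfsg.quadFormPlus, Pi.single_apply]) hxU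
    refine ⟨U, W, ⟨hUm, hUq⟩, ⟨?_, hW.1⟩, by omega⟩
    have := hW.2
    omega

end Cfsg.Agent.S0831
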