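import Cfsg.Statements.S0832
import Mathlib

set_option autoImplicit false
open Cfsg

namespace Cfsg.Agent.S0832

set_option maxHeartbeats 1000000 in
/-- For the form Σ x_i y_i on F^(2m) over a finite field, m ≥ 1: an (m−1)-dimensional subspace on which the form vanishes is contained in exactly two m-dimensional subspaces on which it vanishes. -/
theorem result {F : Type*} [Field F] [Finite F] (m : ℕ) (hm : 1 ≤ m) (U : Submodule F (Fin m ⊕ Fin m → F)) (hU : Module.finrank F U + 1 = m ∧ ∀ u ∈ U, Cfsg.quadFormPlus m F u = 0) : Nat.card {W : Submodule F (Fin m ⊕ Fin m → F) // Module.finrank F W = m ∧ (∀ w ∈ W, Cfsg.quadFormPlus m F w = 0) ∧ U ≤ W} = 2 := by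
  classical
  let B : LinearMap.BilinForm F (Fin m ⊕ Fin m → F) :=
    LinearMap.mk₂ F (fun u v => ∑ i : Fin m, (u (.inl i) * v (.inr i) + u (.inr i) * v (.inl i)))
      (fun u u' v => by simp [← Finset.sum_add_distrib]; refine Finset.sum_congr rfl fun i _ => ?_; ring)
      (fun c u v => by simp [Finset.mul_sum]; refine Finset.sum_congr rfl fun i _ => ?_; ring)
      (fun u v v' => by simp [← Finset.sum_add_distrib]; refine Finset.sum_congr rfl fun i _ => ?_; ring)
      (fun c u v => by simp [Finset.mul_sum]; refine Finset.sum_congr rfl fun i _ => ?_; ring)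
  set Q := Cfsg.quadFormPlus m F with hQ
  have hQadd : ∀ u v, Q (u + v) = Q u + Q v + B u v := by
    intro u v
    simp only [hQ, Cfsg.quadFormPlus, B, LinearMap.mk₂_apply, Pi.add_apply, ← Finset.sum_add_distrib]
    exact Finset.sum_congr rfl fun i _ => by ring
  have hQsmul : ∀ (c : F) u, Q (c • u) = c * c * Q u := by
    intro c u
    simp only [hQ, Cfsg.quadFormPlus, Pi.smul_apply, smul_eq_mul, Finset.mul_sum]
    exact Finset.sum_congr rfl fun i _ => by ring
  have hsymm : B.IsSymm := ⟨fun u v => by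
    simp only [B, LinearMap.mk₂_apply, RingHom.id_apply]
    exact Finset.sum_congr rfl fun i _ => by ring⟩
  have hnd : B.Nondegenerate := by
    refine (LinearMap.IsRefl.nondegenerate_iff_separatingLeft hsymm.isRefl).mpr fun u hu => ?_
    funext s
    rcases s with i | i
    · have := hu (Pi.single (.inr i) 1)
      simpa [B, LinearMap.mk₂_apply, Pi.single_apply] using this
    · have := hu (Pi.single (.inl i) 1)
      simpa [B, LinearMap.mk₂_apply, Pi.single_apply] using this
  obtain ⟨hUd, hUQ⟩ := hU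
  have hBU : ∀ u ∈ U, ∀ v ∈ U, B u v = 0 := fun u hu v hv => by
    have := hQadd u v
    rw [hUQ _ (U.add_mem hu hv), hUQ u hu, hUQ v hv] at this
    simpa using this.symm
  set P := B.orthogonal U with hP
  have hPmem : ∀ v, v ∈ P ↔ ∀ u ∈ U, B u v = 0 := fun v => LinearMap.BilinForm.mem_orthogonal_iff
  have hUP : U ≤ P := fun v hv => (hPmem v).mpr fun u hu => hBU u hu v hv
  have hdim : Module.finrank F (Fin m ⊕ Fin m → F) = m + m := by
    rw [Module.finrank_pi, Fintype.card_sum, Fintype.card_fin]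
  have hPd : Module.finrank F P = m + 1 := by
    rw [hP, LinearMap.BilinForm.finrank_orthogonal hnd, hdim]; omega
  -- a singular vector of `P` outside `U`
  let L : Submodule F (Fin m ⊕ Fin m → F) :=
    LinearMap.ker (LinearMap.funLeft F F (Sum.inr : Fin m → Fin m ⊕ Fin m))
  have hL : ∀ v, v ∈ L ↔ ∀ i, v (.inr i) = 0 := fun v => by
    simp [L, LinearMap.funLeft, funext_iff]
  have hLd : Module.finrank F L = m := by
    have h := (LinearMap.funLeft F F (Sum.inr : Fin m → Fin m ⊕ Fin m)).finrank_range_add_finrank_ker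
    rw [LinearMap.range_eq_top.mpr
      (LinearMap.funLeft_surjective_of_injective _ _ _ Sum.inr_injective), finrank_top,
      Module.finrank_pi, Fintype.card_fin, hdim] at h
    show Module.finrank F (LinearMap.ker _) = m
    omega
  have hLorth : B.orthogonal L = L := by
    refine (Submodule.eq_of_le_of_finrank_le (fun v hv => ?_) ?_).symm
    · refine LinearMap.BilinForm.mem_orthogonal_iff.mpr fun u hu => ?_
      show B u v = 0
      simp [B, LinearMap.mk₂_apply, (hL v).mp hv, (hL u).mp hu]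
    · rw [LinearMap.BilinForm.finrank_orthogonal hnd, hdim, hLd]; omega
  obtain ⟨w₀, hw₀P, hw₀U, hw₀Q⟩ : ∃ w, w ∈ P ∧ w ∉ U ∧ Q w = 0 := by
    by_contra hno
    push_neg at hno
    have hle : P ⊓ L ≤ U ⊓ L := fun v hv => ⟨by_contra fun h => hno v hv.1 h (by
      simp [hQ, Cfsg.quadFormPlus, (hL v).mp hv.2]), hv.2⟩
    have h1 : B.orthogonal (U ⊔ L) ≤ P ⊓ L := fun v hv => by
      rw [LinearMap.BilinForm.mem_orthogonal_iff] at hv
      refine ⟨(hPmem v).mpr fun u hu => hv u (Submodule.mem_sup_left hu), ?_⟩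
      rw [← hLorth]
      exact LinearMap.BilinForm.mem_orthogonal_iff.mpr fun u hu => hv u (Submodule.mem_sup_right hu)
    have h2 := Submodule.finrank_mono (h1.trans hle)
    rw [LinearMap.BilinForm.finrank_orthogonal hnd, hdim] at h2
    have h3 := Submodule.finrank_sup_add_finrank_inf_eq U L
    have h4 := Submodule.finrank_le (U ⊔ L)
    rw [hdim] at h4
    omega
  obtain ⟨v, hvP, hvb⟩ : ∃ v ∈ P, B w₀ v ≠ 0 := by
    by_contra hno
    push_neg at hno
    refine hw₀U ?_
    rw [← B.orthogonal_orthogonal hnd hsymm.isRefl U]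
    exact LinearMap.BilinForm.mem_orthogonal_iff.mpr fun x hx => by
      show B x w₀ = 0
      rw [hsymm.eq]; exact hno x hx
  set w₁ := v - (Q v / B w₀ v) • w₀ with hw₁
  have hww : B w₀ w₀ = 0 := by
    have := hQadd w₀ w₀
    rw [show w₀ + w₀ = (2 : F) • w₀ from (two_smul F w₀).symm, hQsmul, hw₀Q] at this
    simpa using this.symm
  have hw₁P : w₁ ∈ P := P.sub_mem hvP (P.smul_mem _ hw₀P)
  have hb : B w₀ w₁ ≠ 0 := by
    rw [hw₁, map_sub, map_smul, hww, smul_zero, sub_zero]; exact hvb
  have hw₁Q : Q w₁ = 0 := by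
    rw [hw₁, sub_eq_add_neg, ← neg_smul, hQadd, hQsmul, hw₀Q, map_smul, hsymm.eq]
    simp only [RingHom.id_apply, smul_eq_mul]
    have hvb' : B v w₀ ≠ 0 := fun h => hvb (by rw [hsymm.eq]; exact h)
    field_simp
    ring
  -- the plane on top of U
  have hspan : ∀ x ∈ P, ∃ u ∈ U, ∃ a c : F, x = u + a • w₀ + c • w₁ := by
    intro x hx
    have hb' : B w₁ w₀ ≠ 0 := by rw [hsymm.eq]; exact hb
    have hw11 : B w₁ w₁ = 0 := by
      have := hQadd w₁ w₁
      rw [show w₁ + w₁ = (2 : F) • w₁ from (two_smul F w₁).symm, hQsmul, hw₁Q] at this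
      simpa using this.symm
    refine ⟨x - (B w₁ x / B w₁ w₀) • w₀ - (B w₀ x / B w₀ w₁) • w₁, ?_,
      B w₁ x / B w₁ w₀, B w₀ x / B w₀ w₁, by abel⟩
    set u := x - (B w₁ x / B w₁ w₀) • w₀ - (B w₀ x / B w₀ w₁) • w₁ with hu
    -- orthogonal to U, w₀ and w₁, a space of dimension m - 1 containing U
    let S : Submodule F (Fin m ⊕ Fin m → F) := U ⊔ Submodule.span F {w₀, w₁}
    have hSP : S ≤ P := sup_le hUP (Submodule.span_le.mpr (by
      rintro y (rfl | rfl) <;> assumption))
    have hli : LinearIndependent F ![w₀, w₁] := by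
      rw [LinearIndependent.pair_iff]
      intro s t hst
      have h0 := congrArg (B w₀) hst
      have h1 := congrArg (B w₁) hst
      simp [hww, hw11, hb, hb'] at h0 h1
      exact ⟨h1, h0⟩
    have hdis : U ⊓ Submodule.span F {w₀, w₁} = ⊥ := by
      rw [Submodule.eq_bot_iff]
      rintro y ⟨hyU, hy⟩
      obtain ⟨s, t, rfl⟩ := Submodule.mem_span_pair.mp hy
      have h0 := (hPmem w₀).mp hw₀P _ hyU
      have h1 := (hPmem w₁).mp hw₁P _ hyU
      simp [hww, hw11, hb, hb'] at h0 h1
      simp [h0, h1]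
    have hSe : S = P := Submodule.eq_of_le_of_finrank_le hSP (by
      have h3 := Submodule.finrank_sup_add_finrank_inf_eq U (Submodule.span F {w₀, w₁})
      have h4 : Module.finrank F (Submodule.span F ({w₀, w₁} : Set (Fin m ⊕ Fin m → F))) = 2 := by
        have := finrank_span_eq_card hli
        rw [show Set.range ![w₀, w₁] = {w₀, w₁} by
          ext z; simp [Fin.exists_fin_two, eq_comm]; tauto] at this
        simpa using this
      rw [hdis, finrank_bot, h4] at h3
      show _ ≤ Module.finrank F ↥(U ⊔ Submodule.span F {w₀, w₁})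
      omega)
    obtain ⟨y, hy, z, hz, hyz⟩ := Submodule.mem_sup.mp (hSe.symm ▸ hx : x ∈ S)
    obtain ⟨s, t, rfl⟩ := Submodule.mem_span_pair.mp hz
    have e0 : B w₀ y = 0 := by rw [hsymm.eq]; exact (hPmem w₀).mp hw₀P _ hy
    have e1 : B w₁ y = 0 := by rw [hsymm.eq]; exact (hPmem w₁).mp hw₁P _ hy
    have : u = y := by
      rw [hu, ← hyz]
      simp [e0, e1, hww, hw11, hb, hb']
      abel
    rw [this]; exact hy
  let W : Fin 2 → Submodule F (Fin m ⊕ Fin m → F) := fun i =>
    U ⊔ Submodule.span F {![w₀, w₁] i}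
  have hWsing : ∀ i, ∀ x ∈ W i, Q x = 0 := by
    intro i x hx
    obtain ⟨y, hy, z, hz, rfl⟩ := Submodule.mem_sup.mp hx
    obtain ⟨c, rfl⟩ := Submodule.mem_span_singleton.mp hz
    fin_cases i
    · simp [hQadd, hQsmul, hUQ y hy, hw₀Q, (hPmem w₀).mp hw₀P y hy]
    · simp [hQadd, hQsmul, hUQ y hy, hw₁Q, (hPmem w₁).mp hw₁P y hy]
  have hwU : ∀ i, ![w₀, w₁] i ∉ U := by
    intro i; fin_cases i
    · exact hw₀U
    · intro h
      exact hb (by rw [hsymm.eq]; exact (hPmem w₀).mp hw₀P _ h)
  have hWd : ∀ i, Module.finrank F (W i) = m := by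
    intro i
    have h3 := Submodule.finrank_sup_add_finrank_inf_eq U (Submodule.span F {![w₀, w₁] i})
    have hne : ![w₀, w₁] i ≠ 0 := fun h => hwU i (h ▸ U.zero_mem)
    have hbot : U ⊓ Submodule.span F {![w₀, w₁] i} = ⊥ := by
      rw [Submodule.eq_bot_iff]
      rintro y ⟨hyU, hy⟩
      obtain ⟨c, rfl⟩ := Submodule.mem_span_singleton.mp hy
      by_contra hc
      have hc0 : c ≠ 0 := fun h => hc (by rw [h, zero_smul])
      exact hwU i ((U.smul_mem_iff hc0).mp hyU)
    rw [hbot, finrank_bot, finrank_span_singleton hne] at h3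
    show Module.finrank F ↥(U ⊔ _) = m
    omega
  have hW01 : W 0 ≠ W 1 := fun h => by
    have h1 : w₁ ∈ W 0 := h ▸ Submodule.mem_sup_right (Submodule.mem_span_singleton_self _)
    obtain ⟨y, hy, z, hz, hyz⟩ := Submodule.mem_sup.mp h1
    obtain ⟨c, rfl⟩ := Submodule.mem_span_singleton.mp hz
    refine hb ?_
    rw [← hyz]
    simp [hww, show B w₀ y = 0 by rw [hsymm.eq]; exact (hPmem w₀).mp hw₀P _ hy]
  rw [← Nat.card_fin 2]
  refine (Nat.card_congr (Equiv.ofBijective
    (fun i => (⟨W i, hWd i, hWsing i, le_sup_left⟩ :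
      {W : Submodule F (Fin m ⊕ Fin m → F) //
        Module.finrank F W = m ∧ (∀ w ∈ W, Q w = 0) ∧ U ≤ W})) ⟨?_, ?_⟩)).symm
  · intro i j h
    have h' : W i = W j := congrArg Subtype.val h
    fin_cases i <;> fin_cases j
    · rfl
    · exact absurd h' hW01
    · exact absurd h'.symm hW01
    · rfl
  · rintro ⟨X, hXd, hXQ, hUX⟩
    obtain ⟨x, hx, hxU⟩ : ∃ x ∈ X, x ∉ U := by
      by_contra hno
      push_neg at hno
      have := Submodule.finrank_mono (show X ≤ U from hno)
      omega
    have hxP : x ∈ P := (hPmem x).mpr fun u hu => by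
      have := hQadd u x
      rw [hXQ _ (X.add_mem (hUX hu) hx), hXQ x hx, hXQ u (hUX hu)] at this
      simpa using this.symm
    obtain ⟨u, hu, a, c, rfl⟩ := hspan x hxP
    have hac : a * c = 0 := by
      have h := hXQ _ hx
      rw [hQadd, hQadd, hQsmul, hQsmul, hw₀Q, hw₁Q, hUQ u hu] at h
      simp [(hPmem w₀).mp hw₀P u hu, (hPmem w₁).mp hw₁P u hu] at h
      rcases h with h | h | h
      · simp [h]
      · simp [h]
      · exact absurd h hb
    obtain ⟨i, d, hd, hX'⟩ : ∃ (i : Fin 2) (d : F), d ≠ 0 ∧ d • ![w₀, w₁] i ∈ X := by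
      rcases mul_eq_zero.mp hac with rfl | rfl
      · refine ⟨1, c, fun h => hxU ?_, ?_⟩
        · simp [h, hu]
        · have := X.sub_mem hx (hUX hu); simpa using this
      · refine ⟨0, a, fun h => hxU ?_, ?_⟩
        · simp [h, hu]
        · have := X.sub_mem hx (hUX hu); simpa using this
    refine ⟨i, Subtype.ext (Submodule.eq_of_le_of_finrank_le
      (sup_le hUX ?_) (by rw [hXd, hWd]))⟩
    rw [Submodule.span_singleton_le_iff_mem]
    exact (X.smul_mem_iff hd).mp hX'

end Cfsg.Agent.S0832
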