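import Cfsg.Statements.S0839
import Mathlib

set_option autoImplicit false
open Cfsg

namespace Cfsg.Agent.S0839

/-- Every transvection t ∈ SL_(n+2)(F) (rank(t − 1) = 1, (t − 1)² = 0) is conjugate in SL_(n+2)(F) to 1 + v·e_0ᵀ for some column vector v with v_0 = 0 (the group A of matrices that are the identity except in the first column below the diagonal); the dimension is written n + 2 ≥ 2. -/
theorem result {F : Type*} [Field F] (n : ℕ) (t : Matrix.SpecialLinearGroup (Fin (n + 2)) F) (ht : Cfsg.IsTransvection (t : Matrix (Fin (n + 2)) (Fin (n + 2)) F)) : ∃ (g : Matrix.SpecialLinearGroup (Fin (n + 2)) F) (v : Fin (n + 2) → F), v 0 = 0 ∧ ((g⁻¹ * t * g : Matrix.SpecialLinearGroup (Fin (n + 2)) F) : Matrix (Fin (n + 2)) (Fin (n + 2)) F) = 1 + Matrix.vecMulVec v (Pi.single 0 1) := by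
  classical
  obtain ⟨hr, hsq⟩ := ht
  set A : Matrix (Fin (n + 2)) (Fin (n + 2)) F :=
    (t : Matrix (Fin (n + 2)) (Fin (n + 2)) F) - 1 with hA
  -- rank one
  rw [Matrix.rank] at hr
  obtain ⟨w, hw, hspan⟩ := finrank_eq_one_iff'.mp hr
  have hcol : ∀ x, ∃ c : F, c • (w : Fin (n + 2) → F) = A.mulVec x := fun x => by
    obtain ⟨c, hc⟩ := hspan ⟨A.mulVec x, ⟨x, rfl⟩⟩
    exact ⟨c, congrArg Subtype.val hc⟩
  choose φ hφ using fun j : Fin (n + 2) => hcol (Pi.single j 1)
  have hAe : A = Matrix.vecMulVec (w : Fin (n + 2) → F) φ := by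
    ext i j
    have := congrFun (hφ j) i
    simp [Matrix.mulVec, dotProduct, Pi.single_apply] at this
    rw [Matrix.vecMulVec_apply, ← this, mul_comm]
  have hw0 : (w : Fin (n + 2) → F) ≠ 0 := fun e => hw (Subtype.ext e)
  have hφ0 : φ ≠ 0 := by
    intro e
    obtain ⟨x, hx⟩ := w.2
    have h1 := (congrArg (fun B : Matrix (Fin (n + 2)) (Fin (n + 2)) F => B.mulVec x) hAe).trans
      (Matrix.vecMulVec_mulVec _ _ _)
    rw [e, zero_dotProduct] at h1
    exact hw0 (by rw [← hx, Matrix.mulVecLin_apply, h1]; simp)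
  have hdot : φ ⬝ᵥ (w : Fin (n + 2) → F) = 0 := by
    rw [hAe, Matrix.vecMulVec_mul_vecMulVec] at hsq
    obtain ⟨i, hi⟩ := Function.ne_iff.mp hw0
    obtain ⟨j, hj⟩ := Function.ne_iff.mp hφ0
    have := congrFun (congrFun hsq i) j
    simp only [Matrix.vecMulVec_apply, Pi.smul_apply, smul_eq_mul, Matrix.zero_apply, mul_eq_zero] at this
    rcases this with h | h | h
    · exact absurd h hi
    · exact h
    · exact absurd h hj
  -- a matrix of determinant one with first row `φ`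
  obtain ⟨M, hM1, hM⟩ : ∃ M : Matrix (Fin (n + 2)) (Fin (n + 2)) F, M.det = 1 ∧ M 0 = φ := by
    obtain ⟨i₀, hi₀⟩ := Function.ne_iff.mp hφ0
    set σ : Equiv.Perm (Fin (n + 2)) := Equiv.swap 0 i₀
    let M₀ : Matrix (Fin (n + 2)) (Fin (n + 2)) F :=
      Matrix.updateRow ((1 : Matrix (Fin (n + 2)) (Fin (n + 2)) F).submatrix σ id) 0 φ
    have hd : M₀.det ≠ 0 := by
      intro h
      obtain ⟨v, hv0, hv⟩ := Matrix.exists_mulVec_eq_zero_iff.mpr h
      have hz : ∀ i, i ≠ i₀ → v i = 0 := by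
        intro i hi
        have h1 := congrFun hv (σ i)
        have hne : σ i ≠ 0 := fun e => hi (by
          have := congrArg σ e
          simpa [σ] using this)
        simpa [M₀, Matrix.mulVec, dotProduct, Matrix.updateRow_ne hne, Matrix.one_apply, σ,
          Equiv.swap_apply_self] using h1
      have h2 := congrFun hv 0
      simp only [M₀, Matrix.mulVec, dotProduct, Matrix.updateRow_self, Pi.zero_apply] at h2
      rw [Finset.sum_eq_single i₀ (fun j _ hj => by rw [hz j hj, mul_zero]) (by simp)] at h2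
      apply hv0
      funext i
      rcases eq_or_ne i i₀ with rfl | h
      · exact (mul_eq_zero.mp h2).resolve_left hi₀
      · exact hz i h
    refine ⟨Matrix.updateRow M₀ 1 (M₀.det⁻¹ • M₀ 1), ?_, ?_⟩
    · rw [Matrix.det_updateRow_smul, Matrix.updateRow_eq_self, inv_mul_cancel₀ hd]
    · rw [Matrix.updateRow_ne (by simp)]
      exact Matrix.updateRow_self
  let m : Matrix.SpecialLinearGroup (Fin (n + 2)) F := ⟨M, hM1⟩
  obtain ⟨g, hgi⟩ : ∃ g : Matrix.SpecialLinearGroup (Fin (n + 2)) F,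
      ((g⁻¹ : Matrix.SpecialLinearGroup (Fin (n + 2)) F) : Matrix (Fin (n + 2)) (Fin (n + 2)) F) = M :=
    ⟨m⁻¹, by rw [inv_inv]⟩
  refine ⟨g, M.mulVec w, ?_, ?_⟩
  · show (M 0) ⬝ᵥ _ = 0
    rw [hM, hdot]
  · have hMg : M * (g : Matrix (Fin (n + 2)) (Fin (n + 2)) F) = 1 := by
      rw [← hgi, ← Matrix.SpecialLinearGroup.coe_mul, inv_mul_cancel, Matrix.SpecialLinearGroup.coe_one]
    have ht' : (t : Matrix (Fin (n + 2)) (Fin (n + 2)) F) = 1 + Matrix.vecMulVec (w : Fin (n + 2) → F) φ :=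
      (add_sub_cancel 1 (t : Matrix (Fin (n + 2)) (Fin (n + 2)) F)).symm.trans (congrArg (1 + ·) hAe)
    rw [Matrix.SpecialLinearGroup.coe_mul, Matrix.SpecialLinearGroup.coe_mul, hgi, ht',
      Matrix.mul_add, Matrix.mul_one, Matrix.add_mul, hMg, Matrix.mul_vecMulVec,
      Matrix.vecMulVec_mul]
    congr 2
    funext j
    have := congrFun (congrFun hMg 0) j
    rw [Matrix.mul_apply_eq_vecMul, hM] at this
    rw [this, Matrix.one_apply, Pi.single_apply]
    simp [eq_comm]

end Cfsg.Agent.S0839
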