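import Cfsg.Statements.S0841
import Mathlib

set_option autoImplicit false
open Cfsg

namespace Cfsg.Agent.S0841

/-- If the commutator subgroup of G lies in the centre, then for all x, y in G and every natural number n one has (x * y) ^ n = x ^ n * y ^ n * c ^ (n * (n - 1) / 2) with c = y⁻¹ * x⁻¹ * y * x. -/
theorem result {G : Type*} [Group G] (hG : commutator G ≤ Subgroup.center G) (x y : G) (n : ℕ) : (x * y) ^ n = x ^ n * y ^ n * (y⁻¹ * x⁻¹ * y * x) ^ (n * (n - 1) / 2) := by
  set c := y⁻¹ * x⁻¹ * y * x with hc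
  have hcen : c ∈ Subgroup.center G := by
    refine hG ?_
    have : c = y⁻¹ * x⁻¹ * (y⁻¹)⁻¹ * (x⁻¹)⁻¹ := by simp [hc, mul_assoc]
    rw [this]
    exact Subgroup.commutator_mem_commutator (Subgroup.mem_top y⁻¹) (Subgroup.mem_top x⁻¹)
  have hcomm : ∀ (k : ℕ) (z : G), z * c ^ k = c ^ k * z :=
    fun k z => Subgroup.mem_center_iff.mp (Subgroup.pow_mem _ hcen k) z
  have hyx : y * x = x * y * c := by simp [hc, mul_assoc]
  have hpow : ∀ k : ℕ, y ^ k * x = x * y ^ k * c ^ k := by
    intro k
    induction k with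
    | zero => simp
    | succ k ih =>
      rw [pow_succ' y k, mul_assoc, ih, ← mul_assoc, ← mul_assoc, hyx, pow_succ' c k]
      have := hcomm 1 (y ^ k)
      rw [pow_one] at this
      rw [mul_assoc (x * y) c (y ^ k), ← this]
      simp [mul_assoc]
  induction n with
  | zero => simp
  | succ n ih =>
    have hk : (n + 1) * (n + 1 - 1) / 2 = n * (n - 1) / 2 + n := by
      rcases n with _ | m
      · simp
      · simp only [Nat.add_sub_cancel]
        rw [show (m + 1 + 1) * (m + 1) = (m + 1) * m + (m + 1) * 2 by ring,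
          Nat.add_mul_div_right _ _ two_pos]
    rw [hk, pow_succ (x * y) n, ih]
    calc x ^ n * y ^ n * c ^ (n * (n - 1) / 2) * (x * y)
        = x ^ n * y ^ n * (x * y) * c ^ (n * (n - 1) / 2) := by
          rw [mul_assoc (x ^ n * y ^ n) _ (x * y), ← hcomm, ← mul_assoc]
      _ = x ^ n * (y ^ n * x) * y * c ^ (n * (n - 1) / 2) := by simp [mul_assoc]
      _ = x ^ n * (x * y ^ n * c ^ n) * y * c ^ (n * (n - 1) / 2) := by rw [hpow]
      _ = x ^ n * x * (y ^ n * y) * (c ^ (n * (n - 1) / 2) * c ^ n) := by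
          rw [← mul_assoc (x ^ n), mul_assoc _ (c ^ n) y, ← hcomm n y]
          simp only [mul_assoc]
          rw [← pow_add, ← pow_add, add_comm n]
      _ = x ^ (n + 1) * y ^ (n + 1) * c ^ (n * (n - 1) / 2 + n) := by
          rw [← pow_succ, ← pow_succ, ← pow_add]

end Cfsg.Agent.S0841
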