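import Cfsg.Statements.S0842
import Cfsg.Agent.Lib.ZStar.QuaternionLarge
import Cfsg.Agent.Lib.PSolvable.Core

set_option autoImplicit false
open Cfsg

namespace Cfsg.Agent.S0842

/-- Suppose a Sylow 2-subgroup S of the finite group G is generalized quaternion of order at least 16, and let D be the commutator subgroup of S, C its centralizer and N its normalizer in G. Then there is a subgroup K of odd order, contained in C and normalized by N, with K ⊔ S = N and K ⊔ (S ⊓ C) = C, and C has index 2 in N. -/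
theorem result {G : Type*} [Group G] [Finite G] (S : Sylow 2 G) (n : ℕ) (e : (S : Subgroup G) ≃* QuaternionGroup (2 ^ (n + 2))) (D : Subgroup G) (hD : D = ⁅(S : Subgroup G), (S : Subgroup G)⁆) : ∃ K : Subgroup G, Odd (Nat.card K) ∧ K ≤ Subgroup.centralizer (D : Set G) ∧ Subgroup.normalizer (D : Set G) ≤ Subgroup.normalizer (K : Set G) ∧ K ⊔ (S : Subgroup G) = Subgroup.normalizer (D : Set G) ∧ K ⊔ ((S : Subgroup G) ⊓ Subgroup.centralizer (D : Set G)) = Subgroup.centralizer (D : Set G) ∧ ((Subgroup.centralizer (D : Set G)).subgroupOf (Subgroup.normalizer (D : Set G))).index = 2 := by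
  classical
  have := Fintype.ofFinite G
  obtain ⟨d, -, -, -, -, -, hSN, hfus, hsyl, hcard, w, hw, hwC, hflip⟩ :=
    CfsgLib.ZStar.quaternion_commutator_data S n e D hD
  set C := Subgroup.centralizer (D : Set G) with hCdef
  set N := Subgroup.normalizer (D : Set G) with hNdef
  have hCN : C ≤ N := fun g hg => Subgroup.mem_normalizer_iff.mpr fun y => by
    refine ⟨fun hy => ?_, fun hy => ?_⟩
    · rw [← hg y hy, mul_inv_cancel_right]; exact hy
    · have h := hg _ hy
      have h' : g * y * g⁻¹ = y := by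
        have h2 : g * y * g⁻¹ * g = g * (g * y * g⁻¹) := h
        calc g * y * g⁻¹ = g⁻¹ * (g * (g * y * g⁻¹)) := by group
          _ = g⁻¹ * (g * y * g⁻¹ * g) := by rw [h2]
          _ = y := by group
      rwa [h'] at hy
  obtain ⟨T⟩ := (inferInstance : Nonempty (Sylow 2 C))
  have hnpc := CfsgLib.ZStar.hasNormalPComplement_of_cyclic T (hsyl T).1
  obtain ⟨P, K0, hK0, hc⟩ := hnpc
  have hK0odd : (Nat.card K0).Coprime 2 := by
    refine Nat.Coprime.symm ((Nat.prime_two.coprime_iff_not_dvd).mpr ?_)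
    rw [← hc.index_eq_card]
    exact P.not_dvd_index
  set K := (Cfsg.pPrimeCore 2 C).map C.subtype with hK
  have hKodd : (Nat.card K).Coprime 2 := by
    rw [hK, Subgroup.card_map_of_injective C.subtype_injective]
    exact CfsgLib.Transfer.pPrimeCore_coprime 2
  have hKC : K ≤ C := Subgroup.map_subtype_le _
  have hCeq : K ⊔ ((S : Subgroup G) ⊓ C) = C := by
    refine Subgroup.eq_of_le_of_card_ge (sup_le hKC inf_le_right) ?_
    have hdisj : Nat.card C = Nat.card K0 * 2 ^ (n + 3) := by
      rw [← hc.card_mul_card]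
      exact congrArg _ (hsyl P).2
    have h1 : Nat.card K * Nat.card ↥((S : Subgroup G) ⊓ C) ∣ Nat.card ↥(K ⊔ ((S : Subgroup G) ⊓ C)) := by
      refine Nat.Coprime.mul_dvd_of_dvd_of_dvd ?_ (Subgroup.card_dvd_of_le le_sup_left)
        (Subgroup.card_dvd_of_le le_sup_right)
      rw [hcard]
      exact hKodd.pow_right _
    have h2 : Nat.card K0 ≤ Nat.card K := by
      rw [hK, Subgroup.card_map_of_injective C.subtype_injective]
      exact Subgroup.card_le_of_le (CfsgLib.Transfer.le_pPrimeCore hK0 hK0odd)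
    calc Nat.card C = Nat.card K0 * 2 ^ (n + 3) := hdisj
      _ ≤ Nat.card K * Nat.card ↥((S : Subgroup G) ⊓ C) := by
          rw [hcard]; exact Nat.mul_le_mul_right _ h2
      _ ≤ _ := Nat.le_of_dvd Nat.card_pos h1
  have hNC : N ≤ Subgroup.normalizer (C : Set G) := by
    intro g hg
    refine Subgroup.mem_normalizer_iff.mpr fun c => ⟨fun hc => ?_, fun hc => ?_⟩
    · intro y hy
      have h := hc _ ((Subgroup.mem_normalizer_iff.mp (inv_mem hg) y).mp hy)
      simp only [inv_inv] at h
      calc y * (g * c * g⁻¹) = g * (g⁻¹ * y * g * c) * g⁻¹ := by group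
        _ = g * (c * (g⁻¹ * y * g)) * g⁻¹ := by rw [h]
        _ = g * c * g⁻¹ * y := by group
    · intro y hy
      have h := hc _ ((Subgroup.mem_normalizer_iff.mp hg y).mp hy)
      calc y * c = g⁻¹ * (g * y * g⁻¹ * (g * c * g⁻¹)) * g := by group
        _ = g⁻¹ * (g * c * g⁻¹ * (g * y * g⁻¹)) * g := by rw [h]
        _ = c * y := by group
  refine ⟨K, Nat.coprime_two_right.mp hKodd, hKC,
    CfsgLib.PSolvable.le_normalizer_map_of_characteristic hNC _, ?_, hCeq, ?_⟩
  · refine le_antisymm (sup_le (hKC.trans hCN) hSN) fun g hg => ?_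
    obtain ⟨q, hq, hqg⟩ := hfus g hg
    rw [show g = q * (q⁻¹ * g) by group]
    refine mul_mem (Subgroup.mem_sup_right hq) ?_
    have : C ≤ K ⊔ (S : Subgroup G) := hCeq ▸ sup_le_sup_left inf_le_left K
    exact this hqg
  · rw [Subgroup.index_eq_two_iff]
    refine ⟨⟨w, hSN hw⟩, fun b => ?_⟩
    simp only [Subgroup.mem_subgroupOf, Subgroup.coe_mul]
    obtain ⟨q, hq, hqb⟩ := hfus (b : G) b.2
    have hflip2 : ∀ q ∈ (S : Subgroup G), q * w ∈ C ↔ q ∉ C := by
      intro q hq
      have hsq : w * w ∈ C := by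
        rcases hflip (w * w) (mul_mem hw hw) with h | h
        · exact h
        · rw [inv_mul_cancel_left] at h
          exact absurd h hwC
      constructor
      · exact fun h hqC => hwC (by simpa using mul_mem (inv_mem hqC) h)
      · intro hqC
        have h1 := (hflip q hq).resolve_left hqC
        have h2 : w * (w⁻¹ * q) * w⁻¹ ∈ C :=
          (Subgroup.mem_normalizer_iff.mp (hNC (hSN hw)) _).mp h1
        rw [show q * w = w * (w⁻¹ * q) * w⁻¹ * (w * w) by group]
        exact mul_mem h2 hsq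
    have hb : (b : G) = q * (q⁻¹ * b) := by group
    have hiff : (b : G) ∈ C ↔ q ∈ C := by
      rw [hb]; exact Subgroup.mul_mem_cancel_right C hqb
    have hiff2 : (b : G) * w ∈ C ↔ q * w ∈ C := by
      have h2 : w⁻¹ * (q⁻¹ * b) * w ∈ C := by
        have := (Subgroup.mem_normalizer_iff.mp (hNC (inv_mem (hSN hw))) _).mp hqb
        rwa [inv_inv] at this
      rw [show (b : G) * w = (q * w) * (w⁻¹ * (q⁻¹ * b) * w) by group]
      exact Subgroup.mul_mem_cancel_right C h2
    rw [hiff, hiff2, hflip2 q hq]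
    by_cases hqC : q ∈ C <;> simp [hqC, Xor']
end Cfsg.Agent.S0842
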