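import Cfsg.Statements.S0843
import Cfsg.Agent.Lib.ZStar.QuaternionLarge

set_option autoImplicit false
open Cfsg

namespace Cfsg.Agent.S0843

/-- Suppose a Sylow 2-subgroup S of the finite group G is generalized quaternion of order at least 16; let D be the commutator subgroup of S and X the set of elements of the centralizer of D whose order is divisible by the order of D. Then D is contained in the cyclic subgroup generated by any element of X; an element of G conjugating some element of X into the centralizer of D normalizes D; and the normalizer of D maps X to itself under conjugation. -/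
theorem result {G : Type*} [Group G] [Finite G] (S : Sylow 2 G) (n : ℕ) (e : (S : Subgroup G) ≃* QuaternionGroup (2 ^ (n + 2))) (D : Subgroup G) (hD : D = ⁅(S : Subgroup G), (S : Subgroup G)⁆) : (∀ y : G, y ∈ Subgroup.centralizer (D : Set G) → Nat.card D ∣ orderOf y → D ≤ Subgroup.zpowers y) ∧ (∀ g y : G, y ∈ Subgroup.centralizer (D : Set G) → Nat.card D ∣ orderOf y → g * y * g⁻¹ ∈ Subgroup.centralizer (D : Set G) → g ∈ Subgroup.normalizer (D : Set G)) ∧ (∀ g y : G, g ∈ Subgroup.normalizer (D : Set G) → y ∈ Subgroup.centralizer (D : Set G) → Nat.card D ∣ orderOf y → g * y * g⁻¹ ∈ Subgroup.centralizer (D : Set G) ∧ Nat.card D ∣ orderOf (g * y * g⁻¹)) := by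
  classical
  have := Fintype.ofFinite G
  obtain ⟨d, hd, hcard, hDd, -, hC, -, -, hsyl, -⟩ :=
    CfsgLib.ZStar.quaternion_commutator_data S n e D hD
  have hpow : ∀ y : G, y ∈ Subgroup.centralizer (D : Set G) → Nat.card D ∣ orderOf y →
      D ≤ Subgroup.zpowers y := by
    intro y hy hdy
    rw [hDd, Subgroup.zpowers_le]
    obtain ⟨j, hj⟩ := hdy
    rw [hcard] at hj
    have hpos := orderOf_pos y
    have hj0 : j ≠ 0 := by rintro rfl; omega
    have hz : orderOf (y ^ j) = 2 ^ (n + 2) := by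
      rw [orderOf_pow_of_dvd hj0 ⟨2 ^ (n + 2), by rw [hj, mul_comm]⟩, hj,
        Nat.mul_div_cancel _ (Nat.pos_of_ne_zero hj0)]
    suffices h : d ∈ Subgroup.zpowers (y ^ j) from
      Subgroup.zpowers_le.mpr (pow_mem (Subgroup.mem_zpowers y) j) h
    let z' : Subgroup.centralizer (D : Set G) := ⟨y ^ j, pow_mem hy j⟩
    have hdC : d ∈ Subgroup.centralizer (D : Set G) := by
      rw [hC, Subgroup.mem_centralizer_singleton_iff]
    let d' : Subgroup.centralizer (D : Set G) := ⟨d, hdC⟩
    have hdc : ∀ c : Subgroup.centralizer (D : Set G), c * d' = d' * c := fun c =>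
      Subtype.ext (c.2 d (hDd ▸ Subgroup.mem_zpowers d)).symm
    haveI hn : (Subgroup.zpowers d').Normal := ⟨fun x hx c => by
      obtain ⟨k, rfl⟩ := hx
      show c * d' ^ k * c⁻¹ ∈ _
      rw [((show Commute c d' from hdc c).zpow_right k).eq, mul_inv_cancel_right]
      exact ⟨k, rfl⟩⟩
    have hd2 : IsPGroup 2 (Subgroup.zpowers d') :=
      CfsgLib.Transfer.isPGroup_zpowers ⟨n + 2, (Subgroup.orderOf_coe d').symm.trans hd⟩
    have hz2 : IsPGroup 2 (Subgroup.zpowers z') :=
      CfsgLib.Transfer.isPGroup_zpowers ⟨n + 2, (Subgroup.orderOf_coe z').symm.trans hz⟩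
    obtain ⟨T, hT⟩ := (hd2.to_sup_of_normal_left hz2).exists_le_sylow
    obtain ⟨g, hg⟩ := CfsgLib.Transfer.exists_zpowers_eq_of_isCyclic _ (hsyl T).1
    have hm := CfsgLib.ZStar.mem_zpowers_of_orderOf_eq
      (hg ▸ hT (Subgroup.mem_sup_right (Subgroup.mem_zpowers z')))
      (hg ▸ hT (Subgroup.mem_sup_left (Subgroup.mem_zpowers d')))
      ((Subgroup.orderOf_coe d').symm.trans (hd.trans (hz.symm.trans (Subgroup.orderOf_coe z'))))
    obtain ⟨k, hk⟩ := hm
    exact ⟨k, congrArg Subtype.val hk⟩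
  refine ⟨hpow, fun g y hy hdy hgy => ?_, fun g y hg hy hdy => ?_⟩
  · have h1 := hpow y hy hdy
    have h2 := hpow _ hgy (by rw [CfsgLib.Transfer.orderOf_conj]; exact hdy)
    obtain ⟨k, hk⟩ := Subgroup.mem_zpowers_iff.mp (h1 (hDd ▸ Subgroup.mem_zpowers d))
    have hgd : g * d * g⁻¹ ∈ Subgroup.zpowers (g * y * g⁻¹) := by
      rw [← hk, ← conj_zpow]; exact zpow_mem (Subgroup.mem_zpowers _) k
    have hm := CfsgLib.ZStar.mem_zpowers_of_orderOf_eq (h2 (hDd ▸ Subgroup.mem_zpowers d)) hgd
      (CfsgLib.Transfer.orderOf_conj g d)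
    rw [Subgroup.mem_normalizer_iff]
    have hmap : D.map (MulAut.conj g).toMonoidHom = D := by
      refine Subgroup.eq_of_le_of_card_ge ?_
        (Subgroup.card_map_of_injective (MulAut.conj g).injective).ge
      rw [hDd, MonoidHom.map_zpowers, Subgroup.zpowers_le]
      exact hm
    intro z
    refine ⟨fun hz => hmap ▸ ⟨z, hz, rfl⟩, fun hz => ?_⟩
    rw [← hmap] at hz
    obtain ⟨z', hz', he⟩ := hz
    simp only [MulEquiv.coe_toMonoidHom, MulAut.conj_apply, mul_left_inj, mul_right_inj] at he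
    exact he ▸ hz'
  · refine ⟨fun z hz => ?_, by rw [CfsgLib.Transfer.orderOf_conj]; exact hdy⟩
    have hz' := (Subgroup.mem_normalizer_iff.mp (inv_mem hg) z).mp hz
    rw [inv_inv] at hz'
    calc z * (g * y * g⁻¹) = g * (g⁻¹ * z * g * y) * g⁻¹ := by group
      _ = g * (y * (g⁻¹ * z * g)) * g⁻¹ := by rw [hy _ hz']
      _ = g * y * g⁻¹ * z := by group
end Cfsg.Agent.S0843
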