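import Cfsg.Statements.S0844
import Cfsg.Agent.Lib.ZStar.QuaternionLarge

set_option autoImplicit false
open Cfsg
open scoped CfsgLib.Char

namespace Cfsg.Agent.S0844

/-- Suppose a Sylow 2-subgroup S of the finite group G is generalized quaternion of order at least 16. Then G has two non-principal irreducible characters χ₁ and χ₂ with χ₁ 1 = χ₂ 1 + 1 such that χ₁ g - χ₂ g = 1 for every element g whose order is not divisible by 4. -/
theorem result {G : Type*} [Group G] [Fintype G] (S : Sylow 2 G) (n : ℕ) (e : (S : Subgroup G) ≃* QuaternionGroup (2 ^ (n + 2))) : ∃ χ₁ χ₂ : G → ℂ, Cfsg.IsIrrCharacter G χ₁ ∧ Cfsg.IsIrrCharacter G χ₂ ∧ χ₁ ≠ (fun _ => 1) ∧ χ₂ ≠ (fun _ => 1) ∧ χ₁ 1 = χ₂ 1 + 1 ∧ ∀ g : G, ¬ 4 ∣ orderOf g → χ₁ g - χ₂ g = 1 := by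
  classical
  obtain ⟨M, hM⟩ := CfsgLib.Blocks.exists_isPModular (p := 2) Nat.prime_two
  have := CfsgLib.Blocks.isPrime_of_isPModular hM
  obtain ⟨-, a, -, -, ha, hidx, hout, -, -, -, -⟩ := CfsgLib.ZStar.quaternion_large_data S n e
  obtain ⟨θ, hθ, hθU, hnorm, hone⟩ :=
    CfsgLib.ZStar.exists_large_theta S (by omega : 3 ≤ n + 3) ha hidx hout
  set U : Set G := {y | y ∈ Subgroup.zpowers (a : G) ∧ y * y ≠ 1} with hU
  have hUX : ∀ y : S, (y : G) ∈ U → y ∈ Subgroup.zpowers a ∧ y * y ≠ 1 := fun y hy => by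
    obtain ⟨k, hk⟩ := Subgroup.mem_zpowers_iff.mp hy.1
    exact ⟨⟨k, Subtype.ext (by simpa using hk)⟩, fun h => hy.2 (congrArg Subtype.val h)⟩
  have hsq := CfsgLib.Blocks.sum_principal_coeff_sq hM (S : Subgroup G) S.2 U
    (CfsgLib.Char.isClassFunction_of_isGeneralized hθ) hθU (fun u hu v hv hc => by
      obtain ⟨g, hg⟩ := isConj_iff.mp hc
      obtain ⟨q, hq⟩ := (CfsgLib.ZStar.local_structure S ha hout (hUX u hu).1 (hUX u hu).2).2.1 g
        (hg ▸ hv.1)
      exact isConj_iff.mpr ⟨q, Subtype.ext (hq.trans hg)⟩) (fun u hu => by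
      obtain ⟨hc, -, hsyl⟩ := CfsgLib.ZStar.local_structure S ha hout (hUX u hu).1 (hUX u hu).2
      obtain ⟨T⟩ := (inferInstance : Nonempty (Sylow 2 (Subgroup.centralizer ({(u : G)} : Set G))))
      rw [CfsgLib.Blocks.sum_sq_degree_principal_of_npc hM
        (CfsgLib.ZStar.hasNormalPComplement_of_cyclic T (hsyl T).1) T,
        (hsyl T).2, hc, Nat.card_zpowers, ha])
  rw [hnorm] at hsq
  choose m hm using fun χ : Cfsg.IrrCharacter G =>
    CfsgLib.Char.exists_int_classInner hθ (ψ := fun y : S => (χ : G → ℂ) y)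
      (CfsgLib.Char.isGeneralized_restrict _ (CfsgLib.Char.isGeneralized_of_isIrr χ.2))
  replace hsq : ∑ χ : Cfsg.IrrCharacter G with χ ∈ Cfsg.principalBlock M G,
      (m χ : ℂ) * (m χ : ℂ) = 3 := by
    refine Eq.trans (Finset.sum_congr rfl fun χ _ => ?_) hsq
    have h := congrArg (fun z : ℂ => z * starRingEnd ℂ z) (hm χ).symm
    simp only [map_intCast] at h
    convert h <;> exact Iff.rfl
  set B : Finset (Cfsg.IrrCharacter G) := {χ | χ ∈ Cfsg.principalBlock M G} with hB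
  have h3 : ∑ χ ∈ B, m χ * m χ = 3 := by exact_mod_cast hsq
  have hm1 : m (CfsgLib.Blocks.trivIrr G) = 1 := by
    have h := hm (CfsgLib.Blocks.trivIrr G)
    rw [show (fun y : S => (CfsgLib.Blocks.trivIrr G : G → ℂ) y) = fun _ => (1 : ℂ) from rfl,
      hone] at h
    exact_mod_cast h.symm
  have hT : CfsgLib.Blocks.trivIrr G ∈ B :=
    Finset.mem_filter.mpr ⟨Finset.mem_univ _, CfsgLib.Blocks.mem_blockOf_self (CfsgLib.Blocks.trivIrr G)⟩
  have hzero : ∀ g : G, ¬ 4 ∣ orderOf g → ∑ χ ∈ B, (m χ : ℂ) * (χ : G → ℂ) g = 0 := by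
    intro g hg
    have hterm : ∀ y : S, θ y * ∑ χ ∈ B, (χ : G → ℂ) g * starRingEnd ℂ ((χ : G → ℂ) y) = 0 := by
      intro y
      by_cases hy : (y : G) ∈ U
      · refine mul_eq_zero_of_right _ ?_
        obtain ⟨k, hk⟩ := IsPGroup.iff_orderOf.mp S.2 y
        rw [← Subgroup.orderOf_coe] at hk
        have hk2 : 4 ∣ orderOf (y : G) := by
          rw [hk]
          rcases k with _ | _ | k
          · exact absurd (by rw [orderOf_eq_one_iff.mp (by simpa using hk : orderOf (y : G) = 1), mul_one]) hy.2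
          · exact absurd (CfsgLib.Invol.mul_self_of_orderOf_two (by simpa using hk)) hy.2
          · exact (show (4 : ℕ) = 2 ^ 2 by norm_num) ▸ pow_dvd_pow 2 (by omega)
        have h := congrArg (starRingEnd ℂ) (CfsgLib.Blocks.sum_block_conj_eq_zero_of_section hM
          (B := Cfsg.principalBlock M G) CfsgLib.Blocks.isPBlock_principalBlock (g := g) ⟨k, hk⟩
          fun r hr hreg hc => hg ?_)
        · rw [map_zero, map_sum] at h
          refine Eq.trans (Finset.sum_congr rfl fun χ _ => ?_) h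
          rw [map_mul, Complex.conj_conj, mul_comm]
        · obtain ⟨c, hc⟩ := isConj_iff.mp hc
          rw [← hc, CfsgLib.Transfer.orderOf_conj, hr.orderOf_mul_eq_mul_orderOf_of_coprime (by
            rw [hk]
            exact ((Nat.prime_two.coprime_iff_not_dvd).mpr hreg).pow_left k)]
          exact hk2.mul_right _
      · rw [hθU y hy, zero_mul]
    have hexp : ∀ χ : Cfsg.IrrCharacter G, (m χ : ℂ) * (χ : G → ℂ) g =
        (Nat.card S : ℂ)⁻¹ * ∑ y : S, θ y * ((χ : G → ℂ) g * starRingEnd ℂ ((χ : G → ℂ) y)) := by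
      intro χ
      rw [← hm χ, Cfsg.classInner, mul_assoc, Finset.sum_mul]
      congr 1
      exact Finset.sum_congr rfl fun y _ => by ring
    rw [Finset.sum_congr rfl fun χ _ => hexp χ, ← Finset.mul_sum, Finset.sum_comm]
    refine mul_eq_zero_of_right _ (Finset.sum_eq_zero fun y _ => ?_)
    rw [← Finset.mul_sum]
    exact hterm y
  -- exactly two further constituents
  set Z := (B.erase (CfsgLib.Blocks.trivIrr G)).filter (fun χ => m χ ≠ 0) with hZ
  have hsumZ : ∑ χ ∈ Z, m χ * m χ = 2 := by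
    rw [hZ, Finset.sum_filter_of_ne (p := fun χ : Cfsg.IrrCharacter G => m χ ≠ 0) (fun χ _ h0 h => h0 (by rw [h, mul_zero]))]
    have := Finset.add_sum_erase B (fun χ => m χ * m χ) hT
    rw [h3, hm1] at this
    linarith
  have hm' : ∀ χ ∈ Z, m χ = 1 ∨ m χ = -1 := fun χ hχ => by
    have h0 := (Finset.mem_filter.mp hχ).2
    have hle := Finset.single_le_sum (f := fun χ => m χ * m χ) (fun _ _ => mul_self_nonneg _) hχ
    rw [hsumZ] at hle
    have h4 : m χ ≤ 1 := by nlinarith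
    have h5 : -1 ≤ m χ := by nlinarith
    omega
  have hcard : Z.card = 2 := by
    have : ∑ χ ∈ Z, m χ * m χ = (Z.card : ℤ) := by
      rw [Finset.sum_congr rfl (g := fun _ => (1 : ℤ)) fun χ hχ => by
        rcases hm' χ hχ with h | h <;> simp [h]]
      simp
    rw [hsumZ] at this
    exact_mod_cast this.symm
  obtain ⟨x, y, hxy, hxy'⟩ := Finset.card_eq_two.mp hcard
  have hrel : ∀ g : G, ¬ 4 ∣ orderOf g →
      1 + (m x : ℂ) * (x : G → ℂ) g + (m y : ℂ) * (y : G → ℂ) g = 0 := by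
    intro g hg
    have h := hzero g hg
    rw [← Finset.add_sum_erase B _ hT, ← Finset.sum_filter_of_ne
      (p := fun χ : Cfsg.IrrCharacter G => m χ ≠ 0) (fun χ _ h0 h => h0 (by rw [h, Int.cast_zero, zero_mul])),
      ← hZ, hxy', Finset.sum_pair hxy, hm1, Int.cast_one, one_mul,
      show (CfsgLib.Blocks.trivIrr G : G → ℂ) g = 1 from rfl] at h
    rw [add_assoc]
    exact h
  have hdeg := hrel 1 (by rw [orderOf_one]; norm_num)
  rw [(CfsgLib.Blocks.irr_degree_eq x).1, (CfsgLib.Blocks.irr_degree_eq y).1] at hdeg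
  have hdeg' : 1 + m x * (Cfsg.charDegree (x : G → ℂ) : ℤ) + m y * (Cfsg.charDegree (y : G → ℂ) : ℤ) = 0 := by
    exact_mod_cast hdeg
  have hdx := (CfsgLib.Blocks.irr_degree_eq x).2
  have hdy := (CfsgLib.Blocks.irr_degree_eq y).2
  have hne : ∀ z ∈ Z, (z : G → ℂ) ≠ fun _ => 1 := fun z hz h =>
    (Finset.mem_erase.mp (Finset.mem_filter.mp hz).1).1 (Subtype.ext h)
  have hxZ : x ∈ Z := hxy' ▸ Finset.mem_insert_self x _
  have hyZ : y ∈ Z := hxy' ▸ Finset.mem_insert_of_mem (Finset.mem_singleton_self y)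
  rcases hm' x hxZ with h1 | h1 <;> rcases hm' y hyZ with h2 | h2 <;>
    rw [h1, h2] at hdeg' hrel
  · omega
  · refine ⟨(y : G → ℂ), (x : G → ℂ), y.2, x.2, hne y hyZ, hne x hxZ, ?_, fun g hg => ?_⟩
    · have := hrel 1 (by rw [orderOf_one]; norm_num); push_cast at this; linear_combination -this
    · have := hrel g hg; push_cast at this; linear_combination -this
  · refine ⟨(x : G → ℂ), (y : G → ℂ), x.2, y.2, hne x hxZ, hne y hyZ, ?_, fun g hg => ?_⟩
    · have := hrel 1 (by rw [orderOf_one]; norm_num); push_cast at this; linear_combination -this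
    · have := hrel g hg; push_cast at this; linear_combination -this
  · omega
end Cfsg.Agent.S0844
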