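import Cfsg.Statements.S0845
import Cfsg.Agent.Lib.ZStar.QuaternionLarge
import Cfsg.Agent.Lib.ZStar.Main

set_option autoImplicit false
open Cfsg

namespace Cfsg.Agent.S0845

/-- Suppose a Sylow 2-subgroup S of the finite group G is generalized quaternion of order at least 16. Then G has a normal subgroup M of even order such that G / M is non-abelian, that is, M does not contain the commutator subgroup of G. -/
theorem result {G : Type*} [Group G] [Finite G] (S : Sylow 2 G) (n : ℕ) (e : (S : Subgroup G) ≃* QuaternionGroup (2 ^ (n + 2))) : ∃ M : Subgroup G, M.Normal ∧ Even (Nat.card M) ∧ ¬ commutator G ≤ M := by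
  classical
  have := Fintype.ofFinite G
  obtain ⟨u, a, hu, huS, ha, -, -, -, hD, -, hiso⟩ := CfsgLib.ZStar.quaternion_large_data S n e
  haveI hOn : (Cfsg.pPrimeCore 2 G).Normal := CfsgLib.Transfer.pPrimeCore_normal 2 G
  have hu' := CfsgLib.ZStar.commutatorsInCore_of_isolated hiso
  have hn : (Cfsg.pPrimeCore 2 G ⊔ Subgroup.zpowers u).Normal := by
    refine ⟨fun y hy g => ?_⟩
    obtain ⟨o, ho, z, ⟨k, rfl⟩, rfl⟩ := Subgroup.mem_sup_of_normal_left.mp hy
    show g * (o * u ^ k) * g⁻¹ ∈ _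
    rw [show g * (o * u ^ k) * g⁻¹ = (g * o * g⁻¹) * (g * u * g⁻¹) ^ k by rw [conj_zpow]; group]
    refine mul_mem (Subgroup.mem_sup_left (hOn.conj_mem o ho g)) (zpow_mem ?_ k)
    rw [show g * u * g⁻¹ = (u * g * u⁻¹ * g⁻¹)⁻¹ * u by group]
    exact mul_mem (Subgroup.mem_sup_left (inv_mem (hu' g)))
      (Subgroup.mem_sup_right (Subgroup.mem_zpowers u))
  refine ⟨_, hn, ?_, fun hle => ?_⟩
  · refine even_iff_two_dvd.mpr ?_
    rw [← hu, ← Nat.card_zpowers]
    exact Subgroup.card_dvd_of_le le_sup_right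
  · have hd : ((a * a : S) : G) ∈ ⁅(S : Subgroup G), (S : Subgroup G)⁆ :=
      hD ▸ Subgroup.mem_zpowers _
    have hM := hle (Subgroup.commutator_mono le_top le_top hd)
    obtain ⟨o, ho, z, ⟨k, rfl⟩, he⟩ := Subgroup.mem_sup_of_normal_left.mp hM
    have ho1 : o = 1 := CfsgLib.PSolvable.eq_one_of_mem_of_mem S.2
      (CfsgLib.Transfer.pPrimeCore_coprime 2) (by
        rw [show o = o * u ^ k * (u ^ k)⁻¹ by group, he]
        exact mul_mem (a * a : S).2 (inv_mem (zpow_mem huS k))) ho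
    rw [ho1, one_mul] at he
    have h4 : a ^ 4 = 1 := Subtype.ext (by
      show (a : G) ^ 4 = 1
      have h2 : u ^ 2 = 1 := hu ▸ pow_orderOf_eq_one u
      calc (a : G) ^ 4 = ((a * a : S) : G) ^ 2 := by rw [Subgroup.coe_mul, ← pow_two, ← pow_mul]
        _ = (u ^ k) ^ 2 := by rw [← he]
        _ = 1 := by rw [← zpow_natCast, ← zpow_mul, mul_comm, zpow_mul, zpow_natCast, h2, one_zpow])
    have := Nat.le_of_dvd (by norm_num) (orderOf_dvd_of_pow_eq_one h4)
    rw [ha] at this
    have := Nat.pow_le_pow_right two_pos (show 3 ≤ n + 3 by omega)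
    omega
end Cfsg.Agent.S0845
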