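import Cfsg.Statements.S0846
import Cfsg.Agent.Lib.ZStar.QuaternionLarge
import Cfsg.Agent.Lib.ZStar.Main

set_option autoImplicit false
open Cfsg

namespace Cfsg.Agent.S0846

/-- Suppose a Sylow 2-subgroup S of the finite group G is generalized quaternion of order at least 16. Then every Sylow 2-subgroup of the subgroup generated by the involutions of G is cyclic. -/
theorem result {G : Type*} [Group G] [Finite G] (S : Sylow 2 G) (n : ℕ) (e : (S : Subgroup G) ≃* QuaternionGroup (2 ^ (n + 2))) (Q : Sylow 2 ↥(Subgroup.closure {g : G | orderOf g = 2})) : IsCyclic Q := by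
  classical
  have := Fintype.ofFinite G
  obtain ⟨u, a, hu, huS, -, -, -, huniq, -, -, hiso⟩ := CfsgLib.ZStar.quaternion_large_data S n e
  haveI hOn : (Cfsg.pPrimeCore 2 G).Normal := CfsgLib.Transfer.pPrimeCore_normal 2 G
  set M := Cfsg.pPrimeCore 2 G ⊔ Subgroup.zpowers u with hM
  have hu' := CfsgLib.ZStar.commutatorsInCore_of_isolated hiso
  have hle : Subgroup.closure {g : G | orderOf g = 2} ≤ M := by
    rw [Subgroup.closure_le]
    intro g hg
    obtain ⟨c, -, hc⟩ := CfsgLib.ZStar.exists_conj_mem_sylow S (N := ⊤) le_top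
      (Q := Subgroup.zpowers g) le_top (CfsgLib.Transfer.isPGroup_zpowers ⟨1, hg⟩)
    have h := huniq ⟨_, hc g (Subgroup.mem_zpowers g)⟩
      (by rw [← Subgroup.orderOf_coe]; exact (CfsgLib.Transfer.orderOf_conj c g).trans hg)
    have hg' : g = (u * c⁻¹ * u⁻¹ * c⁻¹⁻¹)⁻¹ * u := by
      rw [← show c * g * c⁻¹ = u from h]; group
    rw [hg']
    exact mul_mem (Subgroup.mem_sup_left (inv_mem (hu' c⁻¹)))
      (Subgroup.mem_sup_right (Subgroup.mem_zpowers u))
  have hdvd : Nat.card Q ∣ 2 := by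
    have h1 : Nat.card Q ∣ Nat.card M :=
      (Subgroup.card_subgroup_dvd_card _).trans (Subgroup.card_dvd_of_le hle)
    have h2 : Nat.card M ∣ Nat.card (Cfsg.pPrimeCore 2 G) * 2 := by
      have h := Subgroup.relIndex_mul_relIndex ⊥ (Cfsg.pPrimeCore 2 G) M bot_le le_sup_left
      rw [Subgroup.relIndex_bot_left, Subgroup.relIndex_bot_left, hM, Subgroup.relIndex_sup_left] at h
      rw [hM, ← h, ← hu, ← Nat.card_zpowers]
      exact mul_dvd_mul_left _ (Subgroup.relIndex_dvd_card _ _)
    rw [Q.card_eq_multiplicity] at h1 ⊢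
    exact ((CfsgLib.Transfer.pPrimeCore_coprime (G := G) 2).symm.pow_left _).dvd_of_dvd_mul_left
      (h1.trans h2)
  rcases (Nat.dvd_prime Nat.prime_two).mp hdvd with h | h
  · haveI : Subsingleton Q := (Nat.card_eq_one_iff_unique.mp h).1
    exact isCyclic_of_subsingleton
  · exact isCyclic_of_prime_card (p := 2) h
end Cfsg.Agent.S0846
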