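import Cfsg.Statements.S0848
import Cfsg.Agent.Lib.BSW.Count
import Cfsg.Agent.Lib.BSW.DihedralSylow
import Cfsg.Agent.Lib.Transfer.Basic
import Cfsg.Agent.S0107

set_option autoImplicit false
set_option linter.style.haveILetI false
open Cfsg

namespace Cfsg.Agent.S0848

/-- If a finite group equals its own commutator subgroup and contains an involution whose centralizer is isomorphic to the dihedral group of order 8, then the group has order 168 or 360. -/
theorem result {G : Type*} [Group G] [Finite G] (hperf : commutator G = ⊤) (t : G) (ht : orderOf t = 2) (e : Subgroup.centralizer ({t} : Set G) ≃* DihedralGroup 4) : Nat.card G = 168 ∨ Nat.card G = 360 := by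
  classical
  haveI := Fact.mk Nat.prime_two
  set C := Subgroup.centralizer ({t} : Set G) with hC
  have hCc : Nat.card C = 2 ^ 3 := by
    rw [Nat.card_congr e.toEquiv, DihedralGroup.nat_card]; rfl
  have htC : t ∈ C := Subgroup.mem_centralizer_singleton_iff.mpr rfl
  have ht1 : t ≠ 1 := (CfsgLib.BSW.orderOf_two_iff.mp ht).2
  have hcomm : ∀ x ∈ C, x * t = t * x := fun x hx => Subgroup.mem_centralizer_singleton_iff.mp hx
  obtain ⟨S, hS⟩ := (IsPGroup.of_card hCc).exists_le_sylow
  have hdec : ∀ a b : DihedralGroup 4, a ≠ 1 → b ≠ 1 → (∀ x, x * a = a * x) →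
      (∀ x, x * b = b * x) → a = b := by decide
  have hSC : (S : Subgroup G) = C := by
    by_contra hne
    haveI : Group.IsNilpotent (S : Subgroup G) := S.2.isNilpotent
    have hlt : C.subgroupOf (S : Subgroup G) < ⊤ := lt_of_le_of_ne le_top fun h =>
      hne (le_antisymm (Subgroup.subgroupOf_eq_top.mp h) hS)
    obtain ⟨⟨g, hgS⟩, hg, hgC⟩ := SetLike.exists_of_lt (normalizerCondition_of_isNilpotent _ hlt)
    refine hgC (Subgroup.mem_subgroupOf.mpr (Subgroup.mem_centralizer_singleton_iff.mpr ?_))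
    have hmem : ∀ x ∈ C, g * x * g⁻¹ ∈ C := fun x hx => by
      have := (Subgroup.mem_normalizer_iff.mp hg ⟨x, hS hx⟩).mp hx
      exact this
    have hmem' : ∀ x ∈ C, g⁻¹ * x * g ∈ C := fun x hx => by
      have hgi : (⟨g, hgS⟩ : (S : Subgroup G))⁻¹ ∈ Subgroup.normalizer
          ((C.subgroupOf (S : Subgroup G)) : Set (S : Subgroup G)) := Subgroup.inv_mem _ hg
      have := (Subgroup.mem_normalizer_iff.mp hgi ⟨x, hS hx⟩).mp hx
      simpa [Subgroup.mem_subgroupOf] using this
    have hgt := hmem t htC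
    have heq : e ⟨g * t * g⁻¹, hgt⟩ = e ⟨t, htC⟩ := by
      refine hdec _ _ (fun h => ht1 ?_) (fun h => ht1 ?_) (fun x => ?_) (fun x => ?_)
      · rw [map_eq_one_iff e e.injective, Subtype.ext_iff] at h
        exact conj_eq_one_iff.mp h
      · rwa [map_eq_one_iff e e.injective, Subtype.ext_iff] at h
      · obtain ⟨⟨w, hw⟩, rfl⟩ := e.surjective x
        rw [← map_mul, ← map_mul]
        refine congrArg e (Subtype.ext ?_)
        show w * (g * t * g⁻¹) = g * t * g⁻¹ * w
        calc w * (g * t * g⁻¹) = g * (g⁻¹ * w * g * t) * g⁻¹ := by group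
          _ = g * (t * (g⁻¹ * w * g)) * g⁻¹ := by rw [hcomm _ (hmem' w hw)]
          _ = g * t * g⁻¹ * w := by group
      · obtain ⟨⟨w, hw⟩, rfl⟩ := e.surjective x
        rw [← map_mul, ← map_mul]
        exact congrArg e (Subtype.ext (hcomm w hw))
    exact mul_inv_eq_iff_eq_mul.mp (congrArg Subtype.val (e.injective heq))
  have eS : (S : Subgroup G) ≃* DihedralGroup 4 := (MulEquiv.subgroupCongr hSC).trans e
  have hO : Cfsg.pResidual 2 G = ⊤ := by
    haveI := CfsgLib.Transfer.pResidual_normal 2 G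
    have hp := CfsgLib.Transfer.isPGroup_quotient_pResidual (G := G) (p := 2)
    haveI : Group.IsNilpotent (G ⧸ Cfsg.pResidual 2 G) := hp.isNilpotent
    rw [← QuotientGroup.subsingleton_iff]
    by_contra hns
    haveI := not_subsingleton_iff_nontrivial.mp hns
    refine (IsSolvable.commutator_lt_top_of_nontrivial (G ⧸ Cfsg.pResidual 2 G)).ne ?_
    rw [commutator_def, ← Subgroup.map_top_of_surjective _
      (QuotientGroup.mk'_surjective (Cfsg.pResidual 2 G)), ← Subgroup.map_commutator,
      ← commutator_def, hperf]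
  have hconj : ∀ x y : G, orderOf x = 2 → orderOf y = 2 → IsConj x y := fun x y hx hy =>
    isConj_iff.mpr (Cfsg.Agent.S0107.result S 2 le_rfl ⟨eS⟩ hO x y hx hy)
  have htS : t ∈ (S : Subgroup G) := hSC ▸ htC
  have htZ : ∀ s ∈ (S : Subgroup G), s * t = t * s := fun s hs => hcomm s (hSC ▸ hs)
  obtain ⟨R, hR, hcyc, hidx, htR⟩ :=
    CfsgLib.BSW.exists_cyclic_of_dihedral (by norm_num) _ eS ht htS htZ
  obtain ⟨K, s, hset, -⟩ := CfsgLib.BSW.Setting.of_dihedral (by norm_num) S eS ht ⊥
    (by simp)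
    (fun g hg => ⟨1, Subgroup.one_mem _, g,
      hSC ▸ Subgroup.mem_centralizer_singleton_iff.mpr hg, one_mul g⟩)
    (fun a ha => by rw [Subgroup.mem_bot.mp ha, one_mul, mul_one]) htZ R hR hcyc hidx htR
    (fun r _ a ha => by rw [Subgroup.mem_bot.mp ha, one_mul, mul_one])
    (fun s _ _ a ha => by rw [Subgroup.mem_bot.mp ha]; simp)
    (fun Y hY hY1 => absurd (le_bot_iff.mp hY) hY1) hconj
  have hk : Nat.card K = 4 := by
    have h1 := hset.card_centralizer
    rw [← hC, hCc] at h1; omega
  haveI := Fintype.ofFinite G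
  obtain ⟨q, ⟨hq, hG, -⟩ | ⟨hq, hG, -⟩⟩ := hset.counts
  · rw [hk] at hq hG
    subst hq
    omega
  · rw [hk] at hq hG
    obtain rfl : q = 7 := by omega
    omega

end Cfsg.Agent.S0848
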