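import Cfsg.Statements.S0849
import Cfsg.Agent.Lib.Char.Galois
import Cfsg.Agent.Lib.Char.Artin
import Cfsg.Agent.Lib.Transfer.Basic
import Cfsg.Agent.Lib.Char.Counting

set_option autoImplicit false
open Cfsg

namespace Cfsg.Agent.S0849

open CfsgLib.Char
open scoped CfsgLib.Char

/-- Let H be a subgroup of a finite group G and S a subset of H that is mapped to itself under conjugation by H, is disjoint from its conjugate by any element outside H, and is closed under inverses. Let φ be a class function of H vanishing on H away from S, and let u, v be involutions of G. Then the sum of the induced function of φ over all products a * b with a conjugate to u and b conjugate to v equals the index of H times the sum of φ (a * b) over such pairs with a and b in H. -/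
theorem result {G : Type*} [Group G] [Fintype G] (H : Subgroup G) (S : Set G) (hSH : S ⊆ H) (hHS : ∀ h ∈ H, ∀ s ∈ S, h * s * h⁻¹ ∈ S) (hTI : ∀ g : G, g ∉ H → ∀ s ∈ S, g * s * g⁻¹ ∉ S) (hinv : ∀ s ∈ S, s⁻¹ ∈ S) (φ : H → ℂ) (hφ : Cfsg.IsClassFunction H φ) (hφS : ∀ x : H, (x : G) ∉ S → φ x = 0) (u v : G) (hu : orderOf u = 2) (hv : orderOf v = 2) : ∑ᶠ p ∈ {p : G × G | IsConj u p.1 ∧ IsConj v p.2}, Cfsg.indFun H φ (p.1 * p.2) = (H.index : ℂ) * ∑ᶠ p ∈ {p : H × H | IsConj u (p.1 : G) ∧ IsConj v (p.2 : G)}, φ (p.1 * p.2) := by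
  classical
  set S2 : Set (G × G) := {p : G × G | IsConj u p.1 ∧ IsConj v p.2} with hS2
  set T2 : Set (H × H) := {p : H × H | IsConj u (p.1 : G) ∧ IsConj v (p.2 : G)} with hT2
  rw [finsum_mem_eq_toFinset_sum, finsum_mem_eq_toFinset_sum]
  have hHc : (Nat.card H : ℂ) ≠ 0 := Nat.cast_ne_zero.mpr Nat.card_pos.ne'
  simp only [Cfsg.indFun, ← Finset.mul_sum]
  rw [Finset.sum_comm]
  have hinner : ∀ x : G, ∑ p ∈ S2.toFinset, Cfsg.extendByZero H φ (x⁻¹ * (p.1 * p.2) * x) =
      ∑ p ∈ S2.toFinset, Cfsg.extendByZero H φ (p.1 * p.2) := by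
    intro x
    refine Finset.sum_nbij' (fun p => (x⁻¹ * p.1 * x, x⁻¹ * p.2 * x))
      (fun p => (x * p.1 * x⁻¹, x * p.2 * x⁻¹)) ?_ ?_ ?_ ?_ ?_
    · intro p hp
      simp only [Finset.mem_coe, Set.mem_toFinset, hS2, Set.mem_setOf_eq] at hp ⊢
      exact ⟨hp.1.trans (isConj_iff.mpr ⟨x⁻¹, by group⟩), hp.2.trans (isConj_iff.mpr ⟨x⁻¹, by group⟩)⟩
    · intro p hp
      simp only [Finset.mem_coe, Set.mem_toFinset, hS2, Set.mem_setOf_eq] at hp ⊢
      exact ⟨hp.1.trans (isConj_iff.mpr ⟨x, rfl⟩), hp.2.trans (isConj_iff.mpr ⟨x, rfl⟩)⟩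
    · intro p _; simp [mul_assoc]
    · intro p _; simp [mul_assoc]
    · intro p _; congr 1; group
  rw [Finset.sum_congr rfl fun x _ => hinner x, Finset.sum_const, Finset.card_univ, nsmul_eq_mul,
    ← Nat.card_eq_fintype_card]
  have hidx : (Nat.card G : ℂ) = (Nat.card H : ℂ) * H.index := by
    rw [← Nat.cast_mul, H.card_mul_index]
  rw [hidx, mul_assoc, inv_mul_cancel_left₀ hHc]
  congr 1
  have hmem : ∀ p ∈ S2, p.1 * p.2 ∈ S → p.1 ∈ H ∧ p.2 ∈ H := by
    intro p hp hs
    obtain ⟨a, b⟩ := p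
    have o : ∀ c d : G, orderOf c = 2 → IsConj c d → d * d = 1 := by
      intro c d hc hcd
      obtain ⟨g, rfl⟩ := isConj_iff.mp hcd
      have : c * c = 1 := by rw [← sq, ← hc, pow_orderOf_eq_one]
      calc g * c * g⁻¹ * (g * c * g⁻¹) = g * (c * c) * g⁻¹ := by group
        _ = 1 := by rw [this]; group
    have ha := o u a hu hp.1
    have hb := o v b hv hp.2
    have haH : a ∈ H := by
      by_contra ha'
      refine hTI a ha' _ hs ?_
      have e : a * (a * b) * a⁻¹ = (a * b)⁻¹ := by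
        rw [← mul_assoc a a b, ha, one_mul, mul_inv_rev, inv_eq_of_mul_eq_one_right hb]
      rw [e]; exact hinv _ hs
    refine ⟨haH, ?_⟩
    have := H.mul_mem (H.inv_mem haH) (hSH hs)
    rwa [inv_mul_cancel_left] at this
  refine (Finset.sum_of_injOn (fun p : H × H => ((p.1 : G), (p.2 : G))) ?_ ?_ ?_ ?_).symm
  · intro p _ q _ h
    simp only [Prod.mk.injEq] at h
    exact Prod.ext (Subtype.ext h.1) (Subtype.ext h.2)
  · intro p hp
    simpa [hS2, hT2] using hp
  · intro p hp hnot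
    by_cases hH : p.1 * p.2 ∈ H
    · rw [extendByZero_mem H φ hH]
      refine hφS _ fun hs => hnot ?_
      rw [Set.mem_toFinset] at hp
      obtain ⟨h1, h2⟩ := hmem p hp hs
      exact ⟨(⟨p.1, h1⟩, ⟨p.2, h2⟩), Finset.mem_coe.mpr (Set.mem_toFinset.mpr (show IsConj u p.1 ∧ IsConj v p.2 from hp)), rfl⟩
    · exact extendByZero_notMem H φ hH
  · intro p _
    rw [← extendByZero_coe H φ (p.1 * p.2)]
    rfl

end Cfsg.Agent.S0849
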