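import Cfsg.Statements.S0850
import Cfsg.Agent.Lib.Char.Galois
import Cfsg.Agent.Lib.Char.Artin
import Cfsg.Agent.Lib.Transfer.Basic
import Cfsg.Agent.Lib.Char.Counting

set_option autoImplicit false
open Cfsg

namespace Cfsg.Agent.S0850

open CfsgLib.Char
open scoped CfsgLib.Char

/-- Let K be a subgroup of the finite group G that meets each conjugate by an element outside its normalizer N trivially, is properly contained in N, and contains the centralizer of each of its non-identity elements (a T.I. subgroup with Frobenius normalizer). Then no element of N outside K is conjugate in G to an element of K, and for every class function ϑ of N that vanishes on N away from K and at the identity, the function induced from ϑ to G agrees with ϑ on all of N. -/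
theorem result {G : Type*} [Group G] [Fintype G] (K : Subgroup G) (hTI : ∀ g : G, g ∉ Subgroup.normalizer (K : Set G) → ∀ k ∈ K, g * k * g⁻¹ ∈ K → k = 1) (hlt : K < Subgroup.normalizer (K : Set G)) (hC : ∀ k ∈ K, k ≠ 1 → Subgroup.centralizer ({k} : Set G) ≤ K) : (∀ x ∈ Subgroup.normalizer (K : Set G), x ∉ K → ∀ g : G, g * x * g⁻¹ ∉ K) ∧ ∀ (ϑ : Subgroup.normalizer (K : Set G) → ℂ), Cfsg.IsClassFunction (Subgroup.normalizer (K : Set G)) ϑ → (∀ x : Subgroup.normalizer (K : Set G), (x : G) ∉ K → ϑ x = 0) → ϑ 1 = 0 → ∀ x : Subgroup.normalizer (K : Set G), Cfsg.indFun (Subgroup.normalizer (K : Set G)) ϑ x = ϑ x := by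
  classical
  set N := Subgroup.normalizer (K : Set G) with hN
  have h1 : ∀ x ∈ N, x ∉ K → ∀ g : G, g * x * g⁻¹ ∉ K := by
    intro x hxN hxK g hg
    have hx1 : x ≠ 1 := fun h => hxK (h ▸ K.one_mem)
    have hcard : orderOf x ∣ Nat.card K := by
      rw [← CfsgLib.Transfer.orderOf_conj g x]; exact K.orderOf_dvd_natCard hg
    have hne : orderOf x ≠ 1 := fun h => hx1 (orderOf_eq_one_iff.mp h)
    set r := (orderOf x).minFac
    have hr : r.Prime := Nat.minFac_prime hne
    have := Fact.mk hr
    set y := x ^ (orderOf x / r) with hy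
    have hyr : orderOf y = r := orderOf_pow_orderOf_div (orderOf_pos x).ne' (Nat.minFac_dvd _)
    have hy1 : y ≠ 1 := fun h => hr.ne_one (by rw [← hyr, h, orderOf_one])
    have hcy : y * x = x * y := (Commute.pow_self x _).eq
    have hfix : ∀ k ∈ K, k ≠ 1 → y * k * y⁻¹ ≠ k := by
      intro k hk hk1 e
      have hyk : y ∈ K := hC k hk hk1 (Subgroup.mem_centralizer_singleton_iff.mpr (by
        calc y * k = y * k * y⁻¹ * y := by group
          _ = k * y := by rw [e]))
      exact hxK (hC y hyk hy1 (Subgroup.mem_centralizer_singleton_iff.mpr hcy.symm))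
    have hyN : y ∈ N := N.pow_mem hxN _
    let f : Equiv.Perm K :=
      { toFun := fun k => ⟨y * k * y⁻¹, (Subgroup.mem_normalizer_iff.mp hyN k).mp k.2⟩
        invFun := fun k => ⟨y⁻¹ * k * y, by
          have := (Subgroup.mem_normalizer_iff.mp (N.inv_mem hyN) k).mp k.2
          simpa using this⟩
        left_inv := fun k => Subtype.ext (by simp [mul_assoc])
        right_inv := fun k => Subtype.ext (by simp [mul_assoc]) }
    have hf : f ^ r = 1 := by
      ext k
      have hpow : ∀ n : ℕ, (((f ^ n) k : K) : G) = y ^ n * k * (y ^ n)⁻¹ := by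
        intro n
        induction n with
        | zero => simp
        | succ n ih =>
          rw [pow_succ', Equiv.Perm.mul_apply]
          show y * ((f ^ n) k : K) * y⁻¹ = _
          rw [ih, pow_succ']; group
      rw [Equiv.Perm.one_apply, hpow, ← hyr, pow_orderOf_eq_one]
      simp
    have hfr : IsPGroup r (Subgroup.zpowers f) := by
      obtain ⟨i, -, hi⟩ := (Nat.dvd_prime_pow hr).mp
        (show orderOf f ∣ r ^ 1 by rw [pow_one]; exact orderOf_dvd_of_pow_eq_one hf)
      exact IsPGroup.of_card (n := i) (by rw [Nat.card_zpowers, hi])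
    have hmod := hfr.card_modEq_card_fixedPoints K
    have hfp : Nat.card (MulAction.fixedPoints (Subgroup.zpowers f) K) = 1 := by
      rw [Nat.card_eq_one_iff_unique]
      refine ⟨⟨fun a b => ?_⟩, ⟨⟨1, fun ⟨s, hs⟩ => ?_⟩⟩⟩
      · have h0 : ∀ a : MulAction.fixedPoints (Subgroup.zpowers f) K, (a : K) = 1 := by
          intro a
          by_contra hne
          refine hfix _ (a : K).2 (fun h => hne (Subtype.ext h)) ?_
          exact congrArg Subtype.val (a.2 ⟨f, Subgroup.mem_zpowers f⟩)
        exact Subtype.ext ((h0 a).trans (h0 b).symm)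
      · show s • (1 : K) = 1
        obtain ⟨i, rfl⟩ := Subgroup.mem_zpowers_iff.mp hs
        have : f 1 = 1 := Subtype.ext (by simp [f])
        exact Function.IsFixedPt.perm_zpow this i
    rw [hfp] at hmod
    have hdvd : r ∣ Nat.card K := (Nat.minFac_dvd _).trans hcard
    have h0 : Nat.card K % r = 0 := Nat.dvd_iff_mod_eq_zero.mp hdvd
    rw [Nat.ModEq, h0, Nat.mod_eq_of_lt hr.one_lt] at hmod
    exact zero_ne_one hmod
  refine ⟨h1, fun ϑ hϑ hϑK hϑ1 x => ?_⟩
  have hterm : ∀ y : G, Cfsg.extendByZero N ϑ (y⁻¹ * (x : G) * y) = if y ∈ N then ϑ x else 0 := by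
    intro y
    split_ifs with hy
    · have hz : y⁻¹ * (x : G) * y ∈ N := N.mul_mem (N.mul_mem (N.inv_mem hy) x.2) hy
      rw [extendByZero_mem N ϑ hz, ← hϑ x (⟨y, hy⟩⁻¹ : N)]
      congr 1
      exact Subtype.ext (by simp)
    · by_cases hz : y⁻¹ * (x : G) * y ∈ N
      · rw [extendByZero_mem N ϑ hz]
        by_contra h
        have hzK : y⁻¹ * (x : G) * y ∈ K := by by_contra hk; exact h (hϑK _ hk)
        have hxK : (x : G) ∈ K := by
          by_contra hk; exact h1 x x.2 hk y⁻¹ (by rwa [inv_inv])
        have hx1 := hTI y⁻¹ (fun hh => hy (inv_inv y ▸ N.inv_mem hh)) x hxK (by rwa [inv_inv])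
        apply h
        rw [← hϑ1]
        congr 1
        exact Subtype.ext (by simp [hx1])
      · exact extendByZero_notMem N ϑ hz
  rw [Cfsg.indFun, Finset.sum_congr rfl fun y _ => hterm y, ← Finset.sum_filter, Finset.sum_const,
    nsmul_eq_mul, show (Finset.univ.filter fun y : G => y ∈ N).card = Nat.card N by
      rw [Nat.card_eq_fintype_card, Fintype.card_subtype],
    inv_mul_cancel_left₀ (Nat.cast_ne_zero.mpr Nat.card_pos.ne')]

end Cfsg.Agent.S0850
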