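import Cfsg.Statements.S0851
import Cfsg.Agent.Lib.Char.TIKernel

set_option autoImplicit false
open Cfsg

namespace Cfsg.Agent.S0851

/-- Let K be a subgroup of the finite group G that meets each conjugate by an element outside its normalizer N trivially, is properly contained in N, and contains the centralizer of each of its non-identity elements (a T.I. subgroup with Frobenius normalizer). Suppose K is abelian, let e be the index of K in N, and call an irreducible character of N relevant when it takes at some element of K a value different from its degree. Then either there is exactly one relevant character and K is an elementary abelian p-group of order e + 1 for some prime p, or there are a sign ε and an injective map f from the relevant characters to the irreducible characters of G such that inducing χ - ξ to G gives ε (f χ - f ξ) for all relevant χ and ξ. -/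
theorem result {G : Type*} [Group G] [Fintype G] (K : Subgroup G) (hTI : ∀ g : G, g ∉ Subgroup.normalizer (K : Set G) → ∀ k ∈ K, g * k * g⁻¹ ∈ K → k = 1) (hlt : K < Subgroup.normalizer (K : Set G)) (hC : ∀ k ∈ K, k ≠ 1 → Subgroup.centralizer ({k} : Set G) ≤ K) (hab : ∀ a ∈ K, ∀ b ∈ K, a * b = b * a) : (Nat.card {χ : Cfsg.IrrCharacter (Subgroup.normalizer (K : Set G)) // ∃ k : Subgroup.normalizer (K : Set G), (k : G) ∈ K ∧ (χ : ↥(Subgroup.normalizer (K : Set G)) → ℂ) k ≠ (χ : ↥(Subgroup.normalizer (K : Set G)) → ℂ) 1} = 1 ∧ ∃ p : ℕ, p.Prime ∧ Cfsg.IsElementaryAbelian p K ∧ Nat.card K = (K.subgroupOf (Subgroup.normalizer (K : Set G))).index + 1) ∨ ∃ (ε : ℂ) (f : {χ : Cfsg.IrrCharacter (Subgroup.normalizer (K : Set G)) // ∃ k : Subgroup.normalizer (K : Set G), (k : G) ∈ K ∧ (χ : ↥(Subgroup.normalizer (K : Set G)) → ℂ) k ≠ (χ : ↥(Subgroup.normalizer (K : Set G)) → ℂ) 1} → Cfsg.IrrCharacter G), (ε = 1 ∨ ε = -1) ∧ Function.Injective f ∧ ∀ χ ξ, Cfsg.indFun (Subgroup.normalizer (K : Set G)) ((χ.1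 : ↥(Subgroup.normalizer (K : Set G)) → ℂ) - (ξ.1 : ↥(Subgroup.normalizer (K : Set G)) → ℂ)) = ε • ((f χ : G → ℂ) - (f ξ : G → ℂ)) := by
  classical
  right
  set N : Subgroup G := Subgroup.normalizer (K : Set G) with hN
  haveI : Fintype N := Fintype.ofFinite _
  haveI : (K.subgroupOf N).Normal := Subgroup.normal_subgroupOf_of_le_normalizer le_rfl
  have hC' : ∀ k ∈ K.subgroupOf N, k ≠ 1 → ∀ x : N, x * k = k * x → x ∈ K.subgroupOf N :=
    fun k hk hk1 x hx => hC k hk (fun h => hk1 (Subtype.ext h))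
      (Subgroup.mem_centralizer_singleton_iff.mpr (congrArg Subtype.val hx))
  have hab' : ∀ a b : K.subgroupOf N, a * b = b * a := fun a b =>
    Subtype.ext (Subtype.ext (hab _ a.2 _ b.2))
  rcases isEmpty_or_nonempty {χ : Cfsg.IrrCharacter N // ∃ k : N, (k : G) ∈ K ∧
      (χ : N → ℂ) k ≠ (χ : N → ℂ) 1} with he | ⟨⟨i₀⟩⟩
  · exact ⟨1, fun χ => he.elim χ, Or.inl rfl, fun a => he.elim a, fun a => he.elim a⟩
  obtain ⟨ε, hε, θ, hθ, hinj, hind⟩ := CfsgLib.Char.exceptional_of_ti N (K : Set G) hTI i₀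
    (fun χ => (χ.1 : N → ℂ)) (fun χ => χ.1.2) (fun a b h => Subtype.ext (Subtype.ext h))
    (fun a b x hx => by
      rw [CfsgLib.Char.vanish_off_of_nonconstant (K.subgroupOf N) hC' a.1.2 a.2 hx,
        CfsgLib.Char.vanish_off_of_nonconstant (K.subgroupOf N) hC' b.1.2 b.2 hx])
    (fun a b => by
      rw [CfsgLib.Char.degree_of_nonconstant (K.subgroupOf N) hC' hab' a.1.2 a.2,
        CfsgLib.Char.degree_of_nonconstant (K.subgroupOf N) hC' hab' b.1.2 b.2])
  refine ⟨ε, fun χ => ⟨θ χ, hθ χ⟩, hε, fun a b h => hinj (congrArg Subtype.val h), fun χ ξ => ?_⟩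
  rw [CfsgLib.Char.indFun_sub]
  exact hind χ ξ

end Cfsg.Agent.S0851
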