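import Cfsg.Statements.S0855
import Cfsg.Agent.S4456
import Cfsg.Agent.Lib.Char.ItoMichler
import Cfsg.Agent.Lib.Char.Counting

set_option autoImplicit false
open Cfsg

namespace Cfsg.Agent.S0855

open CfsgLib.Char
open scoped CfsgLib.Char

/-- For a finite group G and a prime p: every irreducible character of G has degree a power of p if and only if G has an abelian normal subgroup whose order is prime to p and whose index is a power of p. -/
theorem result {G : Type*} [Group G] [Finite G] (p : ℕ) (hp : p.Prime) : (∀ χ : Cfsg.IrrCharacter G, ∃ k : ℕ, (χ : G → ℂ) 1 = (p : ℂ) ^ k) ↔ ∃ A : Subgroup G, A.Normal ∧ (∀ a ∈ A, ∀ b ∈ A, a * b = b * a) ∧ Nat.Coprime (Nat.card A) p ∧ ∃ k : ℕ, A.index = p ^ k := by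
  classical
  haveI := Fact.mk hp
  haveI : Fintype G := Fintype.ofFinite G
  constructor
  · intro h
    obtain ⟨N, hN, hcop, hk⟩ := Cfsg.Agent.S4456.result (G := G) p hp fun χ hne => by
      obtain ⟨k, hk⟩ := h χ
      rw [CfsgLib.Char.Extraspecial.charDegree_eq (d := p ^ k) (by rw [hk]; norm_num)] at hne ⊢
      exact dvd_pow_self p fun e => hne (by rw [e, pow_zero])
    haveI := hN
    haveI : Fintype N := Fintype.ofFinite N
    have hlin : ∀ θ : Cfsg.IrrCharacter N, (θ : N → ℂ) 1 = 1 := by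
      intro θ
      obtain ⟨d, hd, -, hdvd⟩ := CfsgLib.Char.exists_degree_dvd_card θ.2
      rw [hd]
      norm_cast
      refine Nat.eq_one_iff_not_exists_prime_dvd.mpr fun q hq hqd => ?_
      have hqN : q ∣ Nat.card N := hqd.trans hdvd
      have hne : q ≠ p := fun e => hp.coprime_iff_not_dvd.mp hcop.symm (e ▸ hqN)
      refine CfsgLib.Char.ItoMichler.degrees_normal (p := q) N (fun χ e he hqe => ?_) θ d hd hqd
      obtain ⟨k, hk'⟩ := h χ
      rw [he] at hk'
      have : e = p ^ k := by exact_mod_cast hk'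
      exact hne ((Nat.prime_dvd_prime_iff_eq hq hp).mp (hq.dvd_of_dvd_pow (this ▸ hqe)))
    refine ⟨N, hN, fun a ha b hb => ?_, hcop, hk⟩
    have h1 : (⟨a, ha⟩ : N) * ⟨b, hb⟩ * ((⟨b, hb⟩ : N) * ⟨a, ha⟩)⁻¹ = 1 := by
      refine CfsgLib.Char.eq_one_of_forall_irr fun θ => ?_
      have hc := CfsgLib.Char.isCharacter_of_isIrr θ.2
      have hl := fun x y => CfsgLib.Char.linear_mul hc (hlin θ) x y
      rw [hl, hl, mul_comm ((θ : N → ℂ) _) ((θ : N → ℂ) ⟨b, hb⟩), ← hl, ← hl, mul_inv_cancel, hlin θ]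
    exact congrArg Subtype.val (mul_inv_eq_one.mp h1)
  · rintro ⟨A, hA, hab, -, k, hk⟩ χ
    haveI := hA
    obtain ⟨d, -, hd⟩ := CfsgLib.Char.exists_nat_degree_irr χ.2
    obtain ⟨j, -, hj⟩ := (Nat.dvd_prime_pow hp).mp (hk ▸ CfsgLib.Char.Extraspecial.ito χ.2 A hab hd)
    exact ⟨j, by rw [hd, hj, Nat.cast_pow]⟩

end Cfsg.Agent.S0855
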