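import Cfsg.Statements.S0857
import Cfsg.Agent.Lib.Char.Constituents
import Cfsg.Agent.Lib.Char.AbelianQuotient
import Cfsg.Agent.Lib.Char.Gallagher
import Cfsg.Agent.Lib.Char.Counting

set_option autoImplicit false
open Cfsg

namespace Cfsg.Agent.S0857

open CfsgLib.Char
open scoped CfsgLib.Char ComplexConjugate

/-- Let L < K be normal subgroups of the finite group G with no normal subgroup of G strictly between them and with K / L abelian (the commutator subgroup of K lies in L). Let ϑ be an irreducible character of K invariant under conjugation by G. Then the restriction of ϑ to L is irreducible; or it equals e times an irreducible character of L with e ^ 2 equal to the index of L in K; or it is the sum of a family of pairwise distinct irreducible characters of L indexed by a set whose size is the index of L in K. -/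
theorem result {G : Type*} [Group G] [Fintype G] (K L : Subgroup G) [hK : K.Normal] [L.Normal] (hLK : L < K) (hchief : ∀ M : Subgroup G, M.Normal → L ≤ M → M ≤ K → M = L ∨ M = K) (hab : ⁅K, K⁆ ≤ L) (ϑ : K → ℂ) (hϑ : Cfsg.IsIrrCharacter K ϑ) (hinv : ∀ (g : G) (n : K), ϑ ⟨g * n * g⁻¹, hK.conj_mem (n : G) n.2 g⟩ = ϑ n) : Cfsg.IsIrrCharacter L (fun x : L => ϑ ⟨(x : G), hLK.le x.2⟩) ∨ (∃ (φ : L → ℂ) (e : ℕ), Cfsg.IsIrrCharacter L φ ∧ (fun x : L => ϑ ⟨(x : G), hLK.le x.2⟩) = (e : ℂ) • φ ∧ e ^ 2 = L.relIndex K) ∨ (∃ F : Finset (L → ℂ), (∀ φ ∈ F, Cfsg.IsIrrCharacter L φ) ∧ F.card = L.relIndex K ∧ (fun x : L => ϑ ⟨(x : G), hLK.le x.2⟩) = ∑ φ ∈ F, φ) := by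
  classical
  haveI : Fintype K := Fintype.ofFinite K
  haveI : Fintype L := Fintype.ofFinite L
  set L' := L.subgroupOf K with hL'
  haveI : Fintype L' := Fintype.ofFinite L'
  set ι : L' ≃* L := Subgroup.subgroupOfEquivOfLe hLK.le with hι
  have hcomm : ∀ x y : K, x * y * x⁻¹ * y⁻¹ ∈ L' := fun x y => by
    rw [hL', Subgroup.mem_subgroupOf]
    have h := hab (Subgroup.commutator_mem_commutator x.2 y.2)
    rw [commutatorElement_def] at h
    simpa using h
  obtain ⟨φ, hφ⟩ := exists_constituent L' (isCharacter_of_isIrr hϑ) (irr_degree_ne_zero hϑ)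
  set φL : L → ℂ := fun x => (φ : L' → ℂ) (ι.symm x) with hφL
  have hφLirr : Cfsg.IsIrrCharacter L φL := isIrrCharacter_comp_mulEquiv ι.symm φ.2
  have hres : ∀ ψ : L' → ℂ, (fun n : L' => ϑ n) = ψ →
      (fun x : L => ϑ ⟨(x : G), hLK.le x.2⟩) = fun x => ψ (ι.symm x) := fun ψ h => by
    funext x
    exact congrFun h (ι.symm x)
  set T := inertia L φL with hT
  have hTK : ∀ g : G, ∃ k : K, g * (k : G)⁻¹ ∈ T := by
    intro g
    have hirr : Cfsg.IsIrrCharacter L' (fun n => conjBy L φL g (ι n)) :=
      isIrrCharacter_comp_mulEquiv ι (isIrrCharacter_conjBy L hφLirr g)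
    have hne : Cfsg.classInner (fun n : L' => ϑ n) (fun n => conjBy L φL g (ι n)) ≠ 0 := by
      have e : (fun n : L' => ϑ n) = fun n : L' => conjBy L (fun x : L => ϑ ⟨(x : G), hLK.le x.2⟩) g (ι n) := by
        funext n
        exact (hinv g n).symm
      rw [e, classInner_comp_mulEquiv ι, classInner_conjBy, ← classInner_comp_mulEquiv ι]
      rw [show (fun n : L' => φL (ι n)) = (φ : L' → ℂ) from funext fun n =>
        congrArg (φ : L' → ℂ) (ι.symm_apply_apply n)]
      exact hφ
    obtain ⟨k, hk⟩ := exists_conjBy_of_constituents L' hϑ φ.2 hirr hφ hne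
    refine ⟨k, ?_⟩
    rw [hT, mem_inertia, conjBy_mul]
    have e : conjBy L φL g = conjBy L φL (k : G) := by
      funext x
      have h := (congrFun hk (ι.symm x)).symm
      simp only [MulEquiv.apply_symm_apply] at h
      rw [h]
      exact congrArg (φ : L' → ℂ) (Subtype.ext (Subtype.ext rfl))
    rw [e, ← conjBy_mul, mul_inv_cancel, conjBy_one]
  have hnorm : (T ⊓ K).Normal := by
    constructor
    intro a ha g
    obtain ⟨k, hk⟩ := hTK g
    have h1 : (k : G) * a * (k : G)⁻¹ ∈ T := by
      rw [show (k : G) * a * (k : G)⁻¹ = ((k : G) * a * (k : G)⁻¹ * a⁻¹) * a by group]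
      refine T.mul_mem (le_inertia L (isClassFunction_of_isCharacter (isCharacter_of_isIrr hφLirr)) ?_) ha.1
      have h := hab (Subgroup.commutator_mem_commutator k.2 ha.2)
      rwa [commutatorElement_def] at h
    refine Subgroup.mem_inf.mpr ⟨?_, hK.conj_mem a ha.2 g⟩
    have h2 := T.mul_mem (T.mul_mem hk h1) (T.inv_mem hk)
    rwa [show g * (k : G)⁻¹ * ((k : G) * a * (k : G)⁻¹) * (g * (k : G)⁻¹)⁻¹ = g * a * g⁻¹ by group] at h2
  have hkT : ∀ k : K, (k : G) ∈ T ↔ k ∈ inertia L' (φ : L' → ℂ) := by
    intro k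
    rw [hT, mem_inertia, mem_inertia]
    constructor
    · intro h
      funext n
      have := congrFun h (ι n)
      simp only [hφL, conjBy, MulEquiv.symm_apply_apply] at this ⊢
      exact Eq.trans (congrArg (φ : L' → ℂ) (Subtype.ext (Subtype.ext rfl))) this
    · intro h
      funext x
      have := congrFun h (ι.symm x)
      simp only [hφL, conjBy] at this ⊢
      exact Eq.trans (congrArg (φ : L' → ℂ) (Subtype.ext (Subtype.ext rfl))) this
  rcases hchief (T ⊓ K) hnorm
      (le_inf (le_inertia L (isClassFunction_of_isCharacter (isCharacter_of_isIrr hφLirr))) hLK.le)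
      inf_le_right with e | e
  · -- the inertia group is `L`
    right; right
    have hI : inertia L' (φ : L' → ℂ) = L' := by
      ext k
      rw [← hkT, hL', Subgroup.mem_subgroupOf]
      exact ⟨fun h => e ▸ Subgroup.mem_inf.mpr ⟨h, k.2⟩, fun h => (e.symm ▸ h : (k : G) ∈ T ⊓ K).1⟩
    have hn1 : Cfsg.classInner (indFun L' (φ : L' → ℂ)) (indFun L' (φ : L' → ℂ)) = 1 := by
      rw [classInner_indFun_indFun L' φ.2 φ.2, if_pos (self_mem_orbit L' (φ : L' → ℂ)), hI,
        div_self (Nat.cast_ne_zero.mpr Nat.card_pos.ne')]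
    have hirr := isIrr_of_norm_one (isCharacter_indFun L' (isCharacter_of_isIrr φ.2)) hn1
    have hc1 : Cfsg.classInner (fun n : L' => ϑ n) (φ : L' → ℂ) = 1 := by
      rw [← frobenius_reciprocity' L' (φ : L' → ℂ) (isClassFunction_of_isCharacter (isCharacter_of_isIrr hϑ))]
      have hne := hφ
      rw [← frobenius_reciprocity' L' (φ : L' → ℂ) (isClassFunction_of_isCharacter (isCharacter_of_isIrr hϑ))] at hne
      have heq : ϑ = indFun L' (φ : L' → ℂ) := by
        by_contra h
        exact hne (classInner_irr_ne hϑ hirr h)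
      conv_lhs => rw [heq]
      exact hn1
    have h := clifford L' hϑ φ.2 hφ
    rw [hc1, one_smul] at h
    refine ⟨(orbit L' (φ : L' → ℂ)).image (fun ψ x => ψ (ι.symm x)), ?_, ?_, ?_⟩
    · intro ψ hψ
      obtain ⟨ψ', hψ', rfl⟩ := Finset.mem_image.mp hψ
      obtain ⟨g, rfl⟩ := (mem_orbit L').mp hψ'
      exact isIrrCharacter_comp_mulEquiv ι.symm (isIrrCharacter_conjBy L' φ.2 g)
    · rw [Finset.card_image_of_injective _ (fun a b h => funext fun n => by
        simpa using congrFun h (ι n)), card_orbit_eq_index, hI]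
      rfl
    · rw [hres _ h, Finset.sum_image fun a _ b _ h => funext fun n => by simpa using congrFun h (ι n)]
      funext x
      simp only [Finset.sum_apply]
  · -- invariant constituent
    have hinvφ : ∀ k : K, conjBy L' (φ : L' → ℂ) k = φ := fun k =>
      (mem_inertia L').mp ((hkT k).mp (e.symm ▸ k.2 : (k : G) ∈ T ⊓ K).1)
    obtain ⟨m, hm⟩ := exists_nat_classInner (isCharacter_restrict L' (isCharacter_of_isIrr hϑ))
      (isCharacter_of_isIrr φ.2)
    have hresϑ : (fun n : L' => ϑ n) = (m : ℂ) • (φ : L' → ℂ) := by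
      rw [← hm]; exact clifford_invariant L' hϑ φ.2 hinvφ hφ
    let M : Subgroup G :=
      { carrier := {k | ∃ hk : k ∈ K, ∀ β : K →* ℂˣ, (∀ n ∈ L', β n = 1) →
          (fun u => (β u : ℂ) * ϑ u) = ϑ → β ⟨k, hk⟩ = 1}
        one_mem' := ⟨K.one_mem, fun β _ _ => map_one β⟩
        mul_mem' := fun {a b} ha hb => ⟨K.mul_mem ha.1 hb.1, fun β h1 h2 => by
          rw [show (⟨a * b, _⟩ : K) = ⟨a, ha.1⟩ * ⟨b, hb.1⟩ from rfl, map_mul, ha.2 β h1 h2,
            hb.2 β h1 h2, one_mul]⟩
        inv_mem' := fun {a} ha => ⟨K.inv_mem ha.1, fun β h1 h2 => by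
          rw [show (⟨a⁻¹, _⟩ : K) = (⟨a, ha.1⟩ : K)⁻¹ from rfl, map_inv, ha.2 β h1 h2, inv_one]⟩ }
    have hMn : M.Normal := by
      constructor
      rintro a ⟨haK, ha⟩ g
      refine ⟨hK.conj_mem a haK g, fun β h1 h2 => ?_⟩
      exact ha (β.comp (MulAut.conjNormal g : MulAut K).toMonoidHom) (fun n hn => h1 _ (by
          rw [hL', Subgroup.mem_subgroupOf] at hn ⊢
          exact Subgroup.Normal.conj_mem ‹L.Normal› _ hn g))
        (funext fun u => by
          rw [← hinv g u]
          exact congrFun h2 ((MulAut.conjNormal g : MulAut K) u))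
    rcases hchief M hMn (fun x hx => ⟨hLK.le hx, fun β h1 _ => h1 _ hx⟩) (fun x hx => hx.1) with h' | h'
    · -- vanishing off `L`
      right; left
      refine ⟨φL, m, hφLirr, hres _ hresϑ, ?_⟩
      have hvan : ∀ k : K, k ∉ L' → ϑ k = 0 := by
        intro k hk
        have hkM : (k : G) ∉ M := h' ▸ hk
        by_contra hne
        refine hkM ⟨k.2, fun β h1 h2 => ?_⟩
        have := congrFun h2 k
        exact Units.ext (mul_right_cancel₀ hne (this.trans (one_mul _).symm))
      have hn := classInner_irr_self hϑ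
      rw [classInner, inv_mul_eq_one₀ (Nat.cast_ne_zero.mpr Nat.card_pos.ne'),
        ← Finset.sum_filter_add_sum_filter_not Finset.univ (fun g => g ∈ L'),
        Finset.sum_eq_zero (s := Finset.univ.filter fun g => ¬ g ∈ L') (fun g hg => by
          rw [hvan g (Finset.mem_filter.mp hg).2, zero_mul]), add_zero,
        Finset.sum_subtype (p := fun g => g ∈ L') _ (fun g => by simp)
          (fun g => ϑ g * conj (ϑ g))] at hn
      have h1 := classInner_irr_self φ.2
      rw [classInner, inv_mul_eq_one₀ (Nat.cast_ne_zero.mpr Nat.card_pos.ne')] at h1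
      rw [Finset.sum_congr rfl (g := fun z : L' => (m : ℂ) ^ 2 * ((φ : L' → ℂ) z * conj ((φ : L' → ℂ) z)))
        fun z _ => by rw [show ϑ z = (m : ℂ) * (φ : L' → ℂ) z from congrFun hresϑ z, map_mul,
          Complex.conj_natCast]; ring, ← Finset.mul_sum, ← h1, ← L'.card_mul_index, Nat.cast_mul,
        mul_comm ((Nat.card L' : ℂ))] at hn
      have h2 : L'.index = m ^ 2 := by
        exact_mod_cast mul_right_cancel₀ (Nat.cast_ne_zero.mpr Nat.card_pos.ne') hn
      rw [← h2]; rfl
    · -- distinct twists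
      left
      haveI : Finite (LinTriv L') := by
        haveI : Finite (K →* ℂˣ) := Finite.of_equiv _ (linearEquiv (G := K))
        infer_instance
      haveI : Fintype (LinTriv L') := Fintype.ofFinite _
      obtain ⟨hcard, hsum⟩ := sum_linTriv L' hcomm
      let f : LinTriv L' → Cfsg.IrrCharacter K := fun β =>
        ⟨fun u => (β.1 u : ℂ) * ϑ u, isIrrCharacter_linear_mul hϑ β.1⟩
      have hfinj : Function.Injective f := by
        intro β γ h
        refine Subtype.ext (MonoidHom.ext fun u => ?_)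
        have hu0 : (u : G) ∈ M := by rw [h']; exact u.2
        obtain ⟨hk0, hu⟩ := hu0
        have h2 : (fun v => (((γ.1⁻¹ * β.1) v : ℂˣ) : ℂ) * ϑ v) = ϑ := funext fun v => by
          have := congrFun (congrArg Subtype.val h) v
          simp only [f] at this
          rw [MonoidHom.mul_apply, MonoidHom.inv_apply, Units.val_mul, mul_assoc, this,
            Units.inv_mul_cancel_left]
        have h3 := hu (γ.1⁻¹ * β.1) (fun n hn => by simp [β.2 n hn, γ.2 n hn]) h2
        rw [MonoidHom.mul_apply, MonoidHom.inv_apply, inv_mul_eq_one] at h3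
        exact h3.symm
      have hmain : (m : ℂ) • indFun L' (φ : L' → ℂ) = ∑ β : LinTriv L', (f β : K → ℂ) := by
        rw [← indFun_smul, ← hresϑ]
        have := indFun_mul L' ϑ (isClassFunction_of_isCharacter (isCharacter_of_isIrr hϑ)) (fun _ => 1)
        rw [show ((fun _ : L' => (1 : ℂ)) * fun n : L' => ϑ n) = fun n : L' => ϑ n from
          funext fun n => one_mul _, hsum] at this
        rw [this, Finset.sum_mul]
        exact Finset.sum_congr rfl fun β _ => rfl
      have hn1 : Cfsg.classInner (∑ β : LinTriv L', (f β : K → ℂ)) (∑ β : LinTriv L', (f β : K → ℂ)) =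
          (L'.index : ℂ) := by
        rw [classInner_sum_left, ← hcard, ← Finset.card_univ, Finset.cast_card]
        refine Finset.sum_congr rfl fun β _ => ?_
        rw [classInner_sum_right, Finset.sum_eq_single β]
        · exact classInner_irr_self (f β).2
        · intro γ _ hne
          exact classInner_irr_ne (f β).2 (f γ).2 fun h => hne (hfinj (Subtype.ext h)).symm
        · intro h; exact absurd (Finset.mem_univ _) h
      rw [← hmain, classInner_smul_left, classInner_smul_right,
        classInner_indFun_self_of_invariant L' φ.2 hinvφ, Complex.conj_natCast, ← mul_assoc] at hn1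
      have hmm : m * m = 1 := by
        exact_mod_cast (mul_eq_right₀ (Nat.cast_ne_zero.mpr Subgroup.index_ne_zero_of_finite)).mp hn1
      rw [Nat.eq_one_of_mul_eq_one_right hmm, Nat.cast_one, one_smul] at hresϑ
      rw [hres _ hresϑ]
      exact hφLirr

end Cfsg.Agent.S0857
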