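import Cfsg.Statements.S0861
import Cfsg.Agent.Lib.Char.Extraspecial
import Cfsg.Agent.Lib.Char.MeanValue
import Cfsg.Agent.Lib.Char.Counting
import Cfsg.Agent.Lib.Blocks.Sections
import Cfsg.Agent.Lib.Blocks.BrauerFeit
import Cfsg.Agent.Lib.Blocks.Inflate

set_option autoImplicit false
open Cfsg

namespace Cfsg.Agent.S0861

open CfsgLib.Char
open scoped CfsgLib.Char

/-- Let P be a normal abelian Sylow p-subgroup of the finite group G and suppose some element g of P has centralizer exactly P. Then the number of irreducible characters of G is at most the order of P, and if equality holds then G / P is abelian (the commutator subgroup lies in P). -/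
theorem result {G : Type*} [Group G] [Finite G] (p : ℕ) [Fact p.Prime] (P : Sylow p G) [(P : Subgroup G).Normal] (hab : ∀ a ∈ P, ∀ b ∈ P, a * b = b * a) (g : G) (hg : g ∈ P) (hC : Subgroup.centralizer ({g} : Set G) = P) : Nat.card (Cfsg.IrrCharacter G) ≤ Nat.card P ∧ (Nat.card (Cfsg.IrrCharacter G) = Nat.card P → commutator G ≤ P) := by
  classical
  haveI : Fintype G := Fintype.ofFinite G
  set T : Finset G := Finset.univ.filter fun a => Subgroup.zpowers a = Subgroup.zpowers g with hTdef
  have hT : ∀ a b, Subgroup.zpowers a = Subgroup.zpowers b → a ∈ T → b ∈ T := by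
    intro a b h ha
    simp only [hTdef, Finset.mem_filter, Finset.mem_univ, true_and] at ha ⊢
    exact h.symm.trans ha
  have hTP : ∀ a ∈ T, a ∈ (P : Subgroup G) := by
    intro a ha
    have := (Finset.mem_filter.mp ha).2
    exact Subgroup.zpowers_le.mpr hg (this ▸ Subgroup.mem_zpowers a)
  have hTC : ∀ a ∈ T, Nat.card (Subgroup.centralizer ({a} : Set G)) = Nat.card P := by
    intro a ha
    have hz := (Finset.mem_filter.mp ha).2
    have hcc : Subgroup.centralizer ({a} : Set G) = Subgroup.centralizer ({g} : Set G) := by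
      ext x
      rw [Subgroup.mem_centralizer_singleton_iff, Subgroup.mem_centralizer_singleton_iff]
      constructor
      · intro hx
        obtain ⟨n, hn⟩ := Subgroup.mem_zpowers_iff.mp (hz ▸ Subgroup.mem_zpowers g : g ∈ Subgroup.zpowers a)
        rw [← hn]; exact ((show Commute x a from hx).zpow_right n)
      · intro hx
        obtain ⟨n, hn⟩ := Subgroup.mem_zpowers_iff.mp (hz ▸ Subgroup.mem_zpowers a : a ∈ Subgroup.zpowers g)
        rw [← hn]; exact ((show Commute x g from hx).zpow_right n)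
    rw [hcc, hC]
  obtain ⟨M, hM⟩ := CfsgLib.Blocks.exists_isPModular (p := p) (Fact.out)
  haveI := CfsgLib.Blocks.isPrime_of_isPModular hM
  have hne : ∀ χ : Cfsg.IrrCharacter G, ∀ a ∈ T, (χ : G → ℂ) a ≠ 0 := by
    intro χ a ha h0
    obtain ⟨d, -, hd⟩ := exists_nat_degree_irr χ.2
    have hdvd := CfsgLib.Char.Extraspecial.ito χ.2 (P : Subgroup G) hab hd
    have hord : ∃ k : ℕ, orderOf a = p ^ k := by
      obtain ⟨k, hk⟩ := P.isPGroup' ⟨a, hTP a ha⟩
      obtain ⟨j, -, hj⟩ := (Nat.dvd_prime_pow (Fact.out : p.Prime)).mp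
        (orderOf_dvd_of_pow_eq_one (congrArg Subtype.val hk : a ^ p ^ k = 1))
      exact ⟨j, hj⟩
    have h1 : Cfsg.MemLocalIdeal M ((χ : G → ℂ) 1) :=
      (CfsgLib.Blocks.memLocalIdeal_value_mul_pElement_iff hM χ.2 (Commute.one_right a) hord).mp
        (by rw [mul_one, h0]; exact CfsgLib.Blocks.memLocalIdeal_zero)
    rw [hd, CfsgLib.Blocks.memLocalIdeal_natCast_iff hM] at h1
    exact P.not_dvd_index (h1.trans hdvd)
  have hlow : ∀ χ : Cfsg.IrrCharacter G,
      (T.card : ℝ) ≤ ∑ a ∈ T, Complex.normSq ((χ : G → ℂ) a) := by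
    intro χ
    have h := card_support_le_sum_normSq (isCharacter_of_isIrr χ.2) T hT
    rwa [Finset.filter_true_of_mem (hne χ)] at h
  have hsum : ∑ χ : Cfsg.IrrCharacter G, ∑ a ∈ T, Complex.normSq ((χ : G → ℂ) a) =
      (T.card : ℝ) * (Nat.card P : ℝ) := by
    rw [Finset.sum_comm, ← nsmul_eq_mul, ← Finset.sum_const]
    refine Finset.sum_congr rfl fun a ha => ?_
    have h := column_orthogonality a a
    rw [if_pos (IsConj.refl a), hTC a ha, Finset.sum_congr rfl fun χ _ => Complex.mul_conj _] at h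
    exact_mod_cast h
  have hTpos : (0 : ℝ) < T.card := by
    have : g ∈ T := by simp [hTdef]
    exact_mod_cast Finset.card_pos.mpr ⟨g, this⟩
  have hle : ((Nat.card (Cfsg.IrrCharacter G) : ℕ) : ℝ) ≤ Nat.card P := by
    have h := Finset.sum_le_sum (s := (Finset.univ : Finset (Cfsg.IrrCharacter G))) fun χ _ => hlow χ
    rw [hsum, Finset.sum_const, nsmul_eq_mul, Finset.card_univ, ← Nat.card_eq_fintype_card,
      mul_comm (T.card : ℝ)] at h
    exact le_of_mul_le_mul_right h hTpos
  refine ⟨by exact_mod_cast hle, fun heq => ?_⟩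
  have heach : ∀ χ : Cfsg.IrrCharacter G, ∑ a ∈ T, Complex.normSq ((χ : G → ℂ) a) = (T.card : ℝ) := by
    intro χ
    refine ((Finset.sum_eq_sum_iff_of_le (fun χ _ => hlow χ)).mp ?_ χ (Finset.mem_univ χ)).symm
    rw [hsum, Finset.sum_const, nsmul_eq_mul, Finset.card_univ, ← Nat.card_eq_fintype_card, heq,
      mul_comm]
  rw [commutator_def, Subgroup.commutator_le]
  intro x _ y _
  rw [← QuotientGroup.eq_one_iff, ← QuotientGroup.mk'_apply, map_commutatorElement]
  refine eq_one_of_forall_irr fun η => ?_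
  set f := QuotientGroup.mk' (P : Subgroup G)
  have hη : Cfsg.IsIrrCharacter G fun z => (η : G ⧸ (P : Subgroup G) → ℂ) (f z) :=
    CfsgLib.Blocks.isIrrCharacter_comp_of_surjective η.2 f (QuotientGroup.mk'_surjective _)
  have h := heach ⟨_, hη⟩
  have hc : ∀ a ∈ T, (η : G ⧸ (P : Subgroup G) → ℂ) (f a) = (η : G ⧸ (P : Subgroup G) → ℂ) 1 := fun a ha => by
    rw [show f a = 1 from (QuotientGroup.eq_one_iff a).mpr (hTP a ha)]
  obtain ⟨d, -, hd⟩ := exists_nat_degree_irr η.2
  rw [Finset.sum_congr rfl fun a ha => congrArg Complex.normSq (hc a ha), Finset.sum_const, nsmul_eq_mul,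
    hd, Complex.normSq_natCast, mul_eq_left₀ hTpos.ne'] at h
  have hd1 : d = 1 := by
    have h' : d * d = 1 := by exact_mod_cast h
    exact Nat.eq_one_of_mul_eq_one_right h'
  rw [hd1, Nat.cast_one] at hd
  have hl := linear_mul (isCharacter_of_isIrr η.2) hd
  have hinv : ∀ u, (η : G ⧸ (P : Subgroup G) → ℂ) u * (η : G ⧸ (P : Subgroup G) → ℂ) u⁻¹ = 1 := fun u => by
    rw [← hl, mul_inv_cancel, hd]
  rw [commutatorElement_def, hl, hl, hl, hd]
  linear_combination ((η : G ⧸ (P : Subgroup G) → ℂ) (f y) * (η : G ⧸ (P : Subgroup G) → ℂ) (f y)⁻¹) * hinv (f x) + hinv (f y)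

end Cfsg.Agent.S0861
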