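import Cfsg.Statements.S0862
import Cfsg.Agent.Lib.Char.Projective

set_option autoImplicit false
open Cfsg

namespace Cfsg.Agent.S0862

open CfsgLib.Char

attribute [-instance] MonoidHom.instPow

theorem algB {A : Type*} [CommGroup A] (m f : A) (d i : ℕ) (a b : ℤ) (h : (m * f⁻¹) ^ i = 1)
    (hab : a * d + b * i = 1) : ((m * f⁻¹) ^ a) ^ d * f = m := by
  rw [← zpow_natCast _ d, ← zpow_mul, show a * (d : ℤ) = 1 + -b * (i : ℕ) by linarith,
    zpow_add, zpow_one, mul_comm (-b), zpow_mul, zpow_natCast, h, one_zpow, mul_one, inv_mul_cancel_right]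

theorem algD {A : Type*} [CommGroup A] (β γ f m : A) (d : ℕ) (h : γ ^ d * f = m)
    (h' : β ^ d * f = m) : (γ * β⁻¹) ^ d = 1 := by
  rw [mul_pow, inv_pow, mul_inv_eq_one]; exact mul_right_cancel (h.trans h'.symm)
open scoped CfsgLib.Char

/-- Let N be a normal subgroup of the finite group G and ϑ an irreducible character of N of degree d coprime to the index of N, which is the restriction of some irreducible character of G. Let μ be a character of G of degree 1 whose restriction to N is the determinantal character of ϑ. Then there is exactly one irreducible character χ of G restricting to ϑ whose determinantal character is μ. -/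
theorem result {G : Type*} [Group G] [Finite G] (N : Subgroup G) [N.Normal] (ϑ : N → ℂ) (hϑ : Cfsg.IsIrrCharacter N ϑ) (d : ℕ) (hd : ϑ 1 = d) (hcop : Nat.Coprime N.index d) (hext : ∃ η : G → ℂ, Cfsg.IsIrrCharacter G η ∧ (∀ n : N, η n = ϑ n)) (μ : G → ℂ) (hμ : Cfsg.IsCharacter G μ ∧ μ 1 = 1) (hμN : ∀ n : N, μ n = Cfsg.detChar ϑ n) : ∃! χ : G → ℂ, Cfsg.IsIrrCharacter G χ ∧ (∀ n : N, χ n = ϑ n) ∧ Cfsg.detChar χ = μ := by
  obtain ⟨η, hη, hres₀⟩ := hext
  have hd₀ : η 1 = d := by simpa [hd] using hres₀ 1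
  obtain ⟨f, hf⟩ := exists_det_hom (isCharacter_of_isIrr hη)
  set m := linearHom hμ.1 hμ.2 with hm
  have hmf : ∀ n : N, m n = f n := fun n => Units.ext (by
    have h := detChar_restrict N (isCharacter_of_isIrr hη) n
    rw [show (fun m : N => η m) = ϑ from funext hres₀, ← hμN, hf] at h
    exact h)
  have hγ : (m * f⁻¹) ^ N.index = 1 := pow_index_eq_one N _ fun n => by
    rw [MonoidHom.mul_apply, MonoidHom.inv_apply, hmf, mul_inv_cancel]
  obtain ⟨a, b, hab⟩ : ∃ a b : ℤ, a * (d : ℕ) + b * (N.index : ℕ) = 1 :=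
    Int.isCoprime_iff_nat_coprime.mpr (by simpa [Int.natAbs_mul] using hcop.symm)
  set β := (m * f⁻¹) ^ a with hβ
  have hβN : ∀ n : N, β n = 1 := fun n => by
    rw [hβ]
    show (m n * (f n)⁻¹) ^ a = 1
    rw [hmf, mul_inv_cancel, one_zpow]
  have hβd : β ^ d * f = m := algB (A := G →* ℂˣ) m f d N.index a b hγ hab
  have hdetmul : ∀ β : G →* ℂˣ, Cfsg.detChar (fun g => (β g : ℂ) * η g) = fun g => ((β ^ d * f) g : ℂ) := by
    intro β
    rw [detChar_linear_mul (isCharacter_of_isIrr hη) β d hd₀, hf]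
    funext g; simp
  have hres : ∀ n : N, (fun g => (β g : ℂ) * η g) n = ϑ n := fun n => by simp [hβN, hres₀]
  refine ⟨fun g => (β g : ℂ) * η g, ⟨isIrr_of_restrict N (isCharacter_mul (isCharacter_monoidHom β) (isCharacter_of_isIrr hη)) (by rw [funext hres]; exact hϑ), hres, ?_⟩, ?_⟩
  · rw [hdetmul, hβd]; rfl
  · rintro χ' ⟨hχ', hres', hdet'⟩
    obtain ⟨γ, hγN, hγ'⟩ := extensions_differ N hϑ hη hχ' hres₀ hres'
    suffices γ = β by rw [hγ', this]
    have h1 : γ ^ d * f = m := by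
      refine MonoidHom.ext fun g => Units.ext ?_
      rw [hγ', hdetmul] at hdet'
      rw [congrFun hdet' g]; rfl
    have h2 : (γ * β⁻¹) ^ d = 1 := algD (A := G →* ℂˣ) β γ f m d h1 hβd
    exact mul_inv_eq_one.mp (orderOf_eq_one_iff.mp (Nat.eq_one_of_dvd_coprimes hcop.symm (orderOf_dvd_of_pow_eq_one (G := G →* ℂˣ) h2) (orderOf_dvd_of_pow_eq_one (G := G →* ℂˣ) (pow_index_eq_one N _ fun n => by rw [MonoidHom.mul_apply, MonoidHom.inv_apply, hγN, hβN, inv_one, one_mul]))))

end Cfsg.Agent.S0862
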