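import Cfsg.Statements.S0867
import Cfsg.Agent.Lib.Char.Projective

set_option autoImplicit false
open Cfsg

namespace Cfsg.Agent.S0867

open CfsgLib.Char

attribute [-instance] MonoidHom.instPow

theorem algA {A : Type*} [CommGroup A] (f : A) (o d i : ℕ) (a b : ℤ) (h : (f ^ o) ^ i = 1)
    (hab : a * (o * d : ℕ) + b * i = 1) : (((f ^ o) ^ (-a)) ^ d * f) ^ o = 1 := by
  rw [mul_pow, ← pow_mul, ← zpow_natCast _ (d * o), ← zpow_mul,
    show (-a) * ((d * o : ℕ) : ℤ) = -1 + b * (i : ℕ) by push_cast at hab ⊢; linarith,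
    zpow_add, zpow_neg_one, mul_comm b, zpow_mul, zpow_natCast, h, one_zpow, mul_one, inv_mul_cancel]

theorem algC {A : Type*} [CommGroup A] (γ f : A) (o d e : ℕ) (h : (γ ^ d * f) ^ e = 1)
    (hf : f ^ o = 1) : γ ^ (d * (o * e)) = 1 := by
  have h4 : ((γ ^ d * f) ^ e) ^ o = 1 := by rw [h, one_pow]
  rwa [← pow_mul, mul_comm _ o, mul_pow, pow_mul f o, hf, one_pow, mul_one, ← pow_mul] at h4

theorem core {G : Type*} [Group G] [Finite G] (N : Subgroup G) [hN : N.Normal] (ϑ : N → ℂ)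
    (hϑ : Cfsg.IsIrrCharacter N ϑ) (hinv : ∀ g, conjBy N ϑ g = ϑ) (d : ℕ) (hd : ϑ 1 = d)
    (hcop : Nat.Coprime N.index (Cfsg.detOrder ϑ * d)) :
    ∃ χ : G → ℂ, (Cfsg.IsIrrCharacter G χ ∧ (∀ n : N, χ n = ϑ n) ∧ Cfsg.detOrder χ = Cfsg.detOrder ϑ) ∧
      ∀ χ' : G → ℂ, Cfsg.IsIrrCharacter G χ' → (∀ n : N, χ' n = ϑ n) →
        Nat.Coprime N.index (Cfsg.detOrder χ') → χ' = χ := by
  obtain ⟨δ, hδ⟩ := exists_det_hom (isCharacter_of_isIrr hϑ)
  set o := Cfsg.detOrder ϑ with ho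
  have hoδ : o = orderOf δ := by rw [ho, Cfsg.detOrder, hδ, orderOf_hom]
  have hδo : ∀ n, δ n ^ o = 1 := fun n => by
    rw [hoδ]; exact congrArg (fun F : N →* ℂˣ => F n) (pow_orderOf_eq_one δ)
  obtain ⟨χ₀, hχ₀, hres₀⟩ := extends_of_det N hϑ hinv d o hd (1 : G →* ℂˣ)
    (fun n => by rw [hδ, MonoidHom.one_apply]; show ((1 : ℂˣ) : ℂ) = (δ n : ℂ) ^ o; rw [← Units.val_pow_eq_pow_val, hδo]) (by rwa [mul_comm])
  have hd₀ : χ₀ 1 = d := by simpa [hd] using hres₀ 1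
  obtain ⟨f, hf⟩ := exists_det_hom (isCharacter_of_isIrr hχ₀)
  have hfN : ∀ n : N, f n = δ n := fun n => Units.ext (by
    have h := detChar_restrict N (isCharacter_of_isIrr hχ₀) n
    rw [show (fun m : N => χ₀ m) = ϑ from funext hres₀, hδ, hf] at h
    exact h.symm)
  have hdetmul : ∀ β : G →* ℂˣ, Cfsg.detChar (fun g => (β g : ℂ) * χ₀ g) = fun g => ((β ^ d * f) g : ℂ) := by
    intro β
    rw [detChar_linear_mul (isCharacter_of_isIrr hχ₀) β d hd₀, hf]
    funext g; simp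
  have hγ : (f ^ o) ^ N.index = 1 := pow_index_eq_one N _ fun n => by
    show f n ^ o = 1
    rw [hfN, hδo]
  obtain ⟨a, b, hab⟩ : ∃ a b : ℤ, a * (o * d : ℕ) + b * (N.index : ℕ) = 1 :=
    Int.isCoprime_iff_nat_coprime.mpr (by simpa [Int.natAbs_mul] using hcop.symm)
  set β := (f ^ o) ^ (-a) with hβ
  have hβN : ∀ n : N, β n = 1 := fun n => by
    rw [hβ]
    show (f n ^ o) ^ (-a) = 1
    rw [hfN, hδo, one_zpow]
  have hord : (β ^ d * f) ^ o = 1 := algA (A := G →* ℂˣ) f o d N.index a b hγ hab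
  set χ := fun g => (β g : ℂ) * χ₀ g with hχ
  have hχres : ∀ n : N, χ n = ϑ n := fun n => by simp [hχ, hβN, hres₀]
  have hχc : Cfsg.IsCharacter G χ := isCharacter_mul (isCharacter_monoidHom β) (isCharacter_of_isIrr hχ₀)
  have hirr : Cfsg.IsIrrCharacter G χ := isIrr_of_restrict N hχc (by rw [funext hχres]; exact hϑ)
  have hoχ : Cfsg.detOrder χ = orderOf (β ^ d * f) := by rw [Cfsg.detOrder, hdetmul β, orderOf_hom]
  have hχo : Cfsg.detOrder χ = o := by
    refine Nat.dvd_antisymm (hoχ ▸ orderOf_dvd_of_pow_eq_one hord) ?_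
    rw [hoδ]
    refine orderOf_dvd_of_pow_eq_one (MonoidHom.ext fun n => ?_)
    have := congrArg (fun F : G →* ℂˣ => F n) (pow_orderOf_eq_one (β ^ d * f))
    change ((β n) ^ d * f n) ^ orderOf (β ^ d * f) = 1 at this
    rw [hβN, one_pow, one_mul, hfN] at this
    rw [hoχ]
    exact this
  refine ⟨χ, ⟨hirr, hχres, hχo⟩, fun χ' hχ' hres' hcop' => ?_⟩
  obtain ⟨γ, hγN, hγ'⟩ := extensions_differ N hϑ hirr hχ' hχres hres'
  suffices γ = 1 by rw [hγ', this]; funext g; simp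
  have hd' : χ 1 = d := by simpa [hd] using hχres 1
  obtain ⟨f₁, hf₁⟩ := exists_det_hom hχc
  have hdet : Cfsg.detChar χ' = fun g => ((γ ^ d * f₁) g : ℂ) := by
    rw [hγ', detChar_linear_mul hχc γ d hd', hf₁]
    funext g; simp
  have h1 : (γ ^ d * f₁) ^ Cfsg.detOrder χ' = 1 := by
    rw [Cfsg.detOrder, hdet, orderOf_hom]; exact pow_orderOf_eq_one _
  have h2 : f₁ ^ o = 1 := by
    rw [← hχo, Cfsg.detOrder, hf₁, orderOf_hom]; exact pow_orderOf_eq_one _
  have h3 : γ ^ (d * (o * Cfsg.detOrder χ')) = 1 := algC (A := G →* ℂˣ) γ f₁ o d _ h1 h2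
  have h5 : Nat.Coprime (d * (o * Cfsg.detOrder χ')) N.index := by
    refine (Nat.Coprime.mul_right ?_ (Nat.Coprime.mul_right ?_ hcop')).symm
    · exact hcop.coprime_mul_left_right
    · exact hcop.coprime_mul_right_right
  exact orderOf_eq_one_iff.mp (Nat.eq_one_of_dvd_coprimes h5 (orderOf_dvd_of_pow_eq_one (G := G →* ℂˣ) h3) (orderOf_dvd_of_pow_eq_one (G := G →* ℂˣ) (pow_index_eq_one N γ hγN)))

/-- Let N be a normal subgroup of the finite group G and ϑ an irreducible character of N of degree d, invariant under conjugation by G, such that the index of N is coprime to the product of d and the determinantal order of ϑ. Then there is an irreducible character χ of G restricting to ϑ whose determinantal order equals that of ϑ, and χ is the only irreducible character of G restricting to ϑ whose determinantal order is coprime to the index of N. -/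
theorem result {G : Type*} [Group G] [Finite G] (N : Subgroup G) [hN : N.Normal] (ϑ : N → ℂ) (hϑ : Cfsg.IsIrrCharacter N ϑ) (hinv : ∀ (g : G) (n : N), ϑ ⟨g * n * g⁻¹, hN.conj_mem (n : G) n.2 g⟩ = ϑ n) (d : ℕ) (hd : ϑ 1 = d) (hcop : Nat.Coprime N.index (Cfsg.detOrder ϑ * d)) : ∃ χ : G → ℂ, (Cfsg.IsIrrCharacter G χ ∧ (∀ n : N, χ n = ϑ n) ∧ Cfsg.detOrder χ = Cfsg.detOrder ϑ) ∧ ∀ χ' : G → ℂ, Cfsg.IsIrrCharacter G χ' → (∀ n : N, χ' n = ϑ n) → Nat.Coprime N.index (Cfsg.detOrder χ') → χ' = χ := by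
  exact core N ϑ hϑ (fun g => funext (hinv g)) d hd hcop

end Cfsg.Agent.S0867
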