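import Cfsg.Statements.S0865
import Cfsg.Agent.Lib.Char.Projective
import Cfsg.Agent.S0867

set_option autoImplicit false
open Cfsg

namespace Cfsg.Agent.S0865

open CfsgLib.Char
open scoped CfsgLib.Char

/-- Let N be a normal subgroup of the finite group G and λ a character of N of degree 1, invariant under conjugation by G, whose order (under pointwise multiplication) is coprime to the index of N. Then there is a character μ of G of degree 1 restricting to λ with the same order as λ, and μ is the only degree-1 character of G restricting to λ whose order is coprime to the index of N. -/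
theorem result {G : Type*} [Group G] [Finite G] (N : Subgroup G) [hN : N.Normal] (lam : N → ℂ) (hlam : Cfsg.IsCharacter N lam ∧ lam 1 = 1) (hinv : ∀ (g : G) (n : N), lam ⟨g * n * g⁻¹, hN.conj_mem (n : G) n.2 g⟩ = lam n) (hcop : Nat.Coprime N.index (orderOf lam)) : ∃ μ : G → ℂ, (Cfsg.IsCharacter G μ ∧ μ 1 = 1 ∧ (∀ n : N, μ n = lam n) ∧ orderOf μ = orderOf lam) ∧ ∀ μ' : G → ℂ, Cfsg.IsCharacter G μ' ∧ μ' 1 = 1 → (∀ n : N, μ' n = lam n) → Nat.Coprime N.index (orderOf μ') → μ' = μ := by
  obtain ⟨μ, ⟨hμ, hres, ho⟩, huniq⟩ := S0867.core N lam (isIrrCharacter_of_degree_one hlam.1 hlam.2)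
    (fun g => funext (hinv g)) 1 (by rw [hlam.2, Nat.cast_one])
    (by rw [mul_one, Cfsg.detOrder, detChar_linear hlam.1 hlam.2]; exact hcop)
  have h1 : μ 1 = 1 := by simpa [hlam.2] using hres 1
  refine ⟨μ, ⟨isCharacter_of_isIrr hμ, h1, hres, ?_⟩, fun μ' hμ' hres' hcop' => ?_⟩
  · rwa [Cfsg.detOrder, detChar_linear (isCharacter_of_isIrr hμ) h1, Cfsg.detOrder, detChar_linear hlam.1 hlam.2] at ho
  · exact huniq μ' (isIrrCharacter_of_degree_one hμ'.1 hμ'.2) hres' (by rwa [Cfsg.detOrder, detChar_linear hμ'.1 hμ'.2])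

end Cfsg.Agent.S0865
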