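import Cfsg.Statements.S0868
import Cfsg.Agent.Lib.Char.Gallagher
import Cfsg.Agent.Lib.Char.Burnside

set_option autoImplicit false
open scoped ComplexConjugate
open Cfsg

namespace Cfsg.Agent.S0868

open CfsgLib.Char
open scoped CfsgLib.Char

/-- Let N be a normal subgroup of the finite group G, χ an irreducible character of G whose restriction ϑ to N is irreducible, and ψ an irreducible character of G. Define η on G by η g = (1 / order of N) * Σ over n in N of ψ (n * g) * conj (χ (n * g)). Then: if the restriction of ψ to N has nonzero inner product with ϑ, η is an irreducible character of G; if that inner product is zero, η vanishes identically; and if ψ = χ then η is identically 1. -/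
theorem result {G : Type*} [Group G] [Fintype G] (N : Subgroup G) [N.Normal] [Fintype N] (χ : G → ℂ) (hχ : Cfsg.IsIrrCharacter G χ) (hχN : Cfsg.IsIrrCharacter N (fun n : N => χ n)) (ψ : G → ℂ) (hψ : Cfsg.IsIrrCharacter G ψ) (η : G → ℂ) (hη : η = fun g => (Nat.card N : ℂ)⁻¹ * ∑ n : N, ψ ((n : G) * g) * conj (χ ((n : G) * g))) : (Cfsg.classInner (fun n : N => ψ n) (fun n : N => χ n) ≠ 0 → Cfsg.IsIrrCharacter G η) ∧ (Cfsg.classInner (fun n : N => ψ n) (fun n : N => χ n) = 0 → η = 0) ∧ (ψ = χ → η = fun _ => 1) := by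
  classical
  have hcl := isClassFunction_of_isCharacter (isCharacter_of_isIrr hχ)
  set θ : N → ℂ := fun n => χ n with hθ
  have hinv : ∀ g, conjBy N θ g = θ := conjBy_restrict N hcl
  have h1 : (fun _ => (1 : ℂ)) * θ = θ := funext fun n => one_mul _
  have hbij := gallagher N (φ := fun _ => 1) (θ := θ) isIrrCharacter_one (fun g => rfl) hinv (by rw [h1]; exact hχN) hχ (fun n => rfl)
  rw [h1] at hbij
  have key : ∀ (β : Cfsg.IrrCharacter G), Cfsg.classInner η (β : G → ℂ) = Cfsg.classInner ψ (avgN N (β : G → ℂ) * χ) := by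
    intro β
    have e : η = avgN N (fun g => ψ g * (starRingEnd ℂ) (χ g)) := by rw [hη]; rfl
    rw [e, classInner_avgN]
    simp only [Cfsg.classInner]
    congr 1
    exact Finset.sum_congr rfl fun g _ => by rw [Pi.mul_apply, map_mul]; ring
  have hηcl : Cfsg.IsClassFunction G η := by
    have e : η = avgN N (fun g => ψ g * (starRingEnd ℂ) (χ g)) := by rw [hη]; rfl
    rw [e]
    refine isClassFunction_avgN N fun g h => ?_
    rw [hcl g h, isClassFunction_of_isCharacter (isCharacter_of_isIrr hψ) g h]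
  have hone : ∀ β : G → ℂ, Cfsg.IsIrrCharacter G β → (Cfsg.classInner (Cfsg.indFun N (fun _ => 1)) β ≠ 0 ↔ avgN N β = β) := by
    intro β hβ
    have e : Cfsg.classInner (Cfsg.indFun N (fun _ => 1)) β = (starRingEnd ℂ) (avgN N β 1) := by
      rw [CfsgLib.Char.frobenius_reciprocity N _ (isClassFunction_of_isCharacter (isCharacter_of_isIrr hβ))]
      simp [Cfsg.classInner, avgN]
    rcases avgN_dichotomy N hβ with ⟨h, -⟩ | ⟨h, -⟩
    · exact iff_of_true (by rw [e, h, map_ne_zero]; exact irr_degree_ne_zero hβ) h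
    · refine iff_of_false (by rw [e, h]; simp) fun e' => irr_degree_ne_zero hβ ?_
      rw [← e', h]; rfl
  have hsum : ∀ (b : G → ℂ), Cfsg.IsIrrCharacter G b → Cfsg.classInner (Cfsg.indFun N (fun _ => 1)) b ≠ 0 → ψ = b * χ → η = b := by
    intro b hb hb1 he
    rw [classFunction_expansion hηcl, Finset.sum_eq_single ⟨b, hb⟩]
    · show Cfsg.classInner η ((⟨b, hb⟩ : Cfsg.IrrCharacter G) : G → ℂ) • b = b
      rw [key, (hone b hb).mp hb1, ← he, classInner_irr_self hψ, one_smul]
    · intro γ _ hγ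
      rw [key]
      rcases avgN_dichotomy N γ.2 with ⟨h, -⟩ | ⟨h, -⟩
      · have hm := hbij.mapsTo ⟨γ.2, (hone _ γ.2).mpr h⟩
        rw [h, classInner_irr_ne hψ hm.1 (fun e => hγ ?_), zero_smul]
        exact Subtype.ext (hbij.injOn ⟨γ.2, (hone _ γ.2).mpr h⟩ ⟨hb, hb1⟩ (e.symm.trans he))
      · rw [h, zero_mul, classInner_zero_right, zero_smul]
    · simp
  refine ⟨fun hne => ?_, fun h0 => ?_, fun he => ?_⟩
  · have : ψ ∈ {ψ : G → ℂ | Cfsg.IsIrrCharacter G ψ ∧ Cfsg.classInner (Cfsg.indFun N θ) ψ ≠ 0} := by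
      refine ⟨hψ, ?_⟩
      rw [CfsgLib.Char.frobenius_reciprocity N θ (isClassFunction_of_isCharacter (isCharacter_of_isIrr hψ)), ← classInner_conj_symm, map_ne_zero]
      exact hne
    obtain ⟨b, ⟨hb, hb1⟩, e⟩ := hbij.surjOn this
    rw [hsum b hb hb1 e.symm]
    exact hb
  · rw [classFunction_expansion hηcl]
    refine Finset.sum_eq_zero fun γ _ => ?_
    rw [key]
    rcases avgN_dichotomy N γ.2 with ⟨h, -⟩ | ⟨h, -⟩
    · have hm := hbij.mapsTo ⟨γ.2, (hone _ γ.2).mpr h⟩
      rw [h, classInner_irr_ne hψ hm.1 (fun e => hm.2 ?_), zero_smul]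
      show Cfsg.classInner (Cfsg.indFun N θ) ((γ : G → ℂ) * χ) = 0
      rw [← e, CfsgLib.Char.frobenius_reciprocity N θ (isClassFunction_of_isCharacter (isCharacter_of_isIrr hψ)), ← classInner_conj_symm, h0, map_zero]
    · rw [h, zero_mul, classInner_zero_right, zero_smul]
  · refine hsum (fun _ => 1) isIrrCharacter_one ((hone _ isIrrCharacter_one).mpr ?_) (by rw [he]; exact funext fun g => (one_mul _).symm)
    funext g
    simp [avgN, Nat.card_eq_fintype_card]

end Cfsg.Agent.S0868
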