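import Cfsg.Statements.S0869
import Mathlib

set_option autoImplicit false
open Cfsg

namespace Cfsg.Agent.S0869

/-- Let S be a nonempty finite type and R an additive subgroup of the integer-valued functions on S that is closed under pointwise multiplication. If the constant function 1 is not in R, then there exist a point x of S and a prime p such that p divides f x for every f in R. -/
theorem result {S : Type*} [Finite S] [Nonempty S] (R : AddSubgroup (S → ℤ)) (hmul : ∀ f ∈ R, ∀ g ∈ R, f * g ∈ R) (h1 : (1 : S → ℤ) ∉ R) : ∃ (x : S) (p : ℕ), p.Prime ∧ ∀ f ∈ R, (p : ℤ) ∣ f x := by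
  classical
  have _ : Fintype S := Fintype.ofFinite S
  by_contra hcon
  push Not at hcon
  have hone : ∀ x : S, ∃ f ∈ R, f x = 1 := by
    intro x
    set I : AddSubgroup ℤ := R.map (Pi.evalAddMonoidHom (fun _ : S => ℤ) x) with hI
    obtain ⟨a, ha⟩ := Int.subgroup_cyclic I
    have hdiv : ∀ f ∈ R, a ∣ f x := fun f hf => by
      have hm : f x ∈ I := ⟨f, hf, rfl⟩
      rw [ha, AddSubgroup.mem_closure_singleton] at hm
      obtain ⟨n, hn⟩ := hm
      exact ⟨n, by rw [← hn]; simp [mul_comm]⟩
    have ha1 : a.natAbs = 1 := by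
      by_contra hne
      obtain ⟨f, hf, hnd⟩ := hcon x a.natAbs.minFac (Nat.minFac_prime hne)
      exact hnd ((Int.natCast_dvd.mpr (Nat.minFac_dvd _)).trans (hdiv f hf))
    have h1I : (1 : ℤ) ∈ I := by
      have hu : IsUnit a := Int.isUnit_iff_natAbs_eq.mpr ha1
      rw [ha, AddSubgroup.mem_closure_singleton]
      exact ⟨a, by simp [Int.isUnit_mul_self hu]⟩
    obtain ⟨f, hf, hfx⟩ := h1I
    exact ⟨f, hf, hfx⟩
  choose f hfR hfx using hone
  have hprod : ∀ s : Finset S, (∏ x ∈ s, (1 - f x)) - 1 ∈ R := by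
    intro s
    induction s using Finset.induction_on with
    | empty => simp [R.zero_mem]
    | @insert a t hat ih =>
      rw [Finset.prod_insert hat]
      have he : (1 - f a) * ∏ x ∈ t, (1 - f x) - 1 =
          ((∏ x ∈ t, (1 - f x)) - 1) - f a - f a * ((∏ x ∈ t, (1 - f x)) - 1) := by ring
      rw [he]
      exact R.sub_mem (R.sub_mem ih (hfR a)) (hmul _ (hfR a) _ ih)
  have hzero : ∏ x, (1 - f x) = (0 : S → ℤ) := by
    funext y
    rw [Finset.prod_apply]
    exact Finset.prod_eq_zero (Finset.mem_univ y) (by simp [hfx y])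
  have h := hprod Finset.univ
  rw [hzero, zero_sub] at h
  exact h1 (neg_mem_iff.mp h)

end Cfsg.Agent.S0869
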