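import Cfsg.Statements.S0872
import Cfsg.Agent.Lib.Char.BrauerInd

set_option autoImplicit false
open Cfsg

namespace Cfsg.Agent.S0872

open CfsgLib.Char
open scoped CfsgLib.Char

/-- For a finite group G and a prime p there are an integer m not divisible by p and a ℤ-linear combination of functions induced from the constant function 1 on subgroups H, each having a cyclic normal subgroup of order prime to p and p-power index in H, that equals the constant function m. -/
theorem result {G : Type*} [Group G] [Fintype G] (p : ℕ) (hp : p.Prime) : ∃ (m : ℤ) (a : Subgroup G → ℤ), ¬ (p : ℤ) ∣ m ∧ (∀ H, a H ≠ 0 → (∃ C : Subgroup G, C ≤ H ∧ H ≤ Subgroup.normalizer (C : Set G) ∧ IsCyclic C ∧ Nat.Coprime (Nat.card C) p ∧ ∃ k : ℕ, C.relIndex H = p ^ k)) ∧ (fun _ : G => (m : ℂ)) = ∑ H : Subgroup G, (a H : ℂ) • Cfsg.indFun H (fun _ => 1) := by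
  classical
  obtain ⟨m, hm, hmem⟩ := solomon (G := G) p hp
  have key : ∀ f ∈ qeSpan (G := G) p, ∃ a : Subgroup G → ℤ, (∀ H, a H ≠ 0 → IsQuasiEl p H) ∧ f = ∑ H : Subgroup G, (a H : ℂ) • Cfsg.indFun H (fun _ => 1) := by
    intro f hf
    induction hf using AddSubgroup.closure_induction with
    | mem f hf =>
      obtain ⟨K, hK, rfl⟩ := hf
      refine ⟨fun H => if H = K then 1 else 0, fun H h => ?_, ?_⟩
      · by_cases e : H = K
        · exact e ▸ hK
        · simp [e] at h
      · rw [Finset.sum_eq_single K (fun H _ h => by simp [h]) (by simp)]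
        simp
    | zero => exact ⟨0, fun H h => absurd rfl h, by simp⟩
    | add f g _ _ h1 h2 =>
      obtain ⟨a, ha, rfl⟩ := h1
      obtain ⟨b, hb, rfl⟩ := h2
      refine ⟨a + b, fun H h => ?_, ?_⟩
      · by_cases e : a H = 0
        · exact hb H (by simpa [e] using h)
        · exact ha H e
      · simp [add_smul, Finset.sum_add_distrib]
    | neg f _ h1 =>
      obtain ⟨a, ha, rfl⟩ := h1
      exact ⟨-a, fun H h => ha H (by simpa using h), by simp⟩
  obtain ⟨a, ha, e⟩ := key _ hmem
  exact ⟨m, a, hm, ha, e⟩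

end Cfsg.Agent.S0872
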