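import Cfsg.Statements.S0874
import Cfsg.Agent.Lib.BrauerInd.Main

set_option autoImplicit false
open Cfsg

namespace Cfsg.Agent.S0874

/-- For a finite group G and a prime p there are an integer m not divisible by p and a list of triples (E, φ, c), with E a p-elementary subgroup, φ a character of E and c an integer, such that the constant function m on G equals the sum of the c • (function induced from φ). -/
theorem result {G : Type*} [Group G] [Fintype G] (p : ℕ) (hp : p.Prime) : ∃ (m : ℤ) (l : List ((E : Subgroup G) × ((E → ℂ) × ℤ))), ¬ (p : ℤ) ∣ m ∧ (∀ t ∈ l, Cfsg.IsElementary p t.1 ∧ Cfsg.IsCharacter t.1 t.2.1) ∧ (fun _ : G => (m : ℂ)) = (l.map fun t => (t.2.2 : ℂ) • Cfsg.indFun t.1 t.2.1).sum := by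
  classical
  obtain ⟨m, hm, hmem⟩ := CfsgLib.BrauerInd.exists_mem_closure_elemGen (G := G) hp
  have key : ∀ f ∈ AddSubgroup.closure (CfsgLib.BrauerInd.elemGen (G := G) p),
      ∃ l : List ((E : Subgroup G) × ((E → ℂ) × ℤ)),
        (∀ t ∈ l, Cfsg.IsElementary p t.1 ∧ Cfsg.IsCharacter t.1 t.2.1) ∧
        f = (l.map fun t => (t.2.2 : ℂ) • Cfsg.indFun t.1 t.2.1).sum := by
    intro f hf
    induction hf using AddSubgroup.closure_induction with
    | mem x hx =>
        obtain ⟨E, φ, hE, hφ, rfl⟩ := hx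
        exact ⟨[⟨E, φ, 1⟩], by simpa using ⟨hE, hφ⟩, by simp⟩
    | zero => exact ⟨[], by simp, by simp⟩
    | add x y _ _ h1 h2 =>
        obtain ⟨l₁, m₁, e₁⟩ := h1
        obtain ⟨l₂, m₂, e₂⟩ := h2
        exact ⟨l₁ ++ l₂, fun t ht => (List.mem_append.mp ht).elim (m₁ t) (m₂ t), by simp [e₁, e₂]⟩
    | neg x _ h =>
        obtain ⟨l, hl, e⟩ := h
        refine ⟨l.map fun t => ⟨t.1, t.2.1, -t.2.2⟩, fun t ht => ?_, ?_⟩
        · obtain ⟨s, hs, rfl⟩ := List.mem_map.mp ht
          exact hl s hs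
        · rw [e]
          clear e hl
          induction l with
          | nil => simp
          | cons a l ih => simp [neg_add, ih]; abel
  obtain ⟨l, hl, e⟩ := key _ hmem
  exact ⟨m, l, hm, hl, e⟩
end Cfsg.Agent.S0874
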