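import Cfsg.Statements.S0875
import Cfsg.Agent.Lib.Char.Section
import Cfsg.Agent.Lib.Blocks.Sections

set_option autoImplicit false
open Cfsg

namespace Cfsg.Agent.S0875

open CfsgLib.Char
open scoped CfsgLib.Char

/-- Let G be a finite group of order m * n with m and n coprime, and g an element whose order is coprime to m. Every x in G factors uniquely as x = u * v with u, v commuting, the order of u coprime to n and the order of v coprime to m; let ϑ be the function on G equal to n at those x whose factor v is conjugate to g and equal to 0 elsewhere. Then ϑ is a linear combination of the irreducible characters of G with algebraic-integer coefficients. -/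
theorem result {G : Type*} [Group G] [Fintype G] (m n : ℕ) (hmn : Nat.card G = m * n) (hcop : Nat.Coprime m n) (g : G) (hg : Nat.Coprime (orderOf g) m) (ϑ : G → ℂ) (hϑ1 : ∀ x : G, (∃ v : G, IsConj v g ∧ (∃ u : G, x = u * v ∧ Commute u v ∧ Nat.Coprime (orderOf u) n ∧ Nat.Coprime (orderOf v) m)) → ϑ x = n) (hϑ0 : ∀ x : G, (¬ ∃ v : G, IsConj v g ∧ (∃ u : G, x = u * v ∧ Commute u v ∧ Nat.Coprime (orderOf u) n ∧ Nat.Coprime (orderOf v) m)) → ϑ x = 0) : ∃ c : Cfsg.IrrCharacter G → ℂ, (∀ χ, c χ ∈ Cfsg.AlgInt) ∧ ϑ = ∑ᶠ χ : Cfsg.IrrCharacter G, c χ • (χ : G → ℂ) := by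
  classical
  have hcl : Cfsg.IsClassFunction G ϑ := by
    intro x c
    have hP : ∀ x c : G, (∃ v : G, IsConj v g ∧ (∃ u : G, x = u * v ∧ Commute u v ∧ Nat.Coprime (orderOf u) n ∧ Nat.Coprime (orderOf v) m)) →
        (∃ v : G, IsConj v g ∧ (∃ u : G, c * x * c⁻¹ = u * v ∧ Commute u v ∧ Nat.Coprime (orderOf u) n ∧ Nat.Coprime (orderOf v) m)) := by
      rintro x c ⟨v, hvg, u, rfl, hc, hu, hv⟩
      refine ⟨c * v * c⁻¹, (isConj_iff.mpr ⟨c, rfl⟩).symm.trans hvg, c * u * c⁻¹, by group, ?_,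
        by rwa [CfsgLib.Transfer.orderOf_conj], by rwa [CfsgLib.Transfer.orderOf_conj]⟩
      show c * u * c⁻¹ * (c * v * c⁻¹) = c * v * c⁻¹ * (c * u * c⁻¹)
      calc c * u * c⁻¹ * (c * v * c⁻¹) = c * (u * v) * c⁻¹ := by group
        _ = _ := by rw [hc.eq]; group
    by_cases h : ∃ v : G, IsConj v g ∧ (∃ u : G, x = u * v ∧ Commute u v ∧ Nat.Coprime (orderOf u) n ∧ Nat.Coprime (orderOf v) m)
    · rw [hϑ1 x h, hϑ1 _ (hP x c h)]
    · rw [hϑ0 x h, hϑ0 _ fun h' => h (by simpa [mul_assoc] using hP _ c⁻¹ h')]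
  refine ⟨fun χ => Cfsg.classInner ϑ (χ : G → ℂ), fun χ =>
    isIntegral_section_coeff hmn hcop g ϑ hcl (fun u v hc hu hv => ?_) (isGeneralized_of_isIrr χ.2), ?_⟩
  · split_ifs with h
    · exact hϑ1 _ ⟨v, h, u, rfl, hc, hu, hv⟩
    · refine hϑ0 _ ?_
      rintro ⟨v', hv'g, u', e, hc', hu', hv'⟩
      exact h (coprime_part_unique hmn hcop e hc hc' hu hu' hv hv' ▸ hv'g)
  · rw [finsum_eq_sum_of_fintype]
    exact classFunction_expansion hcl

end Cfsg.Agent.S0875
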