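import Cfsg.Statements.S0876
import Cfsg.Agent.Lib.Char.Section
import Cfsg.Agent.Lib.Blocks.Sections

set_option autoImplicit false
open Cfsg

namespace Cfsg.Agent.S0876

open CfsgLib.Char
open scoped CfsgLib.Char

/-- Let G be a finite group, p a prime and M a maximal ideal of the ring of algebraic integers containing p. Let x, y be elements with p-parts a and b (so a⁻¹ * x and b⁻¹ * y are their p-regular parts). Then a⁻¹ * x and b⁻¹ * y are conjugate in G if and only if, for every irreducible character χ, the difference χ x - χ y lies in the local ideal at M. -/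
theorem result {G : Type*} [Group G] [Finite G] (p : ℕ) (M : Ideal Cfsg.AlgInt) (hM : Cfsg.IsPModular p M) (x y a b : G) (ha : Cfsg.IsPPart p x a) (hb : Cfsg.IsPPart p y b) : IsConj (a⁻¹ * x) (b⁻¹ * y) ↔ ∀ χ : Cfsg.IrrCharacter G, Cfsg.MemLocalIdeal M ((χ : G → ℂ) x - (χ : G → ℂ) y) := by
  classical
  have : Fintype G := Fintype.ofFinite G
  have hp := hM.1
  have := CfsgLib.Blocks.isPrime_of_isPModular hM
  have hint : ∀ (χ : Cfsg.IrrCharacter G) (z : G), Cfsg.MemLocalRing M ((χ : G → ℂ) z) := fun χ z =>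
    CfsgLib.Blocks.memLocalRing_of_isIntegral (isIntegral_value (isCharacter_of_isIrr χ.2) z)
  have hpart : ∀ x a : G, Cfsg.IsPPart p x a → Commute a (a⁻¹ * x) ∧ (∃ k : ℕ, orderOf a = p ^ k) ∧
      ¬ p ∣ orderOf (a⁻¹ * x) := by
    rintro x a ⟨y, rfl, hc, hk, hy⟩
    rw [inv_mul_cancel_left]
    exact ⟨hc, hk, hy⟩
  obtain ⟨hcx, hkx, hrx⟩ := hpart x a ha
  obtain ⟨hcy, hky, hry⟩ := hpart y b hb
  have hmod : ∀ (χ : Cfsg.IrrCharacter G) (z c : G), Commute c (c⁻¹ * z) → (∃ k : ℕ, orderOf c = p ^ k) →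
      Cfsg.MemLocalIdeal M ((χ : G → ℂ) z - (χ : G → ℂ) (c⁻¹ * z)) := by
    intro χ z c hc hk
    have h := CfsgLib.Blocks.res_value_mul_pElement hM χ.2 hc hk
    rw [mul_inv_cancel_left] at h
    exact (CfsgLib.Blocks.res_eq_iff (hint χ _) (hint χ _)).mp h
  constructor
  · intro hconj χ
    have h1 := hmod χ x a hcx hkx
    have h2 := hmod χ y b hcy hky
    rw [eq_of_isConj (isClassFunction_irr χ) hconj] at h1
    exact CfsgLib.Blocks.memLocalIdeal_sub_trans h1 (CfsgLib.Blocks.memLocalIdeal_sub_comm h2)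
  · intro h
    by_contra hne
    obtain ⟨e, n, hpn, hG⟩ := Nat.exists_eq_pow_mul_and_not_dvd (Nat.card_pos (α := G)).ne' p hp.ne_one
    have hcop : Nat.Coprime (p ^ e) n := Nat.Coprime.pow_left e (hp.coprime_iff_not_dvd.mpr hpn)
    obtain ⟨θ, hθ, hval⟩ := exists_section_function hG hcop (a⁻¹ * x)
    have hp' : ∀ c : G, (∃ k : ℕ, orderOf c = p ^ k) → (orderOf c).Coprime n := by
      rintro c ⟨k, hk⟩; rw [hk]; exact Nat.Coprime.pow_left k (hp.coprime_iff_not_dvd.mpr hpn)
    have hr' : ∀ c : G, ¬ p ∣ orderOf c → (orderOf c).Coprime (p ^ e) := fun c hc =>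
      Nat.Coprime.pow_right e (hp.coprime_iff_not_dvd.mpr hc).symm
    have hx1 := hval a _ hcx (hp' a hkx) (hr' _ hrx)
    rw [mul_inv_cancel_left, if_pos (IsConj.refl _)] at hx1
    have hy1 := hval b _ hcy (hp' b hky) (hr' _ hry)
    rw [mul_inv_cancel_left, if_neg fun hh => hne hh.symm] at hy1
    have hmem : Cfsg.MemLocalIdeal M (θ x - θ y) := by
      rw [congrFun (classFunction_expansion hθ) x, congrFun (classFunction_expansion hθ) y]
      simp only [Finset.sum_apply, Pi.smul_apply, smul_eq_mul, ← Finset.sum_sub_distrib, ← mul_sub]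
      exact CfsgLib.Blocks.memLocalIdeal_sum _ _ fun χ _ => CfsgLib.Blocks.memLocalIdeal_mul_left
        (CfsgLib.Blocks.memLocalRing_of_isIntegral
          (isIntegral_section_coeff hG hcop _ θ hθ hval (isGeneralized_of_isIrr χ.2))) (h χ)
    rw [hx1, hy1, sub_zero, CfsgLib.Blocks.memLocalIdeal_natCast_iff hM] at hmem
    exact hpn hmem

end Cfsg.Agent.S0876
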