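import Cfsg.Statements.S0877
import Cfsg.Agent.Lib.Char.HallExtend

set_option autoImplicit false
open Cfsg

namespace Cfsg.Agent.S0877

open CfsgLib.Char
open scoped CfsgLib.Char

/-- Let H be a subgroup of the finite group G whose order is coprime to its index. Suppose that elements of H conjugate in G are conjugate in H, and that every subgroup E of G that is elementary for some prime (in the sense used for Brauer's characterisation of characters) and whose order divides the order of H is conjugate to a subgroup of H. Then there is a normal subgroup K with K ⊔ H = ⊤ and K ⊓ H trivial. -/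
theorem result {G : Type*} [Group G] [Finite G] (H : Subgroup G) (hHall : Nat.Coprime (Nat.card H) H.index) (hfus : ∀ x ∈ H, ∀ y ∈ H, IsConj x y → ∃ h ∈ H, h * x * h⁻¹ = y) (helem : ∀ (E : Subgroup G) (p : ℕ), p.Prime → Cfsg.IsElementary p E → Nat.card E ∣ Nat.card H → ∃ g : G, E.map (MulAut.conj g).toMonoidHom ≤ H) : ∃ K : Subgroup G, K.Normal ∧ K ⊔ H = ⊤ ∧ K ⊓ H = ⊥ := by
  classical
  haveI : Fintype G := Fintype.ofFinite G
  haveI : Fintype H := Fintype.ofFinite H
  obtain ⟨a, haH, hcard, hrep, hext⟩ := CfsgLib.Char.HallExtend.exists_extensions H hHall hfus helem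
  choose χ hχ using hext
  choose K hKn hKmem _ using fun θ : Cfsg.IrrCharacter H => exists_kernel (isCharacter_of_isIrr (χ θ).2)
  have hmem : ∀ x : G, x ∈ (⨅ θ, K θ) ↔ x ^ a = 1 := by
    intro x
    rw [Subgroup.mem_iInf]
    have h1 : ∀ θ, (χ θ : G → ℂ) 1 = (θ : H → ℂ) 1 := fun θ =>
      hχ θ 1 1 (by rw [one_pow, OneMemClass.coe_one])
    constructor
    · intro h
      obtain ⟨u, hu⟩ := hrep x
      have hu1 : u = 1 := eq_one_of_forall_irr fun θ => by
        rw [← hχ θ x u hu, (hKmem θ x).mp (h θ), h1]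
      rw [hu1, OneMemClass.coe_one, isConj_one_left] at hu
      exact hu
    · intro h θ
      rw [hKmem θ, h1, hχ θ x 1 (by rw [h, OneMemClass.coe_one])]
  refine ⟨⨅ θ, K θ, Subgroup.normal_iInf_normal hKn, ?_, ?_⟩
  · haveI := Subgroup.normal_iInf_normal hKn
    refine Subgroup.eq_top_of_card_eq _ ?_
    have hc : Nat.card ↥(⨅ θ, K θ) = H.index := by
      rw [← hcard]
      exact Nat.card_congr (Equiv.subtypeEquivRight hmem)
    rw [CfsgLib.Coprime.card_sup_of_coprime Subgroup.le_normalizer_of_normal (by rw [hc]; exact hHall.symm),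
      hc, mul_comm, H.card_mul_index]
  · rw [eq_bot_iff]
    rintro x ⟨hxK, hxH⟩
    rw [Subgroup.mem_bot, ← haH x hxH]
    exact (hmem x).mp hxK

end Cfsg.Agent.S0877
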