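import Cfsg.Statements.S0878
import Cfsg.Agent.Lib.Zassenhaus.Basic

set_option autoImplicit false
set_option linter.style.haveILetI false
open Cfsg

namespace Cfsg.Agent.S0878

/-- Let G be a Zassenhaus group on the finite set Ω, a a point, and let H be the subgroup of the stabilizer of a consisting of the identity and the elements fixing no point other than a (given here as a subgroup of the stabilizer of order one less than the number of points whose non-identity elements fix only a; it is the Frobenius kernel of the stabilizer). Then an element outside the stabilizer of a conjugates no non-identity element of H into H, and the normalizer of H is exactly the stabilizer of a. -/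
theorem result {G Ω : Type*} [Group G] [Finite G] [MulAction G Ω] [Fintype Ω] (hZ : Cfsg.IsZassenhausGroup G Ω) (a : Ω) (H : Subgroup G) (hHa : H ≤ MulAction.stabilizer G a) (hHcard : Nat.card H + 1 = Fintype.card Ω) (hHfix : ∀ u ∈ H, u ≠ 1 → ∀ c : Ω, u • c = c → c = a) : (∀ g : G, g ∉ MulAction.stabilizer G a → ∀ u ∈ H, g * u * g⁻¹ ∈ H → u = 1) ∧ Subgroup.normalizer (H : Set G) = MulAction.stabilizer G a := by
  obtain ⟨hf, h2, h3, h4, -⟩ := hZ
  have hz := CfsgLib.Zassenhaus.ZG.mk' hf h2 h3 h4
  haveI := CfsgLib.Zassenhaus.finite_group hz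
  have hn := hz.three
  rw [Nat.card_eq_fintype_card] at hn
  have hsub : (H : Set G) ⊆ CfsgLib.Zassenhaus.kerSet G a := by
    intro u hu
    by_cases h1 : u = 1
    · exact Or.inl h1
    · exact Or.inr ⟨hHa hu, hHfix u hu h1⟩
  have heq : (H : Set G) = CfsgLib.Zassenhaus.kerSet G a := by
    refine Set.eq_of_subset_of_ncard_le hsub ?_ (Set.toFinite _)
    rw [CfsgLib.Zassenhaus.ncard_kerSet hz, Nat.card_eq_fintype_card, ← Nat.card_coe_set_eq]
    exact le_of_eq (show Fintype.card Ω - 1 = Nat.card H by omega)
  refine ⟨fun g hg u hu hgu => ?_, ?_⟩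
  · by_contra h1
    apply hg
    refine hHfix _ hgu (fun e => h1 (conj_eq_one_iff.mp e)) (g • a) ?_
    rw [mul_smul, mul_smul, inv_smul_smul, show u • a = a from hHa hu]
  · apply le_antisymm
    · intro g hg
      obtain ⟨u, hu, h1⟩ : ∃ u ∈ H, u ≠ 1 := by
        refine H.bot_or_exists_ne_one.resolve_left fun e => ?_
        rw [e, Subgroup.card_bot] at hHcard
        omega
      refine hHfix _ ((Subgroup.mem_normalizer_iff.mp hg u).mp hu) (fun e => h1 (conj_eq_one_iff.mp e)) (g • a) ?_
      rw [mul_smul, mul_smul, inv_smul_smul, show u • a = a from hHa hu]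
    · intro g hg
      have key : ∀ k : G, k • a = a → ∀ u ∈ H, k * u * k⁻¹ ∈ H := by
        intro k hk u hu
        have := CfsgLib.Zassenhaus.kerSet_conj (g := k) (hsub hu)
        rw [hk, ← heq] at this
        exact this
      rw [Subgroup.mem_normalizer_iff]
      refine fun u => ⟨key g hg u, fun h => ?_⟩
      have := key g⁻¹ (inv_smul_eq_iff.mpr (show g • a = a from hg).symm) _ h
      simpa [mul_assoc] using this

end Cfsg.Agent.S0878
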