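import Cfsg.Statements.S0879
import Cfsg.Agent.Lib.Zassenhaus.Basic

set_option autoImplicit false
set_option linter.style.haveILetI false
open Cfsg

namespace Cfsg.Agent.S0879

/-- Let G be a Zassenhaus group on the finite set Ω and E the stabilizer of two distinct points a, b. Then an element outside the normalizer of E conjugates no non-identity element of E into E, and E has index 2 in its normalizer. -/
theorem result {G Ω : Type*} [Group G] [Finite G] [MulAction G Ω] [Fintype Ω] (hZ : Cfsg.IsZassenhausGroup G Ω) {a b : Ω} (hab : a ≠ b) : (∀ g : G, g ∉ Subgroup.normalizer ((MulAction.stabilizer G a ⊓ MulAction.stabilizer G b : Subgroup G) : Set G) → ∀ x ∈ (MulAction.stabilizer G a ⊓ MulAction.stabilizer G b : Subgroup G), g * x * g⁻¹ ∈ (MulAction.stabilizer G a ⊓ MulAction.stabilizer G b : Subgroup G) → x = 1) ∧ ((MulAction.stabilizer G a ⊓ MulAction.stabilizer G b : Subgroup G).subgroupOf (Subgroup.normalizer ((MulAction.stabilizer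 G a ⊓ MulAction.stabilizer G b : Subgroup G) : Set G))).index = 2 := by
  obtain ⟨hf, h2, h3, h4, -⟩ := hZ
  have hz := CfsgLib.Zassenhaus.ZG.mk' hf h2 h3 h4
  set D := CfsgLib.Zassenhaus.D2 G a b with hD
  refine ⟨fun g hg x hx hgx => ?_, ?_⟩
  · by_contra h1
    exact hg (CfsgLib.Zassenhaus.mem_normalizer_D2 (CfsgLib.Zassenhaus.pair_of_conj hz hab hx h1 hgx))
  haveI := CfsgLib.Zassenhaus.finite_group hz
  obtain ⟨g0, hg0, a', b', hab', ha', hb'⟩ := h4
  obtain ⟨k, hka, hkb⟩ := hz.trans a' b' a b hab' hab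
  have hx : k * g0 * k⁻¹ ∈ D := CfsgLib.Zassenhaus.mem_D2.mpr
    ⟨by rw [← hka, mul_smul, mul_smul, inv_smul_smul, ha'],
      by rw [← hkb, mul_smul, mul_smul, inv_smul_smul, hb']⟩
  have hx1 : k * g0 * k⁻¹ ≠ 1 := fun e => hg0 (conj_eq_one_iff.mp e)
  obtain ⟨s, hsa, hsb⟩ := CfsgLib.Zassenhaus.exists_swapping hz hab
  rw [Subgroup.index_eq_two_iff]
  refine ⟨⟨s, CfsgLib.Zassenhaus.mem_normalizer_D2 (Or.inr ⟨hsa, hsb⟩)⟩, fun ⟨n, hn⟩ => ?_⟩
  have hcases := CfsgLib.Zassenhaus.pair_of_conj hz hab hx hx1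
    ((Subgroup.mem_normalizer_iff.mp hn _).mp hx)
  simp only [Subgroup.mem_subgroupOf, Subgroup.coe_mul]
  rcases hcases with ⟨na, nb⟩ | ⟨na, nb⟩
  · refine Or.inr ⟨CfsgLib.Zassenhaus.mem_D2.mpr ⟨na, nb⟩, fun h => ?_⟩
    have h' := (CfsgLib.Zassenhaus.mem_D2.mp h).1
    rw [mul_smul, hsa, nb] at h'
    exact hab h'.symm
  · refine Or.inl ⟨CfsgLib.Zassenhaus.mem_D2.mpr ⟨by rw [mul_smul, hsa, nb], by rw [mul_smul, hsb, na]⟩,
      fun h => hab ?_⟩
    exact (CfsgLib.Zassenhaus.mem_D2.mp h).1.symm.trans na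

end Cfsg.Agent.S0879
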