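import Cfsg.Statements.S0880
import Cfsg.Agent.Lib.Zassenhaus.Basic
import Cfsg.Agent.Lib.Char.Table

set_option autoImplicit false
set_option linter.style.haveILetI false
open Cfsg

namespace Cfsg.Agent.S0880

/-- Let G be a finite simple Zassenhaus group on Ω with n points whose two-point stabilizer E has odd order less than n - 2. Then there are two elements of G, each fixing no point of Ω, that are not conjugate. -/
theorem result {G Ω : Type*} [Group G] [Finite G] [MulAction G Ω] [Fintype Ω] (hZ : Cfsg.IsZassenhausGroup G Ω) {a b : Ω} (hab : a ≠ b) [IsSimpleGroup G] (hodd : Odd (Nat.card ↥(MulAction.stabilizer G a ⊓ MulAction.stabilizer G b : Subgroup G))) (hlt : Nat.card ↥(MulAction.stabilizer G a ⊓ MulAction.stabilizer G b : Subgroup G) < Fintype.card Ω - 2) : ∃ x y : G, (∀ c : Ω, x • c ≠ c) ∧ (∀ c : Ω, y • c ≠ c) ∧ ¬ IsConj x y := by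
  classical
  have hz : CfsgLib.Zassenhaus.ZG G Ω := CfsgLib.Zassenhaus.ZG.mk' hZ.1 hZ.2.1 hZ.2.2.1 hZ.2.2.2.1
  have hne : CfsgLib.Zassenhaus.D2 G a b ≠ ⊥ := by
    obtain ⟨g, hg1, c, d, hcd, hgc, hgd⟩ := hZ.2.2.2.1
    obtain ⟨t, hta, htb⟩ := hz.trans c d a b hcd hab
    intro h
    have hm : t * g * t⁻¹ ∈ CfsgLib.Zassenhaus.D2 G a b := CfsgLib.Zassenhaus.mem_D2.mpr
      ⟨by rw [← hta, mul_smul, mul_smul, inv_smul_smul, hgc],
       by rw [← htb, mul_smul, mul_smul, inv_smul_smul, hgd]⟩
    rw [h, Subgroup.mem_bot] at hm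
    exact hg1 (conj_eq_one_iff.mp hm)
  haveI := Fintype.ofFinite G
  by_contra hno
  push Not at hno
  set k := Nat.card (CfsgLib.Zassenhaus.D2 G a b) with hk
  have hk3 : 3 ≤ k := by
    haveI := (CfsgLib.Zassenhaus.D2 G a b).nontrivial_iff_ne_bot.mpr hne
    have h1 : 1 < k := Finite.one_lt_card
    obtain ⟨r, hr⟩ := hodd
    have hr' : k = 2 * r + 1 := hr
    omega
  have hn3 := hz.three
  rw [Nat.card_eq_fintype_card] at hn3
  set fix : G → Finset Ω := fun g => Finset.univ.filter fun c => g • c = c with hfix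
  have hle2 : ∀ g : G, g ≠ 1 → (fix g).card ≤ 2 := by
    intro g hg
    by_contra hgt
    push Not at hgt
    obtain ⟨x, y, z, hx, hy, hz', hxy, hxz, hyz⟩ := Finset.two_lt_card_iff.mp hgt
    simp only [hfix, Finset.mem_filter, Finset.mem_univ, true_and] at hx hy hz'
    exact hg (hz.free g x y z hxy hyz hxz hx hy hz')
  have hstab : ∀ c d : Ω, (Finset.univ.filter fun g : G => g • c = c ∧ g • d = d).card =
      if c = d then (Fintype.card Ω - 1) * k else k := by
    intro c d
    rw [← Fintype.card_subtype, ← Nat.card_eq_fintype_card]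
    split_ifs with hcd
    · subst hcd
      obtain ⟨e', he', -⟩ := CfsgLib.Zassenhaus.exists_third hz c c
      have e1 := CfsgLib.Zassenhaus.card_group hz hab
      rw [CfsgLib.Zassenhaus.card_group hz he'.symm] at e1
      rw [← Nat.card_eq_fintype_card, hk, ← Nat.eq_of_mul_eq_mul_left
        (Nat.mul_pos (by rw [Nat.card_eq_fintype_card]; omega) (by rw [Nat.card_eq_fintype_card]; omega)) e1,
        ← CfsgLib.Zassenhaus.card_stab hz he'.symm]
      exact Nat.card_congr (Equiv.subtypeEquivRight fun g => and_self_iff)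
    · have e1 := CfsgLib.Zassenhaus.card_group hz hab
      rw [CfsgLib.Zassenhaus.card_group hz hcd] at e1
      rw [hk, ← Nat.eq_of_mul_eq_mul_left
        (Nat.mul_pos (by rw [Nat.card_eq_fintype_card]; omega) (by rw [Nat.card_eq_fintype_card]; omega)) e1]
      exact Nat.card_congr (Equiv.subtypeEquivRight fun g => Iff.rfl)
  have hG : Fintype.card G = Fintype.card Ω * (Fintype.card Ω - 1) * k := by
    rw [← Nat.card_eq_fintype_card, CfsgLib.Zassenhaus.card_group hz hab, Nat.card_eq_fintype_card]
  have hS1 : ∑ g : G, (fix g).card = Fintype.card G := by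
    simp only [hfix, Finset.card_filter]
    rw [Finset.sum_comm]
    simp only [← Finset.card_filter]
    rw [Finset.sum_congr rfl (g := fun _ => (Fintype.card Ω - 1) * k) fun c _ => ?_, Finset.sum_const,
      Finset.card_univ, hG, smul_eq_mul, mul_assoc]
    rw [← if_pos (rfl : c = c) (t := (Fintype.card Ω - 1) * k) (e := k), ← hstab c c]
    exact congrArg Finset.card (Finset.filter_congr fun g _ => (and_self_iff).symm)
  have hS2 : ∑ g : G, (fix g).card * (fix g).card = 2 * Fintype.card G := by
    simp only [hfix, Finset.card_filter, Finset.sum_mul, Finset.mul_sum, ite_mul, one_mul, zero_mul, ← ite_and]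
    rw [Finset.sum_comm]
    simp only [Finset.sum_comm (γ := G)]
    simp only [← Finset.card_filter, hstab]
    rw [Finset.sum_congr rfl (g := fun _ => 2 * ((Fintype.card Ω - 1) * k)) fun c _ => ?_, Finset.sum_const,
      Finset.card_univ, hG, smul_eq_mul]
    · ring
    · rw [← Finset.add_sum_erase _ _ (Finset.mem_univ c), if_pos rfl,
        Finset.sum_congr rfl (g := fun _ => k) fun d hd => if_neg (Finset.ne_of_mem_erase hd),
        Finset.sum_const, Finset.card_erase_of_mem (Finset.mem_univ c), Finset.card_univ, smul_eq_mul]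
      ring
  set D : Finset G := Finset.univ.filter fun g => ∀ c : Ω, g • c ≠ c with hD
  have hterm : ∀ g : G, (((fix g).card : ℤ) - 1) * (((fix g).card : ℤ) - 2) =
      (if g ∈ D then 2 else 0) +
        if g = 1 then ((Fintype.card Ω : ℤ) - 1) * ((Fintype.card Ω : ℤ) - 2) else 0 := by
    intro g
    by_cases hg : g = 1
    · subst hg
      rw [if_neg, if_pos rfl, zero_add, show fix 1 = Finset.univ from Finset.filter_true_of_mem fun c _ => one_smul G c,
        Finset.card_univ]
      simp only [hD, Finset.mem_filter, not_and, not_forall, not_not]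
      exact fun _ => ⟨a, one_smul G a⟩
    · rw [if_neg hg, add_zero]
      have h2 := hle2 g hg
      by_cases hgD : g ∈ D
      · rw [if_pos hgD, show (fix g).card = 0 by
          rw [Finset.card_eq_zero, hfix, Finset.filter_eq_empty_iff]
          exact fun c _ => (Finset.mem_filter.mp hgD).2 c]
        norm_num
      · rw [if_neg hgD]
        have h0 : (fix g).card ≠ 0 := fun h => hgD (Finset.mem_filter.mpr ⟨Finset.mem_univ _, fun c hc => by
          have := Finset.card_eq_zero.mp h
          have hm : c ∈ fix g := Finset.mem_filter.mpr ⟨Finset.mem_univ _, hc⟩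
          rw [this] at hm
          exact Finset.notMem_empty c hm⟩)
        interval_cases (fix g).card <;> simp_all
  have hcount : (Fintype.card G : ℤ) = 2 * D.card + ((Fintype.card Ω : ℤ) - 1) * ((Fintype.card Ω : ℤ) - 2) := by
    have h := Finset.sum_congr (s₁ := (Finset.univ : Finset G)) rfl fun g _ => hterm g
    rw [Finset.sum_add_distrib, Finset.sum_ite_eq' Finset.univ (1 : G), if_pos (Finset.mem_univ _),
      Finset.sum_ite_mem, Finset.univ_inter, Finset.sum_const, nsmul_eq_mul] at h
    have e : ∑ g : G, (((fix g).card : ℤ) - 1) * (((fix g).card : ℤ) - 2) =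
        (∑ g : G, ((fix g).card * (fix g).card : ℕ) : ℤ) - 3 * (∑ g : G, (fix g).card : ℕ) + 2 * Fintype.card G := by
      push_cast
      rw [Finset.mul_sum, ← Finset.sum_sub_distrib, show (2 * (Fintype.card G : ℤ)) = ∑ g : G, (2 : ℤ) by
        rw [Finset.sum_const, Finset.card_univ, nsmul_eq_mul, mul_comm], ← Finset.sum_add_distrib]
      exact Finset.sum_congr rfl fun g _ => by ring
    rw [e, hS1] at h
    rw [show (∑ g : G, (((fix g).card * (fix g).card : ℕ) : ℤ)) = (2 * Fintype.card G : ℕ) by exact_mod_cast hS2] at h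
    push_cast at h
    linarith
  set n := Fintype.card Ω with hn
  rw [hG] at hcount
  push_cast [Nat.cast_sub (show 1 ≤ n by omega)] at hcount
  have hk' : (3 : ℤ) ≤ k := by exact_mod_cast hk3
  have hn' : (3 : ℤ) ≤ n := by exact_mod_cast hn3
  obtain ⟨x, hx⟩ : D.Nonempty := by
    refine Finset.card_pos.mp ?_
    by_contra h
    have h0 : (D.card : ℤ) = 0 := by exact_mod_cast Nat.eq_zero_of_not_pos h
    rw [h0] at hcount
    nlinarith [mul_le_mul_of_nonneg_left hk' (mul_nonneg (by linarith : (0 : ℤ) ≤ n) (by linarith : (0 : ℤ) ≤ (n : ℤ) - 1))]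
  have hxfix : ∀ c : Ω, x • c ≠ c := (Finset.mem_filter.mp hx).2
  have hclass : D = Finset.univ.filter fun y => IsConj y x := by
    ext y
    simp only [hD, Finset.mem_filter, Finset.mem_univ, true_and]
    refine ⟨fun hy => hno y x hy hxfix, fun hy c hc => ?_⟩
    obtain ⟨g, hg⟩ := isConj_iff.mp hy
    refine hxfix (g • c) ?_
    rw [← hg, mul_smul, mul_smul, inv_smul_smul, hc]
  have h6 := CfsgLib.Char.card_isConj_eq_index x
  rw [Nat.card_eq_fintype_card, Fintype.card_subtype, ← hclass] at h6
  have h7 := (Subgroup.centralizer ({x} : Set G)).card_mul_index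
  rw [← h6, Nat.card_eq_fintype_card (α := G), hG] at h7
  set c := Nat.card (Subgroup.centralizer ({x} : Set G)) with hc
  have hc2 : 2 ≤ c := by
    have hx1 : x ≠ 1 := fun h => hxfix a (by rw [h, one_smul])
    haveI : Nontrivial (Subgroup.centralizer ({x} : Set G)) :=
      ⟨⟨⟨x, Subgroup.mem_centralizer_singleton_iff.mpr rfl⟩, 1, fun h => hx1 (congrArg Subtype.val h)⟩⟩
    exact Finite.one_lt_card
  have h8 : (c : ℤ) * D.card = n * ((n : ℤ) - 1) * k := by
    rw [show ((n : ℤ) - 1) = ((n - 1 : ℕ) : ℤ) by omega]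
    exact_mod_cast h7
  rcases Nat.lt_or_ge c 3 with h | h
  · have : c = 2 := by omega
    rw [this] at h8
    push_cast at h8
    nlinarith
  · have hc3 : (3 : ℤ) ≤ c := by exact_mod_cast h
    have h9 : (3 : ℤ) * D.card ≤ n * ((n : ℤ) - 1) * k := h8 ▸ mul_le_mul_of_nonneg_right hc3 (by positivity)
    nlinarith [mul_le_mul_of_nonneg_left hk' (mul_nonneg (by linarith : (0 : ℤ) ≤ n) (by linarith : (0 : ℤ) ≤ (n : ℤ) - 1))]

end Cfsg.Agent.S0880
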