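import Cfsg.Statements.S0881
import Cfsg.Agent.Lib.Zassenhaus.OddSimple
import Cfsg.Agent.Lib.Char.Counting

set_option autoImplicit false
set_option linter.style.haveILetI false
open Cfsg

namespace Cfsg.Agent.S0881

/-- Let G be a finite simple Zassenhaus group on Ω with n points, a ≠ b points with two-point stabilizer E of odd order less than n - 2, and let H be the subgroup of the stabilizer of a consisting of the identity and the elements fixing no point other than a (given here as a subgroup of the stabilizer of order one less than the number of points whose non-identity elements fix only a; it is the Frobenius kernel of the stabilizer). Let μ be a character of degree 1 of the stabilizer of a that is identically 1 on H but not identically 1. Then the function induced from μ to G is an irreducible character of G, and it takes the value 1 at every non-identity element of H. -/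
theorem result {G Ω : Type*} [Group G] [Fintype G] [MulAction G Ω] [Fintype Ω] (hZ : Cfsg.IsZassenhausGroup G Ω) {a b : Ω} (hab : a ≠ b) [IsSimpleGroup G] (hodd : Odd (Nat.card ↥(MulAction.stabilizer G a ⊓ MulAction.stabilizer G b : Subgroup G))) (hlt : Nat.card ↥(MulAction.stabilizer G a ⊓ MulAction.stabilizer G b : Subgroup G) < Fintype.card Ω - 2) (H : Subgroup G) (hHa : H ≤ MulAction.stabilizer G a) (hHcard : Nat.card H + 1 = Fintype.card Ω) (hHfix : ∀ u ∈ H, u ≠ 1 → ∀ c : Ω, u • c = c → c = a) (μ : MulAction.stabilizer G a → ℂ) (hμ : Cfsg.IsCharacter (MulAction.stabilizer G a) μ ∧ μ 1 = 1) (hμH : ∀ u : MulAction.stabilizer G a, (u : G) ∈ H → μ u = 1) (hμne : μ ≠ fun _ => 1) : Cfsg.IsIrrCharacter G (Cfsg.indFun (MulAction.stabilizer G a) μ) ∧ ∀ u ∈ H, u ≠ 1 → Cfsg.indFun (MulAction.stabilizer G a) μ u = 1 := by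
  classical
  have hz : CfsgLib.Zassenhaus.ZG G Ω := CfsgLib.Zassenhaus.ZG.mk' hZ.1 hZ.2.1 hZ.2.2.1 hZ.2.2.2.1
  have hne : CfsgLib.Zassenhaus.D2 G a b ≠ ⊥ := by
    obtain ⟨g, hg1, c, d, hcd, hgc, hgd⟩ := hZ.2.2.2.1
    obtain ⟨t, hta, htb⟩ := hz.trans c d a b hcd hab
    intro h
    have hm : t * g * t⁻¹ ∈ CfsgLib.Zassenhaus.D2 G a b := CfsgLib.Zassenhaus.mem_D2.mpr
      ⟨by rw [← hta, mul_smul, mul_smul, inv_smul_smul, hgc],
       by rw [← htb, mul_smul, mul_smul, inv_smul_smul, hgd]⟩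
    rw [h, Subgroup.mem_bot] at hm
    exact hg1 (conj_eq_one_iff.mp hm)
  obtain ⟨U, hU⟩ := CfsgLib.Zassenhaus.exists_regKernel hz hab hne
  obtain ⟨v, hv, hO⟩ := CfsgLib.Zassenhaus.exists_oddInv hz hab hne hodd hU
  have hHU := CfsgLib.Zassenhaus.eq_regKernel_of_fix hz hab.symm hU hHa
    (by rw [Nat.card_eq_fintype_card (α := Ω)]; exact hHcard) hHfix
  subst hHU
  haveI := Fintype.ofFinite H
  haveI := Fintype.ofFinite (CfsgLib.Zassenhaus.D2 G a b)
  haveI := Fintype.ofFinite (MulAction.stabilizer G a)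
  let ι : CfsgLib.Zassenhaus.D2 G a b →* MulAction.stabilizer G a := Subgroup.inclusion inf_le_left
  let l : Cfsg.IrrCharacter (CfsgLib.Zassenhaus.D2 G a b) :=
    ⟨fun y => μ (ι y), CfsgLib.Char.isIrrCharacter_of_degree_one (CfsgLib.Char.isCharacter_comp ι hμ.1)
      (by show μ (ι 1) = 1; rw [map_one]; exact hμ.2)⟩
  have hL : hO.L l = μ := by
    funext x
    obtain ⟨u, hu, σ, hσ, hx⟩ := hU.factor hz (show (x : G) • a = a from x.2) hab.symm
    have e : x = (⟨u, hU.le hu⟩ : MulAction.stabilizer G a) * ⟨σ, hσ.1⟩ := Subtype.ext hx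
    rw [e, CfsgLib.Char.linear_mul hμ.1 hμ.2, hμH ⟨u, hU.le hu⟩ hu, one_mul]
    have h1 : hO.L l (⟨u, hU.le hu⟩ * ⟨σ, hσ.1⟩) = hO.L l ⟨u, hU.le hu⟩ * hO.L l ⟨σ, hσ.1⟩ :=
      CfsgLib.Char.linear_mul (CfsgLib.Char.isCharacter_of_isIrr (hO.L_irr l))
        (hO.L_kernel l 1 H.one_mem) _ _
    rw [h1, hO.L_kernel l ⟨u, hU.le hu⟩ hu, one_mul, hO.L_coe l ⟨σ, hσ.1⟩ ⟨σ, hσ⟩ rfl]
    rfl
  have hl : l ≠ hO.one := by
    intro e
    refine hμne ?_
    rw [← hL, e]
    rfl
  rw [← hL]
  exact ⟨hO.R_irr hl, fun u hu hu1 => hO.I_kernel l hu hu1⟩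

end Cfsg.Agent.S0881
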