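import Cfsg.Statements.S0882
import Cfsg.Agent.Lib.Zassenhaus.OddSimple

set_option autoImplicit false
set_option linter.style.haveILetI false
open Cfsg

namespace Cfsg.Agent.S0882

/-- Let G be a finite simple Zassenhaus group on Ω with n = h + 1 points whose two-point stabilizer E has odd order e with 2e < h - 1. Then any two involutions of G are conjugate, and the number of involutions is e * (h + 1) if h is even and e * h if h is odd. -/
theorem result {G Ω : Type*} [Group G] [Finite G] [MulAction G Ω] [Fintype Ω] (hZ : Cfsg.IsZassenhausGroup G Ω) {a b : Ω} (hab : a ≠ b) [IsSimpleGroup G] (h e : ℕ) (hh : Fintype.card Ω = h + 1) (he : Nat.card ↥(MulAction.stabilizer G a ⊓ MulAction.stabilizer G b : Subgroup G) = e) (hodd : Odd e) (hlt : 2 * e < h - 1) : (∀ x y : G, orderOf x = 2 → orderOf y = 2 → IsConj x y) ∧ Nat.card {x : G // orderOf x = 2} = (if Even h then e * (h + 1) else e * h) := by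
  classical
  have hz : CfsgLib.Zassenhaus.ZG G Ω := CfsgLib.Zassenhaus.ZG.mk' hZ.1 hZ.2.1 hZ.2.2.1 hZ.2.2.2.1
  have hne : CfsgLib.Zassenhaus.D2 G a b ≠ ⊥ := by
    obtain ⟨g, hg1, c, d, hcd, hgc, hgd⟩ := hZ.2.2.2.1
    obtain ⟨t, hta, htb⟩ := hz.trans c d a b hcd hab
    intro h
    have hm : t * g * t⁻¹ ∈ CfsgLib.Zassenhaus.D2 G a b := CfsgLib.Zassenhaus.mem_D2.mpr
      ⟨by rw [← hta, mul_smul, mul_smul, inv_smul_smul, hgc],
       by rw [← htb, mul_smul, mul_smul, inv_smul_smul, hgd]⟩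
    rw [h, Subgroup.mem_bot] at hm
    exact hg1 (conj_eq_one_iff.mp hm)
  obtain ⟨U, hU⟩ := CfsgLib.Zassenhaus.exists_regKernel hz hab hne
  obtain ⟨v, hv, hO⟩ := CfsgLib.Zassenhaus.exists_oddInv hz hab hne (he ▸ hodd) hU
  refine ⟨fun x y hx hy => (hO.isConj_involution hv hx).symm.trans (hO.isConj_involution hv hy), ?_⟩
  have hc := hO.card_involutions hv
  rw [he, Nat.card_eq_fintype_card (α := Ω), hh] at hc
  have hn := hz.three
  rw [Nat.card_eq_fintype_card, hh] at hn
  split_ifs with hev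
  · rw [Nat.even_iff] at hev
    rw [show h + 1 - (h + 1) % 2 = h by omega, show h + 1 - 1 = h by omega] at hc
    exact Nat.eq_of_mul_eq_mul_right (by omega : 0 < h) (by rw [hc]; ring)
  · rw [Nat.even_iff] at hev
    rw [show h + 1 - (h + 1) % 2 = h + 1 by omega, show h + 1 - 1 = h by omega] at hc
    exact Nat.eq_of_mul_eq_mul_right (by omega : 0 < h + 1) (by rw [hc]; ring)

end Cfsg.Agent.S0882
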