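import Cfsg.Statements.S0883
import Cfsg.Agent.Lib.Zassenhaus.OddSimple

set_option autoImplicit false
set_option linter.style.haveILetI false
open Cfsg

namespace Cfsg.Agent.S0883

/-- Let G be a finite simple Zassenhaus group on Ω with h + 1 points whose two-point stabilizer E has odd order e with 2e < h - 1, and let H be the subgroup of the stabilizer of a consisting of the identity and the elements fixing no point other than a (given here as a subgroup of the stabilizer of order one less than the number of points whose non-identity elements fix only a; it is the Frobenius kernel of the stabilizer). If a non-identity element u of H is a product of two involutions of G, then u is an involution. -/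
theorem result {G Ω : Type*} [Group G] [Finite G] [MulAction G Ω] [Fintype Ω] (hZ : Cfsg.IsZassenhausGroup G Ω) {a b : Ω} (hab : a ≠ b) [IsSimpleGroup G] (h e : ℕ) (hh : Fintype.card Ω = h + 1) (he : Nat.card ↥(MulAction.stabilizer G a ⊓ MulAction.stabilizer G b : Subgroup G) = e) (hodd : Odd e) (hlt : 2 * e < h - 1) (H : Subgroup G) (hHa : H ≤ MulAction.stabilizer G a) (hHcard : Nat.card H + 1 = Fintype.card Ω) (hHfix : ∀ u ∈ H, u ≠ 1 → ∀ c : Ω, u • c = c → c = a) (u : G) (hu : u ∈ H) (hu1 : u ≠ 1) (x y : G) (hx : orderOf x = 2) (hy : orderOf y = 2) (hxy : x * y = u) : orderOf u = 2 := by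
  classical
  have hz : CfsgLib.Zassenhaus.ZG G Ω := CfsgLib.Zassenhaus.ZG.mk' hZ.1 hZ.2.1 hZ.2.2.1 hZ.2.2.2.1
  have hne : CfsgLib.Zassenhaus.D2 G a b ≠ ⊥ := by
    obtain ⟨g, hg1, c, d, hcd, hgc, hgd⟩ := hZ.2.2.2.1
    obtain ⟨t, hta, htb⟩ := hz.trans c d a b hcd hab
    intro h
    have hm : t * g * t⁻¹ ∈ CfsgLib.Zassenhaus.D2 G a b := CfsgLib.Zassenhaus.mem_D2.mpr
      ⟨by rw [← hta, mul_smul, mul_smul, inv_smul_smul, hgc],
       by rw [← htb, mul_smul, mul_smul, inv_smul_smul, hgd]⟩
    rw [h, Subgroup.mem_bot] at hm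
    exact hg1 (conj_eq_one_iff.mp hm)
  obtain ⟨U, hU⟩ := CfsgLib.Zassenhaus.exists_regKernel hz hab hne
  obtain ⟨v, hv, hO⟩ := CfsgLib.Zassenhaus.exists_oddInv hz hab hne (he ▸ hodd) hU
  have hHU := CfsgLib.Zassenhaus.eq_regKernel_of_fix hz hab.symm hU hHa
    (by rw [Nat.card_eq_fintype_card (α := Ω)]; exact hHcard) hHfix
  exact hO.strongly_real hv (hHU ▸ hu) hu1 hx hy hxy

end Cfsg.Agent.S0883
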