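import Cfsg.Statements.S0893
import Cfsg.Agent.Lib.Char.Extraspecial

set_option autoImplicit false
open Cfsg

namespace Cfsg.Agent.S0893

open CfsgLib.Char
open scoped CfsgLib.Char

/-- Let P be an extraspecial p-group of order p ^ (2 * n + 1), A an abelian subgroup of order p ^ (n + 1), and λ a character of A of degree 1 that is not identically 1 on the elements of A lying in the centre of P. Then the function induced from λ to P is an irreducible character of P and vanishes at every element outside the centre. -/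
theorem result {P : Type*} [Group P] [Fintype P] (p n : ℕ) [Fact p.Prime] (hP : Cfsg.IsExtraspecial p P) (hcard : Nat.card P = p ^ (2 * n + 1)) (A : Subgroup P) (hab : ∀ a ∈ A, ∀ b ∈ A, a * b = b * a) (hA : Nat.card A = p ^ (n + 1)) (lam : A → ℂ) (hlam : Cfsg.IsCharacter A lam ∧ lam 1 = 1) (hZ : ∃ a : A, (a : P) ∈ Subgroup.center P ∧ lam a ≠ 1) : Cfsg.IsIrrCharacter P (Cfsg.indFun A lam) ∧ ∀ x : P, x ∉ Subgroup.center P → Cfsg.indFun A lam x = 0 := by
  classical
  obtain ⟨a, haZ, ha1⟩ := hZ
  haveI : Fintype A := Fintype.ofFinite A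
  have hmulA : ∀ u v : A, lam (u * v) = lam u * lam v := CfsgLib.Char.linear_mul hlam.1 hlam.2
  have hcentral : ∀ g : P, Cfsg.indFun A lam (g * (a : P)) = lam a * Cfsg.indFun A lam g := by
    intro g
    simp only [Cfsg.indFun]
    rw [mul_left_comm (lam a)]
    congr 1
    rw [Finset.mul_sum]
    refine Finset.sum_congr rfl fun u _ => ?_
    rw [show u⁻¹ * (g * a) * u = u⁻¹ * g * u * a by
      rw [mul_assoc u⁻¹, mul_assoc g, ← Subgroup.mem_center_iff.mp haZ u, ← mul_assoc g, ← mul_assoc u⁻¹,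
        ← mul_assoc u⁻¹]]
    by_cases hm : u⁻¹ * g * u ∈ A
    · rw [CfsgLib.Char.extendByZero_mem A lam hm, CfsgLib.Char.extendByZero_mem A lam (A.mul_mem hm a.2),
        mul_comm (lam a), ← hmulA]
      rfl
    · rw [CfsgLib.Char.extendByZero_notMem A lam hm, mul_zero, CfsgLib.Char.extendByZero_notMem]
      exact fun h => hm (by simpa using A.mul_mem h (A.inv_mem a.2))
  have hvan : ∀ x : P, x ∉ Subgroup.center P → Cfsg.indFun A lam x = 0 := fun x hx =>
    CfsgLib.Char.Extraspecial.eq_zero_of_fused (CfsgLib.Char.isClassFunction_indFun A lam)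
      (CfsgLib.Char.Extraspecial.isConj_mul_center hP hx haZ) (hcentral x) ha1
  refine ⟨?_, hvan⟩
  have hne1 : (a : P) ≠ 1 := fun e => ha1 (by rw [show a = 1 from Subtype.ext e]; exact hlam.2)
  have hZA : Subgroup.center P ≤ A := by
    intro z hz
    have hz' : z ∈ Subgroup.zpowers (a : P) := by
      have hle : Subgroup.zpowers (a : P) ≤ Subgroup.center P := Subgroup.zpowers_le.mpr haZ
      rw [Subgroup.eq_of_le_of_card_ge hle ?_]
      · exact hz
      · rw [hP.2]
        rcases (Fact.out : p.Prime).eq_one_or_self_of_dvd _ (hP.2 ▸ Subgroup.card_dvd_of_le hle) with h | h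
        · exact absurd (Subgroup.card_eq_one.mp h) (Subgroup.zpowers_ne_bot.mpr hne1)
        · exact h.ge
    exact (Subgroup.zpowers_le.mpr a.2) hz'
  have hidx : A.index = p ^ n := by
    have h := A.card_mul_index
    rw [hA, hcard] at h
    exact Nat.eq_of_mul_eq_mul_left (pow_pos (Fact.out : p.Prime).pos (n + 1)) (h.trans (by ring))
  have hval : ∀ z ∈ Subgroup.center P, ∀ hzA : z ∈ A,
      Cfsg.indFun A lam z = (p : ℂ) ^ n * lam ⟨z, hzA⟩ := by
    intro z hz hzA
    simp only [Cfsg.indFun]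
    rw [Finset.sum_congr rfl fun (u : P) _ => show Cfsg.extendByZero A lam (u⁻¹ * z * u) = lam ⟨z, hzA⟩ by
      rw [show u⁻¹ * z * u = z by rw [mul_assoc, ← Subgroup.mem_center_iff.mp hz u, inv_mul_cancel_left],
        CfsgLib.Char.extendByZero_mem A lam hzA],
      Finset.sum_const, Finset.card_univ, nsmul_eq_mul, ← Nat.card_eq_fintype_card, ← A.card_mul_index,
      hidx, Nat.cast_mul, ← mul_assoc, ← mul_assoc, inv_mul_cancel₀ (Nat.cast_ne_zero.mpr Nat.card_pos.ne'),
      one_mul, Nat.cast_pow]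
  refine CfsgLib.Char.isIrr_of_norm_one (CfsgLib.Char.isCharacter_indFun A hlam.1) ?_
  have hterm : ∀ x : P, Cfsg.indFun A lam x * (starRingEnd ℂ) (Cfsg.indFun A lam x) =
      if x ∈ Subgroup.center P then (p : ℂ) ^ n * (p : ℂ) ^ n else 0 := by
    intro x
    split_ifs with hx
    · rw [hval x hx (hZA hx), map_mul, map_pow, map_natCast]
      have h1 : lam ⟨x, hZA hx⟩ * (starRingEnd ℂ) (lam ⟨x, hZA hx⟩) = 1 := by
        set f := CfsgLib.Char.linearHom hlam.1 hlam.2
        have hf : IsOfFinOrder (f ⟨x, hZA hx⟩) := f.isOfFinOrder (isOfFinOrder_of_finite _)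
        obtain ⟨k, hk0, hk⟩ := isOfFinOrder_iff_pow_eq_one.mp hf
        have hnorm : ‖lam ⟨x, hZA hx⟩‖ = 1 := by
          refine Complex.norm_eq_one_of_pow_eq_one (n := k) ?_ hk0.ne'
          rw [← CfsgLib.Char.linearHom_apply hlam.1 hlam.2, ← Units.val_pow_eq_pow_val, hk, Units.val_one]
        rw [Complex.mul_conj, Complex.normSq_eq_norm_sq, hnorm]
        norm_num
      linear_combination ((p : ℂ) ^ n * (p : ℂ) ^ n) * h1
    · rw [hvan x hx, zero_mul]
  simp only [Cfsg.classInner]
  rw [Finset.sum_congr rfl fun x _ => hterm x, ← Finset.sum_filter, Finset.sum_const, nsmul_eq_mul,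
    ← Fintype.card_subtype, ← Nat.card_eq_fintype_card, inv_mul_eq_div,
    div_eq_one_iff_eq (Nat.cast_ne_zero.mpr Nat.card_pos.ne'), hcard]
  rw [show Nat.card {x : P // x ∈ Subgroup.center P} = p from hP.2]
  push_cast
  ring

end Cfsg.Agent.S0893
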