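import Cfsg.Statements.S0894
import Cfsg.Agent.Lib.Char.Extraspecial

set_option autoImplicit false
open Cfsg

namespace Cfsg.Agent.S0894

open CfsgLib.Char
open scoped CfsgLib.Char

/-- Let P be an extraspecial p-group of order p ^ (2 * n + 1). Then every irreducible character of P has degree 1 or p ^ n, and exactly p - 1 of them have degree p ^ n. -/
theorem result {P : Type*} [Group P] [Finite P] (p n : ℕ) [Fact p.Prime] (hP : Cfsg.IsExtraspecial p P) (hcard : Nat.card P = p ^ (2 * n + 1)) : (∀ χ : Cfsg.IrrCharacter P, (χ : P → ℂ) 1 = 1 ∨ (χ : P → ℂ) 1 = (p : ℂ) ^ n) ∧ Nat.card {χ : Cfsg.IrrCharacter P // (χ : P → ℂ) 1 = (p : ℂ) ^ n} = p - 1 := by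
  classical
  obtain ⟨hN, m, hm0, hcm, hdeg⟩ := CfsgLib.Char.Extraspecial.card_nonlinear hP
  have hm : m = p ^ n := by
    have h : p * (m * m) = p * (p ^ n * p ^ n) := by rw [← hcm, hcard]; ring
    exact Nat.mul_self_inj.mp (Nat.eq_of_mul_eq_mul_left (Fact.out : p.Prime).pos h)
  refine ⟨fun χ => ?_, ?_⟩
  · by_cases h : (χ : P → ℂ) 1 = 1
    · exact Or.inl h
    · exact Or.inr (by rw [(hdeg χ h).1, hm, Nat.cast_pow])
  · rw [← hN]
    refine Nat.card_congr (Equiv.subtypeEquivRight fun χ => ⟨fun h h1 => ?_, fun h => ?_⟩)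
    · obtain ⟨ψ, hψ⟩ : ∃ ψ : Cfsg.IrrCharacter P, (ψ : P → ℂ) 1 ≠ 1 := by
        by_contra hc
        push_neg at hc
        haveI : IsEmpty {χ : Cfsg.IrrCharacter P // (χ : P → ℂ) 1 ≠ 1} := ⟨fun x => x.2 (hc x.1)⟩
        rw [Nat.card_of_isEmpty] at hN
        have := (Fact.out : p.Prime).two_le
        omega
      have h2 : (m : ℂ) = 1 := by rw [hm, Nat.cast_pow, ← h, h1]
      exact (hdeg ψ hψ).2.ne (by exact_mod_cast h2.symm)
    · rw [(hdeg χ h).1, hm, Nat.cast_pow]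

end Cfsg.Agent.S0894
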