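import Cfsg.Statements.S0896
import Cfsg.Agent.Lib.BrauerInd.Main
import Cfsg.Agent.Lib.Char.Clifford
import Cfsg.Agent.Lib.Blocks.GroupRing
import Cfsg.Agent.Lib.Blocks.CentralChar
import Cfsg.Agent.Lib.Blocks.Inflate

set_option autoImplicit false
open scoped ComplexConjugate
open Cfsg

namespace Cfsg.Agent.S0896

open scoped CfsgLib.Char
open CfsgLib

variable {G : Type*} [Group G] [Fintype G] {p : ℕ}

/-- Modulo `p` the inner product of two invariant characters only sees invariant constituents. -/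
theorem dvd_of_no_fixed [hp : Fact p.Prime] (D : Subgroup G) [D.Normal] [Fintype D]
    (hD : ∃ j : ℕ, D.index = p ^ j) {a b : D → ℂ} (ha : IsCharacter D a) (hb : IsCharacter D b)
    (hai : ∀ e, Char.conjBy D a e = a) (hbi : ∀ e, Char.conjBy D b e = b) {n : ℕ}
    (hn : classInner b a = n)
    (hno : ∀ ψ : IrrCharacter D, (∀ e, Char.conjBy D (ψ : D → ℂ) e = ψ) →
      ∀ m : ℕ, classInner a (ψ : D → ℂ) = m → p ∣ m) : p ∣ n := by
  classical
  obtain ⟨ma, hma⟩ := Char.exists_multiplicities ha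
  obtain ⟨mb, hmb⟩ := Char.exists_multiplicities hb
  have hca : ∀ ψ : IrrCharacter D, classInner a (ψ : D → ℂ) = ma ψ := fun ψ => by
    rw [hma, Char.classInner_sum_smul_irr]
  have hcb : ∀ ψ : IrrCharacter D, classInner b (ψ : D → ℂ) = mb ψ := fun ψ => by
    rw [hmb, Char.classInner_sum_smul_irr]
  have hsum : n = ∑ ψ, mb ψ * ma ψ := by
    rw [hma, hmb, Char.classInner_sum_smul_sum_smul] at hn
    simp only [map_natCast] at hn
    exact_mod_cast hn.symm
  letI : MulAction G (IrrCharacter D) :=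
    { smul := fun e ψ => ⟨Char.conjBy D (ψ : D → ℂ) e⁻¹, Char.isIrrCharacter_conjBy D ψ.2 _⟩
      one_smul := fun ψ => Subtype.ext (show Char.conjBy D (ψ : D → ℂ) 1⁻¹ = ψ by
        rw [inv_one, Char.conjBy_one])
      mul_smul := fun e f ψ => Subtype.ext (show Char.conjBy D (ψ : D → ℂ) (e * f)⁻¹ =
        Char.conjBy D (Char.conjBy D (ψ : D → ℂ) f⁻¹) e⁻¹ by rw [mul_inv_rev, Char.conjBy_mul]) }
  let Q : Sylow p G := default
  have hinv : ∀ (q : (Q : Subgroup G)) (ψ : IrrCharacter D),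
      ((mb (q • ψ) * ma (q • ψ) : ℕ) : ZMod p) = ((mb ψ * ma ψ : ℕ) : ZMod p) := by
    intro q ψ
    have h1 : ((q • ψ : IrrCharacter D) : D → ℂ) = Char.conjBy D (ψ : D → ℂ) (q : G)⁻¹ := rfl
    have h2 : (ma (q • ψ) : ℂ) = ma ψ := by
      rw [← hca, ← hca, h1]
      conv_lhs => rw [← hai (q : G)⁻¹]
      exact Char.classInner_conjBy D _ _ _
    have h3 : (mb (q • ψ) : ℂ) = mb ψ := by
      rw [← hcb, ← hcb, h1]
      conv_lhs => rw [← hbi (q : G)⁻¹]
      exact Char.classInner_conjBy D _ _ _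
    rw [Nat.cast_injective h2, Nat.cast_injective h3]
  rw [← ZMod.natCast_eq_zero_iff, hsum, Nat.cast_sum,
    CfsgLib.GrpRing.sum_eq_sum_fixed Q.2 hinv]
  refine Finset.sum_eq_zero fun ψ hψ => ?_
  have hfix : ∀ e, Char.conjBy D (ψ : D → ℂ) e = ψ := by
    have hle : (Q : Subgroup G) ≤ Char.inertia D (ψ : D → ℂ) := fun q hq => by
      have h := congrArg Subtype.val ((Finset.mem_filter.mp hψ).2 (⟨q, hq⟩⁻¹ : (Q : Subgroup G)))
      have h' : Char.conjBy D (ψ : D → ℂ) ((q : G)⁻¹)⁻¹ = ψ := h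
      rwa [inv_inv] at h'
    have hle' : D ≤ Char.inertia D (ψ : D → ℂ) :=
      Char.le_inertia D (CfsgLib.Blocks.irr_classFunction ψ)
    have h1 := Subgroup.index_dvd_of_le hle
    have h2 := Subgroup.index_dvd_of_le hle'
    obtain ⟨j, hj⟩ := hD
    obtain ⟨i, -, hi⟩ := (Nat.dvd_prime_pow hp.out).mp (hj ▸ h2)
    have : i = 0 := by
      by_contra h0
      exact Q.not_dvd_index ((hi ▸ dvd_pow_self p h0).trans h1)
    rw [this, pow_zero, Subgroup.index_eq_one] at hi
    intro e
    exact (Char.mem_inertia D).mp (hi ▸ Subgroup.mem_top e)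
  obtain ⟨r, hr⟩ := hno ψ hfix (ma ψ) (hca ψ)
  rw [hr, ← mul_assoc, mul_comm _ p, mul_assoc, Nat.cast_mul, ZMod.natCast_self, zero_mul]

/-- Let N be a normal subgroup of the finite group G with the index of N a power of the prime p, and ϑ an irreducible character of N invariant under conjugation by G. Then there are a p-elementary subgroup E of G with E ⊔ N = ⊤ and an irreducible character φ of the subgroup E ⊓ N, invariant under conjugation by E, such that the inner product of the restriction of ϑ to E ⊓ N with φ is an integer not divisible by p. -/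
theorem result {G : Type*} [Group G] [Fintype G] (p : ℕ) (hp : p.Prime) (N : Subgroup G) [hN : N.Normal] (hind : ∃ k : ℕ, N.index = p ^ k) (ϑ : N → ℂ) (hϑ : Cfsg.IsIrrCharacter N ϑ) (hinv : ∀ (g : G) (n : N), ϑ ⟨g * n * g⁻¹, hN.conj_mem (n : G) n.2 g⟩ = ϑ n) : ∃ (E : Subgroup G) (φ : ↥(E ⊓ N) → ℂ), Cfsg.IsElementary p E ∧ E ⊔ N = ⊤ ∧ Cfsg.IsIrrCharacter ↥(E ⊓ N) φ ∧ (∀ (g : G) (hg : g ∈ E) (x : ↥(E ⊓ N)), φ ⟨g * x * g⁻¹, ⟨(E.mul_mem (E.mul_mem hg x.2.1) (E.inv_mem hg)), hN.conj_mem (x : G) x.2.2 g⟩⟩ = φ x) ∧ ∃ m : ℕ, ¬ p ∣ m ∧ (Nat.card ↥(E ⊓ N) : ℂ)⁻¹ * ∑ᶠ x : ↥(E ⊓ N), ϑ ⟨(x : G), x.2.2⟩ * conj (φ x) = (m : ℂ) := by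
  classical
  have : Fact p.Prime := ⟨hp⟩
  haveI : Fintype N := Fintype.ofFinite N
  obtain ⟨k, hk⟩ := hind
  let w : N → ℂ := fun n => ϑ n * conj (ϑ n)
  have hw : ∀ (x : G) (n : N), w (MulAut.conjNormal x n) = w n := fun x n => by
    show ϑ _ * conj (ϑ _) = _
    rw [show (MulAut.conjNormal x n : N) = ⟨x * n * x⁻¹, hN.conj_mem (n : G) n.2 x⟩ from
      Subtype.ext rfl, hinv]
  let Λ : (G → ℂ) →+ ℂ :=
    { toFun := fun f => (Nat.card N : ℂ)⁻¹ * ∑ n : N, f n * w n
      map_zero' := by simp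
      map_add' := fun f g => by simp [add_mul, Finset.sum_add_distrib, mul_add] }
  by_contra hcon
  obtain ⟨m, hm, hmem⟩ := CfsgLib.BrauerInd.exists_mem_closure_elemGen (G := G) hp
  have key : ∀ f ∈ AddSubgroup.closure (CfsgLib.BrauerInd.elemGen (G := G) p),
      ∃ z : ℤ, Λ f = (p : ℂ) * z := by
    intro f hf
    induction hf using AddSubgroup.closure_induction with
    | zero => exact ⟨0, by rw [map_zero, Int.cast_zero, mul_zero]⟩
    | add x y _ _ h1 h2 =>
      obtain ⟨z, hz⟩ := h1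
      obtain ⟨z', hz'⟩ := h2
      exact ⟨z + z', by rw [map_add, hz, hz', Int.cast_add, mul_add]⟩
    | neg x _ h1 =>
      obtain ⟨z, hz⟩ := h1
      exact ⟨-z, by rw [map_neg, hz, Int.cast_neg, mul_neg]⟩
    | mem f hf =>
      obtain ⟨E, φ, hE, hφ, rfl⟩ := hf
      haveI : Fintype E := Fintype.ofFinite E
      set D := N.subgroupOf E with hDdef
      haveI : Fintype D := Fintype.ofFinite D
      let ι : D →* N := MonoidHom.mk' (fun d => ⟨((d : E) : G), d.2⟩) fun _ _ => rfl
      have ha : IsCharacter D (ϑ ∘ ι) :=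
        Char.isCharacter_comp ι (Char.isCharacter_of_isIrr hϑ)
      have hb : IsCharacter D ((fun d : D => φ d) * (ϑ ∘ ι)) :=
        Char.isCharacter_mul (Char.isCharacter_restrict D hφ) ha
      obtain ⟨n, hn⟩ := Char.exists_nat_classInner hb ha
      obtain ⟨j, hjk, hj⟩ := (Nat.dvd_prime_pow hp).mp
        (hk ▸ Subgroup.relIndex_dvd_index_of_normal N E : N.relIndex E ∣ p ^ k)
      have hΛ : Λ (Cfsg.indFun E φ) = ((p ^ (k - j) * n : ℕ) : ℂ) := by
        have hstep : ∀ x : G, ∑ n : N, extendByZero E φ (x⁻¹ * (n : G) * x) * w n =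
            ∑ d : D, φ d * w (ι d) := by
          intro x
          rw [← Equiv.sum_comp (MulAut.conjNormal x : MulAut N).toEquiv]
          have h1 : ∀ n : N, extendByZero E φ (x⁻¹ * ((MulAut.conjNormal x n : N) : G) * x) *
              w (MulAut.conjNormal x n) = extendByZero E φ n * w n := fun n => by
            rw [hw, MulAut.conjNormal_apply, show x⁻¹ * (x * (n : G) * x⁻¹) * x = n by group]
          refine (Finset.sum_congr rfl fun n _ => h1 n).trans ?_
          symm
          refine Fintype.sum_of_injective ι (fun a b h => Subtype.ext (Subtype.ext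
            (congrArg Subtype.val h :))) _ _ (fun n hn => ?_) (fun d => ?_)
          · rw [Char.extendByZero_notMem E φ fun hE' => hn ⟨⟨⟨n, hE'⟩, n.2⟩, rfl⟩, zero_mul]
          · show φ d * w (ι d) = extendByZero E φ ((d : E) : G) * w (ι d)
            rw [Char.extendByZero_mem E φ (d : E).2]
        have hcards : (Nat.card G : ℂ) = (p : ℂ) ^ k * Nat.card N := by
          rw [← N.card_mul_index, hk]
          push_cast
          ring
        have hE' : (Nat.card E : ℂ) = (p : ℂ) ^ j * Nat.card D := by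
          rw [← D.card_mul_index, show D.index = p ^ j from hj]
          push_cast
          ring
        show (Nat.card N : ℂ)⁻¹ * ∑ n : N, Cfsg.indFun E φ n * w n = _
        simp only [Cfsg.indFun, mul_assoc, Finset.sum_mul]
        rw [← Finset.mul_sum, Finset.sum_comm]
        simp only [← mul_assoc]
        rw [Finset.sum_congr rfl fun x _ => hstep x, Finset.sum_const, Finset.card_univ,
          ← Nat.card_eq_fintype_card, nsmul_eq_mul, hcards, hE', Nat.cast_mul, ← hn, Nat.cast_pow]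
        simp only [classInner, w, Pi.mul_apply, Function.comp_apply, mul_assoc]
        have : (Nat.card D : ℂ) ≠ 0 := Nat.cast_ne_zero.mpr Nat.card_pos.ne'
        have : (Nat.card N : ℂ) ≠ 0 := Nat.cast_ne_zero.mpr Nat.card_pos.ne'
        have hp0 : (p : ℂ) ≠ 0 := Nat.cast_ne_zero.mpr hp.ne_zero
        rw [show (p : ℂ) ^ k = (p : ℂ) ^ (k - j) * (p : ℂ) ^ j by
          rw [← pow_add, Nat.sub_add_cancel hjk]]
        field_simp
      suffices hd : p ∣ p ^ (k - j) * n by
        obtain ⟨r, hr⟩ := hd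
        exact ⟨(r : ℤ), by rw [hΛ, hr]; push_cast; ring⟩
      rcases Nat.lt_or_ge j k with hlt | hge
      · exact Dvd.dvd.mul_right (dvd_pow_self p (by omega)) n
      · refine Dvd.dvd.mul_left ?_ _
        have hjk' : j = k := le_antisymm hjk hge
        have hEN : E ⊔ N = ⊤ := by
          rw [← Subgroup.index_eq_one]
          have h := Subgroup.relIndex_mul_index (le_sup_right : N ≤ E ⊔ N)
          rw [Subgroup.relIndex_sup_right, hj, hk, hjk'] at h
          exact (Nat.mul_eq_left (pow_pos hp.pos k).ne').mp h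
        refine dvd_of_no_fixed D ⟨j, hj⟩ ha hb (fun e => ?_) (fun e => ?_) hn fun ψ hψ r hr => ?_
        · funext d
          exact hinv (e : G) (ι d)
        · funext d
          show φ _ * ϑ _ = φ _ * ϑ _
          congr 1
          · exact Char.isClassFunction_of_isCharacter hφ (d : E) e
          · exact hinv (e : G) (ι d)
        · by_contra hpr
          haveI : Fintype ↥(E ⊓ N) := Fintype.ofFinite _
          let κ : ↥(E ⊓ N) ≃* D :=
            { toFun := fun x => ⟨⟨(x : G), x.2.1⟩, x.2.2⟩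
              invFun := fun d => ⟨((d : E) : G), (d : E).2, d.2⟩
              left_inv := fun _ => rfl
              right_inv := fun _ => rfl
              map_mul' := fun _ _ => rfl }
          refine hcon ⟨E, (ψ : D → ℂ) ∘ κ, hE, hEN,
            CfsgLib.Blocks.isIrrCharacter_comp_of_surjective ψ.2 κ.toMonoidHom κ.surjective,
            fun g hg x => ?_, r, hpr, ?_⟩
          · have := congrFun (hψ ⟨g, hg⟩) (κ x)
            exact this
          · rw [finsum_eq_sum_of_fintype, ← hr, classInner, Nat.card_congr κ.toEquiv]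
            congr 1
            exact Fintype.sum_equiv κ.toEquiv _ _ fun x => rfl
  obtain ⟨z, hz⟩ := key _ hmem
  have hval : Λ (fun _ => (m : ℂ)) = m := by
    show (Nat.card N : ℂ)⁻¹ * ∑ n : N, (m : ℂ) * w n = m
    have h1 : classInner ϑ ϑ = 1 := Char.classInner_irr_self hϑ
    rw [classInner] at h1
    rw [← Finset.mul_sum]
    calc _ = (m : ℂ) * ((Nat.card N : ℂ)⁻¹ * ∑ n : N, ϑ n * conj (ϑ n)) := by simp only [w]; ring
      _ = m := by rw [h1, mul_one]
  rw [hval] at hz
  exact hm ⟨z, by exact_mod_cast hz⟩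

end Cfsg.Agent.S0896
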