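import Cfsg.Statements.S0897
import Cfsg.Agent.Lib.Char.ExtendElementary
import Cfsg.Agent.Lib.Char.Artin
import Cfsg.Agent.Lib.Char.Counting

set_option autoImplicit false
open Cfsg

namespace Cfsg.Agent.S0897

open CfsgLib.Char
open scoped CfsgLib.Char

/-- Let N be a normal subgroup of the finite group G with the index of N a power of the prime p, and P a Sylow p-subgroup of G such that P ⊓ N lies in the centre of P and every character of degree 1 of P ⊓ N is the restriction of a character of degree 1 of P. Then every irreducible character of N invariant under conjugation by G is the restriction of an irreducible character of G. -/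
theorem result {G : Type*} [Group G] [Fintype G] (p : ℕ) [Fact p.Prime] (N : Subgroup G) [hN : N.Normal] (hind : ∃ k : ℕ, N.index = p ^ k) (P : Sylow p G) (hcent : ∀ x ∈ (P : Subgroup G) ⊓ N, ∀ y ∈ (P : Subgroup G), x * y = y * x) (hlin : ∀ lam : ↥((P : Subgroup G) ⊓ N) → ℂ, Cfsg.IsCharacter ↥((P : Subgroup G) ⊓ N) lam → lam 1 = 1 → ∃ μ : ↥(P : Subgroup G) → ℂ, Cfsg.IsCharacter ↥(P : Subgroup G) μ ∧ μ 1 = 1 ∧ ∀ x : ↥((P : Subgroup G) ⊓ N), μ ⟨(x : G), x.2.1⟩ = lam x) (ϑ : N → ℂ) (hϑ : Cfsg.IsIrrCharacter N ϑ) (hinv : ∀ (g : G) (n : N), ϑ ⟨g * n * g⁻¹, hN.conj_mem (n : G) n.2 g⟩ = ϑ n) : ∃ χ : G → ℂ, Cfsg.IsIrrCharacter G χ ∧ ∀ n : N, χ n = ϑ n := by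
  classical
  haveI : Fintype N := Fintype.ofFinite N
  have hp := (Fact.out : p.Prime)
  have hinv' : ∀ g, conjBy N ϑ g = ϑ := fun g => funext fun n => hinv g n
  obtain ⟨E, hUfin, ψ, m, ⟨xE, hxc, hxcop, j, hj⟩, hsup, hm, hψ⟩ :=
    exists_elementary_supplement N hp hind hϑ hinv'
  refine extends_core N hϑ hinv' fun d ρ hρ hρθ hs => one_mem_of_forall_prime N ρ fun q hq => ?_
  obtain ⟨k, hk⟩ := hind
  by_cases hqp : q = p
  swap
  · exact ⟨_, index_mem_extExp N ρ hs N le_rfl ρ (fun _ => rfl), fun h => hqp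
      ((Nat.prime_dvd_prime_iff_eq hq hp).mp (hq.dvd_of_dvd_pow (hk ▸ Int.natCast_dvd_natCast.mp h)))⟩
  subst hqp
  -- the generator of the cyclic part lies in `N`
  have hxN : (xE : G) ∈ N := by
    rw [← QuotientGroup.eq_one_iff, ← orderOf_eq_one_iff]
    refine Nat.eq_one_of_dvd_coprimes (hxcop.pow_right k) ?_ ?_
    · rw [← Subgroup.orderOf_coe]
      exact orderOf_map_dvd (QuotientGroup.mk' N) (xE : G)
    · rw [← hk, Subgroup.index_eq_card]
      exact orderOf_dvd_natCard _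
  -- a Sylow subgroup of `E` in `P`
  obtain ⟨S⟩ : Nonempty (Sylow q E) := inferInstance
  obtain ⟨S', hS'⟩ := (S.isPGroup'.map E.subtype).exists_le_sylow
  obtain ⟨g, hg⟩ := MulAction.exists_smul_eq G S' P
  have hgS : ∀ s : (S : Subgroup E), g * ((s : E) : G) * g⁻¹ ∈ (P : Subgroup G) := by
    intro s
    rw [← hg, Sylow.coe_subgroup_smul, Subgroup.mem_pointwise_smul_iff_inv_smul_mem]
    rw [MulAut.inv_def, MulAut.smul_def, MulAut.conj_symm_apply]
    show g⁻¹ * (g * ((s : E) : G) * g⁻¹) * g ∈ (S' : Subgroup G)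
    rw [show g⁻¹ * (g * ((s : E) : G) * g⁻¹) * g = ((s : E) : G) by group]
    exact hS' ⟨(s : E), s.2, rfl⟩
  -- `E` is the product of `⟨x⟩` and the Sylow subgroup
  have hZn : (Subgroup.zpowers xE).Normal := ⟨fun a ha b => by
    rw [Subgroup.mem_center_iff.mp (Subgroup.zpowers_le.mpr hxc ha) b, mul_inv_cancel_right]
    exact ha⟩
  have hprod : ∀ e : E, ∃ z ∈ Subgroup.zpowers xE, ∃ s ∈ (S : Subgroup E), e = z * s := by
    intro e
    have hsupE : Subgroup.zpowers xE ⊔ (S : Subgroup E) = ⊤ := by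
      rw [← Subgroup.index_eq_one]
      refine Nat.eq_one_of_dvd_coprimes ?_ (Subgroup.index_dvd_of_le le_sup_left)
        (Subgroup.index_dvd_of_le le_sup_right)
      rw [hj]
      exact (hp.coprime_iff_not_dvd.mpr S.not_dvd_index).pow_left j
    obtain ⟨z, hz, s, hs', e'⟩ := Subgroup.mem_sup_of_normal_left.mp (hsupE ▸ Subgroup.mem_top e)
    exact ⟨z, hz, s, hs', e'.symm⟩
  have hcentE : ∀ a : E, (a : G) ∈ N → a ∈ Subgroup.center E := by
    intro a ha
    obtain ⟨z, hz, s, hs', rfl⟩ := hprod a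
    refine Subgroup.mul_mem _ (Subgroup.zpowers_le.mpr hxc hz) ?_
    have hzN : (z : G) ∈ N := by
      obtain ⟨i, rfl⟩ := Subgroup.mem_zpowers_iff.mp hz
      rw [SubgroupClass.coe_zpow]
      exact N.zpow_mem hxN i
    have hsN : (s : G) ∈ N := by
      have := N.mul_mem (N.inv_mem hzN) ha
      rwa [Subgroup.coe_mul, inv_mul_cancel_left] at this
    rw [Subgroup.mem_center_iff]
    intro b
    obtain ⟨z', hz', s', hs'', rfl⟩ := hprod b
    have h1 := hcent _ (Subgroup.mem_inf.mpr ⟨hgS ⟨s, hs'⟩, hN.conj_mem _ hsN g⟩) _ (hgS ⟨s', hs''⟩)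
    have h2 : s' * s = s * s' := by
      refine Subtype.ext ?_
      simp only [Subgroup.coe_mul]
      have h3 : g * ((s : G) * (s' : G)) * g⁻¹ = g * ((s' : G) * (s : G)) * g⁻¹ := by
        calc g * ((s : G) * (s' : G)) * g⁻¹ = g * (s : G) * g⁻¹ * (g * (s' : G) * g⁻¹) := by group
          _ = g * (s' : G) * g⁻¹ * (g * (s : G) * g⁻¹) := h1
          _ = _ := by group
      exact (mul_left_cancel (mul_right_cancel h3)).symm
    have h4 := Subgroup.mem_center_iff.mp (Subgroup.zpowers_le.mpr hxc hz') s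
    calc z' * s' * s = z' * (s * s') := by rw [mul_assoc, h2]
      _ = z' * s * s' := (mul_assoc _ _ _).symm
      _ = s * z' * s' := by rw [h4]
      _ = s * (z' * s') := mul_assoc _ _ _
  -- the linear constituent extends to `E`
  have hUcomm : ∀ a b : (E.subgroupOf N), a * b = b * a := fun a b => by
    have h := Subgroup.mem_center_iff.mp (hcentE ⟨((b : N) : G), b.2⟩ (b : N).2) ⟨((a : N) : G), a.2⟩
    exact Subtype.ext (Subtype.ext (congrArg Subtype.val h :))
  have hψ1 : (ψ : (E.subgroupOf N) → ℂ) 1 = 1 := degree_one_of_comm hUcomm ψ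
  set lam := linearHom (isCharacter_of_isIrr ψ.2) hψ1 with hlam
  -- extension from the part in the Sylow subgroup
  set D := (P : Subgroup G) ⊓ N with hD
  letI : CommGroup D :=
    { (inferInstance : Group D) with
      mul_comm := fun a b => Subtype.ext (hcent _ a.2 _ (Subgroup.mem_inf.mp b.2).1) }
  let SN : Subgroup (S : Subgroup E) := N.comap (E.subtype.comp (S : Subgroup E).subtype)
  let toU : SN →* (E.subgroupOf N) :=
    { toFun := fun s => ⟨⟨(((s : (S : Subgroup E)) : E) : G), s.2⟩, ((s : (S : Subgroup E)) : E).2⟩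
      map_one' := rfl
      map_mul' := fun _ _ => rfl }
  let jD : SN →* D :=
    { toFun := fun s => ⟨g * (((s : (S : Subgroup E)) : E) : G) * g⁻¹,
        Subgroup.mem_inf.mpr ⟨hgS s.1, hN.conj_mem _ s.2 g⟩⟩
      map_one' := Subtype.ext (by simp)
      map_mul' := fun _ _ => Subtype.ext (by simp [mul_assoc]) }
  have hjinj : Function.Injective jD := fun a b h =>
    Subtype.ext (Subtype.ext (Subtype.ext (mul_left_cancel (mul_right_cancel (congrArg Subtype.val h)))))
  obtain ⟨β, hβ⟩ := MonoidHom.domRestrict_surjective (M := ℂ) jD.range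
    ((lam.comp toU).comp (MonoidHom.ofInjective hjinj).symm.toMonoidHom)
  have hβ' : ∀ s : SN, β (jD s) = lam (toU s) := by
    intro s
    have h := DFunLike.congr_fun hβ (MonoidHom.ofInjective hjinj s)
    rw [MonoidHom.comp_apply, MulEquiv.coe_toMonoidHom, MulEquiv.symm_apply_apply] at h
    exact h
  obtain ⟨μ, hμc, hμ1, hμ⟩ := hlin (fun x => ((β x : ℂˣ) : ℂ)) (isCharacter_monoidHom β) (by simp)
  set μh := linearHom hμc hμ1 with hμh
  let μS : (S : Subgroup E) →* ℂˣ := μh.comp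
    { toFun := fun s => ⟨g * ((s : E) : G) * g⁻¹, hgS s⟩
      map_one' := Subtype.ext (by simp)
      map_mul' := fun _ _ => Subtype.ext (by simp [mul_assoc]) }
  let Zx : Subgroup E := Subgroup.zpowers xE
  let toUZ : Zx →* (E.subgroupOf N) :=
    { toFun := fun z => ⟨⟨((z : E) : G), by
        obtain ⟨i, hi⟩ := Subgroup.mem_zpowers_iff.mp z.2
        rw [← hi, SubgroupClass.coe_zpow]
        exact N.zpow_mem hxN i⟩, (z : E).2⟩
      map_one' := rfl
      map_mul' := fun _ _ => rfl }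
  let Φ : Zx × (S : Subgroup E) →* E := MonoidHom.noncommCoprod Zx.subtype (S : Subgroup E).subtype
    (fun z s => (Subgroup.mem_center_iff.mp (Subgroup.zpowers_le.mpr hxc z.2) (s : E)).symm)
  have hΦ : Function.Bijective Φ := by
    refine ⟨?_, fun e => ?_⟩
    · rw [injective_iff_map_eq_one]
      rintro ⟨z, s⟩ (h : (z : E) * (s : E) = 1)
      have hz : (z : E) = (s : E)⁻¹ := eq_inv_of_mul_eq_one_left h
      have h1 : orderOf (z : E) ∣ orderOf xE := by
        rw [← Nat.card_zpowers (a := xE)]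
        exact Subgroup.orderOf_dvd_natCard _ z.2
      obtain ⟨i, hi⟩ := S.isPGroup'.exists_card_eq
      have h2 : orderOf (z : E) ∣ q ^ i := by
        rw [hz, orderOf_inv, ← hi]
        exact Subgroup.orderOf_dvd_natCard _ s.2
      have hz1 : (z : E) = 1 := orderOf_eq_one_iff.mp (Nat.eq_one_of_dvd_coprimes (hxcop.pow_right i) h1 h2)
      rw [hz1, one_mul] at h
      exact Prod.ext (Subtype.ext hz1) (Subtype.ext h)
    · obtain ⟨z, hz, s, hs', rfl⟩ := hprod e
      exact ⟨(⟨z, hz⟩, ⟨s, hs'⟩), rfl⟩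
  let α : E →* ℂˣ := (MonoidHom.coprod (lam.comp toUZ) μS).comp (MulEquiv.ofBijective Φ hΦ).symm.toMonoidHom
  have hα : ∀ u : (E.subgroupOf N), α ⟨((u : N) : G), u.2⟩ = lam u := by
    intro u
    obtain ⟨⟨z, s⟩, hzs⟩ := hΦ.2 ⟨((u : N) : G), u.2⟩
    show (MonoidHom.coprod (lam.comp toUZ) μS) ((MulEquiv.ofBijective Φ hΦ).symm ⟨((u : N) : G), u.2⟩) = _
    rw [← hzs]
    rw [show (MulEquiv.ofBijective Φ hΦ).symm (Φ (z, s)) = (z, s) from
      (MulEquiv.ofBijective Φ hΦ).symm_apply_apply (z, s)]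
    have hG : ((z : E) : G) * ((s : E) : G) = ((u : N) : G) := congrArg Subtype.val hzs
    have hzN : ((z : E) : G) ∈ N := (toUZ z).1.2
    have hsN : ((s : E) : G) ∈ N := by
      rw [show ((s : E) : G) = ((z : E) : G)⁻¹ * ((u : N) : G) by rw [← hG, inv_mul_cancel_left]]
      exact N.mul_mem (N.inv_mem hzN) (u : N).2
    have hu : u = toUZ z * toU ⟨s, hsN⟩ := Subtype.ext (Subtype.ext hG.symm)
    rw [MonoidHom.coprod_apply, hu, map_mul, MonoidHom.comp_apply]
    congr 1
    rw [← hβ']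
    refine Units.ext ?_
    show ((μh _ : ℂˣ) : ℂ) = _
    rw [linearHom_apply]
    exact hμ (jD ⟨s, hsN⟩)
  refine ⟨(m : ℤ), multiplicity_mem_extExp N ρ hs E hsup
    (fun n e hn => congrArg Subtype.val (Subgroup.mem_center_iff.mp (hcentE ⟨(n : G), hn⟩ n.2) e)) α m ?_,
    fun h => hm (Int.natCast_dvd_natCast.mp h)⟩
  rw [← hψ, hρθ]
  convert rfl using 2
  funext u
  rw [hα u, hlam, linearHom_apply]

end Cfsg.Agent.S0897
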