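import Cfsg.Statements.S0900
import Cfsg.Agent.Lib.Char.FrobeniusGroup

set_option autoImplicit false
open Cfsg

namespace Cfsg.Agent.S0900

open CfsgLib.Char
open scoped CfsgLib.Char

/-- Let N be a normal subgroup of the finite group G, χ an irreducible character of G and ϑ an irreducible character of N having nonzero inner product with the restriction of χ. Consider: (a) the restriction of χ to N is e • ϑ for a natural number e with e ^ 2 equal to the index of N; (b) χ vanishes outside N and ϑ is invariant under conjugation by G; (c) ϑ is invariant and every irreducible character of G having nonzero inner product with the function induced from ϑ equals χ. Then (a) ↔ (b) and (a) ↔ (c). -/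
theorem result {G : Type*} [Group G] [Fintype G] (N : Subgroup G) [hN : N.Normal] [Fintype N] (χ : G → ℂ) (hχ : Cfsg.IsIrrCharacter G χ) (ϑ : N → ℂ) (hϑ : Cfsg.IsIrrCharacter N ϑ) (hcon : Cfsg.classInner (fun n : N => χ n) ϑ ≠ 0) : ((∃ e : ℕ, (fun n : N => χ n) = (e : ℂ) • ϑ ∧ e ^ 2 = N.index) ↔ ((∀ g : G, g ∉ N → χ g = 0) ∧ ∀ (g : G) (n : N), ϑ ⟨g * n * g⁻¹, hN.conj_mem (n : G) n.2 g⟩ = ϑ n)) ∧ ((∃ e : ℕ, (fun n : N => χ n) = (e : ℂ) • ϑ ∧ e ^ 2 = N.index) ↔ (∀ (g : G) (n : N), ϑ ⟨g * n * g⁻¹, hN.conj_mem (n : G) n.2 g⟩ = ϑ n ∧ ∀ ψ : G → ℂ, Cfsg.IsIrrCharacter G ψ → Cfsg.classInner (Cfsg.indFun N ϑ) ψ ≠ 0 → ψ = χ)) := by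
  classical
  haveI := hN
  have hχc := isCharacter_of_isIrr hχ
  have hϑc := isCharacter_of_isIrr hϑ
  have hcl := isClassFunction_of_isCharacter hχc
  set res := fun n : N => χ n with hres
  obtain ⟨e₀, he₀⟩ := exists_nat_classInner (isCharacter_restrict N hχc) hϑc
  have hNc : (Nat.card N : ℂ) ≠ 0 := Nat.cast_ne_zero.mpr Nat.card_pos.ne'
  have hGc : (Nat.card G : ℂ) = (Nat.card N : ℂ) * (N.index : ℂ) := by
    rw [← Nat.cast_mul, N.card_mul_index]
  -- norm of the restriction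
  have hnorm : (Nat.card N : ℂ) * Cfsg.classInner res res + ∑ g ∈ Finset.univ.filter (fun g : G => g ∉ N), χ g * (starRingEnd ℂ) (χ g) = (Nat.card G : ℂ) := by
    have h1 := classInner_irr_self hχ
    unfold Cfsg.classInner at h1 ⊢
    rw [← mul_assoc, mul_inv_cancel₀ hNc, one_mul]
    rw [inv_mul_eq_one₀ (Nat.cast_ne_zero.mpr Nat.card_pos.ne')] at h1
    rw [h1, ← Finset.sum_filter_add_sum_filter_not Finset.univ (fun g : G => g ∈ N)]
    congr 1
    exact (Finset.sum_subtype (Finset.univ.filter fun g : G => g ∈ N) (by simp)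
      (fun g : G => χ g * (starRingEnd ℂ) (χ g))).symm
  have hoff : (∀ g : G, g ∉ N → χ g = 0) ↔ Cfsg.classInner res res = (N.index : ℂ) := by
    constructor
    · intro h
      rw [Finset.sum_eq_zero fun g hg => by rw [h g (Finset.mem_filter.mp hg).2, zero_mul], add_zero,
        hGc] at hnorm
      exact mul_left_cancel₀ hNc hnorm
    · intro h g hg
      rw [h, ← hGc, add_eq_left] at hnorm
      have h2 : ∑ g ∈ Finset.univ.filter (fun g : G => g ∉ N), Complex.normSq (χ g) = 0 := by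
        have : ((∑ g ∈ Finset.univ.filter (fun g : G => g ∉ N), Complex.normSq (χ g) : ℝ) : ℂ) = 0 := by
          rw [← hnorm]; push_cast; simp only [Complex.mul_conj]
        exact_mod_cast this
      exact Complex.normSq_eq_zero.mp ((Finset.sum_eq_zero_iff_of_nonneg fun _ _ =>
        Complex.normSq_nonneg _).mp h2 g (Finset.mem_filter.mpr ⟨Finset.mem_univ _, hg⟩))
  have hinvres : ∀ e : ℕ, res = (e : ℂ) • ϑ → e ≠ 0 → ∀ g : G, conjBy N ϑ g = ϑ := by
    intro e he h0 g
    funext n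
    have h1 := congrFun (conjBy_restrict N hcl g) n
    rw [conjBy_apply] at h1 ⊢
    rw [show χ _ = res _ from rfl, show χ _ = res n from rfl, he] at h1
    exact mul_left_cancel₀ (Nat.cast_ne_zero.mpr h0) h1
  have heq : ∀ e : ℕ, res = (e : ℂ) • ϑ → (e : ℂ) = e₀ := fun e he => by
    rw [← he₀]; change (e : ℂ) = Cfsg.classInner res ϑ
    rw [he, classInner_smul_left, classInner_irr_self hϑ, mul_one]
  have he0 : e₀ ≠ 0 := fun h => hcon (by rw [he₀, h, Nat.cast_zero])
  have hcliff : (∀ g : G, conjBy N ϑ g = ϑ) → res = (e₀ : ℂ) • ϑ := by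
    intro hi
    have h := clifford N hχ hϑ hcon
    rw [he₀] at h
    have ho : orbit N ϑ = {ϑ} := by
      ext φ; rw [mem_orbit, Finset.mem_singleton]
      exact ⟨fun ⟨g, hg⟩ => hg ▸ hi g, fun h => ⟨1, h ▸ conjBy_one N ϑ⟩⟩
    rwa [ho, Finset.sum_singleton] at h
  have hsq : ∀ e : ℕ, res = (e : ℂ) • ϑ → (e ^ 2 = N.index ↔ Cfsg.classInner res res = (N.index : ℂ)) := by
    intro e he
    rw [he, classInner_smul_left, classInner_smul_right, classInner_irr_self hϑ, mul_one,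
      map_natCast, ← sq, ← Nat.cast_pow, Nat.cast_inj]
  have hAB : (∃ e : ℕ, res = (e : ℂ) • ϑ ∧ e ^ 2 = N.index) ↔
      ((∀ g : G, g ∉ N → χ g = 0) ∧ ∀ g : G, conjBy N ϑ g = ϑ) := by
    constructor
    · rintro ⟨e, he, he2⟩
      refine ⟨hoff.mpr ((hsq e he).mp he2), hinvres e he fun h => he0 ?_⟩
      have := heq e he
      rw [h, Nat.cast_zero] at this
      exact_mod_cast this.symm
    · rintro ⟨hv, hi⟩
      exact ⟨e₀, hcliff hi, (hsq e₀ (hcliff hi)).mpr (hoff.mp hv)⟩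
  -- the induced character
  set ind := Cfsg.indFun N ϑ with hind
  have hindc := isCharacter_indFun N hϑc
  obtain ⟨a, ha⟩ := exists_multiplicities hindc
  have haχ : (a ⟨χ, hχ⟩ : ℂ) = e₀ := by
    rw [← classInner_sum_smul_irr (fun ξ => (a ξ : ℂ)) ⟨χ, hχ⟩, ← ha]
    show Cfsg.classInner ind χ = _
    rw [hind, frobenius_reciprocity N ϑ hcl, ← classInner_conj_symm, he₀, map_natCast]
  have hsum : (∀ g : G, conjBy N ϑ g = ϑ) → ∑ ξ : Cfsg.IrrCharacter G, a ξ ^ 2 = N.index := by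
    intro hi
    have h0 := classInner_indFun_indFun N hϑ hϑ
    rw [if_pos (self_mem_orbit N ϑ)] at h0
    have hI : inertia N ϑ = ⊤ := eq_top_iff.mpr fun g _ => (mem_inertia N).mpr (hi g)
    rw [hI, Subgroup.card_top, hGc, mul_div_cancel_left₀ _ hNc, ha,
      classInner_sum_smul_sum_smul] at h0
    simp only [map_natCast, ← sq] at h0
    exact_mod_cast h0
  have hco : ∀ ξ : Cfsg.IrrCharacter G, Cfsg.classInner ind (ξ : G → ℂ) = a ξ := fun ξ => by
    rw [hind, ha, classInner_sum_smul_irr]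
  have hAC : (∃ e : ℕ, res = (e : ℂ) • ϑ ∧ e ^ 2 = N.index) ↔
      ((∀ g : G, conjBy N ϑ g = ϑ) ∧ ∀ ψ : G → ℂ, Cfsg.IsIrrCharacter G ψ →
        Cfsg.classInner ind ψ ≠ 0 → ψ = χ) := by
    constructor
    · intro hA
      obtain ⟨e, he, he2⟩ := hA
      have hi := (hAB.mp ⟨e, he, he2⟩).2
      refine ⟨hi, fun ψ hψ hne => ?_⟩
      by_contra hne'
      have hs := hsum hi
      rw [← Finset.add_sum_erase _ _ (Finset.mem_univ (⟨χ, hχ⟩ : Cfsg.IrrCharacter G))] at hs
      have ee : a ⟨χ, hχ⟩ = e := by exact_mod_cast haχ.trans (heq e he).symm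
      rw [ee, he2, add_eq_left] at hs
      have := Finset.sum_eq_zero_iff.mp hs ⟨ψ, hψ⟩
        (Finset.mem_erase.mpr ⟨fun h => hne' (congrArg Subtype.val h), Finset.mem_univ _⟩)
      apply hne
      rw [hco ⟨ψ, hψ⟩, pow_eq_zero_iff two_ne_zero |>.mp this, Nat.cast_zero]
    · rintro ⟨hi, hu⟩
      refine ⟨e₀, hcliff hi, ?_⟩
      rw [← hsum hi, Finset.sum_eq_single (⟨χ, hχ⟩ : Cfsg.IrrCharacter G)]
      · congr 1; exact_mod_cast haχ.symm
      · intro ξ _ hne
        rw [pow_eq_zero_iff two_ne_zero]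
        by_contra h0
        exact hne (Subtype.ext (hu _ ξ.2 (by rw [hco]; exact_mod_cast h0)))
      · intro h; exact absurd (Finset.mem_univ _) h
  refine ⟨?_, ?_⟩
  · rw [hAB]; simp only [funext_iff, conjBy_apply]
  · rw [hAC]; simp only [funext_iff, conjBy_apply]
    exact ⟨fun h g n => ⟨h.1 g n, h.2⟩, fun h => ⟨fun g n => (h g n).1, (h 1 1).2⟩⟩

end Cfsg.Agent.S0900
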