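import Cfsg.Statements.S0901
import Cfsg.Agent.Lib.Blocks.LocalRing

set_option autoImplicit false
open Cfsg

namespace Cfsg.Agent.S0901

open CfsgLib CfsgLib.Blocks
open Polynomial

/-- Let M be a maximal ideal of the ring of algebraic integers containing the prime p, and let U be the set of complex roots of unity of order prime to p. Then reduction modulo M is injective on U, and every algebraic integer not in M is congruent modulo M to an element of U (so U maps bijectively onto the nonzero residues). -/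
theorem result (p : ℕ) [Fact p.Prime] (M : Ideal Cfsg.AlgInt) (hM : Cfsg.IsPModular p M) : (∀ ε₁ ε₂ : Cfsg.AlgInt, (∃ m : ℕ, ¬ p ∣ m ∧ (ε₁ : ℂ) ^ m = 1) → (∃ m : ℕ, ¬ p ∣ m ∧ (ε₂ : ℂ) ^ m = 1) → ε₁ - ε₂ ∈ M → ε₁ = ε₂) ∧ (∀ a : Cfsg.AlgInt, a ∉ M → ∃ ε : Cfsg.AlgInt, (∃ m : ℕ, ¬ p ∣ m ∧ (ε : ℂ) ^ m = 1) ∧ a - ε ∈ M) := by
  classical
  have := isPrime_of_isPModular hM
  have hp := hM.1
  have hnat : ∀ n : ℕ, (n : AlgInt) ∈ M ↔ p ∣ n := fun n => natCast_mem_iff hM
  refine ⟨fun ε₁ ε₂ h₁ h₂ hsub => ?_, fun a ha => ?_⟩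
  · obtain ⟨m₁, hm₁, he₁⟩ := h₁
    obtain ⟨m₂, hm₂, he₂⟩ := h₂
    have hm : ¬ p ∣ m₁ * m₂ := hp.not_dvd_mul hm₁ hm₂
    have e₁ : ε₁ ^ (m₁ * m₂) = 1 := Subtype.ext (by simp [pow_mul, he₁])
    have e₂ : ε₂ ^ (m₁ * m₂) = 1 := Subtype.ext (by simp [mul_comm m₁, pow_mul, he₂])
    set m := m₁ * m₂
    have hm0 : 0 < m := Nat.pos_of_ne_zero fun h => hm (h ▸ dvd_zero p)
    set η := ε₁ * ε₂ ^ (m - 1) with hη
    have hη1 : η ^ m = 1 := by rw [hη, mul_pow, e₁, ← pow_mul, mul_comm (m - 1) m, pow_mul, e₂, one_pow, mul_one]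
    have hε₂ : ε₂ * ε₂ ^ (m - 1) = 1 := by rw [← pow_succ', show m - 1 + 1 = m by omega, e₂]
    have hηM : η - 1 ∈ M := by
      rw [← hε₂, hη, ← sub_mul]
      exact M.mul_mem_right _ hsub
    by_contra hne
    have hη_ne : η - 1 ≠ 0 := by
      intro h
      rw [sub_eq_zero] at h
      apply hne
      calc ε₁ = ε₁ * (ε₂ * ε₂ ^ (m - 1)) := by rw [hε₂, mul_one]
        _ = η * ε₂ := by rw [hη]; ring
        _ = ε₂ := by rw [h, one_mul]
    have hgeo : ∑ i ∈ Finset.range m, η ^ i = 0 := by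
      have h := geom_sum_mul η m
      rw [hη1, sub_self] at h
      exact (mul_eq_zero.mp h).resolve_right hη_ne
    refine hm ((hnat m).mp ?_)
    have h1 : ∀ i, η ^ i - 1 ∈ M := fun i => Ideal.mem_of_dvd M (sub_one_dvd_pow_sub_one η i) hηM
    have h2 : ∑ i ∈ Finset.range m, (η ^ i - 1) ∈ M := M.sum_mem fun i _ => h1 i
    rw [Finset.sum_sub_distrib, hgeo, Finset.sum_const, Finset.card_range, nsmul_eq_mul, mul_one,
      zero_sub] at h2
    exact M.neg_mem_iff.mp h2
  · haveI := hM.2.1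
    letI : Field (AlgInt ⧸ M) := Ideal.Quotient.field M
    haveI : CharP (AlgInt ⧸ M) p := by
      have h0 : (p : AlgInt ⧸ M) = 0 := by
        rw [← map_natCast (Ideal.Quotient.mk M), Ideal.Quotient.eq_zero_iff_mem]
        exact hM.2.2
      exact (CharP.charP_iff_prime_eq_zero hp).mpr h0
    letI : Algebra (ZMod p) (AlgInt ⧸ M) := ZMod.algebra _ p
    set π := Ideal.Quotient.mk M
    have hint : IsIntegral (ZMod p) (π a) := by
      obtain ⟨q, hq, hqa⟩ : IsIntegral ℤ a := Algebra.IsIntegral.isIntegral a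
      refine ⟨q.map (Int.castRingHom (ZMod p)), hq.map _, ?_⟩
      rw [eval₂_map, RingHom.eq_intCast' ((algebraMap (ZMod p) (AlgInt ⧸ M)).comp (Int.castRingHom (ZMod p))),
        ← RingHom.eq_intCast' (π.comp (algebraMap ℤ AlgInt)), ← hom_eval₂, hqa, map_zero]
    let K := IntermediateField.adjoin (ZMod p) {π a}
    haveI : FiniteDimensional (ZMod p) K := IntermediateField.adjoin.finiteDimensional hint
    haveI : Finite K := Module.finite_of_finite (ZMod p)
    letI : Fintype K := Fintype.ofFinite K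
    haveI : CharP K p := (RingHom.charP_iff (algebraMap (ZMod p) K) (RingHom.injective _) p).mp inferInstance
    set m := Fintype.card K - 1 with hm
    have hcard : 1 < Fintype.card K := Fintype.one_lt_card
    have hmp : ¬ p ∣ m := by
      obtain ⟨f, -, hf⟩ := FiniteField.card K p
      intro h
      have h2 : p ∣ m + 1 := by
        rw [hm, show Fintype.card K - 1 + 1 = Fintype.card K by omega, hf]
        exact dvd_pow_self p f.ne_zero
      exact hp.not_dvd_one ((Nat.dvd_add_right h).mp h2)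
    have hx : (⟨π a, IntermediateField.mem_adjoin_simple_self _ _⟩ : K) ≠ 0 := fun h =>
      ha (Ideal.Quotient.eq_zero_iff_mem.mp (congrArg Subtype.val h))
    have hpow : π a ^ m = 1 := congrArg Subtype.val (FiniteField.pow_card_sub_one_eq_one _ hx)
    have hm0 : 0 < m := by omega
    have hζC := Complex.isPrimitiveRoot_exp m hm0.ne'
    let ζ : AlgInt := ⟨_, IsIntegral.of_pow hm0 (hζC.pow_eq_one ▸ isIntegral_one)⟩
    have hζ : IsPrimitiveRoot ζ m :=
      IsPrimitiveRoot.of_map_of_injective (f := AlgInt.val) hζC Subtype.val_injective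
    have hfac := hζ.pow_sub_pow_eq_prod_sub_mul a 1 hm0
    have hmem : a ^ m - 1 ^ m ∈ M := by
      rw [one_pow]
      exact Ideal.Quotient.eq_zero_iff_mem.mp (by rw [map_sub, map_pow, map_one, hpow, sub_self])
    rw [hfac] at hmem
    obtain ⟨μ, hμ, hμM⟩ := (Ideal.IsPrime.prod_mem_iff).mp hmem
    rw [mul_one] at hμM
    refine ⟨μ, ⟨m, hmp, ?_⟩, hμM⟩
    have h := (mem_nthRootsFinset hm0 (1 : AlgInt)).mp hμ
    rw [← SubmonoidClass.coe_pow, h]
    rfl
end Cfsg.Agent.S0901
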