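import Cfsg.Statements.S0903


set_option autoImplicit false
open Cfsg

namespace Cfsg.Agent.S0903

/-- Let P be a p-subgroup of the finite group G, let c centralize P and let g, h ∈ G. The number of pairs (x, y) with x conjugate to g, y conjugate to h and x * y = c is congruent modulo p to the number of such pairs in which x and y both centralize P. (This is why the Brauer map on class sums is multiplicative.) -/
theorem result {G : Type*} [Group G] [Finite G] (p : ℕ) [Fact p.Prime] (P : Subgroup G) (hP : IsPGroup p P) (c : G) (hc : c ∈ Subgroup.centralizer (P : Set G)) (g h : G) : Nat.card {xy : G × G // IsConj g xy.1 ∧ IsConj h xy.2 ∧ xy.1 * xy.2 = c} ≡ Nat.card {xy : G × G // IsConj g xy.1 ∧ IsConj h xy.2 ∧ xy.1 * xy.2 = c ∧ xy.1 ∈ Subgroup.centralizer (P : Set G) ∧ xy.2 ∈ Subgroup.centralizer (P : Set G)} [MOD p] := by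
  classical
  let S := {xy : G × G // IsConj g xy.1 ∧ IsConj h xy.2 ∧ xy.1 * xy.2 = c}
  letI : MulAction P S :=
    { smul := fun q xy => ⟨((q : G) * xy.1.1 * (q : G)⁻¹, (q : G) * xy.1.2 * (q : G)⁻¹),
        xy.2.1.trans (isConj_iff.mpr ⟨q, rfl⟩), xy.2.2.1.trans (isConj_iff.mpr ⟨q, rfl⟩), by
          have hq : (q : G) * c = c * (q : G) := Subgroup.mem_centralizer_iff.mp hc q q.2
          show (q : G) * xy.1.1 * (q : G)⁻¹ * ((q : G) * xy.1.2 * (q : G)⁻¹) = c
          rw [show (q : G) * xy.1.1 * (q : G)⁻¹ * ((q : G) * xy.1.2 * (q : G)⁻¹)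
              = (q : G) * (xy.1.1 * xy.1.2) * (q : G)⁻¹ by group, xy.2.2.2, hq, mul_inv_cancel_right]⟩
      one_smul := fun xy => Subtype.ext (Prod.ext (by show ((1 : P) : G) * _ * _ = _; simp)
        (by show ((1 : P) : G) * _ * _ = _; simp))
      mul_smul := fun a b xy => Subtype.ext (Prod.ext
        (by show ((a * b : P) : G) * _ * _ = (a : G) * ((b : G) * _ * _) * _; simp [mul_assoc])
        (by show ((a * b : P) : G) * _ * _ = (a : G) * ((b : G) * _ * _) * _; simp [mul_assoc])) }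
  refine (hP.card_modEq_card_fixedPoints S).trans ?_
  rw [Nat.card_congr (α := MulAction.fixedPoints P S) ?e]
  case e => exact
    { toFun := fun xy => ⟨xy.1.1, xy.1.2.1, xy.1.2.2.1, xy.1.2.2.2,
        Subgroup.mem_centralizer_iff.mpr fun q hq => mul_inv_eq_iff_eq_mul.mp
          (congrArg (fun s : S => s.1.1) (xy.2 ⟨q, hq⟩)),
        Subgroup.mem_centralizer_iff.mpr fun q hq => mul_inv_eq_iff_eq_mul.mp
          (congrArg (fun s : S => s.1.2) (xy.2 ⟨q, hq⟩))⟩
      invFun := fun xy => ⟨⟨xy.1, xy.2.1, xy.2.2.1, xy.2.2.2.1⟩, fun q => Subtype.ext (Prod.ext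
        (mul_inv_eq_iff_eq_mul.mpr (Subgroup.mem_centralizer_iff.mp xy.2.2.2.2.1 q q.2))
        (mul_inv_eq_iff_eq_mul.mpr (Subgroup.mem_centralizer_iff.mp xy.2.2.2.2.2 q q.2)))⟩
      left_inv := fun xy => rfl
      right_inv := fun xy => rfl }
end Cfsg.Agent.S0903
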