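import Cfsg.Statements.S0905
import Cfsg.Agent.Lib.Fitting.Basic

set_option autoImplicit false
open Cfsg

namespace Cfsg.Agent.S0905

open CfsgLib

section
variable {G : Type*} [Group G] [Fintype G] {p : ℕ} [hp : Fact p.Prime]

theorem key (Q : Subgroup G) [Q.Normal] (hQ : IsPGroup p Q) (C : Finset G)
    (hC : ∀ a, ∀ x ∈ C, a * x * a⁻¹ ∈ C) (hfix : ∀ x ∈ C, x ∉ Subgroup.centralizer (Q : Set G)) :
    IsNilpotent (∑ x ∈ C, MonoidAlgebra.single x (1 : ZMod p)) := by
  classical
  set z : MonoidAlgebra (ZMod p) G := ∑ x ∈ C, MonoidAlgebra.single x (1 : ZMod p) with hz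
  have : Finite (MonoidAlgebra (ZMod p) G) :=
    Finite.of_equiv _ (MonoidAlgebra.coeffEquiv.trans Finsupp.equivFunOnFinite).symm
  have hcomm : ∀ q : G, MonoidAlgebra.single q (1 : ZMod p) * z = z * MonoidAlgebra.single q 1 := by
    intro q
    rw [hz, Finset.mul_sum, Finset.sum_mul]
    refine Finset.sum_bij' (fun x _ => q * x * q⁻¹) (fun x _ => q⁻¹ * x * q) (fun x hx => hC q x hx)
      (fun x hx => by simpa using hC q⁻¹ x hx) (fun x _ => by group) (fun x _ => by group) fun x _ => ?_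
    rw [MonoidAlgebra.single_mul_single, MonoidAlgebra.single_mul_single]
    congr 1
    group
  obtain ⟨i, j, hij, he⟩ := Finite.exists_ne_map_eq_of_infinite fun n : ℕ => z ^ n
  wlog hlt : i < j generalizing i j
  · exact this j i hij.symm he.symm (by omega)
  obtain ⟨d, rfl⟩ : ∃ d, j = i + (d + 1) := ⟨j - i - 1, by omega⟩
  refine ⟨i, ?_⟩
  by_contra hne
  let W : AddSubgroup (MonoidAlgebra (ZMod p) G) := (AddMonoidHom.mulLeft (z ^ i)).range
  let act : MulAction Q W :=
    { smul := fun q w => ⟨MonoidAlgebra.single (q : G) (1 : ZMod p) * w.1, by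
        obtain ⟨v, hv⟩ := w.2
        refine ⟨MonoidAlgebra.single (q : G) (1 : ZMod p) * v, ?_⟩
        rw [← hv]
        show z ^ i * _ = _ * (z ^ i * v)
        rw [← mul_assoc, ← mul_assoc, ((Commute.pow_right (hcomm (q : G)) i)).eq]⟩
      one_smul := fun w => Subtype.ext (by
        show MonoidAlgebra.single ((1 : Q) : G) (1 : ZMod p) * w.1 = w.1
        rw [Subgroup.coe_one, ← MonoidAlgebra.one_def, one_mul])
      mul_smul := fun a b w => Subtype.ext (by
        show MonoidAlgebra.single ((a * b : Q) : G) (1 : ZMod p) * w.1 =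
          MonoidAlgebra.single (a : G) (1 : ZMod p) * (MonoidAlgebra.single (b : G) (1 : ZMod p) * w.1)
        rw [← mul_assoc, MonoidAlgebra.single_mul_single, one_mul, Subgroup.coe_mul]) }
  have hmem : z ^ i ∈ W := ⟨1, mul_one _⟩
  have hnz : (⟨z ^ i, hmem⟩ : W) ≠ 0 := fun h => hne (congrArg Subtype.val h)
  have hdvd : p ∣ Nat.card W := by
    have h1 : addOrderOf (⟨z ^ i, hmem⟩ : W) = p := by
      refine addOrderOf_eq_prime ?_ hnz
      apply Subtype.ext
      show p • (z ^ i) = 0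
      rw [nsmul_eq_mul, ← map_natCast (MonoidAlgebra.singleOneRingHom (R := ZMod p) (M := G)) p,
        ZMod.natCast_self, map_zero, zero_mul]
    exact (dvd_of_eq h1.symm).trans (addOrderOf_dvd_natCard _)
  have h0 : (0 : W) ∈ MulAction.fixedPoints Q W := fun q => Subtype.ext (mul_zero _)
  obtain ⟨w, hw, hw0⟩ := hQ.exists_fixed_point_of_prime_dvd_card_of_fixed_point W hdvd h0
  have hwQ : ∀ q ∈ Q, ∀ g : G, w.1.coeff (q⁻¹ * g) = w.1.coeff g := fun q hq g => by
    have h : MonoidAlgebra.single q (1 : ZMod p) * w.1 = w.1 :=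
      congrArg Subtype.val (hw ⟨q, hq⟩)
    have h2 := congrArg (fun u : MonoidAlgebra (ZMod p) G => u.coeff g) h
    beta_reduce at h2
    rw [show g = q * (q⁻¹ * g) from (mul_inv_cancel_left q g).symm,
      MonoidAlgebra.coeff_single_mul_mul, one_mul] at h2
    rw [mul_inv_cancel_left] at h2
    exact h2
  have hzw : z * w.1 = 0 := by
    ext g
    rw [hz, Finset.sum_mul, MonoidAlgebra.coeff_sum]
    simp only [Finsupp.coe_finsetSum, Finset.sum_apply, MonoidAlgebra.coeff_zero,
      Finsupp.coe_zero, Pi.zero_apply]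
    rw [Finset.sum_congr rfl (g := fun x => w.1.coeff (x⁻¹ * g)) fun x _ => by
      conv_lhs => rw [show g = x * (x⁻¹ * g) from (mul_inv_cancel_left x g).symm,
        MonoidAlgebra.coeff_single_mul_mul, one_mul]]
    rw [← Finset.sum_fiberwise C fun x => w.1.coeff (x⁻¹ * g)]
    refine Finset.sum_eq_zero fun a _ => ?_
    rw [Finset.sum_congr rfl (g := fun _ => a) fun x hx => (Finset.mem_filter.mp hx).2,
      Finset.sum_const, nsmul_eq_mul]
    refine mul_eq_zero_of_left ?_ _
    rw [ZMod.natCast_eq_zero_iff]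
    letI : MulAction Q {x : G // x ∈ C ∧ w.1.coeff (x⁻¹ * g) = a} :=
      { smul := fun q x => ⟨(q : G) * x.1 * (q : G)⁻¹, hC _ _ x.2.1, by
          have hm : (q : G) * (x.1⁻¹ * (q : G)⁻¹ * x.1) ∈ Q := Q.mul_mem q.2 (by
            simpa using ‹Q.Normal›.conj_mem _ (Q.inv_mem q.2) x.1⁻¹)
          rw [show ((q : G) * x.1 * (q : G)⁻¹)⁻¹ * g =
            ((q : G) * (x.1⁻¹ * (q : G)⁻¹ * x.1)) * (x.1⁻¹ * g) by group,
            ← inv_inv ((q : G) * (x.1⁻¹ * (q : G)⁻¹ * x.1)), hwQ _ (Q.inv_mem hm)]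
          exact x.2.2⟩
        one_smul := fun x => Subtype.ext (by
          show ((1 : Q) : G) * x.1 * ((1 : Q) : G)⁻¹ = x.1
          simp)
        mul_smul := fun a b x => Subtype.ext (by
          show ((a * b : Q) : G) * x.1 * ((a * b : Q) : G)⁻¹ =
            (a : G) * ((b : G) * x.1 * (b : G)⁻¹) * (a : G)⁻¹
          simp [mul_assoc]) }
    have h := hQ.card_modEq_card_fixedPoints {x : G // x ∈ C ∧ w.1.coeff (x⁻¹ * g) = a}
    have hempty : IsEmpty (MulAction.fixedPoints Q {x : G // x ∈ C ∧ w.1.coeff (x⁻¹ * g) = a}) := by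
      refine ⟨fun ⟨x, hx⟩ => hfix x.1 x.2.1 fun q hq => ?_⟩
      have h2 : q * x.1 * q⁻¹ = x.1 := congrArg Subtype.val (hx ⟨q, hq⟩)
      exact mul_inv_eq_iff_eq_mul.mp h2
    rw [Nat.card_of_isEmpty (α := MulAction.fixedPoints Q _), Nat.modEq_zero_iff_dvd] at h
    rwa [Nat.card_eq_fintype_card, Fintype.card_subtype, ← Finset.filter_filter,
      Finset.filter_univ_mem] at h
  obtain ⟨v, hv⟩ := w.2
  refine hw0 (Subtype.ext ?_)
  show (0 : MonoidAlgebra (ZMod p) G) = w.1
  have hv' : z ^ i * v = w.1 := hv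
  rw [← hv', he, pow_add, mul_assoc, ← mul_assoc (z ^ i), ← pow_add, add_comm i, pow_add,
    mul_assoc, hv', pow_succ, mul_assoc, hzw, mul_zero]

end

/-- Let F be a field of characteristic p and let g be an element of the finite group G no conjugate of which centralizes O_p(G). Then the class sum of g is a nilpotent element of the group algebra F[G]. -/
theorem result {G : Type*} [Group G] [Finite G] (p : ℕ) [Fact p.Prime] (F : Type*) [Field F] [CharP F p] (g : G) (hg : ∀ x : G, IsConj g x → x ∉ Subgroup.centralizer (Cfsg.pCore p G : Set G)) : IsNilpotent (∑ᶠ x ∈ ConjClasses.carrier (ConjClasses.mk g), MonoidAlgebra.single x (1 : F) : MonoidAlgebra F G) := by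
  classical
  have : Fintype G := Fintype.ofFinite G
  haveI : (pCore p G).Normal := Fitting.pCore_normal p
  set C : Finset G := {x | IsConj g x}
  have hC : ∀ a, ∀ x ∈ C, a * x * a⁻¹ ∈ C := fun a x hx => by
    simp only [C, Finset.mem_filter, Finset.mem_univ, true_and] at hx ⊢
    exact hx.trans (isConj_iff.mpr ⟨a, rfl⟩)
  have h := key (p := p) (pCore p G) (Fitting.pCore_isPGroup p) C hC fun x hx =>
    hg x (Finset.mem_filter.mp hx).2
  have h2 := h.map (MonoidAlgebra.mapRingHom G (ZMod.castHom (dvd_refl p) F))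
  rw [map_sum, Finset.sum_congr rfl fun x _ => MonoidAlgebra.mapRingHom_single _ _ _] at h2
  simp only [map_one] at h2
  convert h2 using 1
  refine finsum_mem_eq_sum_of_subset _ ?_ ?_
  · intro x hx
    simp only [C, Finset.coe_filter, Finset.mem_univ, true_and, Set.mem_setOf_eq]
    exact (ConjClasses.mk_eq_mk_iff_isConj.mp (ConjClasses.mem_carrier_iff_mk_eq.mp hx.1)).symm
  · intro x hx
    simp only [C, Finset.coe_filter, Finset.mem_univ, true_and, Set.mem_setOf_eq] at hx
    exact ConjClasses.mem_carrier_iff_mk_eq.mpr (ConjClasses.mk_eq_mk_iff_isConj.mpr hx.symm)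
end Cfsg.Agent.S0905
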