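import Cfsg.Statements.S0911
import Cfsg.Agent.Lib.Blocks.Defect

set_option autoImplicit false
open Cfsg

namespace Cfsg.Agent.S0911

/-- The min–max Theorem for defect classes. Let B be a block of the finite group G relative to a maximal ideal M of the algebraic integers containing the prime p, let g represent a defect class of B and let D be a Sylow p-subgroup of the centralizer of g (viewed in G). For any h: (a) if the idempotent coefficient of B at h is a local integer outside the local ideal, then some conjugate of D contains a Sylow p-subgroup of the centralizer of h; (b) if the central character of some member of B at h is outside the local ideal, then some conjugate of D is contained in a Sylow p-subgroup of the centralizer of h. -/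
theorem result {G : Type*} [Group G] [Finite G] (p : ℕ) [Fact p.Prime] (M : Ideal Cfsg.AlgInt) (hM : Cfsg.IsPModular p M) (B : Set (Cfsg.IrrCharacter G)) (hB : Cfsg.IsPBlock M B) (g : G) (hg : Cfsg.IsDefectClass M B g) (D : Sylow p (Subgroup.centralizer ({g} : Set G))) (h : G) : (Cfsg.MemLocalRing M (Cfsg.blockCoeff B h) → ¬ Cfsg.MemLocalIdeal M (Cfsg.blockCoeff B h) → ∃ (x : G) (Q : Sylow p (Subgroup.centralizer ({h} : Set G))), (Q : Subgroup (Subgroup.centralizer ({h} : Set G))).map (Subgroup.centralizer ({h} : Set G)).subtype ≤ ((D : Subgroup (Subgroup.centralizer ({g} : Set G))).map (Subgroup.centralizer ({g} : Set G)).subtype).map (MulAut.conj x).toMonoidHom) ∧ ((∃ χ ∈ B, ¬ Cfsg.MemLocalIdeal M (Cfsg.centralChar (χ : G → ℂ) h)) → ∃ (x : G) (Q : Sylow p (Subgroup.centralizer ({h} : Set G))), ((D : Subgroup (Subgroup.centralizer ({g} : Set G))).map (Subgroup.centralizer ({g} : Set G)).subtype).map (MulAut.conj x).toMonoidHom ≤ (Q : Subgroup (Subgroup.centralizer ({h} : Set G))).map (Subgroup.centralizer ({h} : Set G)).subtype) := by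
  have := Fintype.ofFinite G
  have := CfsgLib.Blocks.isPrime_of_isPModular hM
  have hDg : Cfsg.IsDefectGroup p M B ((D : Subgroup (Subgroup.centralizer ({g} : Set G))).map
      (Subgroup.centralizer ({g} : Set G)).subtype) := ⟨g, hg, D, rfl⟩
  refine ⟨fun _ hh => ?_, fun ⟨χ, hχ, hu⟩ => ?_⟩
  · obtain ⟨x, hx⟩ := CfsgLib.Blocks.IsDefectGroup.exists_le_conj_of_support hM hB hDg hh
      (CfsgLib.Blocks.isSylowCent_sylow (default : Sylow p (Subgroup.centralizer ({h} : Set G)))).isPGroup
      (Subgroup.map_subtype_le _)
    exact ⟨x, default, hx⟩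
  · obtain ⟨y, hy, hD'⟩ :=
      CfsgLib.Blocks.IsDefectGroup.exists_isConj_centralizing hM hB hDg hχ hu
    obtain ⟨a, rfl⟩ := isConj_iff.mp hy.symm
    set D₀ := (D : Subgroup (Subgroup.centralizer ({g} : Set G))).map
      (Subgroup.centralizer ({g} : Set G)).subtype
    have hle : D₀.map (MulAut.conj a).toMonoidHom ≤ Subgroup.centralizer ({a * y * a⁻¹} : Set G) :=
      CfsgLib.Blocks.map_conj_centralizer y a ▸ Subgroup.map_mono hD'
    have hp' : IsPGroup p ((D₀.map (MulAut.conj a).toMonoidHom).subgroupOf
        (Subgroup.centralizer ({a * y * a⁻¹} : Set G))) :=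
      ((CfsgLib.Blocks.IsDefectGroup.isPGroup hM hDg).map _).of_equiv
        (Subgroup.subgroupOfEquivOfLe hle).symm
    obtain ⟨Q, hQ⟩ := hp'.exists_le_sylow
    refine ⟨a, Q, ?_⟩
    have := Subgroup.map_mono (f := (Subgroup.centralizer ({a * y * a⁻¹} : Set G)).subtype) hQ
    rwa [Subgroup.subgroupOf_map_subtype, inf_eq_left.mpr hle] at this
end Cfsg.Agent.S0911
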