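import Cfsg.Statements.S0915
import Cfsg.Agent.Lib.Blocks.Defect
import Cfsg.Agent.Lib.Blocks.Osima
import Cfsg.Agent.Lib.PSolvable.Core
import Cfsg.Agent.Lib.Fitting.Basic

set_option autoImplicit false
open Cfsg

namespace Cfsg.Agent.S0915

open CfsgLib CfsgLib.Blocks
open scoped ComplexConjugate CfsgLib.Char

/-- Let G be a finite p-solvable group with trivial largest normal subgroup of order prime to p. Then any two irreducible characters of G lie in the same block relative to every maximal ideal M of the algebraic integers containing p: G has a single p-block. -/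
theorem result {G : Type*} [Group G] [Finite G] (p : ℕ) [Fact p.Prime] (M : Ideal Cfsg.AlgInt) (hM : Cfsg.IsPModular p M) (hsolv : Cfsg.IsPSolvable p G) (hcore : Cfsg.pPrimeCore p G = ⊥) (χ ψ : Cfsg.IrrCharacter G) : Cfsg.SameBlock M (χ : G → ℂ) (ψ : G → ℂ) := by
  classical
  have : Fintype G := Fintype.ofFinite G
  have := isPrime_of_isPModular hM
  have : Fintype (ConjClasses G) := Fintype.ofFinite _
  haveI : (pCore p G).Normal := Fitting.pCore_normal p
  set B := blockOf M (χ : G → ℂ)
  have hB : IsPBlock M B := isPBlock_blockOf χ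
  have key : ∀ η : IrrCharacter G, MemLocalIdeal M (omega (η : G → ℂ) (blockCoeff B) - blockCoeff B 1) := by
    intro η
    have h1 : blockCoeff B 1 = omega (η : G → ℂ) (fun g => blockCoeff B 1 * deltaOne g) := by
      rw [show (fun g => blockCoeff B 1 * deltaOne g) = blockCoeff B 1 • (deltaOne : G → ℂ) from rfl,
        omega_smul, omega_deltaOne, mul_one]
    rw [h1, omega_eq_sum_classes η (isClassFunction_blockCoeff B),
      omega_eq_sum_classes η (f := fun g => blockCoeff B 1 * deltaOne g) (fun g x => by
        simp [deltaOne_apply]), ← Finset.sum_sub_distrib]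
    refine memLocalIdeal_sum _ _ fun q _ => ?_
    set g := Quotient.out q
    rw [← sub_mul]
    by_cases hg : g = 1
    · rw [hg]; simp [deltaOne_apply, memLocalIdeal_zero]
    · rw [deltaOne_apply, if_neg hg, mul_zero, sub_zero]
      by_cases hreg : IsPRegular p g
      · refine memLocalIdeal_mul_left (IsPBlock.memLocalRing_blockCoeff hB g) ?_
        refine memLocalIdeal_centralChar_of_not_centralizing hM (pCore p G)
          (Fitting.pCore_isPGroup p) η fun hc => hg ?_
        obtain ⟨k, hk⟩ := IsPGroup.iff_orderOf.mp (Fitting.pCore_isPGroup p)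
          (⟨g, PSolvable.centralizer_pCore_le hsolv hcore hc⟩ : pCore p G)
        rw [← Subgroup.orderOf_coe] at hk
        rcases Nat.eq_zero_or_pos k with rfl | hpos
        · exact orderOf_eq_one_iff.mp (by rw [hk, pow_zero])
        · exact absurd (hk ▸ dvd_pow_self p hpos.ne') hreg
      · rw [blockCoeff_eq_zero_of_not_regular hM (IsPBlock.isBlockUnion hB) hreg, zero_mul]
        exact memLocalIdeal_zero
  have h := memLocalIdeal_sub_trans (key χ) (memLocalIdeal_sub_comm (key ψ))
  rw [omega_blockCoeff, omega_blockCoeff, indVec_of_mem (mem_blockOf_self χ)] at h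
  by_contra hn
  rw [indVec_of_notMem (S := B) hn, sub_zero] at h
  exact not_memLocalIdeal_one h
end Cfsg.Agent.S0915
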