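import Cfsg.Statements.S0916
import Cfsg.Agent.Lib.Blocks.Sylow

set_option autoImplicit false
open Cfsg

namespace Cfsg.Agent.S0916

open CfsgLib CfsgLib.Blocks

/-- Let P be a p-subgroup of the finite group G, C its centralizer and N its normalizer. Say that a conjugacy class (of G, or of N) has defect group P when P is a Sylow p-subgroup of the centralizer (in G, respectively in N) of some element of the class. Then: (i) if the class of g in G has defect group P, the elements of that class lying in C form a single N-class, again with defect group P; (ii) every N-class with defect group P arises this way from exactly one G-class with defect group P. -/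
theorem result {G : Type*} [Group G] [Finite G] (p : ℕ) [Fact p.Prime] (P : Subgroup G) (hP : IsPGroup p P) : (∀ g : G, (∃ S : Sylow p (Subgroup.centralizer ({g} : Set G)), (S : Subgroup (Subgroup.centralizer ({g} : Set G))).map (Subgroup.centralizer ({g} : Set G)).subtype = P) → (∃ c : G, IsConj g c ∧ c ∈ Subgroup.centralizer (P : Set G)) ∧ (∀ c₁ c₂ : G, IsConj g c₁ → IsConj g c₂ → c₁ ∈ Subgroup.centralizer (P : Set G) → c₂ ∈ Subgroup.centralizer (P : Set G) → ∃ n ∈ Subgroup.normalizer (P : Set G), n * c₁ * n⁻¹ = c₂)) ∧ (∀ c : G, c ∈ Subgroup.centralizer (P : Set G) → (∃ S : Sylow p (Subgroup.centralizer ({c} : Set G) ⊓ Subgroup.normalizer (P : Set G) : Subgroup G), (S : Subgroup ↥(Subgroup.centralizer ({c} : Set G) ⊓ Subgroup.normalizer (P : Set G))).map (Subgroup.centralizer ({c} : Set G) ⊓ Subgroup.normalizer (P : Set G)).subtype = P) → ∃ S : Sylow p (Subgroup.centralizer ({c} : Set G)), (S : Subgroup (Subgroup.centralizer ({c} : Set G))).map (Subgroup.centralizer ({c} : Set G)).subtype = P) :=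 by
  classical
  refine ⟨fun g hg => ?_, fun c hc hS => ?_⟩
  · obtain ⟨S, hS⟩ := hg
    have hsyl : IsSylowCent p g P := isSylowCent_iff.mpr ⟨S, hS.symm⟩
    refine ⟨⟨g, IsConj.refl g, fun q hq => Subgroup.mem_centralizer_singleton_iff.mp (hsyl.1 hq)⟩,
      fun c₁ c₂ h₁ h₂ hc₁ hc₂ => ?_⟩
    obtain ⟨a, ha⟩ := isConj_iff.mp h₁
    obtain ⟨b, hb⟩ := isConj_iff.mp h₂
    have hsa := IsSylowCent.conj hsyl a
    have hsb := IsSylowCent.conj hsyl b
    rw [ha] at hsa
    rw [hb] at hsb
    obtain ⟨x, hx⟩ := isConj_iff.mp (h₁.symm.trans h₂)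
    -- `x` carries a Sylow subgroup of the centralizer of `c₁` to one of `c₂`
    have hP₁ : IsSylowCent p c₁ P := by
      obtain ⟨z, hz⟩ := IsSylowCent.exists_conj_le hsa hP (fun q hq =>
        Subgroup.mem_centralizer_singleton_iff.mpr (hc₁ q hq))
      have heq : P = ((P.map (MulAut.conj a).toMonoidHom).map (MulAut.conj z).toMonoidHom) :=
        Subgroup.eq_of_le_of_card_ge hz.2 (by rw [card_map_conj, card_map_conj])
      rw [heq]
      have := IsSylowCent.conj hsa z
      rwa [mul_inv_eq_iff_eq_mul.mpr (Subgroup.mem_centralizer_singleton_iff.mp hz.1)] at this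
    have hP₂ := IsSylowCent.conj hP₁ x
    rw [hx] at hP₂
    obtain ⟨z, hzc, hz⟩ := IsSylowCent.exists_conj_le hP₂ hP (fun q hq =>
      Subgroup.mem_centralizer_singleton_iff.mpr (hc₂ q hq))
    refine ⟨z * x, ?_, ?_⟩
    · have heq : P = ((P.map (MulAut.conj x).toMonoidHom).map (MulAut.conj z).toMonoidHom) :=
        Subgroup.eq_of_le_of_card_ge hz (by rw [card_map_conj, card_map_conj])
      refine Subgroup.mem_normalizer_iff.mpr fun q => ⟨fun hq => ?_, fun hq => ?_⟩
      · rw [heq]
        exact ⟨x * q * x⁻¹, ⟨q, hq, rfl⟩, by simp [mul_assoc]⟩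
      · rw [heq] at hq
        obtain ⟨_, ⟨r, hr, rfl⟩, h⟩ := hq
        have : r = q := by simpa [mul_assoc] using h
        exact this ▸ hr
    · calc z * x * c₁ * (z * x)⁻¹ = z * (x * c₁ * x⁻¹) * z⁻¹ := by group
        _ = c₂ := by rw [hx, mul_inv_eq_iff_eq_mul.mpr (Subgroup.mem_centralizer_singleton_iff.mp hzc)]
  · set K : Subgroup G := Subgroup.centralizer ({c} : Set G) ⊓ Subgroup.normalizer (P : Set G)
    obtain ⟨S, hS⟩ := hS
    have hle : P ≤ Subgroup.centralizer ({c} : Set G) := fun q hq =>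
      Subgroup.mem_centralizer_singleton_iff.mpr (hc q hq)
    obtain ⟨T, hT⟩ := (hP.comap_of_injective (Subgroup.centralizer ({c} : Set G)).subtype
      (Subgroup.subtype_injective _)).exists_le_sylow
    refine ⟨T, ?_⟩
    set T' := (T : Subgroup (Subgroup.centralizer ({c} : Set G))).map
      (Subgroup.centralizer ({c} : Set G)).subtype with hT'
    have hT'p : IsPGroup p T' := T.2.map _
    have hPT : P ≤ T' := fun q hq => ⟨⟨q, hle hq⟩, hT hq, rfl⟩
    by_contra hne
    have hlt : P.subgroupOf T' < ⊤ := lt_top_iff_ne_top.mpr fun h =>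
      hne (le_antisymm (Subgroup.subgroupOf_eq_top.mp h) hPT)
    have : Group.IsNilpotent T' := hT'p.isNilpotent
    have hnc : NormalizerCondition T' := Group.normalizerCondition_of_isNilpotent
    obtain ⟨t, htN, htP⟩ := SetLike.exists_of_lt (hnc (P.subgroupOf T') hlt)
    set E : Subgroup G := T' ⊓ Subgroup.normalizer (P : Set G)
    have hEK : E ≤ K := inf_le_inf_right _ (Subgroup.map_subtype_le _)
    have hSE : (S : Subgroup K) ≤ E.subgroupOf K := fun q hq =>
      Subgroup.mem_subgroupOf.mpr ⟨hPT (hS ▸ ⟨q, hq, rfl⟩),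
        Subgroup.le_normalizer (hS ▸ ⟨q, hq, rfl⟩)⟩
    have hEp : IsPGroup p (E.subgroupOf K) :=
      (hT'p.to_le inf_le_left).comap_of_injective K.subtype (Subgroup.subtype_injective _)
    have hEeq := S.is_maximal' hEp hSE
    have htE : (t : G) ∈ E := by
      refine ⟨t.2, Subgroup.mem_normalizer_iff.mpr fun q => ?_⟩
      have htn := Subgroup.mem_normalizer_iff.mp htN
      constructor
      · intro hq
        exact (htn ⟨q, hPT hq⟩).mp hq
      · intro hq
        have hq' : q ∈ T' := by
          have h1 := T'.mul_mem (T'.mul_mem (T'.inv_mem t.2) (hPT hq)) t.2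
          simpa [mul_assoc] using h1
        exact (htn ⟨q, hq'⟩).mpr hq
    refine htP ?_
    have h2 : (⟨(t : G), hEK htE⟩ : K) ∈ (S : Subgroup K) := hEeq ▸ Subgroup.mem_subgroupOf.mpr htE
    exact Subgroup.mem_subgroupOf.mpr (hS ▸ ⟨_, h2, rfl⟩)
end Cfsg.Agent.S0916
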