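import Cfsg.Statements.S0921
import Cfsg.Agent.Lib.Blocks.KernelBlock
import Cfsg.Agent.Lib.Blocks.MainSecond

set_option autoImplicit false
open Cfsg

namespace Cfsg.Agent.S0921

open CfsgLib.Blocks
open scoped ComplexConjugate CfsgLib.Char

variable {G : Type*} [Group G] [Fintype G]

theorem conv_extendByZero (N : Subgroup G) [Fintype N] (a b : N → ℂ) :
    conv (extendByZero N a) (extendByZero N b) = extendByZero N (conv a b) := by
  funext z
  rw [conv, sum_extendByZero_mul]
  by_cases hz : z ∈ N
  · rw [show z = ((⟨z, hz⟩ : N) : G) from rfl, extendByZero_apply, conv]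
    exact Finset.sum_congr rfl fun k _ => by
      rw [← Subgroup.coe_inv, ← Subgroup.coe_mul, extendByZero_apply]
  · rw [extendByZero_eq_zero N _ hz]
    refine Finset.sum_eq_zero fun k _ => ?_
    rw [extendByZero_eq_zero N _ fun h => hz ?_, mul_zero]
    simpa using N.mul_mem k.2 h

theorem main (p : ℕ) (M : Ideal AlgInt) (hM : IsPModular p M) (N : Subgroup G) [N.Normal]
    [Fintype N] (hN : ¬ p ∣ Nat.card N) (χ ψ : IrrCharacter G)
    (h : SameBlock M (χ : G → ℂ) (ψ : G → ℂ)) (θ : IrrCharacter N)
    (hχ : classInner (fun n : N => (χ : G → ℂ) n) (θ : N → ℂ) ≠ 0) :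
    classInner (fun n : N => (ψ : G → ℂ) n) (θ : N → ℂ) ≠ 0 := by
  classical
  have := isPrime_of_isPModular hM
  set cj : G → IrrCharacter N → IrrCharacter N := fun x η =>
    ⟨fun n => (η : N → ℂ) (MulAut.conjNormal x n),
      isIrrCharacter_comp_of_surjective η.2 (MulAut.conjNormal x).toMonoidHom
        (MulAut.conjNormal x).surjective⟩
  have hcj : ∀ x y η, cj x (cj y η) = cj (y * x) η := fun x y η => Subtype.ext (funext fun n => by
    show (η : N → ℂ) _ = (η : N → ℂ) _
    rw [map_mul, MulAut.mul_apply])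
  have hcj1 : ∀ η, cj 1 η = η := fun η => Subtype.ext (funext fun n => by
    show (η : N → ℂ) _ = (η : N → ℂ) n
    rw [map_one, MulAut.one_apply])
  set T : Set (IrrCharacter N) := Set.range fun x => cj x θ
  set f := extendByZero N (blockCoeff T)
  have hf : IsClassFunction G f := by
    intro g x
    by_cases hg : g ∈ N
    · have e : x * g * x⁻¹ = ((MulAut.conjNormal x ⟨g, hg⟩ : N) : G) :=
        (MulAut.conjNormal_apply x (⟨g, hg⟩ : N)).symm
      rw [e]
      show extendByZero N _ _ = extendByZero N _ ((⟨g, hg⟩ : N) : G)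
      rw [extendByZero_apply, extendByZero_apply, blockCoeff, blockCoeff]
      congr 1
      refine finsum_mem_eq_of_bijOn (cj x) ⟨?_, ?_, ?_⟩ fun η _ => ?_
      · rintro _ ⟨y, rfl⟩
        exact ⟨y * x, (hcj _ _ _).symm⟩
      · intro a _ b _ hab
        have := congrArg (cj x⁻¹) hab
        rwa [hcj, hcj, mul_inv_cancel, hcj1, hcj1] at this
      · rintro _ ⟨y, rfl⟩
        exact ⟨cj (y * x⁻¹) θ, ⟨_, rfl⟩, by rw [hcj, inv_mul_cancel_right]⟩
      · show _ = (η : N → ℂ) (MulAut.conjNormal x 1) * conj ((η : N → ℂ) (MulAut.conjNormal x ⟨g, hg⟩))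
        rw [map_one]
    · have hg' : x * g * x⁻¹ ∉ N := fun h => hg (by
        simpa [mul_assoc] using (inferInstance : N.Normal).conj_mem _ h x⁻¹)
      show extendByZero N _ _ = extendByZero N _ _
      rw [extendByZero_eq_zero N _ hg, extendByZero_eq_zero N _ hg']
  have hl : ∀ g, MemLocalRing M (f g) := by
    intro g
    by_cases hg : g ∈ N
    · show MemLocalRing M (extendByZero N _ ((⟨g, hg⟩ : N) : G))
      rw [extendByZero_apply, blockCoeff, sum_mem_eq_filter]
      exact memLocalRing_mul (memLocalRing_inv (memLocalRing_natCast _) fun h =>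
        hN ((memLocalIdeal_natCast_iff hM).mp h)) (memLocalRing_sum _ _ fun η _ =>
        memLocalRing_mul (memLocalRing_of_isIntegral (irr_isIntegral η.2 _))
          (memLocalRing_of_isIntegral (irr_conj_isIntegral η.2 _)))
    · show MemLocalRing M (extendByZero N _ g)
      rw [extendByZero_eq_zero N _ hg]
      exact memLocalRing_zero
  have hidem : ∀ η : IrrCharacter G, omega (η : G → ℂ) f = 0 ∨ omega (η : G → ℂ) f = 1 := fun η => by
    have := omega_conv η hf hf
    rw [conv_extendByZero, conv_blockCoeff_self] at this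
    rcases eq_or_ne (omega (η : G → ℂ) f) 0 with h0 | h0
    · exact Or.inl h0
    · exact Or.inr (mul_left_cancel₀ h0 (by rw [mul_one]; exact this.symm))
  have hω : ∀ η : IrrCharacter G, omega (η : G → ℂ) f =
      (∑ t : IrrCharacter N with t ∈ T, (t : N → ℂ) 1 *
        classInner (fun n : N => (η : G → ℂ) n) (t : N → ℂ)) / (η : G → ℂ) 1 := by
    intro η
    rw [omega, sum_extendByZero_mul]
    congr 1
    simp only [blockCoeff, sum_mem_eq_filter, classInner, Finset.mul_sum, Finset.sum_mul]
    rw [Finset.sum_comm]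
    exact Finset.sum_congr rfl fun t _ => Finset.sum_congr rfl fun n _ => by ring
  have hshift : ∀ (η : IrrCharacter G) x, classInner (fun n : N => (η : G → ℂ) n) (cj x θ : N → ℂ)
      = classInner (fun n : N => (η : G → ℂ) n) (θ : N → ℂ) := fun η x => by
    rw [classInner, classInner]
    congr 1
    refine Fintype.sum_equiv (MulAut.conjNormal x).toEquiv _ _ fun n => ?_
    show _ = (η : G → ℂ) ((MulAut.conjNormal x n : N) : G) * _
    rw [MulAut.conjNormal_apply, irr_classFunction η]
    rfl
  have h1 : omega (χ : G → ℂ) f = 1 := by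
    refine (hidem χ).resolve_left fun h0 => ?_
    rw [hω, div_eq_zero_iff] at h0
    have h0' := h0.resolve_right (CfsgLib.Char.irr_degree_ne_zero χ.2)
    choose m hm using fun t : IrrCharacter N => CfsgLib.Char.exists_nat_classInner
      (CfsgLib.Char.isCharacter_restrict N (CfsgLib.Char.isCharacter_of_isIrr χ.2))
      (CfsgLib.Char.isCharacter_of_isIrr t.2)
    rw [Finset.sum_congr rfl (g := fun t : IrrCharacter N =>
      ((charDegree (t : N → ℂ) * m t : ℕ) : ℂ)) fun t _ => by
        rw [(irr_degree_eq t).1, hm, Nat.cast_mul], ← Nat.cast_sum, Nat.cast_eq_zero,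
      Finset.sum_eq_zero_iff] at h0'
    have := h0' θ (Finset.mem_filter.mpr ⟨Finset.mem_univ _, 1, hcj1 θ⟩)
    rw [mul_eq_zero, or_iff_right (irr_degree_eq θ).2.ne'] at this
    exact hχ (by rw [hm, this, Nat.cast_zero])
  intro h0
  have hψ : omega (ψ : G → ℂ) f = 0 := by
    rw [hω, div_eq_zero_iff]
    refine Or.inl (Finset.sum_eq_zero fun t ht => ?_)
    obtain ⟨x, rfl⟩ := (Finset.mem_filter.mp ht).2
    rw [hshift, h0, mul_zero]
  have hc := sub_mem_localIdeal_of_sameBlock h hf hl
  rw [h1, hψ, sub_zero] at hc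
  exact not_memLocalIdeal_one hc


/-- Let N = O_p'(G) be the largest normal subgroup of the finite group G of order prime to p, and fix a maximal ideal M of the algebraic integers containing p. If two irreducible characters χ, ψ of G lie in the same block relative to M, then an irreducible character of N occurs in the restriction of χ exactly when it occurs in the restriction of ψ. -/
theorem result {G : Type*} [Group G] [Finite G] (p : ℕ) [Fact p.Prime] (M : Ideal Cfsg.AlgInt) (hM : Cfsg.IsPModular p M) [Fintype G] (χ ψ : Cfsg.IrrCharacter G) (h : Cfsg.SameBlock M (χ : G → ℂ) (ψ : G → ℂ)) (θ : Cfsg.IrrCharacter (Cfsg.pPrimeCore p G)) [Fintype (Cfsg.pPrimeCore p G)] : Cfsg.classInner (fun n : Cfsg.pPrimeCore p G => (χ : G → ℂ) n) (θ : Cfsg.pPrimeCore p G → ℂ) ≠ 0 ↔ Cfsg.classInner (fun n : Cfsg.pPrimeCore p G => (ψ : G → ℂ) n) (θ : Cfsg.pPrimeCore p G → ℂ) ≠ 0 := by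
  classical
  have := Fintype.ofFinite G
  have := CfsgLib.Blocks.isPrime_of_isPModular hM
  have : (Cfsg.pPrimeCore p G).Normal := CfsgLib.SelfCent.pPrimeCore_normal' p
  have hN := CfsgLib.Blocks.not_dvd_card_pPrimeCore (H := G) hM.1
  exact ⟨main p M hM _ hN χ ψ h θ, main p M hM _ hN ψ χ (CfsgLib.Blocks.SameBlock.symm h) θ⟩
end Cfsg.Agent.S0921
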