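import Cfsg.Statements.S0925
import Cfsg.Agent.Lib.Blocks.MainSecond

set_option autoImplicit false
open Cfsg
open scoped CfsgLib.Char

namespace Cfsg.Agent.S0925

/-- (i) Let ϑ be a class function on the finite group G and x a p-element, and suppose ϑ vanishes at every element whose p-part is conjugate to x. Then for every block B (relative to a maximal ideal M of the algebraic integers containing p) the B-part of ϑ — the sum over χ ∈ B of the inner product of ϑ with χ, times χ — also vanishes at every such element. (ii) Block orthogonality, its corollary: if the p-parts of g and h are not conjugate, then the sum over χ ∈ B of χ g * χ h⁻¹ is zero for every block B. -/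
theorem result {G : Type*} [Group G] [Finite G] (p : ℕ) [Fact p.Prime] (M : Ideal Cfsg.AlgInt) (hM : Cfsg.IsPModular p M) : (∀ (ϑ : G → ℂ), Cfsg.IsClassFunction G ϑ → ∀ x : G, (∃ k : ℕ, orderOf x = p ^ k) → (∀ u z : G, Cfsg.IsPPart p u z → IsConj x z → ϑ u = 0) → ∀ B : Set (Cfsg.IrrCharacter G), Cfsg.IsPBlock M B → ∀ u z : G, Cfsg.IsPPart p u z → IsConj x z → Cfsg.blockPart B ϑ u = 0) ∧ (∀ g h x y : G, Cfsg.IsPPart p g x → Cfsg.IsPPart p h y → ¬ IsConj x y → ∀ B : Set (Cfsg.IrrCharacter G), Cfsg.IsPBlock M B → ∑ᶠ χ ∈ B, (χ : G → ℂ) g * (χ : G → ℂ) h⁻¹ = 0) := by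
  classical
  have := Fintype.ofFinite G
  have key : ∀ g h x y : G, Cfsg.IsPPart p g x → Cfsg.IsPPart p h y → ¬ IsConj x y →
      ∀ B : Set (Cfsg.IrrCharacter G), Cfsg.IsPBlock M B →
      ∑ᶠ χ ∈ B, (χ : G → ℂ) g * (χ : G → ℂ) h⁻¹ = 0 := by
    intro g h x y hg hh hxy B hB
    rw [CfsgLib.Blocks.sum_mem_eq_filter]
    simp only [fun χ : Cfsg.IrrCharacter G => CfsgLib.Blocks.irr_value_inv χ.2 h]
    exact CfsgLib.Blocks.sum_block_eq_zero_of_not_isConj hM hg hh hxy hB
  refine ⟨fun ϑ _ x hx h0 B hB u z hu hxz => ?_, key⟩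
  rw [Cfsg.blockPart, CfsgLib.Blocks.sum_mem_eq_filter]
  simp only [Cfsg.classInner, Finset.mul_sum, Finset.sum_mul]
  rw [Finset.sum_comm]
  refine Finset.sum_eq_zero fun v _ => ?_
  obtain ⟨w, hw, -⟩ := CfsgLib.Blocks.exists_isPPart hM.1 v
  by_cases hvw : IsConj x w
  · exact Finset.sum_eq_zero fun χ _ => by rw [h0 v w hw hvw]; ring
  · have h2 := key u v z w hu hw (fun h => hvw (hxz.trans h)) B hB
    rw [CfsgLib.Blocks.sum_mem_eq_filter] at h2
    simp only [fun χ : Cfsg.IrrCharacter G => CfsgLib.Blocks.irr_value_inv χ.2 v] at h2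
    calc _ = (Nat.card G : ℂ)⁻¹ * ϑ v *
          ∑ χ : Cfsg.IrrCharacter G with χ ∈ B, (χ : G → ℂ) u * (starRingEnd ℂ) ((χ : G → ℂ) v) := by
          rw [Finset.mul_sum]
          exact Finset.sum_congr rfl fun χ _ => by ring
      _ = 0 := by rw [h2, mul_zero]
end Cfsg.Agent.S0925
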