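import Cfsg.Statements.S0926
import Cfsg.Agent.Lib.Blocks.Sections

set_option autoImplicit false
open Cfsg

namespace Cfsg.Agent.S0926

/-- Let B be a block of the finite group G with defect group D (relative to a maximal ideal M of the algebraic integers containing p), let χ ∈ B have height zero, and let x be a p-element. Then some conjugate of x lies in D if and only if χ does not vanish on the whole p-section of x (the elements whose p-part is conjugate to x). -/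
theorem result {G : Type*} [Group G] [Finite G] (p : ℕ) [Fact p.Prime] (M : Ideal Cfsg.AlgInt) (hM : Cfsg.IsPModular p M) (B : Set (Cfsg.IrrCharacter G)) (hB : Cfsg.IsPBlock M B) (D : Subgroup G) (hD : Cfsg.IsDefectGroup p M B D) (χ : Cfsg.IrrCharacter G) (hχ : χ ∈ B) (h0 : Cfsg.blockHeight p B (χ : G → ℂ) = 0) (x : G) (hx : ∃ k : ℕ, orderOf x = p ^ k) : (∃ g : G, g * x * g⁻¹ ∈ D) ↔ ∃ u : G, (∃ z : G, Cfsg.IsPPart p u z ∧ IsConj x z) ∧ (χ : G → ℂ) u ≠ 0 := by
  classical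
  have := Fintype.ofFinite G
  have := CfsgLib.Blocks.isPrime_of_isPModular hM
  constructor
  · rintro ⟨g, hg⟩
    obtain ⟨c, hc, hsyl⟩ := CfsgLib.Blocks.isDefectGroup_iff.mp hD
    have hcomm : Commute (g * x * g⁻¹) c :=
      Subgroup.mem_centralizer_singleton_iff.mp (hsyl.1 hg)
    obtain ⟨k, hk⟩ := hx
    have hk' : ∃ j : ℕ, orderOf (g * x * g⁻¹) = p ^ j :=
      ⟨k, hk ▸ orderOf_injective (MulAut.conj g).toMonoidHom (MulAut.conj g).injective x⟩
    refine ⟨g * x * g⁻¹ * c, ⟨g * x * g⁻¹, CfsgLib.Blocks.isPPart_mul hcomm hk'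
      (CfsgLib.Blocks.IsDefectClass.isPRegular hM hB hc), isConj_iff.mpr ⟨g, rfl⟩⟩, fun h => ?_⟩
    refine CfsgLib.Blocks.not_memLocalIdeal_value_of_height_zero hM hB hχ h0 hc ?_
    rw [← CfsgLib.Blocks.memLocalIdeal_value_mul_pElement_iff hM χ.2 hcomm hk', h]
    exact CfsgLib.Blocks.memLocalIdeal_zero
  · rintro ⟨u, ⟨z, hz, hxz⟩, hu⟩
    by_contra hno
    refine hu (CfsgLib.Blocks.value_eq_zero_of_not_mem_defectGroup hM hz fun D' hD' hzD => hno ?_)
    rw [← CfsgLib.Blocks.IsPBlock.eq_blockOf hB hχ] at hD'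
    obtain ⟨a, rfl⟩ := CfsgLib.Blocks.IsDefectGroup.exists_conj_eq hM hB hD hD'
    obtain ⟨d, hd, hdz⟩ := hzD
    obtain ⟨b, rfl⟩ := isConj_iff.mp hxz
    refine ⟨a⁻¹ * b, ?_⟩
    have hdz' : a * d * a⁻¹ = b * x * b⁻¹ := hdz
    have e : a⁻¹ * b * x * (a⁻¹ * b)⁻¹ = d :=
      calc a⁻¹ * b * x * (a⁻¹ * b)⁻¹ = a⁻¹ * (b * x * b⁻¹) * a := by group
        _ = a⁻¹ * (a * d * a⁻¹) * a := by rw [hdz']
        _ = d := by group
    rw [e]
    exact hd
end Cfsg.Agent.S0926
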