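import Cfsg.Statements.S0927
import Cfsg.Agent.Lib.Blocks.Sections

set_option autoImplicit false
open Cfsg

namespace Cfsg.Agent.S0927

/-- Let B be a block of the finite group G relative to a maximal ideal M of the algebraic integers containing p, let y represent a defect class of B and let P be a Sylow p-subgroup of the centralizer of y. (a) If x ∈ P and χ ∈ B has height zero, then χ (x * y) is not in the local ideal at M. (b) If x lies in the centre of P, then for every χ ∈ B the central character of χ at x * y is not in the local ideal at M. -/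
theorem result {G : Type*} [Group G] [Finite G] (p : ℕ) [Fact p.Prime] (M : Ideal Cfsg.AlgInt) (hM : Cfsg.IsPModular p M) (B : Set (Cfsg.IrrCharacter G)) (hB : Cfsg.IsPBlock M B) (y : G) (hy : Cfsg.IsDefectClass M B y) (P : Sylow p (Subgroup.centralizer ({y} : Set G))) (x : Subgroup.centralizer ({y} : Set G)) (hx : x ∈ (P : Subgroup (Subgroup.centralizer ({y} : Set G)))) : (∀ χ ∈ B, Cfsg.blockHeight p B (χ : G → ℂ) = 0 → ¬ Cfsg.MemLocalIdeal M ((χ : G → ℂ) ((x : G) * y))) ∧ ((∀ w ∈ (P : Subgroup (Subgroup.centralizer ({y} : Set G))), x * w = w * x) → ∀ χ ∈ B, ¬ Cfsg.MemLocalIdeal M (Cfsg.centralChar (χ : G → ℂ) ((x : G) * y))) := by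
  classical
  have := Fintype.ofFinite G
  have := CfsgLib.Blocks.isPrime_of_isPModular hM
  have hxy : Commute (x : G) y := Subgroup.mem_centralizer_singleton_iff.mp x.2
  obtain ⟨k, hk⟩ := IsPGroup.iff_orderOf.mp P.2 ⟨x, hx⟩
  have hxk : ∃ k : ℕ, orderOf (x : G) = p ^ k := ⟨k, by
    rw [← hk]
    exact (Subgroup.orderOf_coe x).trans (Subgroup.orderOf_mk x hx).symm⟩
  have hpart := CfsgLib.Blocks.isPPart_mul hxy hxk (CfsgLib.Blocks.IsDefectClass.isPRegular hM hB hy)
  have hmem : ∀ χ ∈ B, Cfsg.blockHeight p B (χ : G → ℂ) = 0 →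
      ¬ Cfsg.MemLocalIdeal M ((χ : G → ℂ) ((x : G) * y)) := fun χ hχ h0 h =>
    CfsgLib.Blocks.not_memLocalIdeal_value_of_height_zero hM hB hχ h0 hy
      ((CfsgLib.Blocks.memLocalIdeal_value_mul_pElement_iff hM χ.2 hxy hxk).mp h)
  refine ⟨hmem, fun hcomm χ hχ hc => ?_⟩
  obtain ⟨η, hη, hη0⟩ := CfsgLib.Blocks.exists_blockHeight_eq_zero hM hB
  have hc' : Cfsg.MemLocalIdeal M (Cfsg.centralChar (η : G → ℂ) ((x : G) * y)) :=
    (CfsgLib.Blocks.memLocalIdeal_iff_of_sub
      (CfsgLib.Blocks.IsPBlock.sameBlock hB hχ hη ((x : G) * y))).mp hc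
  set Z := Subgroup.centralizer ({(x : G) * y} : Set G)
  have hZC : Z ≤ (Subgroup.centralizer ({y} : Set G)) := by
    intro g hg
    obtain ⟨w, hw, hwz⟩ := CfsgLib.Blocks.exists_isPPart hM.1 ((x : G) * y)
    obtain rfl := CfsgLib.Blocks.IsPPart.unique hM.1 hw hpart
    have hgc : Commute g ((x : G) * y) := Subgroup.mem_centralizer_singleton_iff.mp hg
    obtain ⟨n, hn⟩ := Subgroup.mem_zpowers_iff.mp hwz
    have hgx : Commute g (x : G) := hn ▸ hgc.zpow_right n
    have := hgx.inv_right.mul_right hgc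
    rw [inv_mul_cancel_left] at this
    exact Subgroup.mem_centralizer_singleton_iff.mpr this
  have hPZ : (P : Subgroup (Subgroup.centralizer ({y} : Set G))).map (Subgroup.centralizer ({y} : Set G)).subtype ≤ Z := by
    rintro _ ⟨w, hw, rfl⟩
    refine Subgroup.mem_centralizer_singleton_iff.mpr ?_
    have h1 : Commute (w : G) (x : G) := (congrArg Subtype.val (hcomm w hw)).symm
    exact h1.mul_right (Subgroup.mem_centralizer_singleton_iff.mp w.2)
  have hcardP : Nat.card ((P : Subgroup (Subgroup.centralizer ({y} : Set G))).map (Subgroup.centralizer ({y} : Set G)).subtype) = p ^ (Nat.card (Subgroup.centralizer ({y} : Set G))).factorization p := by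
    rw [Subgroup.card_map_of_injective (Subgroup.centralizer ({y} : Set G)).subtype_injective, P.card_eq_multiplicity]
  have hD : Cfsg.IsDefectGroup p M B ((P : Subgroup (Subgroup.centralizer ({y} : Set G))).map (Subgroup.centralizer ({y} : Set G)).subtype) := ⟨y, hy, P, rfl⟩
  have hd := CfsgLib.Blocks.IsDefectGroup.card_eq hM hB hD
  have he : (Nat.card (Subgroup.centralizer ({y} : Set G))).factorization p = Cfsg.blockDefect p B :=
    Nat.pow_right_injective hM.1.two_le (hcardP.symm.trans hd)
  have hZ1 : Cfsg.blockDefect p B ≤ (Nat.card Z).factorization p := by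
    rw [← hM.1.pow_dvd_iff_le_factorization Nat.card_pos.ne', ← hd]
    exact Subgroup.card_dvd_of_le hPZ
  have hZ2 : (Nat.card Z).factorization p ≤ Cfsg.blockDefect p B := by
    rw [← he]
    exact (Nat.factorization_le_iff_dvd Nat.card_pos.ne' Nat.card_pos.ne').mpr
      (Subgroup.card_dvd_of_le hZC) p
  have hfac : Z.index.factorization p = (Cfsg.charDegree (η : G → ℂ)).factorization p := by
    rw [(CfsgLib.Blocks.blockHeight_eq_zero_iff hM hB hη).mp hη0, ← Subgroup.card_mul_index Z,
      Nat.factorization_mul Nat.card_pos.ne' Z.index_ne_zero_of_finite, Finsupp.add_apply]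
    omega
  have hu := CfsgLib.Blocks.unit_natCast_div hM (a := Z.index) Z.index_ne_zero_of_finite
    (CfsgLib.Blocks.irr_degree_eq η).2.ne' hfac
  rw [Cfsg.centralChar, mul_div_right_comm, (CfsgLib.Blocks.irr_degree_eq η).1] at hc'
  exact (CfsgLib.Blocks.memLocalIdeal_or_of_mul hu.1
    (CfsgLib.Blocks.memLocalRing_of_isIntegral (CfsgLib.Blocks.irr_isIntegral η.2 _)) hc').elim hu.2
    (hmem η hη hη0)
end Cfsg.Agent.S0927
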