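import Cfsg.Statements.S0928
import Cfsg.Agent.Lib.Blocks.Defect
import Cfsg.Agent.Lib.Char.Central

set_option autoImplicit false
open Cfsg

namespace Cfsg.Agent.S0928

open scoped CfsgLib.Char

theorem exists_modular {p : ℕ} (hp : p.Prime) : ∃ M : Ideal AlgInt, IsPModular p M := by
  have hne : Ideal.span {(p : AlgInt)} ≠ ⊤ := by
    intro h
    obtain ⟨u, hu⟩ := Ideal.mem_span_singleton'.mp ((Ideal.eq_top_iff_one _).mp h)
    have h1 : (u : ℂ) * (p : ℂ) = 1 := by
      simpa using congrArg (Subtype.val : AlgInt → ℂ) hu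
    have h2 : (u : ℂ) = algebraMap ℚ ℂ ((p : ℚ)⁻¹) := by
      rw [map_inv₀, map_natCast]
      exact eq_inv_of_mul_eq_one_left h1
    have hint : IsIntegral ℤ ((p : ℚ)⁻¹) :=
      (isIntegral_algebraMap_iff (algebraMap ℚ ℂ).injective).mp (h2 ▸ u.2)
    obtain ⟨n, hn⟩ := IsIntegrallyClosed.isIntegral_iff.mp hint
    simp only [algebraMap_int_eq, eq_intCast] at hn
    have h3 : ((n * p : ℤ) : ℚ) = ((1 : ℤ) : ℚ) := by
      push_cast
      rw [hn, inv_mul_cancel₀ (Nat.cast_ne_zero.mpr hp.ne_zero)]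
    have h4 : (p : ℤ) ∣ 1 := ⟨n, by rw [mul_comm]; exact_mod_cast h3.symm⟩
    exact hp.one_lt.ne' (Nat.dvd_one.mp (by exact_mod_cast h4))
  obtain ⟨M, hM, hle⟩ := Ideal.exists_le_maximal _ hne
  exact ⟨M, hp, hM, hle (Ideal.mem_span_singleton_self _)⟩

theorem conv_mem {G : Type*} [Group G] [Fintype G] [DecidableEq G] {p : ℕ} [Fact p.Prime] {M : Ideal AlgInt}
    (hM : IsPModular p M) {g : G} (z : G) (hz : orderOf z = p) (hzg : z * g = g * z)
    {s : G → ℂ} (hs : ∀ x, s x = if x ^ p = 1 then 1 else 0) (hsl : ∀ x, MemLocalRing M (s x)) :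
    MemLocalIdeal M (CfsgLib.Blocks.conv s s g) := by
  classical
  haveI : M.IsPrime := CfsgLib.Blocks.isPrime_of_isPModular hM
  have hQ : IsPGroup p (Subgroup.zpowers z) :=
    IsPGroup.of_card (n := 1) (by rw [Nat.card_zpowers, hz, pow_one])
  have hzp : z ^ p = 1 := hz ▸ pow_orderOf_eq_one z
  have hqg : ∀ q : Subgroup.zpowers z, Commute (q : G) g := fun q => by
    obtain ⟨i, hi⟩ := Subgroup.mem_zpowers_iff.mp q.2
    rw [← hi]
    exact Commute.zpow_left hzg i
  have hqp : ∀ q : Subgroup.zpowers z, (q : G) ^ p = 1 := fun q => by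
    obtain ⟨i, hi⟩ := Subgroup.mem_zpowers_iff.mp q.2
    rw [← hi, ← zpow_natCast, ← zpow_mul, mul_comm, zpow_mul, zpow_natCast, hzp, one_zpow]
  have hf : ∀ x, MemLocalRing M (s x * s (x⁻¹ * g)) := fun x =>
    CfsgLib.Blocks.memLocalRing_mul (hsl _) (hsl _)
  rw [CfsgLib.Blocks.conv, ← Finset.sum_filter_add_sum_filter_not Finset.univ
    (fun x => Commute z x)]
  refine CfsgLib.Blocks.memLocalIdeal_add ?_ ?_ <;> rw [Finset.sum_filter]
  · -- free action by left multiplication
    letI : MulAction (Subgroup.zpowers z) G :=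
      MulAction.compHom G (Subgroup.zpowers z).subtype
    refine CfsgLib.Blocks.memLocalIdeal_sum_of_fixedPoint_zero hM hQ (fun x => ?_) (fun q x => ?_)
      fun x hx => ?_
    · split
      exacts [hf x, CfsgLib.Blocks.memLocalRing_zero]
    · show (if Commute z ((q : G) * x) then s ((q : G) * x) * s (((q : G) * x)⁻¹ * g) else 0) = _
      have hzq : Commute z (q : G) := by
        obtain ⟨i, hi⟩ := Subgroup.mem_zpowers_iff.mp q.2
        rw [← hi]
        exact Commute.zpow_right (Commute.refl z) i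
      by_cases hc : Commute z x
      · have hqx : Commute (q : G) x := by
          obtain ⟨i, hi⟩ := Subgroup.mem_zpowers_iff.mp q.2
          rw [← hi]
          exact Commute.zpow_left hc i
        rw [if_pos hc, if_pos (hzq.mul_right hc)]
        congr 1
        · rw [hs, hs, hqx.mul_pow, hqp, one_mul]
        · have h1 : Commute (x⁻¹ * g) (q : G)⁻¹ :=
            ((hqx.symm.inv_left).mul_left (hqg q).symm).inv_right
          have e : ((q : G) * x)⁻¹ * g = x⁻¹ * g * (q : G)⁻¹ := by
            rw [mul_inv_rev, mul_assoc, ((hqg q).inv_left).eq, ← mul_assoc]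
          rw [hs, hs, e, h1.mul_pow, inv_pow, hqp, inv_one, mul_one]
      · rw [if_neg hc, if_neg fun h => hc ?_]
        simpa using (hzq.inv_right).mul_right h
    · have h1 : z * x = x := hx ⟨z, Subgroup.mem_zpowers z⟩
      exact absurd (mul_eq_right.mp h1) fun h => (Fact.out : p.Prime).ne_one (by rw [← hz, h, orderOf_one])
  · -- conjugation has no fixed point off the centralizer
    letI : MulAction (Subgroup.zpowers z) G :=
      MulAction.compHom G ((MulAut.conj : G →* MulAut G).comp (Subgroup.zpowers z).subtype)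
    refine CfsgLib.Blocks.memLocalIdeal_sum_of_fixedPoint_zero hM hQ (fun x => ?_) (fun q x => ?_)
      fun x hx => ?_
    · split
      exacts [hf x, CfsgLib.Blocks.memLocalRing_zero]
    · show (if ¬ Commute z ((q : G) * x * (q : G)⁻¹) then
        s ((q : G) * x * (q : G)⁻¹) * s (((q : G) * x * (q : G)⁻¹)⁻¹ * g) else 0) = _
      have hzq : Commute z (q : G) := by
        obtain ⟨i, hi⟩ := Subgroup.mem_zpowers_iff.mp q.2
        rw [← hi]
        exact Commute.zpow_right (Commute.refl z) i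
      have hiff : Commute z ((q : G) * x * (q : G)⁻¹) ↔ Commute z x := by
        refine ⟨fun h => ?_, fun h => (hzq.mul_right h).mul_right hzq.inv_right⟩
        simpa [mul_assoc] using ((hzq.inv_right).mul_right h).mul_right hzq
      refine if_congr (not_congr hiff) ?_ rfl
      congr 1
      · rw [hs, hs, conj_pow]
        exact if_congr conj_eq_one_iff rfl rfl
      · have e : ((q : G) * x * (q : G)⁻¹)⁻¹ * g = (q : G) * (x⁻¹ * g) * (q : G)⁻¹ := by
          simp only [mul_inv_rev, inv_inv, mul_assoc]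
          rw [((hqg q).inv_left).eq]
        rw [hs, hs, e, conj_pow]
        exact if_congr conj_eq_one_iff rfl rfl
    · have h1 : z * x * z⁻¹ = x := hx ⟨z, Subgroup.mem_zpowers z⟩
      exact if_neg (not_not.mpr (mul_inv_eq_iff_eq_mul.mp h1))


/-- Let χ be an irreducible character of the finite group G and p a prime. If χ g = 0 for every element g of order p, then the exponent of p in the degree χ(1) equals the exponent of p in the order of G (χ has p-defect zero). -/
theorem result {G : Type*} [Group G] [Finite G] (p : ℕ) [Fact p.Prime] (χ : Cfsg.IrrCharacter G) (hvan : ∀ g : G, orderOf g = p → (χ : G → ℂ) g = 0) : (Cfsg.charDegree (χ : G → ℂ)).factorization p = (Nat.card G).factorization p := by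
  classical
  have := Fintype.ofFinite G
  have hp : p.Prime := Fact.out
  obtain ⟨M, hM⟩ := exists_modular hp
  haveI : M.IsPrime := CfsgLib.Blocks.isPrime_of_isPModular hM
  haveI : Fintype (ConjClasses G) := Fintype.ofFinite _
  obtain ⟨hdeg, hdpos⟩ := CfsgLib.Blocks.irr_degree_eq χ
  obtain ⟨d, hd⟩ : ∃ d, d = charDegree (χ : G → ℂ) := ⟨_, rfl⟩
  rw [← hd] at hdeg hdpos ⊢
  by_contra hne
  obtain ⟨s, hs⟩ : ∃ s : G → ℂ, s = fun x => if x ^ p = 1 then 1 else 0 := ⟨_, rfl⟩
  have hsc : IsClassFunction G s := fun a b => by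
    simp only [hs, conj_pow]
    exact if_congr conj_eq_one_iff rfl rfl
  have hsl : ∀ x, MemLocalRing M (s x) := fun x => by
    simp only [hs]; split
    exacts [CfsgLib.Blocks.memLocalRing_one, CfsgLib.Blocks.memLocalRing_zero]
  have hχ1 : (χ : G → ℂ) 1 ≠ 0 := CfsgLib.Char.irr_degree_ne_zero χ.2
  have homega : CfsgLib.Blocks.omega (χ : G → ℂ) s = 1 := by
    rw [CfsgLib.Blocks.omega, Finset.sum_eq_single_of_mem (1 : G) (Finset.mem_univ _)]
    · simp [hs, hχ1]
    · intro x _ hx
      by_cases hxp : x ^ p = 1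
      · rw [hvan x (orderOf_eq_prime hxp hx), mul_zero]
      · simp [hs, hxp]
  have h2 := CfsgLib.Blocks.omega_conv χ hsc hsc
  rw [homega, one_mul, CfsgLib.Blocks.omega_eq_sum_classes χ
    (CfsgLib.Blocks.isClassFunction_conv hsc hsc)] at h2
  refine CfsgLib.Blocks.not_memLocalIdeal_one (M := M)
    (h2 ▸ CfsgLib.Blocks.memLocalIdeal_sum _ _ fun c _ => ?_)
  obtain ⟨g, hg⟩ : ∃ g : G, g = Quotient.out c := ⟨_, rfl⟩
  rw [← hg]
  by_cases hpg : p ∣ Nat.card ↥(Subgroup.centralizer ({g} : Set G))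
  · refine CfsgLib.Blocks.memLocalIdeal_mul_right ?_ (CfsgLib.Blocks.memLocalRing_centralChar χ g)
    obtain ⟨⟨z, hzg⟩, hz⟩ := exists_prime_orderOf_dvd_card' p hpg
    rw [Subgroup.orderOf_mk] at hz
    exact conv_mem hM z hz (Subgroup.mem_centralizer_singleton_iff.mp hzg)
      (fun x => by simp only [hs]) hsl
  · refine CfsgLib.Blocks.memLocalIdeal_mul_left ?_ ?_
    · exact CfsgLib.Blocks.memLocalRing_sum _ _ fun x _ =>
        CfsgLib.Blocks.memLocalRing_mul (hsl _) (hsl _)
    · obtain ⟨C, hC⟩ : ∃ C, C = Subgroup.centralizer ({g} : Set G) := ⟨_, rfl⟩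
      rw [← hC] at hpg
      obtain ⟨i, hi⟩ : ∃ i, i = C.index := ⟨_, rfl⟩
      have hi0 : i ≠ 0 := hi ▸ C.index_ne_zero_of_finite
      obtain ⟨a, ha⟩ : ∃ a, a = (Nat.card G).factorization p := ⟨_, rfl⟩
      rw [← ha] at hne
      have hia : p ^ a ∣ i := by
        have h1 : p ^ a ∣ Nat.card ↥C * i := by
          rw [hi, C.card_mul_index, ha]; exact Nat.ordProj_dvd _ _
        exact (Nat.Coprime.pow_left a (hp.coprime_iff_not_dvd.mpr hpg)).dvd_of_dvd_mul_left h1
      have hdvd : d.factorization p ≤ a := by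
        rw [ha, hd]
        obtain ⟨n, hn, -, hndvd⟩ := CfsgLib.Char.exists_degree_dvd_card χ.2
        have hdn : d = n := by exact_mod_cast hdeg.symm.trans hn
        exact (Nat.factorization_le_iff_dvd (hd ▸ hdpos.ne') Nat.card_pos.ne').mpr
          (hd ▸ hdn ▸ hndvd) p
      obtain ⟨k, hk⟩ := (pow_dvd_pow p (show d.factorization p + 1 ≤ a by omega)).trans hia
      have he := Nat.not_dvd_ordCompl hp hdpos.ne'
      have hde := Nat.ordProj_mul_ordCompl_eq_self d p
      obtain ⟨m, hm⟩ : ∃ m, m = d / p ^ d.factorization p := ⟨_, rfl⟩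
      rw [← hm] at he hde
      obtain ⟨e, hexp⟩ : ∃ e, e = d.factorization p := ⟨_, rfl⟩
      rw [← hexp] at hk hde
      have hmem : MemLocalIdeal M ((p : ℂ) * ((k : ℂ) * (χ : G → ℂ) g * (m : ℂ)⁻¹)) :=
        CfsgLib.Blocks.memLocalIdeal_mul_right (CfsgLib.Blocks.memLocalIdeal_p hM)
          (CfsgLib.Blocks.memLocalRing_mul (CfsgLib.Blocks.memLocalRing_mul
            (CfsgLib.Blocks.memLocalRing_natCast k)
            (CfsgLib.Blocks.memLocalRing_of_isIntegral (CfsgLib.Blocks.irr_isIntegral χ.2 g)))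
            (CfsgLib.Blocks.memLocalRing_natCast_inv hM he))
      convert hmem using 1
      have hm0 : (m : ℂ) ≠ 0 := Nat.cast_ne_zero.mpr fun h => he (h ▸ dvd_zero p)
      have hp0 : (p : ℂ) ≠ 0 := Nat.cast_ne_zero.mpr hp.ne_zero
      rw [centralChar, ← hC, ← hi, hk, hdeg, ← hde]
      push_cast
      field_simp
      ring
end Cfsg.Agent.S0928
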