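import Cfsg.Statements.S0929
import Cfsg.Agent.Lib.Blocks.MainFirst
import Cfsg.Agent.Lib.Blocks.MainSecond

set_option autoImplicit false
open Cfsg

namespace Cfsg.Agent.S0929

/-- Let B be a block of the finite group G with defect group P (relative to a maximal ideal M of the algebraic integers containing p), and let g be an element at which the central character of some member of B is not in the local ideal at M. Then some conjugate x of g centralizes P and has its p-part in the centre of P. -/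
theorem result {G : Type*} [Group G] [Finite G] (p : ℕ) [Fact p.Prime] (M : Ideal Cfsg.AlgInt) (hM : Cfsg.IsPModular p M) (B : Set (Cfsg.IrrCharacter G)) (hB : Cfsg.IsPBlock M B) (P : Subgroup G) (hP : Cfsg.IsDefectGroup p M B P) (g : G) (hg : ∃ χ ∈ B, ¬ Cfsg.MemLocalIdeal M (Cfsg.centralChar (χ : G → ℂ) g)) : ∃ x : G, IsConj g x ∧ x ∈ Subgroup.centralizer (P : Set G) ∧ ∀ z : G, Cfsg.IsPPart p x z → z ∈ P ∧ ∀ w ∈ P, z * w = w * z := by
  classical
  have := Fintype.ofFinite G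
  have := CfsgLib.Blocks.isPrime_of_isPModular hM
  open CfsgLib.Blocks in
  have hPp := IsDefectGroup.isPGroup hM hP
  obtain ⟨b, ⟨hb, hbd, hind⟩, -⟩ := (CfsgLib.Blocks.first_main_theorem hM hPp).2 B hB hP
  set H := Subgroup.normalizer (P : Set G)
  have := Fintype.ofFinite H
  obtain ⟨χ, hχ, hu⟩ := hg
  obtain ⟨ξ, hξ⟩ := CfsgLib.Blocks.IsPBlock.nonempty hb
  have hc := (CfsgLib.Blocks.isInducedBlock_iff_brauer hM hPp Subgroup.le_normalizer le_rfl hb hB).mp
    hind ξ hξ χ hχ g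
  rw [← CfsgLib.Blocks.omega_brauerFun_classInd] at hc
  have hne : CfsgLib.Blocks.omega (ξ : H → ℂ)
      (CfsgLib.Blocks.brauerFun P H (CfsgLib.Blocks.classInd g)) ≠ 0 := fun h0 => hu
    ((CfsgLib.Blocks.memLocalIdeal_iff_of_sub hc).mp (h0 ▸ CfsgLib.Blocks.memLocalIdeal_zero))
  rw [CfsgLib.Blocks.omega, div_ne_zero_iff] at hne
  obtain ⟨k, -, hk⟩ := Finset.exists_ne_zero_of_sum_ne_zero hne.1
  rw [mul_ne_zero_iff] at hk
  have hkC : (k : G) ∈ Subgroup.centralizer (P : Set G) := by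
    by_contra h
    exact hk.1 (CfsgLib.Blocks.brauerFun_of_notMem h)
  have hgk : IsConj g (k : G) := by
    by_contra h
    rw [CfsgLib.Blocks.brauerFun_of_mem hkC] at hk
    exact hk.1 (if_neg h)
  refine ⟨k, hgk, hkC, fun z hz => ?_⟩
  obtain ⟨zH, hzH, hzpow⟩ := CfsgLib.Blocks.exists_isPPart hM.1 k
  have hzG : IsPPart p (k : G) (zH : G) := by
    obtain ⟨y, h1, h2, ⟨e, h3⟩, h4⟩ := hzH
    exact ⟨y, by rw [← h1, Subgroup.coe_mul], h2.map H.subtype,
      ⟨e, by rw [Subgroup.orderOf_coe, h3]⟩, by rwa [Subgroup.orderOf_coe]⟩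
  obtain rfl := CfsgLib.Blocks.IsPPart.unique hM.1 hz hzG
  have : (P.subgroupOf H).Normal := Subgroup.normal_in_normalizer
  refine ⟨?_, fun w hw => ?_⟩
  · by_contra hnot
    refine hk.2 (CfsgLib.Blocks.value_eq_zero_of_not_mem_defectGroup hM hzH fun D hD hmem => hnot ?_)
    rw [← CfsgLib.Blocks.IsPBlock.eq_blockOf hb hξ] at hD
    obtain ⟨x, rfl⟩ := CfsgLib.Blocks.IsDefectGroup.exists_conj_eq hM hb hbd hD
    obtain ⟨d, hd, hdz⟩ := hmem
    rw [← hdz]
    exact Subgroup.mem_subgroupOf.mp (Subgroup.Normal.conj_mem this d hd x)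
  · obtain ⟨n, hn⟩ := Subgroup.mem_zpowers_iff.mp hzpow
    rw [← hn, Subgroup.coe_zpow]
    exact ((Commute.symm (hkC w hw : Commute w (k : G))).zpow_left n).eq
end Cfsg.Agent.S0929
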