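import Cfsg.Statements.S0931
import Cfsg.Agent.Lib.Blocks.CenterDefect

set_option autoImplicit false
open Cfsg

namespace Cfsg.Agent.S0931

open CfsgLib CfsgLib.Blocks
open scoped ComplexConjugate CfsgLib.Char

/-- Let H be a subgroup of the finite group G and fix a maximal ideal M of the algebraic integers containing the prime p. If the block b of H induces the block B of G, then b has defect 0 if and only if B has defect 0. -/
theorem result {G : Type*} [Group G] [Finite G] (p : ℕ) [Fact p.Prime] (M : Ideal Cfsg.AlgInt) (hM : Cfsg.IsPModular p M) (H : Subgroup G) (b : Set (Cfsg.IrrCharacter H)) (B : Set (Cfsg.IrrCharacter G)) (hind : Cfsg.IsInducedBlock M H b B) : Cfsg.blockDefect p b = 0 ↔ Cfsg.blockDefect p B = 0 := by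
  classical
  have : Fintype G := Fintype.ofFinite G
  have : Fintype H := Fintype.ofFinite H
  obtain ⟨hb, hB, -⟩ := id hind
  obtain ⟨D, hD⟩ := exists_isDefectGroup hM hb
  constructor
  · intro h0
    obtain ⟨P, hP⟩ := exists_isDefectGroup hM hB
    have hDbot : D = ⊥ := Subgroup.eq_bot_of_card_eq D (by
      rw [IsDefectGroup.card_eq hM hb hD, h0, pow_zero])
    by_contra hne
    have hPp := IsDefectGroup.isPGroup hM hP
    have : Nontrivial P := Finite.one_lt_card_iff_nontrivial.mp (by
      rw [IsDefectGroup.card_eq hM hB hP]; exact Nat.one_lt_pow hne hM.1.one_lt)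
    have := hPp.center_nontrivial
    obtain ⟨z, hz⟩ := exists_ne (1 : Subgroup.center P)
    obtain ⟨g, hg, -⟩ := exists_conj_mem_center_of_induced hM hind hD hP (x := ((z : P) : G))
      (z : P).2 fun w hw => congrArg Subtype.val (Subgroup.mem_center_iff.mp z.2 ⟨w, hw⟩).symm
    rw [hDbot, Subgroup.map_bot, Subgroup.mem_bot] at hg
    refine hz (Subtype.ext (Subtype.ext ?_))
    have : g⁻¹ * (g * ((z : P) : G) * g⁻¹) * g = ((z : P) : G) := by group
    rw [← this, hg]
    simp
  · intro h0
    obtain ⟨E, hE, hDE⟩ := IsInducedBlock.exists_defectGroup_le hM hind hD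
    have hle := Subgroup.card_le_of_le hDE
    rw [Subgroup.card_map_of_injective (Subgroup.subtype_injective _),
      IsDefectGroup.card_eq hM hb hD, IsDefectGroup.card_eq hM hB hE, h0] at hle
    exact Nat.le_zero.mp ((Nat.pow_le_pow_iff_right hM.1.one_lt).mp hle)
end Cfsg.Agent.S0931
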