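import Cfsg.Statements.S0939
import Cfsg.Agent.Lib.Blocks.KernelBlock

set_option autoImplicit false
open Cfsg

namespace Cfsg.Agent.S0939

/-- Let G be a finite group with a normal p-complement (the largest normal subgroup O_p'(G) of order prime to p has p-power index). Then, relative to any maximal ideal M of the algebraic integers containing p, the principal block of G is the set of irreducible characters χ with χ n = χ 1 for every n ∈ O_p'(G). -/
theorem result {G : Type*} [Group G] [Finite G] (p : ℕ) [Fact p.Prime] (M : Ideal Cfsg.AlgInt) (hM : Cfsg.IsPModular p M) (hnc : ∃ k : ℕ, (Cfsg.pPrimeCore p G).index = p ^ k) : Cfsg.principalBlock M G = {χ : Cfsg.IrrCharacter G | ∀ n ∈ Cfsg.pPrimeCore p G, (χ : G → ℂ) n = (χ : G → ℂ) 1} := by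
  classical
  have := Fintype.ofFinite G
  have := CfsgLib.Blocks.isPrime_of_isPModular hM
  obtain ⟨k, hk⟩ := hnc
  set O := Cfsg.pPrimeCore p G
  have : O.Normal := CfsgLib.SelfCent.pPrimeCore_normal' p
  refine Set.ext fun χ => ⟨fun hχ => CfsgLib.Blocks.trivial_on_of_mem_principalBlock hM O
    (CfsgLib.Blocks.not_dvd_card_pPrimeCore hM.1) hχ, fun hχ => ?_⟩
  obtain ⟨η, hη⟩ := CfsgLib.Blocks.exists_inflate_eq_of_ker O χ hχ
  have := Fintype.ofFinite (G ⧸ O)
  have hP : IsPGroup p (G ⧸ O) := IsPGroup.of_card (by rw [← Subgroup.index_eq_card, hk])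
  have h := CfsgLib.Blocks.sameBlock_inflate (QuotientGroup.mk' O) (QuotientGroup.mk'_surjective O)
    (CfsgLib.Blocks.sameBlock_of_isPGroup hM hP (CfsgLib.Blocks.trivIrr (G ⧸ O)) η)
  rw [← hη] at h
  exact h
end Cfsg.Agent.S0939
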