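import Cfsg.Statements.S0940
import Cfsg.Agent.Lib.Blocks.Reynolds

set_option autoImplicit false
open Cfsg
open scoped CfsgLib.Char

namespace Cfsg.Agent.S0940

/-- Let G be a finite group and M a maximal ideal of the algebraic integers containing the prime p. For every p-regular g, the idempotent coefficient of the principal block at g (the inverse of the group order times the sum over χ in the principal block of χ 1 * conj (χ g)) is congruent modulo the local ideal at M to N / R, where N is the number of pairs (x, y) with x of p-power order, y of order prime to p and x * y = g, and R is the number of elements of G of order prime to p. -/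
theorem result {G : Type*} [Group G] [Finite G] (p : ℕ) [Fact p.Prime] (M : Ideal Cfsg.AlgInt) (hM : Cfsg.IsPModular p M) (g : G) (hg : ¬ p ∣ orderOf g) : Cfsg.MemLocalIdeal M (Cfsg.blockCoeff (Cfsg.principalBlock M G) g - (Nat.card {xy : G × G // (∃ k : ℕ, orderOf xy.1 = p ^ k) ∧ ¬ p ∣ orderOf xy.2 ∧ xy.1 * xy.2 = g} : ℂ) / (Nat.card {y : G // ¬ p ∣ orderOf y} : ℂ)) := by
  classical
  have := Fintype.ofFinite G
  haveI : M.IsPrime := CfsgLib.Blocks.isPrime_of_isPModular hM
  have hp : p.Prime := Fact.out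
  obtain ⟨B, hB⟩ : ∃ B, B = Cfsg.principalBlock M G := ⟨_, rfl⟩
  rw [← hB]
  have hBB : IsPBlock M B := hB ▸ CfsgLib.Blocks.isPBlock_principalBlock
  have hBU := CfsgLib.Blocks.IsPBlock.isBlockUnion hBB
  have h1B : CfsgLib.Blocks.trivIrr G ∈ B := by
    rw [hB, CfsgLib.Blocks.principalBlock_eq]
    exact CfsgLib.Blocks.mem_blockOf_self (CfsgLib.Blocks.trivIrr G)
  obtain ⟨r, hr⟩ : ∃ r : G → ℂ, r = CfsgLib.Blocks.regPart p (fun _ : G => (1 : ℂ)) := ⟨_, rfl⟩
  have hrc : IsClassFunction G r := hr ▸ CfsgLib.Blocks.isClassFunction_regPart (fun _ _ => rfl)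
  have hr1 : ∀ x : G, r x = if ¬ p ∣ orderOf x then 1 else 0 := fun x => by
    subst hr
    by_cases hx : Cfsg.IsPRegular p x
    · rw [CfsgLib.Blocks.regPart_of_regular hx]; exact (if_pos hx).symm
    · rw [CfsgLib.Blocks.regPart_of_singular hx]; exact (if_neg hx).symm
  have hrl : ∀ x, MemLocalRing M (r x) := fun x => by
    rw [hr1]; split
    exacts [CfsgLib.Blocks.memLocalRing_one, CfsgLib.Blocks.memLocalRing_zero]
  obtain ⟨c, hc⟩ : ∃ c, c = Nat.card {y : G // ¬ p ∣ orderOf y} := ⟨_, rfl⟩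
  rw [← hc]
  have hsum : ∑ x, r x = (c : ℂ) := by
    simp only [hr1, hc, Finset.sum_boole, Nat.card_eq_fintype_card, Fintype.card_subtype]
  have hω1 : CfsgLib.Blocks.omega (CfsgLib.Blocks.trivIrr G : G → ℂ) r = (c : ℂ) := by
    simp [CfsgLib.Blocks.omega, CfsgLib.Blocks.trivIrr, hsum]
  haveI : Fintype (ConjClasses G) := Fintype.ofFinite _
  have hω : ∀ χ : IrrCharacter G, MemLocalIdeal M
      (CfsgLib.Blocks.omega (χ : G → ℂ) r - (c : ℂ) * CfsgLib.Blocks.indVec B χ) := by
    intro χ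
    by_cases hχ : χ ∈ B
    · rw [CfsgLib.Blocks.indVec_of_mem hχ, mul_one, ← hω1,
        CfsgLib.Blocks.omega_eq_sum_classes χ hrc, CfsgLib.Blocks.omega_eq_sum_classes _ hrc,
        ← Finset.sum_sub_distrib]
      refine CfsgLib.Blocks.memLocalIdeal_sum _ _ fun k _ => ?_
      rw [← mul_sub]
      exact CfsgLib.Blocks.memLocalIdeal_mul_left (hrl _)
        (CfsgLib.Blocks.IsPBlock.sameBlock hBB hχ h1B _)
    · rw [CfsgLib.Blocks.indVec_of_notMem hχ, mul_zero, sub_zero]
      have h := congrArg (starRingEnd ℂ)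
        (CfsgLib.Blocks.classInner_regPart_eq_zero hM hBU h1B hχ)
      simp only [classInner, map_mul, map_zero, mul_eq_zero, map_sum, Complex.conj_conj,
        map_inv₀, map_natCast, inv_eq_zero, Nat.cast_eq_zero, Nat.card_pos.ne', false_or] at h
      refine (?_ : CfsgLib.Blocks.omega (χ : G → ℂ) r = 0) ▸ CfsgLib.Blocks.memLocalIdeal_zero
      rw [CfsgLib.Blocks.omega, div_eq_zero_iff]
      left
      rw [← h]
      refine Finset.sum_congr rfl fun x _ => ?_
      rw [hr]
      by_cases hx : Cfsg.IsPRegular p x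
      · simp [CfsgLib.Blocks.regPart_of_regular hx, CfsgLib.Blocks.trivIrr]
      · simp [CfsgLib.Blocks.regPart_of_singular hx]
  obtain ⟨z, hz⟩ : ∃ z : G → ℂ, z = fun x => r x - (c : ℂ) * Cfsg.blockCoeff B x := ⟨_, rfl⟩
  have hzc : IsClassFunction G z := fun x b => by
    simp only [hz, hrc x b, CfsgLib.Blocks.isClassFunction_blockCoeff B x b]
  have hzl : ∀ x, MemLocalRing M (z x) := fun x => by
    rw [hz]
    exact CfsgLib.Blocks.memLocalRing_sub (hrl x) (CfsgLib.Blocks.memLocalRing_mul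
      (CfsgLib.Blocks.memLocalRing_natCast c) (CfsgLib.Blocks.IsPBlock.memLocalRing_blockCoeff hBB x))
  have hzω : ∀ χ : IrrCharacter G, MemLocalIdeal M (CfsgLib.Blocks.omega (χ : G → ℂ) z) := by
    intro χ
    convert hω χ using 1
    rw [← CfsgLib.Blocks.omega_blockCoeff B χ]
    simp only [CfsgLib.Blocks.omega, hz, sub_mul, mul_assoc, Finset.sum_sub_distrib,
      ← Finset.mul_sum, sub_div, mul_div_assoc]
  have key : ∀ x : G, ¬ p ∣ orderOf x → MemLocalIdeal M
      (CfsgLib.Blocks.conv (CfsgLib.Blocks.pInd p) r x - (c : ℂ) * Cfsg.blockCoeff B x) := by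
    intro x hx
    convert CfsgLib.Blocks.memLocalIdeal_conv_pInd hM hzc hzl hzω x using 1
    rw [← CfsgLib.Blocks.conv_pInd_blockCoeff hM hBU hx]
    simp only [CfsgLib.Blocks.conv, hz, mul_sub, Finset.sum_sub_distrib, Finset.mul_sum]
    congr 1
    exact Finset.sum_congr rfl fun y _ => by ring
  have hcp : ¬ p ∣ c := by
    intro hdvd
    have h := key 1 (by simp [hp.one_lt.ne'])
    have h1 : CfsgLib.Blocks.conv (CfsgLib.Blocks.pInd p) r (1 : G) = 1 := by
      rw [CfsgLib.Blocks.conv, Finset.sum_eq_single_of_mem (1 : G) (Finset.mem_univ _)]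
      · rw [CfsgLib.Blocks.pInd_of_pElement ⟨0, by simp⟩, hr1]
        simp [hp.one_lt.ne']
      · intro y _ hy
        by_cases hyp : ∃ k : ℕ, orderOf y = p ^ k
        · obtain ⟨k, hk⟩ := hyp
          rw [hr1, mul_one, orderOf_inv, hk, if_neg, mul_zero]
          exact not_not.mpr (dvd_pow_self p fun h0 =>
            hy (orderOf_eq_one_iff.mp (by rw [hk, h0, pow_zero])))
        · rw [CfsgLib.Blocks.pInd_of_not hyp, zero_mul]
    rw [h1] at h
    have h2 := CfsgLib.Blocks.memLocalIdeal_add h (CfsgLib.Blocks.memLocalIdeal_mul_right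
      ((CfsgLib.Blocks.memLocalIdeal_natCast_iff hM).mpr hdvd)
      (CfsgLib.Blocks.IsPBlock.memLocalRing_blockCoeff hBB (1 : G)))
    rw [sub_add_cancel] at h2
    exact CfsgLib.Blocks.not_memLocalIdeal_one h2
  have hN : CfsgLib.Blocks.conv (CfsgLib.Blocks.pInd p) r g =
      (Nat.card {xy : G × G // (∃ k : ℕ, orderOf xy.1 = p ^ k) ∧ ¬ p ∣ orderOf xy.2 ∧
        xy.1 * xy.2 = g} : ℂ) := by
    have e : {xy : G × G // (∃ k : ℕ, orderOf xy.1 = p ^ k) ∧ ¬ p ∣ orderOf xy.2 ∧
        xy.1 * xy.2 = g} ≃ {x : G // (∃ k : ℕ, orderOf x = p ^ k) ∧ ¬ p ∣ orderOf (x⁻¹ * g)} :=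
      { toFun := fun w => ⟨w.1.1, w.2.1, by
          rw [inv_mul_eq_iff_eq_mul.mpr w.2.2.2.symm]; exact w.2.2.1⟩
        invFun := fun x => ⟨(x.1, x.1⁻¹ * g), x.2.1, x.2.2, mul_inv_cancel_left _ _⟩
        left_inv := fun w => Subtype.ext (Prod.ext rfl (by
          exact inv_mul_eq_iff_eq_mul.mpr w.2.2.2.symm))
        right_inv := fun _ => rfl }
    rw [Nat.card_congr e, Nat.card_eq_fintype_card, Fintype.card_subtype, ← Finset.sum_boole,
      CfsgLib.Blocks.conv]
    refine Finset.sum_congr rfl fun x _ => ?_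
    rw [hr1]
    by_cases hx : ∃ k : ℕ, orderOf x = p ^ k
    · rw [CfsgLib.Blocks.pInd_of_pElement hx, one_mul]
      exact if_congr ⟨fun h => ⟨hx, h⟩, fun h => h.2⟩ rfl rfl
    · rw [CfsgLib.Blocks.pInd_of_not hx, zero_mul, if_neg fun h => hx h.1]
  have h := CfsgLib.Blocks.memLocalIdeal_mul_left
    (CfsgLib.Blocks.memLocalRing_natCast_inv hM hcp) (hN ▸ key g hg)
  convert CfsgLib.Blocks.memLocalIdeal_neg h using 1
  have hc0 : (c : ℂ) ≠ 0 := Nat.cast_ne_zero.mpr fun h => hcp (h ▸ dvd_zero p)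
  field_simp
  ring
end Cfsg.Agent.S0940
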