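import Cfsg.Statements.S0941
import Cfsg.Agent.Lib.Blocks.Defect
import Cfsg.Agent.Lib.Blocks.KernelBlock
import Cfsg.Agent.Lib.Blocks.Osima
import Cfsg.Agent.Lib.Blocks.PPart
import Cfsg.Agent.Lib.Blocks.RegPart

set_option autoImplicit false
open Cfsg

namespace Cfsg.Agent.S0941

open CfsgLib CfsgLib.Blocks
open scoped ComplexConjugate CfsgLib.Char

/-- Let P be a normal p-subgroup of the finite group G such that the index of C_G(P) is a power of p, and fix a maximal ideal M of the algebraic integers containing p. Then (i) two irreducible characters of G ⧸ P lie in the same block if and only if their inflations to G do, and (ii) every block of G contains the inflation of some irreducible character of G ⧸ P; so inflation induces a bijection between the blocks of G ⧸ P and the blocks of G. -/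
theorem result {G : Type*} [Group G] [Finite G] (p : ℕ) [Fact p.Prime] (M : Ideal Cfsg.AlgInt) (hM : Cfsg.IsPModular p M) (P : Subgroup G) [P.Normal] (hP : IsPGroup p P) (hC : ∃ k : ℕ, (Subgroup.centralizer (P : Set G)).index = p ^ k) : (∀ χ ψ : Cfsg.IrrCharacter (G ⧸ P), Cfsg.SameBlock M (χ : G ⧸ P → ℂ) (ψ : G ⧸ P → ℂ) ↔ Cfsg.SameBlock M ((χ : G ⧸ P → ℂ) ∘ QuotientGroup.mk) ((ψ : G ⧸ P → ℂ) ∘ QuotientGroup.mk)) ∧ ∀ B : Set (Cfsg.IrrCharacter G), Cfsg.IsPBlock M B → ∃ χ : Cfsg.IrrCharacter (G ⧸ P), ∃ θ ∈ B, (θ : G → ℂ) = (χ : G ⧸ P → ℂ) ∘ QuotientGroup.mk := by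
  classical
  have : Fintype G := Fintype.ofFinite G
  have : Fintype (G ⧸ P) := Fintype.ofFinite _
  have := isPrime_of_isPModular hM
  set π := QuotientGroup.mk' P with hπ
  have hπs : Function.Surjective π := QuotientGroup.mk'_surjective P
  obtain ⟨k, hk⟩ := hC
  have hcomm : ∀ s : G, IsPRegular p s → s ∈ Subgroup.centralizer (P : Set G) := by
    intro s hs
    have h : s ^ p ^ k ∈ Subgroup.centralizer (P : Set G) :=
      hk ▸ (Subgroup.centralizer (P : Set G)).pow_index_mem s
    obtain ⟨m, hm⟩ := exists_pow_eq_self_of_coprime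
      ((Nat.Coprime.pow_right k ((hM.1.coprime_iff_not_dvd.mpr hs).symm)).symm)
    rw [← hm]
    exact Subgroup.pow_mem _ h m
  have hregsum : ∀ F : G ⧸ P → ℂ, (∀ q, ¬ IsPRegular p q → F q = 0) →
      ∑ s : G with IsPRegular p s, F (π s) = ∑ q, F q := by
    intro F hF
    rw [← Finset.sum_subset (s₁ := {q : G ⧸ P | IsPRegular p q}) (Finset.subset_univ _)
      fun q _ hq => hF q fun h => hq (Finset.mem_filter.mpr ⟨Finset.mem_univ _, h⟩)]
    refine Finset.sum_bij (fun s _ => π s) (fun s hs => ?_) (fun s hs t ht h => ?_) (fun q hq => ?_)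
      fun s _ => rfl
    · simp only [Finset.mem_filter, Finset.mem_univ, true_and] at hs ⊢
      exact fun h => hs (h.trans (orderOf_map_dvd π s))
    · simp only [Finset.mem_filter, Finset.mem_univ, true_and] at hs ht
      have hv : s⁻¹ * t ∈ P := QuotientGroup.eq.mp h
      have hc : Commute (s⁻¹ * t) s := hcomm s hs _ hv
      obtain ⟨j, hj⟩ := IsPGroup.iff_orderOf.mp hP ⟨_, hv⟩
      rw [← Subgroup.orderOf_coe] at hj
      have h1 : IsPPart p ((s⁻¹ * t) * s) (s⁻¹ * t) := isPPart_mul hc ⟨j, hj⟩ hs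
      rw [hc.eq, mul_inv_cancel_left] at h1
      exact inv_mul_eq_one.mp (IsPPart.unique hM.1 h1
        ⟨t, one_mul t, Commute.one_left t, ⟨0, by simp⟩, ht⟩)
    · obtain ⟨g, rfl⟩ := hπs q
      obtain ⟨x, ⟨y, rfl, hxy, ⟨j, hj⟩, hy⟩, -⟩ := exists_isPPart hM.1 g
      obtain ⟨i, -, hi⟩ := (Nat.dvd_prime_pow hM.1).mp (hj ▸ orderOf_map_dvd π x)
      have hx1 : π x = 1 := IsPPart.unique hM.1 (g := π (x * y))
        (by rw [map_mul]; exact isPPart_mul (hxy.map π) ⟨i, hi⟩ fun h => hy (h.trans (orderOf_map_dvd π y)))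
        ⟨π (x * y), one_mul _, Commute.one_left _, ⟨0, by simp⟩, (Finset.mem_filter.mp hq).2⟩
      exact ⟨y, Finset.mem_filter.mpr ⟨Finset.mem_univ _, hy⟩, by rw [map_mul, hx1, one_mul]⟩
  refine ⟨fun χ ψ => ⟨sameBlock_inflate π hπs, fun h => ?_⟩, fun B hB => ?_⟩
  · set e := blockCoeff (blockOf M (χ : G ⧸ P → ℂ))
    have he : IsPBlock M (blockOf M (χ : G ⧸ P → ℂ)) := isPBlock_blockOf χ
    set f : G → ℂ := regPart p fun s => e (π s)
    have hf : IsClassFunction G f := isClassFunction_regPart fun s x => by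
      rw [map_mul, map_mul, map_inv]; exact isClassFunction_blockCoeff _ _ _
    have hfl : ∀ s, MemLocalRing M (f s) := fun s => by
      by_cases hs : IsPRegular p s
      · rw [show f s = e (π s) from regPart_of_regular hs]; exact IsPBlock.memLocalRing_blockCoeff he _
      · rw [show f s = 0 from regPart_of_singular hs]; exact memLocalRing_zero
    have hω : ∀ η : IrrCharacter (G ⧸ P),
        omega (inflate π hπs η : G → ℂ) f = omega (η : G ⧸ P → ℂ) e := by
      intro η
      show (∑ s, f s * (η : G ⧸ P → ℂ) (π s)) / (η : G ⧸ P → ℂ) (π 1) = _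
      rw [map_one, omega]
      congr 1
      rw [← hregsum (fun q => e q * (η : G ⧸ P → ℂ) q) fun q hq => by
        rw [show e q = 0 from blockCoeff_eq_zero_of_not_regular hM (IsPBlock.isBlockUnion he) hq,
          zero_mul],
        Finset.sum_filter]
      refine Finset.sum_congr rfl fun s _ => ?_
      by_cases hs : IsPRegular p s
      · rw [if_pos hs, show f s = e (π s) from regPart_of_regular hs]
      · rw [if_neg hs, show f s = 0 from regPart_of_singular hs, zero_mul]
    have hc := sub_mem_localIdeal_of_sameBlock (χ := inflate π hπs χ) (ψ := inflate π hπs ψ) h hf hfl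
    rw [hω, hω, omega_blockCoeff, omega_blockCoeff, indVec_of_mem (mem_blockOf_self χ)] at hc
    by_contra hn
    rw [indVec_of_notMem (S := blockOf M (χ : G ⧸ P → ℂ)) hn, sub_zero] at hc
    exact not_memLocalIdeal_one hc
  · obtain ⟨θ, hθ, hθP⟩ := exists_mem_trivial_on_normal_pgroup hM hB P hP
    obtain ⟨η, rfl⟩ := exists_inflate_eq_of_ker P θ hθP
    exact ⟨η, _, hθ, rfl⟩
end Cfsg.Agent.S0941
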