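import Cfsg.Statements.S0944
import Cfsg.Agent.Lib.Blocks.CentralChar

set_option autoImplicit false
open Cfsg

namespace Cfsg.Agent.S0944

/-- Let χ be an irreducible character of the finite group G and u an involution. Then χ u is a rational integer n with n ≡ χ 1 (mod 2). -/
theorem result {G : Type*} [Group G] [Finite G] (χ : Cfsg.IrrCharacter G) (u : G) (hu : orderOf u = 2) : ∃ n : ℤ, (χ : G → ℂ) u = (n : ℂ) ∧ (2 : ℤ) ∣ (Cfsg.charDegree (χ : G → ℂ) : ℤ) - n := by
  classical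
  obtain ⟨d, ρ, hρ, hχ⟩ := χ.2
  obtain ⟨μ, h1, h2⟩ := CfsgLib.Char.character_pow_eq_sum ρ u
  have hval : ∀ i, ∃ e : ℤ, μ i = (e : ℂ) ∧ (2 : ℤ) ∣ 1 - e := fun i => by
    rcases sq_eq_one_iff.mp (hu ▸ h1 i) with h | h
    · exact ⟨1, by simp [h], by norm_num⟩
    · exact ⟨-1, by simp [h], by norm_num⟩
  choose e he hpar using hval
  have hd : Cfsg.charDegree (χ : G → ℂ) = Module.finrank ℂ (Fin d → ℂ) := by
    rw [Cfsg.charDegree, ← hχ, Representation.char_one, Complex.natCast_re, Nat.floor_natCast]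
  have hval := h2 1
  simp only [pow_one] at hval
  refine ⟨∑ i, e i, ?_, ?_⟩
  · rw [← hχ, hval, Int.cast_sum]
    exact Finset.sum_congr rfl fun i _ => he i
  · rw [hd, show ((Module.finrank ℂ (Fin d → ℂ) : ℕ) : ℤ) - ∑ i, e i
      = ∑ i, (1 - e i) by simp]
    exact Finset.dvd_sum fun i _ => hpar i
end Cfsg.Agent.S0944
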