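import Cfsg.Statements.S0945
import Mathlib
import Cfsg.Agent.Lib.Transfer.Frobenius

set_option autoImplicit false
open Cfsg

namespace Cfsg.Agent.S0945

/-- A homocyclic group of rank two has three involutions. -/
theorem invol_card {T : Type*} [Group T] (m : ℕ) (hm : 1 ≤ m)
    (e : T ≃* Multiplicative (ZMod (2 ^ m) × ZMod (2 ^ m))) :
    Nat.card {w : T // w ≠ 1 ∧ w * w = 1} = 3 := by
  classical
  let W := {w : T // w ≠ 1 ∧ w * w = 1}
  set n := 2 ^ m with hn
  haveI : NeZero n := ⟨by positivity⟩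
  have hn2 : n = 2 * 2 ^ (m - 1) := by rw [hn, ← pow_succ', Nat.sub_add_cancel hm]
  set h : ZMod n := ((2 ^ (m - 1) : ℕ) : ZMod n) with hh
  have hh0 : h ≠ 0 := by
    rw [hh, Ne, ZMod.natCast_eq_zero_iff]
    intro hdvd
    have := Nat.le_of_dvd (by positivity) hdvd
    have := Nat.one_le_two_pow (n := m - 1)
    omega
  have hhh : h + h = 0 := by rw [hh, ← Nat.cast_add, ← two_mul, ← hn2, ZMod.natCast_self]
  have htwo : ∀ x : ZMod n, x + x = 0 → x = 0 ∨ x = h := by
    intro x hx
    have hv : n ∣ x.val + x.val := by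
      rw [← ZMod.natCast_eq_zero_iff, Nat.cast_add, ZMod.natCast_zmod_val, hx]
    obtain ⟨k, hk⟩ := hv
    have hlt := ZMod.val_lt x
    have hk' : k = 0 ∨ k = 1 := by
      rcases k with _ | _ | k
      · exact Or.inl rfl
      · exact Or.inr rfl
      · exfalso; nlinarith
    rcases hk' with rfl | rfl
    · left; rw [← ZMod.natCast_zmod_val x, show x.val = 0 by omega, Nat.cast_zero]
    · right; rw [← ZMod.natCast_zmod_val x, show x.val = 2 ^ (m - 1) by omega]
  let f : Fin 3 → W := fun i =>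
    ⟨e.symm (Multiplicative.ofAdd (![(h, 0), (0, h), (h, h)] i)), by
      refine ⟨fun hc => ?_, ?_⟩
      · have hc' := congrArg (fun z => Multiplicative.toAdd (e z)) hc
        fin_cases i <;> simp [hh0] at hc'
      · rw [← map_mul, ← ofAdd_add, ← map_one e.symm]
        congr 1
        fin_cases i <;> simp [hhh, Prod.zero_eq_mk]⟩
  refine ((Nat.card_eq_of_bijective f ⟨fun i j hij => ?_, fun w => ?_⟩).symm.trans (Nat.card_fin 3))
  · have := Multiplicative.ofAdd.injective (e.symm.injective (congrArg Subtype.val hij))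
    fin_cases i <;> fin_cases j <;>
      first | rfl | (exfalso; simp [Prod.ext_iff, hh0, Ne.symm hh0] at this)
  · obtain ⟨w, hw1, hw2⟩ := w
    have h2 : Multiplicative.toAdd (e w) + Multiplicative.toAdd (e w) = 0 := by
      rw [← toAdd_mul, ← map_mul, hw2, map_one, toAdd_one]
    have h0 : Multiplicative.toAdd (e w) ≠ 0 := fun h0 => hw1 (e.injective (by
      rw [map_one]; exact Multiplicative.toAdd.injective h0))
    obtain ⟨hx, hy⟩ := Prod.mk.inj h2
    rcases htwo _ hx with hx | hx <;> rcases htwo _ hy with hy | hy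
    · exact absurd (Prod.ext hx hy) h0
    · exact ⟨1, Subtype.ext (by show e.symm _ = w; rw [MulEquiv.symm_apply_eq]; exact (Prod.ext hx hy).symm)⟩
    · exact ⟨0, Subtype.ext (by show e.symm _ = w; rw [MulEquiv.symm_apply_eq]; exact (Prod.ext hx hy).symm)⟩
    · exact ⟨2, Subtype.ext (by show e.symm _ = w; rw [MulEquiv.symm_apply_eq]; exact (Prod.ext hx hy).symm)⟩

theorem perm_three : ∀ σ : Equiv.Perm (Fin 3), ∀ i, σ i = i → σ * σ = 1 := by decide


/-- Let P be a Sylow 2-subgroup of the finite group G isomorphic to Z/2^m × Z/2^m with m ≥ 1. Then (i) the index of C_G(P) in N_G(P) is 1 or 3, and (ii) if it is not 1, then for every z ≠ 1 in P, C_G(z) ∩ N_G(P) = C_G(P). -/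
theorem result {G : Type*} [Group G] [Finite G] (P : Sylow 2 G) (m : ℕ) (hm : 1 ≤ m) (e : (P : Subgroup G) ≃* Multiplicative (ZMod (2 ^ m) × ZMod (2 ^ m))) : ((Subgroup.centralizer (P : Set G)).relIndex (Subgroup.normalizer (P : Set G)) = 1 ∨ (Subgroup.centralizer (P : Set G)).relIndex (Subgroup.normalizer (P : Set G)) = 3) ∧ ((Subgroup.centralizer (P : Set G)).relIndex (Subgroup.normalizer (P : Set G)) ≠ 1 → ∀ z ∈ (P : Subgroup G), z ≠ 1 → Subgroup.centralizer ({z} : Set G) ⊓ Subgroup.normalizer (P : Set G) = Subgroup.centralizer (P : Set G)) := by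
  classical
  haveI := Fact.mk Nat.prime_two
  set N := Subgroup.normalizer ((P : Subgroup G) : Set G) with hN
  set C := Subgroup.centralizer ((P : Subgroup G) : Set G) with hC
  have hCN : C ≤ N := Subgroup.centralizer_le_normalizer _
  have hcomm : ∀ a ∈ (P : Subgroup G), ∀ b ∈ (P : Subgroup G), a * b = b * a := fun a ha b hb =>
    congrArg Subtype.val (e.injective (by rw [map_mul, map_mul, mul_comm]) :
      (⟨a, ha⟩ : (P : Subgroup G)) * ⟨b, hb⟩ = ⟨b, hb⟩ * ⟨a, ha⟩)
  have hPC : (P : Subgroup G) ≤ C := fun a ha => Subgroup.mem_centralizer_iff.mpr fun b hb => hcomm b hb a ha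
  -- the three involutions of `P`
  let W := {w : (P : Subgroup G) // w ≠ 1 ∧ w * w = 1}
  have hW : Nat.card W = 3 := invol_card m hm e
  have hWact : ∀ (g : N) (w : W), (g : G) * (w.1 : G) * (g : G)⁻¹ ∈ (P : Subgroup G) :=
    fun g w => (Subgroup.mem_normalizer_iff.mp g.2 _).mp w.1.2
  let act : N → W → W := fun g w => ⟨⟨_, hWact g w⟩, fun h => w.2.1 (Subtype.ext
      (conj_eq_one_iff.mp (congrArg Subtype.val h))), Subtype.ext (by
        show (g : G) * w.1 * (g : G)⁻¹ * ((g : G) * w.1 * (g : G)⁻¹) = 1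
        have h2 : (w.1 : G) * w.1 = 1 := congrArg Subtype.val w.2.2
        rw [show (g : G) * w.1 * (g : G)⁻¹ * ((g : G) * w.1 * (g : G)⁻¹) = g * ((w.1 : G) * w.1) * (g : G)⁻¹ by group, h2]
        simp)⟩
  letI : MulAction N W :=
    { smul := act
      one_smul := fun w => Subtype.ext (Subtype.ext (by show (1 : G) * w.1 * (1 : G)⁻¹ = w.1; group))
      mul_smul := fun a b w => Subtype.ext (Subtype.ext (by
        show (a : G) * b * w.1 * ((a : G) * b)⁻¹ = (a : G) * ((b : G) * w.1 * (b : G)⁻¹) * (a : G)⁻¹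
        group)) }
  let ρ := MulAction.toPermHom N W
  -- odd order elements fixing the involutions centralize `P`
  have hfix : ∀ g : G, g ∈ N → Odd (orderOf g) →
      (∀ y ∈ (P : Subgroup G), y * y = 1 → g * y * g⁻¹ = y) → g ∈ C := by
    intro g hg ho hy
    have step : ∀ k, ∀ x ∈ (P : Subgroup G), x ^ 2 ^ k = 1 → g * x * g⁻¹ = x := by
      intro k
      induction k with
      | zero => intro x _ hx; rw [pow_zero, pow_one] at hx; simp [hx]
      | succ k ih =>
        intro x hx hxk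
        set y := g * x * g⁻¹ * x⁻¹ with hydef
        have hgx := (Subgroup.mem_normalizer_iff.mp hg x).mp hx
        have hyP : y ∈ (P : Subgroup G) := mul_mem hgx (inv_mem hx)
        have hy2 : y * y = 1 := by
          rw [← pow_two, hydef, (show Commute (g * x * g⁻¹) x⁻¹ from hcomm _ hgx _ (inv_mem hx)).mul_pow,
            conj_pow, ih (x ^ 2) (pow_mem hx 2) (by rw [← pow_mul, ← pow_succ', hxk]), inv_pow, mul_inv_cancel]
        have hn : ∀ n : ℕ, g ^ n * x * (g ^ n)⁻¹ = y ^ n * x := by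
          intro n
          induction n with
          | zero => simp
          | succ n ihn =>
            calc g ^ (n + 1) * x * (g ^ (n + 1))⁻¹ = g * (g ^ n * x * (g ^ n)⁻¹) * g⁻¹ := by
                  rw [pow_succ']; group
              _ = (g * y * g⁻¹) ^ n * (g * x * g⁻¹) := by rw [ihn, conj_pow]; group
              _ = y ^ (n + 1) * x := by rw [hy y hyP hy2, pow_succ, hydef]; group
        have h1 := hn (orderOf g)
        rw [pow_orderOf_eq_one] at h1
        obtain ⟨j, hj⟩ := ho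
        rw [hj, pow_succ, pow_mul, pow_two, hy2, one_pow, one_mul] at h1
        have hy1 : y = 1 := mul_right_cancel (b := x) (by simpa using h1.symm)
        exact mul_inv_eq_one.mp hy1
    refine Subgroup.mem_centralizer_iff.mpr fun x hx => ?_
    obtain ⟨k, hk⟩ := P.2 ⟨x, hx⟩
    exact (mul_inv_eq_iff_eq_mul.mp (step k x hx (congrArg Subtype.val hk))).symm
  have hmemC : ∀ g : N, ρ g = 1 → (g : G) ∈ C := by
    intro g hg
    obtain ⟨k, m', hm', -, hq, hpart⟩ := CfsgLib.Transfer.exists_pow_coprime_part (p := 2) (g : G)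
    have hmP : (g : G) ^ m' ∈ (P : Subgroup G) := by
      have h2 := (CfsgLib.Transfer.isPGroup_zpowers (p := 2) ⟨k, hpart⟩).to_sup_of_normal_right'
        P.2 (Subgroup.zpowers_le.mpr (pow_mem g.2 m'))
      rw [← P.is_maximal' h2 le_sup_right]
      exact Subgroup.mem_sup_left (Subgroup.mem_zpowers _)
    have hh : (g : G) ^ 2 ^ k ∈ C := by
      refine hfix _ (pow_mem g.2 _) (Nat.coprime_two_right.mp hq) fun y hy hy2 => ?_
      by_cases hy1 : y = 1
      · simp [hy1]
      have := Equiv.congr_fun (show ρ (g ^ 2 ^ k) = 1 by rw [map_pow, hg, one_pow])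
        ⟨⟨y, hy⟩, fun h => hy1 (congrArg Subtype.val h), Subtype.ext hy2⟩
      exact congrArg (fun w : W => ((w.1 : (P : Subgroup G)) : G)) this
    have hgcd : Nat.Coprime m' (2 ^ k) :=
      ((Nat.prime_two.coprime_iff_not_dvd).mpr hm').symm.pow_right k
    have hb := Nat.gcd_eq_gcd_ab m' (2 ^ k)
    rw [hgcd.gcd_eq_one] at hb
    rw [show (g : G) = ((g : G) ^ m') ^ m'.gcdA (2 ^ k) * ((g : G) ^ 2 ^ k) ^ m'.gcdB (2 ^ k) by
      rw [← zpow_natCast, ← zpow_natCast, ← zpow_mul, ← zpow_mul, ← zpow_add, ← hb]; simp]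
    exact mul_mem (zpow_mem (hPC hmP) _) (zpow_mem hh _)
  have hker : ρ.ker = C.subgroupOf N := by
    refine le_antisymm (fun g hg => hmemC g hg) fun g hg => MonoidHom.mem_ker.mpr (Equiv.ext fun w => ?_)
    exact Subtype.ext (Subtype.ext (mul_inv_eq_iff_eq_mul.mpr
      (Subgroup.mem_centralizer_iff.mp hg _ w.1.2).symm))
  have hr : C.relIndex N = Nat.card ρ.range := by
    show (C.subgroupOf N).index = _
    rw [← hker, Subgroup.index_ker]
  have hdvd : C.relIndex N ∣ 6 := by
    rw [hr, show (6 : ℕ) = Nat.card (Equiv.Perm W) by rw [Nat.card_perm, hW]; rfl]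
    exact Subgroup.card_subgroup_dvd_card _
  have hodd : ¬ 2 ∣ C.relIndex N := fun h => P.not_dvd_index (by
    refine dvd_trans ?_ (Subgroup.index_dvd_of_le hPC)
    rw [← Subgroup.relIndex_mul_index hCN]
    exact dvd_mul_of_dvd_left h _)
  have h13 : C.relIndex N = 1 ∨ C.relIndex N = 3 := by
    have := Nat.le_of_dvd (by norm_num) hdvd
    generalize C.relIndex N = d at hdvd hodd this ⊢
    interval_cases d <;> first | omega | norm_num at hdvd hodd ⊢
  refine ⟨h13, fun hne z hz hz1 => le_antisymm (fun g hg => ?_) (le_inf (fun g hg =>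
    Subgroup.mem_centralizer_singleton_iff.mpr (Subgroup.mem_centralizer_iff.mp hg z hz).symm) hCN)⟩
  obtain ⟨hgz, hgN⟩ := hg
  have hgz' : Commute g z := Subgroup.mem_centralizer_singleton_iff.mp hgz
  obtain ⟨k, hk⟩ := P.2.exists_orderOf_eq_pow (⟨z, hz⟩ : (P : Subgroup G))
  rw [Subgroup.orderOf_mk] at hk
  rcases k with _ | k
  · exact absurd (orderOf_eq_one_iff.mp hk) hz1
  let w : W := ⟨⟨z ^ 2 ^ k, pow_mem hz _⟩, fun h => by
      have := orderOf_dvd_of_pow_eq_one (congrArg Subtype.val h : z ^ 2 ^ k = 1)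
      rw [hk] at this
      have := (Nat.pow_dvd_pow_iff_le_right (by norm_num)).mp this
      omega,
    Subtype.ext (by
      show z ^ 2 ^ k * z ^ 2 ^ k = 1
      rw [← pow_add, ← two_mul, ← pow_succ', ← hk, pow_orderOf_eq_one])⟩
  have hw : ρ ⟨g, hgN⟩ w = w := Subtype.ext (Subtype.ext (mul_inv_eq_iff_eq_mul.mpr (hgz'.pow_right _).eq))
  let ew : W ≃ Fin 3 := (Finite.equivFin W).trans (finCongr hW)
  have hsq : ρ ⟨g, hgN⟩ * ρ ⟨g, hgN⟩ = 1 := by
    refine ew.permCongrHom.injective ?_
    rw [map_mul, map_one]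
    refine perm_three _ (ew w) ?_
    show ew (ρ ⟨g, hgN⟩ (ew.symm (ew w))) = ew w
    rw [Equiv.symm_apply_apply, hw]
  have h2 : g ^ 2 ∈ C := hmemC (⟨g, hgN⟩ ^ 2) (by rw [map_pow, pow_two, hsq])
  haveI : (C.subgroupOf N).Normal := hker ▸ inferInstance
  have h3 : g ^ 3 ∈ C := by
    have h := Subgroup.pow_index_mem (C.subgroupOf N) (⟨g, hgN⟩ : N)
    rw [show (C.subgroupOf N).index = 3 from h13.resolve_left hne] at h
    exact h
  have : g = (g ^ 2)⁻¹ * g ^ 3 := by group
  rw [this]
  exact mul_mem (inv_mem h2) h3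
end Cfsg.Agent.S0945
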