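import Cfsg.Statements.S0946
import Cfsg.Agent.S0945
import Cfsg.Agent.Lib.Transfer.Frobenius
import Cfsg.Agent.Lib.Invol.Dihedral

set_option autoImplicit false
open Cfsg

namespace Cfsg.Agent.S0946

/-- Let P be a Sylow 2-subgroup of the finite group G isomorphic to Z/2^m × Z/2^m with m ≥ 1. Then either P has a normal complement in G, or all involutions of G are conjugate. -/
theorem result {G : Type*} [Group G] [Finite G] (P : Sylow 2 G) (m : ℕ) (hm : 1 ≤ m) (e : (P : Subgroup G) ≃* Multiplicative (ZMod (2 ^ m) × ZMod (2 ^ m))) : (∃ N : Subgroup G, N.Normal ∧ Subgroup.IsComplement' N (P : Subgroup G)) ∨ ∀ s t : G, orderOf s = 2 → orderOf t = 2 → IsConj s t := by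
  classical
  haveI := Fact.mk Nat.prime_two
  set N := Subgroup.normalizer ((P : Subgroup G) : Set G)
  set C := Subgroup.centralizer ((P : Subgroup G) : Set G)
  by_cases hNC : N ≤ C
  · obtain ⟨Q, K, hK, hc⟩ := CfsgLib.Transfer.hasNormalPComplement_of_normalizer_le_centralizer P hNC
    refine Or.inl ⟨K, hK, Subgroup.isComplement'_of_coprime ?_ ?_⟩
    · rw [P.card_eq_multiplicity, ← Q.card_eq_multiplicity]
      exact hc.card_mul_card
    · rw [← hc.index_eq_card, Nat.coprime_comm, P.card_eq_multiplicity]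
      exact ((Nat.prime_two.coprime_iff_not_dvd).mpr Q.not_dvd_index).pow_left _
  refine Or.inr ?_
  obtain ⟨h13, hfpf⟩ := Cfsg.Agent.S0945.result P m hm e
  have hne : C.relIndex N ≠ 1 := fun h => hNC (Subgroup.relIndex_eq_one.mp h)
  obtain ⟨g, hgN, hgC⟩ := SetLike.not_le_iff_exists.mp hNC
  haveI : (C.subgroupOf N).Normal := ⟨fun c hc a => by
    refine Subgroup.mem_centralizer_iff.mpr fun x hx => ?_
    have h1 : (a : G)⁻¹ * x * a ∈ (P : Subgroup G) := by
      have := (Subgroup.mem_normalizer_iff.mp (inv_mem a.2) x).mp hx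
      rwa [inv_inv] at this
    have h2 : (a : G)⁻¹ * x * a * (c : G) = (c : G) * ((a : G)⁻¹ * x * a) := Subgroup.mem_centralizer_iff.mp hc _ h1
    show x * ((a : G) * c * (a : G)⁻¹) = (a : G) * c * (a : G)⁻¹ * x
    calc x * ((a : G) * c * (a : G)⁻¹) = a * ((a : G)⁻¹ * x * a * c) * (a : G)⁻¹ := by group
      _ = a * (c * ((a : G)⁻¹ * x * a)) * (a : G)⁻¹ := by rw [h2]
      _ = (a : G) * c * (a : G)⁻¹ * x := by group⟩
  have hg2C : g * g ∉ C := fun h2 => hgC (by
    have h := Subgroup.pow_index_mem (C.subgroupOf N) (⟨g, hgN⟩ : N)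
    rw [show (C.subgroupOf N).index = 3 from h13.resolve_left hne] at h
    rw [show g = (g * g)⁻¹ * g ^ 3 by group]
    exact mul_mem (inv_mem h2) h)
  have hno : ∀ a ∈ N, a ∉ C → ∀ z ∈ (P : Subgroup G), z ≠ 1 → a * z * a⁻¹ ≠ z := by
    intro a ha haC z hz hz1 h
    refine haC ((hfpf hne z hz hz1).le (Subgroup.mem_inf.mpr ⟨?_, ha⟩))
    exact Subgroup.mem_centralizer_singleton_iff.mpr (mul_inv_eq_iff_eq_mul.mp h)
  let W := {w : (P : Subgroup G) // w ≠ 1 ∧ w * w = 1}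
  have hW : Nat.card W = 3 := Cfsg.Agent.S0945.invol_card m hm e
  haveI := Fintype.ofFinite W
  have hmem : ∀ a ∈ N, ∀ w : W, a * (w.1 : G) * a⁻¹ ∈ (P : Subgroup G) := fun a ha w =>
    (Subgroup.mem_normalizer_iff.mp ha _).mp w.1.2
  have hmk : ∀ a ∈ N, ∀ w : W, ∃ w' : W, ((w'.1 : (P : Subgroup G)) : G) = a * (w.1 : G) * a⁻¹ := by
    intro a ha w
    have h2 : (w.1 : G) * w.1 = 1 := congrArg Subtype.val w.2.2
    refine ⟨⟨⟨_, hmem a ha w⟩, fun h => w.2.1 (Subtype.ext (conj_eq_one_iff.mp (congrArg Subtype.val h))),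
      Subtype.ext ?_⟩, rfl⟩
    show a * (w.1 : G) * a⁻¹ * (a * (w.1 : G) * a⁻¹) = 1
    rw [show a * (w.1 : G) * a⁻¹ * (a * (w.1 : G) * a⁻¹) = a * ((w.1 : G) * w.1) * a⁻¹ by group, h2]
    simp
  haveI : Nonempty W := (Nat.card_pos_iff.mp (by omega : 0 < Nat.card W)).1
  obtain ⟨w⟩ := (inferInstance : Nonempty W)
  obtain ⟨w₁, hw₁⟩ := hmk g hgN w
  obtain ⟨w₂, hw₂⟩ := hmk (g * g) (mul_mem hgN hgN) w
  have hw1 : (w.1 : G) ≠ 1 := fun h => w.2.1 (Subtype.ext h)
  have h01 : w ≠ w₁ := fun h => hno g hgN hgC _ w.1.2 hw1 (by rw [← hw₁, ← h])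
  have h02 : w ≠ w₂ := fun h => hno _ (mul_mem hgN hgN) hg2C _ w.1.2 hw1 (by rw [← hw₂, ← h])
  have h12 : w₁ ≠ w₂ := fun h => hno g hgN hgC _ w₁.1.2 (fun h1 => w₁.2.1 (Subtype.ext h1)) (by
    rw [hw₁, show g * (g * (w.1 : G) * g⁻¹) * g⁻¹ = g * g * (w.1 : G) * (g * g)⁻¹ by group, ← hw₂, ← h, hw₁])
  have hall : ({w, w₁, w₂} : Finset W) = Finset.univ := by
    refine Finset.eq_univ_of_card _ ?_
    rw [Finset.card_insert_of_notMem (by simp [h01, h02]), Finset.card_insert_of_notMem (by simp [h12]),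
      Finset.card_singleton, ← Nat.card_eq_fintype_card, hW]
  have key : ∀ t : G, orderOf t = 2 → IsConj (w.1 : G) t := by
    intro t ht
    obtain ⟨T, hT⟩ := (CfsgLib.Transfer.isPGroup_zpowers (p := 2) (x := t) ⟨1, ht⟩).exists_le_sylow
    obtain ⟨c, hc⟩ := MulAction.exists_smul_eq G T P
    have hct : c * t * c⁻¹ ∈ (P : Subgroup G) := by
      rw [← hc]
      exact Subgroup.smul_mem_pointwise_smul _ (MulAut.conj c) _ (hT (Subgroup.mem_zpowers t))
    let v : W := ⟨⟨_, hct⟩, fun h => CfsgLib.Invol.ne_one_of_orderOf_two ht (conj_eq_one_iff.mp (congrArg Subtype.val h)),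
      Subtype.ext (by
        show c * t * c⁻¹ * (c * t * c⁻¹) = 1
        rw [show c * t * c⁻¹ * (c * t * c⁻¹) = c * (t * t) * c⁻¹ by group,
          CfsgLib.Invol.mul_self_of_orderOf_two ht]
        simp)⟩
    have hv : IsConj (w.1 : G) (v.1 : G) := by
      have := hall.ge (Finset.mem_univ v)
      simp only [Finset.mem_insert, Finset.mem_singleton] at this
      rcases this with h | h | h <;> rw [h]
      · exact isConj_iff.mpr ⟨g, hw₁.symm⟩
      · exact isConj_iff.mpr ⟨g * g, hw₂.symm⟩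
    exact hv.trans (isConj_iff.mpr ⟨c⁻¹, show c⁻¹ * (c * t * c⁻¹) * c⁻¹⁻¹ = t by group⟩)
  exact fun s t hs ht => (key s hs).symm.trans (key t ht)
end Cfsg.Agent.S0946
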