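import Cfsg.Statements.S0947
import Cfsg.Agent.Lib.Blocks.Sections

set_option autoImplicit false
open Cfsg

namespace Cfsg.Agent.S0947

open scoped CfsgLib.Char

theorem sum_principal_of_p_nilpotent {H : Type*} [Group H] [Fintype H] (p : ℕ) (M : Ideal Cfsg.AlgInt)
    (hM : Cfsg.IsPModular p M) {k : ℕ} (hk : (Cfsg.pPrimeCore p H).index = p ^ k) (y : H)
    (hy : ¬ p ∣ orderOf y) : ∑ᶠ χ ∈ Cfsg.principalBlock M H, ‖(χ : H → ℂ) y‖ ^ 2 =
      ((p ^ (Nat.card H).factorization p : ℕ) : ℝ) := by
  classical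
  have := CfsgLib.Blocks.isPrime_of_isPModular hM
  have : Fact p.Prime := ⟨hM.1⟩
  set O := Cfsg.pPrimeCore p H
  have : O.Normal := CfsgLib.SelfCent.pPrimeCore_normal' (G := H) p
  have := Fintype.ofFinite (H ⧸ O)
  have hP : IsPGroup p (H ⧸ O) := IsPGroup.of_card (by rw [← Subgroup.index_eq_card, hk])
  have hy1 : QuotientGroup.mk' O y = 1 := by
    obtain ⟨j, hj⟩ := IsPGroup.iff_orderOf.mp hP (QuotientGroup.mk' O y)
    rw [← orderOf_eq_one_iff, hj]
    rcases Nat.eq_zero_or_pos j with rfl | hj0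
    · rw [pow_zero]
    · exact absurd ((dvd_pow_self p hj0.ne').trans (hj ▸ orderOf_map_dvd (QuotientGroup.mk' O) y)) hy
  have himg : ∀ χ : Cfsg.IrrCharacter H, χ ∈ Cfsg.principalBlock M H ↔
      ∃ η, CfsgLib.Blocks.inflate (QuotientGroup.mk' O) (QuotientGroup.mk'_surjective O) η = χ := by
    intro χ
    constructor
    · intro hχ
      obtain ⟨η, hη⟩ := CfsgLib.Blocks.exists_inflate_eq_of_ker O χ
        (CfsgLib.Blocks.trivial_on_of_mem_principalBlock hM O
          (CfsgLib.Blocks.not_dvd_card_pPrimeCore hM.1) hχ)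
      exact ⟨η, hη.symm⟩
    · rintro ⟨η, rfl⟩
      exact CfsgLib.Blocks.sameBlock_inflate (QuotientGroup.mk' O) (QuotientGroup.mk'_surjective O)
        (CfsgLib.Blocks.sameBlock_of_isPGroup hM hP (CfsgLib.Blocks.trivIrr (H ⧸ O)) η)
  rw [finsum_mem_eq_sum_of_inter_support_eq
    (t := Finset.univ.image (CfsgLib.Blocks.inflate (QuotientGroup.mk' O) (QuotientGroup.mk'_surjective O)))
    _ (by ext χ; simp [himg χ]),
    Finset.sum_image fun a _ b _ h => CfsgLib.Blocks.inflate_injective _ _ h]
  apply Complex.ofReal_injective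
  push_cast
  have hval : ∀ η : Cfsg.IrrCharacter (H ⧸ O), (CfsgLib.Blocks.inflate (QuotientGroup.mk' O)
      (QuotientGroup.mk'_surjective O) η : H → ℂ) y = (η : H ⧸ O → ℂ) 1 := fun η => by
    show (η : H ⧸ O → ℂ) (QuotientGroup.mk' O y) = _
    rw [hy1]
  simp only [hval, ← Complex.mul_conj', CfsgLib.Char.column_orthogonality, if_pos (IsConj.refl _)]
  rw [Subgroup.centralizer_eq_top_iff_subset.mpr (by simp), Subgroup.card_top,
    ← Subgroup.index_eq_card, hk]
  have hf : k = (Nat.card H).factorization p := by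
    rw [← Subgroup.card_mul_index O, Nat.factorization_mul Nat.card_pos.ne' O.index_ne_zero_of_finite,
      Finsupp.add_apply, Nat.factorization_eq_zero_of_not_dvd
      (CfsgLib.Blocks.not_dvd_card_pPrimeCore (H := H) hM.1), hk, zero_add,
      Nat.Prime.factorization_pow hM.1, Finsupp.single_eq_same]
  rw [hf]
  push_cast
  rfl


/-- Let z ≠ 1 be a p-element of the finite group G with centralizer H, and fix a maximal ideal M of the algebraic integers containing p. (i) For every y ∈ H of order prime to p, the sum over ζ in the principal block of G of |ζ (z * y)|² equals the sum over χ in the principal block of H of |χ y|². (ii) If moreover H has a normal p-complement (its largest normal subgroup of order prime to p has p-power index), that common value is the largest power of p dividing the order of H. -/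
theorem result {G : Type*} [Group G] [Finite G] (p : ℕ) [Fact p.Prime] (M : Ideal Cfsg.AlgInt) (hM : Cfsg.IsPModular p M) (z : G) (hz : ∃ k : ℕ, orderOf z = p ^ k) (hz1 : z ≠ 1) (y : Subgroup.centralizer ({z} : Set G)) (hy : ¬ p ∣ orderOf y) : (∑ᶠ ζ ∈ Cfsg.principalBlock M G, ‖(ζ : G → ℂ) (z * (y : G))‖ ^ 2 = ∑ᶠ χ ∈ Cfsg.principalBlock M (Subgroup.centralizer ({z} : Set G)), ‖(χ : Subgroup.centralizer ({z} : Set G) → ℂ) y‖ ^ 2) ∧ ((∃ k : ℕ, (Cfsg.pPrimeCore p (Subgroup.centralizer ({z} : Set G))).index = p ^ k) → ∑ᶠ ζ ∈ Cfsg.principalBlock M G, ‖(ζ : G → ℂ) (z * (y : G))‖ ^ 2 = ((p ^ (Nat.card (Subgroup.centralizer ({z} : Set G))).factorization p : ℕ) : ℝ)) := by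
  classical
  have := Fintype.ofFinite G
  have := Fintype.ofFinite (Subgroup.centralizer ({z} : Set G))
  have := CfsgLib.Blocks.isPrime_of_isPModular hM
  have hfirst : ∑ᶠ ζ ∈ Cfsg.principalBlock M G, ‖(ζ : G → ℂ) (z * (y : G))‖ ^ 2 =
      ∑ᶠ χ ∈ Cfsg.principalBlock M (Subgroup.centralizer ({z} : Set G)),
        ‖(χ : Subgroup.centralizer ({z} : Set G) → ℂ) y‖ ^ 2 := by
    apply Complex.ofReal_injective
    have h := CfsgLib.Blocks.sum_block_mul_conj_section hM hz
      (CfsgLib.Blocks.isPBlock_principalBlock (M := M) (G := G)) hy hy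
      {Cfsg.principalBlock M (Subgroup.centralizer ({z} : Set G))} fun b => by
        rw [Finset.mem_singleton, CfsgLib.Blocks.isInducedBlock_centralizer_principal_iff hM hz]
    rw [Finset.sum_singleton, CfsgLib.Blocks.sum_mem_eq_filter] at h
    simp only [Complex.mul_conj'] at h
    rw [finsum_mem_eq_sum_of_inter_support_eq (t := Finset.univ.filter (· ∈ Cfsg.principalBlock M G)) _
        (by simp),
      finsum_mem_eq_sum_of_inter_support_eq
        (t := Finset.univ.filter (· ∈ Cfsg.principalBlock M (Subgroup.centralizer ({z} : Set G)))) _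
        (by simp)]
    push_cast
    exact h
  refine ⟨hfirst, fun hnc => ?_⟩
  rw [hfirst]
  obtain ⟨k, hk⟩ := hnc
  exact sum_principal_of_p_nilpotent p M hM hk y hy

end Cfsg.Agent.S0947
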