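import Cfsg.Statements.S0950
import Cfsg.Agent.Lib.ZStar.Quaternion

set_option autoImplicit false
open Cfsg

namespace Cfsg.Agent.S0950

/-- Let S be a Sylow 2-subgroup of the finite group G that is isomorphic to the quaternion group of order 8, and suppose S has no normal complement in G. Then any two subgroups of order 4 of S are conjugate by an element of the normalizer of S. -/
theorem result {G : Type*} [Group G] [Finite G] (S : Sylow 2 G) (e : (S : Subgroup G) ≃* QuaternionGroup 2) (hnc : ∀ N : Subgroup G, N.Normal → ¬ Subgroup.IsComplement' N (S : Subgroup G)) (A B : Subgroup G) (hA : A ≤ S) (hB : B ≤ S) (hA4 : Nat.card A = 4) (hB4 : Nat.card B = 4) : ∃ n ∈ Subgroup.normalizer ((S : Subgroup G) : Set G), B = A.map (MulAut.conj n).toMonoidHom := by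
  classical
  have := Fintype.ofFinite G
  obtain ⟨u, a, hu, huS, huniq, ha, hidx, hmax, hPC, -, -⟩ :=
    CfsgLib.ZStar.quaternion_eight_data S e
  have hNPC : ¬ Cfsg.HasNormalPComplement 2 G := by
    rintro ⟨P, N, hN, hc⟩
    refine hnc N hN ?_
    refine Subgroup.isComplement'_of_coprime ?_ ?_
    · rw [S.card_eq_multiplicity, ← P.card_eq_multiplicity]
      exact hc.card_mul_card
    · rw [← hc.index_eq_card, Nat.coprime_comm, S.card_eq_multiplicity]
      exact ((Nat.prime_two.coprime_iff_not_dvd).mpr P.not_dvd_index).pow_left _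
  have hgen : ∀ C : Subgroup G, C ≤ S → Nat.card C = 4 →
      ∃ x : S, orderOf x = 4 ∧ C = Subgroup.zpowers (x : G) := by
    intro C hC hC4
    suffices h : ∃ x : C, orderOf x = 4 by
      obtain ⟨x, hx⟩ := h
      refine ⟨⟨x, hC x.2⟩, by rw [← Subgroup.orderOf_coe]; exact (Subgroup.orderOf_coe x).trans hx, ?_⟩
      exact (Subgroup.eq_of_le_of_card_ge (Subgroup.zpowers_le.mpr x.2)
        (by rw [Nat.card_zpowers, Subgroup.orderOf_coe, hx, hC4])).symm
    by_contra h
    push Not at h
    have h2 : ∀ x : C, x ≠ 1 → (x : G) = u := by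
      intro x hx
      have hd : orderOf x ∣ 2 ^ 2 := (orderOf_dvd_natCard x).trans (hC4.trans (by norm_num)).dvd
      obtain ⟨k, hk, hk'⟩ := (Nat.dvd_prime_pow Nat.prime_two).mp hd
      rcases k with _ | _ | _ | k
      · exact absurd (orderOf_eq_one_iff.mp (by simpa using hk')) hx
      · exact huniq ⟨x, hC x.2⟩ (by
          rw [← Subgroup.orderOf_coe]; exact (Subgroup.orderOf_coe x).trans (by simpa using hk'))
      · exact absurd (by simpa using hk') (h x)
      · omega
    haveI : Finite C := Subtype.finite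
    have hle : Nat.card C ≤ Nat.card Bool := Nat.card_le_card_of_injective
      (fun x : C => decide (x = 1)) (fun x y hxy => by
        simp only [decide_eq_decide] at hxy
        by_cases hx : x = 1
        · rw [hx, hxy.mp hx]
        · exact Subtype.ext ((h2 x hx).trans (h2 y fun hy => hx (hxy.mpr hy)).symm))
    rw [hC4, Nat.card_eq_fintype_card, Fintype.card_bool] at hle
    omega
  obtain ⟨x, hx, rfl⟩ := hgen A hA hA4
  obtain ⟨y, hy, rfl⟩ := hgen B hB hB4
  obtain ⟨n, hn, -, hnx⟩ := CfsgLib.ZStar.exists_normalizer_conj_four S hu huS huniq hidx ha hmax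
    hNPC x y hx hy
  refine ⟨n, hn, ?_⟩
  rw [MonoidHom.map_zpowers, ← hnx]
  rfl
end Cfsg.Agent.S0950
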