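import Cfsg.Statements.S0951
import Cfsg.Agent.Lib.ZStar.Seven
import Cfsg.Agent.Lib.ZStar.Quaternion
import Cfsg.Agent.Lib.ZStar.Main

set_option autoImplicit false
open Cfsg

namespace Cfsg.Agent.S0951

/-- Let S be a Sylow 2-subgroup of the finite group G isomorphic to the quaternion group of order 8. Suppose G has no nontrivial normal subgroup of odd order and G ≠ S. Then, relative to any maximal ideal M of the algebraic integers containing 2, the principal block of G consists of exactly 7 irreducible characters. -/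
theorem result {G : Type*} [Group G] [Finite G] (M : Ideal Cfsg.AlgInt) (hM : Cfsg.IsPModular 2 M) (S : Sylow 2 G) (e : (S : Subgroup G) ≃* QuaternionGroup 2) (hO : ∀ N : Subgroup G, N.Normal → Odd (Nat.card N) → N = ⊥) (hG : (S : Subgroup G) ≠ ⊤) : Nat.card (Cfsg.principalBlock M G) = 7 := by
  classical
  have := Fintype.ofFinite G
  obtain ⟨u, a, hu, huS, -, ha, hidx, hmax, hPC, hone, hiso⟩ :=
    CfsgLib.ZStar.quaternion_eight_data S e
  have hO' : Cfsg.pPrimeCore 2 G = ⊥ :=
    hO _ (CfsgLib.Transfer.pPrimeCore_normal 2 G) CfsgLib.ZStar.odd_card_core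
  have huc : ∀ g, Commute u g := CfsgLib.ZStar.commute_of_commutatorsInCore hO'
    (CfsgLib.ZStar.commutatorsInCore_of_isolated hiso)
  have hNPC : ¬ Cfsg.HasNormalPComplement 2 G := by
    rintro ⟨P, N, hN, hc⟩
    have hN1 : N = ⊥ := hO N hN (Nat.coprime_two_right.mp (by
      refine Nat.Coprime.symm ((Nat.prime_two.coprime_iff_not_dvd).mpr ?_)
      rw [← hc.index_eq_card]
      exact P.not_dvd_index))
    have hP : (P : Subgroup G) = ⊤ := Subgroup.isComplement'_bot_left.mp (hN1 ▸ hc)
    apply hG
    apply Subgroup.eq_top_of_card_eq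
    rw [S.card_eq_multiplicity, ← P.card_eq_multiplicity]
    exact (Nat.card_congr (MulEquiv.subgroupCongr hP).toEquiv).trans Subgroup.card_top
  have hd := CfsgLib.ZStar.eightData_centralizer S hu huS hone ha hidx hmax hPC hNPC
  have htop : Subgroup.centralizer ({u} : Set G) = ⊤ := eq_top_iff.mpr fun g _ =>
    Subgroup.mem_centralizer_singleton_iff.mpr (huc g).eq.symm
  exact CfsgLib.ZStar.card_principalBlock_eq_seven
    (hd.of_equiv ((MulEquiv.subgroupCongr htop).trans Subgroup.topEquiv)) hM
end Cfsg.Agent.S0951
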