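import Cfsg.Statements.S0952
import Cfsg.Agent.Lib.Blocks.RegPart

set_option autoImplicit false
open scoped ComplexConjugate
open Cfsg

namespace Cfsg.Agent.S0952

/-- Let χ and ψ be irreducible characters of the finite group G lying in different blocks relative to a maximal ideal M of the algebraic integers containing the prime p. Then the sum of χ x * conj (ψ x) over the elements x of order prime to p is zero. -/
theorem result {G : Type*} [Group G] [Finite G] (p : ℕ) [Fact p.Prime] (M : Ideal Cfsg.AlgInt) (hM : Cfsg.IsPModular p M) (χ ψ : Cfsg.IrrCharacter G) (h : ¬ Cfsg.SameBlock M (χ : G → ℂ) (ψ : G → ℂ)) : ∑ᶠ x ∈ {x : G | ¬ p ∣ orderOf x}, (χ : G → ℂ) x * conj ((ψ : G → ℂ) x) = 0 := by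
  classical
  have := Fintype.ofFinite G
  have h0 : Cfsg.classInner (CfsgLib.Blocks.regPart p (χ : G → ℂ)) (ψ : G → ℂ) = 0 := by
    by_contra h'
    exact h (CfsgLib.Blocks.sameBlock_of_classInner_regPart_ne_zero hM h')
  rw [Cfsg.classInner, mul_eq_zero,
    or_iff_right (inv_ne_zero (Nat.cast_ne_zero.mpr Nat.card_pos.ne'))] at h0
  rw [finsum_mem_eq_sum_of_inter_support_eq (t := ({x | ¬ p ∣ orderOf x} : Finset G)) _ (by simp),
    Finset.sum_filter]
  refine (Finset.sum_congr rfl fun g _ => ?_).trans h0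
  by_cases hg : p ∣ orderOf g
  · rw [if_neg (not_not.mpr hg), CfsgLib.Blocks.regPart_of_singular (not_not.mpr hg), zero_mul]
  · rw [if_pos hg, CfsgLib.Blocks.regPart_of_regular hg]
end Cfsg.Agent.S0952
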