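import Cfsg.Statements.S0953
import Cfsg.Agent.Lib.Blocks.MainFirst
import Cfsg.Agent.Lib.Blocks.Defect
import Cfsg.Agent.Lib.Blocks.Covering
import Cfsg.Agent.Lib.Blocks.Osima

set_option autoImplicit false
open Cfsg

namespace Cfsg.Agent.S0953

open CfsgLib CfsgLib.Blocks
open scoped ComplexConjugate CfsgLib.Char

section
variable {N : Type*} [Group N] [Fintype N] {p : ℕ} [hp : Fact p.Prime] {M : Ideal AlgInt}

theorem exists_regular_centralizing (S : Subgroup N) [S.Normal] (hS : IsPGroup p S)
    (hi : ¬ p ∣ S.index) :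
    ∃ O : Subgroup N, O.Normal ∧ ¬ p ∣ Nat.card O ∧
      ∀ x, x ∈ O ↔ IsPRegular p x ∧ x ∈ Subgroup.centralizer (S : Set N) := by
  classical
  set C := Subgroup.centralizer (S : Set N)
  set Z : Subgroup C := S.subgroupOf C
  have hZi : ¬ p ∣ Z.index := fun h => hi (h.trans (S.relIndex_dvd_index_of_normal C))
  have hZp : IsPGroup p Z := hS.comap_of_injective C.subtype C.subtype_injective
  obtain ⟨k, hk⟩ := hZp.exists_card_eq
  have hcop : Nat.Coprime (Nat.card Z) Z.index := by
    rw [hk]
    exact Nat.Coprime.pow_left k (hp.out.coprime_iff_not_dvd.mpr hZi)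
  obtain ⟨Q, hQ⟩ := Subgroup.exists_right_complement'_of_coprime hcop
  have hQc : Nat.card Q = Z.index := hQ.symm.index_eq_card.symm
  set O : Subgroup N := Q.map C.subtype
  have hO : ¬ p ∣ Nat.card O := by
    rwa [Subgroup.card_map_of_injective C.subtype_injective, hQc]
  have hmem : ∀ x, x ∈ O ↔ IsPRegular p x ∧ x ∈ C := by
    intro x
    refine ⟨fun hx => ⟨fun h => hO (h.trans ?_), ?_⟩, fun ⟨hreg, hxC⟩ => ?_⟩
    · rw [← Subgroup.orderOf_mk x hx]
      exact orderOf_dvd_natCard _
    · obtain ⟨q, -, rfl⟩ := hx
      exact q.2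
    · obtain ⟨⟨z, q⟩, hzq⟩ := hQ.2 (⟨x, hxC⟩ : C)
      simp only at hzq
      have hcomm : Commute ((z : C) : N) ((q : C) : N) := (q : C).2 _ z.2
      have hqreg : IsPRegular p ((q : C) : N) := fun h => hO (h.trans (by
        rw [Subgroup.card_map_of_injective C.subtype_injective, Subgroup.orderOf_coe,
          Subgroup.orderOf_coe]
        exact orderOf_dvd_natCard _))
      obtain ⟨j, hj⟩ := IsPGroup.iff_orderOf.mp hS ⟨_, z.2⟩
      rw [← Subgroup.orderOf_coe] at hj
      have h1 := isPPart_mul hcomm ⟨j, hj⟩ hqreg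
      rw [show ((z : C) : N) * ((q : C) : N) = x from congrArg Subtype.val hzq] at h1
      have h2 : ((z : C) : N) = 1 := IsPPart.unique hp.out h1
        ⟨x, one_mul x, Commute.one_left x, ⟨0, by simp⟩, hreg⟩
      refine ⟨(q : C), q.2, ?_⟩
      have h3 := congrArg Subtype.val hzq
      rw [Subgroup.coe_mul, h2, one_mul] at h3
      exact h3
  refine ⟨O, ⟨fun x hx g => ?_⟩, hO, hmem⟩
  rw [hmem] at hx ⊢
  refine ⟨?_, (inferInstance : C.Normal).conj_mem x hx.2 g⟩
  rw [IsPRegular, show orderOf (g * x * g⁻¹) = orderOf x from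
    orderOf_injective (MulAut.conj g).toMonoidHom (MulAut.conj g).injective x]
  exact hx.1

/-- The count for a group with a normal Sylow subgroup. -/
theorem card_blocks_normal (hM : IsPModular p M) (S : Subgroup N) [S.Normal] (hS : IsPGroup p S)
    (hi : ¬ p ∣ S.index) :
    Nat.card {b : Set (IrrCharacter N) // IsPBlock M b} =
      Nat.card {C : ConjClasses N // ∀ n, ConjClasses.mk n = C →
        IsPRegular p n ∧ n ∈ Subgroup.centralizer (S : Set N)} := by
  classical
  have := isPrime_of_isPModular hM
  obtain ⟨O, hOn, hO, hmem⟩ := exists_regular_centralizing S hS hi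
  haveI := hOn
  letI : Fintype (ConjClasses N) := Fintype.ofFinite _
  letI : Fintype O := Fintype.ofFinite _
  letI : Fintype (ConjClasses O) := Fintype.ofFinite _
  set L := {C : ConjClasses N // ∀ n, ConjClasses.mk n = C →
    IsPRegular p n ∧ n ∈ Subgroup.centralizer (S : Set N)}
  set Bl := {b : Set (IrrCharacter N) // IsPBlock M b}
  letI : Fintype L := Fintype.ofFinite _
  letI : Fintype Bl := Fintype.ofFinite _
  have hout : ∀ C : ConjClasses N, ConjClasses.mk (Quotient.out C) = C := fun C => Quotient.out_eq C
  have hLO : ∀ C : L, (Quotient.out C.1 : N) ∈ O := fun C => (hmem _).mpr (C.2 _ (hout _))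
  have hξ : ∀ b : Bl, ∃ ξ : IrrCharacter N, ξ ∈ b.1 := fun b => IsPBlock.nonempty b.2
  choose ξ hξ using hξ
  set u : (L → ResField M) →ₗ[ResField M] (Bl → ResField M) :=
    { toFun := fun c b => ∑ C : L, c C * res M (centralChar (ξ b : N → ℂ) (Quotient.out C.1))
      map_add' := fun c c' => funext fun b => by
        simp only [Pi.add_apply, add_mul, Finset.sum_add_distrib]
      map_smul' := fun r c => funext fun b => by
        simp only [Pi.smul_apply, smul_eq_mul, RingHom.id_apply, Finset.mul_sum, mul_assoc] } with hu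
  set v : (Bl → ResField M) →ₗ[ResField M] (L → ResField M) :=
    { toFun := fun a C => ∑ b : Bl, a b * res M (blockCoeff b.1 (Quotient.out C.1))
      map_add' := fun c c' => funext fun b => by
        simp only [Pi.add_apply, add_mul, Finset.sum_add_distrib]
      map_smul' := fun r c => funext fun b => by
        simp only [Pi.smul_apply, smul_eq_mul, RingHom.id_apply, Finset.mul_sum, mul_assoc] } with hv
  have huinj : Function.Injective u := by
    rw [← LinearMap.ker_eq_bot, LinearMap.ker_eq_bot']
    intro c hc
    have hlift : ∀ r : ResField M, ∃ z : ℂ, MemLocalRing M z ∧ res M z = r := fun r => by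
      obtain ⟨z, rfl⟩ := Ideal.Quotient.mk_surjective r
      exact ⟨z, z.2, res_coe z⟩
    choose lift hl1 hl2 using hlift
    set f : N → ℂ := ∑ C : L, lift (c C) • classInd (Quotient.out C.1)
    have hf : IsClassFunction N f := fun a x => by
      simp only [f, Finset.sum_apply, Pi.smul_apply, isClassFunction_classInd _ a x]
    have hfl : ∀ n, MemLocalRing M (f n) := fun n => by
      simp only [f, Finset.sum_apply, Pi.smul_apply, smul_eq_mul]
      exact memLocalRing_sum _ _ fun C _ => memLocalRing_mul (hl1 _) (memLocalRing_classInd _ _)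
    have hsupp : ∀ n, n ∉ O → f n = 0 := fun n hn => by
      simp only [f, Finset.sum_apply, Pi.smul_apply, smul_eq_mul]
      exact Finset.sum_eq_zero fun C _ => by rw [classInd_eq_zero_of_not_mem (hLO C) hn, mul_zero]
    have hω : ∀ χ : IrrCharacter N, MemLocalIdeal M (omega (χ : N → ℂ) f) := by
      intro χ
      set b : Bl := ⟨blockOf M (χ : N → ℂ), isPBlock_blockOf χ⟩
      have h1 := sub_mem_localIdeal_of_sameBlock
        (IsPBlock.sameBlock b.2 (mem_blockOf_self χ) (hξ b)) hf hfl
      refine (memLocalIdeal_iff_of_sub h1).mpr ?_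
      have h2 : res M (omega (ξ b : N → ℂ) f) = 0 := by
        rw [omega_sum, res_sum _ _ fun C _ => by
          rw [omega_smul, omega_classInd]
          exact memLocalRing_mul (hl1 _) (memLocalRing_centralChar _ _)]
        rw [Finset.sum_congr rfl fun C _ => by
          rw [omega_smul, omega_classInd, res_mul (hl1 _) (memLocalRing_centralChar _ _), hl2]]
        exact congrFun hc b
      exact (res_eq_zero_iff (memLocalRing_omega _ hf hfl)).mp h2
    set fO : O → ℂ := fun x => f x
    have hfO : IsClassFunction O fO := fun a x => hf (a : N) (x : N)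
    have hzero : ∀ x : O, MemLocalIdeal M (fO x) := by
      intro x
      rw [← ofOmega_omega hfO]
      refine memLocalIdeal_mul_left (memLocalRing_natCast_inv hM hO) (memLocalIdeal_sum _ _ fun θ _ => ?_)
      obtain ⟨χ, hχ⟩ := exists_irr_above (G := N) θ
      have h := hω χ
      rw [omega_eq_of_constituent hχ hf hsupp] at h
      exact memLocalIdeal_mul_right (memLocalIdeal_mul_right h
        (memLocalRing_of_isIntegral (irr_isIntegral θ.2 1)))
        (memLocalRing_of_isIntegral (irr_conj_isIntegral θ.2 _))
    funext C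
    have h := hzero ⟨_, hLO C⟩
    have hval : fO ⟨_, hLO C⟩ = lift (c C) := by
      show f (Quotient.out C.1) = _
      simp only [f, Finset.sum_apply, Pi.smul_apply, smul_eq_mul]
      rw [Finset.sum_eq_single_of_mem C (Finset.mem_univ _) fun D _ hD => ?_, classInd_self, mul_one]
      rw [classInd, if_neg, mul_zero]
      intro hcon
      refine hD (Subtype.ext ?_)
      rw [← hout D.1, ← hout C.1]
      exact ConjClasses.mk_eq_mk_iff_isConj.mpr hcon
    rw [hval] at h
    rw [← hl2 (c C), res_eq_zero h]
    rfl
  have hvinj : Function.Injective v := by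
    rw [← LinearMap.ker_eq_bot, LinearMap.ker_eq_bot']
    intro a ha
    funext b₀
    -- evaluate the combination of idempotents at the central character of `b₀`
    have hl : ∀ (b : Bl) (n : N), MemLocalRing M (blockCoeff b.1 n) := fun b =>
      IsPBlock.memLocalRing_blockCoeff b.2
    have key : ∀ n : N, ∑ b : Bl, a b * (res M (blockCoeff b.1 n) * res M (centralChar (ξ b₀ : N → ℂ) n)) = 0 := by
      intro n
      by_cases hn : IsPRegular p n ∧ n ∈ Subgroup.centralizer (S : Set N)
      · have hC : ∀ n', ConjClasses.mk n' = ConjClasses.mk n →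
            IsPRegular p n' ∧ n' ∈ Subgroup.centralizer (S : Set N) := by
          intro n' hn'
          obtain ⟨g, rfl⟩ := isConj_iff.mp (ConjClasses.mk_eq_mk_iff_isConj.mp hn'.symm)
          rw [← hmem] at hn ⊢
          exact hOn.conj_mem n hn g
        have h := congrFun ha (⟨ConjClasses.mk n, hC⟩ : L)
        have hconj : IsConj n (Quotient.out (ConjClasses.mk n)) :=
          ConjClasses.mk_eq_mk_iff_isConj.mp (hout _).symm
        simp only [← mul_assoc, ← Finset.sum_mul]
        rw [show ∑ b : Bl, a b * res M (blockCoeff b.1 n) = 0 from ?_, zero_mul]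
        rw [Finset.sum_congr rfl fun b _ => by
          rw [IsClassFunction.eq_of_isConj (isClassFunction_blockCoeff b.1) hconj]]
        exact h
      · refine Finset.sum_eq_zero fun b _ => ?_
        rw [not_and_or] at hn
        rcases hn with hn | hn
        · rw [blockCoeff_eq_zero_of_not_regular hM (IsPBlock.isBlockUnion b.2) hn, res_zero,
            zero_mul, mul_zero]
        · rw [res_eq_zero (memLocalIdeal_centralChar_of_not_centralizing hM S hS (ξ b₀) hn),
            mul_zero, mul_zero]
    have h2 : ∀ b : Bl, ∑ q : ConjClasses N, res M (blockCoeff b.1 (Quotient.out q)) *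
        res M (centralChar (ξ b₀ : N → ℂ) (Quotient.out q)) = if b = b₀ then 1 else 0 := by
      intro b
      have h := congrArg (res M) (omega_eq_sum_classes (ξ b₀) (isClassFunction_blockCoeff b.1))
      rw [omega_blockCoeff] at h
      rw [res_sum Finset.univ (fun q : ConjClasses N => blockCoeff b.1 (Quotient.out q) *
          centralChar (ξ b₀ : N → ℂ) (Quotient.out q))
        fun q _ => memLocalRing_mul (hl b _) (memLocalRing_centralChar _ _)] at h
      simp only [show ∀ n : N, res M (blockCoeff b.1 n * centralChar (ξ b₀ : N → ℂ) n) =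
        res M (blockCoeff b.1 n) * res M (centralChar (ξ b₀ : N → ℂ) n) from fun n =>
          res_mul (hl b n) (memLocalRing_centralChar (ξ b₀) n)] at h
      rw [← h]
      by_cases hb : b = b₀
      · rw [hb, indVec_of_mem (hξ b₀), if_pos rfl, res_one]
      · rw [indVec_of_notMem fun h' => hb (Subtype.ext (IsPBlock.eq_of_mem_of_mem b.2 b₀.2 h' (hξ b₀))),
          if_neg hb, res_zero]
    have h3 : ∑ q : ConjClasses N, ∑ b : Bl, a b * (res M (blockCoeff b.1 (Quotient.out q)) *
        res M (centralChar (ξ b₀ : N → ℂ) (Quotient.out q))) = 0 :=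
      Finset.sum_eq_zero fun q _ => key _
    rw [Finset.sum_comm] at h3
    simp only [← Finset.mul_sum, h2, mul_ite, mul_one, mul_zero, Finset.sum_ite_eq',
      Finset.mem_univ, if_true] at h3
    rw [Finset.sum_eq_single_of_mem b₀ (Finset.mem_univ _) fun x _ hx => if_neg hx, if_pos rfl] at h3
    exact h3
  have h1 := LinearMap.finrank_le_finrank_of_injective huinj
  have h2 := LinearMap.finrank_le_finrank_of_injective hvinj
  rw [Module.finrank_fintype_fun_eq_card, Module.finrank_fintype_fun_eq_card] at h1 h2
  rw [Nat.card_eq_fintype_card, Nat.card_eq_fintype_card]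
  exact le_antisymm h2 h1

end

/-- Let P be a Sylow p-subgroup of the finite group G with normalizer N, and fix a maximal ideal M of the algebraic integers containing p. The number of blocks of G having P as a defect group equals the number of conjugacy classes of N consisting of elements of order prime to p that centralize P. -/
theorem result {G : Type*} [Group G] [Finite G] (p : ℕ) [Fact p.Prime] (M : Ideal Cfsg.AlgInt) (hM : Cfsg.IsPModular p M) (P : Sylow p G) : Nat.card {B : Set (Cfsg.IrrCharacter G) // Cfsg.IsPBlock M B ∧ Cfsg.IsDefectGroup p M B (P : Subgroup G)} = Nat.card {C : ConjClasses (Subgroup.normalizer ((P : Subgroup G) : Set G)) // ∀ n : Subgroup.normalizer ((P : Subgroup G) : Set G), ConjClasses.mk n = C → ¬ p ∣ orderOf n ∧ (n : G) ∈ Subgroup.centralizer ((P : Subgroup G) : Set G)} := by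
  classical
  have : Fintype G := Fintype.ofFinite G
  have := isPrime_of_isPModular hM
  set N := Subgroup.normalizer ((P : Subgroup G) : Set G)
  letI : Fintype N := Fintype.ofFinite _
  set S : Subgroup N := (P : Subgroup G).subgroupOf N
  haveI : S.Normal := Subgroup.normal_in_normalizer
  have hS : IsPGroup p S := P.2.comap_of_injective N.subtype N.subtype_injective
  have hSi : ¬ p ∣ S.index := fun h => P.not_dvd_index
    (h.trans ⟨_, (Subgroup.relIndex_mul_index Subgroup.le_normalizer).symm⟩)
  have hall : ∀ b : Set (IrrCharacter N), IsPBlock M b → IsDefectGroup p M b S := by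
    intro b hb
    obtain ⟨D, hD⟩ := exists_isDefectGroup hM hb
    have hle := IsDefectGroup.normal_le hM hb hD S hS
    obtain ⟨d, hd⟩ := (IsDefectGroup.isPGroup hM hD).exists_card_eq
    suffices D = S by rwa [this] at hD
    refine le_antisymm ?_ hle
    rw [← Subgroup.relIndex_eq_one]
    obtain ⟨j, hj⟩ := (IsDefectGroup.isPGroup hM hD).index (S.subgroupOf D)
    rcases j with - | j
    · rw [Subgroup.relIndex, hj, pow_zero]
    · exact absurd (((dvd_pow_self p j.succ_ne_zero).trans (hj ▸ dvd_rfl)).trans
        (S.relIndex_dvd_index_of_normal D)) hSi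
  obtain ⟨hfirst₁, hfirst₂⟩ := first_main_theorem hM (D := (P : Subgroup G)) P.2
  have hex : ∀ B : {B : Set (IrrCharacter G) // IsPBlock M B ∧ IsDefectGroup p M B (P : Subgroup G)},
      ∃ b : {b : Set (IrrCharacter N) // IsPBlock M b}, IsInducedBlock M N b.1 B.1 := fun B => by
    obtain ⟨b, ⟨hb, -, hind⟩, -⟩ := hfirst₂ B.1 B.2.1 B.2.2
    exact ⟨⟨b, hb⟩, hind⟩
  choose F hF using hex
  have hFb : Function.Bijective F := by
    constructor
    · intro B B' h
      have h' := hF B'
      rw [← h] at h'
      exact Subtype.ext (IsInducedBlock.unique (hF B) h')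
    · intro b
      obtain ⟨B, hB, hBD, hind⟩ := hfirst₁ b.1 b.2 (hall b.1 b.2)
      refine ⟨⟨B, hB, hBD⟩, ?_⟩
      obtain ⟨b', -, huniq⟩ := hfirst₂ B hB hBD
      exact Subtype.ext ((huniq (F ⟨B, hB, hBD⟩).1 ⟨(F _).2, hall _ (F _).2, hF _⟩).trans
        (huniq b.1 ⟨b.2, hall _ b.2, hind⟩).symm)
  rw [Nat.card_congr (Equiv.ofBijective F hFb), card_blocks_normal hM S hS hSi]
  refine Nat.card_congr (Equiv.subtypeEquivRight fun C => forall_congr' fun n => imp_congr_right fun _ => ?_)
  refine and_congr_right fun _ => ⟨fun h => ?_, fun h => ?_⟩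
  · intro q hq
    exact congrArg Subtype.val (h ⟨q, Subgroup.le_normalizer hq⟩ hq)
  · intro q hq
    exact Subtype.ext (h (q : G) hq)
end Cfsg.Agent.S0953
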