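import Cfsg.Statements.S0954
import Cfsg.Agent.Lib.Blocks.Covering
import Cfsg.Agent.Lib.Blocks.HeightZero
import Cfsg.Agent.Lib.Blocks.Sections
import Cfsg.Agent.Lib.Char.Central

set_option autoImplicit false
open Cfsg

namespace Cfsg.Agent.S0954

open CfsgLib CfsgLib.Blocks
open scoped ComplexConjugate CfsgLib.Char

/-- Let N be a normal subgroup of the finite group G of order prime to p and of p-power index (a normal p-complement), and fix a maximal ideal M of the algebraic integers containing p. Then two irreducible characters χ, ψ of G lie in the same block if and only if some irreducible character of N has nonzero inner product with both the restriction of χ and the restriction of ψ. -/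
theorem result {G : Type*} [Group G] [Fintype G] (p : ℕ) [Fact p.Prime] (M : Ideal Cfsg.AlgInt) (hM : Cfsg.IsPModular p M) (N : Subgroup G) [N.Normal] [Fintype N] (hN : ¬ p ∣ Nat.card N) (hidx : ∃ k : ℕ, N.index = p ^ k) (χ ψ : Cfsg.IrrCharacter G) : Cfsg.SameBlock M (χ : G → ℂ) (ψ : G → ℂ) ↔ ∃ θ : Cfsg.IrrCharacter N, Cfsg.classInner (fun n : N => (χ : G → ℂ) n) (θ : N → ℂ) ≠ 0 ∧ Cfsg.classInner (fun n : N => (ψ : G → ℂ) n) (θ : N → ℂ) ≠ 0 := by
  classical
  have := isPrime_of_isPModular hM
  -- every character of `N` is alone in its block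
  have hone : ∀ θ θ' : IrrCharacter N, SameBlock M (θ : N → ℂ) (θ' : N → ℂ) → θ' = θ := by
    intro θ θ' h
    by_contra hne
    have hreg : ∀ η : IrrCharacter N, regPart p (η : N → ℂ) = (η : N → ℂ) := fun η =>
      funext fun n => regPart_of_regular fun h => hN (h.trans (orderOf_dvd_natCard n))
    have hc := sub_mem_localIdeal_of_sameBlock h (isClassFunction_dualReg (p := p) (irr_classFunction θ))
      (memLocalRing_dualReg θ)
    rw [omega_dualReg, omega_dualReg, hreg, hreg, Char.classInner_coe, Char.classInner_coe,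
      if_pos rfl, if_neg hne, mul_one, mul_zero, zero_div, sub_zero, (irr_degree_eq θ).1] at hc
    obtain ⟨m, hm, hm0, hmdvd⟩ := Char.exists_degree_dvd_card θ.2
    have hd : charDegree (θ : N → ℂ) = m := by
      exact_mod_cast (irr_degree_eq θ).1.symm.trans hm
    refine (unit_natCast_div hM Nat.card_pos.ne' (irr_degree_eq θ).2.ne' ?_).2 hc
    rw [Nat.factorization_eq_zero_of_not_dvd hN, hd,
      Nat.factorization_eq_zero_of_not_dvd fun h => hN (h.trans hmdvd)]
  obtain ⟨k, hk⟩ := hidx
  constructor
  · intro h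
    obtain ⟨θ, hθ⟩ := Char.exists_constituent N (Char.isCharacter_of_isIrr χ.2)
      (Char.irr_degree_ne_zero χ.2)
    obtain ⟨θ', hθ'⟩ := Char.exists_constituent N (Char.isCharacter_of_isIrr ψ.2)
      (Char.irr_degree_ne_zero ψ.2)
    obtain ⟨g, hg⟩ := exists_conjI_mem_of_congr (isPBlock_blockOf θ) (mem_blockOf_self θ) (χ := ψ)
      (fun v hv hl hsupp => omega_congr_of_covering (isPBlock_blockOf χ) (isPBlock_blockOf θ)
        (mem_blockOf_self χ) (mem_blockOf_self θ) hθ h (mem_blockOf_self θ) hv hl hsupp) hθ'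
    refine ⟨θ, hθ, ?_⟩
    rw [← hone θ _ hg, coe_conjI, ← Char.conjBy_restrict N (irr_classFunction ψ) g,
      Char.classInner_conjBy]
    exact hθ'
  · rintro ⟨θ, hχ, hψ⟩
    have hreg : ∀ g : G, IsPRegular p g → g ∈ N := by
      intro g hg
      have h : g ^ p ^ k ∈ N := hk ▸ N.pow_index_mem g
      obtain ⟨m, hm⟩ := exists_pow_eq_self_of_coprime
        ((Nat.Coprime.pow_right k ((hM.1.coprime_iff_not_dvd.mpr hg).symm)).symm)
      rw [← hm]
      exact N.pow_mem h m
    set B := blockOf M (χ : G → ℂ)
    have hB : IsPBlock M B := isPBlock_blockOf χ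
    have hsupp : ∀ g, g ∉ N → blockCoeff B g = 0 := fun g hg =>
      blockCoeff_eq_zero_of_not_regular hM (IsPBlock.isBlockUnion hB) fun h => hg (hreg g h)
    have h1 : omega (ψ : G → ℂ) (blockCoeff B) = omega (χ : G → ℂ) (blockCoeff B) := by
      rw [omega_eq_of_constituent hχ (isClassFunction_blockCoeff B) hsupp,
        omega_eq_of_constituent hψ (isClassFunction_blockCoeff B) hsupp]
    rw [omega_blockCoeff, omega_blockCoeff, indVec_of_mem (mem_blockOf_self χ)] at h1
    by_contra hn
    rw [indVec_of_notMem (S := B) hn] at h1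
    exact zero_ne_one h1
end Cfsg.Agent.S0954
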