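import Cfsg.Statements.S0955
import Cfsg.Agent.Lib.Blocks.MainFirst
import Cfsg.Agent.Lib.Fitting.Basic

set_option autoImplicit false
open Cfsg

namespace Cfsg.Agent.S0955

/-- Let D be a defect group of a block of the finite group G relative to a maximal ideal M of the algebraic integers containing the prime p. Then D is the largest normal p-subgroup of its own normalizer: O_p(N_G(D)) = D. -/
theorem result {G : Type*} [Group G] [Finite G] (p : ℕ) [Fact p.Prime] (M : Ideal Cfsg.AlgInt) (hM : Cfsg.IsPModular p M) (B : Set (Cfsg.IrrCharacter G)) (hB : Cfsg.IsPBlock M B) (D : Subgroup G) (hD : Cfsg.IsDefectGroup p M B D) : (Cfsg.pCore p (Subgroup.normalizer (D : Set G))).map (Subgroup.normalizer (D : Set G)).subtype = D := by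
  classical
  have := Fintype.ofFinite G
  have hDp := CfsgLib.Blocks.IsDefectGroup.isPGroup hM hD
  obtain ⟨b, ⟨hb, hbd, -⟩, -⟩ := (CfsgLib.Blocks.first_main_theorem hM hDp).2 B hB hD
  set N := Subgroup.normalizer (D : Set G)
  have := Fintype.ofFinite N
  have hn : (D.subgroupOf N).Normal := Subgroup.normal_in_normalizer
  have hDN : D ≤ N := Subgroup.le_normalizer
  have : (Cfsg.pCore p N).Normal := CfsgLib.Fitting.pCore_normal (G := N) p
  apply le_antisymm
  · rintro _ ⟨x, hx, rfl⟩
    exact Subgroup.mem_subgroupOf.mp (CfsgLib.Blocks.IsDefectGroup.normal_le hM hb hbd _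
      (CfsgLib.Fitting.pCore_isPGroup (G := N) p) hx)
  · intro d hd
    refine ⟨⟨d, hDN hd⟩, CfsgLib.Fitting.le_pCore hn (hDp.comap_subtype) ?_, rfl⟩
    exact Subgroup.mem_subgroupOf.mpr hd
end Cfsg.Agent.S0955
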