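import Cfsg.Statements.S0957
import Cfsg.Agent.Lib.Blocks.Sylow

set_option autoImplicit false
open Cfsg

namespace Cfsg.Agent.S0957

open CfsgLib CfsgLib.Blocks

/-- Let P be a Sylow p-subgroup of the finite group G, let g, h ∈ G and let p ^ d be the order of a Sylow p-subgroup of the centralizer of g. Then the number of pairs (y, z) with y conjugate to g, z conjugate to h and z * y⁻¹ ∈ P is divisible by the order of P divided by p ^ d. -/
theorem result {G : Type*} [Group G] [Finite G] (p : ℕ) [Fact p.Prime] (P : Sylow p G) (g h : G) (S : Sylow p (Subgroup.centralizer ({g} : Set G))) : Nat.card P / Nat.card S ∣ Nat.card {yz : G × G // IsConj g yz.1 ∧ IsConj h yz.2 ∧ yz.2 * yz.1⁻¹ ∈ (P : Subgroup G)} := by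
  classical
  set W := {yz : G × G // IsConj g yz.1 ∧ IsConj h yz.2 ∧ yz.2 * yz.1⁻¹ ∈ (P : Subgroup G)}
  letI : MulAction (P : Subgroup G) W :=
    { smul := fun u w => ⟨((u : G) * w.1.1 * (u : G)⁻¹, (u : G) * w.1.2 * (u : G)⁻¹),
        w.2.1.trans (isConj_iff.mpr ⟨u, rfl⟩), w.2.2.1.trans (isConj_iff.mpr ⟨u, rfl⟩), by
          have : (u : G) * w.1.2 * (u : G)⁻¹ * ((u : G) * w.1.1 * (u : G)⁻¹)⁻¹ =
              (u : G) * (w.1.2 * w.1.1⁻¹) * (u : G)⁻¹ := by group
          rw [this]
          exact Subgroup.mul_mem _ (Subgroup.mul_mem _ u.2 w.2.2.2) (Subgroup.inv_mem _ u.2)⟩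
      one_smul := fun w => Subtype.ext (by
        show (((1 : (P : Subgroup G)) : G) * w.1.1 * _, _) = w.1
        simp)
      mul_smul := fun a b w => Subtype.ext (by
        show (((a * b : (P : Subgroup G)) : G) * w.1.1 * _, ((a * b : (P : Subgroup G)) : G) * w.1.2 * _) =
          ((a : G) * ((b : G) * w.1.1 * (b : G)⁻¹) * (a : G)⁻¹,
           (a : G) * ((b : G) * w.1.2 * (b : G)⁻¹) * (a : G)⁻¹)
        simp [mul_assoc]) }
  have hsylS : IsSylowCent p g ((S : Subgroup (Subgroup.centralizer ({g} : Set G))).map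
      (Subgroup.centralizer ({g} : Set G)).subtype) := isSylowCent_iff.mpr ⟨S, rfl⟩
  have horb : ∀ w : W, Nat.card (P : Subgroup G) / Nat.card (S : Subgroup (Subgroup.centralizer ({g} : Set G))) ∣
      Nat.card (MulAction.orbit (P : Subgroup G) w) := by
    intro w
    set T := MulAction.stabilizer (P : Subgroup G) w
    set Q : Subgroup G := T.map (P : Subgroup G).subtype
    have hQp : IsPGroup p Q := (P.2.to_subgroup T).map _
    have hQy : Q ≤ Subgroup.centralizer ({w.1.1} : Set G) := by
      rintro _ ⟨u, hu, rfl⟩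
      have h1 : (u : G) * w.1.1 * (u : G)⁻¹ = w.1.1 :=
        congrArg (fun x : W => x.1.1) (MulAction.mem_stabilizer_iff.mp hu)
      exact Subgroup.mem_centralizer_singleton_iff.mpr (mul_inv_eq_iff_eq_mul.mp h1)
    obtain ⟨x, hx⟩ := IsSylowCent.exists_conj_le_of_isConj hsylS w.2.1 hQp hQy
    have hle : Nat.card T ≤ Nat.card (S : Subgroup (Subgroup.centralizer ({g} : Set G))) := by
      have := Subgroup.card_le_of_le hx
      rwa [card_map_conj, Subgroup.card_map_of_injective (Subgroup.subtype_injective _),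
        Subgroup.card_map_of_injective (Subgroup.subtype_injective _)] at this
    obtain ⟨a, ha⟩ := (P.2.to_subgroup T).exists_card_eq
    obtain ⟨b, hb⟩ := S.2.exists_card_eq
    have hab : Nat.card T ∣ Nat.card (S : Subgroup (Subgroup.centralizer ({g} : Set G))) := by
      rw [ha, hb] at hle ⊢
      exact pow_dvd_pow p ((Nat.pow_le_pow_iff_right (Fact.out : p.Prime).one_lt).mp hle)
    obtain ⟨q, hq⟩ := hab
    have hcard : Nat.card (MulAction.orbit (P : Subgroup G) w) * Nat.card T =
        Nat.card (P : Subgroup G) := by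
      rw [Nat.card_congr (MulAction.orbitEquivQuotientStabilizer (P : Subgroup G) w),
        ← Subgroup.index_eq_card, T.index_mul_card]
    rw [← hcard, hq, mul_comm _ (Nat.card T), Nat.mul_div_mul_left _ _ Nat.card_pos]
    refine Nat.div_dvd_of_dvd ?_
    have hSP : Nat.card (S : Subgroup (Subgroup.centralizer ({g} : Set G))) ∣
        Nat.card (P : Subgroup G) := by
      rw [P.card_eq_multiplicity, hb, (Fact.out : p.Prime).pow_dvd_iff_le_factorization]
      · rw [(Fact.out : p.Prime).factorization_pow, Finsupp.single_eq_same]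
        refine ((Fact.out : p.Prime).pow_dvd_iff_le_factorization Nat.card_pos.ne').mp ?_
        rw [← hb]
        exact (Subgroup.card_subgroup_dvd_card _).trans (Subgroup.card_subgroup_dvd_card _)
      · exact pow_ne_zero _ (Fact.out : p.Prime).ne_zero
    rw [hq, ← hcard, mul_comm (Nat.card _) (Nat.card T)] at hSP
    exact (Nat.mul_dvd_mul_iff_left Nat.card_pos).mp hSP
  show _ ∣ Nat.card W
  rw [Nat.card_congr (MulAction.selfEquivSigmaOrbits (P : Subgroup G) W)]
  letI : Fintype (MulAction.orbitRel.Quotient (P : Subgroup G) W) := Fintype.ofFinite _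
  rw [Nat.card_sigma]
  exact Finset.dvd_sum fun o _ => horb _
end Cfsg.Agent.S0957
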