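import Cfsg.Statements.S0961
import Cfsg.Agent.Lib.Blocks.BrauerFeit

set_option autoImplicit false
open Cfsg

namespace Cfsg.Agent.S0961

open scoped CfsgLib.Char

/-- Let χ be an irreducible character of the finite group G and let p ^ a be the largest power of the prime p dividing the order of G. Then the function equal to p ^ a * χ x at elements x of order prime to p and to 0 elsewhere is a generalized character (a difference of characters). -/
theorem result {G : Type*} [Group G] [Finite G] (p : ℕ) [Fact p.Prime] (χ : Cfsg.IrrCharacter G) : Cfsg.IsGeneralizedCharacter G (fun x : G => if p ∣ orderOf x then 0 else ((p ^ (Nat.card G).factorization p : ℕ) : ℂ) * (χ : G → ℂ) x) := by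
  classical
  have := Fintype.ofFinite G
  obtain ⟨M, hM⟩ := CfsgLib.Blocks.exists_isPModular (Fact.out : p.Prime)
  have h := CfsgLib.Char.isGeneralized_intCast_smul (CfsgLib.Blocks.isGeneralized_smul_regPart hM χ)
    ((p : ℤ) ^ (Cfsg.charDegree (χ : G → ℂ)).factorization p)
  convert h using 1
  funext x
  have hle := CfsgLib.Blocks.degree_factorization_le (p := p) χ
  simp only [Pi.smul_apply, smul_eq_mul]
  by_cases hx : p ∣ orderOf x
  · rw [if_pos hx, CfsgLib.Blocks.regPart_of_singular (show ¬ Cfsg.IsPRegular p x from not_not.mpr hx), mul_zero, mul_zero]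
  · rw [if_neg hx, CfsgLib.Blocks.regPart_of_regular (show Cfsg.IsPRegular p x from hx)]
    push_cast
    rw [← mul_assoc, ← pow_add, Nat.add_sub_cancel' hle]
end Cfsg.Agent.S0961
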