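import Cfsg.Statements.S0962
import Cfsg.Agent.Lib.Blocks.Defect

set_option autoImplicit false
open Cfsg

namespace Cfsg.Agent.S0962

/-- Fix a maximal ideal M of the algebraic integers containing the prime p and a natural number d. The number of blocks of the finite group G of defect at least d is at most the number of conjugacy classes of p-regular elements of G of defect at least d, where the defect of a class is the exponent of p in the order of the centralizer of any of its elements. -/
theorem result {G : Type*} [Group G] [Finite G] (p : ℕ) [Fact p.Prime] (M : Ideal Cfsg.AlgInt) (hM : Cfsg.IsPModular p M) (d : ℕ) : Nat.card {B : Set (Cfsg.IrrCharacter G) // Cfsg.IsPBlock M B ∧ d ≤ Cfsg.blockDefect p B} ≤ Nat.card {C : ConjClasses G // ∃ g : G, ConjClasses.mk g = C ∧ Cfsg.IsPRegular p g ∧ d ≤ (Nat.card (Subgroup.centralizer ({g} : Set G))).factorization p} := by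
  classical
  have := Fintype.ofFinite G
  have := CfsgLib.Blocks.isPrime_of_isPModular hM
  have : Fintype (ConjClasses G) := Fintype.ofFinite _
  open CfsgLib.Blocks in
  set κ := {C : ConjClasses G // ∃ g : G, ConjClasses.mk g = C ∧ Cfsg.IsPRegular p g ∧
    d ≤ (Nat.card (Subgroup.centralizer ({g} : Set G))).factorization p}
  set ι := {B : Set (Cfsg.IrrCharacter G) // Cfsg.IsPBlock M B ∧ d ≤ Cfsg.blockDefect p B}
  have : Finite (Cfsg.IrrCharacter G) := CfsgLib.Char.finite_irrCharacter
  have : Fintype ι := Fintype.ofFinite _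
  letI : Fintype κ := Subtype.fintype _
  choose χ hχ using fun B : ι => CfsgLib.Blocks.IsPBlock.nonempty B.2.1
  let w : ι → κ → CfsgLib.Blocks.ResField M := fun B C =>
    CfsgLib.Blocks.res M (Cfsg.centralChar (χ B : G → ℂ) (Quotient.out C.1))
  have hz : ∀ (B₀ B : ι) (c : ConjClasses G), (¬ ∃ g : G, ConjClasses.mk g = c ∧ Cfsg.IsPRegular p g ∧
      d ≤ (Nat.card (Subgroup.centralizer ({g} : Set G))).factorization p) →
      CfsgLib.Blocks.res M (Cfsg.blockCoeff B₀.1 (Quotient.out c) *
        Cfsg.centralChar (χ B : G → ℂ) (Quotient.out c)) = 0 := by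
    intro B₀ B c hc
    set g := Quotient.out c
    have hgc : ConjClasses.mk g = c := Quotient.out_eq c
    by_cases hreg : Cfsg.IsPRegular p g
    · refine CfsgLib.Blocks.res_eq_zero (CfsgLib.Blocks.memLocalIdeal_mul_left
        (CfsgLib.Blocks.IsPBlock.memLocalRing_blockCoeff B₀.2.1 g) ?_)
      by_contra hu
      obtain ⟨D, hD⟩ := CfsgLib.Blocks.exists_isDefectGroup hM B.2.1
      obtain ⟨y, hy, hle⟩ :=
        CfsgLib.Blocks.IsDefectGroup.exists_isConj_centralizing hM B.2.1 hD (hχ B) hu
      have hdvd := Subgroup.card_dvd_of_le hle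
      rw [CfsgLib.Blocks.IsDefectGroup.card_eq hM B.2.1 hD,
        hM.1.pow_dvd_iff_le_factorization Nat.card_pos.ne'] at hdvd
      exact hc ⟨y, (ConjClasses.mk_eq_mk_iff_isConj.mpr hy).symm.trans hgc,
        CfsgLib.Blocks.IsPRegular.of_isConj hy hreg, le_trans B.2.2 hdvd⟩
    · rw [CfsgLib.Blocks.blockCoeff_eq_zero_of_not_regular hM
        (CfsgLib.Blocks.IsPBlock.isBlockUnion B₀.2.1) hreg, zero_mul, CfsgLib.Blocks.res_zero]
  have hpair : ∀ B₀ B : ι, ∑ C : κ, CfsgLib.Blocks.res M (Cfsg.blockCoeff B₀.1 (Quotient.out C.1)) *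
      w B C = if B = B₀ then 1 else 0 := by
    intro B₀ B
    have hl : ∀ g, Cfsg.MemLocalRing M (Cfsg.blockCoeff B₀.1 g * Cfsg.centralChar (χ B : G → ℂ) g) :=
      fun g => CfsgLib.Blocks.memLocalRing_mul
        (CfsgLib.Blocks.IsPBlock.memLocalRing_blockCoeff B₀.2.1 g)
        (CfsgLib.Blocks.memLocalRing_centralChar (χ B) g)
    have h := CfsgLib.Blocks.omega_eq_sum_classes (χ B)
      (CfsgLib.Blocks.isClassFunction_blockCoeff B₀.1)
    rw [CfsgLib.Blocks.omega_blockCoeff] at h
    have h' := congrArg (CfsgLib.Blocks.res M) h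
    replace h' := h'.trans (CfsgLib.Blocks.res_sum Finset.univ _ fun c _ => hl (Quotient.out c))
    rw [← Fintype.sum_subtype_add_sum_subtype (fun c : ConjClasses G => ∃ g : G,
      ConjClasses.mk g = c ∧ Cfsg.IsPRegular p g ∧
      d ≤ (Nat.card (Subgroup.centralizer ({g} : Set G))).factorization p),
      Finset.sum_eq_zero (s := (Finset.univ : Finset {c : ConjClasses G // ¬ _}))
        (fun c _ => hz B₀ B c.1 c.2), add_zero] at h'
    refine ((Finset.sum_congr rfl fun C _ => (CfsgLib.Blocks.res_mul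
      (CfsgLib.Blocks.IsPBlock.memLocalRing_blockCoeff B₀.2.1 _)
      (CfsgLib.Blocks.memLocalRing_centralChar (χ B) _)).symm).trans ?_)
    rcases eq_or_ne B B₀ with rfl | hne
    · rw [if_pos rfl]
      refine (h'.symm.trans ?_)
      rw [CfsgLib.Blocks.indVec_of_mem (hχ _), CfsgLib.Blocks.res_one]
    · rw [if_neg hne]
      refine (h'.symm.trans ?_)
      rw [CfsgLib.Blocks.indVec_of_notMem fun hm => hne (Subtype.ext
        (CfsgLib.Blocks.IsPBlock.eq_of_mem_of_mem B.2.1 B₀.2.1 (hχ B) hm)), CfsgLib.Blocks.res_zero]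
  have hli : LinearIndependent (CfsgLib.Blocks.ResField M) w := by
    rw [Fintype.linearIndependent_iff]
    intro c hc B₀
    have h0 : ∑ C : κ, CfsgLib.Blocks.res M (Cfsg.blockCoeff B₀.1 (Quotient.out C.1)) *
        (∑ B, c B • w B) C = 0 := by rw [hc]; simp
    simp only [Finset.sum_apply, Pi.smul_apply, smul_eq_mul, Finset.mul_sum,
      mul_left_comm _ (c _)] at h0
    rw [Finset.sum_comm] at h0
    simp only [← Finset.mul_sum, hpair, mul_ite, mul_one, mul_zero] at h0
    rwa [Finset.sum_eq_single B₀ (fun b _ hb => if_neg hb) (fun h => absurd (Finset.mem_univ _) h),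
      if_pos rfl] at h0
  have := hli.fintype_card_le_finrank
  rwa [Module.finrank_pi, ← Nat.card_eq_fintype_card, ← Nat.card_eq_fintype_card] at this
end Cfsg.Agent.S0962
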