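import Cfsg.Statements.S0963
import Cfsg.Agent.Lib.Blocks.Covering

set_option autoImplicit false
open Cfsg

namespace Cfsg.Agent.S0963

open CfsgLib CfsgLib.Blocks
open scoped ComplexConjugate CfsgLib.Char

/-- Let N be a normal subgroup of the finite group G, χ an irreducible character of G and θ an irreducible character of N. Then θ occurs in the restriction of χ to N if and only if, for every n ∈ N, the central character of χ at n (class size in G times χ n over χ 1) equals the sum of θ m / θ 1 over the elements m of N conjugate in G to n. -/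
theorem result {G : Type*} [Group G] [Fintype G] (N : Subgroup G) [N.Normal] [Fintype N] (χ : Cfsg.IrrCharacter G) (θ : Cfsg.IrrCharacter N) : Cfsg.classInner (fun n : N => (χ : G → ℂ) n) (θ : N → ℂ) ≠ 0 ↔ ∀ n : N, Cfsg.centralChar (χ : G → ℂ) (n : G) = Cfsg.inducedCentralChar N (θ : N → ℂ) (n : G) := by
  classical
  refine ⟨centralChar_eq_inducedCentralChar_of_constituent, fun h => ?_⟩
  set v : G → ℂ := fun g => if g ∈ N then conj ((χ : G → ℂ) g) else 0 with hv
  have hvc : IsClassFunction G v := fun g x => by
    simp only [hv, irr_classFunction χ g x]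
    exact if_congr ⟨fun h => by simpa [mul_assoc] using ‹N.Normal›.conj_mem _ h x⁻¹,
      fun h => ‹N.Normal›.conj_mem g h x⟩ rfl rfl
  have hsupp : ∀ g, g ∉ N → v g = 0 := fun g hg => if_neg hg
  have hcl : omega (χ : G → ℂ) v = omega (θ : N → ℂ) (fun n : N => v n) := by
    have hexp : ∀ g, (Nat.card G : ℂ) * v g =
        ∑ y, v y * ((Nat.card (Subgroup.centralizer ({y} : Set G)) : ℂ) * classInd y g) := fun g => by
      rw [Finset.sum_congr rfl (g := fun y => (Nat.card (Subgroup.centralizer ({g} : Set G)) : ℂ) *
        (classInd g y * v g)) fun y _ => ?_]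
      · rw [← Finset.mul_sum, ← Finset.sum_mul, ← mul_assoc]
        congr 1
        have h1 : ∑ y, classInd g y = ((Subgroup.centralizer ({g} : Set G)).index : ℂ) := by
          have h2 := omega_classInd (trivIrr G) g
          simpa [omega, centralChar, trivIrr] using h2
        rw [h1, ← Nat.cast_mul, Subgroup.card_mul_index]
      · by_cases hc : IsConj y g
        · obtain ⟨a, ha⟩ := isConj_iff.mp hc
          have hcard : Nat.card (Subgroup.centralizer ({y} : Set G)) =
              Nat.card (Subgroup.centralizer ({g} : Set G)) := by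
            rw [← ha, ← map_conj_centralizer y a, card_map_conj]
          rw [classInd, if_pos hc, classInd, if_pos hc.symm, hcard,
            IsClassFunction.eq_of_isConj hvc hc]
          ring
        · rw [classInd, if_neg hc, classInd, if_neg fun h => hc h.symm]
          ring
    have hn : (Nat.card G : ℂ) ≠ 0 := Nat.cast_ne_zero.mpr Nat.card_pos.ne'
    have hvs : v = ∑ y, (v y * (Nat.card (Subgroup.centralizer ({y} : Set G)) : ℂ) /
        (Nat.card G : ℂ)) • classInd y := by
      funext g
      rw [Finset.sum_apply, ← mul_right_inj' hn, hexp g, Finset.mul_sum]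
      exact Finset.sum_congr rfl fun y _ => by rw [Pi.smul_apply, smul_eq_mul]; field_simp
    have hlin : (fun n : N => v n) = ∑ y, (v y * (Nat.card (Subgroup.centralizer ({y} : Set G)) : ℂ) /
        (Nat.card G : ℂ)) • fun n : N => classInd y (n : G) := by
      funext n
      rw [congrFun hvs (n : G), Finset.sum_apply, Finset.sum_apply]
      rfl
    rw [hlin, hvs, omega_sum, omega_sum, ← hvs]
    refine Finset.sum_congr rfl fun y _ => ?_
    rw [omega_smul, omega_smul]
    by_cases hy : y ∈ N
    · rw [omega_classInd, h ⟨y, hy⟩, inducedCentralChar_eq_omega_classInd]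
    · simp [hsupp y hy]
  intro h0
  have hsum : ∑ n : N, v n * (θ : N → ℂ) n = 0 := by
    have h0' := congrArg conj h0
    rw [map_zero, classInner, map_mul, mul_eq_zero] at h0'
    have h1 := h0'.resolve_left (by simp [Nat.card_pos.ne'])
    rw [map_sum] at h1
    rw [← h1]
    exact Finset.sum_congr rfl fun n _ => by simp [hv, n.2, map_mul]
  rw [omega, omega, hsum, zero_div, div_eq_zero_iff, or_iff_left (Char.irr_degree_ne_zero χ.2)] at hcl
  have hpos : ∀ g, v g * (χ : G → ℂ) g =
      ((if g ∈ N then Complex.normSq ((χ : G → ℂ) g) else 0 : ℝ) : ℂ) := fun g => by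
    by_cases hg : g ∈ N
    · simp only [hv, if_pos hg]
      rw [mul_comm, Complex.mul_conj]
    · simp only [hv, if_neg hg, zero_mul, Complex.ofReal_zero]
  rw [Finset.sum_congr rfl fun g _ => hpos g, ← Complex.ofReal_sum, Complex.ofReal_eq_zero,
    Finset.sum_eq_zero_iff_of_nonneg fun g _ => by
      split_ifs
      exacts [Complex.normSq_nonneg _, le_rfl]] at hcl
  have h1 := hcl 1 (Finset.mem_univ _)
  rw [if_pos N.one_mem, Complex.normSq_eq_zero] at h1
  exact Char.irr_degree_ne_zero χ.2 h1
end Cfsg.Agent.S0963
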