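import Cfsg.Statements.S0965
import Cfsg.Agent.Lib.Blocks.Covering

set_option autoImplicit false
open Cfsg

namespace Cfsg.Agent.S0965

open CfsgLib CfsgLib.Blocks
open scoped ComplexConjugate CfsgLib.Char

/-- Let N be a normal subgroup of the finite group G and let B, b be blocks of G and of N relative to a maximal ideal M of the algebraic integers containing the prime p. Then some χ ∈ B has a constituent in b on restriction to N if and only if, for all χ ∈ B, θ ∈ b and n ∈ N, the central character of χ at n is congruent modulo the local ideal at M to the sum of θ m / θ 1 over the elements m ∈ N conjugate in G to n. -/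
theorem result {G : Type*} [Group G] [Fintype G] (p : ℕ) [Fact p.Prime] (M : Ideal Cfsg.AlgInt) (hM : Cfsg.IsPModular p M) (N : Subgroup G) [N.Normal] [Fintype N] (B : Set (Cfsg.IrrCharacter G)) (hB : Cfsg.IsPBlock M B) (b : Set (Cfsg.IrrCharacter N)) (hb : Cfsg.IsPBlock M b) : (∃ χ ∈ B, ∃ θ ∈ b, Cfsg.classInner (fun n : N => (χ : G → ℂ) n) (θ : N → ℂ) ≠ 0) ↔ ∀ χ ∈ B, ∀ θ ∈ b, ∀ n : N, Cfsg.MemLocalIdeal M (Cfsg.centralChar (χ : G → ℂ) (n : G) - Cfsg.inducedCentralChar N (θ : N → ℂ) (n : G)) := by
  classical
  have := isPrime_of_isPModular hM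
  constructor
  · rintro ⟨χ, hχ, θ, hθ, hcon⟩ χ' hχ' θ' hθ' n
    have h := omega_congr_of_covering hB hb hχ hθ hcon hχ' hθ' (isClassFunction_classInd (n : G))
      (memLocalRing_classInd (n : G)) fun g hg => classInd_eq_zero_of_not_mem n.2 hg
    rwa [omega_classInd, ← inducedCentralChar_eq_omega_classInd] at h
  · intro h
    obtain ⟨χ, hχ⟩ := IsPBlock.nonempty hB
    obtain ⟨θ, hθ⟩ := IsPBlock.nonempty hb
    obtain ⟨ψ, hψ⟩ := Char.exists_constituent N (Char.isCharacter_of_isIrr χ.2)
      (Char.irr_degree_ne_zero χ.2)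
    have : Fintype (ConjClasses G) := Fintype.ofFinite _
    obtain ⟨g, hg⟩ := exists_conjI_mem_of_congr hb hθ (χ := χ) (fun v hv hl hsupp => by
      have e := eq_sum_classInd hv
      have e' : (fun n : N => v n) = ∑ c : ConjClasses G,
          v (Quotient.out c) • fun n : N => classInd (Quotient.out c) (n : G) := by
        funext n
        conv_lhs => rw [e]
        simp only [Finset.sum_apply, Pi.smul_apply]
      rw [e', omega_sum, congrArg (omega (χ : G → ℂ)) e, omega_sum, ← Finset.sum_sub_distrib]
      refine memLocalIdeal_sum _ _ fun c _ => ?_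
      rw [omega_smul, omega_smul, ← mul_sub]
      by_cases hc : Quotient.out c ∈ N
      · refine memLocalIdeal_mul_left (hl _) ?_
        rw [omega_classInd, ← inducedCentralChar_eq_omega_classInd]
        exact h χ hχ θ hθ ⟨_, hc⟩
      · rw [hsupp _ hc, zero_mul]; exact memLocalIdeal_zero) hψ
    refine ⟨χ, hχ, conjI g ψ, hg, ?_⟩
    rw [coe_conjI, ← Char.conjBy_restrict N (irr_classFunction χ) g, Char.classInner_conjBy]
    exact hψ
end Cfsg.Agent.S0965
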