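import Cfsg.Statements.S0966
import Cfsg.Agent.Lib.Blocks.Covering

set_option autoImplicit false
open Cfsg

namespace Cfsg.Agent.S0966

open CfsgLib CfsgLib.Blocks
open scoped ComplexConjugate CfsgLib.Char

/-- Let N be a normal subgroup of p-power index in the finite group G and b a block of N relative to a maximal ideal M of the algebraic integers containing p. Then there is exactly one block B of G containing a character whose restriction to N has a constituent in b. -/
theorem result {G : Type*} [Group G] [Fintype G] (p : ℕ) [Fact p.Prime] (M : Ideal Cfsg.AlgInt) (hM : Cfsg.IsPModular p M) (N : Subgroup G) [N.Normal] [Fintype N] (hidx : ∃ k : ℕ, N.index = p ^ k) (b : Set (Cfsg.IrrCharacter N)) (hb : Cfsg.IsPBlock M b) : ∃! B : Set (Cfsg.IrrCharacter G), Cfsg.IsPBlock M B ∧ ∃ χ ∈ B, ∃ θ ∈ b, Cfsg.classInner (fun n : N => (χ : G → ℂ) n) (θ : N → ℂ) ≠ 0 := by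
  classical
  have := isPrime_of_isPModular hM
  obtain ⟨θ, hθ⟩ := IsPBlock.nonempty hb
  obtain ⟨χ, hχ⟩ := exists_irr_above (G := G) θ
  refine ⟨blockOf M (χ : G → ℂ), ⟨isPBlock_blockOf χ, χ, mem_blockOf_self χ, θ, hθ, hχ⟩, ?_⟩
  rintro B ⟨hB, χ', hχ', θ', hθ', hcon'⟩
  obtain ⟨k, hk⟩ := hidx
  have hreg : ∀ g : G, IsPRegular p g → g ∈ N := by
    intro g hg
    have h : g ^ p ^ k ∈ N := hk ▸ N.pow_index_mem g
    obtain ⟨m, hm⟩ := exists_pow_eq_self_of_coprime
      ((Nat.Coprime.pow_right k ((hM.1.coprime_iff_not_dvd.mpr hg).symm)).symm)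
    rw [← hm]
    exact N.pow_mem h m
  have hsupp : ∀ g, g ∉ N → blockCoeff B g = 0 := fun g hg =>
    blockCoeff_eq_zero_of_not_regular hM (IsPBlock.isBlockUnion hB) fun h => hg (hreg g h)
  have h1 := omega_congr_of_covering hB hb hχ' hθ' hcon' hχ' hθ (isClassFunction_blockCoeff B)
    (IsPBlock.memLocalRing_blockCoeff hB) hsupp
  rw [← omega_eq_of_constituent hχ (isClassFunction_blockCoeff B) hsupp, omega_blockCoeff,
    omega_blockCoeff, indVec_of_mem hχ'] at h1
  have hmem : χ ∈ B := by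
    by_contra hn
    rw [indVec_of_notMem hn, sub_zero] at h1
    exact not_memLocalIdeal_one h1
  exact IsPBlock.eq_of_mem_of_mem hB (isPBlock_blockOf χ) hmem (mem_blockOf_self χ)
end Cfsg.Agent.S0966
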