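import Cfsg.Statements.S0969
import Cfsg.Agent.Lib.Blocks.Defect
import Cfsg.Agent.Lib.Blocks.Integrality
import Cfsg.Agent.Lib.Blocks.HeightZero

set_option autoImplicit false
open Cfsg

namespace Cfsg.Agent.S0969

open CfsgLib CfsgLib.Blocks
open scoped ComplexConjugate CfsgLib.Char

/-- Let D be a central p-subgroup of the finite group G and χ an irreducible character with the exponent of p in χ(1) equal to the exponent of p in the index of D; fix a maximal ideal M of the algebraic integers containing p. Then D is a defect group of the block of χ, and χ g = 0 whenever the p-part of g does not lie in D. -/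
theorem result {G : Type*} [Group G] [Finite G] (p : ℕ) [Fact p.Prime] (M : Ideal Cfsg.AlgInt) (hM : Cfsg.IsPModular p M) (D : Subgroup G) (hD : IsPGroup p D) (hDZ : D ≤ Subgroup.center G) (χ : Cfsg.IrrCharacter G) (hdeg : (Cfsg.charDegree (χ : G → ℂ)).factorization p = D.index.factorization p) : Cfsg.IsDefectGroup p M (Cfsg.blockOf M (χ : G → ℂ)) D ∧ ∀ g x : G, Cfsg.IsPPart p g x → x ∉ D → (χ : G → ℂ) g = 0 := by
  classical
  have : Fintype G := Fintype.ofFinite G
  have := isPrime_of_isPModular hM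
  have hn0 : (Nat.card G : ℂ) ≠ 0 := Nat.cast_ne_zero.mpr Nat.card_pos.ne'
  obtain ⟨d, hd⟩ := hD.exists_card_eq
  set n := D.index.factorization p with hn
  have hfac : (Nat.card G).factorization p = d + n := by
    rw [← D.card_mul_index, Nat.factorization_mul Nat.card_pos.ne' D.index_ne_zero_of_finite, hd,
      Finsupp.add_apply, Nat.Prime.factorization_pow hM.1, Finsupp.single_eq_same]
  have hdc : (p : ℂ) ^ d = (Nat.card D : ℂ) := by rw [hd, Nat.cast_pow]
  -- the values at central elements
  obtain ⟨m, ρ, hρ, hρχ⟩ := χ.2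
  have hscal : ∀ z ∈ D, ∀ s : G, Complex.normSq ((χ : G → ℂ) (z * s)) =
      Complex.normSq ((χ : G → ℂ) s) := by
    intro z hz s
    set v : G → ℂ := pointMass z with hv
    have hvc : IsClassFunction G v := fun g x => by
      show (if x * g * x⁻¹ = z then (1 : ℂ) else 0) = if g = z then 1 else 0
      have hzc := Subgroup.mem_center_iff.mp (hDZ hz) x
      refine if_congr ⟨fun h => ?_, fun h => ?_⟩ rfl rfl
      · calc g = x⁻¹ * (x * g * x⁻¹) * x := by group
          _ = x⁻¹ * (z * x) := by rw [h, mul_assoc]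
          _ = z := by rw [← hzc, inv_mul_cancel_left]
      · rw [h, hzc, mul_inv_cancel_right]
    have key : ∀ u, (χ : G → ℂ) (z * u) = (χ : G → ℂ) z / (χ : G → ℂ) 1 * (χ : G → ℂ) u := fun u => by
      have h := sum_mul_irr_mul hvc χ u
      have hom : omega (χ : G → ℂ) v = (χ : G → ℂ) z / (χ : G → ℂ) 1 := by
        rw [omega]
        simp [hv, pointMass]
      rw [hom] at h
      rw [← h]
      simp [hv, pointMass]
    have h1 : Complex.normSq ((χ : G → ℂ) z / (χ : G → ℂ) 1) = 1 := by
      obtain ⟨j, hj⟩ := IsPGroup.iff_orderOf.mp hD ⟨z, hz⟩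
      rw [← Subgroup.orderOf_coe] at hj
      have hpow : ∀ i : ℕ, (χ : G → ℂ) (z ^ i) =
          ((χ : G → ℂ) z / (χ : G → ℂ) 1) ^ i * (χ : G → ℂ) 1 := by
        intro i
        induction i with
        | zero => simp
        | succ i ih => rw [pow_succ', key, ih, pow_succ']; ring
      have h2 := hpow (p ^ j)
      rw [← hj, pow_orderOf_eq_one, eq_comm,
        mul_eq_right₀ (Char.irr_degree_ne_zero χ.2), hj] at h2
      have h3 := congrArg Complex.normSq h2
      rw [map_pow, map_one] at h3
      exact (pow_eq_one_iff_of_nonneg (Complex.normSq_nonneg _)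
        (pow_ne_zero _ hM.1.ne_zero)).mp h3
    rw [key, map_mul, h1, one_mul]
  have hpow : ∀ z ∈ D, ∀ s, IsPRegular p s → IsPPart p (z * s) z := fun z hz s hs => by
    obtain ⟨j, hj⟩ := IsPGroup.iff_orderOf.mp hD ⟨z, hz⟩
    exact isPPart_mul (Subgroup.mem_center_iff.mp (hDZ hz) s).symm
      ⟨j, by rwa [← Subgroup.orderOf_coe] at hj⟩ hs
  -- the regular part carries `1 / |D|` of the norm
  set r : ℝ := ∑ s : G with IsPRegular p s, Complex.normSq ((χ : G → ℂ) s) with hr
  have hreg : classInner (regPart p (χ : G → ℂ)) (χ : G → ℂ) = (Nat.card G : ℂ)⁻¹ * (r : ℂ) := by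
    rw [classInner, hr, Complex.ofReal_sum, Finset.sum_filter]
    congr 1
    refine Finset.sum_congr rfl fun s _ => ?_
    by_cases hs : IsPRegular p s
    · rw [if_pos hs, regPart_of_regular hs, Complex.mul_conj]
    · rw [if_neg hs, regPart_of_singular hs, zero_mul]
  set S : Finset G := {g | ∃ x ∈ D, IsPPart p g x}
  have hS : ∑ g ∈ S, Complex.normSq ((χ : G → ℂ) g) = (Nat.card D : ℝ) * r := by
    have h : ∑ g ∈ S, Complex.normSq ((χ : G → ℂ) g) =
        ∑ x ∈ (Finset.univ : Finset D) ×ˢ ({s : G | IsPRegular p s} : Finset G),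
          Complex.normSq ((χ : G → ℂ) x.2) := by
      refine (Finset.sum_bij (fun x _ => (x.1 : G) * x.2) (fun x hx => ?_) (fun x hx y hy h => ?_)
        (fun g hg => ?_) fun x _ => (hscal x.1 x.1.2 x.2).symm).symm
      · simp only [Finset.mem_product, Finset.mem_filter, Finset.mem_univ, true_and, S] at hx ⊢
        exact ⟨x.1, x.1.2, hpow _ x.1.2 _ hx⟩
      · simp only [Finset.mem_product, Finset.mem_filter, Finset.mem_univ, true_and] at hx hy
        have h1 := hpow _ x.1.2 _ hx
        rw [h] at h1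
        have h2 : x.1 = y.1 := Subtype.ext (IsPPart.unique hM.1 h1 (hpow _ y.1.2 _ hy))
        rw [h2] at h
        exact Prod.ext h2 (mul_left_cancel h)
      · simp only [Finset.mem_filter, Finset.mem_univ, true_and, S] at hg
        obtain ⟨x, hx, y, rfl, -, -, hy⟩ := hg
        exact ⟨(⟨x, hx⟩, y), Finset.mem_product.mpr ⟨Finset.mem_univ _,
          Finset.mem_filter.mpr ⟨Finset.mem_univ _, hy⟩⟩, rfl⟩
    rw [h, Finset.sum_product]
    simp only [Finset.sum_const, Finset.card_univ, nsmul_eq_mul, Nat.card_eq_fintype_card]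
    rfl
  have hall : ∑ g, Complex.normSq ((χ : G → ℂ) g) = (Nat.card G : ℝ) := by
    have h := Char.classInner_coe χ χ
    rw [if_pos rfl, classInner, inv_mul_eq_one₀ hn0] at h
    apply Complex.ofReal_injective
    rw [Complex.ofReal_sum, Complex.ofReal_natCast, h]
    exact Finset.sum_congr rfl fun g _ => (Complex.mul_conj _).symm
  obtain ⟨z, hz⟩ := exists_int_classInner_regPart hM χ χ (k := d) (by omega)
  have hzr : (z : ℝ) * (Nat.card G : ℝ) = (Nat.card D : ℝ) * r := by
    apply Complex.ofReal_injective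
    push_cast
    rw [← hz, hreg, hdc]
    field_simp
  have hDr : (0 : ℝ) < (Nat.card D : ℝ) * r := by
    refine mul_pos (Nat.cast_pos.mpr Nat.card_pos) ?_
    refine lt_of_lt_of_le (Complex.normSq_pos.mpr (Char.irr_degree_ne_zero χ.2))
      (Finset.single_le_sum (fun g _ => Complex.normSq_nonneg _) (Finset.mem_filter.mpr
        ⟨Finset.mem_univ _, by rw [IsPRegular, orderOf_one, Nat.dvd_one]; exact hM.1.ne_one⟩))
  have hle : (Nat.card D : ℝ) * r ≤ (Nat.card G : ℝ) := by
    rw [← hS, ← hall]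
    exact Finset.sum_le_univ_sum_of_nonneg fun g => Complex.normSq_nonneg _
  have hG : (0 : ℝ) < Nat.card G := Nat.cast_pos.mpr Nat.card_pos
  have hz1 : z = 1 := by
    have h1 : (0 : ℝ) < (z : ℝ) := by
      by_contra hcon
      exact absurd (hzr ▸ hDr) (not_lt.mpr (mul_nonpos_of_nonpos_of_nonneg (not_lt.mp hcon) hG.le))
    have h2 : (z : ℝ) ≤ 1 := by
      by_contra hcon
      exact absurd (hzr ▸ hle) (not_le.mpr (lt_mul_of_one_lt_left hG (not_le.mp hcon)))
    have h1' : (0 : ℤ) < z := by exact_mod_cast h1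
    have h2' : z ≤ 1 := by exact_mod_cast h2
    omega
  rw [hz1, Int.cast_one, one_mul] at hzr
  refine ⟨?_, fun g x hx hxD => ?_⟩
  · have hB : IsPBlock M (blockOf M (χ : G → ℂ)) := isPBlock_blockOf χ
    have : D.Normal := ⟨fun a ha g => by
      rw [Subgroup.mem_center_iff.mp (hDZ ha) g, mul_inv_cancel_right]; exact ha⟩
    obtain ⟨E, hE⟩ := exists_isDefectGroup hM hB
    have hDE : D ≤ E := IsDefectGroup.normal_le hM hB hE D hD
    obtain ⟨e, he, hele, -, ψ, hψ, hψe⟩ := IsDefectGroup.degree_exponents hM hB hE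
    suffices hed : e ≤ d by
      rwa [Subgroup.eq_of_le_of_card_ge hDE (by
        rw [he, hd]; exact Nat.pow_le_pow_right hM.1.pos hed)]
    by_contra hcon
    have h1 : omega (χ : G → ℂ) (dualReg p (χ : G → ℂ)) =
        (D.index : ℂ) / (charDegree (χ : G → ℂ) : ℂ) := by
      rw [omega_dualReg, hreg, mul_inv_cancel_left₀ hn0, (irr_degree_eq χ).1]
      congr 1
      have h := congrArg (fun t : ℝ => (t : ℂ)) hzr
      push_cast at h
      rw [← mul_right_inj' (Nat.cast_ne_zero.mpr (Nat.card_pos (α := D)).ne' : (Nat.card D : ℂ) ≠ 0),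
        ← h, ← Nat.cast_mul, D.card_mul_index]
    obtain ⟨u, hu⟩ := exists_int_classInner_regPart hM χ ψ (k := d) (by omega)
    have h2 : omega (ψ : G → ℂ) (dualReg p (χ : G → ℂ)) =
        ((D.index : ℂ) / (charDegree (ψ : G → ℂ) : ℂ)) * (u : ℂ) := by
      rw [omega_dualReg, classInner_regPart_comm, ← hu, (irr_degree_eq ψ).1]
      have hcard : (Nat.card G : ℂ) = (D.index : ℂ) * (p : ℂ) ^ d := by
        rw [hdc, ← Nat.cast_mul, D.index_mul_card]
      rw [hcard]
      ring
    have hc := sub_mem_localIdeal_of_sameBlock (IsPBlock.sameBlock hB (mem_blockOf_self χ) hψ)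
      (isClassFunction_dualReg (p := p) (irr_classFunction χ)) (memLocalRing_dualReg χ)
    rw [h1, h2] at hc
    have hunit := (unit_natCast_div hM D.index_ne_zero_of_finite (irr_degree_eq χ).2.ne' hdeg.symm).2
    refine hunit ((memLocalIdeal_iff_of_sub hc).mpr (memLocalIdeal_mul_right ?_
      (memLocalRing_of_isIntegral (isIntegral_algebraMap (x := u)))))
    set f := (charDegree (ψ : G → ℂ)).factorization p with hf
    have hfn : f < n := by omega
    have hdiv := unit_natCast_div hM (a := D.index / p ^ (n - f)) (b := charDegree (ψ : G → ℂ))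
      (Nat.div_pos (Nat.le_of_dvd (Nat.pos_of_ne_zero D.index_ne_zero_of_finite)
        ((pow_dvd_pow p (Nat.sub_le n f)).trans (Nat.ordProj_dvd _ _))) (pow_pos hM.1.pos _)).ne'
      (irr_degree_eq ψ).2.ne' (by
        rw [Nat.factorization_div ((pow_dvd_pow p (Nat.sub_le n f)).trans (Nat.ordProj_dvd _ _)),
          Finsupp.tsub_apply, Nat.Prime.factorization_pow hM.1, Finsupp.single_eq_same]
        omega)
    have he2 : (D.index : ℂ) / (charDegree (ψ : G → ℂ) : ℂ) = (p : ℂ) *
        ((p : ℂ) ^ (n - f - 1) * (((D.index / p ^ (n - f) : ℕ) : ℂ) / (charDegree (ψ : G → ℂ) : ℂ))) := by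
      rw [← mul_assoc, ← pow_succ', show n - f - 1 + 1 = n - f by omega, ← mul_div_assoc,
        ← Nat.cast_pow, ← Nat.cast_mul,
        Nat.mul_div_cancel' ((pow_dvd_pow p (Nat.sub_le n f)).trans (Nat.ordProj_dvd _ _))]
    rw [he2]
    refine memLocalIdeal_mul_right (memLocalIdeal_p hM) (memLocalRing_mul ?_ hdiv.1)
    rw [← Nat.cast_pow]
    exact memLocalRing_natCast _
  · by_contra hne
    have hnot : g ∉ S := fun h => by
      obtain ⟨x', hx', hgx⟩ := (Finset.mem_filter.mp h).2
      exact hxD (IsPPart.unique hM.1 hx hgx ▸ hx')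
    have hlt : ∑ a ∈ S, Complex.normSq ((χ : G → ℂ) a) < ∑ a, Complex.normSq ((χ : G → ℂ) a) :=
      Finset.sum_lt_sum_of_subset (Finset.subset_univ S) (Finset.mem_univ g) hnot
        (Complex.normSq_pos.mpr hne) fun a _ _ => Complex.normSq_nonneg _
    rw [hS, hall, ← hzr] at hlt
    exact lt_irrefl _ hlt
end Cfsg.Agent.S0969
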