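import Cfsg.Statements.S0970
import Cfsg.Agent.Lib.Blocks.Covering
import Cfsg.Agent.Lib.Blocks.StableBlock
import Cfsg.Agent.Lib.Blocks.Defect
import Cfsg.Agent.Lib.Blocks.CentralChar
import Cfsg.Agent.Lib.Coprime.Action

set_option autoImplicit false
open Cfsg

namespace Cfsg.Agent.S0970

open CfsgLib CfsgLib.Blocks
open scoped ComplexConjugate CfsgLib.Char

/-- Let N be a normal subgroup of the finite group G and fix a maximal ideal M of the algebraic integers containing the prime p. Let b be a block of N that is invariant under conjugation by G, and B a block of G covering b (some χ ∈ B has a constituent in b) whose defect is at least that of every block covering b. If P is a defect group of B, then p does not divide the index of P ⊔ N, the subgroup P ∩ N of N is a defect group of b, and the defect of B equals the defect of b plus the exponent of p in the index of N. -/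
theorem result {G : Type*} [Group G] [Fintype G] (p : ℕ) [Fact p.Prime] (M : Ideal Cfsg.AlgInt) (hM : Cfsg.IsPModular p M) (N : Subgroup G) [hN : N.Normal] [Fintype N] (b : Set (Cfsg.IrrCharacter N)) (hb : Cfsg.IsPBlock M b) (hinv : ∀ g : G, ∀ θ ∈ b, ∀ θ' : Cfsg.IrrCharacter N, (∀ n : N, (θ' : N → ℂ) n = (θ : N → ℂ) ⟨g * n * g⁻¹, hN.conj_mem n n.2 g⟩) → θ' ∈ b) (B : Set (Cfsg.IrrCharacter G)) (hB : Cfsg.IsPBlock M B) (hcov : ∃ χ ∈ B, ∃ θ ∈ b, Cfsg.classInner (fun n : N => (χ : G → ℂ) n) (θ : N → ℂ) ≠ 0) (hmax : ∀ B' : Set (Cfsg.IrrCharacter G), Cfsg.IsPBlock M B' → (∃ χ ∈ B', ∃ θ ∈ b, Cfsg.classInner (fun n : N => (χ : G → ℂ) n) (θ : N → ℂ) ≠ 0) → Cfsg.blockDefect p B' ≤ Cfsg.blockDefect p B) (P : Subgroup G) (hP : Cfsg.IsDefectGroup p M B P) : ¬ p ∣ (P ⊔ N).index ∧ Cfsg.IsDefectGroup p M b ((P ⊓ N).subgroupOf N) ∧ Cfsg.blockDefect p B = Cfsg.blockDefect p b + N.index.factorization p := by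
  classical
  have := isPrime_of_isPModular hM
  have hbinv : ∀ (g : G), ∀ θ ∈ b, conjI g θ ∈ b := fun g θ hθ =>
    hinv g θ hθ (conjI g θ) fun n => by rw [coe_conjI]; rfl
  have hunion : conjUnion (G := G) b = b := by
    ext ψ
    refine ⟨fun ⟨g, hg⟩ => ?_, fun h => ⟨1, by rwa [conjI_one]⟩⟩
    have h := hbinv g⁻¹ _ hg
    rwa [← conjI_mul, mul_inv_cancel, conjI_one] at h
  have hstab : ∀ x : G, conjSet x N N b = b := fun x => by
    have h : ∀ g, x * g * x⁻¹ ∈ N ↔ g ∈ N := fun g =>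
      conj_mem_iff_of_mem_normalizer (by rw [Subgroup.normalizer_eq_top]; exact Subgroup.mem_top x) g
    have e : ∀ ξ : IrrCharacter N, conjIrr h ξ = conjI x⁻¹ ξ := fun ξ => by
      refine Subtype.ext (funext fun n => ?_)
      rw [conjIrr_apply h ξ (c := ⟨x⁻¹ * n * x⁻¹⁻¹, hN.conj_mem n n.2 x⁻¹⟩) (c' := n) (by
        simp [mul_assoc]), coe_conjI]
      rfl
    rw [conjSet_eq_image h]
    refine Set.Subset.antisymm ?_ fun ψ hψ => ?_
    · rintro _ ⟨ξ, hξ, rfl⟩
      rw [e]; exact hbinv _ _ hξ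
    · refine ⟨conjI x ψ, hbinv _ _ hψ, ?_⟩
      rw [e, ← conjI_mul, mul_inv_cancel, conjI_one]
  set v : G → ℂ := extendByZero N (blockCoeff b) with hv
  have hvN : (fun n : N => v n) = blockCoeff b := funext fun n => extendByZero_apply N _ n
  have hvsupp : ∀ g, g ∉ N → v g = 0 := fun g hg => extendByZero_eq_zero N _ hg
  have hvc : IsClassFunction G v := by
    intro g x
    by_cases hg : g ∈ N
    · rw [congrFun hvN ⟨g, hg⟩, congrFun hvN ⟨x * g * x⁻¹, hN.conj_mem g hg x⟩, ← hunion]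
      exact blockCoeff_conjUnion_conj b x ⟨g, hg⟩
    · rw [hvsupp g hg, hvsupp _ fun h => hg (by simpa [mul_assoc] using hN.conj_mem _ h x⁻¹)]
  set Cov : Set (IrrCharacter G) :=
    {χ | ∃ θ ∈ b, classInner (fun n : N => (χ : G → ℂ) n) (θ : N → ℂ) ≠ 0} with hCov
  have hωv : ∀ χ : IrrCharacter G, omega (χ : G → ℂ) v = indVec Cov χ := by
    intro χ
    by_cases hχ : χ ∈ Cov
    · obtain ⟨θ, hθ, hc⟩ := hχ
      rw [omega_eq_of_constituent hc hvc hvsupp, hvN, omega_blockCoeff, indVec_of_mem hθ,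
        indVec_of_mem (S := Cov) ⟨θ, hθ, hc⟩]
    · obtain ⟨ψ, hψ⟩ := Char.exists_constituent N (Char.isCharacter_of_isIrr χ.2)
        (Char.irr_degree_ne_zero χ.2)
      rw [omega_eq_of_constituent hψ hvc hvsupp, hvN, omega_blockCoeff, indVec_of_notMem hχ,
        indVec_of_notMem fun h => hχ ⟨ψ, h, hψ⟩]
  have hvl : ∀ g, MemLocalRing M (v g) := fun g => by
    by_cases hg : g ∈ N
    · rw [congrFun hvN ⟨g, hg⟩]; exact IsPBlock.memLocalRing_blockCoeff hb _
    · rw [hvsupp g hg]; exact memLocalRing_zero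
  have hCovU : IsBlockUnion M Cov := by
    intro χ hχ χ' h
    have h1 := sub_mem_localIdeal_of_sameBlock h hvc hvl
    rw [hωv, hωv, indVec_of_mem hχ] at h1
    by_contra hn
    rw [indVec_of_notMem hn, sub_zero] at h1
    exact not_memLocalIdeal_one h1
  -- central characters on classes inside `N`
  have hcong : ∀ χ ∈ Cov, ∀ θ ∈ b, ∀ c ∈ N, MemLocalIdeal M (centralChar (χ : G → ℂ) c -
      omega (θ : N → ℂ) fun n : N => classInd c (n : G)) := by
    rintro χ ⟨θ₀, hθ₀, hc₀⟩ θ hθ c hc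
    rw [← omega_classInd, omega_eq_of_constituent hc₀ (isClassFunction_classInd c)
      fun g hg => classInd_eq_zero_of_not_mem hc hg]
    exact sub_mem_localIdeal_of_sameBlock (IsPBlock.sameBlock hb hθ₀ hθ)
      (fun a x => isClassFunction_classInd c (a : G) (x : G)) fun n => memLocalRing_classInd c _
  obtain ⟨χ, hχ, θ, hθ, hcon⟩ := hcov
  have hχC : χ ∈ Cov := ⟨θ, hθ, hcon⟩
  have : Fintype (ConjClasses G) := Fintype.ofFinite _
  obtain ⟨c, hcv, hcω⟩ : ∃ c, ¬ MemLocalIdeal M (v c) ∧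
      ¬ MemLocalIdeal M (centralChar (χ : G → ℂ) c) := by
    by_contra hno
    push Not at hno
    have h1 : omega (χ : G → ℂ) v = 1 := by rw [hωv, indVec_of_mem hχC]
    refine not_memLocalIdeal_one (M := M) (h1 ▸ ?_)
    rw [omega_eq_sum_classes χ hvc]
    refine memLocalIdeal_sum _ _ fun q _ => ?_
    by_cases hq : MemLocalIdeal M (v (Quotient.out q))
    · exact memLocalIdeal_mul_right hq (memLocalRing_centralChar χ _)
    · exact memLocalIdeal_mul_left (hvl _) (hno _ hq)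
  have hcN : c ∈ N := by
    by_contra h
    exact hcv (hvsupp c h ▸ memLocalIdeal_zero)
  obtain ⟨B₁, hB₁, hB₁C, hc₁⟩ : ∃ B₁, IsPBlock M B₁ ∧ B₁ ⊆ Cov ∧
      ¬ MemLocalIdeal M (blockCoeff B₁ c) := by
    by_contra hno
    push Not at hno
    set T : Finset (Set (IrrCharacter G)) := {B' ∈ blocks M G | B' ⊆ Cov}
    have hsum : v = ∑ B' ∈ T, blockCoeff B' := by
      refine eq_of_omega_eq hvc (fun g x => ?_) fun η => ?_
      · simp only [Finset.sum_apply, isClassFunction_blockCoeff _ g x]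
      rw [hωv, omega_sum]
      simp only [omega_blockCoeff]
      by_cases hη : η ∈ Cov
      · rw [indVec_of_mem hη, Finset.sum_eq_single_of_mem (blockOf M (η : G → ℂ))
          (Finset.mem_filter.mpr ⟨mem_blocks.mpr (isPBlock_blockOf η), fun η' h => hCovU η hη η' h⟩)
          fun B' hB' hne => indVec_of_notMem fun h => hne
            (IsPBlock.eq_of_mem_of_mem (mem_blocks.mp (Finset.mem_filter.mp hB').1)
              (isPBlock_blockOf η) h (mem_blockOf_self η)), indVec_of_mem (mem_blockOf_self η)]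
      · rw [indVec_of_notMem hη, Finset.sum_eq_zero (s := T) fun B' hB' => indVec_of_notMem fun h =>
          hη ((Finset.mem_filter.mp hB').2 h)]
    apply hcv
    rw [hsum, Finset.sum_apply]
    exact memLocalIdeal_sum _ _ fun B' hB' => hno B' (mem_blocks.mp (Finset.mem_filter.mp hB').1)
      (Finset.mem_filter.mp hB').2
  have hu : ∀ χ' ∈ Cov, ¬ MemLocalIdeal M (centralChar (χ' : G → ℂ) c) := fun χ' hχ' h =>
    hcω ((memLocalIdeal_iff_of_sub (memLocalIdeal_sub_trans (hcong χ hχC θ hθ c hcN)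
      (by simpa using memLocalIdeal_neg (hcong χ' hχ' θ hθ c hcN)))).mpr h)
  obtain ⟨D₁, hD₁⟩ := exists_isSylowCent (p := p) c
  have hdef₁ : IsDefectGroup p M B₁ D₁ := isDefectGroup_iff.mpr
    ⟨c, ⟨IsPBlock.memLocalRing_blockCoeff hB₁ c, hc₁, fun χ' h => hu χ' (hB₁C h)⟩, hD₁⟩
  obtain ⟨χ₁, hχ₁⟩ := IsPBlock.nonempty hB₁
  obtain ⟨θ₁, hθ₁, hcon₁⟩ := hB₁C hχ₁
  have hle := hmax B₁ hB₁ ⟨χ₁, hχ₁, θ₁, hθ₁, hcon₁⟩
  obtain ⟨y, hy, hPy⟩ := IsDefectGroup.exists_isConj_centralizing hM hB hP hχ hcω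
  obtain ⟨x, hx⟩ := IsSylowCent.exists_conj_le_of_isConj hD₁ hy (IsDefectGroup.isPGroup hM hP) hPy
  have hPeq : P = D₁.map (MulAut.conj x).toMonoidHom := Subgroup.eq_of_le_of_card_ge hx (by
    rw [card_map_conj, IsDefectGroup.card_eq hM hB₁ hdef₁, IsDefectGroup.card_eq hM hB hP]
    exact Nat.pow_le_pow_right hM.1.pos hle)
  have hsyl : IsSylowCent p (x * c * x⁻¹) P := hPeq ▸ IsSylowCent.conj hD₁ x
  have hcN' : x * c * x⁻¹ ∈ N := hN.conj_mem c hcN x
  have hbv : blockCoeff b ⟨_, hcN'⟩ = v c := by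
    rw [← congrFun hvN ⟨_, hcN'⟩]
    exact hvc c x
  have hccc : centralChar (χ : G → ℂ) (x * c * x⁻¹) = centralChar (χ : G → ℂ) c :=
    (centralChar_eq_of_isConj χ (isConj_iff.mpr ⟨x, rfl⟩)).symm
  obtain ⟨hdefb, hidx⟩ := defect_data_of_congr hM hb hstab (χ := χ) hcN' (hbv ▸ hvl c)
    (hbv ▸ hcv) (fun ξ hξ => (res_eq_iff (memLocalRing_centralChar χ _)
      (memLocalRing_omega ξ (fun a x => isClassFunction_classInd _ (a : G) (x : G))
        fun n => memLocalRing_classInd _ _)).mpr (hcong χ hχC ξ hξ _ hcN')) (hccc.symm ▸ hcω)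
  obtain ⟨hPN, hPi⟩ := isDefectGroup_inf_of_data hM hsyl hcN' hdefb hidx
  rw [Subgroup.inf_subgroupOf_right, sup_comm]
  refine ⟨hPi, hPN, ?_⟩
  have h1 := Coprime.card_sup_mul_card_inf (K := N) (S := P)
    (by rw [Subgroup.normalizer_eq_top]; exact le_top)
  have h2 : Nat.card ↥(N ⊓ P) = p ^ blockDefect p b := by
    rw [← IsDefectGroup.card_eq hM hb hPN, inf_comm, ← Subgroup.inf_subgroupOf_right P N]
    exact (Nat.card_congr (Subgroup.subgroupOfEquivOfLe inf_le_right).toEquiv).symm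
  have h3 := congrArg (fun m : ℕ => m.factorization p) h1
  have h4 := congrArg (fun m : ℕ => m.factorization p) (N ⊔ P).card_mul_index
  have h5 := congrArg (fun m : ℕ => m.factorization p) N.card_mul_index
  simp only [h2, IsDefectGroup.card_eq hM hB hP,
    Nat.factorization_mul Nat.card_pos.ne' (pow_ne_zero _ hM.1.ne_zero),
    Nat.factorization_mul Nat.card_pos.ne' Subgroup.index_ne_zero_of_finite, Finsupp.add_apply,
    Nat.Prime.factorization_pow hM.1, Finsupp.single_eq_same,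
    Nat.factorization_eq_zero_of_not_dvd hPi] at h3 h4 h5
  omega
end Cfsg.Agent.S0970
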