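import Cfsg.Statements.S0971
import Cfsg.Agent.Lib.Blocks.Covering
import Cfsg.Agent.Lib.Blocks.Defect

set_option autoImplicit false
open Cfsg

namespace Cfsg.Agent.S0971

open CfsgLib CfsgLib.Blocks
open scoped ComplexConjugate CfsgLib.Char

/-- Let Q be a normal p-subgroup of the finite group G, let N = Q ⊔ C_G(Q) (a normal subgroup) and let b be a block of N relative to a maximal ideal M of the algebraic integers containing p. Then b induces some block of G, and every block B of G containing a character whose restriction to N has a constituent in b is induced by b. -/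
theorem result {G : Type*} [Group G] [Fintype G] (p : ℕ) [Fact p.Prime] (M : Ideal Cfsg.AlgInt) (hM : Cfsg.IsPModular p M) (Q : Subgroup G) [Q.Normal] (hQ : IsPGroup p Q) [Fintype ↥(Q ⊔ Subgroup.centralizer (Q : Set G))] (b : Set (Cfsg.IrrCharacter ↥(Q ⊔ Subgroup.centralizer (Q : Set G)))) (hb : Cfsg.IsPBlock M b) : Cfsg.InducedBlockDefined M (Q ⊔ Subgroup.centralizer (Q : Set G)) b ∧ ∀ B : Set (Cfsg.IrrCharacter G), Cfsg.IsPBlock M B → (∃ χ ∈ B, ∃ θ ∈ b, Cfsg.classInner (fun n : ↥(Q ⊔ Subgroup.centralizer (Q : Set G)) => (χ : G → ℂ) n) (θ : ↥(Q ⊔ Subgroup.centralizer (Q : Set G)) → ℂ) ≠ 0) → Cfsg.IsInducedBlock M (Q ⊔ Subgroup.centralizer (Q : Set G)) b B := by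
  classical
  have := isPrime_of_isPModular hM
  have key : ∀ B : Set (IrrCharacter G), IsPBlock M B → (∃ χ ∈ B, ∃ θ ∈ b,
      classInner (fun n : ↥(Q ⊔ Subgroup.centralizer (Q : Set G)) => (χ : G → ℂ) n) (θ : ↥(Q ⊔ Subgroup.centralizer (Q : Set G)) → ℂ) ≠ 0) → IsInducedBlock M (Q ⊔ Subgroup.centralizer (Q : Set G)) b B := by
    rintro B hB ⟨χ, hχ, θ, hθ, hcon⟩
    refine ⟨hb, hB, fun θ' hθ' χ' hχ' g => ?_⟩
    by_cases hg : g ∈ Q ⊔ Subgroup.centralizer (Q : Set G)
    · have h := omega_congr_of_covering hB hb hχ hθ hcon hχ' hθ' (isClassFunction_classInd g)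
        (memLocalRing_classInd g) fun x hx => classInd_eq_zero_of_not_mem hg hx
      rw [omega_classInd, ← inducedCentralChar_eq_omega_classInd] at h
      simpa using memLocalIdeal_neg h
    · have h0 : inducedCentralChar (Q ⊔ Subgroup.centralizer (Q : Set G)) (θ' : ↥(Q ⊔ Subgroup.centralizer (Q : Set G)) → ℂ) g = 0 := by
        rw [inducedCentralChar_eq_omega_classInd, omega, Finset.sum_eq_zero, zero_div]
        intro x _
        rw [classInd, if_neg, zero_mul]
        intro hc
        obtain ⟨a, ha⟩ := isConj_iff.mp hc.symm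
        exact hg (ha ▸ (inferInstance : (Q ⊔ Subgroup.centralizer (Q : Set G)).Normal).conj_mem (x : G) x.2 a)
      rw [h0, zero_sub]
      exact memLocalIdeal_neg (memLocalIdeal_centralChar_of_not_centralizing hM Q hQ χ'
        fun h => hg (Subgroup.mem_sup_right h))
  refine ⟨?_, key⟩
  obtain ⟨θ, hθ⟩ := IsPBlock.nonempty hb
  obtain ⟨χ, hχ⟩ := exists_irr_above (G := G) θ
  exact ⟨_, key _ (isPBlock_blockOf χ) ⟨χ, mem_blockOf_self χ, θ, hθ, hχ⟩⟩
end Cfsg.Agent.S0971
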