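import Cfsg.Statements.S0972
import Cfsg.Agent.Lib.Blocks.Covering
import Cfsg.Agent.Lib.Blocks.CentralDefect
import Cfsg.Agent.Lib.Blocks.ExtendedFirst
import Cfsg.Agent.Lib.Char.Extraspecial
import Cfsg.Agent.Lib.Char.Kernel
import Cfsg.Agent.Lib.Char.Counting
import Cfsg.Agent.Lib.Char.Central
import Cfsg.Agent.Lib.Char.Clifford

set_option autoImplicit false
open Cfsg

namespace Cfsg.Agent.S0972

open CfsgLib CfsgLib.Blocks
open scoped ComplexConjugate CfsgLib.Char

section
variable {p : ℕ} {M : Ideal AlgInt}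

theorem natCast_div_mem_ideal (hM : IsPModular p M) {a b : ℕ} (ha : a ≠ 0) (hb : b ≠ 0)
    (h : b.factorization p < a.factorization p) : MemLocalIdeal M ((a : ℂ) / (b : ℂ)) := by
  have := isPrime_of_isPModular hM
  set t := a.factorization p - b.factorization p
  have hdvd : p ^ t ∣ a := (pow_dvd_pow p (Nat.sub_le _ _)).trans (Nat.ordProj_dvd _ _)
  have hunit := unit_natCast_div hM (a := a / p ^ t) (b := b)
    (Nat.div_pos (Nat.le_of_dvd (Nat.pos_of_ne_zero ha) hdvd) (pow_pos hM.1.pos _)).ne' hb (by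
      rw [Nat.factorization_div hdvd, Finsupp.tsub_apply, Nat.Prime.factorization_pow hM.1,
        Finsupp.single_eq_same]
      omega)
  have he : (a : ℂ) / (b : ℂ) = (p : ℂ) * ((p : ℂ) ^ (t - 1) * (((a / p ^ t : ℕ) : ℂ) / (b : ℂ))) := by
    rw [← mul_assoc, ← pow_succ', show t - 1 + 1 = t by omega, ← mul_div_assoc, ← Nat.cast_pow,
      ← Nat.cast_mul, Nat.mul_div_cancel' hdvd]
  rw [he]
  refine memLocalIdeal_mul_right (memLocalIdeal_p hM) (memLocalRing_mul ?_ hunit.1)
  rw [← Nat.cast_pow]
  exact memLocalRing_natCast _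

variable [hp : Fact p.Prime] {K : Type*} [Group K] [Fintype K] {P : Subgroup K}

open Classical in

theorem sum_norm_of_structure (hP : IsPGroup p P) (hG : P ⊔ Subgroup.centralizer (P : Set K) = ⊤)
    {f g : K → ℂ} {c : ℂ}
    (hval : ∀ v ∈ P, ∀ s, IsPRegular p s → f (v * s) = f v / c * g s)
    (hvan : ∀ a x, IsPPart p a x → x ∉ P → f a = 0) :
    ∑ a, f a * conj (f a) = (∑ v : P, f v * conj (f v)) *
      ((∑ s with IsPRegular p s, g s * conj (g s)) / (c * conj c)) := by
  classical
  rw [← Finset.sum_subset (Finset.subset_univ (Finset.univ.filter fun a : K => ∃ x ∈ P, IsPPart p a x))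
    fun a _ ha => ?_]
  · rw [Finset.sum_bij' (t := (Finset.univ : Finset P) ×ˢ ({s : K | IsPRegular p s} : Finset K))
      (g := fun z => f ((z.1 : K) * z.2) * conj (f ((z.1 : K) * z.2)))
      (fun a ha => ((⟨((Finset.mem_filter.mp ha).2).choose, ((Finset.mem_filter.mp ha).2).choose_spec.1⟩ : P),
        ((Finset.mem_filter.mp ha).2).choose⁻¹ * a))
      (fun z _ => (z.1 : K) * z.2) ?_ ?_ ?_ ?_ ?_, Finset.sum_product, Finset.sum_mul]
    · refine Finset.sum_congr rfl fun v _ => ?_
      rw [Finset.sum_div, Finset.mul_sum]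
      refine Finset.sum_congr rfl fun s hs => ?_
      rw [hval v v.2 s (Finset.mem_filter.mp hs).2]
      simp only [map_mul, map_div₀]
      ring
    · intro a ha
      exact Finset.mem_product.mpr ⟨Finset.mem_univ _, Finset.mem_filter.mpr ⟨Finset.mem_univ _,
        pPart_mul_eq ((Finset.mem_filter.mp ha).2).choose_spec.2⟩⟩
    · intro z hz
      exact Finset.mem_filter.mpr ⟨Finset.mem_univ _, z.1, z.1.2,
        isPPart_of_mem hP hG z.1.2 (Finset.mem_filter.mp (Finset.mem_product.mp hz).2).2⟩
    · intro a _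
      exact mul_inv_cancel_left _ _
    · intro z hz
      have hex : ∃ x ∈ P, IsPPart p ((z.1 : K) * z.2) x := ⟨z.1, z.1.2,
        isPPart_of_mem hP hG z.1.2 (Finset.mem_filter.mp (Finset.mem_product.mp hz).2).2⟩
      have h1 : hex.choose = (z.1 : K) := IsPPart.unique hp.out hex.choose_spec.2
        (isPPart_of_mem hP hG z.1.2 (Finset.mem_filter.mp (Finset.mem_product.mp hz).2).2)
      refine Prod.ext (Subtype.ext h1) ?_
      show hex.choose⁻¹ * _ = _
      rw [h1, inv_mul_cancel_left]
    · intro a _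
      rw [mul_inv_cancel_left]
  · obtain ⟨x, hx, -⟩ := exists_isPPart hp.out a
    rw [hvan a x hx fun hxP => ha (Finset.mem_filter.mpr ⟨Finset.mem_univ _, x, hxP, hx⟩), zero_mul]

end

/-- Let B be a block of the finite group G (relative to a maximal ideal M of the algebraic integers containing the prime p) with a defect group P that is normal in G. Then P is commutative if and only if every member of B has height zero. -/
theorem result {G : Type*} [Group G] [Finite G] (p : ℕ) [Fact p.Prime] (M : Ideal Cfsg.AlgInt) (hM : Cfsg.IsPModular p M) (B : Set (Cfsg.IrrCharacter G)) (hB : Cfsg.IsPBlock M B) (P : Subgroup G) [P.Normal] (hP : Cfsg.IsDefectGroup p M B P) : (∀ a ∈ P, ∀ c ∈ P, a * c = c * a) ↔ ∀ χ ∈ B, Cfsg.blockHeight p B (χ : G → ℂ) = 0 := by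
  classical
  have : Fintype G := Fintype.ofFinite G
  have := isPrime_of_isPModular hM
  have hPp := IsDefectGroup.isPGroup hM hP
  obtain ⟨d, hd, hdle, hall, -⟩ := IsDefectGroup.degree_exponents hM hB hP
  have hdB : d = blockDefect p B :=
    Nat.pow_right_injective hM.1.two_le (hd.symm.trans (IsDefectGroup.card_eq hM hB hP))
  have hfac : (Nat.card G).factorization p = d + P.index.factorization p := by
    rw [← P.card_mul_index, Nat.factorization_mul Nat.card_pos.ne' P.index_ne_zero_of_finite, hd,
      Finsupp.add_apply, Nat.Prime.factorization_pow hM.1, Finsupp.single_eq_same]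
  constructor
  · intro hab χ hχ
    rw [blockHeight_eq_zero_iff hM hB hχ, ← hdB]
    have h1 := hall χ hχ
    have h2 : (charDegree (χ : G → ℂ)).factorization p ≤ P.index.factorization p :=
      (Nat.factorization_le_iff_dvd (irr_degree_eq χ).2.ne' P.index_ne_zero_of_finite).mpr
        (Char.Extraspecial.ito χ.2 P hab (irr_degree_eq χ).1) p
    omega
  · intro h0
    haveI : (P ⊔ Subgroup.centralizer (P : Set G)).Normal := Subgroup.sup_normal _ _
    generalize hK : P ⊔ Subgroup.centralizer (P : Set G) = K at this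
    haveI := ‹K.Normal›
    letI : Fintype K := Fintype.ofFinite _
    have hPK : P ≤ K := hK ▸ le_sup_left
    have hCK : Subgroup.centralizer (P : Set G) ≤ K := hK ▸ le_sup_right
    have hKN : K ≤ Subgroup.normalizer (P : Set G) := by
      rw [Subgroup.normalizer_eq_top]; exact le_top
    set PK : Subgroup K := P.subgroupOf K with hPKdef
    haveI : PK.Normal := Subgroup.normal_subgroupOf_of_le_normalizer hKN
    have hG' : PK ⊔ Subgroup.centralizer (PK : Set K) = ⊤ := by
      apply Subgroup.map_injective K.subtype_injective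
      rw [Subgroup.map_sup, Subgroup.subgroupOf_map_subtype, inf_eq_left.mpr hPK,
        ← MonoidHom.range_eq_map, Subgroup.range_subtype]
      refine le_antisymm (sup_le hPK (Subgroup.map_subtype_le _)) ?_
      conv_lhs => rw [← hK]
      refine sup_le le_sup_left (le_trans (fun c hc => ?_) le_sup_right)
      exact ⟨⟨c, hCK hc⟩, fun q hq => Subtype.ext (hc (q : G) hq), rfl⟩
    -- the canonical character below
    obtain ⟨χ₀, hχ₀, hχ₀P⟩ := exists_mem_trivial_on_normal_pgroup hM hB P hPp
    obtain ⟨θ, hθ⟩ := Char.exists_constituent K (Char.isCharacter_of_isIrr χ₀.2)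
      (Char.irr_degree_ne_zero χ₀.2)
    have hθP : ∀ x ∈ PK, (θ : K → ℂ) x = (θ : K → ℂ) 1 := by
      refine trivial_on_of_omega_subgroupInd_ne_zero PK ?_
      have hfun : (fun k : K => subgroupInd P (k : G)) = subgroupInd PK := by
        funext k
        simp [subgroupInd, hPKdef, Subgroup.mem_subgroupOf]
      rw [← hfun, ← omega_eq_of_constituent hθ (isClassFunction_subgroupInd P) (fun g hg => by
        simp only [subgroupInd]
        rw [if_neg fun h => hg (hPK h)]), omega_subgroupInd_of_trivial P hχ₀P]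
      exact Nat.cast_ne_zero.mpr Nat.card_pos.ne'
    set b := blockOf M (θ : K → ℂ)
    have hb : IsPBlock M b := isPBlock_blockOf θ
    have hθb : θ ∈ b := mem_blockOf_self θ
    have hind : IsInducedBlock M K b B :=
      isInducedBlock_of_covering hM P hPp hCK hb hB hχ₀ hθb hθ
    have hDb : IsDefectGroup p M b PK := isDefectGroup_subgroupOf_of_induced hM hPK hKN hP hind
    have hPKp := IsDefectGroup.isPGroup hM hDb
    obtain ⟨θ', hθ', hθ'P, huniq, hdeg, hval, hvan, hcard⟩ :=
      central_defect_structure p M hM PK hPKp hG' b hb hDb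
    obtain rfl : θ = θ' := huniq θ hθb hθP
    have hPKc : Nat.card PK = p ^ d := by
      rw [← hd]
      exact Nat.card_congr (Subgroup.subgroupOfEquivOfLe hPK).toEquiv
    have hfacK : (Nat.card K).factorization p = d + PK.index.factorization p := by
      rw [← PK.card_mul_index, Nat.factorization_mul Nat.card_pos.ne' PK.index_ne_zero_of_finite,
        hPKc, Finsupp.add_apply, Nat.Prime.factorization_pow hM.1, Finsupp.single_eq_same]
    set I := Char.inertia K (θ : K → ℂ)
    -- the inertia group has a `p'`-index over `K`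
    have hI : (Nat.card I).factorization p ≤ (Nat.card K).factorization p := by
      by_contra hcon
      obtain ⟨c, hdef, hsyl⟩ := isDefectGroup_iff.mp hP
      have hcK : c ∈ K := hCK fun q hq => Subgroup.mem_centralizer_singleton_iff.mp (hsyl.1 hq)
      apply hdef.2.2 χ₀ hχ₀
      rw [← omega_classInd, omega_eq_of_constituent hθ (isClassFunction_classInd c)
        fun g hg => classInd_eq_zero_of_not_mem hcK hg]
      set C := Subgroup.centralizer ({c} : Set G)
      set S := ∑ φ ∈ Char.orbit K (θ : K → ℂ), φ ⟨c, hcK⟩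
      have hsum : (Nat.card C : ℂ) * ∑ k : K, classInd c (k : G) * (θ : K → ℂ) k =
          (Nat.card I : ℂ) * S := by
        have h := sum_conjugates_eq (extendByZero K (θ : K → ℂ)) c
        have hl : ∑ x : G, extendByZero K (θ : K → ℂ) (x⁻¹ * c * x) =
            (Nat.card I : ℂ) * S := by
          have h2 := congrFun (Char.sum_conjBy K (θ : K → ℂ)) ⟨c, hcK⟩
          simp only [Finset.sum_apply, Pi.smul_apply, smul_eq_mul] at h2
          rw [← h2]
          refine Fintype.sum_equiv (Equiv.inv G) _ _ fun x => ?_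
          rw [Equiv.inv_apply, Char.conjBy_apply, ← extendByZero_apply K (θ : K → ℂ)]
          simp
        rw [hl] at h
        rw [h]
        congr 1
        refine Fintype.sum_of_injective Subtype.val Subtype.val_injective _ _ (fun g hg => ?_) fun k => ?_
        · rw [extendByZero_eq_zero K _ fun h => hg ⟨⟨g, h⟩, rfl⟩, mul_zero]
        · rw [extendByZero_apply]
      have hSloc : MemLocalRing M S := memLocalRing_sum _ _ fun φ hφ => by
        obtain ⟨x, rfl⟩ := (Char.mem_orbit K).mp hφ
        exact memLocalRing_of_isIntegral (irr_isIntegral (Char.isIrrCharacter_conjBy K θ.2 x) _)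
      have hm0 : Nat.card C * charDegree (θ : K → ℂ) ≠ 0 :=
        mul_ne_zero Nat.card_pos.ne' (irr_degree_eq θ).2.ne'
      have hCd : (Nat.card C).factorization p = d := by
        obtain ⟨T, hT⟩ := isSylowCent_iff.mp hsyl
        have h1 : Nat.card P = p ^ (Nat.card C).factorization p := by
          rw [hT, Subgroup.card_map_of_injective (Subgroup.subtype_injective _), T.card_eq_multiplicity]
        exact (Nat.pow_right_injective hM.1.two_le (hd.symm.trans h1)).symm
      have hω : omega (θ : K → ℂ) (fun k : K => classInd c (k : G)) =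
          ((Nat.card I : ℕ) : ℂ) / ((Nat.card C * charDegree (θ : K → ℂ) : ℕ) : ℂ) * S := by
        have hC0 : (Nat.card C : ℂ) ≠ 0 := Nat.cast_ne_zero.mpr Nat.card_pos.ne'
        have hθ0 : (charDegree (θ : K → ℂ) : ℂ) ≠ 0 := Nat.cast_ne_zero.mpr (irr_degree_eq θ).2.ne'
        rw [omega, (irr_degree_eq θ).1]
        push_cast
        field_simp
        linear_combination hsum
      rw [hω]
      refine memLocalIdeal_mul_right (natCast_div_mem_ideal hM Nat.card_pos.ne' hm0 ?_) hSloc
      rw [Nat.factorization_mul Nat.card_pos.ne' (irr_degree_eq θ).2.ne', Finsupp.add_apply, hCd, hdeg]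
      omega
    -- every member of `b` lies above a linear character of `P`
    have hlin : ∀ ψ ∈ b, ∃ φ : IrrCharacter PK, (φ : PK → ℂ) 1 = 1 ∧
        ∀ u : PK, (ψ : K → ℂ) u = (θ : K → ℂ) 1 * (φ : PK → ℂ) u := by
      intro ψ hψ
      obtain ⟨φ, hφ⟩ := Char.exists_constituent PK (Char.isCharacter_of_isIrr ψ.2)
        (Char.irr_degree_ne_zero ψ.2)
      have hinv : ∀ k : K, Char.conjBy PK (φ : PK → ℂ) k = (φ : PK → ℂ) := by
        intro k
        obtain ⟨a, ha, c, hc, rfl⟩ := exists_decomp hG' k
        funext u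
        rw [Char.conjBy_apply, ← irr_classFunction φ u ⟨a, ha⟩]
        refine congrArg (φ : PK → ℂ) (Subtype.ext ?_)
        simp only [Subgroup.coe_mul, Subgroup.coe_inv]
        rw [mul_assoc a c (u : K), ← hc (u : K) u.2]
        group
      have hres := Char.clifford_invariant PK ψ.2 φ.2 hinv hφ
      obtain ⟨m, hm⟩ := Char.exists_nat_classInner
        (Char.isCharacter_restrict PK (Char.isCharacter_of_isIrr ψ.2)) (Char.isCharacter_of_isIrr φ.2)
      rw [hm] at hres
      have hψu : ∀ u : PK, (ψ : K → ℂ) u = (m : ℂ) * (φ : PK → ℂ) u := fun u => by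
        have := congrFun hres u
        simpa using this
      have hKn : (Nat.card K : ℂ) ≠ 0 := Nat.cast_ne_zero.mpr Nat.card_pos.ne'
      have hnorm : ∀ η : IrrCharacter K, ∑ k, (η : K → ℂ) k * conj ((η : K → ℂ) k) = (Nat.card K : ℂ) := by
        intro η
        have h := Char.classInner_coe η η
        rw [if_pos rfl, classInner, inv_mul_eq_one₀ hKn] at h
        exact h.symm
      set R : ℂ := (∑ s with IsPRegular p s, (θ : K → ℂ) s * conj ((θ : K → ℂ) s)) /
        ((θ : K → ℂ) 1 * conj ((θ : K → ℂ) 1))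
      have hR : ∀ η ∈ b, (Nat.card K : ℂ) = (∑ v : PK, (η : K → ℂ) v * conj ((η : K → ℂ) v)) * R :=
        fun η hη => (hnorm η).symm.trans (sum_norm_of_structure hPKp hG' (hval η hη) (hvan η hη))
      have h1 := hR θ hθb
      have h2 := hR ψ hψ
      rw [Finset.sum_congr rfl (g := fun _ => (θ : K → ℂ) 1 * conj ((θ : K → ℂ) 1))
        fun v _ => by rw [hθP (v : K) v.2], Finset.sum_const, Finset.card_univ, nsmul_eq_mul] at h1
      have hφn : ∑ v : PK, (φ : PK → ℂ) v * conj ((φ : PK → ℂ) v) = (Fintype.card PK : ℂ) := by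
        have h := Char.classInner_coe φ φ
        rw [if_pos rfl, classInner,
          inv_mul_eq_one₀ (Nat.cast_ne_zero.mpr Nat.card_pos.ne'), Nat.card_eq_fintype_card] at h
        exact h.symm
      rw [Finset.sum_congr rfl (g := fun v : PK => ((m : ℂ) * m) * ((φ : PK → ℂ) v * conj ((φ : PK → ℂ) v)))
        fun v _ => by rw [hψu v, map_mul, map_natCast]; ring, ← Finset.mul_sum, hφn] at h2
      rw [(irr_degree_eq θ).1, map_natCast] at h1
      have hR0 : R ≠ 0 := fun e => hKn (by rw [h2, e, mul_zero])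
      have hP0 : (Fintype.card PK : ℂ) ≠ 0 := Nat.cast_ne_zero.mpr Fintype.card_ne_zero
      have h3 : ((m * m : ℕ) : ℂ) = ((charDegree (θ : K → ℂ) * charDegree (θ : K → ℂ) : ℕ) : ℂ) := by
        have h4 := mul_right_cancel₀ hR0 (h2.symm.trans h1)
        push_cast
        exact mul_right_cancel₀ hP0 (by linear_combination h4)
      have hmθ : m = charDegree (θ : K → ℂ) := Nat.mul_self_inj.mp (Nat.cast_injective h3)
      refine ⟨φ, ?_, fun u => by rw [hψu, hmθ, (irr_degree_eq θ).1]⟩
      -- the degree count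
      obtain ⟨χ, hχ⟩ := exists_irr_above (G := G) ψ
      have hχB : χ ∈ B := by
        have h := isInducedBlock_of_covering hM P hPp hCK hb (isPBlock_blockOf χ) (mem_blockOf_self χ) hψ hχ
        exact IsInducedBlock.unique hind h ▸ mem_blockOf_self χ
      have hvχ := (blockHeight_eq_zero_iff hM hB hχB).mp (h0 χ hχB)
      rw [← hdB] at hvχ
      obtain ⟨e, he⟩ := Char.exists_nat_classInner
        (Char.isCharacter_restrict K (Char.isCharacter_of_isIrr χ.2)) (Char.isCharacter_of_isIrr ψ.2)
      have hdegχ := Char.clifford_degree K χ.2 ψ.2 hχ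
      rw [he] at hdegχ
      obtain ⟨n, hn, hn0, hndvd⟩ := Char.exists_degree_dvd_card φ.2
      have hψ1 : (ψ : K → ℂ) 1 = ((charDegree (θ : K → ℂ) * n : ℕ) : ℂ) := by
        have := hψu 1
        rw [Subgroup.coe_one] at this
        rw [this, hn, hmθ, Nat.cast_mul]
      rw [hψ1, (irr_degree_eq χ).1] at hdegχ
      have hχd : charDegree (χ : G → ℂ) =
          e * ((Char.orbit K (ψ : K → ℂ)).card * (charDegree (θ : K → ℂ) * n)) := by
        exact_mod_cast hdegχ
      have hsub : Char.inertia K (ψ : K → ℂ) ≤ I := by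
        intro g hg
        have h1 : conjI g ψ = ψ := Subtype.ext (by rw [coe_conjI]; exact hg)
        have h2 : conjI g θ ∈ b := by
          refine IsPBlock.mem_of_sameBlock hb hψ ?_
          rw [← h1]
          exact sameBlock_inflate _ _ (IsPBlock.sameBlock hb hψ hθb)
        have h3 := huniq _ h2 fun u hu => by
          rw [coe_conjI, Char.conjBy_apply, Char.conjBy_apply_one]
          exact hθP _ (Subgroup.mem_subgroupOf.mpr (‹P.Normal›.conj_mem _ (Subgroup.mem_subgroupOf.mp hu) g))
        show Char.conjBy K (θ : K → ℂ) g = (θ : K → ℂ)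
        rw [← coe_conjI, h3]
      have he0 : e ≠ 0 := fun h => hχ (by rw [he, h, Nat.cast_zero])
      have ho0 : (Char.orbit K (ψ : K → ℂ)).card ≠ 0 :=
        (Finset.card_pos.mpr ⟨_, Char.self_mem_orbit K _⟩).ne'
      have horb := congrArg (fun t : ℕ => t.factorization p) (Char.card_orbit_mul K (ψ : K → ℂ))
      have hIψ := (Nat.factorization_le_iff_dvd Nat.card_pos.ne' Nat.card_pos.ne').mpr
        (Subgroup.card_dvd_of_le hsub) p
      have hfχ := congrArg (fun t : ℕ => t.factorization p) hχd
      have hθ0 := (irr_degree_eq θ).2.ne'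
      simp only [Nat.factorization_mul ho0 Nat.card_pos.ne', Nat.factorization_mul he0
        (mul_ne_zero ho0 (mul_ne_zero hθ0 hn0.ne')), Nat.factorization_mul ho0 (mul_ne_zero hθ0 hn0.ne'),
        Nat.factorization_mul hθ0 hn0.ne', Finsupp.add_apply] at horb hfχ
      rw [hPKc] at hndvd
      obtain ⟨j, -, rfl⟩ := (Nat.dvd_prime_pow hM.1).mp hndvd
      rw [Nat.Prime.factorization_pow hM.1, Finsupp.single_eq_same, hdeg] at hfχ
      have hj : j = 0 := by omega
      simpa [hj] using hn
    choose Φ hΦ1 hΦ using fun ψ : b => hlin ψ.1 ψ.2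
    have hinj : Function.Injective Φ := by
      intro ψ ψ' h
      refine Subtype.ext (Subtype.ext (funext fun g => ?_))
      obtain ⟨x, hx, -⟩ := exists_isPPart hM.1 g
      by_cases hxP : x ∈ PK
      · rw [show g = x * (x⁻¹ * g) from (mul_inv_cancel_left x g).symm,
          hval _ ψ.2 x hxP _ (pPart_mul_eq hx), hval _ ψ'.2 x hxP _ (pPart_mul_eq hx),
          hΦ ψ ⟨x, hxP⟩, hΦ ψ' ⟨x, hxP⟩, h]
      · rw [hvan _ ψ.2 g x hx hxP, hvan _ ψ'.2 g x hx hxP]
    have hbij : Function.Bijective Φ := (Nat.bijective_iff_injective_and_card Φ).mpr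
      ⟨hinj, by rw [hcard, ← Char.card_irr_eq_card_conjClasses]⟩
    intro a ha c hc
    set a' : PK := ⟨⟨a, hPK ha⟩, Subgroup.mem_subgroupOf.mpr ha⟩
    set c' : PK := ⟨⟨c, hPK hc⟩, Subgroup.mem_subgroupOf.mpr hc⟩
    have hall' : ∀ φ : IrrCharacter PK, (φ : PK → ℂ) ((c' * a')⁻¹ * (a' * c')) = (φ : PK → ℂ) 1 := by
      intro φ
      obtain ⟨ψ, rfl⟩ := hbij.2 φ
      set f := Char.linearHom (Char.isCharacter_of_isIrr (Φ ψ).2) (hΦ1 ψ)
      rw [← Char.linearHom_apply (Char.isCharacter_of_isIrr (Φ ψ).2) (hΦ1 ψ),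
        ← Char.linearHom_apply (Char.isCharacter_of_isIrr (Φ ψ).2) (hΦ1 ψ)]
      simp only [map_mul, map_inv, map_one]
      rw [mul_comm (f a')]
      simp [f]
    exact congrArg (fun x : PK => ((x : K) : G))
      (inv_mul_eq_one.mp (Char.eq_one_of_forall_irr hall')).symm
end Cfsg.Agent.S0972
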