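import Cfsg.Statements.S0973
import Cfsg.Agent.Lib.Blocks.ExtendedFirst

set_option autoImplicit false
open Cfsg
open scoped CfsgLib.Char

namespace Cfsg.Agent.S0973

/-- Let B be a block of the finite group G with defect group P (relative to a maximal ideal M of the algebraic integers containing p), and let L = P ⊔ C_G(P). Then (i) some block b of L with defect group P (viewed in L) induces B, and (ii) if b and b' are blocks of L both inducing B, there is n ∈ N_G(P) carrying b to b': for every θ ∈ b there is θ' ∈ b' with θ' x = θ (n x n⁻¹) for all x ∈ L. -/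
theorem result {G : Type*} [Group G] [Finite G] (p : ℕ) [Fact p.Prime] (M : Ideal Cfsg.AlgInt) (hM : Cfsg.IsPModular p M) (B : Set (Cfsg.IrrCharacter G)) (hB : Cfsg.IsPBlock M B) (P : Subgroup G) (hP : Cfsg.IsDefectGroup p M B P) : (∃ b : Set (Cfsg.IrrCharacter ↥(P ⊔ Subgroup.centralizer (P : Set G))), Cfsg.IsDefectGroup p M b (P.subgroupOf (P ⊔ Subgroup.centralizer (P : Set G))) ∧ Cfsg.IsInducedBlock M (P ⊔ Subgroup.centralizer (P : Set G)) b B) ∧ ∀ b b' : Set (Cfsg.IrrCharacter ↥(P ⊔ Subgroup.centralizer (P : Set G))), Cfsg.IsInducedBlock M (P ⊔ Subgroup.centralizer (P : Set G)) b B → Cfsg.IsInducedBlock M (P ⊔ Subgroup.centralizer (P : Set G)) b' B → ∃ n ∈ Subgroup.normalizer (P : Set G), ∀ θ ∈ b, ∃ θ' ∈ b', ∀ x : ↥(P ⊔ Subgroup.centralizer (P : Set G)), ∀ hx : n * (x : G) * n⁻¹ ∈ P ⊔ Subgroup.centralizer (P : Set G), (θ' : ↥(P ⊔ Subgroup.centralizer (P : Set G)) → ℂ) x = (θ : ↥(P ⊔ Subgroup.centralizer (P : Set G)) → ℂ) ⟨n * (x : G) * n⁻¹,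 hx⟩ := by
  classical
  have := Fintype.ofFinite G
  haveI : M.IsPrime := CfsgLib.Blocks.isPrime_of_isPModular hM
  have hPp := CfsgLib.Blocks.IsDefectGroup.isPGroup hM hP
  have hPH : P ≤ P ⊔ Subgroup.centralizer (P : Set G) := le_sup_left
  have hCH : Subgroup.centralizer (P : Set G) ≤ P ⊔ Subgroup.centralizer (P : Set G) := le_sup_right
  have hHN : P ⊔ Subgroup.centralizer (P : Set G) ≤ Subgroup.normalizer (P : Set G) :=
    sup_le Subgroup.le_normalizer (Subgroup.centralizer_le_normalizer _)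
  have hn : ∀ n ∈ Subgroup.normalizer (P : Set G), ∀ g,
      n * g * n⁻¹ ∈ P ⊔ Subgroup.centralizer (P : Set G) ↔
        g ∈ P ⊔ Subgroup.centralizer (P : Set G) := by
    have hle : ∀ n ∈ Subgroup.normalizer (P : Set G), P ⊔ Subgroup.centralizer (P : Set G) ≤
        (P ⊔ Subgroup.centralizer (P : Set G)).comap (MulAut.conj n).toMonoidHom := by
      intro n hnN
      refine sup_le (fun q hq => ?_) fun c hc => ?_
      · exact Subgroup.mem_sup_left ((Subgroup.mem_normalizer_iff.mp hnN q).mp hq)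
      · exact Subgroup.mem_sup_right
          ((CfsgLib.Blocks.conj_mem_centralizer_iff hnN).mpr hc)
    intro n hnN g
    refine ⟨fun h => ?_, fun h => hle n hnN h⟩
    have := hle n⁻¹ (inv_mem hnN) h
    simpa [mul_assoc] using this
  refine ⟨?_, fun b b' hb hb' => ?_⟩
  · obtain ⟨b, hb⟩ := (CfsgLib.Blocks.exists_isInducedBlock_iff hM hPp hPH hCH hHN hB hP).mpr
      ⟨1, (CfsgLib.Blocks.map_conj_one P).le⟩
    exact ⟨b, CfsgLib.Blocks.isDefectGroup_subgroupOf_of_induced hM hPH hHN hP hb, hb⟩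
  · obtain ⟨n, hnN, h⟩ :=
      CfsgLib.Blocks.exists_conjSet_eq_of_induced hM hP hPH hCH hHN hn hb hb'
    refine ⟨n⁻¹, inv_mem hnN, fun θ hθ => ?_⟩
    refine ⟨_, h ▸ CfsgLib.Blocks.conjIrr_mem_conjSet (hn n hnN) hθ, fun x hx => ?_⟩
    exact CfsgLib.Blocks.conjIrr_apply (hn n hnN) θ (c := ⟨_, hx⟩) (c' := x) (by
      simp [mul_assoc])
end Cfsg.Agent.S0973
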