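import Cfsg.Statements.S0986
import Mathlib

set_option autoImplicit false
open Cfsg

namespace Cfsg.Agent.S0986

/-- Let P and Q be distinct Sylow p-subgroups of a finite group G chosen so that the order of P ∩ Q is as large as possible among intersections of two distinct Sylow p-subgroups, and let N be the normalizer of P ∩ Q. Then N has more than one Sylow p-subgroup, any two distinct Sylow p-subgroups of N intersect exactly in P ∩ Q, and each Sylow p-subgroup of N lies in exactly one Sylow p-subgroup of G. -/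
theorem result {G : Type*} [Group G] [Finite G] (p : ℕ) [Fact p.Prime] (P Q : Sylow p G) (hPQ : P ≠ Q) (hmax : ∀ P' Q' : Sylow p G, P' ≠ Q' → Nat.card ↥((P' : Subgroup G) ⊓ (Q' : Subgroup G)) ≤ Nat.card ↥((P : Subgroup G) ⊓ (Q : Subgroup G))) : 1 < Nat.card (Sylow p ↥(Subgroup.normalizer (((P : Subgroup G) ⊓ (Q : Subgroup G) : Subgroup G) : Set G))) ∧ (∀ S T : Sylow p ↥(Subgroup.normalizer (((P : Subgroup G) ⊓ (Q : Subgroup G) : Subgroup G) : Set G)), S ≠ T → (S : Subgroup _) ⊓ (T : Subgroup _) = ((P : Subgroup G) ⊓ (Q : Subgroup G)).subgroupOf (Subgroup.normalizer (((P : Subgroup G) ⊓ (Q : Subgroup G) : Subgroup G) : Set G))) ∧ ∀ S : Sylow p ↥(Subgroup.normalizer (((P : Subgroup G) ⊓ (Q : Subgroup G) : Subgroup G) : Set G)), ∃! T : Sylow p G, (S : Subgroup _).map (Subgroup.normalizer (((P : Subgroup G) ⊓ (Q : Subgroup G) : Subgroup G) : Set G)).subtype ≤ (T : Subgroup G) := by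
  classical
  set D := (P : Subgroup G) ⊓ (Q : Subgroup G) with hD
  set N := Subgroup.normalizer (D : Set G) with hN
  have hDN : D ≤ N := Subgroup.le_normalizer
  -- a maximal intersection meets each Sylow subgroup properly
  have hgrow : ∀ R : Sylow p G, D ≤ (R : Subgroup G) → D ≠ (R : Subgroup G) →
      Nat.card D < Nat.card ↥((R : Subgroup G) ⊓ N) := by
    intro R hDR hne
    have hlt : D < (R : Subgroup G) ⊓ N := by
      refine lt_of_le_of_ne (le_inf hDR hDN) fun heq => ?_
      have hR := R.2.isNilpotent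
      have h1 : D.subgroupOf (R : Subgroup G) < ⊤ := by
        refine lt_top_iff_ne_top.mpr fun h => hne (le_antisymm hDR (Subgroup.subgroupOf_eq_top.mp h))
      have h2 := Group.normalizerCondition_of_isNilpotent (D.subgroupOf (R : Subgroup G)) h1
      obtain ⟨a, haN, haD⟩ := Set.exists_of_ssubset h2
      apply haD
      show a.1 ∈ D
      rw [heq]
      refine ⟨a.2, ?_⟩
      rw [hN]
      refine Subgroup.mem_normalizer_iff.mpr fun n => ?_
      constructor
      · intro hn
        exact (Subgroup.mem_normalizer_iff.mp haN ⟨n, hDR hn⟩).mp hn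
      · intro hn
        have hnR : n ∈ (R : Subgroup G) := by
          have := mul_mem (mul_mem (inv_mem a.2) (hDR hn)) a.2
          simpa [mul_assoc] using this
        exact (Subgroup.mem_normalizer_iff.mp haN ⟨n, hnR⟩).mpr hn
    by_contra hcard
    exact hlt.ne (Subgroup.eq_of_le_of_card_ge hlt.le (not_lt.mp hcard))
  have hDP : D ≠ (P : Subgroup G) := fun h => hPQ (Sylow.ext (P.3 Q.2 (h ▸ inf_le_right)).symm)
  have hDQ : D ≠ (Q : Subgroup G) := fun h => hPQ (Sylow.ext (Q.3 P.2 (h ▸ inf_le_left)))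
  have hgP := hgrow P inf_le_left hDP
  have hgQ := hgrow Q inf_le_right hDQ
  -- two Sylow subgroups containing a common subgroup larger than `D` are equal
  have huniq : ∀ (A : Subgroup G) (R T : Sylow p G), Nat.card D < Nat.card A → A ≤ (R : Subgroup G) →
      A ≤ (T : Subgroup G) → R = T := by
    intro A R T hA hAR hAT
    by_contra hne
    have := Subgroup.card_le_of_le (le_inf hAR hAT)
    have := hmax R T hne
    omega
  have hext : ∀ S : Sylow p N, ∃ T : Sylow p G, (S : Subgroup N).map N.subtype ≤ (T : Subgroup G) :=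
    fun S => (S.2.map N.subtype).exists_le_sylow
  have hDS : ∀ S : Sylow p N, D.subgroupOf N ≤ (S : Subgroup N) := by
    intro S
    have hDn : (D.subgroupOf N).Normal := Subgroup.normal_in_normalizer
    have hDn' : (Subgroup.comap N.subtype ((P : Subgroup G) ⊓ (Q : Subgroup G))).Normal := hDn
    exact IsPGroup.le_sylow_of_normal ((P.2.to_le inf_le_left).comap_subtype) S
  -- every Sylow subgroup of `N` is larger than `D`
  have hbig : ∀ S : Sylow p N, Nat.card D < Nat.card ↥((S : Subgroup N).map N.subtype) := by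
    intro S
    obtain ⟨U, hU⟩ := ((P.2.to_le (inf_le_left : (P : Subgroup G) ⊓ N ≤ P)).comap_subtype (K := N)).exists_le_sylow
    rw [← Nat.card_congr ((S : Subgroup N).equivMapOfInjective _ N.subtype_injective).toEquiv,
      Nat.card_congr (S.equiv U).toEquiv]
    refine lt_of_lt_of_le hgP (le_trans (le_of_eq ?_) (Subgroup.card_le_of_le hU))
    exact (Nat.card_congr (Subgroup.subgroupOfEquivOfLe inf_le_right).toEquiv).symm
  refine ⟨?_, ?_, ?_⟩
  · by_contra hle
    have hone : Nat.card (Sylow p N) = 1 := by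
      have : 0 < Nat.card (Sylow p N) := Nat.card_pos
      omega
    have := (Nat.card_eq_one_iff_unique.mp hone).1
    obtain ⟨U, hU⟩ := ((P.2.to_le (inf_le_left : (P : Subgroup G) ⊓ N ≤ P)).comap_subtype (K := N)).exists_le_sylow
    obtain ⟨V, hV⟩ := ((Q.2.to_le (inf_le_left : (Q : Subgroup G) ⊓ N ≤ Q)).comap_subtype (K := N)).exists_le_sylow
    obtain ⟨T, hT⟩ := hext U
    rw [Subsingleton.elim V U] at hV
    have hPT : P = T := huniq _ P T hgP inf_le_left fun a ha => hT ⟨⟨a, ha.2⟩, hU ha, rfl⟩
    have hQT : Q = T := huniq _ Q T hgQ inf_le_left fun a ha => hT ⟨⟨a, ha.2⟩, hV ha, rfl⟩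
    exact hPQ (hPT.trans hQT.symm)
  · intro S T hST
    refine (Subgroup.eq_of_le_of_card_ge (le_inf (hDS S) (hDS T)) ?_).symm
    rw [Nat.card_congr (Subgroup.subgroupOfEquivOfLe hDN).toEquiv]
    obtain ⟨S', hS'⟩ := hext S
    obtain ⟨T', hT'⟩ := hext T
    by_cases hne : S' = T'
    · exfalso
      subst hne
      apply hST
      have hle : (S : Subgroup N) ⊔ (T : Subgroup N) ≤ (S' : Subgroup G).comap N.subtype :=
        sup_le (Subgroup.map_le_iff_le_comap.mp hS') (Subgroup.map_le_iff_le_comap.mp hT')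
      have hpg : IsPGroup p ↥((S' : Subgroup G).comap N.subtype) := S'.2.comap_subtype
      exact Sylow.ext ((S.3 hpg (le_sup_left.trans hle)).symm.trans (T.3 hpg (le_sup_right.trans hle)))
    · rw [Nat.card_congr (((S : Subgroup N) ⊓ (T : Subgroup N)).equivMapOfInjective _ N.subtype_injective).toEquiv]
      exact (Subgroup.card_le_of_le (le_inf ((Subgroup.map_mono inf_le_left).trans hS')
        ((Subgroup.map_mono inf_le_right).trans hT'))).trans (hmax S' T' hne)
  · intro S
    obtain ⟨T, hT⟩ := hext S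
    exact ⟨T, hT, fun T' hT' => huniq _ T' T (hbig S) hT' hT⟩

end Cfsg.Agent.S0986
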