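import Cfsg.Statements.S0987
import Mathlib
import Cfsg.Agent.Lib.SmallOrder.PrimeDegree

set_option autoImplicit false
open Cfsg

namespace Cfsg.Agent.S0987

/-- If a finite group has order pqr for primes p < q < r, then its Sylow r-subgroups are normal. -/
theorem result {G : Type*} [Group G] [Finite G] (p q r : ℕ) (hp : p.Prime) (hq : q.Prime) [Fact r.Prime] (hpq : p < q) (hqr : q < r) (hG : Nat.card G = p * q * r) (R : Sylow r G) : (R : Subgroup G).Normal := by
  have hp' := Fact.mk hp
  have hq' := Fact.mk hq
  by_contra hR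
  have hcr : Nat.card (R : Subgroup G) = r := by
    rw [R.card_eq_multiplicity, hG, Nat.factorization_mul (Nat.mul_ne_zero hp.ne_zero hq.ne_zero)
      (Fact.out : r.Prime).ne_zero, Nat.factorization_mul hp.ne_zero hq.ne_zero]
    simp [Nat.Prime.factorization hp, Nat.Prime.factorization hq,
      Nat.Prime.factorization (Fact.out : r.Prime), Finsupp.single_apply, (hpq.trans hqr).ne, hqr.ne]
  have hidx : (R : Subgroup G).index = p * q := by
    have h := (R : Subgroup G).card_mul_index
    rw [hcr, hG, mul_comm (p * q) r] at h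
    exact Nat.eq_of_mul_eq_mul_left (Fact.out : r.Prime).pos h
  have hr1 : 1 < r := (Fact.out : r.Prime).one_lt
  have hnr : Nat.card (Sylow r G) = p * q := by
    have hd : Nat.card (Sylow r G) ∣ p * q := hidx ▸ Sylow.card_dvd_index R
    have hm : Nat.card (Sylow r G) % r = 1 := by
      have h' : Nat.card (Sylow r G) % r = 1 % r := card_sylow_modEq_one r G
      rw [h', Nat.mod_eq_of_lt hr1]
    have hne : Nat.card (Sylow r G) ≠ 1 := fun h1 => hR <| by
      have := (Nat.card_eq_one_iff_unique.mp h1).1
      exact R.normal_of_subsingleton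
    obtain ⟨a, b, ha, hb, hab⟩ := (Nat.dvd_mul.mp hd)
    rcases (Nat.dvd_prime hp).mp ha with rfl | rfl <;>
      rcases (Nat.dvd_prime hq).mp hb with rfl | rfl
    · exact absurd hab.symm (by simpa using hne)
    · rw [one_mul] at hab; rw [← hab, Nat.mod_eq_of_lt hqr] at hm; exact absurd hm hq.ne_one
    · rw [mul_one] at hab; rw [← hab, Nat.mod_eq_of_lt (hpq.trans hqr)] at hm; exact absurd hm hp.ne_one
    · exact hab.symm
  -- elements of order `r`, elements of `q`-power order
  obtain ⟨Q⟩ := (inferInstance : Nonempty (Sylow q G))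
  have hcq : ∀ S : Sylow q G, Nat.card (S : Subgroup G) = q := by
    intro S
    rw [S.card_eq_multiplicity, hG, Nat.factorization_mul (Nat.mul_ne_zero hp.ne_zero hq.ne_zero)
      (Fact.out : r.Prime).ne_zero, Nat.factorization_mul hp.ne_zero hq.ne_zero]
    simp [Nat.Prime.factorization hp, Nat.Prime.factorization hq,
      Nat.Prime.factorization (Fact.out : r.Prime), Finsupp.single_apply, hpq.ne, hqr.ne']
  have hcr' : ∀ S : Sylow r G, Nat.card (S : Subgroup G) = r := fun S => by
    exact (Nat.card_congr (S.equiv R).toEquiv).trans hcr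
  have hnqm : Nat.card (Sylow q G) % q = 1 := by
    have h' : Nat.card (Sylow q G) % q = 1 % q := card_sylow_modEq_one q G
    rw [h', Nat.mod_eq_of_lt hq.one_lt]
  by_cases h1 : Nat.card (Sylow q G) = 1
  · have hQn : (Q : Subgroup G).Normal := by
      have := (Nat.card_eq_one_iff_unique.mp h1).1
      exact Q.normal_of_subsingleton
    set M := (Q : Subgroup G) ⊔ (R : Subgroup G) with hM
    have hdisj : Disjoint (Q : Subgroup G) (R : Subgroup G) := by
      rw [disjoint_iff, ← Subgroup.card_eq_one]
      refine Nat.eq_one_of_dvd_coprimes ((Nat.coprime_primes hq (Fact.out : r.Prime)).mpr hqr.ne)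
        ?_ ?_
      · exact (Subgroup.card_dvd_of_le inf_le_left).trans (dvd_of_eq (hcq Q))
      · exact (Subgroup.card_dvd_of_le inf_le_right).trans (dvd_of_eq hcr)
    have hMc : Nat.card M = q * r := by
      rw [← hcq Q, ← hcr, hM, ← Nat.card_prod]
      refine (Nat.card_eq_of_bijective (fun x : ↥(Q : Subgroup G) × ↥(R : Subgroup G) =>
        (⟨x.1.1 * x.2.1, Subgroup.mul_mem_sup x.1.2 x.2.2⟩ :
          ↥((Q : Subgroup G) ⊔ (R : Subgroup G)))) ⟨?_, ?_⟩).symm
      · intro x y hxy
        exact Subgroup.mul_injective_of_disjoint hdisj (congrArg Subtype.val hxy)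
      · rintro ⟨x, hx⟩
        obtain ⟨y, hy, z, hz, rfl⟩ := Subgroup.mem_sup_of_normal_left.mp hx
        exact ⟨(⟨y, hy⟩, ⟨z, hz⟩), rfl⟩
    have hRM : (R : Subgroup G) ≤ M := le_sup_right
    let R' : Sylow r M := R.subtype hRM
    have hidx' : (R' : Subgroup M).index = q := by
      have h := (R' : Subgroup M).card_mul_index
      erw [Nat.card_congr (Subgroup.subgroupOfEquivOfLe hRM).toEquiv] at h
      rw [hcr, hMc, mul_comm q r] at h
      exact Nat.eq_of_mul_eq_mul_left (Fact.out : r.Prime).pos h
    have h1' : Nat.card (Sylow r M) = 1 := by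
      rcases (Nat.dvd_prime hq).mp (hidx' ▸ Sylow.card_dvd_index R') with h | h
      · exact h
      · have h' : Nat.card (Sylow r M) % r = 1 % r := card_sylow_modEq_one r M
        rw [h, Nat.mod_eq_of_lt hqr, Nat.mod_eq_of_lt hr1] at h'
        exact absurd h' hq.ne_one
    have hnorm : ((R : Subgroup G).subgroupOf M).Normal := by
      have := (Nat.card_eq_one_iff_unique.mp h1').1
      exact R'.normal_of_subsingleton
    have hMN : M ≤ Subgroup.normalizer ((R : Subgroup G) : Set G) :=
      (Subgroup.normal_subgroupOf_iff_le_normalizer hRM).mp hnorm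
    have hdvd := Subgroup.index_dvd_of_le hMN
    erw [← Sylow.card_eq_index_normalizer R] at hdvd
    have hMi : M.index = p := by
      have h := M.card_mul_index
      rw [hMc, hG, show p * q * r = q * r * p by ring] at h
      exact Nat.eq_of_mul_eq_mul_left (Nat.mul_pos hq.pos (Fact.out : r.Prime).pos) h
    rw [hnr, hMi] at hdvd
    have := Nat.le_of_dvd hp.pos hdvd
    have : p * 2 ≤ p * q := Nat.mul_le_mul_left p hq.two_le
    have := hp.pos
    omega
  · have hge : q + 1 ≤ Nat.card (Sylow q G) := by
      by_contra hlt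
      rcases Nat.lt_or_ge (Nat.card (Sylow q G)) q with h | h
      · exact h1 ((Nat.mod_eq_of_lt h).symm.trans hnqm)
      · rw [show Nat.card (Sylow q G) = q by omega, Nat.mod_self] at hnqm
        exact zero_ne_one hnqm
    have e1 := CfsgLib.SmallOrder.card_orderOf_eq_prime hcr'
    have e2 := CfsgLib.SmallOrder.card_orderOf_eq_prime hcq
    rw [hnr] at e1
    have e3 : Nat.card {g : G // orderOf g = r} + Nat.card {g : G // orderOf g = q} < Nat.card G := by
      classical
      have : Fintype G := Fintype.ofFinite G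
      simp only [Nat.card_eq_fintype_card, Fintype.card_subtype]
      rw [← Finset.card_union_of_disjoint]
      · refine Finset.card_lt_card (Finset.ssubset_univ_iff.mpr fun h => ?_)
        have := h ▸ Finset.mem_univ (1 : G)
        simp [hq.ne_one.symm, (Fact.out : r.Prime).ne_one.symm] at this
      · rw [Finset.disjoint_filter]
        intro g _ h1 h2
        exact hqr.ne' (h1.symm.trans h2)
    rw [e1, e2, hG] at e3
    have h2 : (q + 1) * (q - 1) ≤ Nat.card (Sylow q G) * (q - 1) := Nat.mul_le_mul_right _ hge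
    obtain ⟨s, rfl⟩ : ∃ s, q = s + 1 := ⟨q - 1, by omega⟩
    obtain ⟨u, rfl⟩ : ∃ u, r = u + 1 := ⟨r - 1, by omega⟩
    simp only [Nat.add_sub_cancel] at e3 h2
    have h3 : p * (s + 1) ≤ s * (s + 1) := Nat.mul_le_mul_right _ (by omega)
    nlinarith

end Cfsg.Agent.S0987
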