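import Cfsg.Statements.S0990
import Mathlib

set_option autoImplicit false
open Cfsg

namespace Cfsg.Agent.S0990

/-- Let p be an odd prime and P a Sylow p-subgroup of the symmetric group on a finite set with at least two elements. Then P is contained in the alternating group, and twice the order of the normalizer of P inside the alternating group equals the order of the normalizer of P in the symmetric group. -/
theorem result {α : Type*} [Fintype α] [DecidableEq α] (hα : 2 ≤ Fintype.card α) (p : ℕ) [Fact p.Prime] (hp : p ≠ 2) (P : Sylow p (Equiv.Perm α)) : (P : Subgroup (Equiv.Perm α)) ≤ alternatingGroup α ∧ 2 * Nat.card ↥(Subgroup.normalizer ((((P : Subgroup (Equiv.Perm α)).subgroupOf (alternatingGroup α) : Subgroup ↥(alternatingGroup α)) : Set ↥(alternatingGroup α)))) = Nat.card ↥(Subgroup.normalizer ((P : Subgroup (Equiv.Perm α)) : Set (Equiv.Perm α))) := by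
  classical
  have hp2 : ¬ 2 ∣ p := fun h => hp ((Nat.prime_dvd_prime_iff_eq Nat.prime_two Fact.out).mp h).symm
  have hle : (P : Subgroup (Equiv.Perm α)) ≤ alternatingGroup α := by
    intro x hx
    rw [Equiv.Perm.mem_alternatingGroup]
    obtain ⟨k, hk⟩ := P.2 ⟨x, hx⟩
    have hk' : x ^ p ^ k = 1 := congrArg Subtype.val hk
    have h := congrArg Equiv.Perm.sign hk'
    rw [map_pow, map_one] at h
    rcases Int.units_eq_one_or (Equiv.Perm.sign x) with h1 | h1
    · exact h1
    · rw [h1, Odd.neg_one_pow (Nat.not_even_iff_odd.mp fun he => hp2 (Nat.prime_two.dvd_of_dvd_pow (even_iff_two_dvd.mp he)))] at h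
      exact absurd h (by decide)
  refine ⟨hle, ?_⟩
  set A := alternatingGroup α
  set N := Subgroup.normalizer ((P : Subgroup (Equiv.Perm α)) : Set (Equiv.Perm α)) with hN
  have hA : A.index = 2 := by
    have : Nontrivial α := Fintype.one_lt_card_iff_nontrivial.mp (by omega)
    exact alternatingGroup.index_eq_two
  have hsup : N ⊔ A = ⊤ := Sylow.normalizer_sup_eq_top' P hle
  have hrel : A.relIndex N = 2 := by
    have hdvd : A.relIndex N ∣ 2 := hA ▸ Subgroup.relIndex_dvd_index_of_normal A N
    rcases (Nat.dvd_prime Nat.prime_two).mp hdvd with h | h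
    · exfalso
      have hNA : N ≤ A := Subgroup.relIndex_eq_one.mp h
      rw [sup_eq_right.mpr hNA] at hsup
      rw [hsup, Subgroup.index_top] at hA
      omega
    · exact h
  have hset : Subgroup.normalizer ((((P : Subgroup (Equiv.Perm α)).subgroupOf A : Subgroup A)) : Set A) =
      N.subgroupOf A := by
    ext a
    rw [Subgroup.mem_subgroupOf, hN]
    constructor
    · intro ha
      refine Subgroup.mem_normalizer_iff.mpr fun n => ?_
      constructor
      · intro hn
        exact (Subgroup.mem_normalizer_iff.mp ha ⟨n, hle hn⟩).mp hn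
      · intro hn
        have hnA : n ∈ A := by
          have := mul_mem (mul_mem (inv_mem a.2) (hle hn)) a.2
          simpa [mul_assoc] using this
        exact (Subgroup.mem_normalizer_iff.mp ha ⟨n, hnA⟩).mpr hn
    · intro ha
      exact Subgroup.mem_normalizer_iff.mpr fun n => Subgroup.mem_normalizer_iff.mp ha n.1
  rw [hset]
  have h := (A.subgroupOf N).card_mul_index
  rw [show (A.subgroupOf N).index = 2 from hrel] at h
  rw [← h, mul_comm]
  congr 1
  exact Nat.card_congr
    { toFun := fun a => ⟨⟨a.1.1, a.2⟩, a.1.2⟩
      invFun := fun a => ⟨⟨a.1.1, a.2⟩, a.1.2⟩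
      left_inv := fun a => rfl
      right_inv := fun a => rfl }

end Cfsg.Agent.S0990
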