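import Cfsg.Statements.S0992
import Mathlib
import Cfsg.Agent.Lib.SmallOrder.Klein

set_option autoImplicit false
open Cfsg

namespace Cfsg.Agent.S0992

/-- Let G be a non-abelian finite simple group of even order not divisible by 8, and T a Sylow 2-subgroup. Then T is a Klein four-group and the centralizer of T has index 3 in the normalizer of T. -/
theorem result {G : Type*} [Group G] [Finite G] [IsSimpleGroup G] (hG : ¬ IsMulCommutative G) (h2 : Even (Nat.card G)) (h8 : ¬ 8 ∣ Nat.card G) (T : Sylow 2 G) : IsKleinFour ↥(T : Subgroup G) ∧ (Subgroup.centralizer ((T : Subgroup G) : Set G)).relIndex (Subgroup.normalizer ((T : Subgroup G) : Set G)) = 3 := by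
  have h2' : 2 ∣ Nat.card G := even_iff_two_dvd.mp h2
  have hmin : (Nat.card G).minFac = 2 :=
    (Nat.minFac_eq_two_iff _).mpr h2'
  have hnc := CfsgLib.SmallOrder.not_isCyclic_minFac hG hmin T
  obtain ⟨k, hk⟩ := T.2.exists_card_eq
  have hk2 : k ≤ 2 := by
    by_contra h
    exact h8 ((pow_dvd_pow 2 (by omega : 3 ≤ k)).trans (hk ▸ Subgroup.card_subgroup_dvd_card _))
  have hcard : Nat.card (T : Subgroup G) = 4 := by
    interval_cases k
    · have h1 : Nat.card (T : Subgroup G) = 1 := hk.trans (pow_zero 2)
      have := (Nat.card_eq_one_iff_unique.mp h1).1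
      exact absurd isCyclic_of_subsingleton hnc
    · exact absurd (isCyclic_of_prime_card (p := 2) (by simpa using hk)) hnc
    · simpa using hk
  have hK : IsKleinFour ↥(T : Subgroup G) := by
    have : Nontrivial (T : Subgroup G) := Finite.one_lt_card_iff_nontrivial.mp (by omega)
    refine ⟨hcard, Monoid.exponent_eq_prime_iff (p := 2) Nat.prime_two |>.mpr ?_⟩
    · intro g hg
      have hd : orderOf g ∣ 2 ^ 2 := by
        have := orderOf_dvd_natCard g
        rwa [hcard] at this
      obtain ⟨j, hj, hjo⟩ := (Nat.dvd_prime_pow Nat.prime_two).mp hd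
      interval_cases j
      · exact absurd (orderOf_eq_one_iff.mp hjo) hg
      · simpa using hjo
      · exact absurd (isCyclic_of_orderOf_eq_card g (by rw [hjo, hcard]; norm_num)) hnc
  refine ⟨hK, ?_⟩
  set N := Subgroup.normalizer ((T : Subgroup G) : Set G) with hN
  set C := Subgroup.centralizer ((T : Subgroup G) : Set G) with hC
  have hker : (T : Subgroup G).normalizerMonoidHom.ker = C.subgroupOf N :=
    Subgroup.normalizerMonoidHom_ker _
  have hd6 : C.relIndex N ∣ 6 := by
    show (C.subgroupOf N).index ∣ 6
    rw [← hker, Subgroup.index_ker]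
    refine (Subgroup.card_subgroup_dvd_card _).trans ?_
    classical
    have : Fintype (T : Subgroup G) := Fintype.ofFinite _
    obtain ⟨e⟩ := IsKleinFour.nonempty_mulEquiv (G₁ := (T : Subgroup G)) (G₂ := Multiplicative (ZMod 2 × ZMod 2))
    rw [Nat.card_congr (MulAut.congr e).toEquiv, Nat.card_eq_fintype_card]
    decide +kernel
  have hodd : ¬ 2 ∣ C.relIndex N := by
    have hle : (T : Subgroup G) ≤ C := by
      intro a ha b hb
      have := IsKleinFour.isMulCommutative.is_comm.comm (⟨b, hb⟩ : (T : Subgroup G)) ⟨a, ha⟩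
      exact congrArg Subtype.val this
    intro h
    apply T.not_dvd_index
    exact h.trans ((Subgroup.relIndex_dvd_of_le_left _ hle).trans
      (Subgroup.relIndex_dvd_index_of_le Subgroup.le_normalizer))
  have hne : C.relIndex N ≠ 1 := fun h =>
    CfsgLib.SmallOrder.not_normalizer_le_centralizer hG h2' T (Subgroup.relIndex_eq_one.mp h)
  have hmem : C.relIndex N ∈ Nat.divisors 6 := Nat.mem_divisors.mpr ⟨hd6, by norm_num⟩
  rw [show Nat.divisors 6 = {1, 2, 3, 6} by decide] at hmem
  simp only [Finset.mem_insert, Finset.mem_singleton] at hmem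
  rcases hmem with h | h | h | h <;> simp_all

end Cfsg.Agent.S0992
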