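import Cfsg.Statements.S0994
import Mathlib
import Cfsg.Agent.Lib.SmallOrder.Exclude

set_option autoImplicit false
open Cfsg

namespace Cfsg.Agent.S0994

/-- No finite simple group has order 1188 = 2^2 * 3^3 * 11. -/
theorem result {G : Type*} [Group G] [Finite G] [IsSimpleGroup G] : Nat.card G ≠ 1188 := by
  intro h
  have hG : ¬ IsMulCommutative G :=
    CfsgLib.SmallOrder.not_comm_of_not_prime (by rw [h]; norm_num)
  exact CfsgLib.SmallOrder.false_of_excludedAt hG 0 11 1 108 (Or.inl rfl) (by norm_num) (by norm_num)
    (by norm_num) (by rw [h]; norm_num) (by decide +kernel)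

end Cfsg.Agent.S0994
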