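import Cfsg.Statements.S0995
import Mathlib
import Cfsg.Agent.Lib.SmallOrder.PrimeDegree

set_option autoImplicit false
set_option linter.style.haveILetI false
open Cfsg

namespace Cfsg.Agent.S0995

/-- Let G be a finite perfect group containing an element z of prime order p whose centralizer is the cyclic group it generates. Let t be the number of conjugacy classes of elements of order p. Then t divides p - 1, the number of Sylow p-subgroups has the form 1 + n * p, and |G| * t = (p - 1) * p * (1 + n * p). -/
theorem result {G : Type*} [Group G] [Finite G] (hperf : commutator G = ⊤) (p : ℕ) [Fact p.Prime] (z : G) (hz : orderOf z = p) (hC : Subgroup.centralizer ({z} : Set G) = Subgroup.zpowers z) : ∃ n t : ℕ, t = Nat.card {c : ConjClasses G // ∃ g : G, ConjClasses.mk g = c ∧ orderOf g = p} ∧ t ∣ p - 1 ∧ Nat.card (Sylow p G) = 1 + n * p ∧ Nat.card G * t = (p - 1) * p * (1 + n * p) := by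
  classical
  haveI := Fintype.ofFinite G
  haveI := Fintype.ofFinite (ConjClasses G)
  obtain ⟨P, hP⟩ := (IsPGroup.of_card (p := p) (n := 1) (G := Subgroup.zpowers z)
    (by rw [Nat.card_zpowers, hz, pow_one])).exists_le_sylow
  have hPe : Subgroup.zpowers z = (P : Subgroup G) := by
    haveI : Nontrivial (P : Subgroup G) := (Subgroup.nontrivial_iff_ne_bot _).mpr fun e => by
      have h1 : z ∈ (P : Subgroup G) := hP (Subgroup.mem_zpowers z)
      rw [e, Subgroup.mem_bot] at h1
      rw [h1, orderOf_one] at hz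
      exact (Fact.out : p.Prime).ne_one hz.symm
    haveI := P.2.center_nontrivial
    obtain ⟨c, hc⟩ := exists_ne (1 : Subgroup.center (P : Subgroup G))
    have hcz : (c.1.1 : G) ∈ Subgroup.zpowers z := by
      rw [← hC]
      exact Subgroup.mem_centralizer_singleton_iff.mpr (congrArg Subtype.val
        (Subgroup.mem_center_iff.mp c.2 ⟨z, hP (Subgroup.mem_zpowers z)⟩)).symm
    have hgen : Subgroup.zpowers (c.1.1 : G) = Subgroup.zpowers z := by
      refine Subgroup.eq_of_le_of_card_ge (Subgroup.zpowers_le.mpr hcz) ?_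
      have h1 := orderOf_dvd_natCard (⟨c.1.1, hcz⟩ : Subgroup.zpowers z)
      rw [Subgroup.orderOf_mk, Nat.card_zpowers, hz] at h1
      rw [Nat.card_zpowers, Nat.card_zpowers, hz]
      rcases (Nat.dvd_prime (Fact.out : p.Prime)).mp h1 with e | e
      · exact absurd (Subtype.ext (Subtype.ext (orderOf_eq_one_iff.mp e))) hc
      · rw [e]
    refine le_antisymm hP fun x hx => ?_
    rw [← hC, Subgroup.mem_centralizer_singleton_iff]
    obtain ⟨i, hi⟩ := Subgroup.mem_zpowers_iff.mp (hgen ▸ Subgroup.mem_zpowers z :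
      z ∈ Subgroup.zpowers (c.1.1 : G))
    rw [← hi]
    have hxc : Commute x (c.1.1 : G) := congrArg Subtype.val (Subgroup.mem_center_iff.mp c.2 ⟨x, hx⟩)
    exact (hxc.zpow_right i).eq
  have hPp : ∀ R : Sylow p G, Nat.card (R : Subgroup G) = p := fun R => by
    obtain ⟨g, rfl⟩ := MulAction.exists_smul_eq G P R
    rw [Sylow.card_eq_multiplicity, ← Sylow.card_eq_multiplicity P, ← hPe, Nat.card_zpowers, hz]
  set t := Nat.card {c : ConjClasses G // ∃ g : G, ConjClasses.mk g = c ∧ orderOf g = p}
  set np := Nat.card (Sylow p G)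
  have hel := CfsgLib.SmallOrder.card_orderOf_eq_prime (G := G) (q := p) hPp
  have hclass : ∀ g : G, orderOf g = p →
      Nat.card {y : G // ConjClasses.mk y = ConjClasses.mk g} * p = Nat.card G := by
    intro g hg
    obtain ⟨R, hR⟩ := (IsPGroup.of_card (p := p) (n := 1) (G := Subgroup.zpowers g)
      (by rw [Nat.card_zpowers, hg, pow_one])).exists_le_sylow
    obtain ⟨u, hu⟩ := MulAction.exists_smul_eq G P R
    have hgR : g ∈ ((u • P : Sylow p G) : Subgroup G) := hu ▸ hR (Subgroup.mem_zpowers g)
    obtain ⟨w, hw, hwg⟩ := hgR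
    have hwg' : u * w * u⁻¹ = g := hwg
    have hcg : Nat.card (Subgroup.centralizer ({g} : Set G)) = p := by
      refine le_antisymm ?_ ?_
      · refine le_trans (Nat.card_le_card_of_injective (fun x => (⟨u⁻¹ * x.1 * u, ?_⟩ : Subgroup.zpowers z)) ?_)
          (by rw [Nat.card_zpowers, hz])
        · rw [← hC, Subgroup.mem_centralizer_singleton_iff]
          have hwz : Subgroup.zpowers w = Subgroup.zpowers z := by
            refine Subgroup.eq_of_le_of_card_ge (Subgroup.zpowers_le.mpr (hPe ▸ hw)) ?_
            rw [Nat.card_zpowers, Nat.card_zpowers, hz,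
              ← MulEquiv.orderOf_eq (MulAut.conj u) w, MulAut.conj_apply, hwg', hg]
          obtain ⟨i, hi⟩ := Subgroup.mem_zpowers_iff.mp (hwz ▸ Subgroup.mem_zpowers z :
            z ∈ Subgroup.zpowers w)
          have hx : x.1 * g = g * x.1 := Subgroup.mem_centralizer_singleton_iff.mp x.2
          have hc : Commute (u⁻¹ * x.1 * u) w := by
            show u⁻¹ * x.1 * u * w = w * (u⁻¹ * x.1 * u)
            calc u⁻¹ * x.1 * u * w = u⁻¹ * (x.1 * (u * w * u⁻¹)) * u := by group
              _ = u⁻¹ * ((u * w * u⁻¹) * x.1) * u := by rw [hwg', hx]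
              _ = w * (u⁻¹ * x.1 * u) := by group
          rw [← hi]
          exact (hc.zpow_right i).eq
        · intro a b hab
          exact Subtype.ext (mul_left_cancel (mul_right_cancel (congrArg Subtype.val hab :)))
      · rw [← hg, ← Nat.card_zpowers]
        exact Subgroup.card_le_of_le (Subgroup.zpowers_le.mpr
          (Subgroup.mem_centralizer_singleton_iff.mpr rfl))
    have h1 := MulAction.index_stabilizer (ConjAct G) g
    rw [ConjAct.orbit_eq_carrier_conjClasses] at h1
    have h3 := Subgroup.card_mul_index (Subgroup.centralizer ({g} : Set G))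
    have h4 : (Subgroup.centralizer ({g} : Set G)).index =
        (MulAction.stabilizer (ConjAct G) g).index := by
      rw [Subgroup.centralizer_eq_comap_stabilizer]
      exact Subgroup.index_comap_of_surjective _ fun a => ⟨ConjAct.ofConjAct a, rfl⟩
    rw [h4, h1, hcg, mul_comm] at h3
    rw [show {y : G // ConjClasses.mk y = ConjClasses.mk g} = ↥{y : G | ConjClasses.mk y = ConjClasses.mk g}
      from rfl, Nat.card_coe_set_eq, show {y : G | ConjClasses.mk y = ConjClasses.mk g} =
      (ConjClasses.mk g).carrier from Set.ext fun y => (ConjClasses.mem_carrier_iff_mk_eq).symm]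
    exact h3
  have hsum : t * Nat.card G = Nat.card {g : G // orderOf g = p} * p := by
    let e : {g : G // orderOf g = p} ≃ Σ c : {c : ConjClasses G // ∃ g : G, ConjClasses.mk g = c ∧
        orderOf g = p}, {y : G // ConjClasses.mk y = c.1} :=
      { toFun := fun g => ⟨⟨ConjClasses.mk g.1, g.1, rfl, g.2⟩, g.1, rfl⟩
        invFun := fun x => ⟨x.2.1, by
          obtain ⟨g, hg, hgp⟩ := x.1.2
          obtain ⟨c, hc⟩ := isConj_iff.mp (ConjClasses.mk_eq_mk_iff_isConj.mp (hg.trans x.2.2.symm))
          rw [← hc, ← MulAut.conj_apply, MulEquiv.orderOf_eq, hgp]⟩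
        left_inv := fun g => rfl
        right_inv := by
          rintro ⟨⟨c, hc⟩, ⟨y, hy⟩⟩
          have hy' : ConjClasses.mk y = c := hy
          subst hy'
          rfl }
    rw [Nat.card_congr e, Nat.card_sigma, Finset.sum_mul, Finset.sum_congr rfl fun c _ => ?_,
      Finset.sum_const, smul_eq_mul, Finset.card_univ, ← Nat.card_eq_fintype_card]
    obtain ⟨g, hg, hgp⟩ := c.2
    rw [← hg]
    exact hclass g hgp
  rw [hel] at hsum
  obtain ⟨n, hn⟩ : ∃ n, np = 1 + n * p := by
    have hm : np % p = 1 := by
      have := card_sylow_modEq_one p G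
      rwa [Nat.ModEq, Nat.mod_eq_of_lt (Fact.out : p.Prime).one_lt] at this
    exact ⟨np / p, by rw [← hm, Nat.mul_comm, Nat.mod_add_div]⟩
  refine ⟨n, t, rfl, ?_, hn, ?_⟩
  · have hNN := (Subgroup.normalizer ((P : Subgroup G) : Set G)).card_mul_index
    have hidx : (Subgroup.normalizer ((P : Subgroup G) : Set G)).index = np :=
      (Sylow.card_eq_index_normalizer P).symm
    rw [hidx] at hNN
    have hpN : p ∣ Nat.card (Subgroup.normalizer ((P : Subgroup G) : Set G)) :=
      (hPp P).symm.dvd.trans (Subgroup.card_dvd_of_le Subgroup.le_normalizer)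
    obtain ⟨e, he⟩ := hpN
    rw [← hNN, he] at hsum
    have hpos : 0 < p * np := Nat.mul_pos (Fact.out : p.Prime).pos Nat.card_pos
    exact ⟨e, Nat.eq_of_mul_eq_mul_left hpos (by linear_combination -hsum)⟩
  · rw [← hn, mul_comm, hsum]
    ring

end Cfsg.Agent.S0995
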