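import Cfsg.Statements.S1001
import Cfsg.Agent.Lib.BrauerTuan.SelfCentralizing
import Cfsg.Agent.S0144

set_option autoImplicit false
open Cfsg

namespace Cfsg.Agent.S1001

/-- In a finite simple group whose order has the form p * 3^a * 2^b with p prime, the centralizer of any element of order p is the cyclic group it generates. -/
theorem result {G : Type*} [Group G] [Finite G] [IsSimpleGroup G] (p a b : ℕ) (hp : p.Prime) (hG : Nat.card G = p * 3 ^ a * 2 ^ b) (x : G) (hx : orderOf x = p) : Subgroup.centralizer ({x} : Set G) = Subgroup.zpowers x := by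
  classical
  haveI := Fact.mk hp
  by_cases hc : IsMulCommutative G
  · have htop : Subgroup.zpowers x = ⊤ := by
      rcases (Subgroup.Normal.mk (fun y hy g => by
        rw [hc.is_comm.comm g y, mul_inv_cancel_right]; exact hy) : (Subgroup.zpowers x).Normal).eq_bot_or_eq_top with h | h
      · rw [Subgroup.zpowers_eq_bot] at h
        rw [h, orderOf_one] at hx
        exact absurd hx hp.one_lt.ne
      · exact h
    rw [htop, eq_top_iff]
    exact fun y _ => Subgroup.mem_centralizer_singleton_iff.mpr (hc.is_comm.comm y x)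
  have h23 : p ≠ 2 ∧ p ≠ 3 := by
    refine ⟨fun h => hc ?_, fun h => hc ?_⟩
    · exact ⟨⟨IsSimpleGroup.comm_iff_isSolvable.2 (Cfsg.Agent.S0144.result 3 2 a (b + 1) Nat.prime_three Nat.prime_two
        (by rw [hG, h]; ring))⟩⟩
    · exact ⟨⟨IsSimpleGroup.comm_iff_isSolvable.2 (Cfsg.Agent.S0144.result 3 2 (a + 1) b Nat.prime_three Nat.prime_two
        (by rw [hG, h]; ring))⟩⟩
  obtain ⟨S, hS⟩ := (IsPGroup.of_card (p := p) (n := 1)
    (show Nat.card (Subgroup.zpowers x) = p ^ 1 by rw [Nat.card_zpowers, hx, pow_one])).exists_le_sylow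
  have hSx : Subgroup.zpowers x = (S : Subgroup G) := by
    refine Subgroup.eq_of_le_of_card_ge hS ?_
    rw [Nat.card_zpowers, hx, S.card_eq_multiplicity, hG]
    have h2 : ¬ p ∣ 3 ^ a * 2 ^ b := fun h => by
      rcases hp.dvd_mul.mp h with h' | h'
      · exact h23.2 ((Nat.prime_dvd_prime_iff_eq hp Nat.prime_three).mp (hp.dvd_of_dvd_pow h'))
      · exact h23.1 ((Nat.prime_dvd_prime_iff_eq hp Nat.prime_two).mp (hp.dvd_of_dvd_pow h'))
    rw [mul_assoc, Nat.factorization_mul hp.ne_zero (by positivity), Finsupp.add_apply,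
      Nat.factorization_eq_zero_of_not_dvd h2, hp.factorization_self, add_zero, pow_one]
  have h := CfsgLib.BrauerTuan.centralizer_eq_of_paqbr (G := G) Nat.prime_three Nat.prime_two h23.2.symm
    h23.1.symm (a := a) (b := b) (by rw [hG]; ring) S
  rw [hSx]
  refine Eq.trans ?_ h
  ext z
  constructor
  · intro hz
    refine Subgroup.mem_centralizer_iff.mpr fun c hc' => ?_
    rw [← hSx] at hc'
    obtain ⟨i, rfl⟩ := Subgroup.mem_zpowers_iff.mp hc'
    exact (Commute.zpow_left (Subgroup.mem_centralizer_singleton_iff.mp hz).symm i).eq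
  · intro hz
    exact Subgroup.mem_centralizer_singleton_iff.mpr
      (Subgroup.mem_centralizer_iff.mp hz x (hS (Subgroup.mem_zpowers x))).symm

end Cfsg.Agent.S1001
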