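import Cfsg.Statements.S1004
import Mathlib
import Cfsg.Agent.Lib.SmallOrder.OneSixEight
import Cfsg.Agent.Lib.Fusion.SplitExtraspecial

set_option autoImplicit false
set_option linter.style.haveILetI false
open Cfsg

namespace Cfsg.Agent.S1004

/-- Let G be a simple group of order 168 and T a Sylow 2-subgroup. Then T is dihedral of order 8, T is its own normalizer, and T is the centralizer of any non-identity element of T that commutes with every element of T. -/
theorem result {G : Type*} [Group G] [Finite G] [IsSimpleGroup G] (h : Nat.card G = 168) (T : Sylow 2 G) : Nonempty (↥(T : Subgroup G) ≃* DihedralGroup 4) ∧ Subgroup.normalizer ((T : Subgroup G) : Set G) = T ∧ ∀ z : G, z ∈ (T : Subgroup G) → z ≠ 1 → (∀ t ∈ (T : Subgroup G), t * z = z * t) → Subgroup.centralizer ({z} : Set G) = T := by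
  classical
  open CfsgLib.OneSixEight in
  refine ⟨?_, normalizer_sylow_two h T, fun z hz hz1 hzc => ?_⟩
  swap
  · rw [(CfsgLib.OneSixEight.zOf_spec h T).2.2.2 z hz hz1 hzc]
    exact (CfsgLib.OneSixEight.zOf_spec h T).2.2.1
  have hT := CfsgLib.OneSixEight.card_sylow_two_group h T
  obtain ⟨r, hr, hr4, hr2⟩ := CfsgLib.OneSixEight.exists_four h T
  obtain ⟨-, -, h8, -⟩ := CfsgLib.OneSixEight.two_element_split (G := G) h
  obtain ⟨s, hs, hsR⟩ : ∃ s ∈ (T : Subgroup G), s ∉ Subgroup.zpowers r := by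
    by_contra! hc
    have h1 := Subgroup.card_le_of_le (show (T : Subgroup G) ≤ Subgroup.zpowers r from hc)
    rw [hT, Nat.card_zpowers, hr4] at h1
    omega
  have hinvol : ∀ y ∈ (T : Subgroup G), y ∉ Subgroup.zpowers r → y * y = 1 := by
    intro y hy hyR
    obtain ⟨k, hk, hk'⟩ := (Nat.dvd_prime_pow Nat.prime_two).mp (show orderOf y ∣ 2 ^ 3 by
      rw [← Subgroup.orderOf_mk y hy, show (2 : ℕ) ^ 3 = Nat.card (T : Subgroup G) by rw [hT]; rfl]
      exact orderOf_dvd_natCard _)
    have h8' := h8 y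
    interval_cases k
    · rw [orderOf_eq_one_iff.mp hk', one_mul]
    · rw [← pow_two]
      exact (congrArg (y ^ ·) hk'.symm).trans (pow_orderOf_eq_one y)
    · exfalso
      rcases CfsgLib.OneSixEight.four_eq_or_inv h T hr hr4 hy hk' with e | e
      · exact hyR (e ▸ Subgroup.mem_zpowers r)
      · exact hyR (e ▸ (Subgroup.zpowers r).inv_mem (Subgroup.mem_zpowers r))
    · exact absurd hk' h8'
  have hsr : s * r ∉ Subgroup.zpowers r := fun hm => hsR (by
    have := mul_mem hm ((Subgroup.zpowers r).inv_mem (Subgroup.mem_zpowers r))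
    rwa [mul_inv_cancel_right] at this)
  refine CfsgLib.Fusion.Split.exists_dihedral_equiv hT (x := (⟨s, hs⟩ : (T : Subgroup G)))
    (y := ⟨s * r, mul_mem hs hr⟩) (Subtype.ext (hinvol s hs hsR))
    (Subtype.ext (hinvol (s * r) (mul_mem hs hr) hsr)) ?_ ?_
  · set K := Subgroup.closure ({(⟨s, hs⟩ : (T : Subgroup G)), ⟨s * r, mul_mem hs hr⟩} : Set _)
    have hmem : (⟨r, hr⟩ : (T : Subgroup G)) ∈ K := by
      have h1 := mul_mem (Subgroup.subset_closure (Or.inl rfl) : (⟨s, hs⟩ : (T : Subgroup G)) ∈ K)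
        (Subgroup.subset_closure (Or.inr rfl) : (⟨s * r, mul_mem hs hr⟩ : (T : Subgroup G)) ∈ K)
      rwa [show (⟨s, hs⟩ : (T : Subgroup G)) * ⟨s * r, mul_mem hs hr⟩ = ⟨r, hr⟩ from
        Subtype.ext (by show s * (s * r) = r; rw [← mul_assoc, hinvol s hs hsR, one_mul])] at h1
    have hlt : Subgroup.zpowers (⟨r, hr⟩ : (T : Subgroup G)) < K := by
      refine lt_of_le_of_ne (Subgroup.zpowers_le.mpr hmem) fun e => hsR ?_
      have h1 : (⟨s, hs⟩ : (T : Subgroup G)) ∈ K := Subgroup.subset_closure (Or.inl rfl)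
      rw [← e] at h1
      obtain ⟨j, hj⟩ := Subgroup.mem_zpowers_iff.mp h1
      exact ⟨j, congrArg Subtype.val hj⟩
    refine Subgroup.eq_top_of_card_eq _ ?_
    have hd := Subgroup.card_subgroup_dvd_card K
    rw [hT] at hd
    have h4 : 4 < Nat.card K := by
      have h0 : Nat.card (Subgroup.zpowers (⟨r, hr⟩ : (T : Subgroup G))) = 4 := by
        rw [Nat.card_zpowers, Subgroup.orderOf_mk, hr4]
      rw [← h0]
      exact lt_of_not_ge fun hh => hlt.ne (Subgroup.eq_of_le_of_card_ge hlt.le hh)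
    have hle := Nat.le_of_dvd (by norm_num) hd
    rw [hT]
    interval_cases hk : Nat.card K <;> simp_all (config := {decide := true})
  · refine Subtype.ext ?_
    show (s * (s * r)) ^ 4 = 1
    rw [← mul_assoc, hinvol s hs hsR, one_mul, ← hr4, pow_orderOf_eq_one]

end Cfsg.Agent.S1004
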