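import Cfsg.Statements.S1007
import Cfsg.Agent.Lib.SmallOrder.OneSixEightSubgroups

set_option autoImplicit false
open Cfsg

namespace Cfsg.Agent.S1007

/-- Let G be a simple group of order 168 and T a Sylow 2-subgroup. Then T contains exactly two subgroups that are Klein four-groups; they are not conjugate in G; and the normalizer of every Klein four-subgroup of G is isomorphic to the symmetric group of degree 4. -/
theorem result {G : Type*} [Group G] [Finite G] [IsSimpleGroup G] (h : Nat.card G = 168) (T : Sylow 2 G) : Nat.card {U : Subgroup G // U ≤ (T : Subgroup G) ∧ IsKleinFour ↥U} = 2 ∧ (∀ U W : Subgroup G, U ≤ (T : Subgroup G) → W ≤ (T : Subgroup G) → IsKleinFour ↥U → IsKleinFour ↥W → U ≠ W → ∀ g : G, U.map (MulAut.conj g).toMonoidHom ≠ W) ∧ ∀ U : Subgroup G, IsKleinFour ↥U → Nonempty (↥(Subgroup.normalizer (U : Set G)) ≃* Equiv.Perm (Fin 4)) := by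
  refine ⟨?_, fun U W hU hW hU4 hW4 hne g => CfsgLib.OneSixEight.Subgroups.not_conjugate h hU hW (CfsgLib.OneSixEight.Subgroups.four_of_klein hU4) (CfsgLib.OneSixEight.Subgroups.four_of_klein hW4) hne g, fun U hU => CfsgLib.OneSixEight.Subgroups.normalizer_four_S4 h (CfsgLib.OneSixEight.Subgroups.four_of_klein hU)⟩
  classical
  obtain ⟨U, W, hne, hUT, hWT, hU, hW, hall⟩ := CfsgLib.OneSixEight.Subgroups.exists_two h T
  have he : {V : Subgroup G | V ≤ (T : Subgroup G) ∧ IsKleinFour ↥V} = {U, W} := by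
    ext V
    constructor
    · rintro ⟨h1, h2⟩
      exact hall V h1 (CfsgLib.OneSixEight.Subgroups.four_of_klein h2)
    · rintro (rfl | rfl)
      · exact ⟨hUT, CfsgLib.OneSixEight.Subgroups.klein_of_four hU⟩
      · exact ⟨hWT, CfsgLib.OneSixEight.Subgroups.klein_of_four hW⟩
  rw [show {V : Subgroup G // V ≤ (T : Subgroup G) ∧ IsKleinFour ↥V} = ↥{V : Subgroup G | V ≤ (T : Subgroup G) ∧ IsKleinFour ↥V} from rfl, he, Nat.card_coe_set_eq, Set.ncard_pair hne]

end Cfsg.Agent.S1007
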