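import Cfsg.Statements.S1008
import Cfsg.Agent.Lib.SmallOrder.OneSixEightSubgroups

set_option autoImplicit false
open Cfsg

namespace Cfsg.Agent.S1008

/-- In a simple group of order 168 every maximal subgroup is either isomorphic to the symmetric group of degree 4 or non-abelian of order 21; the maximal subgroups of order 21 form one conjugacy class and those isomorphic to the symmetric group of degree 4 form exactly two conjugacy classes. -/
theorem result {G : Type*} [Group G] [Finite G] [IsSimpleGroup G] (h : Nat.card G = 168) : (∀ M : Subgroup G, IsCoatom M → Nonempty (↥M ≃* Equiv.Perm (Fin 4)) ∨ (Nat.card ↥M = 21 ∧ ¬ IsMulCommutative ↥M)) ∧ (∀ M M' : Subgroup G, IsCoatom M → IsCoatom M' → Nat.card ↥M = 21 → Nat.card ↥M' = 21 → ∃ g : G, M' = M.map (MulAut.conj g).toMonoidHom) ∧ ∃ M₁ M₂ : Subgroup G, IsCoatom M₁ ∧ IsCoatom M₂ ∧ Nonempty (↥M₁ ≃* Equiv.Perm (Fin 4)) ∧ Nonempty (↥M₂ ≃* Equiv.Perm (Fin 4)) ∧ (∀ g : G, M₂ ≠ M₁.map (MulAut.conj g).toMonoidHom) ∧ ∀ M : Subgroup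 G, IsCoatom M → Nonempty (↥M ≃* Equiv.Perm (Fin 4)) → ∃ g : G, M = M₁.map (MulAut.conj g).toMonoidHom ∨ M = M₂.map (MulAut.conj g).toMonoidHom := by
  classical
  haveI : Fact (Nat.Prime 7) := ⟨by norm_num⟩
  obtain ⟨T⟩ := (inferInstance : Nonempty (Sylow 2 G))
  obtain ⟨U, W, hne, hUT, hWT, hU, hW, hall⟩ := CfsgLib.OneSixEight.Subgroups.exists_two h T
  have hclass : ∀ M : Subgroup G, IsCoatom M →
      (∃ V : Subgroup G, CfsgLib.OneSixEight.Subgroups.Four V ∧ M = Subgroup.normalizer (V : Set G)) ∨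
        ∃ P : Sylow 7 G, M = Subgroup.normalizer ((P : Subgroup G) : Set G) := by
    intro M hM
    rcases CfsgLib.OneSixEight.Subgroups.le_local h hM.1 with ⟨V, hV, hle⟩ | ⟨P, hle⟩
    · refine Or.inl ⟨V, hV, ((eq_or_lt_of_le hle).resolve_right fun hlt => ?_)⟩
      exact (CfsgLib.OneSixEight.Subgroups.isCoatom_normalizer_four h hV).1 (hM.2 _ hlt)
    · refine Or.inr ⟨P, ((eq_or_lt_of_le hle).resolve_right fun hlt => ?_)⟩
      have := CfsgLib.OneSixEight.card_normalizer_seven h P
      rw [hM.2 _ hlt, Subgroup.card_top, h] at this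
      omega
  refine ⟨fun M hM => ?_, fun M M' hM hM' h21 h21' => ?_, _, _,
    CfsgLib.OneSixEight.Subgroups.isCoatom_normalizer_four h hU, CfsgLib.OneSixEight.Subgroups.isCoatom_normalizer_four h hW,
    CfsgLib.OneSixEight.Subgroups.normalizer_four_S4 h hU, CfsgLib.OneSixEight.Subgroups.normalizer_four_S4 h hW, fun g e => ?_, fun M hM he => ?_⟩
  · rcases hclass M hM with ⟨V, hV, rfl⟩ | ⟨P, rfl⟩
    · exact Or.inl (CfsgLib.OneSixEight.Subgroups.normalizer_four_S4 h hV)
    · refine Or.inr ⟨CfsgLib.OneSixEight.card_normalizer_seven h P, fun hc => ?_⟩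
      have hP := CfsgLib.OneSixEight.card_sylow_prime h (Or.inr rfl : (7 : ℕ) = 3 ∨ (7 : ℕ) = 7) P
      obtain ⟨x, hx⟩ := exists_prime_orderOf_dvd_card' (G := (P : Subgroup G)) 7 (by rw [hP])
      have hxo : orderOf (x : G) = 7 := by rw [Subgroup.orderOf_coe, hx]
      have hle : Subgroup.normalizer ((P : Subgroup G) : Set G) ≤ Subgroup.centralizer ({(x : G)} : Set G) := fun y hy =>
        Subgroup.mem_centralizer_singleton_iff.2 (congrArg Subtype.val (hc.is_comm.comm (⟨y, hy⟩ : Subgroup.normalizer ((P : Subgroup G) : Set G)) ⟨x, Subgroup.le_normalizer x.2⟩))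
      have := Subgroup.card_le_of_le hle
      rw [CfsgLib.OneSixEight.centralizer_of_prime h (Or.inr rfl) _ hxo, Nat.card_zpowers, hxo, CfsgLib.OneSixEight.card_normalizer_seven h P] at this
      omega
  · have key : ∀ N : Subgroup G, IsCoatom N → Nat.card ↥N = 21 → ∃ P : Sylow 7 G, N = Subgroup.normalizer ((P : Subgroup G) : Set G) := fun N hN hc => by
      rcases hclass N hN with ⟨V, hV, rfl⟩ | hP
      · rw [CfsgLib.OneSixEight.Subgroups.card_normalizer_four h hV] at hc
        omega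
      · exact hP
    obtain ⟨P, rfl⟩ := key M hM h21
    obtain ⟨P', rfl⟩ := key M' hM' h21'
    obtain ⟨g, rfl⟩ := MulAction.exists_smul_eq G P P'
    refine ⟨g, ?_⟩
    rw [Subgroup.map_equiv_normalizer_eq _ (MulAut.conj g)]
    rfl
  · rw [Subgroup.map_equiv_normalizer_eq U (MulAut.conj g)] at e
    exact CfsgLib.OneSixEight.Subgroups.not_conjugate h hUT hWT hU hW hne g
      (CfsgLib.OneSixEight.Subgroups.normalizer_unique h (CfsgLib.OneSixEight.Subgroups.four_map hU g) hW e)
  · rcases hclass M hM with ⟨V, hV, rfl⟩ | ⟨P, rfl⟩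
    · obtain ⟨T', hT'⟩ := CfsgLib.OneSixEight.Subgroups.exists_sylow_ge hV
      obtain ⟨g, rfl⟩ := MulAction.exists_smul_eq G T T'
      have hle : V.map (MulAut.conj g⁻¹).toMonoidHom ≤ (T : Subgroup G) := by
        rintro _ ⟨v, hv, rfl⟩
        obtain ⟨t, ht, hte⟩ := (hT' hv : v ∈ ((g • T : Sylow 2 G) : Subgroup G))
        have e : (MulAut.conj g⁻¹).toMonoidHom v = t := by
          rw [← hte]
          simp [mul_assoc]
        rw [e]
        exact ht
      have hback : (V.map (MulAut.conj g⁻¹).toMonoidHom).map (MulAut.conj g).toMonoidHom = V := by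
        rw [Subgroup.map_map]
        convert Subgroup.map_id V
        ext x
        simp [mul_assoc]
      refine ⟨g, ?_⟩
      rcases hall _ hle (CfsgLib.OneSixEight.Subgroups.four_map hV _) with e | e <;> rw [e] at hback
      · exact Or.inl (by rw [Subgroup.map_equiv_normalizer_eq U (MulAut.conj g)]; rw [← hback])
      · exact Or.inr (by rw [Subgroup.map_equiv_normalizer_eq W (MulAut.conj g)]; rw [← hback])
    · obtain ⟨e⟩ := he
      have := Nat.card_congr e.toEquiv
      rw [CfsgLib.OneSixEight.card_normalizer_seven h P, Nat.card_perm, Nat.card_fin] at this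
      exact absurd this (by decide)

end Cfsg.Agent.S1008
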