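import Cfsg.Statements.S1012
import Mathlib

set_option autoImplicit false
open Cfsg

namespace Cfsg.Agent.S1012

/-- A group of order 24 containing no element of order 6 is isomorphic to the symmetric group of degree 4. -/
theorem result {G : Type*} [Group G] [Finite G] (h : Nat.card G = 24) (h6 : ∀ g : G, orderOf g ≠ 6) : Nonempty (G ≃* Equiv.Perm (Fin 4)) := by
  classical
  have : Fact (Nat.Prime 2) := ⟨Nat.prime_two⟩
  have : Fact (Nat.Prime 3) := ⟨Nat.prime_three⟩
  have hP3 : ∀ P : Sylow 3 G, Nat.card (P : Subgroup G) = 3 := fun P => by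
    rw [P.card_eq_multiplicity, h, show (24 : ℕ) = 3 * 8 by norm_num,
      Nat.factorization_mul (by norm_num) (by norm_num), Finsupp.add_apply,
      Nat.Prime.factorization_self (by norm_num),
      Nat.factorization_eq_zero_of_not_dvd (by norm_num : ¬ 3 ∣ 8), add_zero, pow_one]
  -- no element of order 3 commutes with an involution
  have key : ∀ a b : G, orderOf a = 2 → orderOf b = 3 → ¬ Commute a b := fun a b ha hb hab =>
    h6 (a * b) (by rw [hab.orderOf_mul_eq_mul_orderOf_of_coprime (by rw [ha, hb]; norm_num), ha, hb])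
  obtain ⟨P⟩ := (inferInstance : Nonempty (Sylow 3 G))
  have hidx : (P : Subgroup G).index = 8 := by
    have := (P : Subgroup G).card_mul_index
    rw [hP3 P, h] at this
    omega
  have hn4 : Nat.card (Sylow 3 G) = 4 := by
    have hd : Nat.card (Sylow 3 G) ∣ 8 := hidx ▸ Sylow.card_dvd_index P
    have hm : Nat.card (Sylow 3 G) % 3 = 1 := card_sylow_modEq_one 3 G
    have hmem : Nat.card (Sylow 3 G) ∈ Nat.divisors 8 := Nat.mem_divisors.mpr ⟨hd, by norm_num⟩
    rw [show Nat.divisors 8 = {1, 2, 4, 8} by decide] at hmem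
    simp only [Finset.mem_insert, Finset.mem_singleton] at hmem
    rcases hmem with h' | h' | h' | h'
    · exfalso
      -- a normal subgroup of order 3 is centralized by an involution
      have := (Nat.card_eq_one_iff_unique.mp h').1
      have hPn : (P : Subgroup G).Normal := P.normal_of_subsingleton
      obtain ⟨Q, hQ⟩ := Sylow.exists_subgroup_card_pow_prime 2 (n := 2) (G := G) (by rw [h]; norm_num)
      have hN : Q ≤ Subgroup.normalizer ((P : Subgroup G) : Set G) := by
        rw [Subgroup.normalizer_eq_top_iff.mpr hPn]; exact le_top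
      have hQ2 : IsPGroup 2 Q := IsPGroup.of_card hQ
      let f : Q →* MulAut (P : Subgroup G) := (P : Subgroup G).normalizerMonoidHom.comp (Subgroup.inclusion hN)
      have hcyc : IsCyclic (P : Subgroup G) := isCyclic_of_prime_card (hP3 P)
      have hr : Nat.card f.range ∣ 2 := by
        refine (Subgroup.card_subgroup_dvd_card _).trans ?_
        rw [IsCyclic.card_mulAut, hP3 P, Nat.totient_prime (by norm_num)]
      have hker : 2 ∣ Nat.card f.ker := by
        have h1 := f.ker.card_mul_index
        rw [Subgroup.index_ker, hQ] at h1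
        have h2 : Nat.card f.range ≤ 2 := Nat.le_of_dvd two_pos hr
        have h3 : 0 < Nat.card f.range := Nat.card_pos
        interval_cases hc : Nat.card f.range <;> omega
      obtain ⟨q, hq⟩ := exists_prime_orderOf_dvd_card' 2 hker
      obtain ⟨b, hb⟩ := exists_prime_orderOf_dvd_card' 3 (dvd_of_eq (hP3 P).symm)
      refine key (q.1.1 : G) (b : G) (by rw [Subgroup.orderOf_coe, Subgroup.orderOf_coe, hq])
        (by rw [Subgroup.orderOf_coe, hb]) ?_
      have h1 : f q.1 = 1 := q.2
      have h2 : (f q.1 b : G) = b := by rw [h1]; rfl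
      exact mul_inv_eq_iff_eq_mul.mp h2
    · omega
    · exact h'
    · omega
  let f : G →* Equiv.Perm (Sylow 3 G) := MulAction.toPermHom G (Sylow 3 G)
  have hfix : ∀ g ∈ f.ker, ∀ S : Sylow 3 G, g ∈ Subgroup.normalizer ((S : Subgroup G) : Set G) := by
    intro g hg S
    exact Sylow.smul_eq_iff_mem_normalizer.mp (Equiv.Perm.ext_iff.mp hg S)
  have hker : f.ker = ⊥ := by
    by_contra hne
    have hN6 : Nat.card (Subgroup.normalizer ((P : Subgroup G) : Set G)) = 6 := by
      have h1 := (Subgroup.normalizer ((P : Subgroup G) : Set G)).card_mul_index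
      erw [← Sylow.card_eq_index_normalizer P] at h1
      rw [hn4, h] at h1
      omega
    have hle : f.ker ≤ Subgroup.normalizer ((P : Subgroup G) : Set G) := fun g hg => hfix g hg P
    have hd := hN6 ▸ Subgroup.card_dvd_of_le hle
    by_cases h3 : 3 ∣ Nat.card f.ker
    · -- then the kernel contains every Sylow 3-subgroup, hence all 8 elements of order 3
      obtain ⟨b, hb⟩ := exists_prime_orderOf_dvd_card' 3 h3
      have hbz : IsPGroup 3 (Subgroup.zpowers (b : G)) :=
        IsPGroup.of_card (n := 1) (by rw [Nat.card_zpowers, Subgroup.orderOf_coe, hb, pow_one])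
      obtain ⟨S', hS'⟩ := hbz.exists_le_sylow
      have hSker : (S' : Subgroup G) ≤ f.ker := by
        have : Subgroup.zpowers (b : G) = (S' : Subgroup G) := Subgroup.eq_of_le_of_card_ge hS'
          (by rw [hP3 S', Nat.card_zpowers, Subgroup.orderOf_coe, hb])
        rw [← this, Subgroup.zpowers_le]
        exact b.2
      have hall : ∀ T : Sylow 3 G, (T : Subgroup G) ≤ f.ker := by
        intro T
        obtain ⟨g, hg⟩ := MulAction.exists_smul_eq G S' T
        rw [← hg]
        rintro _ ⟨a, ha, rfl⟩
        exact (MonoidHom.normal_ker f).conj_mem a (hSker ha) g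
      let emb : (Σ T : Sylow 3 G, {a : (T : Subgroup G) // a ≠ 1}) → f.ker := fun x => ⟨x.2.1.1, hall x.1 x.2.1.2⟩
      have hinj : Function.Injective emb := by
        rintro ⟨T, a, ha⟩ ⟨T', a', ha'⟩ he
        have he' : (a : G) = a' := congrArg Subtype.val he
        have hz : ∀ (U : Sylow 3 G) (u : (U : Subgroup G)), u ≠ 1 → (U : Subgroup G) = Subgroup.zpowers (u : G) := by
          intro U u hu
          refine (Subgroup.eq_of_le_of_card_ge (Subgroup.zpowers_le.mpr u.2) ?_).symm
          rw [hP3 U, Nat.card_zpowers, Subgroup.orderOf_coe, orderOf_eq_prime (p := 3)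
            (orderOf_dvd_iff_pow_eq_one.mp ((orderOf_dvd_natCard u).trans (dvd_of_eq (hP3 U)))) hu]
        have hTT : T = T' := Sylow.ext (by rw [hz T a ha, hz T' a' ha', he'])
        subst hTT
        have haa : a = a' := Subtype.ext he'
        subst haa
        rfl
      have hcard := Nat.card_le_card_of_injective emb hinj
      have : Fintype (Sylow 3 G) := Fintype.ofFinite _
      have h2 : ∀ T : Sylow 3 G, Nat.card {a : (T : Subgroup G) // a ≠ 1} = 2 := fun T => by
        have : Fintype (T : Subgroup G) := Fintype.ofFinite _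
        rw [Nat.card_eq_fintype_card, Fintype.card_subtype_compl, Fintype.card_subtype_eq,
          ← Nat.card_eq_fintype_card, hP3 T]
      rw [Nat.card_sigma] at hcard
      simp only [h2, Finset.sum_const, Finset.card_univ, smul_eq_mul, ← Nat.card_eq_fintype_card, hn4] at hcard
      have := Nat.le_of_dvd (by norm_num) hd
      omega
    · -- a normal subgroup of order 2 is central
      have hk2 : Nat.card f.ker = 2 := by
        have hle6 := Nat.le_of_dvd (by norm_num) hd
        have h1 : Nat.card f.ker ≠ 1 := fun h1 => hne (Subgroup.card_eq_one.mp h1)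
        have h0 : 0 < Nat.card f.ker := Nat.card_pos
        interval_cases hc : Nat.card f.ker <;> omega
      obtain ⟨a, ha⟩ := exists_prime_orderOf_dvd_card' 2 (dvd_of_eq hk2.symm)
      obtain ⟨b, hb⟩ := exists_prime_orderOf_dvd_card' 3 (h ▸ (by norm_num : 3 ∣ 24))
      refine key (a : G) b (by rw [Subgroup.orderOf_coe, ha]) hb ?_
      have hmem : b * (a : G) * b⁻¹ ∈ f.ker := (MonoidHom.normal_ker f).conj_mem a a.2 b
      have hne1 : b * (a : G) * b⁻¹ ≠ 1 := fun h' => by
        have h'' : (a : G) = 1 := conj_eq_one_iff.mp h'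
        rw [← Subgroup.orderOf_coe, h'', orderOf_one] at ha
        omega
      have hna1 : a ≠ 1 := fun h' => by rw [h', orderOf_one] at ha; omega
      have : Fintype f.ker := Fintype.ofFinite _
      have hu : ∀ u : f.ker, u ≠ 1 → u = a := by
        intro u hu
        obtain ⟨x, -, hx⟩ := (Nat.card_eq_two_iff' (1 : f.ker)).mp hk2
        exact (hx u hu).trans (hx a hna1).symm
      have := congrArg Subtype.val (hu ⟨_, hmem⟩ fun h' => hne1 (congrArg Subtype.val h'))
      exact (mul_inv_eq_iff_eq_mul.mp this).symm
  have hfi : Function.Injective f := (MonoidHom.ker_eq_bot_iff f).mp hker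
  let e : Sylow 3 G ≃ Fin 4 := Finite.equivFinOfCardEq hn4
  refine ⟨(MulEquiv.ofBijective f (Nat.bijective_iff_injective_and_card _ |>.mpr ⟨hfi, ?_⟩)).trans
    e.permCongrHom⟩
  rw [h, Nat.card_perm, hn4]
  rfl

end Cfsg.Agent.S1012
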