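import Cfsg.Statements.S1018
import Mathlib

set_option autoImplicit false
open Cfsg

namespace Cfsg.Agent.S1018

/-- Let P be a Sylow p-subgroup of order p of a finite group G, and consider the action of G on the left cosets of the normalizer N of P. Then every element of order p fixes exactly one coset, and an element of N that does not centralize P fixes at most as many cosets as there are orbits of P. -/
theorem result {G : Type*} [Group G] [Finite G] (p : ℕ) [Fact p.Prime] (P : Sylow p G) (hP : Nat.card ↥(P : Subgroup G) = p) : (∀ y : G, orderOf y = p → Nat.card (MulAction.fixedBy (G ⧸ Subgroup.normalizer ((P : Subgroup G) : Set G)) y) = 1) ∧ ∀ x : G, x ∈ Subgroup.normalizer ((P : Subgroup G) : Set G) → x ∉ Subgroup.centralizer ((P : Subgroup G) : Set G) → Nat.card (MulAction.fixedBy (G ⧸ Subgroup.normalizer ((P : Subgroup G) : Set G)) x) ≤ Nat.card (MulAction.orbitRel.Quotient ↥(P : Subgroup G) (G ⧸ Subgroup.normalizer ((P : Subgroup G) : Set G))) := by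
  classical
  set N := Subgroup.normalizer ((P : Subgroup G) : Set G) with hN
  have hzp : ∀ (R : Sylow p G) (a : G), a ∈ (R : Subgroup G) → orderOf a = p →
      (R : Subgroup G) = Subgroup.zpowers a := by
    intro R a ha ho
    refine (Subgroup.eq_of_le_of_card_ge (Subgroup.zpowers_le.mpr ha) (le_of_eq ?_)).symm
    rw [Nat.card_zpowers, ho]
    exact (Nat.card_congr (R.equiv P).toEquiv).trans hP
  refine ⟨fun y hy => ?_, fun x hxN hxC => ?_⟩
  · -- `y` lies in exactly one Sylow subgroup
    obtain ⟨R, hR⟩ := (IsPGroup.of_card (n := 1) (p := p)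
      (by rw [Nat.card_zpowers, hy, pow_one] : Nat.card (Subgroup.zpowers y) = p ^ 1)).exists_le_sylow
    obtain ⟨c, hc⟩ := MulAction.exists_smul_eq G P R
    have hkey : ∀ g : G, (QuotientGroup.mk g : G ⧸ N) ∈ MulAction.fixedBy (G ⧸ N) y ↔ g • P = R := by
      intro g
      rw [MulAction.mem_fixedBy, MulAction.Quotient.smul_mk, eq_comm, QuotientGroup.eq, smul_eq_mul,
        ← mul_assoc]
      constructor
      · intro h
        have hyR : y ∈ Subgroup.normalizer (((g • P : Sylow p G) : Subgroup G) : Set G) := by
          apply Sylow.smul_eq_iff_mem_normalizer.mp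
          rw [← mul_smul]
          have h2 := Sylow.smul_eq_iff_mem_normalizer.mpr h
          rw [mul_smul, mul_smul, inv_smul_eq_iff] at h2
          rw [mul_smul]
          exact h2
        have hy' : Subgroup.zpowers y ≤ ((g • P : Sylow p G) : Subgroup G) := by
          have h3 : Subgroup.zpowers y ≤ Subgroup.normalizer (((g • P : Sylow p G) : Subgroup G) : Set G) :=
            Subgroup.zpowers_le.mpr hyR
          have h4 := IsPGroup.inf_normalizer_sylow (IsPGroup.of_card (n := 1) (p := p)
            (by rw [Nat.card_zpowers, hy, pow_one] : Nat.card (Subgroup.zpowers y) = p ^ 1)) (g • P)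
          exact fun a ha => (h4.le (Subgroup.mem_inf.mpr ⟨ha, h3 ha⟩)).2
        exact Sylow.ext ((hzp _ y (hy' (Subgroup.mem_zpowers y)) hy).trans
          (hzp R y (hR (Subgroup.mem_zpowers y)) hy).symm)
      · intro h
        apply Sylow.smul_eq_iff_mem_normalizer.mp
        rw [mul_smul, mul_smul, inv_smul_eq_iff, h]
        exact Sylow.smul_eq_iff_mem_normalizer.mpr (Subgroup.le_normalizer (hR (Subgroup.mem_zpowers y)))
    rw [Nat.card_eq_one_iff_unique]
    refine ⟨⟨fun a b => ?_⟩, ⟨⟨QuotientGroup.mk c, (hkey c).mpr hc⟩⟩⟩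
    obtain ⟨a, ha⟩ := a
    obtain ⟨b, hb⟩ := b
    induction a using QuotientGroup.induction_on with
    | H a => induction b using QuotientGroup.induction_on with
      | H b =>
        refine Subtype.ext (QuotientGroup.eq.mpr ?_)
        apply Sylow.smul_eq_iff_mem_normalizer.mp
        rw [mul_smul, inv_smul_eq_iff, (hkey a).mp ha, (hkey b).mp hb]
  · -- at most one fixed point in each orbit of `P`
    let φ : MulAction.fixedBy (G ⧸ N) x → MulAction.orbitRel.Quotient (P : Subgroup G) (G ⧸ N) :=
      fun w => Quotient.mk'' w.1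
    refine Nat.card_le_card_of_injective φ fun u v huv => ?_
    have hrel : u.1 ∈ MulAction.orbit (P : Subgroup G) v.1 := Quotient.eq''.mp huv
    obtain ⟨h, hh⟩ := hrel
    by_contra hne
    have hfix : (h : G) • v.1 ≠ v.1 := fun e => hne (Subtype.ext (hh.symm.trans e))
    -- the stabilizer in `P` of a moved point is trivial
    have hstab : MulAction.stabilizer (P : Subgroup G) v.1 = ⊥ := by
      have : Fact (Nat.card (P : Subgroup G)).Prime := ⟨by rw [hP]; exact Fact.out⟩
      rcases (MulAction.stabilizer (P : Subgroup G) v.1).eq_bot_or_eq_top_of_prime_card with e | e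
      · exact e
      · have hm : h ∈ MulAction.stabilizer (P : Subgroup G) v.1 := by rw [e]; exact Subgroup.mem_top h
        exact absurd (MulAction.mem_stabilizer_iff.mp hm) hfix
    let h' : (P : Subgroup G) := ⟨x * h * x⁻¹, (Subgroup.mem_normalizer_iff.mp hxN h).mp h.2⟩
    have hx' : x⁻¹ • v.1 = v.1 := by
      rw [inv_smul_eq_iff]
      exact v.2.symm
    have e1 : h' • v.1 = h • v.1 := by
      show (x * (h : G) * x⁻¹) • v.1 = (h : G) • v.1
      rw [mul_smul, mul_smul, hx', show (h : G) • v.1 = u.1 from hh]
      exact u.2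
    have e2 : h⁻¹ * h' ∈ MulAction.stabilizer (P : Subgroup G) v.1 := by
      rw [MulAction.mem_stabilizer_iff, mul_smul, e1, inv_smul_smul]
    rw [hstab, Subgroup.mem_bot, inv_mul_eq_one] at e2
    have e3 : x * (h : G) * x⁻¹ = h := (congrArg Subtype.val e2).symm
    apply hxC
    have ho : orderOf (h : G) = p := by
      have hne1 : (h : (P : Subgroup G)) ≠ 1 := fun e => hfix (by rw [e]; exact one_smul G v.1)
      rw [Subgroup.orderOf_coe]
      exact orderOf_eq_prime (orderOf_dvd_iff_pow_eq_one.mp
        ((orderOf_dvd_natCard h).trans (dvd_of_eq hP))) hne1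
    intro a ha
    have ha' : a ∈ Subgroup.zpowers (h : G) := (hzp P h h.2 ho) ▸ ha
    obtain ⟨i, rfl⟩ := ha'
    have hc : Commute (h : G) x := (mul_inv_eq_iff_eq_mul.mp e3).symm
    exact (hc.zpow_left i).eq

end Cfsg.Agent.S1018
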