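import Cfsg.Statements.S1019
import Mathlib

set_option autoImplicit false
open Cfsg

namespace Cfsg.Agent.S1019

/-- Let H be a subgroup of a finite group G and x an element of H. In the action of G on the left cosets of H, the number of cosets fixed by x, multiplied by the size of the conjugacy class of x, equals the index of H multiplied by the number of conjugates of x that lie in H. -/
theorem result {G : Type*} [Group G] [Finite G] (H : Subgroup G) (x : G) (hx : x ∈ H) : Nat.card (MulAction.fixedBy (G ⧸ H) x) * Nat.card {g : G // IsConj x g} = H.index * Nat.card {g : G // IsConj x g ∧ g ∈ H} := by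
  classical
  let Ω := {g : G // IsConj x g ∧ g ∈ H}
  let A := {g : G // g⁻¹ * x * g ∈ H}
  set C := Subgroup.centralizer ({x} : Set G) with hC
  -- `g ↦ g⁻¹ x g` on `A` has fibres of size `|C|`
  have hA : Nat.card A = Nat.card Ω * Nat.card C := by
    have hw : ∀ w : Ω, ∃ g : G, g⁻¹ * x * g = w.1 := fun w => by
      obtain ⟨c, hc⟩ := isConj_iff.mp w.2.1
      exact ⟨c⁻¹, by rw [inv_inv, hc]⟩
    choose s hs using hw
    let toW : A → Ω := fun g => ⟨g.1⁻¹ * x * g.1, isConj_iff.mpr ⟨g.1⁻¹, by simp⟩, g.2⟩
    have hmem : ∀ g : A, g.1 * (s (toW g))⁻¹ ∈ C := by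
      intro g
      apply Subgroup.mem_centralizer_singleton_iff.mpr
      have h : (s (toW g))⁻¹ * x * s (toW g) = g.1⁻¹ * x * g.1 := hs (toW g)
      have h2 : g.1 * (s (toW g))⁻¹ * x = g.1 * ((s (toW g))⁻¹ * x * s (toW g)) * (s (toW g))⁻¹ := by
        group
      rw [h2, h]
      group
    have hval : ∀ (w : Ω) (c : C), (c.1 * s w)⁻¹ * x * (c.1 * s w) = w.1 := by
      intro w c
      have h : c.1 * x = x * c.1 := Subgroup.mem_centralizer_singleton_iff.mp c.2
      rw [show (c.1 * s w)⁻¹ * x * (c.1 * s w) = (s w)⁻¹ * (c.1⁻¹ * (x * c.1)) * s w by group, ← h,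
        inv_mul_cancel_left]
      exact hs w
    let back : Ω × C → A := fun wc => ⟨wc.2.1 * s wc.1, by rw [hval wc.1 wc.2]; exact wc.1.2.2⟩
    have hbij : Function.Bijective back := by
      constructor
      · rintro ⟨w, c⟩ ⟨w', c'⟩ h
        have h' : c.1 * s w = c'.1 * s w' := congrArg Subtype.val h
        have hw' : w = w' := Subtype.ext (by rw [← hval w c, ← hval w' c', h'])
        subst hw'
        exact Prod.ext rfl (Subtype.ext (mul_right_cancel h'))
      · intro g
        exact ⟨(toW g, ⟨_, hmem g⟩), Subtype.ext (inv_mul_cancel_right _ _)⟩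
    rw [← Nat.card_prod]
    exact (Nat.card_eq_of_bijective back hbij).symm
  -- `A` is the union of the cosets fixed by `x`
  have hB : Nat.card A = Nat.card (MulAction.fixedBy (G ⧸ H) x) * Nat.card H := by
    have hiff : ∀ g : G, g⁻¹ * x * g ∈ H ↔ (QuotientGroup.mk g : G ⧸ H) ∈ MulAction.fixedBy (G ⧸ H) x := by
      intro g
      rw [MulAction.mem_fixedBy, MulAction.Quotient.smul_mk, eq_comm, QuotientGroup.eq, smul_eq_mul,
        mul_assoc]
    refine (Nat.card_congr (Equiv.subtypeEquivRight hiff)).trans ?_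
    exact (QuotientGroup.card_preimage_mk H (MulAction.fixedBy (G ⧸ H) x)).trans (Nat.mul_comm _ _)
  have hcls : Nat.card {g : G // IsConj x g} * Nat.card C = Nat.card G := by
    rw [hC, mul_comm, ← (Subgroup.centralizer ({x} : Set G)).card_mul_index]
    congr 1
    rw [Subgroup.index_eq_card]
    refine Nat.card_congr (Equiv.ofBijective
      (fun q : G ⧸ Subgroup.centralizer ({x} : Set G) => Quotient.liftOn' q
        (fun g => (⟨g * x * g⁻¹, isConj_iff.mpr ⟨g, rfl⟩⟩ : {g : G // IsConj x g})) ?_) ⟨?_, ?_⟩).symm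
    · intro a b hab
      rw [QuotientGroup.leftRel_apply, Subgroup.mem_centralizer_singleton_iff] at hab
      ext
      simp only
      have : b = a * (a⁻¹ * b) := by group
      rw [this, show a * (a⁻¹ * b) * x * (a * (a⁻¹ * b))⁻¹ = a * ((a⁻¹ * b) * x) * (a⁻¹ * b)⁻¹ * a⁻¹ by group,
        hab]
      group
    · intro a b
      induction a using QuotientGroup.induction_on with
      | H a => induction b using QuotientGroup.induction_on with
        | H b =>
          intro h
          have h' : a * x * a⁻¹ = b * x * b⁻¹ := congrArg Subtype.val h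
          refine QuotientGroup.eq.mpr (Subgroup.mem_centralizer_singleton_iff.mpr ?_)
          calc a⁻¹ * b * x = a⁻¹ * (b * x * b⁻¹) * b := by group
            _ = a⁻¹ * (a * x * a⁻¹) * b := by rw [h']
            _ = x * (a⁻¹ * b) := by group
    · rintro ⟨g, hg⟩
      obtain ⟨c, hc⟩ := isConj_iff.mp hg
      exact ⟨QuotientGroup.mk c, Subtype.ext hc⟩
  have hHi := H.card_mul_index
  have hpos : 0 < Nat.card H * Nat.card C := Nat.mul_pos Nat.card_pos Nat.card_pos
  apply Nat.eq_of_mul_eq_mul_right hpos
  calc Nat.card (MulAction.fixedBy (G ⧸ H) x) * Nat.card {g : G // IsConj x g} * (Nat.card H * Nat.card C)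
      = (Nat.card (MulAction.fixedBy (G ⧸ H) x) * Nat.card H) *
          (Nat.card {g : G // IsConj x g} * Nat.card C) := by ring
    _ = Nat.card Ω * Nat.card C * (Nat.card H * H.index) := by rw [← hB, hA, hcls, hHi]
    _ = _ := by ring

end Cfsg.Agent.S1019
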