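import Cfsg.Statements.S1022
import Cfsg.Agent.Lib.SmallOrder.Basic
import Cfsg.Agent.Lib.Critical.Basic

set_option autoImplicit false
open Cfsg

namespace Cfsg.Agent.S1022

open scoped Pointwise

theorem divisor_cases {c : ℕ} (h : c ∣ 24192) (h1 : c % 19 = 1) :
    c = 1 ∨ c = 96 ∨ c = 1008 := by
  have h' : c ∣ 2 ^ 7 * 3 ^ 3 * 7 := by norm_num; exact h
  obtain ⟨a, b, ha, hb, rfl⟩ := Nat.dvd_mul.mp h'
  obtain ⟨x, y, hx, hy, rfl⟩ := Nat.dvd_mul.mp ha
  obtain ⟨i, hi, rfl⟩ := (Nat.dvd_prime_pow Nat.prime_two).mp hx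
  obtain ⟨j, hj, rfl⟩ := (Nat.dvd_prime_pow Nat.prime_three).mp hy
  rcases (Nat.dvd_prime (by norm_num : Nat.Prime 7)).mp hb with rfl | rfl <;>
    interval_cases i <;> interval_cases j <;> first | (norm_num at h1; done) | norm_num

variable {G : Type*} [Group G] [Finite G] [IsSimpleGroup G]

theorem card_sylow_cases [Fact (Nat.Prime 19)] {H : Subgroup G} (hn : Nat.card G = 459648)
    (P : Sylow 19 ↥H) (hP : Nat.card (P : Subgroup ↥H) = 19) :
    Nat.card (Sylow 19 ↥H) = 1 ∨ Nat.card (Sylow 19 ↥H) = 96 ∨
      Nat.card (Sylow 19 ↥H) = 1008 := by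
  refine divisor_cases ?_ ?_
  · have h1 := P.card_dvd_index
    have h2 : (P : Subgroup ↥H).index * 19 ∣ Nat.card G := by
      have h3 := (P : Subgroup ↥H).card_mul_index
      rw [hP, mul_comm] at h3
      rw [h3]
      exact Subgroup.card_subgroup_dvd_card H
    rw [hn, show 459648 = 24192 * 19 by norm_num] at h2
    exact h1.trans (Nat.dvd_of_mul_dvd_mul_right (by norm_num) h2)
  · exact card_sylow_modEq_one 19 _

theorem false_of_card (hna : ¬ IsMulCommutative G) (hn : Nat.card G = 459648) : False := by
  classical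
  haveI : Fact (Nat.Prime 19) := ⟨by norm_num⟩
  haveI : Fact (Nat.Prime 7) := ⟨by norm_num⟩
  haveI : Fact (Nat.Prime 2) := ⟨Nat.prime_two⟩
  obtain ⟨P⟩ : Nonempty (Sylow 19 G) := inferInstance
  have hP : Nat.card (P : Subgroup G) = 19 := by
    rw [P.card_eq_multiplicity, hn]
    have : (459648 : ℕ).factorization 19 = 1 := by
      rw [show (459648 : ℕ) = 19 * 24192 by norm_num,
        Nat.factorization_mul (by norm_num) (by norm_num), Finsupp.add_apply,
        Nat.Prime.factorization_self (by norm_num),
        Nat.factorization_eq_zero_of_not_dvd (by norm_num)]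
    rw [this, pow_one]
  set N : Subgroup G := Subgroup.normalizer ((P : Subgroup G) : Set G) with hNdef
  set C : Subgroup G := Subgroup.centralizer ((P : Subgroup G) : Set G) with hCdef
  set F := (P : Subgroup G).normalizerMonoidHom with hFdef
  have hker : F.ker = C.subgroupOf N := Subgroup.normalizerMonoidHom_ker _
  haveI : IsCyclic ↥(P : Subgroup G) := isCyclic_of_prime_card hP
  have hAut : Nat.card (MulAut ↥(P : Subgroup G)) = 18 := by
    rw [IsCyclic.card_mulAut, hP, Nat.totient_prime (by norm_num)]
  have hidx : N.index = Nat.card (Sylow 19 G) := P.card_eq_index_normalizer.symm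
  have hNtop : N ≠ ⊤ := by
    intro h
    haveI : (P : Subgroup G).Normal := Subgroup.normalizer_eq_top_iff.mp h
    rcases Subgroup.Normal.eq_bot_or_eq_top (H := (P : Subgroup G)) inferInstance with hb | ht
    · rw [hb, Subgroup.card_bot] at hP; omega
    · rw [ht, Subgroup.card_top, hn] at hP; omega
  have hn19 : Nat.card (Sylow 19 G) = 96 ∨ Nat.card (Sylow 19 G) = 1008 := by
    rcases divisor_cases (c := Nat.card (Sylow 19 G)) (by
      have h1 := P.card_dvd_index
      have h2 := (P : Subgroup G).card_mul_index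
      rw [hP, hn] at h2
      have : (P : Subgroup G).index = 24192 := by omega
      rwa [this] at h1) (card_sylow_modEq_one 19 _) with h | h | h
    · exact absurd (Subgroup.index_eq_one.mp (hidx.trans h)) hNtop
    · exact Or.inl h
    · exact Or.inr h
  have hquot : Nat.card F.range ∣ 18 := hAut ▸ Subgroup.card_subgroup_dvd_card _
  have hCN : Nat.card ↥(C.subgroupOf N) * Nat.card F.range = Nat.card N := by
    rw [← hker, ← Subgroup.index_ker, Subgroup.card_mul_index]
  have hNcard : Nat.card N * Nat.card (Sylow 19 G) = 459648 := by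
    rw [← hidx, Subgroup.card_mul_index, hn]
  rcases hn19 with h96 | h1008
  · -- `n₁₉ = 96`: an element of order 7 centralizing `P` would act trivially
    have hN : Nat.card N = 4788 := by rw [h96] at hNcard; omega
    have h7 : 7 ∣ Nat.card ↥(C.subgroupOf N) := by
      rw [hN] at hCN
      refine (Nat.Coprime.dvd_mul_right ?_).mp (hCN ▸ (by norm_num : 7 ∣ 4788))
      exact Nat.Coprime.coprime_dvd_right hquot (by norm_num)
    obtain ⟨⟨g, hgN⟩, hg⟩ := exists_prime_orderOf_dvd_card' (G := ↥(C.subgroupOf N)) 7 h7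
    have hgC : (g : G) ∈ C := Subgroup.mem_subgroupOf.mp hgN
    have hg7 : orderOf (g : G) = 7 := by
      rw [Subgroup.orderOf_mk] at hg
      rw [Subgroup.orderOf_coe]; exact hg
    let S : SubMulAction ↥(P : Subgroup G) (Sylow 19 G) :=
      { carrier := {Q | (g : G) • Q = Q}
        smul_mem' := fun u {Q} hQ => by
          change (g : G) • ((u : G) • Q) = (u : G) • Q
          rw [← mul_smul, ← Subgroup.mem_centralizer_iff.mp hgC u u.2, mul_smul]
          rw [show (g : G) • Q = Q from hQ] }
    have hPself : ∀ Q : Sylow 19 G, (∀ u : ↥(P : Subgroup G), u • Q = Q) → Q = P := by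
      intro Q hQ
      have hle : (P : Subgroup G) ≤ (Q : Subgroup G) := by
        intro u hu
        have hu' : u ∈ Subgroup.normalizer ((Q : Subgroup G) : Set G) :=
          Sylow.smul_eq_iff_mem_normalizer.mp (hQ ⟨u, hu⟩)
        by_cases hu1 : u = 1
        · rw [hu1]; exact one_mem _
        have hz : IsPGroup 19 (Subgroup.zpowers u) := P.2.to_le (Subgroup.zpowers_le.mpr hu)
        have := hz.inf_normalizer_sylow Q
        have hm : u ∈ Subgroup.zpowers u ⊓ Subgroup.normalizer ((Q : Subgroup G) : Set G) :=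
          Subgroup.mem_inf.2 ⟨Subgroup.mem_zpowers u, hu'⟩
        exact ((SetLike.ext_iff.mp this u).mp hm |> Subgroup.mem_inf.1).2
      exact Sylow.ext (P.3 Q.2 hle)
    have hgP : P ∈ S.carrier := by
      change (g : G) • P = P
      exact Sylow.smul_eq_iff_mem_normalizer.mpr g.2
    have h1 := P.2.card_modEq_card_fixedPoints ↥S
    have hfix : Nat.card (MulAction.fixedPoints ↥(P : Subgroup G) ↥S) = 1 := by
      rw [Nat.card_eq_one_iff_unique]
      refine ⟨⟨fun a b => ?_⟩, ⟨⟨⟨P, hgP⟩, fun u => Subtype.ext ?_⟩⟩⟩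
      · apply Subtype.ext; apply Subtype.ext
        rw [hPself _ (fun u => congrArg Subtype.val (a.2 u)),
          hPself _ (fun u => congrArg Subtype.val (b.2 u))]
      · exact Sylow.smul_eq_iff_mem_normalizer.mpr (Subgroup.le_normalizer u.2)
    rw [hfix] at h1
    have hz7 : IsPGroup 7 (Subgroup.zpowers (g : G)) :=
      IsPGroup.of_card (n := 1) (by rw [Nat.card_zpowers, hg7, pow_one])
    have h2 := hz7.card_modEq_card_fixedPoints (Sylow 19 G)
    have hset : (MulAction.fixedPoints ↥(Subgroup.zpowers (g : G)) (Sylow 19 G)) = S.carrier := by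
      ext Q
      constructor
      · exact fun h => h ⟨g, Subgroup.mem_zpowers _⟩
      · rintro h ⟨x, hx⟩
        have : Subgroup.zpowers (g : G) ≤ MulAction.stabilizer G Q :=
          Subgroup.zpowers_le.mpr h
        exact this hx
    rw [hset, h96] at h2
    have h2' : 96 ≡ Nat.card ↥S [MOD 7] := h2
    have hle : Nat.card ↥S ≤ 96 := h96 ▸ Finite.card_subtype_le _
    have hall : Nat.card ↥S = 96 := by
      rw [Nat.ModEq] at h1 h2'
      omega
    have huniv : ∀ Q : Sylow 19 G, (g : G) • Q = Q := by
      intro Q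
      by_contra hQ
      have hlt : Nat.card ↥S < Nat.card (Sylow 19 G) :=
        Finite.card_subtype_lt (p := fun Q : Sylow 19 G => Q ∈ S.carrier) (x := Q) hQ
      omega
    have hgm : (g : G) ∈ N.normalCore := by
      intro b
      have := huniv (b⁻¹ • P)
      rw [← mul_smul, ← smul_left_cancel_iff b, ← mul_smul, ← mul_smul] at this
      simp only [mul_inv_cancel, one_smul] at this
      rw [← mul_assoc] at this
      exact Sylow.smul_eq_iff_mem_normalizer.mp this
    rcases (Subgroup.normalCore_normal N).eq_bot_or_eq_top with hb | ht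
    · rw [hb, Subgroup.mem_bot] at hgm; rw [hgm, orderOf_one] at hg7; omega
    · exact hNtop (top_le_iff.mp (ht ▸ Subgroup.normalCore_le N))
  · -- `n₁₉ = 1008`
    have hN : Nat.card N = 456 := by rw [h1008] at hNcard; omega
    let T₀ : Sylow 2 ↥N := default
    set T : Subgroup G := (T₀ : Subgroup ↥N).map N.subtype with hTdef
    have hTN : T ≤ N := Subgroup.map_subtype_le _
    have hT : Nat.card T = 8 := by
      rw [hTdef, Subgroup.card_map_of_injective N.subtype_injective, T₀.card_eq_multiplicity, hN]
      have : (456 : ℕ).factorization 2 = 3 := by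
        rw [show (456 : ℕ) = 2 ^ 3 * 57 by norm_num,
          Nat.factorization_mul (by norm_num) (by norm_num), Finsupp.add_apply,
          Nat.Prime.factorization_pow Nat.prime_two, Finsupp.single_eq_same,
          Nat.factorization_eq_zero_of_not_dvd (by norm_num)]
      rw [this]; norm_num
    have hT2 : IsPGroup 2 T := IsPGroup.of_card (n := 3) (by rw [hT]; norm_num)
    obtain ⟨R, hTR⟩ := hT2.exists_le_sylow
    have hR : Nat.card (R : Subgroup G) = 128 := by
      rw [R.card_eq_multiplicity, hn]
      have : (459648 : ℕ).factorization 2 = 7 := by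
        rw [show (459648 : ℕ) = 2 ^ 7 * 3591 by norm_num,
          Nat.factorization_mul (by norm_num) (by norm_num), Finsupp.add_apply,
          Nat.Prime.factorization_pow Nat.prime_two, Finsupp.single_eq_same,
          Nat.factorization_eq_zero_of_not_dvd (by norm_num)]
      rw [this]; norm_num
    -- an element `g` of `R` normalizing `T` and outside `T`
    haveI : Group.IsNilpotent ↥(R : Subgroup G) := R.2.isNilpotent
    have hlt : T.subgroupOf (R : Subgroup G) < ⊤ := by
      rw [lt_top_iff_ne_top, Ne, Subgroup.subgroupOf_eq_top]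
      intro h
      have := Subgroup.card_le_of_le h
      omega
    obtain ⟨⟨g, hgR⟩, hgn, hgT⟩ :=
      SetLike.exists_of_lt (Group.normalizerCondition_of_isNilpotent _ hlt)
    have hgT : g ∉ T := hgT
    have hconj : ∀ x : G, x ∈ T ↔ g * x * g⁻¹ ∈ T := by
      intro x
      constructor
      · intro hx
        exact (Subgroup.mem_normalizer_iff.mp hgn ⟨x, hTR hx⟩).mp hx
      · intro hx
        have hxR : x ∈ (R : Subgroup G) := by
          have := mul_mem (mul_mem (inv_mem hgR) (hTR hx)) hgR
          simpa [mul_assoc] using this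
        exact (Subgroup.mem_normalizer_iff.mp hgn ⟨x, hxR⟩).mpr hx
    -- `g` is outside `N`
    have hgN : g ∉ N := by
      intro h
      have hU2 : IsPGroup 2 ↥((R : Subgroup G) ⊓ N) := R.2.to_inf_left
      obtain ⟨k, hk⟩ := IsPGroup.iff_card.mp hU2
      have hd : Nat.card ↥((R : Subgroup G) ⊓ N) ∣ 456 := hN ▸ Subgroup.card_dvd_of_le inf_le_right
      have hTU : T ≤ (R : Subgroup G) ⊓ N := le_inf hTR hTN
      have h8 : Nat.card ↥((R : Subgroup G) ⊓ N) ≤ 8 := by
        rw [hk] at hd ⊢
        have h57 : (2 ^ k).Coprime 57 := Nat.Coprime.pow_left _ (by norm_num)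
        exact Nat.le_of_dvd (by norm_num) (h57.dvd_of_dvd_mul_right (show 2 ^ k ∣ 8 * 57 by exact hd))
      have := Subgroup.eq_of_le_of_card_ge hTU (by omega)
      exact hgT (this ▸ Subgroup.mem_inf.2 ⟨hgR, h⟩)
    -- the part of `T` centralizing `P` has index at most 2
    have hC2 : C.relIndex T ≤ 2 := by
      have h1 : (F.comp (Subgroup.inclusion hTN)).ker = C.subgroupOf T := by
        rw [← MonoidHom.comap_ker, hker]
        ext x; rfl
      rw [Subgroup.relIndex, ← h1, Subgroup.index_ker]
      have h8 : Nat.card (F.comp (Subgroup.inclusion hTN)).range ∣ 8 := by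
        rw [← Subgroup.index_ker, ← hT]
        exact Subgroup.index_dvd_card _
      have h18 : Nat.card (F.comp (Subgroup.inclusion hTN)).range ∣ 18 :=
        hAut ▸ Subgroup.card_subgroup_dvd_card _
      exact Nat.le_of_dvd (by norm_num) (Nat.dvd_gcd h8 h18)
    set C' : Subgroup G := C.map (MulAut.conj g).toMonoidHom with hC'
    have hC'2 : C'.relIndex T ≤ 2 := by
      have hTg : T.map (MulAut.conj g).toMonoidHom = T := by
        ext y
        constructor
        · rintro ⟨x, hx, rfl⟩; exact (hconj x).mp hx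
        · intro hy
          refine ⟨g⁻¹ * y * g, (hconj _).mpr (by simpa [mul_assoc] using hy), ?_⟩
          simp [mul_assoc]
      rw [← hTg, hC', Subgroup.relIndex_map_map_of_injective _ _ (MulEquiv.injective _)]
      exact hC2
    set A : Subgroup G := C ⊓ C' with hAdef
    have hA : A.relIndex T ≤ 4 :=
      (Subgroup.relIndex_inf_le (H := C) (K := C') (L := T)).trans
        (Nat.mul_le_mul hC2 hC'2)
    haveI hAn : (A.subgroupOf T).Normal := by
      constructor
      intro x hx y
      rw [Subgroup.mem_subgroupOf] at hx ⊢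
      have hNC : ∀ u ∈ N, ∀ v ∈ C, u * v * u⁻¹ ∈ C := by
        intro u hu v hv
        have : (⟨v, Subgroup.centralizer_le_normalizer _ hv⟩ : ↥N) ∈ C.subgroupOf N := hv
        exact (hker ▸ F.normal_ker).conj_mem _ this ⟨u, hu⟩
      refine Subgroup.mem_inf.2 ⟨hNC _ (hTN y.2) _ (Subgroup.mem_inf.1 hx).1, ?_⟩
      obtain ⟨v, hv, hveq⟩ := (Subgroup.mem_inf.1 hx).2
      refine ⟨(g⁻¹ * (y : G) * g) * v * (g⁻¹ * (y : G) * g)⁻¹, hNC _ (hTN ?_) _ hv, ?_⟩
      · exact (hconj _).mpr (by simpa [mul_assoc] using y.2)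
      · have hveq' : g * v * g⁻¹ = (x : G) := hveq
        change g * ((g⁻¹ * (y : G) * g) * v * (g⁻¹ * (y : G) * g)⁻¹) * g⁻¹
          = ((y * x * y⁻¹ : ↥T) : G)
        push_cast
        rw [← hveq']
        group
    have hAbot : A.subgroupOf T ≠ ⊥ := by
      intro h
      rw [Subgroup.relIndex, h, Subgroup.index_bot, hT] at hA
      omega
    haveI : Group.IsNilpotent ↥T := hT2.isNilpotent
    obtain ⟨z, hz, hz1⟩ := (Subgroup.bot_or_exists_ne_one _).resolve_left
      (CfsgLib.Critical.inf_center_ne_bot (A.subgroupOf T) hAbot)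
    -- the centralizer of `z` has a unique Sylow 19-subgroup
    set H : Subgroup G := Subgroup.centralizer {(z : G)} with hHdef
    have hzC : (z : G) ∈ C := (Subgroup.mem_inf.1 (Subgroup.mem_subgroupOf.mp hz.1)).1
    obtain ⟨v, hv, hveq⟩ := (Subgroup.mem_inf.1 (Subgroup.mem_subgroupOf.mp hz.1)).2
    have hveq' : g * v * g⁻¹ = (z : G) := hveq
    have hTH : T ≤ H := fun x hx => Subgroup.mem_centralizer_singleton_iff.mpr
      (congrArg Subtype.val (Subgroup.mem_center_iff.mp hz.2 ⟨x, hx⟩))
    have hPH : (P : Subgroup G) ≤ H := fun x hx => Subgroup.mem_centralizer_singleton_iff.mpr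
      (Subgroup.mem_centralizer_iff.mp hzC x hx)
    have hQH : ((g • P : Sylow 19 G) : Subgroup G) ≤ H := by
      intro x hx
      rw [Sylow.coe_subgroup_smul, Subgroup.mem_pointwise_smul_iff_inv_smul_mem] at hx
      have hx' : g⁻¹ * x * g ∈ (P : Subgroup G) := by
        simpa [MulAut.smul_def, MulAut.conj_inv_apply] using hx
      have := Subgroup.mem_centralizer_iff.mp hv _ hx'
      refine Subgroup.mem_centralizer_singleton_iff.mpr ?_
      rw [← hveq']
      calc x * (g * v * g⁻¹) = g * ((g⁻¹ * x * g) * v) * g⁻¹ := by group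
        _ = g * (v * (g⁻¹ * x * g)) * g⁻¹ := by rw [this]
        _ = g * v * g⁻¹ * x := by group
    have hHtop : H ≠ ⊤ := by
      intro h
      have hzc : (z : G) ∈ Subgroup.center G := Subgroup.mem_center_iff.mpr fun x =>
        Subgroup.mem_centralizer_singleton_iff.mp (h ▸ Subgroup.mem_top x : x ∈ H)
      rcases (inferInstance : (Subgroup.center G).Normal).eq_bot_or_eq_top with hb | ht
      · rw [hb, Subgroup.mem_bot] at hzc; exact hz1 (Subtype.ext hzc)
      · exact hna ⟨⟨fun a b => (Subgroup.mem_center_iff.mp (ht ▸ Subgroup.mem_top b : b ∈ Subgroup.center G) a)⟩⟩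
    set PH : Sylow 19 ↥H := P.subtype hPH with hPHdef
    have hPHcard : Nat.card (PH : Subgroup ↥H) = 19 := by
      rw [hPHdef, Sylow.coe_subtype, Nat.card_congr (Subgroup.subgroupOfEquivOfLe hPH).toEquiv, hP]
    set NH : Subgroup ↥H := Subgroup.normalizer ((PH : Subgroup ↥H) : Set ↥H) with hNHdef
    have hcardH : Nat.card NH * Nat.card (Sylow 19 ↥H) = Nat.card H := by
      rw [PH.card_eq_index_normalizer]
      exact Subgroup.card_mul_index NH
    have h152 : 152 ∣ Nat.card NH := by
      have h19 : 19 ∣ Nat.card NH := hPHcard ▸ Subgroup.card_dvd_of_le Subgroup.le_normalizer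
      have h8 : 8 ∣ Nat.card NH := by
        rw [← hT, ← Nat.card_congr (Subgroup.subgroupOfEquivOfLe hTH).toEquiv]
        refine Subgroup.card_dvd_of_le fun x hx => ?_
        have hxN : (x : G) ∈ N := hTN hx
        rw [hNHdef, hPHdef, Sylow.coe_subtype, Subgroup.mem_normalizer_iff]
        intro y
        simp only [Subgroup.mem_subgroupOf]
        exact Subgroup.mem_normalizer_iff.mp hxN (y : G)
      exact Nat.Coprime.mul_dvd_of_dvd_of_dvd (by norm_num : Nat.Coprime 8 19) h8 h19
    have hHd : Nat.card H ∣ 459648 := hn ▸ Subgroup.card_subgroup_dvd_card H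
    have hone : Nat.card (Sylow 19 ↥H) = 1 := by
      rcases card_sylow_cases hn PH hPHcard with h | h | h
      · exact h
      · exfalso
        rw [← hcardH, h] at hHd
        exact absurd ((Nat.mul_dvd_mul h152 dvd_rfl).trans hHd) (by norm_num)
      · exfalso
        have hd : 152 * 1008 ∣ Nat.card H := by
          rw [← hcardH, h]; exact Nat.mul_dvd_mul h152 dvd_rfl
        have hi : H.index ∣ 3 := by
          have h' := H.card_mul_index
          rw [hn] at h'
          obtain ⟨c, hc⟩ := hd
          rw [hc] at h'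
          exact ⟨c, by nlinarith [h']⟩
        have hf := CfsgLib.SmallOrder.two_mul_card_dvd_factorial hna hHtop
        have : H.index.factorial ∣ Nat.factorial 3 :=
          Nat.factorial_dvd_factorial (Nat.le_of_dvd (by norm_num) hi)
        have h6 := Nat.le_of_dvd (Nat.factorial_pos 3) (hf.trans this)
        rw [hn] at h6; norm_num [Nat.factorial] at h6
    haveI : Subsingleton (Sylow 19 ↥H) := (Nat.card_eq_one_iff_unique.mp hone).1
    have heq : (g • P : Sylow 19 G) = P := by
      have := Subsingleton.elim ((g • P : Sylow 19 G).subtype hQH) PH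
      exact Sylow.subtype_injective this
    exact hgN (Sylow.smul_eq_iff_mem_normalizer.mp heq)

/-- No finite simple group has order 459648 = 2^7 * 3^3 * 7 * 19. -/
theorem result {G : Type*} [Group G] [Finite G] [IsSimpleGroup G] : Nat.card G ≠ 459648 := by
  intro hn
  have hna : ¬ IsMulCommutative G := by
    intro h
    have hp : (Nat.card G).Prime := by
      letI : CommGroup G := { (inferInstance : Group G) with mul_comm := fun a b => h.is_comm.comm a b }
      exact IsSimpleGroup.prime_card
    rw [hn] at hp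
    norm_num at hp
  exact false_of_card hna hn
end Cfsg.Agent.S1022
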