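import Cfsg.Statements.S1026
import Cfsg.Agent.Lib.Chev.All
import Cfsg.Agent.Lib.Chev.Unipotent
-- import your own Cfsg.Agent.* helpers here

set_option autoImplicit false
open Cfsg

namespace Cfsg.Agent.S1026

/-- Every element of `U` has a unique expression `∏_{r ∈ Φ⁺} x_r(t_r)`, the product over the positive roots in increasing index order (the coefficient family `t`, supported on the positive roots, exists and is unique); and conversely every such ordered product is the matrix of an element of `U`. -/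
theorem result {F : Type*} [Field F] (D : Cfsg.Lie.ChevalleyDatum) (hD : D ∈ [Cfsg.Lie.chevG2, Cfsg.Lie.chevB2, Cfsg.Lie.chevD4, Cfsg.Lie.chevF4, Cfsg.Lie.chevE6, Cfsg.Lie.chevE7, Cfsg.Lie.chevE8]) :
    (∀ g : GL D.Idx F, g ∈ D.posUnipotent F →
      ∃! t : ℕ → F, (∀ r, ¬ D.IsPosRoot r → t r = 0) ∧
        (g : Matrix D.Idx D.Idx F) = D.wordMat F (D.posRoots.map fun r => (r, t r))) ∧
    (∀ t : ℕ → F, ∃ g : GL D.Idx F, g ∈ D.posUnipotent F ∧
      (g : Matrix D.Idx D.Idx F) = D.wordMat F (D.posRoots.map fun r => (r, t r))) := by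
  obtain ⟨T, C, h⟩ := CfsgLib.Chev.exists_cert hD
  rw [h.posList_eq]
  constructor
  · intro g hg
    obtain ⟨t, rfl⟩ := h.mem_posUnipotent_iff.1 hg
    refine ⟨fun r => if r ∈ CfsgLib.Chev.posList T then t r else 0, ⟨fun r hr => if_neg ?_, ?_⟩, ?_⟩
    · exact fun hm => hr (h.isPosRoot_iff.2 (CfsgLib.Chev.Cert.mem_posList.1 hm))
    · rw [h.coe_prodX]
      congr 1
      exact List.map_congr_left fun r hr => by simp only [if_pos hr]
    · rintro t' ⟨hz, ht'⟩
      rw [← h.coe_prodX, Units.val_inj] at ht'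
      funext r
      split_ifs with hr
      · exact (h.prodX_inj _ CfsgLib.Chev.Cert.sortedLT_posList
          (fun s hs => CfsgLib.Chev.Cert.mem_posList.1 hs) _ _ ht' r hr).symm
      · exact hz r fun hp => hr (CfsgLib.Chev.Cert.mem_posList.2 (h.isPosRoot_iff.1 hp))
  · intro t
    exact ⟨_, h.mem_posUnipotent_iff.2 ⟨t, rfl⟩, h.coe_prodX _ _⟩

end Cfsg.Agent.S1026
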