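import Cfsg.Statements.S1027
import Cfsg.Agent.Lib.Chev.All
import Cfsg.Agent.Lib.Chev.Unipotent
-- import your own Cfsg.Agent.* helpers here

set_option autoImplicit false
open Cfsg

namespace Cfsg.Agent.S1027

/-- For the subgroup `U` generated by the root elements `x_r(t)` of the positive roots `r`: `|U| = q^N` over a field with `q` elements, where `N` is the number of positive roots (half the number of roots). -/
theorem result {F : Type*} [Field F] [Fintype F] (D : Cfsg.Lie.ChevalleyDatum) (hD : D ∈ [Cfsg.Lie.chevG2, Cfsg.Lie.chevB2, Cfsg.Lie.chevD4, Cfsg.Lie.chevF4, Cfsg.Lie.chevE6, Cfsg.Lie.chevE7, Cfsg.Lie.chevE8]) :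
    Nat.card (D.posUnipotent F) = Fintype.card F ^ (D.nroots / 2) := by
  obtain ⟨T, C, h⟩ := CfsgLib.Chev.exists_cert hD
  classical
  have hlen : (CfsgLib.Chev.posList T).length = D.nroots / 2 := by
    have h2 := h.two_mul_half
    rw [h.nroots_eq, ← List.toFinset_card_of_nodup CfsgLib.Chev.Cert.sortedLT_posList.pairwise.nodup]
    rw [show (CfsgLib.Chev.posList T).toFinset = Finset.Ico T.half T.n from Finset.ext fun r => by
      rw [List.mem_toFinset, CfsgLib.Chev.Cert.mem_posList, Finset.mem_Ico]; rfl, Nat.card_Ico]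
    omega
  have hnd := CfsgLib.Chev.Cert.sortedLT_posList (T := T) |>.pairwise.nodup
  let val : ({r // r ∈ CfsgLib.Chev.posList T} → F) → ↥(D.posUnipotent F) := fun t =>
    ⟨CfsgLib.Chev.prodX D (CfsgLib.Chev.posList T)
      (fun r => if hr : r ∈ CfsgLib.Chev.posList T then t ⟨r, hr⟩ else 0),
      h.mem_posUnipotent_iff.2 ⟨_, rfl⟩⟩
  have hbij : Function.Bijective val := by
    constructor
    · intro a b e
      funext ⟨r, hr⟩
      have := h.prodX_inj _ CfsgLib.Chev.Cert.sortedLT_posList
        (fun s hs => CfsgLib.Chev.Cert.mem_posList.1 hs) _ _ (congrArg Subtype.val e) r hr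
      simpa only [dif_pos hr] using this
    · rintro ⟨g, hg⟩
      obtain ⟨t, rfl⟩ := h.mem_posUnipotent_iff.1 hg
      refine ⟨fun r => t r.1, Subtype.ext ?_⟩
      exact congrArg List.prod (List.map_congr_left fun r hr => by simp only [dif_pos hr])
  rw [← Nat.card_eq_of_bijective val hbij, Nat.card_fun, Nat.card_eq_fintype_card (α := F)]
  congr 1
  rw [Nat.card_eq_fintype_card, Fintype.card_of_subtype (CfsgLib.Chev.posList T).toFinset
    (fun r => List.mem_toFinset), List.toFinset_card_of_nodup hnd, hlen]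

end Cfsg.Agent.S1027
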