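import Cfsg.Statements.S1044
import Cfsg.Agent.Lib.Chev.All
import Cfsg.Agent.Lib.Chev.BN
-- import your own Cfsg.Agent.* helpers here

set_option autoImplicit false
open Cfsg

namespace Cfsg.Agent.S1044

/-- For a fundamental root `p` the set `B ∪ B n_p B` is (the carrier of) a subgroup of the general linear group. -/
theorem result {F : Type*} [Field F] (D : Cfsg.Lie.ChevalleyDatum) (hD : D ∈ [Cfsg.Lie.chevG2, Cfsg.Lie.chevB2, Cfsg.Lie.chevD4, Cfsg.Lie.chevF4, Cfsg.Lie.chevE6, Cfsg.Lie.chevE7, Cfsg.Lie.chevE8]) (i : ℕ) (hi : i < D.rank) (n : GL D.Idx F)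
    (hn : (n : Matrix D.Idx D.Idx F) = D.nMat F (D.simple i) 1) :
    ∃ P : Subgroup (GL D.Idx F), (P : Set (GL D.Idx F)) =
      (D.borelSubgroup F : Set (GL D.Idx F)) ∪ DoubleCoset.doubleCoset n (D.borelSubgroup F : Set (GL D.Idx F)) (D.borelSubgroup F) := by
  obtain ⟨T, C, h⟩ := CfsgLib.Chev.exists_cert hD
  have hi' : i < T.l := lt_of_lt_of_eq hi h.rank_eq
  obtain rfl : n = CfsgLib.Chev.nS D F i := Units.ext (hn.trans (h.coe_nS i).symm)
  obtain ⟨P, hB, hN, hS⟩ := h.exists_bnPair (F := F)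
  have hmemG : CfsgLib.Chev.nS D F i ∈ D.group F := h.monomial_le_group (h.nS_mem_monomial hi')
  have hs : (⟨_, hmemG⟩ : ↥(D.group F)) ∈ P.S := by rw [hS]; exact ⟨i, hi', rfl⟩
  refine ⟨(P.parabolic {⟨_, hmemG⟩}).map (D.group F).subtype, ?_⟩
  ext g
  simp only [Subgroup.coe_map, Set.mem_image, SetLike.mem_coe, Set.mem_union,
    Subgroup.coe_subtype, DoubleCoset.mem_doubleCoset]
  constructor
  · rintro ⟨x, hx, rfl⟩
    rcases (CfsgLib.BN.mem_parabolic_singleton (s := ⟨_, hs⟩)).1 hx with hx | hx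
    · left; rw [hB] at hx; exact hx
    · right
      obtain ⟨b, hb, b', hb', e⟩ := CfsgLib.BN.mem_gen_cell hx
      rw [hB] at hb hb'
      exact ⟨b, hb, b', hb', congrArg Subtype.val e⟩
  · rintro (hg | ⟨b, hb, b', hb', rfl⟩)
    · exact ⟨⟨g, h.borel_le_group hg⟩, CfsgLib.BN.B_le_parabolic _ (by rw [hB]; exact hg), rfl⟩
    · refine ⟨⟨b, h.borel_le_group hb⟩ * ⟨_, hmemG⟩ * ⟨b', h.borel_le_group hb'⟩, ?_, rfl⟩
      exact mul_mem (mul_mem (CfsgLib.BN.B_le_parabolic _ (by rw [hB]; exact hb))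
        (Subgroup.mem_sup_right (Subgroup.subset_closure rfl)))
        (CfsgLib.BN.B_le_parabolic _ (by rw [hB]; exact hb'))

end Cfsg.Agent.S1044
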