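import Cfsg.Statements.S1045
import Cfsg.Agent.Lib.Chev.All
import Cfsg.Agent.Lib.Chev.Unipotent
import Cfsg.Agent.Lib.Chev.Weight
-- import your own Cfsg.Agent.* helpers here

set_option autoImplicit false
open Cfsg

namespace Cfsg.Agent.S1045

/-- For a fundamental root `p`, the subgroup `U_p` generated by the `X_s`, `s` positive and `s ≠ p`, is normalised by `X_p` and `X_{-p}`, and `U = U_p ⊔ X_p`. -/
theorem result {F : Type*} [Field F] (D : Cfsg.Lie.ChevalleyDatum) (hD : D ∈ [Cfsg.Lie.chevG2, Cfsg.Lie.chevB2, Cfsg.Lie.chevD4, Cfsg.Lie.chevF4, Cfsg.Lie.chevE6, Cfsg.Lie.chevE7, Cfsg.Lie.chevE8]) (i : ℕ) (hi : i < D.rank) :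
    D.rootSubgroup F (D.simple i) ⊔ D.rootSubgroup F (D.neg (D.simple i)) ≤
        Subgroup.normalizer (Subgroup.closure {g : GL D.Idx F | ∃ (s : ℕ) (t : F), D.IsPosRoot s ∧ s ≠ D.simple i ∧
          (g : Matrix D.Idx D.Idx F) = D.x F s t} : Set (GL D.Idx F)) ∧
      Subgroup.closure {g : GL D.Idx F | ∃ (s : ℕ) (t : F), D.IsPosRoot s ∧ s ≠ D.simple i ∧
          (g : Matrix D.Idx D.Idx F) = D.x F s t} ⊔ D.rootSubgroup F (D.simple i) = D.posUnipotent F := by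
  obtain ⟨T, C, h⟩ := CfsgLib.Chev.exists_cert hD
  have hi' : i < T.l := lt_of_lt_of_eq hi h.rank_eq
  have hp := h.simple_lt hi'
  have hph := (h.simple_spec hi').1
  have hset : Subgroup.closure {g : GL D.Idx F | ∃ (s : ℕ) (t : F), D.IsPosRoot s ∧ s ≠ D.simple i ∧
      (g : Matrix D.Idx D.Idx F) = D.x F s t} =
      CfsgLib.Chev.gen D F {s | s ∈ CfsgLib.Chev.posSet T ∧ s ≠ T.simple i} := by
    unfold CfsgLib.Chev.gen
    congr 1
    ext g
    simp only [Set.mem_ofPred_eq, h.isPosRoot_iff, h.coe_eq_iff, h.simple_eq hi',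
      CfsgLib.Chev.posSet]
    constructor
    · rintro ⟨s, t, a, b, c⟩; exact ⟨s, ⟨a, b⟩, t, c⟩
    · rintro ⟨s, ⟨a, b⟩, t, c⟩; exact ⟨s, t, a, b, c⟩
  rw [hset, h.simple_eq hi', h.neg_eq hp, h.rootSubgroup_eq, h.rootSubgroup_eq, h.posUnipotent_eq]
  refine ⟨?_, le_antisymm ?_ ?_⟩
  · have key : ∀ r, r < T.n → (∀ k < T.l, k ≠ i → h.wt k r = 0) →
        CfsgLib.Chev.gen D F {r} ≤ Subgroup.normalizer (CfsgLib.Chev.gen D F
          {s | s ∈ CfsgLib.Chev.posSet T ∧ s ≠ T.simple i} : Set (GL D.Idx F)) := by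
      intro r hr hw
      refine CfsgLib.Chev.le_normalizer_closure fun g hg a ha => ?_
      obtain ⟨b, rfl⟩ := (h.gen_singleton hr).1 hg
      obtain ⟨s, ⟨⟨hh, hs⟩, hne⟩, u, rfl⟩ := ha
      obtain ⟨k, hk, hki, hpos⟩ := h.exists_wt_pos_of_ne_simple hh hs hi' hne
      have h0 := hw k hk hki
      refine h.X_conj_mem (S := {s | s ∈ CfsgLib.Chev.posSet T ∧ s ≠ T.simple i}) hr hs ?_ ?_
        ⟨⟨hh, hs⟩, hne⟩ (fun q hq => ?_) b u
      · intro e; rw [e, h0] at hpos; exact lt_irrefl 0 hpos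
      · intro e; rw [e, h.wt_neg hr, h0] at hpos; omega
      · obtain ⟨a1, a2, a3⟩ := h.commTerms_simple hi' hr hw hh hs hne hq
        exact ⟨⟨a1, a2⟩, a3⟩
    exact sup_le (key _ hp (h.wt_simple_zero hi').1)
      (key _ (CfsgLib.Chev.Cert.neg_lt hp) (h.wt_simple_zero hi').2)
  · refine sup_le (CfsgLib.Chev.gen_mono D fun s hs => hs.1)
      (CfsgLib.Chev.gen_mono D fun s hs => ?_)
    obtain rfl : s = T.simple i := hs
    exact ⟨hph, hp⟩
  · refine (Subgroup.closure_le _).2 ?_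
    rintro _ ⟨s, hs, u, rfl⟩
    by_cases e : s = T.simple i
    · exact Subgroup.mem_sup_right (CfsgLib.Chev.X_mem_gen D
        (show s ∈ ({T.simple i} : Set ℕ) from e) u)
    · exact Subgroup.mem_sup_left (CfsgLib.Chev.X_mem_gen D
        (S := {s | s ∈ CfsgLib.Chev.posSet T ∧ s ≠ T.simple i}) ⟨hs, e⟩ u)

end Cfsg.Agent.S1045
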