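import Cfsg.Statements.S1054
import Cfsg.Agent.Lib.Chev.All
import Cfsg.Agent.Lib.Chev.SimpleData
import Cfsg.Agent.S1050
-- import your own Cfsg.Agent.* helpers here

set_option autoImplicit false
open Cfsg

namespace Cfsg.Agent.S1054

/-- The Chevalley groups of types D₄, F₄, E₆, E₇, E₈ are simple over every field. -/
theorem result {F : Type*} [Field F] (D : Cfsg.Lie.ChevalleyDatum)
    (hD : D ∈ [Cfsg.Lie.chevD4, Cfsg.Lie.chevF4, Cfsg.Lie.chevE6, Cfsg.Lie.chevE7, Cfsg.Lie.chevE8]) :
    IsSimpleGroup ↥(D.group F) ∧ ¬ IsMulCommutative ↥(D.group F) := by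
  simp only [List.mem_cons, List.not_mem_nil, or_false] at hD
  rcases hD with rfl | rfl | rfl | rfl | rfl
  · exact CfsgLib.Chev.certD4.simple_group CfsgLib.Chev.connectedD4 CfsgLib.Chev.perfectD4
      (Cfsg.Agent.S1050.result _ (by simp))
  · exact CfsgLib.Chev.certF4.simple_group CfsgLib.Chev.connectedF4 CfsgLib.Chev.perfectF4
      (Cfsg.Agent.S1050.result _ (by simp))
  · exact CfsgLib.Chev.certE6.simple_group CfsgLib.Chev.connectedE6 CfsgLib.Chev.perfectE6
      (Cfsg.Agent.S1050.result _ (by simp))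
  · exact CfsgLib.Chev.certE7.simple_group CfsgLib.Chev.connectedE7 CfsgLib.Chev.perfectE7
      (Cfsg.Agent.S1050.result _ (by simp))
  · exact CfsgLib.Chev.certE8.simple_group CfsgLib.Chev.connectedE8 CfsgLib.Chev.perfectE8
      (Cfsg.Agent.S1050.result _ (by simp))

end Cfsg.Agent.S1054
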