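import Cfsg.Statements.S1058
import Cfsg.Agent.Lib.Chev.All
import Cfsg.Agent.Lib.Chev.OrderData

set_option autoImplicit false
open Cfsg

namespace Cfsg.Agent.S1058

open Cfsg.Lie

/-- Six covectors permuted by the root elements over the field with two elements. -/
def suppO : Fin 6 → List ℕ := ![[1, 5, 6], [1, 2, 5, 6], [1, 2, 9], [1, 2, 5, 9], [1, 2, 6, 9], [1, 5, 6, 9]]

/-- The coordinate number. -/
def pos : chevB2.Idx → ℕ
  | Sum.inl i => i.val
  | Sum.inr u => 2 + u.val

/-- The covectors. -/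
def vecO (i : Fin 6) (j : chevB2.Idx) : ZMod 2 := if pos j ∈ suppO i then 1 else 0

/-- The permutation of the covectors by a root element. -/
def permO : Fin 8 → Fin 6 → Fin 6 := ![![5, 1, 2, 3, 4, 0], ![5, 3, 4, 1, 2, 0], ![5, 4, 3, 2, 1, 0], ![0, 1, 4, 3, 2, 5], ![0, 1, 3, 2, 4, 5], ![1, 0, 4, 5, 2, 3], ![1, 0, 3, 2, 5, 4], ![1, 0, 2, 3, 4, 5]]

theorem vecO_mul : ∀ (r : Fin chevB2.nroots) (i : Fin 6) (j : chevB2.Idx),
    Matrix.vecMul (vecO i) (chevB2.xMat (ZMod 2) r 1) j = vecO (permO r i) j := by decide +kernel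

theorem vecO_zero : ∀ (r : Fin chevB2.nroots) (i : Fin 6) (j : chevB2.Idx),
    Matrix.vecMul (vecO i) (chevB2.xMat (ZMod 2) r 0) j = vecO i j := by decide +kernel

theorem vecO_injective : Function.Injective vecO := by
  intro a b h
  revert a b
  decide +kernel

theorem xMat_sq : ∀ (r : Fin chevB2.nroots) (a b : chevB2.Idx),
    (chevB2.xMat (ZMod 2) r 1 * chevB2.xMat (ZMod 2) r 1) a b = if a = b then 1 else 0 := by
  decide +kernel

theorem zmod2_cases : ∀ t : ZMod 2, t = 0 ∨ t = 1 := by decide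

theorem permO_invol : ∀ r i, permO r (permO r i) = i := by decide +kernel

theorem swaps : ∀ (i : Fin 5) (j : Fin 6), Equiv.swap i.castSucc i.succ j =
    ((![[7], [0, 3, 2, 4, 3], [4], [3, 4, 3], [2, 7, 2]] : Fin 5 → List (Fin 8)) i).foldl (fun x r => permO r x) j := by decide +kernel

theorem xMat_map {K F : Type*} [Field K] [Field F] (e : K →+* F) (r : Fin chevB2.nroots) (t : K) :
    chevB2.xMat F r (e t) = (chevB2.xMat K r t).map e := by
  ext row col
  simp only [ChevalleyDatum.xMat, Matrix.of_apply, Matrix.map_apply]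
  rcases col with i | s <;> rcases row with i' | u <;> simp only <;>
    split_ifs <;> simp [map_list_sum, List.map_map, Function.comp_def]

/-- B₂(2) ≅ S₆. -/
theorem result {F : Type*} [Field F] [Fintype F] (hF : Fintype.card F = 2) :
    Nonempty (↥(Cfsg.Lie.chevB2.group F) ≃* Equiv.Perm (Fin 6)) := by
  classical
  haveI : Fact (Nat.Prime 2) := ⟨Nat.prime_two⟩
  haveI : CharP F 2 := by
    obtain ⟨q, hq⟩ := CharP.exists F
    haveI := hq
    haveI : Fact q.Prime := ⟨CharP.char_is_prime F q⟩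
    obtain ⟨n, hq', hn⟩ := FiniteField.card F q
    rw [hF] at hn
    have : q ∣ 2 := hn ▸ dvd_pow_self q n.ne_zero
    rwa [(Nat.prime_dvd_prime_iff_eq hq' Nat.prime_two).mp this] at hq
  let e : ZMod 2 →+* F := ZMod.castHom dvd_rfl F
  have he : Function.Bijective e :=
    (Fintype.bijective_iff_injective_and_card _).mpr ⟨e.injective, by rw [ZMod.card, hF]⟩
  let v : Fin 6 → chevB2.Idx → F := fun i j => e (vecO i j)
  have hv : Function.Injective v := fun a b h =>
    vecO_injective (funext fun j => e.injective (congrFun h j))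
  let S : Subgroup (GL chevB2.Idx F) :=
    { carrier := {g | ∃ σ : Equiv.Perm (Fin 6), ∀ i, Matrix.vecMul (v i) (g : Matrix chevB2.Idx chevB2.Idx F) = v (σ i)}
      one_mem' := ⟨1, fun i => by simp⟩
      mul_mem' := fun {g h} ⟨σ, hσ⟩ ⟨τ, hτ⟩ => ⟨τ * σ, fun i => by
        rw [Units.val_mul, ← Matrix.vecMul_vecMul, hσ, hτ]; rfl⟩
      inv_mem' := fun {g} ⟨σ, hσ⟩ => ⟨σ⁻¹, fun i => by
        have h := hσ (σ⁻¹ i)
        rw [show σ (σ⁻¹ i) = i from σ.apply_symm_apply i] at h
        rw [← h, Matrix.vecMul_vecMul, ← Units.val_mul, mul_inv_cancel, Units.val_one,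
          Matrix.vecMul_one]⟩ }
  have hgen : ∀ (g : GL chevB2.Idx F) (r : Fin chevB2.nroots),
      (g : Matrix chevB2.Idx chevB2.Idx F) = chevB2.xMat F r 1 →
      ∀ i, Matrix.vecMul (v i) (g : Matrix chevB2.Idx chevB2.Idx F) = v (permO r i) := by
    intro g r hg i
    funext j
    rw [hg, show chevB2.xMat F r 1 = (chevB2.xMat (ZMod 2) r 1).map e by rw [← xMat_map e r 1, map_one]]
    show Matrix.vecMul (fun j => e (vecO i j)) _ j = e (vecO (permO r i) j)
    rw [← vecO_mul r i j, RingHom.map_vecMul]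
    rfl
  have hle : chevB2.group F ≤ S := by
    refine (Subgroup.closure_le _).mpr ?_
    rintro g ⟨r, t, hg⟩
    obtain ⟨t, rfl⟩ := he.2 t
    rcases zmod2_cases t with rfl | rfl
    · refine ⟨1, fun i => funext fun j => ?_⟩
      rw [hg, xMat_map e r 0]
      show Matrix.vecMul (fun j => e (vecO i j)) _ j = e (vecO i j)
      rw [← vecO_zero r i j, RingHom.map_vecMul]
      rfl
    · exact ⟨Function.Involutive.toPerm (permO r) (permO_invol r), hgen g r (by rw [hg, map_one])⟩
  choose σ hσ using fun g : chevB2.group F => hle g.2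
  have huniq : ∀ (g : chevB2.group F) (τ : Equiv.Perm (Fin 6)),
      (∀ i, Matrix.vecMul (v i) ((g : GL chevB2.Idx F) : Matrix chevB2.Idx chevB2.Idx F) = v (τ i)) → σ g = τ :=
    fun g τ h => Equiv.ext fun i => hv ((hσ g i).symm.trans (h i))
  let φ : ↥(chevB2.group F) →* Equiv.Perm (Fin 6) := MonoidHom.mk' (fun g => (σ g)⁻¹) fun g h => by
    rw [← mul_inv_rev, inv_inj]
    refine huniq _ _ fun i => ?_
    rw [Subgroup.coe_mul, Units.val_mul, ← Matrix.vecMul_vecMul, hσ, hσ]
    rfl
  have hroot : ∀ r : Fin chevB2.nroots, Function.Involutive.toPerm (permO r) (permO_invol r) ∈ φ.range := by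
    intro r
    have hsq : chevB2.xMat F r 1 * chevB2.xMat F r 1 = 1 := by
      rw [show chevB2.xMat F r 1 = (chevB2.xMat (ZMod 2) r 1).map e by rw [← xMat_map e r 1, map_one],
        ← RingHom.mapMatrix_apply, ← map_mul,
        show chevB2.xMat (ZMod 2) r 1 * chevB2.xMat (ZMod 2) r 1 = 1 from Matrix.ext fun a b => (xMat_sq r a b).trans Matrix.one_apply.symm, map_one]
    let g : GL chevB2.Idx F := ⟨chevB2.xMat F r 1, chevB2.xMat F r 1, hsq, hsq⟩
    have hg : (g : Matrix chevB2.Idx chevB2.Idx F) = chevB2.xMat F r 1 := rfl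
    refine ⟨⟨g, Subgroup.subset_closure ⟨r, 1, hg⟩⟩, ?_⟩
    show (σ _)⁻¹ = _
    rw [huniq _ (Function.Involutive.toPerm (permO r) (permO_invol r)) (hgen g r hg)]
    refine inv_eq_of_mul_eq_one_right (Equiv.ext fun i => ?_)
    exact permO_invol r i
  have hsurj : Function.Surjective φ := by
    rw [← MonoidHom.range_eq_top]
    refine eq_top_iff.mpr ?_
    rw [← Subgroup.closure_eq_top_of_mclosure_eq_top (Equiv.Perm.mclosure_swap_castSucc_succ 5),
      Subgroup.closure_le]
    rintro _ ⟨i, rfl⟩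
    have key : ∀ (L : List (Fin 8)), ∃ τ ∈ φ.range, ∀ j, τ j =
        L.foldl (fun x r => permO r x) j := by
      intro L
      induction L with
      | nil => exact ⟨1, one_mem _, fun j => rfl⟩
      | cons r L ih =>
        obtain ⟨τ, hτ, hτe⟩ := ih
        exact ⟨τ * Function.Involutive.toPerm (permO r) (permO_invol r), mul_mem hτ (hroot r),
          fun j => hτe (permO r j)⟩
    obtain ⟨τ, hτ, hτe⟩ := key ((![[7], [0, 3, 2, 4, 3], [4], [3, 4, 3], [2, 7, 2]] : Fin 5 → List (Fin 8)) i)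
    show Equiv.swap i.castSucc i.succ ∈ φ.range
    rwa [show Equiv.swap i.castSucc i.succ = τ from Equiv.ext fun j => (swaps i j).trans (hτe j).symm]
  have hcard : Nat.card ↥(chevB2.group F) = 720 := by
    have h := CfsgLib.Chev.card_groupB2 (F := F)
    rw [hF] at h
    norm_num at h
    first | exact h | (rw [Nat.card_eq_fintype_card]; exact h)
  haveI : Finite ↥(chevB2.group F) := Nat.finite_of_card_ne_zero (by rw [hcard]; norm_num)
  refine ⟨MulEquiv.ofBijective φ ((Nat.bijective_iff_surjective_and_card φ).mpr ⟨hsurj, ?_⟩)⟩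
  rw [hcard, Nat.card_perm, Nat.card_fin]
  rfl

end Cfsg.Agent.S1058
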