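import Cfsg.Statements.S1080
import Cfsg.Agent.Lib.Chev.All
import Cfsg.Agent.Lib.Chev.Group
-- import your own Cfsg.Agent.* helpers here

set_option autoImplicit false
open Cfsg

namespace Cfsg.Agent.S1080

/-- Field automorphisms: for every field automorphism `f` there is a group automorphism sending each `x_r(t)` to `x_r(f t)`. -/
theorem result {F : Type*} [Field F] (D : Cfsg.Lie.ChevalleyDatum) (hD : D ∈ [Cfsg.Lie.chevG2, Cfsg.Lie.chevB2, Cfsg.Lie.chevD4, Cfsg.Lie.chevF4, Cfsg.Lie.chevE6, Cfsg.Lie.chevE7, Cfsg.Lie.chevE8]) (f : F ≃+* F) :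
    ∃ α : ↥(D.group F) ≃* ↥(D.group F), ∀ (g : ↥(D.group F)) (r : ℕ) (t : F), r < D.nroots →
      ((g : GL D.Idx F) : Matrix D.Idx D.Idx F) = D.x F r t → ((α g : GL D.Idx F) : Matrix D.Idx D.Idx F) = D.x F r (f t) := by
  obtain ⟨T, C, h⟩ := CfsgLib.Chev.exists_cert hD
  let e : GL D.Idx F ≃* GL D.Idx F := Units.mapEquiv f.mapMatrix.toMulEquiv
  have he : ∀ (r : ℕ), r < T.n → ∀ t : F, e (CfsgLib.Chev.X D r t) = CfsgLib.Chev.X D r (f t) := by
    intro r hr t
    refine Units.ext ?_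
    show ((CfsgLib.Chev.X D r t : GL D.Idx F) : Matrix D.Idx D.Idx F).map f = _
    rw [h.coe_X, h.coe_X]
    exact h.x_map f.toRingHom hr t
  have hmap : (D.group F).map e.toMonoidHom = D.group F := by
    rw [h.group_eq, CfsgLib.Chev.gen, MonoidHom.map_closure]
    congr 1
    ext g
    constructor
    · rintro ⟨_, ⟨r, hr, t, rfl⟩, rfl⟩
      exact ⟨r, hr, f t, he r hr t⟩
    · rintro ⟨r, hr, t, rfl⟩
      exact ⟨_, ⟨r, hr, f.symm t, rfl⟩, (he r hr _).trans (by rw [f.apply_symm_apply])⟩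
  refine ⟨(e.subgroupMap (D.group F)).trans (MulEquiv.subgroupCongr hmap), fun g r t hr hg => ?_⟩
  have hr' : r < T.n := lt_of_lt_of_eq hr h.nroots_eq
  show ((e (g : GL D.Idx F) : GL D.Idx F) : Matrix D.Idx D.Idx F) = _
  rw [h.coe_eq_iff.1 hg, he r hr', h.coe_X]

end Cfsg.Agent.S1080
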