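import Cfsg.Statements.S1081
import Cfsg.Agent.Lib.Chev.All
import Cfsg.Agent.Lib.Chev.TwistData
-- import your own Cfsg.Agent.* helpers here

set_option autoImplicit false
open Cfsg

namespace Cfsg.Agent.S1081

/-- Graph automorphisms: for E₆ with ρ = (p₁ p₆)(p₃ p₅) and for D₄ with ρ the 3-cycle on the outer nodes there is a group automorphism sending `x_p(t) ↦ x_{ρ(p)}(t)` and `x_{-p}(t) ↦ x_{-ρ(p)}(t)` for every fundamental root `p`. -/
theorem result {F : Type*} [Field F] (p : Cfsg.Lie.ChevalleyDatum × List ℕ)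
    (hp : p ∈ [(Cfsg.Lie.chevE6, [5, 1, 4, 3, 2, 0]), (Cfsg.Lie.chevD4, [2, 1, 3, 0]), (Cfsg.Lie.chevD4, [3, 1, 0, 2])]) :
    ∃ α : ↥(p.1.group F) ≃* ↥(p.1.group F), ∀ (g : ↥(p.1.group F)) (i : ℕ) (t : F), i < p.1.rank →
      (((g : GL p.1.Idx F) : Matrix p.1.Idx p.1.Idx F) = p.1.x F (p.1.simple i) t →
        ((α g : GL p.1.Idx F) : Matrix p.1.Idx p.1.Idx F) = p.1.x F (p.1.simple (p.2.getD i 0)) t) ∧
      (((g : GL p.1.Idx F) : Matrix p.1.Idx p.1.Idx F) = p.1.x F (p.1.neg (p.1.simple i)) t →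
        ((α g : GL p.1.Idx F) : Matrix p.1.Idx p.1.Idx F) = p.1.x F (p.1.neg (p.1.simple (p.2.getD i 0))) t) := by
  classical
  have key : ∀ (D : Cfsg.Lie.ChevalleyDatum) (T : CfsgLib.Chev.Tab) (C : CfsgLib.Chev.Tab.Cover)
      (_ : CfsgLib.Chev.Cert D T C) (W : CfsgLib.Chev.Twist) (π : List ℕ),
      W.chk T 0 = true → CfsgLib.Chev.Twist.chkFaith T W.img = true →
      CfsgLib.Chev.Twist.chkFaith T W.src = true →
      ((List.range T.n).all fun s => (List.range T.n).any fun r => decide (W.rt r = s)) = true →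
      ((List.range T.n).all fun r => decide (W.dg r = 1)) = true →
      ((List.range T.l).all fun i =>
        decide (W.rt (T.simple i) = T.simple (π.getD i 0) ∧
          W.rt (T.neg (T.simple i)) = T.neg (T.simple (π.getD i 0)) ∧
          W.ep (T.simple i) = 1 ∧ W.ep (T.neg (T.simple i)) = 1 ∧ π.getD i 0 < T.l)) = true →
      ∃ α : ↥(D.group F) ≃* ↥(D.group F), ∀ (g : ↥(D.group F)) (i : ℕ) (t : F), i < D.rank →
      (((g : GL D.Idx F) : Matrix D.Idx D.Idx F) = D.x F (D.simple i) t →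
        ((α g : GL D.Idx F) : Matrix D.Idx D.Idx F) = D.x F (D.simple (π.getD i 0)) t) ∧
      (((g : GL D.Idx F) : Matrix D.Idx D.Idx F) = D.x F (D.neg (D.simple i)) t →
        ((α g : GL D.Idx F) : Matrix D.Idx D.Idx F) =
          D.x F (D.neg (D.simple (π.getD i 0))) t) := by
    intro D T C h W π hW hI hS hrho hdg hs
    simp only [List.all_eq_true, List.mem_range, decide_eq_true_eq] at hdg hs
    obtain ⟨α, hα⟩ := h.exists_twistEquiv hW hI hS (RingHom.id F) hrho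
      (fun r hr z => ⟨z, by simp [hdg r hr]⟩)
    refine ⟨α, fun g i t hi => ?_⟩
    rw [h.rank_eq] at hi
    obtain ⟨h1, h2, h3, h4, h5⟩ := hs i hi
    have hp := h.simple_lt hi
    have hn := CfsgLib.Chev.Cert.neg_lt hp
    rw [h.simple_eq hi, h.simple_eq h5, h.neg_eq hp, h.neg_eq (h.simple_lt h5)]
    constructor <;> intro hg
    · simpa [h1, h3, hdg _ hp] using hα g _ t hp hg
    · simpa [h2, h4, hdg _ hn] using hα g _ t hn hg
  simp only [List.mem_cons, List.not_mem_nil, or_false] at hp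
  rcases hp with rfl | rfl | rfl
  · exact key _ _ _ CfsgLib.Chev.certE6 _ _ CfsgLib.Chev.chkTwistE6 CfsgLib.Chev.chkFaithImgE6
      CfsgLib.Chev.chkFaithSrcE6 CfsgLib.Chev.twistRhoE6 (by decide +kernel) (by decide +kernel)
  · exact key _ _ _ CfsgLib.Chev.certD4 _ _ CfsgLib.Chev.chkTwistD4a CfsgLib.Chev.chkFaithImgD4a
      CfsgLib.Chev.chkFaithSrcD4a CfsgLib.Chev.twistRhoD4a (by decide +kernel) (by decide +kernel)
  · exact key _ _ _ CfsgLib.Chev.certD4 _ _ CfsgLib.Chev.chkTwistD4b CfsgLib.Chev.chkFaithImgD4b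
      CfsgLib.Chev.chkFaithSrcD4b CfsgLib.Chev.twistRhoD4b (by decide +kernel) (by decide +kernel)

end Cfsg.Agent.S1081
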