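import Cfsg.Statements.S1083
import Cfsg.Agent.Lib.Chev.All
import Cfsg.Agent.Lib.Chev.SimpleData
import Cfsg.Agent.Lib.Chev.OrthModels
import Cfsg.Agent.S1050
-- import your own Cfsg.Agent.* helpers here

set_option autoImplicit false
open Cfsg

namespace Cfsg.Agent.S1083

/-- B₂(F) ≅ PΩ₅(F) for the form `x₀² + x₁y₁ + x₂y₂`, over every field with more than two elements. -/
theorem result {F : Type*} [Field F] (hF : ∃ a : F, a ≠ 0 ∧ a ≠ 1) :
    Nonempty (↥(Cfsg.Lie.chevB2.group F) ≃* Cfsg.POmega F (Cfsg.quadFormOdd 2 F)) := by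
  have hperf := CfsgLib.Chev.perfectB2 hF
  have hsim := (CfsgLib.Chev.certB2.simple_group CfsgLib.Chev.connectedB2 hperf
    (Cfsg.Agent.S1050.result _ (by simp))).1
  refine (CfsgLib.ChevOrth.fitsB2 F).iso (a₀ := Sum.inl ())
    (edges := [(.inl (), .inr (.inl 0)), (.inl (), .inr (.inl 1)), (.inl (), .inr (.inr 0)),
      (.inl (), .inr (.inr 1))])
    (by decide +kernel) (by decide +kernel) (r₀ := ⟨0, by decide⟩) (j₀ := Sum.inr ⟨5, by decide⟩)
    (x₀ := Sum.inl ()) (y₀ := Sum.inr (.inl 0)) (by decide +kernel) hsim hperf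
    (by show 2 ≤ 2; norm_num) fun r t => ⟨CfsgLib.Chev.X Cfsg.Lie.chevB2 r.val t, ?_⟩
  rw [CfsgLib.Chev.certB2.coe_X]
  simp [Cfsg.Lie.ChevalleyDatum.x, r.isLt]

end Cfsg.Agent.S1083
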