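import Cfsg.Statements.S1089
import Cfsg.Agent.Lib.Chev.All
import Cfsg.Agent.Lib.Chev.TwistF4
-- import your own Cfsg.Agent.* helpers here

set_option autoImplicit false
open Cfsg

namespace Cfsg.Agent.S1089

/-- ²F₄(2^(2m+1)) has a (B,N)-pair: B¹ = G¹ ∩ B and N¹ = G¹ ∩ N, intersections with the ambient Chevalley group's B = UH and N. -/
theorem result {K : Type*} [Field K] [Fintype K] {m : ℕ} (hK : Fintype.card K = 2 ^ (2 * m + 1)) :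
    ∃ P : Cfsg.BNPair ↥(Cfsg.Lie.twistedF4 K (2 ^ m)),
      P.B = (Cfsg.Lie.chevF4.borelSubgroup K ⊓ Cfsg.Lie.twistedF4 K (2 ^ m)).subgroupOf (Cfsg.Lie.twistedF4 K (2 ^ m)) ∧
      P.N = (Cfsg.Lie.chevF4.monomialSubgroup K ⊓ Cfsg.Lie.twistedF4 K (2 ^ m)).subgroupOf (Cfsg.Lie.twistedF4 K (2 ^ m)) := by
  haveI := CfsgLib.Chev.charTwo_F4 hK
  obtain ⟨f, hf, hK'⟩ := CfsgLib.Chev.setupF4 hK
  rw [← CfsgLib.Chev.fix_eq_twistedF4 f hf hK']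
  obtain ⟨P, hB, hN, -, -⟩ := (CfsgLib.Chev.endoF4 f).exists_bnPair_fix
    (CfsgLib.Chev.dataOK_F4 f) (CfsgLib.Chev.std_fixF4 f hf hK').reps
    (fun o ho => ((CfsgLib.Chev.std_fixF4 f hf hK').lifts _ o ho).1) Fintype.one_lt_card (CfsgLib.Chev.hcardF4 f hf hK')
    (by simp [CfsgLib.Chev.dataTwF4])
  exact ⟨P, hB, hN⟩

end Cfsg.Agent.S1089
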