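import Cfsg.Statements.S1095
import Cfsg.Agent.Lib.Chev.All
import Cfsg.Agent.Lib.Chev.Torus
-- import your own Cfsg.Agent.* helpers here

set_option autoImplicit false
open Cfsg

namespace Cfsg.Agent.S1095

/-- `n_p` (p = p_{i+1} fundamental) is the signed monomial matrix `h_{p_j} ↦ h_{p_j} - A_{p_j,p} h_p`, `e_s ↦ η_s e_{w_p(s)}`, with `η_s = ±1`, `η_p = η_{-p} = -1`, `η_s η_{w_p(s)} = (-1)^{A_{p,s}}`, `η_s η_{-s} = 1`. -/
theorem result {F : Type*} [Field F] (D : Cfsg.Lie.ChevalleyDatum) (hD : D ∈ [Cfsg.Lie.chevG2, Cfsg.Lie.chevB2, Cfsg.Lie.chevD4, Cfsg.Lie.chevF4, Cfsg.Lie.chevE6, Cfsg.Lie.chevE7, Cfsg.Lie.chevE8]) (i : ℕ) (hi : i < D.rank) :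
    ∃ η : ℕ → ℤ, (∀ s < D.nroots, η s = 1 ∨ η s = -1) ∧ η (D.simple i) = -1 ∧ η (D.neg (D.simple i)) = -1 ∧
      (∀ s < D.nroots, η s * η (D.reflectRoot i s) = (-1) ^ (D.cartan i s).natAbs ∧ η s * η (D.neg s) = 1) ∧
      D.nMat F (D.simple i) 1 = Matrix.of (fun (row col : D.Idx) =>
        Sum.elim
          (fun j' : Fin D.rank => Sum.elim
            (fun j : Fin D.rank => (if j' = j then (1 : F) else 0) - (if (j' : ℕ) = i then ((D.cartan j (D.simple i) : ℤ) : F) else 0))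
            (fun _ => (0 : F)) col)
          (fun s' : Fin D.nroots => Sum.elim
            (fun _ => (0 : F))
            (fun s : Fin D.nroots => if (s' : ℕ) = D.reflectRoot i s then ((η s : ℤ) : F) else 0) col)
          row) := by
  obtain ⟨T, C, h⟩ := CfsgLib.Chev.exists_cert hD
  have hi' : i < T.l := lt_of_lt_of_eq hi h.rank_eq
  have hp := h.simple_lt hi'
  have hη := (h.refl_spec hi' hp).2.2.2.2.2.2.1 rfl
  refine ⟨T.eta i, fun s _ => T.eta_cases i s, ?_, ?_, fun s hs => ?_, ?_⟩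
  · rw [h.simple_eq hi', hη]
  · rw [h.simple_eq hi', h.neg_eq hp, (h.refl_spec hi' hp).2.2.2.2.1, hη]
  · have hs' : s < T.n := lt_of_lt_of_eq hs h.nroots_eq
    obtain ⟨-, -, -, -, hen, hsign, -⟩ := h.refl_spec hi' hs'
    rw [h.reflectRoot_eq hi' hs', h.cartan_eq hi' hs', h.neg_eq hs', hen]
    exact ⟨hsign, T.eta_sq i s⟩
  · ext row col
    rw [Matrix.of_apply]
    rcases row with j | v <;> rcases col with k | s <;> simp only [Sum.elim_inl, Sum.elim_inr]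
    · rw [h.n_inl_inl hi' one_ne_zero, h.simple_eq hi',
        h.cartan_eq (lt_of_lt_of_eq k.isLt h.rank_eq) hp]
    · rw [h.n_inl_inr hi' one_ne_zero]
    · rw [h.n_inr_inl hi' one_ne_zero]
    · rw [h.n_inr_inr hi' one_ne_zero, h.reflectRoot_eq hi' (lt_of_lt_of_eq s.isLt h.nroots_eq)]
      simp [Fin.ext_iff, CfsgLib.Chev.Cert.rf]

end Cfsg.Agent.S1095
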