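import Cfsg.Statements.S1098
import Cfsg.Agent.Lib.Chev.All
import Cfsg.Agent.Lib.Chev.TwistData
-- import your own Cfsg.Agent.* helpers here

set_option autoImplicit false
open Cfsg

namespace Cfsg.Agent.S1098

/-- Graph automorphisms in characteristic 2 (K perfect): for B₂ (a short, b long) `x_a(t) ↦ x_b(t²)`, `x_b(t) ↦ x_a(t)`, and for F₄ (p₁, p₂ short, p₃, p₄ long) `x_{p₁}(t) ↦ x_{p₄}(t²)`, `x_{p₂}(t) ↦ x_{p₃}(t²)`, `x_{p₃}(t) ↦ x_{p₂}(t)`, `x_{p₄}(t) ↦ x_{p₁}(t)`, likewise on the negatives, extend to an automorphism of the group. -/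
theorem result {K : Type*} [Field K] [CharP K 2] (hperf : ∀ x : K, ∃ y : K, y ^ 2 = x)
    (p : Cfsg.Lie.ChevalleyDatum × List (ℕ × ℕ))
    (hp : p ∈ [(Cfsg.Lie.chevB2, [(1, 2), (0, 1)]), (Cfsg.Lie.chevF4, [(3, 2), (2, 2), (1, 1), (0, 1)])]) :
    ∃ α : ↥(p.1.group K) ≃* ↥(p.1.group K), ∀ (g : ↥(p.1.group K)) (i : ℕ) (t : K), i < p.1.rank →
      (((g : GL p.1.Idx K) : Matrix p.1.Idx p.1.Idx K) = p.1.x K (p.1.simple i) t →
        ((α g : GL p.1.Idx K) : Matrix p.1.Idx p.1.Idx K) = p.1.x K (p.1.simple (p.2.getD i (0, 1)).1) (t ^ (p.2.getD i (0, 1)).2)) ∧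
      (((g : GL p.1.Idx K) : Matrix p.1.Idx p.1.Idx K) = p.1.x K (p.1.neg (p.1.simple i)) t →
        ((α g : GL p.1.Idx K) : Matrix p.1.Idx p.1.Idx K) = p.1.x K (p.1.neg (p.1.simple (p.2.getD i (0, 1)).1)) (t ^ (p.2.getD i (0, 1)).2)) := by
  classical
  have key : ∀ (D : Cfsg.Lie.ChevalleyDatum) (T : CfsgLib.Chev.Tab) (C : CfsgLib.Chev.Tab.Cover)
      (_ : CfsgLib.Chev.Cert D T C) (W : CfsgLib.Chev.Twist) (π : List (ℕ × ℕ)),
      W.chk T 2 = true → CfsgLib.Chev.Twist.chkFaith T W.img = true →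
      CfsgLib.Chev.Twist.chkFaith T W.src = true →
      ((List.range T.n).all fun s => (List.range T.n).any fun r => decide (W.rt r = s)) = true →
      ((List.range T.n).all fun r => decide (W.dg r = 1 ∨ W.dg r = 2)) = true →
      ((List.range T.l).all fun i =>
        decide (W.rt (T.simple i) = T.simple (π.getD i (0, 1)).1 ∧
          W.rt (T.neg (T.simple i)) = T.neg (T.simple (π.getD i (0, 1)).1) ∧
          W.ep (T.simple i) = 1 ∧ W.ep (T.neg (T.simple i)) = 1 ∧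
          W.dg (T.simple i) = (π.getD i (0, 1)).2 ∧
          W.dg (T.neg (T.simple i)) = (π.getD i (0, 1)).2 ∧
          (π.getD i (0, 1)).1 < T.l)) = true →
      ∃ α : ↥(D.group K) ≃* ↥(D.group K), ∀ (g : ↥(D.group K)) (i : ℕ) (t : K), i < D.rank →
      (((g : GL D.Idx K) : Matrix D.Idx D.Idx K) = D.x K (D.simple i) t →
        ((α g : GL D.Idx K) : Matrix D.Idx D.Idx K) =
          D.x K (D.simple (π.getD i (0, 1)).1) (t ^ (π.getD i (0, 1)).2)) ∧
      (((g : GL D.Idx K) : Matrix D.Idx D.Idx K) = D.x K (D.neg (D.simple i)) t →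
        ((α g : GL D.Idx K) : Matrix D.Idx D.Idx K) =
          D.x K (D.neg (D.simple (π.getD i (0, 1)).1)) (t ^ (π.getD i (0, 1)).2)) := by
    intro D T C h W π hW hI hS hrho hdg hs
    simp only [List.all_eq_true, List.mem_range, decide_eq_true_eq] at hdg hs
    obtain ⟨α, hα⟩ := h.exists_twistEquiv hW hI hS (RingHom.id K) hrho
      (fun r hr z => by rcases hdg r hr with e | e <;> rw [e] <;>
        first | exact ⟨z, pow_one z⟩ | exact hperf z)
    refine ⟨α, fun g i t hi => ?_⟩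
    rw [h.rank_eq] at hi
    obtain ⟨h1, h2, h3, h4, h6, h7, h5⟩ := hs i hi
    have hp := h.simple_lt hi
    have hn := CfsgLib.Chev.Cert.neg_lt hp
    rw [h.simple_eq hi, h.simple_eq h5, h.neg_eq hp, h.neg_eq (h.simple_lt h5)]
    constructor <;> intro hg
    · simpa [h1, h3, h6] using hα g _ t hp hg
    · simpa [h2, h4, h7] using hα g _ t hn hg
  simp only [List.mem_cons, List.not_mem_nil, or_false] at hp
  rcases hp with rfl | rfl
  · exact key _ _ _ CfsgLib.Chev.certB2 _ _ CfsgLib.Chev.chkTwistB2 CfsgLib.Chev.chkFaithImgB2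
      CfsgLib.Chev.chkFaithSrcB2 CfsgLib.Chev.twistRhoB2 (by decide +kernel) (by decide +kernel)
  · exact key _ _ _ CfsgLib.Chev.certF4 _ _ CfsgLib.Chev.chkTwistF4 CfsgLib.Chev.chkFaithImgF4
      CfsgLib.Chev.chkFaithSrcF4 CfsgLib.Chev.twistRhoF4 (by decide +kernel) (by decide +kernel)

end Cfsg.Agent.S1098
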