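import Cfsg.Statements.S1099
import Cfsg.Agent.Lib.Chev.All
import Cfsg.Agent.Lib.Chev.TwistData
-- import your own Cfsg.Agent.* helpers here

set_option autoImplicit false
open Cfsg

namespace Cfsg.Agent.S1099

/-- Graph automorphism of G₂ in characteristic 3 (K perfect): `x_a(t) ↦ x_b(t³)`, `x_b(t) ↦ x_a(t)`, `x_{-a}(t) ↦ x_{-b}(t³)`, `x_{-b}(t) ↦ x_{-a}(t)` extend to an automorphism of the group. -/
theorem result {K : Type*} [Field K] [CharP K 3] (hperf : ∀ x : K, ∃ y : K, y ^ 3 = x) :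
    ∃ α : ↥(Cfsg.Lie.chevG2.group K) ≃* ↥(Cfsg.Lie.chevG2.group K), ∀ (g : ↥(Cfsg.Lie.chevG2.group K)) (t : K),
      (((g : GL Cfsg.Lie.chevG2.Idx K) : Matrix _ _ K) = Cfsg.Lie.chevG2.x K Cfsg.Lie.g2a t →
        ((α g : GL Cfsg.Lie.chevG2.Idx K) : Matrix _ _ K) = Cfsg.Lie.chevG2.x K Cfsg.Lie.g2b (t ^ 3)) ∧
      (((g : GL Cfsg.Lie.chevG2.Idx K) : Matrix _ _ K) = Cfsg.Lie.chevG2.x K Cfsg.Lie.g2b t →
        ((α g : GL Cfsg.Lie.chevG2.Idx K) : Matrix _ _ K) = Cfsg.Lie.chevG2.x K Cfsg.Lie.g2a t) ∧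
      (((g : GL Cfsg.Lie.chevG2.Idx K) : Matrix _ _ K) = Cfsg.Lie.chevG2.x K Cfsg.Lie.g2ma t →
        ((α g : GL Cfsg.Lie.chevG2.Idx K) : Matrix _ _ K) = Cfsg.Lie.chevG2.x K Cfsg.Lie.g2mb (t ^ 3)) ∧
      (((g : GL Cfsg.Lie.chevG2.Idx K) : Matrix _ _ K) = Cfsg.Lie.chevG2.x K Cfsg.Lie.g2mb t →
        ((α g : GL Cfsg.Lie.chevG2.Idx K) : Matrix _ _ K) = Cfsg.Lie.chevG2.x K Cfsg.Lie.g2ma t) := by
  classical
  have hdg : ((List.range CfsgLib.Chev.tabG2.n).all fun r =>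
      decide (CfsgLib.Chev.twistG2.dg r = 1 ∨ CfsgLib.Chev.twistG2.dg r = 3)) = true := by
    decide +kernel
  simp only [List.all_eq_true, List.mem_range, decide_eq_true_eq] at hdg
  obtain ⟨α, hα⟩ := CfsgLib.Chev.certG2.exists_twistEquiv CfsgLib.Chev.chkTwistG2
    CfsgLib.Chev.chkFaithImgG2 CfsgLib.Chev.chkFaithSrcG2 (RingHom.id K)
    CfsgLib.Chev.twistRhoG2
    (fun r hr z => by rcases hdg r hr with e | e <;> rw [e] <;>
      first | exact ⟨z, pow_one z⟩ | exact hperf z)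
  have hc : ∀ r r' k : ℕ, r < CfsgLib.Chev.tabG2.n → CfsgLib.Chev.twistG2.rt r = r' →
      CfsgLib.Chev.twistG2.ep r = 1 → CfsgLib.Chev.twistG2.dg r = k →
      ∀ (g : ↥(Cfsg.Lie.chevG2.group K)) (t : K),
      ((g : GL Cfsg.Lie.chevG2.Idx K) : Matrix _ _ K) = Cfsg.Lie.chevG2.x K r t →
      ((α g : GL Cfsg.Lie.chevG2.Idx K) : Matrix _ _ K) = Cfsg.Lie.chevG2.x K r' (t ^ k) := by
    intro r r' k hr e1 e2 e3 g t hg
    simpa [e1, e2, e3] using hα g r t hr hg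
  refine ⟨α, fun g t => ⟨hc _ _ 3 ?_ ?_ ?_ ?_ g t, fun hg => ?_, hc _ _ 3 ?_ ?_ ?_ ?_ g t,
    fun hg => ?_⟩⟩
  all_goals try decide +kernel
  · simpa using hc _ Cfsg.Lie.g2a 1 (by decide +kernel) (by decide +kernel) (by decide +kernel)
      (by decide +kernel) g t hg
  · simpa using hc _ Cfsg.Lie.g2ma 1 (by decide +kernel) (by decide +kernel) (by decide +kernel)
      (by decide +kernel) g t hg

end Cfsg.Agent.S1099
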