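import Cfsg.Statements.S1101
import Cfsg.Agent.Lib.Chev.All
import Cfsg.Agent.Lib.Chev.TwistG2Unip
-- import your own Cfsg.Agent.* helpers here

set_option autoImplicit false
open Cfsg

namespace Cfsg.Agent.S1101

/-- For ²G₂ over `K` with `|K| = 3^(2m+1)`, `θ = 3^m`: `U¹ = G¹ ∩ U` consists exactly of the elements `x_a(t^θ) x_b(t) x_{a+b}(t^{θ+1}+u^θ) x_{2a+b}(t^{2θ+1}+v^θ) x_{3a+b}(u) x_{3a+2b}(v)`, `t, u, v ∈ K`, and it has `|K|³` elements. -/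
theorem result {K : Type*} [Field K] [Fintype K] {m : ℕ} (hK : Fintype.card K = 3 ^ (2 * m + 1)) :
    (∀ g : GL Cfsg.Lie.chevG2.Idx K, g ∈ Cfsg.Lie.chevG2.posUnipotent K ⊓ Cfsg.Lie.twistedG2 K (3 ^ m) ↔
      ∃ t u v : K, (g : Matrix Cfsg.Lie.chevG2.Idx Cfsg.Lie.chevG2.Idx K) = Cfsg.Lie.chevG2.wordMat K (Cfsg.Lie.reeWordU (3 ^ m) t u v)) ∧
    Nat.card ↥(Cfsg.Lie.chevG2.posUnipotent K ⊓ Cfsg.Lie.twistedG2 K (3 ^ m)) = (3 ^ (2 * m + 1)) ^ 3 := by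
  haveI := CfsgLib.Chev.charThree_G2 hK
  obtain ⟨f, hf, hK'⟩ := CfsgLib.Chev.setupG2 hK
  rw [← CfsgLib.Chev.fix_eq_twistedG2 f hf hK']
  rw [inf_comm (Cfsg.Lie.chevG2.posUnipotent K)]
  refine ⟨fun g => ⟨fun hg => ?_, ?_⟩, by rw [← hK]; exact CfsgLib.Chev.card_posG2 f hf hK'⟩
  · obtain ⟨⟨t, u, v⟩, hp⟩ := (CfsgLib.Chev.reeEquiv f hf hK').surjective ⟨g, hg⟩
    refine ⟨t, u, v, ?_⟩
    rw [← show CfsgLib.Chev.reeElt (3 ^ m) (t, u, v) = g from congrArg Subtype.val hp,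
      CfsgLib.Chev.reeElt, CfsgLib.Chev.certG2.wordMat_eq_prod]
  · rintro ⟨t, u, v, hg⟩
    rw [CfsgLib.Chev.certG2.coe_eq_prod hg]
    exact CfsgLib.Chev.reeElt_mem f hf hK' (t, u, v)

end Cfsg.Agent.S1101
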