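import Cfsg.Statements.S1109
import Cfsg.Agent.Lib.Chev.All
import Cfsg.Agent.Lib.Chev.TwistD4
-- import your own Cfsg.Agent.* helpers here

set_option autoImplicit false
open Cfsg

namespace Cfsg.Agent.S1109

/-- The normal core of `B¹ = G¹ ∩ B` in ³D₄(q) is trivial. -/
theorem result {K : Type*} [Field K] [Fintype K] {q : ℕ} (hq : IsPrimePow q) (hK : Fintype.card K = q ^ 3) :
    ((Cfsg.Lie.chevD4.borelSubgroup K ⊓ Cfsg.Lie.twistedD4 K q).subgroupOf (Cfsg.Lie.twistedD4 K q)).normalCore = ⊥ := by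
  obtain ⟨f, hf⟩ := CfsgLib.Chev.exists_frob hq hK
  rw [← CfsgLib.Chev.fix_eq_twistedD4 f hf hK hq]
  exact (CfsgLib.Chev.endoD4 f).normalCore_fix
    (CfsgLib.Chev.dataOK_D4 f) (CfsgLib.Chev.std_fixD4 f hf hK hq).reps
    (fun o ho => ((CfsgLib.Chev.std_fixD4 f hf hK hq).lifts _ o ho).1) hq.two_le (CfsgLib.Chev.hcardD4 f hf hK hq)

end Cfsg.Agent.S1109
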