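import Cfsg.Statements.S1118
import Cfsg.Agent.Lib.RankOne.Setup

set_option autoImplicit false
set_option linter.style.haveILetI false
open Cfsg

namespace Cfsg.Agent.S1118

open MulAction CfsgLib.RankOne

/-- In the rank-one set-up (`G` finite and doubly transitive on `Ω`, `t` an involution moving `a`, `Q` normal in `G_a` with `G_a = Q D`, `Q ⊓ D = 1` for the two-point stabiliser `D = G_a ⊓ G_{t • a}`, `|Q|` even, `|D|` odd), the normaliser of a subset of `Q` containing a non-identity element lies in `G_a`; consequently `N_G(Q) = N_G(G_a) = G_a`. -/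
theorem result {G Ω : Type*} [Group G] [Finite G] [MulAction G Ω] {a : Ω} {t : G} {Q : Subgroup G}
    (hS : Cfsg.IsRankOneSetup G Ω a t Q) :
    (∀ X : Set G, X ⊆ (Q : Set G) → (∃ x ∈ X, x ≠ 1) → Subgroup.normalizer X ≤ MulAction.stabilizer G a) ∧
      Subgroup.normalizer (Q : Set G) = MulAction.stabilizer G a ∧
      Subgroup.normalizer (MulAction.stabilizer G a : Set G) = MulAction.stabilizer G a := by
  refine ⟨fun X hX ⟨x, hx, hx1⟩ => normalizer_le hS hX hx hx1, le_antisymm ?_ (CfsgLib.RankOne.le_normalizer hS),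
    le_antisymm ?_ Subgroup.le_normalizer⟩
  · obtain ⟨s, hs, hs1, hss⟩ := exists_invol hS
    exact normalizer_le hS subset_rfl (mem_Q_of_invol hS hs hss) hs1
  · intro g hg
    rw [mem_stabilizer_iff]
    by_contra hne
    -- the stabilizer fixes `g • a`, but it moves every other point
    obtain ⟨s, hs, hs1, hss⟩ := exists_invol hS
    have h : g⁻¹ * s * g ∈ MulAction.stabilizer G a := (Subgroup.mem_normalizer_iff''.mp hg s).mp hs
    refine hne (invol_fix_A hS hs hs1 hss ?_)
    rw [show s = g * (g⁻¹ * s * g) * g⁻¹ by group, mul_smul, mul_smul, inv_smul_smul, mem_stabilizer_iff.mp h]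

end Cfsg.Agent.S1118
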