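import Cfsg.Statements.S1120
import Cfsg.Agent.Lib.RankOne.Setup
import Cfsg.Agent.Lib.Transfer.Basic
import Cfsg.Agent.Lib.Coprime.Generation

set_option autoImplicit false
set_option linter.style.haveILetI false
open Cfsg

namespace Cfsg.Agent.S1120

open MulAction CfsgLib.RankOne

/-- In the rank-one set-up (`G` finite and doubly transitive on `Ω`, `t` an involution moving `a`, `Q` normal in `G_a` with `G_a = Q D`, `Q ⊓ D = 1` for the two-point stabiliser `D = G_a ⊓ G_{t • a}`, `|Q|` even, `|D|` odd), if `G` has 2-rank at least 2 then `O_{2'}(G)` equals the normal core of `G_a`. -/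
theorem result {G Ω : Type*} [Group G] [Finite G] [MulAction G Ω] {a : Ω} {t : G} {Q : Subgroup G}
    (hS : Cfsg.IsRankOneSetup G Ω a t Q)
    (h2 : ∃ x y : G, x ≠ 1 ∧ y ≠ 1 ∧ x ≠ y ∧ x * x = 1 ∧ y * y = 1 ∧ x * y = y * x) :
    Cfsg.pPrimeCore 2 G = (MulAction.stabilizer G a).normalCore := by
  classical
  apply le_antisymm
  · haveI := CfsgLib.Transfer.pPrimeCore_normal 2 G
    have hodd : (Nat.card (Cfsg.pPrimeCore 2 G)).Coprime 2 := CfsgLib.Transfer.pPrimeCore_coprime 2
    rw [Subgroup.normal_le_normalCore]
    obtain ⟨x, y, hx1, hy1, hxy, hxx, hyy, hcom⟩ := h2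
    haveI : Fact (Nat.Prime 2) := ⟨Nat.prime_two⟩
    set V := Subgroup.closure ({x, y} : Set G) with hV
    haveI hVc : IsMulCommutative V := Subgroup.isMulCommutative_closure (by
      rintro u (rfl | rfl) v (rfl | rfl) <;> first | rfl | exact hcom | exact hcom.symm)
    have hVexp : ∀ v ∈ V, v * v = 1 := by
      intro v hv
      induction hv using Subgroup.closure_induction with
      | mem v hv => rcases hv with rfl | rfl <;> assumption
      | one => simp
      | mul u v hu hv h h' =>
        have hc : v * u = u * v := setLike_mul_comm (s := V) hv hu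
        calc u * v * (u * v) = u * (v * u) * v := by group
          _ = (u * u) * (v * v) := by rw [hc]; group
          _ = 1 := by rw [h, h', one_mul]
      | inv u _ h => rw [← mul_inv_rev, h, inv_one]
    have hVp : IsPGroup 2 V := fun v => ⟨1, Subtype.ext (by simp [pow_two, hVexp _ v.2])⟩
    obtain ⟨P, hP⟩ := exists_sylow_le hS
    obtain ⟨P', hP'⟩ := hVp.exists_le_sylow
    obtain ⟨g, hg⟩ := MulAction.exists_smul_eq G P' P
    set A := V.map (MulAut.conj g).toMonoidHom with hA
    have hAQ : A ≤ Q := by
      refine le_trans ?_ hP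
      rw [← hg]
      exact Subgroup.map_mono hP'
    haveI : IsMulCommutative A := Subgroup.map_isMulCommutative _ _
    have hAexp : ∀ v ∈ A, v ^ 2 = 1 := by
      rintro _ ⟨v, hv, rfl⟩
      rw [← map_pow, pow_two, hVexp v hv, map_one]
    have hAcard : 2 < Nat.card A := by
      rw [hA, Subgroup.card_map_of_injective (MulAut.conj g).injective]
      haveI := Fintype.ofFinite V
      have hsub : ({⟨1, V.one_mem⟩, ⟨x, Subgroup.subset_closure (by simp)⟩, ⟨y, Subgroup.subset_closure (by simp)⟩} : Finset V).card ≤ Fintype.card V := Finset.card_le_univ _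
      rw [Finset.card_insert_of_notMem (by simp [Subtype.ext_iff, Ne.symm hx1, Ne.symm hy1]),
        Finset.card_pair (by simp [Subtype.ext_iff, hxy])] at hsub
      rw [Nat.card_eq_fintype_card]; omega
    refine CfsgLib.Coprime.le_of_centralizer_le (A := A) (K := Cfsg.pPrimeCore 2 G)
      (CfsgLib.Coprime.not_isCyclic_of_exponent hAexp two_pos hAcard) (Subgroup.le_normalizer_of_normal) ?_
      (fun v hv hv1 z hz => mem_A_of_comm hS (hAQ hv) hv1
        (Subgroup.mem_centralizer_singleton_iff.mp (Subgroup.mem_inf.mp hz).2))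
    obtain ⟨k, hk⟩ := IsPGroup.iff_card.mp (hVp.map (MulAut.conj g).toMonoidHom)
    rw [hA, hk]
    exact hodd.symm.pow_left k
  · refine CfsgLib.Transfer.le_pPrimeCore inferInstance ?_
    have hle : (MulAction.stabilizer G a).normalCore ≤ MulAction.stabilizer G a ⊓ MulAction.stabilizer G (t • a) := by
      intro g hg
      refine (mem_D hS).mpr ⟨Subgroup.normalCore_le _ hg, ?_⟩
      have h := Subgroup.normalCore_le _ ((inferInstance : ((MulAction.stabilizer G a).normalCore).Normal).conj_mem g hg t)
      rw [mem_stabilizer_iff, mul_smul, mul_smul, CfsgLib.RankOne.t_inv hS] at h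
      have h' := congrArg (fun x => t • x) h
      simp only [← mul_smul] at h'
      rwa [CfsgLib.RankOne.invol_cancel hS.mul_self, mul_smul] at h'
    rw [Nat.coprime_two_right]
    exact hS.odd_card.of_dvd_nat (Subgroup.card_dvd_of_le hle)

end Cfsg.Agent.S1120
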