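import Cfsg.Statements.S1124
import Cfsg.Agent.Lib.RankOne.Setup

set_option autoImplicit false
set_option linter.style.haveILetI false
open scoped Pointwise
open Cfsg

namespace Cfsg.Agent.S1124

open MulAction CfsgLib.RankOne

/-- Let `t` be an element of order 2 of a finite group normalising a subgroup `X` of odd order, `Y = C_X(t)` and `Z` the set of elements of `X` inverted by `t`. Then `(y, z) ↦ y z` is a bijection `Y × Z → X`, so `|X| = |Y| |Z|`, and the subgroup generated by `Z` is normal in `X`. -/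
theorem result {M : Type*} [Group M] [Finite M]
    (t : M) (ht : orderOf t = 2) (X : Subgroup M) (hodd : Odd (Nat.card X))
    (hnorm : ∀ x ∈ X, t * x * t⁻¹ ∈ X) :
    (∀ x ∈ X, ∃! p : M × M, p.1 ∈ X ⊓ Subgroup.centralizer {t} ∧ p.2 ∈ Cfsg.invertedBy X t ∧ x = p.1 * p.2) ∧
      Nat.card X = Nat.card ↥(X ⊓ Subgroup.centralizer {t}) * Nat.card (Cfsg.invertedBy X t) ∧
      ∀ x ∈ X, MulAut.conj x • Subgroup.closure (Cfsg.invertedBy X t) = Subgroup.closure (Cfsg.invertedBy X t) := by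
  have htt : t * t = 1 := by rw [← pow_two, ← ht]; exact pow_orderOf_eq_one t
  have ht' : t⁻¹ = t := invol_inv htt
  have hn : ∀ x ∈ X, t * x * t ∈ X := fun x hx => by
    have := hnorm x hx; rwa [ht'] at this
  have hinv : ∀ i, i ∈ Cfsg.invertedBy X t ↔ i ∈ X ∧ t * i * t = i⁻¹ := fun i => by
    show i ∈ X ∧ _ ↔ _
    rw [ht']
  have hcen : ∀ c, c ∈ X ⊓ Subgroup.centralizer {t} ↔ c ∈ X ∧ t * c * t = c := fun c => by
    rw [Subgroup.mem_inf, Subgroup.mem_centralizer_singleton_iff]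
    refine and_congr_right fun _ => ⟨fun h => ?_, fun h => ?_⟩
    · rw [← h, mul_assoc, htt, mul_one]
    · calc c * t = t * c * t * t := by rw [h]
        _ = t * c := by rw [mul_assoc _ t t, htt, mul_one]
  have hfac : ∀ x ∈ X, ∃! p : M × M, p.1 ∈ X ⊓ Subgroup.centralizer {t} ∧ p.2 ∈ Cfsg.invertedBy X t ∧ x = p.1 * p.2 := by
    intro x hx
    obtain ⟨c, i, hc, hct, hi, hit, hci⟩ := exists_decomp htt hodd hn hx
    refine ⟨(c, i), ⟨(hcen c).mpr ⟨hc, hct⟩, (hinv i).mpr ⟨hi, hit⟩, hci⟩, ?_⟩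
    rintro ⟨c', i'⟩ ⟨h1, h2, h3⟩
    simp only at h1 h2 h3
    obtain ⟨e1, e2⟩ := decomp_unique htt hodd ((hcen c').mp h1).2 ((hinv i').mp h2).1 ((hinv i').mp h2).2 hct hi hit
      (h3.symm.trans hci)
    exact Prod.ext e1 e2
  refine ⟨hfac, ?_, ?_⟩
  · rw [← Nat.card_prod]
    refine (Nat.card_congr (Equiv.ofBijective (fun p : ↥(X ⊓ Subgroup.centralizer {t}) × Cfsg.invertedBy X t =>
      (⟨(p.1 : M) * (p.2 : M), X.mul_mem (Subgroup.mem_inf.mp p.1.2).1 p.2.2.1⟩ : X)) ⟨?_, ?_⟩)).symm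
    · rintro ⟨c, i⟩ ⟨c', i'⟩ h
      obtain ⟨p, -, hp⟩ := hfac ((c : M) * i) (X.mul_mem (Subgroup.mem_inf.mp c.2).1 i.2.1)
      have h3 := (hp ((c : M), (i : M)) ⟨c.2, i.2, rfl⟩).trans (hp ((c' : M), (i' : M)) ⟨c'.2, i'.2, congrArg Subtype.val h⟩).symm
      simp only [Prod.mk.injEq] at h3
      exact Prod.ext (Subtype.ext h3.1) (Subtype.ext h3.2)
    · rintro ⟨x, hx⟩
      obtain ⟨⟨c, i⟩, ⟨hc, hi, hx'⟩, -⟩ := hfac x hx
      exact ⟨(⟨c, hc⟩, ⟨i, hi⟩), Subtype.ext hx'.symm⟩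
  · have key : ∀ x ∈ X, MulAut.conj x • Subgroup.closure (Cfsg.invertedBy X t) ≤ Subgroup.closure (Cfsg.invertedBy X t) := by
      intro x hx
      obtain ⟨c, i, hc, hct, hi, hit, rfl⟩ := exists_decomp htt hodd hn hx
      rw [Subgroup.pointwise_smul_subset_iff, Subgroup.closure_le]
      intro j hj
      rw [SetLike.mem_coe, Subgroup.mem_inv_pointwise_smul_iff, MulAut.smul_def, MulAut.conj_apply]
      have hi' := Subgroup.subset_closure ((hinv i).mpr ⟨hi, hit⟩)
      obtain ⟨hjX, hjt⟩ := (hinv j).mp hj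
      have cm : ∀ y : M, y ∈ Subgroup.closure (Cfsg.invertedBy X t) →
          c * y * c⁻¹ ∈ Subgroup.closure (Cfsg.invertedBy X t) := by
        intro y hy
        induction hy using Subgroup.closure_induction with
        | mem y hy =>
          obtain ⟨hyX, hyt⟩ := (hinv y).mp hy
          refine Subgroup.subset_closure ((hinv _).mpr ⟨X.mul_mem (X.mul_mem hc hyX) (X.inv_mem hc), ?_⟩)
          calc t * (c * y * c⁻¹) * t = (t * c * t) * (t * y * t) * (t * c * t)⁻¹ := by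
                simp only [mul_inv_rev, ht', mul_assoc, invol_cancel htt]
            _ = (c * y * c⁻¹)⁻¹ := by rw [hct, hyt]; group
        | one => simp
        | mul y z _ _ hy hz =>
          rw [show c * (y * z) * c⁻¹ = (c * y * c⁻¹) * (c * z * c⁻¹) by group]
          exact Subgroup.mul_mem _ hy hz
        | inv y _ hy =>
          rw [show c * y⁻¹ * c⁻¹ = (c * y * c⁻¹)⁻¹ by group]
          exact Subgroup.inv_mem _ hy
      have := cm (i * j * i⁻¹) (Subgroup.mul_mem _ (Subgroup.mul_mem _ hi' (Subgroup.subset_closure hj)) (Subgroup.inv_mem _ hi'))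
      rwa [show c * (i * j * i⁻¹) * c⁻¹ = c * i * j * (c * i)⁻¹ by group] at this
    intro x hx
    refine le_antisymm (key x hx) ?_
    rw [Subgroup.subset_pointwise_smul_iff, ← map_inv]
    exact key _ (X.inv_mem hx)

end Cfsg.Agent.S1124
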