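import Cfsg.Statements.S1125
import Cfsg.Agent.Lib.RankOne.Setup

set_option autoImplicit false
set_option linter.style.haveILetI false
open Cfsg

namespace Cfsg.Agent.S1125

open MulAction CfsgLib.RankOne

/-- In the rank-one set-up (`G` finite and doubly transitive on `Ω`, `t` an involution moving `a`, `Q` normal in `G_a` with `G_a = Q D`, `Q ⊓ D = 1` for the two-point stabiliser `D = G_a ⊓ G_{t • a}`, `|Q|` even, `|D|` odd), let `X ⊆ D` fix at least three points of `Ω`. Then `C_G(X)` is doubly transitive on the fixed-point set of `X`, `|C_Q(X)|` is even, and `C_{G_a}(X) = C_Q(X) C_D(X)`. -/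
theorem result {G Ω : Type*} [Group G] [Finite G] [MulAction G Ω] {a : Ω} {t : G} {Q : Subgroup G}
    (hS : Cfsg.IsRankOneSetup G Ω a t Q)
    (X : Set G) (hX : X ⊆ ((MulAction.stabilizer G a ⊓ MulAction.stabilizer G (t • a)) : Set G))
    (h3 : ∃ b c d : Ω, b ≠ c ∧ b ≠ d ∧ c ≠ d ∧ ∀ x ∈ X, x • b = b ∧ x • c = c ∧ x • d = d) :
    (∀ b₁ b₂ c₁ c₂ : Ω, (∀ x ∈ X, x • b₁ = b₁ ∧ x • b₂ = b₂ ∧ x • c₁ = c₁ ∧ x • c₂ = c₂) →
        b₁ ≠ b₂ → c₁ ≠ c₂ → ∃ g ∈ Subgroup.centralizer X, g • b₁ = c₁ ∧ g • b₂ = c₂) ∧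
      Even (Nat.card ↥(Subgroup.centralizer X ⊓ Q)) ∧
      (Subgroup.centralizer X ⊓ Q) ⊔ (Subgroup.centralizer X ⊓ (MulAction.stabilizer G a ⊓ MulAction.stabilizer G (t • a))) = Subgroup.centralizer X ⊓ MulAction.stabilizer G a := by
  classical
  have hXA : X ⊆ (MulAction.stabilizer G a : Set G) := fun x hx => (Subgroup.mem_inf.mp (hX hx)).1
  have hXa : ∀ x ∈ X, x • a = a := fun x hx => hXA hx
  have hXb : ∀ x ∈ X, x • (t • a) = t • a := fun x hx => ((mem_D hS).mp (hX hx)).2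
  refine ⟨fun b₁ b₂ c₁ c₂ h hb hc => fixed_two_trans hS h3 (fun x hx => (h x hx).1) (fun x hx => (h x hx).2.1)
    (fun x hx => (h x hx).2.2.1) (fun x hx => (h x hx).2.2.2) hb hc, ?_, ?_⟩
  · obtain ⟨u, hu, huu, hua⟩ := fixed_swap hS hX h3
    have hu1 : u ≠ 1 := fun e => b_ne hS (by rw [← hua, e, one_smul])
    obtain ⟨p, hp, hpu⟩ := exists_fix hS hu1 huu
    have hXp : ∀ x ∈ X, x • p = p := fun x hx => hpu _ (by rw [← mul_smul, ← hu x hx, mul_smul, hp])
    have hpa : p ≠ a := fun e => b_ne hS (by rw [← hua, ← e, hp, e])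
    obtain ⟨g, hg, hgp, -⟩ := fixed_two_trans hS h3 hXp hXa hXa hXp hpa hpa.symm
    set s := g * u * g⁻¹ with hs
    have hsC : s ∈ Subgroup.centralizer X := mul_mem (mul_mem hg hu) (inv_mem hg)
    have hss : s * s = 1 := by rw [hs]; calc g * u * g⁻¹ * (g * u * g⁻¹) = g * (u * u) * g⁻¹ := by group
      _ = 1 := by rw [huu]; group
    have hs1 : s ≠ 1 := fun e => hu1 (conj_eq_one_iff.mp e)
    have hsA : s ∈ MulAction.stabilizer G a := by
      rw [mem_stabilizer_iff, hs, mul_smul, mul_smul, show g⁻¹ • a = p from inv_smul_eq_iff.mpr hgp.symm, hp, hgp]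
    rw [even_iff_two_dvd, ← orderOf_invol hs1 hss]
    exact Subgroup.orderOf_dvd_natCard _ (Subgroup.mem_inf.mpr ⟨hsC, mem_Q_of_invol hS hsA hss⟩)
  · refine le_antisymm (sup_le (inf_le_inf_left _ hS.le) (inf_le_inf_left _ inf_le_left)) fun g hg => ?_
    obtain ⟨hgC, hgA⟩ := Subgroup.mem_inf.mp hg
    have hgb : g • (t • a) ≠ a := fun h => b_ne hS (MulAction.injective g (h.trans hgA.symm))
    have hfix : ∀ x ∈ X, x • (g • (t • a)) = g • (t • a) := fun x hx => by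
      rw [← mul_smul, hgC x hx, mul_smul, hXb x hx]
    obtain ⟨q, hq, hqb⟩ := comm_Q hS hXA (b_ne hS) hgb hXb hfix
    have hd : q⁻¹ * g ∈ Subgroup.centralizer X ⊓ (MulAction.stabilizer G a ⊓ MulAction.stabilizer G (t • a)) :=
      Subgroup.mem_inf.mpr ⟨mul_mem (inv_mem hq.1) hgC, (mem_D hS).mpr
        ⟨(mul_smul _ _ _).trans ((congrArg (q⁻¹ • ·) (mem_stabilizer_iff.mp hgA)).trans (Q_fix hS (Q.inv_mem hq.2))),
         by rw [mul_smul, ← hqb, inv_smul_smul]⟩⟩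
    rw [show g = q * (q⁻¹ * g) by group]
    exact Subgroup.mul_mem_sup hq hd

end Cfsg.Agent.S1125
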