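import Cfsg.Statements.S1126
import Cfsg.Agent.Lib.RankOne.Setup

set_option autoImplicit false
set_option linter.style.haveILetI false
open Cfsg

namespace Cfsg.Agent.S1126

open MulAction CfsgLib.RankOne

/-- In the rank-one set-up (`G` finite and doubly transitive on `Ω`, `t` an involution moving `a`, `Q` normal in `G_a` with `G_a = Q D`, `Q ⊓ D = 1` for the two-point stabiliser `D = G_a ⊓ G_{t • a}`, `|Q|` even, `|D|` odd), a subset `X ⊆ D` fixing at least three points of `Ω` is conjugate by an element of `D` into `V = C_D(t)`. -/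
theorem result {G Ω : Type*} [Group G] [Finite G] [MulAction G Ω] {a : Ω} {t : G} {Q : Subgroup G}
    (hS : Cfsg.IsRankOneSetup G Ω a t Q)
    (X : Set G) (hX : X ⊆ ((MulAction.stabilizer G a ⊓ MulAction.stabilizer G (t • a)) : Set G))
    (h3 : ∃ b c d : Ω, b ≠ c ∧ b ≠ d ∧ c ≠ d ∧ ∀ x ∈ X, x • b = b ∧ x • c = c ∧ x • d = d) :
    ∃ k ∈ (MulAction.stabilizer G a ⊓ MulAction.stabilizer G (t • a)), ∀ x ∈ X, (k * x * k⁻¹) * t = t * (k * x * k⁻¹) := by
  obtain ⟨u, hu, huu, hua⟩ := fixed_swap hS hX h3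
  have hd := swap_mem hS huu hua
  obtain ⟨hdD, hdt⟩ := (inverted_iff hS).mp hd
  set i := (u * t) ^ ((Nat.card ↥(MulAction.stabilizer G a ⊓ MulAction.stabilizer G (t • a)) + 1) / 2) with hi
  have hiD := pow_mem hdD ((Nat.card ↥(MulAction.stabilizer G a ⊓ MulAction.stabilizer G (t • a)) + 1) / 2)
  rw [← hi] at hiD
  have hii : i * i = u * t := by rw [← pow_two, hi]; exact (sqrt_pow hS.odd_card hdD).1
  have hit : t * i * t = i⁻¹ := by
    rw [hi, ← inv_pow, ← hdt]
    have := conj_pow (a := t) (b := u * t) (i := (Nat.card ↥(MulAction.stabilizer G a ⊓ MulAction.stabilizer G (t • a)) + 1) / 2)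
    rw [t_inv hS] at this
    exact this.symm
  refine ⟨i⁻¹, inv_mem hiD, fun x hx => ?_⟩
  have e1 : i * t * i⁻¹ = u := by
    calc i * t * i⁻¹ = i * t * (t * i * t) := by rw [hit]
      _ = i * i * t := by simp only [mul_assoc, invol_cancel hS.mul_self]
      _ = u := by rw [hii, mul_assoc, hS.mul_self, mul_one]
  have h := hu x hx
  rw [← e1] at h
  rw [inv_inv]
  calc i⁻¹ * x * i * t = i⁻¹ * (x * (i * t * i⁻¹)) * i := by group
    _ = i⁻¹ * (i * t * i⁻¹ * x) * i := by rw [h]
    _ = t * (i⁻¹ * x * i) := by group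

end Cfsg.Agent.S1126
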