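import Cfsg.Statements.S1131
import Cfsg.Agent.Lib.RankOne.Torus
set_option autoImplicit false
open Cfsg

namespace Cfsg.Agent.S1131

open CfsgLib.RankOne

/-- In the rank-one set-up (`G` finite and doubly transitive on `Ω`, `t` an involution moving `a`, `Q` normal in `G_a` with `G_a = Q D`, `Q ⊓ D = 1` for the two-point stabiliser `D = G_a ⊓ G_{t • a}`, `|Q|` even, `|D|` odd), with the action faithful and `G` containing two distinct commuting involutions: the set `K` of elements of `D` inverted by `t` is (the underlying set of) a cyclic subgroup normal in `D`. -/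
theorem result {G Ω : Type*} [Group G] [Finite G] [MulAction G Ω] [FaithfulSMul G Ω] {a : Ω} {t : G} {Q : Subgroup G}
    (hS : Cfsg.IsRankOneSetup G Ω a t Q)
    (h2 : ∃ x y : G, x ≠ 1 ∧ y ≠ 1 ∧ x ≠ y ∧ x * x = 1 ∧ y * y = 1 ∧ x * y = y * x) :
    ∃ C : Subgroup G, (C : Set G) = Cfsg.invertedBy (MulAction.stabilizer G a ⊓ MulAction.stabilizer G (t • a)) t ∧ IsCyclic C ∧
      ∀ d ∈ (MulAction.stabilizer G a ⊓ MulAction.stabilizer G (t • a)), ∀ c ∈ C, d * c * d⁻¹ ∈ C := by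
  obtain ⟨i₀, hi₀, hgen⟩ := Torus.inverted_cyclic hS h2
  have hmem : ∀ x, x ∈ Subgroup.zpowers i₀ ↔
      x ∈ Cfsg.invertedBy (MulAction.stabilizer G a ⊓ MulAction.stabilizer G (t • a)) t := by
    refine fun x => ⟨fun hx => ?_, fun hx => ?_⟩
    · obtain ⟨n, rfl⟩ := Subgroup.mem_zpowers_iff.mp hx
      exact ⟨zpow_mem hi₀.1 n, by rw [← conj_zpow, hi₀.2, inv_zpow]⟩
    · obtain ⟨n, rfl⟩ := hgen x hx
      exact pow_mem (Subgroup.mem_zpowers i₀) n
  refine ⟨Subgroup.zpowers i₀, Set.ext hmem, inferInstance, fun d hd x hx => ?_⟩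
  obtain ⟨c, i, hc, hct, hi, hit, rfl⟩ :=
    exists_decomp hS.mul_self hS.odd_card (fun x hx => conj_t_mem hS hx) hd
  have hiC : i ∈ Subgroup.zpowers i₀ := (hmem i).mpr ((inverted_iff hS).mpr ⟨hi, hit⟩)
  obtain ⟨n, rfl⟩ := Subgroup.mem_zpowers_iff.mp hiC
  obtain ⟨m, rfl⟩ := Subgroup.mem_zpowers_iff.mp hx
  rw [hmem, inverted_iff hS]
  refine ⟨mul_mem (mul_mem hd ((hmem _).mp hx).1) (inv_mem hd), ?_⟩
  obtain ⟨-, hxt⟩ := (inverted_iff hS).mp ((hmem _).mp hx)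
  have e : c * i₀ ^ n * i₀ ^ m * (c * i₀ ^ n)⁻¹ = c * i₀ ^ m * c⁻¹ := by group
  have h3 : t * c = c * t := by
    calc t * c = t * c * (t * t) := by rw [hS.mul_self, mul_one]
      _ = c * t := by rw [← mul_assoc, hct]
  have h4 : c⁻¹ * t = t * c⁻¹ := (Commute.inv_right (show Commute t c from h3)).eq.symm
  rw [e]
  calc t * (c * i₀ ^ m * c⁻¹) * t = (t * c) * i₀ ^ m * (c⁻¹ * t) := by group
    _ = (c * t) * i₀ ^ m * (t * c⁻¹) := congrArg₂ (fun u v => u * i₀ ^ m * v) h3 h4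
    _ = c * (t * i₀ ^ m * t) * c⁻¹ := by group
    _ = (c * i₀ ^ m * c⁻¹)⁻¹ := by rw [hxt]; group

end Cfsg.Agent.S1131
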