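import Cfsg.Statements.S1132
import Cfsg.Agent.Lib.RankOne.Torus
set_option autoImplicit false
set_option linter.style.haveILetI false
open Cfsg

namespace Cfsg.Agent.S1132

open CfsgLib.RankOne

/-- In the rank-one set-up (`G` finite and doubly transitive on `Ω`, `t` an involution moving `a`, `Q` normal in `G_a` with `G_a = Q D`, `Q ⊓ D = 1` for the two-point stabiliser `D = G_a ⊓ G_{t • a}`, `|Q|` even, `|D|` odd), with the action faithful and `G` containing two distinct commuting involutions: a Sylow 2-subgroup of `Q` is abelian or a Suzuki 2-group. -/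
theorem result {G Ω : Type*} [Group G] [Finite G] [MulAction G Ω] [FaithfulSMul G Ω] {a : Ω} {t : G} {Q : Subgroup G}
    (hS : Cfsg.IsRankOneSetup G Ω a t Q)
    (h2 : ∃ x y : G, x ≠ 1 ∧ y ≠ 1 ∧ x ≠ y ∧ x * x = 1 ∧ y * y = 1 ∧ x * y = y * x)
    (S : Sylow 2 ↥Q) : IsMulCommutative (S : Subgroup ↥Q) ∨ Cfsg.IsSuzukiTwoGroup ↥(S : Subgroup ↥Q) := by
  classical
  haveI : Fact (Nat.Prime 2) := ⟨Nat.prime_two⟩
  haveI := Q_nilpotent hS h2
  by_cases hab : ∀ x y : ↥(S : Subgroup ↥Q), x * y = y * x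
  · exact Or.inl ⟨⟨hab⟩⟩
  push Not at hab
  right
  obtain ⟨i₀, hi₀, hgen⟩ := Torus.inverted_cyclic hS h2
  haveI hSn : (S : Subgroup ↥Q).Normal := Group.normalizerCondition_of_isNilpotent (G := ↥Q) |> fun h =>
    S.normal_of_normalizerCondition h
  have hmem : ∀ q : ↥Q, (∃ n : ℕ, (q : G) ^ 2 ^ n = 1) → q ∈ (S : Subgroup ↥Q) := by
    rintro q ⟨n, hn⟩
    have hp : IsPGroup 2 (Subgroup.zpowers q) := fun g => by
      obtain ⟨_, k, rfl⟩ := g
      refine ⟨n, Subtype.ext ?_⟩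
      show (q ^ k) ^ 2 ^ n = 1
      rw [← zpow_natCast, ← zpow_mul, mul_comm, zpow_mul, zpow_natCast,
        show q ^ 2 ^ n = 1 from Subtype.ext (by simpa using hn), one_zpow]
    obtain ⟨R, hR⟩ := hp.exists_le_sylow
    obtain ⟨g, hg⟩ := MulAction.exists_smul_eq ↥Q S R
    rw [Sylow.smul_eq_of_normal] at hg
    rw [hg]
    exact hR (Subgroup.mem_zpowers q)
  have hpow : ∀ (x : ↥(S : Subgroup ↥Q)), ∃ n : ℕ, ((x : ↥Q) : G) ^ 2 ^ n = 1 := fun x => by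
    obtain ⟨n, hn⟩ := S.isPGroup' x
    exact ⟨n, by simpa using congrArg (fun y : ↥(S : Subgroup ↥Q) => ((y : ↥Q) : G)) hn⟩
  have hconj : ∀ c ∈ MulAction.stabilizer G a, ∀ x : ↥(S : Subgroup ↥Q),
      ∃ y : ↥(S : Subgroup ↥Q), ((y : ↥Q) : G) = c * ((x : ↥Q) : G) * c⁻¹ := fun c hc x => by
    obtain ⟨n, hn⟩ := hpow x
    exact ⟨⟨⟨_, hS.conj_mem c hc _ (x : ↥Q).2⟩, hmem _ ⟨n, by rw [conj_pow, hn]; group⟩⟩, rfl⟩
  choose f hf using hconj
  have hZ : ∀ k ∈ Subgroup.zpowers i₀, k ∈ MulAction.stabilizer G a := fun k hk =>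
    Subgroup.zpowers_le.mpr hi₀.1.1 hk
  have hinj : ∀ {x y : ↥(S : Subgroup ↥Q)}, ((x : ↥Q) : G) = ((y : ↥Q) : G) → x = y :=
    fun h => Subtype.ext (Subtype.ext h)
  let θ : ↥(Subgroup.zpowers i₀) →* MulAut ↥(S : Subgroup ↥Q) :=
    { toFun := fun k =>
        { toFun := fun x => f k (hZ k k.2) x
          invFun := fun x => f (k : G)⁻¹ (hZ _ (inv_mem k.2)) x
          left_inv := fun x => hinj (by rw [hf, hf]; group)
          right_inv := fun x => hinj (by rw [hf, hf]; group)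
          map_mul' := fun x y => hinj (by
            simp only [Subgroup.coe_mul, hf]
            group) }
      map_one' := MulEquiv.ext fun x => hinj (by
        show ((f _ _ x : ↥Q) : G) = ((x : ↥Q) : G)
        rw [hf]
        simp)
      map_mul' := fun k l => MulEquiv.ext fun x => hinj (by
        show ((f _ _ x : ↥Q) : G) = ((f _ _ (f _ _ x) : ↥Q) : G)
        rw [hf, hf, hf, Subgroup.coe_mul]
        group) }
  have hθ : ∀ k x, (((θ k x : ↥(S : Subgroup ↥Q)) : ↥Q) : G) = (k : G) * ((x : ↥Q) : G) * (k : G)⁻¹ :=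
    fun k x => hf _ _ x
  have hI : ∀ k ∈ Subgroup.zpowers i₀,
      k⁻¹ ∈ Cfsg.invertedBy (MulAction.stabilizer G a ⊓ MulAction.stabilizer G (t • a)) t := fun k hk => by
    obtain ⟨n, rfl⟩ := Subgroup.mem_zpowers_iff.mp hk
    rw [← zpow_neg]
    exact ⟨zpow_mem hi₀.1 _, by rw [← conj_zpow, hi₀.2, inv_zpow]⟩
  have hinv : ∀ x : ↥(S : Subgroup ↥Q), x ≠ 1 → x * x = 1 →
      ((x : ↥Q) : G) ∈ Cfsg.involutionsIn (MulAction.stabilizer G a : Set G) := fun x hx hxx =>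
    ⟨hS.le (x : ↥Q).2, fun h => hx (hinj (by simpa using h)),
      by simpa using congrArg (fun y : ↥(S : Subgroup ↥Q) => ((y : ↥Q) : G)) hxx⟩
  have hlift : ∀ s ∈ Cfsg.involutionsIn (MulAction.stabilizer G a : Set G),
      ∃ x : ↥(S : Subgroup ↥Q), ((x : ↥Q) : G) = s ∧ x ≠ 1 ∧ x * x = 1 := fun s hs => by
    refine ⟨⟨⟨s, mem_Q_of_invol hS hs.1 hs.2.2⟩, hmem _ ⟨1, by
      show s ^ 2 ^ 1 = 1
      rw [pow_one, pow_two]; exact hs.2.2⟩⟩, rfl, fun h => hs.2.1 ?_, hinj ?_⟩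
    · exact congrArg (fun y : ↥(S : Subgroup ↥Q) => ((y : ↥Q) : G)) h
    · exact hs.2.2
  obtain ⟨s, s', hs, hs', hne⟩ := exists_two_invol hS h2
  obtain ⟨x, hxs, hx1, hxx⟩ := hlift s hs
  obtain ⟨y, hys, hy1, hyy⟩ := hlift s' hs'
  refine ⟨inferInstance, S.isPGroup', hab,
    ⟨x, y, fun h => hne (by rw [← hxs, ← hys, h]), hx1, hxx, hy1, hyy⟩,
    θ.range, isCyclic_of_surjective θ.rangeRestrict θ.rangeRestrict_surjective, ?_⟩
  intro u w hu huu hw hww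
  obtain ⟨k, hk, hkeq⟩ := transitive hS (hinv u hu huu) (hinv w hw hww)
  obtain ⟨n, hn⟩ := hgen k hk
  have hkm : k⁻¹ ∈ Subgroup.zpowers i₀ := inv_mem (hn ▸ pow_mem (Subgroup.mem_zpowers i₀) n)
  refine ⟨⟨θ ⟨k⁻¹, hkm⟩, ⟨_, rfl⟩⟩, hinj ?_, ?_⟩
  · show ((θ ⟨k⁻¹, hkm⟩ u : ↥Q) : G) = _
    rw [hθ]
    show k⁻¹ * ((u : ↥Q) : G) * k⁻¹⁻¹ = _
    rw [inv_inv, hkeq]
  · rintro ⟨_, l, rfl⟩ hl
    have h5 : (l : G) * ((u : ↥Q) : G) * (l : G)⁻¹ = ((w : ↥Q) : G) := by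
      rw [← hθ]
      exact congrArg (fun y : ↥(S : Subgroup ↥Q) => ((y : ↥Q) : G)) hl
    have h6 : (l : G)⁻¹ = k := inj_any hS (hinv u hu huu) _ (hI l l.2) _ hk (by
      rw [inv_inv, h5, hkeq])
    refine Subtype.ext (congrArg θ (Subtype.ext ?_))
    show (l : G) = k⁻¹
    rw [← h6, inv_inv]

end Cfsg.Agent.S1132
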