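import Cfsg.Statements.S1134
import Cfsg.Agent.Lib.RankOne.Nilpotent

set_option autoImplicit false
set_option linter.style.haveILetI false
open Cfsg

namespace Cfsg.Agent.S1134

open MulAction CfsgLib.RankOne

/-- In the rank-one set-up (`G` finite and doubly transitive on `Ω`, `t` an involution moving `a`, `Q` normal in `G_a` with `G_a = Q D`, `Q ⊓ D = 1` for the two-point stabiliser `D = G_a ⊓ G_{t • a}`, `|Q|` even, `|D|` odd), with the action faithful and `G` containing two distinct commuting involutions, with `V = C_D(t)`: subsets of `V` conjugate in `G` are conjugate in `V`. -/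
theorem result {G Ω : Type*} [Group G] [Finite G] [MulAction G Ω] [FaithfulSMul G Ω] {a : Ω} {t : G} {Q : Subgroup G}
    (hS : Cfsg.IsRankOneSetup G Ω a t Q)
    (h2 : ∃ x y : G, x ≠ 1 ∧ y ≠ 1 ∧ x ≠ y ∧ x * x = 1 ∧ y * y = 1 ∧ x * y = y * x)
    (X : Set G) (hX : X ⊆ (((MulAction.stabilizer G a ⊓ MulAction.stabilizer G (t • a)) ⊓ Subgroup.centralizer {t} : Subgroup G) : Set G)) (g : G)
    (hY : (fun x => g * x * g⁻¹) '' X ⊆ (((MulAction.stabilizer G a ⊓ MulAction.stabilizer G (t • a)) ⊓ Subgroup.centralizer {t} : Subgroup G) : Set G)) :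
    ∃ v ∈ (MulAction.stabilizer G a ⊓ MulAction.stabilizer G (t • a)) ⊓ Subgroup.centralizer {t}, (fun x => v * x * v⁻¹) '' X = (fun x => g * x * g⁻¹) '' X := by
  have hV : ∀ x ∈ X, x ∈ MulAction.stabilizer G a ⊓ MulAction.stabilizer G (t • a) ∧ x * t = t * x := fun x hx =>
    ⟨(Subgroup.mem_inf.mp (hX hx)).1, Subgroup.mem_centralizer_singleton_iff.mp (Subgroup.mem_inf.mp (hX hx)).2⟩
  have hW : ∀ x ∈ X, g * x * g⁻¹ ∈ MulAction.stabilizer G a ⊓ MulAction.stabilizer G (t • a) ∧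
      (g * x * g⁻¹) * t = t * (g * x * g⁻¹) := fun x hx =>
    ⟨(Subgroup.mem_inf.mp (hY ⟨x, hx, rfl⟩)).1,
      Subgroup.mem_centralizer_singleton_iff.mp (Subgroup.mem_inf.mp (hY ⟨x, hx, rfl⟩)).2⟩
  obtain ⟨p, r, -, hp, hu, hpa, -⟩ := exists_pair hS
  have hpb : p ≠ t • a := fun e => hpa (by rw [← hp, e, t_b hS])
  have h3 : ∃ b c d : Ω, b ≠ c ∧ b ≠ d ∧ c ≠ d ∧ ∀ x ∈ X, x • b = b ∧ x • c = c ∧ x • d = d :=
    ⟨a, t • a, p, (b_ne hS).symm, hpa.symm, hpb.symm, fun x hx =>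
      ⟨((mem_D hS).mp (hV x hx).1).1, ((mem_D hS).mp (hV x hx).1).2,
        hu _ (by rw [← mul_smul, ← (hV x hx).2, mul_smul, hp])⟩⟩
  have hfix : ∀ y : Ω, (∀ x ∈ X, (g * x * g⁻¹) • y = y) → ∀ x ∈ X, x • (g⁻¹ • y) = g⁻¹ • y :=
    fun y hy x hx => by
      conv_rhs => rw [← hy x hx]
      rw [mul_smul, mul_smul, inv_smul_smul]
  obtain ⟨h, hh, ha, hb⟩ := fixed_two_trans hS h3 (fun x hx => ((mem_D hS).mp (hV x hx).1).1)
    (fun x hx => ((mem_D hS).mp (hV x hx).1).2)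
    (hfix a (fun x hx => ((mem_D hS).mp (hW x hx).1).1))
    (hfix (t • a) (fun x hx => ((mem_D hS).mp (hW x hx).1).2))
    (b_ne hS).symm (fun e => b_ne hS (MulAction.injective g⁻¹ e).symm)
  have hd : g * h ∈ MulAction.stabilizer G a ⊓ MulAction.stabilizer G (t • a) :=
    (mem_D hS).mpr ⟨by rw [mul_smul, ha, smul_inv_smul], by rw [mul_smul, hb, smul_inv_smul]⟩
  obtain ⟨c, i, hcD, hct, hiD, hit, hci⟩ :=
    exists_decomp hS.mul_self hS.odd_card (fun x hx => conj_t_mem hS hx) hd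
  refine ⟨c, Subgroup.mem_inf.mpr ⟨hcD, Subgroup.mem_centralizer_singleton_iff.mpr ?_⟩,
    Set.image_congr fun x hx => ?_⟩
  · calc c * t = t * c * t * t := by rw [hct]
      _ = t * c := by rw [mul_assoc _ t t, hS.mul_self, mul_one]
  have htt := hS.mul_self
  have e : g * x * g⁻¹ = c * (i * x * i⁻¹) * c⁻¹ := by
    calc g * x * g⁻¹ = (g * h) * x * (g * h)⁻¹ := by
          rw [show (g * h) * x * (g * h)⁻¹ = g * (h * x) * h⁻¹ * g⁻¹ by group,
            ← Subgroup.mem_centralizer_iff.mp hh x hx]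
          group
      _ = _ := by rw [hci]; group
  have htc : ∀ {y : G}, y * t = t * y → t * y * t = y := fun {y} hy => by
    rw [← hy, mul_assoc, htt, mul_one]
  have hinvt : ∀ y : G, t * y⁻¹ * t = (t * y * t)⁻¹ := fun y => by
    rw [mul_inv_rev, mul_inv_rev, invol_inv htt, mul_assoc]
  have e2 : g * x * g⁻¹ = c * (i⁻¹ * x * i) * c⁻¹ := by
    calc g * x * g⁻¹ = t * (g * x * g⁻¹) * t := (htc (hW x hx).2).symm
      _ = (t * c * t) * ((t * i * t) * (t * x * t) * (t * i⁻¹ * t)) * (t * c⁻¹ * t) := by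
          rw [e]; simp only [mul_assoc, invol_cancel htt]
      _ = _ := by rw [hinvt i, hinvt c, hct, hit, htc (hV x hx).2, inv_inv]
  have e3 : i * x * i⁻¹ = i⁻¹ * x * i := mul_left_cancel (mul_right_cancel (e.symm.trans e2))
  have hc2 : Commute (i ^ 2) x := by
    show i ^ 2 * x = x * i ^ 2
    calc i ^ 2 * x = i * (i * x * i⁻¹) * i := by rw [pow_two]; group
      _ = i * (i⁻¹ * x * i) * i := by rw [e3]
      _ = x * i ^ 2 := by rw [pow_two]; group
  have hc' : Commute i x := by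
    have := hc2.pow_left ((Nat.card ↥(MulAction.stabilizer G a ⊓ MulAction.stabilizer G (t • a)) + 1) / 2)
    rwa [(sqrt_pow hS.odd_card hiD).2] at this
  show c * x * c⁻¹ = g * x * g⁻¹
  rw [e, show i * x * i⁻¹ = x by rw [hc'.eq]; group]

end Cfsg.Agent.S1134
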