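import Cfsg.Statements.S1135
import Cfsg.Agent.Lib.RankOne.Nilpotent

set_option autoImplicit false
set_option linter.style.haveILetI false
open Cfsg

namespace Cfsg.Agent.S1135

open MulAction CfsgLib.RankOne

/-- In the rank-one set-up (`G` finite and doubly transitive on `Ω`, `t` an involution moving `a`, `Q` normal in `G_a` with `G_a = Q D`, `Q ⊓ D = 1` for the two-point stabiliser `D = G_a ⊓ G_{t • a}`, `|Q|` even, `|D|` odd), with the action faithful and `G` containing two distinct commuting involutions: if `x = u v` with `u, v` involutions and `x² ≠ 1`, then `x` is conjugate to `u' t` for some involution `u'` of `G_a`, and `|C_G(x)|` is odd. -/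
theorem result {G Ω : Type*} [Group G] [Finite G] [MulAction G Ω] [FaithfulSMul G Ω] {a : Ω} {t : G} {Q : Subgroup G}
    (hS : Cfsg.IsRankOneSetup G Ω a t Q)
    (h2 : ∃ x y : G, x ≠ 1 ∧ y ≠ 1 ∧ x ≠ y ∧ x * x = 1 ∧ y * y = 1 ∧ x * y = y * x)
    (u v : G) (hu1 : u ≠ 1) (hu2 : u * u = 1) (hv1 : v ≠ 1) (hv2 : v * v = 1) (hx : (u * v) * (u * v) ≠ 1) :
    (∃ g : G, ∃ u' ∈ Cfsg.involutionsIn (MulAction.stabilizer G a : Set G), g * (u * v) * g⁻¹ = u' * t) ∧
      Odd (Nat.card ↥(Subgroup.centralizer {u * v})) := by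
  have htt := hS.mul_self
  have conj_sq : ∀ {w : G} (g : G), w * w = 1 → g * w * g⁻¹ * (g * w * g⁻¹) = 1 := fun {w} g hw => by
    calc g * w * g⁻¹ * (g * w * g⁻¹) = g * (w * w) * g⁻¹ := by group
      _ = 1 := by rw [hw]; group
  -- move `v` to `t`
  obtain ⟨g0, hg0⟩ := conj_invol hS hv1 hv2 hS.ne_one htt
  set u0 := g0 * u * g0⁻¹ with hu0
  have hu01 : u0 ≠ 1 := fun e => hu1 (conj_eq_one_iff.mp e)
  obtain ⟨p, hp, -⟩ := exists_fix hS hu01 (conj_sq g0 hu2)
  obtain ⟨p0, r, -, hp0, hu0', hp0a, -⟩ := exists_pair hS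
  obtain ⟨m, hm⟩ := CfsgLib.RankOne.trans hS a p0
  have hmT : m⁻¹ * t * m ∈ Cfsg.involutionsIn (MulAction.stabilizer G a : Set G) := by
    refine ⟨?_, fun e => hS.ne_one ?_, ?_⟩
    · show (m⁻¹ * t * m) • a = a
      rw [mul_smul, mul_smul, hm, hp0, ← hm, inv_smul_smul]
    · calc t = m * (m⁻¹ * t * m) * m⁻¹ := by group
        _ = 1 := by rw [e]; group
    · have := conj_sq m⁻¹ htt
      rwa [inv_inv] at this
  have hpp : p ≠ p0 := fun e => by
    subst e
    have hsA : ∀ {w : G}, w ≠ 1 → w * w = 1 → w • p = p →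
        m⁻¹ * w * m ∈ Cfsg.involutionsIn (MulAction.stabilizer G a : Set G) := fun {w} hw1 hww hwp => by
      refine ⟨?_, fun e => hw1 ?_, ?_⟩
      · show (m⁻¹ * w * m) • a = a
        rw [mul_smul, mul_smul, hm, hwp, ← hm, inv_smul_smul]
      · calc w = m * (m⁻¹ * w * m) * m⁻¹ := by group
          _ = 1 := by rw [e]; group
      · have := conj_sq m⁻¹ hww
        rwa [inv_inv] at this
    obtain ⟨h1, -, -⟩ := hmT
    have hc := invol_central hS h2 (hsA hu01 (conj_sq g0 hu2) hp) (mem_Q_of_invol hS h1 (by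
      have := conj_sq m⁻¹ htt
      rwa [inv_inv] at this))
    have hc2 : u0 * t = t * u0 := by
      calc u0 * t = m * ((m⁻¹ * u0 * m) * (m⁻¹ * t * m)) * m⁻¹ := by group
        _ = m * ((m⁻¹ * t * m) * (m⁻¹ * u0 * m)) * m⁻¹ := by rw [hc]
        _ = t * u0 := by group
    refine hx ?_
    have h4 : g0 * (u * v * (u * v)) * g0⁻¹ = 1 := by
      calc g0 * (u * v * (u * v)) * g0⁻¹
          = u0 * (g0 * v * g0⁻¹) * (u0 * (g0 * v * g0⁻¹)) := by rw [hu0]; group
        _ = u0 * (t * u0) * t := by rw [hg0]; group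
        _ = (u0 * u0) * (t * t) := by rw [← hc2]; group
        _ = 1 := by rw [htt, conj_sq g0 hu2, mul_one]
    exact conj_eq_one_iff.mp h4
  obtain ⟨q, hq, hqp⟩ := Q_trans hS (x := m⁻¹ • p) (y := m⁻¹ • a)
    (fun e => hpp (by rw [← hm, ← e, smul_inv_smul]))
    (fun e => hp0a (by
      have := congrArg (fun y => m • y) e
      simp only [smul_inv_smul] at this
      rw [← hm, ← this]))
  set c := m * q * m⁻¹ with hc
  have hct : c * t = t * c := by
    have h := invol_central hS h2 hmT hq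
    calc c * t = m * (q * (m⁻¹ * t * m)) * m⁻¹ := by rw [hc]; group
      _ = m * ((m⁻¹ * t * m) * q) * m⁻¹ := by rw [h]
      _ = t * c := by rw [hc]; group
  have hcp : c • p = a := by rw [hc, mul_smul, mul_smul, hqp, smul_inv_smul]
  set u' := c * u0 * c⁻¹ with hu'
  have hu'm : u' ∈ Cfsg.involutionsIn (MulAction.stabilizer G a : Set G) := by
    refine ⟨?_, fun e => hu01 (conj_eq_one_iff.mp e), conj_sq c (conj_sq g0 hu2)⟩
    show (c * u0 * c⁻¹) • a = a
    rw [mul_smul, mul_smul, ← hcp, inv_smul_smul, hp]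
  have hconj : (c * g0) * (u * v) * (c * g0)⁻¹ = u' * t := by
    calc (c * g0) * (u * v) * (c * g0)⁻¹ = (c * (g0 * u * g0⁻¹) * c⁻¹) * (c * (g0 * v * g0⁻¹) * c⁻¹) := by group
      _ = u' * (t * c * c⁻¹) := by rw [hg0, hct]
      _ = u' * t := by group
  refine ⟨⟨c * g0, u', hu'm, hconj⟩, ?_⟩
  rw [← Nat.not_even_iff_odd]
  intro hev
  haveI : Fact (Nat.Prime 2) := ⟨Nat.prime_two⟩
  obtain ⟨z0, hz0⟩ := exists_prime_orderOf_dvd_card' (G := ↥(Subgroup.centralizer {u * v})) 2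
    (even_iff_two_dvd.mp hev)
  have hz01 : (z0 : G) ≠ 1 := fun e => by
    rw [← Subgroup.orderOf_coe, e, orderOf_one] at hz0; omega
  have hz02 : (z0 : G) * z0 = 1 := by
    have := pow_orderOf_eq_one (z0 : G)
    rwa [Subgroup.orderOf_coe, hz0, pow_two] at this
  have hz0c : (z0 : G) * (u * v) = (u * v) * z0 :=
    Subgroup.mem_centralizer_singleton_iff.mp z0.2
  set z := (c * g0) * (z0 : G) * (c * g0)⁻¹ with hz
  set x := u' * t with hxdef
  have hzx : z * x = x * z := by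
    calc z * x = z * ((c * g0) * (u * v) * (c * g0)⁻¹) := by rw [hconj]
      _ = (c * g0) * ((z0 : G) * (u * v)) * (c * g0)⁻¹ := by rw [hz]; group
      _ = (c * g0) * ((u * v) * z0) * (c * g0)⁻¹ := by rw [hz0c]
      _ = ((c * g0) * (u * v) * (c * g0)⁻¹) * z := by rw [hz]; group
      _ = x * z := by rw [hconj]
  have hz1 : z ≠ 1 := fun e => hz01 (conj_eq_one_iff.mp e)
  have hzz : z * z = 1 := conj_sq _ hz02
  have hx1 : x ≠ 1 := fun e => hx (by
    rw [conj_eq_one_iff.mp (hconj.trans e), one_mul])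
  have hxinv : t * x * t = x⁻¹ := by
    rw [hxdef, mul_inv_rev, invol_inv hu'm.2.2, invol_inv htt]
    simp only [mul_assoc]
    rw [htt, mul_one]
  obtain ⟨w, hw, hwu⟩ := exists_fix hS hz1 hzz
  have hxw : x • w = w := hwu _ (by rw [← mul_smul, hzx, mul_smul, hw])
  have hxtw : x • (t • w) = t • w := by
    have e : x * t = t * x⁻¹ := by rw [← hxinv]; simp only [mul_assoc, invol_cancel htt]
    rw [← mul_smul, e, mul_smul, inv_smul_eq_iff.mpr hxw.symm]
  have hne : w ≠ t • w := fun e => b_ne hS (by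
    have h1 : u' • w = w := by
      rw [hxdef, mul_smul, ← e] at hxw; exact hxw
    have h2' := invol_fix_A hS hu'm.1 hu'm.2.1 hu'm.2.2 h1
    rw [h2'] at e; exact e.symm)
  obtain ⟨f, hfa, hfb⟩ := two_trans hS hne (b_ne hS).symm
  have hk := swap_mem hS (w := f * t * f⁻¹) (conj_sq f htt) (by
    rw [mul_smul, mul_smul, ← hfa, inv_smul_smul, hfb, hfa])
  set i := (f * t * f⁻¹ * t) ^ ((Nat.card ↥(MulAction.stabilizer G a ⊓ MulAction.stabilizer G (t • a)) + 1) / 2) with hi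
  have hii : i * i = f * t * f⁻¹ * t := by rw [← pow_two, hi]; exact (sqrt_pow hS.odd_card hk.1).1
  have himem : i ∈ Cfsg.invertedBy (MulAction.stabilizer G a ⊓ MulAction.stabilizer G (t • a)) t :=
    inverted_pow hk _
  obtain ⟨hiD, hit⟩ := (inverted_iff hS).mp himem
  have hft : f * t * f⁻¹ = i * t * i⁻¹ := by
    calc f * t * f⁻¹ = f * t * f⁻¹ * (t * t) := by rw [htt, mul_one]
      _ = i * i * t := by rw [hii]; group
      _ = i * t * (t * i * t) := by simp only [mul_assoc, invol_cancel htt]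
      _ = i * t * i⁻¹ := by rw [hit]
  set j := i⁻¹ * f with hj
  have hjt : j * t * j⁻¹ = t := by
    calc j * t * j⁻¹ = i⁻¹ * (f * t * f⁻¹) * i := by rw [hj]; group
      _ = t := by rw [hft]; group
  have hjw : j • w = a := by rw [hj, mul_smul, hfa, ((mem_D hS).mp (inv_mem hiD)).1]
  have hjtw : j • (t • w) = t • a := by rw [hj, mul_smul, hfb, ((mem_D hS).mp (inv_mem hiD)).2]
  have hmem : j * x * j⁻¹ ∈ Cfsg.invertedBy (MulAction.stabilizer G a ⊓ MulAction.stabilizer G (t • a)) t := by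
    refine (inverted_iff hS).mpr ⟨(mem_D hS).mpr ⟨?_, ?_⟩, ?_⟩
    · rw [mul_smul, mul_smul, ← hjw, inv_smul_smul, hxw]
    · rw [mul_smul, mul_smul, ← hjtw, inv_smul_smul, hxtw]
    · calc t * (j * x * j⁻¹) * t = (j * t * j⁻¹) * (j * x * j⁻¹) * (j * t * j⁻¹) := by rw [hjt]
        _ = j * (t * x * t) * j⁻¹ := by group
        _ = (j * x * j⁻¹)⁻¹ := by rw [hxinv]; group
  have hzA : j * z * j⁻¹ ∈ MulAction.stabilizer G a := by
    rw [mem_stabilizer_iff, mul_smul, mul_smul, ← hjw, inv_smul_smul, hw]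
  refine hz1 (conj_eq_one_iff.mp (inverted_fpf hS hmem (fun e => hx1 (conj_eq_one_iff.mp e))
    (mem_Q_of_invol hS hzA (conj_sq j hzz)) ?_))
  calc j * z * j⁻¹ * (j * x * j⁻¹) = j * (z * x) * j⁻¹ := by group
    _ = j * (x * z) * j⁻¹ := by rw [hzx]
    _ = j * x * j⁻¹ * (j * z * j⁻¹) := by group

end Cfsg.Agent.S1135
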