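import Cfsg.Statements.S1137
import Cfsg.Agent.Lib.PGroup.SuzukiCenter

set_option autoImplicit false
set_option linter.style.haveILetI false
open Cfsg

namespace Cfsg.Agent.S1137

theorem exists_setting {P : Type*} [Group P] (hP : Cfsg.IsSuzukiTwoGroup P) :
    ∃ K : Subgroup (MulAut P), CfsgLib.SuzukiCenter.Setting K ∧ ∃ x y : P, x * y ≠ y * x := by
  obtain ⟨hfin, htwo, hna, ⟨x, y, hxy, hx, hx2, hy, hy2⟩, K, hKc, hreg⟩ := hP
  haveI := hfin
  haveI : Fact (Nat.Prime 2) := ⟨Nat.prime_two⟩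
  haveI : Nontrivial P := ⟨x, 1, hx⟩
  haveI := htwo.center_nontrivial
  obtain ⟨i, hi0, hi⟩ := (htwo.to_subgroup (Subgroup.center P)).nontrivial_iff_card.mp inferInstance
  obtain ⟨z, hz⟩ := exists_prime_orderOf_dvd_card' (G := Subgroup.center P) 2
    (hi ▸ dvd_pow_self 2 hi0.ne')
  have hz2 : (z : P) * z = 1 := by
    have := pow_orderOf_eq_one z
    rw [hz, pow_two] at this
    exact congrArg Subtype.val this
  have hz1 : (z : P) ≠ 1 := fun h => by
    rw [show z = 1 from Subtype.ext h, orderOf_one] at hz; omega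
  refine ⟨K, ⟨htwo, ?_, ?_, ?_, ?_, x, y, hxy, hx, hx2, hy, hy2⟩, hna⟩
  · haveI := hKc
    exact fun a ha b hb => congrArg Subtype.val (mul_comm' (⟨a, ha⟩ : K) ⟨b, hb⟩)
  · intro v hv g
    by_cases h1 : v = 1
    · simp [h1]
    obtain ⟨k, hk, -⟩ := hreg z v hz1 hz2 h1 hv
    have h := congrArg (k : MulAut P) (Subgroup.mem_center_iff.mp z.2 ((k : MulAut P)⁻¹ g))
    simp only [map_mul, MulAut.apply_inv_self, hk] at h
    exact h
  · intro u v hu hu2 hv hv2
    obtain ⟨k, hk, -⟩ := hreg u v hu hu2 hv hv2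
    exact ⟨k, k.2, hk⟩
  · intro k hk u hu hu2 hku
    obtain ⟨l, -, hl⟩ := hreg u u hu hu2 hu hu2
    have h1 := hl ⟨k, hk⟩ hku
    have h2 := hl 1 rfl
    exact congrArg Subtype.val (h1.trans h2.symm)


/-- In a Suzuki 2-group `P` (a finite non-abelian 2-group with more than one involution admitting a cyclic group of automorphisms regular on its involutions) the involutions are exactly the non-identity central elements, and `Z(P)` is elementary abelian. -/
theorem result {P : Type*} [Group P] (hP : Cfsg.IsSuzukiTwoGroup P) :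
    (∀ x : P, (x ≠ 1 ∧ x * x = 1) ↔ (x ∈ Subgroup.center P ∧ x ≠ 1)) ∧
      ∀ z ∈ Subgroup.center P, z * z = 1 := by
  haveI := hP.1
  obtain ⟨K, hS, hna⟩ := exists_setting hP
  refine ⟨fun x => ⟨fun h => ⟨Subgroup.mem_center_iff.mpr fun g => hS.central x h.2 g, h.1⟩,
    fun h => ⟨h.2, hS.center_sq hna x h.1⟩⟩, hS.center_sq hna⟩

end Cfsg.Agent.S1137
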