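import Cfsg.Statements.S1138
import Cfsg.Agent.S1137
import Cfsg.Agent.Lib.PGroup.SuzukiQuotient

set_option autoImplicit false
set_option linter.style.haveILetI false
open Cfsg

namespace Cfsg.Agent.S1138

/-- Let `P` be a Suzuki 2-group with `|Z(P)| = q`. Then every square lies in `Z(P)` and `P/Z(P)` is abelian (so elementary abelian), `|P| = q²` or `|P| = q³`, and `P` has exponent 4. -/
theorem result {P : Type*} [Group P] (hP : Cfsg.IsSuzukiTwoGroup P) :
    (∀ x : P, x * x ∈ Subgroup.center P) ∧ (∀ x y : P, x⁻¹ * y⁻¹ * x * y ∈ Subgroup.center P) ∧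
      (Nat.card P = Nat.card (Subgroup.center P) ^ 2 ∨ Nat.card P = Nat.card (Subgroup.center P) ^ 3) ∧
      Monoid.exponent P = 4 := by
  haveI := hP.1
  obtain ⟨K, hS, hna⟩ := Cfsg.Agent.S1137.exists_setting hP
  have hh := CfsgLib.SuzukiQuotient.upper_inv_eq_top hS hna
  have hc := CfsgLib.SuzukiQuotient.center_eq hS hna
  refine ⟨fun x => hc ▸ (hh x).1, fun x y => ?_, ?_, ?_⟩
  · rw [hc]
    have h := (hh y⁻¹).2 x⁻¹
    simpa [mul_assoc] using h
  · rw [hc]; exact CfsgLib.SuzukiQuotient.card_cases hS hna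
  · refine Nat.dvd_antisymm (Monoid.exponent_dvd_of_forall_pow_eq_one fun x => ?_) ?_
    · rw [show x ^ 4 = (x * x) * (x * x) by simp [pow_succ, mul_assoc]]
      exact (hh x).1
    · obtain ⟨u, v, huv⟩ := hna
      obtain ⟨x, hx⟩ : ∃ x : P, x * x ≠ 1 := by
        by_contra h
        push Not at h
        exact huv (hS.central v (h v) u)
      have hx2 : x ^ 2 ≠ 1 := by rwa [pow_two]
      have hx4 : x ^ 4 = 1 := by
        rw [show x ^ 4 = (x * x) * (x * x) by simp [pow_succ, mul_assoc]]
        exact (hh x).1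
      haveI : Fact (Nat.Prime 2) := ⟨Nat.prime_two⟩
      have h := orderOf_eq_prime_pow (p := 2) (n := 1) (x := x) (by simpa using hx2) (by simpa using hx4)
      calc 4 = orderOf x := by rw [h]; norm_num
        _ ∣ Monoid.exponent P := Monoid.order_dvd_exponent x

end Cfsg.Agent.S1138
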