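import Cfsg.Statements.S1140
import Mathlib

set_option autoImplicit false
set_option linter.style.haveILetI false
open Cfsg

namespace Cfsg.Agent.S1140

theorem linIndep (F : Type*) [Field F] :
    LinearIndependent F (fun σ : F ≃+* F => ((σ : F →+* F) : F → F)) := by
  have h := (linearIndependent_monoidHom F F).comp (fun σ : F ≃+* F => ((σ : F →+* F) : F →* F))
    (fun σ τ h => RingEquiv.ext fun x => DFunLike.congr_fun h x)
  exact h

section Expansion

variable {F : Type*} [Field F] [Fintype F] [CharP F 2]

noncomputable instance autFintype : Fintype (F ≃+* F) :=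
  @Fintype.ofFinite _ (Finite.of_injective (fun σ : F ≃+* F => (σ : F → F)) DFunLike.coe_injective)

/-- The additive map with given coefficients. -/
noncomputable def combo (c : (F ≃+* F) → F) : F →+ F where
  toFun x := ∑ σ, c σ * σ x
  map_zero' := by simp
  map_add' x y := by simp [mul_add, Finset.sum_add_distrib]

theorem combo_injective : Function.Injective (combo (F := F)) := by
  intro c d h
  have hli := Fintype.linearIndependent_iff.mp (linIndep F) (c - d) (by
    funext x
    have := DFunLike.congr_fun h x
    simp only [combo, AddMonoidHom.coe_mk, ZeroHom.coe_mk] at this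
    simp [sub_mul, Finset.sum_sub_distrib, this])
  funext σ
  exact sub_eq_zero.mp (hli σ)

theorem combo_surjective : Function.Surjective (combo (F := F)) := by
  letI : Algebra (ZMod 2) F := ZMod.algebra F 2
  haveI : Finite (F →+ F) := Finite.of_injective (fun f : F →+ F => (f : F → F)) DFunLike.coe_injective
  set n := Module.finrank (ZMod 2) F with hn
  have hq : Fintype.card F = 2 ^ n := by
    rw [hn, Module.card_eq_pow_finrank (K := ZMod 2), ZMod.card]
  have haut : Nat.card (F ≃+* F) = n := by
    rw [hn, ← IsGalois.card_aut_eq_finrank (ZMod 2) F]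
    let e : (F ≃ₐ[ZMod 2] F) ≃ (F ≃+* F) :=
      { toFun := fun σ => σ.toRingEquiv
        invFun := fun σ => AlgEquiv.ofRingEquiv (f := σ) (fun x => by
          rw [← RingEquiv.coe_toRingHom, ← RingHom.comp_apply,
            Subsingleton.elim ((σ : F →+* F).comp (algebraMap (ZMod 2) F)) (algebraMap (ZMod 2) F)])
        left_inv := fun σ => AlgEquiv.ext fun x => rfl
        right_inv := fun σ => RingEquiv.ext fun x => rfl }
    exact (Nat.card_congr e).symm
  refine (combo_injective.bijective_of_nat_card_le (le_of_eq ?_)).2
  rw [Nat.card_fun, haut, Nat.card_eq_fintype_card (α := F), hq,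
    Nat.card_congr (AddMonoidHom.toZModLinearMapEquiv 2 (M := F) (M₁ := F)).toEquiv,
    Module.natCard_eq_pow_finrank (K := ZMod 2), Module.finrank_linearMap, Nat.card_zmod,
    ← pow_mul, ← hn]

end Expansion

/-- For a finite field `F` of characteristic 2, the automorphisms of `F`, viewed as additive maps `F → F`, are linearly independent over `F` (acting on values) every additive endomorphism of `F` is an `F`-linear combination of them, and every biadditive map `F → F → F` is an `F`-combination of the maps `(x, y) ↦ σ(x) τ(y)`. -/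
theorem result {F : Type*} [Field F] [Fintype F] [CharP F 2] :
    LinearIndependent F (fun σ : F ≃+* F => ((σ : F →+* F) : F → F)) ∧
      (∀ f : F →+ F, ∃ (s : Finset (F ≃+* F)) (c : (F ≃+* F) → F), ∀ x : F, f x = ∑ σ ∈ s, c σ * σ x) ∧
      ∀ B : F →+ F →+ F, ∃ (s : Finset ((F ≃+* F) × (F ≃+* F))) (c : (F ≃+* F) × (F ≃+* F) → F),
        ∀ x y : F, B x y = ∑ p ∈ s, c p * (p.1 x * p.2 y) := by
  refine ⟨linIndep F, fun f => ?_, fun B => ?_⟩
  · obtain ⟨c, rfl⟩ := combo_surjective f
    exact ⟨Finset.univ, c, fun x => rfl⟩
  · choose c hc using fun x => combo_surjective (B x)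
    have hadd : ∀ (σ : F ≃+* F), ∀ x y, c (x + y) σ = c x σ + c y σ := fun σ x y => by
      have h : c (x + y) = c x + c y := combo_injective (AddMonoidHom.ext fun z => by
        have h1 := DFunLike.congr_fun (hc (x + y)) z
        have h2 := DFunLike.congr_fun (hc x) z
        have h3 := DFunLike.congr_fun (hc y) z
        simp only [combo, AddMonoidHom.coe_mk, ZeroHom.coe_mk, Pi.add_apply, add_mul, Finset.sum_add_distrib] at h1 h2 h3 ⊢
        rw [h1, h2, h3, map_add, AddMonoidHom.add_apply])
      exact congrFun h σ
    choose d hd using fun σ => combo_surjective (AddMonoidHom.mk' (fun x => c x σ) (hadd σ))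
    refine ⟨Finset.univ, fun p => d p.2 p.1, fun x y => ?_⟩
    rw [← hc x]
    show ∑ σ, c x σ * σ y = _
    rw [Fintype.sum_prod_type, Finset.sum_comm]
    refine Finset.sum_congr rfl fun σ _ => ?_
    have h := DFunLike.congr_fun (hd σ) x
    simp only [combo, AddMonoidHom.coe_mk, ZeroHom.coe_mk, AddMonoidHom.mk'_apply] at h
    rw [← h, Finset.sum_mul]
    exact Finset.sum_congr rfl fun τ _ => by ring

end Cfsg.Agent.S1140
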