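import Cfsg.Statements.S1160
import Cfsg.Agent.Lib.PGroup.NormalRankTwo

set_option autoImplicit false
set_option linter.style.haveILetI false
open Cfsg

namespace Cfsg.Agent.S1160

open MulAction

section Aux

variable {P E : Type*} [Group P] [AddCommGroup E] [DistribMulAction P E] {p : ℕ} [Fact p.Prime]

/-- The sum of the translates under the powers of an element. -/
def avg (p : ℕ) [NeZero p] (h : P) (v : E) : E := ∑ i : ZMod p, h ^ i.val • v

theorem pow_val_add {h : P} (hh : h ^ p = 1) (i j : ZMod p) :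
    h ^ (i + j).val = h ^ i.val * h ^ j.val := by
  rw [← pow_add, ZMod.val_add]
  exact (pow_eq_pow_mod _ hh).symm

theorem pow_val_mul {h : P} (hh : h ^ p = 1) (i j : ZMod p) :
    (h ^ i.val) ^ j.val = h ^ (i * j).val := by
  rw [← pow_mul, ZMod.val_mul]
  exact pow_eq_pow_mod _ hh

theorem smul_avg {h : P} (hh : h ^ p = 1) (v : E) : h • avg p h v = avg p h v := by
  simp only [avg, Finset.smul_sum, smul_smul]
  refine Fintype.sum_equiv (Equiv.addLeft (1 : ZMod p)) _ _ fun i => ?_
  rw [Equiv.coe_addLeft, pow_val_add hh, ZMod.val_one, pow_one]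

theorem avg_of_fixed {h : P} {v : E} (hv : h • v = v) : avg p h v = p • v := by
  have : ∀ n : ℕ, h ^ n • v = v := fun n => by
    induction n with
    | zero => simp
    | succ n ih => rw [pow_succ, mul_smul, hv, ih]
  simp [avg, this, Finset.sum_const, ZMod.card]

theorem avg_sub {h : P} (hh : h ^ p = 1) (e : E) : avg p h (h • e - e) = 0 := by
  have : avg p h (h • e) = avg p h e := by
    simp only [avg, smul_smul]
    refine Fintype.sum_equiv (Equiv.addRight (1 : ZMod p)) _ _ fun i => ?_
    rw [Equiv.coe_addRight, pow_val_add hh, ZMod.val_one, pow_one]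
  simp only [avg, smul_sub, Finset.sum_sub_distrib] at this ⊢
  rw [this, sub_self]

theorem avg_add (h : P) (u v : E) : avg p h (u + v) = avg p h u + avg p h v := by
  simp [avg, smul_add, Finset.sum_add_distrib]

theorem smul_avg_conj (g h : P) (v : E) : g • avg p h v = avg p (g * h * g⁻¹) (g • v) := by
  simp [avg, Finset.smul_sum, smul_smul, conj_pow]

/-- If `b z^k` fixes `u` with `k ≠ 0`, the `b`-sum of `u` vanishes. -/
theorem avg_zero {b z : P} (hbz : Commute b z) (hz : z ^ p = 1)
    (hfpf : ∀ e : E, z • e = e → e = 0) {k : ZMod p} (hk : k ≠ 0) {u : E}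
    (hu : (b * z ^ k.val) • u = u) : avg p b u = 0 := by
  have h0 : avg p z u = 0 := hfpf _ (smul_avg hz u)
  rw [← h0]
  refine Fintype.sum_equiv ((Equiv.mulLeft₀ (-k) (neg_ne_zero.mpr hk))) _ _ fun i => ?_
  show b ^ i.val • u = z ^ (-k * i).val • u
  have hfix : ∀ n : ℕ, (b * z ^ k.val) ^ n • u = u := fun n => by
    induction n with
    | zero => simp
    | succ n ih => rw [pow_succ, mul_smul, hu, ih]
  conv_rhs => rw [← hfix i.val]
  rw [smul_smul]
  congr 1
  rw [(hbz.pow_right k.val).mul_pow, pow_val_mul hz, ← mul_assoc,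
    ← (hbz.pow_pow i.val (-k * i).val).eq, mul_assoc, ← pow_val_add hz]
  simp

end Aux

/-- Let `p ≠ 2` be prime and `P` a finite `p`-group acting faithfully by additive automorphisms on a finite elementary abelian `q`-group `E` (`q` prime), such that `|P_a|` is the same for all `a ≠ 0`. Then `P` is cyclic and every non-identity element of `P` fixes only `0`. -/
theorem result {P E : Type*} [Group P] [Finite P]
    [AddCommGroup E] [Finite E] [DistribMulAction P E] [FaithfulSMul P E]
    {p q : ℕ} [Fact p.Prime] (hp2 : p ≠ 2) (hP : IsPGroup p P) (hq : q.Prime) (hE : ∀ e : E, q • e = 0)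
    (hconst : ∀ a b : E, a ≠ 0 → b ≠ 0 →
      Nat.card (MulAction.stabilizer P a) = Nat.card (MulAction.stabilizer P b)) :
    IsCyclic P ∧ ∀ g : P, g ≠ 1 → ∀ a : E, g • a = a → a = 0 := by
  classical
  have hpp : p.Prime := Fact.out
  by_cases htriv : ∀ g : P, g = 1
  · haveI : Subsingleton P := ⟨fun x y => (htriv x).trans (htriv y).symm⟩
    exact ⟨isCyclic_of_subsingleton, fun g hg => absurd (htriv g) hg⟩
  push Not at htriv
  obtain ⟨g0, hg0⟩ := htriv
  -- equal cardinality promotes inclusions of stabilisers to equalities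
  have hsame : ∀ u v : E, u ≠ 0 → v ≠ 0 → stabilizer P u ≤ stabilizer P v →
      stabilizer P u = stabilizer P v := fun u v hu hv hle =>
    Subgroup.eq_of_le_of_card_ge hle (hconst v u hv hu).le
  -- the characteristic is not `p`
  have hqp : q ≠ p := by
    rintro rfl
    have hE0 : Nontrivial E := by
      by_contra h
      haveI := not_nontrivial_iff_subsingleton.mp h
      exact hg0 (FaithfulSMul.eq_of_smul_eq_smul fun e : E => Subsingleton.elim _ _)
    obtain ⟨e, he⟩ := exists_ne (0 : E)
    have hdvd : q ∣ Nat.card E := by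
      have := addOrderOf_eq_prime (hE e) he
      rw [← this]; exact addOrderOf_dvd_natCard e
    obtain ⟨w, hw, hw0⟩ := hP.exists_fixed_point_of_prime_dvd_card_of_fixed_point E hdvd
      (a := 0) (fun g => smul_zero g)
    have htop : stabilizer P w = ⊤ := eq_top_iff.mpr fun g _ => hw g
    refine hg0 (FaithfulSMul.eq_of_smul_eq_smul fun x : E => ?_)
    by_cases hx : x = 0
    · rw [hx, smul_zero, smul_zero]
    have hxt : stabilizer P x = ⊤ := Subgroup.eq_top_of_card_eq _ (by
      rw [hconst x w hx hw0.symm, htop, Subgroup.card_top])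
    rw [one_smul]
    exact mem_stabilizer_iff.mp (hxt ▸ Subgroup.mem_top g0)
  have hcancel : ∀ v : E, p • v = 0 → v = 0 := fun v hv => by
    have h1 := addOrderOf_dvd_of_nsmul_eq_zero hv
    have h2 := addOrderOf_dvd_of_nsmul_eq_zero (hE v)
    have h3 := Nat.dvd_gcd h1 h2
    rw [(Nat.coprime_primes hpp hq).mpr hqp.symm] at h3
    exact AddMonoid.addOrderOf_eq_one_iff.mp (Nat.dvd_one.mp h3)
  -- central elements of order `p` are fixed-point-free
  have hcentral : ∀ z : P, (∀ g : P, g * z = z * g) → z ^ p = 1 → z ≠ 1 → ∀ v : E, z • v = v → v = 0 := by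
    intro z hzc hzp hz1 v1 hv1
    by_contra hv10
    obtain ⟨e, he⟩ : ∃ e : E, z • e ≠ e := by
      by_contra h
      push Not at h
      exact hz1 (FaithfulSMul.eq_of_smul_eq_smul fun e : E => by rw [h e, one_smul])
    have hv2 : avg p z (z • e - e) = 0 := avg_sub hzp e
    set v2 := z • e - e with hv2def
    have hv20 : v2 ≠ 0 := sub_ne_zero.mpr he
    have hw : avg p z (v1 + v2) = p • v1 := by rw [avg_add, avg_of_fixed hv1, hv2, add_zero]
    have hle : stabilizer P (v1 + v2) ≤ stabilizer P v1 := by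
      intro g hg
      have h := smul_avg_conj (p := p) g z (v1 + v2)
      rw [show g * z * g⁻¹ = z by rw [hzc g]; group, mem_stabilizer_iff.mp hg, hw, smul_comm] at h
      refine mem_stabilizer_iff.mpr (sub_eq_zero.mp (hcancel _ ?_))
      rw [smul_sub, h, sub_self]
    have hw0 : v1 + v2 ≠ 0 := fun h0 => hv10 (hcancel _ (by rw [← hw, h0]; simp [avg]))
    have hle2 : stabilizer P (v1 + v2) ≤ stabilizer P v2 := fun g hg => by
      have h1 := mem_stabilizer_iff.mp (hle hg)
      have h2 := mem_stabilizer_iff.mp hg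
      rw [smul_add, h1] at h2
      exact add_left_cancel h2
    have heq := (hsame _ _ hw0 hv10 hle).symm.trans (hsame _ _ hw0 hv20 hle2)
    have hz2 : z • v2 = v2 := mem_stabilizer_iff.mp (heq ▸ (mem_stabilizer_iff.mpr hv1 : z ∈ stabilizer P v1))
    exact hv20 (hcancel _ (by rw [← avg_of_fixed hz2, hv2]))
  suffices hcyc : IsCyclic P by
    refine ⟨hcyc, fun g hg v hv => ?_⟩
    letI := hcyc.commGroup
    have hd : p ∣ orderOf g := by
      obtain ⟨n, hn⟩ := IsPGroup.iff_orderOf.mp hP g
      rcases n with _ | n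
      · exact absurd (orderOf_eq_one_iff.mp (by simpa using hn)) hg
      · exact hn ▸ dvd_pow_self p n.succ_ne_zero
    have ho := orderOf_pow_orderOf_div (orderOf_pos g).ne' hd
    refine hcentral (g ^ (orderOf g / p)) (fun x => mul_comm _ _) ?_ (fun e => ?_) v ?_
    · exact orderOf_dvd_iff_pow_eq_one.mp ho.dvd
    · rw [e, orderOf_one] at ho; exact hpp.ne_one ho.symm
    · exact mem_stabilizer_iff.mp (pow_mem (mem_stabilizer_iff.mpr hv) _)
  by_contra hnc
  obtain ⟨A, -, hAn, ⟨hAc, hAe⟩, hAcard⟩ := CfsgLib.CyclicMax.exists_normal_rank_two hP hp2 ⊤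
    inferInstance (fun h => hnc (isCyclic_of_surjective Subgroup.topEquiv (Subgroup.topEquiv : (⊤ : Subgroup P) ≃* P).surjective))
  have hexp : ∀ x ∈ A, x ^ p = 1 := fun x hx => by
    exact hAe x hx
  haveI := hP.isNilpotent
  haveI := hAn
  obtain ⟨z, hz, hz1⟩ := (Subgroup.bot_or_exists_ne_one _).resolve_left
    (CfsgLib.Critical.inf_center_ne_bot A (fun e => by
      rw [e, Subgroup.card_bot] at hAcard
      nlinarith [hpp.one_lt]))
  obtain ⟨hzA, hzZ⟩ := Subgroup.mem_inf.mp hz
  have hzc : ∀ g : P, g * z = z * g := Subgroup.mem_center_iff.mp hzZ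
  have hzp := hexp z hzA
  have hzfpf := hcentral z hzc hzp hz1
  have hordz : orderOf z = p := orderOf_eq_prime hzp hz1
  -- decomposition with respect to any element outside `⟨z⟩`
  have hdec : ∀ b ∈ A, b ∉ Subgroup.zpowers z → ∀ y ∈ A, ∃ i k : ZMod p, y = b ^ i.val * z ^ k.val := by
    intro b hb hbz y hy
    have hbp := hexp b hb
    let f : ZMod p × ZMod p → A := fun ik => ⟨b ^ ik.1.val * z ^ ik.2.val, mul_mem (pow_mem hb _) (pow_mem hzA _)⟩
    have hf : Function.Injective f := by
      rintro ⟨i, k⟩ ⟨i', k'⟩ h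
      have h' : b ^ i.val * z ^ k.val = b ^ i'.val * z ^ k'.val := congrArg Subtype.val h
      have h'' : b ^ (i - i').val = z ^ (k' - k).val := by
        apply mul_left_cancel (a := b ^ i'.val)
        apply mul_right_cancel (b := z ^ k.val)
        rw [← pow_val_add hbp, add_sub_cancel, mul_assoc, ← pow_val_add hzp, sub_add_cancel, h']
      by_cases hi : i - i' = 0
      · rw [hi, ZMod.val_zero, pow_zero] at h''
        have hk : k' - k = 0 := by
          by_contra hk
          have := Nat.le_of_dvd (Nat.pos_of_ne_zero (fun e => hk ((ZMod.val_eq_zero _).mp e)))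
            (orderOf_dvd_of_pow_eq_one h''.symm)
          have := ZMod.val_lt (k' - k)
          omega
        rw [sub_eq_zero] at hi hk
        rw [hi, hk]
      · refine absurd ?_ hbz
        have h3 := congrArg (fun x => x ^ ((i - i')⁻¹).val) h''
        rw [pow_val_mul hbp, mul_inv_cancel₀ hi, ZMod.val_one, pow_one] at h3
        rw [h3]
        exact pow_mem (pow_mem (Subgroup.mem_zpowers z) _) _
    have hbij := hf.bijective_of_nat_card_le (by rw [hAcard, Nat.card_prod, Nat.card_zmod, pow_two])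
    obtain ⟨⟨i, k⟩, hik⟩ := hbij.2 ⟨y, hy⟩
    exact ⟨i, k, (congrArg Subtype.val hik).symm⟩
  obtain ⟨a0, ha0, ha0z⟩ : ∃ a0 ∈ A, a0 ∉ Subgroup.zpowers z := by
    by_contra h
    push Not at h
    have := Nat.le_of_dvd Nat.card_pos (Subgroup.card_dvd_of_le (show A ≤ Subgroup.zpowers z from h))
    rw [hAcard, Nat.card_zpowers, hordz] at this
    nlinarith [hpp.one_lt]
  -- some element of `A` outside `⟨z⟩` has a nonzero fixed vector
  obtain ⟨b, hb, hbz, v, hbv, hv0⟩ : ∃ b ∈ A, b ∉ Subgroup.zpowers z ∧ ∃ v : E, b • v = v ∧ v ≠ 0 := by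
    by_contra h
    push Not at h
    obtain ⟨e, he⟩ : ∃ e : E, e ≠ 0 := by
      by_contra h'
      push Not at h'
      exact hz1 (FaithfulSMul.eq_of_smul_eq_smul fun x : E => by rw [h' x, smul_zero, smul_zero])
    apply he
    apply hcancel
    have hz0 : avg p z e = 0 := hzfpf _ (smul_avg hzp e)
    have hj : ∀ j : ZMod p, avg p (a0 * z ^ j.val) e = 0 := fun j =>
      h _ (mul_mem ha0 (pow_mem hzA _))
        (fun hm => ha0z (((Subgroup.zpowers z).mul_mem_cancel_right (pow_mem (Subgroup.mem_zpowers z) _)).mp hm))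
        _ (smul_avg (hexp _ (mul_mem ha0 (pow_mem hzA _))) e)
    have hrow : ∀ l : ZMod p, ∑ j : ZMod p, (a0 * z ^ j.val) ^ l.val • e = if l = 0 then p • e else 0 := by
      intro l
      split_ifs with hl
      · simp [hl, Finset.sum_const, ZMod.card]
      · have hc : Commute a0 z := hzc a0
        have : ∀ j : ZMod p, (a0 * z ^ j.val) ^ l.val • e = a0 ^ l.val • (z ^ (j * l).val • e) := fun j => by
          rw [(hc.pow_right _).mul_pow, pow_val_mul hzp, mul_smul]
        simp only [this, ← Finset.smul_sum]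
        rw [Fintype.sum_equiv (Equiv.mulRight₀ l hl) (fun j => z ^ (j * l).val • e) (fun j => z ^ j.val • e)
          (fun j => rfl)]
        show a0 ^ l.val • avg p z e = 0
        rw [hz0, smul_zero]
    calc p • e = ∑ l : ZMod p, ∑ j : ZMod p, (a0 * z ^ j.val) ^ l.val • e := by simp [hrow]
      _ = ∑ j : ZMod p, avg p (a0 * z ^ j.val) e := Finset.sum_comm
      _ = 0 := by simp [hj]
  have hbp := hexp b hb
  have hcbz : Commute b z := hzc b
  -- conjugation only shifts by powers of `z`
  have hshift : ∀ g : P, ∃ k : ZMod p, g * b * g⁻¹ = b * z ^ k.val := by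
    haveI : (Subgroup.zpowers z).Normal := ⟨fun w hw g => by
      obtain ⟨j, rfl⟩ := Subgroup.mem_zpowers_iff.mp hw
      rw [Subgroup.mem_center_iff.mp (zpow_mem hzZ j) g, mul_inv_cancel_right]
      exact hw⟩
    set f := QuotientGroup.mk' (Subgroup.zpowers z) with hf
    haveI : (A.map f).Normal := Subgroup.Normal.map inferInstance f (QuotientGroup.mk'_surjective _)
    haveI := (hP.to_quotient (Subgroup.zpowers z)).isNilpotent
    have hne : A.map f ≠ ⊥ := by
      rw [Ne, Subgroup.map_eq_bot_iff, hf, QuotientGroup.ker_mk']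
      exact fun h => hbz (h hb)
    obtain ⟨y, hy, hy1⟩ := (Subgroup.bot_or_exists_ne_one _).resolve_left
      (CfsgLib.Critical.inf_center_ne_bot (A.map f) hne)
    obtain ⟨⟨y0, hy0, rfl⟩, hyc⟩ := Subgroup.mem_inf.mp hy
    obtain ⟨i, k, rfl⟩ := hdec b hb hbz y0 hy0
    have hfz : f z = 1 := (QuotientGroup.eq_one_iff _).mpr (Subgroup.mem_zpowers z)
    simp only [map_mul, map_pow, hfz, one_pow, mul_one] at hyc hy1
    have hi : i ≠ 0 := fun e => hy1 (by rw [e, ZMod.val_zero, pow_zero])
    have hfb : f b ∈ Subgroup.center _ := by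
      have := Subgroup.pow_mem _ hyc (i⁻¹).val
      rwa [← map_pow, ← map_pow, pow_val_mul hbp, mul_inv_cancel₀ hi, ZMod.val_one, pow_one] at this
    intro g
    have h1 : b⁻¹ * (g * b * g⁻¹) ∈ Subgroup.zpowers z := by
      rw [← QuotientGroup.eq_one_iff]
      show f (b⁻¹ * (g * b * g⁻¹)) = 1
      rw [map_mul, map_mul, map_mul, map_inv, map_inv, Subgroup.mem_center_iff.mp hfb (f g)]
      group
    obtain ⟨n, hn⟩ := mem_powers_iff_mem_zpowers.mpr h1
    refine ⟨(n : ZMod p), ?_⟩
    rw [ZMod.val_natCast, ← pow_eq_pow_mod n hzp]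
    calc g * b * g⁻¹ = b * (b⁻¹ * (g * b * g⁻¹)) := (mul_inv_cancel_left _ _).symm
      _ = b * z ^ n := by rw [← hn]
  obtain ⟨x, hx⟩ : ∃ x : P, x * b * x⁻¹ ≠ b := by
    by_contra h
    push Not at h
    exact hv0 (hcentral b (fun g => mul_inv_eq_iff_eq_mul.mp (h g)) hbp
      (fun e => hbz (e ▸ one_mem _)) v hbv)
  obtain ⟨k, hk⟩ := hshift x
  have hk0 : k ≠ 0 := fun e => hx (by rw [hk, e, ZMod.val_zero, pow_zero, mul_one])
  set v' := x • v with hv'
  have hv'fix : (b * z ^ k.val) • v' = v' := by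
    rw [← hk, hv', smul_smul, inv_mul_cancel_right, mul_smul, hbv]
  have hv'0 : v' ≠ 0 := fun h => hv0 (by
    rwa [hv', smul_eq_zero_iff_eq] at h)
  have hzz : ∀ i j : ZMod p, b * z ^ i.val * z ^ j.val = b * z ^ (i + j).val := fun i j => by
    rw [mul_assoc, pow_val_add hzp]
  have hzero : ∀ {l l' : ZMod p} {u : E}, l ≠ l' → (b * z ^ l.val) • u = u →
      avg p (b * z ^ l'.val) u = 0 := fun {l l' u} hne hu =>
    avg_zero (hcbz.mul_left (Commute.pow_self z _))
      hzp hzfpf (k := l - l') (sub_ne_zero.mpr hne) (by rw [hzz, add_sub_cancel]; exact hu)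
  have hb0 : b * z ^ (0 : ZMod p).val = b := by rw [ZMod.val_zero, pow_zero, mul_one]
  have hvfix : (b * z ^ (0 : ZMod p).val) • v = v := by rw [hb0]; exact hbv
  have hw : avg p b (v + v') = p • v := by
    have := hzero hk0 hv'fix
    rw [hb0] at this
    rw [avg_add, avg_of_fixed hbv, this, add_zero]
  have hw0 : v + v' ≠ 0 := fun h0 => hv0 (hcancel _ (by rw [← hw, h0]; simp [avg]))
  have hle : stabilizer P (v + v') ≤ stabilizer P v := by
    intro g hg
    rw [mem_stabilizer_iff] at hg ⊢
    obtain ⟨l, hl⟩ := hshift g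
    have hgv : avg p (b * z ^ l.val) (v + v') = p • (g • v) := by
      rw [← hl]
      have h := smul_avg_conj (p := p) g b (v + v')
      rw [hw, hg, smul_comm] at h
      exact h.symm
    rw [avg_add] at hgv
    have hgv0 : g • v ≠ 0 := fun h => hv0 ((smul_eq_zero_iff_eq g).mp h)
    by_cases hl0 : l = 0
    · subst hl0
      rw [hzero hk0 hv'fix, avg_of_fixed hvfix, add_zero] at hgv
      exact (sub_eq_zero.mp (hcancel _ (by rw [smul_sub, hgv, sub_self]))).symm
    rw [hzero (Ne.symm hl0) hvfix, zero_add] at hgv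
    by_cases hlk : l = k
    · subst hlk
      rw [avg_of_fixed hv'fix] at hgv
      have hgv' : g • v = v' := (sub_eq_zero.mp (hcancel _ (by rw [smul_sub, hgv, sub_self]))).symm
      have hgv'' : g • v' = v := by
        have := hg
        rw [smul_add, hgv', add_comm v v'] at this
        exact add_left_cancel this
      -- then `v` is fixed by `b z ^ (2 l)`
      have h2 : (b * z ^ (l + l).val) • v = v := by
        have e : g * (b * z ^ l.val) * g⁻¹ = b * z ^ (l + l).val := by
          calc g * (b * z ^ l.val) * g⁻¹ = g * b * g⁻¹ * (g * z ^ l.val * g⁻¹) := by group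
            _ = b * z ^ l.val * z ^ l.val := by
                rw [hl, show g * z ^ l.val = z ^ l.val * g from (Commute.pow_right (hzc g) _).eq]; group
            _ = _ := hzz l l
        rw [← e, ← hgv'', smul_smul, inv_mul_cancel_right, mul_smul, hv'fix]
      have h2l : l + l ≠ 0 := by
        intro e
        have h2' : (2 : ZMod p) * l = 0 := by rw [two_mul]; exact e
        rcases mul_eq_zero.mp h2' with h | h
        · have : ((2 : ℕ) : ZMod p) = 0 := by simpa using h
          rw [ZMod.natCast_eq_zero_iff] at this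
          exact hp2 ((Nat.prime_dvd_prime_iff_eq hpp Nat.prime_two).mp this)
        · exact hl0 h
      exfalso
      have h3 := hzero h2l h2
      rw [hb0, avg_of_fixed hbv] at h3
      exact hv0 (hcancel _ h3)
    · rw [hzero (Ne.symm hlk) hv'fix] at hgv
      exact absurd (hcancel _ hgv.symm) hgv0
  have hle2 : stabilizer P (v + v') ≤ stabilizer P v' := fun g hg => by
    have h1 := mem_stabilizer_iff.mp (hle hg)
    have h2 := mem_stabilizer_iff.mp hg
    rw [smul_add, h1] at h2
    exact add_left_cancel h2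
  have heq := (hsame _ _ hw0 hv0 hle).symm.trans (hsame _ _ hw0 hv'0 hle2)
  have hbv' : b • v' = v' := mem_stabilizer_iff.mp (heq ▸ (mem_stabilizer_iff.mpr hbv : b ∈ stabilizer P v))
  have h3 := hzero (Ne.symm hk0 : (0 : ZMod p) ≠ k) (u := v') (by rw [hb0]; exact hbv')
  rw [avg_of_fixed hv'fix] at h3
  exact hv'0 (hcancel _ h3)

end Cfsg.Agent.S1160
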