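import Cfsg.Statements.S1165
import Cfsg.Agent.Lib.RankOne.Setup

set_option autoImplicit false
set_option linter.style.haveILetI false
open Cfsg

namespace Cfsg.Agent.S1165

open MulAction CfsgLib.RankOne

/-- In the rank-one set-up (`G` finite and doubly transitive on `Ω`, `t` an involution moving `a`, `Q` normal in `G_a` with `G_a = Q D`, `Q ⊓ D = 1` for the two-point stabiliser `D = G_a ⊓ G_{t • a}`, `|Q|` even, `|D|` odd): every `x ∈ Q`, `x ≠ 1`, determines unique `g, f ∈ Q`, `h ∈ D` with `t x t = g h t f` (a consequence of the canonical form). For these: (H1) the `f`-part of `x⁻¹` is `g⁻¹`; (H2) the `f`-part of `f` is `x`; (H3) for `a ∈ D` the `f`-part of `a⁻¹ x a` is `(t a t)⁻¹ f (t a t)`; (H4) the `h`-part of `a⁻¹ x a` is `(t a t)⁻¹ h a`, that of `x⁻¹` is `t h⁻¹ t`, and that of `f` is `h⁻¹`. -/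
theorem result {G Ω : Type*} [Group G] [Finite G] [MulAction G Ω] {a : Ω} {t : G} {Q : Subgroup G}
    (hS : Cfsg.IsRankOneSetup G Ω a t Q)
    (x g h f : G) (hx : x ∈ Q) (hx1 : x ≠ 1) (hg : g ∈ Q) (hh : h ∈ (MulAction.stabilizer G a ⊓ MulAction.stabilizer G (t • a))) (hf : f ∈ Q)
    (heq : t * x * t = g * h * t * f) :
    (∀ g₁ h₁ f₁ : G, g₁ ∈ Q → h₁ ∈ (MulAction.stabilizer G a ⊓ MulAction.stabilizer G (t • a)) → f₁ ∈ Q → t * x⁻¹ * t = g₁ * h₁ * t * f₁ →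
        f₁ = g⁻¹ ∧ h₁ = t * h⁻¹ * t) ∧
      (∀ g₂ h₂ f₂ : G, g₂ ∈ Q → h₂ ∈ (MulAction.stabilizer G a ⊓ MulAction.stabilizer G (t • a)) → f₂ ∈ Q → t * f * t = g₂ * h₂ * t * f₂ →
        f₂ = x ∧ h₂ = h⁻¹) ∧
      ∀ c ∈ (MulAction.stabilizer G a ⊓ MulAction.stabilizer G (t • a)), ∀ g₃ h₃ f₃ : G, g₃ ∈ Q → h₃ ∈ (MulAction.stabilizer G a ⊓ MulAction.stabilizer G (t • a)) → f₃ ∈ Q →
        t * (c⁻¹ * x * c) * t = g₃ * h₃ * t * f₃ →
          f₃ = (t * c * t)⁻¹ * f * (t * c * t) ∧ h₃ = (t * c * t)⁻¹ * h * c := by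
  have htt := hS.mul_self
  have conjD : ∀ {d : G}, d ∈ MulAction.stabilizer G a ⊓ MulAction.stabilizer G (t • a) →
      t * d * t ∈ MulAction.stabilizer G a ⊓ MulAction.stabilizer G (t • a) := fun hd => conj_t_mem hS hd
  have conjQ : ∀ {d q : G}, d ∈ MulAction.stabilizer G a ⊓ MulAction.stabilizer G (t • a) → q ∈ Q → d * q * d⁻¹ ∈ Q :=
    fun hd hq => hS.conj_mem _ hd.1 _ hq
  have ht := CfsgLib.RankOne.t_inv hS
  refine ⟨fun g₁ h₁ f₁ hg₁ hh₁ hf₁ e => ?_, fun g₂ h₂ f₂ hg₂ hh₂ hf₂ e => ?_, fun c hc g₃ h₃ f₃ hg₃ hh₃ hf₃ e => ?_⟩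
  · have e' : f⁻¹ * (t * h⁻¹ * t) * t * g⁻¹ = g₁ * h₁ * t * f₁ := by
      rw [← e]
      calc f⁻¹ * (t * h⁻¹ * t) * t * g⁻¹ = f⁻¹ * t * h⁻¹ * (t * t) * g⁻¹ := by group
        _ = f⁻¹ * t * h⁻¹ * g⁻¹ := by rw [htt, mul_one]
        _ = (g * h * t * f)⁻¹ := by simp only [mul_inv_rev, ht, mul_assoc]
        _ = (t * x * t)⁻¹ := by rw [heq]
        _ = t * x⁻¹ * t := by simp only [mul_inv_rev, ht, mul_assoc]
    obtain ⟨-, e2, e3⟩ := form_unique hS (Q.inv_mem hf) (conjD (inv_mem hh)) (Q.inv_mem hg) hg₁ hh₁ hf₁ e'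
    exact ⟨e3.symm, e2.symm⟩
  · have e' : (h⁻¹ * g⁻¹ * h⁻¹⁻¹) * h⁻¹ * t * x = g₂ * h₂ * t * f₂ := by
      rw [← e]
      calc (h⁻¹ * g⁻¹ * h⁻¹⁻¹) * h⁻¹ * t * x = h⁻¹ * g⁻¹ * (t * x * t) * t := by
            simp only [mul_assoc, htt, mul_one, inv_inv, mul_inv_cancel_left]
        _ = h⁻¹ * g⁻¹ * (g * h * t * f) * t := by rw [heq]
        _ = t * f * t := by group
    obtain ⟨-, e2, e3⟩ := form_unique hS (conjQ (inv_mem hh) (Q.inv_mem hg)) (inv_mem hh) hx hg₂ hh₂ hf₂ e'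
    exact ⟨e3.symm, e2.symm⟩
  · set c' := t * c * t with hc'
    have hc'D := conjD hc
    rw [← hc'] at hc'D
    have e1 : t * c' = c * t := by rw [hc']; simp only [mul_assoc, invol_cancel htt]
    have e' : (c'⁻¹ * g * c'⁻¹⁻¹) * (c'⁻¹ * h * c) * t * (c'⁻¹ * f * c') = g₃ * h₃ * t * f₃ := by
      rw [← e]
      calc (c'⁻¹ * g * c'⁻¹⁻¹) * (c'⁻¹ * h * c) * t * (c'⁻¹ * f * c')
          = c'⁻¹ * g * h * (c * t) * (c'⁻¹ * f * c') := by group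
        _ = c'⁻¹ * g * h * (t * c') * (c'⁻¹ * f * c') := by rw [e1]
        _ = c'⁻¹ * (g * h * t * f) * c' := by group
        _ = c'⁻¹ * (t * x * t) * c' := by rw [heq]
        _ = (t * c * t)⁻¹ * (t * x * t) * (t * c * t) := by rw [hc']
        _ = t * (c⁻¹ * x * c) * t := by simp only [mul_inv_rev, ht, mul_assoc, invol_cancel htt]
    have hq3 : c'⁻¹ * f * c' ∈ Q := by
      have := conjQ (inv_mem hc'D) hf; rwa [inv_inv] at this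
    obtain ⟨-, e2, e3⟩ := form_unique hS (conjQ (inv_mem hc'D) hg)
      (mul_mem (mul_mem (inv_mem hc'D) hh) hc) hq3 hg₃ hh₃ hf₃ e'
    exact ⟨e3.symm, e2.symm⟩

end Cfsg.Agent.S1165
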