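import Cfsg.Statements.S1166
import Cfsg.Agent.Lib.RankOne.Setup

set_option autoImplicit false
set_option linter.style.haveILetI false
open Cfsg

namespace Cfsg.Agent.S1166

open MulAction CfsgLib.RankOne

/-- In the rank-one set-up (`G` finite and doubly transitive on `Ω`, `t` an involution moving `a`, `Q` normal in `G_a` with `G_a = Q D`, `Q ⊓ D = 1` for the two-point stabiliser `D = G_a ⊓ G_{t • a}`, `|Q|` even, `|D|` odd), with `t x t = g_x h_x t f_x` and `t y t = g_y h_y t f_y` (`g, f ∈ Q`, `h ∈ D`) for `x, y ∈ Q ∖ 1` with `x y ≠ 1`: then `z = f_x g_y ≠ 1`, and if `t z t = g_z h_z t f_z` and `t (x y) t = g' h' t f'` then `f' = (t h_y t)⁻¹ f_z (t h_y t) f_y` and `h' = h_x h_z h_y` (H6). -/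
theorem result {G Ω : Type*} [Group G] [Finite G] [MulAction G Ω] {a : Ω} {t : G} {Q : Subgroup G}
    (hS : Cfsg.IsRankOneSetup G Ω a t Q)
    (x y gx hx fx gy hy fy : G) (hxQ : x ∈ Q) (hx1 : x ≠ 1) (hyQ : y ∈ Q) (hy1 : y ≠ 1) (hxy : x * y ≠ 1)
    (hgx : gx ∈ Q) (hhx : hx ∈ (MulAction.stabilizer G a ⊓ MulAction.stabilizer G (t • a))) (hfx : fx ∈ Q) (ex : t * x * t = gx * hx * t * fx)
    (hgy : gy ∈ Q) (hhy : hy ∈ (MulAction.stabilizer G a ⊓ MulAction.stabilizer G (t • a))) (hfy : fy ∈ Q) (ey : t * y * t = gy * hy * t * fy) :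
    fx * gy ≠ 1 ∧
      ∀ gz hz fz g' h' f' : G, gz ∈ Q → hz ∈ (MulAction.stabilizer G a ⊓ MulAction.stabilizer G (t • a)) → fz ∈ Q → t * (fx * gy) * t = gz * hz * t * fz →
        g' ∈ Q → h' ∈ (MulAction.stabilizer G a ⊓ MulAction.stabilizer G (t • a)) → f' ∈ Q → t * (x * y) * t = g' * h' * t * f' →
          f' = (t * hy * t)⁻¹ * fz * (t * hy * t) * fy ∧ h' = hx * hz * hy := by
  have htt := hS.mul_self
  have conjQ : ∀ {d q : G}, d ∈ MulAction.stabilizer G a ⊓ MulAction.stabilizer G (t • a) → q ∈ Q → d * q * d⁻¹ ∈ Q :=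
    fun hd hq => hS.conj_mem _ hd.1 _ hq
  have hyD := conj_t_mem hS hhy
  have e0 : t * (x * y) * t = gx * hx * t * (fx * gy) * hy * t * fy := by
    calc t * (x * y) * t = (t * x * t) * (t * y * t) := by simp only [mul_assoc, invol_cancel htt]
      _ = _ := by rw [ex, ey]; group
  refine ⟨fun h1 => ?_, fun gz hz fz g' h' f' hgz hhz hfz ez hg' hh' hf' e' => ?_⟩
  · have hA : t * (x * y) * t ∈ MulAction.stabilizer G a := by
      rw [e0, h1, mul_one, show gx * hx * t * hy * t * fy = gx * hx * (t * hy * t) * fy by group]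
      exact mul_mem (mul_mem (mul_mem (hS.le hgx) hhx.1) hyD.1) (hS.le hfy)
    rw [mem_stabilizer_iff, mul_smul, mul_smul] at hA
    refine hxy (Q_free hS (Q.mul_mem hxQ hyQ) (b_ne hS) ?_)
    have h2 := congrArg (fun z => t • z) hA
    simp only [← mul_smul] at h2
    rwa [← mul_assoc, ← mul_assoc, htt, one_mul, mul_smul] at h2
  · set w := t * hy * t with hw
    have e1 : t * w = hy * t := by rw [hw]; simp only [mul_assoc, invol_cancel htt]
    have e2 : (gx * (hx * gz * hx⁻¹)) * (hx * hz * hy) * t * (w⁻¹ * fz * w * fy) = g' * h' * t * f' := by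
      rw [← e', e0]
      calc (gx * (hx * gz * hx⁻¹)) * (hx * hz * hy) * t * (w⁻¹ * fz * w * fy)
          = gx * hx * gz * hz * (hy * t) * (w⁻¹ * fz * w * fy) := by group
        _ = gx * hx * gz * hz * (t * w) * (w⁻¹ * fz * w * fy) := by rw [e1]
        _ = gx * hx * (gz * hz * t * fz) * w * fy := by group
        _ = gx * hx * (t * (fx * gy) * t) * (t * hy * t) * fy := by rw [ez, hw]
        _ = gx * hx * t * (fx * gy) * hy * t * fy := by simp only [mul_assoc, invol_cancel htt]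
    have hq : w⁻¹ * fz * w * fy ∈ Q := by
      have := conjQ (inv_mem hyD) hfz
      rw [inv_inv] at this
      exact Q.mul_mem this hfy
    obtain ⟨-, a2, a3⟩ := form_unique hS (Q.mul_mem hgx (conjQ hhx hgz)) (mul_mem (mul_mem hhx hhz) hhy) hq hg' hh' hf' e2
    exact ⟨a3.symm, a2.symm⟩

end Cfsg.Agent.S1166
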