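import Cfsg.Statements.S1168
import Mathlib
-- import your own Cfsg.Agent.* helpers here

set_option autoImplicit false
open Cfsg

namespace Cfsg.Agent.S1168

/-- Over a finite field every linear map over the prime field is a combination of automorphisms. -/
theorem linearMap_mem_span {k F : Type*} [Field k] [Finite k] [Field F] [Finite F] [Algebra k F]
    (φ : F →ₗ[k] F) :
    φ ∈ Submodule.span F (Set.range fun σ : F ≃ₐ[k] F => σ.toLinearMap) := by
  have : Fintype (F ≃ₐ[k] F) := Fintype.ofFinite _
  have hli : LinearIndependent F (fun σ : F ≃ₐ[k] F => σ.toLinearMap) := by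
    have h := (linearIndependent_monoidHom F F).comp (fun σ : F ≃ₐ[k] F => (σ : F →* F))
      (fun a b h => AlgEquiv.ext fun x => DFunLike.congr_fun h x)
    let L : (F →ₗ[k] F) →ₗ[F] (F → F) :=
      { toFun := fun g => ⇑g
        map_add' := fun _ _ => rfl
        map_smul' := fun _ _ => rfl }
    exact LinearIndependent.of_comp L h
  have hcard : Fintype.card (F ≃ₐ[k] F) = Module.finrank F (F →ₗ[k] F) := by
    rw [Module.finrank_linearMap_self, ← Nat.card_eq_fintype_card, IsGalois.card_aut_eq_finrank]
  rw [hli.span_eq_top_of_card_eq_finrank' hcard]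
  exact Submodule.mem_top

/-- For a finite field `F` of characteristic 2: if `q : F → F` is quadratic over the prime field, i.e. `(x, y) ↦ q (x + y) + q x + q y` is additive in each variable, then `q x = Σ c_{σ,τ} σ(x) τ(x)` for some coefficients indexed by pairs of field automorphisms. -/
theorem result {F : Type*} [Field F] [Fintype F] [CharP F 2]
    (q : F → F)
    (hq : ∀ x y z : F, q (x + y + z) + q (x + y) + q (x + z) + q (y + z) + q x + q y + q z = 0) :
    ∃ (s : Finset ((F ≃+* F) × (F ≃+* F))) (c : (F ≃+* F) × (F ≃+* F) → F),
      ∀ x : F, q x = ∑ p ∈ s, c p * (p.1 x * p.2 x) := by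
  classical
  let : Algebra (ZMod 2) F := ZMod.algebra F 2
  have h2 : ∀ a : F, a + a = 0 := CharTwo.add_self_eq_zero
  let b := Module.finBasis (ZMod 2) F
  let S : Submodule F (F → F) :=
    Submodule.span F (Set.range fun p : (F ≃+* F) × (F ≃+* F) => fun x => p.1 x * p.2 x)
  -- products of two linear maps lie in `S`
  have hprod : ∀ φ ψ : F →ₗ[ZMod 2] F, (fun x => φ x * ψ x) ∈ S := by
    intro φ ψ
    induction linearMap_mem_span φ using Submodule.span_induction with
    | mem φ hφ =>
      obtain ⟨σ, rfl⟩ := hφ
      induction linearMap_mem_span ψ using Submodule.span_induction with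
      | mem ψ hψ =>
        obtain ⟨τ, rfl⟩ := hψ
        exact Submodule.subset_span ⟨((σ : F ≃+* F), (τ : F ≃+* F)), rfl⟩
      | zero => convert S.zero_mem using 1; funext x; simp
      | add u v _ _ hu hv => convert S.add_mem hu hv using 1; funext x; simp [mul_add]
      | smul c u _ hu => convert S.smul_mem c hu using 1; funext x; simp; ring
    | zero => convert S.zero_mem using 1; funext x; simp
    | add u v _ _ hu hv => convert S.add_mem hu hv using 1; funext x; simp [add_mul]
    | smul c u _ hu => convert S.smul_mem c hu using 1; funext x; simp; ring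
  let a : Fin (Module.finrank (ZMod 2) F) → (F →ₗ[ZMod 2] F) := fun i =>
    (Algebra.linearMap (ZMod 2) F).comp (b.coord i)
  have ha : ∀ i x, a i x = 0 ∨ a i x = 1 := fun i x => by
    have h01 : ∀ t : ZMod 2, t = 0 ∨ t = 1 := by decide
    rcases h01 (b.coord i x) with h | h <;> simp [a, show (b.repr x) i = _ from h]
  have hq0 : q 0 = 0 := by
    have := hq 0 0 0
    simp only [add_zero] at this
    linear_combination this - 3 * h2 (q 0)
  let B : F → F → F := fun x y => q (x + y) + q x + q y
  have hBadd : ∀ x y z, B (x + y) z = B x z + B y z := fun x y z => by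
    show q (x + y + z) + q (x + y) + q z = (q (x + z) + q x + q z) + (q (y + z) + q y + q z)
    linear_combination hq x y z - h2 (q (x + z)) - h2 (q x) - h2 (q z) - h2 (q (y + z)) - h2 (q y)
  have hB0 : ∀ z, B 0 z = 0 := fun z => by
    show q (0 + z) + q 0 + q z = 0
    rw [zero_add, hq0, add_zero, h2]
  -- expansion along the basis
  have key : ∀ s : Finset (Fin (Module.finrank (ZMod 2) F)),
      (fun x => q (∑ i ∈ s, a i x * b i)) ∈ S := by
    intro s
    induction s using Finset.induction with
    | empty => convert S.zero_mem using 1; funext x; simp [hq0]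
    | @insert j s hj ih =>
      have e : (fun x => q (∑ i ∈ insert j s, a i x * b i)) =
          (fun x => q (∑ i ∈ s, a i x * b i)) + (q (b j)) • (fun x => a j x * a j x) +
          ∑ i ∈ s, (B (b i) (b j)) • (fun x => a i x * a j x) := by
        funext x
        simp only [Pi.add_apply, Pi.smul_apply, smul_eq_mul, Finset.sum_apply]
        rw [Finset.sum_insert hj]
        rcases ha j x with h | h <;> simp only [h, mul_zero, zero_mul, mul_one, one_mul, Finset.sum_const_zero, add_zero, zero_add]
        have hB : ∀ t : Finset (Fin (Module.finrank (ZMod 2) F)),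
            B (∑ i ∈ t, a i x * b i) (b j) = ∑ i ∈ t, B (b i) (b j) * a i x := by
          intro t
          induction t using Finset.induction with
          | empty => simp [hB0]
          | @insert k t hk ih =>
            rw [Finset.sum_insert hk, Finset.sum_insert hk, hBadd, ih]
            rcases ha k x with h | h <;> simp [h, hB0]
        rw [← hB]
        show _ = _ + (q ((∑ i ∈ s, a i x * b i) + b j) + q (∑ i ∈ s, a i x * b i) + q (b j))
        rw [add_comm (b j)]
        linear_combination -h2 (q (∑ i ∈ s, a i x * b i)) - h2 (q (b j))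
      rw [e]
      exact S.add_mem (S.add_mem ih (S.smul_mem _ (hprod _ _))) (S.sum_mem fun i _ => S.smul_mem _ (hprod _ _))
  have hmem : q ∈ S := by
    convert key Finset.univ using 1
    funext x
    refine congrArg q ?_
    conv_lhs => rw [← b.sum_repr x]
    exact Finset.sum_congr rfl fun i _ => by simp [a, Algebra.smul_def]
  have : Fintype (F ≃+* F) :=
    Fintype.ofInjective (fun e : F ≃+* F => (e : F → F)) DFunLike.coe_injective
  obtain ⟨c, hc⟩ := (Submodule.mem_span_range_iff_exists_fun F).mp hmem
  exact ⟨Finset.univ, c, fun x => by rw [← hc]; simp [Finset.sum_apply]⟩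

end Cfsg.Agent.S1168
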