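import Cfsg.Statements.S1176
import Mathlib
import Cfsg.Agent.Lib.Invol.Dihedral

set_option autoImplicit false
open Cfsg

namespace Cfsg.Agent.S1176

/-- Let x₀ be an involution of the finite group G and D its conjugacy class. Assume (a) for each x ∈ D the subgroup W(x) generated by the members of D commuting with x is a 2-group of nilpotency class at most 2, and (b) the product of two distinct commuting members of D again lies in D. Then for all x, y ∈ D, if xy has even order greater than 2, its order is 4. -/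
theorem result {G : Type*} [Group G] [Finite G] (x₀ : G) (hx₀ : orderOf x₀ = 2) (ha : ∀ x : G, IsConj x₀ x → IsPGroup 2 ↥(Subgroup.closure {y : G | IsConj x₀ y ∧ Commute y x}) ∧ ⁅⁅Subgroup.closure {y : G | IsConj x₀ y ∧ Commute y x}, Subgroup.closure {y : G | IsConj x₀ y ∧ Commute y x}⁆, Subgroup.closure {y : G | IsConj x₀ y ∧ Commute y x}⁆ = ⊥) (hb : ∀ x y : G, IsConj x₀ x → IsConj x₀ y → x ≠ y → Commute x y → IsConj x₀ (x * y)) (x y : G) (hx : IsConj x₀ x) (hy : IsConj x₀ y) (heven : Even (orderOf (x * y))) (hgt : 2 < orderOf (x * y)) : orderOf (x * y) = 4 := by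
  have hY : ∀ v, IsConj x₀ v → orderOf v = 2 := by
    intro v hv
    obtain ⟨g, rfl⟩ := isConj_iff.mp hv
    exact CfsgLib.Invol.conj_orderOf_two hx₀ g
  have hx2 := hY x hx
  have hy2 := hY y hy
  set w := CfsgLib.Invol.centralInvol x y with hw
  have hwx := CfsgLib.Invol.centralInvol_comm_left hx2 hy2 heven
  have hwy := CfsgLib.Invol.centralInvol_comm_right hx2 hy2 heven
  have hxw : IsConj x₀ (x * w) := by
    rcases CfsgLib.Invol.left_mul_centralInvol_isConj hx2 hy2 heven with h | h
    · exact hx.trans h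
    · exact hy.trans h
  have hne : x ≠ x * w := by
    intro h
    exact CfsgLib.Invol.centralInvol_ne_one x y heven (mul_eq_left.mp h.symm)
  have hwc : IsConj x₀ w := by
    have h := hb x (x * w) hx hxw hne ((Commute.refl x).mul_right hwx.symm)
    rwa [← mul_assoc, CfsgLib.Invol.mul_self_of_orderOf_two hx2, one_mul] at h
  obtain ⟨hp, hc⟩ := ha w hwc
  set Y := Subgroup.closure {v : G | IsConj x₀ v ∧ Commute v w} with hYdef
  have hxY : x ∈ Y := Subgroup.subset_closure ⟨hx, hwx.symm⟩
  have hyY : y ∈ Y := Subgroup.subset_closure ⟨hy, hwy.symm⟩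
  open scoped commutatorElement in
  have h1 : ⁅⁅x, y⁆, x⁆ ∈ ⁅⁅Y, Y⁆, Y⁆ :=
    Subgroup.commutator_mem_commutator (Subgroup.commutator_mem_commutator hxY hyY) hxY
  rw [hc, Subgroup.mem_bot] at h1
  have hp4 : (x * y) ^ (4 : ℤ) = 1 := by
    rw [commutatorElement_def, commutatorElement_def] at h1
    rw [CfsgLib.Invol.inv_of_orderOf_two hx2, CfsgLib.Invol.inv_of_orderOf_two hy2] at h1
    have e : x * y * x * y = (x * y) ^ (2 : ℤ) := by rw [zpow_two]; simp [mul_assoc]
    rw [e, ← zpow_neg, mul_assoc ((x * y) ^ (2 : ℤ)) x, mul_assoc _ _ x, mul_assoc x,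
      CfsgLib.Invol.zpow_mul_left hx2 hy2, neg_neg, ← mul_assoc x x,
      CfsgLib.Invol.mul_self_of_orderOf_two hx2, one_mul, ← zpow_add] at h1
    exact h1
  have hd : orderOf (x * y) ∣ 4 := orderOf_dvd_of_pow_eq_one (by exact_mod_cast hp4)
  obtain ⟨a, ha'⟩ := heven
  have hle := Nat.le_of_dvd (by norm_num) hd
  interval_cases h : orderOf (x * y) <;> omega

end Cfsg.Agent.S1176
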