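import Cfsg.Statements.S1177
import Cfsg.Agent.Lib.Transfer.Sylow

set_option autoImplicit false
open Cfsg

namespace Cfsg.Agent.S1177

/-- Let A be a nontrivial elementary abelian 2-subgroup of a finite group G which is a T.I. set (each conjugate of A meets A trivially or equals A) and which does not commute elementwise with any conjugate of A other than A itself. Then for every a ∈ A, a ≠ 1, every conjugate of A contained in C_G(a) is equal to A (A is weakly closed in C_G(a)). -/
theorem result {G : Type*} [Group G] [Finite G] (A : Subgroup G) (hA : Cfsg.IsElementaryAbelian 2 A) (hA1 : A ≠ ⊥) (hTI : ∀ g : G, A.map (MulAut.conj g).toMonoidHom ⊓ A = ⊥ ∨ A.map (MulAut.conj g).toMonoidHom = A) (hb : ∀ g : G, (∀ a ∈ A, ∀ b ∈ A.map (MulAut.conj g).toMonoidHom, a * b = b * a) → A.map (MulAut.conj g).toMonoidHom = A) (a : G) (ha : a ∈ A) (ha1 : a ≠ 1) (g : G) (hg : A.map (MulAut.conj g).toMonoidHom ≤ Subgroup.centralizer ({a} : Set G)) : A.map (MulAut.conj g).toMonoidHom = A := by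
  set B := A.map (MulAut.conj g).toMonoidHom with hB
  by_contra hne
  have hBA : ∀ y : G, B.map (MulAut.conj y).toMonoidHom = B ∨
      B.map (MulAut.conj y).toMonoidHom ⊓ B = ⊥ := by
    intro y
    rw [hB, CfsgLib.Transfer.map_conj_mul]
    have e : y * g = g * (g⁻¹ * y * g) := by group
    rw [e, ← CfsgLib.Transfer.map_conj_mul]
    rcases hTI (g⁻¹ * y * g) with h | h
    · refine Or.inr ?_
      rw [← Subgroup.map_inf_eq _ _ _ (MulAut.conj g).injective, h, Subgroup.map_bot]
    · exact Or.inl (by rw [h])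
  have hbB : ∀ y : G, (∀ u ∈ B, ∀ v ∈ B.map (MulAut.conj y).toMonoidHom, u * v = v * u) →
      B.map (MulAut.conj y).toMonoidHom = B := by
    intro y hy
    have e : y * g = g * (g⁻¹ * y * g) := by group
    rw [hB, CfsgLib.Transfer.map_conj_mul, e, ← CfsgLib.Transfer.map_conj_mul] at hy ⊢
    rw [hb _ fun u hu v hv => ?_]
    have h := hy _ (Subgroup.mem_map_of_mem _ hu) _ (Subgroup.mem_map_of_mem _ hv)
    exact (MulAut.conj g).injective (by simpa using h)
  have hA2 : IsPGroup 2 A := fun x => ⟨1, Subtype.ext (by simpa using hA.2 x x.2)⟩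
  have hBN : B ≤ Subgroup.normalizer (A : Set G) := by
    intro b hbmem
    refine CfsgLib.Transfer.map_conj_eq_self_iff.mp ((hTI b).resolve_left fun h => ha1 ?_)
    have hc : b * a * b⁻¹ = a := mul_inv_eq_iff_eq_mul.mpr
      (Subgroup.mem_centralizer_singleton_iff.mp (hg hbmem))
    have : a ∈ A.map (MulAut.conj b).toMonoidHom ⊓ A := ⟨⟨a, ha, hc⟩, ha⟩
    rwa [h, Subgroup.mem_bot] at this
  have : Fact (Nat.Prime 2) := ⟨Nat.prime_two⟩
  set P := B ⊔ A with hP
  have hPp : IsPGroup 2 P := IsPGroup.to_sup_of_normal_right' (hA2.map _) hA2 hBN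
  -- `B` is normal in the 2-group `P`
  have hPB : P ≤ Subgroup.normalizer (B : Set G) := by
    by_contra hlt
    have : Group.IsNilpotent P := hPp.isNilpotent
    set N := (Subgroup.normalizer (B : Set G)).subgroupOf P with hN
    have hnc := Group.normalizerCondition_of_isNilpotent (G := P) N (lt_top_iff_ne_top.mpr fun h =>
      hlt (Subgroup.subgroupOf_eq_top.mp h))
    obtain ⟨y, hy, hyN⟩ := SetLike.exists_of_lt hnc
    have hBy : B.map (MulAut.conj (y : G)).toMonoidHom ≤ Subgroup.normalizer (B : Set G) := by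
      rintro _ ⟨b, hbmem, rfl⟩
      exact (Subgroup.mem_normalizer_iff.mp hy ⟨b, Subgroup.mem_sup_left hbmem⟩).mp
        (Subgroup.le_normalizer hbmem)
    have hBy' : B ≤ Subgroup.normalizer (B.map (MulAut.conj (y : G)).toMonoidHom : Set G) := by
      intro b hbmem
      have hy' := inv_mem hy
      have h := (Subgroup.mem_normalizer_iff.mp hy' ⟨b, Subgroup.mem_sup_left hbmem⟩).mp
        (Subgroup.le_normalizer hbmem)
      have h' : (y : G)⁻¹ * b * (y : G) ∈ Subgroup.normalizer (B : Set G) := by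
        rw [hN, Subgroup.mem_subgroupOf] at h
        simpa using h
      exact Subgroup.le_normalizer_map (MulAut.conj (y : G)).toMonoidHom ⟨_, h', by simp [mul_assoc]⟩
    apply hyN
    rw [hN, Subgroup.mem_subgroupOf]
    refine CfsgLib.Transfer.map_conj_eq_self_iff.mp ?_
    rcases hBA y with h | h
    · exact h
    · refine hbB y fun u hu v hv => ?_
      have h1 : u * v * u⁻¹ * v⁻¹ ∈ B.map (MulAut.conj (y : G)).toMonoidHom ⊓ B := by
        refine Subgroup.mem_inf.mpr ⟨mul_mem ((Subgroup.mem_normalizer_iff.mp (hBy' hu) v).mp hv) (inv_mem hv), ?_⟩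
        rw [show u * v * u⁻¹ * v⁻¹ = u * (v * u⁻¹ * v⁻¹) by group]
        exact mul_mem hu ((Subgroup.mem_normalizer_iff.mp (hBy hv) _).mp (inv_mem hu))
      rw [h, Subgroup.mem_bot] at h1
      exact mul_inv_eq_iff_eq_mul.mp (mul_inv_eq_one.mp h1)
  refine hne (hb g fun u hu v hv => ?_)
  rcases hTI g with h | h
  · have h1 : u * v * u⁻¹ * v⁻¹ ∈ B ⊓ A := by
      refine Subgroup.mem_inf.mpr ⟨mul_mem ((Subgroup.mem_normalizer_iff.mp (hPB (Subgroup.mem_sup_right hu)) v).mp hv) (inv_mem hv), ?_⟩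
      rw [show u * v * u⁻¹ * v⁻¹ = u * (v * u⁻¹ * v⁻¹) by group]
      exact mul_mem hu ((Subgroup.mem_normalizer_iff.mp (hBN hv) _).mp (inv_mem hu))
    rw [hB, h, Subgroup.mem_bot] at h1
    exact mul_inv_eq_iff_eq_mul.mp (mul_inv_eq_one.mp h1)
  · exact absurd h hne
end Cfsg.Agent.S1177
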