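import Cfsg.Statements.S1178
import Cfsg.Agent.Lib.Transfer.Sylow

set_option autoImplicit false
open Cfsg

namespace Cfsg.Agent.S1178

/-- Let A be a subgroup of a Sylow 2-subgroup S of the finite group G which is weakly closed in S. If a conjugate g A g⁻¹ commutes elementwise with A, then g A g⁻¹ = A. -/
theorem result {G : Type*} [Group G] [Finite G] (S : Sylow 2 G) (A : Subgroup G) (hW : Cfsg.IsWeaklyClosed A (S : Subgroup G)) (g : G) (hc : ∀ a ∈ A, ∀ b ∈ A.map (MulAut.conj g).toMonoidHom, a * b = b * a) : A.map (MulAut.conj g).toMonoidHom = A := by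
  set B := A.map (MulAut.conj g).toMonoidHom with hB
  have hBp : IsPGroup 2 B := (S.2.to_le hW.1).map _
  have hBN : B ≤ Subgroup.normalizer (A : Set G) := fun b hb =>
    Subgroup.centralizer_le_normalizer _ (Subgroup.mem_centralizer_iff.mpr fun a ha => hc a ha b hb)
  obtain ⟨R, hR⟩ := (IsPGroup.to_sup_of_normal_right' hBp (S.2.to_le hW.1) hBN).exists_le_sylow
  obtain ⟨h, hh⟩ := CfsgLib.Transfer.exists_map_conj_sylow_eq R S
  have h1 : A.map (MulAut.conj h).toMonoidHom = A :=
    hW.2 h (hh ▸ Subgroup.map_mono (le_sup_right.trans hR))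
  have h2 : A.map (MulAut.conj (h * g)).toMonoidHom = A := by
    refine hW.2 _ ?_
    rw [← CfsgLib.Transfer.map_conj_mul, ← hB]
    exact hh ▸ Subgroup.map_mono (le_sup_left.trans hR)
  rw [← CfsgLib.Transfer.map_conj_mul, ← hB] at h2
  exact Subgroup.map_injective (MulAut.conj h).injective (h2.trans h1.symm)
end Cfsg.Agent.S1178
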