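import Cfsg.Statements.S1181
import Mathlib
import Cfsg.Agent.Lib.Invol.Dihedral

set_option autoImplicit false
open Cfsg

namespace Cfsg.Agent.S1181

/-- Let z be an isolated involution of the finite group G and N a normal subgroup with z ∉ N. Then the centralizer of zN in G/N is the image of C_G(z), and zN is an isolated involution of G/N. -/
theorem result {G : Type*} [Group G] [Finite G] (z : G) (hz : Cfsg.IsIsolatedInvolution z) (N : Subgroup G) [N.Normal] (hzN : z ∉ N) : Subgroup.centralizer ({(QuotientGroup.mk z : G ⧸ N)} : Set (G ⧸ N)) = (Subgroup.centralizer ({z} : Set G)).map (QuotientGroup.mk' N) ∧ Cfsg.IsIsolatedInvolution (QuotientGroup.mk z : G ⧸ N) := by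
  have hzi := CfsgLib.Invol.inv_of_orderOf_two hz.1
  have hz2 : orderOf (QuotientGroup.mk z : G ⧸ N) = 2 := by
    refine orderOf_eq_prime ?_ ?_
    · rw [← QuotientGroup.mk_pow, orderOf_dvd_iff_pow_eq_one.mp hz.1.dvd, QuotientGroup.mk_one]
    · rwa [Ne, QuotientGroup.eq_one_iff]
  constructor
  · ext c
    induction c using QuotientGroup.induction_on with
    | H g =>
      rw [Subgroup.mem_centralizer_singleton_iff, Subgroup.mem_map]
      constructor
      · intro h
        have hv := CfsgLib.Invol.conj_orderOf_two hz.1 g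
        obtain ⟨k, hk⟩ := CfsgLib.Invol.exists_zpow_conj_of_odd hz.1 hv
          (CfsgLib.Invol.isolated_odd hz (IsConj.refl z) (isConj_iff.mpr ⟨g, rfl⟩))
        set d := (z * (g * z * g⁻¹)) ^ k with hd
        have hdN : d ∈ N := by
          refine zpow_mem ?_ k
          rw [← QuotientGroup.eq_one_iff, QuotientGroup.mk_mul, QuotientGroup.mk_mul, QuotientGroup.mk_mul,
            h, mul_assoc (QuotientGroup.mk z : G ⧸ N) (QuotientGroup.mk g), ← QuotientGroup.mk_mul, ← QuotientGroup.mk_mul,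
            mul_inv_cancel, mul_one, ← QuotientGroup.mk_mul, CfsgLib.Invol.mul_self_of_orderOf_two hz.1, QuotientGroup.mk_one]
        refine ⟨d⁻¹ * g, ?_, ?_⟩
        · rw [Subgroup.mem_centralizer_singleton_iff]
          calc d⁻¹ * g * z = d⁻¹ * (g * z * g⁻¹) * g := by group
            _ = d⁻¹ * (d * z * d⁻¹) * g := by rw [hk]
            _ = z * (d⁻¹ * g) := by group
        · rw [QuotientGroup.mk'_apply, QuotientGroup.mk_mul, QuotientGroup.mk_inv, (QuotientGroup.eq_one_iff d).mpr hdN, inv_one, one_mul]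
      · rintro ⟨c, hc, hcg⟩
        rw [QuotientGroup.mk'_apply] at hcg
        rw [← hcg, ← QuotientGroup.mk_mul, ← QuotientGroup.mk_mul, Subgroup.mem_centralizer_singleton_iff.mp hc]
  · refine ⟨hz2, fun c hc => ?_⟩
    induction c using QuotientGroup.induction_on with
    | H g =>
      rw [← QuotientGroup.mk_inv, ← QuotientGroup.mk_mul, ← QuotientGroup.mk_mul] at hc ⊢
      have hodd := CfsgLib.Invol.isolated_odd hz (IsConj.refl z) (isConj_iff.mpr ⟨g, rfl⟩)
      have h1 : Odd (orderOf (QuotientGroup.mk (z * (g * z * g⁻¹)) : G ⧸ N)) :=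
        hodd.of_dvd_nat (orderOf_map_dvd (QuotientGroup.mk' N) _)
      have h2 : (QuotientGroup.mk (z * (g * z * g⁻¹)) : G ⧸ N) = 1 := by
        refine CfsgLib.Invol.eq_one_of_odd_of_sq h1 ?_
        have hs : (z : G ⧸ N) * (z : G ⧸ N) = 1 := CfsgLib.Invol.mul_self_of_orderOf_two hz2
        have hs' : ((g * z * g⁻¹ : G) : G ⧸ N) * ((g * z * g⁻¹ : G) : G ⧸ N) = 1 := by
          rw [← QuotientGroup.mk_mul, CfsgLib.Invol.mul_self_of_orderOf_two (CfsgLib.Invol.conj_orderOf_two hz.1 g), QuotientGroup.mk_one]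
        rw [QuotientGroup.mk_mul, mul_assoc, ← mul_assoc ((g * z * g⁻¹ : G) : G ⧸ N), ← hc.eq, mul_assoc (z : G ⧸ N), hs', mul_one, hs]
      rw [QuotientGroup.mk_mul, mul_eq_one_iff_eq_inv', ← QuotientGroup.mk_inv, hzi] at h2
      exact h2

end Cfsg.Agent.S1181
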