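import Cfsg.Statements.S1182
import Mathlib
import Cfsg.Agent.Lib.Invol.Dihedral

set_option autoImplicit false
open Cfsg

namespace Cfsg.Agent.S1182

/-- Let z be an isolated involution of the finite group G and H a subgroup normalized by z. If x, y ∈ H both commute with z and y = h x h⁻¹ for some h ∈ H, then y = c x c⁻¹ for some c ∈ H commuting with z. -/
theorem result {G : Type*} [Group G] [Finite G] (z : G) (hz : Cfsg.IsIsolatedInvolution z) (H : Subgroup G) (hzH : z ∈ Subgroup.normalizer (H : Set G)) (x y : G) (hx : x ∈ H) (hy : y ∈ H) (hxz : Commute x z) (hyz : Commute y z) (h : G) (hh : h ∈ H) (hconj : h * x * h⁻¹ = y) : ∃ c ∈ H, Commute c z ∧ c * x * c⁻¹ = y := by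
  have hzi := CfsgLib.Invol.inv_of_orderOf_two hz.1
  set v := h⁻¹ * z * h⁻¹⁻¹ with hv
  have hodd := CfsgLib.Invol.isolated_odd hz (IsConj.refl z) (isConj_iff.mpr ⟨h⁻¹, rfl⟩)
  obtain ⟨k, hk⟩ := CfsgLib.Invol.exists_zpow_conj_of_odd hz.1 (CfsgLib.Invol.conj_orderOf_two hz.1 h⁻¹) hodd
  set d := (z * v) ^ k with hd
  have hpH : z * v ∈ H := by
    have h1 : z * h⁻¹ * z⁻¹ ∈ H := (Subgroup.mem_normalizer_iff.mp hzH _).mp (inv_mem hh)
    rw [hzi] at h1
    rw [hv, inv_inv, ← mul_assoc, ← mul_assoc]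
    exact mul_mem h1 hh
  have hxv : Commute x v := by
    have h1 : Commute (h⁻¹ * y * h⁻¹⁻¹) (h⁻¹ * z * h⁻¹⁻¹) := by
      simpa [MulAut.conj_apply] using hyz.map (MulAut.conj h⁻¹).toMonoidHom
    rwa [show h⁻¹ * y * h⁻¹⁻¹ = x by rw [← hconj]; group] at h1
  have hxd : Commute x d := (hxz.mul_right hxv).zpow_right k
  refine ⟨h * d, mul_mem hh (zpow_mem hpH k), ?_, ?_⟩
  · refine mul_inv_eq_iff_eq_mul.mp (?_ : h * d * z * (h * d)⁻¹ = z)
    calc h * d * z * (h * d)⁻¹ = h * (d * z * d⁻¹) * h⁻¹ := by group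
      _ = h * v * h⁻¹ := by rw [hk]
      _ = z := by rw [hv]; group
  · calc h * d * x * (h * d)⁻¹ = h * (d * x * d⁻¹) * h⁻¹ := by group
      _ = h * x * h⁻¹ := by rw [← hxd.eq, mul_inv_cancel_right]
      _ = y := hconj

end Cfsg.Agent.S1182
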