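import Cfsg.Statements.S1184
import Mathlib
import Cfsg.Agent.Lib.Invol.Dihedral

set_option autoImplicit false
open Cfsg

namespace Cfsg.Agent.S1184

/-- Let z be an isolated involution of the finite group G. If s and t are distinct conjugates of z, then st does not commute with z. -/
theorem result {G : Type*} [Group G] [Finite G] (z : G) (hz : Cfsg.IsIsolatedInvolution z) (g h : G) (hne : g * z * g⁻¹ ≠ h * z * h⁻¹) : ¬ Commute (g * z * g⁻¹ * (h * z * h⁻¹)) z := by
  intro hc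
  set u := g * z * g⁻¹ with hu
  set v := h * z * h⁻¹ with hv
  have hu2 : orderOf u = 2 := CfsgLib.Invol.conj_orderOf_two hz.1 g
  have hv2 : orderOf v = 2 := CfsgLib.Invol.conj_orderOf_two hz.1 h
  have hpodd := CfsgLib.Invol.isolated_odd hz (isConj_iff.mpr ⟨g, rfl⟩ : IsConj z u) (isConj_iff.mpr ⟨h, rfl⟩ : IsConj z v)
  have hzuodd := CfsgLib.Invol.isolated_odd hz (IsConj.refl z) (isConj_iff.mpr ⟨g, rfl⟩ : IsConj z u)
  have hinv := CfsgLib.Invol.conj_prod hu2 hv2
  have : (z * u) * (u * v) * (z * u)⁻¹ = (u * v)⁻¹ := by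
    calc (z * u) * (u * v) * (z * u)⁻¹ = z * (u * (u * v) * u⁻¹) * z⁻¹ := by group
      _ = z * (u * v)⁻¹ * z⁻¹ := by rw [hinv]
      _ = (u * v)⁻¹ := by rw [← hc.inv_left.eq, mul_inv_cancel_right]
  have h1 := CfsgLib.Invol.eq_one_of_odd_of_sq hpodd (CfsgLib.Invol.sq_eq_one_of_odd_inverts hzuodd this)
  apply hne
  rw [mul_eq_one_iff_eq_inv, CfsgLib.Invol.inv_of_orderOf_two hv2] at h1
  exact h1

end Cfsg.Agent.S1184
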