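import Cfsg.Statements.S1185
import Mathlib
import Cfsg.Agent.Lib.Invol.Dihedral

set_option autoImplicit false
open Cfsg

namespace Cfsg.Agent.S1185

/-- Let z be an isolated involution of the finite group G with centralizer C. Then for every g ∈ G there is exactly one element k in the coset gC that has odd order and is inverted by z. -/
theorem result {G : Type*} [Group G] [Finite G] (z : G) (hz : Cfsg.IsIsolatedInvolution z) (g : G) : ∃! k : G, (Odd (orderOf k) ∧ z * k * z⁻¹ = k⁻¹) ∧ g⁻¹ * k ∈ Subgroup.centralizer ({z} : Set G) := by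
  have hz2 := CfsgLib.Invol.mul_self_of_orderOf_two hz.1
  set v := g * z * g⁻¹ with hv
  have hv2 := CfsgLib.Invol.conj_orderOf_two hz.1 g
  set q := v * z with hq
  have hqodd : Odd (orderOf q) := CfsgLib.Invol.isolated_odd hz (isConj_iff.mpr ⟨g, rfl⟩ : IsConj z v) (IsConj.refl z)
  obtain ⟨m, hm⟩ := hqodd
  set k := q ^ ((m : ℤ) + 1) with hk
  have hk2 : k * k = q := by
    rw [hk, ← zpow_add, show ((m : ℤ) + 1) + (m + 1) = (orderOf q : ℤ) + 1 by rw [hm]; push_cast; ring,
      zpow_add, zpow_natCast, pow_orderOf_eq_one, one_mul, zpow_one]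
  have hzq : z * q * z⁻¹ = q⁻¹ := by
    rw [hq, mul_inv_rev, CfsgLib.Invol.inv_of_orderOf_two hz.1, CfsgLib.Invol.inv_of_orderOf_two hv2]
    rw [mul_assoc z (v * z) z, mul_assoc v z z, hz2, mul_one]
  have hzk : z * k * z⁻¹ = k⁻¹ := by rw [hk, ← conj_zpow, hzq, inv_zpow]
  have hmem : ∀ k : G, z * k * z⁻¹ = k⁻¹ → (g⁻¹ * k ∈ Subgroup.centralizer ({z} : Set G) ↔ k * k = v * z) := by
    intro k hk
    rw [Subgroup.mem_centralizer_singleton_iff]
    have h1 : z * k = k⁻¹ * z := mul_inv_eq_iff_eq_mul.mp hk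
    have h2 : k * z * k⁻¹ = k * k * z := by
      have : z * k⁻¹ = k * z := by
        calc z * k⁻¹ = k * (k⁻¹ * z) * k⁻¹ := by group
          _ = k * (z * k) * k⁻¹ := by rw [h1]
          _ = k * z := by group
      rw [mul_assoc, this, mul_assoc]
    constructor
    · intro h
      rw [hv]
      calc k * k = k * k * (z * z) := by rw [hz2, mul_one]
        _ = k * z * k⁻¹ * z := by rw [h2, mul_assoc (k * k)]
        _ = g * (g⁻¹ * k * z) * k⁻¹ * z := by group
        _ = g * (z * (g⁻¹ * k)) * k⁻¹ * z := by rw [h]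
        _ = g * z * g⁻¹ * z := by group
    · intro h
      have h3 : k * z * k⁻¹ = v := by rw [h2, h, mul_assoc, hz2, mul_one]
      calc g⁻¹ * k * z = g⁻¹ * (k * z * k⁻¹) * k := by group
        _ = g⁻¹ * (g * z * g⁻¹) * k := by rw [h3, hv]
        _ = z * (g⁻¹ * k) := by group
  have hkodd : Odd (orderOf k) := Odd.of_dvd_nat ⟨m, hm⟩
    (orderOf_dvd_of_mem_zpowers (Subgroup.zpow_mem_zpowers q _))
  refine ⟨k, ⟨⟨hkodd, hzk⟩, (hmem k hzk).mpr hk2⟩, ?_⟩
  rintro j ⟨⟨hjodd, hzj⟩, hj⟩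
  have hjq : j * j = q := (hmem j hzj).mp hj
  obtain ⟨M, hM⟩ := hkodd.mul hjodd
  have key : ∀ a : G, orderOf a ∣ orderOf k * orderOf j → a = (a * a) ^ (M + 1) := by
    intro a ha
    rw [← pow_two, ← pow_mul, show 2 * (M + 1) = orderOf k * orderOf j + 1 by rw [hM]; ring, pow_succ,
      orderOf_dvd_iff_pow_eq_one.mp ha, one_mul]
  rw [key j (dvd_mul_left _ _), key k (dvd_mul_right _ _), hjq, hk2]

end Cfsg.Agent.S1185
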