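import Cfsg.Statements.S1190
import Cfsg.Agent.Lib.SmallTwo.QuasiDihedralSmall

set_option autoImplicit false
open Cfsg

namespace Cfsg.Agent.S1190

/-- In a quasi-dihedral 2-group S, any two Klein four-subgroups are conjugate, and every Klein four-subgroup T satisfies C_S(T) = T and |N_S(T) : T| = 2. -/
theorem result {S : Type*} [Group S] [Finite S] (hS : Cfsg.IsQuasiDihedral S) : (∀ T₁ T₂ : Subgroup S, IsKleinFour T₁ → IsKleinFour T₂ → ∃ s : S, T₁.map (MulAut.conj s).toMonoidHom = T₂) ∧ (∀ T : Subgroup S, IsKleinFour T → Subgroup.centralizer (T : Set S) = T ∧ T.relIndex (Subgroup.normalizer (T : Set S)) = 2) := by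
  obtain ⟨n, ⟨d⟩⟩ := CfsgLib.SmallTwo.qd_exists hS
  refine ⟨fun T₁ T₂ h₁ h₂ => ?_, fun T hT => ?_⟩
  · obtain ⟨i, hi, e₁⟩ := d.four_group_eq T₁ h₁
    obtain ⟨j, hj, e₂⟩ := d.four_group_eq T₂ h₂
    obtain ⟨s, hs⟩ := d.exists_map_small (m := 2 * d.q) (hm := dvd_rfl) (hj.sub hi)
    refine ⟨s, Subgroup.eq_of_le_of_card_ge (e₁ ▸ e₂ ▸ hs) ?_⟩
    rw [Subgroup.card_map_of_injective (MulAut.conj s).injective, IsKleinFour.card_four (G := T₁),
      IsKleinFour.card_four (G := T₂)]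
  · obtain ⟨i, -, rfl⟩ := d.four_group_eq T hT
    refine ⟨d.centralizer_small_two i, d.relIndex_normalizer_small dvd_rfl rfl fun ⟨c, hc⟩ => ?_⟩
    have := mul_left_cancel₀ d.q_pos.ne' (show d.q * 1 = d.q * (2 * c) by linarith)
    omega
end Cfsg.Agent.S1190
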