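import Cfsg.Statements.S1191
import Cfsg.Agent.Lib.SmallTwo.QuasiDihedralSmall

set_option autoImplicit false
open Cfsg

namespace Cfsg.Agent.S1191

/-- In a quasi-dihedral 2-group S, any two subgroups isomorphic to the quaternion group of order 8 are conjugate, and each such subgroup Q satisfies C_S(Q) = Z(Q) and |N_S(Q) : Q| = 2. -/
theorem result {S : Type*} [Group S] [Finite S] (hS : Cfsg.IsQuasiDihedral S) : (∀ Q₁ Q₂ : Subgroup S, Nonempty (Q₁ ≃* QuaternionGroup 2) → Nonempty (Q₂ ≃* QuaternionGroup 2) → ∃ s : S, Q₁.map (MulAut.conj s).toMonoidHom = Q₂) ∧ (∀ Q : Subgroup S, Nonempty (Q ≃* QuaternionGroup 2) → Subgroup.centralizer (Q : Set S) = (Subgroup.center Q).map Q.subtype ∧ Q.relIndex (Subgroup.normalizer (Q : Set S)) = 2) := by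
  obtain ⟨n, ⟨d⟩⟩ := CfsgLib.SmallTwo.qd_exists hS
  refine ⟨fun Q₁ Q₂ h₁ h₂ => ?_, fun Q hQ => ?_⟩
  · obtain ⟨⟨e₁⟩, ⟨e₂⟩⟩ := And.intro h₁ h₂
    obtain ⟨i, hi, f₁⟩ := d.quaternion_eq Q₁ e₁
    obtain ⟨j, hj, f₂⟩ := d.quaternion_eq Q₂ e₂
    obtain ⟨s, hs⟩ := d.exists_map_small (m := d.q) (hm := dvd_mul_left _ 2) (hj.sub_odd hi)
    refine ⟨s, Subgroup.eq_of_le_of_card_ge (f₁ ▸ f₂ ▸ hs) ?_⟩
    rw [Subgroup.card_map_of_injective (MulAut.conj s).injective, Nat.card_congr e₁.toEquiv,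
      Nat.card_congr e₂.toEquiv]
  · obtain ⟨e⟩ := hQ
    obtain ⟨i, -, rfl⟩ := d.quaternion_eq Q e
    obtain ⟨p, hp0, hp⟩ := d.exists_half
    refine ⟨le_antisymm (fun g hg => ?_) ?_, d.relIndex_normalizer_small (r := p) ⟨2, by rw [hp]; ring⟩ hp
      fun ⟨c, hc⟩ => ?_⟩
    · have hm : g ∈ d.small d.q i (dvd_mul_left _ 2) := by
        rw [d.centralizer_small_four] at hg
        obtain ⟨c, rfl⟩ := hg
        show (d.x ^ (2 * d.q)) ^ c ∈ _
        rw [← zpow_mul, d.r_mem_small]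
        exact ⟨2 * c, by ring⟩
      exact ⟨⟨g, hm⟩, Subgroup.mem_center_iff.mpr fun h =>
        Subtype.ext (Subgroup.mem_centralizer_iff.mp hg h h.2), rfl⟩
    · rintro _ ⟨⟨g, hg⟩, hc, rfl⟩
      exact Subgroup.mem_centralizer_iff.mpr fun h hh =>
        congrArg Subtype.val (Subgroup.mem_center_iff.mp hc ⟨h, hh⟩)
    · have := mul_left_cancel₀ hp0.ne' (show p * 1 = p * (2 * c) by rw [hp] at hc; linarith)
      omega
end Cfsg.Agent.S1191
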