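import Cfsg.Statements.S1196
import Cfsg.Agent.Lib.SmallTwo.WreathedSmall

set_option autoImplicit false
open Cfsg

namespace Cfsg.Agent.S1196

/-- A wreathed 2-group S of order 2^(2n+1) has a unique commutative subgroup of order 2^(2n), and this subgroup is isomorphic to the direct product of two cyclic groups of order 2^n. -/
theorem result {S : Type*} [Group S] [Finite S] (hS : Cfsg.IsWreathed S) (n : ℕ) (hn : Nat.card S = 2 ^ (2 * n + 1)) : (∃! U : Subgroup S, IsMulCommutative U ∧ Nat.card U = 2 ^ (2 * n)) ∧ ∀ U : Subgroup S, IsMulCommutative U → Nat.card U = 2 ^ (2 * n) → Nonempty (U ≃* Multiplicative (ZMod (2 ^ n) × ZMod (2 ^ n))) := by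
  obtain ⟨d⟩ := CfsgLib.SmallTwo.wr_of_card hS hn
  refine ⟨⟨d.base, ⟨d.isMulCommutative_base, d.card_base⟩, fun A hA => d.abelian_eq_base A hA.1 hA.2⟩, fun U hU hc => ?_⟩
  rw [d.abelian_eq_base U hU hc]
  exact d.base_iso
end Cfsg.Agent.S1196
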