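import Cfsg.Statements.S1202
import Cfsg.Agent.Lib.SmallTwo.WreathedAut

set_option autoImplicit false
open Cfsg

namespace Cfsg.Agent.S1202

/-- Let S be a wreathed 2-group of order 2^(2n+1) and X a subgroup with C_S(X) ≤ X such that Aut(X) is not a 2-group. Then |N_S(X) : X| = 2, and either X is the commutative subgroup of order 2^(2n), or X = Q·Z(S) for some subgroup Q ≅ Q₈; in the latter case any two such subgroups are conjugate in S. -/
theorem result {S : Type*} [Group S] [Finite S] (hS : Cfsg.IsWreathed S) (n : ℕ) (hn : Nat.card S = 2 ^ (2 * n + 1)) (X : Subgroup S) (hC : Subgroup.centralizer (X : Set S) ≤ X) (hA : ¬ IsPGroup 2 (MulAut X)) : X.relIndex (Subgroup.normalizer (X : Set S)) = 2 ∧ ((IsMulCommutative X ∧ Nat.card X = 2 ^ (2 * n)) ∨ ∃ Q : Subgroup S, Nonempty (Q ≃* QuaternionGroup 2) ∧ X = Q ⊔ Subgroup.center S) ∧ ∀ X' : Subgroup S, Subgroup.centralizer (X' : Set S) ≤ X' → ¬ IsPGroup 2 (MulAut X') → ¬ IsMulCommutative X → ¬ IsMulCommutative X' →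 ∃ s : S, X.map (MulAut.conj s).toMonoidHom = X' := by
  obtain ⟨d⟩ := CfsgLib.SmallTwo.wr_of_card hS hn
  have hb : IsMulCommutative d.base := d.isMulCommutative_base
  rcases d.classify X hC hA with rfl | ⟨e, rfl⟩
  · refine ⟨?_, Or.inl ⟨hb, d.card_base⟩, fun _ _ _ h => absurd hb h⟩
    rw [Subgroup.normalizer_eq_top_iff.mpr d.base_normal, Subgroup.relIndex_top_right, d.index_base]
  · refine ⟨d.qz_relIndex e, Or.inr (d.qz_eq_sup e), fun X' hC' hA' _ hX' => ?_⟩
    rcases d.classify X' hC' hA' with rfl | ⟨e', rfl⟩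
    · exact absurd hb hX'
    · exact d.qz_conj e e'
end Cfsg.Agent.S1202
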