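import Cfsg.Statements.S1214
import Cfsg.Agent.Lib.SmallTwo.CentralizerType
import Cfsg.Agent.Lib.TransLinear.Huppert
import Cfsg.Agent.Lib.Layer.Radical
import Cfsg.Agent.Lib.Invol.SolvableCore

/-!
A core-free group with one class of involutions, no subgroup of index 2, and a Sylow
2-subgroup that is cyclic over the subgroup generated by its involutions has a simple
normal subgroup of odd index.
-/

set_option autoImplicit false
set_option linter.style.haveILetI false
open Cfsg

namespace Cfsg.Agent.S1214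

section Core

variable {Q : Type*} [Group Q] [Finite Q]

/-- normal in `N`, contained in `N` -/
def NIn (N T : Subgroup Q) : Prop := T ≤ N ∧ ∀ n ∈ N, ∀ m ∈ T, n * m * n⁻¹ ∈ T

theorem nIn_conj {N T : Subgroup Q} [N.Normal] (h : NIn N T) (g : Q) :
    NIn N (T.map (MulAut.conj g).toMonoidHom) := by
  refine ⟨?_, ?_⟩
  · rintro _ ⟨t, ht, rfl⟩
    exact Subgroup.Normal.conj_mem inferInstance t (h.1 ht) g
  · rintro n hn _ ⟨t, ht, rfl⟩
    refine ⟨g⁻¹ * n * g * t * (g⁻¹ * n * g)⁻¹, h.2 _ ?_ t ht, ?_⟩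
    · simpa using Subgroup.Normal.conj_mem (inferInstance : N.Normal) n hn g⁻¹
    · simp [MulAut.conj_apply, mul_assoc]

theorem exists_simple {s : Q} (hO : Cfsg.oddCore Q = ⊥) (hidx : ∀ H : Subgroup Q, H.index ≠ 2)
    (S : Sylow 2 Q) {z : Q} (hz : orderOf z = 2)
    (hcl : ∀ a : Q, orderOf a = 2 → IsConj a z)
    {u : Q} (hu : u ∈ Subgroup.closure {g : Q | g ∈ S ∧ orderOf g = 2}) (hu4 : u ^ 2 ≠ 1)
    (hgen : (S : Subgroup Q) ≤ Subgroup.closure {g : Q | g ∈ S ∧ orderOf g = 2} ⊔ Subgroup.zpowers s) :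
    ∃ L : Subgroup Q, L.Normal ∧ Odd L.index ∧ IsSimpleGroup L ∧ ¬ IsMulCommutative L := by
  classical
  haveI := Fact.mk Nat.prime_two
  haveI : Nontrivial Q := ⟨z, 1, fun h => by rw [h, orderOf_one] at hz; omega⟩
  obtain ⟨N, ⟨hNn, hN1⟩, hNmin⟩ := (Set.toFinite {N : Subgroup Q | N.Normal ∧ N ≠ ⊥}).exists_minimal
    ⟨⊤, inferInstance, top_ne_bot⟩
  haveI := hNn
  have hmin : ∀ M : Subgroup Q, M.Normal → M ≠ ⊥ → M ≤ N → M = N := fun M h1 h2 h3 =>
    le_antisymm h3 (hNmin ⟨h1, h2⟩ h3)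
  -- involutions in a subnormal subgroup
  have hinv : ∀ T : Subgroup Q, T.IsSubnormal → T ≠ ⊥ → ∃ t ∈ T, orderOf t = 2 := by
    intro T hT hT1
    by_contra hno
    apply hT1
    rw [eq_bot_iff, ← hO]
    refine CfsgLib.Layer.le_pPrimeCore_of_isSubnormal hT ?_
    rw [Nat.coprime_comm, Nat.prime_two.coprime_iff_not_dvd]
    intro h2
    obtain ⟨t, ht⟩ := exists_prime_orderOf_dvd_card' 2 h2
    exact hno ⟨t, t.2, by rwa [Subgroup.orderOf_coe]⟩
  obtain ⟨w, hwN, hw⟩ := hinv N hNn.isSubnormal hN1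
  have hall : ∀ a : Q, orderOf a = 2 → a ∈ N := fun a ha => by
    obtain ⟨g, hg⟩ := isConj_iff.mp ((hcl w hw).trans (hcl a ha).symm)
    exact hg ▸ hNn.conj_mem w hwN g
  have hΩ : Subgroup.closure {g : Q | g ∈ S ∧ orderOf g = 2} ≤ N :=
    (Subgroup.closure_le _).mpr fun g hg => hall g hg.2
  -- not commutative
  have hna : ¬ ∀ a ∈ N, ∀ b ∈ N, a * b = b * a := by
    intro hab
    have h2 : ∀ a ∈ Subgroup.closure {g : Q | g ∈ S ∧ orderOf g = 2}, a ^ 2 = 1 := by
      intro a ha
      induction ha using Subgroup.closure_induction with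
      | mem g hg => rw [← hg.2, pow_orderOf_eq_one]
      | one => exact one_pow 2
      | mul a b ha hb iha ihb =>
        rw [(show Commute a b from hab a (hΩ ha) b (hΩ hb)).mul_pow, iha, ihb, one_mul]
      | inv a ha iha => rw [inv_pow, iha, inv_one]
    exact hu4 (h2 u hu)
  -- a minimal normal subgroup of N
  obtain ⟨T, ⟨hT, hT1⟩, hTmin'⟩ := Set.exists_min_image {T : Subgroup Q | NIn N T ∧ T ≠ ⊥}
    (fun T => Nat.card T) (Set.toFinite _) ⟨N, ⟨le_rfl, fun n hn m hm => N.mul_mem (N.mul_mem hn hm) (N.inv_mem hn)⟩, hN1⟩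
  let cj : Q → Subgroup Q := fun g => T.map (MulAut.conj g).toMonoidHom
  have hmeet : ∀ g h : Q, cj g ≠ cj h → cj g ⊓ cj h = ⊥ := by
    intro g h hne
    by_contra hb
    have hN' : NIn N (cj g ⊓ cj h) := ⟨inf_le_left.trans (nIn_conj hT g).1,
      fun n hn m hm => ⟨(nIn_conj hT g).2 n hn m hm.1, (nIn_conj hT h).2 n hn m hm.2⟩⟩
    have hc : ∀ k : Q, Nat.card (cj k) = Nat.card T := fun k =>
      (Nat.card_congr (T.equivMapOfInjective _ (MulAut.conj k).injective).toEquiv).symm
    have hle := hTmin' _ ⟨hN', hb⟩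
    have h1 : cj g ⊓ cj h = cj g := Subgroup.eq_of_le_of_card_ge inf_le_left (by rw [hc g]; exact hle)
    have h2 : cj g ⊓ cj h = cj h := Subgroup.eq_of_le_of_card_ge inf_le_right (by rw [hc h]; exact hle)
    exact hne (h1.symm.trans h2)
  have hcomm : ∀ g h : Q, cj g ≠ cj h → ∀ a ∈ cj g, ∀ b ∈ cj h, a * b = b * a := by
    intro g h hne a ha b hb
    have hm : a * b * a⁻¹ * b⁻¹ ∈ cj g ⊓ cj h := by
      refine ⟨?_, ?_⟩
      · have := (nIn_conj hT g).2 b ((nIn_conj hT h).1 hb) a⁻¹ ((cj g).inv_mem ha)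
        simpa [mul_assoc] using (cj g).mul_mem ha this
      · exact (cj h).mul_mem ((nIn_conj hT h).2 a ((nIn_conj hT g).1 ha) b hb) ((cj h).inv_mem hb)
    rw [hmeet g h hne, Subgroup.mem_bot, mul_inv_eq_one, mul_inv_eq_iff_eq_mul] at hm
    exact hm
  have hone : cj 1 = T := by
    ext x
    simp [cj]
  have hsub : ∀ g, (cj g).IsSubnormal := fun g =>
    Subgroup.IsSubnormal.step _ N (nIn_conj hT g).1 hNn.isSubnormal
      ⟨fun x hx n => (nIn_conj hT g).2 _ n.2 _ hx⟩
  have hfix : ∀ g, cj g = cj 1 := by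
    intro g
    by_contra hne
    obtain ⟨t, ht, ht2⟩ := hinv (cj 1) (hsub 1) (by rw [hone]; exact hT1)
    set t' := g * t * g⁻¹ with ht'def
    have ht' : t' ∈ cj g := by
      rw [hone] at ht
      exact ⟨t, ht, rfl⟩
    have hc := hcomm g 1 hne t' ht' t ht
    have htt : orderOf (t' * t) = 2 := by
      refine orderOf_eq_prime ?_ ?_
      · have h1 : t ^ 2 = 1 := by rw [← ht2, pow_orderOf_eq_one]
        have h2 : t' ^ 2 = 1 := by rw [ht'def, conj_pow, h1]; simp
        rw [(show Commute t' t from hc).mul_pow, h1, h2, one_mul]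
      · intro h
        have hm : t ∈ cj g ⊓ cj 1 := ⟨by
          rw [← inv_eq_of_mul_eq_one_right h]
          exact (cj g).inv_mem ht', ht⟩
        rw [hmeet g 1 hne, Subgroup.mem_bot] at hm
        rw [hm, orderOf_one] at ht2
        omega
    obtain ⟨k, hk⟩ := isConj_iff.mp ((hcl t ht2).trans (hcl _ htt).symm)
    have hmem : t' * t ∈ cj k := by
      rw [hone] at ht
      exact ⟨t, ht, hk⟩
    have hkg : cj k ≠ cj g := by
      intro he
      rw [he] at hmem
      have hm : t ∈ cj g ⊓ cj 1 := ⟨by simpa [mul_assoc] using (cj g).mul_mem ((cj g).inv_mem ht') hmem, ht⟩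
      rw [hmeet g 1 hne, Subgroup.mem_bot] at hm
      rw [hm, orderOf_one] at ht2
      omega
    have hk1 : cj k ≠ cj 1 := by
      intro he
      rw [he] at hmem
      have hm : t' ∈ cj g ⊓ cj 1 := ⟨ht', by simpa [mul_assoc] using (cj 1).mul_mem hmem ((cj 1).inv_mem ht)⟩
      rw [hmeet g 1 hne, Subgroup.mem_bot] at hm
      have : t = 1 := by simpa [ht'def] using hm
      rw [this, orderOf_one] at ht2
      omega
    -- `t` centralizes every conjugate of `T`
    have hcen : ∀ h : Q, ∀ b ∈ cj h, t * b = b * t := by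
      intro h b hb
      by_cases he : cj h = cj 1
      · rw [he] at hb
        have h1 := hcomm k 1 hk1 _ hmem b hb
        have h2 := hcomm g 1 hne t' ht' b hb
        refine mul_left_cancel (a := t') ?_
        calc t' * (t * b) = t' * t * b := (mul_assoc _ _ _).symm
          _ = b * (t' * t) := h1
          _ = t' * b * t := by rw [← mul_assoc, h2]
          _ = t' * (b * t) := mul_assoc _ _ _
      · exact hcomm 1 h (Ne.symm he) t ht b hb
    -- the closure of the conjugates is `N`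
    let M : Subgroup Q := ⨆ h : Q, cj h
    have hM : M = N := by
      refine hmin M ⟨fun m hm x => ?_⟩ ?_ (iSup_le fun h => (nIn_conj hT h).1)
      · induction hm using Subgroup.iSup_induction' with
        | hp h y hy =>
          obtain ⟨a, ha, rfl⟩ := hy
          refine Subgroup.mem_iSup_of_mem (x * h) ⟨a, ha, ?_⟩
          simp [MulAut.conj_apply, mul_assoc]
        | h1 => simp [M.one_mem]
        | hmul y w hy hw ihy ihw =>
          have he : x * (y * w) * x⁻¹ = (x * y * x⁻¹) * (x * w * x⁻¹) := by group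
          rw [he]
          exact M.mul_mem ihy ihw
      · exact fun h0 => hT1 (le_bot_iff.mp (hone ▸ h0 ▸ le_iSup cj 1))
    let Z : Subgroup Q := N ⊓ Subgroup.centralizer (N : Set Q)
    have htZ : t ∈ Z := by
      refine ⟨(nIn_conj hT 1).1 ht, Subgroup.mem_centralizer_iff.mpr fun m hm => ?_⟩
      rw [SetLike.mem_coe, ← hM] at hm
      induction hm using Subgroup.iSup_induction' with
      | hp h y hy => exact (hcen h y hy).symm
      | h1 => simp
      | hmul y w hy hw ihy ihw => rw [mul_assoc, ihw, ← mul_assoc, ihy, mul_assoc]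
    have hZN : Z = N := hmin Z inferInstance (fun h0 => by
      rw [h0, Subgroup.mem_bot] at htZ
      rw [htZ, orderOf_one] at ht2
      omega) inf_le_left
    exact hna fun a ha b hb => by
      rw [← hZN] at hb
      exact Subgroup.mem_centralizer_iff.mp hb.2 a ha
  have hTN : T = N := by
    refine hmin T ⟨fun m hm x => ?_⟩ hT1 hT.1
    rw [← hone, ← hfix x]
    exact ⟨m, hm, rfl⟩
  have hsimple : IsSimpleGroup N := by
    haveI : Nontrivial N := N.nontrivial_iff_ne_bot.mpr hN1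
    refine ⟨fun H hH => ?_⟩
    by_contra hc
    push Not at hc
    have hmap : NIn N (H.map N.subtype) := by
      refine ⟨Subgroup.map_subtype_le H, ?_⟩
      rintro n hn _ ⟨m, hm, rfl⟩
      exact ⟨_, hH.conj_mem m hm ⟨n, hn⟩, rfl⟩
    have hle := hTmin' _ ⟨hmap, fun h0 => hc.1 ((H.map_eq_bot_iff_of_injective N.subtype_injective).mp h0)⟩
    rw [Subgroup.card_map_of_injective N.subtype_injective, hTN] at hle
    exact hc.2 (Subgroup.eq_top_of_le_card H hle)
  refine ⟨N, hNn, ?_, hsimple, fun h => hna fun a ha b hb =>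
    congrArg Subtype.val (h.is_comm.comm ⟨a, ha⟩ ⟨b, hb⟩)⟩
  -- odd index
  rw [← Nat.not_even_iff_odd, even_iff_two_dvd]
  intro h2
  have hcyc : IsCyclic (S.mapSurjective (QuotientGroup.mk'_surjective N) : Subgroup (Q ⧸ N)) := by
    have hle : (S.mapSurjective (QuotientGroup.mk'_surjective N) : Subgroup (Q ⧸ N)) ≤
        Subgroup.zpowers (QuotientGroup.mk' N s) := by
      rw [Sylow.coe_mapSurjective]
      refine (Subgroup.map_mono hgen).trans ?_
      rw [Subgroup.map_sup, MonoidHom.map_zpowers]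
      refine sup_le ?_ le_rfl
      rintro _ ⟨a, ha, rfl⟩
      rw [show QuotientGroup.mk' N a = 1 from (QuotientGroup.eq_one_iff a).mpr (hΩ ha)]
      exact one_mem _
    exact isCyclic_of_injective _ (Subgroup.inclusion_injective hle)
  have hev : 2 ∣ Nat.card (Q ⧸ N) := h2
  have hmf : (Nat.card (Q ⧸ N)).minFac = 2 := (Nat.minFac_eq_two_iff _).mpr hev
  obtain ⟨H, -, hH⟩ := CfsgLib.TransLinear.exists_index_two_of_cyclic_sylow _ hcyc hev
    (hcyc.normalizer_le_centralizer hmf)
  exact hidx (H.comap (QuotientGroup.mk' N))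
    (by rw [Subgroup.index_comap_of_surjective _ (QuotientGroup.mk'_surjective N), hH])

end Core

/-- Let G be a finite group with quasi-dihedral or wreathed Sylow 2-subgroups and no subgroup of index 2. Then G/O(G), the quotient by the largest normal subgroup of odd order, has a normal subgroup of odd index which is a non-abelian simple group. -/
theorem result {G : Type*} [Group G] [Finite G] (S : Sylow 2 G) (hS : Cfsg.IsQuasiDihedral (S : Subgroup G) ∨ Cfsg.IsWreathed (S : Subgroup G)) (hG : ∀ H : Subgroup G, H.index ≠ 2) : ∃ L : Subgroup (G ⧸ Cfsg.oddCore G), L.Normal ∧ Odd L.index ∧ IsSimpleGroup L ∧ ¬ IsMulCommutative L := by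
  haveI := Fact.mk Nat.prime_two
  set π := QuotientGroup.mk' (Cfsg.oddCore G)
  have hπ : Function.Surjective π := QuotientGroup.mk'_surjective _
  have hidx : ∀ H : Subgroup (G ⧸ Cfsg.oddCore G), H.index ≠ 2 := fun H h =>
    hG (H.comap π) (by rw [Subgroup.index_comap_of_surjective _ hπ, h])
  set S' := S.mapSurjective hπ
  have hdis : Function.Injective (π.comp (S : Subgroup G).subtype) := by
    rw [← MonoidHom.ker_eq_bot_iff, eq_bot_iff]
    intro x hx
    have hxO : (x : G) ∈ Cfsg.oddCore G := (QuotientGroup.eq_one_iff _).mp hx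
    rw [Subgroup.mem_bot, Subtype.ext_iff, Subgroup.coe_one]
    obtain ⟨k, hk⟩ := IsPGroup.iff_card.mp S.2
    have hco : (Nat.card (Cfsg.oddCore G)).Coprime (Nat.card (S : Subgroup G)) := by
      rw [hk]
      exact (CfsgLib.Transfer.pPrimeCore_coprime 2).pow_right k
    exact Subgroup.mem_bot.mp ((Subgroup.disjoint_of_coprime_natCard hco).le_bot ⟨hxO, x.2⟩)
  let e : (S : Subgroup G) ≃* (S' : Subgroup (G ⧸ Cfsg.oddCore G)) :=
    (MonoidHom.ofInjective hdis).trans (MulEquiv.subgroupCongr (by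
      rw [MonoidHom.range_comp, Subgroup.range_subtype, Sylow.coe_mapSurjective]))
  have hO := CfsgLib.Invol.oddCore_quotient_eq_bot (G := G)
  have hcl : ∀ {T : Subgroup (S' : Subgroup (G ⧸ Cfsg.oddCore G))},
      Subgroup.closure {g : (S' : Subgroup (G ⧸ Cfsg.oddCore G)) | orderOf g = 2} = T →
      Subgroup.closure {g : G ⧸ Cfsg.oddCore G | g ∈ S' ∧ orderOf g = 2} =
        T.map (S' : Subgroup (G ⧸ Cfsg.oddCore G)).subtype := by
    rintro T rfl
    rw [MonoidHom.map_closure]
    congr 1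
    ext g
    constructor
    · rintro ⟨h1, h2⟩
      exact ⟨⟨g, h1⟩, (Subgroup.orderOf_mk g h1).trans h2, rfl⟩
    · rintro ⟨g, h, rfl⟩
      exact ⟨g.2, (Subgroup.orderOf_coe g).trans h⟩
  rcases hS with hS | hS
  · obtain ⟨n, ⟨d0⟩⟩ := CfsgLib.SmallTwo.qd_exists hS
    let d := d0.mapEquiv e
    have hΩ := hcl d.closure_involutions
    refine exists_simple hO hidx S' (s := (d.x : G ⧸ Cfsg.oddCore G))
      (z := ((d.x ^ (2 * d.q) : (S' : Subgroup (G ⧸ Cfsg.oddCore G))) : G ⧸ Cfsg.oddCore G)) ?_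
      (fun a ha => d.one_class_of_no_index_two hidx ha)
      (u := ((d.x ^ (2 : ℤ) : (S' : Subgroup (G ⧸ Cfsg.oddCore G))) : G ⧸ Cfsg.oddCore G)) ?_ ?_ ?_
    · rw [Subgroup.orderOf_coe, d.orderOf_r_two]
      exact ⟨0, by ring⟩
    · rw [hΩ]
      exact ⟨_, d.r_mem_par.mpr even_two, rfl⟩
    · intro h
      rw [← Subgroup.coe_pow, OneMemClass.coe_eq_one, ← zpow_natCast, ← zpow_mul,
        d.zpow_eq_one_iff] at h
      obtain ⟨p, hp, hq⟩ := d.exists_half
      have := Int.le_of_dvd (by norm_num) h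
      norm_num at this
      omega
    · intro a ha
      rw [hΩ]
      have htop : d.par 0 ⊔ Subgroup.zpowers d.x = ⊤ := by
        refine eq_top_iff.mpr fun g _ => ?_
        obtain ⟨i, rfl | rfl⟩ := d.cases' g
        · exact Subgroup.mem_sup_right ⟨i, rfl⟩
        · exact Subgroup.mul_mem _ (Subgroup.mem_sup_right ⟨i, rfl⟩)
            (Subgroup.mem_sup_left (by simpa using d.ry_mem_par.mpr (show Even ((0 : ℤ) - 0) by simp)))
      have := Subgroup.mem_map_of_mem (S' : Subgroup (G ⧸ Cfsg.oddCore G)).subtype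
        (htop ▸ Subgroup.mem_top (⟨a, ha⟩ : (S' : Subgroup (G ⧸ Cfsg.oddCore G))))
      rwa [Subgroup.map_sup, MonoidHom.map_zpowers] at this
  · obtain ⟨n, ⟨d0⟩⟩ := CfsgLib.SmallTwo.wr_exists hS
    let d := d0.mapEquiv e
    have hΩ := hcl d.closure_involutions
    refine exists_simple hO hidx S' (s := (d.x : G ⧸ Cfsg.oddCore G))
      (z := ((d.u d.c d.c : (S' : Subgroup (G ⧸ Cfsg.oddCore G))) : G ⧸ Cfsg.oddCore G)) ?_
      (fun a ha => d.one_class_of_no_index_two hidx ha)
      (u := ((d.u 1 (-1) : (S' : Subgroup (G ⧸ Cfsg.oddCore G))) : G ⧸ Cfsg.oddCore G)) ?_ ?_ ?_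
    · rw [Subgroup.orderOf_coe]
      refine orderOf_eq_prime ?_ ?_
      · rw [pow_two, d.u_mul_u, d.u_eq_one_iff]
        exact ⟨⟨1, by ring⟩, ⟨1, by ring⟩⟩
      · intro h
        have := Int.le_of_dvd d.c_pos (d.u_eq_one_iff.mp h).1
        have := d.c_pos
        omega
    · rw [hΩ]
      exact ⟨_, ⟨1, -1, by simp, Or.inl rfl⟩, rfl⟩
    · intro h
      rw [← Subgroup.coe_pow, OneMemClass.coe_eq_one, pow_two, d.u_mul_u, d.u_eq_one_iff] at h
      obtain ⟨q, hq, hcq⟩ := d.exists_quarter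
      have := Int.le_of_dvd (by norm_num) h.1
      omega
    · intro a ha
      rw [hΩ]
      have := Subgroup.mem_map_of_mem (S' : Subgroup (G ⧸ Cfsg.oddCore G)).subtype
        (d.omega_sup ▸ Subgroup.mem_top (⟨a, ha⟩ : (S' : Subgroup (G ⧸ Cfsg.oddCore G))))
      rwa [Subgroup.map_sup, MonoidHom.map_zpowers] at this

end Cfsg.Agent.S1214
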