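import Cfsg.Statements.S1218
import Cfsg.Agent.Lib.SmallTwo.GL2Types
import Cfsg.Agent.Lib.Classical.UnitaryOrder

set_option autoImplicit false
set_option linter.style.haveILetI false
open scoped MatrixGroups
open Cfsg

namespace Cfsg.Agent.S1218

open Matrix
open CfsgLib.Classical.Herm
open CfsgLib.ClassicalAut (Unitary.Conj Unitary.normOne Unitary.mem_normOne Unitary.card_normOne Unitary.herm_apply)

variable {F : Type*} [Field F] [Finite F] {q : ℕ} (K : Unitary.Conj F q)

local notation "GU2" => Cfsg.preserving (Units.coeHom (Matrix (Fin 2) (Fin 2) F)) (Cfsg.hermForm 2 F q)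

/-- Membership in `GU(2)`. -/
theorem mem_gu {g : (Matrix (Fin 2) (Fin 2) F)ˣ}
    (h00 : g.1 0 0 * K.bar (g.1 0 0) + g.1 1 0 * K.bar (g.1 1 0) = 1)
    (h01 : g.1 0 0 * K.bar (g.1 0 1) + g.1 1 0 * K.bar (g.1 1 1) = 0)
    (h10 : g.1 0 1 * K.bar (g.1 0 0) + g.1 1 1 * K.bar (g.1 1 0) = 0)
    (h11 : g.1 0 1 * K.bar (g.1 0 1) + g.1 1 1 * K.bar (g.1 1 1) = 1) : g ∈ GU2 := by
  intro u v
  rw [Unitary.herm_apply K, Unitary.herm_apply K]
  simp only [Units.coeHom_apply, Matrix.mulVec, dotProduct, Fin.sum_univ_two, map_add, map_mul]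
  linear_combination (u 0 * K.bar (v 0)) * h00 + (u 0 * K.bar (v 1)) * h01 +
    (u 1 * K.bar (v 0)) * h10 + (u 1 * K.bar (v 1)) * h11

/-- Diagonal matrices. -/
def dgU : Fˣ × Fˣ →* (Matrix (Fin 2) (Fin 2) F)ˣ where
  toFun p := ⟨!![(p.1 : F), 0; 0, p.2], !![((p.1⁻¹ : Fˣ) : F), 0; 0, (p.2⁻¹ : Fˣ)],
    by ext i j; fin_cases i <;> fin_cases j <;> simp,
    by ext i j; fin_cases i <;> fin_cases j <;> simp⟩
  map_one' := by ext i j; fin_cases i <;> fin_cases j <;> simp
  map_mul' a b := by ext i j; fin_cases i <;> fin_cases j <;> simp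

theorem dgU_injective : Function.Injective (dgU (F := F)) := fun a b h => by
  have h' := congrArg Units.val h
  exact Prod.ext (Units.ext (by simpa [dgU] using congrFun (congrFun h' 0) 0))
    (Units.ext (by simpa [dgU] using congrFun (congrFun h' 1) 1))

/-- The swap. -/
def swU : (Matrix (Fin 2) (Fin 2) F)ˣ :=
  ⟨!![0, 1; 1, 0], !![0, 1; 1, 0], by ext i j; fin_cases i <;> fin_cases j <;> simp,
    by ext i j; fin_cases i <;> fin_cases j <;> simp⟩

/-- The reflection `diag(1, -1)`. -/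
def negU : (Matrix (Fin 2) (Fin 2) F)ˣ :=
  ⟨!![1, 0; 0, -1], !![1, 0; 0, -1], by ext i j; fin_cases i <;> fin_cases j <;> simp,
    by ext i j; fin_cases i <;> fin_cases j <;> simp⟩

/-- The matrix with eigenvalues `a`, `b` on the lines of `(1, c)` and `(1, -c)`. -/
def splitMat (c : F) (a b : F) : Matrix (Fin 2) (Fin 2) F :=
  !![(a + b) / 2, (a - b) / (2 * c); c * (a - b) / 2, (a + b) / 2]

/-- The split torus. -/
noncomputable def torus (c : F) (hc : c ≠ 0) (h2 : (2 : F) ≠ 0) : Fˣ →* (Matrix (Fin 2) (Fin 2) F)ˣ :=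
  MonoidHom.toHomUnits
    { toFun := fun a => splitMat c a (K.bar (a⁻¹ : Fˣ))
      map_one' := by
        ext i j
        fin_cases i <;> fin_cases j <;> simp [splitMat, one_add_one_eq_two, div_self h2]
      map_mul' := fun a b => by
        ext i j
        fin_cases i <;> fin_cases j <;>
          simp [splitMat, Matrix.mul_apply, Fin.sum_univ_two, _root_.mul_inv_rev] <;> field_simp <;> ring }

include K in
theorem card_gu : Nat.card GU2 = q * ((q + 1) * (q ^ 2 - 1)) := by
  have h := card_GU K (n := 2)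
  norm_num [Finset.prod_range_succ, -Nat.card_eq_fintype_card] at h
  exact h


/-- Let F be a finite field with q² elements, q odd, let GU be the subgroup of GL(2,F) preserving the Hermitian form u₁v₁^q + u₂v₂^q, and P a Sylow 2-subgroup of GU. If q ≡ 1 (mod 4) then P is quasi-dihedral; if q ≡ 3 (mod 4) then P is wreathed. -/
theorem result {F : Type*} [Field F] [Fintype F] (q : ℕ) (hF : Fintype.card F = q ^ 2) (hq : Odd q) (P : Sylow 2 ↥(Cfsg.preserving (Units.coeHom (Matrix (Fin 2) (Fin 2) F)) (Cfsg.hermForm 2 F q))) : (q % 4 = 1 → Cfsg.IsQuasiDihedral (P : Subgroup ↥(Cfsg.preserving (Units.coeHom (Matrix (Fin 2) (Fin 2) F)) (Cfsg.hermForm 2 F q)))) ∧ (q % 4 = 3 → Cfsg.IsWreathed (P : Subgroup ↥(Cfsg.preserving (Units.coeHom (Matrix (Fin 2) (Fin 2) F)) (Cfsg.hermForm 2 F q)))) := by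
  haveI : Finite F := Finite.of_fintype F
  haveI : Fact (Nat.Prime 2) := ⟨Nat.prime_two⟩
  obtain ⟨K⟩ := exists_conj_of_card (F := F) (q := q) hF
  have hqF : Odd (Fintype.card F) := hF ▸ hq.pow
  have h2 : (2 : F) ≠ 0 := Ring.two_ne_zero fun h => by
    have := FiniteField.even_card_iff_char_two.mp h
    have := Nat.odd_iff.mp hqF
    omega
  have hc' := card_gu K
  have hq2 := K.two_le
  constructor
  · intro h1
    obtain ⟨s, r, hr, hsr⟩ := Nat.exists_eq_two_pow_mul_odd (n := q - 1) (by omega)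
    have hs : 2 ≤ s := by
      by_contra h
      obtain ⟨k, rfl⟩ := hr
      interval_cases s <;> omega
    obtain ⟨o, hoo, hqo⟩ : ∃ o, Odd o ∧ q + 1 = 2 * o :=
      ⟨(q + 1) / 2, Nat.odd_iff.mpr (by omega), by omega⟩
    have hsq : q ^ 2 - 1 = 2 ^ (s + 1) * (o * r) := by
      apply Nat.sub_eq_of_eq_add
      calc q ^ 2 = (q - 1) * (q + 1) + 1 := by
            obtain ⟨k, rfl⟩ : ∃ k, q = k + 1 := ⟨q - 1, by omega⟩
            simp only [Nat.add_sub_cancel]; ring
        _ = _ := by rw [hsr, hqo]; ring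
    obtain ⟨g, hg⟩ := IsCyclic.exists_ofOrder_eq_natCard (α := Fˣ)
    rw [Nat.card_units, K.card, hsq] at hg
    set u := g ^ (o * r) with hu
    have huo : orderOf u = 2 ^ (s + 1) := by
      rw [hu, orderOf_pow_of_dvd (hoo.mul hr).pos.ne' (hg ▸ dvd_mul_left _ _), hg,
        Nat.mul_div_cancel _ (hoo.mul hr).pos]
    obtain ⟨c, hc⟩ := K.exists_norm (-1) (by rw [map_neg, map_one])
    have hc0 : c ≠ 0 := fun e => by simp [e] at hc
    have hcb : K.bar c ≠ 0 := (map_ne_zero K.bar).2 hc0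
    let ξ := torus K c hc0 h2
    have hξ : ∀ a : Fˣ, (ξ a).1 = splitMat c a (K.bar (a⁻¹ : Fˣ)) := fun a => rfl
    have hξG : ∀ a : Fˣ, ξ a ∈ Cfsg.preserving (Units.coeHom (Matrix (Fin 2) (Fin 2) F))
        (Cfsg.hermForm 2 F q) := by
      intro a
      have ha : (a : F) * ((a⁻¹ : Fˣ) : F) = 1 := Units.mul_inv a
      have ha' : K.bar (a : F) * K.bar ((a⁻¹ : Fˣ) : F) = 1 := by rw [← map_mul, ha, map_one]
      have hd : K.bar c = -c⁻¹ := by
        field_simp
        linear_combination hc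
      apply mem_gu K <;> rw [hξ] <;>
        simp only [splitMat, Matrix.of_apply, Matrix.cons_val', Matrix.cons_val_zero,
          Matrix.cons_val_one, Matrix.empty_val', Matrix.cons_val_fin_one, map_div₀, map_mul,
          map_add, map_sub, map_ofNat, K.bar_bar, hd] <;>
        field_simp
      · linear_combination (2 : F) * ha + 2 * ha'
      · linear_combination (2 * c) * ha - 2 * c * ha'
      · linear_combination (2 : F) * ha - 2 * ha'
      · linear_combination (2 : F) * ha + 2 * ha'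
    have hinj : Function.Injective ξ := fun a b h => by
      have h' := congrArg Units.val h
      rw [hξ, hξ] at h'
      have e1 := congrFun (congrFun h' 0) 0
      have e2 := congrFun (congrFun h' 1) 0
      simp [splitMat] at e1 e2
      field_simp at e1 e2
      exact Units.ext (K.bar.injective (mul_left_cancel₀ h2 (by linear_combination -e1 + e2)))
    have hyG : negU (F := F) ∈ Cfsg.preserving (Units.coeHom (Matrix (Fin 2) (Fin 2) F))
        (Cfsg.hermForm 2 F q) := by
      apply mem_gu K <;> simp [negU]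
    have hny : negU (F := F) * negU = 1 := by
      ext i j; fin_cases i <;> fin_cases j <;> simp [negU]
    have hyo : orderOf (negU (F := F)) = 2 := by
      refine orderOf_eq_prime (by rw [pow_two, hny]) fun h => ?_
      have := congrArg (fun x : (Matrix (Fin 2) (Fin 2) F)ˣ => x.1 1 1) h
      simp [negU] at this
      exact h2 (by linear_combination -this)
    have huq : (u ^ (2 ^ s - 1) : Fˣ) = (u ^ q)⁻¹ := by
      rw [eq_inv_iff_mul_eq_one, ← pow_add, ← orderOf_dvd_iff_pow_eq_one, huo]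
      obtain ⟨k, rfl⟩ := hr
      refine ⟨k + 1, ?_⟩
      have h3 : 1 ≤ 2 ^ s := Nat.one_le_two_pow
      have h4 : 2 ^ (s + 1) * (k + 1) = 2 ^ s * (2 * k + 1) + 2 ^ s := by ring
      omega
    have hconj : negU * ξ u * negU⁻¹ = ξ (u ^ (2 ^ s - 1)) := by
      rw [mul_inv_eq_iff_eq_mul, huq]
      have hb : (((u ^ q)⁻¹ : Fˣ) : F) = K.bar ((u⁻¹ : Fˣ) : F) := by
        rw [K.bar_apply, ← inv_pow, Units.val_pow_eq_pow_val]
      refine Units.ext ?_
      show (negU (F := F)).1 * (ξ u).1 = (ξ (u ^ q)⁻¹).1 * negU.1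
      rw [hξ, hξ, inv_inv, hb, show K.bar ((u ^ q : Fˣ) : F) = (u : F) from by
        rw [Units.val_pow_eq_pow_val, ← K.bar_apply, K.bar_bar]]
      ext i j
      fin_cases i <;> fin_cases j <;> simp [negU, splitMat, Matrix.mul_apply, Fin.sum_univ_two] <;>
        field_simp <;> ring
    let G := Cfsg.preserving (Units.coeHom (Matrix (Fin 2) (Fin 2) F)) (Cfsg.hermForm 2 F q)
    let x : G := ⟨ξ u, hξG u⟩
    let y : G := ⟨negU, hyG⟩
    have hxo : orderOf x = 2 ^ (s + 1) := by
      rw [← Subgroup.orderOf_coe]; exact (orderOf_injective _ hinj u).trans huo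
    have hyo' : orderOf y = 2 := by rw [← Subgroup.orderOf_coe]; exact hyo
    have hxy : y * x * y⁻¹ = x ^ (2 ^ s - 1) := Subtype.ext (hconj.trans (map_pow ξ u _))
    have hW : IsPGroup 2 (Subgroup.zpowers y) :=
      IsPGroup.of_card (n := 1) (by rw [Nat.card_zpowers, hyo', pow_one])
    have hX : IsPGroup 2 (Subgroup.zpowers x) :=
      IsPGroup.of_card (n := s + 1) (by rw [Nat.card_zpowers, hxo])
    have hWX : Subgroup.zpowers y ≤ Subgroup.normalizer (Subgroup.zpowers x : Set G) := by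
      rw [Subgroup.zpowers_le]
      refine Subgroup.mem_normalizer_fintype fun z hz => ?_
      obtain ⟨k, rfl⟩ := hz
      show y * x ^ k * y⁻¹ ∈ Subgroup.zpowers x
      rw [← conj_zpow, hxy]
      exact Subgroup.zpow_mem _ (Subgroup.pow_mem _ (Subgroup.mem_zpowers x) _) k
    obtain ⟨S, hS⟩ := (IsPGroup.to_sup_of_normal_right' hW hX hWX).exists_le_sylow
    refine CfsgLib.SmallTwo.isQuasiDihedral_congr (Sylow.equiv S P) ⟨s + 1, by omega, ?_,
      ⟨x, hS (Subgroup.mem_sup_right (Subgroup.mem_zpowers _))⟩,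
      ⟨y, hS (Subgroup.mem_sup_left (Subgroup.mem_zpowers _))⟩, ?_, ?_, ?_⟩
    · refine CfsgLib.SmallTwo.card_sylow_two S hc' (m := q * (o * (o * r))) ?_
        (hq.mul (hoo.mul (hoo.mul hr)))
      rw [hsq, hqo]; ring
    · rw [← Subgroup.orderOf_coe]; exact hxo
    · rw [← Subgroup.orderOf_coe]; exact hyo'
    · refine Subtype.ext ?_
      rw [Nat.add_sub_cancel]
      exact hxy
  · intro h3
    obtain ⟨s, r, hr, hsr⟩ := Nat.exists_eq_two_pow_mul_odd (n := q + 1) (by omega)
    have hs : 2 ≤ s := by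
      by_contra h
      obtain ⟨k, rfl⟩ := hr
      interval_cases s <;> omega
    obtain ⟨o, hoo, hqo⟩ : ∃ o, Odd o ∧ q - 1 = 2 * o :=
      ⟨(q - 1) / 2, Nat.odd_iff.mpr (by omega), by omega⟩
    have hsq : q ^ 2 - 1 = 2 ^ (s + 1) * (o * r) := by
      apply Nat.sub_eq_of_eq_add
      calc q ^ 2 = (q - 1) * (q + 1) + 1 := by
            obtain ⟨k, rfl⟩ : ∃ k, q = k + 1 := ⟨q - 1, by omega⟩
            simp only [Nat.add_sub_cancel]; ring
        _ = _ := by rw [hsr, hqo]; ring
    obtain ⟨⟨g, hg1⟩, hg⟩ := IsCyclic.exists_ofOrder_eq_natCard (α := Unitary.normOne K)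
    rw [Unitary.card_normOne K, hsr, Subgroup.orderOf_mk] at hg
    set t := g ^ r with ht
    have hto : orderOf t = 2 ^ s := by
      rw [ht, orderOf_pow_of_dvd hr.pos.ne' (hg ▸ dvd_mul_left _ _), hg,
        Nat.mul_div_cancel _ hr.pos]
    have htn : (t : F) * K.bar (t : F) = 1 :=
      (Unitary.mem_normOne K).1 (Subgroup.pow_mem _ hg1 r)
    have hd : ∀ a b : Fˣ, (a : F) * K.bar (a : F) = 1 → (b : F) * K.bar (b : F) = 1 →
        dgU (a, b) ∈ Cfsg.preserving (Units.coeHom (Matrix (Fin 2) (Fin 2) F))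
          (Cfsg.hermForm 2 F q) := by
      intro a b ha hb
      apply mem_gu K <;> simp [dgU, ha, hb]
    have hw : swU (F := F) ∈ Cfsg.preserving (Units.coeHom (Matrix (Fin 2) (Fin 2) F))
        (Cfsg.hermForm 2 F q) := by
      apply mem_gu K <;> simp [swU]
    have hws : swU (F := F) * swU = 1 := by
      ext i j; fin_cases i <;> fin_cases j <;> simp [swU]
    have hwo : orderOf (swU (F := F)) = 2 := by
      refine orderOf_eq_prime (by rw [pow_two, hws]) fun h => ?_
      have := congrArg (fun x : (Matrix (Fin 2) (Fin 2) F)ˣ => x.1 0 0) h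
      simp [swU] at this
    have hwd : swU * dgU (t, 1) * swU⁻¹ = dgU ((1 : Fˣ), t) := by
      rw [mul_inv_eq_iff_eq_mul]
      ext i j; fin_cases i <;> fin_cases j <;> simp [swU, dgU, Matrix.mul_apply, Fin.sum_univ_two]
    let G := Cfsg.preserving (Units.coeHom (Matrix (Fin 2) (Fin 2) F)) (Cfsg.hermForm 2 F q)
    let x : G := ⟨dgU (t, 1), hd t 1 htn (by simp)⟩
    let y : G := ⟨dgU (1, t), hd 1 t (by simp) htn⟩
    let z : G := ⟨swU, hw⟩
    have hxo : orderOf x = 2 ^ s := by
      rw [← Subgroup.orderOf_coe]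
      exact (orderOf_injective _ dgU_injective (t, 1)).trans (by
        rw [Prod.orderOf_mk, hto, orderOf_one, Nat.lcm_one_right])
    have hyo : orderOf y = 2 ^ s := by
      rw [← Subgroup.orderOf_coe]
      exact (orderOf_injective _ dgU_injective (1, t)).trans (by
        rw [Prod.orderOf_mk, hto, orderOf_one, Nat.lcm_one_left])
    have hzo : orderOf z = 2 := by rw [← Subgroup.orderOf_coe]; exact hwo
    have hxy : x * y = y * x :=
      Subtype.ext (by show dgU (t, 1) * dgU (1, t) = dgU (1, t) * dgU (t, 1)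
                      rw [← map_mul, ← map_mul, mul_comm])
    have hzx : z * x * z⁻¹ = y := Subtype.ext hwd
    have hzy : z * y * z⁻¹ = x := by
      have hzz : z * z = 1 := Subtype.ext hws
      have hzi : z⁻¹ = z := inv_eq_of_mul_eq_one_right hzz
      rw [hzi] at hzx ⊢
      rw [← hzx, ← mul_assoc, ← mul_assoc, hzz, one_mul, mul_assoc, hzz, mul_one]
    set Z := Subgroup.zpowers x ⊔ Subgroup.zpowers y
    have hnx : Subgroup.zpowers y ≤ Subgroup.normalizer (Subgroup.zpowers x : Set G) := by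
      rw [Subgroup.zpowers_le]
      refine Subgroup.mem_normalizer_fintype fun w hw' => ?_
      obtain ⟨k, rfl⟩ := hw'
      show y * x ^ k * y⁻¹ ∈ Subgroup.zpowers x
      rw [← conj_zpow, ← hxy, mul_inv_cancel_right]
      exact Subgroup.zpow_mem _ (Subgroup.mem_zpowers x) k
    have hZ : IsPGroup 2 Z := by
      rw [show Z = Subgroup.zpowers y ⊔ Subgroup.zpowers x from sup_comm _ _]
      exact IsPGroup.to_sup_of_normal_right'
        (IsPGroup.of_card (n := s) (by rw [Nat.card_zpowers, hyo]))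
        (IsPGroup.of_card (n := s) (by rw [Nat.card_zpowers, hxo])) hnx
    have hnz : Subgroup.zpowers z ≤ Subgroup.normalizer (Z : Set G) := by
      rw [Subgroup.zpowers_le]
      refine Subgroup.mem_normalizer_fintype fun w hw' => ?_
      have hle : Z ≤ Z.comap (MulAut.conj z).toMonoidHom := by
        refine sup_le ?_ ?_ <;> rw [Subgroup.zpowers_le, Subgroup.mem_comap]
        · show z * x * z⁻¹ ∈ Z
          rw [hzx]; exact Subgroup.mem_sup_right (Subgroup.mem_zpowers y)
        · show z * y * z⁻¹ ∈ Z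
          rw [hzy]; exact Subgroup.mem_sup_left (Subgroup.mem_zpowers x)
      exact hle hw'
    obtain ⟨S, hS⟩ := (IsPGroup.to_sup_of_normal_right'
      (IsPGroup.of_card (n := 1) (by rw [Nat.card_zpowers, hzo, pow_one])) hZ hnz).exists_le_sylow
    refine CfsgLib.SmallTwo.isWreathed_congr (Sylow.equiv S P) ⟨s, hs, ?_,
      ⟨x, hS (Subgroup.mem_sup_right (Subgroup.mem_sup_left (Subgroup.mem_zpowers _)))⟩,
      ⟨y, hS (Subgroup.mem_sup_right (Subgroup.mem_sup_right (Subgroup.mem_zpowers _)))⟩,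
      ⟨z, hS (Subgroup.mem_sup_left (Subgroup.mem_zpowers _))⟩, ?_, ?_, ?_, ?_, ?_⟩
    · refine CfsgLib.SmallTwo.card_sylow_two S hc' (m := q * (r * (o * r))) ?_
        (hq.mul (hr.mul (hoo.mul hr)))
      rw [hsq, hsr]; ring
    · rw [← Subgroup.orderOf_coe]; exact hxo
    · exact Subtype.ext hxy
    · rw [Subgroup.eq_bot_iff_forall]
      rintro w ⟨⟨i, hi⟩, ⟨j, hj⟩⟩
      have h := congrArg (fun w : (S : Subgroup G) => ((w : G) : (Matrix (Fin 2) (Fin 2) F)ˣ))
        (hi.trans hj.symm)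
      have h' : dgU (t, 1) ^ i = dgU ((1 : Fˣ), t) ^ j := by simpa [x, y] using h
      rw [← map_zpow, ← map_zpow] at h'
      have h1 : t ^ i = 1 := by simpa using congrArg Prod.fst (dgU_injective h')
      rw [← hi]
      refine Subtype.ext (Subtype.ext ?_)
      show dgU (t, 1) ^ i = 1
      rw [← map_zpow, Prod.pow_mk, h1, _root_.one_zpow, Prod.mk_one_one, map_one]
    · rw [← Subgroup.orderOf_coe]; exact hzo
    · exact Subtype.ext hzx

end Cfsg.Agent.S1218
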