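import Cfsg.Statements.S1219
import Cfsg.Agent.Lib.SL3.ClassSquare

set_option autoImplicit false
open scoped MatrixGroups
open Cfsg

namespace Cfsg.Agent.S1219

open Matrix
open scoped MatrixGroups
open CfsgLib.SL3

/-- An involution of `SL₃` in odd characteristic is similar to `diag(1, -1, -1)`. -/
theorem sim_diag {F : Type*} [Field F] (h2 : (2 : F) ≠ 0) (g : Matrix (Fin 3) (Fin 3) F) (hd : g.det = 1)
    (hg : g * g = 1) (h1 : g ≠ 1) : Sim g (emb 1 (-1)) := by
  have hm1 : (-1 : F) ≠ 1 := fun h => h2 (by linear_combination -h)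
  set f := Matrix.toLin' g with hf
  have hff : ∀ v, f (f v) = v := fun v => by simp [hf, Matrix.mulVec_mulVec, hg]
  set P := LinearMap.ker (f - LinearMap.id) with hP
  set M := LinearMap.ker (f + LinearMap.id) with hM
  have hPm : ∀ v, v ∈ P ↔ f v = v := fun v => by simp [hP, sub_eq_zero]
  have hMm : ∀ v, v ∈ M ↔ f v = -v := fun v => by simp [hM, add_eq_zero_iff_eq_neg]
  have hc : IsCompl P M := by
    constructor
    · rw [Submodule.disjoint_def]
      intro v hv hv'
      have := ((hPm v).mp hv).symm.trans ((hMm v).mp hv')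
      have h' : (2 : F) • v = 0 := by rw [two_smul]; nth_rewrite 2 [this]; simp
      exact (smul_eq_zero.mp h').resolve_left h2
    · rw [codisjoint_iff, eq_top_iff]
      intro v _
      have hv : v = (2 : F)⁻¹ • (v + f v) + (2 : F)⁻¹ • (v - f v) := by
        rw [← smul_add, show v + f v + (v - f v) = (2 : F) • v by rw [two_smul]; abel, inv_smul_smul₀ h2]
      rw [hv]
      refine Submodule.add_mem_sup ((hPm _).mpr ?_) ((hMm _).mpr ?_)
      · rw [map_smul, map_add, hff, add_comm]
      · rw [map_smul, map_sub, hff, ← smul_neg, neg_sub]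
  set b := ((Module.finBasis F P).prod (Module.finBasis F M)).map (P.prodEquivOfIsCompl M hc) with hb
  set s : Fin (Module.finrank F P) ⊕ Fin (Module.finrank F M) → F := Sum.elim (fun _ => 1) (fun _ => -1) with hs
  have hfb : ∀ j, f (b j) = s j • b j := by
    rintro (j | j)
    · have h : b (Sum.inl j) = (Module.finBasis F P j : Fin 3 → F) := by simp [hb]
      rw [h, (hPm _).mp (Module.finBasis F P j).2]
      simp [hs]
    · have h : b (Sum.inr j) = (Module.finBasis F M j : Fin 3 → F) := by simp [hb]
      rw [h, (hMm _).mp (Module.finBasis F M j).2]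
      simp [hs]
  have htm : LinearMap.toMatrix b b f = Matrix.diagonal s := by
    ext i j
    rw [LinearMap.toMatrix_apply, hfb, map_smul, Module.Basis.repr_self, Matrix.diagonal_apply]
    by_cases h : i = j <;> simp [h]
  have hdet : (-1 : F) ^ Module.finrank F M = 1 := by
    have h := LinearMap.det_toMatrix b f
    rw [htm, hf, LinearMap.det_toLin', hd, Matrix.det_diagonal, Fintype.prod_sum_type] at h
    simpa [hs] using h
  have hsum : Module.finrank F P + Module.finrank F M = 3 := by
    rw [Submodule.finrank_add_eq_of_isCompl hc, Module.finrank_fin_fun]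
  obtain ⟨hP1, hM2⟩ : Module.finrank F P = 1 ∧ Module.finrank F M = 2 := by
    have : Module.finrank F M ≠ 0 := by
      intro h0
      apply h1
      have hPt : P = ⊤ := by simpa [Submodule.finrank_eq_zero.mp h0] using hc.sup_eq_top
      apply Matrix.toLin'.injective
      rw [Matrix.toLin'_one]
      exact LinearMap.ext fun v => (hPm v).mp (hPt ▸ Submodule.mem_top)
    have : Module.finrank F M ≤ 3 := by omega
    obtain hk | hk | hk : Module.finrank F M = 1 ∨ Module.finrank F M = 2 ∨ Module.finrank F M = 3 := by omega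
    · rw [hk, pow_one] at hdet
      exact absurd hdet hm1
    · omega
    · rw [hk] at hdet
      exact absurd (by linear_combination hdet) hm1
  set b' := b.reindex ((Equiv.sumCongr (finCongr hP1) (finCongr hM2)).trans finSumFinEquiv) with hb'
  have hfb' : ∀ j : Fin 3, f (b' j) = (if j = 0 then (1 : F) else -1) • b' j := by
    intro j
    rw [hb', Module.Basis.reindex_apply, hfb]
    congr 1
    fin_cases j <;> rfl
  refine ⟨Matrix.of fun i j => b' j i, ?_, ?_⟩
  · have : (Pi.basisFun F (Fin 3)).toMatrix b' = Matrix.of fun i j => b' j i := by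
      ext i j; simp [Module.Basis.toMatrix_apply]
    rw [← this]
    haveI := (Pi.basisFun F (Fin 3)).invertibleToMatrix b'
    exact (Matrix.isUnit_det_of_invertible _).ne_zero
  · ext i j
    have h := congrFun (hfb' j) i
    rw [hf, Matrix.toLin'_apply] at h
    change (g *ᵥ b' j) i = _
    rw [h, Matrix.mul_apply, Fin.sum_univ_three]
    fin_cases j <;> simp [emb]

/-- The embedding `A ↦ diag(det A⁻¹, A)` of `GL₂` in `SL₃`. -/
def embHom (F : Type*) [Field F] : GL (Fin 2) F →* SL(3, F) where
  toFun A := ⟨emb ((A : Matrix (Fin 2) (Fin 2) F).det)⁻¹ A, by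
    rw [det_emb, inv_mul_cancel₀ (Matrix.GeneralLinearGroup.det_ne_zero A)]⟩
  map_one' := by
    apply Subtype.ext
    ext i j
    fin_cases i <;> fin_cases j <;> simp [emb]
  map_mul' A B := by
    apply Subtype.ext
    show emb ((A * B : GL (Fin 2) F) : Matrix (Fin 2) (Fin 2) F).det⁻¹ _ = emb _ _ * emb _ _
    rw [Units.val_mul, Matrix.det_mul, mul_inv]
    ext i j
    fin_cases i <;> fin_cases j <;> simp [emb, Matrix.mul_apply, Fin.sum_univ_three, Fin.sum_univ_two]

theorem embHom_val {F : Type*} [Field F] (A : GL (Fin 2) F) :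
    ((embHom F A : SL(3, F)) : Matrix (Fin 3) (Fin 3) F) = emb ((A : Matrix (Fin 2) (Fin 2) F).det)⁻¹ A := rfl

/-- The scalar embedding. -/
def scal (F : Type*) [Field F] : Fˣ →* GL (Fin 2) F :=
  Units.map (Matrix.scalar (Fin 2) : F →+* Matrix (Fin 2) (Fin 2) F).toMonoidHom

theorem scal_val {F : Type*} [Field F] (c : Fˣ) :
    (scal F c : Matrix (Fin 2) (Fin 2) F) = !![(c : F), 0; 0, c] := by
  ext i j
  fin_cases i <;> fin_cases j <;> simp [scal]

/-- Let F be a finite field of odd order q and t an involution of PSL(3,F). Then C(t) is isomorphic to the quotient of GL(2,F) by a central subgroup of order gcd(q−1, 3). -/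
theorem result {F : Type*} [Field F] [Fintype F] (hF : Odd (Fintype.card F)) (t : Matrix.ProjectiveSpecialLinearGroup (Fin 3) F) (ht : orderOf t = 2) : ∃ (Z : Subgroup (GL (Fin 2) F)) (_ : Z.Normal), Z ≤ Subgroup.center (GL (Fin 2) F) ∧ Nat.card Z = Nat.gcd (Fintype.card F - 1) 3 ∧ Nonempty (↥(Subgroup.centralizer ({t} : Set (Matrix.ProjectiveSpecialLinearGroup (Fin 3) F))) ≃* GL (Fin 2) F ⧸ Z) := by
  classical
  have h2 : (2 : F) ≠ 0 := CfsgLib.SL2.odd_card_two_ne_zero (by rwa [Nat.card_eq_fintype_card])
  set C := Subgroup.center SL(3, F)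
  let π : SL(3, F) →* Matrix.ProjectiveSpecialLinearGroup (Fin 3) F := QuotientGroup.mk' C
  have hπ : ∀ x, π x = 1 ↔ x ∈ C := fun x => QuotientGroup.eq_one_iff x
  -- a lift of `t` of order two
  obtain ⟨g, hgg, hgt⟩ : ∃ g : SL(3, F), g * g = 1 ∧ π g = t := by
    obtain ⟨g, rfl⟩ := QuotientGroup.mk'_surjective C t
    have h1 : g * g ∈ C := by
      rw [← hπ, map_mul, ← pow_two, ← ht]
      exact pow_orderOf_eq_one _
    obtain ⟨r, hr, hrg⟩ := Matrix.SpecialLinearGroup.mem_center_iff.mp h1
    refine ⟨g * (g * g), ?_, by rw [map_mul, (hπ _).mpr h1, mul_one]⟩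
    have h3 : (g * g) * (g * g) * (g * g) = 1 := by
      apply Subtype.ext
      rw [Matrix.SpecialLinearGroup.coe_mul (g * g * (g * g)), Matrix.SpecialLinearGroup.coe_mul (g * g) (g * g), ← hrg,
        ← map_mul, ← map_mul, show r * r * r = r ^ 3 by ring, show r ^ 3 = 1 from hr, map_one,
        Matrix.SpecialLinearGroup.coe_one]
    rw [← h3]; group
  have hg1 : g ≠ 1 := fun h => by rw [← hgt, h, map_one, orderOf_one] at ht; omega
  let D : SL(3, F) := ⟨emb 1 (-1), by simp [det_emb, det_fin_two]⟩
  obtain ⟨k, hk⟩ := exists_conj_of_sim (a := 1) (K := -1) D g rfl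
    (sim_diag h2 _ g.2 (by rw [← Matrix.SpecialLinearGroup.coe_mul, hgg]; rfl) (fun h => hg1 (Subtype.ext h)))
  let φ : GL (Fin 2) F →* Matrix.ProjectiveSpecialLinearGroup (Fin 3) F :=
    ((MulAut.conj (π k)).toMonoidHom.comp π).comp (embHom F)
  have hφ : ∀ A, φ A = π (k * embHom F A * k⁻¹) := fun A => by simp [φ]
  have hscal : ∀ c : F, ∀ i j : Fin 3, (Matrix.scalar (Fin 3) c) i j = if i = j then c else 0 := fun c i j => by
    simp [Matrix.scalar_apply, Matrix.diagonal_apply]
  -- the centralizer
  have hrange : φ.range = Subgroup.centralizer ({t} : Set _) := by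
    ext y
    constructor
    · rintro ⟨A, rfl⟩
      rw [Subgroup.mem_centralizer_singleton_iff, hφ, ← hgt, hk, ← map_mul, ← map_mul]
      congr 1
      have hcomm : embHom F A * D = D * embHom F A := by
        apply Subtype.ext
        rw [Matrix.SpecialLinearGroup.coe_mul, Matrix.SpecialLinearGroup.coe_mul]
        ext i j
        fin_cases i <;> fin_cases j <;> simp [embHom_val, D, emb, Matrix.mul_apply, Fin.sum_univ_three]
      calc k * embHom F A * k⁻¹ * (k * D * k⁻¹) = k * (embHom F A * D) * k⁻¹ := by group
        _ = _ := by rw [hcomm]; group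
    · intro hy
      obtain ⟨y, rfl⟩ := QuotientGroup.mk'_surjective C y
      rw [Subgroup.mem_centralizer_singleton_iff, ← hgt, hk] at hy
      set x := k⁻¹ * y * k with hx
      have hxD : π (x * D) = π (D * x) := by
        rw [hx, map_mul, map_mul, map_mul, map_mul, map_mul, map_mul]
        rw [map_mul, map_mul] at hy
        calc π k⁻¹ * π y * π k * π D = π k⁻¹ * (π y * (π k * π D * π k⁻¹)) * π k := by rw [map_inv]; group
          _ = π k⁻¹ * (π k * π D * π k⁻¹ * π y) * π k := by rw [hy]
          _ = _ := by rw [map_inv]; group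
      have hmem : (D * x)⁻¹ * (x * D) ∈ C := by rw [← hπ, map_mul, map_inv, hxD, inv_mul_cancel]
      obtain ⟨c, hc3, hc⟩ := Matrix.SpecialLinearGroup.mem_center_iff.mp hmem
      have he : (x : Matrix (Fin 3) (Fin 3) F) * emb 1 (-1) =
          emb 1 (-1) * (x : Matrix (Fin 3) (Fin 3) F) * Matrix.scalar (Fin 3) c := by
        rw [hc, show emb 1 (-1) = (D : Matrix (Fin 3) (Fin 3) F) from rfl, ← Matrix.SpecialLinearGroup.coe_mul,
          ← Matrix.SpecialLinearGroup.coe_mul, ← Matrix.SpecialLinearGroup.coe_mul, mul_inv_cancel_left]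
      have hmulc : ∀ (Y : Matrix (Fin 3) (Fin 3) F) i j, (Y * Matrix.scalar (Fin 3) c) i j = Y i j * c := fun Y i j => by
        rw [Matrix.scalar_apply, Matrix.mul_diagonal]
      have e := fun i j => (congrFun (congrFun he i) j).trans (hmulc _ i j)
      -- `c = 1`
      have hc1 : c = 1 := by
        have hsq : ∀ i j : Fin 3, (x : Matrix (Fin 3) (Fin 3) F) i j = x i j * (c * c) := by
          intro i j
          have h := e i j
          fin_cases i <;> fin_cases j <;> simp [emb, Matrix.mul_apply, Fin.sum_univ_three] at h ⊢ <;>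
            first | linear_combination (1 + c) * h | linear_combination (1 - c) * h | linear_combination (-1 + c) * h | linear_combination (-1 - c) * h
        by_contra hne
        have hcc : c * c ≠ 1 := fun h => hne (by
          have h3 : c ^ 3 = 1 := hc3
          calc c = c * (c * c) := by rw [h, mul_one]
            _ = c ^ 3 := by ring
            _ = 1 := h3)
        have hz : (x : Matrix (Fin 3) (Fin 3) F) = 0 := by
          ext i j
          have h := hsq i j
          have : (x : Matrix (Fin 3) (Fin 3) F) i j * (c * c - 1) = 0 := by linear_combination -h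
          exact (mul_eq_zero.mp this).resolve_right (sub_ne_zero.mpr hcc)
        have := x.2
        rw [hz, Matrix.det_zero] at this
        exact zero_ne_one this
      subst hc1
      have z01 := e 0 1
      have z02 := e 0 2
      have z10 := e 1 0
      have z20 := e 2 0
      simp [emb, Matrix.mul_apply, Fin.sum_univ_three] at z01 z02 z10 z20
      have two_cancel : ∀ a : F, 2 * a = 0 → a = 0 := fun a h => (mul_eq_zero.mp h).resolve_left h2
      have z01' := two_cancel (x 0 1) (by first | linear_combination z01 | linear_combination -z01)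
      have z02' := two_cancel (x 0 2) (by first | linear_combination z02 | linear_combination -z02)
      have z10' := two_cancel (x 1 0) (by first | linear_combination z10 | linear_combination -z10)
      have z20' := two_cancel (x 2 0) (by first | linear_combination z20 | linear_combination -z20)
      have hxe : (x : Matrix (Fin 3) (Fin 3) F) = emb (x 0 0) !![x 1 1, x 1 2; x 2 1, x 2 2] := by
        ext i j
        fin_cases i <;> fin_cases j <;> simp [emb, z01', z02', z10', z20']
      have hdx : x 0 0 * (!![x 1 1, x 1 2; x 2 1, x 2 2] : Matrix (Fin 2) (Fin 2) F).det = 1 := by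
        rw [← det_emb, ← hxe]; exact x.2
      refine ⟨Matrix.GeneralLinearGroup.mkOfDetNeZero _ (right_ne_zero_of_mul_eq_one hdx), ?_⟩
      have : embHom F (Matrix.GeneralLinearGroup.mkOfDetNeZero _ (right_ne_zero_of_mul_eq_one hdx)) = x := by
        refine Subtype.ext (Eq.trans ?_ hxe.symm)
        show emb _ _ = emb _ _
        rw [show (Matrix.GeneralLinearGroup.mkOfDetNeZero _ (right_ne_zero_of_mul_eq_one hdx) : Matrix (Fin 2) (Fin 2) F) =
          !![x 1 1, x 1 2; x 2 1, x 2 2] from rfl, inv_eq_of_mul_eq_one_left hdx]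
      rw [hφ, this, hx]
      show π _ = π y
      congr 1
      group
  -- the kernel
  have hker : φ.ker = (powMonoidHom 3 : Fˣ →* Fˣ).ker.map (scal F) := by
    ext A
    have hmem : A ∈ φ.ker ↔ embHom F A ∈ C := by
      rw [MonoidHom.mem_ker, ← hπ, hφ, map_mul, map_mul, map_inv]
      exact conj_eq_one_iff
    rw [hmem, Matrix.SpecialLinearGroup.mem_center_iff]
    constructor
    · rintro ⟨r, hr, hA⟩
      have e := fun i j => congrFun (congrFun hA i) j
      have e11 := e 1 1
      have e22 := e 2 2
      have e12 := e 1 2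
      have e21 := e 2 1
      simp [embHom_val, emb] at e11 e22 e12 e21
      have hr0 : r ≠ 0 := fun h => by simp [h] at hr
      refine ⟨Units.mk0 r hr0, ?_, ?_⟩
      · rw [SetLike.mem_coe, MonoidHom.mem_ker, powMonoidHom_apply]
        exact Units.ext (by simpa using hr)
      · ext i j
        rw [scal_val]
        fin_cases i <;> fin_cases j <;> simp <;>
          first | exact e11 | exact e22 | exact e12 | exact e21 | exact e11.symm | exact e22.symm | exact e12.symm | exact e21.symm
    · rintro ⟨c, hc, rfl⟩
      have hc3 : (c : F) ^ 3 = 1 := by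
        rw [← Units.val_pow_eq_pow_val, show c ^ 3 = 1 from hc, Units.val_one]
      refine ⟨c, by simpa using hc3, ?_⟩
      ext i j
      have hci : ((c : F) * c)⁻¹ = c := inv_eq_of_mul_eq_one_right (by linear_combination hc3)
      show (Matrix.scalar (Fin 3) (c : F)) i j = emb _ _ i j
      rw [scal_val]
      fin_cases i <;> fin_cases j <;> simp [emb, det_fin_two, hci]
  refine ⟨φ.ker, inferInstance, ?_, ?_, ⟨(MulEquiv.subgroupCongr hrange).symm.trans (QuotientGroup.quotientKerEquivRange φ).symm⟩⟩
  · rw [hker]
    rintro _ ⟨c, _, rfl⟩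
    rw [Subgroup.mem_center_iff]
    intro A
    apply Units.ext
    exact (Matrix.scalar_commute (c : F) (Commute.all _) (A : Matrix (Fin 2) (Fin 2) F)).eq.symm
  · have hinj : Function.Injective (scal F) := fun a b h => by
      have := congrArg (fun u : GL (Fin 2) F => (u : Matrix (Fin 2) (Fin 2) F) 0 0) h
      simp [scal_val] at this
      exact Units.ext this
    rw [hker, ← Nat.card_congr (Subgroup.equivMapOfInjective _ _ hinj).toEquiv, IsCyclic.card_powMonoidHom_ker,
      Nat.card_units, Nat.card_eq_fintype_card]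
end Cfsg.Agent.S1219
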