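import Cfsg.Statements.S1226
import Cfsg.Agent.Lib.Invol.StronglyEmbedded

set_option autoImplicit false
open Cfsg

namespace Cfsg.Agent.S1226

/-- Let G be a finite group with a Sylow 2-subgroup T that is neither cyclic nor normal, such that the centralizer of every involution is an elementary abelian 2-group. Then N_G(T) is a strongly embedded subgroup of G. -/
theorem result {G : Type*} [Group G] [Finite G] (T : Sylow 2 G) (hnc : ¬ IsCyclic (T : Subgroup G)) (hnn : ¬ (T : Subgroup G).Normal) (hC : ∀ t : G, orderOf t = 2 → IsMulCommutative (Subgroup.centralizer ({t} : Set G)) ∧ ∀ c ∈ Subgroup.centralizer ({t} : Set G), c ^ 2 = 1) : Cfsg.IsStronglyEmbedded (Subgroup.normalizer ((T : Subgroup G) : Set G)) := by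
  have : Fact (Nat.Prime 2) := ⟨Nat.prime_two⟩
  set N := Subgroup.normalizer ((T : Subgroup G) : Set G) with hN
  have hTN : (T : Subgroup G) ≤ N := Subgroup.le_normalizer
  haveI : Nontrivial (T : Subgroup G) := by
    by_contra hn
    rw [not_nontrivial_iff_subsingleton] at hn
    exact hnc inferInstance
  haveI := T.2.center_nontrivial
  obtain ⟨k, hk, hk'⟩ := (T.2.to_subgroup (Subgroup.center (T : Subgroup G))).nontrivial_iff_card.1 inferInstance
  obtain ⟨z, hz⟩ := exists_prime_orderOf_dvd_card' (G := Subgroup.center (T : Subgroup G)) 2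
    (hk' ▸ dvd_pow_self 2 hk.ne')
  have hz2 : orderOf ((z : (T : Subgroup G)) : G) = 2 := by
    rw [Subgroup.orderOf_coe, Subgroup.orderOf_coe, hz]
  have hTab : ∀ a ∈ (T : Subgroup G), ∀ b ∈ (T : Subgroup G), a * b = b * a := by
    obtain ⟨hcomm, -⟩ := hC _ hz2
    have hmem : ∀ a ∈ (T : Subgroup G), a ∈ Subgroup.centralizer ({((z : (T : Subgroup G)) : G)} : Set G) :=
      fun a ha => Subgroup.mem_centralizer_singleton_iff.mpr
        (congrArg Subtype.val (Subgroup.mem_center_iff.mp z.2 ⟨a, ha⟩))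
    exact fun a ha b hb => congrArg Subtype.val (hcomm.is_comm.comm ⟨a, hmem a ha⟩ ⟨b, hmem b hb⟩)
  have hinT : ∀ t ∈ N, orderOf t = 2 → t ∈ (T : Subgroup G) := by
    intro t ht ht2
    have h1 : IsPGroup 2 (Subgroup.zpowers t) := IsPGroup.of_card (n := 1)
      (by rw [Nat.card_zpowers, ht2, pow_one])
    have h2 := h1.inf_normalizer_sylow T
    have hm : t ∈ Subgroup.zpowers t ⊓ (T : Subgroup G) := h2 ▸ ⟨Subgroup.mem_zpowers t, ht⟩
    exact hm.2
  have hCT : ∀ t ∈ (T : Subgroup G), orderOf t = 2 →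
      Subgroup.centralizer ({t} : Set G) = (T : Subgroup G) := by
    intro t ht ht2
    refine T.3 ?_ fun a ha => Subgroup.mem_centralizer_singleton_iff.mpr (hTab a ha t ht)
    intro c
    refine ⟨1, Subtype.ext ?_⟩
    simpa using (hC t ht2).2 c c.2
  refine (CfsgLib.Invol.strongly_iff_centralizer_fusion ?_ ?_).mpr ⟨?_, ?_⟩
  · exact fun h => hnn (Subgroup.normalizer_eq_top_iff.mp h)
  · obtain ⟨j, hj, hj'⟩ := T.2.nontrivial_iff_card.1 inferInstance
    exact even_iff_two_dvd.mpr ((hj' ▸ dvd_pow_self 2 hj.ne' : 2 ∣ _).trans (Subgroup.card_dvd_of_le hTN))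
  · intro t ht ht2
    rw [hCT t (hinT t ht ht2) ht2]
    exact hTN
  · intro t ht s hs ht2 hs2 hconj
    obtain ⟨g, hg⟩ := isConj_iff.mp hconj
    refine ⟨g, ?_, hg⟩
    apply Subgroup.mem_normalizer_iff.mpr
    intro x
    rw [← hCT t (hinT t ht ht2) ht2]
    conv_rhs => rw [hCT t (hinT t ht ht2) ht2, ← hCT s (hinT s hs hs2) hs2]
    simp only [Subgroup.mem_centralizer_singleton_iff]
    rw [← hg]
    constructor
    · intro h
      calc g * x * g⁻¹ * (g * t * g⁻¹) = g * (x * t) * g⁻¹ := by group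
        _ = g * t * g⁻¹ * (g * x * g⁻¹) := by rw [h]; group
    · intro h
      calc x * t = g⁻¹ * (g * x * g⁻¹ * (g * t * g⁻¹)) * g := by group
        _ = t * x := by rw [h]; group
end Cfsg.Agent.S1226
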