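import Cfsg.Statements.S1231


set_option autoImplicit false
open Cfsg

namespace Cfsg.Agent.S1231

theorem pRankLE_of_injective {A B : Type*} [Group A] [Group B] {p k : ℕ} (f : A →* B)
    (hf : Function.Injective f) (hB : Cfsg.PRankLE p k B) : Cfsg.PRankLE p k A := by
  intro E hc he
  rw [← Subgroup.card_map_of_injective (f := f) hf]
  refine hB _ ⟨⟨?_⟩⟩ ?_
  · rintro ⟨_, a, ha, rfl⟩ ⟨_, b, hb, rfl⟩
    exact Subtype.ext (show f a * f b = f b * f a by
      rw [← map_mul, ← map_mul]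
      exact congrArg (fun x : E => f x) (hc.is_comm.comm ⟨a, ha⟩ ⟨b, hb⟩))
  · rintro _ ⟨a, ha, rfl⟩
    rw [← map_pow, he a ha, map_one]

/-- Let H be a subgroup of the finite group G, p a prime, k ≥ 1, and P a Sylow p-subgroup of H whose p-rank is at least k. Then N_G(X) ≤ H for every subgroup X of P of p-rank at least k if and only if H ∩ gHg⁻¹ has p-rank less than k for every g ∉ H. -/
theorem result {G : Type*} [Group G] [Finite G] {p : ℕ} [Fact p.Prime] (k : ℕ) (hk : 1 ≤ k) (H : Subgroup G) (P : Sylow p ↥H) (hP : ¬ Cfsg.PRankLE p (k - 1) ↥(P : Subgroup ↥H)) : (∀ X : Subgroup G, X ≤ (P : Subgroup ↥H).map H.subtype → ¬ Cfsg.PRankLE p (k - 1) ↥X → Subgroup.normalizer (X : Set G) ≤ H) ↔ (∀ g : G, g ∉ H → Cfsg.PRankLE p (k - 1) ↥(H ⊓ H.map (MulAut.conj g).toMonoidHom)) := by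
  classical
  let PG : Subgroup G := (P : Subgroup ↥H).map H.subtype
  have hPG : IsPGroup p PG := P.2.map _
  have hPGH : PG ≤ H := Subgroup.map_subtype_le _
  have hmono : ∀ {A B : Subgroup G}, A ≤ B → Cfsg.PRankLE p (k - 1) B → Cfsg.PRankLE p (k - 1) A :=
    fun hAB hB => pRankLE_of_injective _ (Subgroup.inclusion_injective hAB) hB
  -- a p-subgroup of H is conjugate into PG inside H
  have hconj : ∀ R : Subgroup G, IsPGroup p R → R ≤ H → ∃ h ∈ H, ∀ x ∈ R, h * x * h⁻¹ ∈ PG := by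
    intro R hR hRH
    obtain ⟨S, hS⟩ := IsPGroup.exists_le_sylow (P := R.subgroupOf H)
      (hR.of_equiv (Subgroup.subgroupOfEquivOfLe hRH).symm)
    obtain ⟨h, hh⟩ := MulAction.exists_smul_eq ↥H S P
    refine ⟨h, h.2, fun x hx => ⟨MulAut.conj h ⟨x, hRH hx⟩, ?_, rfl⟩⟩
    rw [← hh]
    exact ⟨⟨x, hRH hx⟩, hS (by simpa [Subgroup.mem_subgroupOf] using hx), rfl⟩
  have hrankP : ¬ Cfsg.PRankLE p (k - 1) PG := fun hB => hP (pRankLE_of_injective
    ((P : Subgroup ↥H).equivMapOfInjective H.subtype H.subtype_injective).toMonoidHom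
    (MulEquiv.injective _) hB)
  constructor
  · intro hN g hg
    by_contra hK
    set K : Subgroup G := H ⊓ H.map (MulAut.conj g).toMonoidHom with hKdef
    simp only [Cfsg.PRankLE, not_forall, exists_prop] at hK
    obtain ⟨E, hEc, hEe, hE⟩ := hK
    have hEp : IsPGroup p E := fun x => ⟨1, Subtype.ext (by rw [pow_one, SubmonoidClass.coe_pow]; exact hEe x x.2)⟩
    obtain ⟨Q, hQ⟩ := hEp.exists_le_sylow
    let Q0 : Subgroup G := (Q : Subgroup ↥K).map K.subtype
    have hQ0p : IsPGroup p Q0 := Q.2.map _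
    have hQ0K : Q0 ≤ K := Subgroup.map_subtype_le _
    have hQ0rank : ¬ Cfsg.PRankLE p (k - 1) Q0 := fun h => by
      have h1 := hmono (A := E.map K.subtype) (Subgroup.map_mono hQ) h ⊤ ⟨⟨?_⟩⟩ ?_
      · rw [Subgroup.card_top, Subgroup.card_map_of_injective K.subtype_injective] at h1
        exact hE h1
      · rintro ⟨⟨_, a, ha, rfl⟩, -⟩ ⟨⟨_, b, hb, rfl⟩, -⟩
        exact Subtype.ext (Subtype.ext (by
          simpa using congrArg (fun x : E => ((x : ↥K) : G)) (hEc.is_comm.comm ⟨a, ha⟩ ⟨b, hb⟩)))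
      · rintro ⟨_, a, ha, rfl⟩ -
        exact Subtype.ext (by
          simpa using congrArg (fun x : ↥K => (x : G)) (hEe a ha))
    obtain ⟨h, hh, hhQ⟩ := hconj Q0 hQ0p (hQ0K.trans inf_le_left)
    let Q1 : Subgroup G := Q0.map (MulAut.conj h).toMonoidHom
    have hQ1 : Q1 ≤ PG := by rintro _ ⟨x, hx, rfl⟩; exact hhQ x hx
    have hQ1rank : ¬ Cfsg.PRankLE p (k - 1) Q1 := fun hr => hQ0rank (pRankLE_of_injective
      (Q0.equivMapOfInjective (MulAut.conj h).toMonoidHom (MulAut.conj h).injective).toMonoidHom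
      (MulEquiv.injective _) hr)
    have hN0 : Subgroup.normalizer (Q0 : Set G) ≤ H := fun n hn => by
      have h1 : h * n * h⁻¹ ∈ H := by
        refine hN Q1 hQ1 hQ1rank ?_
        rw [← Subgroup.map_equiv_normalizer_eq]
        exact ⟨n, hn, rfl⟩
      have := mul_mem (mul_mem (inv_mem hh) h1) hh
      simpa [mul_assoc] using this
    -- a p-subgroup of the conjugate containing Q0 equals Q0
    have hmax : ∀ R : Subgroup G, IsPGroup p R → Q0 ≤ R → R ≤ H.map (MulAut.conj g).toMonoidHom →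
        R = Q0 := by
      intro R hR hQR hRg
      refine le_antisymm ?_ hQR
      haveI := hR.isNilpotent
      by_contra hne
      have hlt : Q0.subgroupOf R < ⊤ := lt_top_iff_ne_top.mpr fun h' =>
        hne (Subgroup.subgroupOf_eq_top.mp h')
      obtain ⟨⟨r, hrR⟩, hrN, hrQ⟩ := SetLike.exists_of_lt (Group.normalizerCondition_of_isNilpotent _ hlt)
      refine hrQ ?_
      show r ∈ Q0
      have hrN0 : r ∈ Subgroup.normalizer (Q0 : Set G) := by
        rw [Subgroup.mem_normalizer_iff] at hrN ⊢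
        intro x
        refine ⟨fun hx => ?_, fun hx => ?_⟩
        · exact (hrN ⟨x, hQR hx⟩).mp hx
        · have hxR : x ∈ R := by
            have := mul_mem (mul_mem (inv_mem hrR) (hQR hx)) hrR
            simpa [mul_assoc] using this
          exact (hrN ⟨x, hxR⟩).mpr hx
      let S' : Subgroup G := R ⊓ Subgroup.normalizer (Q0 : Set G)
      have hS'K : S' ≤ K := le_inf (inf_le_right.trans hN0) (inf_le_left.trans hRg)
      have hS'p : IsPGroup p (S'.subgroupOf K) :=
        (hR.to_le inf_le_left).of_equiv (Subgroup.subgroupOfEquivOfLe hS'K).symm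
      have hle : (Q : Subgroup ↥K) ≤ S'.subgroupOf K := fun x hx =>
        ⟨hQR ⟨x, hx, rfl⟩, Subgroup.le_normalizer ⟨x, hx, rfl⟩⟩
      have := Q.3 hS'p hle
      refine ⟨⟨r, hS'K ⟨hrR, hrN0⟩⟩, ?_, rfl⟩
      rw [← this]
      exact ⟨hrR, hrN0⟩
    obtain ⟨y, hy, hyQ⟩ : ∃ y ∈ H, ∀ x ∈ Q0, y * (g⁻¹ * x * g) * y⁻¹ ∈ PG := by
      obtain ⟨y, hy, hyQ⟩ := hconj (Q0.map (MulAut.conj g⁻¹).toMonoidHom) (hQ0p.map _) (by
        rintro _ ⟨x, hx, rfl⟩
        obtain ⟨z, hz, rfl⟩ := (hQ0K hx).2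
        simpa [mul_assoc] using hz)
      exact ⟨y, hy, fun x hx => hyQ _ ⟨x, hx, by simp⟩⟩
    let R : Subgroup G := PG.map (MulAut.conj (g * y⁻¹)).toMonoidHom
    have hRQ : R = Q0 := hmax R (hPG.map _)
      (fun x hx => ⟨_, hyQ x hx, by simp [mul_assoc]⟩)
      (by
        rintro _ ⟨x, hx, rfl⟩
        exact ⟨y⁻¹ * x * y, mul_mem (mul_mem (inv_mem hy) (hPGH hx)) hy, by simp [mul_assoc]⟩)
    have hQ1eq : Q1 = PG := Subgroup.eq_of_le_of_card_ge hQ1 (by
      refine le_of_eq ?_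
      rw [Subgroup.card_map_of_injective (K := Q0) (f := (MulAut.conj h).toMonoidHom)
        (MulAut.conj h).injective, ← hRQ,
        Subgroup.card_map_of_injective (K := PG) (f := (MulAut.conj (g * y⁻¹)).toMonoidHom)
        (MulAut.conj (g * y⁻¹)).injective])
    have hn : h * (g * y⁻¹) ∈ Subgroup.normalizer (PG : Set G) := by
      rw [Subgroup.mem_normalizer_iff_map_conj_eq]
      conv_rhs => rw [← hQ1eq]
      show PG.map (MulAut.conj (h * (g * y⁻¹))).toMonoidHom = Q0.map (MulAut.conj h).toMonoidHom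
      rw [← hRQ]
      refine Eq.trans ?_ (Subgroup.map_map PG (MulAut.conj h).toMonoidHom
        (MulAut.conj (g * y⁻¹)).toMonoidHom).symm
      exact congrArg (fun f => PG.map f) (MonoidHom.ext fun x => by simp [mul_assoc])
    have hgH := hN PG le_rfl hrankP hn
    apply hg
    have := mul_mem (mul_mem (inv_mem hh) hgH) hy
    simpa [mul_assoc] using this
  · intro hI X hX hXr g hg
    by_contra hgH
    refine hXr (hmono (B := H ⊓ H.map (MulAut.conj g).toMonoidHom) ?_ (hI g hgH))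
    intro x hx
    refine ⟨hPGH (hX hx), g⁻¹ * x * g, hPGH (hX ?_), by simp [mul_assoc]⟩
    have := (Subgroup.mem_normalizer_iff.mp (inv_mem hg) x).mp hx
    simpa using this
end Cfsg.Agent.S1231
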