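import Cfsg.Statements.S1235
import Cfsg.Agent.Lib.TwoRank.FourCent.Main

set_option autoImplicit false
set_option linter.style.haveILetI false
open Cfsg

namespace Cfsg.Agent.S1235

open CfsgLib.TwoRank CfsgLib.TwoRank.FourCent

/-- A dihedral or quasi-dihedral group is a four-group or non-abelian with a cyclic half. -/
theorem half {D : Type*} [Group D] [Finite D]
    (hD : (∃ m : ℕ, 2 ≤ m ∧ Nonempty (D ≃* DihedralGroup m)) ∨ Cfsg.IsQuasiDihedral D) :
    (Nat.card D = 4 ∧ (∀ a : D, a * a = 1)) ∨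
      ((∃ a b : D, ¬ Commute a b) ∧
        ∃ c : D, ∀ u v : D, u ∉ Subgroup.zpowers c → v ∉ Subgroup.zpowers c →
          u * v ∈ Subgroup.zpowers c) := by
  rcases hD with ⟨m, hm, ⟨e⟩⟩ | ⟨n, hn, hcard, x, y, hx, hy, hxy⟩
  · rcases Nat.lt_or_ge m 3 with h3 | h3
    · obtain rfl : m = 2 := by omega
      refine Or.inl ⟨by rw [Nat.card_congr e.toEquiv, DihedralGroup.nat_card], fun a => ?_⟩
      have : ∀ a : DihedralGroup 2, a * a = 1 := by decide
      exact e.injective (by rw [map_mul, map_one]; exact this _)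
    · refine Or.inr ⟨⟨e.symm (DihedralGroup.r 1), e.symm (DihedralGroup.sr 0), fun hc => ?_⟩, ?_⟩
      · have h' := congrArg e hc.eq
        simp only [map_mul, MulEquiv.apply_symm_apply, DihedralGroup.r_mul_sr,
          DihedralGroup.sr_mul_r, zero_sub, zero_add] at h'
        have h'' : ((2 : ℕ) : ZMod m) = 0 := by
          have : (-1 : ZMod m) = 1 := DihedralGroup.sr.inj h'
          push_cast
          linear_combination -this
        rw [ZMod.natCast_eq_zero_iff] at h''
        have := Nat.le_of_dvd (by norm_num) h''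
        omega
      · have hr : ∀ i : ZMod m, e.symm (DihedralGroup.r i) ∈
            Subgroup.zpowers (e.symm (DihedralGroup.r 1)) := fun i => by
          obtain ⟨k, rfl⟩ := ZMod.intCast_surjective i
          exact ⟨k, by simp only [← map_zpow, DihedralGroup.r_one_zpow]⟩
        refine ⟨e.symm (DihedralGroup.r 1), fun u v hu hv => ?_⟩
        obtain ⟨u, rfl⟩ := e.symm.surjective u
        obtain ⟨v, rfl⟩ := e.symm.surjective v
        rcases u with i | i
        · exact absurd (hr i) hu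
        rcases v with j | j
        · exact absurd (hr j) hv
        rw [← map_mul, DihedralGroup.sr_mul_sr]
        exact hr _
  · refine Or.inr ⟨⟨y, x, fun hc => ?_⟩, x, fun u v hu hv => ?_⟩
    · rw [hc.eq, mul_inv_cancel_right] at hxy
      have h1 : x ^ 1 = x ^ (2 ^ (n - 1) - 1) := by rw [pow_one]; exact hxy
      rw [pow_eq_pow_iff_modEq, hx] at h1
      have h4 : 4 ≤ 2 ^ (n - 1) := le_of_eq_of_le (by norm_num : 4 = 2 ^ 2)
        (Nat.pow_le_pow_right (by norm_num) (by omega))
      have h2 : 2 ^ n = 2 * 2 ^ (n - 1) := by rw [← pow_succ']; congr 1; omega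
      rw [Nat.ModEq, h2, Nat.mod_eq_of_lt (by omega), Nat.mod_eq_of_lt (by omega)] at h1
      omega
    · have hidx : (Subgroup.zpowers x).index = 2 := by
        have h := (Subgroup.zpowers x).card_mul_index
        rw [Nat.card_zpowers, hx, hcard, pow_succ] at h
        exact Nat.eq_of_mul_eq_mul_left (by positivity) h
      exact (Subgroup.mul_mem_iff_of_index_two hidx).mpr (iff_of_false hu hv)

/-- Let G be a finite group, x an involution and T ≤ G a Sylow 2-subgroup of C_G(x) (T ≤ C_G(x) with |C_G(x) : T| odd) which is the internal direct product of a subgroup D that is dihedral (of order ≥ 4) or quasi-dihedral and a Klein four-subgroup B. Suppose that for every involution b ∈ B, T ≤ C_G(b) with |C_G(b) : T| odd. Then every section of G has 2-rank at most 4. -/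
theorem result {G : Type*} [Group G] [Finite G] (x : G) (hx : orderOf x = 2) (T D B : Subgroup G) (hT : IsPGroup 2 T) (hTx : T ≤ Subgroup.centralizer ({x} : Set G)) (hTxi : Odd (T.relIndex (Subgroup.centralizer ({x} : Set G)))) (hprod : Cfsg.IsInternalDirectProduct D B T) (hD : (∃ m : ℕ, 2 ≤ m ∧ Nonempty (D ≃* DihedralGroup m)) ∨ Cfsg.IsQuasiDihedral D) (hB : IsKleinFour B) (hTb : ∀ b ∈ B, orderOf b = 2 → T ≤ Subgroup.centralizer ({b} : Set G) ∧ Odd (T.relIndex (Subgroup.centralizer ({b} : Set G)))) : Cfsg.SectionalPRankLE 2 4 G := by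
  haveI : Fact (Nat.Prime 2) := ⟨Nat.prime_two⟩
  obtain ⟨hDT, hBT, hcomm, hdisj, hsup⟩ := hprod
  -- every element of `T` is a product
  let DB : Subgroup G :=
    { carrier := {t | ∃ d ∈ D, ∃ b ∈ B, t = d * b}
      one_mem' := ⟨1, D.one_mem, 1, B.one_mem, (one_mul 1).symm⟩
      mul_mem' := by
        rintro _ _ ⟨d, hd, b, hb, rfl⟩ ⟨d', hd', b', hb', rfl⟩
        refine ⟨d * d', D.mul_mem hd hd', b * b', B.mul_mem hb hb', ?_⟩
        rw [mul_assoc, ← mul_assoc b, ← hcomm d' hd' b hb]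
        group
      inv_mem' := by
        rintro _ ⟨d, hd, b, hb, rfl⟩
        refine ⟨d⁻¹, D.inv_mem hd, b⁻¹, B.inv_mem hb, ?_⟩
        rw [mul_inv_rev, hcomm _ (D.inv_mem hd) _ (B.inv_mem hb)] }
  have hdec : ∀ t ∈ T, ∃ d ∈ D, ∃ b ∈ B, t = d * b := fun t ht =>
    (sup_le (a := D) (b := B) (c := DB) (fun d hd => ⟨d, hd, 1, B.one_mem, (mul_one d).symm⟩)
      (fun b hb => ⟨1, D.one_mem, b, hb, (one_mul b).symm⟩)) (hsup.ge ht)
  have hBsq : ∀ b ∈ B, b * b = 1 := fun b hb =>
    congrArg Subtype.val (IsKleinFour.mul_self (⟨b, hb⟩ : B))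
  have hBc : ∀ b ∈ B, ∀ t ∈ T, Commute b t := by
    intro b hb t ht
    obtain ⟨d, hd, b', hb', rfl⟩ := hdec t ht
    refine Commute.mul_right (hcomm d hd b hb).symm ?_
    show b * b' = b' * b
    have e := hBsq _ (B.mul_mem hb hb')
    calc b * b' = b * b' * (b * b' * (b * b'))⁻¹ := by rw [e]; group
      _ = b'⁻¹ * b⁻¹ := by group
      _ = b' * b := by
          rw [inv_eq_iff_mul_eq_one.mpr (hBsq b hb), inv_eq_iff_mul_eq_one.mpr (hBsq b' hb')]
  obtain ⟨S, hTS⟩ := hT.exists_le_sylow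
  refine sectional_of_sylow S ?_
  set T' := T.subgroupOf (S : Subgroup G)
  set B' := B.subgroupOf (S : Subgroup G)
  have hBS : B ≤ (S : Subgroup G) := hBT.trans hTS
  have hdata : Data T' B' := by
    refine ⟨S.2, fun b hb => hBT hb, ?_, fun b hb => Subtype.ext (hBsq b hb),
      fun b hb t ht => Subtype.ext (hBc b hb t ht), fun b hb hne g hg => ?_⟩
    · rw [Nat.card_congr (Subgroup.subgroupOfEquivOfLe hBS).toEquiv]
      exact hB.card_four
    · -- the centraliser in `S` of an involution of `B`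
      have hne' : (b : G) ≠ 1 := fun e => hne (Subtype.ext e)
      have ho : orderOf (b : G) = 2 := orderOf_eq_prime (by rw [pow_two]; exact hBsq _ hb) hne'
      obtain ⟨hle, hodd⟩ := hTb b hb ho
      set X := (S : Subgroup G) ⊓ Subgroup.centralizer ({(b : G)} : Set G) with hX
      have hTX : T ≤ X := le_inf hTS hle
      have h1 : T.relIndex X ∣ T.relIndex (Subgroup.centralizer ({(b : G)} : Set G)) :=
        Dvd.intro _ (Subgroup.relIndex_mul_relIndex T X _ hTX inf_le_right)
      obtain ⟨k, hk⟩ := (S.2.to_le (inf_le_left : X ≤ S)).index (T.subgroupOf X)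
      have hk1 : T.relIndex X = 2 ^ k := hk
      have : T.relIndex X = 1 := by
        rcases k with _ | k
        · simpa using hk1
        · exfalso
          rw [hk1] at h1
          exact Nat.not_even_iff_odd.mpr hodd
            ((even_iff_two_dvd.mpr ((dvd_pow_self 2 k.succ_ne_zero).trans h1)))
      exact Subgroup.relIndex_eq_one.mp this
        ⟨g.2, Subgroup.mem_centralizer_singleton_iff.mpr (congrArg Subtype.val hg.eq)⟩
  rcases half hD with ⟨hD4, hDsq⟩ | ⟨⟨d1, d2, hd12⟩, c, hc⟩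
  · -- elementary abelian of order sixteen
    have hTsq : ∀ t ∈ T, t * t = 1 := by
      intro t ht
      obtain ⟨d, hd, b, hb, rfl⟩ := hdec t ht
      have e1 : d * d = 1 := congrArg Subtype.val (hDsq ⟨d, hd⟩)
      rw [mul_assoc, ← mul_assoc b, ← hcomm d hd b hb, mul_assoc d b b, hBsq b hb, mul_one, e1]
    have hTc : ∀ t ∈ T, ∀ u ∈ T, Commute t u := by
      intro a ha b hb
      show a * b = b * a
      calc a * b = a * b * (a * b * (a * b))⁻¹ := by rw [hTsq _ (T.mul_mem ha hb)]; group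
        _ = b⁻¹ * a⁻¹ := by group
        _ = b * a := by
            rw [inv_eq_iff_mul_eq_one.mpr (hTsq a ha), inv_eq_iff_mul_eq_one.mpr (hTsq b hb)]
    have h16 : Nat.card T = 16 := by
      let φ : D × B → T := fun x => ⟨x.1 * x.2, T.mul_mem (hDT x.1.2) (hBT x.2.2)⟩
      have hbij : Function.Bijective φ := by
        refine ⟨?_, fun t => ?_⟩
        · rintro ⟨d, b⟩ ⟨d', b'⟩ e
          have e' : (d : G) * b = d' * b' := congrArg Subtype.val e
          have h1 : (d' : G)⁻¹ * d = b' * (b : G)⁻¹ := by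
            rw [eq_mul_inv_iff_mul_eq, mul_assoc, e', inv_mul_cancel_left]
          have h2 : (d' : G)⁻¹ * d ∈ D ⊓ B :=
            ⟨D.mul_mem (D.inv_mem d'.2) d.2, h1 ▸ B.mul_mem b'.2 (B.inv_mem b.2)⟩
          rw [hdisj, Subgroup.mem_bot] at h2
          have hd : (d : G) = d' := by
            have := mul_eq_one_iff_inv_eq.mp h2
            rwa [inv_inv, eq_comm] at this
          rw [hd] at e'
          exact Prod.ext (Subtype.ext hd) (Subtype.ext (mul_left_cancel e'))
        · obtain ⟨d, hd, b, hb, e⟩ := hdec t t.2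
          exact ⟨⟨⟨d, hd⟩, ⟨b, hb⟩⟩, Subtype.ext e.symm⟩
      rw [← Nat.card_congr (Equiv.ofBijective φ hbij), Nat.card_prod, hD4, hB.card_four]
    exact Data16.sectional (B := B') ⟨hdata,
      by rw [Nat.card_congr (Subgroup.subgroupOfEquivOfLe hTS).toEquiv, h16],
      fun t ht => Subtype.ext (hTsq t ht), fun t ht u hu => Subtype.ext (hTc t ht u hu)⟩
  · -- an abelian subgroup of index two
    let C : Subgroup G := (Subgroup.zpowers c).map D.subtype
    have hCD : C ≤ D := Subgroup.map_subtype_le _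
    let A : Subgroup G :=
      { carrier := {t | ∃ d ∈ C, ∃ b ∈ B, t = d * b}
        one_mem' := ⟨1, C.one_mem, 1, B.one_mem, (one_mul 1).symm⟩
        mul_mem' := by
          rintro _ _ ⟨d, hd, b, hb, rfl⟩ ⟨d', hd', b', hb', rfl⟩
          refine ⟨d * d', C.mul_mem hd hd', b * b', B.mul_mem hb hb', ?_⟩
          rw [mul_assoc, ← mul_assoc b, ← hcomm d' (hCD hd') b hb]
          group
        inv_mem' := by
          rintro _ ⟨d, hd, b, hb, rfl⟩
          refine ⟨d⁻¹, C.inv_mem hd, b⁻¹, B.inv_mem hb, ?_⟩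
          rw [mul_inv_rev, hcomm _ (D.inv_mem (hCD hd)) _ (B.inv_mem hb)] }
    have hAT : A ≤ T := by
      rintro _ ⟨d, hd, b, hb, rfl⟩
      exact T.mul_mem (hDT (hCD hd)) (hBT hb)
    have hCc : ∀ a ∈ C, ∀ b ∈ C, Commute a b := by
      rintro _ ⟨a, ⟨i, rfl⟩, rfl⟩ _ ⟨b, ⟨j, rfl⟩, rfl⟩
      simp only [map_zpow]
      exact (Commute.refl _).zpow_zpow i j
    have hAc : ∀ a ∈ A, ∀ a' ∈ A, Commute a a' := by
      rintro _ ⟨d, hd, b, hb, rfl⟩ _ ⟨d', hd', b', hb', rfl⟩
      exact ((hCc d hd d' hd').mul_right (hcomm d (hCD hd) b' hb')).mul_left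
        ((hBc b hb _ (hDT (hCD hd'))).mul_right (hBc b hb b' (hBT hb')))
    let Om : Subgroup G :=
      { carrier := {a | a ∈ A ∧ a * a = 1}
        one_mem' := ⟨A.one_mem, one_mul 1⟩
        mul_mem' := fun {a b} ha hb => ⟨A.mul_mem ha.1 hb.1, by
          rw [mul_assoc, ← mul_assoc b, ← (hAc a ha.1 b hb.1).eq, mul_assoc a b b, hb.2, mul_one,
            ha.2]⟩
        inv_mem' := fun {a} ha => ⟨A.inv_mem ha.1, by rw [← mul_inv_rev, ha.2, inv_one]⟩ }
    have hOm8 : Nat.card Om ≤ 8 := by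
      classical
      haveI := Fintype.ofFinite C
      have hcyc : IsCyclic C := by
        have := Subgroup.isCyclic_iff_exists_zpowers_eq_top (H := C)
        rw [this]
        exact ⟨(c : G), by simp [C, MonoidHom.map_zpowers]⟩
      let s2 := {x : C // x ^ 2 = 1}
      have hs2 : Nat.card s2 ≤ 2 := by
        rw [Nat.card_eq_fintype_card, Fintype.card_subtype]
        exact IsCyclic.card_pow_eq_one_le (by norm_num)
      have hex : ∀ a : Om, ∃ x : s2 × B, (a : G) = ((x.1 : C) : G) * x.2 := by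
        rintro ⟨_, ⟨d, hd, b, hb, rfl⟩, h2⟩
        refine ⟨⟨⟨⟨d, hd⟩, Subtype.ext ?_⟩, ⟨b, hb⟩⟩, rfl⟩
        rw [mul_assoc, ← mul_assoc b, ← hcomm d (hCD hd) b hb, mul_assoc d b b, hBsq b hb,
          mul_one] at h2
        show (((⟨d, hd⟩ : C) ^ 2 : C) : G) = 1
        rw [SubgroupClass.coe_pow, pow_two]
        exact h2
      choose φ hφ using hex
      have := Nat.card_le_card_of_injective φ fun a a' e => Subtype.ext (by rw [hφ a, hφ a', e])
      rw [Nat.card_prod, hB.card_four] at this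
      omega
    refine Data.sectional_cyclic hdata (A.subgroupOf (S : Subgroup G)) (fun a ha => hAT ha) ?_
      (fun a ha b hb => Subtype.ext (hAc a ha b hb)) (Om.subgroupOf (S : Subgroup G))
      (fun a ha e => ⟨ha, congrArg Subtype.val e⟩)
      ((Nat.card_congr (Subgroup.subgroupOfEquivOfLe
        ((fun a ha => hTS (hAT ha.1)) : Om ≤ S)).toEquiv).trans_le hOm8)
      ⟨⟨d1, hTS (hDT d1.2)⟩, hDT d1.2, ⟨d2, hTS (hDT d2.2)⟩, hDT d2.2,
        fun e => hd12 (Subtype.ext (congrArg (fun z : (S : Subgroup G) => (z : G)) e.eq))⟩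
    intro t ht u hu htA huA
    obtain ⟨d, hd, b, hb, et⟩ := hdec t ht
    obtain ⟨d', hd', b', hb', eu⟩ := hdec u hu
    have n1 : (⟨d, hd⟩ : D) ∉ Subgroup.zpowers c := fun e => htA ⟨d, ⟨_, e, rfl⟩, b, hb, et⟩
    have n2 : (⟨d', hd'⟩ : D) ∉ Subgroup.zpowers c := fun e => huA ⟨d', ⟨_, e, rfl⟩, b', hb', eu⟩
    refine ⟨d * d', ⟨_, hc _ _ n1 n2, rfl⟩, b * b', B.mul_mem hb hb', ?_⟩
    show (t : G) * u = _
    rw [et, eu, mul_assoc, ← mul_assoc b, ← hcomm d' hd' b hb]
    group

end Cfsg.Agent.S1235
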