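import Cfsg.Statements.S1236
import Cfsg.Agent.Lib.SmallTwo.DihedralModel
import Cfsg.Agent.Lib.SmallTwo.QuasiDihedralSmall

set_option autoImplicit false
open Cfsg

namespace Cfsg.Agent.S1236

/-- Let R be a finite group, t a central involution of R such that R ⧸ ⟨t⟩ is dihedral (of order ≥ 4) or quasi-dihedral, and A ≤ R an elementary abelian subgroup of order 8 containing t. Then C_R(A) = A. -/
theorem result {R : Type*} [Group R] [Finite R] (t : R) (ht : orderOf t = 2) (htz : t ∈ Subgroup.center R) [(Subgroup.zpowers t).Normal] (hq : (∃ m : ℕ, 2 ≤ m ∧ Nonempty (R ⧸ Subgroup.zpowers t ≃* DihedralGroup m)) ∨ Cfsg.IsQuasiDihedral (R ⧸ Subgroup.zpowers t)) (A : Subgroup R) (hA : Cfsg.IsElementaryAbelian 2 A) (hA8 : Nat.card A = 8) (htA : t ∈ A) : Subgroup.centralizer (A : Set R) = A := by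
  have : Fact (Nat.Prime 2) := ⟨Nat.prime_two⟩
  set Z := Subgroup.zpowers t with hZ
  set π := QuotientGroup.mk' Z with hπ
  set B := A.map π with hB
  have hZA : Z ≤ A := Subgroup.zpowers_le.mpr htA
  have hcard : Nat.card B = 4 := by
    have h1 := Subgroup.card_mul_index (π.comp A.subtype).ker
    rw [Subgroup.index_ker, MonoidHom.range_comp, Subgroup.range_subtype, hA8] at h1
    have e : (π.comp A.subtype).ker = Z.subgroupOf A := by
      ext v
      rw [MonoidHom.mem_ker, Subgroup.mem_subgroupOf]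
      exact QuotientGroup.eq_one_iff (N := Z) (v : R)
    have hZc : Nat.card Z = 2 := by show Nat.card (Subgroup.zpowers t) = 2; rw [Nat.card_zpowers, ht]
    rw [e, Nat.card_congr (Subgroup.subgroupOfEquivOfLe hZA).toEquiv, hZc] at h1
    change 2 * Nat.card B = 8 at h1
    omega
  have hsq : ∀ b ∈ B, b * b = 1 := by
    rintro _ ⟨a, ha, rfl⟩
    rw [← map_mul, ← pow_two, hA.2 a ha, map_one]
  have hK : IsKleinFour B := by
    refine { card_four := hcard, exponent_two := ?_ }
    have hdvd : Monoid.exponent B ∣ 2 :=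
      Monoid.exponent_dvd_of_forall_pow_eq_one fun g => Subtype.ext (by
        simpa [pow_two] using hsq g g.2)
    rcases (Nat.dvd_prime Nat.prime_two).mp hdvd with h | h
    · have := Monoid.exp_eq_one_iff.mp h
      rw [Nat.card_of_subsingleton (1 : B)] at hcard
      omega
    · exact h
  have hself : Subgroup.centralizer (B : Set (R ⧸ Z)) ≤ B := by
    rcases hq with ⟨m, hm, ⟨e⟩⟩ | hqd
    · obtain ⟨h, rfl⟩ : 2 ∣ m := by
        have h1 : Nat.card B ∣ Nat.card (R ⧸ Z) := Subgroup.card_subgroup_dvd_card B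
        rw [hcard, Nat.card_congr e.toEquiv, DihedralGroup.nat_card] at h1
        omega
      have : NeZero h := ⟨by omega⟩
      let eB := B.equivMapOfInjective e.toMonoidHom e.injective
      have : IsKleinFour (B.map e.toMonoidHom) :=
        { card_four := (Nat.card_congr eB.toEquiv).symm.trans hcard
          exponent_two := (Monoid.exponent_eq_of_mulEquiv eB).symm.trans hK.exponent_two }
      obtain ⟨i, hi⟩ := CfsgLib.SmallTwo.Dih.four_eq_of_klein (B.map e.toMonoidHom)
      intro g hg
      have : e g ∈ B.map e.toMonoidHom := by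
        rw [hi, ← CfsgLib.SmallTwo.Dih.centralizer_four i, ← hi]
        refine Subgroup.mem_centralizer_iff.mpr ?_
        rintro _ ⟨b, hb, rfl⟩
        show e b * e g = e g * e b
        rw [← map_mul, ← map_mul, Subgroup.mem_centralizer_iff.mp hg b hb]
      exact (Subgroup.mem_map_iff_mem (f := e.toMonoidHom) e.injective).mp this
    · obtain ⟨n, ⟨d⟩⟩ := CfsgLib.SmallTwo.qd_exists hqd
      obtain ⟨i, -, hi⟩ := d.four_group_eq B hK
      rw [hi, d.centralizer_small_two i]
  refine le_antisymm (fun g hg => ?_) (fun g hg => Subgroup.mem_centralizer_iff.mpr fun a ha =>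
    congrArg Subtype.val (hA.1.is_comm.comm ⟨a, ha⟩ ⟨g, hg⟩))
  obtain ⟨a, ha, hag⟩ := hself (x := π g) (Subgroup.mem_centralizer_iff.mpr (by
    rintro _ ⟨a, ha, rfl⟩
    rw [← map_mul, ← map_mul, Subgroup.mem_centralizer_iff.mp hg a ha]))
  have h1 : a⁻¹ * g ∈ Z := by
    rw [← QuotientGroup.eq]; exact hag
  simpa using mul_mem ha (hZA h1)
end Cfsg.Agent.S1236
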