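import Cfsg.Statements.S1241
import Cfsg.Agent.Lib.Transfer.Thompson

set_option autoImplicit false
set_option linter.style.haveILetI false
set_option linter.unusedVariables false
open Cfsg

namespace Cfsg.Agent.S1241

/-- Let G be a finite group, p a prime, H a subgroup of index prime to p, K a subgroup of H normal in H with H/K commutative, and g ∈ H ∖ K an element of p-power order such that for all integers m and all a ∈ G with a g^m a⁻¹ ∈ H one has a g^m a⁻¹ ∈ g^m K. Then g ∉ G'. -/
theorem result {G : Type*} [Group G] [Finite G] {p : ℕ} [Fact p.Prime] (H K : Subgroup G) (hHK : K ≤ H) (hKn : (K.subgroupOf H).Normal) (hab : ∀ x ∈ H, ∀ y ∈ H, x * y * x⁻¹ * y⁻¹ ∈ K) (hidx : Nat.Coprime p H.index) (g : G) (hgH : g ∈ H) (hgK : g ∉ K) (hgp : ∃ k : ℕ, orderOf g = p ^ k) (hctrl : ∀ (m : ℤ) (a : G), a * g ^ m * a⁻¹ ∈ H → (a * g ^ m * a⁻¹) * (g ^ m)⁻¹ ∈ K) : g ∉ commutator G := by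
  haveI := hKn
  letI : CommGroup (H ⧸ K.subgroupOf H) :=
    { (inferInstance : Group (H ⧸ K.subgroupOf H)) with
      mul_comm := fun a b => by
        induction a using QuotientGroup.induction_on with
        | H a =>
          induction b using QuotientGroup.induction_on with
          | H b =>
            change ((a * b : H) : H ⧸ K.subgroupOf H) = ((b * a : H) : H ⧸ K.subgroupOf H)
            refine (mul_inv_eq_one.mp ?_)
            rw [← QuotientGroup.mk_inv, ← QuotientGroup.mk_mul, QuotientGroup.eq_one_iff,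
              Subgroup.mem_subgroupOf]
            simpa [mul_assoc] using hab a a.2 b b.2 }
  obtain ⟨k, hk⟩ := hgp
  have hctrl' : ∀ (j : ℕ) (a : G) (h : a⁻¹ * g ^ j * a ∈ H),
      (QuotientGroup.mk' (K.subgroupOf H)) ⟨_, h⟩ =
        (QuotientGroup.mk' (K.subgroupOf H)) ⟨g, hgH⟩ ^ j := by
    intro j a h
    have h2 := hctrl j a⁻¹ (by simpa using h)
    rw [← map_pow, QuotientGroup.mk'_apply, QuotientGroup.mk'_apply]
    refine (mul_inv_eq_one.mp ?_)
    rw [← QuotientGroup.mk_inv, ← QuotientGroup.mk_mul, QuotientGroup.eq_one_iff,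
      Subgroup.mem_subgroupOf]
    simpa using h2
  refine CfsgLib.Transfer.notMem_commutator_of_controlled (p := p)
    (QuotientGroup.mk' (K.subgroupOf H)) hgH ⟨k, by rw [← hk, pow_orderOf_eq_one]⟩ ?_ hidx hctrl'
  rw [QuotientGroup.mk'_apply, ne_eq, QuotientGroup.eq_one_iff]
  exact hgK

end Cfsg.Agent.S1241
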