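import Cfsg.Statements.S1242
import Cfsg.Agent.Lib.Transfer.Thompson

set_option autoImplicit false
set_option linter.style.haveILetI false
set_option linter.unusedVariables false
open Cfsg

namespace Cfsg.Agent.S1242

/-- Let G be a finite group, p a prime and H a subgroup of index prime to p such that any two elements of H of p-power order that are conjugate in G are conjugate in H. Then (O^p(G)·G') ∩ H = O^p(H)·H', where O^p denotes the subgroup generated by the elements of order prime to p. -/
theorem result {G : Type*} [Group G] [Finite G] {p : ℕ} [Fact p.Prime] (H : Subgroup G) (hidx : Nat.Coprime p H.index) (hfus : ∀ g ∈ H, (∃ k : ℕ, orderOf g = p ^ k) → ∀ a : G, a * g * a⁻¹ ∈ H → ∃ h ∈ H, h * g * h⁻¹ = a * g * a⁻¹) : (Cfsg.pResidual p G ⊔ commutator G) ⊓ H = (Cfsg.pResidual p ↥H ⊔ commutator ↥H).map H.subtype := by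
  set L := Cfsg.pResidual p G ⊔ commutator G with hL
  set M := Cfsg.pResidual p ↥H ⊔ commutator ↥H with hM
  have hML : M.map H.subtype ≤ L := by
    rw [hM, Subgroup.map_sup]
    refine sup_le ((CfsgLib.Transfer.map_pResidual_le H.subtype).trans le_sup_left) ?_
    rw [commutator_def, Subgroup.map_commutator]
    exact (Subgroup.commutator_mono le_top le_top).trans le_sup_right
  refine le_antisymm ?_ (le_inf hML ?_)
  swap
  · rintro _ ⟨x, -, rfl⟩
    exact x.2
  haveI := CfsgLib.Transfer.pResidual_normal p ↥H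
  haveI : M.Normal := by rw [hM]; exact Subgroup.sup_normal _ _
  letI : CommGroup (H ⧸ M) :=
    { (inferInstance : Group (H ⧸ M)) with
      mul_comm := fun a b => by
        induction a using QuotientGroup.induction_on with
        | H a =>
          induction b using QuotientGroup.induction_on with
          | H b =>
            change ((a * b : H) : H ⧸ M) = ((b * a : H) : H ⧸ M)
            refine (mul_inv_eq_one.mp ?_)
            rw [← QuotientGroup.mk_inv, ← QuotientGroup.mk_mul, QuotientGroup.eq_one_iff]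
            refine le_sup_right (α := Subgroup H) ?_
            rw [commutator_def]
            have := Subgroup.commutator_mem_commutator (Subgroup.mem_top a) (Subgroup.mem_top b)
            simpa [commutatorElement_def, mul_assoc] using this }
  set φ := QuotientGroup.mk' M with hφ
  have hker : L ≤ (MonoidHom.transfer φ).ker := by
    refine sup_le ?_ (Abelianization.commutator_subset_ker _)
    refine CfsgLib.Transfer.le_ker_of_isPGroup ?_ _
    exact (CfsgLib.Transfer.isPGroup_quotient_pResidual (p := p) (G := H)).of_surjective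
      (QuotientGroup.map _ M (MonoidHom.id H) le_sup_left) (fun q => by
        induction q using QuotientGroup.induction_on with
        | H x => exact ⟨x, rfl⟩)
  rintro x ⟨hxL, hxH⟩
  obtain ⟨a, m, hm, hxo, hq, hpart⟩ := CfsgLib.Transfer.exists_pow_coprime_part (p := p) x
  -- the `p`-part
  have hg : (⟨x, hxH⟩ : H) ^ m ∈ M := by
    have hgH : x ^ m ∈ H := H.pow_mem hxH m
    have key : ∀ (j : ℕ) (c : G) (h : c⁻¹ * (x ^ m) ^ j * c ∈ H),
        φ ⟨_, h⟩ = φ ⟨x ^ m, hgH⟩ ^ j := by
      intro j c h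
      have hpj : ∃ k : ℕ, orderOf ((x ^ m) ^ j) = p ^ k := by
        obtain ⟨k, -, hk⟩ := (Nat.dvd_prime_pow (Fact.out : p.Prime)).mp
          (hpart ▸ orderOf_pow_dvd j)
        exact ⟨k, hk⟩
      obtain ⟨b, hb, hb'⟩ := hfus _ (H.pow_mem hgH j) hpj c⁻¹ (by rwa [inv_inv])
      rw [inv_inv] at hb'
      have e : (⟨_, h⟩ : H) = ⟨b, hb⟩ * ⟨x ^ m, hgH⟩ ^ j * ⟨b, hb⟩⁻¹ :=
        Subtype.ext (by simp [hb'])
      rw [e, map_mul, map_mul, map_pow, map_inv, mul_inv_cancel_comm]
    have h1 := CfsgLib.Transfer.transfer_eq_pow_of_controlled φ hgH key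
    rw [show MonoidHom.transfer φ (x ^ m) = 1 from hker (L.pow_mem hxL m)] at h1
    by_contra hne
    refine CfsgLib.Transfer.pow_ne_one_of_coprime_prime (p := p) (a := φ ⟨x ^ m, hgH⟩)
      ⟨a, ?_⟩ ?_ hidx h1.symm
    · rw [← map_pow, show (⟨x ^ m, hgH⟩ : H) ^ p ^ a = 1 from Subtype.ext (by
        change (x ^ m) ^ p ^ a = 1
        rw [← hpart, pow_orderOf_eq_one]), map_one]
    · rw [hφ, QuotientGroup.mk'_apply, ne_eq, QuotientGroup.eq_one_iff]
      exact hne
  -- the `p'`-part
  have hh : (⟨x, hxH⟩ : H) ^ (p ^ a) ∈ M := by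
    refine le_sup_left (α := Subgroup H) (CfsgLib.Transfer.mem_pResidual_of_coprime ?_)
    rwa [← Subgroup.orderOf_coe]
  refine ⟨⟨x, hxH⟩, ?_, rfl⟩
  have hgcd : (m : ℕ).Coprime (p ^ a) :=
    ((Fact.out : p.Prime).coprime_iff_not_dvd.mpr hm).symm.pow_right a
  have hb := Nat.gcd_eq_gcd_ab m (p ^ a)
  rw [Nat.Coprime.gcd_eq_one hgcd] at hb
  rw [SetLike.mem_coe, ← zpow_one (⟨x, hxH⟩ : H), show (1 : ℤ) = ((1 : ℕ) : ℤ) from rfl, hb,
    zpow_add, zpow_mul, zpow_mul, zpow_natCast, zpow_natCast]
  exact M.mul_mem (M.zpow_mem hg _) (M.zpow_mem hh _)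

end Cfsg.Agent.S1242
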