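import Cfsg.Statements.S1244
import Cfsg.Agent.Lib.Transfer.Thompson

set_option autoImplicit false
set_option linter.style.haveILetI false
set_option linter.unusedVariables false
open Cfsg

namespace Cfsg.Agent.S1244

/-- Let G be a finite group with no subgroup of index 2 whose Sylow 2-subgroup S is commutative, and let R ≤ S be a subgroup whose 2-rank is exactly one less than the 2-rank r of S. Then every involution of S is conjugate, by an element of N_G(S), to an element of R. -/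
theorem result {G : Type*} [Group G] [Finite G] (hG : ∀ H : Subgroup G, H.index ≠ 2) (S : Sylow 2 G) (hS : IsMulCommutative (S : Subgroup G)) (r : ℕ) (hr1 : 1 ≤ r) (hSr : Cfsg.PRankLE 2 r (S : Subgroup G) ∧ ¬ Cfsg.PRankLE 2 (r - 1) (S : Subgroup G)) (R : Subgroup G) (hRS : R ≤ S) (hRr : Cfsg.PRankLE 2 (r - 1) R ∧ (r = 1 ∨ ¬ Cfsg.PRankLE 2 (r - 2) R)) (t : G) (ht : orderOf t = 2) (htS : t ∈ S) : ∃ n ∈ Subgroup.normalizer ((S : Subgroup G) : Set G), n * t * n⁻¹ ∈ R := by
  haveI := Fact.mk Nat.prime_two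
  haveI := hS
  by_cases htR : t ∈ R
  · exact ⟨1, one_mem _, by simpa using htR⟩
  have hcomm : ∀ a ∈ (S : Subgroup G), ∀ b ∈ (S : Subgroup G), a * b = b * a :=
    fun a ha b hb => congrArg Subtype.val (mul_comm' (⟨a, ha⟩ : (S : Subgroup G)) ⟨b, hb⟩)
  -- elements of square one of `S`, and those in `R`
  let Ω : Subgroup (S : Subgroup G) :=
    { carrier := {a | a * a = 1}
      one_mem' := one_mul 1
      mul_mem' := fun {a b} (ha : a * a = 1) (hb : b * b = 1) => by
        change a * b * (a * b) = 1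
        rw [mul_assoc, ← mul_assoc b a b, mul_comm' b a, mul_assoc, hb, mul_one, ha]
      inv_mem' := fun {a} (ha : a * a = 1) => by
        change a⁻¹ * a⁻¹ = 1
        rw [← mul_inv_rev, ha, inv_one] }
  set R' := R.subgroupOf (S : Subgroup G) with hR'
  have hsq : ∀ A : Subgroup (S : Subgroup G), A ≤ Ω → IsMulCommutative A ∧ ∀ a ∈ A, a ^ 2 = 1 :=
    fun A hA => ⟨⟨⟨fun a b => Subtype.ext (mul_comm' (a : (S : Subgroup G)) b)⟩⟩,
      fun a ha => (pow_two a).trans (hA ha)⟩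
  have hΩ : Nat.card Ω ≤ 2 ^ r := hSr.1 Ω (hsq Ω le_rfl).1 (hsq Ω le_rfl).2
  have hΩR : 2 ^ r ≤ 2 * Nat.card ↥(Ω ⊓ R') := by
    rcases hRr.2 with rfl | h2
    · have : 0 < Nat.card ↥(Ω ⊓ R') := Nat.card_pos
      omega
    · rw [Cfsg.PRankLE] at h2
      push Not at h2
      obtain ⟨A, -, hA2, hAc⟩ := h2
      set A' := (A.map R.subtype).subgroupOf (S : Subgroup G) with hA'
      have hAS : A.map R.subtype ≤ (S : Subgroup G) := by
        rintro _ ⟨x, -, rfl⟩
        exact hRS x.2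
      have hle : A' ≤ Ω ⊓ R' := by
        intro w hw
        obtain ⟨x, hx, e : (x : G) = (w : G)⟩ := hw
        refine ⟨Subtype.ext ?_, ?_⟩
        · change (w : G) * (w : G) = 1
          have := congrArg (Subtype.val) (hA2 x hx)
          rw [← e, ← pow_two]
          simpa using this
        · exact Subgroup.mem_subgroupOf.mpr (e ▸ x.2)
      have hcA : Nat.card A' = Nat.card A := by
        rw [hA', Nat.card_congr (Subgroup.subgroupOfEquivOfLe hAS).toEquiv,
          Subgroup.card_map_of_injective R.subtype_injective]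
      obtain ⟨k, hk⟩ := (S.2.to_subgroup (Ω ⊓ R')).exists_card_eq
      have h3 : 2 ^ (r - 2) < 2 ^ k := by
        rw [← hk]
        exact lt_of_lt_of_le (hcA.symm ▸ hAc) (Subgroup.card_le_of_le hle)
      have h4 : r - 2 < k := (Nat.pow_lt_pow_iff_right (by norm_num)).mp h3
      rw [hk, ← pow_succ']
      exact Nat.pow_le_pow_right two_pos (by omega)
  have hidx : ∀ a b : (S : Subgroup G), a ∈ Ω → b ∈ Ω → a ∉ R' → b ∉ R' → a * b ∈ R' := by
    intro a b ha hb haR hbR
    by_contra hab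
    have h1 : (Ω ⊓ R').relIndex Ω * Nat.card ↥(Ω ⊓ R') = Nat.card Ω := by
      rw [mul_comm, ← Nat.card_congr (Subgroup.subgroupOfEquivOfLe
        (inf_le_left : Ω ⊓ R' ≤ Ω)).toEquiv, Subgroup.relIndex, Subgroup.card_mul_index]
    have h2 : 0 < Nat.card ↥(Ω ⊓ R') := Nat.card_pos
    have h3 : (Ω ⊓ R').relIndex Ω = 2 := by
      have h4 : (Ω ⊓ R').relIndex Ω ≤ 2 := by
        by_contra h5
        have h6 : 3 * Nat.card ↥(Ω ⊓ R') ≤ (Ω ⊓ R').relIndex Ω * Nat.card ↥(Ω ⊓ R') :=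
          Nat.mul_le_mul_right _ (by omega)
        omega
      have h5 : (Ω ⊓ R').relIndex Ω ≠ 1 := fun h =>
        haR ((Subgroup.relIndex_eq_one.mp h) ha).2
      have h6 : (Ω ⊓ R').relIndex Ω ≠ 0 := Subgroup.index_ne_zero_of_finite
      omega
    have h7 := (Subgroup.mul_mem_iff_of_index_two (a := (⟨a, ha⟩ : Ω)) (b := ⟨b, hb⟩) h3).mpr
    refine hab ((h7 ⟨fun h => absurd h.2 haR, fun h => absurd h.2 hbR⟩).2)
  -- a maximal overgroup of `R` whose involutions lie in `R`
  obtain ⟨Q, ⟨hRQ, hQΩ⟩, hmax⟩ :=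
    (Set.toFinite {Q : Subgroup (S : Subgroup G) | R' ≤ Q ∧ Q ⊓ Ω ≤ R'}).exists_maximal
      ⟨R', le_rfl, inf_le_left⟩
  haveI hQn : Q.Normal := ⟨fun q hq c => by rwa [mul_comm' c q, mul_inv_cancel_right]⟩
  letI : CommGroup ((S : Subgroup G) ⧸ Q) :=
    { (inferInstance : Group ((S : Subgroup G) ⧸ Q)) with
      mul_comm := fun a b => by
        induction a using QuotientGroup.induction_on with
        | H a =>
          induction b using QuotientGroup.induction_on with
          | H b => rw [← QuotientGroup.mk_mul, ← QuotientGroup.mk_mul, mul_comm' a b] }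
  -- every coset of order two contains an involution outside `R`
  have key : ∀ w : (S : Subgroup G), w * w ∈ Q → w ∉ Q → ∃ ω ∈ Ω, ω ∉ R' ∧ w⁻¹ * ω ∈ Q := by
    intro w hw2 hwQ
    have hwin : w ∈ Q ⊔ Subgroup.zpowers w :=
      Subgroup.mem_sup_right (Subgroup.mem_zpowers w)
    have hnot : ¬ ((Q ⊔ Subgroup.zpowers w) ⊓ Ω ≤ R') := fun hle =>
      hwQ (hmax (y := Q ⊔ Subgroup.zpowers w) ⟨hRQ.trans le_sup_left, hle⟩ le_sup_left hwin)
    obtain ⟨ω, hω, hωR⟩ := SetLike.not_le_iff_exists.mp hnot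
    refine ⟨ω, hω.2, hωR, ?_⟩
    obtain ⟨q, hq, u, hu, hqu⟩ := Subgroup.mem_sup_of_normal_left.mp hω.1
    obtain ⟨j, rfl⟩ := Subgroup.mem_zpowers_iff.mp hu
    have hev : ∀ i : ℤ, w ^ (2 * i) ∈ Q := fun i => by
      rw [zpow_mul, zpow_two]
      exact Q.zpow_mem hw2 i
    rcases Int.even_or_odd' j with ⟨i, rfl | rfl⟩
    · refine absurd (hQΩ ⟨?_, hω.2⟩) hωR
      rw [← hqu]
      exact Q.mul_mem hq (hev i)
    · rw [← hqu, zpow_add_one, mul_comm' (w ^ (2 * i)) w, ← mul_assoc q w, mul_comm' q w,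
        ← mul_assoc, ← mul_assoc, inv_mul_cancel, one_mul]
      exact Q.mul_mem hq (hev i)
  have hA : ∀ a b : (S : Subgroup G) ⧸ Q, a * a = 1 → b * b = 1 → a ≠ 1 → b ≠ 1 → a = b := by
    intro a b
    induction a using QuotientGroup.induction_on with
    | H a =>
      induction b using QuotientGroup.induction_on with
      | H b =>
        intro ha hb ha1 hb1
        rw [← QuotientGroup.mk_mul, QuotientGroup.eq_one_iff] at ha hb
        rw [ne_eq, QuotientGroup.eq_one_iff] at ha1 hb1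
        obtain ⟨ω₁, h1, h1', h1''⟩ := key a ha ha1
        obtain ⟨ω₂, h2, h2', h2''⟩ := key b hb hb1
        rw [← QuotientGroup.eq] at h1'' h2''
        rw [h1'', h2'', QuotientGroup.eq, show ω₁⁻¹ = ω₁ from inv_eq_of_mul_eq_one_right h1]
        exact hRQ (hidx ω₁ ω₂ h1 h2 h1' h2')
  have htt := CfsgLib.Transfer.sq_eq_one_of_orderOf_eq_two ht
  have hne : QuotientGroup.mk' Q ⟨t, htS⟩ ≠ 1 := by
    rw [QuotientGroup.mk'_apply, ne_eq, QuotientGroup.eq_one_iff]
    exact fun h => htR (hQΩ ⟨h, Subtype.ext htt⟩)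
  obtain ⟨a, ha, ha1⟩ := CfsgLib.Transfer.exists_conj_ker_sylow (QuotientGroup.mk' Q) hA
    (fun f => by
      by_contra hf
      obtain ⟨M, hM⟩ := CfsgLib.Transfer.exists_index_of_hom_isPGroup (S.2.to_quotient Q) f hf
      exact hG M hM)
    htt htS hne (Nat.not_even_iff_odd.mp fun e => S.not_dvd_index (even_iff_two_dvd.mp e))
  rw [QuotientGroup.mk'_apply, QuotientGroup.eq_one_iff] at ha1
  have haR : a⁻¹ * t * a ∈ R := by
    refine Subgroup.mem_subgroupOf.mp (hQΩ ⟨ha1, Subtype.ext ?_⟩)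
    change a⁻¹ * t * a * (a⁻¹ * t * a) = 1
    calc _ = a⁻¹ * (t * t) * a := by group
      _ = 1 := by rw [htt]; group
  obtain ⟨n, hn, hn'⟩ := CfsgLib.Transfer.exists_normalizer_conj_of_isMulCommutative S hS htS a⁻¹
    (by rwa [inv_inv])
  exact ⟨n, hn, by rw [hn', inv_inv]; exact haR⟩

end Cfsg.Agent.S1244
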