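import Cfsg.Statements.S1247
import Cfsg.Agent.Lib.Layer.FStar
import Cfsg.Agent.Lib.Coprime.Action
import Cfsg.Agent.Lib.Fitting.Basic
import Cfsg.Agent.Lib.Transfer.Basic

set_option autoImplicit false
open Cfsg

namespace Cfsg.Agent.S1247

open CfsgLib
open scoped commutatorElement

/-- A subgroup containing all elements of prime power order is the whole group. -/
theorem mem_of_prime_powers {K : Type*} [Group K] [Finite K] (C : Subgroup K)
    (h : ∀ (r : ℕ), r.Prime → ∀ z : K, (∃ k, orderOf z = r ^ k) → z ∈ C) (x : K) : x ∈ C := by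
  suffices C = ⊤ from this ▸ Subgroup.mem_top x
  refine Subgroup.eq_top_of_card_eq _ (Nat.dvd_antisymm C.card_subgroup_dvd_card ?_)
  refine Nat.dvd_iff_prime_pow_dvd_dvd _ _ |>.mpr fun r k hr hd => ?_
  haveI := Fact.mk hr
  obtain ⟨P⟩ : Nonempty (Sylow r K) := inferInstance
  have hPC : (P : Subgroup K) ≤ C := fun z hz => h r hr z (by
    obtain ⟨n, hn⟩ := IsPGroup.iff_orderOf.mp P.2 ⟨z, hz⟩
    exact ⟨n, by rwa [Subgroup.orderOf_mk] at hn⟩)
  exact (P.pow_dvd_card_of_pow_dvd_card hd).trans (Subgroup.card_dvd_of_le hPC)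

variable {A : Type*} [Group A] [Finite A]

theorem isPGroup_zpowers' {r : ℕ} [Fact r.Prime] {z : A} (hz : ∃ k, orderOf z = r ^ k) :
    IsPGroup r (Subgroup.zpowers z) := Transfer.isPGroup_zpowers hz

/-- An element of prime power order of the Fitting subgroup lies in the corresponding core. -/
theorem mem_pCore_of_mem_fitting {r : ℕ} [Fact r.Prime] {z : A} (hz : z ∈ Cfsg.fittingSubgroup A)
    (hzo : ∃ k, orderOf z = r ^ k) : z ∈ Cfsg.pCore r A := by
  haveI := Fitting.fittingSubgroup_normal (G := A)
  haveI hn := Fitting.fittingSubgroup_isNilpotent (G := A)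
  set F := Cfsg.fittingSubgroup A
  have h03 : ∀ (p : ℕ) (_ : Fact p.Prime) (P : Sylow p F), (P : Subgroup F).Normal :=
    ((Group.isNilpotent_of_finite_tfae (G := F)).out 0 3).mp hn
  have hp : IsPGroup r (Subgroup.zpowers (⟨z, hz⟩ : F)) :=
    Transfer.isPGroup_zpowers (by simpa [Subgroup.orderOf_mk] using hzo)
  obtain ⟨S, hS⟩ := hp.exists_le_sylow
  haveI : (S : Subgroup F).Characteristic := Sylow.characteristic_of_normal S (h03 r inferInstance S)
  exact Fitting.le_pCore ConjAct.normal_of_characteristic_of_normal (S.2.map _)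
    ⟨_, hS (Subgroup.mem_zpowers _), rfl⟩

theorem commute_cores {p r : ℕ} [Fact p.Prime] [Fact r.Prime] (hne : p ≠ r) {x y : A}
    (hx : x ∈ Cfsg.pCore p A) (hy : y ∈ Cfsg.pCore r A) : Commute x y :=
  Subgroup.commute_of_normal_of_disjoint _ _ (Fitting.pCore_normal p) (Fitting.pCore_normal r)
    (IsPGroup.disjoint_of_ne p r hne _ _ (Fitting.pCore_isPGroup p) (Fitting.pCore_isPGroup r)) x y hx hy

theorem layer_le (S : Subgroup A) (hS : S.IsSubnormal) (hSle : S ≤ Cfsg.generalizedFittingSubgroup A)
    (hSC : Cfsg.generalizedFittingSubgroup A ⊓ Subgroup.centralizer (S : Set A) ≤ S) :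
    Cfsg.layer A ≤ S := by
  refine sSup_le fun L hL => ?_
  rcases Layer.le_or_commutator_eq_bot hL hS with h | h
  · exact h
  · exact (le_inf (Layer.le_generalizedFitting_of_isComponent hL)
      (Subgroup.commutator_eq_bot_iff_le_centralizer.mp h)).trans hSC

theorem decomp {x : A} (hx : x ∈ Cfsg.generalizedFittingSubgroup A) :
    ∃ e ∈ Cfsg.layer A, ∃ f ∈ Cfsg.fittingSubgroup A, e * f = x := by
  haveI := Fitting.fittingSubgroup_normal (G := A)
  exact Set.mem_mul.mp (by rw [← Subgroup.mul_normal]; exact hx)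

theorem commute_layer_fitting {e f : A} (he : e ∈ Cfsg.layer A) (hf : f ∈ Cfsg.fittingSubgroup A) :
    Commute e f :=
  (Layer.fitting_le_centralizer_layer hf e he)

theorem center_core_le (S : Subgroup A) (hSle : S ≤ Cfsg.generalizedFittingSubgroup A)
    (hSC : Cfsg.generalizedFittingSubgroup A ⊓ Subgroup.centralizer (S : Set A) ≤ S) {r : ℕ} [Fact r.Prime] :
    (Subgroup.center (Cfsg.pCore r A)).map (Cfsg.pCore r A).subtype ≤ S := by
  rintro _ ⟨z, hz, rfl⟩
  refine hSC (Subgroup.mem_inf.mpr ⟨Layer.fittingSubgroup_le_generalizedFitting (Fitting.pCore_le_fittingSubgroup r z.2), ?_⟩)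
  intro s hs
  obtain ⟨e, he, f, hf, rfl⟩ := decomp (hSle hs)
  have h1 : Commute e (z : A) := commute_layer_fitting he (Fitting.pCore_le_fittingSubgroup r z.2)
  have h2 : (⟨f, hf⟩ : Cfsg.fittingSubgroup A) ∈ (Subgroup.centralizer ({(z : A)} : Set A)).subgroupOf _ := by
    refine mem_of_prime_powers _ (fun q hq w hw => ?_) _
    haveI := Fact.mk hq
    refine Subgroup.mem_centralizer_singleton_iff.mpr ?_
    have hwc := mem_pCore_of_mem_fitting (r := q) w.2 (by simpa [Subgroup.orderOf_coe] using hw)
    rcases eq_or_ne q r with rfl | hne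
    · exact congrArg Subtype.val (Subgroup.mem_center_iff.mp hz ⟨w, hwc⟩)
    · exact commute_cores hne hwc z.2
  exact (h1.mul_left (Subgroup.mem_centralizer_singleton_iff.mp h2)).eq

theorem commute_layer (S : Subgroup A) (hE : Cfsg.layer A ≤ S) {p : ℕ} [Fact p.Prime] (Y : Subgroup A)
    (hY : IsPGroup p Y) (hSY : S ≤ Subgroup.normalizer (Y : Set A)) :
    Cfsg.layer A ≤ Subgroup.centralizer (Y : Set A) := by
  refine sSup_le fun L hL => Subgroup.commutator_eq_bot_iff_le_centralizer.mp ?_
  have hLE := Layer.isComponent_le_layer hL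
  have hLY : L ≤ Subgroup.normalizer (Y : Set A) := (hLE.trans hE).trans hSY
  set M := Y ⊓ Cfsg.layer A with hM
  have hLM : L ≤ Subgroup.normalizer (M : Set A) :=
    Coprime.le_normalizer_inf_of_le hLY (hLE.trans Subgroup.le_normalizer)
  haveI := hY.to_le (inf_le_left : M ≤ Y) |>.isNilpotent
  have h1 : ⁅L, M⁆ = ⊥ := Layer.commutator_eq_bot_of_isSolvable hL inferInstance hLM
  refine Layer.commutator_eq_bot_of_perfect (Layer.isPerfect_of_isComponent hL) (le_bot_iff.mp ?_)
  rw [← h1, Subgroup.commutator_comm L M]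
  refine Subgroup.commutator_mono (le_inf ?_ ?_) le_rfl
  · rw [Subgroup.commutator_comm]; exact Coprime.commutator_le_left_of_le_normalizer hLY
  · exact (Subgroup.commutator_mono hLE le_rfl).trans (Subgroup.commutator_le_left _ _)

theorem commute_core (S : Subgroup A) (hE : Cfsg.layer A ≤ S) (hSle : S ≤ Cfsg.generalizedFittingSubgroup A)
    (hSC : Cfsg.generalizedFittingSubgroup A ⊓ Subgroup.centralizer (S : Set A) ≤ S)
    {p r : ℕ} [Fact p.Prime] [Fact r.Prime] (hne : r ≠ p) (Y : Subgroup A)
    (hY : IsPGroup p Y) (hSY : S ≤ Subgroup.normalizer (Y : Set A)) :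
    Y ≤ Subgroup.centralizer (Cfsg.pCore r A : Set A) := by
  haveI := Fitting.pCore_normal (G := A) r
  set U := Cfsg.pCore r A with hU
  set Sr := U ⊓ S with hSr
  have hU' : IsPGroup r U := Fitting.pCore_isPGroup r
  have hUn : ∀ X : Subgroup A, X ≤ Subgroup.normalizer (U : Set A) := fun X => by
    rw [Subgroup.normalizer_eq_top]; exact le_top
  have hSrY : Sr ≤ Subgroup.centralizer (Y : Set A) := by
    refine Subgroup.commutator_eq_bot_iff_le_centralizer.mp (le_bot_iff.mp ?_)
    rw [← (IsPGroup.disjoint_of_ne p r hne.symm _ _ hY hU').eq_bot]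
    refine le_inf ?_ ((Subgroup.commutator_mono inf_le_left le_rfl).trans (Subgroup.commutator_le_left U Y))
    rw [Subgroup.commutator_comm]
    exact Coprime.commutator_le_left_of_le_normalizer (inf_le_right.trans hSY)
  refine Coprime.pxq (p := r) (P := Sr) (Q := Y) (hU'.to_le inf_le_left) ?_ hSrY hU' (hUn _) (hUn _) ?_
  · obtain ⟨n, hn⟩ := IsPGroup.iff_card.mp hY
    rw [hn]
    exact ((Nat.coprime_primes Fact.out Fact.out).mpr hne.symm).pow_left n
  rintro u ⟨huU, huC⟩
  have huF := Fitting.pCore_le_fittingSubgroup r huU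
  refine hSrY (Subgroup.mem_inf.mpr ⟨huU, hSC (Subgroup.mem_inf.mpr
    ⟨Layer.fittingSubgroup_le_generalizedFitting huF, fun s hs => ?_⟩)⟩)
  obtain ⟨e, he, f, hf, rfl⟩ := decomp (hSle hs)
  have hfS : f ∈ S := by simpa using mul_mem (inv_mem (hE he)) hs
  have h2 : (⟨f, ⟨hf, hfS⟩⟩ : ↥(Cfsg.fittingSubgroup A ⊓ S)) ∈
      (Subgroup.centralizer ({u} : Set A)).subgroupOf _ := by
    refine mem_of_prime_powers _ (fun q hq w hw => ?_) _
    haveI := Fact.mk hq
    refine Subgroup.mem_centralizer_singleton_iff.mpr ?_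
    have hwc := mem_pCore_of_mem_fitting (r := q) w.2.1 (by simpa [Subgroup.orderOf_coe] using hw)
    rcases eq_or_ne q r with rfl | hne'
    · exact huC (w : A) (Subgroup.mem_inf.mpr ⟨hwc, w.2.2⟩)
    · exact commute_cores hne' hwc huU
  exact ((commute_layer_fitting he huF).mul_left (Subgroup.mem_centralizer_singleton_iff.mp h2)).eq

theorem pResidual_top_of_perfect {K : Type*} [Group K] [Finite K] [Group.IsPerfect K] {p : ℕ}
    [Fact p.Prime] : Cfsg.pResidual p K = ⊤ := by
  haveI := Transfer.pResidual_normal p K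
  have hq := Transfer.isPGroup_quotient_pResidual (p := p) (G := K)
  by_contra h
  haveI : Nontrivial (K ⧸ Cfsg.pResidual p K) := QuotientGroup.nontrivial_iff.mpr h
  haveI := hq.isNilpotent
  refine (Group.IsSolvable.commutator_lt_top_of_nontrivial (K ⧸ Cfsg.pResidual p K)).ne ?_
  rw [commutator_def, eq_top_iff]
  have := Subgroup.map_commutator (⊤ : Subgroup K) ⊤ (QuotientGroup.mk' (Cfsg.pResidual p K))
  rw [← commutator_def, Group.IsPerfect.commutator_eq_top, Subgroup.map_top_of_surjective _ (QuotientGroup.mk'_surjective _)] at this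
  exact this.le

/-- Let G be a non-abelian finite simple group, A a maximal subgroup, F = F*(A) its generalized Fitting subgroup (viewed in G), and S ≤ F a subgroup subnormal in F with C_F(S) ≤ S. Let B be any subgroup of G containing S. Then (a) for every prime q not dividing |F(A)|, O_q(B) ∩ A = 1; and (b) for every prime p dividing |F(A)|, O_p(B) commutes elementwise with the subgroup of F generated by its elements of order prime to p. -/
theorem result {G : Type*} [Group G] [Finite G] [IsSimpleGroup G] (hna : ¬ IsMulCommutative G) (A : Subgroup G) (hA : IsCoatom A) (S : Subgroup G) (hSF : S ≤ (Cfsg.generalizedFittingSubgroup ↥A).map A.subtype) (hSsn : (S.subgroupOf ((Cfsg.generalizedFittingSubgroup ↥A).map A.subtype)).IsSubnormal) (hSC : (Cfsg.generalizedFittingSubgroup ↥A).map A.subtype ⊓ Subgroup.centralizer (S : Set G) ≤ S) (B : Subgroup G) (hSB : S ≤ B) : (∀ q : ℕ, q.Prime → ¬ q ∣ Nat.card (Cfsg.fittingSubgroup ↥A) → (Cfsg.pCore q ↥B).map B.subtype ⊓ A = ⊥) ∧ (∀ p : ℕ, p.Prime → p ∣ Nat.card (Cfsg.fittingSubgroup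 ↥A) → ∀ x ∈ (Cfsg.pCore p ↥B).map B.subtype, ∀ y ∈ (Cfsg.pResidual p ↥(Cfsg.generalizedFittingSubgroup ↥A)).map ((Cfsg.generalizedFittingSubgroup ↥A).subtype) , x * (A.subtype y) = (A.subtype y) * x) := by
  classical
  set FA := Cfsg.generalizedFittingSubgroup ↥A with hFA
  haveI : FA.Normal := Layer.generalizedFitting_normal
  set SA := S.subgroupOf A with hSA
  have hSA' : S ≤ A := hSF.trans (Subgroup.map_subtype_le _)
  have hSle : SA ≤ FA := fun x hx => by
    obtain ⟨y, hy, h⟩ := hSF hx
    exact (Subtype.ext h : y = x) ▸ hy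
  have hSCA : FA ⊓ Subgroup.centralizer (SA : Set ↥A) ≤ SA := fun x hx => by
    refine hSC (Subgroup.mem_inf.mpr ⟨⟨x, hx.1, rfl⟩, fun s hs => ?_⟩)
    exact congrArg Subtype.val (hx.2 ⟨s, hSA' hs⟩ hs)
  have hSn : SA.IsSubnormal := by
    have h1 : (SA.subgroupOf FA).IsSubnormal :=
      hSsn.comap (FA.equivMapOfInjective A.subtype A.subtype_injective).toMonoidHom
    exact Subgroup.IsSubnormal.trans hSle h1 (inferInstance : FA.Normal).isSubnormal
  have hE : Cfsg.layer ↥A ≤ SA := layer_le SA hSn hSle hSCA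
  have hBcore : ∀ (q : ℕ) [Fact q.Prime],
      IsPGroup q ((Cfsg.pCore q ↥B).map B.subtype) ∧ B ≤ Subgroup.normalizer (((Cfsg.pCore q ↥B).map B.subtype : Subgroup G) : Set G) := by
    intro q _
    refine ⟨(Fitting.pCore_isPGroup q).map _, ?_⟩
    haveI := Fitting.pCore_normal (G := B) q
    refine le_trans ?_ (Subgroup.le_normalizer_map B.subtype)
    rw [Subgroup.normalizer_eq_top, ← MonoidHom.range_eq_map, Subgroup.range_subtype]
  have hY : ∀ (q : ℕ) [Fact q.Prime], IsPGroup q (((Cfsg.pCore q ↥B).map B.subtype).subgroupOf A) ∧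
      SA ≤ Subgroup.normalizer ((((Cfsg.pCore q ↥B).map B.subtype).subgroupOf A : Subgroup A) : Set A) := by
    intro q _
    refine ⟨(hBcore q).1.comap_of_injective _ A.subtype_injective, fun s hs => ?_⟩
    refine Subgroup.le_normalizer_comap A.subtype (Subgroup.mem_comap.mpr ((hBcore q).2 (hSB hs)))
  refine ⟨fun q hq hnd => ?_, fun p hp hpd x hx y hy => ?_⟩
  · haveI := Fact.mk hq
    obtain ⟨hYq, hYS⟩ := hY q
    set Y := ((Cfsg.pCore q ↥B).map B.subtype).subgroupOf A
    have hcore : Cfsg.pCore q ↥A = ⊥ := by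
      by_contra h
      have h1 : Cfsg.pCore q ↥A ≤ Cfsg.fittingSubgroup ↥A := Fitting.pCore_le_fittingSubgroup q
      obtain ⟨n, hn⟩ := IsPGroup.iff_card.mp (Fitting.pCore_isPGroup (G := A) q)
      rcases n with _ | n
      · exact h (Subgroup.card_eq_one.mp (by simpa using hn))
      · exact hnd ((dvd_pow_self q n.succ_ne_zero).trans (hn ▸ Subgroup.card_dvd_of_le h1))
    have hYF : Y ≤ Subgroup.centralizer (FA : Set ↥A) := by
      intro u hu w hw
      obtain ⟨e, he, f, hf, rfl⟩ := decomp hw
      have h1 : Commute e u := (commute_layer SA hE Y hYq hYS he u hu).symm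
      have h2 : (⟨f, hf⟩ : Cfsg.fittingSubgroup A) ∈ (Subgroup.centralizer ({u} : Set A)).subgroupOf _ := by
        refine mem_of_prime_powers _ (fun r hr w hw => ?_) _
        haveI := Fact.mk hr
        refine Subgroup.mem_centralizer_singleton_iff.mpr ?_
        have hwc := mem_pCore_of_mem_fitting (r := r) w.2 (by simpa [Subgroup.orderOf_coe] using hw)
        rcases eq_or_ne r q with rfl | hne
        · rw [hcore, Subgroup.mem_bot] at hwc
          show (w : A) * u = u * (w : A)
          rw [hwc, one_mul, mul_one]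
        · exact (commute_core SA hE hSle hSCA hne Y hYq hYS hu (w : A) hwc)
      exact (h1.mul_left (Subgroup.mem_centralizer_singleton_iff.mp h2)).eq
    rw [Subgroup.eq_bot_iff_forall]
    rintro u ⟨hu, huA⟩
    have huY : (⟨u, huA⟩ : A) ∈ Y := hu
    have huFA : (⟨u, huA⟩ : A) ∈ FA := Layer.centralizer_generalizedFitting_le (hYF huY)
    obtain ⟨e, he, f, hf, hef⟩ := decomp huFA
    have heF : e ∈ Cfsg.fittingSubgroup ↥A := by
      refine Layer.layer_inf_centralizer_le_fitting (Subgroup.mem_inf.mpr ⟨he, fun w hw => ?_⟩)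
      have h1 : Commute w (⟨u, huA⟩ : A) := hYF huY w (le_sup_left (b := Cfsg.fittingSubgroup ↥A) hw)
      have h2 : Commute w f := commute_layer_fitting hw hf
      have : e = ⟨u, huA⟩ * f⁻¹ := eq_mul_inv_of_mul_eq hef
      rw [this]
      exact (h1.mul_right h2.inv_right).eq
    have huF : (⟨u, huA⟩ : A) ∈ Cfsg.fittingSubgroup ↥A := hef ▸ mul_mem heF hf
    obtain ⟨n, hn⟩ := IsPGroup.iff_orderOf.mp hYq ⟨_, huY⟩
    rw [Subgroup.orderOf_mk] at hn
    have hwc := mem_pCore_of_mem_fitting (r := q) huF ⟨n, hn⟩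
    rw [hcore, Subgroup.mem_bot] at hwc
    exact congrArg Subtype.val hwc
  · haveI := Fact.mk hp
    obtain ⟨hYp, hYS⟩ := hY p
    set P0 := (Cfsg.pCore p ↥B).map B.subtype with hP0
    set Y := P0.subgroupOf A with hYdef
    -- the normal subgroup generated by the layer and the `p'`-cores
    set N0 : Subgroup ↥A := Cfsg.layer ↥A ⊔ ⨆ r : {r : ℕ // r.Prime ∧ r ≠ p}, Cfsg.pCore r.1 ↥A with hN0
    haveI : (⨆ r : {r : ℕ // r.Prime ∧ r ≠ p}, Cfsg.pCore r.1 ↥A).Normal :=
      @Subgroup.iSup_normal _ _ _ _ fun r => Fitting.pCore_normal r.1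
    haveI : N0.Normal := Subgroup.sup_normal _ _
    -- a non-trivial normal subgroup of `A` centralized by `P0` forces `P0 ≤ A`
    have hnorm : ∀ W : Subgroup ↥A, W.Normal → W ≠ ⊥ → A = Subgroup.normalizer ((W.map A.subtype : Subgroup G) : Set G) := by
      intro W hW hW1
      refine (hA.le_iff.mp ?_).resolve_left ?_ |>.symm
      · refine le_trans ?_ (Subgroup.le_normalizer_map A.subtype)
        rw [Subgroup.normalizer_eq_top, ← MonoidHom.range_eq_map, Subgroup.range_subtype]
      · intro h
        rcases (Subgroup.normalizer_eq_top_iff.mp h).eq_bot_or_eq_top with h' | h'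
        · exact hW1 ((Subgroup.map_eq_bot_iff_of_injective _ A.subtype_injective).mp h')
        · exact hA.1 (top_le_iff.mp (h' ▸ Subgroup.map_subtype_le W))
    have hcommY : ∀ w ∈ N0, ∀ u ∈ Y, w * u = u * w := by
      have h1 : N0 ≤ Subgroup.centralizer (Y : Set A) := sup_le (commute_layer SA hE Y hYp hYS)
        (iSup_le fun r => haveI := Fact.mk r.2.1
          Subgroup.le_centralizer_iff.mp (commute_core SA hE hSle hSCA r.2.2 Y hYp hYS))
      exact fun w hw u hu => (h1 hw u hu).symm
    have hkey : ∀ W : Subgroup ↥A, W.Normal → W ≠ ⊥ → W ≤ SA → W ≤ N0 → Cfsg.pResidual p W = ⊤ → P0 ≤ A := by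
      intro W hW hW1 hWS hWN hWp
      set Z := (Subgroup.center (Cfsg.pCore p ↥A)).map (Cfsg.pCore p ↥A).subtype with hZ
      haveI : Z.Normal := by
        haveI := Fitting.pCore_normal (G := A) p
        exact ConjAct.normal_of_characteristic_of_normal
      have hcp : Cfsg.pCore p ↥A ≠ ⊥ := by
        intro h
        obtain ⟨z, hz⟩ := exists_prime_orderOf_dvd_card' (G := Cfsg.fittingSubgroup A) p hpd
        have hzc := mem_pCore_of_mem_fitting (r := p) z.2 ⟨1, by rw [Subgroup.orderOf_coe, hz, pow_one]⟩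
        rw [h, Subgroup.mem_bot] at hzc
        rw [show z = 1 from Subtype.ext hzc, orderOf_one] at hz
        exact hp.one_lt.ne hz
      have hZ1 : Z ≠ ⊥ := by
        haveI : Nontrivial (Cfsg.pCore p ↥A) := (Subgroup.nontrivial_iff_ne_bot _).mpr hcp
        haveI := (Fitting.pCore_isPGroup (G := A) p).center_nontrivial
        rw [hZ, Ne, Subgroup.map_eq_bot_iff_of_injective _ (Subgroup.subtype_injective _)]
        exact (Subgroup.nontrivial_iff_ne_bot _).mp inferInstance
      have hZS : Z ≤ SA := center_core_le SA hSle hSCA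
      have hgen : ∀ s : W, Nat.Coprime (orderOf s) p → ∀ u ∈ P0, Commute ((s : A) : G) u := by
        intro s hs u hu
        have hsS : ((s : A) : G) ∈ S := hWS s.2
        have := Coprime.pxq (p := p) (P := Z.map A.subtype) (Q := Subgroup.zpowers ((s : A) : G))
          (((Fitting.pCore_isPGroup p).to_le (Subgroup.map_subtype_le _)).map _)
          (by rwa [Nat.card_zpowers, Subgroup.orderOf_coe, Subgroup.orderOf_coe]) ?_ (hBcore p).1
          (by
            refine le_trans ?_ (hBcore p).2
            rintro _ ⟨z, hz, rfl⟩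
            exact hSB (hZS hz))
          (by rw [Subgroup.zpowers_le]; exact (hBcore p).2 (hSB hsS)) ?_
        · exact (this (Subgroup.mem_zpowers _) u hu).symm
        · rintro _ ⟨z, hz, rfl⟩
          refine Coprime.mem_centralizer_singleton_zpowers (Subgroup.mem_centralizer_singleton_iff.mpr ?_)
          have h : Commute (z : A) (s : A) := by
            obtain ⟨e, he, f, hf, hef⟩ := decomp (hSle (hWS s.2))
            have hzF := Fitting.pCore_le_fittingSubgroup p (Subgroup.map_subtype_le _ hz)
            have h1 : Commute z e := (commute_layer_fitting he hzF).symm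
            have h2 : (⟨f, hf⟩ : Cfsg.fittingSubgroup A) ∈ (Subgroup.centralizer ({z} : Set A)).subgroupOf _ := by
              refine mem_of_prime_powers _ (fun r hr w hw => ?_) _
              haveI := Fact.mk hr
              refine Subgroup.mem_centralizer_singleton_iff.mpr ?_
              have hwc := mem_pCore_of_mem_fitting (r := r) w.2 (by simpa [Subgroup.orderOf_coe] using hw)
              obtain ⟨z', hz', rfl⟩ := hz
              rcases eq_or_ne r p with rfl | hne
              · exact congrArg Subtype.val (Subgroup.mem_center_iff.mp hz' ⟨w, hwc⟩)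
              · exact commute_cores hne hwc z'.2
            rw [← hef]
            exact h1.mul_right (Subgroup.mem_centralizer_singleton_iff.mp h2).symm
          exact congrArg Subtype.val h.eq
        · rintro v ⟨hv, hvZ⟩
          have hvA : v ∈ A := by
            rw [hnorm Z inferInstance hZ1]
            exact Subgroup.centralizer_le_normalizer _ hvZ
          refine Coprime.mem_centralizer_singleton_zpowers (Subgroup.mem_centralizer_singleton_iff.mpr ?_)
          exact congrArg Subtype.val (hcommY s (hWN s.2) ⟨v, hvA⟩ hv).symm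
      intro u hu
      rw [hnorm W hW hW1]
      refine Subgroup.centralizer_le_normalizer _ ?_
      rintro _ ⟨s, hs, rfl⟩
      have h : (⟨s, hs⟩ : W) ∈ Cfsg.pResidual p W := hWp ▸ Subgroup.mem_top _
      have hle : Cfsg.pResidual p W ≤ (Subgroup.centralizer ({u} : Set G)).comap (A.subtype.comp W.subtype) :=
        (Subgroup.closure_le _).mpr fun s' hs' => Subgroup.mem_centralizer_singleton_iff.mpr (hgen s' hs' u hu).eq
      exact Subgroup.mem_centralizer_singleton_iff.mp (hle h)
    obtain ⟨d, hd, rfl⟩ : ∃ d ∈ (Cfsg.pResidual p ↥FA).map FA.subtype, d = y := ⟨y, hy, rfl⟩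
    have hdN : d ∈ N0 := by
      obtain ⟨d', hd', rfl⟩ := hd
      refine (Subgroup.closure_le (N0.subgroupOf FA)).mpr ?_ hd'
      intro w hw
      haveI := Fitting.pCore_normal (G := A) p
      have hsup : (w : A) ∈ N0 ⊔ Cfsg.pCore p ↥A := by
        obtain ⟨e, he, f, hf, hef⟩ := decomp w.2
        rw [← hef]
        refine mul_mem (Subgroup.mem_sup_left (Subgroup.mem_sup_left he)) ?_
        refine (mem_of_prime_powers ((N0 ⊔ Cfsg.pCore p ↥A).subgroupOf (Cfsg.fittingSubgroup A))
          (fun r hr v hv => ?_) ⟨f, hf⟩ :)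
        haveI := Fact.mk hr
        have hvc := mem_pCore_of_mem_fitting (r := r) v.2 (by simpa [Subgroup.orderOf_coe] using hv)
        rcases eq_or_ne r p with rfl | hne
        · exact Subgroup.mem_sup_right hvc
        · exact Subgroup.mem_sup_left (Subgroup.mem_sup_right (le_iSup (fun r : {r : ℕ // r.Prime ∧ r ≠ p} => Cfsg.pCore r.1 ↥A) ⟨r, hr, hne⟩ hvc))
      let π : ↥A →* ↥A ⧸ N0 := QuotientGroup.mk' N0
      have h1 : π w ∈ (Cfsg.pCore p ↥A).map π := by
        have := Subgroup.mem_map_of_mem π hsup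
        rwa [Subgroup.map_sup, show N0.map π = ⊥ from QuotientGroup.map_mk'_self _, bot_sup_eq] at this
      obtain ⟨n, hn⟩ := IsPGroup.iff_orderOf.mp ((Fitting.pCore_isPGroup p).map π) ⟨_, h1⟩
      rw [Subgroup.orderOf_mk] at hn
      have h2 : Nat.Coprime (orderOf (π w)) p :=
        Nat.Coprime.coprime_dvd_left (orderOf_map_dvd π (w : A))
          (show Nat.Coprime (orderOf (w : A)) p by rw [Subgroup.orderOf_coe]; exact hw)
      refine (QuotientGroup.eq_one_iff (w : A)).mp (orderOf_eq_one_iff.mp (show orderOf (π w) = 1 from ?_))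
      rcases n with _ | n
      · rw [hn, pow_zero]
      · exfalso
        have hcp : Nat.Coprime p p := (Nat.coprime_pow_left_iff n.succ_pos _ _).mp (hn ▸ h2)
        rw [Nat.coprime_self] at hcp
        exact hp.ne_one hcp
    by_cases hP0A : P0 ≤ A
    · exact congrArg Subtype.val (hcommY d hdN ⟨x, hP0A hx⟩ hx).symm
    · have hN0 : N0 = ⊥ := by
        rw [hN0, eq_bot_iff, sup_le_iff]
        refine ⟨?_, iSup_le fun r => ?_⟩
        · by_contra hne
          haveI := Layer.layer_isPerfect (G := A)
          exact hP0A (hkey _ Layer.layer_normal (fun h => hne h.le) hE le_sup_left pResidual_top_of_perfect)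
        · haveI := Fact.mk r.2.1
          by_contra hne
          haveI := Fitting.pCore_normal (G := A) r.1
          set W := (Subgroup.center (Cfsg.pCore r.1 ↥A)).map (Cfsg.pCore r.1 ↥A).subtype with hW
          have hW1 : W ≠ ⊥ := by
            haveI : Nontrivial (Cfsg.pCore r.1 ↥A) := (Subgroup.nontrivial_iff_ne_bot _).mpr fun h => hne h.le
            haveI := (Fitting.pCore_isPGroup (G := A) r.1).center_nontrivial
            rw [hW, Ne, Subgroup.map_eq_bot_iff_of_injective _ (Subgroup.subtype_injective _)]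
            exact (Subgroup.nontrivial_iff_ne_bot _).mp inferInstance
          haveI : W.Normal := ConjAct.normal_of_characteristic_of_normal
          refine hP0A (hkey W inferInstance hW1 (center_core_le SA hSle hSCA)
            ((Subgroup.map_subtype_le _).trans (le_sup_of_le_right (le_iSup (fun r : {r : ℕ // r.Prime ∧ r ≠ p} => Cfsg.pCore r.1 ↥A) r))) ?_)
          rw [eq_top_iff]
          intro w _
          refine Transfer.mem_pResidual_of_coprime ?_
          obtain ⟨n, hn⟩ := IsPGroup.iff_orderOf.mp ((Fitting.pCore_isPGroup r.1).to_le (Subgroup.map_subtype_le _)) w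
          rw [hn]
          exact ((Nat.coprime_primes r.2.1 hp).mpr r.2.2).pow_left n
      rw [hN0, Subgroup.mem_bot] at hdN
      subst hdN
      simp
end Cfsg.Agent.S1247
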