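import Cfsg.Statements.S1248
import Cfsg.Agent.Lib.Classical.UnitaryRegThree
import Cfsg.Agent.Lib.Classical.UnitaryOrder

set_option autoImplicit false
set_option linter.style.haveILetI false
open Cfsg

namespace Cfsg.Agent.S1248

open scoped commutatorElement
open CfsgLib.Classical.Herm CfsgLib.Classical.Elation
open CfsgLib.ClassicalAut (Unitary.Conj)

variable {F : Type*} [Field F] [Finite F] {q : ℕ}

/-- The parameters of the root group. -/
abbrev Par (K : Unitary.Conj F q) : Type _ := {ab : F × F // ab.1 * K.bar ab.1 + ab.2 + K.bar ab.2 = 0}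

variable (K : Unitary.Conj F q)

/-- The product of parameters. -/
def pmul (x y : Par K) : Par K :=
  ⟨(x.1.1 + y.1.1, x.1.2 + y.1.2 - K.bar y.1.1 * x.1.1), by
    have hx := x.2
    have hy := y.2
    simp only [map_add, map_sub, map_mul, K.bar_bar]
    linear_combination hx + hy⟩

/-- The inverse of parameters. -/
def pinv (x : Par K) : Par K :=
  ⟨(-x.1.1, K.bar x.1.2), by
    have hx := x.2
    simp only [map_neg, K.bar_bar]
    linear_combination hx⟩

/-- The neutral parameter. -/
def pone : Par K := ⟨(0, 0), by simp⟩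

theorem card_fix : Nat.card {c : F // K.bar c = c} = q := by
  classical
  have := Fintype.ofFinite F
  have h1 := card_fixed K
  have h2 := K.two_le
  rw [Nat.card_eq_fintype_card, Fintype.card_subtype] at h1 ⊢
  have h3 : (Finset.univ.filter fun c : F => K.bar c = c) =
      insert 0 (Finset.univ.filter fun c : F => K.bar c = c ∧ c ≠ 0) := by
    ext c
    by_cases hc : c = 0 <;> simp [hc]
  rw [h3, Finset.card_insert_of_notMem (by simp), h1]
  omega

theorem card_par (h2 : (2 : F) = 0) : Nat.card (Par K) = q ^ 3 := by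
  have hfib : ∀ a : F, Nat.card {b : F // a * K.bar a + b + K.bar b = 0} = q := by
    intro a
    obtain ⟨y, hy⟩ := K.exists_trace
    set s := y + K.bar y
    set v := -(a * K.bar a) * y / s
    have hs : K.bar s = s := by rw [map_add, K.bar_bar]; exact add_comm _ _
    have hv : a * K.bar a + v + K.bar v = 0 := by
      simp only [v, map_div₀, map_mul, map_neg, K.bar_bar, hs]
      field_simp
      linear_combination (0 : F) * h2
    refine (Nat.card_congr ?_).trans (card_fix K)
    refine
      { toFun := fun b => ⟨b.1 - v, ?_⟩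
        invFun := fun c => ⟨c.1 + v, ?_⟩
        left_inv := fun b => Subtype.ext (sub_add_cancel _ _)
        right_inv := fun c => Subtype.ext (add_sub_cancel_right _ _) }
    · rw [map_sub]; linear_combination b.2 - hv - (b.1 - v) * h2
    · rw [map_add, c.2]; linear_combination hv + c.1 * h2
  have := Fintype.ofFinite F
  rw [Nat.card_congr (Equiv.subtypeProdEquivSigmaSubtype
    fun a b : F => a * K.bar a + b + K.bar b = 0), Nat.card_sigma]
  simp only [hfib, Finset.sum_const, Finset.card_univ, smul_eq_mul, ← Nat.card_eq_fintype_card,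
    K.card]
  ring


/-- Let F be a field with 16 elements and S a Sylow 2-subgroup of PSU(3) over F (the unitary group U₃(4)). Then |S| = 64; the centre Z(S) is a Klein four-group and coincides with the subgroup generated by the involutions of S and with the derived subgroup; and every element of S ⧸ Z(S) squares to the identity, S ⧸ Z(S) having order 16. -/
theorem result {F : Type*} [Field F] [Fintype F] (hF : Fintype.card F = 16) (S : Sylow 2 (Cfsg.PSU 3 F 4)) : Nat.card S = 64 ∧ IsKleinFour (Subgroup.center (S : Subgroup (Cfsg.PSU 3 F 4))) ∧ Subgroup.center (S : Subgroup (Cfsg.PSU 3 F 4)) = Subgroup.closure {x : (S : Subgroup (Cfsg.PSU 3 F 4)) | orderOf x = 2} ∧ Subgroup.center (S : Subgroup (Cfsg.PSU 3 F 4)) = commutator (S : Subgroup (Cfsg.PSU 3 F 4)) ∧ Nat.card ((S : Subgroup (Cfsg.PSU 3 F 4)) ⧸ Subgroup.center (S : Subgroup (Cfsg.PSU 3 F 4))) = 16 ∧ ∀ x : (S : Subgroup (Cfsg.PSU 3 F 4)) ⧸ Subgroup.center (S : Subgroup (Cfsg.PSU 3 F 4)), x ^ 2 = 1 := by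
  classical
  haveI : Finite F := Finite.of_fintype F
  obtain ⟨K⟩ := exists_conj_of_card (F := F) (q := 4) (by rw [hF]; norm_num)
  obtain ⟨B⟩ := CfsgLib.Classical.URegGen.exists_hb K 1
  have h2 : (2 : F) = 0 := by
    have h := FiniteField.cast_card_eq_zero F
    rw [hF] at h
    have h' : (2 : F) ^ 4 = 0 := by norm_num at h ⊢; exact h
    exact pow_eq_zero_iff (by norm_num) |>.mp h'
  have hGU := card_GU K (n := 3)
  norm_num [Finset.prod_range_succ, Nat.even_iff, -Nat.card_eq_fintype_card] at hGU
  have hSU := card_SU K (n := 3) (by norm_num)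
  rw [hGU] at hSU
  have hz : Subgroup.center (Cfsg.SU 3 F 4) = ⊥ := by
    rw [Subgroup.eq_bot_iff_card, card_center K (by norm_num)]; decide
  have hPSU : Nat.card (Cfsg.PSU 3 F 4) = 62400 := by
    rw [Nat.card_congr ((QuotientGroup.quotientMulEquivOfEq hz).trans
      QuotientGroup.quotientBot).toEquiv]
    omega
  -- the root group
  have hex : ∀ x : Par K, ∃ g : Cfsg.SU 3 F 4,
      IsSg K g (B.E 0) ((-K.bar x.1.1) • B.z) x.1.2 :=
    fun x => CfsgLib.Classical.URegGen.exists_sgE K B le_rfl x.2
  choose φ hφ using hex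
  have hone : φ (pone K) = 1 := by
    refine sg_unique K (hφ _) ?_
    have := sg_one K (B.ee 0 0)
    simpa [pone] using this
  have hmul : ∀ x y, φ x * φ y = φ (pmul K x y) := by
    intro x y
    refine sg_unique K ?_ (hφ _)
    have := sg_mul K (hφ x) (hφ y)
    rw [h_smul_left K, h_smul_right K, B.zz, ← add_smul] at this
    convert this using 2
    · simp [pmul]; ring
    · simp [pmul, K.bar_bar]
  have hinv : ∀ x, (φ x)⁻¹ = φ (pinv K x) := by
    intro x
    refine sg_unique K ?_ (hφ _)
    have := sg_inv K (hφ x)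
    convert this using 2
    · simp [pinv]
    · rfl
  let mk : Cfsg.SU 3 F 4 →* Cfsg.PSU 3 F 4 := QuotientGroup.mk' _
  let U : Subgroup (Cfsg.PSU 3 F 4) :=
    { carrier := Set.range fun x => mk (φ x)
      one_mem' := ⟨pone K, by simp [hone]⟩
      mul_mem' := by
        rintro _ _ ⟨x, rfl⟩ ⟨y, rfl⟩
        exact ⟨pmul K x y, by simp [← hmul]⟩
      inv_mem' := by
        rintro _ ⟨x, rfl⟩
        exact ⟨pinv K x, by simp [← hinv]⟩ }
  have hinj : Function.Injective fun x => mk (φ x) := by
    intro x y hxy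
    have hm : Function.Injective mk :=
      (MonoidHom.ker_eq_bot_iff mk).mp (by rw [QuotientGroup.ker_mk', hz])
    have he : φ x = φ y := hm hxy
    obtain ⟨-, hf, hz'⟩ := CfsgLib.Classical.URegGen.appE K B (hφ x)
    obtain ⟨-, hf', hz''⟩ := CfsgLib.Classical.URegGen.appE K B (hφ y)
    rw [he, hf'] at hf
    rw [he, hz''] at hz'
    have hE : B.E 0 ≠ 0 := fun h => by
      have := B.fe 0 0 one_pos one_pos
      rw [h, h_zero_right K, if_pos rfl] at this
      exact zero_ne_one this
    have ha : y.1.1 = x.1.1 := smul_left_injective F hE (add_left_cancel hz')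
    rw [ha] at hf
    exact Subtype.ext (Prod.ext ha (smul_left_injective F hE (add_left_cancel hf))).symm
  have hUc : Nat.card U = 4 ^ 3 := by
    rw [← card_par K h2]
    exact (Nat.card_congr (Equiv.ofInjective _ hinj)).symm
  haveI : Fact (Nat.Prime 2) := ⟨Nat.prime_two⟩
  have hfac : 2 ^ (Nat.card (Cfsg.PSU 3 F 4)).factorization 2 = 4 ^ 3 := by
    rw [hPSU, show (62400 : ℕ) = 2 ^ 6 * 975 from rfl,
      Nat.factorization_mul (by norm_num) (by norm_num), Finsupp.add_apply,
      Nat.Prime.factorization_pow Nat.prime_two, Finsupp.single_eq_same,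
      Nat.factorization_eq_zero_of_not_dvd (by norm_num : ¬ 2 ∣ 975)]
    norm_num
  let T : Sylow 2 (Cfsg.PSU 3 F 4) := Sylow.ofCard U (by rw [hUc, hfac])
  obtain ⟨c, hc⟩ := MulAction.exists_smul_eq (Cfsg.PSU 3 F 4) T S
  let e : U ≃* (S : Subgroup (Cfsg.PSU 3 F 4)) := (T.equiv S)
  let ψ : Par K → (S : Subgroup (Cfsg.PSU 3 F 4)) := fun x => e ⟨mk (φ x), x, rfl⟩
  have hψm : ∀ x y, ψ x * ψ y = ψ (pmul K x y) := fun x y => by
    simp only [ψ, ← map_mul]
    congr 1
    exact Subtype.ext (by simp [← hmul])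
  have hψ1 : ψ (pone K) = 1 := by
    simp only [ψ]
    rw [show (⟨mk (φ (pone K)), pone K, rfl⟩ : U) = 1 from Subtype.ext (by simp [hone]), map_one]
  have hψi : Function.Injective ψ := fun x y h =>
    hinj (congrArg Subtype.val (e.injective h))
  have hψs : Function.Surjective ψ := by
    intro s
    obtain ⟨u, rfl⟩ := e.surjective s
    obtain ⟨u, x, rfl⟩ := u
    exact ⟨x, rfl⟩
  have hS : Nat.card S = 64 := by
    rw [← Nat.card_congr e.toEquiv, hUc]; norm_num
  -- the central elements
  have hfix : ∀ x : Par K, x.1.1 = 0 ↔ ψ x ∈ Subgroup.center (S : Subgroup (Cfsg.PSU 3 F 4)) := by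
    intro x
    rw [Subgroup.mem_center_iff]
    constructor
    · intro hx s
      obtain ⟨y, rfl⟩ := hψs s
      rw [hψm, hψm]
      congr 1
      refine Subtype.ext (Prod.ext ?_ ?_) <;> simp [pmul, hx, add_comm]
    · intro hx
      have hall : ∀ a : F, K.bar x.1.1 * a = K.bar a * x.1.1 := by
        intro a
        obtain ⟨b, hb⟩ : ∃ b : F, a * K.bar a + b + K.bar b = 0 := by
          obtain ⟨y, hy⟩ := K.exists_trace
          refine ⟨-(a * K.bar a) * y / (y + K.bar y), ?_⟩
          simp only [map_div₀, map_mul, map_neg, map_add, K.bar_bar, add_comm (K.bar y) y]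
          field_simp
          ring
        have h := hψi ((hψm ⟨(a, b), hb⟩ x).symm.trans ((hx _).trans (hψm x _)))
        have h' := congrArg (fun z : Par K => z.1.2) h
        simp [pmul] at h'
        linear_combination -h'
      obtain ⟨y, hy⟩ := K.exists_moved
      have h1 := hall 1
      rw [map_one, mul_one, one_mul] at h1
      have h3 := hall y
      rw [h1] at h3
      by_contra hne
      exact hy (mul_right_cancel₀ hne (by linear_combination -h3))
  have hsq : ∀ x : Par K, ψ x ^ 2 = 1 ↔ x.1.1 = 0 := by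
    intro x
    rw [pow_two, hψm, ← hψ1, hψi.eq_iff, Subtype.ext_iff, Prod.ext_iff]
    constructor
    · rintro ⟨-, h⟩
      simp [pmul, pone] at h
      have : K.bar x.1.1 * x.1.1 = 0 := by linear_combination -h + x.1.2 * h2
      rcases mul_eq_zero.mp this with h' | h'
      · exact (map_eq_zero K.bar).mp h'
      · exact h'
    · intro h
      constructor
      · simp [pmul, pone, h]
      · simp [pmul, pone, h]
        linear_combination x.1.2 * h2
  set Z := Subgroup.center (S : Subgroup (Cfsg.PSU 3 F 4)) with hZ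
  have hZc : Nat.card Z = 4 := by
    refine (Nat.card_congr (Equiv.symm ?_)).trans (card_fix K)
    refine Equiv.ofBijective (fun c => ⟨ψ ⟨(0, c.1), by
      simp [c.2]; linear_combination c.1 * h2⟩, (hfix _).mp rfl⟩) ⟨?_, ?_⟩
    · intro a b h
      exact Subtype.ext (congrArg (fun z : Par K => z.1.2) (hψi (congrArg Subtype.val h)))
    · rintro ⟨s, hs⟩
      obtain ⟨⟨⟨a, b⟩, hab⟩, rfl⟩ := hψs s
      have ha : a = 0 := (hfix _).mpr hs
      subst ha
      refine ⟨⟨b, ?_⟩, rfl⟩
      simp at hab
      linear_combination hab - b * h2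
  have hcomm : commutator (S : Subgroup (Cfsg.PSU 3 F 4)) = Z := by
    refine le_antisymm ?_ ?_
    · rw [commutator_def, Subgroup.commutator_le]
      intro s _ s' _
      obtain ⟨x, rfl⟩ := hψs s
      obtain ⟨y, rfl⟩ := hψs s'
      obtain ⟨z, hz'⟩ := hψs ⁅ψ x, ψ y⁆
      rw [← hz', ← hfix]
      have h : ψ (pmul K z (pmul K y x)) = ψ (pmul K x y) := by
        rw [← hψm, ← hψm, ← hψm, hz', commutatorElement_def]; group
      have h' := congrArg (fun z : Par K => z.1.1) (hψi h)
      simp [pmul] at h'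
      linear_combination h'
    · intro s hs
      obtain ⟨⟨⟨a, b⟩, hab⟩, rfl⟩ := hψs s
      have ha : a = 0 := (hfix _).mpr hs
      subst ha
      obtain ⟨y, hy⟩ := K.exists_trace
      simp at hab
      set w := b * y / (y + K.bar y)
      have hbb : K.bar b = b := by linear_combination hab - b * h2
      have hw : w + K.bar w = b := by
        simp only [w, map_div₀, map_mul, map_add, K.bar_bar, hbb, add_comm (K.bar y) y]
        field_simp
      obtain ⟨v, hv⟩ : ∃ v : F, w * K.bar w + v + K.bar v = 0 := by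
        refine ⟨-(w * K.bar w) * y / (y + K.bar y), ?_⟩
        simp only [map_div₀, map_mul, map_neg, map_add, K.bar_bar, add_comm (K.bar y) y]
        field_simp
        ring
      obtain ⟨u, hu⟩ : ∃ u : F, (1 : F) * K.bar 1 + u + K.bar u = 0 := by
        refine ⟨-y / (y + K.bar y), ?_⟩
        simp only [map_div₀, map_one, map_neg, map_add, K.bar_bar, add_comm (K.bar y) y]
        field_simp
        ring
      have h : ψ ⟨(0, b), by simp [hab]⟩ =
          ⁅ψ ⟨(1, u), hu⟩, ψ ⟨(w, v), hv⟩⁆ := by
        refine mul_right_cancel (b := ψ ⟨(w, v), hv⟩ * ψ ⟨(1, u), hu⟩) ?_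
        rw [show ⁅ψ ⟨(1, u), hu⟩, ψ ⟨(w, v), hv⟩⁆ * (ψ ⟨(w, v), hv⟩ * ψ ⟨(1, u), hu⟩) =
          ψ ⟨(1, u), hu⟩ * ψ ⟨(w, v), hv⟩ from by rw [commutatorElement_def]; group,
          hψm, hψm, hψm]
        congr 1
        refine Subtype.ext (Prod.ext ?_ ?_)
        · simp [pmul, add_comm]
        · simp [pmul]
          linear_combination (-1 : F) * hw + K.bar w * h2
      rw [h]
      exact Subgroup.commutator_mem_commutator (Subgroup.mem_top _) (Subgroup.mem_top _)
  have hexp : ∀ z : Z, z ^ 2 = 1 := by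
    rintro ⟨s, hs⟩
    obtain ⟨x, rfl⟩ := hψs s
    exact Subtype.ext ((hsq x).mpr ((hfix x).mpr hs))
  refine ⟨hS, ⟨hZc, ?_⟩, ?_, hcomm.symm, ?_, ?_⟩
  · obtain h | h := (Nat.dvd_prime Nat.prime_two).mp
      (Monoid.exponent_dvd_of_forall_pow_eq_one hexp)
    · have := Monoid.exp_eq_one_iff.mp h
      have := Nat.card_of_subsingleton (1 : Z)
      omega
    · exact h
  · refine le_antisymm (fun s hs => ?_) ?_
    · obtain ⟨x, rfl⟩ := hψs s
      by_cases h : ψ x = 1
      · rw [h]; exact one_mem _
      · exact Subgroup.subset_closure (orderOf_eq_prime ((hsq x).mpr ((hfix x).mpr hs)) h)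
    · rw [Subgroup.closure_le]
      intro s (hs : orderOf s = 2)
      obtain ⟨x, rfl⟩ := hψs s
      exact (hfix x).mp ((hsq x).mp (by have h := pow_orderOf_eq_one (ψ x); rwa [hs] at h))
  · have := Subgroup.card_eq_card_quotient_mul_card_subgroup Z
    rw [hZc, hS] at this
    show Nat.card (_ ⧸ Z) = 16
    omega
  · intro q'
    induction q' using QuotientGroup.induction_on with
    | _ s =>
      obtain ⟨x, rfl⟩ := hψs s
      rw [← QuotientGroup.mk_pow, QuotientGroup.eq_one_iff, pow_two, hψm, ← hfix]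
      simp [pmul]
      linear_combination x.1.1 * h2

end Cfsg.Agent.S1248
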