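import Cfsg.Statements.S1249
import Cfsg.Agent.Lib.Transfer.Sylow

set_option autoImplicit false
open Cfsg

namespace Cfsg.Agent.S1249

/-- Let P and Q be Sylow p-subgroups of the finite group G both containing the subgroup A. If A is strongly closed in P, then A is strongly closed in Q. -/
theorem result {G : Type*} [Group G] [Finite G] {p : ℕ} [Fact p.Prime] (P Q : Sylow p G) (A : Subgroup G) (hAQ : A ≤ Q) (hA : Cfsg.IsStronglyClosed A (P : Subgroup G)) : Cfsg.IsStronglyClosed A (Q : Subgroup G) := by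
  obtain ⟨h, hh⟩ := CfsgLib.Transfer.exists_map_conj_sylow_eq Q P
  refine ⟨hAQ, fun x hx g hg => ?_⟩
  have hin : ∀ y ∈ (Q : Subgroup G), h * y * h⁻¹ ∈ (P : Subgroup G) := fun y hy =>
    hh ▸ ⟨y, hy, rfl⟩
  have hA' : A.map (MulAut.conj h).toMonoidHom = A := by
    refine Subgroup.eq_of_le_of_card_ge ?_ (Subgroup.card_map_of_injective (MulAut.conj h).injective).ge
    rintro _ ⟨y, hy, rfl⟩
    exact hA.2 y hy h (hin y (hAQ hy))
  have h1 : h * g * x * (h * g)⁻¹ ∈ A := by
    refine hA.2 x hx _ ?_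
    rw [show h * g * x * (h * g)⁻¹ = h * (g * x * g⁻¹) * h⁻¹ by group]
    exact hin _ hg
  rw [← hA'] at h1
  obtain ⟨y, hy, hye⟩ := Subgroup.mem_map.mp h1
  have e : h * y * h⁻¹ = h * g * x * (h * g)⁻¹ := hye
  have : y = g * x * g⁻¹ := by
    calc y = h⁻¹ * (h * y * h⁻¹) * h := by group
      _ = g * x * g⁻¹ := by rw [e]; group
  exact this ▸ hy
end Cfsg.Agent.S1249
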