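import Cfsg.Statements.S1250
import Cfsg.Agent.Lib.Transfer.Sylow

set_option autoImplicit false
open Cfsg

namespace Cfsg.Agent.S1250

/-- Let S be a Sylow p-subgroup of the finite group G, A ≤ S strongly closed in S, and N a normal subgroup. Then the image of A in G ⧸ N is strongly closed in the image of S (which is a Sylow p-subgroup of G ⧸ N). -/
theorem result {G : Type*} [Group G] [Finite G] {p : ℕ} [Fact p.Prime] (S : Sylow p G) (A : Subgroup G) (hA : Cfsg.IsStronglyClosed A (S : Subgroup G)) (N : Subgroup G) [N.Normal] : Cfsg.IsStronglyClosed (A.map (QuotientGroup.mk' N)) ((S : Subgroup G).map (QuotientGroup.mk' N)) := by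
  refine ⟨Subgroup.map_mono hA.1, ?_⟩
  rintro _ ⟨x, hx, rfl⟩ q hq
  obtain ⟨g, rfl⟩ := QuotientGroup.mk'_surjective N q
  rw [← map_inv, ← map_mul, ← map_mul] at hq ⊢
  set y := g * x * g⁻¹ with hy
  have hyK : y ∈ N ⊔ (S : Subgroup G) := by
    obtain ⟨s, hs, he⟩ := hq
    have : s⁻¹ * y ∈ N := (QuotientGroup.eq).mp he
    have h1 := Subgroup.mul_mem_sup (Subgroup.Normal.conj_mem inferInstance _ this s) hs
    rwa [show s * (s⁻¹ * y) * s⁻¹ * s = y by group] at h1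
  obtain ⟨k, hk⟩ := IsPGroup.iff_orderOf.mp S.2 ⟨x, hA.1 hx⟩
  have hyp : IsPGroup p (Subgroup.zpowers (⟨y, hyK⟩ : ↥(N ⊔ (S : Subgroup G)))) :=
    IsPGroup.of_card (n := k) (by
      rw [Nat.card_zpowers, ← Subgroup.orderOf_coe]
      show orderOf y = _
      rw [hy, ← MulAut.conj_apply, MulEquiv.orderOf_eq]
      rw [← Subgroup.orderOf_coe] at hk
      exact hk)
  obtain ⟨n, hn⟩ := CfsgLib.Transfer.exists_map_conj_le_sylow hyp (S.subtype le_sup_right)
  have hmem : (n : G) * y * (n : G)⁻¹ ∈ (S : Subgroup G) := by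
    have := hn (Subgroup.mem_map_of_mem _ (Subgroup.mem_zpowers _))
    exact this
  have hA' : (n : G) * y * (n : G)⁻¹ ∈ A := by
    rw [hy, show (n : G) * (g * x * g⁻¹) * (n : G)⁻¹ = ((n : G) * g) * x * ((n : G) * g)⁻¹ by group]
      at hmem ⊢
    exact hA.2 x hx _ hmem
  obtain ⟨m, hm, s, hs, he⟩ := Subgroup.mem_sup_of_normal_left.mp n.2
  have h2 := hA.2 _ hA' s⁻¹ (mul_mem (mul_mem (inv_mem hs) (hA.1 hA')) (inv_mem (inv_mem hs)))
  refine ⟨s⁻¹ * ((n : G) * y * (n : G)⁻¹) * s⁻¹⁻¹, h2, ?_⟩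
  have hm1 : (QuotientGroup.mk' N) m = 1 := (QuotientGroup.eq_one_iff m).mpr hm
  rw [← he]
  simp only [map_mul, map_inv, hm1]
  group
end Cfsg.Agent.S1250
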