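import Cfsg.Statements.S1251
import Cfsg.Agent.Lib.ZStar.TwoElement

set_option autoImplicit false
open Cfsg

namespace Cfsg.Agent.S1251

/-- Let S be a Sylow 2-subgroup of the finite group G and A ≤ S strongly closed in S. If H is a subgroup normalized by A with no nontrivial normal subgroup of odd order and A ∩ H = 1, then A ≤ C_G(H). -/
theorem result {G : Type*} [Group G] [Finite G] (S : Sylow 2 G) (A : Subgroup G) (hA : Cfsg.IsStronglyClosed A (S : Subgroup G)) (H : Subgroup G) (hAH : A ≤ Subgroup.normalizer (H : Set G)) (hO : Cfsg.oddCore ↥H = ⊥) (hdisj : A ⊓ H = ⊥) : A ≤ Subgroup.centralizer (H : Set G) := by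
  have : Fact (Nat.Prime 2) := ⟨Nat.prime_two⟩
  -- conjugates of elements of `A` inside `H` are trivial
  set M := H ⊔ A with hM
  have hMN : M ≤ Subgroup.normalizer (H : Set G) := sup_le Subgroup.le_normalizer hAH
  have hkill : ∀ d ∈ H, ∀ g : G, g * d * g⁻¹ ∈ A → d = 1 := by
    intro d hd g hgd
    have hAp : IsPGroup 2 A := S.2.to_le hA.1
    have hdp : IsPGroup 2 (Subgroup.zpowers d) := by
      have h1 := (hAp.to_le (Subgroup.zpowers_le.mpr hgd)).map (MulAut.conj g⁻¹).toMonoidHom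
      rw [MonoidHom.map_zpowers] at h1
      rwa [show (MulAut.conj g⁻¹).toMonoidHom (g * d * g⁻¹) = d by
        simp [MulAut.conj_apply, mul_assoc]] at h1
    obtain ⟨P, hP⟩ := (hAp.of_equiv
      (Subgroup.subgroupOfEquivOfLe (le_sup_right : A ≤ M)).symm).exists_le_sylow
    obtain ⟨D, hD⟩ := (hdp.of_equiv (Subgroup.subgroupOfEquivOfLe
      (Subgroup.zpowers_le.mpr (le_sup_left (α := Subgroup G) (b := A) hd) :
        Subgroup.zpowers d ≤ M)).symm).exists_le_sylow
    obtain ⟨m, hm⟩ := MulAction.exists_smul_eq M D P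
    set d' := (m : G) * d * (m : G)⁻¹
    have hd'H : d' ∈ H := (Subgroup.mem_normalizer_iff.mp (hMN m.2) d).mp hd
    have hd'P : d' ∈ (P : Subgroup M).map M.subtype := by
      refine ⟨m * ⟨d, le_sup_left (α := Subgroup G) (b := A) hd⟩ * m⁻¹, ?_, rfl⟩
      show _ ∈ (P : Subgroup M)
      rw [← hm]
      exact Subgroup.smul_mem_pointwise_smul _ (MulAut.conj m) _
        (hD (Subgroup.mem_subgroupOf.mpr (Subgroup.mem_zpowers d)))
    obtain ⟨Q, hQ⟩ := (P.2.map M.subtype).exists_le_sylow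
    obtain ⟨k, hk⟩ := MulAction.exists_smul_eq G Q S
    have hkS : ∀ v ∈ (P : Subgroup M).map M.subtype, k * v * k⁻¹ ∈ (S : Subgroup G) := fun v hv => by
      rw [← hk]
      exact Subgroup.smul_mem_pointwise_smul _ (MulAut.conj k) _ (hQ hv)
    have hkA : A.map (MulAut.conj k).toMonoidHom = A := by
      refine Subgroup.eq_of_le_of_card_ge ?_
        (Subgroup.card_map_of_injective (MulAut.conj k).injective).ge
      rintro _ ⟨a, ha, rfl⟩
      exact hA.2 a ha k (hkS a ⟨⟨a, le_sup_right (α := Subgroup G) (a := H) ha⟩,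
        hP (Subgroup.mem_subgroupOf.mpr ha), rfl⟩)
    have h2 : k * d' * k⁻¹ ∈ A := by
      have e : k * d' * k⁻¹ = (k * m * g⁻¹) * (g * d * g⁻¹) * (k * m * g⁻¹)⁻¹ := by
        simp only [d']; group
      rw [e]
      exact hA.2 _ hgd _ (e ▸ hkS d' hd'P)
    rw [← hkA] at h2
    obtain ⟨a, ha, hae⟩ := h2
    have hd'A : d' ∈ A := by
      have : a = d' := (MulAut.conj k).injective hae
      exact this ▸ ha
    have h1 : d' = 1 := by
      have : d' ∈ A ⊓ H := Subgroup.mem_inf.mpr ⟨hd'A, hd'H⟩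
      rwa [hdisj, Subgroup.mem_bot] at this
    exact conj_eq_one_iff.mp h1
  intro a ha
  -- work in `H ⟨a⟩`
  set Z := Subgroup.zpowers a with hZ
  set L := H ⊔ Z with hL
  have hZA : Z ≤ A := Subgroup.zpowers_le.mpr ha
  have hLN : L ≤ Subgroup.normalizer (H : Set G) := sup_le Subgroup.le_normalizer (hZA.trans hAH)
  have haL : a ∈ L := Subgroup.mem_sup_right (Subgroup.mem_zpowers a)
  have hdec : ∀ y : L, ∃ h ∈ H, ∃ i : ℤ, (y : G) = h * a ^ i := by
    intro y
    have hy : (y : G) ∈ ((H ⊔ Z : Subgroup G) : Set G) := y.2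
    rw [Subgroup.coe_mul_of_right_le_normalizer_left _ _ (hZA.trans hAH)] at hy
    obtain ⟨h, hh, z, ⟨i, rfl⟩, he⟩ := hy
    exact ⟨h, hh, i, he.symm⟩
  obtain ⟨T, hT⟩ := (((S.2.to_le hA.1).to_le hZA).of_equiv
    (Subgroup.subgroupOfEquivOfLe (le_sup_right : Z ≤ L)).symm).exists_le_sylow
  have haT : (⟨a, haL⟩ : L) ∈ (T : Subgroup L) :=
    hT (Subgroup.mem_subgroupOf.mpr (Subgroup.mem_zpowers a))
  have hpw : CfsgLib.ZStar.PowersWeaklyClosed (T : Subgroup L) (⟨a, haL⟩ : L) := by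
    refine ⟨haT, fun j y hy => ?_⟩
    obtain ⟨Q, hQ⟩ := (T.2.map L.subtype).exists_le_sylow
    obtain ⟨k, hk⟩ := MulAction.exists_smul_eq G Q S
    have hkS : ∀ v : L, v ∈ (T : Subgroup L) → k * (v : G) * k⁻¹ ∈ (S : Subgroup G) := fun v hv => by
      rw [← hk]
      exact Subgroup.smul_mem_pointwise_smul _ (MulAut.conj k) _ (hQ ⟨v, hv, rfl⟩)
    set b := a ^ j
    have hbA : b ∈ A := pow_mem ha j
    have e1 := hA.2 b hbA k (hkS _ (pow_mem haT j))
    have e2 : k * ((y : G) * b * (y : G)⁻¹) * k⁻¹ ∈ A := by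
      have e : k * ((y : G) * b * (y : G)⁻¹) * k⁻¹ = (k * y) * b * (k * y)⁻¹ := by group
      rw [e]
      exact hA.2 b hbA _ (e ▸ hkS _ hy)
    have hdH : (y : G) * b * (y : G)⁻¹ * b⁻¹ ∈ H := by
      obtain ⟨h, hh, i, hyi⟩ := hdec y
      rw [hyi, show h * a ^ i * b * (h * a ^ i)⁻¹ * b⁻¹ = h * (b * h⁻¹ * b⁻¹) by
        have hc : a ^ i * b = b * a ^ i := (((Commute.refl a).zpow_left i).pow_right j).eq
        calc h * a ^ i * b * (h * a ^ i)⁻¹ * b⁻¹ = h * (a ^ i * b) * (a ^ i)⁻¹ * h⁻¹ * b⁻¹ := by group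
          _ = _ := by rw [hc]; group]
      exact mul_mem hh ((Subgroup.mem_normalizer_iff.mp (hAH hbA) _).mp (inv_mem hh))
    have h3 := hkill _ hdH k (by
      rw [show k * ((y : G) * b * (y : G)⁻¹ * b⁻¹) * k⁻¹ =
        k * ((y : G) * b * (y : G)⁻¹) * k⁻¹ * (k * b * k⁻¹)⁻¹ by group]
      exact mul_mem e2 (inv_mem e1))
    exact Subtype.ext (mul_inv_eq_one.mp h3)
  have hcore := CfsgLib.ZStar.commutatorsInCore_of_powers T hpw
  -- the odd core of `L` is trivial
  have hHn : (H.subgroupOf L).Normal := Subgroup.normal_subgroupOf_of_le_normalizer hLN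
  have hOn : (Cfsg.pPrimeCore 2 L).Normal := CfsgLib.Transfer.pPrimeCore_normal 2 L
  have hOH : Cfsg.pPrimeCore 2 L ≤ H.subgroupOf L := by
    intro o ho
    obtain ⟨k, hk⟩ := IsPGroup.iff_orderOf.mp S.2 ⟨a, hA.1 ha⟩
    rw [← Subgroup.orderOf_coe] at hk
    have hk' : a ^ 2 ^ k = 1 := by
      rw [← show orderOf a = 2 ^ k from hk, pow_orderOf_eq_one]
    have hodd : Odd (orderOf o) := by
      rw [← Nat.coprime_two_right]
      refine Nat.Coprime.coprime_dvd_left ?_ (CfsgLib.Transfer.pPrimeCore_coprime 2 (G := L))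
      rw [← Subgroup.orderOf_mk o ho]
      exact orderOf_dvd_natCard _
    set π := QuotientGroup.mk' (H.subgroupOf L)
    refine (QuotientGroup.eq_one_iff _).mp (show π o = 1 from ?_)
    obtain ⟨h, hh, i, hoi⟩ := hdec o
    have e : π o = π ⟨a, haL⟩ ^ i := by
      rw [← map_zpow]
      refine QuotientGroup.eq.mpr (Subgroup.mem_subgroupOf.mpr ?_)
      rw [Subgroup.coe_mul, Subgroup.coe_inv, Subgroup.coe_zpow, hoi, mul_inv_rev, mul_assoc]
      have hh' := (Subgroup.mem_normalizer_iff.mp (hAH (zpow_mem ha (-i))) _).mp (inv_mem hh)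
      simpa [zpow_neg, mul_assoc] using hh'
    have h2 : π o ^ 2 ^ k = 1 := by
      rw [e, ← zpow_natCast, ← zpow_mul, mul_comm, zpow_mul, zpow_natCast, ← map_pow,
        show (⟨a, haL⟩ : L) ^ 2 ^ k = 1 from Subtype.ext hk', map_one, one_zpow]
    rw [← orderOf_eq_one_iff]
    exact Nat.eq_one_of_dvd_coprimes ((hodd.coprime_two_left).pow_left k)
      (orderOf_dvd_of_pow_eq_one h2) (orderOf_map_dvd π o)
  have hbot : Cfsg.pPrimeCore 2 L = ⊥ := by
    set N := (Cfsg.pPrimeCore 2 L).map L.subtype with hN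
    have hNH : N ≤ H := by
      rintro _ ⟨o, ho, rfl⟩
      exact Subgroup.mem_subgroupOf.mp (hOH ho)
    have hNn : (N.subgroupOf H).Normal := ⟨fun v hv h => by
      obtain ⟨o, ho, he⟩ := Subgroup.mem_subgroupOf.mp hv
      refine Subgroup.mem_subgroupOf.mpr ⟨⟨h, Subgroup.mem_sup_left h.2⟩ * o * ⟨h, Subgroup.mem_sup_left h.2⟩⁻¹,
        hOn.conj_mem o ho _, ?_⟩
      show (h : G) * (o : G) * (h : G)⁻¹ = _
      rw [show (o : G) = (v : G) from he]
      rfl⟩
    have hc : (Nat.card (N.subgroupOf H)).Coprime 2 := by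
      rw [Nat.card_congr (Subgroup.subgroupOfEquivOfLe hNH).toEquiv, hN,
        Subgroup.card_map_of_injective L.subtype_injective]
      exact CfsgLib.Transfer.pPrimeCore_coprime 2
    have h1 : N.subgroupOf H ≤ ⊥ := hO ▸ CfsgLib.Transfer.le_pPrimeCore hNn hc
    rw [eq_bot_iff]
    intro o ho
    have h2 : (⟨(o : G), hNH ⟨o, ho, rfl⟩⟩ : H) ∈ (⊥ : Subgroup H) :=
      h1 (Subgroup.mem_subgroupOf.mpr ⟨o, ho, rfl⟩)
    rw [Subgroup.mem_bot] at h2 ⊢
    exact Subtype.ext (congrArg (fun v : H => (v : G)) h2)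
  refine Subgroup.mem_centralizer_iff.mpr fun h hh => ?_
  exact congrArg Subtype.val
    (CfsgLib.ZStar.commute_of_commutatorsInCore hbot hcore ⟨h, Subgroup.mem_sup_left hh⟩).eq.symm

end Cfsg.Agent.S1251
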