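import Cfsg.Statements.S1255
import Cfsg.Agent.Lib.SmallTwo.DihedralFusion

set_option autoImplicit false
open Cfsg

namespace Cfsg.Agent.S1255

/-- Let X be a finite group whose Sylow 2-subgroup S is dihedral of order 2m ≥ 4. Then X has no subgroup of index 2 and no isolated involution if and only if either all involutions of X are conjugate, or for every Klein four-subgroup U ≤ S the index |N_X(U) : C_X(U)| equals 3 when |S| = 4 and equals 6 when |S| > 4. -/
theorem result {X : Type*} [Group X] [Finite X] (S : Sylow 2 X) (m : ℕ) (hm : 2 ≤ m) (eS : (S : Subgroup X) ≃* DihedralGroup m) : ((∀ H : Subgroup X, H.index ≠ 2) ∧ (∀ z : X, ¬ Cfsg.IsIsolatedInvolution z)) ↔ ((∀ a b : X, orderOf a = 2 → orderOf b = 2 → IsConj a b) ∨ (∀ U : Subgroup X, U ≤ S → IsKleinFour U → (Subgroup.centralizer (U : Set X)).relIndex (Subgroup.normalizer (U : Set X)) = (if Nat.card S = 4 then 3 else 6))) := by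
  obtain ⟨h, -, ⟨d⟩⟩ := CfsgLib.SmallTwo.Dih.frame_exists S hm eS
  have hI : (if Nat.card (S : Subgroup X) = 4 then 3 else 6) = (if h = 1 then 3 else 6) :=
    if_congr (by rw [d.card_sylow]; omega) rfl rfl
  constructor
  · rintro ⟨hidx, -⟩
    refine Or.inr fun U hUS hU => ?_
    obtain ⟨i, rfl⟩ := d.eq_fourG hUS hU
    rcases d.index_cases i with ⟨he, -⟩ | h6
    · obtain ⟨K, hK⟩ := d.exists_index_two_of_acts (CfsgLib.SmallTwo.Dih.actsLike_of_normalizer_eq he)
      exact absurd hK (hidx K)
    · rw [h6]; exact hI.symm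
  · intro hone
    have hconj : ∀ a b : X, orderOf a = 2 → orderOf b = 2 → IsConj a b := by
      rcases hone with hone | hall
      · exact hone
      · exact fun a b ha hb => d.one_class_of_moves
          (fun i => (hall _ (d.fourG_le i) (d.klein_fourG i)).trans hI) ha hb
    exact ⟨CfsgLib.SmallTwo.Dih.Frame.no_index_two_of_one_class hconj d,
      CfsgLib.SmallTwo.Dih.Frame.no_isolated_of_one_class hconj d⟩
end Cfsg.Agent.S1255
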