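import Cfsg.Statements.S1256
import Cfsg.Agent.Lib.SmallTwo.DihedralFusion

set_option autoImplicit false
open Cfsg

namespace Cfsg.Agent.S1256

/-- Let X be a finite group whose Sylow 2-subgroup S is dihedral of order 2m ≥ 4. If |S| = 4, any two Klein four-subgroups of X are conjugate; if |S| > 4, there are Klein four-subgroups U₁, U₂ of X that are not conjugate, and every Klein four-subgroup of X is conjugate to U₁ or to U₂. -/
theorem result {X : Type*} [Group X] [Finite X] (S : Sylow 2 X) (m : ℕ) (hm : 2 ≤ m) (eS : (S : Subgroup X) ≃* DihedralGroup m) : (Nat.card S = 4 → ∀ U V : Subgroup X, IsKleinFour U → IsKleinFour V → (∃ x : X, U.map (MulAut.conj x).toMonoidHom = V)) ∧ (4 < Nat.card S → ∃ U₁ U₂ : Subgroup X, IsKleinFour U₁ ∧ IsKleinFour U₂ ∧ ¬ (∃ x : X, U₁.map (MulAut.conj x).toMonoidHom = U₂) ∧ ∀ V : Subgroup X, IsKleinFour V → (∃ x : X, V.map (MulAut.conj x).toMonoidHom = U₁) ∨ (∃ x : X, V.map (MulAut.conj x).toMonoidHom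 = U₂)) := by
  obtain ⟨h, -, ⟨d⟩⟩ := CfsgLib.SmallTwo.Dih.frame_exists S hm eS
  refine ⟨fun h4 U V hU hV => ?_, fun h4 => d.classes_of_fours (fun h1 => by
    rw [d.card_sylow, h1] at h4; omega)⟩
  have h1 : h = 1 := by rw [d.card_sylow] at h4; omega
  have key : ∀ V : Subgroup X, IsKleinFour V →
      ∃ x : X, V.map (MulAut.conj x).toMonoidHom = (S : Subgroup X) := by
    intro V hV
    have : Fact (Nat.Prime 2) := ⟨Nat.prime_two⟩
    obtain ⟨Q, hQ⟩ := (IsPGroup.of_card (n := 2) hV.card_four : IsPGroup 2 V).exists_le_sylow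
    obtain ⟨g, hg⟩ := MulAction.exists_smul_eq X Q S
    refine ⟨g, Subgroup.eq_of_le_of_card_ge (hg ▸ Subgroup.map_mono hQ) ?_⟩
    rw [CfsgLib.Transfer.card_conj_map, hV.card_four, h4]
  obtain ⟨x, hx⟩ := key U hU
  obtain ⟨y, hy⟩ := key V hV
  refine ⟨y⁻¹ * x, ?_⟩
  rw [← CfsgLib.Transfer.map_conj_mul, hx, ← hy, CfsgLib.Transfer.map_conj_mul, inv_mul_cancel]
  ext a
  simp
end Cfsg.Agent.S1256
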