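import Cfsg.Statements.S1258
import Mathlib
import Cfsg.Agent.Lib.Layer.Basic

set_option autoImplicit false
open Cfsg

namespace Cfsg.Agent.S1258
open scoped commutatorElement


/-- If the central quotient of a finite group X is non-abelian simple, then X = X' Z(X) and the commutator subgroup X' is quasisimple. -/
theorem result {X : Type*} [Group X] [Finite X] (hs : IsSimpleGroup (X ⧸ Subgroup.center X)) (hna : ¬ IsMulCommutative (X ⧸ Subgroup.center X)) : commutator X ⊔ Subgroup.center X = ⊤ ∧ Cfsg.IsQuasisimple ↥(commutator X) := by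
  haveI := hs
  set Z := Subgroup.center X
  set f := QuotientGroup.mk' Z
  have hf : Function.Surjective f := QuotientGroup.mk'_surjective Z
  set D := commutator X
  have hcomm : commutator (X ⧸ Z) = ⊤ := by
    refine ((inferInstance : (commutator (X ⧸ Z)).Normal).eq_bot_or_eq_top).resolve_left fun h => hna ⟨⟨?_⟩⟩
    intro a b
    have h1 := Subgroup.commutator_mem_commutator (Subgroup.mem_top a) (Subgroup.mem_top b)
    rw [← commutator_def, h, Subgroup.mem_bot, commutatorElement_eq_one_iff_mul_comm] at h1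
    exact h1
  have hD : D.map f = ⊤ := by
    rw [← hcomm]
    simp only [D, commutator_def, Subgroup.map_commutator, Subgroup.map_top_of_surjective f hf]
  have hDZ : D ⊔ Z = ⊤ := by
    have h := congrArg (Subgroup.comap f) hD
    rwa [Subgroup.comap_map_eq, QuotientGroup.ker_mk', Subgroup.comap_top] at h
  haveI : Group.IsPerfect D := by
    rw [Subgroup.isPerfect_iff]
    refine le_antisymm (Subgroup.commutator_le_self D) ?_
    conv_lhs => rw [show D = ⁅(⊤ : Subgroup X), ⊤⁆ from commutator_def X]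
    rw [Subgroup.commutator_le]
    intro a _ b _
    obtain ⟨d, hd, z, hz, rfl⟩ := Subgroup.mem_sup_of_normal_left.mp (hDZ.ge (Subgroup.mem_top a))
    obtain ⟨e, he, w, hw, rfl⟩ := Subgroup.mem_sup_of_normal_left.mp (hDZ.ge (Subgroup.mem_top b))
    have e1 : Commute z (e * w) := (Subgroup.mem_center_iff.mp hz _).symm
    have e2 : Commute w d⁻¹ := (Subgroup.mem_center_iff.mp hw _).symm
    have : ⁅d * z, e * w⁆ = ⁅d, e⁆ := by
      simp only [commutatorElement_def]
      calc d * z * (e * w) * (d * z)⁻¹ * (e * w)⁻¹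
          = d * (z * (e * w)) * (z⁻¹ * d⁻¹) * (w⁻¹ * e⁻¹) := by group
        _ = d * ((e * w) * z) * (z⁻¹ * d⁻¹) * (w⁻¹ * e⁻¹) := by rw [e1.eq]
        _ = d * e * (w * d⁻¹) * (w⁻¹ * e⁻¹) := by group
        _ = d * e * (d⁻¹ * w) * (w⁻¹ * e⁻¹) := by rw [e2.eq]
        _ = d * e * d⁻¹ * e⁻¹ := by group
    exact this ▸ Subgroup.commutator_mem_commutator hd he
  haveI : Nontrivial D := by
    refine (Subgroup.nontrivial_iff_ne_bot D).mpr fun h => ?_
    rw [h, Subgroup.map_bot] at hD
    exact bot_ne_top hD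
  refine ⟨hDZ, CfsgLib.Layer.isQuasisimple_of_normal_le_center fun N hN => ?_⟩
  haveI : (N.map D.subtype).Normal := by
    refine ⟨fun y hy x => ?_⟩
    obtain ⟨n, hn, rfl⟩ := hy
    obtain ⟨d, hd, z, hz, rfl⟩ := Subgroup.mem_sup_of_normal_left.mp (hDZ.ge (Subgroup.mem_top x))
    refine ⟨⟨d, hd⟩ * n * ⟨d, hd⟩⁻¹, hN.conj_mem n hn _, ?_⟩
    have e1 : z * (n : X) = n * z := (Subgroup.mem_center_iff.mp hz _).symm
    simp only [Subgroup.coe_subtype, Subgroup.coe_mul, InvMemClass.coe_inv]
    calc d * (n : X) * d⁻¹ = d * ((n : X) * z) * z⁻¹ * d⁻¹ := by group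
      _ = d * (z * (n : X)) * z⁻¹ * d⁻¹ := by rw [e1]
      _ = d * z * (n : X) * (d * z)⁻¹ := by group
  rcases ((inferInstance : (N.map D.subtype).Normal).map f hf).eq_bot_or_eq_top with h | h
  · right
    intro n hn
    rw [Subgroup.map_eq_bot_iff, QuotientGroup.ker_mk'] at h
    rw [Subgroup.mem_center_iff]
    exact fun y => Subtype.ext (Subgroup.mem_center_iff.mp (h (Subgroup.mem_map_of_mem _ hn)) y)
  · left
    refine CfsgLib.Layer.eq_top_of_sup_center_eq_top (eq_top_iff.mpr fun y _ => ?_)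
    have h2 := congrArg (Subgroup.comap f) h
    rw [Subgroup.comap_map_eq, QuotientGroup.ker_mk', Subgroup.comap_top] at h2
    obtain ⟨n, hn, z, hz, hnz⟩ := Subgroup.mem_sup_of_normal_left.mp (h2.ge (Subgroup.mem_top (y : X)))
    obtain ⟨n, hn, rfl⟩ := hn
    have hzD : z ∈ D := by
      have : z = (n : X)⁻¹ * y := by rw [← hnz]; simp
      rw [this]
      exact mul_mem (inv_mem n.2) y.2
    rw [show y = n * ⟨z, hzD⟩ from Subtype.ext hnz.symm]
    refine mul_mem (Subgroup.mem_sup_left hn) (Subgroup.mem_sup_right ?_)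
    rw [Subgroup.mem_center_iff]
    exact fun w => Subtype.ext (Subgroup.mem_center_iff.mp hz w)

end Cfsg.Agent.S1258
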