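import Cfsg.Statements.S1263
import Mathlib
import Cfsg.Agent.Lib.Layer.Basic

set_option autoImplicit false
open Cfsg

namespace Cfsg.Agent.S1263
open CfsgLib.Layer


/-- For a finite group G, Z(E(G)) is the subgroup generated by the centres Z(L) of the components L of G (all viewed as subgroups of G). -/
theorem result {G : Type*} [Group G] [Finite G] : (Subgroup.center ↥(Cfsg.layer G)).map (Cfsg.layer G).subtype = ⨆ L : {K : Subgroup G // Cfsg.IsComponent K}, (Subgroup.center ↥(L : Subgroup G)).map (L : Subgroup G).subtype := by
  classical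
  set E := Cfsg.layer G
  haveI : Finite (Subgroup G) := Finite.of_injective (fun H => (H : Set G)) SetLike.coe_injective
  set Z := ⨆ L : {K : Subgroup G // Cfsg.IsComponent K},
    (Subgroup.center ↥(L : Subgroup G)).map (L : Subgroup G).subtype
  have hmemE : ∀ z, z ∈ (Subgroup.center E).map E.subtype ↔
      z ∈ E ∧ ∀ x ∈ E, x * z = z * x := by
    intro z
    constructor
    · rintro ⟨z, hz, rfl⟩
      exact ⟨z.2, fun x hx => congrArg Subtype.val (Subgroup.mem_center_iff.mp hz ⟨x, hx⟩)⟩
    · rintro ⟨hz, h⟩
      exact ⟨⟨z, hz⟩, Subgroup.mem_center_iff.mpr fun x => Subtype.ext (h x x.2), rfl⟩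
  refine le_antisymm ?_ (iSup_le fun L => ?_)
  · have key : ∀ s : Finset (Subgroup G), (∀ K ∈ s, Cfsg.IsComponent K) →
        ∀ z ∈ s.sup id, (∀ x ∈ E, x * z = z * x) → z ∈ Z := by
      intro s
      induction s using Finset.induction_on with
      | empty => intro _ z hz _; rw [Finset.sup_empty, Subgroup.mem_bot] at hz; exact hz ▸ one_mem Z
      | @insert K s hK ih =>
        intro hs z hz hzE
        rw [Finset.forall_mem_insert] at hs
        rw [Finset.sup_insert, id_eq] at hz
        have hcK : s.sup id ≤ Subgroup.centralizer (K : Set G) := Finset.sup_le fun L hL =>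
          Subgroup.commutator_eq_bot_iff_le_centralizer.mp
            (commutator_eq_bot_of_ne (hs.2 L hL) hs.1 fun e => hK (e ▸ hL))
        have hn : s.sup id ≤ Subgroup.normalizer (K : Set G) := fun x hx =>
          Subgroup.mem_normalizer_fintype fun k hk => by
            have h := Subgroup.mem_centralizer_iff.mp (hcK hx) k hk
            rwa [← h, mul_inv_cancel_right]
        rw [← SetLike.mem_coe, Subgroup.coe_mul_of_right_le_normalizer_left _ _ hn] at hz
        obtain ⟨k, hk, m, hm, rfl⟩ := hz
        have hsE : s.sup id ≤ E := Finset.sup_le fun L hL => isComponent_le_layer (hs.2 L hL)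
        have hkc : ∀ x ∈ K, x * k = k * x := by
          intro x hx
          have h1 := hzE x (isComponent_le_layer hs.1 hx)
          have h2 := Subgroup.mem_centralizer_iff.mp (hcK hm) x hx
          refine mul_right_cancel (b := m) ?_
          calc x * k * m = x * (k * m) := mul_assoc _ _ _
            _ = k * m * x := h1
            _ = k * (x * m) := by rw [mul_assoc, h2]
            _ = k * x * m := (mul_assoc _ _ _).symm
        have hkZ : k ∈ Z := Subgroup.mem_iSup_of_mem ⟨K, hs.1⟩
          ⟨⟨k, hk⟩, Subgroup.mem_center_iff.mpr fun x => Subtype.ext (hkc x x.2), rfl⟩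
        refine mul_mem hkZ (ih hs.2 m hm fun x hx => ?_)
        have hkE : ∀ x ∈ E, x * k = k * x := by
          intro x hx
          have : E ≤ Subgroup.centralizer ({k} : Set G) := sSup_le fun L hL => by
            rcases eq_or_ne L K with rfl | hne
            · exact fun x hx => Subgroup.mem_centralizer_singleton_iff.mpr (hkc x hx)
            · exact fun x hx => Subgroup.mem_centralizer_singleton_iff.mpr
                (Subgroup.mem_centralizer_iff.mp
                  (Subgroup.commutator_eq_bot_iff_le_centralizer.mp (commutator_eq_bot_of_ne hL hs.1 hne)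
                    hx) k hk).symm
          exact Subgroup.mem_centralizer_singleton_iff.mp (this hx)
        have h1 : Commute x (k * m) := hzE x hx
        have h2 : Commute x k := hkE x hx
        simpa [mul_assoc] using (h2.inv_right.mul_right h1).eq
    intro z hz
    obtain ⟨hzE, hc⟩ := (hmemE z).mp hz
    have : E = ((Set.toFinite {K : Subgroup G | Cfsg.IsComponent K}).toFinset).sup id := by
      rw [Finset.sup_id_eq_sSup, Set.Finite.coe_toFinset]
      rfl
    rw [this] at hzE
    exact key _ (fun K hK => by simpa using hK) z hzE hc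
  · rintro _ ⟨z, hz, rfl⟩
    refine (hmemE _).mpr ⟨isComponent_le_layer L.2 z.2, fun x hx => ?_⟩
    have : E ≤ Subgroup.centralizer ({(z : G)} : Set G) := sSup_le fun K hK => by
      rcases eq_or_ne K (L : Subgroup G) with rfl | hne
      · exact fun x hx => Subgroup.mem_centralizer_singleton_iff.mpr
          (congrArg Subtype.val (Subgroup.mem_center_iff.mp hz ⟨x, hx⟩))
      · exact fun x hx => Subgroup.mem_centralizer_singleton_iff.mpr
          (Subgroup.mem_centralizer_iff.mp
            (Subgroup.commutator_eq_bot_iff_le_centralizer.mp (commutator_eq_bot_of_ne hK L.2 hne) hx)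
            z z.2).symm
    exact Subgroup.mem_centralizer_singleton_iff.mp (this hx)

end Cfsg.Agent.S1263
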