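import Cfsg.Statements.S1264
import Cfsg.Agent.Lib.Layer.Radical
import Cfsg.Agent.Lib.Fitting.Basic

set_option autoImplicit false
open Cfsg

namespace Cfsg.Agent.S1264

/-- Let G be finite, C = C_G(F(G)) the centralizer of the Fitting subgroup, and N a solvable subgroup of C normalized by C. Then N ≤ Z(F(G)). -/
theorem result {G : Type*} [Group G] [Finite G] (N : Subgroup G) (hN : N ≤ Subgroup.centralizer (Cfsg.fittingSubgroup G : Set G)) (hnorm : Subgroup.centralizer (Cfsg.fittingSubgroup G : Set G) ≤ Subgroup.normalizer (N : Set G)) (hsolv : Group.IsSolvable ↥N) : N ≤ (Subgroup.center ↥(Cfsg.fittingSubgroup G)).map (Cfsg.fittingSubgroup G).subtype := by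
  haveI := CfsgLib.Fitting.fittingSubgroup_normal (G := G)
  set F := Cfsg.fittingSubgroup G with hF
  set C := Subgroup.centralizer (F : Set G) with hC
  haveI : C.Normal := Subgroup.normal_centralizer
  set R := Cfsg.solvableRadical ↥C with hR
  haveI hRs : Group.IsSolvable ↥R := CfsgLib.Layer.solvableRadical_isSolvable
  have hNR : N.subgroupOf C ≤ R := by
    refine CfsgLib.Layer.le_solvableRadical ((Subgroup.normal_subgroupOf_iff_le_normalizer hN).mpr hnorm) ?_
    exact Group.isSolvable_of_isSolvable_injective (f := (Subgroup.subgroupOfEquivOfLe hN).toMonoidHom)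
      (Subgroup.subgroupOfEquivOfLe hN).injective
  haveI : (R.map C.subtype).Normal := CfsgLib.PSolvable.normal_map_of_characteristic C R
  have hRF : ∀ (r : ↥R), r ∈ Cfsg.fittingSubgroup ↥R → ((r : ↥C) : G) ∈ F := by
    intro r hr
    have h1 : (((Cfsg.fittingSubgroup ↥R).map R.subtype).map C.subtype).IsSubnormal :=
      (((CfsgLib.Fitting.fittingSubgroup_normal (G := ↥R)).isSubnormal.trans'
        (CfsgLib.Layer.solvableRadical_normal ↥C).isSubnormal)).trans' (inferInstance : C.Normal).isSubnormal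
    haveI := CfsgLib.Fitting.fittingSubgroup_isNilpotent (G := ↥R)
    have h2 : Group.IsNilpotent ↥(((Cfsg.fittingSubgroup ↥R).map R.subtype).map C.subtype) := by
      rw [Subgroup.map_map]
      exact Group.nilpotent_of_mulEquiv (Subgroup.equivMapOfInjective _ _
        ((Subgroup.subtype_injective C).comp (Subgroup.subtype_injective R)))
    exact CfsgLib.Layer.le_fittingSubgroup_of_isSubnormal h1 h2 ⟨_, ⟨r, hr, rfl⟩, rfl⟩
  have hall : ∀ r : ↥R, r ∈ Cfsg.fittingSubgroup ↥R := by
    intro r
    refine CfsgLib.PSolvable.centralizer_fittingSubgroup_le (Subgroup.mem_centralizer_iff.mpr fun f hf => ?_)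
    exact Subtype.ext (Subtype.ext (Subgroup.mem_centralizer_iff.mp (r : ↥C).2 _ (hRF f hf)))
  intro n hn
  have hnR : (⟨n, hN hn⟩ : ↥C) ∈ R := hNR (Subgroup.mem_subgroupOf.mpr hn)
  have hnF : n ∈ F := hRF ⟨_, hnR⟩ (hall _)
  exact ⟨⟨n, hnF⟩, Subgroup.mem_center_iff.mpr fun f => Subtype.ext
    (Subgroup.mem_centralizer_iff.mp (hN hn) f f.2), rfl⟩

end Cfsg.Agent.S1264
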