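import Cfsg.Statements.S1270
import Cfsg.Agent.Lib.Layer.PLocalLayer
import Cfsg.Agent.Lib.Signalizer.CoreBalance

set_option autoImplicit false
open Cfsg

namespace Cfsg.Agent.S1270

/-- Let G be finite with O_{p'}(G) = 1, x of order p, and L a component with ⁅L, ⟨x⟩⁆ ≠ L. Then ⁅L, O_{p'}(C_G(x))⁆ = 1. -/
theorem result {G : Type*} [Group G] [Finite G] (p : ℕ) [Fact p.Prime] (hO : Cfsg.pPrimeCore p G = ⊥) (x : G) (hx : orderOf x = p) (L : Subgroup G) (hL : Cfsg.IsComponent L) (hne : ⁅L, Subgroup.zpowers x⁆ ≠ L) : ⁅L, Cfsg.centralizerPPrimeCore p x⁆ = ⊥ := by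
  have hxp : x ^ p = 1 := hx ▸ pow_orderOf_eq_one x
  have hZ : IsPGroup p (Subgroup.zpowers x) :=
    IsPGroup.of_card (n := 1) (by rw [Nat.card_zpowers, hx, pow_one])
  have hC : Subgroup.centralizer (Subgroup.zpowers x : Set G) =
      Subgroup.centralizer ({x} : Set G) := by
    rw [Subgroup.zpowers_eq_closure, Subgroup.centralizer_closure]
  have hD : Cfsg.centralizerPPrimeCore p x ≤ CfsgLib.Layer.PLocal.core0 p (Subgroup.zpowers x) := by
    refine CfsgLib.Layer.PLocal.le_core0 hZ ?_ ?_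
      (CfsgLib.Signalizer.coprime_centralizerPPrimeCore x)
    · rw [hC]; exact Subgroup.map_subtype_le _
    · rw [hC]; exact CfsgLib.Signalizer.centralizerPPrimeCore_normalized x
  rw [Subgroup.commutator_comm, Subgroup.commutator_eq_bot_iff_le_centralizer]
  refine hD.trans (CfsgLib.Layer.PLocal.core0_le_centralizer hO hxp hL fun hxL => ?_)
  have hZL : Subgroup.zpowers x ≤ Subgroup.normalizer (L : Set G) := Subgroup.zpowers_le.mpr hxL
  have h1 : ⁅L, Subgroup.zpowers x⁆ ≤ L :=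
    CfsgLib.Coprime.commutator_le_left_of_le_normalizer hZL
  haveI : (⁅L, Subgroup.zpowers x⁆.subgroupOf L).Normal :=
    (Subgroup.normal_subgroupOf_iff_le_normalizer h1).mpr
      (Subgroup.normalizer_commutator_ge_left L _)
  rcases CfsgLib.Layer.eq_top_or_le_center_of_normal hL.2 (⁅L, Subgroup.zpowers x⁆.subgroupOf L)
    with h | h
  · exact absurd (le_antisymm h1 (Subgroup.subgroupOf_eq_top.mp h)) hne
  · have h2 : ⁅⁅L, Subgroup.zpowers x⁆, L⁆ = ⊥ :=
      Subgroup.commutator_eq_bot_iff_le_centralizer.mpr fun a ha =>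
        Subgroup.mem_centralizer_iff.mpr fun z hz => congrArg Subtype.val
          (Subgroup.mem_center_iff.mp (h (x := ⟨a, h1 ha⟩) (Subgroup.mem_subgroupOf.mpr ha)) ⟨z, hz⟩)
    have h3 := CfsgLib.Layer.commutator_eq_bot_of_perfect
      (CfsgLib.Layer.isPerfect_of_isComponent hL) h2
    rw [Subgroup.commutator_comm, Subgroup.commutator_eq_bot_iff_le_centralizer] at h3
    exact h3 (Subgroup.mem_zpowers x)

end Cfsg.Agent.S1270
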