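import Cfsg.Statements.S1271
import Cfsg.Agent.Lib.Signalizer.ComponentBalance

set_option autoImplicit false
set_option linter.style.haveILetI false
open scoped commutatorElement
open Cfsg

namespace Cfsg.Agent.S1271

/-- Let G be finite with O_{p'}(G) = 1. Suppose that for every component L of G and every subgroup H ≥ L in which L is normal, the quotient H / C_H(L) is balanced for the prime p. Then G is balanced for p. -/
theorem result {G : Type*} [Group G] [Finite G] (p : ℕ) [Fact p.Prime] (hO : Cfsg.pPrimeCore p G = ⊥) (h : ∀ L : Subgroup G, Cfsg.IsComponent L → ∀ H : Subgroup G, L ≤ H → (L.subgroupOf H).Normal → ∀ [((Subgroup.centralizer (L : Set G)).subgroupOf H).Normal], Cfsg.IsBalancedFor p (↥H ⧸ (Subgroup.centralizer (L : Set G)).subgroupOf H)) : Cfsg.IsBalancedFor p G := by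
  intro x hx
  rw [hO]
  have hxp : x ^ p = 1 := hx ▸ pow_orderOf_eq_one x
  have hx1 : x ≠ 1 := fun e => (Fact.out : p.Prime).ne_one (by rw [← hx, e, orderOf_one])
  have hZ := CfsgLib.Signalizer.ComponentBalance.isPGroup_zpowers hxp
  refine le_trans (CfsgLib.Signalizer.ComponentBalance.centralizerPPrimeCore_le_core0 hxp) (le_of_eq ?_)
  set D := CfsgLib.Layer.PLocal.core0 p (Subgroup.zpowers x) with hD
  refine CfsgLib.Layer.PLocal.eq_bot_of_centralizes_components hO
    (CfsgLib.Layer.PLocal.coprime_core0 _)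
    ((CfsgLib.Layer.PLocal.core0_le _).trans inf_le_right) fun L hL => ?_
  by_cases hc : x ∈ Subgroup.normalizer (L : Set G) → x ∈ Subgroup.centralizer (L : Set G)
  · exact CfsgLib.Layer.PLocal.core0_le_centralizer hO hxp hL hc
  push Not at hc
  obtain ⟨hxL, hxC⟩ := hc
  have hWL : Subgroup.zpowers x ⊔ D ≤ Subgroup.normalizer (L : Set G) :=
    sup_le (Subgroup.zpowers_le.mpr hxL) (CfsgLib.Layer.PLocal.core0_le_normalizer hO hZ hL)
  have hWx : Subgroup.zpowers x ⊔ D ≤ Subgroup.centralizer ({x} : Set G) :=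
    sup_le (Subgroup.zpowers_le.mpr (Subgroup.mem_centralizer_singleton_iff.mpr rfl))
      (((CfsgLib.Layer.PLocal.core0_le _).trans
        (CfsgLib.Layer.PLocal.cent_le_centralizer _)).trans
        (Subgroup.centralizer_le (by simp)))
  have hHN : L ⊔ (Subgroup.zpowers x ⊔ D) ≤
      Subgroup.normalizer ((Subgroup.centralizer (L : Set G) : Subgroup G) : Set G) :=
    (sup_le Subgroup.le_normalizer hWL).trans (CfsgLib.Coprime.le_normalizer_centralizer le_rfl)
  haveI hCn : ((Subgroup.centralizer (L : Set G)).subgroupOf (L ⊔ (Subgroup.zpowers x ⊔ D))).Normal :=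
    Subgroup.normal_subgroupOf_of_le_normalizer hHN
  haveI hLn : (L.subgroupOf (L ⊔ (Subgroup.zpowers x ⊔ D))).Normal :=
    Subgroup.normal_subgroupOf_of_le_normalizer (sup_le Subgroup.le_normalizer hWL)
  set C₀ := (Subgroup.centralizer (L : Set G)).subgroupOf (L ⊔ (Subgroup.zpowers x ⊔ D)) with hC₀
  set L₀ := L.subgroupOf (L ⊔ (Subgroup.zpowers x ⊔ D)) with hL₀
  set f := QuotientGroup.mk' C₀ with hf
  have hker : ∀ u, f u = 1 → (u : G) ∈ Subgroup.centralizer (L : Set G) := fun u hu =>
    Subgroup.mem_subgroupOf.mp ((QuotientGroup.eq_one_iff u).mp hu)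
  set xH : ↥(L ⊔ (Subgroup.zpowers x ⊔ D)) :=
    ⟨x, Subgroup.mem_sup_right (Subgroup.mem_sup_left (Subgroup.mem_zpowers x))⟩ with hxH
  have hord : orderOf (f xH) = p := by
    refine orderOf_eq_prime ?_ fun he => hxC (hker xH he)
    rw [← map_pow, show xH ^ p = 1 from Subtype.ext hxp, map_one]
  have hTbot : Cfsg.pPrimeCore p (↥(L ⊔ (Subgroup.zpowers x ⊔ D)) ⧸ C₀) = ⊥ := by
    haveI := CfsgLib.Transfer.pPrimeCore_normal p (↥(L ⊔ (Subgroup.zpowers x ⊔ D)) ⧸ C₀)
    haveI hLb : (L₀.map f).Normal := Subgroup.Normal.map hLn f (QuotientGroup.mk'_surjective _)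
    set O := Cfsg.pPrimeCore p (↥(L ⊔ (Subgroup.zpowers x ⊔ D)) ⧸ C₀) with hOdef
    -- the part of `L` over `O` is central
    have hLO : ∀ u : ↥(L ⊔ (Subgroup.zpowers x ⊔ D)), (u : G) ∈ L → f u ∈ O →
        (u : G) ∈ Subgroup.centralizer (L : Set G) := by
      have hN : (((O.comap f) ⊓ L₀).map (L ⊔ (Subgroup.zpowers x ⊔ D)).subtype) ≤ L := by
        rintro _ ⟨u, hu, rfl⟩
        exact (Subgroup.mem_inf.mp hu).2
      set N := ((O.comap f) ⊓ L₀).map (L ⊔ (Subgroup.zpowers x ⊔ D)).subtype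
      haveI : (N.subgroupOf L).Normal := by
        refine Subgroup.normal_subgroupOf_of_le_normalizer fun b hb => ?_
        haveI hM : (O.comap f ⊓ L₀).Normal := Subgroup.normal_inf_normal _ _
        exact Subgroup.le_normalizer_map _ ⟨⟨b, Subgroup.mem_sup_left hb⟩,
          (Subgroup.normalizer_eq_top_iff.mpr hM).symm ▸ Subgroup.mem_top _, rfl⟩
      rcases CfsgLib.Layer.eq_top_or_le_center_of_normal hL.2 (N.subgroupOf L) with h1 | h1
      · exfalso
        haveI := hL.2.1
        refine CfsgLib.Layer.center_ne_top_of_isQuasisimple hL.2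
          (CfsgLib.Layer.eq_top_of_coprime_index hO hL (Subgroup.center ↥L) ?_)
        obtain ⟨S⟩ : Nonempty (Sylow p ↥L) := inferInstance
        refine (((Nat.Prime.coprime_iff_not_dvd Fact.out).mpr S.not_dvd_index).symm).coprime_dvd_left
          (Subgroup.index_dvd_of_le fun y hy => ?_)
        obtain ⟨u, hu, hue⟩ := Subgroup.subgroupOf_eq_top.mp h1 y.2
        obtain ⟨j, hj⟩ := S.2 ⟨y, hy⟩
        have hu1 : f u = 1 := by
          have hup : u ^ p ^ j = 1 := by
            refine Subtype.ext ?_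
            show (u : G) ^ p ^ j = 1
            rw [show (u : G) = (y : G) from hue]
            exact congrArg (fun z => ((z.1 : ↥L) : G)) hj
          refine CfsgLib.PSolvable.eq_one_of_mem_of_mem (P := Subgroup.zpowers (f u)) ?_
            (CfsgLib.Transfer.pPrimeCore_coprime p) (Subgroup.mem_zpowers _) (Subgroup.mem_inf.mp hu).1
          rintro ⟨z, k, rfl⟩
          refine ⟨j, Subtype.ext ?_⟩
          show (f u ^ k) ^ p ^ j = 1
          rw [← zpow_natCast, ← zpow_mul, mul_comm k, zpow_mul, zpow_natCast, ← map_pow, hup,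
            map_one, one_zpow]
        refine Subgroup.mem_center_iff.mpr fun z => Subtype.ext ?_
        have h2 := hker u hu1
        rw [show (u : G) = (y : G) from hue] at h2
        exact Subgroup.mem_centralizer_iff.mp h2 z z.2
      · intro u huL hfu
        exact Subgroup.mem_centralizer_iff.mpr fun z hz => congrArg Subtype.val
          (Subgroup.mem_center_iff.mp (h1 (x := ⟨u, huL⟩) (Subgroup.mem_subgroupOf.mpr
            ⟨u, Subgroup.mem_inf.mpr ⟨hfu, huL⟩, rfl⟩)) ⟨z, hz⟩)
    refine eq_bot_iff.mpr fun t ht => ?_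
    obtain ⟨u, rfl⟩ := QuotientGroup.mk'_surjective C₀ t
    refine Subgroup.mem_bot.mpr ((QuotientGroup.eq_one_iff u).mpr (Subgroup.mem_subgroupOf.mpr ?_))
    -- `u` centralizes `L` modulo its centre, hence centralizes it
    have huN : (u : G) ∈ Subgroup.normalizer (L : Set G) := sup_le Subgroup.le_normalizer hWL u.2
    have h2 : ⁅L, Subgroup.zpowers (u : G)⁆ ≤ Subgroup.centralizer (L : Set G) := by
      refine Subgroup.commutator_le.mpr fun b hb c hc => ?_
      obtain ⟨m, rfl⟩ := Subgroup.mem_zpowers_iff.mp hc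
      have hcm : f ⁅(⟨b, Subgroup.mem_sup_left hb⟩ : ↥(L ⊔ (Subgroup.zpowers x ⊔ D))), u ^ m⁆ ∈ O := by
        rw [map_commutatorElement, commutatorElement_def]
        exact mul_mem ((inferInstance : O.Normal).conj_mem _ (by rw [map_zpow]; exact zpow_mem ht m) _)
          (inv_mem (by rw [map_zpow]; exact zpow_mem ht m))
      have hcL : ⁅b, (u : G) ^ m⁆ ∈ L := by
        rw [commutatorElement_def, show b * (u : G) ^ m * b⁻¹ * ((u : G) ^ m)⁻¹ =
          b * ((u : G) ^ m * b⁻¹ * ((u : G) ^ m)⁻¹) by group]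
        exact mul_mem hb ((Subgroup.mem_normalizer_iff.mp (zpow_mem huN m) _).mp (inv_mem hb))
      have h3 := hLO ⁅(⟨b, Subgroup.mem_sup_left hb⟩ : ↥(L ⊔ (Subgroup.zpowers x ⊔ D))), u ^ m⁆
        (by simpa [commutatorElement_def] using hcL) hcm
      simpa [commutatorElement_def] using h3
    have h4 := CfsgLib.Layer.commutator_eq_bot_of_perfect
      (CfsgLib.Layer.isPerfect_of_isComponent hL)
      (Subgroup.commutator_eq_bot_iff_le_centralizer.mpr h2)
    rw [Subgroup.commutator_comm, Subgroup.commutator_eq_bot_iff_le_centralizer] at h4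
    exact h4 (Subgroup.mem_zpowers (u : G))
  have hle := CfsgLib.Layer.PLocal.map_core0_le_core (x := x) (W := Subgroup.zpowers x ⊔ D) hL hO
    (Subgroup.mem_sup_left (Subgroup.mem_zpowers x)) hWx hWL f (QuotientGroup.mk'_surjective _) hker
  have hbal := h L hL (L ⊔ (Subgroup.zpowers x ⊔ D)) le_sup_left hLn (f xH) hord
  rw [hTbot] at hbal
  intro d hd
  exact hker ⟨d, Subgroup.mem_sup_right (Subgroup.mem_sup_right hd)⟩
    (Subgroup.mem_bot.mp (hbal (hle ⟨⟨d, Subgroup.mem_sup_right (Subgroup.mem_sup_right hd)⟩,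
      Subgroup.mem_subgroupOf.mpr hd, rfl⟩)))

end Cfsg.Agent.S1271
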