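import Cfsg.Statements.S1273
import Mathlib
import Cfsg.Agent.Lib.Layer.PComponent

set_option autoImplicit false
open Cfsg

namespace Cfsg.Agent.S1273
open CfsgLib.Layer


/-- Let K be a p-component of the finite group X and N a normal subgroup of K whose index in K is prime to p. Then N = K. -/
theorem result {X : Type*} [Group X] [Finite X] (p : ℕ) [Fact p.Prime] (K : Subgroup X) (hK : Cfsg.IsPComponent p K) (N : Subgroup ↥K) [N.Normal] (hidx : (N.index).Coprime p) : N = ⊤ := by
  rw [eq_top_iff]
  intro k _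
  have hle : pGen p (K.map (QuotientGroup.mk' (Cfsg.pPrimeCore p X)) |>.comap
      (QuotientGroup.mk' (Cfsg.pPrimeCore p X))) ≤ N.map K.subtype := by
    refine (Subgroup.closure_le _).mpr ?_
    rintro x ⟨hxY, j, hj⟩
    have hxK : x ∈ K := (eq_pComponentOf hK).ge (mem_pGen hxY hj)
    exact ⟨⟨x, hxK⟩, mem_of_isSubnormal_of_coprime_index (inferInstance : N.Normal).isSubnormal hidx
      (by rw [← Subgroup.orderOf_coe]; exact hj), rfl⟩
  obtain ⟨k', hk', he⟩ := hle ((eq_pComponentOf hK).le k.2)
  exact (Subtype.ext he : k' = k) ▸ hk'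

end Cfsg.Agent.S1273
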