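import Cfsg.Statements.S1276
import Mathlib
import Cfsg.Agent.Lib.Layer.PComponent

set_option autoImplicit false
open Cfsg

namespace Cfsg.Agent.S1276
open CfsgLib.Layer
open scoped commutatorElement


/-- Let K be a 2-component of the finite group X. Then K is quasisimple if and only if ⁅K, O(K)⁆ = 1. -/
theorem result {X : Type*} [Group X] [Finite X] (K : Subgroup X) (hK : Cfsg.IsPComponent 2 K) : Cfsg.IsQuasisimple ↥K ↔ ⁅K, ((Cfsg.oddCore ↥K).map K.subtype)⁆ = ⊥ := by
  classical
  haveI : Fact (Nat.Prime 2) := ⟨Nat.prime_two⟩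
  haveI := CfsgLib.Transfer.pPrimeCore_normal 2 ↥K
  have hQ := isQuasisimple_quotient_pPrimeCore hK
  have hcen : ⁅K, (Cfsg.oddCore ↥K).map K.subtype⁆ = ⊥ ↔
      Cfsg.oddCore ↥K ≤ Subgroup.center ↥K := by
    have h1 : (⊤ : Subgroup K).map K.subtype = K := by
      rw [← MonoidHom.range_eq_map, Subgroup.range_subtype]
    have h2 : ⁅K, (Cfsg.oddCore ↥K).map K.subtype⁆ = ⁅(⊤ : Subgroup K), Cfsg.oddCore ↥K⁆.map K.subtype := by
      rw [Subgroup.map_commutator, h1]
    rw [h2, Subgroup.map_eq_bot_iff_of_injective _ K.subtype_injective,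
      Subgroup.commutator_comm, Subgroup.commutator_top_right_eq_bot_iff_le_center]
  rw [hcen]
  constructor
  · intro h
    refine (eq_top_or_le_center_of_normal h _).resolve_left fun htop => ?_
    haveI := nontrivial_of_isQuasisimple hQ
    exact (QuotientGroup.nontrivial_iff.mp (inferInstance : Nontrivial (↥K ⧸ Cfsg.oddCore ↥K))) htop
  · intro hc
    haveI hp : Group.IsPerfect K := Subgroup.isPerfect_iff.mpr (commutator_eq_self_of_isPComponent hK)
    haveI : Nontrivial K := by
      haveI := nontrivial_of_isQuasisimple hQ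
      exact (QuotientGroup.mk_surjective (s := Cfsg.oddCore ↥K)).nontrivial
    refine isQuasisimple_of_normal_le_center fun N hN => ?_
    set f := QuotientGroup.mk' (Cfsg.oddCore ↥K)
    have hf : Function.Surjective f := QuotientGroup.mk'_surjective _
    haveI := hN.map f hf
    rcases eq_top_or_le_center_of_normal hQ (N.map f) with h | h
    · left
      refine eq_top_of_sup_center_eq_top (eq_top_iff.mpr ?_)
      have h2 := congrArg (Subgroup.comap f) h
      rw [Subgroup.comap_map_eq, QuotientGroup.ker_mk', Subgroup.comap_top] at h2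
      exact h2.ge.trans (sup_le_sup_left hc N)
    · right
      rw [← Subgroup.commutator_top_right_eq_bot_iff_le_center, Subgroup.commutator_comm]
      refine commutator_eq_bot_of_perfect (by rw [← commutator_def]; exact hp.commutator_eq_top) ?_
      rw [Subgroup.commutator_top_right_eq_bot_iff_le_center]
      refine le_trans ?_ hc
      rw [← QuotientGroup.ker_mk' (Cfsg.oddCore ↥K), ← Subgroup.map_eq_bot_iff, Subgroup.map_commutator,
        Subgroup.map_top_of_surjective f hf, Subgroup.commutator_comm,
        Subgroup.commutator_top_right_eq_bot_iff_le_center]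
      exact h

end Cfsg.Agent.S1276
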