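import Cfsg.Statements.S1277
import Mathlib
import Cfsg.Agent.Lib.Layer.PComponent

set_option autoImplicit false
open Cfsg

namespace Cfsg.Agent.S1277
open CfsgLib.Layer


/-- For a finite group X with core O(X): the image of E(X) in X / O(X) is all of E(X / O(X)) if and only if every 2-component of X is a component, i.e. L_{2'}(X) ≤ E(X). -/
theorem result {X : Type*} [Group X] [Finite X] : (Cfsg.layer X).map (QuotientGroup.mk' (Cfsg.oddCore X)) = Cfsg.layer (X ⧸ Cfsg.oddCore X) ↔ Cfsg.pLayer 2 X ≤ Cfsg.layer X := by
  classical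
  haveI : Fact (Nat.Prime 2) := ⟨Nat.prime_two⟩
  haveI := CfsgLib.Transfer.pPrimeCore_normal 2 X
  set π := QuotientGroup.mk' (Cfsg.oddCore X)
  have hcomp : ∀ K : Subgroup X, Cfsg.IsComponent K → Cfsg.IsComponent (K.map π) ∨ K.map π = ⊥ := by
    intro K hK
    rcases eq_or_ne (K.map π) ⊥ with h | h
    · exact Or.inr h
    · left
      haveI : Nontrivial (K.map π) := (Subgroup.nontrivial_iff_ne_bot _).mpr h
      exact ⟨hK.1.quotient, isQuasisimple_of_surjective (π.subgroupMap_surjective K) hK.2⟩
  constructor
  · intro h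
    refine sSup_le fun P hP => ?_
    have hP' : Cfsg.IsPComponent 2 P := hP
    set L := P.map π
    have hL : Cfsg.IsComponent L := hP'.2.1
    obtain ⟨K, hK, hKL⟩ : ∃ K, Cfsg.IsComponent K ∧ K.map π = L := by
      by_contra hno
      push Not at hno
      have hcent : ∀ K, Cfsg.IsComponent K → K.map π ≤ Subgroup.centralizer (L : Set (X ⧸ Cfsg.oddCore X)) := by
        intro K hK
        rcases hcomp K hK with h1 | h1
        · exact Subgroup.commutator_eq_bot_iff_le_centralizer.mp
            (commutator_eq_bot_of_ne h1 hL (hno K hK))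
        · rw [h1]; exact bot_le
      have hLE : L ≤ Subgroup.centralizer (L : Set (X ⧸ Cfsg.oddCore X)) := by
        refine (isComponent_le_layer hL).trans (h.ge.trans ?_)
        rw [Cfsg.layer, Subgroup.map_le_iff_le_comap]
        exact sSup_le fun K hK => Subgroup.map_le_iff_le_comap.mp (hcent K hK)
      exact not_isSolvable_of_isComponent hL (Group.isSolvable_of_comm fun a b =>
        Subtype.ext (Subgroup.mem_centralizer_iff.mp (hLE b.2) a a.2))
    rw [eq_pComponentOf hP']
    exact (pComponentOf_le hK.1 hKL).trans (isComponent_le_layer hK)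
  · intro h
    refine le_antisymm ?_ (map_pLayer.ge.trans (Subgroup.map_mono h))
    rw [Cfsg.layer, Subgroup.map_le_iff_le_comap]
    refine sSup_le fun K hK => ?_
    rw [← Subgroup.map_le_iff_le_comap]
    rcases hcomp K hK with h1 | h1
    · exact isComponent_le_layer h1
    · rw [h1]; exact bot_le

end Cfsg.Agent.S1277
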