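import Cfsg.Statements.S1278
import Mathlib
import Cfsg.Agent.Lib.Layer.PComponent

set_option autoImplicit false
open Cfsg

namespace Cfsg.Agent.S1278
open CfsgLib.Layer


/-- Let K ≠ L be 2-components of the finite group X. Then ⁅K, L⁆ ≤ O(K) ⊓ O(L), and if K is quasisimple then ⁅K, L⁆ = 1. -/
theorem result {X : Type*} [Group X] [Finite X] (K L : Subgroup X) (hK : Cfsg.IsPComponent 2 K) (hL : Cfsg.IsPComponent 2 L) (hne : K ≠ L) : ⁅K, L⁆ ≤ ((Cfsg.oddCore ↥K).map K.subtype) ⊓ ((Cfsg.oddCore ↥L).map L.subtype) ∧ (Cfsg.IsQuasisimple ↥K → ⁅K, L⁆ = ⊥) := by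
  classical
  haveI : Fact (Nat.Prime 2) := ⟨Nat.prime_two⟩
  haveI := CfsgLib.Transfer.pPrimeCore_normal 2 X
  set π := QuotientGroup.mk' (Cfsg.oddCore X)
  have hne' : K.map π ≠ L.map π := fun e => hne ((eq_pComponentOf hK).trans
    ((congrArg _ e).trans (eq_pComponentOf hL).symm))
  have hO : ⁅K, L⁆ ≤ Cfsg.oddCore X := by
    rw [← QuotientGroup.ker_mk' (Cfsg.oddCore X), ← Subgroup.map_eq_bot_iff, Subgroup.map_commutator]
    exact commutator_eq_bot_of_ne hK.2.1 hL.2.1 hne'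
  have hnK : L ≤ Subgroup.normalizer (K : Set X) := (le_sSup hL : L ≤ Cfsg.pLayer 2 X).trans (pLayer_le_normalizer hK)
  have hnL : K ≤ Subgroup.normalizer (L : Set X) := (le_sSup hK : K ≤ Cfsg.pLayer 2 X).trans (pLayer_le_normalizer hL)
  have hKK : ⁅K, L⁆ ≤ (Cfsg.oddCore ↥K).map K.subtype := by
    rw [map_pPrimeCore_of_isSubnormal hK.1]
    exact le_inf hO (CfsgLib.Coprime.commutator_le_left_of_le_normalizer hnK)
  have hLL : ⁅K, L⁆ ≤ (Cfsg.oddCore ↥L).map L.subtype := by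
    rw [map_pPrimeCore_of_isSubnormal hL.1]
    refine le_inf hO ?_
    rw [Subgroup.commutator_comm]
    exact CfsgLib.Coprime.commutator_le_left_of_le_normalizer hnL
  refine ⟨le_inf hKK hLL, fun hq => ?_⟩
  refine commutator_eq_bot_of_perfect (commutator_eq_self_of_isPComponent hK) ?_
  have hc : Cfsg.oddCore ↥K ≤ Subgroup.center ↥K := by
    haveI := CfsgLib.Transfer.pPrimeCore_normal 2 ↥K
    refine (eq_top_or_le_center_of_normal hq _).resolve_left fun htop => ?_
    haveI := nontrivial_of_isQuasisimple (isQuasisimple_quotient_pPrimeCore hK)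
    exact (QuotientGroup.nontrivial_iff.mp (inferInstance : Nontrivial (↥K ⧸ Cfsg.oddCore ↥K))) htop
  rw [Subgroup.commutator_eq_bot_iff_le_centralizer]
  intro x hx
  obtain ⟨x, hx', rfl⟩ := hKK hx
  exact Subgroup.mem_centralizer_iff.mpr fun y hy =>
    congrArg Subtype.val (Subgroup.mem_center_iff.mp (hc hx') ⟨y, hy⟩)

end Cfsg.Agent.S1278
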