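import Cfsg.Statements.S1280
import Mathlib
import Cfsg.Agent.Lib.Coprime.Action

set_option autoImplicit false
open Cfsg

namespace Cfsg.Agent.S1280

/-- Let θ be a solvable A-signalizer functor (A a noncyclic elementary abelian p-subgroup of the finite group G), and X, Y members of its family with Y ≤ N_G(X). Then X ⊔ Y (= XY) is again in the family. -/
theorem result {G : Type*} [Group G] [Finite G] (p : ℕ) [Fact p.Prime] (A : Subgroup G) (hA : Cfsg.IsElementaryAbelian p A) (hA2 : p ^ 2 ≤ Nat.card ↥A) (θ : G → Subgroup G) (hθ : Cfsg.IsSolvableSignalizerFunctor p A θ) (X Y : Subgroup G) (hX : X ∈ Cfsg.signalizerFamily p A θ) (hY : Y ∈ Cfsg.signalizerFamily p A θ) (hn : Y ≤ Subgroup.normalizer (X : Set G)) : X ⊔ Y ∈ Cfsg.signalizerFamily p A θ := by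
  obtain ⟨hsX, hpX, hnX, hcX⟩ := hX
  obtain ⟨hsY, hpY, hnY, hcY⟩ := hY
  have hAn : ∀ U : Subgroup G, (∀ b ∈ A, ∀ u ∈ U, b * u * b⁻¹ ∈ U) →
      A ≤ Subgroup.normalizer (U : Set G) := by
    intro U hU a ha
    rw [Subgroup.mem_normalizer_iff]
    intro u
    refine ⟨hU a ha u, fun h => ?_⟩
    have := hU a⁻¹ (inv_mem ha) _ h
    simpa [mul_assoc] using this
  have hXY : A ≤ Subgroup.normalizer ((X ⊔ Y : Subgroup G) : Set G) :=
    CfsgLib.Coprime.le_normalizer_sup_of_le (hAn X hnX) (hAn Y hnY)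
  refine ⟨CfsgLib.Coprime.isSolvable_sup_of_le_normalizer hsX hsY hn, ?_,
    fun b hb u hu => (Subgroup.mem_normalizer_iff.mp (hXY hb) u).mp hu, fun a ha ha1 => ?_⟩
  · intro h
    rcases (Nat.Prime.dvd_mul (Fact.out : p.Prime)).mp
      (CfsgLib.Coprime.card_sup_mul_card_inf hn ▸ Dvd.dvd.mul_right h _) with h | h
    · exact hpX h
    · exact hpY h
  · have hZA : Subgroup.zpowers a ≤ A := Subgroup.zpowers_le.mpr ha
    have hcop : (Nat.card (Subgroup.zpowers a)).Coprime (Nat.card X) := by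
      rw [Nat.card_zpowers, orderOf_eq_prime (hA.2 a ha) ha1]
      exact (Nat.Prime.coprime_iff_not_dvd Fact.out).mpr hpX
    intro k hk
    obtain ⟨hk1, hk2⟩ := Subgroup.mem_inf.mp hk
    have h := CfsgLib.Coprime.inf_centralizer_le_sup (hZA.trans (hAn X hnX))
      (hZA.trans (hAn Y hnY)) hn hcop
      (Or.inl (Group.isSolvable_of_comm fun u v => mul_comm' u v))
      (Subgroup.mem_inf.mpr ⟨hk1, CfsgLib.Coprime.mem_centralizer_singleton_zpowers hk2⟩)
    refine (sup_le ?_ ?_ : _ ⊔ _ ≤ θ a) h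
    · exact le_trans (inf_le_inf_left _ (Subgroup.centralizer_le (by simp))) (hcX a ha ha1)
    · exact le_trans (inf_le_inf_left _ (Subgroup.centralizer_le (by simp))) (hcY a ha ha1)

end Cfsg.Agent.S1280
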