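import Cfsg.Statements.S1281
import Mathlib
import Cfsg.Agent.Lib.Coprime.Action

set_option autoImplicit false
open Cfsg

namespace Cfsg.Agent.S1281

/-- Let θ be a solvable A-signalizer functor on the finite group G (A a noncyclic elementary abelian p-subgroup) and N a normal subgroup of order prime to p. Then for all non-identity a, b ∈ A, the image of θ a in G / N meets the centralizer of the image of b inside the image of θ b. -/
theorem result {G : Type*} [Group G] [Finite G] (p : ℕ) [Fact p.Prime] (A : Subgroup G) (hA : Cfsg.IsElementaryAbelian p A) (hA2 : p ^ 2 ≤ Nat.card ↥A) (θ : G → Subgroup G) (hθ : Cfsg.IsSolvableSignalizerFunctor p A θ) (N : Subgroup G) [N.Normal] (hN : ¬ p ∣ Nat.card ↥N) (a b : G) (ha : a ∈ A) (ha1 : a ≠ 1) (hb : b ∈ A) (hb1 : b ≠ 1) : (θ a).map (QuotientGroup.mk' N) ⊓ Subgroup.centralizer {QuotientGroup.mk' N b} ≤ (θ b).map (QuotientGroup.mk' N) := by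
  obtain ⟨⟨h1, h2, h3, h4⟩, -⟩ := hθ
  set Z := Subgroup.zpowers b
  have hZn : Z ≤ Subgroup.normalizer (θ a : Set G) := by
    refine Subgroup.zpowers_le.mpr ?_
    rw [Subgroup.mem_normalizer_iff]
    intro u
    refine ⟨h3 a ha ha1 b hb u, fun h => ?_⟩
    have := h3 a ha ha1 b⁻¹ (inv_mem hb) _ h
    simpa [mul_assoc] using this
  have hcop : (Nat.card Z).Coprime (Nat.card (θ a)) := by
    rw [Nat.card_zpowers, orderOf_eq_prime (hA.2 b hb) hb1]
    exact (Nat.Prime.coprime_iff_not_dvd Fact.out).mpr (h2 a ha ha1)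
  intro y hy
  obtain ⟨hy1, hy2⟩ := Subgroup.mem_inf.mp hy
  have hy3 : y ∈ ((θ a).map (QuotientGroup.mk' N)) ⊓
      Subgroup.centralizer ((Z.map (QuotientGroup.mk' N) : Subgroup (G ⧸ N)) : Set (G ⧸ N)) := by
    refine Subgroup.mem_inf.mpr ⟨hy1, ?_⟩
    rw [MonoidHom.map_zpowers]
    exact CfsgLib.Coprime.mem_centralizer_singleton_zpowers hy2
  rw [← CfsgLib.Coprime.map_inf_centralizer hZn hcop
    (Or.inl (Group.isSolvable_of_comm fun u v => mul_comm' u v))] at hy3
  refine Subgroup.map_mono ?_ hy3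
  exact le_trans (inf_le_inf_left _ (Subgroup.centralizer_le (by simp [Z]))) (h4 a ha ha1 b hb hb1)

end Cfsg.Agent.S1281
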