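import Cfsg.Statements.S1286
import Mathlib
import Cfsg.Agent.Lib.Signalizer.Basic

set_option autoImplicit false
open Cfsg

namespace Cfsg.Agent.S1286
abbrev X0 : Type := Equiv.Perm (Fin 5)

def a1 : X0 := Equiv.swap 0 1
def a2 : X0 := Equiv.swap 2 3
def c1 : X0 := Equiv.swap 2 4 * Equiv.swap 2 3
def c2 : X0 := Equiv.swap 0 4 * Equiv.swap 0 1

def A0 : Subgroup X0 where
  carrier := {g | g = 1 ∨ g = a1 ∨ g = a2 ∨ g = a1 * a2}
  mul_mem' := by
    rintro x y (rfl | rfl | rfl | rfl) (rfl | rfl | rfl | rfl) <;>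
      simp only [Set.mem_ofPred_eq] <;> decide
  one_mem' := Or.inl rfl
  inv_mem' := by
    rintro x (rfl | rfl | rfl | rfl) <;> simp only [Set.mem_ofPred_eq] <;> decide

def θ0 (g : X0) : Subgroup X0 :=
  if g = a1 then Subgroup.zpowers c1 else if g = a2 then Subgroup.zpowers c2 else ⊥

theorem orderOf_c1 : orderOf c1 = 3 :=
  haveI : Fact (Nat.Prime 3) := ⟨by norm_num⟩
  orderOf_eq_prime (by decide) (by decide)

theorem orderOf_c2 : orderOf c2 = 3 :=
  haveI : Fact (Nat.Prime 3) := ⟨by norm_num⟩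
  orderOf_eq_prime (by decide) (by decide)

theorem mem_zpowers_three {c x : X0} (hc : orderOf c = 3) (h : x ∈ Subgroup.zpowers c) :
    x = 1 ∨ x = c ∨ x = c * c := by
  obtain ⟨k, rfl⟩ := Subgroup.mem_zpowers_iff.mp h
  rw [← zpow_mod_orderOf, hc]
  have h1 : k % 3 = 0 ∨ k % 3 = 1 ∨ k % 3 = 2 := by omega
  rcases h1 with h | h | h
  · left; rw [show k % ((3 : ℕ) : ℤ) = 0 from h, zpow_zero]
  · right; left; rw [show k % ((3 : ℕ) : ℤ) = 1 from h, zpow_one]
  · right; right; rw [show k % ((3 : ℕ) : ℤ) = 2 from h, zpow_two]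

theorem mem_θ0 {a x : X0} (ha : a ∈ A0) (hx : x ∈ θ0 a) :
    (a = a1 ∧ (x = 1 ∨ x = c1 ∨ x = c1 * c1)) ∨ (a = a2 ∧ (x = 1 ∨ x = c2 ∨ x = c2 * c2)) ∨
      x = 1 := by
  unfold θ0 at hx
  split_ifs at hx with h1 h2
  · exact Or.inl ⟨h1, mem_zpowers_three orderOf_c1 hx⟩
  · exact Or.inr (Or.inl ⟨h2, mem_zpowers_three orderOf_c2 hx⟩)
  · exact Or.inr (Or.inr hx)


/-- There exist a finite group X, an elementary abelian subgroup A of order 4 and a solvable A-signalizer functor θ on X for the prime 2 which is not complete. -/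
theorem result : ∃ (X : Type) (_ : Group X) (_ : Finite X) (A : Subgroup X) (θ : X → Subgroup X), Cfsg.IsElementaryAbelian 2 A ∧ Nat.card ↥A = 4 ∧ Cfsg.IsSolvableSignalizerFunctor 2 A θ ∧ ¬ Cfsg.IsCompleteSignalizerFunctor 2 A θ := by
  classical
  have hodd : ∀ a : X0, ¬ 2 ∣ Nat.card (θ0 a) := by
    intro a
    unfold θ0
    split_ifs
    · rw [Nat.card_zpowers, orderOf_c1]; norm_num
    · rw [Nat.card_zpowers, orderOf_c2]; norm_num
    · rw [Subgroup.card_bot]; norm_num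
  have hconj : ∀ a ∈ A0, ∀ b ∈ A0, ∀ x ∈ θ0 a, b * x * b⁻¹ ∈ θ0 a := by
    intro a ha b hb x hx
    rcases mem_θ0 ha hx with ⟨rfl, h⟩ | ⟨rfl, h⟩ | rfl
    · have hh : b * x * b⁻¹ = 1 ∨ b * x * b⁻¹ = c1 ∨ b * x * b⁻¹ = c1 * c1 := by
        rcases hb with rfl | rfl | rfl | rfl <;> rcases h with rfl | rfl | rfl <;> decide
      rw [θ0, if_pos rfl]
      rcases hh with e | e | e <;> rw [e]
      · exact one_mem _
      · exact Subgroup.mem_zpowers c1
      · exact mul_mem (Subgroup.mem_zpowers c1) (Subgroup.mem_zpowers c1)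
    · have hh : b * x * b⁻¹ = 1 ∨ b * x * b⁻¹ = c2 ∨ b * x * b⁻¹ = c2 * c2 := by
        rcases hb with rfl | rfl | rfl | rfl <;> rcases h with rfl | rfl | rfl <;> decide
      rw [θ0, if_neg (by decide), if_pos rfl]
      rcases hh with e | e | e <;> rw [e]
      · exact one_mem _
      · exact Subgroup.mem_zpowers c2
      · exact mul_mem (Subgroup.mem_zpowers c2) (Subgroup.mem_zpowers c2)
    · rw [mul_one, mul_inv_cancel]; exact one_mem _
  have hcent : ∀ a ∈ A0, a ≠ 1 → θ0 a ≤ Subgroup.centralizer {a} := by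
    intro a ha _ x hx
    rw [Subgroup.mem_centralizer_singleton_iff]
    rcases mem_θ0 ha hx with ⟨rfl, h⟩ | ⟨rfl, h⟩ | rfl
    · rcases h with rfl | rfl | rfl <;> decide
    · rcases h with rfl | rfl | rfl <;> decide
    · rw [one_mul, mul_one]
  have hbal : ∀ a ∈ A0, a ≠ 1 → ∀ b ∈ A0, b ≠ 1 → θ0 a ⊓ Subgroup.centralizer {b} ≤ θ0 b := by
    intro a ha _ b hb hb1 x hx
    obtain ⟨hx1, hx2⟩ := Subgroup.mem_inf.mp hx
    rw [Subgroup.mem_centralizer_singleton_iff] at hx2
    by_cases hab : a = b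
    · exact hab ▸ hx1
    suffices x = 1 by rw [this]; exact one_mem _
    revert hx2
    rcases mem_θ0 ha hx1 with ⟨rfl, h⟩ | ⟨rfl, h⟩ | rfl
    · rcases hb with rfl | rfl | rfl | rfl <;>
        first | exact absurd rfl hb1 | exact absurd rfl hab | (rcases h with rfl | rfl | rfl <;> decide)
    · rcases hb with rfl | rfl | rfl | rfl <;>
        first | exact absurd rfl hb1 | exact absurd rfl hab | (rcases h with rfl | rfl | rfl <;> decide)
    · exact fun _ => rfl
  refine ⟨X0, inferInstance, inferInstance, A0, θ0, ⟨⟨⟨?_⟩⟩, ?_⟩, ?_,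
    ⟨⟨hcent, fun a _ _ => hodd a, fun a ha _ => hconj a ha, hbal⟩, fun a _ _ => ?_⟩, ?_⟩
  · rintro ⟨x, hx⟩ ⟨y, hy⟩
    refine Subtype.ext ?_
    change x * y = y * x
    rcases hx with rfl | rfl | rfl | rfl <;> rcases hy with rfl | rfl | rfl | rfl <;> decide
  · intro x hx
    rcases hx with rfl | rfl | rfl | rfl <;> decide
  · have e : (A0 : Set X0) = ↑({1, a1, a2, a1 * a2} : Finset X0) := by
      ext g
      simp only [Finset.coe_insert, Finset.coe_singleton]
      rfl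
    rw [show Nat.card ↥A0 = (A0 : Set X0).ncard from rfl, e, Set.ncard_coe_finset]
    decide
  · unfold θ0
    by_cases h1 : a = a1
    · rw [if_pos h1]; exact Group.isSolvable_of_comm fun x y => mul_comm' x y
    rw [if_neg h1]
    by_cases h2 : a = a2
    · rw [if_pos h2]; exact Group.isSolvable_of_comm fun x y => mul_comm' x y
    · rw [if_neg h2]; infer_instance
  · rintro ⟨-, Y, -, hY2, hY⟩
    apply hY2
    have h1 : c1 ∈ Y := by
      have : c1 ∈ Y ⊓ Subgroup.centralizer {a1} := by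
        rw [hY a1 (Or.inr (Or.inl rfl)) (by decide), θ0, if_pos rfl]
        exact Subgroup.mem_zpowers c1
      exact (Subgroup.mem_inf.mp this).1
    have h2 : c2 ∈ Y := by
      have : c2 ∈ Y ⊓ Subgroup.centralizer {a2} := by
        rw [hY a2 (Or.inr (Or.inr (Or.inl rfl))) (by decide), θ0, if_neg (by decide), if_pos rfl]
        exact Subgroup.mem_zpowers c2
      exact (Subgroup.mem_inf.mp this).1
    have hinv : orderOf (c1 * c2 * c1 * c2⁻¹) = 2 :=
      haveI : Fact (Nat.Prime 2) := ⟨by norm_num⟩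
      orderOf_eq_prime (by decide) (by decide)
    exact hinv ▸ Subgroup.orderOf_dvd_natCard Y (mul_mem (mul_mem (mul_mem h1 h2) h1) (inv_mem h2))

end Cfsg.Agent.S1286
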