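import Cfsg.Statements.S1287
import Mathlib
import Cfsg.Agent.Lib.Coprime.Generation
import Cfsg.Agent.Lib.PSolvable.Core
import Cfsg.Agent.Lib.Hall.System

set_option autoImplicit false
open scoped Pointwise
open Cfsg

namespace Cfsg.Agent.S1287
open Pointwise
open CfsgLib.Coprime

variable {H : Type*} [Group H] [Finite H]

omit [Finite H] in
theorem centralizer_zpowers (a : H) :
    Subgroup.centralizer ((Subgroup.zpowers a : Subgroup H) : Set H) =
      Subgroup.centralizer ({a} : Set H) := by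
  rw [Subgroup.zpowers_eq_closure, Subgroup.centralizer_closure]

/-- A product criterion. -/
theorem forall_mem_mul_iff {U V W : Subgroup H} (hU : U ≤ W) (hV : V ≤ W) :
    (∀ w ∈ W, ∃ u ∈ U, ∃ v ∈ V, w = u * v) ↔
      Nat.card U * Nat.card V = Nat.card W * Nat.card ↥(U ⊓ V) := by
  have h1 := relIndex_mul_card_inf V U
  rw [inf_comm] at h1
  have h2 : V.relIndex W * Nat.card V = Nat.card W := by
    rw [← relIndex_mul_card_inf V W, inf_eq_left.mpr hV]
  constructor
  · intro h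
    suffices he : V.relIndex U = V.relIndex W by rw [← h1, ← h2, he]; ring
    let f : U ⧸ V.subgroupOf U → W ⧸ V.subgroupOf W :=
      Quotient.map' (fun x : U => (⟨x, hU x.2⟩ : W)) (by
        intro a b hab
        rw [QuotientGroup.leftRel_apply, Subgroup.mem_subgroupOf] at hab ⊢
        exact hab)
    refine Nat.card_eq_of_bijective f ⟨fun a b => ?_, fun b => ?_⟩
    · refine Quotient.inductionOn₂' a b fun x y hxy => ?_
      exact QuotientGroup.eq.mpr (Subgroup.mem_subgroupOf.mpr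
        (by simpa using Subgroup.mem_subgroupOf.mp (QuotientGroup.eq.mp hxy)))
    · induction b using QuotientGroup.induction_on with
      | _ w =>
        obtain ⟨u, hu, v, hv, hw⟩ := h w w.2
        exact ⟨QuotientGroup.mk ⟨u, hu⟩, QuotientGroup.eq.mpr (Subgroup.mem_subgroupOf.mpr
          (by simpa [hw] using hv))⟩
  · intro h w hw
    have he : V.relIndex U = V.relIndex W := by
      rw [← h1, ← h2, mul_right_comm] at h
      have := Nat.eq_of_mul_eq_mul_right (Nat.card_pos (α := ↥(U ⊓ V))) h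
      exact Nat.eq_of_mul_eq_mul_right (Nat.card_pos (α := V)) this
    obtain ⟨x, hx, y, hy, hxy⟩ := CfsgLib.Hall.exists_eq_mul_of_relIndex_eq
      (H := U.subgroupOf W) (K := V.subgroupOf W)
      (by rw [Subgroup.relIndex_subgroupOf hU]; exact he) ⟨w, hw⟩
    exact ⟨x, Subgroup.mem_subgroupOf.mp hx, y, Subgroup.mem_subgroupOf.mp hy,
      congrArg Subtype.val hxy⟩

/-- The group case of prime power order. -/
theorem pgroup_case {A Q X Y : Subgroup H} [IsMulCommutative A] (hA : ¬ IsCyclic A)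
    [Group.IsNilpotent Q] (hcop : (Nat.card A).Coprime (Nat.card Q))
    (hQA : A ≤ Subgroup.normalizer (Q : Set H)) (hX : X ≤ Q) (hY : Y ≤ Q)
    (hfac : ∀ a ∈ A, a ≠ 1 → ∀ w ∈ Q ⊓ Subgroup.centralizer ({a} : Set H),
      ∃ x ∈ X, ∃ y ∈ Y, w = x * y) :
    ∀ N : Subgroup H, N ≤ Q → A ≤ Subgroup.normalizer (N : Set H) →
      Q ≤ Subgroup.normalizer (N : Set H) →
      (∀ w ∈ Q, ∃ x ∈ X, ∃ y ∈ Y, ∃ n ∈ N, w = x * y * n) →
      ∀ w ∈ Q, ∃ x ∈ X, ∃ y ∈ Y, w = x * y := by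
  intro N
  induction N using WellFoundedLT.induction with
  | ind N IH =>
  intro hNQ hNA hNnQ hgen
  rcases eq_or_ne N ⊥ with rfl | hN
  · intro w hw
    obtain ⟨x, hx, y, hy, n, hn, rfl⟩ := hgen w hw
    exact ⟨x, hx, y, hy, by rw [Subgroup.mem_bot.mp hn, mul_one]⟩
  set M₀ := ⁅N, Q⁆
  have hM₀ : M₀ < N := commutator_lt_of_isNilpotent hNQ le_rfl hNnQ hN
  obtain ⟨M, hM₀M, hM⟩ := Finite.exists_le_maximal
    (p := fun M : Subgroup H => M₀ ≤ M ∧ M < N ∧ A ≤ Subgroup.normalizer (M : Set H))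
    (a := M₀) ⟨le_rfl, hM₀, le_normalizer_commutator hNA hQA⟩
  obtain ⟨-, hMN, hMA⟩ := hM.prop
  have hMQ : M ≤ Q := hMN.le.trans hNQ
  have hMnQ : Q ≤ Subgroup.normalizer (M : Set H) := fun g hg =>
    Subgroup.mem_normalizer_fintype fun m hm => by
      have h1 : g * m * g⁻¹ * m⁻¹ ∈ M := hM₀M (by
        rw [show M₀ = ⁅Q, N⁆ from Subgroup.commutator_comm N Q]
        exact Subgroup.commutator_mem_commutator hg (hMN.le hm))
      simpa using mul_mem h1 (hm : m ∈ M)
  refine IH M hMN hMQ hMA hMnQ fun w hw => ?_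
  obtain ⟨a, ha, ha1, hnot⟩ : ∃ a ∈ A, a ≠ 1 ∧ ¬ N ⊓ Subgroup.centralizer ({a} : Set H) ≤ M := by
    by_contra hno
    push Not at hno
    exact hMN.not_ge (le_of_centralizer_le hA hNA
      (hcop.coprime_dvd_right (Subgroup.card_dvd_of_le hNQ)) hno)
  set C := N ⊓ Subgroup.centralizer ({a} : Set H)
  have hCA : A ≤ Subgroup.normalizer (C : Set H) := le_normalizer_inf_of_le hNA
    (fun b hb => Subgroup.le_normalizer (Subgroup.mem_centralizer_singleton_iff.mpr
      (congrArg Subtype.val (mul_comm' (⟨b, hb⟩ : A) ⟨a, ha⟩))))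
  have hsup : M ⊔ C = N := by
    by_contra hne
    refine hnot (le_sup_right.trans (hM.le_of_ge ⟨hM₀M.trans le_sup_left,
      lt_of_le_of_ne (sup_le hMN.le inf_le_left) hne, le_normalizer_sup_of_le hMA hCA⟩
      le_sup_left))
  obtain ⟨x, hx, y, hy, n, hn, rfl⟩ := hgen w hw
  have hn' : n ∈ C ⊔ M := by rw [sup_comm, hsup]; exact hn
  obtain ⟨c, hc, m, hm, rfl⟩ : ∃ c ∈ C, ∃ m ∈ M, c * m = n := by
    rw [← SetLike.mem_coe, Subgroup.coe_mul_of_left_le_normalizer_right C M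
      ((inf_le_left.trans hNQ).trans hMnQ)] at hn'
    exact hn'
  obtain ⟨x', hx', y', hy', rfl⟩ := hfac a ha ha1 c
    (Subgroup.mem_inf.mpr ⟨hNQ (Subgroup.mem_inf.mp hc).1, (Subgroup.mem_inf.mp hc).2⟩)
  have hcom : y⁻¹ * (x' * y')⁻¹ * y * (x' * y') ∈ M := hM₀M (by
    rw [show M₀ = ⁅Q, N⁆ from Subgroup.commutator_comm N Q]
    have := Subgroup.commutator_mem_commutator (inv_mem (hY hy))
      (inv_mem (Subgroup.mem_inf.mp hc).1) (H₁ := Q) (H₂ := N)
    rwa [commutatorElement_def, inv_inv, inv_inv] at this)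
  refine ⟨x * x', mul_mem hx hx', y' * y, mul_mem hy' hy,
    (y⁻¹ * (x' * y')⁻¹ * y * (x' * y')) * m, mul_mem hcom hm, ?_⟩
  group

/-- An invariant Sylow subgroup meets each centraliser in a Sylow subgroup. -/
theorem card_sylow_inf_centralizer {B K S : Subgroup H} {q : ℕ} [Fact q.Prime]
    (hBK : B ≤ Subgroup.normalizer (K : Set H)) (hcop : (Nat.card B).Coprime (Nat.card K))
    (hB : Group.IsSolvable B) (hSK : S ≤ K)
    (hS : Nat.card S = q ^ (Nat.card K).factorization q)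
    (hBS : B ≤ Subgroup.normalizer (S : Set H)) :
    Nat.card ↥(S ⊓ Subgroup.centralizer (B : Set H)) =
      q ^ (Nat.card ↥(K ⊓ Subgroup.centralizer (B : Set H))).factorization q := by
  classical
  set C := Subgroup.centralizer (B : Set H)
  obtain ⟨P⟩ : Nonempty (Sylow q ↥(K ⊓ C)) := inferInstance
  set T := (P : Subgroup ↥(K ⊓ C)).map (K ⊓ C).subtype
  have hT : T ≤ K ⊓ C := Subgroup.map_subtype_le _
  have hTcard : Nat.card T = q ^ (Nat.card ↥(K ⊓ C)).factorization q := by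
    rw [Subgroup.card_map_of_injective (K ⊓ C).subtype_injective]
    exact P.card_eq_multiplicity
  have hBT : B ≤ Subgroup.normalizer (T : Set H) := fun b hb =>
    Subgroup.mem_normalizer_fintype fun t ht => by
      have h1 := Subgroup.mem_centralizer_iff.mp (Subgroup.mem_inf.mp (hT ht)).2 b hb
      rw [h1, mul_inv_cancel_right]; exact ht
  obtain ⟨S₁, hTS₁, hS₁B⟩ := exists_invariant_sylow_ge hBK hcop (Or.inl hB)
    (hT.trans inf_le_left) (P.2.map _) hBT
  have hSe : Nat.card (S.subgroupOf K) = q ^ (Nat.card K).factorization q := by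
    rw [Nat.card_congr (Subgroup.subgroupOfEquivOfLe hSK).toEquiv, hS]
  set S₂ : Sylow q K := Sylow.ofCard _ hSe
  have hS₂ : (S₂ : Subgroup K).map K.subtype = S := by
    rw [Sylow.coe_ofCard, Subgroup.map_subgroupOf_eq_of_le hSK]
  obtain ⟨c, hc, hce⟩ := invariant_sylow_conj hBK hcop (Or.inl hB) S₁ S₂ hS₁B
    (by rw [hS₂]; exact hBS)
  have hle : MulAut.conj (c : H) • T ≤ S ⊓ C := by
    refine le_inf ?_ fun x hx => ?_
    · rw [← hS₂, ← hce, map_subtype_conj_smul_sylow]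
      exact Subgroup.map_mono hTS₁
    · obtain hx' := (Subgroup.mem_inf.mp (hT (mem_conj_smul_iff.mp hx))).2
      simpa [mul_assoc] using mul_mem (mul_mem hc hx') (inv_mem hc)
  refine Nat.dvd_antisymm ?_ (by rw [← hTcard, ← card_conj_smul (c : H) T]; exact Subgroup.card_dvd_of_le hle)
  obtain ⟨e, he⟩ := IsPGroup.iff_card.mp
    ((IsPGroup.of_card hS).to_le (inf_le_left : S ⊓ C ≤ S))
  rw [he]
  exact pow_dvd_pow q (((Fact.out : q.Prime).pow_dvd_iff_le_factorization Nat.card_pos.ne').mp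
    (he ▸ Subgroup.card_dvd_of_le (inf_le_inf_right C hSK)))

/-- An invariant Sylow subgroup meets an invariant subgroup in a Sylow subgroup, if it contains one. -/
theorem card_inf_of_ge {U S T : Subgroup H} {q : ℕ} [Fact q.Prime] (hS : IsPGroup q S)
    (hTU : T ≤ U) (hTS : T ≤ S) (hT : Nat.card T = q ^ (Nat.card U).factorization q) :
    Nat.card ↥(S ⊓ U) = q ^ (Nat.card U).factorization q := by
  obtain ⟨e, he⟩ := IsPGroup.iff_card.mp (hS.to_le (inf_le_left : S ⊓ U ≤ S))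
  refine Nat.dvd_antisymm ?_ (hT ▸ Subgroup.card_dvd_of_le (le_inf hTS hTU))
  rw [he]
  exact pow_dvd_pow q (((Fact.out : q.Prime).pow_dvd_iff_le_factorization Nat.card_pos.ne').mp
    (he ▸ Subgroup.card_dvd_of_le inf_le_right))


/-- Let A be a noncyclic elementary abelian p-subgroup of a finite group H normalizing a subgroup K of order prime to p, and X, Y ≤ K subgroups normalized by A with C_K(a) = C_X(a) C_Y(a) (as sets) for every non-identity a ∈ A, where X is also normalized by C_K(A). Then K = XY as sets. -/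
theorem result {H : Type*} [Group H] [Finite H] (p : ℕ) [Fact p.Prime] (A K X Y : Subgroup H) (hA : Cfsg.IsElementaryAbelian p A) (hA2 : p ^ 2 ≤ Nat.card ↥A) (hK : ¬ p ∣ Nat.card ↥K) (hAK : A ≤ Subgroup.normalizer (K : Set H)) (hX : X ≤ K) (hY : Y ≤ K) (hAX : A ≤ Subgroup.normalizer (X : Set H)) (hAY : A ≤ Subgroup.normalizer (Y : Set H)) (hCX : K ⊓ Subgroup.centralizer (A : Set H) ≤ Subgroup.normalizer (X : Set H)) (hfac : ∀ a ∈ A, a ≠ 1 → ((K ⊓ Subgroup.centralizer {a} : Subgroup H) : Set H) = ((X ⊓ Subgroup.centralizer {a} : Subgroup H) : Set H) * ((Y ⊓ Subgroup.centralizer {a} : Subgroup H) : Set H)) : (K : Set H) = (X : Set H) * (Y : Set H) := by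
  classical
  haveI : IsMulCommutative A := hA.1
  have hp : p.Prime := Fact.out
  have hAc : ¬ IsCyclic A := CfsgLib.Coprime.not_isCyclic_of_exponent hA.2 hp.pos
    (lt_of_lt_of_le (lt_of_lt_of_le (lt_mul_of_one_lt_right hp.pos hp.one_lt) (le_of_eq (sq p).symm)) hA2)
  have hAp : IsPGroup p A := fun a => ⟨1, Subtype.ext (by rw [pow_one]; exact hA.2 a a.2)⟩
  have hcop : (Nat.card A).Coprime (Nat.card K) := CfsgLib.PSolvable.coprime_card_of_isPGroup hAp
    ((Nat.Prime.coprime_iff_not_dvd hp).mpr hK).symm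
  have hAs : Group.IsSolvable A := CfsgLib.Coprime.isSolvable_of_isMulCommutative A
  suffices hkey : Nat.card X * Nat.card Y = Nat.card K * Nat.card ↥(X ⊓ Y) by
    refine Set.Subset.antisymm (fun w hw => ?_) ?_
    · obtain ⟨x, hx, y, hy, rfl⟩ := (forall_mem_mul_iff hX hY).mpr hkey w hw
      exact ⟨x, hx, y, hy, rfl⟩
    · rintro _ ⟨x, hx, y, hy, rfl⟩
      exact mul_mem (hX hx) (hY hy)
  have h0 : ∀ U : Subgroup H, Nat.card U ≠ 0 := fun U => Nat.card_pos.ne'
  refine Nat.eq_of_factorization_eq (mul_ne_zero (h0 X) (h0 Y)) (mul_ne_zero (h0 K) (h0 _)) fun q => ?_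
  rw [Nat.factorization_mul (h0 X) (h0 Y), Nat.factorization_mul (h0 K) (h0 _), Finsupp.add_apply,
    Finsupp.add_apply]
  by_cases hq : q.Prime
  swap
  · simp [Nat.factorization_eq_zero_of_not_prime _ hq]
  haveI := Fact.mk hq
  have hcop' : ∀ {U : Subgroup H}, U ≤ K → (Nat.card A).Coprime (Nat.card U) := fun h =>
    hcop.coprime_dvd_right (Subgroup.card_dvd_of_le h)
  have hsyl : ∀ {U : Subgroup H} (P : Sylow q U),
      Nat.card ((P : Subgroup U).map U.subtype) = q ^ (Nat.card U).factorization q := fun {U} P => by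
    rw [Subgroup.card_map_of_injective U.subtype_injective]
    exact P.card_eq_multiplicity
  have hXY : X ⊓ Y ≤ K := inf_le_left.trans hX
  have hAXY := CfsgLib.Coprime.le_normalizer_inf_of_le hAX hAY
  obtain ⟨T₀, hT₀⟩ := CfsgLib.Coprime.exists_invariant_sylow hAXY (hcop' hXY) (Or.inl hAs) q
  set T := (T₀ : Subgroup ↥(X ⊓ Y)).map (X ⊓ Y).subtype
  have hTle : T ≤ X ⊓ Y := Subgroup.map_subtype_le _
  obtain ⟨Xq, hTX, hXq⟩ := CfsgLib.Coprime.exists_invariant_sylow_ge hAX (hcop' hX) (Or.inl hAs)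
    (hTle.trans inf_le_left) (T₀.2.map _) hT₀
  obtain ⟨Yq, hTY, hYq⟩ := CfsgLib.Coprime.exists_invariant_sylow_ge hAY (hcop' hY) (Or.inl hAs)
    (hTle.trans inf_le_right) (T₀.2.map _) hT₀
  obtain ⟨Q₁, hXQ, hQ₁⟩ := CfsgLib.Coprime.exists_invariant_sylow_ge hAK hcop (Or.inl hAs)
    ((Subgroup.map_subtype_le _).trans hX) (Xq.2.map X.subtype) hXq
  obtain ⟨Q₂, hYQ, hQ₂⟩ := CfsgLib.Coprime.exists_invariant_sylow_ge hAK hcop (Or.inl hAs)
    ((Subgroup.map_subtype_le _).trans hY) (Yq.2.map Y.subtype) hYq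
  obtain ⟨c, hc, hce⟩ := CfsgLib.Coprime.invariant_sylow_conj hAK hcop (Or.inl hAs) Q₁ Q₂ hQ₁ hQ₂
  set S := (Q₂ : Subgroup K).map K.subtype
  have hSK : S ≤ K := Subgroup.map_subtype_le _
  have hSp : IsPGroup q S := Q₂.2.map _
  haveI := hSp.isNilpotent
  have hXS : Nat.card ↥(S ⊓ X) = q ^ (Nat.card X).factorization q := by
    refine card_inf_of_ge (T := MulAut.conj (c : H) • (Xq : Subgroup X).map X.subtype) hSp ?_ ?_
      (by rw [CfsgLib.Coprime.card_conj_smul]; exact hsyl Xq)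
    · have hcX : (c : H) ∈ Subgroup.normalizer (X : Set H) :=
        hCX (Subgroup.mem_inf.mpr ⟨c.2, hc⟩)
      exact le_trans (Subgroup.map_mono (Subgroup.map_subtype_le _))
        (CfsgLib.Coprime.conj_smul_eq_self_of_mem_normalizer hcX).le
    · change _ ≤ (Q₂ : Subgroup K).map K.subtype
      rw [← hce, CfsgLib.Coprime.map_subtype_conj_smul_sylow]
      exact Subgroup.map_mono hXQ
  have hYS : Nat.card ↥(S ⊓ Y) = q ^ (Nat.card Y).factorization q :=
    card_inf_of_ge hSp (Subgroup.map_subtype_le _) hYQ (hsyl Yq)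
  have hTS : Nat.card ↥(S ⊓ (X ⊓ Y)) = q ^ (Nat.card ↥(X ⊓ Y)).factorization q :=
    card_inf_of_ge hSp hTle (hTY.trans hYQ) (hsyl T₀)
  have hfix : ∀ a ∈ A, a ≠ 1 → ∀ w ∈ S ⊓ Subgroup.centralizer ({a} : Set H),
      ∃ x ∈ S ⊓ X, ∃ y ∈ S ⊓ Y, w = x * y := by
    intro a ha ha1
    set B := Subgroup.zpowers a
    have hBA : B ≤ A := Subgroup.zpowers_le.mpr ha
    have hBs : Group.IsSolvable B := CfsgLib.Coprime.isSolvable_of_le hBA hAs
    set C := Subgroup.centralizer ({a} : Set H)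
    have hcard : ∀ {U : Subgroup H}, U ≤ K → A ≤ Subgroup.normalizer (U : Set H) →
        Nat.card ↥(S ⊓ U) = q ^ (Nat.card U).factorization q →
        Nat.card ↥((S ⊓ U) ⊓ C) = q ^ (Nat.card ↥(U ⊓ C)).factorization q := by
      intro U hU hAU hSU
      have := card_sylow_inf_centralizer (hBA.trans hAU)
        ((hcop' hU).coprime_dvd_left (Subgroup.card_dvd_of_le hBA)) hBs inf_le_right hSU
        (hBA.trans (CfsgLib.Coprime.le_normalizer_inf_of_le hQ₂ hAU))
      rwa [centralizer_zpowers] at this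
    have hS' : Nat.card ↥(S ⊓ C) = q ^ (Nat.card ↥(K ⊓ C)).factorization q := by
      have := hcard le_rfl hAK (by rw [inf_eq_left.mpr hSK]; exact hsyl Q₂)
      rwa [inf_eq_left.mpr hSK] at this
    have hXC := hcard hX hAX hXS
    have hYC := hcard hY hAY hYS
    have hTC := hcard hXY hAXY hTS
    have hset := hfac a ha ha1
    have heq : Nat.card ↥(X ⊓ C) * Nat.card ↥(Y ⊓ C) =
        Nat.card ↥(K ⊓ C) * Nat.card ↥((X ⊓ C) ⊓ (Y ⊓ C)) := by
      refine (forall_mem_mul_iff (inf_le_inf_right C hX) (inf_le_inf_right C hY)).mp fun w hw => ?_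
      have h1 : w ∈ ((K ⊓ C : Subgroup H) : Set H) := hw
      rw [hset] at h1
      obtain ⟨x, hx, y, hy, rfl⟩ := h1
      exact ⟨x, hx, y, hy, rfl⟩
    rw [show (X ⊓ C) ⊓ (Y ⊓ C) = (X ⊓ Y) ⊓ C from inf_inf_inf_comm X C Y C |>.trans (by rw [inf_idem])]
      at heq
    have heq' := congrArg (fun n => n.factorization q) heq
    try simp only at heq'
    rw [Nat.factorization_mul (h0 _) (h0 _), Nat.factorization_mul (h0 _) (h0 _), Finsupp.add_apply,
      Finsupp.add_apply] at heq'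
    intro w hw
    obtain ⟨x, hx, y, hy, rfl⟩ := (forall_mem_mul_iff (U := (S ⊓ X) ⊓ C) (V := (S ⊓ Y) ⊓ C)
      (inf_le_inf_right C inf_le_left) (inf_le_inf_right C inf_le_left)).mpr (by
        rw [show ((S ⊓ X) ⊓ C) ⊓ ((S ⊓ Y) ⊓ C) = (S ⊓ (X ⊓ Y)) ⊓ C by
          rw [inf_inf_inf_comm, inf_idem, inf_inf_inf_comm, inf_idem]]
        rw [hXC, hYC, hS', hTC, ← pow_add, ← pow_add, heq']) w hw
    exact ⟨x, (Subgroup.mem_inf.mp hx).1, y, (Subgroup.mem_inf.mp hy).1, rfl⟩
  have hfull := pgroup_case hAc (hcop' hSK) hQ₂ inf_le_left inf_le_left hfix S le_rfl hQ₂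
    Subgroup.le_normalizer (fun w hw => ⟨1, one_mem _, 1, one_mem _, w, hw, by group⟩)
  have hfin := (forall_mem_mul_iff (U := S ⊓ X) (V := S ⊓ Y) inf_le_left inf_le_left).mp hfull
  rw [inf_inf_inf_comm, inf_idem, hXS, hYS, hTS, hsyl Q₂, ← pow_add, ← pow_add] at hfin
  exact Nat.pow_right_injective hq.two_le hfin

end Cfsg.Agent.S1287
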