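import Cfsg.Statements.S1288
import Cfsg.Agent.Lib.Coprime.Generation
import Cfsg.Agent.Lib.Transfer.Sylow
import Cfsg.Agent.Lib.PSolvable.Core
import Cfsg.Agent.Lib.Layer.PComponent
import Cfsg.Agent.Lib.Blocks.PPrimePCoreSetting

set_option autoImplicit false
open Cfsg
open scoped commutatorElement

namespace Cfsg.Agent.S1288

/-- Let A be a noncyclic elementary abelian p-subgroup of a finite group H normalizing a solvable subgroup K of order prime to p, q a prime dividing |K|, and U ≤ K a subgroup of order prime to q such that ⁅U, C_K(B)⁆ has order prime to q for every subgroup B of index p in A. Then U ≤ O_{q'}(K). -/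
theorem result {H : Type*} [Group H] [Finite H] (p : ℕ) [Fact p.Prime] (A K : Subgroup H) (hA : Cfsg.IsElementaryAbelian p A) (hA2 : p ^ 2 ≤ Nat.card ↥A) (hK : ¬ p ∣ Nat.card ↥K) (hKs : Group.IsSolvable ↥K) (hAK : A ≤ Subgroup.normalizer (K : Set H)) (q : ℕ) [Fact q.Prime] (hqK : q ∣ Nat.card ↥K) (U : Subgroup H) (hU : U ≤ K) (hUq : ¬ q ∣ Nat.card ↥U) (hcomm : ∀ B : Subgroup H, B ≤ A → B.relIndex A = p → ¬ q ∣ Nat.card ↥⁅U, K ⊓ Subgroup.centralizer (B : Set H)⁆) : U ≤ (Cfsg.pPrimeCore q ↥K).map K.subtype := by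
  haveI := CfsgLib.Transfer.pPrimeCore_normal q ↥K
  set O := Cfsg.pPrimeCore q ↥K with hOdef
  set L : Subgroup ↥K := Cfsg.pPrimePCore q ↥K with hL
  haveI hLn : L.Normal := CfsgLib.Blocks.pPrimePCore_normal q
  set mk := QuotientGroup.mk' O with hmk
  have hL' : ∀ x, x ∈ L ↔ mk x ∈ Cfsg.pCore q (↥K ⧸ O) := fun x => Iff.rfl
  -- `L` is invariant under automorphisms
  have hOσ : ∀ σ : MulAut ↥K, O.map σ.toMonoidHom ≤ O := fun σ => by
    refine CfsgLib.Transfer.le_pPrimeCore (Subgroup.Normal.map inferInstance _ σ.surjective) ?_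
    rw [Subgroup.card_map_of_injective σ.injective]
    exact CfsgLib.Transfer.pPrimeCore_coprime q
  have hσ : ∀ (σ : MulAut ↥K) x, x ∈ L → σ x ∈ L := by
    intro σ x hx
    have h1 : (L.map σ.toMonoidHom).map mk ≤ Cfsg.pCore q (↥K ⧸ O) := by
      refine CfsgLib.Fitting.le_pCore
        ((hLn.map _ σ.surjective).map _ (QuotientGroup.mk'_surjective _)) ?_
      rintro ⟨_, _, ⟨y, hy, rfl⟩, rfl⟩
      obtain ⟨n, hn⟩ := CfsgLib.Blocks.pow_mem_pPrimeCore q hy
      refine ⟨n, Subtype.ext ?_⟩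
      show mk (σ y) ^ q ^ n = 1
      rw [← map_pow, ← map_pow, QuotientGroup.mk'_apply, QuotientGroup.eq_one_iff]
      exact hOσ σ ⟨_, hn, rfl⟩
    exact h1 ⟨_, ⟨x, hx, rfl⟩, rfl⟩
  set LH : Subgroup H := L.map K.subtype with hLH
  have hALH : A ≤ Subgroup.normalizer (LH : Set H) := by
    intro a ha
    refine CfsgLib.Transfer.map_conj_eq_self_iff.mp ?_
    refine Subgroup.eq_of_le_of_card_ge ?_
      (Subgroup.card_map_of_injective (MulAut.conj a).injective).ge
    rintro _ ⟨_, ⟨x, hx, rfl⟩, rfl⟩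
    exact ⟨_, hσ (Subgroup.normalizerMonoidHom K ⟨a, hAK ha⟩) x hx, rfl⟩
  obtain ⟨n, hn⟩ := IsPGroup.iff_card.mp
    (fun a => ⟨1, by rw [pow_one]; exact Subtype.ext (hA.2 a a.2)⟩ : IsPGroup p A)
  have hcop : (Nat.card A).Coprime (Nat.card LH) := by
    have : Nat.card LH ∣ Nat.card K := Subgroup.card_dvd_of_le (Subgroup.map_subtype_le L)
    rw [hn]
    exact (((Fact.out : p.Prime).coprime_iff_not_dvd.mpr hK).coprime_dvd_right this).pow_left n
  intro u hu
  set u' : ↥K := ⟨u, hU hu⟩ with hu'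
  set Y : Subgroup H :=
    ((Subgroup.centralizer ({mk u'} : Set (↥K ⧸ O))).comap mk).map K.subtype with hY
  have hkey : ∀ B : Subgroup H, B ≤ A → B.relIndex A = p →
      LH ⊓ Subgroup.centralizer (B : Set H) ≤ Y := by
    intro B hB hBp x hx
    obtain ⟨⟨x', hx', rfl⟩, hxB⟩ := Subgroup.mem_inf.mp hx
    refine ⟨x', ?_, rfl⟩
    show mk x' ∈ Subgroup.centralizer {mk u'}
    rw [Subgroup.mem_centralizer_singleton_iff]
    set z : ↥K := ⁅u', x'⁆ with hz
    have hzL : z ∈ L := by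
      rw [hz, commutatorElement_def]
      exact mul_mem (hLn.conj_mem x' hx' u') (inv_mem hx')
    have hzU : (z : H) ∈ ⁅U, K ⊓ Subgroup.centralizer (B : Set H)⁆ := by
      exact Subgroup.commutator_mem_commutator hu (Subgroup.mem_inf.mpr ⟨x'.2, hxB⟩)
    have hord : (orderOf z).Coprime q := by
      refine ((Fact.out : q.Prime).coprime_iff_not_dvd.mpr fun h => hcomm B hB hBp ?_).symm
      refine h.trans ?_
      rw [← Subgroup.orderOf_coe]
      exact Subgroup.orderOf_dvd_natCard _ hzU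
    have hz1 : mk z = 1 := by
      obtain ⟨m, hm⟩ := CfsgLib.Fitting.pCore_isPGroup q ⟨mk z, (hL' z).mp hzL⟩
      rw [← orderOf_eq_one_iff]
      exact Nat.eq_one_of_dvd_coprimes (hord.pow_right m) (orderOf_map_dvd mk z)
        (orderOf_dvd_of_pow_eq_one (congrArg Subtype.val hm))
    rw [hz, map_commutatorElement, commutatorElement_eq_one_iff_commute] at hz1
    exact hz1.symm.eq
  have hLY : LH ≤ Y := by
    refine CfsgLib.Coprime.le_of_hyperplane_centralizer_le hA.1 hA.2 hA2 hALH hcop fun B hB hBp => ?_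
    obtain ⟨i, -, hi⟩ := (Nat.dvd_prime_pow (Fact.out : p.Prime)).mp
      (hn ▸ (B.subgroupOf A).index_dvd_card : B.relIndex A ∣ p ^ n)
    have hi1 : i ≤ 1 := (Nat.pow_le_pow_iff_right (Fact.out : p.Prime).one_lt).mp
      (by rw [pow_one, ← hi]; exact hBp)
    rcases Nat.le_one_iff_eq_zero_or_eq_one.mp hi1 with rfl | rfl
    · -- `B = A`: use any hyperplane
      have hn1 : 1 ≤ n := by
        by_contra h
        have h0 : n = 0 := by omega
        rw [hn, h0, pow_zero] at hA2
        have := (Fact.out : p.Prime).two_le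
        nlinarith
      obtain ⟨B', hB'⟩ := Sylow.exists_subgroup_card_pow_prime (G := A) p
        (n := n - 1) (hn ▸ pow_dvd_pow p (Nat.sub_le n 1))
      have hidx : B'.index = p := by
        have h1 := B'.card_mul_index
        rw [hB', hn, show p ^ n = p ^ (n - 1) * p by rw [← pow_succ, Nat.sub_add_cancel hn1]] at h1
        exact Nat.eq_of_mul_eq_mul_left (Nat.pow_pos (Fact.out : p.Prime).pos) h1
      have hAB : A ≤ B := Subgroup.relIndex_eq_one.mp (by simpa using hi)
      refine le_trans (inf_le_inf_left _ (Subgroup.centralizer_le (SetLike.coe_subset_coe.mpr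
        ((Subgroup.map_subtype_le B').trans hAB)))) (hkey _ (Subgroup.map_subtype_le B') ?_)
      rw [Subgroup.relIndex, Subgroup.subgroupOf, Subgroup.comap_map_eq_self_of_injective
        A.subtype_injective]
      exact hidx
    · exact hkey B hB (by simpa using hi)
  have hcen : mk u' ∈ Subgroup.centralizer (Cfsg.pCore q (↥K ⧸ O) : Set (↥K ⧸ O)) := by
    intro r hr
    obtain ⟨x, rfl⟩ := QuotientGroup.mk'_surjective O r
    obtain ⟨y, hy, hyx⟩ := hLY ⟨x, hr, rfl⟩
    rw [Subtype.ext hyx] at hy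
    exact Subgroup.mem_centralizer_singleton_iff.mp hy
  have huR := CfsgLib.PSolvable.centralizer_pCore_le
    (CfsgLib.PSolvable.isPSolvable_of_isSolvable (haveI := hKs; inferInstance))
    (CfsgLib.Layer.pPrimeCore_quotient_eq_bot q) hcen
  refine ⟨u', ?_, rfl⟩
  rw [SetLike.mem_coe, ← QuotientGroup.eq_one_iff]
  obtain ⟨m, hm⟩ := CfsgLib.Fitting.pCore_isPGroup q ⟨mk u', huR⟩
  rw [← orderOf_eq_one_iff]
  refine Nat.eq_one_of_dvd_coprimes (b := q ^ m)
    (((Fact.out : q.Prime).coprime_iff_not_dvd.mpr hUq).symm.pow_right m)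
    ((orderOf_map_dvd mk u').trans ?_) (orderOf_dvd_of_pow_eq_one (congrArg Subtype.val hm))
  rw [← Subgroup.orderOf_coe]
  exact Subgroup.orderOf_dvd_natCard _ hu

end Cfsg.Agent.S1288
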