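import Cfsg.Statements.S1289
import Mathlib
import Cfsg.Agent.Lib.Layer.PComponent

set_option autoImplicit false
open Cfsg

namespace Cfsg.Agent.S1289
open CfsgLib.Layer


/-- A p-component K of the finite group X is subnormal, perfect, of order divisible by p, and minimal among the subnormal perfect subgroups of X of order divisible by p. -/
theorem result {X : Type*} [Group X] [Finite X] (p : ℕ) [Fact p.Prime] (K : Subgroup X) (hK : Cfsg.IsPComponent p K) : K.IsSubnormal ∧ ⁅K, K⁆ = K ∧ p ∣ Nat.card ↥K ∧ ∀ H : Subgroup X, H ≤ K → H.IsSubnormal → ⁅H, H⁆ = H → p ∣ Nat.card ↥H → H = K := by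
  classical
  haveI := CfsgLib.Transfer.pPrimeCore_normal p X
  set π := QuotientGroup.mk' (Cfsg.pPrimeCore p X)
  have hdvd : p ∣ Nat.card K :=
    (dvd_card_of_isComponent (pPrimeCore_quotient_eq_bot p) hK.2.1).trans (K.card_map_dvd π)
  refine ⟨hK.1, commutator_eq_self_of_isPComponent hK, hdvd, fun H hHK hH hHp hpH => ?_⟩
  refine hK.2.2 H hH hHK ?_
  have hle : H.map π ≤ K.map π := Subgroup.map_mono hHK
  rcases eq_top_or_le_center_of_isSubnormal hK.2.1.2 ((hH.quotient (K := Cfsg.pPrimeCore p X)).subgroupOf (K := K.map π)) with h | h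
  · exact le_antisymm hle (Subgroup.subgroupOf_eq_top.mp h)
  · exfalso
    have h1 : H.map π = ⊥ := by
      rw [← hHp, Subgroup.map_commutator, Subgroup.commutator_eq_bot_iff_le_centralizer]
      intro x hx
      exact Subgroup.mem_centralizer_iff.mpr fun y hy => congrArg Subtype.val
        (Subgroup.mem_center_iff.mp (h (x := ⟨x, hle hx⟩) (Subgroup.mem_subgroupOf.mpr hx)) ⟨y, hle hy⟩)
    rw [Subgroup.map_eq_bot_iff, QuotientGroup.ker_mk'] at h1
    exact (Nat.Prime.coprime_iff_not_dvd Fact.out).mp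
      ((CfsgLib.Transfer.pPrimeCore_coprime p).coprime_dvd_left (Subgroup.card_dvd_of_le h1)).symm hpH

end Cfsg.Agent.S1289
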