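import Cfsg.Statements.S1292
import Mathlib
import Cfsg.Agent.Lib.Layer.Characteristic

set_option autoImplicit false
set_option linter.style.haveILetI false
open Cfsg

namespace Cfsg.Agent.S1292
open CfsgLib.Layer


/-- Let G be a finite group such that F*(C_G(t)) = O_2(C_G(t)) for every involution t. Then F*(N_G(T)) = O_2(N_G(T)) for every nontrivial 2-subgroup T of G. -/
theorem result {G : Type*} [Group G] [Finite G] (h : ∀ t : G, orderOf t = 2 → Cfsg.generalizedFittingSubgroup ↥(Subgroup.centralizer ({t} : Set G)) = Cfsg.pCore 2 ↥(Subgroup.centralizer ({t} : Set G))) (T : Subgroup G) (hT : IsPGroup 2 ↥T) (hT1 : T ≠ ⊥) : Cfsg.generalizedFittingSubgroup ↥(Subgroup.normalizer (T : Set G)) = Cfsg.pCore 2 ↥(Subgroup.normalizer (T : Set G)) := by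
  classical
  haveI : Fact (Nat.Prime 2) := ⟨Nat.prime_two⟩
  set N := Subgroup.normalizer (T : Set G)
  rw [generalizedFitting_eq_pCore_iff, centralizer_pCore_le_iff]
  haveI : Nontrivial T := (Subgroup.nontrivial_iff_ne_bot T).mpr hT1
  haveI := hT.center_nontrivial
  obtain ⟨⟨t, ht⟩, htord⟩ := exists_prime_orderOf_dvd_card' (G := Subgroup.center T) 2 (by
    obtain ⟨e, he⟩ := IsPGroup.iff_card.mp (hT.to_subgroup (Subgroup.center T))
    rw [he]
    rcases e with _ | e
    · rw [pow_zero] at he
      exact absurd he Finite.one_lt_card.ne'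
    · exact dvd_pow_self 2 (Nat.succ_ne_zero e))
  rw [← Subgroup.orderOf_coe, ← Subgroup.orderOf_coe] at htord
  set H := Subgroup.centralizer ({(t : G)} : Set G)
  have hTH : T ≤ H := fun x hx => Subgroup.mem_centralizer_singleton_iff.mpr
    (congrArg Subtype.val (Subgroup.mem_center_iff.mp ht ⟨x, hx⟩))
  set M := Subgroup.normalizer ((T.subgroupOf H : Subgroup H) : Set H)
  obtain ⟨hLM, hOM⟩ := centralizer_pCore_le_iff.mp (CfsgLib.PSolvable.centralizer_pCore_le_normalizer
    (generalizedFitting_eq_pCore_iff.mp (h t htord))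
    (hT.comap_of_injective H.subtype H.subtype_injective : IsPGroup 2 ↥(T.subgroupOf H)) (rfl : M = _))
  -- elements of `N` centralising `T` lie in the image of `M`
  let j : M →* G := H.subtype.comp M.subtype
  have hj : Function.Injective j := H.subtype_injective.comp M.subtype_injective
  have hjN : ∀ m : M, j m ∈ N := fun m => Subgroup.mem_normalizer_fintype fun x hx =>
    Subgroup.mem_subgroupOf.mp
      ((Subgroup.mem_normalizer_iff.mp m.2 ⟨x, hTH hx⟩).mp (Subgroup.mem_subgroupOf.mpr hx))
  let i : M →* N := j.codRestrict N hjN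
  have hi : Function.Injective i := fun a b e => hj (show j a = j b from congrArg (fun z : N => (z : G)) e)
  have hcov : (Subgroup.centralizer ((T.subgroupOf N : Subgroup N) : Set N)) ≤ i.range := by
    intro y hy
    have hy' : ∀ x ∈ T, x * (y : G) = y * x := fun x hx => congrArg Subtype.val
      (Subgroup.mem_centralizer_iff.mp hy ⟨x, Subgroup.le_normalizer hx⟩ hx)
    have hyH : (y : G) ∈ H :=
      Subgroup.mem_centralizer_singleton_iff.mpr ((hy' (t : G) t.2).symm)
    refine ⟨⟨⟨y, hyH⟩, Subgroup.mem_normalizer_fintype fun x hx => ?_⟩, rfl⟩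
    rw [SetLike.mem_coe, Subgroup.mem_subgroupOf] at hx ⊢
    have h1 : ((⟨y, hyH⟩ : H) * x * (⟨y, hyH⟩ : H)⁻¹ : H) = x := Subtype.ext (by
      simp only [Subgroup.coe_mul, InvMemClass.coe_inv]
      rw [← hy' x hx, mul_inv_cancel_right])
    rw [h1]
    exact hx
  haveI : (T.subgroupOf N).Normal := Subgroup.normal_in_normalizer
  refine ⟨layer_eq_bot_iff.mpr fun L hL => ?_, ?_⟩
  · haveI : Group.IsNilpotent ↥(T.subgroupOf N) :=
      (hT.comap_of_injective N.subtype N.subtype_injective : IsPGroup 2 ↥(T.subgroupOf N)).isNilpotent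
    have hLi : L ≤ i.range := (Subgroup.commutator_eq_bot_iff_le_centralizer.mp
      (commutator_eq_bot_of_isSolvable hL (inferInstance : Group.IsSolvable (T.subgroupOf N))
        Subgroup.le_normalizer_of_normal)).trans hcov
    refine layer_eq_bot_iff.mp hLM (L.comap i) ⟨hL.1.comap i, ?_⟩
    have e : (L.comap i).map i = L := Subgroup.map_comap_eq_self hLi
    exact (isQuasisimple_congr ((L.comap i).equivMapOfInjective i hi)).mpr (e.symm ▸ hL.2)
  · haveI := CfsgLib.Transfer.pPrimeCore_normal 2 N
    have hd : Cfsg.pPrimeCore 2 N ⊓ T.subgroupOf N = ⊥ := CfsgLib.Coprime.inf_eq_bot_of_coprime_card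
      (CfsgLib.PSolvable.coprime_card_of_isPGroup (hT.comap_of_injective N.subtype N.subtype_injective)
        (CfsgLib.Transfer.pPrimeCore_coprime 2)).symm
    have hDi : Cfsg.pPrimeCore 2 N ≤ i.range := (Subgroup.commutator_eq_bot_iff_le_centralizer.mp
      (le_bot_iff.mp (hd ▸ Subgroup.commutator_le_inf _ _))).trans hcov
    have hle : (Cfsg.pPrimeCore 2 N).comap i ≤ Cfsg.pPrimeCore 2 M := by
      refine CfsgLib.Transfer.le_pPrimeCore ((CfsgLib.Transfer.pPrimeCore_normal 2 N).comap i)
        ((CfsgLib.Transfer.pPrimeCore_coprime (G := N) 2).coprime_dvd_left ?_)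
      rw [← Subgroup.card_map_of_injective hi]
      exact Subgroup.card_dvd_of_le (Subgroup.map_comap_le _ _)
    rw [hOM, le_bot_iff] at hle
    rw [← Subgroup.map_comap_eq_self hDi, hle, Subgroup.map_bot]

end Cfsg.Agent.S1292
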