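import Cfsg.Statements.S1295
import Cfsg.Agent.Lib.Signalizer.Connected
import Cfsg.Agent.Lib.Layer.Characteristic
import Cfsg.Agent.Lib.Signalizer.CoreBalance

set_option autoImplicit false
open Cfsg

namespace Cfsg.Agent.S1295

/-- Let G be finite with O_{p'}(G) = 1 and p-rank at least 3, whose reduced rank-2 commuting graph for p is connected. Suppose that for every element a of order p with m_p(C_G(a)) ≥ 3 the p-layer of C_G(a) is trivial and O_{p'}(C_G(a)) is solvable. Then F*(C_G(a)) = O_p(C_G(a)) for every such a. -/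
theorem result {G : Type*} [Group G] [Finite G] (p : ℕ) [Fact p.Prime] (hO : Cfsg.pPrimeCore p G = ⊥) (hrk : ¬ Cfsg.PRankLE p 2 G) (hconn : Cfsg.IsRankGraphConnected p 2 G) (hL : ∀ a : G, (orderOf a = p ∧ ¬ Cfsg.PRankLE p 2 ↥(Subgroup.centralizer ({a} : Set G))) → Cfsg.pLayer p ↥(Subgroup.centralizer ({a} : Set G)) = ⊥ ∧ Group.IsSolvable ↥(Cfsg.centralizerPPrimeCore p a)) (a : G) (ha : (orderOf a = p ∧ ¬ Cfsg.PRankLE p 2 ↥(Subgroup.centralizer ({a} : Set G)))) : Cfsg.generalizedFittingSubgroup ↥(Subgroup.centralizer ({a} : Set G)) = Cfsg.pCore p ↥(Subgroup.centralizer ({a} : Set G)) := by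
  have hcon : ∀ b : G, CfsgLib.Signalizer.IsRankThreePoint p b →
      Cfsg.IsPConstrained p ↥(Subgroup.centralizer ({b} : Set G)) := fun b hb =>
    CfsgLib.Layer.isPConstrained_iff_pLayer_eq_bot.mpr (hL b hb).1
  have hθ0 : ∀ b : G, CfsgLib.Signalizer.IsRankThreePoint p b →
      Cfsg.centralizerPPrimeCore p b = ⊥ := by
    intro b hb
    refine CfsgLib.Signalizer.eq_bot_of_connected (θ := fun c => Cfsg.centralizerPPrimeCore p c)
      hO hrk hconn (fun c hc => ⟨Subgroup.map_subtype_le _, ?_, (hL c hc).2⟩) ?_ ?_ hb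
    · intro hd
      rw [Cfsg.centralizerPPrimeCore,
        Subgroup.card_map_of_injective (Subgroup.subtype_injective _)] at hd
      exact (Fact.out : p.Prime).ne_one (Nat.eq_one_of_dvd_coprimes
        (CfsgLib.Transfer.pPrimeCore_coprime (p := p) (G := _)) hd (dvd_refl p))
    · intro c g hc
      exact CfsgLib.Signalizer.centralizerPPrimeCore_conj p c g
    · intro c d hc hd hcd
      exact CfsgLib.Signalizer.centralizerPPrimeCore_balance hcd (hc.1 ▸ pow_orderOf_eq_one c) (hcon d hd)
  refine CfsgLib.Layer.generalizedFitting_eq_pCore_iff.mpr ?_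
  have hbot : Cfsg.pPrimeCore p ↥(Subgroup.centralizer ({a} : Set G)) = ⊥ := by
    have := hθ0 a ha
    rwa [Cfsg.centralizerPPrimeCore,
      Subgroup.map_eq_bot_iff_of_injective _ (Subgroup.subtype_injective _)] at this
  exact (CfsgLib.PSolvable.isPConstrained_iff_of_surjective (f := MonoidHom.id _)
    Function.surjective_id (by rw [hbot, MonoidHom.ker_id])).mp (hcon a ha)

end Cfsg.Agent.S1295
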