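import Cfsg.Statements.S1297
import Cfsg.Agent.Lib.Signalizer.ComponentBalance

set_option autoImplicit false
open Cfsg

namespace Cfsg.Agent.S1297

/-- Let G be finite. Suppose that for every involution x, writing C = C_G(x), every component K of C / O(C) has K / Z(K) locally balanced. Then G is balanced. -/
theorem result {G : Type*} [Group G] [Finite G] (h : ∀ x : G, orderOf x = 2 → ∀ K : Subgroup (↥(Subgroup.centralizer ({x} : Set G)) ⧸ Cfsg.oddCore ↥(Subgroup.centralizer ({x} : Set G))), Cfsg.IsComponent K → Cfsg.IsLocallyBalanced (↥K ⧸ Subgroup.center ↥K)) : Cfsg.IsBalanced G := by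
  have key : ∀ x y : G, orderOf x = 2 → orderOf y = 2 → x * y = y * x →
      Cfsg.centralizerPPrimeCore 2 x ⊓ Subgroup.centralizer {y} ≤ Cfsg.centralizerPPrimeCore 2 y := by
    intro x y hx hy hxy
    haveI : Fact (Nat.Prime 2) := ⟨Nat.prime_two⟩
    have hmem : ∀ z ∈ Subgroup.zpowers x, z = 1 ∨ z = x := by
      intro z hz
      rw [← SetLike.mem_coe, ← (isOfFinOrder_of_finite x).powers_eq_zpowers] at hz
      obtain ⟨n, rfl⟩ := hz
      rcases Nat.even_or_odd n with ⟨k, hk⟩ | ⟨k, hk⟩
      · left
        show x ^ n = 1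
        rw [hk, ← two_mul, pow_mul, ← hx, pow_orderOf_eq_one, one_pow]
      · right
        show x ^ n = x
        rw [hk, pow_succ, pow_mul, ← hx, pow_orderOf_eq_one, one_pow, one_mul]
    refine le_trans (inf_le_inf_right _ ?_)
      (CfsgLib.Signalizer.ComponentBalance.delta_inf_centralizer_le (p := 2) (a := y)
        (B := Subgroup.zpowers x) ?_ inferInstance ?_ ?_ fun K hK => Or.inl ?_)
    · refine CfsgLib.Signalizer.KBalance.le_delta fun d hd hd1 => ?_
      rcases hmem d hd with rfl | rfl
      · exact absurd rfl hd1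
      · exact le_rfl
    · rw [Ne, Subgroup.zpowers_eq_bot]
      rintro rfl
      simp at hx
    · intro b hb
      rcases hmem b hb with rfl | rfl
      · exact one_pow 2
      · rw [← hx, pow_orderOf_eq_one]
    · exact Subgroup.zpowers_le.mpr (Subgroup.mem_centralizer_singleton_iff.mpr hxy)
    · intro H hH A hA hcard
      rw [Nat.card_zpowers, hx] at hcard
      obtain ⟨a, haA, ha1⟩ := CfsgLib.Signalizer.exists_ne_one_of_ne_bot (H := A) (fun h0 => by
        rw [h0, Subgroup.card_bot] at hcard; omega)
      exact eq_bot_iff.mpr ((CfsgLib.Signalizer.KBalance.delta_le haA ha1).trans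
        (h y hy K hK H hH a (orderOf_eq_prime (hA.2 a haA) ha1)).le)
  intro x y hx hy hxy
  exact le_antisymm (le_inf (key x y hx hy hxy) (inf_le_left.trans (Subgroup.map_subtype_le _)))
    (le_inf (key y x hy hx hxy.symm) (inf_le_left.trans (Subgroup.map_subtype_le _)))

end Cfsg.Agent.S1297
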