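import Cfsg.Statements.S1299
import Cfsg.Agent.Lib.Signalizer.KBalance

set_option autoImplicit false
open Cfsg

namespace Cfsg.Agent.S1299

/-- Let G be finite and k-balanced for the prime p (k ≥ 1), A an elementary abelian p-subgroup of order at least p^(k+2) such that O_{p'}(C_G(a)) is solvable for every non-identity a ∈ A. For a ∈ A put θ a = the subgroup generated by the Δ_G(D) ∩ C_G(a) over the subgroups D ≤ A of order p^k. Then θ is an A-signalizer functor. -/
theorem result {G : Type*} [Group G] [Finite G] (p k : ℕ) [Fact p.Prime] (hk : 1 ≤ k) (hbal : Cfsg.IsKBalanced p k G) (A : Subgroup G) (hA : Cfsg.IsElementaryAbelian p A) (hAk : p ^ (k + 2) ≤ Nat.card ↥A) (hsolv : ∀ a ∈ A, a ≠ 1 → Group.IsSolvable ↥(Cfsg.centralizerPPrimeCore p a)) : Cfsg.IsSignalizerFunctor p A (fun a => ⨆ D : {D : Subgroup G // D ≤ A ∧ Nat.card ↥D = p ^ k}, Cfsg.signalizerDelta p (D : Subgroup G) ⊓ Subgroup.centralizer {a}) := by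
  have hb : ∀ T : Subgroup G, T ≤ A → Nat.card T = p ^ k → ∀ d ∈ A, d ≠ 1 →
      Cfsg.signalizerDelta p T ⊓ Subgroup.centralizer {d} ≤ Cfsg.centralizerPPrimeCore p d :=
    fun T hT hc d hd hd1 => hbal T
      ⟨⟨⟨fun u v => Subtype.ext (CfsgLib.Signalizer.KBalance.comm_of_mem hA (hT u.2) (hT v.2))⟩⟩,
        fun u hu => hA.2 u (hT hu)⟩
      hc d (orderOf_eq_prime (hA.2 d hd) hd1)
      fun a ha => CfsgLib.Signalizer.KBalance.comm_of_mem hA (hT ha) hd
  obtain ⟨⟨h1, h2, h3, h4⟩, -⟩ :=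
    CfsgLib.Signalizer.KBalance.isSolvableSignalizerFunctor hk hA hAk hsolv hb
  have heq : ∀ a ∈ A, _ := fun a ha =>
    CfsgLib.Signalizer.KBalance.iSup_eq_gen hk hA hAk hb (a := a) ha
  refine ⟨fun a ha ha1 => ?_, fun a ha ha1 => ?_, fun a ha ha1 => ?_, fun a ha ha1 b hb' hb1 => ?_⟩
  · exact (heq a ha).trans_le (h1 a ha ha1)
  · simpa only [heq a ha] using h2 a ha ha1
  · simpa only [heq a ha] using h3 a ha ha1
  · simpa only [heq a ha, heq b hb'] using h4 a ha ha1 b hb' hb1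

end Cfsg.Agent.S1299
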