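import Cfsg.Statements.S1300
import Mathlib
import Cfsg.Agent.Lib.Signalizer.Basic

set_option autoImplicit false
open Cfsg

namespace Cfsg.Agent.S1300
open Subgroup in
theorem delta_zpowers {G : Type*} [Group G] {x : G} (hx : orderOf x = 2) :
    Cfsg.signalizerDelta 2 (Subgroup.zpowers x) = Cfsg.centralizerPPrimeCore 2 x := by
  have hall : ∀ a : {a : G // a ∈ Subgroup.zpowers x ∧ a ≠ 1}, (a : G) = x := by
    rintro ⟨a, ha, ha1⟩
    obtain ⟨k, rfl⟩ := Subgroup.mem_zpowers_iff.mp ha
    change x ^ k = x
    rw [← zpow_mod_orderOf, hx] at ha1 ⊢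
    rcases Int.emod_two_eq k with h | h
    · exact absurd (by norm_num [h]) ha1
    · norm_num [h]
  refine le_antisymm ?_ (le_iInf fun a => by rw [hall a])
  exact iInf_le_of_le ⟨x, Subgroup.mem_zpowers x, fun h => by simp [h] at hx⟩ le_rfl

theorem core_le_centralizer {G : Type*} [Group G] (x : G) :
    Cfsg.centralizerPPrimeCore 2 x ≤ Subgroup.centralizer {x} :=
  Subgroup.map_subtype_le _


/-- For a finite group G, balance in the sense of commuting involutions is the same as 1-balance for the prime 2. -/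
theorem result {G : Type*} [Group G] [Finite G] : Cfsg.IsBalanced G ↔ Cfsg.IsKBalanced 2 1 G := by
  constructor
  · intro hG A hA hcard b hb hcomm
    haveI : Nontrivial A := Finite.one_lt_card_iff_nontrivial.mp (by rw [hcard]; norm_num)
    obtain ⟨⟨x, hxA⟩, hx1⟩ := exists_ne (1 : A)
    have hx : orderOf x = 2 := orderOf_eq_prime (hA.2 x hxA) (fun h => hx1 (Subtype.ext h))
    have hAe : Subgroup.zpowers x = A := Subgroup.eq_of_le_of_card_ge (Subgroup.zpowers_le.mpr hxA)
      (by rw [hcard, Nat.card_zpowers, hx]; norm_num)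
    rw [← hAe, delta_zpowers hx, hG x b hx hb (hcomm x hxA)]
    exact inf_le_left
  · intro hG
    have key : ∀ x y : G, orderOf x = 2 → orderOf y = 2 → x * y = y * x →
        Cfsg.centralizerPPrimeCore 2 x ⊓ Subgroup.centralizer {y} ≤
          Cfsg.centralizerPPrimeCore 2 y ⊓ Subgroup.centralizer {x} := by
      intro x y hx hy hxy
      refine le_inf ?_ (inf_le_left.trans (core_le_centralizer x))
      rw [← delta_zpowers hx]
      refine hG _ ⟨inferInstance, fun a ha => ?_⟩ (by rw [Nat.card_zpowers, hx, pow_one]) y hy ?_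
      · obtain ⟨k, rfl⟩ := Subgroup.mem_zpowers_iff.mp ha
        rw [← zpow_natCast, ← zpow_mul, mul_comm, zpow_mul, zpow_natCast, ← hx, pow_orderOf_eq_one,
          one_zpow]
      · intro a ha
        obtain ⟨k, rfl⟩ := Subgroup.mem_zpowers_iff.mp ha
        exact ((show Commute x y from hxy).zpow_left k).eq
    intro x y hx hy hxy
    exact le_antisymm (key x y hx hy hxy) (key y x hy hx hxy.symm)

end Cfsg.Agent.S1300
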