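import Cfsg.Statements.S1303
import Cfsg.Agent.Lib.PSolvable.Core

set_option autoImplicit false
open Cfsg

namespace Cfsg.Agent.S1303

/-- The group X = SL(2, 3): it is 2-constrained, O_{2'}(X) = 1, its centre A = Z(X) contains every involution of X = C_X(A), and X has a subgroup of order 3 (normalized by A) not contained in O_{2'}(X). -/
theorem result : Cfsg.IsPConstrained 2 (Matrix.SpecialLinearGroup (Fin 2) (ZMod 3)) ∧ Cfsg.pPrimeCore 2 (Matrix.SpecialLinearGroup (Fin 2) (ZMod 3)) = ⊥ ∧ (∀ t : Matrix.SpecialLinearGroup (Fin 2) (ZMod 3), orderOf t = 2 → t ∈ Subgroup.center (Matrix.SpecialLinearGroup (Fin 2) (ZMod 3))) ∧ ∃ Q : Subgroup (Matrix.SpecialLinearGroup (Fin 2) (ZMod 3)), Nat.card ↥Q = 3 ∧ ¬ (Q ≤ Cfsg.pPrimeCore 2 (Matrix.SpecialLinearGroup (Fin 2) (ZMod 3))) := by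
  classical
  haveI : Fact (Nat.Prime 2) := ⟨Nat.prime_two⟩
  set G := Matrix.SpecialLinearGroup (Fin 2) (ZMod 3) with hG
  have hmul : ∀ a b : G, a ^ 4 = 1 → b ^ 4 = 1 → (a * b) ^ 4 = 1 := by decide +kernel
  let Q : Subgroup G :=
    { carrier := {x | x ^ 4 = 1}
      one_mem' := one_pow 4
      mul_mem' := fun {a b} => hmul a b
      inv_mem' := fun {a} (h : a ^ 4 = 1) => show a⁻¹ ^ 4 = 1 by rw [inv_pow, h, inv_one] }
  haveI : Q.Normal := ⟨fun a (h : a ^ 4 = 1) g => show (g * a * g⁻¹) ^ 4 = 1 by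
    rw [conj_pow, h, mul_one, mul_inv_cancel]⟩
  have hQc : Nat.card Q = 8 := by
    have : Fintype.card {x : G // x ^ 4 = 1} = 8 := by decide +kernel
    rw [← this, ← Nat.card_eq_fintype_card]
    rfl
  have hGc : Nat.card G = 24 := by
    rw [Nat.card_eq_fintype_card]; decide +kernel
  have hps : Cfsg.IsPSolvable 2 G := by
    refine ⟨2, ![⊥, Q, ⊤], rfl, rfl, ?_, ?_, ?_⟩
    · intro i j hij
      fin_cases i <;> fin_cases j <;> first | exact le_rfl | exact bot_le | exact le_top | simp at hij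
    · intro i
      fin_cases i
      exacts [inferInstanceAs (⊥ : Subgroup G).Normal, ‹Q.Normal›, inferInstanceAs (⊤ : Subgroup G).Normal]
    · intro i
      fin_cases i
      · left
        exact ⟨3, by show (⊥ : Subgroup G).relIndex Q = _; rw [Subgroup.relIndex_bot_left, hQc]; rfl⟩
      · right
        show (Q.relIndex ⊤).Coprime 2
        have h := Q.card_mul_index
        rw [hQc, hGc] at h
        rw [Subgroup.relIndex_top_right, show Q.index = 3 by omega]
        norm_num
  have hcore : Cfsg.pPrimeCore 2 G = ⊥ := by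
    refine le_antisymm (sSup_le fun N hN x hx => Subgroup.mem_bot.mpr ?_) bot_le
    haveI := hN.1
    have hodd : ∀ y ∈ N, y ^ 3 = 1 := by
      intro y hy
      refine orderOf_dvd_iff_pow_eq_one.mp ?_
      have h2 : (orderOf y).Coprime (2 ^ 3) :=
        Nat.Coprime.pow_right 3 (hN.2.coprime_dvd_left (N.orderOf_dvd_natCard hy))
      have h1 : orderOf y ∣ 2 ^ 3 * 3 := by
        have := orderOf_dvd_natCard y
        rwa [hGc] at this
      exact h2.dvd_of_dvd_mul_left h1
    have key : ∀ g : G, g ^ 3 = 1 → g ≠ 1 → ∃ h, (g * (h * g * h⁻¹)) ^ 3 ≠ 1 := by decide +kernel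
    by_contra hx1
    obtain ⟨h, hh⟩ := key x (hodd x hx) hx1
    exact hh (hodd _ (mul_mem hx (hN.1.conj_mem x hx h)))
  refine ⟨CfsgLib.PSolvable.isPConstrained_of_isPSolvable hps, hcore, ?_, ?_⟩
  · have key : ∀ t : G, t ^ 2 = 1 → ∀ g : G, g * t = t * g := by decide +kernel
    refine fun t ht => Subgroup.mem_center_iff.mpr (key t ?_)
    have := pow_orderOf_eq_one t
    rwa [ht] at this
  · haveI : Fact (Nat.Prime 3) := ⟨Nat.prime_three⟩
    obtain ⟨x, hx⟩ := exists_prime_orderOf_dvd_card' (G := G) 3 (by rw [hGc]; norm_num)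
    refine ⟨Subgroup.zpowers x, by rw [Nat.card_zpowers, hx], fun hle => ?_⟩
    rw [hcore] at hle
    have : x = 1 := Subgroup.mem_bot.mp (hle (Subgroup.mem_zpowers x))
    rw [this, orderOf_one] at hx
    norm_num at hx

end Cfsg.Agent.S1303
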