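import Cfsg.Statements.S1304
import Cfsg.Agent.Lib.Signalizer.ComponentBalance

set_option autoImplicit false
open Cfsg

namespace Cfsg.Agent.S1304

/-- Let X be a perfect group and α an automorphism of X with α(x) x⁻¹ central for every x. Then α is the identity. -/
theorem result {X : Type*} [Group X] (hperf : commutator X = ⊤) (α : X ≃* X) (h : ∀ x : X, α x * x⁻¹ ∈ Subgroup.center X) : ∀ x : X, α x = x := by
  haveI : Group.IsPerfect X := ⟨hperf⟩
  have h1 : CfsgLib.Signalizer.ComponentBalance.autQuot X α = 1 := by
    refine MulEquiv.ext fun q => ?_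
    obtain ⟨y, rfl⟩ := QuotientGroup.mk'_surjective (Subgroup.center X) q
    show (QuotientGroup.mk (α y) : X ⧸ Subgroup.center X) = QuotientGroup.mk y
    rw [eq_comm, QuotientGroup.eq]
    have h2 := (inferInstance : (Subgroup.center X).Normal).conj_mem _ (h y) y⁻¹
    simpa [mul_assoc] using h2
  have h3 : α = 1 :=
    CfsgLib.Signalizer.ComponentBalance.autQuot_injective (h1.trans (map_one _).symm)
  intro x
  rw [h3]
  rfl

end Cfsg.Agent.S1304
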