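import Cfsg.Statements.S1306
import Cfsg.Agent.Lib.Layer.Basic

set_option autoImplicit false
open Cfsg

namespace Cfsg.Agent.S1306

/-- Let G be finite, x an involution and L ≤ C_G(x) a component of C_G(x). Suppose L is a component of C_G(y) for every involution y ∈ C_G(L), and ⁅L, g L g⁻¹⁆ ≠ 1 whenever g L g⁻¹ ≠ L. Then L is a standard subgroup of G. -/
theorem result {G : Type*} [Group G] [Finite G] (x : G) (hx : orderOf x = 2) (L : Subgroup G) (hLx : L ≤ Subgroup.centralizer ({x} : Set G)) (hL : Cfsg.IsComponent (L.subgroupOf (Subgroup.centralizer ({x} : Set G)))) (hne : ∀ y : G, orderOf y = 2 → y ∈ Subgroup.centralizer (L : Set G) → L ≤ Subgroup.centralizer ({y} : Set G) ∧ Cfsg.IsComponent (L.subgroupOf (Subgroup.centralizer ({y} : Set G)))) (hnc : ∀ g : G, L.map (MulAut.conj g).toMonoidHom ≠ L → ⁅L, L.map (MulAut.conj g).toMonoidHom⁆ ≠ ⊥) : Cfsg.IsStandardSubgroup L := by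
  set K := Subgroup.centralizer (L : Set G) with hK
  have hLq : Cfsg.IsQuasisimple ↥L :=
    (CfsgLib.Layer.isQuasisimple_congr (Subgroup.subgroupOfEquivOfLe hLx)).mp hL.2
  have hxK : x ∈ K := Subgroup.mem_centralizer_iff.mpr fun l hl =>
    Subgroup.mem_centralizer_singleton_iff.mp (hLx hl)
  -- conjugates whose centralizers share an involution coincide
  have key : ∀ (g y : G), orderOf y = 2 → y ∈ K → y ∈ K.map (MulAut.conj g).toMonoidHom →
      L.map (MulAut.conj g).toMonoidHom = L := by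
    intro g y hy hyK hyg
    by_contra hne'
    refine hnc g hne' ?_
    obtain ⟨hLy, hLc⟩ := hne y hy hyK
    obtain ⟨z, hz, hzy⟩ := hyg
    have hzo : orderOf z = 2 := by
      rw [← hy, ← hzy]
      exact (orderOf_injective (MulAut.conj g).toMonoidHom (MulEquiv.injective _) z).symm
    obtain ⟨hLz, hLzc⟩ := hne z hzo hz
    have hgy : ∀ c, c ∈ Subgroup.centralizer ({z} : Set G) ↔ g * c * g⁻¹ ∈ Subgroup.centralizer ({y} : Set G) := by
      intro c
      rw [Subgroup.mem_centralizer_singleton_iff, Subgroup.mem_centralizer_singleton_iff, ← hzy]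
      show c * z = z * c ↔ g * c * g⁻¹ * (g * z * g⁻¹) = g * z * g⁻¹ * (g * c * g⁻¹)
      constructor
      · intro h
        calc g * c * g⁻¹ * (g * z * g⁻¹) = g * (c * z) * g⁻¹ := by group
          _ = g * (z * c) * g⁻¹ := by rw [h]
          _ = _ := by group
      · intro h
        have h2 := congrArg (fun w => g⁻¹ * w * g) h
        simpa [mul_assoc] using h2
    let e : ↥(Subgroup.centralizer ({z} : Set G)) ≃* ↥(Subgroup.centralizer ({y} : Set G)) :=
      { toFun := fun c => ⟨g * c * g⁻¹, (hgy c).mp c.2⟩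
        invFun := fun c => ⟨g⁻¹ * c * g, (hgy _).mpr (by simp [mul_assoc, c.2])⟩
        left_inv := fun c => Subtype.ext (by simp [mul_assoc])
        right_inv := fun c => Subtype.ext (by simp [mul_assoc])
        map_mul' := fun a b => Subtype.ext (by simp [mul_assoc]) }
    have hLg : L.map (MulAut.conj g).toMonoidHom ≤ Subgroup.centralizer ({y} : Set G) := by
      rintro _ ⟨l, hl, rfl⟩
      exact (hgy l).mp (hLz hl)
    have hcomp : Cfsg.IsComponent ((L.map (MulAut.conj g).toMonoidHom).subgroupOf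
        (Subgroup.centralizer ({y} : Set G))) := by
      refine (?_ : (L.map (MulAut.conj g).toMonoidHom).subgroupOf _ = _) ▸
        CfsgLib.Layer.isComponent_map_equiv e hLzc
      ext c
      constructor
      · rintro ⟨l, hl, hlc⟩
        exact ⟨⟨l, hLz hl⟩, hl, Subtype.ext hlc⟩
      · rintro ⟨l, hl, rfl⟩
        exact ⟨l, hl, rfl⟩
    refine (CfsgLib.Layer.commutator_subgroupOf_eq_bot hLy hLg).mp
      (CfsgLib.Layer.commutator_eq_bot_of_ne hLc hcomp fun he => hne' ?_)
    rw [← Subgroup.map_subgroupOf_eq_of_le hLg, ← he, Subgroup.map_subgroupOf_eq_of_le hLy]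
  have hNN : Subgroup.normalizer (L : Set G) ≤ Subgroup.normalizer (K : Set G) :=
    CfsgLib.Coprime.le_normalizer_centralizer le_rfl
  have hnorm : ∀ g, L.map (MulAut.conj g).toMonoidHom = L → g ∈ Subgroup.normalizer (L : Set G) :=
    fun g he => Subgroup.mem_normalizer_fintype fun n hn => he.le ⟨n, hn, rfl⟩
  refine ⟨hLq, ⟨?_, fun g hg => ?_⟩, hnc, le_antisymm hNN fun g hg => hnorm g ?_⟩
  · rw [even_iff_two_dvd, ← hx]
    have h := orderOf_dvd_natCard (⟨x, hxK⟩ : ↥K)
    rwa [← Subgroup.orderOf_coe] at h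
  · rw [← Nat.not_even_iff_odd, even_iff_two_dvd]
    intro h2
    haveI : Fact (Nat.Prime 2) := ⟨Nat.prime_two⟩
    obtain ⟨y, hy⟩ := exists_prime_orderOf_dvd_card' 2 h2
    rw [← Subgroup.orderOf_coe] at hy
    exact hg (hNN (hnorm g (key g y hy (Subgroup.mem_inf.mp y.2).1 (Subgroup.mem_inf.mp y.2).2)))
  · refine key g x hx hxK ?_
    have h2 := (Subgroup.mem_normalizer_iff.mp (inv_mem hg) x).mp hxK
    exact ⟨_, h2, by simp [mul_assoc]⟩

end Cfsg.Agent.S1306
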