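import Cfsg.Statements.S1307
import Cfsg.Agent.Lib.Layer.PumpUp
import Cfsg.Agent.Lib.ZStar.Main
import Cfsg.Agent.Lib.ZStar.Recognize
import Cfsg.Agent.Lib.ZStar.Basic

set_option autoImplicit false
set_option linter.style.haveILetI false
set_option linter.unusedVariables false
open Cfsg

namespace Cfsg.Agent.S1307

/-- Let G be finite, x an involution and L ≤ C_G(x) a component of C_G(x) of even order and 2-rank 1, such that L is a component of C_G(y) for every involution y ∈ C_G(L). Then some involution of L is a classical involution of G. -/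
theorem result {G : Type*} [Group G] [Finite G] (x : G) (hx : orderOf x = 2) (L : Subgroup G) (hLx : L ≤ Subgroup.centralizer ({x} : Set G)) (hL : Cfsg.IsComponent (L.subgroupOf (Subgroup.centralizer ({x} : Set G)))) (heven : Even (Nat.card ↥L)) (hrk : Cfsg.PRankLE 2 1 ↥L) (hne : ∀ y : G, orderOf y = 2 → y ∈ Subgroup.centralizer (L : Set G) → L ≤ Subgroup.centralizer ({y} : Set G) ∧ Cfsg.IsComponent (L.subgroupOf (Subgroup.centralizer ({y} : Set G)))) : ∃ t ∈ L, Cfsg.IsClassicalInvolution t := by
  classical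
  have hq : Cfsg.IsQuasisimple ↥L :=
    (CfsgLib.Layer.isQuasisimple_congr (Subgroup.subgroupOfEquivOfLe hLx)).mp hL.2
  haveI := hq.1
  haveI := CfsgLib.Layer.nontrivial_of_isQuasisimple hq
  -- commuting involutions of `L` are equal
  have hcomm : ∀ s t : ↥L, orderOf s = 2 → orderOf t = 2 → Commute s t → s = t := by
    intro s t hs ht hst
    by_contra hne
    have hs2 : s * s = 1 := by rw [← pow_two, ← hs]; exact pow_orderOf_eq_one s
    have ht2 : t * t = 1 := by rw [← pow_two, ← ht]; exact pow_orderOf_eq_one t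
    let A : Subgroup ↥L := Subgroup.closure {s, t}
    have hab : IsMulCommutative ↥A := Subgroup.isMulCommutative_closure (by
      rintro u (rfl | rfl) v (rfl | rfl) <;> first | rfl | exact hst.eq | exact hst.eq.symm)
    have hexp : ∀ a ∈ A, a ^ 2 = 1 := by
      intro a ha
      induction ha using Subgroup.closure_induction with
      | mem u hu =>
        rcases hu with rfl | rfl
        · rw [pow_two]; exact hs2
        · rw [pow_two]; exact ht2
      | one => exact one_pow 2
      | mul u v hu hv hu2 hv2 =>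
        rw [(show Commute u v from congrArg Subtype.val
          (hab.is_comm.comm (⟨u, hu⟩ : A) ⟨v, hv⟩)).mul_pow, hu2, hv2, one_mul]
      | inv u _ hu2 => rw [inv_pow, hu2, inv_one]
    have hle := hrk A hab hexp
    have hsA : s ∈ A := Subgroup.subset_closure (Set.mem_insert _ _)
    have htA : t ∈ A := Subgroup.subset_closure (Set.mem_insert_of_mem _ rfl)
    have h3 : ({1, s, t} : Finset ↥L).card = 3 := by
      have h1s : (1 : ↥L) ≠ s := fun h => by rw [← h, orderOf_one] at hs; omega
      have h1t : (1 : ↥L) ≠ t := fun h => by rw [← h, orderOf_one] at ht; omega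
      simp [h1s, h1t, hne]
    have hsub : ((({1, s, t} : Finset ↥L) : Set ↥L)) ⊆ (A : Set ↥L) := by
      intro u hu
      simp only [Finset.coe_insert, Finset.coe_singleton, Set.mem_insert_iff, Set.mem_singleton_iff] at hu
      rcases hu with rfl | rfl | rfl
      exacts [A.one_mem, hsA, htA]
    have := Set.ncard_le_ncard hsub (Set.toFinite _)
    rw [Set.ncard_coe_finset, h3, ← Nat.card_coe_set_eq] at this
    have h4 : Nat.card ↥A ≤ 2 := by simpa using hle
    have h5 : (3 : ℕ) ≤ Nat.card ↥A := this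
    omega
  obtain ⟨P⟩ : Nonempty (Sylow 2 ↥L) := inferInstance
  have huniq : ∀ u v : ↥(P : Subgroup ↥L), orderOf u = 2 → orderOf v = 2 → u = v := by
    intro u v hu hv
    haveI := P.2.isNilpotent
    haveI : Nontrivial ↥(P : Subgroup ↥L) := ⟨⟨u, 1, fun h => by rw [h, orderOf_one] at hu; omega⟩⟩
    haveI := P.2.center_nontrivial
    obtain ⟨m, hm, hcard⟩ :=
      (P.2.to_subgroup (Subgroup.center ↥(P : Subgroup ↥L))).nontrivial_iff_card.mp inferInstance
    obtain ⟨z, hz⟩ := exists_prime_orderOf_dvd_card' (G := ↥(Subgroup.center ↥(P : Subgroup ↥L))) 2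
      (by rw [hcard]; exact dvd_pow_self 2 hm.ne')
    have key : ∀ w : ↥(P : Subgroup ↥L), orderOf w = 2 → (w : ↥L) = ((z : ↥(P : Subgroup ↥L)) : ↥L) :=
      fun w hw => hcomm _ _ (by rw [Subgroup.orderOf_coe]; exact hw)
        (by rw [Subgroup.orderOf_coe, Subgroup.orderOf_coe]; exact hz)
        (congrArg Subtype.val (Subgroup.mem_center_iff.mp z.2 w))
    exact Subtype.ext ((key u hu).trans (key v hv).symm)
  have hnc : ¬ IsCyclic ↥(P : Subgroup ↥L) := by
    intro hcyc
    obtain ⟨Q, N, hN, hc⟩ := CfsgLib.ZStar.hasNormalPComplement_of_cyclic P hcyc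
    haveI := hN
    have hcop := CfsgLib.Transfer.coprime_card_of_isComplement' hc
    rcases CfsgLib.Layer.eq_top_or_le_center_of_normal hq N with rfl | hNc
    · rw [Subgroup.card_top] at hcop
      exact (Nat.Prime.coprime_iff_not_dvd Nat.prime_two).mp hcop.symm heven.two_dvd
    · haveI : Group.IsPerfect (↥L ⧸ N) := Group.IsPerfect.ofSurjective (QuotientGroup.mk'_surjective N)
      haveI : Nontrivial (↥L ⧸ N) := QuotientGroup.nontrivial_iff.mpr fun h =>
        CfsgLib.Layer.center_ne_top_of_isQuasisimple hq (top_le_iff.mp (h ▸ hNc))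
      haveI : Group.IsNilpotent (↥L ⧸ N) :=
        (CfsgLib.Transfer.isPGroup_quotient_of_isComplement' hc).isNilpotent
      exact Group.IsPerfect.not_isNilpotent (↥L ⧸ N) inferInstance
  obtain ⟨n, ⟨e⟩⟩ := (CfsgLib.ZStar.cyclic_or_quaternion P.2 huniq).resolve_left hnc
  obtain ⟨m, rfl⟩ : ∃ m, n = m + 1 := by
    refine ⟨n - 1, (Nat.succ_pred_eq_of_pos (Nat.pos_of_ne_zero fun h0 => hnc ?_)).symm⟩
    subst h0
    haveI : IsCyclic (QuaternionGroup (2 ^ 0)) := by
      rw [pow_zero]; exact QuaternionGroup.quaternionGroup_one_isCyclic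
    exact isCyclic_of_surjective e.symm.toMonoidHom e.symm.surjective
  have hP2 : 2 ∣ Nat.card ↥(P : Subgroup ↥L) := P.dvd_card_of_dvd_card heven.two_dvd
  obtain ⟨t, ht⟩ := exists_prime_orderOf_dvd_card' 2 hP2
  have htL : orderOf (t : ↥L) = 2 := by rw [Subgroup.orderOf_coe, ht]
  obtain ⟨N, hN, hNodd, hNcomm⟩ := CfsgLib.ZStar.exists_normal_odd_commutator_mem P (t : ↥L) htL t.2
    (fun g hg => congrArg Subtype.val (huniq ⟨_, hg⟩ t
      (by
        rw [← Subgroup.orderOf_coe]
        exact (orderOf_injective (MulAut.conj g).toMonoidHom (MulAut.conj g).injective (t : ↥L)).trans htL) ht))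
  haveI := hN
  have htc : (t : ↥L) ∈ Subgroup.center ↥L := by
    rcases CfsgLib.Layer.eq_top_or_le_center_of_normal hq N with rfl | hNc
    · rw [Subgroup.card_top] at hNodd
      exact absurd heven (Nat.not_even_iff_odd.mpr hNodd)
    · refine CfsgLib.Layer.PumpUp.mem_center_of_commutators fun k => ?_
      have h := (Subgroup.center ↥L).inv_mem (hNc (hNcomm k))
      rwa [show ((t : ↥L) * k * (t : ↥L)⁻¹ * k⁻¹)⁻¹ = k * (t : ↥L) * k⁻¹ * (t : ↥L)⁻¹ by group] at h
  set tG : G := ((t : ↥L) : G) with htG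
  have htGo : orderOf tG = 2 := by rw [htG, Subgroup.orderOf_coe, htL]
  obtain ⟨hLt, hLtc⟩ := hne tG htGo (Subgroup.mem_centralizer_iff.mpr fun l hl =>
    congrArg Subtype.val (Subgroup.mem_center_iff.mp htc ⟨l, hl⟩))
  exact ⟨tG, (t : ↥L).2, htGo, L, hLt, (t : ↥L).2, hLtc.1, P, m, ⟨e⟩⟩

end Cfsg.Agent.S1307
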