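import Cfsg.Statements.S1313
import Mathlib
import Cfsg.Agent.Lib.Layer.Basic

set_option autoImplicit false
open Cfsg

namespace Cfsg.Agent.S1313

/-- For a finite group H, |H| ≤ |F*(H)|!. -/
theorem result {H : Type*} [Group H] [Finite H] : Nat.card H ≤ Nat.factorial (Nat.card ↥(Cfsg.generalizedFittingSubgroup H)) := by
  classical
  set F := Cfsg.generalizedFittingSubgroup H
  haveI : F.Normal := CfsgLib.Layer.generalizedFitting_normal
  set φ : H →* MulAut F := MulAut.conjNormal
  have h1 : Nat.card H = φ.ker.index * Nat.card φ.ker := (Subgroup.index_mul_card φ.ker).symm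
  have hker : φ.ker ≤ Subgroup.centralizer (F : Set H) := by
    intro x hx
    refine Subgroup.mem_centralizer_iff.mpr fun y hy => ?_
    have h2 := congrArg Subtype.val (DFunLike.congr_fun (MonoidHom.mem_ker.mp hx) (⟨y, hy⟩ : F))
    rw [MulAut.conjNormal_apply, MulAut.one_apply] at h2
    calc y * x = (x * y * x⁻¹) * x := by rw [show x * y * x⁻¹ = y from h2]
      _ = x * y := by group
  have h3 : Nat.card φ.ker ≤ Nat.card F :=
    Subgroup.card_le_of_le (hker.trans CfsgLib.Layer.centralizer_generalizedFitting_le)
  have h4 : φ.ker.index ≤ (Nat.card F - 1).factorial := by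
    rw [Subgroup.index_ker]
    refine (Subgroup.card_le_card_group φ.range).trans ?_
    have hne : ∀ (e : MulAut F) (x : F), e x ≠ 1 ↔ x ≠ 1 := fun e x => by
      rw [ne_eq, ne_eq, EmbeddingLike.map_eq_one_iff]
    let g : MulAut F → Equiv.Perm {x : F // x ≠ 1} := fun e =>
      Equiv.Perm.subtypePerm e.toEquiv (hne e)
    have hg : Function.Injective g := by
      intro e e' h
      refine MulEquiv.ext fun x => ?_
      rcases eq_or_ne x 1 with rfl | hx
      · rw [map_one, map_one]
      · exact congrArg Subtype.val (DFunLike.congr_fun h ⟨x, hx⟩)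
    refine (Nat.card_le_card_of_injective g hg).trans (le_of_eq ?_)
    rw [Nat.card_perm]
    congr 1
    haveI := Fintype.ofFinite F
    rw [Nat.card_eq_fintype_card, Nat.card_eq_fintype_card]
    exact Set.card_ne_eq (1 : F)
  rw [h1, ← Nat.mul_factorial_pred Nat.card_pos.ne', mul_comm (Nat.card F)]
  exact Nat.mul_le_mul h4 h3

end Cfsg.Agent.S1313
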