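import Cfsg.Statements.S1314
import Mathlib

set_option autoImplicit false
open Cfsg

namespace Cfsg.Agent.S1314

/-- Let x be an involution of a group G and L a perfect subgroup with ⁅L, x L x⁻¹⁆ = 1. Then l ↦ l (x l x⁻¹) is a group homomorphism π from L to G whose kernel is central in L and whose image lies in C_G(x); and the commutator subgroup of C_{L ⊔ xLx⁻¹}(x) equals the image of π. -/
theorem result {G : Type*} [Group G] [Finite G] (x : G) (hx : orderOf x = 2) (L : Subgroup G) (hperf : ⁅L, L⁆ = L) (hcomm : ⁅L, L.map (MulAut.conj x).toMonoidHom⁆ = ⊥) : ∃ π : ↥L →* G, (∀ l : ↥L, π l = (l : G) * (x * (l : G) * x⁻¹)) ∧ π.ker ≤ Subgroup.center ↥L ∧ π.range ≤ Subgroup.centralizer ({x} : Set G) ∧ ⁅(L ⊔ L.map (MulAut.conj x).toMonoidHom) ⊓ Subgroup.centralizer ({x} : Set G), (L ⊔ L.map (MulAut.conj x).toMonoidHom) ⊓ Subgroup.centralizer ({x} : Set G)⁆ = π.range := by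
  set Lx := L.map (MulAut.conj x).toMonoidHom with hLx
  have hc : ∀ a ∈ L, ∀ b ∈ Lx, a * b = b * a := fun a ha b hb =>
    (Subgroup.mem_centralizer_iff.mp (Subgroup.commutator_eq_bot_iff_le_centralizer.mp hcomm ha) b hb).symm
  have hxx : x * x = 1 := by rw [← pow_two, ← hx, pow_orderOf_eq_one]
  have hmem : ∀ a ∈ L, x * a * x⁻¹ ∈ Lx := fun a ha => ⟨a, ha, rfl⟩
  have hinv : x⁻¹ = x := inv_eq_of_mul_eq_one_right hxx
  have hback : ∀ b ∈ Lx, x * b * x⁻¹ ∈ L := by
    rintro _ ⟨a, ha, rfl⟩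
    show x * (x * a * x⁻¹) * x⁻¹ ∈ L
    rw [hinv, show x * (x * a * x) * x = (x * x) * a * (x * x) by group, hxx, one_mul, mul_one]
    exact ha
  let π : ↥L →* G := MonoidHom.mk' (fun l => (l : G) * (x * (l : G) * x⁻¹)) (fun a b => by
    have h1 := hc b b.2 _ (hmem a a.2)
    calc ((a * b : ↥L) : G) * (x * ((a * b : ↥L) : G) * x⁻¹)
        = (a : G) * ((b : G) * (x * a * x⁻¹)) * (x * b * x⁻¹) := by
          simp only [Subgroup.coe_mul]; group
      _ = (a : G) * (x * a * x⁻¹) * ((b : G) * (x * b * x⁻¹)) := by rw [h1]; group)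
  have hπ : ∀ l : ↥L, π l = (l : G) * (x * (l : G) * x⁻¹) := fun _ => rfl
  have hrange : π.range ≤ (L ⊔ Lx) ⊓ Subgroup.centralizer ({x} : Set G) := by
    rintro _ ⟨l, rfl⟩
    refine ⟨mul_mem (Subgroup.mem_sup_left l.2) (Subgroup.mem_sup_right (hmem l l.2)),
      Subgroup.mem_centralizer_singleton_iff.mpr ?_⟩
    rw [hπ, hc l l.2 _ (hmem l l.2), hinv]
    calc x * (l : G) * x * l * x = x * l * x * l * x * 1 := by rw [mul_one]
      _ = x * ((l : G) * (x * l * x)) := by rw [mul_one]; group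
      _ = x * ((x * l * x) * (l : G)) := by rw [show x * (l : G) * x = x * l * x⁻¹ by rw [hinv], hc l l.2 _ (hmem l l.2)]
      _ = x * (x * l * x * l) := by group
      _ = x * ((x * l * x) * l) := rfl
  refine ⟨π, hπ, fun l hl => Subgroup.mem_center_iff.mpr fun m => Subtype.ext ?_,
    hrange.trans inf_le_right, ?_⟩
  · have h1 : (l : G) = (x * (l : G) * x⁻¹)⁻¹ := eq_inv_of_mul_eq_one_left hl
    show (m : G) * l = l * m
    rw [h1]
    exact hc m m.2 _ (inv_mem (hmem l l.2))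
  refine le_antisymm (Subgroup.commutator_le.mpr ?_) ?_
  · have hn : Lx ≤ Subgroup.normalizer (L : Set G) :=
      (Subgroup.commutator_eq_bot_iff_le_centralizer.mp (by rw [Subgroup.commutator_comm]; exact hcomm)).trans
        (Subgroup.centralizer_le_normalizer _)
    have key : ∀ m ∈ (L ⊔ Lx) ⊓ Subgroup.centralizer ({x} : Set G), ∃ l : ↥L, ∃ z : G,
        (∀ w ∈ L ⊔ Lx, w * z = z * w) ∧ m = π l * z := by
      rintro m ⟨hm, hmx⟩
      replace hm : m ∈ ((L ⊔ Lx : Subgroup G) : Set G) := hm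
      rw [Subgroup.coe_mul_of_right_le_normalizer_left L Lx hn, Set.mem_mul] at hm
      obtain ⟨a, ha, b, hb, rfl⟩ := hm
      replace ha : a ∈ L := ha
      replace hb : b ∈ Lx := hb
      set b₀ := x * b * x⁻¹ with hb₀
      have hb₀L : b₀ ∈ L := hback b hb
      have hfix : x * (a * b) * x⁻¹ = a * b :=
        mul_inv_eq_iff_eq_mul.mpr (Subgroup.mem_centralizer_singleton_iff.mp hmx).symm
      have hw : a⁻¹ * b₀ ∈ L ⊓ Lx := by
        refine Subgroup.mem_inf.mpr ⟨mul_mem (inv_mem ha) hb₀L, ?_⟩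
        have h2 : (x * a * x⁻¹) * b₀ = a * b := by rw [hb₀, ← hfix]; group
        have h3 : a⁻¹ * b₀ = b * (x * a * x⁻¹)⁻¹ := by
          have h4 : b₀ * (x * a * x⁻¹) = a * b := by rw [hc b₀ hb₀L _ (hmem a ha), h2]
          rw [eq_mul_inv_iff_mul_eq, mul_assoc, h4, inv_mul_cancel_left]
        rw [h3]
        exact mul_mem hb (inv_mem (hmem a ha))
      refine ⟨⟨a, ha⟩, x * (a⁻¹ * b₀) * x⁻¹, ?_, ?_⟩
      · intro w hw'
        have hle : L ⊔ Lx ≤ Subgroup.centralizer ({x * (a⁻¹ * b₀) * x⁻¹} : Set G) := by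
          refine sup_le (fun u hu => ?_) (fun u hu => ?_) <;>
            refine Subgroup.mem_centralizer_singleton_iff.mpr ?_
          · exact hc u hu _ (hmem _ hw.1)
          · exact (hc _ (hback _ hw.2) u hu).symm
        exact Subgroup.mem_centralizer_singleton_iff.mp (hle hw')
      · rw [hπ, hb₀]
        show a * b = _
        rw [show x * (a⁻¹ * (x * b * x⁻¹)) * x⁻¹ = (x * a * x⁻¹)⁻¹ * ((x * x) * b * (x * x)⁻¹) by group,
          hxx]
        group
    intro m hm n hn'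
    obtain ⟨l, z, hz, rfl⟩ := key m hm
    obtain ⟨k, w, hw, rfl⟩ := key n hn'
    refine ⟨l * k * l⁻¹ * k⁻¹, ?_⟩
    have hl := (hrange ⟨l, rfl⟩).1
    have hk := (hrange ⟨k, rfl⟩).1
    have e0 : ∀ (A B z : G), A * z = z * A → B * z = z * B →
        A * z * B * (A * z)⁻¹ = A * B * A⁻¹ := by
      intro A B z h1 h2
      rw [mul_assoc A z B, ← h2]; group
    rw [map_mul, map_mul, map_mul, map_inv, map_inv, commutatorElement_def]
    calc π l * π k * (π l)⁻¹ * (π k)⁻¹
        = (π l * π k * (π l)⁻¹) * (w * w⁻¹) * (π k)⁻¹ := by group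
      _ = (π l * z * π k * (π l * z)⁻¹) * w * (π k * w)⁻¹ := by rw [e0 _ _ z (hz _ hl) (hz _ hk)]; group
      _ = π l * z * (π k * w) * (π l * z)⁻¹ * (π k * w)⁻¹ := by
          have hmz : π l * z ∈ L ⊔ Lx := hm.1
          have h5 : (π l * z)⁻¹ * w = w * (π l * z)⁻¹ := hw _ (inv_mem hmz)
          calc _ = π l * z * π k * ((π l * z)⁻¹ * w) * (π k * w)⁻¹ := by group
            _ = π l * z * π k * (w * (π l * z)⁻¹) * (π k * w)⁻¹ := by rw [h5]
            _ = _ := by group
  · have hp : ⁅π.range, π.range⁆ = π.range := by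
      have h1 : ⁅(⊤ : Subgroup ↥L), (⊤ : Subgroup ↥L)⁆ = ⊤ := by
        refine Subgroup.map_injective L.subtype_injective ?_
        rw [Subgroup.map_commutator, ← MonoidHom.range_eq_map, Subgroup.range_subtype]
        exact hperf
      rw [MonoidHom.range_eq_map, ← Subgroup.map_commutator, h1]
    conv_lhs => rw [← hp]
    exact Subgroup.commutator_mono hrange hrange

end Cfsg.Agent.S1314
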