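import Cfsg.Statements.S1316
import Mathlib
import Cfsg.Agent.Lib.Layer.Basic

set_option autoImplicit false
open Cfsg

namespace Cfsg.Agent.S1316
open CfsgLib.Layer


/-- For a finite group X, E(X) equals the intersection of the derived series of F*(X) (its last term). -/
theorem result {X : Type*} [Group X] [Finite X] : (⨅ n : ℕ, (derivedSeries ↥(Cfsg.generalizedFittingSubgroup X) n).map (Cfsg.generalizedFittingSubgroup X).subtype) = Cfsg.layer X := by
  classical
  set S := Cfsg.generalizedFittingSubgroup X
  set E := Cfsg.layer X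
  haveI := CfsgLib.Fitting.fittingSubgroup_isNilpotent (G := X)
  refine le_antisymm ?_ (le_iInf fun n => ?_)
  · set E' := E.subgroupOf S
    haveI : E'.Normal := inferInstance
    let f : Cfsg.fittingSubgroup X →* S ⧸ E' :=
      (QuotientGroup.mk' E').comp (Subgroup.inclusion fittingSubgroup_le_generalizedFitting)
    have hf : Function.Surjective f := by
      intro q
      obtain ⟨⟨x, hx⟩, rfl⟩ := QuotientGroup.mk'_surjective E' q
      have hx' : x ∈ E ⊔ Cfsg.fittingSubgroup X := hx
      obtain ⟨e, he, g, hg, rfl⟩ := Subgroup.mem_sup_of_normal_left.mp hx'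
      refine ⟨⟨g, hg⟩, QuotientGroup.eq.mpr (Subgroup.mem_subgroupOf.mpr ?_)⟩
      have := (inferInstance : E.Normal).conj_mem e he g⁻¹
      simpa [mul_assoc] using this
    haveI : Group.IsSolvable (S ⧸ E') := Group.isSolvable_of_surjective hf
    obtain ⟨n, hn⟩ : ∃ n, derivedSeries (S ⧸ E') n = ⊥ :=
      (inferInstance : Group.IsSolvable (S ⧸ E')).solvable
    refine iInf_le_of_le n ?_
    rw [← map_derivedSeries_eq (QuotientGroup.mk'_surjective E') n, Subgroup.map_eq_bot_iff,
      QuotientGroup.ker_mk'] at hn
    exact (Subgroup.map_mono hn).trans (Subgroup.map_comap_le _ _)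
  · induction n with
    | zero =>
      rw [derivedSeries_zero, ← MonoidHom.range_eq_map, Subgroup.range_subtype]
      exact le_sup_left
    | succ n ih =>
      rw [derivedSeries_succ, Subgroup.map_commutator]
      exact commutator_layer_self.ge.trans (Subgroup.commutator_mono ih ih)

end Cfsg.Agent.S1316
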