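import Cfsg.Statements.S1317
import Mathlib
import Cfsg.Agent.Lib.Layer.FStar

set_option autoImplicit false
open Cfsg

namespace Cfsg.Agent.S1317
open CfsgLib.Layer


/-- For a finite group X, the centre of the layer E(X) is F(X) ∩ E(X). -/
theorem result {X : Type*} [Group X] [Finite X] : (Subgroup.center ↥(Cfsg.layer X)).map (Cfsg.layer X).subtype = Cfsg.fittingSubgroup X ⊓ Cfsg.layer X := by
  refine le_antisymm ?_ ?_
  · rintro _ ⟨z, hz, rfl⟩
    refine ⟨layer_inf_centralizer_le_fitting ⟨z.2, Subgroup.mem_centralizer_iff.mpr fun x hx => ?_⟩, z.2⟩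
    exact congrArg Subtype.val (Subgroup.mem_center_iff.mp hz ⟨x, hx⟩)
  · rintro x ⟨hxF, hxE⟩
    exact ⟨⟨x, hxE⟩, Subgroup.mem_center_iff.mpr fun y => Subtype.ext
      (Subgroup.mem_centralizer_iff.mp (fitting_le_centralizer_layer hxF) y y.2), rfl⟩

end Cfsg.Agent.S1317
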