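import Cfsg.Statements.S1319
import Mathlib
import Cfsg.Agent.Lib.Layer.FStar

set_option autoImplicit false
open Cfsg

namespace Cfsg.Agent.S1319
open CfsgLib.Layer


/-- Let A be a subnormal subgroup of the finite group X with E(A) = A. Then A ≤ E(X) and A is normal in E(X). -/
theorem result {X : Type*} [Group X] [Finite X] (A : Subgroup X) (hsn : A.IsSubnormal) (hA : Cfsg.layer ↥A = ⊤) : A ≤ Cfsg.layer X ∧ (A.subgroupOf (Cfsg.layer X)).Normal := by
  have hAE : A ≤ Cfsg.layer X := by
    have h := map_layer_le hsn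
    rwa [hA, ← MonoidHom.range_eq_map, Subgroup.range_subtype] at h
  refine ⟨hAE, (Subgroup.normal_subgroupOf_iff_le_normalizer hAE).mpr fun x hx => ?_⟩
  refine Subgroup.mem_normalizer_fintype fun a ha => ?_
  have h1 : (Cfsg.layer A).map A.subtype ≤ A.comap (MulAut.conj x).toMonoidHom := by
    rw [Cfsg.layer, Subgroup.map_le_iff_le_comap]
    refine sSup_le fun K hK => ?_
    rw [← Subgroup.map_le_iff_le_comap]
    intro k hk
    exact Subgroup.map_subtype_le K ((Subgroup.mem_normalizer_iff.mp
      (component_normal_in_layer ((isComponent_map_subtype_iff hsn K).mp hK) hx) k).mp hk)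
  rw [hA, ← MonoidHom.range_eq_map, Subgroup.range_subtype] at h1
  exact h1 ha

end Cfsg.Agent.S1319
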