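import Cfsg.Statements.S1321
import Mathlib
import Cfsg.Agent.Lib.Layer.FStar
import Cfsg.Agent.Lib.Coprime.Action

set_option autoImplicit false
open Cfsg

namespace Cfsg.Agent.S1321
open CfsgLib.Layer


/-- Let X be finite and U ≤ X. Then E(X) is generated by C_{E(X)}(U) together with ⁅E(X), U⁆ (indeed it is their product, ⁅E(X), U⁆ being normal in E(X)). -/
theorem result {X : Type*} [Group X] [Finite X] (U : Subgroup X) : Cfsg.layer X = (Cfsg.layer X ⊓ Subgroup.centralizer (U : Set X)) ⊔ ⁅Cfsg.layer X, U⁆ ∧ ⁅Cfsg.layer X, U⁆ ≤ Cfsg.layer X := by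
  set E := Cfsg.layer X
  set D := ⁅E, U⁆
  have hDE : D ≤ E := Subgroup.commutator_le_left E U
  refine ⟨le_antisymm ?_ (sup_le inf_le_left hDE), hDE⟩
  have hDn : (D.subgroupOf E).Normal :=
    (Subgroup.normal_subgroupOf_iff_le_normalizer hDE).mpr
      (Subgroup.normalizer_commutator_ge_left E U)
  have hDs : D.IsSubnormal := Subgroup.IsSubnormal.step D E hDE (layer_normal (G := X)).isSubnormal hDn
  refine sSup_le fun L hL => ?_
  rcases le_or_commutator_eq_bot hL hDs with h | h
  · exact le_sup_of_le_right h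
  · refine le_sup_of_le_left (le_inf (isComponent_le_layer hL)
      (Subgroup.commutator_eq_bot_iff_le_centralizer.mp ?_))
    refine commutator_eq_bot_of_perfect (isPerfect_of_isComponent hL) ?_
    rw [Subgroup.commutator_comm]
    exact le_bot_iff.mp (h ▸ Subgroup.commutator_mono le_rfl
      (Subgroup.commutator_mono (isComponent_le_layer hL) le_rfl))

end Cfsg.Agent.S1321
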