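import Cfsg.Statements.S1323
import Cfsg.Agent.Lib.Layer.Basic

set_option autoImplicit false
set_option linter.style.haveILetI false
open Cfsg
open scoped commutatorElement

namespace Cfsg.Agent.S1323

open Equiv Equiv.Perm

variable {n : ℕ}

/-- The even permutations fixing every point where `P` holds. -/
def fixing (P : Fin n → Prop) : Subgroup (alternatingGroup (Fin n)) where
  carrier := {g | ∀ i, P i → (g : Perm (Fin n)) i = i}
  one_mem' := fun i _ => rfl
  mul_mem' := fun {a b} ha hb i hi => by
    show (a : Perm (Fin n)) ((b : Perm (Fin n)) i) = i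
    rw [hb i hi, ha i hi]
  inv_mem' := fun {a} ha i hi => by
    show (a : Perm (Fin n))⁻¹ i = i
    rw [Perm.inv_eq_iff_eq]
    exact (ha i hi).symm

theorem mem_fixing {P : Fin n → Prop} {g : alternatingGroup (Fin n)} :
    g ∈ fixing P ↔ ∀ i, P i → (g : Perm (Fin n)) i = i := Iff.rfl

/-- A three-cycle avoiding given points and moving a prescribed one. -/
theorem exists_moving (P : Fin n → Prop) (s : Finset (Fin n)) (hs : 3 ≤ s.card) (hsP : ∀ i ∈ s, ¬ P i)
    (x : Fin n) (hx : x ∈ s) : ∃ c ∈ fixing P, (c : Perm (Fin n)) x ≠ x := by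
  classical
  obtain ⟨y, hy⟩ : (s.erase x).Nonempty := Finset.card_pos.1 (by rw [Finset.card_erase_of_mem hx]; omega)
  obtain ⟨z, hz⟩ : ((s.erase x).erase y).Nonempty :=
    Finset.card_pos.1 (by rw [Finset.card_erase_of_mem hy, Finset.card_erase_of_mem hx]; omega)
  simp only [Finset.mem_erase, Finset.mem_erase] at hy hz
  obtain ⟨hyx, hys⟩ := hy
  obtain ⟨hzy, hzx, hzs⟩ := hz
  refine ⟨⟨Equiv.swap x y * Equiv.swap x z, ?_⟩, fun i hi => ?_, ?_⟩
  · rw [Perm.mem_alternatingGroup, map_mul, Perm.sign_swap (Ne.symm hyx), Perm.sign_swap (Ne.symm hzx)]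
    rfl
  · have h1 : i ≠ x := fun h => hsP x hx (h ▸ hi)
    have h2 : i ≠ y := fun h => hsP y hys (h ▸ hi)
    have h3 : i ≠ z := fun h => hsP z hzs (h ▸ hi)
    show Equiv.swap x y (Equiv.swap x z i) = i
    rw [Equiv.swap_apply_of_ne_of_ne h1 h3, Equiv.swap_apply_of_ne_of_ne h1 h2]
  · show Equiv.swap x y (Equiv.swap x z x) ≠ x
    rw [Equiv.swap_apply_left, Equiv.swap_apply_of_ne_of_ne hzx hzy]
    exact hzx


/-- For n ≥ 9, the subgroup of the alternating group on Fin n fixing each of the points 0, 1, 2, 3 is a standard subgroup. -/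
theorem result (n : ℕ) (h4 : 4 ≤ n) (hn : 9 ≤ n) : Cfsg.IsStandardSubgroup (⨅ i : Fin 4, MulAction.stabilizer ↥(alternatingGroup (Fin n)) (Fin.castLE h4 i : Fin n)) := by
  classical
  set T : Fin n → Prop := fun i => (i : ℕ) < 4 with hT
  set O : Fin n → Prop := fun i => ¬ (i : ℕ) < 4 with hO
  have hL : (⨅ i : Fin 4, MulAction.stabilizer ↥(alternatingGroup (Fin n)) (Fin.castLE h4 i : Fin n)) =
      fixing T := by
    ext g
    simp only [Subgroup.mem_iInf, MulAction.mem_stabilizer_iff, mem_fixing]
    constructor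
    · intro h i hi
      have := h ⟨i, hi⟩
      exact this
    · intro h i
      exact h _ i.2
  rw [hL]
  set L := fixing T
  set K := fixing O
  let Tset : Finset (Fin n) := (Finset.univ : Finset (Fin 4)).map ⟨Fin.castLE h4, Fin.castLE_injective _⟩
  have hTset : ∀ i, i ∈ Tset ↔ T i := fun i => by
    simp only [Tset, Finset.mem_map, Finset.mem_univ, true_and, Function.Embedding.coeFn_mk]
    exact ⟨fun ⟨j, hj⟩ => by rw [← hj]; exact j.2, fun hi => ⟨⟨i, hi⟩, rfl⟩⟩
  have hTcard : Tset.card = 4 := by simp [Tset]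
  have hOcard : (Tsetᶜ).card = n - 4 := by rw [Finset.card_compl, hTcard, Fintype.card_fin]
  have hOmem : ∀ i, i ∈ Tsetᶜ ↔ O i := fun i => by rw [Finset.mem_compl, hTset]
  have moveL : ∀ x, O x → ∃ c ∈ L, (c : Perm (Fin n)) x ≠ x := fun x hx =>
    exists_moving T (Tsetᶜ) (by omega) (fun i hi => (hOmem i).1 hi) x ((hOmem x).2 hx)
  have moveK : ∀ x, T x → ∃ c ∈ K, (c : Perm (Fin n)) x ≠ x := fun x hx =>
    exists_moving O Tset (by omega) (fun i hi => not_not.2 ((hTset i).1 hi)) x ((hTset x).2 hx)
  have hKT : ∀ g ∈ K, ∀ i, T i → T ((g : Perm (Fin n)) i) := fun g hg i hi => by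
    by_contra h
    have h2 := hg _ h
    exact h (((g : Perm (Fin n)).injective h2).symm ▸ hi)
  have hLO : ∀ g ∈ L, ∀ i, O i → O ((g : Perm (Fin n)) i) := fun g hg i hi h => by
    have h2 := hg _ h
    exact hi (((g : Perm (Fin n)).injective h2) ▸ h)
  have hC : Subgroup.centralizer (L : Set ↥(alternatingGroup (Fin n))) = K := by
    ext g
    rw [Subgroup.mem_centralizer_iff]
    constructor
    · intro hg x hx
      by_contra hne
      have happ : ∀ c ∈ L, (c : Perm (Fin n)) ((g : Perm (Fin n)) x) =
          (g : Perm (Fin n)) ((c : Perm (Fin n)) x) := fun c hc =>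
        congrArg (fun w : ↥(alternatingGroup (Fin n)) => (w : Perm (Fin n)) x) (hg c hc)
      by_cases hgx : T ((g : Perm (Fin n)) x)
      · obtain ⟨c, hc, hcx⟩ := moveL x hx
        have := happ c hc
        rw [hc _ hgx] at this
        exact hcx ((g : Perm (Fin n)).injective this.symm)
      · obtain ⟨c, hc, hcx⟩ := exists_moving (fun i => T i ∨ i = x) ((Tsetᶜ).erase x)
          (by rw [Finset.card_erase_of_mem ((hOmem x).2 hx)]; omega)
          (fun i hi => by
            rw [Finset.mem_erase] at hi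
            rintro (h | h)
            · exact (hOmem i).1 hi.2 h
            · exact hi.1 h)
          ((g : Perm (Fin n)) x) (Finset.mem_erase.2 ⟨hne, (hOmem _).2 hgx⟩)
        have := happ c (fun i hi => hc i (Or.inl hi))
        rw [hc x (Or.inr rfl)] at this
        exact hcx this
    · intro hg c hc
      refine Subtype.ext (Equiv.ext fun i => ?_)
      show (c : Perm (Fin n)) ((g : Perm (Fin n)) i) = (g : Perm (Fin n)) ((c : Perm (Fin n)) i)
      by_cases hi : T i
      · rw [hc i hi, hc _ (hKT g hg i hi)]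
      · rw [hg i hi, hg _ (hLO c hc i hi)]
  have hiff : ∀ g : ↥(alternatingGroup (Fin n)), (∀ i, T i → T ((g : Perm (Fin n)) i)) →
      ∀ i, T i → T ((g : Perm (Fin n))⁻¹ i) := fun g hg => by
    have := Equiv.Perm.perm_symm_mapsTo_of_mapsTo (g : Perm (Fin n)) (s := {i | T i}) hg
    exact fun i hi => this hi
  have hNL : ∀ g : ↥(alternatingGroup (Fin n)),
      g ∈ Subgroup.normalizer (L : Set ↥(alternatingGroup (Fin n))) ↔ ∀ i, T i → T ((g : Perm (Fin n)) i) := by
    intro g
    constructor
    · intro hg i hi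
      by_contra h
      obtain ⟨c, hc, hcx⟩ := moveL _ h
      have h2 := (Subgroup.mem_normalizer_iff.1 (inv_mem hg) c).1 hc
      have h3 := h2 i hi
      simp only [inv_inv, Subgroup.coe_mul, Perm.mul_apply, InvMemClass.coe_inv, Perm.inv_eq_iff_eq] at h3
      exact hcx h3
    · intro hg
      refine Subgroup.mem_normalizer_fintype fun c hc i hi => ?_
      show (g : Perm (Fin n)) ((c : Perm (Fin n)) ((g : Perm (Fin n))⁻¹ i)) = i
      rw [hc _ (hiff g hg i hi)]
      exact (g : Perm (Fin n)).apply_symm_apply _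
  have hNK : ∀ g : ↥(alternatingGroup (Fin n)),
      g ∈ Subgroup.normalizer (K : Set ↥(alternatingGroup (Fin n))) ↔ ∀ i, T i → T ((g : Perm (Fin n)) i) := by
    intro g
    constructor
    · intro hg i hi
      by_contra h
      obtain ⟨c, hc, hcx⟩ := moveK i hi
      have h2 := (Subgroup.mem_normalizer_iff.1 hg c).1 hc
      have h3 := h2 _ h
      simp only [Subgroup.coe_mul, Perm.mul_apply, InvMemClass.coe_inv, Perm.inv_def, Equiv.symm_apply_apply] at h3
      exact hcx ((g : Perm (Fin n)).injective h3)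
    · intro hg
      refine Subgroup.mem_normalizer_fintype fun c hc i hi => ?_
      show (g : Perm (Fin n)) ((c : Perm (Fin n)) ((g : Perm (Fin n))⁻¹ i)) = i
      rw [hc _ ?_]
      · exact (g : Perm (Fin n)).apply_symm_apply _
      · intro h
        have := hg _ h
        rw [Perm.inv_def, Equiv.apply_symm_apply] at this
        exact hi this
  refine ⟨?_, ?_, ?_, ?_⟩
  · -- `L` is a copy of the alternating group on the remaining points
    let S := {i : Fin n // O i}
    have hS5 : 5 ≤ Nat.card S := by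
      rw [Nat.card_eq_fintype_card, Fintype.card_of_subtype (Tsetᶜ) (fun i => hOmem i), hOcard]; omega
    let f : ↥(alternatingGroup S) →* ↥(alternatingGroup (Fin n)) :=
      ((Perm.ofSubtype : Perm S →* Perm (Fin n)).comp (alternatingGroup S).subtype).codRestrict _
        fun g => Perm.mem_alternatingGroup.2 (by
          show Perm.sign (Perm.ofSubtype (g : Perm S)) = 1
          rw [Perm.sign_ofSubtype]; exact Perm.mem_alternatingGroup.1 g.2)
    have hfi : Function.Injective f := fun a b h =>
      Subtype.ext (Perm.ofSubtype_injective (congrArg Subtype.val h))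
    have hrange : f.range = L := by
      ext g
      constructor
      · rintro ⟨a, rfl⟩ i hi
        exact Perm.ofSubtype_apply_of_not_mem (a : Perm S) (not_not.2 hi)
      · intro hg
        have h1 : ∀ x, O ((g : Perm (Fin n)) x) ↔ O x := fun x =>
          ⟨fun h hx => h (by rw [hg x hx]; exact hx), fun h => hLO g hg x h⟩
        have h2 : ∀ x, (g : Perm (Fin n)) x ≠ x → O x := fun x hx h => hx (hg x h)
        refine ⟨⟨(g : Perm (Fin n)).subtypePerm h1, Perm.mem_alternatingGroup.2 ?_⟩, Subtype.ext ?_⟩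
        · rw [← Perm.sign_ofSubtype, Perm.ofSubtype_subtypePerm h1 h2]
          exact Perm.mem_alternatingGroup.1 g.2
        · exact Perm.ofSubtype_subtypePerm h1 h2
    haveI := alternatingGroup.isSimpleGroup hS5
    haveI hp : Group.IsPerfect ↥(alternatingGroup S) := ⟨by
      rw [eq_top_iff, ← commutator_alternatingGroup_eq_top (α := S) hS5]⟩
    have hq : Cfsg.IsQuasisimple ↥(alternatingGroup S) :=
      CfsgLib.Layer.isQuasisimple_of_normal_le_center fun N hN =>
        (hN.eq_bot_or_eq_top).symm.imp id (fun h => by rw [h]; exact bot_le)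
    exact CfsgLib.Layer.isQuasisimple_of_mulEquiv
      ((MonoidHom.ofInjective hfi).trans (MulEquiv.subgroupCongr hrange)) hq
  · rw [hC]
    refine ⟨?_, fun g hg => ?_⟩
    · let a : Fin 4 → Fin n := Fin.castLE h4
      have ha : ∀ j, T (a j) := fun j => j.2
      have hne : ∀ j k, j ≠ k → a j ≠ a k := fun j k h e => h (Fin.castLE_injective h4 e)
      let w : ↥(alternatingGroup (Fin n)) := ⟨Equiv.swap (a 0) (a 1) * Equiv.swap (a 2) (a 3), by
        rw [Perm.mem_alternatingGroup, map_mul, Perm.sign_swap (hne 0 1 (by decide)),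
          Perm.sign_swap (hne 2 3 (by decide))]
        rfl⟩
      have hw : w ∈ K := fun i hi => by
        have h : ∀ j, i ≠ a j := fun j e => hi (by rw [e]; exact ha j)
        show Equiv.swap (a 0) (a 1) (Equiv.swap (a 2) (a 3) i) = i
        rw [Equiv.swap_apply_of_ne_of_ne (h 2) (h 3), Equiv.swap_apply_of_ne_of_ne (h 0) (h 1)]
      have hw2 : w ^ 2 = 1 := by
        refine Subtype.ext (Equiv.ext fun i => ?_)
        have hcm : Commute (Equiv.swap (a 0) (a 1)) (Equiv.swap (a 2) (a 3)) :=
          (Equiv.Perm.disjoint_iff_disjoint_support.2 (by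
            rw [Perm.support_swap (hne 0 1 (by decide)), Perm.support_swap (hne 2 3 (by decide))]
            simp [hne 2 0 (by decide), hne 2 1 (by decide), hne 3 0 (by decide), hne 3 1 (by decide)])).commute
        show ((Equiv.swap (a 0) (a 1) * Equiv.swap (a 2) (a 3)) ^ 2) i = i
        rw [hcm.mul_pow, sq, sq, Equiv.swap_mul_self, Equiv.swap_mul_self]
        rfl
      have hw1 : w ≠ 1 := fun e => by
        have h : Equiv.swap (a 0) (a 1) (Equiv.swap (a 2) (a 3) (a 0)) = a 0 :=
          congrArg (fun v : ↥(alternatingGroup (Fin n)) => (v : Perm (Fin n)) (a 0)) e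
        rw [Equiv.swap_apply_of_ne_of_ne (hne 0 2 (by decide)) (hne 0 3 (by decide)),
          Equiv.swap_apply_left] at h
        exact hne 1 0 (by decide) h
      rw [even_iff_two_dvd, ← orderOf_eq_prime hw2 hw1, ← Subgroup.orderOf_mk w hw]
      exact orderOf_dvd_natCard _
    · rw [hNK] at hg
      push Not at hg
      obtain ⟨t0, ht0, hgt0⟩ := hg
      obtain ⟨t, ht, hgt⟩ : ∃ t, T t ∧ ¬ T ((g : Perm (Fin n))⁻¹ t) := by
        by_contra h
        push Not at h
        have := hiff g⁻¹ h t0 ht0
        rw [InvMemClass.coe_inv, inv_inv] at this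
        exact hgt0 this
      rw [← Nat.not_even_iff_odd, even_iff_two_dvd]
      intro h2
      haveI : Fact (Nat.Prime 2) := ⟨Nat.prime_two⟩
      obtain ⟨y, hy⟩ := exists_prime_orderOf_dvd_card' 2 h2
      rw [← Subgroup.orderOf_coe] at hy
      obtain ⟨hyK, k, hk, hky⟩ := Subgroup.mem_inf.1 y.2
      have hsupp : ((y : ↥(alternatingGroup (Fin n))) : Perm (Fin n)).support ⊆ Tset.erase t := by
        intro i hi
        rw [Perm.mem_support] at hi
        rw [Finset.mem_erase, hTset]
        refine ⟨?_, by_contra fun h => hi (hyK i h)⟩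
        rintro rfl
        apply hi
        rw [← hky]
        show (g : Perm (Fin n)) ((k : Perm (Fin n)) ((g : Perm (Fin n))⁻¹ i)) = i
        rw [hk _ hgt]
        exact (g : Perm (Fin n)).apply_symm_apply _
      set σ := ((y : ↥(alternatingGroup (Fin n))) : Perm (Fin n)) with hσ
      have hσ2 : orderOf σ = 2 := by rw [hσ, Subgroup.orderOf_coe, hy]
      have hle := Finset.card_le_card hsupp
      rw [Finset.card_erase_of_mem ((hTset t).2 ht), hTcard] at hle
      obtain ⟨m, hm⟩ := Perm.cycleType_prime_order (σ := σ) (by rw [hσ2]; exact Nat.prime_two)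
      rw [hσ2] at hm
      have hsum := σ.sum_cycleType
      rw [hm, Multiset.sum_replicate, smul_eq_mul] at hsum
      have hcard : σ.support.card = 2 := by omega
      have hsgn := (Perm.card_support_eq_two.1 hcard).sign_eq
      rw [Perm.mem_alternatingGroup.1 (y : ↥(alternatingGroup (Fin n))).2] at hsgn
      exact absurd hsgn (by decide)
  · intro g _ hbot
    have hle : L.map (MulAut.conj g).toMonoidHom ≤ K := by
      rw [← hC, ← Subgroup.commutator_eq_bot_iff_le_centralizer, Subgroup.commutator_comm]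
      exact hbot
    obtain ⟨i, hi, hgi⟩ : ∃ i, O i ∧ O ((g : Perm (Fin n)) i) := by
      by_contra h
      push Not at h
      have hsub : (Tsetᶜ).image (g : Perm (Fin n)) ⊆ Tset := by
        intro j hj
        obtain ⟨i, hi, rfl⟩ := Finset.mem_image.1 hj
        exact (hTset _).2 (not_not.1 (h i ((hOmem i).1 hi)))
      have := Finset.card_le_card hsub
      rw [Finset.card_image_of_injective _ (g : Perm (Fin n)).injective] at this
      omega
    obtain ⟨c, hc, hcx⟩ := moveL i hi
    have h3 := hle ⟨c, hc, rfl⟩ _ hgi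
    simp only [MulEquiv.coe_toMonoidHom, MulAut.conj_apply, Subgroup.coe_mul, Perm.mul_apply,
      InvMemClass.coe_inv, Perm.inv_def, Equiv.symm_apply_apply] at h3
    exact hcx ((g : Perm (Fin n)).injective h3)
  · rw [hC]
    ext g
    rw [hNL, hNK]

end Cfsg.Agent.S1323
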