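import Cfsg.Statements.S1326
import Mathlib
import Cfsg.Agent.Lib.Layer.FStar

set_option autoImplicit false
open Cfsg

namespace Cfsg.Agent.S1326
open CfsgLib.Layer


/-- For a finite group X: the Fitting subgroup contains its centralizer if and only if the layer of X is trivial. -/
theorem result {X : Type*} [Group X] [Finite X] : Subgroup.centralizer (Cfsg.fittingSubgroup X : Set X) ≤ Cfsg.fittingSubgroup X ↔ Cfsg.layer X = ⊥ := by
  refine ⟨fun h => layer_eq_bot_iff.mpr fun L hL => ?_, centralizer_fittingSubgroup_le⟩
  refine not_isSolvable_of_isComponent hL (CfsgLib.Coprime.isSolvable_of_le ?_ fittingSubgroup_isSolvable)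
  exact ((isComponent_le_layer hL).trans
    (Subgroup.commutator_eq_bot_iff_le_centralizer.mp commutator_layer_fitting)).trans h

end Cfsg.Agent.S1326
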