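import Cfsg.Statements.S1328
import Cfsg.Agent.Lib.Signalizer.ComponentBalance
import Cfsg.Agent.Lib.Layer.PLocal

set_option autoImplicit false
open Cfsg
open scoped commutatorElement

namespace Cfsg.Agent.S1328

/-- Let G be finite, H ≤ G with O(H) = 1, t an involution of G normalizing H, and Y a nontrivial subgroup of O(C_H(t)). Then some component E of H is normalized by t and by Y and centralized by neither t nor Y. -/
theorem result {G : Type*} [Group G] [Finite G] (H : Subgroup G) (hO : Cfsg.oddCore ↥H = ⊥) (t : G) (ht : orderOf t = 2) (htH : t ∈ Subgroup.normalizer (H : Set G)) (Y : Subgroup G) (hY1 : Y ≠ ⊥) (hY : Y ≤ (Cfsg.oddCore ↥(H ⊓ Subgroup.centralizer ({t} : Set G))).map (H ⊓ Subgroup.centralizer ({t} : Set G)).subtype) : ∃ E : Subgroup ↥H, Cfsg.IsComponent E ∧ (E.map H.subtype).map (MulAut.conj t).toMonoidHom = E.map H.subtype ∧ Y ≤ Subgroup.normalizer ((E.map H.subtype : Subgroup G) : Set G) ∧ ¬ (t ∈ Subgroup.centralizer ((E.map H.subtype : Subgroup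 G) : Set G)) ∧ ¬ (Y ≤ Subgroup.centralizer ((E.map H.subtype : Subgroup G) : Set G)) := by
  haveI : Fact (Nat.Prime 2) := ⟨Nat.prime_two⟩
  set X := H ⊔ Subgroup.zpowers t with hX
  have hHX : H ≤ X := le_sup_left
  have htX : t ∈ X := Subgroup.mem_sup_right (Subgroup.mem_zpowers t)
  have hXN : X ≤ Subgroup.normalizer (H : Set G) :=
    sup_le Subgroup.le_normalizer (Subgroup.zpowers_le.mpr htH)
  set H' := H.subgroupOf X with hH'
  haveI : H'.Normal := Subgroup.normal_subgroupOf_of_le_normalizer hXN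
  set t' : ↥X := ⟨t, htX⟩ with ht'
  have ht2 : t' ^ 2 = 1 := Subtype.ext (by rw [SubmonoidClass.coe_pow]; exact ht ▸ pow_orderOf_eq_one t)
  -- the quotient is generated by the image of `t`
  set f := QuotientGroup.mk' H' with hf
  have hquot : ∀ q : ↥X ⧸ H', q ∈ Subgroup.zpowers (f t') := by
    intro q
    obtain ⟨⟨g, hg⟩, rfl⟩ := QuotientGroup.mk'_surjective H' q
    obtain ⟨h, hh, s, ⟨k, rfl⟩, rfl⟩ := (Subgroup.coe_mul_of_right_le_normalizer_left H (Subgroup.zpowers t)
      (Subgroup.zpowers_le.mpr htH)).le hg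
    refine ⟨k, ?_⟩
    show (f t') ^ k = f ⟨h * t ^ k, hg⟩
    rw [← map_zpow]
    have h1 : f ⟨h, hHX hh⟩ = 1 := (QuotientGroup.eq_one_iff _).mpr hh
    have h2 : (⟨h * t ^ k, hg⟩ : ↥X) = ⟨h, hHX hh⟩ * t' ^ k := Subtype.ext (by simp [ht'])
    rw [h2, map_mul, h1, one_mul]
  have hOX : Cfsg.pPrimeCore 2 ↥X = ⊥ := by
    have h1 : Cfsg.pPrimeCore 2 ↥X ≤ H' := by
      intro z hz
      by_contra hzH
      have h2 : f z ≠ 1 := fun h => hzH ((QuotientGroup.eq_one_iff z).mp h)
      have h3 : orderOf (f z) ∣ 2 := by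
        obtain ⟨k, hk⟩ := hquot (f z)
        refine orderOf_dvd_of_pow_eq_one ?_
        rw [← hk, ← zpow_natCast, ← zpow_mul, mul_comm, zpow_mul, zpow_natCast, ← map_pow, ht2, map_one, one_zpow]
      rcases (Nat.dvd_prime Nat.prime_two).mp h3 with h4 | h4
      · exact h2 (orderOf_eq_one_iff.mp h4)
      · refine (Nat.Prime.coprime_iff_not_dvd Nat.prime_two).mp
          (CfsgLib.Transfer.pPrimeCore_coprime (G := ↥X) 2).symm ?_
        have h5 := orderOf_dvd_natCard (⟨z, hz⟩ : ↥(Cfsg.pPrimeCore 2 ↥X))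
        rw [← Subgroup.orderOf_coe] at h5
        have h6 := (orderOf_map_dvd f z).trans h5
        rwa [h4] at h6
    have h2 : (Cfsg.pPrimeCore 2 ↥X).subgroupOf H' ≤ Cfsg.pPrimeCore 2 ↥H' :=
      CfsgLib.Transfer.le_pPrimeCore inferInstance (by
        rw [Nat.card_congr (Subgroup.subgroupOfEquivOfLe h1).toEquiv]
        exact CfsgLib.Transfer.pPrimeCore_coprime 2)
    have h3 : Cfsg.pPrimeCore 2 ↥H' = ⊥ := by
      set e := Subgroup.subgroupOfEquivOfLe hHX
      refine eq_bot_iff.mpr fun z hz => ?_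
      have h4 : e z ∈ Cfsg.oddCore ↥H := by
        refine CfsgLib.Transfer.le_pPrimeCore (N := (Cfsg.pPrimeCore 2 ↥H').map e.toMonoidHom)
          (Subgroup.Normal.map inferInstance _ e.surjective) ?_ ⟨z, hz, rfl⟩
        rw [Subgroup.card_map_of_injective e.injective]
        exact CfsgLib.Transfer.pPrimeCore_coprime 2
      rw [hO, Subgroup.mem_bot] at h4
      exact Subgroup.mem_bot.mpr (e.map_eq_one_iff.mp h4)
    rw [h3, le_bot_iff, Subgroup.subgroupOf_eq_bot] at h2
    exact eq_bot_iff.mpr ((le_inf le_rfl h1).trans (disjoint_iff.mp h2).le)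
  set Y₀ := (Cfsg.oddCore ↥(H ⊓ Subgroup.centralizer ({t} : Set G))).map
    (H ⊓ Subgroup.centralizer ({t} : Set G)).subtype with hY₀
  set D := Y₀.subgroupOf X with hD
  have hzp : Subgroup.centralizer ((Subgroup.zpowers t' : Subgroup ↥X) : Set ↥X)
      = Subgroup.centralizer ({t'} : Set ↥X) := by
    rw [Subgroup.zpowers_eq_closure, Subgroup.centralizer_closure]
  have htp : IsPGroup 2 ↥(Subgroup.zpowers t') :=
    CfsgLib.Signalizer.ComponentBalance.isPGroup_zpowers ht2
  have hD0 : D ≤ CfsgLib.Layer.PLocal.core0 2 (Subgroup.zpowers t') := by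
    refine CfsgLib.Layer.PLocal.le_core0 htp ?_ ?_ ?_
    · rw [hzp]
      intro d hd
      have h1 := (Subgroup.map_subtype_le _) (Subgroup.mem_subgroupOf.mp hd)
      exact Subgroup.mem_centralizer_singleton_iff.mpr
        (Subtype.ext (Subgroup.mem_centralizer_singleton_iff.mp h1.2))
    · rw [hzp]
      intro c hc
      have hcG : (c : G) ∈ Subgroup.centralizer ({t} : Set G) :=
        Subgroup.mem_centralizer_singleton_iff.mpr
          (congrArg Subtype.val (Subgroup.mem_centralizer_singleton_iff.mp hc))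
      have h1 : (c : G) ∈ Subgroup.normalizer (Y₀ : Set G) := by
        refine CfsgLib.PSolvable.le_normalizer_map_of_characteristic
          (A := X ⊓ Subgroup.centralizer ({t} : Set G)) ?_ _ ⟨c.2, hcG⟩
        exact CfsgLib.Coprime.le_normalizer_inf_of_le (inf_le_left.trans hXN)
          (inf_le_right.trans Subgroup.le_normalizer)
      exact Subgroup.le_normalizer_comap X.subtype h1
    · refine (CfsgLib.Transfer.pPrimeCore_coprime
        (G := ↥(H ⊓ Subgroup.centralizer ({t} : Set G))) 2).coprime_dvd_left ?_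
      rw [hD, Nat.card_congr (Subgroup.subgroupOfEquivOfLe
        ((Subgroup.map_subtype_le _).trans (inf_le_left.trans hHX))).toEquiv,
        Subgroup.card_map_of_injective (Subgroup.subtype_injective _)]
  obtain ⟨K, hK, hKY⟩ : ∃ K : Subgroup ↥X, Cfsg.IsComponent K ∧
      ¬ Y.subgroupOf X ≤ Subgroup.centralizer (K : Set ↥X) := by
    by_contra hcon
    push Not at hcon
    have hle : Y.subgroupOf X ≤ CfsgLib.Layer.PLocal.core0 2 (Subgroup.zpowers t') :=
      (Subgroup.comap_mono hY).trans hD0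
    have h1 := CfsgLib.Layer.PLocal.eq_bot_of_centralizes_components hOX
      ((CfsgLib.Layer.PLocal.coprime_core0 _).coprime_dvd_left (Subgroup.card_dvd_of_le hle))
      (hle.trans ((CfsgLib.Layer.PLocal.core0_le _).trans inf_le_right)) hcon
    refine hY1 ?_
    rw [Subgroup.subgroupOf_eq_bot] at h1
    exact eq_bot_iff.mpr ((le_inf le_rfl (hY.trans ((Subgroup.map_subtype_le _).trans
      (inf_le_left.trans hHX)))).trans (disjoint_iff.mp h1).le)
  have hne : t' ∈ Subgroup.normalizer (K : Set ↥X) ∧ t' ∉ Subgroup.centralizer (K : Set ↥X) := by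
    by_contra hcon
    refine hKY (((Subgroup.comap_mono hY).trans hD0).trans
      (CfsgLib.Layer.PLocal.core0_le_centralizer hOX ht2 hK fun h => ?_))
    by_contra h2
    exact hcon ⟨h, h2⟩
  have hYN : Y.subgroupOf X ≤ Subgroup.normalizer (K : Set ↥X) :=
    ((Subgroup.comap_mono hY).trans hD0).trans (CfsgLib.Layer.PLocal.core0_le_normalizer hOX htp hK)
  -- the component lies in `H`
  have hKH : K ≤ H' := by
    rw [← CfsgLib.Layer.isPerfect_of_isComponent hK, Subgroup.commutator_le]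
    intro a _ b _
    rw [← QuotientGroup.eq_one_iff, ← QuotientGroup.mk'_apply, map_commutatorElement,
      commutatorElement_eq_one_iff_mul_comm]
    obtain ⟨i, hi⟩ := hquot (f a)
    obtain ⟨j, hj⟩ := hquot (f b)
    rw [← hi, ← hj, ← zpow_add, ← zpow_add, add_comm]
  have hKG : K.map X.subtype ≤ H := by
    rintro _ ⟨k, hk, rfl⟩
    exact hKH hk
  refine ⟨(K.map X.subtype).subgroupOf H, ?_, ?_⟩
  · have h1 := CfsgLib.Layer.isComponent_map_equiv (Subgroup.subgroupOfEquivOfLe hHX)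
      (CfsgLib.Layer.isComponent_subgroupOf hK hKH)
    refine (?_ : (K.map X.subtype).subgroupOf H = _) ▸ h1
    ext z
    constructor
    · rintro ⟨k, hk, hkz⟩
      exact ⟨⟨k, hKH hk⟩, hk, Subtype.ext hkz⟩
    · rintro ⟨k, hk, rfl⟩
      exact ⟨k, hk, rfl⟩
  rw [Subgroup.map_subgroupOf_eq_of_le hKG]
  refine ⟨?_, fun y hy => ?_, fun h => hne.2 ?_, fun h => hKY fun y hy => ?_⟩
  · ext z
    constructor
    · rintro ⟨_, ⟨k, hk, rfl⟩, rfl⟩
      exact ⟨_, (Subgroup.mem_normalizer_iff.mp hne.1 k).mp hk, rfl⟩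
    · rintro ⟨k, hk, rfl⟩
      refine ⟨_, ⟨t'⁻¹ * k * t', ?_, rfl⟩, ?_⟩
      · have h2 := (Subgroup.mem_normalizer_iff.mp (inv_mem hne.1) k).mp hk
        rwa [inv_inv] at h2
      · show t * ((t'⁻¹ * k * t' : ↥X) : G) * t⁻¹ = (k : G)
        simp [ht', mul_assoc]
  · have hyX : y ∈ X := (hY.trans ((Subgroup.map_subtype_le _).trans (inf_le_left.trans hHX))) hy
    exact Subgroup.le_normalizer_map X.subtype ⟨⟨y, hyX⟩, hYN (Subgroup.mem_subgroupOf.mpr hy), rfl⟩
  · refine Subgroup.mem_centralizer_iff.mpr fun k hk => Subtype.ext ?_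
    exact Subgroup.mem_centralizer_iff.mp h _ ⟨k, hk, rfl⟩
  · refine Subgroup.mem_centralizer_iff.mpr fun k hk => Subtype.ext ?_
    exact Subgroup.mem_centralizer_iff.mp (h (Subgroup.mem_subgroupOf.mp hy)) _ ⟨k, hk, rfl⟩

end Cfsg.Agent.S1328
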