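import Cfsg.Statements.S1329
import Cfsg.Agent.Lib.Coprime.CommutatorFixed
import Cfsg.Agent.Lib.OddConseq.Unconditional

set_option autoImplicit false
open Cfsg

namespace Cfsg.Agent.S1329

/-- Let A be an abelian 2-subgroup of the finite group G, B ≤ A, and Y a subgroup of odd order normalized by A with ⁅Y, A⁆ = Y. Then Y ∩ C_G(B) is generated by the subgroups Y ∩ C_G(B) ∩ ⁅Y ∩ C_G(B₀), A⁆, B₀ ranging over the subgroups of B with B / B₀ cyclic. -/
theorem result {G : Type*} [Group G] [Finite G] (A B Y : Subgroup G) (hA2 : IsPGroup 2 ↥A) (hAc : IsMulCommutative ↥A) (hB : B ≤ A) (hYodd : Odd (Nat.card ↥Y)) (hAY : A ≤ Subgroup.normalizer (Y : Set G)) (hYA : ⁅Y, A⁆ = Y) : Y ⊓ Subgroup.centralizer (B : Set G) = ⨆ B₀ : {B₀ : Subgroup G // B₀ ≤ B ∧ ∀ [(B₀.subgroupOf B).Normal], IsCyclic (↥B ⧸ B₀.subgroupOf B)}, Y ⊓ Subgroup.centralizer (B : Set G) ⊓ ⁅Y ⊓ Subgroup.centralizer ((B₀ : Subgroup G) : Set G),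 A⁆ := by
  haveI := hAc
  refine CfsgLib.Coprime.CommutatorFixed.fixed_le_iSup hB ?_ hAY hYA
    (CfsgLib.OddOrder.odd_order_solvable hYodd)
  obtain ⟨n, hn⟩ := IsPGroup.iff_card.mp hA2
  rw [hn]
  exact Nat.Coprime.pow_left n hYodd.coprime_two_left

end Cfsg.Agent.S1329
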