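import Cfsg.Statements.S1335
import Mathlib

set_option autoImplicit false
open Cfsg

namespace Cfsg.Agent.S1335

/-- Let H be a subgroup of the finite group G, p a prime, k ≥ 1, P a Sylow p-subgroup of H of p-rank at least k, and suppose N_G(X) ≤ H for every subgroup X ≤ P of p-rank at least k. Then P is a Sylow p-subgroup of G. -/
theorem result {G : Type*} [Group G] [Finite G] {p : ℕ} [Fact p.Prime] (k : ℕ) (hk : 1 ≤ k) (H : Subgroup G) (P : Sylow p ↥H) (hP : ¬ Cfsg.PRankLE p (k - 1) ↥(P : Subgroup ↥H)) (hΓ : (∀ X : Subgroup G, X ≤ (P : Subgroup ↥H).map H.subtype → ¬ Cfsg.PRankLE p (k - 1) ↥X → Subgroup.normalizer (X : Set G) ≤ H)) : ∃ Q : Sylow p G, (Q : Subgroup G) = (P : Subgroup ↥H).map H.subtype := by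
  classical
  set X := (P : Subgroup ↥H).map H.subtype with hX
  have hXr : ¬ Cfsg.PRankLE p (k - 1) ↥X := by
    intro h
    apply hP
    intro A hA hAp
    let e := (P : Subgroup ↥H).equivMapOfInjective H.subtype H.subtype_injective
    haveI := hA
    have hc : ∀ a ∈ A.map e.toMonoidHom, a ^ p = 1 := by
      rintro _ ⟨a, ha, rfl⟩
      rw [← map_pow, hAp a ha, map_one]
    have hm : IsMulCommutative (A.map e.toMonoidHom) := ⟨⟨by
      rintro ⟨_, a, ha, rfl⟩ ⟨_, b, hb, rfl⟩
      apply Subtype.ext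
      show e a * e b = e b * e a
      rw [← map_mul, ← map_mul]
      exact congrArg e (congrArg Subtype.val (mul_comm' (⟨a, ha⟩ : A) ⟨b, hb⟩))⟩⟩
    have := h (A.map e.toMonoidHom) hm hc
    rwa [Subgroup.card_map_of_injective (f := e.toMonoidHom) e.injective] at this
  have hXp : IsPGroup p X := P.2.map _
  obtain ⟨Q, hQ⟩ := hXp.exists_le_sylow
  refine ⟨Q, le_antisymm ?_ hQ⟩
  haveI := Q.2.isNilpotent
  by_contra hne
  have hlt : X.subgroupOf (Q : Subgroup G) < ⊤ :=
    lt_top_iff_ne_top.mpr fun h => hne (Subgroup.subgroupOf_eq_top.mp h)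
  have h2 := Group.normalizerCondition_of_isNilpotent (G := (Q : Subgroup G)) _ hlt
  obtain ⟨y, hy, hyX⟩ := SetLike.exists_of_lt h2
  apply hyX
  have hyN : (y : G) ∈ Subgroup.normalizer (X : Set G) := by
    rw [Subgroup.mem_normalizer_iff]
    intro n
    constructor
    · intro hn
      exact (Subgroup.mem_normalizer_iff.mp hy ⟨n, hQ hn⟩).mp hn
    · intro hn
      have hnQ : n ∈ (Q : Subgroup G) := by
        have := mul_mem (mul_mem (inv_mem y.2) (hQ hn)) y.2
        simpa [mul_assoc] using this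
      exact (Subgroup.mem_normalizer_iff.mp hy ⟨n, hnQ⟩).mpr hn
  have hyH : (y : G) ∈ H := hΓ X le_rfl hXr hyN
  have hle : (P : Subgroup ↥H) ≤ (Q : Subgroup G).subgroupOf H := fun z hz => hQ ⟨z, hz, rfl⟩
  have hQH : IsPGroup p ((Q : Subgroup G).subgroupOf H) :=
    Q.2.comap_of_injective H.subtype H.subtype_injective
  exact ⟨⟨y, hyH⟩, (P.3 hQH hle) ▸ (show (⟨y, hyH⟩ : H) ∈ (Q : Subgroup G).subgroupOf H from y.2), rfl⟩

end Cfsg.Agent.S1335
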