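import Cfsg.Statements.S1336
import Mathlib

set_option autoImplicit false
open Cfsg

namespace Cfsg.Agent.S1336

/-- Let G be finite and p prime. Then G has a proper subgroup H with p ∣ |H| and p ∤ |H ∩ gHg⁻¹| for every g ∉ H (a strongly p-embedded subgroup) if and only if G is not 1-connected for p. -/
theorem result {G : Type*} [Group G] [Finite G] (p : ℕ) [Fact p.Prime] : (∃ H : Subgroup G, H ≠ ⊤ ∧ p ∣ Nat.card ↥H ∧ ∀ g : G, g ∉ H → ¬ p ∣ Nat.card ↥(H ⊓ H.map (MulAut.conj g).toMonoidHom)) ↔ ¬ Cfsg.IsKConnected p 1 G := by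
  classical
  let R : Subgroup G → Subgroup G → Prop := fun A B => Cfsg.IsElementaryAbelian p A ∧ p ^ 1 ≤ Nat.card ↥A ∧
    Cfsg.IsElementaryAbelian p B ∧ p ^ 1 ≤ Nat.card ↥B ∧ ∀ a ∈ A, ∀ b ∈ B, a * b = b * a
  have hsymm : ∀ {A B}, R A B → R B A := fun ⟨h1, h2, h3, h4, h5⟩ =>
    ⟨h3, h4, h1, h2, fun b hb a ha => (h5 a ha b hb).symm⟩
  have hrev : ∀ {A B}, Relation.ReflTransGen R A B → Relation.ReflTransGen R B A :=
    fun h => by
      induction h with
      | refl => exact Relation.ReflTransGen.refl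
      | tail _ h ih => exact Relation.ReflTransGen.head (hsymm h) ih
  have hp : p.Prime := Fact.out
  have hz : ∀ a : G, orderOf a = p →
      Cfsg.IsElementaryAbelian p (Subgroup.zpowers a) ∧ p ^ 1 ≤ Nat.card ↥(Subgroup.zpowers a) := by
    intro a ha
    refine ⟨⟨inferInstance, ?_⟩, by rw [Nat.card_zpowers, ha, pow_one]⟩
    rintro _ ⟨k, rfl⟩
    show (a ^ k) ^ p = 1
    rw [← zpow_natCast, ← zpow_mul, mul_comm, zpow_mul, zpow_natCast, ← ha, pow_orderOf_eq_one, one_zpow]
  have hord : ∀ (E : Subgroup G), Cfsg.IsElementaryAbelian p E → p ^ 1 ≤ Nat.card ↥E →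
      ∃ a ∈ E, orderOf a = p ∧ R E (Subgroup.zpowers a) := by
    intro E hE hcard
    rw [pow_one] at hcard
    obtain ⟨a, ha, ha1⟩ : ∃ a ∈ E, a ≠ 1 := (Subgroup.ne_bot_iff_exists_ne_one (H := E)).mp
      (fun h => by rw [h, Subgroup.card_bot] at hcard; exact absurd hcard (not_le.mpr hp.one_lt))
      |>.elim fun a h => ⟨a, a.2, fun e => h (Subtype.ext e)⟩
    have hao : orderOf a = p := orderOf_eq_prime (hE.2 a ha) ha1
    refine ⟨a, ha, hao, hE, by rwa [pow_one], (hz a hao).1, (hz a hao).2, fun u hu v hv => ?_⟩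
    have h1 := hE.1.is_comm.comm ⟨u, hu⟩ ⟨v, Subgroup.zpowers_le.mpr ha hv⟩
    exact congrArg Subtype.val h1
  have hconj : ∀ (g : G) {A B}, Relation.ReflTransGen R A B →
      Relation.ReflTransGen R (A.map (MulAut.conj g).toMonoidHom) (B.map (MulAut.conj g).toMonoidHom) := by
    intro g A B h
    refine Relation.ReflTransGen.lift (r := R) (p := R) (fun A : Subgroup G => A.map (MulAut.conj g).toMonoidHom)
      (fun A B ⟨h1, h2, h3, h4, h5⟩ => ?_) A B h
    have el : ∀ A : Subgroup G, Cfsg.IsElementaryAbelian p A →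
        Cfsg.IsElementaryAbelian p (A.map (MulAut.conj g).toMonoidHom) := fun A hA => by
      refine ⟨⟨⟨?_⟩⟩, ?_⟩
      · rintro ⟨_, u, hu, rfl⟩ ⟨_, v, hv, rfl⟩
        refine Subtype.ext ?_
        show (MulAut.conj g).toMonoidHom u * (MulAut.conj g).toMonoidHom v = _ * _
        rw [← map_mul, ← map_mul]
        exact congrArg _ (congrArg Subtype.val (hA.1.is_comm.comm ⟨u, hu⟩ ⟨v, hv⟩))
      · rintro _ ⟨u, hu, rfl⟩
        rw [← map_pow, hA.2 u hu, map_one]
    refine ⟨el A h1, ?_, el B h3, ?_, ?_⟩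
    · rwa [Subgroup.card_map_of_injective (MulEquiv.injective _)]
    · rwa [Subgroup.card_map_of_injective (MulEquiv.injective _)]
    · rintro _ ⟨u, hu, rfl⟩ _ ⟨v, hv, rfl⟩
      rw [← map_mul, ← map_mul, h5 u hu v hv]
  have hzc : ∀ g a : G, (Subgroup.zpowers a).map (MulAut.conj g).toMonoidHom = Subgroup.zpowers (g * a * g⁻¹) :=
    fun g a => MonoidHom.map_zpowers _ a
  constructor
  · rintro ⟨H, hH, hpH, hsep⟩ hconn
    have habsorb : ∀ a ∈ H, orderOf a = p → ∀ g : G, g * a * g⁻¹ ∈ H → g ∈ H := by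
      intro a ha hao g hg
      by_contra hgH
      refine hsep g hgH ?_
      rw [← hao, ← orderOf_injective (MulAut.conj g).toMonoidHom (MulEquiv.injective _) a]
      exact orderOf_dvd_natCard (G := ↥(H ⊓ H.map (MulAut.conj g).toMonoidHom))
        ⟨g * a * g⁻¹, hg, a, ha, rfl⟩ |> fun h => by rwa [← Subgroup.orderOf_coe] at h
    obtain ⟨⟨a, haH⟩, hao⟩ := exists_prime_orderOf_dvd_card' (G := ↥H) p hpH
    rw [← Subgroup.orderOf_coe] at hao
    simp only at hao
    have hall : ∀ b : G, orderOf b = p → b ∈ H := by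
      intro b hb
      have hpath : Relation.ReflTransGen R (Subgroup.zpowers a) (Subgroup.zpowers b) :=
        hconn _ _ (hz a hao).1 (hz a hao).2 (hz b hb).1 (hz b hb).2
      have key : ∀ B, Relation.ReflTransGen R (Subgroup.zpowers a) B → B ≤ H := by
        intro B hB
        induction hB with
        | refl => exact Subgroup.zpowers_le.mpr haH
        | tail _ h ih =>
          obtain ⟨h1, h2, h3, h4, h5⟩ := h
          obtain ⟨c, hc, hco, -⟩ := hord _ h1 h2
          intro d hd
          refine habsorb c (ih hc) hco d ?_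
          rw [← h5 c hc d hd, mul_inv_cancel_right]
          exact ih hc
      exact key _ hpath (Subgroup.mem_zpowers b)
    refine hH (eq_top_iff.mpr fun g _ => habsorb a haH hao g (hall _ ?_))
    exact (orderOf_injective (MulAut.conj g).toMonoidHom (MulEquiv.injective _) a).trans hao
  · intro hnc
    by_contra hno
    refine hnc fun E E' hE hEc hE' hE'c => ?_
    obtain ⟨a, -, hao, hEa⟩ := hord E hE hEc
    obtain ⟨b, -, hbo, hEb⟩ := hord E' hE' hE'c
    refine (Relation.ReflTransGen.single hEa).trans (Relation.ReflTransGen.trans ?_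
      (Relation.ReflTransGen.single (hsymm hEb)))
    -- a central element of a Sylow subgroup
    obtain ⟨P⟩ : Nonempty (Sylow p G) := inferInstance
    have hpG : p ∣ Nat.card G := hao ▸ orderOf_dvd_natCard a
    haveI : Nontrivial ↥(P : Subgroup G) := by
      rw [← Finite.one_lt_card_iff_nontrivial]
      exact lt_of_lt_of_le hp.one_lt (Nat.le_of_dvd Nat.card_pos (P.dvd_card_of_dvd_card hpG))
    haveI := P.2.center_nontrivial
    have hd : p ∣ Nat.card ↥(Subgroup.center ↥(P : Subgroup G)) := by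
      obtain ⟨n, hn⟩ := IsPGroup.iff_card.mp (P.2.to_subgroup (Subgroup.center ↥(P : Subgroup G)))
      rcases n with _ | n
      · exact absurd hn (Finite.one_lt_card (α := ↥(Subgroup.center ↥(P : Subgroup G)))).ne'
      · rw [hn]; exact dvd_pow_self p n.succ_ne_zero
    obtain ⟨z₀, hz₀⟩ := exists_prime_orderOf_dvd_card' p hd
    set z : G := ((z₀ : ↥(P : Subgroup G)) : G) with hzdef
    have hzo : orderOf z = p := by rw [hzdef, Subgroup.orderOf_coe, Subgroup.orderOf_coe, hz₀]
    have hzP : ∀ c ∈ (P : Subgroup G), orderOf c = p → Relation.ReflTransGen R (Subgroup.zpowers z) (Subgroup.zpowers c) := by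
      intro c hc hco
      refine Relation.ReflTransGen.single ⟨(hz z hzo).1, (hz z hzo).2, (hz c hco).1, (hz c hco).2, ?_⟩
      rintro _ ⟨i, rfl⟩ _ ⟨j, rfl⟩
      have h : Commute z c := (congrArg Subtype.val (Subgroup.mem_center_iff.mp z₀.2 ⟨c, hc⟩) : c * z = z * c).symm
      exact (h.zpow_zpow i j).eq
    let H : Subgroup G :=
      { carrier := {g | Relation.ReflTransGen R (Subgroup.zpowers z) (Subgroup.zpowers (g * z * g⁻¹))}
        one_mem' := by
          show Relation.ReflTransGen R _ (Subgroup.zpowers (1 * z * 1⁻¹))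
          rw [one_mul, inv_one, mul_one]
        mul_mem' := fun {g h} hg hh => by
          refine hg.trans ?_
          have h2 := hconj g hh
          rw [hzc, hzc] at h2
          show Relation.ReflTransGen R _ (Subgroup.zpowers (g * h * z * (g * h)⁻¹))
          rwa [show g * h * z * (g * h)⁻¹ = g * (h * z * h⁻¹) * g⁻¹ by group]
        inv_mem' := fun {g} hg => by
          have h2 := hrev (hconj g⁻¹ hg)
          rw [hzc, hzc, show g⁻¹ * (g * z * g⁻¹) * g⁻¹⁻¹ = z by group] at h2
          exact h2 }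
    have hPH : (P : Subgroup G) ≤ H := fun g hg => by
      refine hzP _ (mul_mem (mul_mem hg (z₀ : ↥(P : Subgroup G)).2) (inv_mem hg)) ?_
      exact (orderOf_injective (MulAut.conj g).toMonoidHom (MulEquiv.injective _) z).trans hzo
    -- every element of order `p` is conjugate into the Sylow subgroup
    have hinto : ∀ c : G, orderOf c = p → ∃ g : G, g * c * g⁻¹ ∈ (P : Subgroup G) := by
      intro c hc
      obtain ⟨Q, hQ⟩ := (IsPGroup.of_card (n := 1) (by rw [Nat.card_zpowers, hc, pow_one]) :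
        IsPGroup p ↥(Subgroup.zpowers c)).exists_le_sylow
      obtain ⟨g, hg⟩ := MulAction.exists_smul_eq G Q P
      refine ⟨g, ?_⟩
      rw [← hg]
      exact ⟨c, hQ (Subgroup.mem_zpowers c), rfl⟩
    by_cases hH : H = ⊤
    · have key : ∀ c : G, orderOf c = p → Relation.ReflTransGen R (Subgroup.zpowers z) (Subgroup.zpowers c) := by
        intro c hc
        obtain ⟨g, hg⟩ := hinto c hc
        have h1 := hconj g⁻¹ (hzP _ hg ((orderOf_injective (MulAut.conj g).toMonoidHom (MulEquiv.injective _) c).trans hc))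
        rw [hzc, hzc, show g⁻¹ * (g * c * g⁻¹) * g⁻¹⁻¹ = c by group] at h1
        exact Relation.ReflTransGen.trans (show g⁻¹ ∈ H from hH ▸ Subgroup.mem_top _) h1
      exact (hrev (key a hao)).trans (key b hbo)
    · exfalso
      refine hno ⟨H, hH, (P.dvd_card_of_dvd_card hpG).trans (Subgroup.card_dvd_of_le hPH), fun g hg hdvd => hg ?_⟩
      obtain ⟨w, hw⟩ := exists_prime_orderOf_dvd_card' p hdvd
      rw [← Subgroup.orderOf_coe] at hw
      have hwc : ∀ w : G, w ∈ H → orderOf w = p →
          Relation.ReflTransGen R (Subgroup.zpowers z) (Subgroup.zpowers w) := by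
        intro w hwH hwo
        obtain ⟨Q, hQ⟩ := (IsPGroup.of_card (n := 1) (by rw [Nat.card_zpowers, Subgroup.orderOf_mk, hwo, pow_one]) :
          IsPGroup p ↥(Subgroup.zpowers (⟨w, hwH⟩ : ↥H))).exists_le_sylow
        obtain ⟨h, hh⟩ := MulAction.exists_smul_eq ↥H Q (P.subtype hPH)
        have h1 : (h : G) * w * (h : G)⁻¹ ∈ (P : Subgroup G) := by
          have h2 : h * ⟨w, hwH⟩ * h⁻¹ ∈ (P.subtype hPH : Subgroup ↥H) := by
            rw [← hh]
            exact ⟨_, hQ (Subgroup.mem_zpowers _), rfl⟩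
          exact h2
        have h2 := hconj (h : G)⁻¹ (hzP _ h1 ((orderOf_injective (MulAut.conj (h : G)).toMonoidHom (MulEquiv.injective _) w).trans hwo))
        rw [hzc, hzc, show (h : G)⁻¹ * ((h : G) * w * (h : G)⁻¹) * (h : G)⁻¹⁻¹ = w by group] at h2
        exact Relation.ReflTransGen.trans (show (h : G)⁻¹ ∈ H from inv_mem h.2) h2
      obtain ⟨hw1, v, hv, hvw⟩ := w.2
      have hvw' : g * v * g⁻¹ = (w : G) := hvw
      have hvo : orderOf v = p :=
        (orderOf_injective (MulAut.conj g).toMonoidHom (MulEquiv.injective _) v).symm.trans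
          (by show orderOf (g * v * g⁻¹) = p; rw [hvw', hw])
      have h3 := hconj g (hwc v hv hvo)
      rw [hzc, hzc, hvw'] at h3
      exact (hwc w hw1 hw).trans (hrev h3)

end Cfsg.Agent.S1336
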