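import Cfsg.Statements.S1338
import Cfsg.Agent.Lib.PGroup.RankFour

set_option autoImplicit false
open Cfsg

namespace Cfsg.Agent.S1338

open CfsgLib

/-- The kernel of a composite. -/
theorem card_ker_comp_le {A : Type*} [CommGroup A] [Finite A] (g f : A →* A) :
    Nat.card (g.comp f).ker ≤ Nat.card g.ker * Nat.card f.ker := by
  let r : (g.comp f).ker →* g.ker := (f.comp (g.comp f).ker.subtype).codRestrict g.ker fun a => a.2
  rw [← r.ker.card_mul_index, Subgroup.index_ker, mul_comm (Nat.card g.ker)]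
  refine Nat.mul_le_mul ?_ (Subgroup.card_le_card_group _)
  refine Nat.card_le_card_of_injective (fun a => (⟨((a : (g.comp f).ker) : A), ?_⟩ : f.ker)) ?_
  · exact congrArg Subtype.val (MonoidHom.mem_ker.mp a.2)
  · intro a b h
    have := congrArg Subtype.val h
    exact Subtype.ext (Subtype.ext this)

/-- An element of order dividing `3` fixes at least `9` points of an elementary abelian normal
`3`-subgroup of order at least `81`. -/
theorem nine_le_fixed {P : Type*} [Group P] [Finite P] (hP : IsPGroup 3 P) (V : Subgroup P) [V.Normal]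
    (hV : Cfsg.IsElementaryAbelian 3 V) (hV4 : 3 ^ 4 ≤ Nat.card V) (x : P) (hx : x ^ 3 = 1) :
    3 ^ 2 ≤ Nat.card ↥(V ⊓ Subgroup.centralizer ({x} : Set P)) := by
  have : Fact (Nat.Prime 3) := ⟨Nat.prime_three⟩
  letI : CommGroup V := { (inferInstance : Group V) with
    mul_comm := fun a b => Subtype.ext (RankFour.comm_of_elem hV a.2 b.2) }
  let T : V →* V :=
    { toFun := fun v => ⟨x * v * x⁻¹, (inferInstance : V.Normal).conj_mem v v.2 x⟩
      map_one' := Subtype.ext (show x * 1 * x⁻¹ = 1 by group)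
      map_mul' := fun a b => Subtype.ext (show x * ((a : P) * b) * x⁻¹ = x * a * x⁻¹ * (x * b * x⁻¹) by group) }
  let f : V →* V :=
    { toFun := fun v => T v * v⁻¹
      map_one' := by simp
      map_mul' := fun a b => by
        rw [map_mul, mul_inv, mul_mul_mul_comm] }
  have hT : ∀ v, T (T (T v)) = v := fun v => Subtype.ext (by
    show x * (x * (x * (v : P) * x⁻¹) * x⁻¹) * x⁻¹ = v
    rw [show x * (x * (x * (v : P) * x⁻¹) * x⁻¹) * x⁻¹ = x ^ 3 * v * (x ^ 3)⁻¹ by
      simp only [pow_three, mul_inv_rev, mul_assoc], hx]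
    simp)
  have h3 : ∀ v : V, v ^ 3 = 1 := fun v => Subtype.ext (hV.2 v v.2)
  have hnil : (f.comp (f.comp f)).ker = ⊤ := by
    refine eq_top_iff.mpr fun v _ => ?_
    show f (f (f v)) = 1
    have e : ∀ a : V, a⁻¹ = a ^ 2 := fun a => inv_eq_of_mul_eq_one_right (by rw [← pow_succ', h3])
    show T (T (T v * v⁻¹) * (T v * v⁻¹)⁻¹) * (T (T v * v⁻¹) * (T v * v⁻¹)⁻¹)⁻¹ = 1
    simp only [map_mul, map_inv, mul_inv_rev, inv_inv, hT]
    generalize hA : T v = A
    generalize hB : T A = B
    have hTB : T B = v := by rw [← hB, ← hA]; exact hT v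
    apply Additive.ofMul.injective
    have h3A : (3 : ℕ) • Additive.ofMul A = 0 := by rw [← ofMul_pow, h3]; rfl
    have h3B : (3 : ℕ) • Additive.ofMul B = 0 := by rw [← ofMul_pow, h3]; rfl
    simp only [ofMul_mul, ofMul_inv, ofMul_one]
    rw [show (0 : Additive V) = (3 : ℕ) • Additive.ofMul A - (3 : ℕ) • Additive.ofMul B by
      rw [h3A, h3B, sub_zero]]
    abel
  obtain ⟨k, hk⟩ := IsPGroup.iff_card.mp ((hP.to_subgroup V).to_subgroup f.ker)
  have h1 := card_ker_comp_le f (f.comp f)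
  have h2 := card_ker_comp_le f f
  rw [hnil, Subgroup.card_top] at h1
  have hle : 3 ^ 4 ≤ 3 ^ k * (3 ^ k * 3 ^ k) := by
    rw [← hk]
    exact hV4.trans (h1.trans (Nat.mul_le_mul_left _ h2))
  rw [← pow_add, ← pow_add, Nat.pow_le_pow_iff_right (by norm_num : 1 < 3)] at hle
  have hker : Nat.card f.ker ≤ Nat.card ↥(V ⊓ Subgroup.centralizer ({x} : Set P)) := by
    refine Nat.card_le_card_of_injective (fun v => ⟨((v : V) : P), (v : V).2,
      Subgroup.mem_centralizer_singleton_iff.mpr ?_⟩) ?_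
    · have h := congrArg Subtype.val (mul_inv_eq_one.mp (MonoidHom.mem_ker.mp v.2 : T v * (v : V)⁻¹ = 1))
      exact (mul_inv_eq_iff_eq_mul.mp h).symm
    · intro a b h
      exact Subtype.ext (Subtype.ext (congrArg Subtype.val h :))
  exact (Nat.pow_le_pow_right (by norm_num) (by omega : 2 ≤ k)).trans (hk ▸ hker)

theorem sup_zpowers {P : Type*} [Group P] {p : ℕ} {x z : P} (h : x * z = z * x) (hx : x ^ p = 1)
    (hz : z ^ p = 1) : Cfsg.IsElementaryAbelian p (Subgroup.closure ({x, z} : Set P)) := by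
  have hc : IsMulCommutative (Subgroup.closure ({x, z} : Set P)) := Subgroup.isMulCommutative_closure (by
    rintro u (rfl | rfl) v (rfl | rfl)
    · rfl
    · exact h
    · exact h.symm
    · rfl)
  refine ⟨hc, fun u hu => ?_⟩
  induction hu using Subgroup.closure_induction with
  | mem v hv =>
    rcases hv with rfl | rfl
    · exact hx
    · exact hz
  | one => exact one_pow p
  | mul v w hv hw iv iw =>
    haveI := hc
    have hvw : Commute v w := congrArg Subtype.val (mul_comm' (⟨v, hv⟩ : Subgroup.closure ({x, z} : Set P)) ⟨w, hw⟩)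
    rw [hvw.mul_pow, iv, iw, one_mul]
  | inv v _ iv => rw [inv_pow, iv, inv_one]

/-- A finite 3-group of 3-rank at least 4 is 2-connected for the prime 3: its commuting graph on elementary abelian subgroups of order ≥ 9 is connected. -/
theorem result {P : Type*} [Group P] [Finite P] (hP : IsPGroup 3 P) (hrk : ¬ Cfsg.PRankLE 3 3 P) : Cfsg.IsKConnected 3 2 P := by
  classical
  have : Fact (Nat.Prime 3) := ⟨Nat.prime_three⟩
  obtain ⟨V, hVn, hVe, hV4⟩ : ∃ V : Subgroup P, V.Normal ∧ Cfsg.IsElementaryAbelian 3 V ∧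
      Nat.card V = 3 ^ 4 := by
    unfold Cfsg.PRankLE at hrk
    push Not at hrk
    obtain ⟨A, hAc, hAe, hA⟩ := hrk
    obtain ⟨a, ha⟩ := IsPGroup.iff_card.mp (hP.to_subgroup A)
    rw [ha, Nat.pow_lt_pow_iff_right (by norm_num : 1 < 3)] at hA
    obtain ⟨E, hE⟩ := Sylow.exists_subgroup_card_pow_prime 3 (G := A) (n := 4)
      (ha ▸ pow_dvd_pow 3 (by omega))
    refine CfsgLib.RankFour.exists_normal (by norm_num) _ P rfl hP (E.map A.subtype) ?_ ?_
    · refine ⟨⟨⟨?_⟩⟩, ?_⟩
      · rintro ⟨_, u, -, rfl⟩ ⟨_, v, -, rfl⟩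
        exact Subtype.ext (congrArg Subtype.val (mul_comm' u v) :)
      · rintro _ ⟨u, -, rfl⟩
        exact hAe u u.2
    · rw [Subgroup.card_map_of_injective A.subtype_injective, hE]
  haveI := hVn
  -- every vertex is linked to `V`
  set r := fun A B : Subgroup P => Cfsg.IsElementaryAbelian 3 A ∧ 3 ^ 2 ≤ Nat.card ↥A ∧
    Cfsg.IsElementaryAbelian 3 B ∧ 3 ^ 2 ≤ Nat.card ↥B ∧ ∀ a ∈ A, ∀ b ∈ B, a * b = b * a with hr
  haveI hsymm : Std.Symm r := ⟨fun A B ⟨h1, h2, h3, h4, h5⟩ =>
    ⟨h3, h4, h1, h2, fun b hb a ha => (h5 a ha b hb).symm⟩⟩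
  have hV2 : 3 ^ 2 ≤ Nat.card V := by rw [hV4]; norm_num
  have key : ∀ E : Subgroup P, Cfsg.IsElementaryAbelian 3 E → 3 ^ 2 ≤ Nat.card E →
      Relation.ReflTransGen r E V := by
    intro E hE hE2
    by_cases hEV : E ≤ V
    · exact Relation.ReflTransGen.single ⟨hE, hE2, hVe, hV2, fun a ha b hb =>
        RankFour.comm_of_elem hVe (hEV ha) hb⟩
    obtain ⟨x, hxE, hxV⟩ := SetLike.not_le_iff_exists.mp hEV
    -- a fixed point of `E` in `V`
    have hVne : V ≠ ⊥ := fun h => by
      rw [h, Subgroup.card_bot] at hV4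
      norm_num at hV4
    haveI : Nontrivial V := (Subgroup.nontrivial_iff_ne_bot V).mpr hVne
    obtain ⟨z, hzV, hz1, hzc⟩ : ∃ z ∈ V, z ≠ 1 ∧ ∀ e ∈ E, e * z = z * e := by
      letI : MulAction E V :=
        { smul := fun e v => ⟨(e : P) * v * (e : P)⁻¹, hVn.conj_mem v v.2 e⟩
          one_smul := fun v => Subtype.ext (show (1 : P) * (v : P) * (1 : P)⁻¹ = v by group)
          mul_smul := fun a b v => Subtype.ext (show (a : P) * b * v * ((a : P) * b)⁻¹ =
            a * (b * v * (b : P)⁻¹) * (a : P)⁻¹ by group) }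
      have h1 : (1 : V) ∈ MulAction.fixedPoints E V := fun e =>
        Subtype.ext (show (e : P) * 1 * (e : P)⁻¹ = 1 by group)
      obtain ⟨z, hz, hz1⟩ := (hP.to_subgroup E).exists_fixed_point_of_prime_dvd_card_of_fixed_point V
        (hV4 ▸ dvd_pow_self 3 (by norm_num)) h1
      refine ⟨z, z.2, fun h => hz1 (Subtype.ext h.symm), fun e he => ?_⟩
      have := congrArg Subtype.val (hz ⟨e, he⟩)
      exact mul_inv_eq_iff_eq_mul.mp this
    have hAe : Cfsg.IsElementaryAbelian 3 (Subgroup.closure ({x, z} : Set P)) :=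
      sup_zpowers (hzc x hxE) (hE.2 x hxE) (hVe.2 z hzV)
    have hA2 : 3 ^ 2 ≤ Nat.card ↥(Subgroup.closure ({x, z} : Set P)) := by
      have hlt : Subgroup.zpowers z < Subgroup.closure ({x, z} : Set P) :=
        lt_of_le_of_ne (Subgroup.zpowers_le.mpr (Subgroup.subset_closure (by simp))) fun h =>
          hxV ((Subgroup.zpowers_le.mpr hzV : Subgroup.zpowers z ≤ V)
            (h ▸ Subgroup.subset_closure (by simp)))
      have h3 : Nat.card (Subgroup.zpowers z) = 3 := by
        rw [Nat.card_zpowers]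
        exact orderOf_eq_prime (hVe.2 z hzV) hz1
      have h4 : Nat.card (Subgroup.zpowers z) < Nat.card ↥(Subgroup.closure ({x, z} : Set P)) :=
        lt_of_le_of_ne (Subgroup.card_le_of_le hlt.le) fun h =>
          hlt.ne (Subgroup.eq_of_le_of_card_ge hlt.le h.ge)
      obtain ⟨a, ha⟩ := IsPGroup.iff_card.mp (hP.to_subgroup (Subgroup.closure ({x, z} : Set P)))
      rw [ha, h3] at h4
      rw [ha]
      exact Nat.pow_le_pow_right (by norm_num)
        ((Nat.pow_lt_pow_iff_right (by norm_num : 1 < 3)).mp (by rwa [pow_one] : 3 ^ 1 < 3 ^ a))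
    set B := V ⊓ Subgroup.centralizer ({x} : Set P)
    have hBe : Cfsg.IsElementaryAbelian 3 B :=
      ⟨⟨⟨fun a b => Subtype.ext (RankFour.comm_of_elem hVe a.2.1 b.2.1)⟩⟩, fun a ha => hVe.2 a ha.1⟩
    have hB2 := nine_le_fixed hP V hVe hV4.ge x (hE.2 x hxE)
    refine Relation.ReflTransGen.head (b := Subgroup.closure ({x, z} : Set P))
      ⟨hE, hE2, hAe, hA2, fun a ha b hb => ?_⟩ (Relation.ReflTransGen.head (b := B)
        ⟨hAe, hA2, hBe, hB2, fun a ha b hb => ?_⟩ (Relation.ReflTransGen.single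
          ⟨hBe, hB2, hVe, hV2, fun a ha b hb => RankFour.comm_of_elem hVe ha.1 hb⟩))
    · have hle : Subgroup.closure ({x, z} : Set P) ≤ Subgroup.centralizer ({a} : Set P) :=
        (Subgroup.closure_le _).mpr (by
          rintro u (rfl | rfl)
          · exact Subgroup.mem_centralizer_singleton_iff.mpr (RankFour.comm_of_elem hE hxE ha)
          · exact Subgroup.mem_centralizer_singleton_iff.mpr (hzc a ha).symm)
      exact (Subgroup.mem_centralizer_singleton_iff.mp (hle hb)).symm
    · have hle : Subgroup.closure ({x, z} : Set P) ≤ Subgroup.centralizer ({b} : Set P) :=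
        (Subgroup.closure_le _).mpr (by
          rintro u (rfl | rfl)
          · exact Subgroup.mem_centralizer_singleton_iff.mpr
              (Subgroup.mem_centralizer_singleton_iff.mp hb.2).symm
          · exact Subgroup.mem_centralizer_singleton_iff.mpr (RankFour.comm_of_elem hVe hzV hb.1))
      exact Subgroup.mem_centralizer_singleton_iff.mp (hle ha)
  intro E E' hE hE2 hE' hE'2
  exact (key E hE hE2).trans (Relation.ReflTransGen.symmetric.symm _ _ (key E' hE' hE'2))

end Cfsg.Agent.S1338
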