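import Cfsg.Statements.S1339
import Mathlib
import Cfsg.Agent.Lib.Layer.Characteristic

set_option autoImplicit false
set_option linter.style.haveILetI false
open Cfsg

namespace Cfsg.Agent.S1339

open Matrix

variable {F : Type*} [Field F] [Fintype F] [DecidableEq F] {n : ℕ}

omit [DecidableEq F] in
theorem eq_zero_or_one (hF : Fintype.card F = 2) (x : F) : x = 0 ∨ x = 1 := by
  classical
  by_contra h
  rw [not_or] at h
  have h1 : ({0, 1, x} : Finset F).card = 3 := by
    rw [Finset.card_insert_of_notMem, Finset.card_insert_of_notMem, Finset.card_singleton]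
    · simp [Ne.symm h.2]
    · simp [Ne.symm h.1]
  have h2 := Finset.card_le_univ ({0, 1, x} : Finset F)
  omega

/-- The entry equations of commuting with a transvection. -/
theorem comm_transvection {i j : Fin n} {g : Matrix (Fin n) (Fin n) F}
    (h : g * transvection i j 1 = transvection i j 1 * g) :
    g * single i j 1 = single i j 1 * g := by
  simpa [transvection, mul_add, add_mul] using h

theorem eqs {i j : Fin n} {g : Matrix (Fin n) (Fin n) F}
    (h : g * single i j 1 = single i j 1 * g) :
    (∀ k, k ≠ i → g k i = 0) ∧ (∀ l, l ≠ j → g j l = 0) ∧ g i i = g j j := by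
  refine ⟨fun k hk => ?_, fun l hl => ?_, ?_⟩
  · have := congrFun (congrFun h k) j
    rwa [mul_single_apply_same, mul_one, single_mul_apply_of_ne _ _ _ _ _ hk] at this
  · have := congrFun (congrFun h i) l
    rw [mul_single_apply_of_ne _ _ _ _ _ hl, single_mul_apply_same, one_mul] at this
    exact this.symm
  · have := congrFun (congrFun h i) j
    rwa [mul_single_apply_same, mul_one, single_mul_apply_same, one_mul] at this

/-- The middle indices. -/
abbrev Mid (i j : Fin n) : Type := {k : Fin n // k ≠ i ∧ k ≠ j}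

omit [Fintype F] [DecidableEq F] in
theorem sum_mid (f : Fin n → F) (i j : Fin n) (hi : f i = 0) (hj : f j = 0) :
    ∑ x, f x = ∑ x : Mid i j, f x.1 := by
  rw [← Finset.sum_subtype (Finset.univ.filter fun k => k ≠ i ∧ k ≠ j) (by simp) f,
    Finset.sum_filter]
  refine Finset.sum_congr rfl fun x _ => ?_
  split_ifs with h
  · rfl
  · rcases not_and_or.mp h with h | h <;> rw [not_not.mp h] <;> assumption

/-- The middle block of an element of the centralizer. -/
def blockHom (i j : Fin n) (hij : i ≠ j) (t : Matrix.SpecialLinearGroup (Fin n) F)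
    (ht : (t : Matrix (Fin n) (Fin n) F) = transvection i j 1) :
    ↥(Subgroup.centralizer ({t} : Set (Matrix.SpecialLinearGroup (Fin n) F))) →*
      Matrix (Mid i j) (Mid i j) F where
  toFun g := Matrix.of fun k l => (g.1 : Matrix (Fin n) (Fin n) F) k.1 l.1
  map_one' := by
    ext k l
    simp [Matrix.one_apply, Subtype.ext_iff]
  map_mul' g h := by
    have hg := Subgroup.mem_centralizer_singleton_iff.mp g.2
    have hh := Subgroup.mem_centralizer_singleton_iff.mp h.2
    have eg := congrArg (fun x : Matrix.SpecialLinearGroup (Fin n) F =>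
      (x : Matrix (Fin n) (Fin n) F)) hg
    have eh := congrArg (fun x : Matrix.SpecialLinearGroup (Fin n) F =>
      (x : Matrix (Fin n) (Fin n) F)) hh
    simp only [Matrix.SpecialLinearGroup.coe_mul, ht] at eg eh
    obtain ⟨g1, g2, -⟩ := eqs (comm_transvection eg)
    obtain ⟨h1, h2, -⟩ := eqs (comm_transvection eh)
    ext k l
    simp only [Subgroup.coe_mul, Matrix.SpecialLinearGroup.coe_mul, Matrix.of_apply,
      Matrix.mul_apply]
    exact sum_mid (fun x => (g.1 : Matrix (Fin n) (Fin n) F) k.1 x *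
      (h.1 : Matrix (Fin n) (Fin n) F) x l.1) i j
      (by rw [g1 k.1 k.2.1, zero_mul]) (by rw [h2 l.1 l.2.2, mul_zero])


/-- Let F be a field with 2 elements, n ≥ 3, and t ∈ SL(n, F) a transvection (t = 1 + E_{ij}, i ≠ j). Then the generalized Fitting subgroup of C(t) is O_2(C(t)). -/
theorem result {F : Type*} [Field F] [Fintype F] [DecidableEq F] (hF : Fintype.card F = 2) (n : ℕ) (hn : 3 ≤ n) (i j : Fin n) (hij : i ≠ j) (t : Matrix.SpecialLinearGroup (Fin n) F) (ht : (t : Matrix (Fin n) (Fin n) F) = Matrix.transvection i j 1) : Cfsg.generalizedFittingSubgroup ↥(Subgroup.centralizer ({t} : Set (Matrix.SpecialLinearGroup (Fin n) F))) = Cfsg.pCore 2 ↥(Subgroup.centralizer ({t} : Set (Matrix.SpecialLinearGroup (Fin n) F))) := by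
  classical
  rw [CfsgLib.Layer.generalizedFitting_eq_pCore_iff]
  set C := Subgroup.centralizer ({t} : Set (Matrix.SpecialLinearGroup (Fin n) F))
  let φ := blockHom i j hij t ht
  have hS : ∀ g : ↥C, (g.1 : Matrix (Fin n) (Fin n) F) * single i j 1 =
      single i j 1 * (g.1 : Matrix (Fin n) (Fin n) F) := by
    intro g
    have hg := Subgroup.mem_centralizer_singleton_iff.mp g.2
    have eg := congrArg (fun x : Matrix.SpecialLinearGroup (Fin n) F =>
      (x : Matrix (Fin n) (Fin n) F)) hg
    simp only [Matrix.SpecialLinearGroup.coe_mul, ht] at eg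
    exact comm_transvection eg
  have h11 : ∀ g : ↥C, (g.1 : Matrix (Fin n) (Fin n) F) i i = 1 ∧
      (g.1 : Matrix (Fin n) (Fin n) F) j j = 1 := by
    intro g
    obtain ⟨e1, -, e3⟩ := eqs (hS g)
    have hne : (g.1 : Matrix (Fin n) (Fin n) F) i i ≠ 0 := by
      intro h0
      have := Matrix.det_eq_zero_of_column_eq_zero (A := (g.1 : Matrix (Fin n) (Fin n) F)) i
        (fun k => by by_cases hk : k = i; · rw [hk, h0]
                     · exact e1 k hk)
      rw [g.1.prop] at this
      exact one_ne_zero this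
    refine ⟨(eq_zero_or_one hF _).resolve_left hne, ?_⟩
    rw [← e3]
    exact (eq_zero_or_one hF _).resolve_left hne
  -- off the row `i` and the column `j`, elements of the kernel agree with the identity
  have hQ : ∀ g : ↥C, φ g = 1 → ∀ k l, k ≠ i → l ≠ j →
      (g.1 : Matrix (Fin n) (Fin n) F) k l = (1 : Matrix (Fin n) (Fin n) F) k l := by
    intro g hg k l hk hl
    obtain ⟨e1, e2, -⟩ := eqs (hS g)
    by_cases hli : l = i
    · rw [hli, e1 k hk, Matrix.one_apply_ne hk]
    by_cases hkj : k = j
    · rw [hkj, e2 l hl, Matrix.one_apply_ne (Ne.symm hl)]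
    have := congrFun (congrFun hg ⟨k, hk, hkj⟩) ⟨l, hli, hl⟩
    simpa [φ, blockHom, Matrix.one_apply, Subtype.ext_iff] using this
  have h2 : (2 : F) = 0 := by
    rcases eq_zero_or_one hF (2 : F) with h | h
    · exact h
    · exact absurd (show (1 : F) = 0 by linear_combination h) one_ne_zero
  have hP : IsPGroup 2 φ.ker := by
    intro g
    refine ⟨2, Subtype.ext (Subtype.ext (Subtype.ext ?_))⟩
    show ((((g.1 : ↥C) ^ 2 ^ 2 : ↥C).1 : Matrix.SpecialLinearGroup (Fin n) F) :
      Matrix (Fin n) (Fin n) F) = 1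
    rw [SubgroupClass.coe_pow, Matrix.SpecialLinearGroup.coe_pow]
    set A := ((g.1 : ↥C).1 : Matrix (Fin n) (Fin n) F)
    have hQA : ∀ k l, k ≠ i → l ≠ j → A k l = (1 : Matrix (Fin n) (Fin n) F) k l :=
      fun k l hk hl => hQ g.1 g.2 k l hk hl
    have hAi : A i i = 1 := (h11 g.1).1
    have hAj : A j j = 1 := (h11 g.1).2
    set N := A - 1 with hN
    have hN0 : ∀ k l, k ≠ i → l ≠ j → N k l = 0 := fun k l hk hl => by
      rw [hN, Matrix.sub_apply, hQA k l hk hl, sub_self]
    have hNi : ∀ k, N k i = 0 := fun k => by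
      by_cases hk : k = i
      · rw [hk, hN, Matrix.sub_apply, hAi, Matrix.one_apply_eq, sub_self]
      · exact hN0 k i hk hij
    have hNj : ∀ l, N j l = 0 := fun l => by
      by_cases hl : l = j
      · rw [hl, hN, Matrix.sub_apply, hAj, Matrix.one_apply_eq, sub_self]
      · exact hN0 j l hij.symm hl
    have hNN : ∀ k l, k ≠ i ∨ l ≠ j → (N * N) k l = 0 := by
      intro k l hkl
      rw [Matrix.mul_apply]
      refine Finset.sum_eq_zero fun m _ => ?_
      by_cases hm : m = j
      · rw [hm, hNj, mul_zero]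
      by_cases hm' : m = i
      · rw [hm', hNi, zero_mul]
      rcases hkl with h | h
      · rw [hN0 k m h hm, zero_mul]
      · rw [hN0 m l hm' h, mul_zero]
    have h4 : N * N * (N * N) = 0 := by
      ext k l
      rw [Matrix.mul_apply]
      refine Finset.sum_eq_zero fun m _ => ?_
      by_cases hm : m = j
      · rw [hm, hNN j l (Or.inl hij.symm), mul_zero]
      · rw [hNN k m (Or.inr hm), zero_mul]
    have hA : A = 1 + N := by rw [hN]; abel
    have htwo : (2 : Matrix (Fin n) (Fin n) F) = 0 := by
      rw [show (2 : Matrix (Fin n) (Fin n) F) = (2 : F) • 1 from by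
        rw [two_smul]; exact one_add_one_eq_two.symm, h2, zero_smul]
    have hsq : ∀ M : Matrix (Fin n) (Fin n) F, (1 + M) ^ 2 = 1 + M * M := fun M => by
      rw [pow_two, mul_add, mul_one, add_mul, one_mul,
        show 1 + M + (M + M * M) = 1 + M * M + 2 * M from by rw [two_mul]; abel, htwo, zero_mul,
        add_zero]
    rw [hA, pow_two (2 : ℕ), pow_mul, hsq, hsq, h4, add_zero]
  refine le_trans ?_ (CfsgLib.Fitting.le_pCore φ.normal_ker hP)
  intro g hg
  have hgQ : ∀ x : ↥C, φ x = 1 → x * g = g * x := fun x hx =>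
    hg x (CfsgLib.Fitting.le_pCore φ.normal_ker hP (MonoidHom.mem_ker.mpr hx))
  rw [MonoidHom.mem_ker]
  ext ⟨k, hki, hkj⟩ ⟨l, hli, hlj⟩
  let x : Matrix.SpecialLinearGroup (Fin n) F :=
    ⟨transvection i k 1, det_transvection_of_ne i k (Ne.symm hki) 1⟩
  have hxC : x ∈ C := Subgroup.mem_centralizer_singleton_iff.mpr (by
    refine Subtype.ext ?_
    simp only [Matrix.SpecialLinearGroup.coe_mul, ht]
    show transvection i k (1 : F) * transvection i j 1 = transvection i j 1 * transvection i k 1
    simp [transvection, mul_add, add_mul, single_mul_single_of_ne, hki, hij.symm]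
    abel)
  have hx : φ ⟨x, hxC⟩ = 1 := by
    ext a b
    show transvection i k (1 : F) a.1 b.1 = (1 : Matrix (Mid i j) (Mid i j) F) a b
    rw [transvection, Matrix.add_apply, Matrix.single_apply_of_ne _ _ _ _ _ (fun h => a.2.1 h.1.symm),
      add_zero]
    simp [Matrix.one_apply, Subtype.ext_iff]
  have e := congrArg (fun y : ↥C => (y.1 : Matrix (Fin n) (Fin n) F)) (hgQ _ hx)
  simp only [Subgroup.coe_mul, Matrix.SpecialLinearGroup.coe_mul] at e
  have e' := eqs (i := i) (j := k) (comm_transvection (g := (g.1 : Matrix (Fin n) (Fin n) F)) e.symm)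
  show (g.1 : Matrix (Fin n) (Fin n) F) k l = (1 : Matrix (Mid i j) (Mid i j) F) ⟨k, _⟩ ⟨l, _⟩
  by_cases hlk : l = k
  · subst hlk
    rw [Matrix.one_apply_eq, ← e'.2.2, (h11 g).1]
  · rw [e'.2.1 l hlk, Matrix.one_apply_ne (by simp [Subtype.ext_iff, Ne.symm hlk])]

end Cfsg.Agent.S1339
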