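import Cfsg.Statements.S1340
import Cfsg.Agent.Lib.Classical.Transvection
import Cfsg.Agent.Lib.Layer.Basic
import Cfsg.Agent.Lib.Transfer.Basic

set_option autoImplicit false
open Cfsg Matrix

namespace Cfsg.Agent.S1340

/-- Let F be a finite field of odd order and n ≥ 3 with (n, |F|) ≠ (3, 3). Then GL(n, F) has a non-central involution t such that C(t) / O(C(t)) has a component. -/
theorem result {F : Type*} [Field F] [Fintype F] [DecidableEq F] (hF : Odd (Fintype.card F)) (n : ℕ) (hn : 3 ≤ n) (h33 : ¬ (n = 3 ∧ Fintype.card F = 3)) : ∃ t : Matrix.GeneralLinearGroup (Fin n) F, orderOf t = 2 ∧ t ∉ Subgroup.center (Matrix.GeneralLinearGroup (Fin n) F) ∧ Cfsg.HasComponent (↥(Subgroup.centralizer ({t} : Set (Matrix.GeneralLinearGroup (Fin n) F))) ⧸ Cfsg.oddCore ↥(Subgroup.centralizer ({t} : Set (Matrix.GeneralLinearGroup (Fin n) F)))) := by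
  classical

  have h2F : ringChar F ≠ 2 := fun h => by
    have := (FiniteField.even_card_iff_char_two (F := F)).mp h
    obtain ⟨k, hk⟩ := hF
    omega
  have h11 : (-1 : F) ≠ 1 := Ring.neg_one_ne_one_of_char_ne_two h2F
  obtain ⟨m, rfl⟩ : ∃ m, n = 1 + m := ⟨n - 1, by omega⟩
  have hm : 2 ≤ m := by omega
  haveI : Nontrivial (Fin m) := Fin.nontrivial_iff_two_le.mpr hm
  -- quasisimplicity of SL_m
  have hSL : Cfsg.IsQuasisimple (SpecialLinearGroup (Fin m) F) := by
    have h : 3 ≤ Fintype.card (Fin m) ∨ ∃ x : F, x ≠ 0 ∧ x ^ 2 ≠ 1 := by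
      rw [Fintype.card_fin]
      by_cases h3 : 3 ≤ m
      · exact Or.inl h3
      · right
        by_contra hno
        simp only [not_exists, not_and, not_not] at hno
        have hsub : (Finset.univ : Finset F) ⊆ {0, 1, -1} := fun x _ => by
          by_cases hx : x = 0
          · simp [hx]
          · have := hno x hx
            rw [sq_eq_one_iff] at this
            rcases this with h | h <;> simp [h]
        have hc := (Finset.card_le_card hsub).trans Finset.card_le_three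
        rw [Finset.card_univ] at hc
        obtain ⟨k, hk⟩ := hF
        have := Fintype.one_lt_card (α := F)
        exact h33 ⟨by omega, by omega⟩
    exact ⟨⟨CfsgLib.Classical.commutator_SL_eq_top h⟩, CfsgLib.Classical.isSimpleGroup_PSL h⟩
  -- block coordinates
  let r : Matrix (Fin 1 ⊕ Fin m) (Fin 1 ⊕ Fin m) F ≃* Matrix (Fin (1 + m)) (Fin (1 + m)) F :=
    (Matrix.reindexAlgEquiv F F finSumFinEquiv).toRingEquiv.toMulEquiv
  let e : GL (Fin 1 ⊕ Fin m) F ≃* GL (Fin (1 + m)) F := Units.mapEquiv r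
  let bl : Matrix (Fin 1) (Fin 1) F → Matrix (Fin m) (Fin m) F →
      Matrix (Fin 1 ⊕ Fin m) (Fin 1 ⊕ Fin m) F := fun a d => fromBlocks a 0 0 d
  have bl_mul : ∀ a b c d, bl a b * bl c d = bl (a * c) (b * d) := fun a b c d => by
    simp only [bl, fromBlocks_multiply, Matrix.mul_zero, Matrix.zero_mul, add_zero, zero_add]
  have bl_one : bl 1 1 = 1 := fromBlocks_one
  let t₀ : GL (Fin 1 ⊕ Fin m) F := ⟨bl (-1) 1, bl (-1) 1,
    by rw [bl_mul, neg_mul_neg, one_mul, one_mul, bl_one],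
    by rw [bl_mul, neg_mul_neg, one_mul, one_mul, bl_one]⟩
  let f₀ : SpecialLinearGroup (Fin m) F →* GL (Fin 1 ⊕ Fin m) F :=
    MonoidHom.mk' (fun A => ⟨bl 1 A.1, bl 1 (A⁻¹).1,
      by rw [bl_mul, one_mul, show A.1 * (A⁻¹).1 = 1 from congrArg Subtype.val (mul_inv_cancel A), bl_one],
      by rw [bl_mul, one_mul, show (A⁻¹).1 * A.1 = 1 from congrArg Subtype.val (inv_mul_cancel A), bl_one]⟩)
      (fun A B => Units.ext (by simp [bl_mul]))
  have hf₀ : Function.Injective f₀ := fun A B h => by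
    apply Subtype.ext
    exact ((fromBlocks_inj).mp (congrArg Units.val h)).2.2.2
  have hdec : ∀ g : GL (Fin 1 ⊕ Fin m) F, t₀ * g = g * t₀ →
      (g : Matrix (Fin 1 ⊕ Fin m) (Fin 1 ⊕ Fin m) F) =
        bl (g : Matrix (Fin 1 ⊕ Fin m) (Fin 1 ⊕ Fin m) F).toBlocks₁₁
          (g : Matrix (Fin 1 ⊕ Fin m) (Fin 1 ⊕ Fin m) F).toBlocks₂₂ := by
    intro g hg
    have h := congrArg Units.val hg
    simp only [Units.val_mul, t₀, bl] at h
    rw [← fromBlocks_toBlocks (g : Matrix (Fin 1 ⊕ Fin m) (Fin 1 ⊕ Fin m) F)] at h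
    simp only [fromBlocks_multiply, Matrix.zero_mul, Matrix.mul_zero, add_zero, zero_add,
      Matrix.one_mul, Matrix.mul_one, Matrix.neg_mul, Matrix.mul_neg] at h
    obtain ⟨-, h12, h21, -⟩ := fromBlocks_inj.mp h
    have z : ∀ x : F, -x = x → x = 0 := fun x hx => by
      have h2 : (2 : F) * x = 0 := by linear_combination -hx
      exact (mul_eq_zero.mp h2).resolve_left (Ring.two_ne_zero h2F)
    conv_lhs => rw [← fromBlocks_toBlocks (g : Matrix (Fin 1 ⊕ Fin m) (Fin 1 ⊕ Fin m) F)]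
    show fromBlocks _ _ _ _ = fromBlocks _ _ _ _
    congr 1
    · ext i j
      exact z _ (congrFun (congrFun h12 i) j)
    · ext i j
      exact z _ (congrFun (congrFun h21 i) j).symm
  have ht₀ : t₀ ≠ 1 := fun h => by
    have h1 : bl (-1) 1 = bl 1 1 := (congrArg Units.val h).trans bl_one.symm
    have h2 := congrFun (congrFun (fromBlocks_inj.mp h1).1 0) 0
    simp only [Matrix.neg_apply, Matrix.one_apply_eq] at h2
    exact h11 h2
  have hord : orderOf (e t₀) = 2 := by
    rw [MulEquiv.orderOf_eq, orderOf_eq_prime_iff]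
    refine ⟨Units.ext ?_, ht₀⟩
    rw [pow_two, Units.val_mul, Units.val_one]
    show bl (-1) 1 * bl (-1) 1 = 1
    rw [bl_mul, neg_mul_neg, one_mul, one_mul, bl_one]
  refine ⟨e t₀, hord, fun hc => ?_, ?_⟩
  · -- not central: a transvection between the two blocks
    have z : Fin 1 := 0
    let w : Fin m := ⟨0, by omega⟩
    let T : SpecialLinearGroup (Fin 1 ⊕ Fin m) F :=
      SpecialLinearGroup.transvection (show Sum.inl 0 ≠ Sum.inr w from Sum.inl_ne_inr) 1
    have h := Subgroup.mem_center_iff.mp hc (e (SpecialLinearGroup.toGL T))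
    rw [← map_mul, ← map_mul] at h
    have h2 := hdec _ (e.injective h).symm
    have h3 := congrFun (congrFun h2 (Sum.inl 0)) (Sum.inr w)
    simp only [T, bl, fromBlocks_apply₁₂, Matrix.zero_apply] at h3
    rw [Matrix.SpecialLinearGroup.coe_GL_coe_matrix, SpecialLinearGroup.transvection_coe] at h3
    simp at h3
  set C := Subgroup.centralizer ({e t₀} : Set (GL (Fin (1 + m)) F)) with hC
  have hfC : ∀ A, e (f₀ A) ∈ C := fun A => by
    rw [hC, Subgroup.mem_centralizer_singleton_iff, ← map_mul, ← map_mul]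
    congr 1
    refine Units.ext ?_
    show bl 1 A.1 * bl (-1) 1 = bl (-1) 1 * bl 1 A.1
    rw [bl_mul, bl_mul, one_mul, mul_one, mul_one, one_mul]
  let f : SpecialLinearGroup (Fin m) F →* C := (e.toMonoidHom.comp f₀).codRestrict C hfC
  have hf : Function.Injective f := fun A B h => hf₀ (e.injective (congrArg Subtype.val h))
  have hnorm : f.range.Normal := by
    refine ⟨?_⟩
    rintro _ ⟨A, rfl⟩ c
    obtain ⟨g, hg⟩ := e.surjective c.1
    have hcomm : ∀ x : GL (Fin 1 ⊕ Fin m) F, e x ∈ C → t₀ * x = x * t₀ := fun x hx => by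
      rw [hC, Subgroup.mem_centralizer_singleton_iff, ← map_mul, ← map_mul] at hx
      exact (e.injective hx).symm
    have h1 := hdec g (hcomm g (hg ▸ c.2))
    have h2 := hdec g⁻¹ (hcomm g⁻¹ (by rw [map_inv, hg]; exact inv_mem c.2))
    set a := (g : Matrix (Fin 1 ⊕ Fin m) (Fin 1 ⊕ Fin m) F).toBlocks₁₁
    set d := (g : Matrix (Fin 1 ⊕ Fin m) (Fin 1 ⊕ Fin m) F).toBlocks₂₂
    set a' := ((g⁻¹ : GL (Fin 1 ⊕ Fin m) F) : Matrix (Fin 1 ⊕ Fin m) (Fin 1 ⊕ Fin m) F).toBlocks₁₁
    set d' := ((g⁻¹ : GL (Fin 1 ⊕ Fin m) F) : Matrix (Fin 1 ⊕ Fin m) (Fin 1 ⊕ Fin m) F).toBlocks₂₂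
    have h3 := g.mul_inv
    rw [h1, h2, bl_mul, ← bl_one] at h3
    obtain ⟨ha, -, -, hd⟩ := fromBlocks_inj.mp h3
    have hdet : (d * A.1 * d').det = 1 := by
      rw [det_mul, det_mul, A.2, mul_one, ← det_mul, hd, det_one]
    refine ⟨⟨d * A.1 * d', hdet⟩, Subtype.ext ?_⟩
    show e (f₀ _) = c.1 * e (f₀ A) * c.1⁻¹
    rw [← hg, ← map_inv, ← map_mul, ← map_mul]
    congr 1
    refine Units.ext ?_
    rw [Units.val_mul, Units.val_mul, h1, h2]
    show bl 1 (d * A.1 * d') = bl a d * bl 1 A.1 * bl a' d'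
    rw [bl_mul, bl_mul, mul_one, ha]
  set O := Cfsg.oddCore ↥C with hO
  haveI : O.Normal := CfsgLib.Transfer.pPrimeCore_normal 2 ↥C
  have hq : Function.Surjective (QuotientGroup.mk' O) := QuotientGroup.mk'_surjective O
  refine ⟨f.range.map (QuotientGroup.mk' O), (hnorm.map _ hq).isSubnormal, ?_⟩
  let g := ((QuotientGroup.mk' O).comp f).rangeRestrict
  have hrg : f.range.map (QuotientGroup.mk' O) = ((QuotientGroup.mk' O).comp f).range :=
    MonoidHom.map_range _ _
  rw [hrg]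
  -- the involution of SL_m survives
  obtain ⟨i, j, hij⟩ := exists_pair_ne (Fin m)
  let s := SpecialLinearGroup.diag2n hij (-1 : F) (by norm_num)
  have hs1 : s ≠ 1 := fun h => by
    have := congrArg (fun x : SpecialLinearGroup (Fin m) F => x.1 i i) h
    simp [s, SpecialLinearGroup.diag2n_coe] at this
    exact h11 this
  have hs2 : s ^ 2 = 1 := by
    refine CfsgLib.Classical.SL_ext_smul fun v => funext fun k => ?_
    simp only [s, pow_two, mul_smul, one_smul, CfsgLib.Classical.diag2n_smul_apply]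
    split_ifs <;> norm_num
  have hsO : f s ∉ O := fun h => by
    have h2 : orderOf (f s) = 2 := orderOf_eq_prime (by rw [← map_pow, hs2, map_one])
      (fun h => hs1 (hf (h.trans (map_one f).symm)))
    have h3 := h2 ▸ O.orderOf_dvd_natCard h
    have h4 : (Nat.card O).Coprime 2 := CfsgLib.Transfer.pPrimeCore_coprime 2
    exact absurd (Nat.le_of_dvd one_pos (h4 ▸ Nat.dvd_gcd h3 dvd_rfl)) (by norm_num)
  haveI : Nontrivial ((QuotientGroup.mk' O).comp f).range := ⟨⟨g s, 1, fun h => hsO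
    ((QuotientGroup.eq_one_iff _).mp (congrArg Subtype.val h))⟩⟩
  exact CfsgLib.Layer.isQuasisimple_of_surjective (MonoidHom.rangeRestrict_surjective _) hSL

end Cfsg.Agent.S1340
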