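import Cfsg.Statements.S1346
import Cfsg.Agent.Lib.Layer.CoreBalance

set_option autoImplicit false
open Cfsg

namespace Cfsg.Agent.S1346

/-- Let G be a finite group all of whose 2-local subgroups have known non-abelian composition factors, and x, y commuting involutions. Then the extended 2-layer of L*_{2'}(C_G(x)) ∩ C_G(y) (as a group) is contained in L*_{2'}(C_G(y)). -/
theorem result {G : Type*} [Group G] [Finite G] (hK : ∀ T : Subgroup G, IsPGroup 2 ↥T → T ≠ ⊥ → Cfsg.IsCompositionKGroup ↥(Subgroup.normalizer (T : Set G))) (x y : G) (hx : orderOf x = 2) (hy : orderOf y = 2) (hxy : x * y = y * x) : (Cfsg.extendedTwoLayer ↥((Cfsg.extendedTwoLayer ↥(Subgroup.centralizer ({x} : Set G))).map (Subgroup.centralizer ({x} : Set G)).subtype ⊓ Subgroup.centralizer ({y} : Set G))).map ((Cfsg.extendedTwoLayer ↥(Subgroup.centralizer ({x} : Set G))).map (Subgroup.centralizer ({x} : Set G)).subtype ⊓ Subgroup.centralizer ({y} : Set G)).subtype ≤ (Cfsg.extendedTwoLayer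 ↥(Subgroup.centralizer ({y} : Set G))).map (Subgroup.centralizer ({y} : Set G)).subtype := by
  classical
  haveI : Fact (Nat.Prime 2) := ⟨Nat.prime_two⟩
  set Cy := Subgroup.centralizer ({y} : Set G) with hCy
  set Cx := Subgroup.centralizer ({x} : Set G) with hCx
  set L := (Cfsg.extendedTwoLayer ↥Cx).map Cx.subtype with hL
  set H := L ⊓ Cy with hH
  have hHy : H ≤ Cy := inf_le_right
  have hxy' : x ∈ Cy := Subgroup.mem_centralizer_singleton_iff.mpr hxy
  set x' : ↥Cy := ⟨x, hxy'⟩ with hx'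
  have hRp : IsPGroup 2 ↥(Subgroup.zpowers x') :=
    IsPGroup.of_card (n := 1) (by rw [Nat.card_zpowers, pow_one, ← Subgroup.orderOf_coe]; exact hx)
  have hcent : ∀ c : ↥Cy, c ∈ Subgroup.centralizer ((Subgroup.zpowers x' : Subgroup ↥Cy) : Set ↥Cy) ↔
      (c : G) ∈ Cx := by
    intro c
    rw [Subgroup.zpowers_eq_closure, Subgroup.centralizer_closure, Subgroup.mem_centralizer_singleton_iff,
      hCx, Subgroup.mem_centralizer_singleton_iff]
    exact ⟨fun h => congrArg Subtype.val h, fun h => Subtype.ext h⟩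
  set C := Subgroup.centralizer ((Subgroup.zpowers x' : Subgroup ↥Cy) : Set ↥Cy) with hC
  set f := Subgroup.inclusion hHy with hf
  have hHC : f.range ≤ C := by
    rintro _ ⟨k, rfl⟩
    exact (hcent _).mpr (Subgroup.map_subtype_le (H := Cx) _ k.2.1)
  haveI := CfsgLib.Layer.ExtendedTwoLayer.extendedTwoLayer_normal (X := ↥Cx)
  have hn : (f.range.subgroupOf C).Normal := by
    refine ⟨fun h hh d => ?_⟩
    obtain ⟨k, hk⟩ := hh
    obtain ⟨l, hl, hle⟩ := (Subgroup.mem_inf.mp k.2).1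
    have hd : ((d : ↥Cy) : G) ∈ Cx := (hcent d).mp d.2
    have hkh : (k : G) = ((h : ↥Cy) : G) := congrArg Subtype.val hk
    have hmem : (((d * h * d⁻¹ : ↥C) : ↥Cy) : G) ∈ H := by
      refine Subgroup.mem_inf.mpr ⟨⟨⟨_, hd⟩ * l * ⟨_, hd⟩⁻¹,
        (inferInstance : (Cfsg.extendedTwoLayer ↥Cx).Normal).conj_mem l hl ⟨_, hd⟩, ?_⟩,
        ((d * h * d⁻¹ : ↥C) : ↥Cy).2⟩
      show ((d : ↥Cy) : G) * Cx.subtype l * ((d : ↥Cy) : G)⁻¹ = _
      rw [hle, hkh]
      rfl
    exact ⟨⟨_, hmem⟩, Subtype.ext rfl⟩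
  have h := Subgroup.map_mono (f := Cy.subtype)
    (CfsgLib.Layer.CoreBalance.map_extendedTwoLayer_le hRp f (Subgroup.inclusion_injective hHy) hHC hn)
  refine le_trans ?_ h
  rw [Subgroup.map_map]
  exact le_of_eq (congrArg (fun φ => Subgroup.map φ (Cfsg.extendedTwoLayer ↥H)) rfl)

end Cfsg.Agent.S1346
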