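import Cfsg.Statements.S1350
import Cfsg.Agent.Lib.OddLocal.SigmaHall
set_option autoImplicit false
open Cfsg

namespace Cfsg.Agent.S1350

/-- Let G be a minimal simple group of odd order and M a maximal subgroup. Then M_σ (the largest normal σ(M)-subgroup of M) is a Hall σ(M)-subgroup of M and also of G, and every Hall σ(M)-subgroup of M that is normal in M equals M_σ. -/
theorem result {G : Type*} [Group G] [Finite G] (hG : Cfsg.IsMinSimpleOddOrder G)
    (M : Subgroup G) (hM : IsCoatom M) :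
    Cfsg.IsPiHallOf (Cfsg.sigma M) (Cfsg.sigmaCore M) M ∧ Cfsg.IsPiHall (Cfsg.sigma M) (Cfsg.sigmaCore M) ∧
      ∀ N : Subgroup G, M ≤ Subgroup.normalizer (N : Set G) → Cfsg.IsPiHallOf (Cfsg.sigma M) N M →
        N = Cfsg.sigmaCore M := by
  have hs := fun q (hq : q.Prime) (hqs : q ∈ Cfsg.sigma M) => CfsgLib.OddLocal.not_dvd_index_sigma hG hM hq hqs
  have h1 := CfsgLib.OddLocal.isPiHallOf_core (π := Cfsg.sigma M) hs
  refine ⟨h1, CfsgLib.OddLocal.isPiHall_core le_rfl hs, fun N hMN hN => ?_⟩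
  refine Subgroup.eq_of_le_of_card_ge (CfsgLib.OddLocal.le_piCoreOf hN.1 hMN hN.2.1) (Nat.le_of_dvd Nat.card_pos ?_)
  have hle : Cfsg.sigmaCore M ≤ M := CfsgLib.OddLocal.piCoreOf_le _ _
  have hcop : (Nat.card ↥(Cfsg.sigmaCore M)).Coprime (N.relIndex M) :=
    Nat.coprime_of_dvd fun q hq hd1 hd2 => hN.2.2 q hq (CfsgLib.OddLocal.isPi_piCoreOf _ M q hq hd1) hd2
  refine hcop.dvd_of_dvd_mul_right ?_
  rw [Subgroup.relIndex, ← Nat.card_congr (Subgroup.subgroupOfEquivOfLe hN.1).toEquiv, Subgroup.card_mul_index]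
  exact Subgroup.card_dvd_of_le hle

end Cfsg.Agent.S1350
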