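import Cfsg.Statements.S1358
import Cfsg.Agent.Lib.OddLocal.FittingBasics
set_option autoImplicit false
open Cfsg

namespace Cfsg.Agent.S1358

open scoped Pointwise
open CfsgLib.OddLocal

/-- Let G be a minimal simple group of odd order and M a maximal subgroup with standard factorisation M = K U M_σ. Then for every prime p, every Sylow p-subgroup of U is abelian and has no elementary abelian subgroup of order p ^ 3. -/
theorem result {G : Type*} [Group G] [Finite G] (hG : Cfsg.IsMinSimpleOddOrder G)
    (M : Subgroup G) (hM : IsCoatom M) (K U : Subgroup G) (hKU : Cfsg.IsSigmaDecomposition M K U) :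
    ∀ (p : ℕ), p.Prime → ∀ P : Sylow p U, IsMulCommutative (P : Subgroup U) ∧ Cfsg.PRankLE p 2 (P : Subgroup U) := by
  intro p hp P
  haveI := Fact.mk hp
  by_cases hd : p ∣ Nat.card U
  · obtain ⟨-, hσ⟩ := isPi_U hG hM hKU hp hd
    have hPM : (P : Subgroup U).map U.subtype ≤ M := (Subgroup.map_subtype_le _).trans hKU.compl.1
    refine ⟨⟨⟨fun a b => Subtype.ext (Subtype.ext ?_)⟩⟩, fun A hA hAe => ?_⟩
    · exact sylow_comm_of_not_sigma hG hM hp hσ hPM (P.2.map U.subtype) _ ⟨a, a.2, rfl⟩ _ ⟨b, b.2, rfl⟩
    · haveI := hA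
      set f := (Subgroup.inclusion hKU.compl.1).comp (P : Subgroup U).subtype with hf
      have hfi : Function.Injective f := (Subgroup.inclusion_injective hKU.compl.1).comp (Subgroup.subtype_injective _)
      rw [← Subgroup.card_map_of_injective hfi]
      refine prankLE_two_of_not_sigma hG hM hp hσ (A.map f) (Subgroup.map_isMulCommutative A f) ?_
      rintro _ ⟨a, ha, rfl⟩
      rw [← map_pow, hAe a ha, map_one]
  · have h1 : (P : Subgroup U) = ⊥ := Subgroup.card_eq_one.1 (by
      rw [P.card_eq_multiplicity, Nat.factorization_eq_zero_of_not_dvd hd, pow_zero])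
    refine ⟨⟨⟨fun a b => ?_⟩⟩, fun A _ _ => ?_⟩
    · have ha : ∀ c : (P : Subgroup U), (c : U) = 1 := fun c => Subgroup.mem_bot.1 (h1.le c.2)
      exact Subtype.ext (by
        show (a : U) * b = b * a
        rw [ha a, ha b])
    · refine le_trans (Nat.le_of_dvd Nat.card_pos (Subgroup.card_subgroup_dvd_card A)) ?_
      rw [h1, Subgroup.card_bot]
      exact Nat.one_le_pow _ _ hp.pos

end Cfsg.Agent.S1358
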