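import Cfsg.Statements.S1370
import Cfsg.Agent.Lib.OddLocal.KappaHat

set_option autoImplicit false
open Cfsg

namespace Cfsg.Agent.S1370

open scoped Pointwise
open CfsgLib.OddLocal

/-- Let G be a minimal simple group of odd order, M a maximal subgroup with standard factorisation M = K U M_σ, K ≠ 1, K* = M_σ ∩ C_G(K) and Z the subgroup generated by K and K*. Then the set of elements of Z lying in neither K nor K* is a TI-subset of G, and its set-normalizer in G is exactly Z. -/
theorem result {G : Type*} [Group G] [Finite G] (hG : Cfsg.IsMinSimpleOddOrder G)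
    (M : Subgroup G) (hM : IsCoatom M) (K U : Subgroup G) (hKU : Cfsg.IsSigmaDecomposition M K U) (hK1 : K ≠ ⊥) :
    Cfsg.IsTISubset ((↑(K ⊔ (Cfsg.sigmaCore M ⊓ Subgroup.centralizer (K : Set G))) : Set G) \ ((K : Set G) ∪ ↑(Cfsg.sigmaCore M ⊓ Subgroup.centralizer (K : Set G)))) ∧ Subgroup.normalizer ((↑(K ⊔ (Cfsg.sigmaCore M ⊓ Subgroup.centralizer (K : Set G))) : Set G) \ ((K : Set G) ∪ ↑(Cfsg.sigmaCore M ⊓ Subgroup.centralizer (K : Set G)))) = K ⊔ (Cfsg.sigmaCore M ⊓ Subgroup.centralizer (K : Set G)) := by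
  have h := kappaData_of_decomposition hG hM hKU hK1
  obtain ⟨Ms, Es, Us, hp⟩ := exists_partner h
  set Z := K ⊔ (Cfsg.sigmaCore M ⊓ Subgroup.centralizer (K : Set G)) with hZ
  show Cfsg.IsTISubset (zHat M K) ∧ Subgroup.normalizer (zHat M K) = Z
  have hN : Subgroup.normalizer (zHat M K) = Z := by
    refine le_antisymm (fun n hn => ?_) fun n hn => ?_
    · obtain ⟨t, ht⟩ := h.zHat_nonempty
      exact h.mem_zHat_conj_iff ht ((Subgroup.mem_set_normalizer_iff.1 hn t).1 ht)
    · haveI := hp.cyclic_Z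
      haveI : IsMulCommutative ↥Z := IsCyclic.isMulCommutative
      refine Subgroup.mem_set_normalizer_iff.2 fun t => ⟨fun ht => ?_, fun ht => ?_⟩
      · have hc : n * t = t * n := congrArg Subtype.val (mul_comm' (⟨n, hn⟩ : Z) ⟨t, (mem_zHat.1 ht).1⟩)
        rwa [hc, mul_inv_cancel_right]
      · have htZ : t ∈ Z := by
          have := Z.mul_mem (Z.mul_mem (Z.inv_mem hn) (mem_zHat.1 ht).1) hn
          rwa [show n⁻¹ * (n * t * n⁻¹) * n = t by group] at this
        have hc : n * t = t * n := congrArg Subtype.val (mul_comm' (⟨n, hn⟩ : Z) ⟨t, htZ⟩)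
        rwa [hc, mul_inv_cancel_right] at ht
  exact ⟨fun g hg x hx hgx => absurd (hN.ge (h.mem_zHat_conj_iff hx hgx)) hg, hN⟩

end Cfsg.Agent.S1370
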