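import Cfsg.Statements.S1371
import Cfsg.Agent.Lib.OddLocal.KappaUM

set_option autoImplicit false
open Cfsg

namespace Cfsg.Agent.S1371

open scoped Pointwise
open CfsgLib.OddLocal CfsgLib.Coprime
open CfsgLib.BG.FixedLine (conj_mem_of_le_normalizer)

/-- Let G be a minimal simple group of odd order, M a maximal subgroup with standard factorisation M = K U M_σ, K ≠ 1, K* = M_σ ∩ C_G(K), and Ẑ the set of elements of K K* outside K ∪ K*. Then the union of the M-conjugates of Ẑ equals A₀(M) with A(M) removed, and it is a TI-subset of G. -/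
theorem result {G : Type*} [Group G] [Finite G] (hG : Cfsg.IsMinSimpleOddOrder G)
    (M : Subgroup G) (hM : IsCoatom M) (K U : Subgroup G) (hKU : Cfsg.IsSigmaDecomposition M K U) (hK1 : K ≠ ⊥) :
    {a : G | ∃ m ∈ M, ∃ z ∈ ((↑(K ⊔ (Cfsg.sigmaCore M ⊓ Subgroup.centralizer (K : Set G))) : Set G) \ ((K : Set G) ∪ ↑(Cfsg.sigmaCore M ⊓ Subgroup.centralizer (K : Set G)))), a = m * z * m⁻¹} = Cfsg.sigmaA0 M K \ Cfsg.sigmaA M U ∧
      Cfsg.IsTISubset (Cfsg.sigmaA0 M K \ Cfsg.sigmaA M U) := by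
  classical
  have h := kappaData_of_decomposition hG hM hKU hK1
  obtain ⟨Ms, Es, Us, hp⟩ := exists_partner h
  set Z := K ⊔ (Cfsg.sigmaCore M ⊓ Subgroup.centralizer (K : Set G)) with hZ
  set X : Set G := {a : G | ∃ m ∈ M, ∃ z ∈ zHat M K, a = m * z * m⁻¹} with hX
  show X = Cfsg.sigmaA0 M K \ Cfsg.sigmaA M U ∧ Cfsg.IsTISubset (Cfsg.sigmaA0 M K \ Cfsg.sigmaA M U)
  have hKσ := h.K_inf_core
  have heq : X = Cfsg.sigmaA0 M K \ Cfsg.sigmaA M U := by
    ext a
    constructor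
    · rintro ⟨m, hm, z, hz, rfl⟩
      obtain ⟨hzZ, hzK, hzS⟩ := mem_zHat.1 hz
      obtain ⟨k, hk, c, hc, rfl⟩ := h.mem_Z_iff.1 hzZ
      have hc1 : c ≠ 1 := fun e => hzK (by rw [e, mul_one]; exact hk)
      have hk1 : k ≠ 1 := fun e => hzS (by rw [e, one_mul]; exact hc)
      have hkc := h.star_commute hk hc
      refine ⟨⟨⟨M.mul_mem (M.mul_mem hm (h.Z_le hzZ)) (M.inv_mem hm), m * c * m⁻¹,
        conj_mem_of_le_normalizer (le_normalizer_piCoreOf _ M hm) c hc.1,
        fun e => hc1 (conj_eq_one_iff.1 e), ?_⟩, ?_⟩, fun hA => ?_⟩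
      · calc m * (k * c) * m⁻¹ * (m * c * m⁻¹) = m * ((k * c) * c) * m⁻¹ := by group
          _ = m * (c * (k * c)) * m⁻¹ := by rw [(hkc.mul_left (Commute.refl c)).eq]
          _ = _ := by group
      · rintro ⟨k', hk', -, m', hm', he⟩
        obtain ⟨q, d, hq, hd, hdo⟩ := exists_prime_power_elem hc1
        have hct : c ∈ Subgroup.zpowers (k * c) := by
          rw [hkc.eq]; exact mem_zpowers_mul_of_coprime hkc.symm (h.coprime_orderOf hk hc).symm
        have h1 : q ∣ orderOf (k * c) :=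
          hdo ▸ orderOf_dvd_of_mem_zpowers (Subgroup.zpowers_le.2 hct hd)
        have h2 : orderOf (k * c) = orderOf k' := by
          have e1 := orderOf_injective (MulAut.conj m).toMonoidHom (MulAut.conj m).injective (k * c)
          have e2 := orderOf_injective (MulAut.conj m').toMonoidHom (MulAut.conj m').injective k'
          rw [← e1, ← e2]
          exact congrArg orderOf he
        exact (hKU.hall.2.1 q hq (h1.trans (h2 ▸ Subgroup.orderOf_dvd_natCard K hk'))).2.2.1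
          (sigma_of_mem_core hq (Subgroup.zpowers_le.2 hc.1 hd) hdo)
      · have h1 := conj_mem_of_le_normalizer (inv_mem (le_normalizer_UM hKU hm)) _ hA.2
        rw [inv_inv, show m⁻¹ * (m * (k * c) * m⁻¹) * m = k * c by group] at h1
        have h2 : k ∈ (U ⊔ Cfsg.sigmaCore M) ⊓ K := ⟨by
          have := Subgroup.mul_mem _ h1 (Subgroup.inv_mem _ (Subgroup.mem_sup_right (S := U) hc.1))
          rwa [mul_inv_cancel_right] at this, hk⟩
        rw [UM_inf_K hG hM hKU] at h2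
        exact hk1 h2
    · rintro ⟨⟨hhat, hconjK⟩, hA⟩
      have haM := hhat.1
      have hnot : a ∉ U ⊔ Cfsg.sigmaCore M := fun e => hA ⟨hhat, e⟩
      obtain ⟨l, hl, hld, v, hv, ⟨j, hj⟩, hvn⟩ : ∃ l : ℕ, l.Prime ∧ l ∣ orderOf a ∧ ∃ v ∈ Subgroup.zpowers a,
          (∃ j : ℕ, v ^ l ^ j = 1) ∧ v ∉ U ⊔ Cfsg.sigmaCore M := by
        by_contra hcon
        push Not at hcon
        exact hnot (mem_of_primary fun l hl hd v hv ⟨j, hj⟩ => hcon l hl hd v hv ⟨j, hj⟩)
      have hvM : v ∈ M := Subgroup.zpowers_le.2 haM hv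
      have hlκ : l ∈ Cfsg.kappa M := by
        by_contra hlκ
        refine hvn (mem_UM_of_primes hG hM hKU hvM fun l' hl' hd' => ?_)
        have := (Nat.prime_dvd_prime_iff_eq hl' hl).1
          (hl'.dvd_of_dvd_pow (hd'.trans (orderOf_dvd_of_pow_eq_one hj)))
        exact this ▸ hlκ
      haveI := isSolvable_of_ne_top hG hM.1
      obtain ⟨m, hm, hmK⟩ := exists_conj_le_hallOf hKU.hall (Subgroup.zpowers_le.2 hvM)
        (fun l' hl' hd' => by
          rw [Nat.card_zpowers] at hd'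
          exact (Nat.prime_dvd_prime_iff_eq hl' hl).1
            (hl'.dvd_of_dvd_pow (hd'.trans (orderOf_dvd_of_pow_eq_one hj))) ▸ hlκ)
      have hvK : m * v * m⁻¹ ∈ K := hmK (mem_sigmaCore_conj_iff.2 (Subgroup.mem_zpowers v))
      have hv1 : v ≠ 1 := fun e => hvn (e ▸ one_mem _)
      have hav : Commute a v := by
        obtain ⟨i, rfl⟩ := Subgroup.mem_zpowers_iff.1 hv
        exact (Commute.refl a).zpow_right i
      have haZ : m * a * m⁻¹ ∈ Z := by
        rw [hZ, ← h.inf_centralizer hKU.cyclic hvK fun e => hv1 (conj_eq_one_iff.1 e)]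
        refine ⟨M.mul_mem (M.mul_mem hm haM) (M.inv_mem hm), mem_centralizer_singleton_of_commute ?_⟩
        show _ = _
        calc m * v * m⁻¹ * (m * a * m⁻¹) = m * (v * a) * m⁻¹ := by group
          _ = m * (a * v) * m⁻¹ := by rw [hav.eq]
          _ = _ := by group
      refine ⟨m⁻¹, M.inv_mem hm, m * a * m⁻¹, mem_zHat.2 ⟨haZ, fun e => ?_, fun e => ?_⟩, by group⟩
      · refine hconjK ⟨m * a * m⁻¹, e, fun e1 => hnot ?_, m⁻¹, M.inv_mem hm, by group⟩
        rw [conj_eq_one_iff.1 e1]; exact one_mem _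
      · have h1 := conj_mem_of_le_normalizer (le_normalizer_UM hKU (M.inv_mem hm)) _
          (Subgroup.mem_sup_right (S := U) e.1)
        rw [inv_inv, show m⁻¹ * (m * a * m⁻¹) * m = a by group] at h1
        exact hnot h1
  refine ⟨heq, ?_⟩
  rw [← heq]
  intro g hg x hx hgx
  obtain ⟨m, hm, z, hz, rfl⟩ := hx
  obtain ⟨m', hm', z', hz', he⟩ := hgx
  have hgM : g ∈ M := by
    have h1 := h.mem_zHat_conj_iff (g := m'⁻¹ * g * m) hz (by
      rw [show m'⁻¹ * g * m * z * (m'⁻¹ * g * m)⁻¹ = m'⁻¹ * (g * (m * z * m⁻¹) * g⁻¹) * m' by group, he,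
        show m'⁻¹ * (m' * z' * m'⁻¹) * m' = z' by group]
      exact hz')
    have h2 := M.mul_mem (M.mul_mem hm' (h.Z_le h1)) (M.inv_mem hm)
    rwa [show m' * (m'⁻¹ * g * m) * m⁻¹ = g by group] at h2
  refine absurd (Subgroup.mem_set_normalizer_iff.2 fun a => ⟨?_, ?_⟩) hg
  · rintro ⟨w, hw, t, ht, rfl⟩
    exact ⟨g * w, M.mul_mem hgM hw, t, ht, by group⟩
  · rintro ⟨w, hw, t, ht, he'⟩
    exact ⟨g⁻¹ * w, M.mul_mem (M.inv_mem hgM) hw, t, ht, by
      rw [show a = g⁻¹ * (g * a * g⁻¹) * g by group, he']; group⟩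

end Cfsg.Agent.S1371
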