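import Cfsg.Statements.S1374
import Cfsg.Agent.Lib.OddLocal.SigmaSupport
set_option autoImplicit false
open Cfsg

namespace Cfsg.Agent.S1374

open scoped Pointwise

/-- Let G be a minimal simple group of odd order, M a maximal subgroup and x a non-identity element of M_σ. Then C_M(x) has order coprime to its index in C_G(x), and C_G(x) has a normal subgroup R complementing C_M(x) such that for every conjugate gMg⁻¹ containing x there is exactly one r ∈ R with rMr⁻¹ = gMg⁻¹. -/
theorem result {G : Type*} [Group G] [Finite G] (hG : Cfsg.IsMinSimpleOddOrder G)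
    (M : Subgroup G) (hM : IsCoatom M) (x : G) (hx : x ∈ Cfsg.sigmaCore M) (hx1 : x ≠ 1) :
    (Nat.card ↥(M ⊓ Subgroup.centralizer ({x} : Set G))).Coprime ((M ⊓ Subgroup.centralizer ({x} : Set G)).relIndex (Subgroup.centralizer ({x} : Set G))) ∧
      ∃ R : Subgroup G, Subgroup.centralizer ({x} : Set G) ≤ Subgroup.normalizer (R : Set G) ∧ Cfsg.IsComplIn (M ⊓ Subgroup.centralizer ({x} : Set G)) R (Subgroup.centralizer ({x} : Set G)) ∧
        ∀ g : G, x ∈ M.map (MulAut.conj g).toMonoidHom → ∃! r : G, r ∈ R ∧ M.map (MulAut.conj r).toMonoidHom = M.map (MulAut.conj g).toMonoidHom := by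
  classical
  set C := Subgroup.centralizer ({x} : Set G) with hC
  by_cases hxM : C ≤ M
  · refine ⟨?_, ⊥, ?_, ⟨inf_le_right, bot_le, inf_bot_eq _, fun w hw => ⟨w, ⟨hxM hw, hw⟩, 1, one_mem _, (mul_one w).symm⟩⟩,
      fun g hg => ⟨1, ⟨one_mem _, ?_⟩, fun r hr => Subgroup.mem_bot.1 hr.1⟩⟩
    · rw [inf_eq_right.2 hxM, Subgroup.relIndex_self]
      exact Nat.coprime_one_right _
    · exact fun c _ => CfsgLib.BG.FixedLine.mem_normalizer_of_conj fun u hu => by
        rw [Subgroup.mem_bot.1 hu, mul_one, mul_inv_cancel]; exact one_mem _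
    · show MulAut.conj (1 : G) • M = MulAut.conj g • M
      rw [map_one, one_smul]
      exact ((CfsgLib.OddLocal.exists_conj_eq hG hM hx hx1 (g := g) hg).1 hxM).symm
  obtain ⟨N, h⟩ := CfsgLib.OddLocal.exists_support hG hM hx hx1 hxM
  refine ⟨?_, Cfsg.sigmaCore N ⊓ C, h.le_normalizer, h.centralizer_compl, fun g hg => ?_⟩
  · rw [CfsgLib.OddLocal.relIndex_left_of_isComplIn h.centralizer_compl]
    refine Nat.coprime_of_dvd fun r hr h1 h2 => ?_
    exact CfsgLib.OddLocal.not_sigma_of_dvd_compl hG h.hN h.compl hr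
      (h1.trans (Subgroup.card_dvd_of_le (le_inf inf_le_left (inf_le_right.trans h.hle))))
      (CfsgLib.OddLocal.isPi_piCoreOf _ N r hr (h2.trans (Subgroup.card_dvd_of_le inf_le_left)))
  · obtain ⟨k, hk, he⟩ := (CfsgLib.OddLocal.exists_conj_eq hG hM hx hx1 (g := g) hg).2 h
    exact ⟨k, ⟨hk, he.symm⟩, fun r hr => h.conj_unique hr.1.1 hk.1 (hr.2.trans he)⟩

end Cfsg.Agent.S1374
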