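import Cfsg.Statements.S1375
import Cfsg.Agent.Lib.OddLocal.KappaUM
import Cfsg.Agent.Lib.OddLocal.SupportPrimes
set_option autoImplicit false
open Cfsg

namespace Cfsg.Agent.S1375

open scoped Pointwise
open CfsgLib.OddLocal

/-- Let G be a minimal simple group of odd order, M a maximal subgroup, x ≠ 1 in M_σ with C_G(x) not contained in M. Then exactly one maximal subgroup N contains C_G(x); for it N_σ = N_F, C_{N_σ}(x) is a normal subgroup of C_G(x) complementing C_M(x), M ∩ N is a complement to N_σ in N, and for every standard factorisation N = K' U' N_σ one has U' ≠ 1 and x ∈ A(N) with x ∉ N_σ. -/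
theorem result {G : Type*} [Group G] [Finite G] (hG : Cfsg.IsMinSimpleOddOrder G)
    (M : Subgroup G) (hM : IsCoatom M) (x : G) (hx : x ∈ Cfsg.sigmaCore M) (hx1 : x ≠ 1) (hxM : ¬ Subgroup.centralizer ({x} : Set G) ≤ M) :
    ∃ N : Subgroup G, (IsCoatom N ∧ Subgroup.centralizer ({x} : Set G) ≤ N) ∧ (∀ L : Subgroup G, IsCoatom L → Subgroup.centralizer ({x} : Set G) ≤ L → L = N) ∧
        Cfsg.sigmaCore N = Cfsg.fittingHallOf N ∧
        Subgroup.centralizer ({x} : Set G) ≤ Subgroup.normalizer ((Cfsg.sigmaCore N ⊓ Subgroup.centralizer ({x} : Set G) : Subgroup G) : Set G) ∧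
        Cfsg.IsComplIn (M ⊓ Subgroup.centralizer ({x} : Set G)) (Cfsg.sigmaCore N ⊓ Subgroup.centralizer ({x} : Set G)) (Subgroup.centralizer ({x} : Set G)) ∧
        Cfsg.IsComplIn (M ⊓ N) (Cfsg.sigmaCore N) N ∧
        ∀ K' U' : Subgroup G, Cfsg.IsSigmaDecomposition N K' U' → U' ≠ ⊥ ∧ x ∈ Cfsg.sigmaA N U' ∧ x ∉ Cfsg.sigmaCore N := by
  obtain ⟨N, h⟩ := exists_support hG hM hx hx1 hxM
  refine ⟨N, ⟨h.hN, h.hle⟩, h.uniq, h.fittingHall_eq.symm, h.le_normalizer, h.centralizer_compl, h.compl,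
    fun K' U' hKU => ?_⟩
  have hxN : x ∉ Cfsg.sigmaCore N := fun hmem => hx1 (Subgroup.mem_bot.1
    (h.inf_eq ▸ ⟨hmem, piCoreOf_le _ M hx⟩ : x ∈ (⊥ : Subgroup G)))
  have hxU : x ∈ U' ⊔ Cfsg.sigmaCore N := mem_UM_of_primes hG h.hN hKU h.hxN fun l hl hd hκ =>
    (h.tau2 l hl hd).2.2.2 (kappa_prankLE hκ)
  refine ⟨fun e => hxN (by rwa [e, bot_sup_eq] at hxU), ⟨⟨h.hxN, ?_⟩, hxU⟩, hxN⟩
  obtain ⟨y, hy⟩ := (Subgroup.ne_bot_iff_exists_ne_one).1 h.fixed
  exact ⟨(y : G), y.2.1, fun e => hy (Subtype.ext e), (Subgroup.mem_centralizer_singleton_iff.1 y.2.2).symm⟩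

end Cfsg.Agent.S1375
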