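import Cfsg.Statements.S1386
import Cfsg.Agent.Lib.OddLocal.TypePBasic
import Cfsg.Agent.Lib.Char.CyclicTI

set_option autoImplicit false
open Cfsg

namespace Cfsg.Agent.S1386

/-- Let G be a finite group, W₁, W₂ subgroups forming a self-normalizing cyclic pair, S a subgroup with W₂ ≤ S and W₁ a complement to S' in S, and (W₁, U, W₂') type-P data for S. Then W₂' = W₂ (that is, C_{S'}(W₁) = W₂). -/
theorem result {G : Type*} [Group G] [Finite G] (W₁ W₂ S U W₂' : Subgroup G) (hW : Cfsg.IsSelfNormalizingCyclic W₁ W₂)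
    (hSW : Cfsg.IsComplIn ⁅S, S⁆ W₁ S) (hW₂S : W₂ ≤ S) (hP : Cfsg.IsTypePWith S W₁ U W₂') :
    W₂' = W₂ := by
  have hW' := hP.selfNormalizing
  obtain ⟨hW1, hW2, hWi, hWc, hWcyc, hWN⟩ := hW
  haveI := hWcyc
  haveI := hW'.2.2.2.2.1
  have hcomm' : ∀ a ∈ W₁ ⊔ W₂', ∀ b ∈ W₁ ⊔ W₂', a * b = b * a := fun a ha b hb =>
    congrArg Subtype.val ((CfsgLib.Char.CyclicTI.commutative_of hP.selfNormalizing).is_comm.comm
      (⟨a, ha⟩ : ↥(W₁ ⊔ W₂')) ⟨b, hb⟩)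
  obtain ⟨x, hx, hx1⟩ := W₁.ne_bot_iff_exists_ne_one.mp hW1 |> fun ⟨x, hx⟩ =>
    (⟨x, x.2, fun h => hx (Subtype.ext h)⟩ : ∃ x, x ∈ W₁ ∧ x ≠ (1 : G))
  obtain ⟨y, hy, hy1⟩ := W₂.ne_bot_iff_exists_ne_one.mp hW2 |> fun ⟨x, hx⟩ =>
    (⟨x, x.2, fun h => hx (Subtype.ext h)⟩ : ∃ x, x ∈ W₂ ∧ x ≠ (1 : G))
  -- `W₂ ≤ W₁ W₂'`
  have h2le : W₂ ≤ W₁ ⊔ W₂' := by
    intro w hw
    obtain ⟨a, ha, b, hb, rfl⟩ := hSW.2.2.2 w (hW₂S hw)
    refine mul_mem (Subgroup.mem_sup_right ?_) (Subgroup.mem_sup_left hb)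
    rw [← hP.W₂_centralizer x hx hx1]
    refine Subgroup.mem_inf.mpr ⟨ha, Subgroup.mem_centralizer_singleton_iff.mpr ?_⟩
    have h1 : Commute x (a * b) := hWc x hx _ hw
    have h2 : Commute x b := hcomm' x (Subgroup.mem_sup_left hx) b (Subgroup.mem_sup_left hb)
    have h3 := h1.mul_right h2.inv_right
    rw [mul_inv_cancel_right] at h3
    exact h3.symm.eq
  have hxy : x * y ∈ ((↑(W₁ ⊔ W₂) : Set G) \ (↑W₁ ∪ ↑W₂)) := by
    refine ⟨mul_mem (Subgroup.mem_sup_left hx) (Subgroup.mem_sup_right hy), ?_⟩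
    rintro (h | h)
    · have : y ∈ W₁ ⊓ W₂ := Subgroup.mem_inf.mpr ⟨(Subgroup.mul_mem_cancel_left _ hx).mp h, hy⟩
      rw [hWi, Subgroup.mem_bot] at this
      exact hy1 this
    · have : x ∈ W₁ ⊓ W₂ := Subgroup.mem_inf.mpr ⟨hx, (Subgroup.mul_mem_cancel_right _ hy).mp h⟩
      rw [hWi, Subgroup.mem_bot] at this
      exact hx1 this
  have h2'le : W₂' ≤ W₁ ⊔ W₂ := by
    intro w hw
    rw [← hWN {x * y} (Set.singleton_subset_iff.mpr hxy) (Set.singleton_nonempty _)]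
    refine Subgroup.centralizer_le_normalizer _ ?_
    rw [Subgroup.mem_centralizer_singleton_iff]
    exact hcomm' w (Subgroup.mem_sup_right hw) (x * y)
      (mul_mem (Subgroup.mem_sup_left hx) (h2le hy))
  have heq : W₁ ⊔ W₂' = W₁ ⊔ W₂ := le_antisymm (sup_le le_sup_left h2'le) (sup_le le_sup_left h2le)
  have hcard : ∀ V : Subgroup G, W₁ ⊓ V = ⊥ → (∀ a ∈ W₁, ∀ b ∈ V, a * b = b * a) →
      Nat.card ↥(W₁ ⊔ V) = Nat.card W₁ * Nat.card V := fun V hV hVc => by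
    refine CfsgLib.OddLocal.card_eq_of_isComplIn ⟨le_sup_left, le_sup_right, hV, fun m hm => ?_⟩
    have hle : V ≤ Subgroup.normalizer (W₁ : Set G) := fun v hv =>
      Subgroup.centralizer_le_normalizer _ fun a ha => hVc a ha v hv
    rw [← SetLike.mem_coe, Subgroup.coe_mul_of_right_le_normalizer_left _ _ hle, Set.mem_mul] at hm
    obtain ⟨a, ha, b, hb, rfl⟩ := hm
    exact ⟨a, ha, b, hb, rfl⟩
  have h4 := hcard W₂' hW'.2.2.1 hW'.2.2.2.1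
  rw [heq, hcard W₂ hWi hWc] at h4
  exact CfsgLib.Char.CyclicTI.eq_of_card_eq_in_cyclic h2'le le_sup_right
    (Nat.eq_of_mul_eq_mul_left Nat.card_pos h4).symm

end Cfsg.Agent.S1386
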