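import Cfsg.Statements.S1390
import Cfsg.Agent.Lib.OddLocal.TypeComplement
set_option autoImplicit false
open Cfsg

namespace Cfsg.Agent.S1390

open scoped Pointwise
open CfsgLib.OddLocal

/-- Let G be a minimal simple group of odd order, M a maximal subgroup and H = M_F; suppose M is of Type I and U is a complement to H in M, or M is of Type II and U is a complement to H in M'. Then every Sylow subgroup of U is abelian with no elementary abelian subgroup of order p ^ 3; for every nonempty set X of non-identity elements of U centralizing a non-identity element of H, C_G(X) ≤ M and M is the unique maximal subgroup containing C_G(X); and A(M) with A₁(M) removed is a TI-subset of G. -/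
theorem result {G : Type*} [Group G] [Finite G] (hG : Cfsg.IsMinSimpleOddOrder G)
    (M : Subgroup G) (hM : IsCoatom M) (U : Subgroup G)
    (hU : (Cfsg.IsOfTypeI M ∧ Cfsg.IsComplIn (Cfsg.fittingHallOf M) U M) ∨ (Cfsg.IsOfTypeII M ∧ Cfsg.IsComplIn (Cfsg.fittingHallOf M) U ⁅M, M⁆)) :
    (∀ (p : ℕ), p.Prime → ∀ P : Sylow p U, IsMulCommutative (P : Subgroup U) ∧ Cfsg.PRankLE p 2 (P : Subgroup U)) ∧
      (∀ X : Set G, X ⊆ (U : Set G) \ {1} → X.Nonempty → Cfsg.fittingHallOf M ⊓ Subgroup.centralizer X ≠ ⊥ →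
        Subgroup.centralizer X ≤ M ∧ ∀ L : Subgroup G, IsCoatom L → Subgroup.centralizer X ≤ L → L = M) ∧
      Cfsg.IsTISubset (Cfsg.typeA M \ Cfsg.typeA1 M) := by
  obtain ⟨K, U₀, hKU, hc, hA⟩ := typeI_II_data hG hM hU
  refine ⟨fun p hp P => complement_sylow hG hM hKU hc hp P,
    fun X hX hne hfix => complement_centralizer hG hM hKU hc hX hne fun e => hfix (le_bot_iff.1
      ((inf_le_inf_right _ (fittingHallOf_le_sigmaCore hG hM)).trans e.le)), ?_⟩
  have he : Cfsg.typeA M \ Cfsg.typeA1 M = Cfsg.sigmaA M U₀ \ (Cfsg.sigmaCore M : Set G) := by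
    ext a
    rw [hA, Cfsg.typeA1, CfsgLib.Peterfalvi.typeCore_eq_sigmaCore hG hM]
    simp only [Set.mem_sdiff, Set.mem_singleton_iff, SetLike.mem_coe]
    exact ⟨fun h => ⟨h.1.1, fun hs => h.2 ⟨hs, h.1.2⟩⟩,
      fun h => ⟨⟨h.1, fun e => h.2 (e ▸ one_mem _)⟩, fun hs => h.2 hs.1⟩⟩
  rw [he]
  exact sigmaA_diff_ti hG hM hKU
end Cfsg.Agent.S1390
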