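import Cfsg.Statements.S1427
import Cfsg.Agent.Lib.OddLocal.PrimeAction

set_option autoImplicit false
open Cfsg

namespace Cfsg.Agent.S1427

/-- Let G be a minimal simple group of odd order, M a maximal subgroup, E a complement to M_σ in M, and S a nontrivial cyclic Sylow subgroup of E (for some prime). Then M_σ ∩ C_G(x) = M_σ ∩ C_G(S) for every non-identity x ∈ S. -/
theorem result {G : Type*} [Group G] [Finite G] (hG : Cfsg.IsMinSimpleOddOrder G)
    (M : Subgroup G) (hM : IsCoatom M) (E : Subgroup G) (hE : Cfsg.IsComplIn E (Cfsg.sigmaCore M) M) (p : ℕ) [Fact p.Prime] (S : Sylow p E) (hS1 : (S : Subgroup E) ≠ ⊥) (hSc : IsCyclic (S : Subgroup E)) :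
    ∀ x ∈ (S : Subgroup E).map E.subtype, x ≠ 1 →
        Cfsg.sigmaCore M ⊓ Subgroup.centralizer ({x} : Set G) = Cfsg.sigmaCore M ⊓ Subgroup.centralizer (((S : Subgroup E).map E.subtype : Subgroup G) : Set G) := by
  intro x hx hx1
  obtain ⟨P, hP⟩ := CfsgLib.OddLocal.exists_sylow_of_compl hE (fun h => CfsgLib.OddLocal.not_sigma_of_dvd_compl hG hM hE
    (Fact.out) (by
      obtain ⟨k, hk⟩ := S.2.exists_card_eq
      refine dvd_trans ?_ (S : Subgroup E).card_subgroup_dvd_card
      rw [hk]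
      exact dvd_pow_self p fun h0 => hS1 (Subgroup.card_eq_one.1 (by rw [hk, h0, pow_zero]))) h) S
  set T := (S : Subgroup E).map E.subtype with hT
  have hTc : IsCyclic T := by
    haveI := hSc
    exact isCyclic_of_surjective ((S : Subgroup E).equivMapOfInjective E.subtype E.subtype_injective)
      (MulEquiv.surjective _)
  have hTE : T ≤ E := Subgroup.map_subtype_le _
  have hxT : Subgroup.zpowers x ≤ T := Subgroup.zpowers_le.2 hx
  obtain ⟨z, hz, -, hzo⟩ := CfsgLib.OddLocal.exists_central_order (Fact.out : p.Prime) ((S.2.map E.subtype).to_le hxT)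
    (fun e => hx1 (Subgroup.zpowers_eq_bot.1 e))
  have hpE : p ∣ Nat.card E := hzo ▸ Subgroup.orderOf_dvd_natCard E (hTE (hxT hz))
  refine le_antisymm (le_inf inf_le_left ?_) (inf_le_inf_left _ (Subgroup.centralizer_le (Set.singleton_subset_iff.2 hx)))
  refine le_trans ?_ (CfsgLib.OddLocal.fixed_line_le_centralizer hG hM Fact.out
    (CfsgLib.OddLocal.not_sigma_of_dvd_compl hG hM hE Fact.out hpE) (hpE.trans (Subgroup.card_dvd_of_le hE.1))
    (hTE.trans hE.1) hTc ⟨P, hP⟩ (X := Subgroup.zpowers z) (Subgroup.zpowers_le.2 (hxT hz))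
    (by rw [Nat.card_zpowers, hzo]))
  refine inf_le_inf_left _ ?_
  obtain ⟨i, rfl⟩ := Subgroup.mem_zpowers_iff.1 hz
  intro g hg y hy
  obtain ⟨j, rfl⟩ := Subgroup.mem_zpowers_iff.1 hy
  exact ((((show Commute g x from Subgroup.mem_centralizer_singleton_iff.1 hg).zpow_right i).zpow_right j).symm).eq

end Cfsg.Agent.S1427
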