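import Cfsg.Statements.S1430
import Cfsg.Agent.Lib.OddLocal.KappaStructure
set_option autoImplicit false
open Cfsg

namespace Cfsg.Agent.S1430

/-- Let G be a minimal simple group of odd order, M a maximal subgroup, K ≠ 1 a Hall κ(M)-subgroup of M and K* = M_σ ∩ C_G(K). Then M_σ ∩ C_G(k) = K* for every non-identity k ∈ K; there is an abelian subgroup U of M, a Hall subgroup of M for the primes outside κ(M) ∪ σ(M), normalized by K with U ∩ C_G(k) = 1 for all non-identity k ∈ K; and for every subgroup X ≤ K of prime order, M ∩ N_G(X) = M ∩ N_G(K) = K ⊔ K*, and X ≤ M*_σ for every maximal subgroup M* containing N_G(X). -/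
theorem result {G : Type*} [Group G] [Finite G] (hG : Cfsg.IsMinSimpleOddOrder G)
    (M : Subgroup G) (hM : IsCoatom M) (K : Subgroup G) (hK : Cfsg.IsPiHallOf (Cfsg.kappa M) K M) (hK1 : K ≠ ⊥) :
    (∀ k ∈ K, k ≠ 1 → Cfsg.sigmaCore M ⊓ Subgroup.centralizer ({k} : Set G) = (Cfsg.sigmaCore M ⊓ Subgroup.centralizer (K : Set G))) ∧
      (∃ U : Subgroup G, IsMulCommutative U ∧ Cfsg.IsPiHallOf {q | q.Prime ∧ q ∉ Cfsg.kappa M ∧ q ∉ Cfsg.sigma M} U M ∧
        K ≤ Subgroup.normalizer (U : Set G) ∧ ∀ k ∈ K, k ≠ 1 → U ⊓ Subgroup.centralizer ({k} : Set G) = ⊥) ∧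
      ∀ X : Subgroup G, X ≤ K → (Nat.card X).Prime →
        M ⊓ Subgroup.normalizer (X : Set G) = K ⊔ (Cfsg.sigmaCore M ⊓ Subgroup.centralizer (K : Set G)) ∧ M ⊓ Subgroup.normalizer (K : Set G) = K ⊔ (Cfsg.sigmaCore M ⊓ Subgroup.centralizer (K : Set G)) ∧
        ∀ Mstar : Subgroup G, IsCoatom Mstar → Subgroup.normalizer (X : Set G) ≤ Mstar → X ≤ Cfsg.sigmaCore Mstar := by
  obtain ⟨E, U, h⟩ := CfsgLib.OddLocal.exists_kappaData hG hM hK hK1
  refine ⟨h.action, ⟨U, h.comm, h.hallU, h.hKE.trans h.normalU, h.fpf⟩, fun X hX hXp => ?_⟩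
  obtain ⟨b, hb, hbo⟩ := CfsgLib.OddLocal.exists_order_of_dvd hXp (dvd_refl (Nat.card X))
  have hXb : X = Subgroup.zpowers b := CfsgLib.OddLocal.line_eq_zpowers hXp rfl hb hbo
  have hbK : b ∈ K := hX hb
  have hbp : (orderOf b).Prime := by rw [hbo]; exact hXp
  refine ⟨?_, h.inf_normalizer, fun L hL hNL => ?_⟩
  · rw [hXb]; exact h.inf_normalizer_line hbK hbp
  have hκ := h.hall.2.1 _ hbp (Subgroup.orderOf_dvd_natCard K hbK)
  have hfix : Cfsg.sigmaCore M ⊓ Subgroup.centralizer ({b} : Set G) ≠ ⊥ := by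
    rw [h.action b hbK fun e => hbp.ne_one (by rw [e, orderOf_one])]; exact h.fixed_ne
  obtain ⟨q, hq, hqd⟩ := Nat.exists_prime_and_dvd fun e => hfix (Subgroup.card_eq_one.1 e)
  obtain ⟨z, hz, hzo⟩ := CfsgLib.OddLocal.exists_order_of_dvd hq hqd
  haveI := Fact.mk hXp
  have hσ := (CfsgLib.OddLocal.partner_sigma hG hM hXp (by rw [← hbo]; exact hκ.2.2.1)
    (by rw [← hbo]; exact CfsgLib.OddLocal.kappa_prankLE hκ) (hX.trans hK.1) rfl hq hz.1 hzo
    (by rw [hXb, CfsgLib.OddLocal.centralizer_zpowers_eq]; exact hz.2) hL hNL).1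
  exact CfsgLib.OddLocal.le_sigmaCore_of_isPGroup hG hL hXp hσ (Subgroup.le_normalizer.trans hNL)
    (CfsgLib.OddLocal.isPGroup_line hXp rfl)

end Cfsg.Agent.S1430
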