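import Cfsg.Statements.S1431
import Cfsg.Agent.Lib.OddLocal.KappaStar
set_option autoImplicit false
open Cfsg

namespace Cfsg.Agent.S1431

/-- Let G be a minimal simple group of odd order, M a maximal subgroup, K ≠ 1 a Hall κ(M)-subgroup of M and K* = M_σ ∩ C_G(K). Then K* ∩ gMg⁻¹ = 1 for g ∉ M; K ∩ gKg⁻¹ = 1 for g ∈ M outside K K*; for every prime p dividing the order of K* and every Sylow p-subgroup S of M_σ, M is the unique maximal subgroup containing S, and S is not contained in K*; and every subgroup Y of G whose prime divisors lie in σ(M) and with Y ∩ K* ≠ 1 is contained in M_σ. -/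
theorem result {G : Type*} [Group G] [Finite G] (hG : Cfsg.IsMinSimpleOddOrder G)
    (M : Subgroup G) (hM : IsCoatom M) (K : Subgroup G) (hK : Cfsg.IsPiHallOf (Cfsg.kappa M) K M) (hK1 : K ≠ ⊥) :
    (∀ g : G, g ∉ M → (Cfsg.sigmaCore M ⊓ Subgroup.centralizer (K : Set G)) ⊓ M.map (MulAut.conj g).toMonoidHom = ⊥) ∧
      (∀ g ∈ M, g ∉ K ⊔ (Cfsg.sigmaCore M ⊓ Subgroup.centralizer (K : Set G)) → K ⊓ K.map (MulAut.conj g).toMonoidHom = ⊥) ∧
      (∀ (p : ℕ), p.Prime → p ∣ Nat.card ↥(Cfsg.sigmaCore M ⊓ Subgroup.centralizer (K : Set G)) → ∀ S : Sylow p ↥(Cfsg.sigmaCore M),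
        Cfsg.InUniqueMaximal ((S : Subgroup ↥(Cfsg.sigmaCore M)).map (Cfsg.sigmaCore M).subtype) ∧
        (S : Subgroup ↥(Cfsg.sigmaCore M)).map (Cfsg.sigmaCore M).subtype ≤ M ∧
        ¬ (S : Subgroup ↥(Cfsg.sigmaCore M)).map (Cfsg.sigmaCore M).subtype ≤ (Cfsg.sigmaCore M ⊓ Subgroup.centralizer (K : Set G))) ∧
      ∀ Y : Subgroup G, (∀ p : ℕ, p.Prime → p ∣ Nat.card Y → p ∈ Cfsg.sigma M) → Y ⊓ (Cfsg.sigmaCore M ⊓ Subgroup.centralizer (K : Set G)) ≠ ⊥ → Y ≤ Cfsg.sigmaCore M := by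
  classical
  obtain ⟨E, U, h⟩ := CfsgLib.OddLocal.exists_kappaData hG hM hK hK1
  refine ⟨fun g hg => ?_, fun g hgM hg => ?_, fun p hp hd S => ?_, fun Y hY hYK => ?_⟩
  · by_contra hne
    obtain ⟨q, hq, hqd⟩ := Nat.exists_prime_and_dvd fun e => hne (Subgroup.card_eq_one.1 e)
    obtain ⟨z, hz, hzo⟩ := CfsgLib.OddLocal.exists_order_of_dvd hq hqd
    obtain ⟨m, hm, hme⟩ := hz.2
    have hme' : z = g * m * g⁻¹ := hme.symm
    have h1 : g⁻¹ ∈ M := h.mem_of_conj_star hq hz.1 hzo (by rw [hme']; simpa [mul_assoc] using hm)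
    exact hg (by simpa using inv_mem h1)
  · by_contra hne
    obtain ⟨q, hq, hqd⟩ := Nat.exists_prime_and_dvd fun e => hne (Subgroup.card_eq_one.1 e)
    obtain ⟨z, hz, hzo⟩ := CfsgLib.OddLocal.exists_order_of_dvd hq hqd
    obtain ⟨b, hb, hbe⟩ := hz.2
    have hbe' : g * b * g⁻¹ = z := hbe
    have hbo : orderOf b = q := by
      rw [← hzo, ← hbe']
      exact (orderOf_injective (MulAut.conj g).toMonoidHom (MulAut.conj g).injective b).symm
    exact hg (h.mem_of_conj_line hgM hb (hbo.symm ▸ hq) (hbe'.symm ▸ hz.1))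
  · haveI := Fact.mk hp
    obtain ⟨x, hx, hxo⟩ := CfsgLib.OddLocal.exists_order_of_dvd hp hd
    obtain ⟨T, hTe, hTM⟩ := CfsgLib.OddLocal.exists_sylow_sigmaCore hG hM
      (CfsgLib.OddLocal.sigma_of_mem_core hp hx.1 hxo) S
    rw [← hTe]
    exact ⟨h.star_sylow_uniq hx hxo T hTM, hTM, h.not_sylow_le_star hx hxo T hTM⟩
  · obtain ⟨q, hq, hqd⟩ := Nat.exists_prime_and_dvd fun e => hYK (Subgroup.card_eq_one.1 e)
    obtain ⟨z, hz, hzo⟩ := CfsgLib.OddLocal.exists_order_of_dvd hq hqd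
    obtain ⟨g, hg⟩ := Cfsg.Agent.S1425.result hG M hM Y (fun e => hYK (by rw [e, bot_inf_eq])) hY
    have hgz : g * z * g⁻¹ ∈ M := CfsgLib.OddLocal.piCoreOf_le _ M (hg ⟨z, hz.1, rfl⟩)
    have hgM := h.mem_of_conj_star hq hz.2 hzo hgz
    intro y hy
    have h1 : g * y * g⁻¹ ∈ Cfsg.sigmaCore M := hg ⟨y, hy, rfl⟩
    have h2 := CfsgLib.BG.FixedLine.conj_mem_of_le_normalizer
      (CfsgLib.OddLocal.le_normalizer_piCoreOf _ M (inv_mem hgM)) _ h1
    rw [show y = g⁻¹ * (g * y * g⁻¹) * g⁻¹⁻¹ by group]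
    exact h2

end Cfsg.Agent.S1431
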