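import Cfsg.Statements.S1441
import Mathlib
import Cfsg.Agent.Lib.Coprime.Action

set_option autoImplicit false
open Cfsg

namespace Cfsg.Agent.S1441

/-- Let G be a finite group, H a solvable subgroup and A a subgroup normalizing H. Suppose there is a chain H = H₀ ≥ H₁ ≥ ⋯ ≥ H_n = 1 of subgroups normal in H and normalized by A such that A acts trivially on each factor H_{i-1}/H_i (that is, [H_{i-1}, A] ≤ H_i). Then every prime dividing the index of C_A(H) in A divides the order of H. -/
theorem result {G : Type*} [Group G] [Finite G] (H A : Subgroup G) (hH : Group.IsSolvable H) (hA : (A ≤ Subgroup.normalizer (H : Set G)))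
    (n : ℕ) (c : Fin (n + 1) → Subgroup G) (hc0 : c 0 = H) (hcn : c (Fin.last n) = ⊥) (hanti : Antitone c)
    (hcN : ∀ i, H ≤ Subgroup.normalizer ((c i : Subgroup G) : Set G)) (hcA : ∀ i, A ≤ Subgroup.normalizer ((c i : Subgroup G) : Set G))
    (htriv : ∀ i : Fin n, ⁅c i.castSucc, A⁆ ≤ c i.succ) :
    ∀ p : ℕ, p.Prime → p ∣ (A ⊓ Subgroup.centralizer (H : Set G)).relIndex A → p ∣ Nat.card H := by
  intro p hp hdvd
  by_contra hH'
  haveI := Fact.mk hp
  let P : Sylow p A := default
  set P' := (P : Subgroup A).map A.subtype with hP'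
  have hP'A : P' ≤ A := Subgroup.map_subtype_le _
  have hcop : (Nat.card P').Coprime (Nat.card (c 0)) := by
    obtain ⟨m, hm⟩ := IsPGroup.iff_card.mp (P.2.map A.subtype)
    rw [hm, hc0]
    exact ((Nat.Prime.coprime_iff_not_dvd hp).mpr hH').pow_left m
  have h0 := CfsgLib.Coprime.commutator_eq_bot_of_chain n c hcn hanti
    (fun i => hP'A.trans (hcA i)) hcop
    (fun i => le_trans (Subgroup.commutator_mono le_rfl hP'A) (htriv i))
  rw [hc0, Subgroup.commutator_comm] at h0
  have hP'C : P' ≤ A ⊓ Subgroup.centralizer (H : Set G) :=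
    le_inf hP'A (Subgroup.commutator_eq_bot_iff_le_centralizer.mp h0)
  have h1 : (A ⊓ Subgroup.centralizer (H : Set G)).relIndex A ∣ P'.relIndex A :=
    Subgroup.relIndex_dvd_of_le_left A hP'C
  have h2 : P'.relIndex A = (P : Subgroup A).index := by
    rw [hP', Subgroup.relIndex, Subgroup.subgroupOf, Subgroup.comap_map_eq_self_of_injective A.subtype_injective]
  exact P.not_dvd_index (h2 ▸ hdvd.trans h1)

end Cfsg.Agent.S1441
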