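import Cfsg.Statements.S1449
import Cfsg.Agent.Lib.BG.RankTwoOperators
import Cfsg.Agent.Lib.BG.Basic
set_option autoImplicit false
open Cfsg

namespace Cfsg.Agent.S1449

/-- Let G be a finite group, p an odd prime, R a p-subgroup with no elementary abelian subgroup of order p ^ 3, and A a solvable subgroup of odd order normalizing R with A ∩ C_G(R) = 1. Then the derived subgroup [A, A] is a p-group. -/
theorem result {G : Type*} [Group G] [Finite G] (p : ℕ) [Fact p.Prime] (hp : p ≠ 2) (R A : Subgroup G) (hR : IsPGroup p R) (hr : Cfsg.PRankLE p 2 R)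
    (hA : (A ≤ Subgroup.normalizer (R : Set G))) (hAs : Group.IsSolvable A) (hAodd : Odd (Nat.card A)) (hfaith : A ⊓ Subgroup.centralizer (R : Set G) = ⊥) :
    IsPGroup p ↥⁅A, A⁆ := by

  haveI := hAs
  intro x
  obtain ⟨a, ha, hax⟩ := (CfsgLib.BG.map_commutator_subtype A).ge x.2
  obtain ⟨k, hk⟩ := CfsgLib.BG.derived_acts_as_pElement hp hR hr hAs hAodd (CfsgLib.BG.conjAct A R hA) ha
  rw [← map_pow] at hk
  refine ⟨k, Subtype.ext ?_⟩
  have h1 : a ^ p ^ k = 1 := CfsgLib.BG.conjAct_injective hA hfaith (by rw [hk, map_one])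
  rw [Subgroup.coe_pow, ← hax, ← map_pow, h1, map_one, Subgroup.coe_one]

end Cfsg.Agent.S1449
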