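import Cfsg.Statements.S1454
import Cfsg.Agent.Lib.BG.Narrow
import Cfsg.Agent.Lib.BG.BlackburnOperators
import Cfsg.Agent.Lib.BG.Basic
import Cfsg.Agent.Lib.BG.DerivedPGroup
import Cfsg.Agent.Lib.PGroup.RankTwoAut
import Cfsg.Agent.S1447
set_option autoImplicit false
open Cfsg

namespace Cfsg.Agent.S1454

/-- Let G be a finite group, p an odd prime, R a narrow p-subgroup and A a solvable subgroup of odd order normalizing R with A ∩ C_G(R) = 1. Then [A, A] ≤ O_p(A) and the index of O_p(A) in A is coprime to p; if R has an elementary abelian subgroup of order p ^ 3 then the order of every element of A of order coprime to p divides p − 1; and if the order of A is a prime not dividing p(p − 1), then 2·#A divides p + 1, and if in addition [R, A] = R and R is non-abelian then #R = p ^ 3. -/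
theorem result {G : Type*} [Group G] [Finite G] (p : ℕ) [Fact p.Prime] (hp : p ≠ 2) (R A : Subgroup G) (hR : IsPGroup p R) (hRn : Cfsg.IsNarrow p R)
    (hA : (A ≤ Subgroup.normalizer (R : Set G))) (hAs : Group.IsSolvable A) (hAodd : Odd (Nat.card A)) (hfaith : A ⊓ Subgroup.centralizer (R : Set G) = ⊥) :
    (commutator ↥A ≤ Cfsg.pCore p ↥A ∧ ((Cfsg.pCore p ↥A).index).Coprime p) ∧
      (¬ Cfsg.PRankLE p 2 R → ∀ a ∈ A, (orderOf a).Coprime p → orderOf a ∣ p - 1) ∧
      ((Nat.card A).Prime → ¬ Nat.card A ∣ p * (p - 1) →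
        2 * Nat.card A ∣ p + 1 ∧ (⁅R, A⁆ = R → ¬ IsMulCommutative R → Nat.card R = p ^ 3)) := by

  classical
  have hpp : p.Prime := Fact.out
  haveI := hAs
  set f := CfsgLib.BG.conjAct A R hA with hf
  have hinj : Function.Injective f := CfsgLib.BG.conjAct_injective hA hfaith
  refine ⟨CfsgLib.BG.structure_of_derived_pGroup fun a ha => ?_, ?_, ?_⟩
  · have h1 : ∃ k : ℕ, f a ^ p ^ k = 1 := by
      by_cases hr : Cfsg.PRankLE p 2 R
      · exact CfsgLib.BG.derived_acts_as_pElement hp hR hr hAs hAodd f ha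
      · exact (CfsgLib.BG.narrow_auto hp hR hRn hr f a).2 ha
    obtain ⟨k, hk⟩ := h1
    exact ⟨k, hinj (by rw [map_pow, hk, map_one])⟩
  · intro hr a ha hco
    have h1 : orderOf (f ⟨a, ha⟩) = orderOf a := by rw [orderOf_injective f hinj, Subgroup.orderOf_mk]
    rw [← h1] at hco ⊢
    exact (CfsgLib.BG.narrow_auto hp hR hRn hr f _).1 hco
  · intro hq hnd
    haveI := Fact.mk hq
    set q := Nat.card A with hqdef
    have hqp : q ≠ p := fun e => hnd (by rw [e]; exact dvd_mul_right p _)
    obtain ⟨a, ha⟩ := exists_prime_orderOf_dvd_card' (G := A) q dvd_rfl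
    have hfa : orderOf (f a) = q := by rw [orderOf_injective f hinj, ha]
    have hr : Cfsg.PRankLE p 2 R := by
      by_contra hr
      have h1 := (CfsgLib.BG.narrow_auto hp hR hRn hr f a).1
        (by rw [hfa]; exact (Nat.coprime_primes hq hpp).2 hqp)
      rw [hfa] at h1
      exact hnd (h1.mul_left p)
    have h1 := CfsgLib.RankTwoAut.prime_dvd_of_rank_two hR hp hr hqp (f a) hfa
    have h2 : q ∣ p + 1 := by
      rw [show p ^ 2 - 1 = (p + 1) * (p - 1) by rw [← Nat.sq_sub_sq, one_pow]] at h1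
      exact (hq.dvd_mul.1 h1).resolve_right fun h => hnd (h.mul_left p)
    have hp1 : 2 ∣ p + 1 := (Nat.Prime.odd_of_ne_two hpp hp).add_one.two_dvd
    have hq2 : Odd q := hAodd
    refine ⟨Nat.Coprime.mul_dvd_of_dvd_of_dvd (Nat.coprime_two_left.2 hq2) hp1 h2, fun hRA hnab => ?_⟩
    have hcop : (Nat.card A).Coprime p := (Nat.coprime_primes hq hpp).2 hqp
    have hgen := CfsgLib.BG.closure_diff_eq_top hA hRA
    have ha1 : f a ≠ 1 := fun e => hq.one_lt.ne (by rw [← hfa, e, orderOf_one])
    have hp3 : 3 < p := by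
      by_contra h3
      have hp3 : p = 3 := by
        have := hpp.two_le
        omega
      exact ha1 (CfsgLib.BG.eq_one_of_three hp3 hR hr (f a) (hfa.symm ▸ hq2) (hfa.symm ▸ hcop))
    have hO : ¬ Nat.card ↥(Cfsg.omegaOne p (⊤ : Subgroup R)) ≤ p ^ 2 := fun hO => by
      have h := (Cfsg.Agent.S1447.result p hp R A hR
        (CfsgLib.Blackburn.isMetacyclic_aux hp3 _ R rfl hR hO) hA hcop).1
      rw [hRA] at h
      exact hnab h
    obtain ⟨R0, z, hs⟩ :=
      CfsgLib.RankTwoShape.exists_shape hp3 hR (fun E hE => hr E hE.1 hE.2) (not_le.1 hO)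
    obtain ⟨hsup, hcyc, -⟩ := CfsgLib.BG.central_product hp3 hR hr hs f hcop hAodd hgen
    haveI := hs.normal
    set C := Subgroup.centralizer (R0 : Set R) with hC
    have hCch : C.Characteristic := by
      refine ⟨fun φ => ?_⟩
      ext x
      rw [Subgroup.mem_comap, hC, Subgroup.mem_centralizer_iff, Subgroup.mem_centralizer_iff]
      have hmem : ∀ (ψ : MulAut R) (r : R), r ∈ R0 → ψ r ∈ R0 := fun ψ r hr' =>
        (hs.mem _).2 (by rw [← map_pow, (hs.mem r).1 hr', map_one])
      constructor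
      · intro h r hr'
        refine φ.injective ?_
        rw [map_mul, map_mul]
        exact h _ (hmem φ r hr')
      · intro h r hr'
        have h3 := congrArg φ (h _ (hmem φ⁻¹ r hr'))
        simpa using h3
    haveI := hcyc
    have hfix : ∀ b : A, ∀ c ∈ C, f b c = c := by
      intro b c hc
      have h3 : CfsgLib.BG.restrictChar C hCch (f b) = 1 := by
        refine orderOf_eq_one_iff.1 ?_
        have hdq : orderOf (CfsgLib.BG.restrictChar C hCch (f b)) ∣ q :=
          ((orderOf_map_dvd _ _).trans (orderOf_map_dvd f b)).trans (orderOf_dvd_natCard b)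
        refine ((Nat.dvd_prime hq).1 hdq).resolve_right fun e => ?_
        haveI : Finite (MulAut C) :=
          Finite.of_injective (fun e : MulAut C => (e : C → C)) fun a b h => MulEquiv.ext (congrFun h)
        have h4 : orderOf (CfsgLib.BG.restrictChar C hCch (f b)) ∣ Nat.card (MulAut C) := orderOf_dvd_natCard _
        obtain ⟨k, hk⟩ := IsPGroup.iff_card.1 (hR.to_subgroup C)
        rw [e, IsCyclic.card_mulAut C, hk] at h4
        rcases Nat.eq_zero_or_pos k with rfl | hk0
        · rw [pow_zero, Nat.totient_one] at h4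
          exact hq.not_dvd_one h4
        · rw [Nat.totient_prime_pow hpp hk0] at h4
          rcases hq.dvd_mul.1 h4 with h5 | h5
          · exact hqp ((Nat.prime_dvd_prime_iff_eq hq hpp).1 (hq.dvd_of_dvd_pow h5))
          · exact hnd (h5.mul_left p)
      exact congrArg Subtype.val (DFunLike.congr_fun h3 ⟨c, hc⟩)
    have htop : R0 = ⊤ := by
      refine eq_top_iff.2 (hgen.ge.trans ((Subgroup.closure_le _).2 ?_))
      rintro _ ⟨b, x, rfl⟩
      obtain ⟨r, hr', c, hc, rfl⟩ := Subgroup.mem_sup_of_normal_left.1 (hsup ▸ Subgroup.mem_top x :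
        x ∈ R0 ⊔ C)
      have hrR : r⁻¹ * f b r ∈ R0 :=
        R0.mul_mem (R0.inv_mem hr') ((hs.mem _).2 (by rw [← map_pow, (hs.mem r).1 hr', map_one]))
      show (r * c)⁻¹ * f b (r * c) ∈ R0
      rw [map_mul, hfix b c hc, show (r * c)⁻¹ * (f b r * c) = c⁻¹ * (r⁻¹ * f b r) * c by group,
        mul_assoc, Subgroup.mem_centralizer_iff.1 hc _ hrR, inv_mul_cancel_left]
      exact hrR
    rw [← hs.card, htop, Subgroup.card_top]

end Cfsg.Agent.S1454
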