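import Cfsg.Statements.S1456
import Cfsg.Agent.Lib.BG.FittingDerived
import Cfsg.Agent.Lib.BG.NarrowOfElementary
set_option autoImplicit false
open Cfsg

namespace Cfsg.Agent.S1456

/-- Let G be a solvable group of odd order, p a prime, and E an elementary abelian p-subgroup of the Fitting subgroup F(G) such that F(G) ∩ C_G(E) has no elementary abelian subgroup of order q ^ 3 for any prime q. Then the derived subgroup of G is contained in F(G). -/
theorem result {G : Type*} [Group G] [Finite G] [Group.IsSolvable G] (hodd : Odd (Nat.card G)) (p : ℕ) [Fact p.Prime] (E : Subgroup G) (hE : E ≤ Cfsg.fittingSubgroup G) (hEe : Cfsg.IsElementaryAbelian p E)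
    (hr : Cfsg.RankLE 2 ↥(Cfsg.fittingSubgroup G ⊓ Subgroup.centralizer (E : Set G))) :
    commutator G ≤ Cfsg.fittingSubgroup G := by
  classical
  haveI := CfsgLib.Fitting.fittingSubgroup_normal (G := G)
  have hrk := hr
  clear hr
  refine (CfsgLib.BG.derived_le_fitting fun r hr => ?_).2
  refine CfsgLib.BG.derived_acts_on_pCore hr ‹_› hodd ?_
  haveI := Fact.mk hr
  have hrF : Cfsg.pCore r G ≤ Cfsg.fittingSubgroup G := CfsgLib.Fitting.pCore_le_fittingSubgroup r
  have hEp : E ≤ Cfsg.pCore p G := fun x hx =>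
    CfsgLib.BG.mem_pCore_of_mem_fitting (Fact.out : p.Prime) (hE hx) (k := 1) (by rw [pow_one]; exact hEe.2 x hx)
  by_cases hrp : r = p
  · subst hrp
    by_cases hr2 : r = 2
    · subst hr2
      refine Or.inl fun B _ hBe => ?_
      obtain ⟨k, hk⟩ := IsPGroup.iff_card.1 ((CfsgLib.Fitting.pCore_isPGroup (G := G) 2).to_subgroup B)
      rcases Nat.eq_zero_or_pos k with rfl | hk0
      · rw [hk]; norm_num
      · exfalso
        have h1 : 2 ∣ Nat.card B := hk ▸ dvd_pow_self 2 hk0.ne'
        exact (Nat.not_even_iff_odd.2 hodd) (even_iff_two_dvd.2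
          (h1.trans ((Subgroup.card_subgroup_dvd_card B).trans (Subgroup.card_subgroup_dvd_card _))))
    set P := Cfsg.pCore r G with hP
    refine CfsgLib.BG.isNarrow_of_centralizer_rank hr2 (CfsgLib.Fitting.pCore_isPGroup r)
      (E := E.subgroupOf P) ⟨?_, fun a ha => Subtype.ext (hEe.2 (a : G) ha)⟩ ?_
    · haveI := hEe.1
      exact ⟨⟨fun a b => Subtype.ext (Subtype.ext (show ((a : P) : G) * ((b : P) : G) = ((b : P) : G) * ((a : P) : G)
        from congrArg Subtype.val (mul_comm' (⟨((a : P) : G), a.2⟩ : E) ⟨((b : P) : G), b.2⟩)))⟩⟩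
    · let g : ↥(Subgroup.centralizer ((E.subgroupOf P : Subgroup P) : Set P)) →*
          ↥(Cfsg.fittingSubgroup G ⊓ Subgroup.centralizer (E : Set G)) :=
        (P.subtype.comp (Subgroup.subtype _)).codRestrict _ fun x =>
          ⟨hrF x.1.2, fun u hu => congrArg Subtype.val (x.2 ⟨u, hEp hu⟩ hu)⟩
      exact CfsgLib.BG.prankLE_of_injective g
        (fun a b h => Subtype.ext (Subtype.ext (congrArg Subtype.val h :))) (hrk r hr)
  · haveI := CfsgLib.Fitting.pCore_normal (G := G) r
    haveI := CfsgLib.Fitting.pCore_normal (G := G) p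
    have hd : Disjoint (Cfsg.pCore r G) (Cfsg.pCore p G) := IsPGroup.disjoint_of_ne r p hrp _ _
      (CfsgLib.Fitting.pCore_isPGroup r) (CfsgLib.Fitting.pCore_isPGroup p)
    let g : ↥(Cfsg.pCore r G) →* ↥(Cfsg.fittingSubgroup G ⊓ Subgroup.centralizer (E : Set G)) :=
      (Cfsg.pCore r G).subtype.codRestrict _ fun x => ⟨hrF x.2, fun u hu =>
        (Subgroup.commute_of_normal_of_disjoint _ _ inferInstance inferInstance hd (x : G) u x.2 (hEp hu)).symm.eq⟩
    exact Or.inl (CfsgLib.BG.prankLE_of_injective g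
      (fun a b h => Subtype.ext (congrArg Subtype.val h :)) (hrk r hr))
end Cfsg.Agent.S1456
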