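import Cfsg.Statements.S1457
import Cfsg.Agent.Lib.Quadratic.Stable
import Cfsg.Agent.Lib.ZJ.Core
import Cfsg.Agent.Lib.PSolvable.Core

set_option autoImplicit false
set_option linter.style.haveILetI false
open Cfsg

namespace Cfsg.Agent.S1457

open scoped commutatorElement

/-- Let G be a solvable group of odd order, p a prime, S a Sylow p-subgroup of G and A an abelian subgroup of S normal in S. Then A ≤ O_{p',p}(G). -/
theorem result {G : Type*} [Group G] [Finite G] [Group.IsSolvable G] (hodd : Odd (Nat.card G)) (p : ℕ) [Fact p.Prime] (S : Sylow p G) (A : Subgroup G) (hA : A ≤ (S : Subgroup G)) (hAc : IsMulCommutative A)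
    (hAn : (S : Subgroup G) ≤ Subgroup.normalizer (A : Set G)) :
    A ≤ Cfsg.pPrimePCore p G := by
  have hpp : p.Prime := Fact.out
  by_cases hp2 : p = 2
  · subst hp2
    obtain ⟨k, hk⟩ := IsPGroup.iff_card.mp S.2
    rcases Nat.eq_zero_or_pos k with rfl | hk0
    · have hS : (S : Subgroup G) = ⊥ := Subgroup.card_eq_one.mp hk
      exact (hA.trans hS.le).trans bot_le
    · exfalso
      have h2 : 2 ∣ Nat.card G := ((hk ▸ dvd_pow_self 2 hk0.ne' : 2 ∣ Nat.card (S : Subgroup G))).trans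
        (Subgroup.card_subgroup_dvd_card _)
      exact absurd hodd (Nat.not_odd_iff_even.mpr (even_iff_two_dvd.mpr h2))
  haveI := CfsgLib.Transfer.pPrimeCore_normal p G
  intro a ha
  set f := QuotientGroup.mk' (Cfsg.pPrimeCore p G) with hf
  set W := Cfsg.pCore p (G ⧸ Cfsg.pPrimeCore p G) with hW
  haveI : W.Normal := CfsgLib.Fitting.pCore_normal p
  have hWS : W ≤ (S : Subgroup G).map f :=
    CfsgLib.ZJ.normal_le_sylow (CfsgLib.Fitting.pCore_isPGroup p) (S.mapSurjective (QuotientGroup.mk'_surjective _))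
  have hWA : W ≤ Subgroup.normalizer ((A.map f : Subgroup _) : Set (G ⧸ Cfsg.pPrimeCore p G)) :=
    hWS.trans ((Subgroup.map_mono hAn).trans (Subgroup.le_normalizer_map f))
  haveI := hAc
  have hq := CfsgLib.ZJ.quadratic_of_normalizes (W := W) (A := A.map f) (a := f a) (by
    rintro _ ⟨x, hx, rfl⟩ _ ⟨y, hy, rfl⟩
    rw [← map_mul, ← map_mul]
    exact congrArg f (congrArg Subtype.val (mul_comm' (⟨x, hx⟩ : A) ⟨y, hy⟩))) hWA (Subgroup.mem_map_of_mem f ha)
  have hodd' : Odd (Nat.card (G ⧸ Cfsg.pPrimeCore p G)) :=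
    Odd.of_dvd_nat hodd (Subgroup.card_quotient_dvd_card _)
  have hmem := CfsgLib.Quadratic.isPStableOn_isPGroup_of_sectionsStable
    (CfsgLib.Quadratic.sectionsStable_of_odd hp2 hodd') W (CfsgLib.Fitting.pCore_isPGroup p) (f a) hq
  have hCW : Subgroup.centralizer (W : Set (G ⧸ Cfsg.pPrimeCore p G)) ≤ W :=
    CfsgLib.PSolvable.centralizer_pCore_le (CfsgLib.PSolvable.isPSolvable_of_isSolvable inferInstance)
      (CfsgLib.PSolvable.pPrimeCore_eq_bot_of_ker (QuotientGroup.mk'_surjective _) (QuotientGroup.ker_mk' _))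
  have hD : CfsgLib.ZJ.opMod p W ≤ W := by
    refine CfsgLib.Fitting.le_pCore (CfsgLib.ZJ.opMod_normal p W) fun d => ?_
    obtain ⟨k, hk⟩ := CfsgLib.ZJ.exists_pow_mem_centralizer W d.2
    obtain ⟨j, hj⟩ := CfsgLib.Fitting.pCore_isPGroup p (⟨_, hCW hk⟩ : W)
    refine ⟨k + j, Subtype.ext ?_⟩
    rw [SubgroupClass.coe_pow, OneMemClass.coe_one, pow_add, pow_mul]
    exact congrArg Subtype.val hj
  exact hD (CfsgLib.ZJ.mem_opMod.mpr hmem)
end Cfsg.Agent.S1457
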