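import Cfsg.Statements.S1458
import Cfsg.Agent.Lib.Quadratic.Stable
import Cfsg.Agent.Lib.ZJ.StableClosure
import Cfsg.Agent.Lib.PSolvable.Constrained

set_option autoImplicit false
open Cfsg

namespace Cfsg.Agent.S1458

/-- Let G be a solvable group of odd order, p a prime and S a Sylow p-subgroup of G. Then the subgroup generated by the centre of the Thompson subgroup of S and O_{p'}(G) is normal in G. -/
theorem result {G : Type*} [Group G] [Finite G] [Group.IsSolvable G] (hodd : Odd (Nat.card G)) (p : ℕ) [Fact p.Prime] (S : Sylow p G) :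
    (Cfsg.centerThompsonOf p (S : Subgroup G) ⊔ Cfsg.pPrimeCore p G).Normal := by
  haveI := CfsgLib.Transfer.pPrimeCore_normal p G
  rw [CfsgLib.ZJ.centerThompsonOf_eq]
  by_cases hp2 : p = 2
  · subst hp2
    have hS : (S : Subgroup G) = ⊥ := by
      obtain ⟨k, hk⟩ := S.2.exists_card_eq
      rcases Nat.eq_zero_or_pos k with rfl | hk0
      · exact Subgroup.card_eq_one.mp hk
      · have h2 : 2 ∣ Nat.card G :=
          ((hk ▸ dvd_pow_self 2 hk0.ne' : 2 ∣ Nat.card S)).trans (Subgroup.card_subgroup_dvd_card _)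
        exact absurd hodd (Nat.not_odd_iff_even.mpr (even_iff_two_dvd.mpr h2))
    have h : CfsgLib.ZJ.zJ 2 (S : Subgroup G) = ⊥ :=
      le_bot_iff.mp (hS ▸ CfsgLib.ZJ.zJ_le 2 (S : Subgroup G))
    rw [h, bot_sup_eq]
    infer_instance
  set K := Cfsg.pPrimeCore p G with hKdef
  set π := QuotientGroup.mk' K
  have hπs : Function.Surjective π := QuotientGroup.mk'_surjective K
  have hker : π.ker = K := QuotientGroup.ker_mk' K
  have hK : (Nat.card π.ker).Coprime p := by
    rw [hker]; exact CfsgLib.Transfer.pPrimeCore_coprime p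
  have hinj : Set.InjOn π (S : Subgroup G) := fun a ha b hb h =>
    inv_mul_eq_one.mp (CfsgLib.PSolvable.eq_one_of_mem_of_mem S.2 hK (mul_mem (inv_mem ha) hb)
      (MonoidHom.mem_ker.mpr (by rw [map_mul, map_inv, h, inv_mul_cancel])))
  have hodd' : Odd (Nat.card (G ⧸ K)) := hodd.of_dvd_nat K.card_quotient_dvd_card
  have hc : Subgroup.centralizer (Cfsg.pCore p (G ⧸ K) : Set (G ⧸ K)) ≤ Cfsg.pCore p (G ⧸ K) :=
    CfsgLib.PSolvable.isPConstrained_iff.mp (CfsgLib.PSolvable.isPConstrained_of_isPSolvable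
      (CfsgLib.PSolvable.isPSolvable_of_isSolvable inferInstance))
  haveI hn : (CfsgLib.ZJ.zJ p (((S.mapSurjective (f := π) hπs : Sylow p (G ⧸ K))) :
      Subgroup (G ⧸ K))).Characteristic :=
    CfsgLib.ZJ.zJ_characteristic hp2 (Or.inr rfl) _ hc (CfsgLib.Quadratic.stableAt_of_sectionsStable
      (CfsgLib.Quadratic.sectionsStable_of_odd hp2 hodd') _)
  have hmap : (CfsgLib.ZJ.zJ p (S : Subgroup G)).map π =
      CfsgLib.ZJ.zJ p ((S : Subgroup G).map π) := CfsgLib.ZJ.map_zJ p π hinj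
  have hWn : ((CfsgLib.ZJ.zJ p (S : Subgroup G)).map π).Normal :=
    hmap ▸ (inferInstanceAs
      (CfsgLib.ZJ.zJ p (((S.mapSurjective (f := π) hπs : Sylow p (G ⧸ K))) :
        Subgroup (G ⧸ K))).Normal)
  rw [← hker, ← Subgroup.comap_map_eq]
  exact hWn.comap π

end Cfsg.Agent.S1458
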