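import Cfsg.Statements.S1460
import Cfsg.Agent.Lib.Coprime.SchurZassenhaus

set_option autoImplicit false
open Cfsg

namespace Cfsg.Agent.S1460

open scoped Pointwise

/-- Let G be a finite solvable group, K a normal subgroup and U a subgroup with G = KU, and H ≤ U a subgroup whose order is coprime to that of K. Then H ∩ G' = H ∩ U'; N_G(H) is generated by K ∩ C_G(H) and U ∩ N_G(H); and if gHg⁻¹ ≤ U for some g ∈ G then g = u c with u ∈ U and c ∈ K ∩ C_G(H). -/
theorem result {G : Type*} [Group G] [Finite G] [Group.IsSolvable G] (K U H : Subgroup G) [K.Normal] (hKU : K ⊔ U = ⊤) (hH : H ≤ U) (hcop : (Nat.card H).Coprime (Nat.card K)) :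
    H ⊓ commutator G = H ⊓ ⁅U, U⁆ ∧
      Subgroup.normalizer (H : Set G) = (K ⊓ Subgroup.centralizer (H : Set G)) ⊔ (U ⊓ Subgroup.normalizer (H : Set G)) ∧
      ∀ g : G, H.map (MulAut.conj g).toMonoidHom ≤ U → ∃ u ∈ U, ∃ c ∈ K ⊓ Subgroup.centralizer (H : Set G), g = u * c := by
  classical
  have third : ∀ g : G, H.map (MulAut.conj g).toMonoidHom ≤ U → ∃ u ∈ U, ∃ c ∈ K ⊓ Subgroup.centralizer (H : Set G), g = u * c := by
    intro g hg
    have hgm : g ∈ U ⊔ K := by rw [sup_comm, hKU]; trivial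
    obtain ⟨u₀, hu₀, k, hk, rfl⟩ := Subgroup.mem_sup_of_normal_right.mp hgm
    set J := MulAut.conj k • H with hJ
    have hJU : J ≤ U := by
      rintro _ ⟨h, hh, rfl⟩
      have h2 := hg ⟨h, hh, rfl⟩
      have : u₀⁻¹ * (u₀ * k * h * (u₀ * k)⁻¹) * u₀ ∈ U := mul_mem (mul_mem (inv_mem hu₀) (show u₀ * k * h * (u₀ * k)⁻¹ ∈ U from h2)) hu₀
      simpa [mul_assoc] using this
    have hJN : J ≤ (K ⊓ U) ⊔ H := by
      rintro _ ⟨h, hh, rfl⟩
      have hJmem := hJU ⟨h, hh, rfl⟩
      change k * h * k⁻¹ ∈ _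
      have e : k * h * k⁻¹ = (k * (h * k⁻¹ * h⁻¹)) * h := by group
      have hm : k * (h * k⁻¹ * h⁻¹) ∈ K ⊓ U := by
        refine Subgroup.mem_inf.mpr ⟨mul_mem hk (Subgroup.Normal.conj_mem inferInstance _ (inv_mem hk) h), ?_⟩
        have := mul_mem (show k * h * k⁻¹ ∈ U from hJmem) (inv_mem (hH hh))
        simpa [mul_assoc] using this
      rw [e]
      exact mul_mem (Subgroup.mem_sup_left hm) (Subgroup.mem_sup_right hh)
    have nU : ∀ {L : Subgroup G}, L ≤ U → L ≤ Subgroup.normalizer ((K ⊓ U : Subgroup G) : Set G) := by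
      intro L hL l hl
      refine Subgroup.mem_normalizer_iff.mpr fun x => ?_
      simp only [Subgroup.mem_inf]
      refine and_congr ⟨fun hx => Subgroup.Normal.conj_mem inferInstance x hx l, fun hx => ?_⟩
        ⟨fun hx => mul_mem (mul_mem (hL hl) hx) (inv_mem (hL hl)), fun hx => ?_⟩
      · simpa [mul_assoc] using Subgroup.Normal.conj_mem inferInstance _ hx l⁻¹
      · simpa [mul_assoc] using mul_mem (mul_mem (inv_mem (hL hl)) hx) (hL hl)
    have hcK : (Nat.card (K ⊓ U : Subgroup G)).Coprime (Nat.card H) :=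
      Nat.Coprime.coprime_dvd_left (Subgroup.card_dvd_of_le inf_le_left) hcop.symm
    have hcJ : (Nat.card (K ⊓ U : Subgroup G)).Coprime (Nat.card J) := by
      rw [hJ, CfsgLib.Coprime.card_conj_smul]; exact hcK
    have hsup : (K ⊓ U) ⊔ H = (K ⊓ U) ⊔ J := by
      refine (Subgroup.eq_of_le_of_card_ge (sup_le le_sup_left hJN) ?_).symm
      rw [CfsgLib.Coprime.card_sup_of_coprime (nU hH) hcK, CfsgLib.Coprime.card_sup_of_coprime (nU hJU) hcJ, hJ,
        CfsgLib.Coprime.card_conj_smul]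
    obtain ⟨w, hw, hwe⟩ := CfsgLib.Coprime.exists_conj_of_coprime (nU hH) hcK hcJ hsup (Or.inl inferInstance)
    obtain ⟨hwK, hwU⟩ := Subgroup.mem_inf.mp hw
    refine ⟨u₀ * w, mul_mem hu₀ hwU, w⁻¹ * k, ?_, by group⟩
    have hn : MulAut.conj (w⁻¹ * k) • H = H := by
      rw [map_mul, mul_smul, map_inv, inv_smul_eq_iff, hwe]
    refine Subgroup.mem_inf.mpr ⟨mul_mem (inv_mem hwK) hk, Subgroup.mem_centralizer_iff.mpr fun h hh => ?_⟩
    set c := w⁻¹ * k
    have hc : c ∈ K := mul_mem (inv_mem hwK) hk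
    have h1 : c * h * c⁻¹ * h⁻¹ ∈ H ⊓ K := by
      refine Subgroup.mem_inf.mpr ⟨mul_mem ?_ (inv_mem hh), ?_⟩
      · have := CfsgLib.Coprime.conj_mem_conj_smul (g := c) (show h ∈ H from hh)
        rwa [hn] at this
      · have := mul_mem hc (Subgroup.Normal.conj_mem inferInstance _ (inv_mem hc) h)
        simpa [mul_assoc] using this
    rw [CfsgLib.Coprime.inf_eq_bot_of_coprime_card hcop, Subgroup.mem_bot, mul_inv_eq_one, mul_inv_eq_iff_eq_mul] at h1
    exact h1.symm
  refine ⟨le_antisymm ?_ (inf_le_inf_left _ ?_), le_antisymm ?_ (sup_le ?_ inf_le_right), third⟩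
  · intro h hh
    obtain ⟨hhH, hhG⟩ := Subgroup.mem_inf.mp hh
    refine Subgroup.mem_inf.mpr ⟨hhH, ?_⟩
    have hmap : U.map (QuotientGroup.mk' K) = ⊤ := by
      have := congrArg (Subgroup.map (QuotientGroup.mk' K)) hKU
      rwa [Subgroup.map_sup, QuotientGroup.map_mk'_self, bot_sup_eq,
        Subgroup.map_top_of_surjective _ (QuotientGroup.mk'_surjective K)] at this
    have hle : commutator G ≤ ⁅U, U⁆ ⊔ K := by
      rw [← QuotientGroup.ker_mk' K, ← Subgroup.comap_map_eq, Subgroup.map_commutator, hmap,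
        ← Subgroup.map_le_iff_le_comap, commutator_def, Subgroup.map_commutator,
        Subgroup.map_top_of_surjective _ (QuotientGroup.mk'_surjective K)]
    obtain ⟨a, ha, k, hk, hak⟩ := Subgroup.mem_sup_of_normal_right.mp (hle hhG)
    have haU : a ∈ U := Subgroup.commutator_le_self U ha
    have hkU : k ∈ U := by
      have := mul_mem (inv_mem haU) (hH hhH)
      rwa [← hak, inv_mul_cancel_left] at this
    have ha1 : (Abelianization.of (G := U)) ⟨a, haU⟩ = 1 := by
      rw [← MonoidHom.mem_ker, Abelianization.ker_of]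
      have : a ∈ (commutator U).map U.subtype := by rwa [Subgroup.map_subtype_commutator]
      obtain ⟨a', ha', e⟩ := this
      rwa [show (⟨a, haU⟩ : U) = a' from Subtype.ext e.symm]
    have heq : (Abelianization.of (G := U)) ⟨h, hH hhH⟩ = Abelianization.of ⟨k, hkU⟩ := by
      rw [show (⟨h, hH hhH⟩ : U) = ⟨a, haU⟩ * ⟨k, hkU⟩ from Subtype.ext hak.symm, map_mul, ha1, one_mul]
    have h1 : (Abelianization.of (G := U)) ⟨h, hH hhH⟩ = 1 := by
      refine orderOf_eq_one_iff.mp (Nat.eq_one_of_dvd_coprimes hcop ?_ ?_)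
      · refine (orderOf_map_dvd _ _).trans ?_
        rw [Subgroup.orderOf_mk]
        exact Subgroup.orderOf_dvd_natCard H hhH
      · rw [heq]
        refine (orderOf_map_dvd _ _).trans ?_
        rw [Subgroup.orderOf_mk]
        exact Subgroup.orderOf_dvd_natCard K hk
    rw [← MonoidHom.mem_ker, Abelianization.ker_of] at h1
    rw [← Subgroup.map_subtype_commutator]
    exact ⟨_, h1, rfl⟩
  · rw [commutator_def]; exact Subgroup.commutator_mono le_top le_top
  · intro g hg
    have hgH : H.map (MulAut.conj g).toMonoidHom = H := CfsgLib.Coprime.conj_smul_eq_self_of_mem_normalizer hg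
    obtain ⟨u, hu, c, hc, rfl⟩ := third g (hgH.le.trans hH)
    have hcn : c ∈ Subgroup.normalizer (H : Set G) := Subgroup.centralizer_le_normalizer _ (Subgroup.mem_inf.mp hc).2
    have hun : u ∈ Subgroup.normalizer (H : Set G) := by simpa using mul_mem hg (inv_mem hcn)
    exact mul_mem (Subgroup.mem_sup_right (Subgroup.mem_inf.mpr ⟨hu, hun⟩)) (Subgroup.mem_sup_left hc)
  · exact inf_le_right.trans (Subgroup.centralizer_le_normalizer _)
end Cfsg.Agent.S1460
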