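import Cfsg.Statements.S1461
import Cfsg.Agent.Lib.Transfer.Basic
import Cfsg.Agent.Lib.Fitting.Basic
import Cfsg.Agent.Lib.PSolvable.Constrained
import Cfsg.Agent.S1460

set_option autoImplicit false
open Cfsg

namespace Cfsg.Agent.S1461

open scoped Pointwise

theorem sylow_structure {G : Type*} [Group G] [Finite G] (p : ℕ) [Fact p.Prime] (hpl : Cfsg.PLengthLE p 1 G) (S : Sylow p G) :
    ∃ K : Subgroup G, K.Normal ∧ (Nat.card (S : Subgroup G)).Coprime (Nat.card K) ∧
      K ⊔ Subgroup.normalizer ((S : Subgroup G) : Set G) = ⊤ := by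
  haveI := (Cfsg.upperPSeries p G 0).2
  haveI := (Cfsg.upperPSeries p G 1).2
  haveI := (Cfsg.upperPSeries p G 2).2
  set K := (Cfsg.upperPSeries p G 1).1 with hK
  set N := (Cfsg.upperPSeries p G 2).1 with hN
  have hKc : (Nat.card K).Coprime p := by
    show (Nat.card ((Cfsg.pPrimeCore p (G ⧸ (⊥ : Subgroup G))).comap (QuotientGroup.mk' ⊥))).Coprime p
    rw [CfsgLib.PSolvable.card_comap_of_surjective (QuotientGroup.mk'_surjective _), QuotientGroup.ker_mk',
      Subgroup.card_bot, one_mul]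
    exact CfsgLib.Transfer.pPrimeCore_coprime p
  have hNq : N = (Cfsg.pCore p (G ⧸ K)).comap (QuotientGroup.mk' K) := rfl
  have hKN : K ≤ N := fun x hx => by
    rw [hNq, Subgroup.mem_comap, QuotientGroup.mk'_apply, (QuotientGroup.eq_one_iff x).mpr hx]
    exact one_mem _
  have hNi : N.index.Coprime p := by
    have htop : (Cfsg.pPrimeCore p (G ⧸ N)).comap (QuotientGroup.mk' N) = ⊤ := hpl
    have h2 : Cfsg.pPrimeCore p (G ⧸ N) = ⊤ := by
      refine Subgroup.comap_injective (QuotientGroup.mk'_surjective N) ?_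
      rw [htop, Subgroup.comap_top]
    have h3 := CfsgLib.Transfer.pPrimeCore_coprime (G := G ⧸ N) p
    rw [h2, Subgroup.card_top] at h3
    exact h3
  have hKS : K.relIndex N ∣ Nat.card (Cfsg.pCore p (G ⧸ K)) := by
    have h1 : Nat.card N = Nat.card K * Nat.card (Cfsg.pCore p (G ⧸ K)) := by
      rw [hNq, CfsgLib.PSolvable.card_comap_of_surjective (QuotientGroup.mk'_surjective _), QuotientGroup.ker_mk']
    have h2 : Nat.card K * K.relIndex N = Nat.card N := by
      rw [← Subgroup.relIndex_bot_left, ← Subgroup.relIndex_bot_left]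
      exact Subgroup.relIndex_mul_relIndex _ _ _ bot_le hKN
    exact (Nat.eq_of_mul_eq_mul_left Nat.card_pos (h2.trans h1)).dvd
  have hSN : (S : Subgroup G) ≤ N := by
    rw [← Subgroup.relIndex_eq_one]
    obtain ⟨m, hm⟩ := IsPGroup.iff_card.mp S.2
    exact Nat.eq_one_of_dvd_coprimes (hNi.pow_right m) (Subgroup.relIndex_dvd_index_of_normal N _)
      (hm ▸ Subgroup.relIndex_dvd_card N _)
  have hNeq : K ⊔ (S : Subgroup G) = N := by
    refine le_antisymm (sup_le hKN hSN) ?_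
    rw [← Subgroup.relIndex_eq_one]
    obtain ⟨m, hm⟩ := IsPGroup.iff_card.mp (CfsgLib.Fitting.pCore_isPGroup (G := G ⧸ K) p)
    refine Nat.eq_one_of_dvd_coprimes (Nat.Coprime.pow_right m ((Fact.out : p.Prime).coprime_iff_not_dvd.mpr S.not_dvd_index).symm) ?_ ?_
    · exact ((dvd_mul_right _ _).trans (Subgroup.relIndex_mul_index (sup_le hKN hSN)).dvd).trans
        (Subgroup.index_dvd_of_le le_sup_right)
    · exact ((Subgroup.relIndex_dvd_of_le_left N le_sup_left).trans hKS).trans hm.dvd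
  refine ⟨K, inferInstance, ?_, ?_⟩
  · obtain ⟨m, hm⟩ := IsPGroup.iff_card.mp S.2
    rw [hm]
    exact (hKc.pow_right m).symm
  · have hfr := Sylow.normalizer_sup_eq_top (S.subtype hSN)
    have hmap : ((S.subtype hSN : Sylow p N) : Subgroup N).map N.subtype = (S : Subgroup G) :=
      Subgroup.map_subgroupOf_eq_of_le hSN
    rw [hmap, ← hNeq, sup_comm K (S : Subgroup G), ← sup_assoc,
      sup_eq_left.mpr (Subgroup.le_normalizer : (S : Subgroup G) ≤ _), sup_comm] at hfr
    exact hfr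

/-- Let G be a finite solvable group, p a prime with G = O_{p',p,p'}(G), and S a Sylow p-subgroup. Then: if S ≤ G' then S ≤ [N_G(S), N_G(S)]; if Y ⊆ S and xYx⁻¹ ⊆ S then x = g c for some g ∈ N_G(S) and c centralizing Y; and for every p-subgroup Q there is x ∈ C_G(Q ∩ S) with xQx⁻¹ ≤ S. -/
theorem result {G : Type*} [Group G] [Finite G] [Group.IsSolvable G] (p : ℕ) [Fact p.Prime] (hpl : Cfsg.PLengthLE p 1 G) (S : Sylow p G) :
    ((S : Subgroup G) ≤ commutator G → (S : Subgroup G) ≤ ⁅Subgroup.normalizer ((S : Subgroup G) : Set G), Subgroup.normalizer ((S : Subgroup G) : Set G)⁆) ∧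
      (∀ (Y : Set G) (x : G), Y ⊆ (S : Subgroup G) → (fun y => x * y * x⁻¹) '' Y ⊆ (S : Subgroup G) →
        ∃ g ∈ Subgroup.normalizer ((S : Subgroup G) : Set G), ∃ c ∈ Subgroup.centralizer Y, g * c = x) ∧
      ∀ Q : Subgroup G, IsPGroup p Q → ∃ x ∈ Subgroup.centralizer ((Q ⊓ (S : Subgroup G) : Subgroup G) : Set G), Q.map (MulAut.conj x).toMonoidHom ≤ (S : Subgroup G) := by
  obtain ⟨K, hKn, hcop, hsup⟩ := sylow_structure p hpl S
  haveI := hKn
  have fusion : ∀ (Y : Set G) (x : G), Y ⊆ (S : Subgroup G) → (fun y => x * y * x⁻¹) '' Y ⊆ (S : Subgroup G) →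
        ∃ g ∈ Subgroup.normalizer ((S : Subgroup G) : Set G), ∃ c ∈ Subgroup.centralizer Y, g * c = x := by
    intro Y x hY hxY
    have hx : x ∈ Subgroup.normalizer ((S : Subgroup G) : Set G) ⊔ K := by rw [sup_comm, hsup]; trivial
    obtain ⟨n, hn, k, hk, rfl⟩ := Subgroup.mem_sup_of_normal_right.mp hx
    refine ⟨n, hn, k, Subgroup.mem_centralizer_iff.mpr fun y hy => ?_, rfl⟩
    have h1 : k * y * k⁻¹ ∈ (S : Subgroup G) := by
      refine (Subgroup.mem_normalizer_iff.mp hn _).mpr ?_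
      rw [show n * (k * y * k⁻¹) * n⁻¹ = n * k * y * (n * k)⁻¹ by group]
      exact hxY ⟨y, hy, rfl⟩
    have h2 : k * y * k⁻¹ * y⁻¹ ∈ (S : Subgroup G) ⊓ K := by
      refine Subgroup.mem_inf.mpr ⟨mul_mem h1 (inv_mem (hY hy)), ?_⟩
      have := mul_mem hk (hKn.conj_mem _ (inv_mem hk) y)
      simpa [mul_assoc] using this
    rw [CfsgLib.Coprime.inf_eq_bot_of_coprime_card hcop, Subgroup.mem_bot, mul_inv_eq_one, mul_inv_eq_iff_eq_mul] at h2
    exact h2.symm
  refine ⟨fun hS => ?_, fusion, fun Q hQ => ?_⟩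
  · have h := (Cfsg.Agent.S1460.result K (Subgroup.normalizer ((S : Subgroup G) : Set G)) (S : Subgroup G)
      hsup Subgroup.le_normalizer hcop).1
    rw [inf_eq_left.mpr hS] at h
    exact h.le.trans inf_le_right
  · obtain ⟨T, hT⟩ := hQ.exists_le_sylow
    obtain ⟨g, hg⟩ := MulAction.exists_smul_eq G T S
    have hmem : ∀ q ∈ Q, g * q * g⁻¹ ∈ (S : Subgroup G) := fun q hq => by
      rw [← hg]; exact Subgroup.smul_mem_pointwise_smul _ (MulAut.conj g) _ (hT hq)
    obtain ⟨n, hn, c, hc, rfl⟩ := fusion ((Q ⊓ (S : Subgroup G) : Subgroup G) : Set G) g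
      (fun y hy => (Subgroup.mem_inf.mp hy).2) (by
        rintro _ ⟨y, hy, rfl⟩
        exact hmem y (Subgroup.mem_inf.mp hy).1)
    refine ⟨c, hc, ?_⟩
    rintro _ ⟨q, hq, rfl⟩
    refine (Subgroup.mem_normalizer_iff.mp hn _).mpr ?_
    have := hmem q hq
    simpa [mul_assoc] using this
end Cfsg.Agent.S1461
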