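import Cfsg.Statements.S1462
import Cfsg.Agent.S1461
import Cfsg.Agent.Lib.PSolvable.Omega
import Cfsg.Agent.Lib.PSolvable.Core
import Cfsg.Agent.Lib.Coprime.Action

set_option autoImplicit false
set_option linter.style.haveILetI false
open Cfsg

namespace Cfsg.Agent.S1462

open scoped commutatorElement

/-- Let G be a finite solvable group, p an odd prime with G = O_{p',p,p'}(G), E an elementary abelian p-subgroup contained in no larger elementary abelian p-subgroup of G, and L a subgroup of order coprime to p normalized by E. Then L ≤ O_{p'}(G). -/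
theorem result {G : Type*} [Group G] [Finite G] [Group.IsSolvable G] (p : ℕ) [Fact p.Prime] (hp : p ≠ 2) (hpl : Cfsg.PLengthLE p 1 G) (E L : Subgroup G) (hE : Cfsg.IsElementaryAbelian p E)
    (hEmax : ∀ B : Subgroup G, Cfsg.IsElementaryAbelian p B → E ≤ B → B = E) (hL : (Nat.card L).Coprime p) (hEL : E ≤ Subgroup.normalizer (L : Set G)) :
    L ≤ Cfsg.pPrimeCore p G := by
  haveI := CfsgLib.Transfer.pPrimeCore_normal p G
  set O := Cfsg.pPrimeCore p G with hO
  haveI := hE.1
  have hEp : IsPGroup p E := fun e => ⟨1, Subtype.ext (by rw [pow_one]; exact hE.2 e e.2)⟩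
  obtain ⟨S, hES⟩ := hEp.exists_le_sylow
  obtain ⟨e, he⟩ := IsPGroup.iff_card.mp S.2
  rcases Nat.eq_zero_or_pos e with rfl | he0
  · have hS1 : (S : Subgroup G) = ⊥ := Subgroup.card_eq_one.mp he
    have hGp : (Nat.card (⊤ : Subgroup G)).Coprime p := by
      rw [Subgroup.card_top]
      refine (((Fact.out : p.Prime).coprime_iff_not_dvd).mpr fun h => ?_).symm
      have h1 := S.dvd_card_of_dvd_card h
      rw [he, pow_zero] at h1
      exact (Fact.out : p.Prime).not_dvd_one h1
    exact le_top.trans (CfsgLib.Transfer.le_pPrimeCore inferInstance hGp)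
  obtain ⟨K, hKn, hKc, hKN⟩ := Cfsg.Agent.S1461.sylow_structure p hpl S
  have hKO : K ≤ O := CfsgLib.Transfer.le_pPrimeCore hKn (by
    have h := hKc.symm
    rw [he] at h
    exact (Nat.coprime_pow_right_iff he0 _ _).mp h)
  set f := QuotientGroup.mk' O with hf
  have hsurj : Function.Surjective f := QuotientGroup.mk'_surjective O
  set R := (S : Subgroup G).map f with hR
  haveI : R.Normal := by
    rw [← Subgroup.normalizer_eq_top_iff]
    refine le_antisymm le_top ?_
    rw [← Subgroup.map_top_of_surjective f hsurj, ← hKN, Subgroup.map_sup]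
    refine sup_le ?_ (Subgroup.le_normalizer_map f)
    rintro _ ⟨x, hx, rfl⟩
    rw [hf, QuotientGroup.mk'_apply, (QuotientGroup.eq_one_iff x).mpr (hKO hx)]
    exact one_mem _
  have hRp : IsPGroup p R := S.2.map _
  have hinj : ∀ s ∈ (S : Subgroup G), f s = 1 → s = 1 := fun s hs h => by
    have hsO : s ∈ O := (QuotientGroup.eq_one_iff s).mp h
    have := CfsgLib.PSolvable.eq_one_of_mem_of_mem S.2 (CfsgLib.Transfer.pPrimeCore_coprime p) hs hsO
    exact this
  have hLc : (Nat.card ↥(L.map f)).Coprime p := hL.coprime_dvd_left (L.card_map_dvd f)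
  have hdisj : ∀ x ∈ R, x ∈ L.map f → x = 1 := fun x h1 h2 =>
    CfsgLib.PSolvable.eq_one_of_mem_of_mem hRp hLc h1 h2
  have hEL' : E.map f ≤ Subgroup.normalizer ((L.map f : Subgroup _) : Set (G ⧸ O)) :=
    (Subgroup.map_mono hEL).trans (Subgroup.le_normalizer_map f)
  have hcomm : L.map f ≤ Subgroup.centralizer ((E.map f : Subgroup _) : Set (G ⧸ O)) := by
    intro l hl x hx
    refine commutatorElement_eq_one_iff_mul_comm.mp (hdisj _ ?_ ?_)
    · exact Subgroup.commutator_le_left R ⊤
        (Subgroup.commutator_mem_commutator (Subgroup.map_mono hES hx) (Subgroup.mem_top l))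
    · rw [commutatorElement_def]
      exact mul_mem ((Subgroup.mem_normalizer_iff.mp (hEL' hx) l).mp hl) (inv_mem hl)
  have hRL : L.map f ≤ Subgroup.normalizer (R : Set (G ⧸ O)) := le_top.trans (Subgroup.normalizer_eq_top R).ge
  have hEp' : IsPGroup p (E.map f) := hEp.map _
  have hER : E.map f ≤ Subgroup.normalizer (R : Set (G ⧸ O)) := le_top.trans (Subgroup.normalizer_eq_top R).ge
  have hcen := CfsgLib.PSolvable.le_centralizer_of_omega hp hEp' hLc hEL' hRp hER hRL (by
    rintro _ ⟨s, hs, rfl⟩ hsp hsC l hl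
    refine (hcomm hl _ ?_).symm
    refine Subgroup.mem_map_of_mem f ?_
    have hsp' : s ^ p = 1 := hinj _ (pow_mem hs p) (by rw [map_pow, hsp])
    have hsE : ∀ x ∈ E, x * s = s * x := fun x hx => by
      refine commutatorElement_eq_one_iff_mul_comm.mp (hinj _ ?_ ?_)
      · rw [commutatorElement_def]
        exact mul_mem (mul_mem (mul_mem (hES hx) hs) (inv_mem (hES hx))) (inv_mem hs)
      · rw [map_commutatorElement, commutatorElement_eq_one_iff_mul_comm]
        exact hsC (f x) (Subgroup.mem_map_of_mem f hx)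
    set B := Subgroup.closure ((E : Set G) ∪ {s}) with hB
    have hBc : ∀ x ∈ (E : Set G) ∪ {s}, ∀ y ∈ (E : Set G) ∪ {s}, x * y = y * x := by
      rintro x (hx | hx) y (hy | hy)
      · exact congrArg Subtype.val (mul_comm' (⟨x, hx⟩ : E) ⟨y, hy⟩)
      · rw [Set.mem_singleton_iff] at hy; subst hy; exact hsE x hx
      · rw [Set.mem_singleton_iff] at hx; subst hx; exact (hsE y hy).symm
      · rw [Set.mem_singleton_iff] at hx hy; subst hx hy; rfl
    haveI : IsMulCommutative B := Subgroup.isMulCommutative_closure hBc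
    have hBE : Cfsg.IsElementaryAbelian p B := by
      refine ⟨inferInstance, fun b hb => ?_⟩
      induction hb using Subgroup.closure_induction with
      | mem x hx =>
        rcases hx with hx | hx
        · exact hE.2 x hx
        · rw [Set.mem_singleton_iff] at hx; rw [hx, hsp']
      | one => exact one_pow p
      | mul x y hx hy h1 h2 =>
        have hxy : Commute x y := congrArg Subtype.val (mul_comm' (⟨x, hx⟩ : B) ⟨y, hy⟩)
        rw [hxy.mul_pow, h1, h2, one_mul]
      | inv x _ h => rw [inv_pow, h, inv_one]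
    have hBeq := hEmax B hBE (fun x hx => Subgroup.subset_closure (Or.inl hx))
    exact hBeq ▸ Subgroup.subset_closure (Or.inr rfl))
  have hC := CfsgLib.PSolvable.centralizer_pCore_le (p := p)
    (CfsgLib.PSolvable.isPSolvable_of_isSolvable (inferInstance : Group.IsSolvable (G ⧸ O)))
    (CfsgLib.PSolvable.pPrimeCore_eq_bot_of_ker hsurj (QuotientGroup.ker_mk' _))
  have hRc : R = Cfsg.pCore p (G ⧸ O) := le_antisymm (CfsgLib.Fitting.le_pCore inferInstance hRp) (by
    intro x hx
    exact (CfsgLib.Fitting.mem_pCore_iff_forall_sylow.mp hx) (S.mapSurjective hsurj))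
  intro l hl
  rw [← QuotientGroup.eq_one_iff]
  refine hdisj _ ?_ (Subgroup.mem_map_of_mem f hl)
  rw [hRc]
  refine hC ?_
  rw [← hRc]
  exact hcen (Subgroup.mem_map_of_mem f hl)
end Cfsg.Agent.S1462
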