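import Cfsg.Statements.S1463
import Cfsg.Agent.Lib.SL2.DicksonSL2

set_option autoImplicit false
open scoped MatrixGroups
open Cfsg

namespace Cfsg.Agent.S1463

open Polynomial in
/-- The two polynomials in the first row of the powers of `[[1+T, 1], [T, 1]]`. -/
theorem exists_row {R : Type*} [CommRing R] [IsDomain R] {S : Type*} [CommRing S] [Algebra R S] (c : S) :
    ∀ n : ℕ, ∃ a b : R[X], a.Monic ∧ a.natDegree = n ∧ (b.natDegree < n ∨ b = 0) ∧
      ((!![1 + c, 1; c, 1] : Matrix (Fin 2) (Fin 2) S) ^ n) 0 0 = aeval c a ∧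
        ((!![1 + c, 1; c, 1] : Matrix (Fin 2) (Fin 2) S) ^ n) 0 1 = aeval c b := by
  intro n
  induction n with
  | zero => exact ⟨1, 0, monic_one, natDegree_one, Or.inr rfl, by simp⟩
  | succ n ih =>
    obtain ⟨a, b, ha, had, hb, hval⟩ := ih
    refine ⟨a * (X + C 1) + b * X, a + b, ?_, ?_, Or.inl ?_, ?_⟩
    · refine (ha.mul (monic_X_add_C 1)).add_of_left ?_
      rcases hb with h | rfl
      · refine degree_lt_degree ?_
        refine lt_of_le_of_lt natDegree_mul_le ?_
        rw [ha.natDegree_mul (monic_X_add_C 1), natDegree_X_add_C, natDegree_X, had]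
        omega
      · rw [zero_mul, degree_zero, bot_lt_iff_ne_bot, ne_eq, degree_eq_bot]
        exact (ha.mul (monic_X_add_C 1)).ne_zero
    · rw [natDegree_add_eq_left_of_natDegree_lt]
      · rw [ha.natDegree_mul (monic_X_add_C 1), natDegree_X_add_C, had]
      · rw [ha.natDegree_mul (monic_X_add_C 1), natDegree_X_add_C, had]
        rcases hb with h | rfl
        · exact lt_of_le_of_lt natDegree_mul_le (by simpa using h)
        · simp
    · refine lt_of_le_of_lt (natDegree_add_le _ _) ?_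
      rcases hb with h | rfl
      · rw [had]; omega
      · rw [had, natDegree_zero]; omega
    · obtain ⟨h0, h1⟩ := hval
      rw [pow_succ]
      constructor
      · simp [Matrix.mul_apply, Fin.sum_univ_two, h0, h1]; ring
      · simp [Matrix.mul_apply, Fin.sum_univ_two, h0, h1]

open CfsgLib.SL2 Matrix in
open scoped MatrixGroups in
/-- Two opposite transvections generate a group of even order. -/
theorem even_card {K : Type*} [Field K] [Finite K] {p : ℕ} [Fact p.Prime] [CharP K p] (hp2 : p ≠ 2)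
    {c : K} (hc : c ≠ 0) (G0 : Subgroup SL(2, K)) (hu : up 1 ∈ G0) (hl : lo c ∈ G0) :
    Even (Nat.card G0) := by
  classical
  have hpow : ∀ (x : SL(2, K)), (x.1 0 0 = 1 ∧ x.1 1 1 = 1 ∧ (x.1 0 1 = 0 ∨ x.1 1 0 = 0)) → x ^ p = 1 := by
    rintro x ⟨h00, h11, h⟩
    have hnil : (x.1 - 1) * (x.1 - 1) = 0 := by
      ext i j
      fin_cases i <;> fin_cases j <;> simp [Matrix.mul_apply, Fin.sum_univ_two, h00, h11] <;>
        rcases h with h | h <;> simp [h]
    apply Subtype.ext
    have h1 : x.1 = (x.1 - 1) + 1 := by simp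
    haveI : CharP (Matrix (Fin 2) (Fin 2) K) p := inferInstance
    rw [Matrix.SpecialLinearGroup.coe_pow, h1, add_pow_char_of_commute _ (Commute.one_right _), one_pow,
      ← Nat.sub_add_cancel (Fact.out : p.Prime).two_le, pow_add, sq, hnil, mul_zero, zero_add]
    rfl
  have hn : 1 < Nat.card (Sylow p G0) := by
    rw [Finite.one_lt_card_iff_nontrivial, ← not_subsingleton_iff_nontrivial]
    intro hs
    obtain ⟨P⟩ : Nonempty (Sylow p G0) := inferInstance
    have hin : ∀ x : G0, (x : SL(2, K)) ^ p = 1 → x ∈ (P : Subgroup G0) := by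
      intro x hx
      have hz : IsPGroup p (Subgroup.zpowers x) := by
        intro y
        obtain ⟨k, hk⟩ := Subgroup.mem_zpowers_iff.mp y.2
        have hx' : x ^ p = 1 := Subtype.ext (by simpa using hx)
        refine ⟨1, Subtype.ext ?_⟩
        push_cast
        rw [← hk, pow_one, ← zpow_natCast, ← _root_.zpow_mul, mul_comm, _root_.zpow_mul, zpow_natCast, hx', _root_.one_zpow]
      obtain ⟨Q, hQ⟩ := hz.exists_le_sylow
      rw [Subsingleton.elim P Q]
      exact hQ (Subgroup.mem_zpowers x)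
    have h1 := hin ⟨_, hu⟩ (hpow _ (by simp [up_coe]))
    have h2 := hin ⟨_, hl⟩ (hpow _ (by simp [lo_coe]))
    haveI : Nontrivial (P : Subgroup G0) := ⟨⟨_, h1⟩, 1, fun h => by
      have h' : (up (1 : K) : SL(2, K)).1 0 1 = (1 : SL(2, K)).1 0 1 := by
        rw [show (up (1 : K) : SL(2, K)) = 1 from congrArg (fun z : (P : Subgroup G0) => ((z : G0) : SL(2, K))) h]
      simp [up_coe] at h'⟩
    haveI := P.2.center_nontrivial
    obtain ⟨z, hz1⟩ := exists_ne (1 : Subgroup.center (P : Subgroup G0))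
    set w : SL(2, K) := (((z : (P : Subgroup G0)) : G0) : SL(2, K)) with hw
    have hcomm : ∀ x : G0, x ∈ (P : Subgroup G0) → (x : SL(2, K)) * w = w * x := fun x hx =>
      congrArg (fun y : (P : Subgroup G0) => ((y : G0) : SL(2, K))) (Subgroup.mem_center_iff.mp z.2 ⟨x, hx⟩)
    have eu := congrArg Subtype.val (hcomm _ h1)
    have el := congrArg Subtype.val (hcomm _ h2)
    simp only [Matrix.SpecialLinearGroup.coe_mul, up_coe, lo_coe] at eu el
    have a00 := congrFun (congrFun eu 0) 0
    have a01 := congrFun (congrFun eu 0) 1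
    have b00 := congrFun (congrFun el 0) 0
    simp [Matrix.mul_apply, Fin.sum_univ_two] at a00 a01 b00
    obtain ⟨m, hm⟩ := P.2 (z : (P : Subgroup G0))
    have hwm : w ^ p ^ m = 1 := congrArg (fun y : (P : Subgroup G0) => ((y : G0) : SL(2, K))) hm
    have w10 : w.1 1 0 = 0 := by linear_combination a00
    have w01 : w.1 0 1 = 0 := by
      rcases b00 with h | h
      · exact h
      · exact absurd h hc
    have w11 : w.1 1 1 = w.1 0 0 := by linear_combination a01
    have hdiag : w.1 = w.1 0 0 • 1 := by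
      ext i j; fin_cases i <;> fin_cases j <;> simp [w01, w10, w11]
    have h3 := congrArg (fun y : SL(2, K) => y.1 0 0) hwm
    simp only [Matrix.SpecialLinearGroup.coe_pow] at h3
    rw [hdiag, smul_pow, one_pow] at h3
    simp at h3
    have h4 : w.1 0 0 = 1 := by
      haveI := Fact.out (p := p.Prime)
      refine sub_eq_zero.mp (pow_eq_zero_iff (pow_ne_zero m (Fact.out : p.Prime).ne_zero) |>.mp ?_)
      rw [sub_pow_char_pow, h3, one_pow, sub_self]
    refine hz1 (Subtype.ext (Subtype.ext (Subtype.ext (Subtype.ext ?_))))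
    show w.1 = (1 : Matrix (Fin 2) (Fin 2) K)
    rw [hdiag, h4, one_smul]
  obtain ⟨ψ, hψ, hle⟩ := exists_sl2_zmod hp2 G0 hn
  have h2 : (-1 : SL(2, ZMod p)) ≠ 1 := by
    intro h
    have h' := congrArg (fun y : SL(2, ZMod p) => y.1 0 0) h
    simp at h'
    have h2' : ((2 : ℕ) : ZMod p) = 0 := by push_cast; linear_combination -h'
    rw [ZMod.natCast_eq_zero_iff] at h2'
    exact hp2 ((Nat.prime_dvd_prime_iff_eq Fact.out Nat.prime_two).mp h2')
  have ho : orderOf (⟨ψ (-1), hle ⟨-1, rfl⟩⟩ : G0) = 2 := by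
    rw [← Subgroup.orderOf_coe]
    show orderOf (ψ (-1)) = 2
    rw [orderOf_injective ψ hψ]
    exact orderOf_eq_prime (by simp) h2
  exact even_iff_two_dvd.mpr ((dvd_of_eq ho.symm).trans (orderOf_dvd_natCard _))


/-- Let F be a field of odd characteristic p and H a finite subgroup of odd order of GL(2, F) that leaves no 1-dimensional subspace of F² invariant. Then p does not divide the order of H. -/
theorem result {F : Type*} [Field F] (p : ℕ) [Fact p.Prime] [CharP F p] (hp : p ≠ 2)
    (H : Subgroup (GL (Fin 2) F)) [Finite H] (hodd : Odd (Nat.card H))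
    (hirr : ∀ v : Fin 2 → F, v ≠ 0 → ∃ g ∈ H, (g : Matrix (Fin 2) (Fin 2) F).mulVec v ∉ Submodule.span F {v}) :
    ¬ p ∣ Nat.card H := by
  classical
  intro hdvd
  obtain ⟨u, hu⟩ := exists_prime_orderOf_dvd_card' (G := H) p hdvd
  rw [← Subgroup.orderOf_coe] at hu
  set M : Matrix (Fin 2) (Fin 2) F := ((u : GL (Fin 2) F) : Matrix (Fin 2) (Fin 2) F) with hM
  set N := M - 1 with hN
  have hNp : N ^ p = 0 := by
    haveI : CharP (Matrix (Fin 2) (Fin 2) F) p := inferInstance
    have h1 : M ^ p = 1 := by rw [hM, ← Units.val_pow_eq_pow_val, ← hu, pow_orderOf_eq_one, Units.val_one]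
    have h2 := add_pow_char_of_commute p (Commute.one_right N)
    rw [hN, sub_add_cancel, h1, one_pow] at h2
    exact left_eq_add.mp (by rw [add_comm]; exact h2)
  have hdet : N.det = 0 := pow_eq_zero_iff (Fact.out : p.Prime).ne_zero |>.mp (by rw [← Matrix.det_pow, hNp]; simp)
  have hsq : N * N = N.trace • N := by
    rw [CfsgLib.SL2.cayley, hdet, zero_smul, sub_zero]
  have hN0 : N ≠ 0 := fun h => by
    have : (u : GL (Fin 2) F) = 1 := Units.ext (sub_eq_zero.mp h)
    rw [this, orderOf_one] at hu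
    exact (Fact.out : p.Prime).ne_one hu.symm
  have hNN : N * N = 0 := by
    have hpow : ∀ k : ℕ, N ^ (k + 1) = N.trace ^ k • N := by
      intro k
      induction k with
      | zero => simp
      | succ k ih => rw [pow_succ, ih, Matrix.smul_mul, hsq, smul_smul, ← pow_succ]
    have h := hpow (p - 1)
    rw [Nat.sub_add_cancel (Fact.out : p.Prime).one_le, hNp, eq_comm, smul_eq_zero] at h
    rw [hsq, pow_eq_zero_iff (by have := (Fact.out : p.Prime).two_le; omega) |>.mp (h.resolve_right hN0), zero_smul]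
  obtain ⟨v0, hv0⟩ : ∃ v0 : Fin 2 → F, N.mulVec v0 ≠ 0 := by
    by_contra hall
    push Not at hall
    exact hN0 (Matrix.toLin'.injective (LinearMap.ext fun v => by simpa [Matrix.toLin'_apply] using hall v))
  set e := N.mulVec v0 with he
  have hNe : N.mulVec e = 0 := by rw [he, Matrix.mulVec_mulVec, hNN, Matrix.zero_mulVec]
  obtain ⟨g, hg, hge⟩ := hirr e hv0
  set f := (g : Matrix (Fin 2) (Fin 2) F).mulVec e with hf
  have hli : LinearIndependent F ![e, f] := by
    rw [LinearIndependent.pair_iff' hv0]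
    exact fun a ha => hge (Submodule.mem_span_singleton.mpr ⟨a, ha⟩)
  let b := basisOfLinearIndependentOfCardEqFinrank hli (by simp)
  have hb : ⇑b = ![e, f] := coe_basisOfLinearIndependentOfCardEqFinrank _ _
  have hrep : ∀ v, v = (b.repr v 0) • e + (b.repr v 1) • f := fun v => by
    conv_lhs => rw [← b.sum_repr v, Fin.sum_univ_two, hb]
    rfl
  -- `N f` is a non-zero multiple of `e`
  set α := b.repr v0 1 with hα
  have hNf : α • N.mulVec f = e := by
    conv_rhs => rw [he, hrep v0, Matrix.mulVec_add, Matrix.mulVec_smul, Matrix.mulVec_smul, hNe, smul_zero, zero_add]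
  have hα0 : α ≠ 0 := fun h => hv0 (by rw [← hNf, h, zero_smul])
  set e1 := α⁻¹ • e with he1
  have hNf1 : N.mulVec f = e1 := by rw [he1, ← hNf, smul_smul, inv_mul_cancel₀ hα0, one_smul]
  -- the conjugate transvection
  set V := (g : Matrix (Fin 2) (Fin 2) F) * N * ((g⁻¹ : GL (Fin 2) F) : Matrix (Fin 2) (Fin 2) F) with hV
  have hgg : ∀ w, ((g⁻¹ : GL (Fin 2) F) : Matrix (Fin 2) (Fin 2) F).mulVec ((g : Matrix (Fin 2) (Fin 2) F).mulVec w) = w := fun w => by
    rw [Matrix.mulVec_mulVec, ← Units.val_mul, inv_mul_cancel, Units.val_one, Matrix.one_mulVec]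
  have hVf : V.mulVec f = 0 := by
    rw [hV, ← Matrix.mulVec_mulVec, hf, hgg, ← Matrix.mulVec_mulVec, hNe, Matrix.mulVec_zero]
  have hVrange : ∀ w, ∃ c : F, V.mulVec w = c • f := fun w => by
    obtain ⟨x, hx⟩ : ∃ x : F, N.mulVec (((g⁻¹ : GL (Fin 2) F) : Matrix (Fin 2) (Fin 2) F).mulVec w) = x • e := by
      set y := ((g⁻¹ : GL (Fin 2) F) : Matrix (Fin 2) (Fin 2) F).mulVec w
      refine ⟨b.repr y 1 * α⁻¹, ?_⟩
      conv_lhs => rw [hrep y, Matrix.mulVec_add, Matrix.mulVec_smul, Matrix.mulVec_smul, hNe, smul_zero, zero_add, hNf1, he1,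
        smul_smul]
    exact ⟨x, by rw [hV, ← Matrix.mulVec_mulVec, ← Matrix.mulVec_mulVec, hx, Matrix.mulVec_smul]⟩
  obtain ⟨c, hc⟩ := hVrange e1
  have hV0 : V ≠ 0 := fun h => hN0 (by
    have : N = ((g⁻¹ : GL (Fin 2) F) : Matrix (Fin 2) (Fin 2) F) * V * (g : Matrix (Fin 2) (Fin 2) F) := by
      rw [hV, ← mul_assoc, ← mul_assoc, ← Units.val_mul, inv_mul_cancel, Units.val_one, one_mul, mul_assoc, ← Units.val_mul,
        inv_mul_cancel, Units.val_one, mul_one]
    rw [this, h, mul_zero, zero_mul])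
  have hc0 : c ≠ 0 := fun h => hV0 (Matrix.toLin'.injective (LinearMap.ext fun w => by
    rw [Matrix.toLin'_apply, hrep w, Matrix.mulVec_add, Matrix.mulVec_smul, Matrix.mulVec_smul, hVf, smul_zero, add_zero,
      show e = α • e1 by rw [he1, smul_smul, mul_inv_cancel₀ hα0, one_smul], Matrix.mulVec_smul, hc, h, zero_smul, smul_zero, smul_zero]
    simp))
  -- change of basis
  set B : Matrix (Fin 2) (Fin 2) F := Matrix.of fun i j => ![e1, f] j i with hB
  have hBv : ∀ x : Fin 2 → F, B.mulVec x = x 0 • e1 + x 1 • f := fun x => funext fun i => by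
    simp [hB, Matrix.mulVec, dotProduct, Fin.sum_univ_two, mul_comm]
  have hBdet : IsUnit B.det := by
    rw [← Matrix.isUnit_iff_isUnit_det, ← Matrix.mulVec_injective_iff_isUnit]
    intro x y hxy
    rw [hBv, hBv, he1, smul_smul, smul_smul] at hxy
    have h2 := (LinearIndependent.pair_iff.mp hli) ((x 0 - y 0) * α⁻¹) (x 1 - y 1) (by
      rw [sub_mul, sub_smul, sub_smul]
      linear_combination (norm := module) hxy)
    funext i
    fin_cases i
    · simpa [sub_eq_zero, hα0] using h2.1
    · simpa [sub_eq_zero] using h2.2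
  let Bu : GL (Fin 2) F := Matrix.GeneralLinearGroup.mkOfDetNeZero B hBdet.ne_zero
  have hcol : ∀ (X A : Matrix (Fin 2) (Fin 2) F), (∀ j, X.mulVec (![e1, f] j) = A 0 j • e1 + A 1 j • f) → X * B = B * A := by
    intro X A h
    ext i j
    have h' := congrFun (h j) i
    simp only [Pi.add_apply, Pi.smul_apply, smul_eq_mul] at h'
    simp only [Matrix.mul_apply, Fin.sum_univ_two, hB, Matrix.of_apply]
    rw [Matrix.mulVec, dotProduct, Fin.sum_univ_two] at h'
    simp only [Matrix.cons_val_zero, Matrix.cons_val_one] at h' ⊢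
    linear_combination h'
  have hMB : M * B = B * !![1, 1; 0, 1] := by
    refine hcol _ _ fun j => ?_
    rw [show M = N + 1 by rw [hN, sub_add_cancel], Matrix.add_mulVec, Matrix.one_mulVec]
    fin_cases j
    · show N.mulVec e1 + e1 = _
      rw [he1, Matrix.mulVec_smul, hNe, smul_zero, zero_add]; simp
    · show N.mulVec f + f = _
      rw [hNf1]; simp
  set v : GL (Fin 2) F := g * u * g⁻¹ with hv
  have hvV : (v : Matrix (Fin 2) (Fin 2) F) = V + 1 := by
    rw [hv, hV, Units.val_mul, Units.val_mul, ← hM, hN, mul_sub, sub_mul, mul_one, ← Units.val_mul _ g⁻¹, mul_inv_cancel,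
      Units.val_one, sub_add_cancel]
  have hvB : (v : Matrix (Fin 2) (Fin 2) F) * B = B * !![1, 0; c, 1] := by
    refine hcol _ _ fun j => ?_
    rw [hvV, Matrix.add_mulVec, Matrix.one_mulVec]
    fin_cases j
    · show V.mulVec e1 + e1 = _
      rw [hc]; simp [add_comm]
    · show V.mulVec f + f = _
      rw [hVf]; simp
  -- `c` is algebraic over the prime field
  letI : Algebra (ZMod p) F := ZMod.algebra F p
  have hint : IsIntegral (ZMod p) c := by
    have hx : ((Bu⁻¹ * (u * v) * Bu : GL (Fin 2) F) : Matrix (Fin 2) (Fin 2) F) = !![1 + c, 1; c, 1] := by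
      have h1 : ((Bu⁻¹ : GL (Fin 2) F) : Matrix (Fin 2) (Fin 2) F) * B = 1 := by
        rw [show B = (Bu : Matrix (Fin 2) (Fin 2) F) from rfl, ← Units.val_mul, inv_mul_cancel, Units.val_one]
      rw [Units.val_mul, Units.val_mul, Units.val_mul, mul_assoc, mul_assoc,
        show (Bu : Matrix (Fin 2) (Fin 2) F) = B from rfl, hvB, ← mul_assoc ((u : GL (Fin 2) F) : Matrix (Fin 2) (Fin 2) F) B,
        ← hM, hMB, ← mul_assoc, ← mul_assoc, h1, one_mul]
      ext i j; fin_cases i <;> fin_cases j <;> simp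
    have hmem : (u : GL (Fin 2) F) * v ∈ H := mul_mem u.2 (mul_mem (mul_mem hg u.2) (inv_mem hg))
    have hord : IsOfFinOrder ((u : GL (Fin 2) F) * v) :=
      Submonoid.isOfFinOrder_coe.mpr (isOfFinOrder_of_finite (⟨_, hmem⟩ : H))
    obtain ⟨n, hn0, hn⟩ := hord.exists_pow_eq_one
    obtain ⟨a, b', ha, had, -, hval⟩ := exists_row (R := ZMod p) c n
    refine ⟨a - 1, ha.sub_of_left (by
      rw [Polynomial.degree_one, Polynomial.degree_eq_natDegree ha.ne_zero, had]; exact_mod_cast hn0), ?_⟩
    have h0 := hval.1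
    have hconj : (Bu⁻¹ * (u * v) * Bu : GL (Fin 2) F) ^ n = 1 := by
      rw [show Bu⁻¹ * ((u : GL (Fin 2) F) * v) * Bu = MulAut.conj Bu⁻¹ ((u : GL (Fin 2) F) * v) by simp, ← map_pow, hn, map_one]
    rw [← hx, ← Units.val_pow_eq_pow_val, hconj, Units.val_one, Matrix.one_apply_eq] at h0
    rw [Polynomial.eval₂_sub, Polynomial.eval₂_one, ← Polynomial.aeval_def, ← h0, sub_self]
  set K := IntermediateField.adjoin (ZMod p) {c} with hK
  haveI : FiniteDimensional (ZMod p) K := IntermediateField.adjoin.finiteDimensional hint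
  haveI : Finite K := Module.finite_of_finite (ZMod p)
  haveI : CharP K p := charP_of_injective_algebraMap (algebraMap (ZMod p) K).injective p
  let φ : Matrix.SpecialLinearGroup (Fin 2) K →* GL (Fin 2) F :=
    ((MulAut.conj Bu).toMonoidHom.comp Matrix.SpecialLinearGroup.toGL).comp
      (Matrix.SpecialLinearGroup.map (algebraMap K F))
  have hφ : Function.Injective φ := by
    intro x y h
    have h1 := (MulAut.conj Bu).injective h
    have h2 := congrArg (fun z : GL (Fin 2) F => (z : Matrix (Fin 2) (Fin 2) F)) h1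
    refine Subtype.ext (Matrix.ext fun i j => (algebraMap K F).injective ?_)
    exact congrFun (congrFun h2 i) j
  have hmemφ : ∀ (x : Matrix.SpecialLinearGroup (Fin 2) K) (w : GL (Fin 2) F),
      (w : Matrix (Fin 2) (Fin 2) F) * B = B * (x.1.map (algebraMap K F)) → w ∈ H → φ x ∈ H := by
    intro x w hw hwH
    have e' : φ x = w := by
      show Bu * _ * Bu⁻¹ = w
      rw [mul_inv_eq_iff_eq_mul]
      exact Units.ext hw.symm
    rwa [e']
  have hcard : Nat.card (H.comap φ) ∣ Nat.card H :=
    Subgroup.card_dvd_of_injective (φ.subgroupComap H) (fun a b h => Subtype.ext (hφ (congrArg Subtype.val h)))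
  have heven := even_card (K := K) hp (c := ⟨c, IntermediateField.mem_adjoin_simple_self _ c⟩)
    (fun h => hc0 (congrArg Subtype.val h)) (H.comap φ)
    (hmemφ _ u (by rw [hM] at hMB; rw [hMB, CfsgLib.SL2.up_coe]; congr 1; ext i j; fin_cases i <;> fin_cases j <;> simp) u.2)
    (hmemφ _ v (by rw [hvB, CfsgLib.SL2.lo_coe]; congr 1; ext i j; fin_cases i <;> fin_cases j <;> simp)
      (mul_mem (mul_mem hg u.2) (inv_mem hg)))
  exact Nat.not_even_iff_odd.mpr hodd (even_iff_two_dvd.mpr (heven.two_dvd.trans hcard))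
end Cfsg.Agent.S1463
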