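import Cfsg.Statements.S1465
import Cfsg.Agent.Lib.Quadratic.Stable
import Cfsg.Agent.Lib.ZJ.Core
import Cfsg.Agent.Lib.PSolvable.Core

set_option autoImplicit false
set_option linter.style.haveILetI false
open Cfsg

namespace Cfsg.Agent.S1465

open scoped commutatorElement

/-- Let p be an odd prime, G a solvable group of odd order, P a normal p-subgroup of G, and X the subgroup generated by a family of abelian p-subgroups of G each normalized by P. Then the image of X in G/C_G(P) lies in O_p(G/C_G(P)); and if O_{p'}(G) = 1 and O_p(G) ∩ C_G(P) ≤ P then X ≤ O_p(G). -/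
theorem result {G : Type*} [Group G] [Finite G] [Group.IsSolvable G] (hodd : Odd (Nat.card G)) (p : ℕ) [Fact p.Prime] (hp : p ≠ 2) (P : Subgroup G) [P.Normal] (hP : IsPGroup p P)
    (S : Set (Subgroup G)) (hS : ∀ B ∈ S, IsMulCommutative B ∧ IsPGroup p B ∧ P ≤ Subgroup.normalizer (B : Set G)) :
    (sSup S).map (QuotientGroup.mk' (Subgroup.centralizer (P : Set G))) ≤ Cfsg.pCore p (G ⧸ Subgroup.centralizer (P : Set G)) ∧
      (Cfsg.pPrimeCore p G = ⊥ → Cfsg.pCore p G ⊓ Subgroup.centralizer (P : Set G) ≤ P → sSup S ≤ Cfsg.pCore p G) := by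
  have hmem : ∀ B ∈ S, B ≤ CfsgLib.ZJ.opMod p P := by
    intro B hB b hb
    obtain ⟨hBc, -, hPB⟩ := hS B hB
    haveI := hBc
    exact CfsgLib.ZJ.mem_opMod.mpr (CfsgLib.Quadratic.isPStableOn_isPGroup_of_sectionsStable
      (CfsgLib.Quadratic.sectionsStable_of_odd hp hodd) P hP b
      (CfsgLib.ZJ.quadratic_of_normalizes
        (fun x hx y hy => congrArg Subtype.val (mul_comm' (⟨x, hx⟩ : B) ⟨y, hy⟩)) hPB hb))
  refine ⟨Subgroup.map_le_iff_le_comap.mpr (sSup_le hmem), fun hO hle => sSup_le fun B hB => (hmem B hB).trans ?_⟩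
  haveI := CfsgLib.ZJ.opMod_normal p P
  set C := Subgroup.centralizer (P : Set G) with hC
  haveI := CfsgLib.Fitting.pCore_normal (G := G) p
  haveI := CfsgLib.Fitting.pCore_normal (G := C) p
  have hRC : (Cfsg.pCore p C).map C.subtype ≤ P := by
    refine le_trans (le_inf ?_ (Subgroup.map_subtype_le _)) hle
    exact CfsgLib.PSolvable.map_pCore_le C
  have hCp : IsPGroup p C := by
    have hOC : Cfsg.pPrimeCore p C = ⊥ := by
      refine Subgroup.map_injective C.subtype_injective ?_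
      rw [Subgroup.map_bot]
      exact le_bot_iff.mp ((CfsgLib.PSolvable.map_pPrimeCore_le C).trans hO.le)
    have hc := CfsgLib.PSolvable.centralizer_pCore_le
      (CfsgLib.PSolvable.isPSolvable_of_isSolvable (p := p) (inferInstance : Group.IsSolvable C)) hOC
    intro c
    have hcR : c ∈ Cfsg.pCore p C := hc fun x hx => Subtype.ext (c.2 (x : G) (hRC ⟨x, hx, rfl⟩))
    obtain ⟨k, hk⟩ := CfsgLib.Fitting.pCore_isPGroup p (⟨c, hcR⟩ : Cfsg.pCore p C)
    exact ⟨k, congrArg Subtype.val hk⟩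
  refine CfsgLib.Fitting.le_pCore inferInstance fun d => ?_
  obtain ⟨k, hk⟩ := CfsgLib.ZJ.exists_pow_mem_centralizer P d.2
  obtain ⟨j, hj⟩ := hCp ⟨_, hk⟩
  refine ⟨k + j, Subtype.ext ?_⟩
  rw [SubgroupClass.coe_pow, OneMemClass.coe_one, pow_add, pow_mul]
  exact congrArg Subtype.val hj
end Cfsg.Agent.S1465
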