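import Cfsg.Statements.S1466
import Cfsg.Agent.Lib.OddLocal.Puig

set_option autoImplicit false
open Cfsg

namespace Cfsg.Agent.S1466

/-- Let p be a prime and R a nontrivial finite p-group. Then for every i > 0, Z(R) ≤ C_R(L_i(R)) ≤ L_i(R); likewise Z(R) ≤ C_R(L_*(R)) ≤ L_*(R) and Z(R) ≤ C_R(L(R)) ≤ L(R); and L(R) ≠ 1, L_*(R) ≠ 1. -/
theorem result {R : Type*} [Group R] [Finite R] (p : ℕ) [Fact p.Prime] (hR : IsPGroup p R) [Nontrivial R] :
    (∀ i : ℕ, 0 < i → Subgroup.center R ≤ Subgroup.centralizer ((Cfsg.puigSeq R i : Subgroup R) : Set R) ∧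
        Subgroup.centralizer ((Cfsg.puigSeq R i : Subgroup R) : Set R) ≤ Cfsg.puigSeq R i) ∧
      (Subgroup.center R ≤ Subgroup.centralizer ((Cfsg.puigLower R : Subgroup R) : Set R) ∧ Subgroup.centralizer ((Cfsg.puigLower R : Subgroup R) : Set R) ≤ Cfsg.puigLower R) ∧
      (Subgroup.center R ≤ Subgroup.centralizer ((Cfsg.puigSubgroup R : Subgroup R) : Set R) ∧ Subgroup.centralizer ((Cfsg.puigSubgroup R : Subgroup R) : Set R) ≤ Cfsg.puigSubgroup R) ∧
      Cfsg.puigSubgroup R ≠ ⊥ ∧ Cfsg.puigLower R ≠ ⊥ := by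
  obtain ⟨k, hk⟩ := CfsgLib.OddLocal.puig_stabilizes (G := R)
  have h0 := hk k le_rfl
  have h1 := hk (k + 1) (Nat.le_succ k)
  have hC : ∀ i, 0 < i → Subgroup.center R ≤ Subgroup.centralizer ((Cfsg.puigSeq R i : Subgroup R) : Set R) ∧
      Subgroup.centralizer ((Cfsg.puigSeq R i : Subgroup R) : Set R) ≤ Cfsg.puigSeq R i := by
    intro i hi
    obtain ⟨j, rfl⟩ := Nat.exists_eq_succ_of_ne_zero hi.ne'
    exact ⟨Subgroup.center_le_centralizer _, CfsgLib.OddLocal.centralizer_puigStep_le hR _⟩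
  have hlow := hC (2 * (k + 1)) (by omega)
  rw [h1.1] at hlow
  have hup := hC (2 * k + 1) (by omega)
  rw [h0.2] at hup
  haveI := hR.center_nontrivial
  have hne : ∀ L : Subgroup R, Subgroup.center R ≤ L → L ≠ ⊥ := fun L hL h =>
    (Subgroup.nontrivial_iff_ne_bot _).mp hR.center_nontrivial (le_bot_iff.mp (h ▸ hL))
  exact ⟨hC, hlow, hup, hne _ (hup.1.trans hup.2), hne _ (hlow.1.trans hlow.2)⟩

end Cfsg.Agent.S1466
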