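import Cfsg.Statements.S1469
import Cfsg.Agent.Lib.OddLocal.PuigCenter
import Cfsg.Agent.Lib.Layer.PComponent
import Cfsg.Agent.Lib.Transfer.Basic

set_option autoImplicit false
open Cfsg

namespace Cfsg.Agent.S1469

/-- Let p be an odd prime, G a solvable group of odd order and S a Sylow p-subgroup, and let Z be the centre of the Puig subgroup L(S), viewed inside G. Then G is generated by O_{p'}(G) and N_G(Z); and if O_{p'}(G) = 1 then Z is normal in G. -/
theorem result {G : Type*} [Group G] [Finite G] [Group.IsSolvable G] (hodd : Odd (Nat.card G)) (p : ℕ) [Fact p.Prime] (hp : p ≠ 2) (S : Sylow p G) :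
    Cfsg.pPrimeCore p G ⊔ Subgroup.normalizer ((((Subgroup.center ↥(Cfsg.puigSubgroup ↥(S : Subgroup G))).map (Cfsg.puigSubgroup ↥(S : Subgroup G)).subtype).map (S : Subgroup G).subtype : Subgroup G) : Set G) = ⊤ ∧
      (Cfsg.pPrimeCore p G = ⊥ → (((Subgroup.center ↥(Cfsg.puigSubgroup ↥(S : Subgroup G))).map (Cfsg.puigSubgroup ↥(S : Subgroup G)).subtype).map (S : Subgroup G).subtype).Normal) := by
  rw [CfsgLib.OddLocal.PuigCenter.center_up_eq]
  have hsolv : Group.IsSolvable G := inferInstance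
  constructor
  · haveI hKn : (Cfsg.pPrimeCore p G).Normal := CfsgLib.Transfer.pPrimeCore_normal p G
    set K := Cfsg.pPrimeCore p G with hK
    have hKc : (Nat.card K).Coprime p := CfsgLib.Transfer.pPrimeCore_coprime p
    set q := QuotientGroup.mk' K with hq
    have hO : Cfsg.pPrimeCore p (G ⧸ K) = ⊥ := CfsgLib.Layer.pPrimeCore_quotient_eq_bot p
    have hoddQ : Odd (Nat.card (G ⧸ K)) :=
      Odd.of_dvd_nat hodd (Subgroup.card_quotient_dvd_card K)
    have hQs : Group.IsSolvable (G ⧸ K) :=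
      solvable_of_surjective (QuotientGroup.mk'_surjective K)
    have hf : ∀ x ∈ (S : Subgroup G), q x = 1 → x = 1 := fun x hxS hx =>
      CfsgLib.PSolvable.eq_one_of_mem_of_mem S.2 hKc hxS ((QuotientGroup.eq_one_iff x).1 hx)
    let S' : Sylow p (G ⧸ K) := S.mapSurjective (QuotientGroup.mk'_surjective K)
    have hn := CfsgLib.OddLocal.PuigCenter.center_normal
      (CfsgLib.Quadratic.sectionsStable_of_odd hp hoddQ)
      (CfsgLib.PSolvable.centralizer_pCore_le
        (CfsgLib.PSolvable.isPSolvable_of_isSolvable hQs) hO) S'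
    have hup := CfsgLib.OddLocal.PuigCenter.up_le (S : Subgroup G)
    have hS' : CfsgLib.OddLocal.PuigCenter.up (S' : Subgroup (G ⧸ K)) =
        (CfsgLib.OddLocal.PuigCenter.up (S : Subgroup G)).map q :=
      (CfsgLib.OddLocal.PuigCenter.map_up_of_injOn _ q hf).symm
    set L := CfsgLib.OddLocal.PuigCenter.up (S : Subgroup G) with hL
    set Z := L ⊓ Subgroup.centralizer (L : Set G) with hZ
    have hmap : Z.map q = L.map q ⊓ Subgroup.centralizer ((L.map q : Subgroup (G ⧸ K)) : Set (G ⧸ K)) := by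
      apply le_antisymm
      · rintro _ ⟨z, hz, rfl⟩
        refine ⟨⟨z, hz.1, rfl⟩, ?_⟩
        rintro _ ⟨w, hw, rfl⟩
        rw [← map_mul, ← map_mul, hz.2 w hw]
      · rintro _ ⟨⟨z, hz, rfl⟩, h⟩
        refine ⟨z, ⟨hz, fun w hw => ?_⟩, rfl⟩
        have h1 : q w * q z = q z * q w := h _ ⟨w, hw, rfl⟩
        refine (inv_mul_eq_one.1 (hf _ ?_ ?_))
        · exact mul_mem (inv_mem (mul_mem (hup hw) (hup hz))) (mul_mem (hup hz) (hup hw))
        · rw [map_mul, map_inv, map_mul, map_mul, h1, inv_mul_cancel]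
    rw [hS', ← hmap] at hn
    haveI := hn
    refine top_le_iff.1 fun x _ => ?_
    have hZp : IsPGroup p Z := S.2.to_le (inf_le_left.trans hup)
    obtain ⟨m, hm, hmx⟩ := CfsgLib.PSolvable.exists_mem_normalizer_of_map (f := q)
      (by rw [QuotientGroup.ker_mk']; exact hKc) hZp (x := x)
      (by rw [Subgroup.normalizer_eq_top]; exact Subgroup.mem_top _)
    have h2 : m⁻¹ * x ∈ K := QuotientGroup.eq.1 hmx
    rw [show x = m * (m⁻¹ * x) by group, sup_comm]
    exact Subgroup.mul_mem_sup hm h2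
  · intro hO
    exact CfsgLib.OddLocal.PuigCenter.center_normal
      (CfsgLib.Quadratic.sectionsStable_of_odd hp hodd)
      (CfsgLib.PSolvable.centralizer_pCore_le
        (CfsgLib.PSolvable.isPSolvable_of_isSolvable hsolv) hO) S

end Cfsg.Agent.S1469
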