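import Cfsg.Statements.S1470
import Cfsg.Agent.Lib.OddOrder.NormPair

set_option autoImplicit false
open Cfsg

namespace Cfsg.Agent.S1470


theorem set_eq {p q : ℕ} [Fact p.Prime] [Fact q.Prime] :
    {a : GaloisField p q | Algebra.norm (ZMod p) a = 1 ∧ Algebra.norm (ZMod p) (2 - a) = 1} =
      {a : GaloisField p q | CfsgLib.NormPair.InE p q a} := by
  ext a
  have h : ∀ x : GaloisField p q,
      Algebra.norm (ZMod p) x = 1 ↔ x ^ CfsgLib.NormPair.nn p q = 1 := fun x => by
    rw [← (algebraMap (ZMod p) (GaloisField p q)).injective.eq_iff, FiniteField.algebraMap_norm_eq_pow,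
      map_one, Nat.card_zmod, GaloisField.card p q (Fact.out : q.Prime).ne_zero]
    rfl
  simp only [Set.mem_setOf_eq, CfsgLib.NormPair.InE, h]

/-- Let p and q be odd primes with (p^q − 1)/(p − 1) coprime to p − 1, and let E be the set of elements a of the field with p ^ q elements whose norm to the prime field is 1 and for which 2 − a also has norm 1. If a⁻¹ ∈ E for every a ∈ E and E has at least two elements, then p ≤ q. -/
theorem result (p q : ℕ) [Fact p.Prime] [Fact q.Prime] (hp : p ≠ 2) (hq : q ≠ 2) (hA : Nat.Coprime ((p ^ q - 1) / (p - 1)) (p - 1))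
    (hinv : ∀ a ∈ {a : GaloisField p q | Algebra.norm (ZMod p) a = 1 ∧ Algebra.norm (ZMod p) (2 - a) = 1}, a⁻¹ ∈ {a : GaloisField p q | Algebra.norm (ZMod p) a = 1 ∧ Algebra.norm (ZMod p) (2 - a) = 1})
    (h2 : 2 ≤ Set.ncard {a : GaloisField p q | Algebra.norm (ZMod p) a = 1 ∧ Algebra.norm (ZMod p) (2 - a) = 1}) :
    p ≤ q := by
  letI : Fintype (GaloisField p q) := Fintype.ofFinite _
  have hF : Fintype.card (GaloisField p q) = p ^ q := by
    rw [← Nat.card_eq_fintype_card, GaloisField.card p q (Fact.out : q.Prime).ne_zero]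
  simp only [set_eq] at hinv h2
  obtain ⟨a, ha, hne⟩ := Set.exists_ne_of_one_lt_ncard (lt_of_lt_of_le one_lt_two h2) (1 : GaloisField p q)
  exact CfsgLib.NormPair.le_of_inv_closed hF hinv ha hne

end Cfsg.Agent.S1470
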