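import Cfsg.Statements.S1471
import Cfsg.Agent.Lib.OddOrder.NormPair

set_option autoImplicit false
open Cfsg

namespace Cfsg.Agent.S1471


theorem set_eq {p q : ℕ} [Fact p.Prime] [Fact q.Prime] :
    {a : GaloisField p q | Algebra.norm (ZMod p) a = 1 ∧ Algebra.norm (ZMod p) (2 - a) = 1} =
      {a : GaloisField p q | CfsgLib.NormPair.InE p q a} := by
  ext a
  have h : ∀ x : GaloisField p q,
      Algebra.norm (ZMod p) x = 1 ↔ x ^ CfsgLib.NormPair.nn p q = 1 := fun x => by
    rw [← (algebraMap (ZMod p) (GaloisField p q)).injective.eq_iff, FiniteField.algebraMap_norm_eq_pow,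
      map_one, Nat.card_zmod, GaloisField.card p q (Fact.out : q.Prime).ne_zero]
    rfl
  simp only [Set.mem_setOf_eq, CfsgLib.NormPair.InE, h]

/-- Let p and q be odd primes with (p^q − 1)/(p − 1) coprime to p − 1. Then there are at least two elements a of the field with p ^ q elements such that both a and 2 − a have norm 1 to the prime field. -/
theorem result (p q : ℕ) [Fact p.Prime] [Fact q.Prime] (hp : p ≠ 2) (hq : q ≠ 2) (hA : Nat.Coprime ((p ^ q - 1) / (p - 1)) (p - 1)) :
    2 ≤ Set.ncard {a : GaloisField p q | Algebra.norm (ZMod p) a = 1 ∧ Algebra.norm (ZMod p) (2 - a) = 1} := by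
  letI : Fintype (GaloisField p q) := Fintype.ofFinite _
  have hF : Fintype.card (GaloisField p q) = p ^ q := by
    rw [← Nat.card_eq_fintype_card, GaloisField.card p q (Fact.out : q.Prime).ne_zero]
  simp only [set_eq]
  obtain ⟨a, ha, hne⟩ := CfsgLib.NormPair.exists_ne_one hF hp hA
  refine (Set.one_lt_ncard).mpr ⟨1, ?_, a, ha, hne.symm⟩
  show CfsgLib.NormPair.InE p q (1 : GaloisField p q)
  exact ⟨one_pow _, by rw [show (2 : GaloisField p q) - 1 = 1 by norm_num, one_pow]⟩

end Cfsg.Agent.S1471
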