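import Cfsg.Statements.S1476
import Cfsg.Agent.Lib.CNOdd.Solvable

set_option autoImplicit false
open Cfsg

namespace Cfsg.Agent.S1476

/-- Let G be a finite solvable group in which every non-identity element has nilpotent centralizer. Then either G is nilpotent; or G has a normal subgroup K with a Frobenius complement E (K E = G, K ∩ E = 1, E meets its conjugates by outside elements trivially) such that E is cyclic or E is generated by two elementwise-commuting subgroups, one cyclic of odd order and one isomorphic to a generalized quaternion group; or G is a three-step group with respect to some prime p. -/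
theorem result {G : Type*} [Group G] [Finite G] [Group.IsSolvable G] (hCN : Cfsg.IsCNGroup G) :
    Group.IsNilpotent G ∨
      (∃ K E : Subgroup G, K.Normal ∧ Subgroup.IsComplement' K E ∧ Cfsg.IsFrobeniusComplement E ∧
        (IsCyclic E ∨ ∃ C Q : Subgroup G, C ⊔ Q = E ∧ (∀ a ∈ C, ∀ b ∈ Q, a * b = b * a) ∧ IsCyclic C ∧ Odd (Nat.card C) ∧
          ∃ n : ℕ, Nonempty (↥Q ≃* QuaternionGroup (2 ^ n)))) ∨
      ∃ p : ℕ, p.Prime ∧ Cfsg.IsThreeStepGroup p G := by
  by_cases hnn : Group.IsNilpotent G
  · exact Or.inl hnn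
  right
  haveI : Nontrivial G := by
    by_contra h
    rw [not_nontrivial_iff_subsingleton] at h
    exact hnn inferInstance
  obtain ⟨p, hp, N, hN, hN1, hNp, -⟩ := CfsgLib.Hall.exists_normal_pgroup_ne_bot (G := G)
  haveI := Fact.mk hp
  obtain ⟨P⟩ : Nonempty (Sylow p G) := inferInstance
  have hR : Cfsg.pCore p G ≠ ⊥ := fun h =>
    hN1 (le_bot_iff.1 (h ▸ CfsgLib.Fitting.le_pCore hN hNp))
  by_cases hPn : (P : Subgroup G).Normal
  · left
    have hP1 : (P : Subgroup G) ≠ ⊥ := fun h => hR (le_bot_iff.1 (h ▸ (by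
      rw [CfsgLib.Fitting.pCore_eq_iInf_sylow]; exact iInf_le _ P)))
    obtain ⟨h1, -, E, hE, hF, hEn, hE1, hfpf⟩ :=
      Cfsg.Agent.CNOdd.normal_sylow_frobenius hCN hnn P hP1 hPn
    obtain ⟨V, hVc, hV, hEV, hVfpf⟩ := CfsgLib.FrobCompl.exists_abelian_module hE h1 hE1 hfpf
    haveI := hVc
    exact ⟨_, E, inferInstance, hE, hF,
      Cfsg.Agent.CNOdd.cyclic_or_quaternion_of_fpf hV hEV hVfpf hEn⟩
  · right
    exact ⟨p, hp, Cfsg.Agent.CNOdd.three_step inferInstance hCN hR P hPn⟩
end Cfsg.Agent.S1476
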