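import Cfsg.Statements.S1487
import Cfsg.Agent.Lib.Char.FrobeniusGroup
import Cfsg.Agent.Lib.Char.Virtual
import Cfsg.Agent.Lib.Char.Central
import Cfsg.Agent.Lib.Char.Eigen
import Cfsg.Agent.Lib.Coprime.SchurZassenhaus

set_option autoImplicit false
open Cfsg

namespace Cfsg.Agent.S1487

open CfsgLib.Char
open scoped CfsgLib.Char

/-- Let A ≤ H be normal subgroups of the finite group G and θ an irreducible character of H. Then θ takes the value θ 1 on all of A if and only if the function induced from θ to G takes its value at 1 on all of A. -/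
theorem result {G : Type*} [Group G] [Fintype G] (A H : Subgroup G) [A.Normal] [H.Normal] (hAH : A ≤ H) (θ : H → ℂ) (hθ : Cfsg.IsIrrCharacter H θ) : (∀ a : H, (a : G) ∈ A → θ a = θ 1) ↔ (∀ a : G, a ∈ A → Cfsg.indFun H θ a = Cfsg.indFun H θ 1) := by
  classical
  have : Fintype H := Fintype.ofFinite _
  obtain ⟨d, hd0, hd⟩ := exists_nat_degree_irr hθ
  have hHc : (Nat.card H : ℂ) ≠ 0 := Nat.cast_ne_zero.mpr Nat.card_pos.ne'
  have hconj : ∀ (a : G), a ∈ A → ∀ x : G, x⁻¹ * a * x ∈ A := fun a ha x => by
    have := (inferInstance : A.Normal).conj_mem a ha x⁻¹; rwa [inv_inv] at this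
  constructor
  · intro h a ha
    simp only [Cfsg.indFun]
    congr 1
    refine Finset.sum_congr rfl fun x _ => ?_
    rw [extendByZero_mem H θ (hAH (hconj a ha x)), show x⁻¹ * 1 * x = 1 by group,
      extendByZero_mem H θ H.one_mem]
    exact (h _ (hconj a ha x)).trans rfl
  · intro h a ha
    have h1 := h a ha
    simp only [Cfsg.indFun] at h1
    have h2 := mul_left_cancel₀ (inv_ne_zero hHc) h1
    have hterm : ∀ x : G, Cfsg.extendByZero H θ (x⁻¹ * 1 * x) = (d : ℂ) := fun x => by
      rw [show x⁻¹ * 1 * x = 1 by group, extendByZero_mem H θ H.one_mem]; exact hd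
    rw [Finset.sum_congr rfl fun x _ => hterm x] at h2
    obtain ⟨n, ρ, hρ, rfl⟩ := hθ
    have hfin : Module.finrank ℂ (Fin n → ℂ) = d := by
      rw [Representation.char_one] at hd; exact_mod_cast hd
    have hle : ∀ x : G, (Cfsg.extendByZero H ρ.character (x⁻¹ * (a : G) * x)).re ≤ (d : ℝ) := fun x => by
      rw [extendByZero_mem H ρ.character (hAH (hconj _ ha x)), ← hfin]
      exact (Complex.re_le_norm _).trans (norm_character_le ρ _)
    have h3 := congrArg Complex.re h2
    simp only [Complex.re_sum, Complex.natCast_re] at h3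
    have h4 := (Finset.sum_eq_sum_iff_of_le fun x _ => hle x).mp h3 1 (Finset.mem_univ _)
    rw [show (1 : G)⁻¹ * (a : G) * 1 = (a : G) by group, extendByZero_coe] at h4
    rw [Representation.char_one, hfin]
    have h5 := norm_character_le ρ a
    rw [hfin] at h5
    have h6 : Complex.normSq (ρ.character a) ≤ (d : ℝ) ^ 2 := by
      rw [Complex.normSq_eq_norm_sq]; exact pow_le_pow_left₀ (norm_nonneg _) h5 2
    rw [Complex.normSq_apply, h4] at h6
    have h7 : (ρ.character a).im = 0 := mul_self_eq_zero.mp (le_antisymm (by nlinarith) (mul_self_nonneg _))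
    exact Complex.ext (by rw [h4, Complex.natCast_re]) (by rw [h7, Complex.natCast_im])

end Cfsg.Agent.S1487
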