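import Cfsg.Statements.S1488
import Cfsg.Agent.Lib.Char.FrobeniusGroup
import Cfsg.Agent.Lib.Char.Virtual
import Cfsg.Agent.Lib.Char.Central
import Cfsg.Agent.Lib.Char.Eigen
import Cfsg.Agent.Lib.Coprime.SchurZassenhaus

set_option autoImplicit false
open Cfsg

namespace Cfsg.Agent.S1488

open CfsgLib.Char
open scoped CfsgLib.Char

/-- Let A be a normal subgroup of the finite group G contained in the subgroup H, let θ be a function on H and θ₁ a function on the image of H in G ⧸ A whose composite with the projection is θ. Then the function induced from θ₁ to G ⧸ A, composed with the projection G → G ⧸ A, equals the function induced from θ to G. -/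
theorem result {G : Type*} [Group G] [Fintype G] (A H : Subgroup G) [A.Normal] (hAH : A ≤ H) [Fintype (G ⧸ A)] [Fintype ↥(H.map (QuotientGroup.mk' A))] (θ : H → ℂ) (θ₁ : ↥(H.map (QuotientGroup.mk' A)) → ℂ) (hθ : ∀ x : H, θ₁ ⟨QuotientGroup.mk' A x, Subgroup.mem_map_of_mem _ x.2⟩ = θ x) (g : G) : Cfsg.indFun (H.map (QuotientGroup.mk' A)) θ₁ (QuotientGroup.mk' A g) = Cfsg.indFun H θ g := by
  classical
  have hcardA : (Nat.card A : ℂ) ≠ 0 := Nat.cast_ne_zero.mpr Nat.card_pos.ne'
  have hiff : ∀ y : G, QuotientGroup.mk' A y ∈ H.map (QuotientGroup.mk' A) ↔ y ∈ H := by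
    intro y
    rw [← Subgroup.mem_comap, Subgroup.comap_map_eq, QuotientGroup.ker_mk', sup_eq_left.mpr hAH]
  have hterm : ∀ y : G, Cfsg.extendByZero (H.map (QuotientGroup.mk' A)) θ₁ (QuotientGroup.mk' A y) =
      Cfsg.extendByZero H θ y := by
    intro y
    by_cases hy : y ∈ H
    · rw [extendByZero_mem _ θ₁ ((hiff y).mpr hy), extendByZero_mem H θ hy]
      exact hθ ⟨y, hy⟩
    · rw [extendByZero_notMem _ θ₁ (fun h => hy ((hiff y).mp h)), extendByZero_notMem H θ hy]
  have hcard : (Nat.card H : ℂ) = (Nat.card A : ℂ) * Nat.card ↥(H.map (QuotientGroup.mk' A)) := by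
    have e : (A.subgroupOf H).index = Nat.card ↥(H.map (QuotientGroup.mk' A)) := by
      rw [← Subgroup.relIndex, ← Subgroup.relIndex_ker, QuotientGroup.ker_mk']
    rw [← Nat.cast_mul, ← e, ← Subgroup.card_mul_index (A.subgroupOf H),
      Nat.card_congr (Subgroup.subgroupOfEquivOfLe hAH).toEquiv]
  simp only [Cfsg.indFun]
  rw [hcard, mul_inv, mul_comm (Nat.card A : ℂ)⁻¹, mul_assoc]
  congr 1
  rw [← Equiv.sum_comp (Subgroup.groupEquivQuotientProdSubgroup (s := A)).symm, Fintype.sum_prod_type,
    Finset.mul_sum]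
  refine Finset.sum_congr rfl fun q _ => ?_
  have hq : ∀ a : A, QuotientGroup.mk' A ((Subgroup.groupEquivQuotientProdSubgroup (s := A)).symm (q, a)) = q := by
    intro a
    have := congrArg Prod.fst ((Subgroup.groupEquivQuotientProdSubgroup (s := A)).apply_symm_apply (q, a))
    exact this
  have : ∀ a : A, Cfsg.extendByZero H θ (((Subgroup.groupEquivQuotientProdSubgroup (s := A)).symm (q, a))⁻¹ * g * (Subgroup.groupEquivQuotientProdSubgroup (s := A)).symm (q, a)) =
      Cfsg.extendByZero (H.map (QuotientGroup.mk' A)) θ₁ (q⁻¹ * QuotientGroup.mk' A g * q) := by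
    intro a
    rw [← hterm]
    simp only [map_mul, map_inv, hq]
  rw [Finset.sum_congr rfl fun a _ => this a, Finset.sum_const, Finset.card_univ, ← Nat.card_eq_fintype_card,
    nsmul_eq_mul, inv_mul_cancel_left₀ hcardA]

end Cfsg.Agent.S1488
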