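import Cfsg.Statements.S1490
import Cfsg.Agent.Lib.Char.AutClasses
import Cfsg.Agent.Lib.Char.AbelianQuotient
import Cfsg.Agent.Lib.Char.CyclicW
import Cfsg.Agent.Lib.Char.Twist

set_option autoImplicit false
open Cfsg

namespace Cfsg.Agent.S1490

open CfsgLib.Char
open scoped CfsgLib.Char

/-- Let H be a normal subgroup of the finite group G, θ an irreducible character of H with inertia group T, and suppose the commutator of any two elements of T lies in H (T/H abelian). Then there are a positive integer e and a finite set C of irreducible characters of G with e ^ 2 * |C| * |H| = |T|, such that the function induced from θ is e times the sum of the members of C and every member of C has degree [G:T] * e * θ(1). -/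
theorem result {G : Type*} [Group G] [Fintype G] (H T : Subgroup G) [hN : H.Normal] (θ : H → ℂ) (hθ : Cfsg.IsIrrCharacter H θ) (hT : ∀ g : G, g ∈ T ↔ ∀ h : H, θ ⟨g * h * g⁻¹, hN.conj_mem h h.2 g⟩ = θ h) (hab : ∀ x ∈ T, ∀ y ∈ T, x * y * x⁻¹ * y⁻¹ ∈ H) : ∃ (e : ℕ) (C : Finset (G → ℂ)), 0 < e ∧ (∀ χ ∈ C, Cfsg.IsIrrCharacter G χ) ∧ e ^ 2 * C.card * Nat.card H = Nat.card T ∧ Cfsg.indFun H θ = (e : ℂ) • ∑ χ ∈ C, χ ∧ ∀ χ ∈ C, χ 1 = (T.index : ℂ) * e * θ 1 := by
  classical
  haveI := Fintype.ofFinite T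
  have hT' : ∀ g, g ∈ T ↔ conjBy H θ g = θ := fun g => (hT g).trans funext_iff.symm
  have hHT : H ≤ T := fun g hg => (hT' g).mpr (conjBy_mem H (isClassFunction_of_isCharacter (isCharacter_of_isIrr hθ)) hg)
  set e := Subgroup.subgroupOfEquivOfLe hHT
  set θ' : H.subgroupOf T → ℂ := fun x => θ (e x) with hθ'
  have hθi : IsIrrCharacter (H.subgroupOf T) θ' := (isIrrCharacter_comp_equiv e).mpr hθ
  have hinv : ∀ g : T, conjBy (H.subgroupOf T) θ' g = θ' := by
    intro g; funext x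
    exact congrFun ((hT' g).mp g.2) (e x)
  have hab' : ∀ x y : T, x * y * x⁻¹ * y⁻¹ ∈ H.subgroupOf T := fun x y => Subgroup.mem_subgroupOf.mpr (hab x x.2 y y.2)
  obtain ⟨ψ, hψ⟩ : ∃ ψ : IrrCharacter T, classInner (indFun (H.subgroupOf T) θ') (ψ : T → ℂ) ≠ 0 := by
    by_contra h
    push Not at h
    have h0 := classFunction_expansion (isClassFunction_indFun (H.subgroupOf T) θ')
    simp only [h, zero_smul, Finset.sum_const_zero] at h0
    have h1 := congrFun h0 1
    rw [indFun_one] at h1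
    exact mul_ne_zero (Nat.cast_ne_zero.mpr (H.subgroupOf T).index_ne_zero_of_finite) (irr_degree_ne_zero hθi) h1
  rw [frobenius_reciprocity _ _ (isClassFunction_irr ψ), ← classInner_conj_symm, map_ne_zero] at hψ
  obtain ⟨n, C, hn0, -, hCirr, hcard, hind, hC⟩ := invariant_decomposition (H.subgroupOf T) hab' hθi hinv ψ.2 hψ
  have hres : ∀ χ ∈ C, classInner (resTo H T hHT χ) θ = (n : ℂ) := fun χ hχ => by
    rw [← (hC χ hχ).2]
    exact (classInner_comp_equiv e (resTo H T hHT χ) θ).symm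
  have hcor : ∀ χ ∈ C, IsIrrCharacter G (indFun T χ) ∧ ∀ χ' ∈ C, indFun T χ' = indFun T χ → χ' = χ := by
    intro χ hχ
    have hne : classInner (resTo H T hHT χ) θ ≠ 0 := by rw [hres χ hχ]; exact Nat.cast_ne_zero.mpr hn0.ne'
    obtain ⟨h1, -, h2⟩ := clifford_correspondence H T hθ hT' hHT (hCirr χ hχ) hne
    exact ⟨h1, fun χ' hχ' => h2 χ' (hCirr χ' hχ') (by rw [hres χ' hχ']; exact Nat.cast_ne_zero.mpr hn0.ne')⟩
  have hinj : Set.InjOn (indFun T) (C : Set (T → ℂ)) := fun a ha b hb h => (hcor b hb).2 a ha h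
  refine ⟨n, C.image (indFun T), hn0, ?_, ?_, ?_, ?_⟩
  · intro χ hχ
    obtain ⟨φ, hφ, rfl⟩ := Finset.mem_image.mp hχ
    exact (hcor φ hφ).1
  · rw [Finset.card_image_of_injOn hinj, hcard, ← Nat.card_congr (Subgroup.subgroupOfEquivOfLe hHT).toEquiv,
      mul_comm, Subgroup.card_mul_index]
  · rw [Finset.sum_image hinj, ← indFun_sum, ← indFun_smul, ← hind]
    exact (indFun_trans H T hHT θ).symm
  · intro χ hχ
    obtain ⟨φ, hφ, rfl⟩ := Finset.mem_image.mp hχ
    rw [indFun_one, (hC φ hφ).1]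
    have : θ' 1 = θ 1 := congrArg θ (map_one e)
    rw [this]; ring

end Cfsg.Agent.S1490
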