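import Cfsg.Statements.S1491
import Cfsg.Agent.Lib.Char.AutClasses
import Cfsg.Agent.Lib.Char.AbelianQuotient
import Cfsg.Agent.Lib.Char.CyclicW
import Cfsg.Agent.Lib.Char.Twist

set_option autoImplicit false
open Cfsg

namespace Cfsg.Agent.S1491

open CfsgLib.Char
open scoped CfsgLib.Char

/-- Let H be a normal subgroup of the finite group G and θ an irreducible character of H with inertia group T, where T/H is abelian (commutators of T lie in H) and the index of H in T is coprime to the order of H. Then the function induced from θ is the sum of a set of exactly [T:H] irreducible characters of G, each of degree [G:T] * θ(1). -/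
theorem result {G : Type*} [Group G] [Fintype G] (H T : Subgroup G) [hN : H.Normal] (θ : H → ℂ) (hθ : Cfsg.IsIrrCharacter H θ) (hT : ∀ g : G, g ∈ T ↔ ∀ h : H, θ ⟨g * h * g⁻¹, hN.conj_mem h h.2 g⟩ = θ h) (hab : ∀ x ∈ T, ∀ y ∈ T, x * y * x⁻¹ * y⁻¹ ∈ H) (hcop : Nat.Coprime (Nat.card H) (H.relIndex T)) : ∃ C : Finset (G → ℂ), (∀ χ ∈ C, Cfsg.IsIrrCharacter G χ) ∧ C.card = H.relIndex T ∧ Cfsg.indFun H θ = ∑ χ ∈ C, χ ∧ ∀ χ ∈ C, χ 1 = (T.index : ℂ) * θ 1 := by
  classical
  haveI := Fintype.ofFinite T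
  have hT' : ∀ g, g ∈ T ↔ conjBy H θ g = θ := fun g => (hT g).trans funext_iff.symm
  have hHT : H ≤ T := fun g hg => (hT' g).mpr (conjBy_mem H (isClassFunction_of_isCharacter (isCharacter_of_isIrr hθ)) hg)
  set e := Subgroup.subgroupOfEquivOfLe hHT
  set θ' : H.subgroupOf T → ℂ := fun x => θ (e x) with hθ'
  have hθi : IsIrrCharacter (H.subgroupOf T) θ' := (isIrrCharacter_comp_equiv e).mpr hθ
  have hinv : ∀ g : T, conjBy (H.subgroupOf T) θ' g = θ' := by
    intro g; funext x
    exact congrFun ((hT' g).mp g.2) (e x)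
  have hab' : ∀ x y : T, x * y * x⁻¹ * y⁻¹ ∈ H.subgroupOf T := fun x y => Subgroup.mem_subgroupOf.mpr (hab x x.2 y y.2)
  obtain ⟨f, hf⟩ := exists_det_hom (isCharacter_of_isIrr hθi)
  obtain ⟨d, hd, hdd⟩ := exists_degree_dvd_card hθi
  have hcard' : Nat.card (H.subgroupOf T) = Nat.card H := Nat.card_congr e.toEquiv
  obtain ⟨ψ, hψ, hres⟩ := extends_of_det (H.subgroupOf T) hθi hinv d (Nat.card H) hd (1 : T →* ℂˣ)
    (fun x => by
      rw [hf, MonoidHom.one_apply, Units.val_one, ← Units.val_pow_eq_pow_val, ← map_pow, ← hcard', pow_card_eq_one', map_one, Units.val_one])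
    (by
      show Nat.Coprime (H.relIndex T) (d * Nat.card H)
      exact Nat.Coprime.mul_right (hcop.symm.coprime_dvd_right (hcard' ▸ hdd.2)) hcop.symm)
  have hone : classInner (fun x : H.subgroupOf T => ψ x) θ' = 1 := by rw [funext hres, classInner_irr_self hθi]
  obtain ⟨n, C, hn0, hn, hCirr, hcard, hind, hC⟩ := invariant_decomposition (H.subgroupOf T) hab' hθi hinv hψ
    (by rw [hone]; exact one_ne_zero)
  have hn1 : n = 1 := by rw [hone] at hn; exact_mod_cast hn.symm
  subst hn1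
  have hres : ∀ χ ∈ C, classInner (resTo H T hHT χ) θ = 1 := fun χ hχ => by
    rw [← Nat.cast_one, ← (hC χ hχ).2]
    exact (classInner_comp_equiv e (resTo H T hHT χ) θ).symm
  have hcor : ∀ χ ∈ C, IsIrrCharacter G (indFun T χ) ∧ ∀ χ' ∈ C, indFun T χ' = indFun T χ → χ' = χ := by
    intro χ hχ
    have hne : classInner (resTo H T hHT χ) θ ≠ 0 := by rw [hres χ hχ]; exact one_ne_zero
    obtain ⟨h1, -, h2⟩ := clifford_correspondence H T hθ hT' hHT (hCirr χ hχ) hne
    exact ⟨h1, fun χ' hχ' => h2 χ' (hCirr χ' hχ') (by rw [hres χ' hχ']; exact one_ne_zero)⟩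
  have hinj : Set.InjOn (indFun T) (C : Set (T → ℂ)) := fun a ha b hb h => (hcor b hb).2 a ha h
  refine ⟨C.image (indFun T), ?_, ?_, ?_, ?_⟩
  · intro χ hχ
    obtain ⟨φ, hφ, rfl⟩ := Finset.mem_image.mp hχ
    exact (hcor φ hφ).1
  · rw [Finset.card_image_of_injOn hinj]
    rw [one_pow, one_mul] at hcard
    exact hcard
  · rw [Finset.sum_image hinj, ← indFun_sum]
    rw [Nat.cast_one, one_smul] at hind
    rw [← hind]
    exact (indFun_trans H T hHT θ).symm
  · intro χ hχ
    obtain ⟨φ, hφ, rfl⟩ := Finset.mem_image.mp hχ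
    rw [indFun_one, (hC φ hφ).1]
    have : θ' 1 = θ 1 := congrArg θ (map_one e)
    rw [this, Nat.cast_one, one_mul]

end Cfsg.Agent.S1491
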