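import Cfsg.Statements.S1492
import Cfsg.Agent.Lib.Char.AutClasses
import Cfsg.Agent.Lib.Char.AbelianQuotient
import Cfsg.Agent.Lib.Char.CyclicW
import Cfsg.Agent.Lib.Char.Twist

set_option autoImplicit false
open Cfsg

namespace Cfsg.Agent.S1492

open CfsgLib.Char
open scoped CfsgLib.Char

/-- Let ψ be an irreducible character of the finite group G and B ≤ D ≤ C subgroups with B normal in C, every commutator of an element of D with an element of C lying in B (so D/B is central in C/B), and ψ constant equal to ψ 1 on B. Then ψ(1) ^ 2 * |C| * |D| ≤ |G| ^ 2. -/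
theorem result {G : Type*} [Group G] [Finite G] (ψ : G → ℂ) (hψ : Cfsg.IsIrrCharacter G ψ) (B C D : Subgroup G) (hBD : B ≤ D) (hDC : D ≤ C) (hBn : ∀ c ∈ C, ∀ b ∈ B, c * b * c⁻¹ ∈ B) (hcent : ∀ d ∈ D, ∀ c ∈ C, d * c * d⁻¹ * c⁻¹ ∈ B) (hker : ∀ b ∈ B, ψ b = ψ 1) : ‖ψ 1‖ ^ 2 * (Nat.card C : ℝ) * (Nat.card D : ℝ) ≤ (Nat.card G : ℝ) ^ 2 := by
  classical
  haveI := Fintype.ofFinite G
  haveI := Fintype.ofFinite C
  obtain ⟨φ, hφ⟩ : ∃ φ : IrrCharacter C, classInner (fun c : C => ψ c) (φ : C → ℂ) ≠ 0 := by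
    by_contra h
    push Not at h
    have h0 := classFunction_expansion (isClassFunction_restrict C (isClassFunction_of_isCharacter (isCharacter_of_isIrr hψ)))
    simp only [h, zero_smul, Finset.sum_const_zero] at h0
    exact irr_degree_ne_zero hψ (congrFun h0 1)
  obtain ⟨a, ha0, ha⟩ := exists_nat_degree_irr hψ
  obtain ⟨b, hb0, hb⟩ := exists_nat_degree_irr φ.2
  -- the constituent is trivial on `B`
  obtain ⟨n, ρ, hρ, hρφ⟩ := φ.2
  haveI := hρ
  have hn : (n : ℂ) = (b : ℂ) := by
    rw [← hb, ← hρφ, Representation.char_one, Module.finrank_fin_fun]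
  have hBker : ∀ x : C, (x : G) ∈ B → ρ x = 1 := by
    intro x hx
    obtain ⟨m, hm⟩ := exists_multiplicities (isCharacter_restrict C (isCharacter_of_isIrr hψ))
    choose p hp0 hp using fun k : IrrCharacter C => exists_nat_degree_irr k.2
    have hre : ∀ k : IrrCharacter C, ((k : C → ℂ) x).re ≤ p k := by
      intro k
      obtain ⟨q, σ, hσ, hσk⟩ := k.2
      have h := norm_character_le σ x
      rw [Module.finrank_fin_fun, hσk] at h
      refine (Complex.re_le_norm _).trans (h.trans (le_of_eq ?_))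
      have : ((q : ℕ) : ℂ) = p k := by rw [← hp k, ← hσk, Representation.char_one, Module.finrank_fin_fun]
      exact_mod_cast this
    have h1 := congrFun hm x
    have h2 := congrFun hm 1
    simp only [Finset.sum_apply, Pi.smul_apply, smul_eq_mul] at h1 h2
    have heq : ∑ k : IrrCharacter C, (m k : ℝ) * ((k : C → ℂ) x).re = ∑ k : IrrCharacter C, (m k : ℝ) * p k := by
      have e1 := congrArg Complex.re h1
      have e2 := congrArg Complex.re h2
      simp only [Complex.re_sum, Complex.mul_re, Complex.natCast_re, Complex.natCast_im, zero_mul, sub_zero, hp] at e1 e2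
      rw [hker x hx] at e1
      exact e1.symm.trans e2
    have hmφ : m φ ≠ 0 := by
      intro h0
      apply hφ
      rw [hm, classInner_sum_smul_irr, h0, Nat.cast_zero]
    have h3 := (Finset.sum_eq_sum_iff_of_le (fun k _ => mul_le_mul_of_nonneg_left (hre k) (Nat.cast_nonneg _))).mp heq φ (Finset.mem_univ _)
    have h4 : ((φ : C → ℂ) x).re = b := by
      rw [mul_left_cancel₀ (Nat.cast_ne_zero.mpr hmφ) h3]
      have : ((p φ : ℕ) : ℂ) = b := by rw [← hp φ, hb]
      exact_mod_cast this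
    have h5 := norm_character_le ρ x
    rw [Module.finrank_fin_fun] at h5
    have hnb : n = b := Nat.cast_inj.mp hn
    rw [hρφ] at h5
    have h6 : (φ : C → ℂ) x = (b : ℂ) := by
      apply Complex.ext
      · rw [h4, Complex.natCast_re]
      · rw [Complex.natCast_im]
        have h7 := Complex.sq_norm_sub_sq_re ((φ : C → ℂ) x)
        rw [h4] at h7
        have h8 : ‖(φ : C → ℂ) x‖ ^ 2 ≤ (b : ℝ) ^ 2 := pow_le_pow_left₀ (norm_nonneg _) (hnb ▸ h5) 2
        nlinarith [sq_nonneg ((φ : C → ℂ) x).im]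
    refine (character_eq_finrank_iff ρ x).mp ?_
    rw [hρφ, h6, Module.finrank_fin_fun, hn]
  have hscal : ∀ x : C, (x : G) ∈ D → ‖(φ : C → ℂ) x‖ = b := by
    intro x hx
    have hsame : ∀ y : C, IsConj y x → ρ y = ρ x := by
      intro y hy
      obtain ⟨c, rfl⟩ := isConj_iff.mp hy.symm
      have hmem : ((x * c * x⁻¹ * c⁻¹ : C) : G) ∈ B := by
        have := hcent x hx c c.2
        simpa using this
      have h1 := hBker _ hmem
      have e : x * c = (x * c * x⁻¹ * c⁻¹) * (c * x) := by group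
      have h2 : ρ (x * c) = ρ (c * x) := by rw [e, map_mul, h1, one_mul]
      rw [map_mul, ← h2, ← map_mul, mul_inv_cancel_right]
    obtain ⟨k, hk, hcs⟩ : ∃ k : ℕ, k ≠ 0 ∧ classSum ρ x = (k : ℂ) • ρ x := by
      have h := Finset.sum_congr (f := fun y => ρ y) (g := fun _ => ρ x) (rfl : (Finset.univ.filter fun y : C => IsConj y x) = _) fun y hy => hsame y (Finset.mem_filter.mp hy).2
      rw [Finset.sum_const, ← Nat.cast_smul_eq_nsmul ℂ] at h
      refine ⟨(Finset.univ.filter fun y : C => IsConj y x).card, ?_, ?_⟩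
      · exact Finset.card_ne_zero.mpr ⟨x, Finset.mem_filter.mpr ⟨Finset.mem_univ _, IsConj.refl x⟩⟩
      · rw [classSum]
        convert h
    have hω := classSum_eq_omega ρ x
    rw [hcs] at hω
    have hk0 : (k : ℂ) ≠ 0 := Nat.cast_ne_zero.mpr hk
    have h := (norm_character_eq_iff ρ x).mpr ⟨(k : ℂ)⁻¹ * omega ρ.character x, by
      rw [mul_smul, ← hω, smul_smul, inv_mul_cancel₀ hk0, one_smul]⟩
    rw [hρφ, Module.finrank_fin_fun, Nat.cast_inj.mp hn] at h
    exact h
  have hsum : (b : ℝ) ^ 2 * (Nat.card D : ℝ) ≤ Nat.card C := by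
    have h1 := classInner_irr_self φ.2
    have hCne : (Nat.card C : ℂ) ≠ 0 := Nat.cast_ne_zero.mpr Nat.card_pos.ne'
    rw [classInner, inv_mul_eq_iff_eq_mul₀ hCne, mul_one] at h1
    have h2 : ∑ x : C, ‖(φ : C → ℂ) x‖ ^ 2 = (Nat.card C : ℝ) := by
      have := congrArg Complex.re h1
      simp only [Complex.re_sum, Complex.mul_conj, Complex.ofReal_re, Complex.natCast_re, Complex.normSq_eq_norm_sq] at this
      exact this
    rw [← h2]
    calc (b : ℝ) ^ 2 * (Nat.card D : ℝ) = ∑ x ∈ Finset.univ.filter (fun x : C => (x : G) ∈ D), ‖(φ : C → ℂ) x‖ ^ 2 := by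
          rw [Finset.sum_congr rfl fun x hx => by rw [hscal x (Finset.mem_filter.mp hx).2], Finset.sum_const, nsmul_eq_mul, mul_comm]
          congr 2
          rw [← Nat.card_congr (Subgroup.subgroupOfEquivOfLe hDC).toEquiv, Nat.card_eq_fintype_card, Fintype.card_subtype]
          rfl
      _ ≤ _ := Finset.sum_le_sum_of_subset_of_nonneg (Finset.filter_subset _ _) fun x _ _ => sq_nonneg _
  have hab : a ≤ C.index * b := by
    obtain ⟨m, hm⟩ := exists_multiplicities (isCharacter_indFun C (isCharacter_of_isIrr φ.2))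
    have hm0 : m ⟨ψ, hψ⟩ ≠ 0 := by
      intro h0
      apply hφ
      rw [← frobenius_reciprocity' C _ (isClassFunction_of_isCharacter (isCharacter_of_isIrr hψ)), ← classInner_conj_symm, hm, classInner_sum_smul_irr _ ⟨ψ, hψ⟩, h0]
      simp
    choose p hp0 hp using fun k : IrrCharacter G => exists_nat_degree_irr k.2
    have h1 := congrFun hm 1
    simp only [indFun_one, hb, Finset.sum_apply, Pi.smul_apply, smul_eq_mul, hp] at h1
    have h2 : C.index * b = ∑ k : IrrCharacter G, m k * p k := by exact_mod_cast h1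
    have h3 : p ⟨ψ, hψ⟩ = a := by
      have : ((p ⟨ψ, hψ⟩ : ℕ) : ℂ) = a := (hp ⟨ψ, hψ⟩).symm.trans ha
      exact_mod_cast this
    rw [h2, ← h3]
    exact (Nat.le_mul_of_pos_left _ (Nat.pos_of_ne_zero hm0)).trans
      (Finset.single_le_sum (f := fun k => m k * p k) (fun k _ => Nat.zero_le _) (Finset.mem_univ (⟨ψ, hψ⟩ : IrrCharacter G)))
  rw [ha, Complex.norm_natCast, ← C.card_mul_index]
  push_cast
  have hab' : (a : ℝ) ≤ (C.index : ℝ) * b := by exact_mod_cast hab
  have hC0 : (0 : ℝ) ≤ Nat.card C := Nat.cast_nonneg _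
  calc (a : ℝ) ^ 2 * Nat.card C * Nat.card D ≤ ((C.index : ℝ) * b) ^ 2 * Nat.card C * Nat.card D := by gcongr
    _ = (C.index : ℝ) ^ 2 * Nat.card C * ((b : ℝ) ^ 2 * Nat.card D) := by ring
    _ ≤ (C.index : ℝ) ^ 2 * Nat.card C * Nat.card C := by gcongr
    _ = _ := by ring

end Cfsg.Agent.S1492
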