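import Cfsg.Statements.S1494
import Cfsg.Agent.Lib.Char.Artin
import Cfsg.Agent.Lib.Char.Counting

set_option autoImplicit false
open Cfsg

namespace Cfsg.Agent.S1494

open CfsgLib.Char
open scoped CfsgLib.Char

/-- Let χ be a generalized character of the finite group G, p a prime, x an element of order p and y an element commuting with x. Then χ(x * y) − χ(y) = (1 − ε) * ω for some algebraic integer ω, where ε = exp(2πi/p). -/
theorem result {G : Type*} [Group G] [Finite G] (χ : G → ℂ) (hχ : Cfsg.IsGeneralizedCharacter G χ) (p : ℕ) (hp : p.Prime) (x y : G) (hx : orderOf x = p) (hxy : x * y = y * x) : ∃ ω : ℂ, IsIntegral ℤ ω ∧ χ (x * y) - χ y = (1 - Complex.exp (2 * Real.pi * Complex.I / p)) * ω := by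
  classical
  have : Fintype G := Fintype.ofFinite G
  set ζ := Complex.exp (2 * Real.pi * Complex.I / p)
  have hζ : IsPrimitiveRoot ζ p := Complex.isPrimitiveRoot_exp p hp.ne_zero
  haveI : NeZero p := ⟨hp.ne_zero⟩
  set A := Subgroup.closure ({x, y} : Set G) with hA
  have hAc : IsMulCommutative A := Subgroup.isMulCommutative_closure (by
    rintro a (rfl | rfl) b (rfl | rfl) <;> first | rfl | exact hxy | exact hxy.symm)
  let X : A := ⟨x, Subgroup.subset_closure (Set.mem_insert _ _)⟩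
  let Y : A := ⟨y, Subgroup.subset_closure (Set.mem_insert_of_mem _ rfl)⟩
  obtain ⟨c, hc⟩ := isGeneralized_iff.mp (isGeneralized_restrict A hχ)
  have hX : X ^ p = 1 := Subtype.ext (by show x ^ p = 1; rw [← hx, pow_orderOf_eq_one])
  have hone : ∀ ψ : Cfsg.IrrCharacter A, ∃ w : ℂ, IsIntegral ℤ w ∧
      (ψ : A → ℂ) (X * Y) - (ψ : A → ℂ) Y = (1 - ζ) * w := by
    intro ψ
    have h1 := degree_one_of_comm (fun a b => hAc.is_comm.comm a b) ψ
    have hψc := isCharacter_of_isIrr ψ.2
    rw [linear_mul hψc h1]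
    have hlx : (ψ : A → ℂ) X ^ p = 1 := by
      have e := congrArg (fun t : A => ((linearHom hψc h1 t : ℂˣ) : ℂ)) hX
      simp only [map_pow, map_one, Units.val_pow_eq_pow_val, linearHom_apply, Units.val_one] at e
      exact e
    obtain ⟨i, -, hi⟩ := hζ.eq_pow_of_pow_eq_one hlx
    refine ⟨-(∑ j ∈ Finset.range i, ζ ^ j) * (ψ : A → ℂ) Y, ?_, ?_⟩
    · exact ((IsIntegral.sum _ fun j _ => (hζ.isIntegral hp.pos).pow j).neg).mul (isIntegral_value hψc Y)
    · rw [← hi]
      linear_combination ((ψ : A → ℂ) Y) * (geom_sum_mul ζ i).symm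
  choose w hw1 hw2 using hone
  refine ⟨∑ ψ : Cfsg.IrrCharacter A, (c ψ : ℂ) * w ψ, IsIntegral.sum _ fun ψ _ =>
    (isIntegral_algebraMap (R := ℤ) (A := ℂ) (x := c ψ)).mul (hw1 ψ), ?_⟩
  have e1 := congrFun hc (X * Y)
  have e2 := congrFun hc Y
  simp only [Finset.sum_apply, Pi.smul_apply, smul_eq_mul] at e1 e2
  refine (congrArg₂ (· - ·) e1 e2).trans ?_
  rw [← Finset.sum_sub_distrib, Finset.mul_sum]
  exact Finset.sum_congr rfl fun ψ _ => by rw [← mul_sub, hw2]; ring

end Cfsg.Agent.S1494
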