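import Cfsg.Statements.S1495
import Cfsg.Agent.Lib.Char.Gallagher

set_option autoImplicit false
open Cfsg

namespace Cfsg.Agent.S1495

open CfsgLib.Char Polynomial

/-- Let p be a prime, ε = exp(2πi/p), and n an integer such that n = (1 − ε) * ω for some algebraic integer ω. Then p divides n. -/
theorem result (p : ℕ) (hp : p.Prime) (n : ℤ) (ω : ℂ) (hω : IsIntegral ℤ ω) (h : (n : ℂ) = (1 - Complex.exp (2 * Real.pi * Complex.I / p)) * ω) : (p : ℤ) ∣ n := by
  have := Fact.mk hp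
  classical
  set ζ := Complex.exp (2 * Real.pi * Complex.I / p) with hζdef
  have hζ : IsPrimitiveRoot ζ p := Complex.isPrimitiveRoot_exp p hp.ne_zero
  set s := primitiveRoots p ℂ with hs
  have hfac : ∀ μ ∈ s, ∃ T : ℂ, IsIntegral ℤ T ∧ 1 - ζ = (1 - μ) * T := by
    intro μ hμ
    have hμ' : IsPrimitiveRoot μ p := (mem_primitiveRoots hp.pos).mp hμ
    obtain ⟨k, -, hk⟩ := hμ'.eq_pow_of_pow_eq_one hζ.pow_eq_one
    refine ⟨∑ i ∈ Finset.range k, μ ^ i, IsIntegral.sum _ fun i _ => (hμ'.isIntegral hp.pos).pow i, ?_⟩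
    rw [← hk]
    have := geom_sum_mul μ k
    linear_combination this
  choose! T hT1 hT2 using hfac
  have hprod : ∏ μ ∈ s, (1 - μ) = (p : ℂ) := by
    have h := congrArg (Polynomial.eval 1) (cyclotomic_eq_prod_X_sub_primitiveRoots hζ)
    rw [eval_one_cyclotomic_prime, eval_prod] at h
    simpa using h.symm
  have hpow : (1 - ζ) ^ s.card = (p : ℂ) * ∏ μ ∈ s, T μ := by
    rw [← hprod, ← Finset.prod_mul_distrib, ← Finset.prod_const]
    exact Finset.prod_congr rfl hT2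
  have hcard : s.card ≠ 0 := Finset.card_ne_zero.mpr ⟨ζ, (mem_primitiveRoots hp.pos).mpr hζ⟩
  have hint : IsIntegral ℤ ((((n ^ s.card : ℤ) : ℚ) / (p : ℚ) : ℚ) : ℂ) := by
    have e : ((((n ^ s.card : ℤ) : ℚ) / (p : ℚ) : ℚ) : ℂ) = (∏ μ ∈ s, T μ) * ω ^ s.card := by
      push_cast
      rw [h, mul_pow, hpow]
      have : (p : ℂ) ≠ 0 := Nat.cast_ne_zero.mpr hp.ne_zero
      field_simp
    rw [e]
    exact (IsIntegral.prod _ hT1).mul (hω.pow _)
  obtain ⟨m, hm⟩ := exists_int_of_isIntegral_rat hint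
  rw [div_eq_iff (Nat.cast_ne_zero.mpr hp.ne_zero)] at hm
  have hm' : n ^ s.card = m * (p : ℤ) := by exact_mod_cast hm
  exact Int.Prime.dvd_pow' hp ⟨m, by rw [hm', mul_comm]⟩

end Cfsg.Agent.S1495
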