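import Cfsg.Statements.S1499
import Cfsg.Agent.Lib.Char.DadeVirtual

set_option autoImplicit false
open Cfsg

namespace Cfsg.Agent.S1499

open CfsgLib.Char
open scoped CfsgLib.Char

/-- Under the Dade hypothesis for (A, L, H), let a, b ∈ A. If an element of the coset a·H(a) is conjugate in G to an element of b·H(b), then a and b are conjugate by an element of L. Moreover the set normaliser of the coset a·H(a) is the centraliser of a. -/
theorem result {G : Type*} [Group G] [Finite G] (A : Set G) (L : Subgroup G) (H : G → Subgroup G) (hD : Cfsg.DadeHypothesis A L H) (a b : G) (ha : a ∈ A) (hb : b ∈ A) : ((∃ u ∈ H a, ∃ v ∈ H b, ∃ g : G, g * (a * u) * g⁻¹ = b * v) → ∃ x ∈ L, x * a * x⁻¹ = b) ∧ Subgroup.normalizer ((fun u : G => a * u) '' (H a : Set G)) = Subgroup.centralizer ({a} : Set G) := by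
  classical
  refine ⟨?_, ?_⟩
  · rintro ⟨u, hu, v, hv, g, hg⟩
    exact (dade_fusion hD ha hb hu hv hg).2
  · ext g
    rw [Subgroup.mem_set_normalizer_iff]
    constructor
    · intro h
      obtain ⟨u, hu, hau⟩ := (h a).mp ⟨1, (H a).one_mem, mul_one a⟩
      have h1 := (dade_fusion hD ha ha (H a).one_mem hu (g := g) (by rw [mul_one]; exact hau.symm)).1
      rw [Subgroup.mem_centralizer_singleton_iff]
      exact mul_inv_eq_iff_eq_mul.mp h1
    · intro hg y
      have hga : g * a * g⁻¹ = a := by
        rw [Subgroup.mem_centralizer_singleton_iff.mp hg, mul_inv_cancel_right]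
      constructor
      · rintro ⟨u, hu, rfl⟩
        refine ⟨g * u * g⁻¹, hD.conj_mem_H a ha g hg u hu, ?_⟩
        show a * (g * u * g⁻¹) = g * (a * u) * g⁻¹
        conv_lhs => rw [← hga]
        group
      · rintro ⟨u, hu, hu'⟩
        have hu2 : a * u = g * y * g⁻¹ := hu'
        refine ⟨g⁻¹ * u * g, ?_, ?_⟩
        · have := hD.conj_mem_H a ha g⁻¹ (Subgroup.inv_mem _ hg) u hu
          rwa [inv_inv] at this
        · show a * (g⁻¹ * u * g) = y
          have : g⁻¹ * a * g = a := by
            conv_lhs => rw [← hga]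
            group
          calc a * (g⁻¹ * u * g) = g⁻¹ * a * g * (g⁻¹ * u * g) := by rw [this]
            _ = g⁻¹ * (a * u) * g := by group
            _ = y := by rw [hu2]; group

end Cfsg.Agent.S1499
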