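import Cfsg.Statements.S1504
import Cfsg.Agent.Lib.Char.CyclicTI

set_option autoImplicit false
open Cfsg

namespace Cfsg.Agent.S1504

open CfsgLib.Char
open scoped CfsgLib.Char

/-- Let W₁, W₂ be subgroups of a finite group with W₁ ⊓ W₂ = ⊥ whose elements commute, and W = W₁ ⊔ W₂. For linear characters φ, ψ of W with φ trivial on W₂ and ψ trivial on W₁, the function (1 − φ)(1 − ψ) vanishes on W₁ ∪ W₂; and the family of these functions, indexed by pairs (φ, ψ) with φ ≠ 1 ≠ ψ, is linearly independent over ℂ. -/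
theorem result {G : Type*} [Group G] [Finite G] (W₁ W₂ : Subgroup G) (hdisj : W₁ ⊓ W₂ = ⊥) (hcomm : ∀ a ∈ W₁, ∀ b ∈ W₂, a * b = b * a) : (∀ φ ψ : ↥(W₁ ⊔ W₂) →* ℂˣ, (∀ w : ↥(W₁ ⊔ W₂), (w : G) ∈ W₂ → φ w = 1) → (∀ w : ↥(W₁ ⊔ W₂), (w : G) ∈ W₁ → ψ w = 1) → ∀ w : ↥(W₁ ⊔ W₂), ((w : G) ∈ W₁ ∨ (w : G) ∈ W₂) → (1 - (φ w : ℂ) - (ψ w : ℂ) + (φ w : ℂ) * (ψ w : ℂ)) = 0) ∧ LinearIndependent ℂ (fun p : {p : (↥(W₁ ⊔ W₂) →* ℂˣ) × (↥(W₁ ⊔ W₂) →* ℂˣ) // p.1 ≠ 1 ∧ p.2 ≠ 1 ∧ (∀ w : ↥(W₁ ⊔ W₂), (w : G) ∈ W₂ → p.1 w = 1) ∧ (∀ w : ↥(W₁ ⊔ W₂), (w : G) ∈ W₁ → p.2 w = 1)} => fun w : ↥(W₁ ⊔ W₂) => 1 - (p.1.1 w : ℂ) - (p.1.2 w : ℂ) + (p.1.1 w : ℂ) * (p.1.2 w : ℂ)) := by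
  classical
  constructor
  · intro φ ψ hφ hψ w hw
    rcases hw with h | h
    · simp [hψ w h]
    · simp [hφ w h]
  · haveI := Fintype.ofFinite ↥(W₁ ⊔ W₂)
    haveI := Fintype.ofFinite {p : (↥(W₁ ⊔ W₂) →* ℂˣ) × (↥(W₁ ⊔ W₂) →* ℂˣ) // p.1 ≠ 1 ∧ p.2 ≠ 1 ∧ (∀ w : ↥(W₁ ⊔ W₂), (w : G) ∈ W₂ → p.1 w = 1) ∧ (∀ w : ↥(W₁ ⊔ W₂), (w : G) ∈ W₁ → p.2 w = 1)}
    rw [Fintype.linearIndependent_iff]
    intro c hc p
    have h0 := congrArg (fun f => classInner f (fun w => ((p.1.1 * p.1.2) w : ℂ))) hc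
    simp only [classInner_sum_left, classInner_smul_left, classInner_zero_left] at h0
    haveI := Fintype.ofFinite G
    obtain ⟨hp1, hp2, hpR, hpL⟩ := p.2
    have hone : (1 : ↥(W₁ ⊔ W₂) →* ℂˣ) ≠ p.1.1 * p.1.2 := fun e =>
      hp1 (CyclicTI.split_unique (φ := (1 : ↥(W₁ ⊔ W₂) →* ℂˣ)) (ψ := (1 : ↥(W₁ ⊔ W₂) →* ℂˣ))
        (fun _ _ => rfl) hpR (fun _ _ => rfl) hpL (by rw [CyclicTI.hom_one_mul]; exact e)).1.symm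
    have hval : ∀ q : {p : (↥(W₁ ⊔ W₂) →* ℂˣ) × (↥(W₁ ⊔ W₂) →* ℂˣ) // p.1 ≠ 1 ∧ p.2 ≠ 1 ∧ (∀ w : ↥(W₁ ⊔ W₂), (w : G) ∈ W₂ → p.1 w = 1) ∧ (∀ w : ↥(W₁ ⊔ W₂), (w : G) ∈ W₁ → p.2 w = 1)},
        classInner (CyclicTI.alpha q.1.1 q.1.2) (fun w => ((p.1.1 * p.1.2) w : ℂ)) =
          if q = p then 1 else 0 := by
      intro q
      obtain ⟨hq1, hq2, hqR, hqL⟩ := q.2
      have hA : q.1.1 ≠ p.1.1 * p.1.2 := fun e =>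
        hp2 (CyclicTI.split_unique (ψ := (1 : ↥(W₁ ⊔ W₂) →* ℂˣ)) hqR hpR (fun _ _ => rfl) hpL
          (by rw [CyclicTI.hom_mul_one]; exact e)).2.symm
      have hB : q.1.2 ≠ p.1.1 * p.1.2 := fun e =>
        hp1 (CyclicTI.split_unique (φ := (1 : ↥(W₁ ⊔ W₂) →* ℂˣ)) (fun _ _ => rfl) hpR hqL hpL
          (by rw [CyclicTI.hom_one_mul]; exact e)).1.symm
      rw [CyclicTI.classInner_alpha_hom, if_neg hone, if_neg hA, if_neg hB]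
      by_cases e : q = p
      · subst e; simp
      · rw [if_neg e, if_neg]
        · ring
        · intro h
          obtain ⟨e1, e2⟩ := CyclicTI.split_unique hqR hpR hqL hpL h
          exact e (Subtype.ext (Prod.ext e1 e2))
    change ∑ q, c q * classInner (CyclicTI.alpha q.1.1 q.1.2) _ = 0 at h0
    simp only [hval] at h0
    simpa using h0

end Cfsg.Agent.S1504
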