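import Cfsg.Statements.S1509
import Cfsg.Agent.Lib.Char.Gallagher

set_option autoImplicit false
open Cfsg

namespace Cfsg.Agent.S1509

open CfsgLib.Char
open scoped CfsgLib.Char

theorem core {X : Type*} [Group X] [Fintype X] (α β γ δ : X → ℂ) (hα : Cfsg.IsIrrCharacter X α ∨ Cfsg.IsIrrCharacter X (-α)) (hβ : Cfsg.IsIrrCharacter X β ∨ Cfsg.IsIrrCharacter X (-β)) (hγ : Cfsg.IsIrrCharacter X γ ∨ Cfsg.IsIrrCharacter X (-γ)) (hδ : Cfsg.IsIrrCharacter X δ ∨ Cfsg.IsIrrCharacter X (-δ)) (u v : ℝ) (hu : u ≠ 0) (hv : v ≠ 0) (hab : Cfsg.classInner α β = 0) (hcd : Cfsg.classInner γ δ = 0) (hmix : Cfsg.classInner (α - β) ((u : ℂ) • γ - (v : ℂ) • δ) = 0) (h1 : α 1 = β 1) (h2 : (u : ℂ) * γ 1 = (v : ℂ) * δ 1) : Cfsg.classInner α γ = 0 := by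
  classical
  have dich : ∀ φ ψ : X → ℂ, (Cfsg.IsIrrCharacter X φ ∨ Cfsg.IsIrrCharacter X (-φ)) → (Cfsg.IsIrrCharacter X ψ ∨ Cfsg.IsIrrCharacter X (-ψ)) → Cfsg.classInner φ ψ ≠ 0 → ∃ s : ℂ, (s = 1 ∨ s = -1) ∧ φ = s • ψ ∧ Cfsg.classInner φ ψ = s := by
    intro φ ψ hφ hψ hne
    rcases hφ with hφ | hφ <;> rcases hψ with hψ | hψ
    · by_cases e : φ = ψ
      · exact ⟨1, Or.inl rfl, by rw [e, one_smul], by rw [e, classInner_irr_self hψ]⟩
      · exact absurd (classInner_irr_ne hφ hψ e) hne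
    · by_cases e : φ = -ψ
      · refine ⟨-1, Or.inr rfl, by rw [e, neg_smul, one_smul], ?_⟩
        rw [← neg_neg ψ, classInner_neg_right, ← e, classInner_irr_self hφ]
      · exfalso; apply hne
        rw [← neg_neg ψ, classInner_neg_right, classInner_irr_ne hφ hψ e, neg_zero]
    · by_cases e : -φ = ψ
      · refine ⟨-1, Or.inr rfl, by rw [← e, smul_neg, neg_smul, one_smul, neg_neg], ?_⟩
        rw [← neg_neg φ, classInner_neg_left, e, classInner_irr_self hψ]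
      · exfalso; apply hne
        rw [← neg_neg φ, classInner_neg_left, classInner_irr_ne hφ hψ e, neg_zero]
    · by_cases e : -φ = -ψ
      · refine ⟨1, Or.inl rfl, by rw [one_smul, neg_inj.mp e], ?_⟩
        rw [← neg_neg φ, ← neg_neg ψ, classInner_neg_left, classInner_neg_right, neg_neg, e, classInner_irr_self hψ]
      · exfalso; apply hne
        rw [← neg_neg φ, ← neg_neg ψ, classInner_neg_left, classInner_neg_right, neg_neg, classInner_irr_ne hφ hψ e]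
  have hdeg : δ 1 ≠ 0 := by
    rcases hδ with h | h
    · exact irr_degree_ne_zero h
    · intro e; exact irr_degree_ne_zero h (by rw [Pi.neg_apply, e, neg_zero])
  by_contra hne
  obtain ⟨s, hs, hαγ, hsv⟩ := dich α γ hα hγ hne
  have hs0 : s ≠ 0 := by rcases hs with rfl | rfl <;> norm_num
  have hαd : Cfsg.classInner α δ = 0 := by rw [hαγ, classInner_smul_left, hcd, mul_zero]
  have hβc : Cfsg.classInner β γ = 0 := by
    have h : Cfsg.classInner β α = 0 := by rw [← classInner_conj_symm, hab, map_zero]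
    rw [hαγ, classInner_smul_right, mul_eq_zero] at h
    exact h.resolve_left (by simpa using hs0)
  rw [classInner_sub_left, classInner_sub_right, classInner_sub_right, classInner_smul_right, classInner_smul_right, classInner_smul_right, classInner_smul_right, Complex.conj_ofReal, Complex.conj_ofReal, hsv, hαd, hβc] at hmix
  by_cases hβd : Cfsg.classInner β δ = 0
  · rw [hβd] at hmix
    simp at hmix
    exact hmix.elim hu hs0
  obtain ⟨t, ht, hβδ, htv⟩ := dich β δ hβ hδ hβd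
  rw [htv] at hmix
  rw [hαγ, hβδ, Pi.smul_apply, Pi.smul_apply, smul_eq_mul, smul_eq_mul] at h1
  have key : (((u ^ 2 + v ^ 2 : ℝ)) : ℂ) * (s * δ 1) = 0 := by
    push_cast
    linear_combination (u : ℂ) * δ 1 * hmix + (u : ℂ) * (v : ℂ) * h1 - (v : ℂ) * s * h2
  rcases mul_eq_zero.mp key with h | h
  · have : u ^ 2 + v ^ 2 = 0 := by exact_mod_cast h
    nlinarith [sq_pos_of_ne_zero hu, sq_nonneg v]
  · exact mul_ne_zero hs0 hdeg h

/-- Let α, β, γ, δ be functions on a finite group X each of which is an irreducible character or the negative of one, and u, v nonzero real numbers. Suppose ⟨α, β⟩ = ⟨γ, δ⟩ = 0, ⟨α − β, uγ − vδ⟩ = 0, α 1 = β 1 and u γ 1 = v δ 1. Then also ⟨α, γ⟩ = ⟨α, δ⟩ = ⟨β, γ⟩ = ⟨β, δ⟩ = 0. -/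
theorem result {X : Type*} [Group X] [Fintype X] (α β γ δ : X → ℂ) (hα : Cfsg.IsIrrCharacter X α ∨ Cfsg.IsIrrCharacter X (-α)) (hβ : Cfsg.IsIrrCharacter X β ∨ Cfsg.IsIrrCharacter X (-β)) (hγ : Cfsg.IsIrrCharacter X γ ∨ Cfsg.IsIrrCharacter X (-γ)) (hδ : Cfsg.IsIrrCharacter X δ ∨ Cfsg.IsIrrCharacter X (-δ)) (u v : ℝ) (hu : u ≠ 0) (hv : v ≠ 0) (hab : Cfsg.classInner α β = 0) (hcd : Cfsg.classInner γ δ = 0) (hmix : Cfsg.classInner (α - β) ((u : ℂ) • γ - (v : ℂ) • δ) = 0) (h1 : α 1 = β 1) (h2 : (u : ℂ) * γ 1 = (v : ℂ) * δ 1) : Cfsg.classInner α γ = 0 ∧ Cfsg.classInner α δ = 0 ∧ Cfsg.classInner β γ = 0 ∧ Cfsg.classInner β δ = 0 := by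
  have hab' : Cfsg.classInner β α = 0 := by rw [← classInner_conj_symm, hab, map_zero]
  have hcd' : Cfsg.classInner δ γ = 0 := by rw [← classInner_conj_symm, hcd, map_zero]
  have m2 : Cfsg.classInner (α - β) ((v : ℂ) • δ - (u : ℂ) • γ) = 0 := by rw [← neg_sub ((u : ℂ) • γ), classInner_neg_right, hmix, neg_zero]
  have m3 : Cfsg.classInner (β - α) ((u : ℂ) • γ - (v : ℂ) • δ) = 0 := by rw [← neg_sub α, classInner_neg_left, hmix, neg_zero]
  have m4 : Cfsg.classInner (β - α) ((v : ℂ) • δ - (u : ℂ) • γ) = 0 := by rw [← neg_sub α, classInner_neg_left, m2, neg_zero]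
  exact ⟨core α β γ δ hα hβ hγ hδ u v hu hv hab hcd hmix h1 h2,
    core α β δ γ hα hβ hδ hγ v u hv hu hab hcd' m2 h1 h2.symm,
    core β α γ δ hβ hα hγ hδ u v hu hv hab' hcd m3 h1.symm h2,
    core β α δ γ hβ hα hδ hγ v u hv hu hab' hcd' m4 h1.symm h2.symm⟩

end Cfsg.Agent.S1509
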