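import Cfsg.Statements.S1513
import Cfsg.Agent.Lib.Char.AutClasses
import Cfsg.Agent.Lib.Char.AbelianQuotient
import Cfsg.Agent.Lib.Char.CyclicW
import Cfsg.Agent.Lib.Char.Twist

set_option autoImplicit false
open Cfsg

namespace Cfsg.Agent.S1513

open CfsgLib.Char
open scoped CfsgLib.Char

/-- Let L be a finite group with K normal with complement W₁ ≠ 1 a cyclic Hall subgroup, and W₂ ≠ 1 a cyclic subgroup of K equal to C_K(x) for every non-identity x ∈ W₁, with W₁W₂ of odd order. For an irreducible character θ of K: if θ is not fixed under conjugation by some element of W₁, then the function induced from θ to L is an irreducible character of L; and the irreducible characters of K fixed by all of W₁ are exactly Nat.card W₂ in number, each inducing to the sum of Nat.card W₁ pairwise distinct irreducible characters of L. -/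
theorem result {L : Type*} [Group L] [Fintype L] (K W₁ W₂ : Subgroup L) [hK : K.Normal] (hKW₁ : K ⊓ W₁ = ⊥) (hKW₁' : K ⊔ W₁ = ⊤) (hW₁ : W₁ ≠ ⊥) (hW₁c : IsCyclic W₁) (hHall : Nat.Coprime (Nat.card W₁) W₁.index) (hW₂ : W₂ ≠ ⊥) (hW₂c : IsCyclic W₂) (hW₂K : W₂ ≤ K) (hC : ∀ x ∈ W₁, x ≠ 1 → K ⊓ Subgroup.centralizer ({x} : Set L) = W₂) (hodd : Odd (Nat.card ↥(W₁ ⊔ W₂))) : (∀ θ : K → ℂ, Cfsg.IsIrrCharacter K θ → (∃ x ∈ W₁, (fun k : K => θ ⟨x * k * x⁻¹, hK.conj_mem (k : L) k.2 x⟩) ≠ θ) → Cfsg.IsIrrCharacter L (Cfsg.indFun K θ)) ∧ Nat.card {θ : Cfsg.IrrCharacter K // ∀ x ∈ W₁, (fun k : K => (θ : K → ℂ) ⟨x * k * x⁻¹, hK.conj_mem (k : L) k.2 x⟩) = θ} = Nat.card W₂ ∧ (∀ θ : K → ℂ, Cfsg.IsIrrCharacter K θ → (∀ x ∈ W₁, (fun k : K => θ ⟨x * k * x⁻¹, hK.conj_mem (k : L) k.2 x⟩) = θ) → ∃ C : Finset (L → ℂ), C.card = Nat.card W₁ ∧ (∀ μ ∈ C, Cfsg.IsIrrCharacter L μ) ∧ Cfsg.indFun K θ = ∑ μ ∈ C, μ) := by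
  classical
  haveI := hW₁c
  haveI := hW₂c
  have hidx : W₁.index = Nat.card K :=
    (Subgroup.isComplement'_of_disjoint_and_mul_eq_univ (disjoint_iff.mpr hKW₁) (by
      rw [← Subgroup.normal_mul, hKW₁', Subgroup.coe_top])).index_eq_card
  have hKindex : K.index = Nat.card W₁ :=
    (Subgroup.isComplement'_of_disjoint_and_mul_eq_univ (disjoint_iff.mpr hKW₁) (by
      rw [← Subgroup.normal_mul, hKW₁', Subgroup.coe_top])).symm.index_eq_card
  have hab₂ : ∀ a ∈ W₂, ∀ b ∈ W₂, a * b = b * a := fun a ha b hb =>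
    congrArg Subtype.val ((IsCyclic.commGroup (α := W₂)).mul_comm ⟨a, ha⟩ ⟨b, hb⟩)
  have hcount : ∀ y ∈ W₁, y ≠ 1 → Nat.card {θ : IrrCharacter K // conjBy K (θ : K → ℂ) y = θ} = Nat.card W₂ := by
    intro y hy hy1
    have hcop : (orderOf y).Coprime (Nat.card K) :=
      Nat.Coprime.coprime_dvd_left (Subgroup.orderOf_dvd_natCard _ hy) (hidx ▸ hHall)
    rw [← card_fixed_classes K hcop W₂ (fun d => by
      rw [← hC y hy hy1, Subgroup.mem_inf, Subgroup.mem_centralizer_singleton_iff]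
      exact and_congr_right fun _ => eq_comm) hab₂, ← card_fixed_irr_eq_classes]
    exact Nat.card_congr (Equiv.subtypeEquivRight fun θ => by rw [conjBy_eq_comp])
  have hall : ∀ y ∈ W₁, y ≠ 1 → ∀ θ : IrrCharacter K, conjBy K (θ : K → ℂ) y = θ →
      ∀ x ∈ W₁, conjBy K (θ : K → ℂ) x = θ := by
    intro y hy hy1 θ hθ x hx
    obtain ⟨g, hg⟩ := IsCyclic.exists_generator (α := W₁)
    have hgen : ∀ θ : IrrCharacter K, conjBy K (θ : K → ℂ) g = θ → ∀ x ∈ W₁, conjBy K (θ : K → ℂ) x = θ := by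
      intro θ h x hx
      obtain ⟨i, hi⟩ := Subgroup.mem_zpowers_iff.mp (hg ⟨x, hx⟩)
      have := Subgroup.zpow_mem (inertia K (θ : K → ℂ)) ((mem_inertia K).mpr h) i
      rw [show ((g : L) ^ i) = x from congrArg Subtype.val hi] at this
      exact (mem_inertia K).mp this
    have hg1 : (g : L) ≠ 1 := by
      intro e
      have hg' : g = 1 := Subtype.ext e
      obtain ⟨i, hi⟩ := Subgroup.mem_zpowers_iff.mp (hg ⟨y, hy⟩)
      rw [hg', one_zpow] at hi
      exact hy1 (congrArg Subtype.val hi).symm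
    have hinj : Function.Injective (fun p : {θ : IrrCharacter K // conjBy K (θ : K → ℂ) g = θ} =>
        (⟨p.1, hgen p.1 p.2 y hy⟩ : {θ : IrrCharacter K // conjBy K (θ : K → ℂ) y = θ})) := fun a b h =>
      Subtype.ext (congrArg (fun q : {θ : IrrCharacter K // conjBy K (θ : K → ℂ) y = θ} => q.1) h)
    haveI := Fintype.ofFinite {θ : IrrCharacter K // conjBy K (θ : K → ℂ) g = θ}
    haveI := Fintype.ofFinite {θ : IrrCharacter K // conjBy K (θ : K → ℂ) y = θ}
    have hsurj := ((Fintype.bijective_iff_injective_and_card _).mpr ⟨hinj, by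
      rw [← Nat.card_eq_fintype_card, ← Nat.card_eq_fintype_card, hcount g g.2 hg1, hcount y hy hy1]⟩).2
    obtain ⟨p, hp⟩ := hsurj ⟨θ, hθ⟩
    have : p.1 = θ := congrArg Subtype.val hp
    exact hgen θ (this ▸ p.2) x hx
  have hab : ∀ x y : L, x * y * x⁻¹ * y⁻¹ ∈ K := by
    intro x y
    obtain ⟨k, hk, w, hw, rfl⟩ := Subgroup.mem_sup_of_normal_left.mp (show x ∈ K ⊔ W₁ by rw [hKW₁']; trivial)
    obtain ⟨k', hk', w', hw', rfl⟩ := Subgroup.mem_sup_of_normal_left.mp (show y ∈ K ⊔ W₁ by rw [hKW₁']; trivial)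
    rw [← QuotientGroup.eq_one_iff]
    have hww : w * w' = w' * w := congrArg Subtype.val ((IsCyclic.commGroup (α := W₁)).mul_comm ⟨w, hw⟩ ⟨w', hw'⟩)
    have h2 : ((w : L) : L ⧸ K) * (w' : L ⧸ K) = (w' : L ⧸ K) * (w : L ⧸ K) := by
      rw [← QuotientGroup.mk_mul, ← QuotientGroup.mk_mul, hww]
    simp only [QuotientGroup.mk_mul, QuotientGroup.mk_inv, (QuotientGroup.eq_one_iff k).mpr hk,
      (QuotientGroup.eq_one_iff k').mpr hk', one_mul, h2]
    group
  refine ⟨fun θ hθ ⟨x, hx, hxθ⟩ => ?_, ?_, fun θ hθ hinv => ?_⟩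
  · refine isIrr_of_norm_one (isCharacter_indFun K (isCharacter_of_isIrr hθ)) ?_
    have hT : inertia K θ = K := by
      refine le_antisymm (fun g hg => ?_) (le_inertia K (isClassFunction_of_isCharacter (isCharacter_of_isIrr hθ)))
      obtain ⟨k, hk, w, hw, rfl⟩ := Subgroup.mem_sup_of_normal_left.mp (show g ∈ K ⊔ W₁ by rw [hKW₁']; trivial)
      have hw' : w ∈ inertia K θ := by
        have := Subgroup.mul_mem _ (Subgroup.inv_mem _ (le_inertia K (isClassFunction_of_isCharacter (isCharacter_of_isIrr hθ)) hk)) hg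
        rwa [inv_mul_cancel_left] at this
      by_cases hw1 : w = 1
      · rw [hw1, mul_one]; exact hk
      exact absurd (hall w hw hw1 ⟨θ, hθ⟩ ((mem_inertia K).mp hw') x hx) hxθ
    rw [classInner_indFun_indFun K hθ hθ, if_pos (self_mem_orbit K θ), hT,
      div_self (Nat.cast_ne_zero.mpr Nat.card_pos.ne')]
  · obtain ⟨⟨y, hy⟩, hy1⟩ := Subgroup.ne_bot_iff_exists_ne_one.mp hW₁
    have hy1' : y ≠ 1 := fun e => hy1 (Subtype.ext e)
    rw [← hcount y hy hy1']
    exact Nat.card_congr (Equiv.subtypeEquivRight fun θ => ⟨fun h => h y hy, fun h => hall y hy hy1' θ h⟩)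
  · have hinv' : ∀ g, conjBy K θ g = θ := by
      intro g
      obtain ⟨k, hk, w, hw, rfl⟩ := Subgroup.mem_sup_of_normal_left.mp (show g ∈ K ⊔ W₁ by rw [hKW₁']; trivial)
      exact (mem_inertia K).mp (Subgroup.mul_mem _ (le_inertia K (isClassFunction_of_isCharacter (isCharacter_of_isIrr hθ)) hk)
        ((mem_inertia K).mpr (hinv w hw)))
    have hcyc : IsCyclic (L ⧸ K) := by
      refine isCyclic_of_surjective ((QuotientGroup.mk' K).comp W₁.subtype) fun q => ?_
      obtain ⟨g, rfl⟩ := QuotientGroup.mk'_surjective K q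
      obtain ⟨k, hk, w, hw, rfl⟩ := Subgroup.mem_sup_of_normal_left.mp (show g ∈ K ⊔ W₁ by rw [hKW₁']; trivial)
      exact ⟨⟨w, hw⟩, by simp [(QuotientGroup.eq_one_iff k).mpr hk]⟩
    obtain ⟨χ, hχ, hres⟩ := extends_of_cyclic K hθ hinv' hcyc
    have hone : classInner (fun n : K => χ n) θ = 1 := by
      rw [funext hres, classInner_irr_self hθ]
    obtain ⟨e, C, -, he, hCirr, hcard, hind, -⟩ := invariant_decomposition K hab hθ hinv' hχ
      (by rw [hone]; exact one_ne_zero)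
    have he1 : e = 1 := by rw [hone] at he; exact_mod_cast he.symm
    subst he1
    refine ⟨C, by rw [← hKindex, ← hcard]; ring, hCirr, by rw [hind, Nat.cast_one, one_smul]⟩

end Cfsg.Agent.S1513
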