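import Cfsg.Statements.S1514
import Cfsg.Agent.Lib.Char.FrobeniusGroup
import Cfsg.Agent.Lib.Char.Virtual
import Cfsg.Agent.Lib.Char.Central
import Cfsg.Agent.Lib.Char.Eigen
import Cfsg.Agent.Lib.Coprime.SchurZassenhaus

set_option autoImplicit false
open Cfsg

namespace Cfsg.Agent.S1514

open CfsgLib.Char
open scoped CfsgLib.Char

/-- Let S be a nonempty set of irreducible characters of the finite group L, closed under complex conjugation and containing no real-valued member, and τ a linear isometry on the integer combinations of S vanishing at 1, with values virtual characters of G vanishing at 1. Then there is a choice R making (S, τ, R) a coherence system. -/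
theorem result {L : Type*} [Group L] [Fintype L] {G : Type*} [Group G] [Fintype G] (S : Set (L → ℂ)) (hS : S.Nonempty) (hirr : ∀ χ ∈ S, Cfsg.IsIrrCharacter L χ) (hconj : ∀ χ ∈ S, Cfsg.conjFun χ ∈ S ∧ Cfsg.conjFun χ ≠ χ) (τ : (L → ℂ) → (G → ℂ)) (hτ : Cfsg.IsLinearIsometryOn (Cfsg.zspanOn S {1}ᶜ) τ) (hτ1 : ∀ α ∈ Cfsg.zspanOn S {1}ᶜ, τ α 1 = 0) : ∃ R : (L → ℂ) → Finset (G → ℂ), Cfsg.IsCoherenceSystem S τ R := by
  classical
  obtain ⟨hadd, hsmul, hiso, hgen⟩ := hτ
  have hz : ∀ χ ∈ S, χ - Cfsg.conjFun χ ∈ Cfsg.zspanOn S {1}ᶜ := by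
    intro χ hχ
    refine ⟨Submodule.sub_mem _ (Submodule.subset_span hχ) (Submodule.subset_span (hconj χ hχ).1), fun x hx => ?_⟩
    simp only [Set.mem_compl_iff, Set.mem_singleton_iff, not_not] at hx
    subst hx
    obtain ⟨d, -, hd⟩ := exists_nat_degree_irr (hirr χ hχ)
    simp [Cfsg.conjFun, hd]
  have horth : ∀ χ ∈ S, ∀ φ ∈ S, χ ≠ φ → Cfsg.classInner χ φ = 0 := fun χ hχ φ hφ h =>
    classInner_irr_ne (hirr χ hχ) (hirr φ hφ) h
  have hnorm : ∀ χ : L → ℂ, ∃ μ ν : G → ℂ, χ ∈ S → Cfsg.IsIrrCharacter G μ ∧ Cfsg.IsIrrCharacter G ν ∧ μ ≠ ν ∧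
      τ (χ - Cfsg.conjFun χ) = μ - ν := by
    intro χ
    by_cases hχ : χ ∈ S
    · obtain ⟨hc, hne⟩ := hconj χ hχ
      have h2 : Cfsg.classInner (τ (χ - Cfsg.conjFun χ)) (τ (χ - Cfsg.conjFun χ)) = 2 := by
        rw [hiso _ (hz χ hχ) _ (hz χ hχ), classInner_sub_left, classInner_sub_right, classInner_sub_right,
          classInner_irr_self (hirr χ hχ), classInner_irr_self (hirr _ hc),
          horth χ hχ _ hc (Ne.symm hne), horth _ hc χ hχ hne]
        norm_num
      obtain ⟨μ, ν, h⟩ := exists_of_norm_two (hgen _ (hz χ hχ)) h2 (hτ1 _ (hz χ hχ))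
      exact ⟨μ, ν, fun _ => h⟩
    · exact ⟨0, 0, fun h => absurd h hχ⟩
  choose μ ν hμν using hnorm
  refine ⟨fun χ => {μ χ, -ν χ}, ?_⟩
  have hne' : ∀ χ ∈ S, μ χ ≠ -ν χ := by
    intro χ hχ h
    obtain ⟨h1, h2, -⟩ := hμν χ hχ
    obtain ⟨a, ha0, ha⟩ := exists_nat_degree_irr h1
    obtain ⟨b, hb0, hb⟩ := exists_nat_degree_irr h2
    have h3 := congrFun h 1
    rw [Pi.neg_apply, ha, hb, eq_neg_iff_add_eq_zero] at h3
    have : a + b = 0 := by exact_mod_cast h3
    omega
  refine ⟨hS, fun χ hχ => isCharacter_of_isIrr (hirr χ hχ), fun χ hχ => (hconj χ hχ).1,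
    fun χ hχ => (hconj χ hχ).2, ⟨hadd, hsmul, hiso, hgen⟩, hτ1, horth, ?_, ?_, ?_, ?_⟩
  · intro χ hχ α hα β hβ
    obtain ⟨h1, h2, hd, -⟩ := hμν χ hχ
    simp only [Finset.mem_insert, Finset.mem_singleton] at hα hβ
    have i1 := classInner_irr_self h1
    have i2 := classInner_irr_self h2
    have i3 := classInner_irr_ne h1 h2 hd
    have i4 := classInner_irr_ne h2 h1 (Ne.symm hd)
    rcases hα with rfl | rfl <;> rcases hβ with rfl | rfl
    · rw [if_pos rfl, i1]
    · rw [if_neg (hne' χ hχ), classInner_neg_right, i3, neg_zero]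
    · rw [if_neg (Ne.symm (hne' χ hχ)), classInner_neg_left, i4, neg_zero]
    · rw [if_pos rfl, classInner_neg_left, classInner_neg_right, i2, neg_neg]
  · intro χ hχ α hα
    obtain ⟨h1, h2, -, -⟩ := hμν χ hχ
    simp only [Finset.mem_insert, Finset.mem_singleton] at hα
    rcases hα with rfl | rfl
    · exact isGeneralized_of_isIrr h1
    · exact isGeneralized_neg (isGeneralized_of_isIrr h2)
  · intro χ hχ
    obtain ⟨-, -, -, h⟩ := hμν χ hχ
    rw [h, Finset.sum_insert (by simpa using hne' χ hχ), Finset.sum_singleton, sub_eq_add_neg]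
  · intro χ hχ φ hφ h1 h2 α hα β hβ
    obtain ⟨hc, -⟩ := hconj χ hχ
    obtain ⟨hd, -⟩ := hconj φ hφ
    have n1 : φ ≠ χ := fun e => by rw [e, classInner_irr_self (hirr χ hχ)] at h1; exact one_ne_zero h1
    have n2 : φ ≠ Cfsg.conjFun χ := fun e => by rw [e, classInner_irr_self (hirr _ hc)] at h2; exact one_ne_zero h2
    have hcc : ∀ f : L → ℂ, Cfsg.conjFun (Cfsg.conjFun f) = f := fun f => funext fun x => Complex.conj_conj _
    have h0 : Cfsg.classInner (τ (φ - Cfsg.conjFun φ)) (τ (χ - Cfsg.conjFun χ)) = 0 := by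
      rw [hiso _ (hz φ hφ) _ (hz χ hχ), classInner_sub_left, classInner_sub_right, classInner_sub_right,
        horth φ hφ χ hχ n1, horth φ hφ _ hc n2,
        horth _ hd χ hχ (fun e => n2 (by rw [← e, hcc])),
        horth _ hd _ hc (fun e => n1 (by rw [← hcc φ, e, hcc]))]
      ring
    obtain ⟨a1, a2, a3, a4⟩ := hμν φ hφ
    obtain ⟨b1, b2, b3, b4⟩ := hμν χ hχ
    rw [a4, b4, classInner_sub_left, classInner_sub_right, classInner_sub_right, classInner_irr a1 b1,
      classInner_irr a1 b2, classInner_irr a2 b1, classInner_irr a2 b2] at h0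
    simp only [Finset.mem_insert, Finset.mem_singleton] at hα hβ
    have key : μ φ ≠ μ χ ∧ μ φ ≠ ν χ ∧ ν φ ≠ μ χ ∧ ν φ ≠ ν χ := by
      by_cases e1 : μ φ = μ χ <;> by_cases e2 : μ φ = ν χ <;> by_cases e3 : ν φ = μ χ <;>
        by_cases e4 : ν φ = ν χ <;> simp [e1, e2, e3, e4, b3, Ne.symm b3] at h0 ⊢ <;>
        first
        | exact absurd (e1.symm.trans e2) b3
        | exact absurd (e3.symm.trans e4) b3
        | exact absurd (e1.trans e3.symm) a3
        | exact absurd (e2.trans e4.symm) a3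
        | (norm_num at h0)
    obtain ⟨k1, k2, k3, k4⟩ := key
    rcases hα with rfl | rfl <;> rcases hβ with rfl | rfl <;>
      simp [classInner_neg_left, classInner_neg_right, classInner_irr_ne a1 b1 k1,
        classInner_irr_ne a1 b2 k2, classInner_irr_ne a2 b1 k3, classInner_irr_ne a2 b2 k4]

end Cfsg.Agent.S1514
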