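import Cfsg.Statements.S1524
import Cfsg.Agent.Lib.Char.SibleyTI

set_option autoImplicit false
open Cfsg

namespace Cfsg.Agent.S1524

/-- Let G be a finite group and H ≤ L subgroups with L of odd order, H ≠ ⊥ nilpotent and normal in L with a nontrivial complement W₁ in L (H ⊓ W₁ = ⊥, H ⊔ W₁ = L) acting on H without non-identity fixed points (L is a Frobenius group with kernel H), and suppose the underlying set of H is a TI-subset of G whose normaliser is L. Let S be the set of functions on L induced from the non-principal irreducible characters of H. Then (S, L minus 1, induction to G) is coherent. -/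
theorem result {G : Type*} [Group G] [Fintype G] (H L W₁ : Subgroup G) [Fintype L] (hodd : Odd (Nat.card L)) (hHL : H ≤ L) (hW₁L : W₁ ≤ L) (hH1 : H ≠ ⊥) (hW1 : W₁ ≠ ⊥) (hnil : Group.IsNilpotent H) (hHn : ∀ x ∈ L, ∀ h ∈ H, x * h * x⁻¹ ∈ H) (hinf : H ⊓ W₁ = ⊥) (hsup : H ⊔ W₁ = L) (hfpf : ∀ w ∈ W₁, w ≠ 1 → ∀ h ∈ H, w * h = h * w → h = 1) (hTI : Cfsg.IsTISubset (H : Set G)) (hN : Subgroup.normalizer (H : Set G) = L) : Cfsg.IsCoherent (Cfsg.inducedIrrAbove (H.subgroupOf L) ⊥) {1}ᶜ (fun α : L → ℂ => Cfsg.indFun L α) := by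
  set K := H.subgroupOf L with hKdef
  haveI : K.Normal := ⟨fun n hn g => hHn g g.2 n hn⟩
  have hmap : K.map L.subtype = H := Subgroup.map_subgroupOf_eq_of_le hHL
  have hsup' : K ⊔ W₁.subgroupOf L = ⊤ := by
    rw [← Subgroup.subgroupOf_sup hHL hW₁L, hsup, Subgroup.subgroupOf_self]
  have hfpf' : ∀ h ∈ W₁.subgroupOf L, h ≠ 1 → ∀ k ∈ K, h * k = k * h → k = 1 := fun h hh h1 k hk e =>
    Subtype.ext (hfpf h hh (fun e' => h1 (Subtype.ext e')) k hk (congrArg Subtype.val e))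
  have hC : ∀ k ∈ K, k ≠ 1 → ∀ x : L, x * k = k * x → x ∈ K := fun k hk hk1 x hx =>
    CfsgLib.Char.mem_kernel_of_commute K (W₁.subgroupOf L) hsup' hfpf' hk hk1 hx
  have hKbot : K ≠ ⊥ := fun e => hH1 (by rw [← hmap, e, Subgroup.map_bot])
  have hKtop : K < ⊤ := by
    refine lt_of_le_of_ne le_top fun e => hW1 (le_bot_iff.mp ?_)
    rw [← hinf]
    refine le_inf (fun w hw => ?_) le_rfl
    exact (show (⟨w, hW₁L hw⟩ : L) ∈ K by rw [e]; exact Subgroup.mem_top _)
  have hTI' : ∀ g : G, g ∉ L → ∀ t ∈ ((↑) : L → G) '' (K : Set L),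
      g * t * g⁻¹ ∈ ((↑) : L → G) '' (K : Set L) → t = 1 := by
    rintro g hg t ⟨a, ha, rfl⟩ ⟨b, hb, hb'⟩
    exact hTI g (by rw [hN]; exact hg) a ha (hb' ▸ hb)
  haveI := hnil
  exact CfsgLib.Char.SibleyTI.coherent L K hC hTI' hodd
    (Group.nilpotent_of_surjective (Subgroup.subgroupOfEquivOfLe hHL).symm.toMonoidHom (Subgroup.subgroupOfEquivOfLe hHL).symm.surjective) hKbot hKtop
    (hmap.symm ▸ hTI) (hmap.symm ▸ hN)

end Cfsg.Agent.S1524
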