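import Cfsg.Statements.S1527
import Cfsg.Agent.Lib.Char.Counting
import Mathlib.Algebra.Order.Ring.GeomSum
import Mathlib.Data.Nat.Factorization.Induction
import Mathlib.FieldTheory.Finite.Basic
import Mathlib.RingTheory.ZMod
import Mathlib.Data.ZMod.Basic

set_option autoImplicit false
open Cfsg

namespace Cfsg.Agent.S1527

open CfsgLib.Char
open scoped CfsgLib.Char

/-- Let G be a finite group and H i (i in a finite index type) subgroups of pairwise coprime orders, each of whose underlying sets is a TI-subset of G, such that every non-identity element of G is conjugate to an element of some H i. Then Nat.card G − 1 = Σ_i [G : N_G(H i)] · (Nat.card (H i) − 1). -/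
theorem result {G : Type*} [Group G] [Finite G] {ι : Type*} [Fintype ι] (H : ι → Subgroup G) (hcop : ∀ i j, i ≠ j → Nat.Coprime (Nat.card (H i)) (Nat.card (H j))) (hTI : ∀ i, Cfsg.IsTISubset (H i : Set G)) (hcover : ∀ g : G, g ≠ 1 → ∃ i, ∃ x : G, x * g * x⁻¹ ∈ H i) : Nat.card G - 1 = ∑ i, (Subgroup.normalizer (H i : Set G)).index * (Nat.card (H i) - 1) := by
  classical
  have : Fintype G := Fintype.ofFinite G
  let X := Σ i : ι, (G ⧸ Subgroup.normalizer (H i : Set G)) × {h : H i // h ≠ 1}
  let f : X → {g : G // g ≠ 1} := fun x =>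
    ⟨Quotient.out x.2.1 * (x.2.2.1 : G) * (Quotient.out x.2.1)⁻¹, fun e =>
      x.2.2.2 (Subtype.ext (conj_eq_one_iff.mp e))⟩
  have hbij : Function.Bijective f := by
    constructor
    · rintro ⟨i, q, h⟩ ⟨j, r, k⟩ he
      have he' : Quotient.out q * (h.1 : G) * (Quotient.out q)⁻¹ = Quotient.out r * (k.1 : G) * (Quotient.out r)⁻¹ :=
        congrArg Subtype.val he
      set a := Quotient.out q with ha
      set b := Quotient.out r with hb
      have hconj : b⁻¹ * a * (h.1 : G) * (b⁻¹ * a)⁻¹ = (k.1 : G) := by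
        calc b⁻¹ * a * (h.1 : G) * (b⁻¹ * a)⁻¹ = b⁻¹ * (a * (h.1 : G) * a⁻¹) * b := by group
          _ = _ := by rw [he']; group
      have hij : i = j := by
        by_contra hne
        have h1 : orderOf (k.1 : G) = orderOf (h.1 : G) := by
          rw [← hconj, ← MulAut.conj_apply, MulEquiv.orderOf_eq]
        have h2 := (H i).orderOf_dvd_natCard h.1.2
        have h3 := (H j).orderOf_dvd_natCard k.1.2
        rw [h1] at h3
        exact h.2 (Subtype.ext (orderOf_eq_one_iff.mp (Nat.eq_one_of_dvd_coprimes (hcop i j hne) h2 h3)))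
      subst hij
      have hn : b⁻¹ * a ∈ Subgroup.normalizer (H i : Set G) := by
        by_contra hn
        exact h.2 (Subtype.ext (hTI i _ hn _ h.1.2 (by rw [hconj]; exact k.1.2)))
      have hqr : r = q := by
        rw [← Quotient.out_eq q, ← Quotient.out_eq r]
        exact QuotientGroup.eq.mpr hn
      subst hqr
      have : (h.1 : G) = (k.1 : G) := by
        rw [hb, ha] at hconj
        simpa using hconj
      have e2 : h = k := Subtype.ext (Subtype.ext this)
      rw [e2]
    · rintro ⟨g, hg⟩
      obtain ⟨i, x, hx⟩ := hcover g hg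
      have hout : (Quotient.out (QuotientGroup.mk x⁻¹ : G ⧸ Subgroup.normalizer (H i : Set G)))⁻¹ * x⁻¹ ∈
          Subgroup.normalizer (H i : Set G) :=
        QuotientGroup.eq.mp (Quotient.out_eq _)
      set a := Quotient.out (QuotientGroup.mk x⁻¹ : G ⧸ Subgroup.normalizer (H i : Set G)) with ha
      have hmem : a⁻¹ * g * a ∈ H i := by
        have := (Subgroup.mem_normalizer_iff.mp hout (x * g * x⁻¹)).mp hx
        rwa [show a⁻¹ * x⁻¹ * (x * g * x⁻¹) * (a⁻¹ * x⁻¹)⁻¹ = a⁻¹ * g * a by group] at this
      refine ⟨⟨i, (QuotientGroup.mk x⁻¹, ⟨⟨_, hmem⟩, fun e => hg ?_⟩)⟩, Subtype.ext ?_⟩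
      · have e' : a⁻¹ * g * a = 1 := congrArg Subtype.val e
        calc g = a * (a⁻¹ * g * a) * a⁻¹ := by group
          _ = 1 := by rw [e']; group
      · show a * (a⁻¹ * g * a) * a⁻¹ = g
        group
  have hc := Nat.card_congr (Equiv.ofBijective f hbij)
  have hne : ∀ (K : Type u_1) [Finite K] [One K], Nat.card {k : K // k ≠ 1} = Nat.card K - 1 := by
    intro K _ _
    have := Fintype.ofFinite K
    rw [Nat.card_eq_fintype_card, Nat.card_eq_fintype_card, Fintype.card_subtype_compl]
    simp
  simp only [Nat.card_sigma, Nat.card_prod, hne, X] at hc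
  rw [← hc]
  rfl

end Cfsg.Agent.S1527
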