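import Cfsg.Statements.S1528
import Cfsg.Agent.Lib.Char.FrobeniusGroup
import Cfsg.Agent.Lib.Char.Virtual
import Cfsg.Agent.Lib.Char.Central
import Cfsg.Agent.Lib.Char.Eigen
import Cfsg.Agent.Lib.Coprime.SchurZassenhaus

set_option autoImplicit false
open Cfsg

namespace Cfsg.Agent.S1528

open CfsgLib.Char
open scoped CfsgLib.Char

/-- Let N be a normal subgroup of the finite group G such that every element of G commuting with a non-identity element of N lies in N. If χ is an irreducible character of G with χ n ≠ χ 1 for some n ∈ N, then χ is the function induced from some irreducible character of N. -/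
theorem result {G : Type*} [Group G] [Fintype G] (N : Subgroup G) [N.Normal] (hC : ∀ n ∈ N, n ≠ 1 → Subgroup.centralizer ({n} : Set G) ≤ N) (χ : G → ℂ) (hχ : Cfsg.IsIrrCharacter G χ) (hker : ∃ n ∈ N, χ n ≠ χ 1) : ∃ φ : N → ℂ, Cfsg.IsIrrCharacter N φ ∧ χ = Cfsg.indFun N φ := by
  classical
  have hC' : ∀ k ∈ N, k ≠ 1 → ∀ x : G, x * k = k * x → x ∈ N := fun k hk hk1 x hx =>
    hC k hk hk1 (Subgroup.mem_centralizer_singleton_iff.mpr hx)
  have hχc := isCharacter_of_isIrr hχ
  obtain ⟨θ, hθ⟩ := exists_constituent N hχc (irr_degree_ne_zero hχ)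
  have hθ1 : (θ : N → ℂ) ≠ fun _ => 1 := by
    intro h1
    obtain ⟨n, hn, hne⟩ := hker
    have hi : ∀ g, conjBy N (θ : N → ℂ) g = (θ : N → ℂ) := fun g => by
      funext m; rw [conjBy_apply, h1]
    have hcl := clifford_invariant N hχ θ.2 hi hθ
    have e1 := congrFun hcl ⟨n, hn⟩
    have e2 := congrFun hcl 1
    simp only [Pi.smul_apply, h1] at e1 e2
    exact hne (e1.trans e2.symm)
  refine ⟨θ, θ.2, ?_⟩
  have hirr := irreducible_induced_of_centralizer N hC' θ.2 hθ1
  by_contra hne
  apply hθ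
  rw [← frobenius_reciprocity' N (θ : N → ℂ) (isClassFunction_of_isCharacter hχc)]
  exact classInner_irr_ne hχ hirr hne

end Cfsg.Agent.S1528
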