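import Cfsg.Statements.S1529
import Cfsg.Agent.Lib.Char.FrobeniusGroup
import Cfsg.Agent.Lib.Char.Virtual
import Cfsg.Agent.Lib.Char.Central
import Cfsg.Agent.Lib.Char.Eigen
import Cfsg.Agent.Lib.Coprime.SchurZassenhaus

set_option autoImplicit false
open Cfsg

namespace Cfsg.Agent.S1529

open CfsgLib.Char
open scoped CfsgLib.Char

/-- Let N be a subgroup of the finite group G, S a set of irreducible characters of N with at least two members, and τ₁ a linear isometry on the integer combinations of S with virtual-character values such that τ₁ α vanishes at 1 whenever α ∈ ℤ[S] does. Then there is ε ∈ {1, −1} such that ε • τ₁ χ is an irreducible character of G for every χ ∈ S, and distinct members of S give distinct characters. -/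
theorem result {G : Type*} [Group G] [Fintype G] (N : Subgroup G) [Fintype N] (S : Set (N → ℂ)) (hirr : ∀ χ ∈ S, Cfsg.IsIrrCharacter N χ) (htwo : ∃ χ ∈ S, ∃ ψ ∈ S, χ ≠ ψ) (τ₁ : (N → ℂ) → (G → ℂ)) (hτ₁ : Cfsg.IsLinearIsometryOn (Cfsg.zspan S) τ₁) (h0 : ∀ α ∈ Cfsg.zspan S, α 1 = 0 → τ₁ α 1 = 0) : ∃ ε : ℂ, (ε = 1 ∨ ε = -1) ∧ (∀ χ ∈ S, Cfsg.IsIrrCharacter G (ε • τ₁ χ)) ∧ (∀ χ ∈ S, ∀ ψ ∈ S, τ₁ χ = τ₁ ψ → χ = ψ) := by
  classical
  obtain ⟨hadd, hsmul, hiso, hgen⟩ := hτ₁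
  have hmem : ∀ χ ∈ S, χ ∈ Cfsg.zspan S := fun χ hχ => Submodule.subset_span hχ
  have hone : ∀ χ ∈ S, ∃ ε : ℂ, (ε = 1 ∨ ε = -1) ∧ ∃ μ : Cfsg.IrrCharacter G, τ₁ χ = ε • (μ : G → ℂ) :=
    fun χ hχ => exists_of_norm_one (hgen χ (hmem χ hχ)) (by
      rw [hiso χ (hmem χ hχ) χ (hmem χ hχ), classInner_irr_self (hirr χ hχ)])
  have horth : ∀ χ ∈ S, ∀ ψ ∈ S, χ ≠ ψ → Cfsg.classInner (τ₁ χ) (τ₁ ψ) = 0 := fun χ hχ ψ hψ hne => by
    rw [hiso χ (hmem χ hχ) ψ (hmem ψ hψ), classInner_irr_ne (hirr χ hχ) (hirr ψ hψ) hne]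
  have hsame : ∀ χ ∈ S, ∀ ψ ∈ S, ∀ (ε ε' : ℂ) (μ ν : Cfsg.IrrCharacter G), (ε = 1 ∨ ε = -1) → (ε' = 1 ∨ ε' = -1) →
      τ₁ χ = ε • (μ : G → ℂ) → τ₁ ψ = ε' • (ν : G → ℂ) → ε = ε' := by
    intro χ hχ ψ hψ ε ε' μ ν he he' hμ hν
    obtain ⟨a, ha0, ha⟩ := exists_nat_degree_irr (hirr χ hχ)
    obtain ⟨b, hb0, hb⟩ := exists_nat_degree_irr (hirr ψ hψ)
    obtain ⟨m, hm0, hm⟩ := exists_nat_degree_irr μ.2
    obtain ⟨n, hn0, hn⟩ := exists_nat_degree_irr ν.2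
    have h1 : ((b : ℤ) • χ + (-(a : ℤ)) • ψ) ∈ Cfsg.zspan S :=
      Submodule.add_mem _ (Submodule.smul_mem _ _ (hmem χ hχ)) (Submodule.smul_mem _ _ (hmem ψ hψ))
    have h2 := h0 _ h1 (by simp [ha, hb]; ring)
    rw [hadd _ (show ((b : ℤ) • χ) ∈ Cfsg.zspan S from Submodule.smul_mem _ _ (hmem χ hχ)) _
      (show ((-(a : ℤ)) • ψ) ∈ Cfsg.zspan S from Submodule.smul_mem _ _ (hmem ψ hψ)),
      hsmul _ (hmem χ hχ), hsmul _ (hmem ψ hψ), hμ, hν] at h2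
    simp [hm, hn] at h2
    have hbm : (0 : ℝ) < b * m := by positivity
    have han : (0 : ℝ) < a * n := by positivity
    rcases he with rfl | rfl <;> rcases he' with rfl | rfl
    · rfl
    · exfalso
      have h3 := congrArg Complex.re h2
      simp at h3
      linarith
    · exfalso
      have h3 := congrArg Complex.re h2
      simp at h3
      linarith
    · rfl
  obtain ⟨χ₀, hχ₀, -⟩ := htwo
  obtain ⟨ε, hε, μ₀, hμ₀⟩ := hone χ₀ hχ₀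
  refine ⟨ε, hε, fun χ hχ => ?_, fun χ hχ ψ hψ h => ?_⟩
  · obtain ⟨ε', hε', μ, hμ⟩ := hone χ hχ
    rw [← hsame χ₀ hχ₀ χ hχ ε ε' μ₀ μ hε hε' hμ₀ hμ] at hμ
    rw [hμ, smul_smul]
    rcases hε with rfl | rfl <;> simp [μ.2]
  · by_contra hne
    have := horth χ hχ ψ hψ hne
    rw [← h, hiso χ (hmem χ hχ) χ (hmem χ hχ), classInner_irr_self (hirr χ hχ)] at this
    exact one_ne_zero this

end Cfsg.Agent.S1529
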