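import Cfsg.Statements.S1532
import Cfsg.Agent.Lib.Char.SibleyTIFN

set_option autoImplicit false
open Cfsg

namespace Cfsg.Agent.S1532

/-- Let G be a finite group, p an odd prime and P a Sylow p-subgroup that is non-abelian, whose underlying set is a TI-subset of G, with P properly contained in its set normaliser N and C_G(x) ≤ P for every non-identity x ∈ P. Let Z be a nontrivial subgroup of the centre of P normalised by N. Then the set of irreducible characters χ of N with χ z ≠ χ 1 for some z ∈ Z is coherent for the map induced by induction from N to G. -/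
theorem result {G : Type*} [Group G] [Fintype G] (p : ℕ) [Fact p.Prime] (hp : p ≠ 2) (P : Sylow p G) (hna : ¬ IsMulCommutative (P : Subgroup G)) (hTI : Cfsg.IsTISubset ((P : Subgroup G) : Set G)) (hlt : (P : Subgroup G) < Subgroup.normalizer ((P : Subgroup G) : Set G)) (hC : ∀ k ∈ (P : Subgroup G), k ≠ 1 → Subgroup.centralizer ({k} : Set G) ≤ (P : Subgroup G)) [Fintype ↥(Subgroup.normalizer ((P : Subgroup G) : Set G))] (Z : Subgroup G) (hZ1 : Z ≠ ⊥) (hZP : ∀ z ∈ Z, z ∈ (P : Subgroup G) ∧ ∀ y ∈ (P : Subgroup G), z * y = y * z) (hZn : ∀ x ∈ Subgroup.normalizer ((P : Subgroup G) : Set G), ∀ z ∈ Z, x * z * x⁻¹ ∈ Z) : Cfsg.IsCoherent {χ : ↥(Subgroup.normalizer ((P : Subgroup G) : Set G)) → ℂ | Cfsg.IsIrrCharacter ↥(Subgroup.normalizer ((P : Subgroup G) : Set G)) χ ∧ ∃ z : ↥(Subgroup.normalizer ((P : Subgroup G) : Set G)), (z : G) ∈ Z ∧ χ z ≠ χ 1} {1}ᶜ (fun α => Cfsg.indFun (Subgroup.normalizer ((P : Subgroup G) : Set G)) α) := by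
  classical
  haveI : ((P : Subgroup G).subgroupOf (Subgroup.normalizer ((P : Subgroup G) : Set G))).Normal :=
    Subgroup.normal_in_normalizer
  set L := Subgroup.normalizer ((P : Subgroup G) : Set G) with hL
  set K := (P : Subgroup G).subgroupOf L with hK
  have hP1 : (P : Subgroup G) ≠ ⊥ := fun h => hna ⟨⟨fun a b => Subtype.ext (by
    rw [Subgroup.coe_mul, Subgroup.coe_mul, show (a : G) = 1 from Subgroup.mem_bot.mp (h ▸ a.2), show (b : G) = 1 from Subgroup.mem_bot.mp (h ▸ b.2)])⟩⟩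
  have hnil : Group.IsNilpotent (P : Subgroup G) := P.2.isNilpotent
  have hcent := CfsgLib.Char.SibleyTIFN.setting_cent (P : Subgroup G) hC
  have hnilK := CfsgLib.Char.SibleyTIFN.setting_nilpotent (P : Subgroup G) hnil
  have hbot := CfsgLib.Char.SibleyTIFN.setting_bot (P : Subgroup G) hP1
  have htop := CfsgLib.Char.SibleyTIFN.setting_top (P : Subgroup G) hlt
  have hne : ¬ ∀ a b : K, a * b = b * a := fun h => hna ⟨⟨fun a b => Subtype.ext
    (congrArg (fun x => ((x : K).1 : G))
      (h ⟨⟨a, Subgroup.le_normalizer a.2⟩, a.2⟩ ⟨⟨b, Subgroup.le_normalizer b.2⟩, b.2⟩))⟩⟩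
  have hodd : Odd (Nat.card L) := by
    obtain ⟨n, hn⟩ := P.2.exists_card_eq
    rw [← K.card_mul_index]
    refine Nat.odd_mul.mpr ⟨?_, Nat.not_even_iff_odd.mp fun h => hne
      (CfsgLib.Char.SibleyTIFN.comm_of_even_index K hcent hbot (even_iff_two_dvd.mp h))⟩
    rw [CfsgLib.Char.SibleyTIFN.setting_card, hn]
    exact ((Fact.out : p.Prime).odd_of_ne_two hp).pow
  letI : Fintype K := Fintype.ofFinite K
  haveI := hnilK
  have hsolv : Group.IsSolvable K := inferInstance
  obtain ⟨R, hS⟩ := CfsgLib.Char.SibleyTI.exists_system L K hcent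
    (CfsgLib.Char.SibleyTIFN.setting_ti (P : Subgroup G) hTI) hodd hsolv hbot htop
  have hH₁K : ⁅K, K⁆ < K := by
    refine lt_of_le_of_ne (Subgroup.commutator_le.mpr fun a ha b hb =>
      K.mul_mem (K.mul_mem (K.mul_mem ha hb) (K.inv_mem ha)) (K.inv_mem hb)) fun e => ?_
    haveI : Nontrivial K := (Subgroup.nontrivial_iff_ne_bot K).mpr hbot
    refine (Group.IsSolvable.commutator_lt_top_of_nontrivial K).ne ?_
    refine Subgroup.map_injective K.subtype_injective ?_
    rw [commutator_def, Subgroup.map_commutator, ← MonoidHom.range_eq_map, Subgroup.range_subtype, e]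
  have hZL : Z ≤ L := fun z hz => Subgroup.le_normalizer (hZP z hz).1
  haveI : (Z.subgroupOf L).Normal := ⟨fun z hz g => hZn g g.2 z hz⟩
  obtain ⟨heq, hcoh⟩ := CfsgLib.Char.Descent.coherent_central K hsolv hS hodd hnilK hH₁K htop
    (CfsgLib.Char.SibleyTI.frobenius_quotient L K hcent ⁅K, K⁆ hH₁K.le) (Z.subgroupOf L)
    (fun e => hZ1 (by rw [← Subgroup.map_subgroupOf_eq_of_le hZL, e, Subgroup.map_bot]))
    (fun z hz => (hZP z hz).1) (fun z hz k hk => Subtype.ext ((hZP z hz).2 k hk))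
    (fun χ h => CfsgLib.Char.SibleyTI.irr_mem L K hcent h.1)
  rw [heq] at hcoh
  simp only [Subgroup.mem_subgroupOf] at hcoh
  convert hcoh using 1

end Cfsg.Agent.S1532
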