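import Cfsg.Statements.S1533
import Cfsg.Agent.Lib.Char.SibleyTIFN

set_option autoImplicit false
open Cfsg

namespace Cfsg.Agent.S1533

/-- Let G be a finite group, p an odd prime, and P a nontrivial Sylow p-subgroup whose underlying set is a TI-subset of G, with P properly contained in its set normaliser N and C_G(x) ≤ P for every non-identity x ∈ P. Let S be the set of irreducible characters χ of N with χ x ≠ χ 1 for some x ∈ P. Then either S has exactly one member, P is elementary abelian and Nat.card P = [N:P] + 1; or (S, N minus 1, induction to G) is coherent. -/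
theorem result {G : Type*} [Group G] [Fintype G] (p : ℕ) [Fact p.Prime] (hp : p ≠ 2) (P : Sylow p G) (hP1 : (P : Subgroup G) ≠ ⊥) (hTI : Cfsg.IsTISubset ((P : Subgroup G) : Set G)) (hlt : (P : Subgroup G) < Subgroup.normalizer ((P : Subgroup G) : Set G)) (hC : ∀ k ∈ (P : Subgroup G), k ≠ 1 → Subgroup.centralizer ({k} : Set G) ≤ (P : Subgroup G)) [Fintype ↥(Subgroup.normalizer ((P : Subgroup G) : Set G))] : (Nat.card {χ : ↥(Subgroup.normalizer ((P : Subgroup G) : Set G)) → ℂ // Cfsg.IsIrrCharacter ↥(Subgroup.normalizer ((P : Subgroup G) : Set G)) χ ∧ ∃ x : ↥(Subgroup.normalizer ((P : Subgroup G) : Set G)), (x : G) ∈ (P : Subgroup G) ∧ χ x ≠ χ 1} = 1 ∧ Cfsg.IsElementaryAbelian p (P : Subgroup G) ∧ Nat.card (P : Subgroup G) = ((P : Subgroup G).subgroupOf (Subgroup.normalizer ((P : Subgroup G) : Set G))).index + 1) ∨ Cfsg.IsCoherent {χ : ↥(Subgroup.normalizer ((P : Subgroup G) : Set G)) → ℂ | Cfsg.IsIrrCharacter ↥(Subgroup.normalizer ((P : Subgroup G) : Set G)) χ ∧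 ∃ x : ↥(Subgroup.normalizer ((P : Subgroup G) : Set G)), (x : G) ∈ (P : Subgroup G) ∧ χ x ≠ χ 1} {1}ᶜ (fun α => Cfsg.indFun (Subgroup.normalizer ((P : Subgroup G) : Set G)) α) := by
  classical
  haveI : ((P : Subgroup G).subgroupOf (Subgroup.normalizer ((P : Subgroup G) : Set G))).Normal :=
    Subgroup.normal_in_normalizer
  have hmap := CfsgLib.Char.SibleyTIFN.setting_map (P : Subgroup G)
  have hnil : Group.IsNilpotent (P : Subgroup G) := P.2.isNilpotent
  obtain ⟨n, hn⟩ := P.2.exists_card_eq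
  have hn0 : n ≠ 0 := by
    rintro rfl
    rw [pow_zero] at hn
    exact hP1 (Subgroup.card_eq_one.mp hn)
  rcases CfsgLib.Char.SibleyTIFN.trichotomy (Subgroup.normalizer ((P : Subgroup G) : Set G))
      ((P : Subgroup G).subgroupOf (Subgroup.normalizer ((P : Subgroup G) : Set G)))
      (CfsgLib.Char.SibleyTIFN.setting_cent _ hC) (CfsgLib.Char.SibleyTIFN.setting_ti _ hTI)
      (CfsgLib.Char.SibleyTIFN.setting_nilpotent _ hnil) (CfsgLib.Char.SibleyTIFN.setting_bot _ hP1)
      (CfsgLib.Char.SibleyTIFN.setting_top _ hlt)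
      (by rw [hmap]; exact hTI) (by rw [hmap]) with ⟨h1, h2, q, hq, hab, hpow⟩ | ⟨h1, h2⟩ | h
  · rw [CfsgLib.Char.SibleyTIFN.setting_card] at h2
    refine Or.inl ⟨h1, ⟨⟨⟨fun a b => ?_⟩⟩, fun a ha => ?_⟩, h2⟩
    · exact Subtype.ext (congrArg (fun x =>
        ((x : ↥((P : Subgroup G).subgroupOf (Subgroup.normalizer ((P : Subgroup G) : Set G)))).1 : G))
        (hab ⟨⟨a, Subgroup.le_normalizer a.2⟩, a.2⟩ ⟨⟨b, Subgroup.le_normalizer b.2⟩, b.2⟩))
    · have hqp : q = p := by
        obtain ⟨y, hy⟩ := exists_prime_orderOf_dvd_card' p (hn ▸ dvd_pow_self p hn0)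
        have h := congrArg Subtype.val (hpow ⟨y, Subgroup.le_normalizer y.2⟩ y.2)
        have hd : p ∣ q := by
          rw [← hy, ← Subgroup.orderOf_coe]
          exact orderOf_dvd_of_pow_eq_one h
        exact ((Nat.prime_dvd_prime_iff_eq Fact.out hq).mp hd).symm
      rw [← hqp]
      exact congrArg Subtype.val (hpow ⟨a, Subgroup.le_normalizer ha⟩ ha)
  · rw [CfsgLib.Char.SibleyTIFN.setting_card, hn] at h1
    exfalso
    have h := dvd_pow_self p hn0
    rw [h1] at h
    exact hp ((Nat.prime_dvd_prime_iff_eq Fact.out Nat.prime_two).mp ((Fact.out : p.Prime).dvd_of_dvd_pow h))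
  · exact Or.inr h

end Cfsg.Agent.S1533
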