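import Cfsg.Statements.S1535
import Cfsg.Agent.Lib.Char.FeitFrobenius

set_option autoImplicit false
open Cfsg

namespace Cfsg.Agent.S1535

/-- Let N be a finite group with a proper nontrivial normal subgroup H such that every element commuting with a non-identity element of H lies in H (N is a Frobenius group with kernel H); let e be the index of H and suppose Nat.card H ≠ e + 1. Let S be the set of irreducible characters χ of N with χ h ≠ χ 1 for some h ∈ H, and τ a linear isometry on the integer combinations of S vanishing at 1, with values virtual characters of a finite group G vanishing at 1. Then (S, N minus 1, τ) is coherent, or there is a prime p with Nat.card H a power of p, H non-abelian and [H : [H,H]] ≤ 4e² + 1. -/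
theorem result {N : Type*} [Group N] [Fintype N] {G : Type*} [Group G] [Fintype G] (H : Subgroup N) [H.Normal] (hH1 : H ≠ ⊥) (hH2 : H ≠ ⊤) (hC : ∀ h ∈ H, h ≠ 1 → Subgroup.centralizer ({h} : Set N) ≤ H) (he : Nat.card H ≠ H.index + 1) (τ : (N → ℂ) → (G → ℂ)) (hτ : Cfsg.IsLinearIsometryOn (Cfsg.zspanOn {χ : N → ℂ | Cfsg.IsIrrCharacter N χ ∧ ∃ h ∈ H, χ h ≠ χ 1} {1}ᶜ) τ) (hτ1 : ∀ α ∈ Cfsg.zspanOn {χ : N → ℂ | Cfsg.IsIrrCharacter N χ ∧ ∃ h ∈ H, χ h ≠ χ 1} {1}ᶜ, τ α 1 = 0) : Cfsg.IsCoherent {χ : N → ℂ | Cfsg.IsIrrCharacter N χ ∧ ∃ h ∈ H, χ h ≠ χ 1} {1}ᶜ τ ∨ ∃ p : ℕ, p.Prime ∧ (∃ m : ℕ, Nat.card H = p ^ m) ∧ ¬ IsMulCommutative H ∧ (⁅H, H⁆.subgroupOf H).index ≤ 4 * H.index ^ 2 + 1 := by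
  classical
  haveI : Fintype H := Fintype.ofFinite H
  by_cases hR : ∃ p : ℕ, p.Prime ∧ (∃ m : ℕ, Nat.card H = p ^ m) ∧ ¬ IsMulCommutative H ∧
      (⁅H, H⁆.subgroupOf H).index ≤ 4 * H.index ^ 2 + 1
  · exact Or.inr hR
  refine Or.inl (CfsgLib.Char.FeitFrobenius.coherent H
    (fun k hk hk1 x hx => hC k hk hk1 (Subgroup.mem_centralizer_singleton_iff.mpr hx)) hH1 hH2 he τ hτ hτ1 ?_)
  intro p hp hpH hne
  by_contra hle
  refine hR ⟨p, hp, ?_, fun hcomm => hne ?_, ?_⟩
  · haveI := Fact.mk hp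
    exact hpH.exists_card_eq
  · have hb : commutator H = ⊥ := by
      rw [commutator_def, Subgroup.commutator_eq_bot_iff_le_centralizer]
      intro a _ b _
      exact hcomm.is_comm.comm b a
    rw [hb, Subgroup.index_bot]
  · have h : (⁅H, H⁆.subgroupOf H) = commutator H := by
      apply Subgroup.map_injective H.subtype_injective
      rw [Subgroup.map_subtype_commutator, Subgroup.subgroupOf, Subgroup.map_comap_eq, Subgroup.range_subtype,
        inf_eq_right]
      exact Subgroup.commutator_le.mpr fun a ha b hb =>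
        H.mul_mem (H.mul_mem (H.mul_mem ha hb) (H.inv_mem ha)) (H.inv_mem hb)
    rw [h]
    omega

end Cfsg.Agent.S1535
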