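import Cfsg.Statements.S1537
import Cfsg.Agent.Lib.Peterfalvi.TameAll

set_option autoImplicit false
open Cfsg

namespace Cfsg.Agent.S1537

/-- Let G be a minimal simple group of odd order and M a maximal subgroup. For A equal to A₁(M), A(M) or A₀(M): the set normaliser of A is M, and the Dade hypothesis holds for A, M and the function a ↦ R(a). -/
theorem result {G : Type*} [Group G] [Finite G] (hG : Cfsg.IsMinSimpleOddOrder G) (M : Subgroup G) (hM : IsCoatom M) (A : Set G) (hA : A = Cfsg.typeA1 M ∨ A = Cfsg.typeA M ∨ A = Cfsg.typeA0 M) : Subgroup.normalizer A = M ∧ Cfsg.DadeHypothesis A M (Cfsg.supportR M) := by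
  have hsub1 := CfsgLib.Peterfalvi.typeA1_subset_typeA' hG hM
  have hne := CfsgLib.Peterfalvi.typeA1_nonempty' hG hM
  have h0 := CfsgLib.Peterfalvi.tame_typeA0 hG hM
  have hA0 := CfsgLib.Peterfalvi.typeA_subset_typeA0 M
  rcases hA with rfl | rfl | rfl
  · exact ⟨CfsgLib.Peterfalvi.normalizer_eq hG hM (fun _ hx => CfsgLib.Peterfalvi.typeCore_le M hx.1)
      (fun h => h.2 rfl) hne fun _ hm _ hx => CfsgLib.Peterfalvi.conj_mem_typeA1 hm hx,
      CfsgLib.Peterfalvi.dadeHypothesis_of_tame h0 (hsub1.trans hA0)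
        (fun _ hx => CfsgLib.Peterfalvi.typeCore_le M hx.1) (fun h => h.2 rfl)
        fun _ hm _ hx => CfsgLib.Peterfalvi.conj_mem_typeA1 hm hx⟩
  · exact ⟨CfsgLib.Peterfalvi.normalizer_eq hG hM (CfsgLib.Peterfalvi.typeA_subset M)
      (CfsgLib.Peterfalvi.one_notMem_typeA M) (hne.mono hsub1)
      fun _ hm _ hx => CfsgLib.Peterfalvi.conj_mem_typeA hm hx,
      CfsgLib.Peterfalvi.dadeHypothesis_of_tame h0 hA0 (CfsgLib.Peterfalvi.typeA_subset M)
        (CfsgLib.Peterfalvi.one_notMem_typeA M) fun _ hm _ hx => CfsgLib.Peterfalvi.conj_mem_typeA hm hx⟩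
  · exact ⟨CfsgLib.Peterfalvi.normalizer_eq hG hM (CfsgLib.Peterfalvi.typeA0_subset M)
      (CfsgLib.Peterfalvi.one_notMem_typeA0 M) ((hne.mono hsub1).mono hA0)
      fun _ hm _ hx => CfsgLib.Peterfalvi.conj_mem_typeA0 hm hx,
      CfsgLib.Peterfalvi.dadeHypothesis_of_tame h0 subset_rfl (CfsgLib.Peterfalvi.typeA0_subset M)
        (CfsgLib.Peterfalvi.one_notMem_typeA0 M) fun _ hm _ hx => CfsgLib.Peterfalvi.conj_mem_typeA0 hm hx⟩

end Cfsg.Agent.S1537
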