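import Cfsg.Statements.S1538
import Cfsg.Agent.Lib.Peterfalvi.TameAll

set_option autoImplicit false
open Cfsg

namespace Cfsg.Agent.S1538

/-- Let G be a minimal simple group of odd order and M a maximal subgroup of Type II. Then each of A₀(M), A(M), A₁(M) is a TI-subset of G whose set normaliser is M. -/
theorem result {G : Type*} [Group G] [Finite G] (hG : Cfsg.IsMinSimpleOddOrder G) (M : Subgroup G) (hM : IsCoatom M) (hII : Cfsg.IsOfTypeII M) : (Cfsg.IsTISubset (Cfsg.typeA0 M) ∧ Subgroup.normalizer (Cfsg.typeA0 M) = M) ∧ (Cfsg.IsTISubset (Cfsg.typeA M) ∧ Subgroup.normalizer (Cfsg.typeA M) = M) ∧ (Cfsg.IsTISubset (Cfsg.typeA1 M) ∧ Subgroup.normalizer (Cfsg.typeA1 M) = M) := by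
  have hsub1 := CfsgLib.Peterfalvi.typeA1_subset_typeA' hG hM
  have hne := CfsgLib.Peterfalvi.typeA1_nonempty' hG hM
  have h0 := CfsgLib.Peterfalvi.tame_typeA0 hG hM
  have hA0 := CfsgLib.Peterfalvi.typeA_subset_typeA0 M
  exact ⟨CfsgLib.Peterfalvi.ti_of_typeII hG hM hII h0 subset_rfl ((hne.mono hsub1).mono hA0)
      (CfsgLib.Peterfalvi.typeA0_subset M) (CfsgLib.Peterfalvi.one_notMem_typeA0 M)
      fun _ hm _ hx => CfsgLib.Peterfalvi.conj_mem_typeA0 hm hx,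
    CfsgLib.Peterfalvi.ti_of_typeII hG hM hII h0 hA0 (hne.mono hsub1) (CfsgLib.Peterfalvi.typeA_subset M)
      (CfsgLib.Peterfalvi.one_notMem_typeA M) fun _ hm _ hx => CfsgLib.Peterfalvi.conj_mem_typeA hm hx,
    CfsgLib.Peterfalvi.ti_of_typeII hG hM hII h0 (hsub1.trans hA0) hne
      (fun _ hx => CfsgLib.Peterfalvi.typeCore_le M hx.1) (fun h => h.2 rfl)
      fun _ hm _ hx => CfsgLib.Peterfalvi.conj_mem_typeA1 hm hx⟩

end Cfsg.Agent.S1538
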