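import Cfsg.Statements.S1550
import Cfsg.Agent.Lib.Golay.Systems.Sextets
-- import your own Cfsg.Agent.* helpers here

set_option autoImplicit false
open scoped Pointwise
open Cfsg

namespace Cfsg.Agent.S1550

/-- Every 4-element set of the 24 points is a tetrad of exactly one sextet, and the sextets number 1771. -/
theorem result : (∀ t : Finset Cfsg.GolayPt, t.card = 4 → ∃! S : Finset (Finset Cfsg.GolayPt), S ∈ Cfsg.sextets ∧ t ∈ S) ∧ Cfsg.sextets.ncard = 1771 := by
  refine ⟨fun t ht => ?_, ?_⟩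
  · obtain ⟨g, hg, rfl⟩ := CfsgLib.Golay.exists_map_base_four ht
    have hbase : CfsgLib.Golay.sextTree.objs.any (fun u => u.contains (2 ^ 23 ||| 1 ||| 2 ||| 4)) = true := by
      decide +kernel
    obtain ⟨u, hu, hmem⟩ := List.any_eq_true.1 hbase
    have hS := (CfsgLib.Golay.objF_mem_sextets hu).1
    have ht' : CfsgLib.Golay.dec (2 ^ 23 ||| 1 ||| 2 ||| 4) ∈ CfsgLib.Golay.objF u := by
      simp only [CfsgLib.Golay.objF, List.mem_toFinset, List.mem_map]
      exact ⟨_, List.contains_iff_mem.1 hmem, rfl⟩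
    exact ⟨g • CfsgLib.Golay.objF u, ⟨CfsgLib.Golay.smul_mem_sextets hg hS,
      Finset.smul_mem_smul_finset ht'⟩, fun S hS' => CfsgLib.Golay.sextet_unique hS'.1
      (CfsgLib.Golay.smul_mem_sextets hg hS) hS'.2 (Finset.smul_mem_smul_finset ht')⟩
  · refine CfsgLib.Golay.sextFam.ncard_sets.trans ?_
    show CfsgLib.Golay.sextTree.objs.length = 1771
    decide +kernel

end Cfsg.Agent.S1550
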