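import Cfsg.Statements.S1553
import Cfsg.Agent.Lib.Golay.Systems.OctadPairs
-- import your own Cfsg.Agent.* helpers here

set_option autoImplicit false
open scoped Pointwise
open Cfsg

namespace Cfsg.Agent.S1553

/-- The stabiliser of an octad in the group of the length-24 code induces on the octad exactly its alternating group. -/
theorem result (o : Finset Cfsg.GolayPt) (ho : o ∈ Cfsg.octads) : {e : Equiv.Perm ↥o | ∃ g : Equiv.Perm Cfsg.GolayPt, g ∈ Cfsg.M24 ∧ ∃ h : (∀ x, g x ∈ o ↔ x ∈ o), g.subtypePerm h = e} = (alternatingGroup ↥o : Set (Equiv.Perm ↥o)) := by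
  classical
  have hmem : ∀ g : ↥(MulAction.stabilizer Cfsg.M24 o), ∀ x, ((g : ↥Cfsg.M24) : Equiv.Perm Cfsg.GolayPt) x ∈ o ↔ x ∈ o := fun g x => by
    have h : ((g : ↥Cfsg.M24) : Equiv.Perm Cfsg.GolayPt) • o = o := g.2
    have h2 := Finset.smul_mem_smul_finset_iff (a := ((g : ↥Cfsg.M24) : Equiv.Perm Cfsg.GolayPt)) (b := x) (s := o)
    rw [h] at h2
    exact h2
  let φ : ↥(MulAction.stabilizer Cfsg.M24 o) →* Equiv.Perm ↥o :=
    { toFun := fun g => ((g : ↥Cfsg.M24) : Equiv.Perm Cfsg.GolayPt).subtypePerm (hmem g)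
      map_one' := by ext x; rfl
      map_mul' := fun a b => by ext x; rfl }
  have hset : {e : Equiv.Perm ↥o | ∃ g : Equiv.Perm Cfsg.GolayPt, g ∈ Cfsg.M24 ∧
      ∃ h : (∀ x, g x ∈ o ↔ x ∈ o), g.subtypePerm h = e} = (φ.range : Set (Equiv.Perm ↥o)) := by
    ext e
    constructor
    · rintro ⟨g, hg, h, rfl⟩
      refine ⟨⟨⟨g, hg⟩, MulAction.mem_stabilizer_iff.2 ?_⟩, rfl⟩
      show g • o = o
      refine Finset.eq_of_subset_of_card_le (fun y hy => ?_) (by rw [Finset.card_smul_finset])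
      obtain ⟨x, hx, rfl⟩ := Finset.mem_smul_finset.1 hy
      exact (h x).2 hx
    · rintro ⟨g, rfl⟩; exact ⟨_, (g : ↥Cfsg.M24).2, hmem g, rfl⟩
  rw [hset]
  have hker : Nat.card φ.ker = 16 := by
    rw [← (CfsgLib.Golay.octad_pointwise ho).1]
    refine Nat.card_congr
      { toFun := fun g => ⟨((g : ↥(MulAction.stabilizer Cfsg.M24 o)) : ↥Cfsg.M24),
          ((g : ↥(MulAction.stabilizer Cfsg.M24 o)) : ↥Cfsg.M24).2,
          mem_fixingSubgroup_iff (Equiv.Perm Cfsg.GolayPt) |>.2 fun p hp =>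
            (congrArg Subtype.val (DFunLike.congr_fun (MonoidHom.mem_ker.1 g.2) ⟨p, hp⟩) :)⟩
        invFun := fun g => ⟨⟨⟨g.1, g.2.1⟩, MulAction.mem_stabilizer_iff.2 ?_⟩, ?_⟩
        left_inv := fun g => rfl
        right_inv := fun g => rfl }
    · show g.1 • o = o
      refine Finset.eq_of_subset_of_card_le (fun y hy => ?_) (by rw [Finset.card_smul_finset])
      obtain ⟨x, hx, rfl⟩ := Finset.mem_smul_finset.1 hy
      rw [show g.1 • x = x from (mem_fixingSubgroup_iff (Equiv.Perm Cfsg.GolayPt)).1 g.2.2 x hx]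
      exact hx
    · refine MonoidHom.mem_ker.2 (Equiv.ext fun x => Subtype.ext ?_)
      exact (mem_fixingSubgroup_iff (Equiv.Perm Cfsg.GolayPt)).1 g.2.2 x x.2
  have hcard := Subgroup.card_eq_card_quotient_mul_card_subgroup φ.ker
  rw [Nat.card_congr (QuotientGroup.quotientKerEquivRange φ).toEquiv, hker,
    CfsgLib.Golay.natCard_stab_octad ho] at hcard
  have hidx := φ.range.card_mul_index
  rw [Nat.card_perm, Nat.card_eq_fintype_card (α := ↥o), Fintype.card_coe, ho.2,
    show Nat.factorial 8 = 40320 from rfl] at hidx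
  have h2 : φ.range.index = 2 := by
    have : Nat.card φ.range = 20160 := by omega
    rw [this] at hidx
    omega
  rw [Equiv.Perm.eq_alternatingGroup_of_index_eq_two h2]

end Cfsg.Agent.S1553
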