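import Cfsg.Statements.S1554
import Cfsg.Agent.Lib.Golay.MathieuFacts
-- import your own Cfsg.Agent.* helpers here

set_option autoImplicit false
open scoped Pointwise
open Cfsg

namespace Cfsg.Agent.S1554

open CfsgLib.Golay
open scoped Pointwise

theorem free_base : ∀ P ∈ trans6, ∀ i ∈ List.range 24,
    oct0.testBit i = true ∨ ap P i ≠ i ∨ P = powP P 0 := by decide +kernel

variable {o : Finset GolayPt}

/-- the pointwise stabilizer -/
noncomputable abbrev E (o : Finset GolayPt) : Subgroup (Equiv.Perm GolayPt) :=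
  M24 ⊓ fixingSubgroup (Equiv.Perm GolayPt) (o : Set GolayPt)

/-- the setwise stabilizer -/
noncomputable abbrev S (o : Finset GolayPt) : Subgroup (Equiv.Perm GolayPt) :=
  M24 ⊓ MulAction.stabilizer (Equiv.Perm GolayPt) o

theorem E_le_S : E o ≤ S o := by
  intro g hg
  refine Subgroup.mem_inf.2 ⟨(Subgroup.mem_inf.1 hg).1, MulAction.mem_stabilizer_iff.2 ?_⟩
  have hf := (mem_fixingSubgroup_iff (Equiv.Perm GolayPt)).1 (Subgroup.mem_inf.1 hg).2
  ext q
  rw [Finset.mem_smul_finset]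
  constructor
  · rintro ⟨r, hr, rfl⟩; rw [hf r hr]; exact hr
  · exact fun hq => ⟨q, hq, hf q hq⟩

theorem free (ho : o ∈ octads) {g : Equiv.Perm GolayPt} (hg : g ∈ E o) {p : GolayPt} (hp : p ∉ o)
    (hgp : g p = p) : g = 1 := by
  obtain ⟨c, hc, rfl⟩ := exists_smul_oct0 ho
  have hf := (mem_fixingSubgroup_iff (Equiv.Perm GolayPt)).1 (Subgroup.mem_inf.1 hg).2
  have h0 : c⁻¹ * g * c ∈ fixH M24 F6 := by
    rw [← fix_oct0_eq]
    refine Subgroup.mem_inf.2 ⟨mul_mem (mul_mem (inv_mem hc) (Subgroup.mem_inf.1 hg).1) hc,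
      (mem_fixingSubgroup_iff _).2 fun q hq => ?_⟩
    have h := hf (c q) (Finset.smul_mem_smul_finset (a := c) hq)
    rw [Equiv.Perm.smul_def] at h ⊢
    rw [Equiv.Perm.mul_apply, Equiv.Perm.mul_apply, h, Equiv.Perm.inv_eq_iff_eq]
  obtain ⟨P, hP, hv, heq⟩ := mem_fixF6 h0
  rcases free_base P hP (idx (c⁻¹ p)) (List.mem_range.2 (idx_lt _)) with h | h | h
  · refine absurd ?_ hp
    have : c⁻¹ p ∈ dec oct0 := by rw [mem_dec]; exact h
    have := Finset.smul_mem_smul_finset (a := c) this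
    rwa [Equiv.Perm.smul_def, Equiv.Perm.inv_def, Equiv.apply_symm_apply] at this
  · refine absurd ?_ h
    rw [← idx_toPerm hv, ← heq]
    congr 1
    rw [Equiv.Perm.mul_apply, Equiv.Perm.mul_apply, Equiv.Perm.inv_def, Equiv.apply_symm_apply, hgp]
  · rw [toPerm_powP_zero hv h] at heq
    calc g = c * (c⁻¹ * g * c) * c⁻¹ := by group
      _ = 1 := by rw [heq]; group

theorem trans (ho : o ∈ octads) {p q : GolayPt} (hp : p ∉ o) (hq : q ∉ o) :
    ∃ g ∈ E o, g p = q := by
  classical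
  let f : E o → {x : GolayPt // x ∉ o} := fun g => ⟨(g : Equiv.Perm GolayPt) p, fun h => hp (by
    have hf := (mem_fixingSubgroup_iff (Equiv.Perm GolayPt)).1 (Subgroup.mem_inf.1 g.2).2
    have := hf _ h
    rw [Equiv.Perm.smul_def] at this
    exact (g : Equiv.Perm GolayPt).injective this ▸ h)⟩
  have hf : Function.Injective f := fun a b h => by
    have h' : (a : Equiv.Perm GolayPt) p = (b : Equiv.Perm GolayPt) p := congrArg Subtype.val h
    have := free ho (mul_mem (inv_mem b.2) a.2) hp (by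
      rw [Equiv.Perm.mul_apply, h', Equiv.Perm.inv_def, Equiv.symm_apply_apply])
    exact (Subtype.ext (inv_mul_eq_one.1 this)).symm
  have hb : Function.Bijective f := by
    refine (Nat.bijective_iff_injective_and_card f).2 ⟨hf, ?_⟩
    rw [(octad_pointwise ho).1, Nat.card_eq_fintype_card, Fintype.card_subtype_compl,
      Fintype.card_coe, ho.2]
    rfl
  obtain ⟨g, hg⟩ := hb.2 ⟨q, hq⟩
  exact ⟨g, g.2, congrArg Subtype.val hg⟩

theorem card_S (ho : o ∈ octads) : Nat.card (S o) = 322560 := by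
  have e : S o ≃ MulAction.stabilizer M24 o :=
    { toFun := fun g => ⟨⟨g, (Subgroup.mem_inf.1 g.2).1⟩, (Subgroup.mem_inf.1 g.2).2⟩
      invFun := fun g => ⟨(g : M24), Subgroup.mem_inf.2 ⟨(g : M24).2, g.2⟩⟩
      left_inv := fun _ => rfl
      right_inv := fun _ => rfl }
  rw [Nat.card_congr e]
  have horb : MulAction.orbit M24 o = octads := by
    ext x
    constructor
    · rintro ⟨g, rfl⟩; exact smul_mem_octads g.2 ho
    · intro hx
      obtain ⟨g, hg⟩ := octad_transitive ho hx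
      exact ⟨g, hg⟩
  have h := Subgroup.index_mul_card (MulAction.stabilizer M24 o)
  rw [MulAction.index_stabilizer, horb, ncard_octads, natCard_M24] at h
  omega

/-- An octad stabiliser is a split extension: the joint stabiliser of the octad and a point outside it is a complement to the pointwise stabiliser of the octad, and is isomorphic to the alternating group of degree 8. -/
theorem result (o : Finset Cfsg.GolayPt) (ho : o ∈ Cfsg.octads) (p : Cfsg.GolayPt) (hp : p ∉ o) : (Cfsg.M24 ⊓ fixingSubgroup (Equiv.Perm Cfsg.GolayPt) (o : Set Cfsg.GolayPt)) ⊓ (Cfsg.M24 ⊓ MulAction.stabilizer (Equiv.Perm Cfsg.GolayPt) o ⊓ MulAction.stabilizer (Equiv.Perm Cfsg.GolayPt) p) = ⊥ ∧ (Cfsg.M24 ⊓ fixingSubgroup (Equiv.Perm Cfsg.GolayPt) (o : Set Cfsg.GolayPt)) ⊔ (Cfsg.M24 ⊓ MulAction.stabilizer (Equiv.Perm Cfsg.GolayPt) o ⊓ MulAction.stabilizer (Equiv.Perm Cfsg.GolayPt) p) = (Cfsg.M24 ⊓ MulAction.stabilizer (Equiv.Perm Cfsg.GolayPt) o) ∧ Nonempty (↥(Cfsg.M24 ⊓ MulAction.stabilizer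 (Equiv.Perm Cfsg.GolayPt) o ⊓ MulAction.stabilizer (Equiv.Perm Cfsg.GolayPt) p) ≃* alternatingGroup (Fin 8)) := by
  classical
  have hK : M24 ⊓ MulAction.stabilizer (Equiv.Perm GolayPt) o ⊓ MulAction.stabilizer (Equiv.Perm GolayPt) p
      ≤ S o := inf_le_left
  set K := M24 ⊓ MulAction.stabilizer (Equiv.Perm GolayPt) o ⊓ MulAction.stabilizer (Equiv.Perm GolayPt) p
    with hKdef
  have hbot : E o ⊓ K = ⊥ := by
    rw [Subgroup.eq_bot_iff_forall]
    intro g hg
    exact free ho (Subgroup.mem_inf.1 hg).1 hp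
      (MulAction.mem_stabilizer_iff.1 (Subgroup.mem_inf.1 (Subgroup.mem_inf.1 hg).2).2)
  have hdec : ∀ g ∈ S o, ∃ e ∈ E o, e⁻¹ * g ∈ K := by
    intro g hg
    have hgo : g p ∉ o := fun h => hp (by
      have hs := MulAction.mem_stabilizer_iff.1 (Subgroup.mem_inf.1 hg).2
      rw [← hs, ← Equiv.Perm.smul_def, Finset.smul_mem_smul_finset_iff] at h
      exact h)
    obtain ⟨e, he, hep⟩ := trans ho hp hgo
    refine ⟨e, he, Subgroup.mem_inf.2 ⟨mul_mem (inv_mem (E_le_S he)) hg, MulAction.mem_stabilizer_iff.2 ?_⟩⟩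
    rw [Equiv.Perm.smul_def, Equiv.Perm.mul_apply, ← hep, Equiv.Perm.inv_def, Equiv.symm_apply_apply]
  refine ⟨hbot, le_antisymm (sup_le E_le_S hK) fun g hg => ?_, ?_⟩
  · obtain ⟨e, he, hk⟩ := hdec g hg
    rw [show g = e * (e⁻¹ * g) by group]
    exact Subgroup.mul_mem_sup he hk
  · have hcard : Nat.card K = 20160 := by
      let m : E o × K → S o := fun x => ⟨x.1 * x.2, mul_mem (E_le_S x.1.2) (hK x.2.2)⟩
      have hm : Function.Bijective m := by
        refine ⟨fun a b h => ?_, fun g => ?_⟩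
        · have h' : (a.1 : Equiv.Perm GolayPt) * a.2 = b.1 * b.2 := congrArg Subtype.val h
          have h1 : (b.1 : Equiv.Perm GolayPt)⁻¹ * a.1 = 1 := by
            rw [← Subgroup.mem_bot, ← hbot]
            refine Subgroup.mem_inf.2 ⟨mul_mem (inv_mem b.1.2) a.1.2, ?_⟩
            rw [show (b.1 : Equiv.Perm GolayPt)⁻¹ * a.1 = b.2 * (a.2 : Equiv.Perm GolayPt)⁻¹ by
              rw [inv_mul_eq_iff_eq_mul, ← mul_assoc, ← h']; group]
            exact mul_mem b.2.2 (inv_mem a.2.2)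
          have h2 : (a.1 : Equiv.Perm GolayPt) = b.1 := (inv_mul_eq_one.1 h1).symm
          rw [h2] at h'
          exact Prod.ext (Subtype.ext h2) (Subtype.ext (mul_left_cancel h'))
        · obtain ⟨e, he, hk⟩ := hdec g g.2
          exact ⟨(⟨e, he⟩, ⟨_, hk⟩), Subtype.ext (mul_inv_cancel_left e g)⟩
      have h := Nat.card_eq_of_bijective m hm
      rw [Nat.card_prod, (octad_pointwise ho).1, card_S ho] at h
      omega
    have hst : ∀ k ∈ K, ∀ x, k x ∈ o ↔ x ∈ o := fun k hk x => by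
      have hs := MulAction.mem_stabilizer_iff.1 (Subgroup.mem_inf.1 (hK hk)).2
      conv_lhs => rw [← hs, ← Equiv.Perm.smul_def, Finset.smul_mem_smul_finset_iff]
    let φ : K →* Equiv.Perm {x // x ∈ o} :=
      MonoidHom.mk' (fun k => (k : Equiv.Perm GolayPt).subtypePerm fun x => hst k k.2 x)
        (fun a b => Equiv.ext fun x => rfl)
    have hinj : Function.Injective φ := by
      rw [injective_iff_map_eq_one]
      intro k hk
      refine Subtype.ext ?_
      rw [OneMemClass.coe_one, ← Subgroup.mem_bot, ← hbot]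
      refine Subgroup.mem_inf.2 ⟨Subgroup.mem_inf.2 ⟨(Subgroup.mem_inf.1 (hK k.2)).1,
        (mem_fixingSubgroup_iff _).2 fun q hq => ?_⟩, k.2⟩
      exact congrArg Subtype.val (Equiv.ext_iff.1 hk ⟨q, hq⟩)
    have hidx : φ.range.index = 2 := by
      have h := Subgroup.index_mul_card φ.range
      rw [← Nat.card_congr (MonoidHom.ofInjective hinj).toEquiv, hcard, Nat.card_perm,
        Nat.card_eq_fintype_card, Fintype.card_coe, ho.2] at h
      have : Nat.factorial 8 = 40320 := by decide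
      omega
    have e : {x // x ∈ o} ≃ Fin 8 := Fintype.equivFinOfCardEq (by rw [Fintype.card_coe, ho.2])
    exact ⟨((MonoidHom.ofInjective hinj).trans
      (MulEquiv.subgroupCongr (Equiv.Perm.eq_alternatingGroup_of_index_eq_two hidx))).trans
      (Equiv.altCongrHom e)⟩

end Cfsg.Agent.S1554
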