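import Cfsg.Statements.S1557
import Cfsg.Agent.Lib.Golay.Systems.Families
-- import your own Cfsg.Agent.* helpers here

set_option autoImplicit false
open scoped Pointwise
open Cfsg

namespace Cfsg.Agent.S1557

/-- The complement of the union of two disjoint octads is an octad, and the code has exactly 3795 trios of pairwise disjoint octads. -/
theorem result : (∀ o o' : Finset Cfsg.GolayPt, o ∈ Cfsg.octads → o' ∈ Cfsg.octads → Disjoint o o' → (o ∪ o')ᶜ ∈ Cfsg.octads) ∧ Cfsg.trios.ncard = 3795 := by
  refine ⟨fun o o' ho ho' hd => ?_, ?_⟩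
  · have h : o ∪ o' = symmDiff o o' := by
      rw [Disjoint.symmDiff_eq_sup hd]; rfl
    refine ⟨CfsgLib.Golay.compl_mem_supports (h ▸ CfsgLib.Golay.symmDiff_mem_supports ho.1 ho'.1), ?_⟩
    rw [Finset.card_compl, Finset.card_union_of_disjoint hd, ho.2, ho'.2]
    decide +kernel
  · refine CfsgLib.Golay.trioFam.ncard_sets.trans ?_
    show CfsgLib.Golay.trioTree.objs.length = 3795
    decide +kernel

end Cfsg.Agent.S1557
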