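import Cfsg.Statements.S1570
import Cfsg.Agent.Lib.Leech.Co0
-- import your own Cfsg.Agent.* helpers here

set_option autoImplicit false
open Cfsg

namespace Cfsg.Agent.S1570

/-- Every congruence class of the lattice modulo twice the lattice contains a vector of customary norm at most 8. -/
theorem result (x : Cfsg.GolayPt → ℤ) (hx : x ∈ Cfsg.leechLattice) : ∃ y ∈ Cfsg.leechLattice, Cfsg.sqNorm y ≤ 64 ∧ ∃ z ∈ Cfsg.leechLattice, x - y = 2 • z := by
  obtain ⟨t, ht, hT⟩ := CfsgLib.Leech.exists_typ ⟨x, hx⟩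
  obtain ⟨w, hw, hk⟩ := hT.exists_vec ht
  exact ⟨w, w.2, hw.trans_le (CfsgLib.Leech.typeNorm_le ht),
    (CfsgLib.Leech.key_eq_iff hx w.2).1 hk.symm⟩

end Cfsg.Agent.S1570
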