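import Cfsg.Statements.S1587
import Mathlib

set_option autoImplicit false
set_option linter.style.haveILetI false
open Matrix
open Cfsg

namespace Cfsg.Agent.S1587

/-- First step of the characterisation of the rank-24 lattice: in an even lattice without roots, norm-8 vectors congruent modulo 2 are equal, opposite or orthogonal. -/
theorem result (B : Matrix (Fin 24) (Fin 24) ℤ) (hsymm : B.IsSymm) (hpos : ∀ x : Fin 24 → ℤ, x ≠ 0 → 0 < x ⬝ᵥ (B *ᵥ x)) (heven : ∀ x : Fin 24 → ℤ, (2 : ℤ) ∣ x ⬝ᵥ (B *ᵥ x)) (h2 : ∀ x : Fin 24 → ℤ, x ⬝ᵥ (B *ᵥ x) ≠ 2) (x y : Fin 24 → ℤ) (hx : x ⬝ᵥ (B *ᵥ x) = 8) (hy : y ⬝ᵥ (B *ᵥ y) = 8) (hc : ∀ i, (2 : ℤ) ∣ (x - y) i) : y = x ∨ y = -x ∨ x ⬝ᵥ (B *ᵥ y) = 0 := by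
  obtain ⟨w, hw⟩ : ∃ w : Fin 24 → ℤ, x - y = (2 : ℤ) • w := by
    choose w hw using hc
    exact ⟨w, funext fun i => by rw [Pi.smul_apply, hw, smul_eq_mul]⟩
  have hx' : x = y + (2 : ℤ) • w := by rw [← hw, add_sub_cancel]
  subst hx'
  set q := fun u v : Fin 24 → ℤ => u ⬝ᵥ (B *ᵥ v) with hq
  have hsy : ∀ u v, q u v = q v u := fun u v => by
    simp only [hq]
    rw [Matrix.dotProduct_mulVec, ← Matrix.mulVec_transpose, hsymm.eq, dotProduct_comm]
  have e1 : q (y + (2:ℤ) • w) (y + (2:ℤ) • w) = q y y + 4 * q y w + 4 * q w w := by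
    have := hsy w y
    simp only [hq, Matrix.mulVec_add, Matrix.mulVec_smul, add_dotProduct, dotProduct_add,
      smul_dotProduct, dotProduct_smul, smul_eq_mul] at this ⊢
    linarith
  have e2 : q (y + w) (y + w) = q y y + 2 * q y w + q w w := by
    have := hsy w y
    simp only [hq, Matrix.mulVec_add, add_dotProduct, dotProduct_add] at this ⊢
    linarith
  have e3 : (y + (2:ℤ) • w) ⬝ᵥ (B *ᵥ y) = q y y + 2 * q y w := by
    have := hsy w y
    simp only [hq, add_dotProduct, smul_dotProduct, smul_eq_mul] at this ⊢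
    linarith
  have hzero : ∀ u, q u u = 0 → u = 0 := fun u hu => by
    by_contra h
    exact (hpos u h).ne' hu
  have hnn : ∀ u, 0 ≤ q u u := fun u => by
    by_cases h : u = 0
    · simp [hq, h]
    · exact (hpos u h).le
  have hx8 : q (y + (2:ℤ) • w) (y + (2:ℤ) • w) = 8 := hx
  have hy8 : q y y = 8 := hy
  obtain ⟨a, ha⟩ := heven w
  obtain ⟨b, hb⟩ := heven (y + w)
  have ha' : q w w = 2 * a := ha
  have hb' : q (y + w) (y + w) = 2 * b := hb
  have ha1 : q w w ≠ 2 := h2 w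
  have hb1 : q (y + w) (y + w) ≠ 2 := h2 (y + w)
  have hwn := hnn w
  have hwn' := hnn (y + w)
  rcases eq_or_ne (q w w) 0 with h | h
  · left
    rw [hzero w h, smul_zero, add_zero]
  rcases eq_or_ne (q (y + w) (y + w)) 0 with h' | h'
  · right; left
    have h0 := hzero _ h'
    rw [eq_neg_of_add_eq_zero_right h0]
    module
  · right; right
    rw [e3]
    omega

end Cfsg.Agent.S1587
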