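import Cfsg.Statements.S1599
import Cfsg.Agent.Lib.Golay.Systems.Quartets
-- import your own Cfsg.Agent.* helpers here

set_option autoImplicit false
open scoped Pointwise
open Cfsg

namespace Cfsg.Agent.S1599

/-- A quartet stabiliser has five orbits on the quartets of its dodecad, of sizes 1, 12, 27, 72, 108. -/
theorem result (d : Finset Cfsg.GolayPt) (hd : d ∈ Cfsg.dodecads) (Q : Finset (Finset Cfsg.GolayPt)) (hQ : Q ∈ Cfsg.quartets d) : ∃ X₁ ∈ Cfsg.quartets d, ∃ X₂ ∈ Cfsg.quartets d, ∃ X₃ ∈ Cfsg.quartets d, ∃ X₄ ∈ Cfsg.quartets d, (MulAction.orbit ↥(MulAction.stabilizer Cfsg.M24 d ⊓ MulAction.stabilizer Cfsg.M24 Q) X₁).ncard = 12 ∧ (MulAction.orbit ↥(MulAction.stabilizer Cfsg.M24 d ⊓ MulAction.stabilizer Cfsg.M24 Q) X₂).ncard = 27 ∧ (MulAction.orbit ↥(MulAction.stabilizer Cfsg.M24 d ⊓ MulAction.stabilizer Cfsg.M24 Q) X₃).ncard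 = 72 ∧ (MulAction.orbit ↥(MulAction.stabilizer Cfsg.M24 d ⊓ MulAction.stabilizer Cfsg.M24 Q) X₄).ncard = 108 ∧ Cfsg.quartets d = {Q} ∪ MulAction.orbit ↥(MulAction.stabilizer Cfsg.M24 d ⊓ MulAction.stabilizer Cfsg.M24 Q) X₁ ∪ MulAction.orbit ↥(MulAction.stabilizer Cfsg.M24 d ⊓ MulAction.stabilizer Cfsg.M24 Q) X₂ ∪ MulAction.orbit ↥(MulAction.stabilizer Cfsg.M24 d ⊓ MulAction.stabilizer Cfsg.M24 Q) X₃ ∪ MulAction.orbit ↥(MulAction.stabilizer Cfsg.M24 d ⊓ MulAction.stabilizer Cfsg.M24 Q) X₄ := by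
  obtain ⟨g, hg, rfl, rfl, -, n2, n3, n4, n5, hU, h1⟩ := CfsgLib.Golay.quartet_stabilizer_orbits hd hQ
  obtain ⟨-, -, w2, w3, w4, w5⟩ := CfsgLib.Golay.qq_walks
  obtain ⟨X₁, hX₁⟩ := Set.nonempty_of_ncard_ne_zero (n2.trans_ne (by norm_num))
  obtain ⟨X₂, hX₂⟩ := Set.nonempty_of_ncard_ne_zero (n3.trans_ne (by norm_num))
  obtain ⟨X₃, hX₃⟩ := Set.nonempty_of_ncard_ne_zero (n4.trans_ne (by norm_num))
  obtain ⟨X₄, hX₄⟩ := Set.nonempty_of_ncard_ne_zero (n5.trans_ne (by norm_num))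
  refine ⟨X₁, hX₁.1, X₂, hX₂.1, X₃, hX₃.1, X₄, hX₄.1, ?_⟩
  rw [CfsgLib.Golay.orbit_qClass hg w2 hX₁, CfsgLib.Golay.orbit_qClass hg w3 hX₂,
    CfsgLib.Golay.orbit_qClass hg w4 hX₃, CfsgLib.Golay.orbit_qClass hg w5 hX₄, hU, h1]
  exact ⟨n2, n3, n4, n5, rfl⟩

end Cfsg.Agent.S1599
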