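import Cfsg.Statements.S1601
import Cfsg.Agent.Lib.Golay.MathieuFacts
import Cfsg.Agent.S0498
-- import your own Cfsg.Agent.* helpers here

set_option autoImplicit false
open scoped Pointwise
open Cfsg

namespace Cfsg.Agent.S1601

open CfsgLib.Golay
open scoped Pointwise

/-- two fixed points, one in each dodecad -/
def FL : ℕ := F23 ||| 2 ^ 6

/-- an element of order eleven fixing them -/
def eltL : ℕ := 968914088593904568557496005381098895

def domL : List (ℕ × ℕ) :=
  [(0, 0), (0, 7), (0, 5), (0, 6), (0, 9), (0, 10), (1, 0), (2, 0), (2, 8), (0, 3), (2, 3), (0, 2),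
   (0, 8), (2, 7), (2, 5), (0, 1), (0, 4), (2, 1), (2, 10), (2, 4), (2, 9), (2, 6), (2, 2), (3, 0)]

theorem levs_chk : levs11.all (fun L => L.gens.all fun P => validP P && fixes P F23) = true := by
  decide +kernel

theorem natCard_L : Nat.card (fixH H12 FL) = 660 := by
  have h := card_chain (H := fixH H12 F23) [levs11.getD 0 ⟨0, [], []⟩] F23
    (carries_sub (Ls := levs11) (fun _ h => List.take_subset 1 levs11 h) (carries_fix levs11 carries11 levs_chk))
    (by decide +kernel)
  rw [show chainBot F23 [levs11.getD 0 ⟨0, [], []⟩] = FL by decide +kernel,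
    show chainProd F23 [levs11.getD 0 ⟨0, [], []⟩] = 12 by decide +kernel] at h
  have e1 : fixH (fixH H12 F23) F23 = fixH H12 F23 := by
    ext g; simp only [mem_fixH]; exact ⟨fun h => h.1, fun h => ⟨h, h.2⟩⟩
  have e2 : fixH (fixH H12 F23) FL = fixH H12 FL := by
    ext g
    simp only [mem_fixH]
    exact ⟨fun h => ⟨h.1.1, h.2⟩, fun h => ⟨⟨h.1, fun p hp => h.2 p (mem_dec_or.2 (Or.inl hp))⟩, h.2⟩⟩
  rw [e1, e2, natCard_fix11] at h
  omega

/-- the moved points of the complementary dodecad -/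
def AL : ℕ := (dod0 ^^^ fullMask) ^^^ 2 ^ 6

theorem compl_eq : dec (dod0 ^^^ fullMask) = (dec dod0)ᶜ := by
  ext p
  rw [Finset.mem_compl, mem_dec, mem_dec, Nat.testBit_xor, testBit_fullMask]
  simp [idx_lt]

theorem twoTransL : TwoTrans (fixH H12 FL) (dec AL) :=
  twoTrans_of_chain (L := levs11.getD 1 ⟨0, [], []⟩) (M := levs11.getD 2 ⟨0, [], []⟩)
    (extra := [dod0])
    (carries_sub (Ls := levs11) (fun _ h => List.drop_subset 1 levs11 (List.take_subset 2 _ h)) carries11)
    (by decide +kernel) (by decide +kernel) (by decide +kernel) (by decide +kernel)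
    (fun g hg => by
      obtain ⟨hgH, hgF⟩ := mem_fixH.1 hg
      have hd : g • dec dod0 = dec dod0 := (mem_H12_iff.1 hgH).2
      have hA : dec AL = (dec dod0)ᶜ.erase (pt 6) := by decide +kernel
      have hc : g • (dec dod0)ᶜ = (dec dod0)ᶜ := by
        rw [Finset.compl_eq_univ_sdiff, Finset.smul_finset_sdiff, hd, Finset.smul_finset_univ]
      have h6 : g • pt 6 = pt 6 := hgF _ (by rw [mem_dec]; decide +kernel)
      rw [hA, Finset.erase_eq, Finset.smul_finset_sdiff, hc, Finset.smul_finset_singleton, h6])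
    (fun g hg h => by
      obtain ⟨hgH, hgF⟩ := mem_fixH.1 hg
      obtain ⟨hgM, hd⟩ := mem_H12_iff.1 hgH
      have hdc : (dec dod0)ᶜ ∈ dodecads :=
        ⟨compl_mem_supports dod0_mem.1, by rw [Finset.card_compl, dod0_mem.2]; rfl⟩
      obtain ⟨x⟩ : Nonempty (Fin 5 ↪ {p // p ∈ (dec dod0)ᶜ}) :=
        Function.Embedding.nonempty_of_card_le (by
          rw [Fintype.card_fin, Fintype.card_coe, hdc.2]; norm_num)
      let x' : Fin 5 ↪ GolayPt := x.trans (Function.Embedding.subtype _)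
      obtain ⟨_, -, huniq⟩ := sharply_five hdc x' x' (fun i => (x i).2) (fun i => (x i).2)
      have hfix : ∀ p ∈ (dec dod0)ᶜ, g p = p := fun p hp => by
        by_cases h6 : p ∈ dec FL
        · exact hgF p h6
        · refine h p ?_
          revert h6 hp
          revert p
          decide +kernel
      have hst : (⟨g, hgM⟩ : M24) ∈ MulAction.stabilizer M24 (dec dod0)ᶜ := by
        rw [mem_stab_set]
        show g • (dec dod0)ᶜ = _
        rw [Finset.compl_eq_univ_sdiff, Finset.smul_finset_sdiff, hd, Finset.smul_finset_univ]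
      have h1 := huniq ⟨_, hst⟩ fun i => hfix _ (x i).2
      have h2 := huniq 1 fun i => rfl
      exact congrArg (fun z : MulAction.stabilizer M24 (dec dod0)ᶜ => ((z : M24) : Equiv.Perm GolayPt))
        (h1.trans h2.symm))

theorem isSimpleGroup_L : IsSimpleGroup (fixH H12 FL) := by
  have hx : toPerm eltL ∈ fixH H12 FL :=
    mem_fixH.2 ⟨toPerm_mem_H12 (by decide +kernel) (by decide +kernel),
      fun p hp => fixes_apply (by decide +kernel) (by decide +kernel) hp⟩
  obtain ⟨h, hinv⟩ := selfCent_of_conjOK (p := 11) (reps := [0, 6, 7, 23]) (dom := domL)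
    (inv := [dod0]) (by norm_num) inf_le_left
    (fun o ho => ⟨by rw [List.mem_singleton.1 ho]; decide +kernel, H12_pres o ho⟩)
    hx (by decide +kernel) (by decide +kernel) (by decide +kernel) (by decide +kernel)
  refine CfsgLib.SimpleCrit.isSimpleGroup_of_selfCent (q := 5) h (by norm_num) rfl hinv
    (fun N hN hne => ?_) (by rw [natCard_L]; norm_num)
  have := twoTransL.card_dvd hN hne
  rwa [card_dec_eq_pop, show pop 24 AL = 11 by decide +kernel] at this

/-- In the 3-transitive action of the smallest Mathieu group on the complementary dodecad, a point stabiliser is isomorphic to PSL(2, 11). -/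
theorem result (d : Finset Cfsg.GolayPt) (hd : d ∈ Cfsg.dodecads) (p q : Cfsg.GolayPt) (hp : p ∈ d) (hq : q ∉ d) : Nonempty (↥(MulAction.stabilizer Cfsg.M24 d ⊓ MulAction.stabilizer Cfsg.M24 p ⊓ MulAction.stabilizer Cfsg.M24 q) ≃* Matrix.ProjectiveSpecialLinearGroup (Fin 2) (ZMod 11)) := by
  classical
  obtain ⟨g, hg, rfl, rfl⟩ := exists_smul_dod0_point hd hp
  have hq0 : g.symm q ∉ dec dod0 := fun h => hq (Finset.inv_smul_mem_iff.1 h)
  have hout : ∀ r : GolayPt, r ∉ dec dod0 → ∀ i : Fin 3, ∃ e : Fin 3 ↪ GolayPt,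
      e i = r ∧ ∀ j, e j ∉ dec dod0 := by
    intro r hr i
    obtain ⟨f⟩ : Nonempty (Fin 3 ↪ {p // p ∈ (dec dod0)ᶜ}) :=
      Function.Embedding.nonempty_of_card_le (by
        rw [Fintype.card_fin, Fintype.card_coe, Finset.card_compl, dod0_mem.2]; decide)
    let f' := f.trans (Equiv.swap (f i) ⟨r, Finset.mem_compl.2 hr⟩).toEmbedding
    refine ⟨f'.trans (Function.Embedding.subtype _), ?_, fun j => Finset.mem_compl.1 (f' j).2⟩
    show ((Equiv.swap (f i) ⟨r, _⟩ (f i) : {p // p ∈ (dec dod0)ᶜ}) : GolayPt) = r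
    rw [Equiv.swap_apply_left]
  obtain ⟨e1, he1, he1'⟩ := hout (pt 6) (by rw [mem_dec]; decide +kernel) 0
  obtain ⟨e2, he2, he2'⟩ := hout _ hq0 0
  obtain ⟨k, hk, hke⟩ := three_transitive dod0_mem (p := pt 23) (by rw [mem_dec]; decide +kernel)
    e1 e2 he1' he2'
  have hk6 : ((k : M24) : Equiv.Perm GolayPt) (pt 6) = g.symm q := by rw [← he1, hke 0, he2]
  obtain ⟨hkd, hk23⟩ := Subgroup.mem_inf.1 hk
  rw [mem_stab_set] at hkd
  rw [mem_stab_point] at hk23
  set c := g * ((k : M24) : Equiv.Perm GolayPt) with hc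
  have hcM : c ∈ M24 := mul_mem hg k.2
  have hc23 : c (pt 23) = g (pt 23) := by rw [hc, Equiv.Perm.mul_apply, hk23]
  have hc6 : c (pt 6) = q := by rw [hc, Equiv.Perm.mul_apply, hk6, Equiv.apply_symm_apply]
  have hcd : c • dec dod0 = g • dec dod0 := by rw [hc, mul_smul, hkd]
  have hF : ∀ {h : Equiv.Perm GolayPt}, (∀ x ∈ dec FL, h x = x) ↔
      h (pt 23) = pt 23 ∧ h (pt 6) = pt 6 := by
    intro h
    rw [show dec FL = {pt 23, pt 6} by decide +kernel]
    simp
  let e := conjEquiv (K := fixH H12 FL) (fun x hx => (mem_H12_iff.1 (mem_fixH.1 hx).1).1)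
    (MulAction.stabilizer M24 (g • dec dod0) ⊓ MulAction.stabilizer M24 (g (pt 23)) ⊓
      MulAction.stabilizer M24 q) hcM (fun x => by
      rw [mem_fixH, mem_H12_iff, hF, Subgroup.mem_inf, Subgroup.mem_inf,
        mem_stab_set, mem_stab_point, mem_stab_point]
      have hM : c⁻¹ * (x : Equiv.Perm GolayPt) * c ∈ M24 := mul_mem (mul_mem (inv_mem hcM) x.2) hcM
      rw [conj_apply_eq_iff hc23, conj_apply_eq_iff hc6, conj_smul_eq_iff hcd]
      exact ⟨fun h => ⟨⟨hM, h.1.1⟩, h.1.2, h.2⟩, fun h => ⟨⟨h.1.2, h.2.1⟩, h.2.2⟩⟩)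
  haveI := isSimpleGroup_L
  haveI : Fact (Nat.Prime 11) := ⟨by norm_num⟩
  obtain ⟨f⟩ := Cfsg.Agent.S0498.result (G := fixH H12 FL) 11 (Or.inl rfl) (by rw [natCard_L]; norm_num)
    (F := ZMod 11) (ZMod.card 11)
  exact ⟨e.trans f⟩

end Cfsg.Agent.S1601
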