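import Cfsg.Statements.S1602
import Cfsg.Agent.Lib.Golay.MathieuFacts
import Cfsg.Agent.Lib.Golay.OrbitFacts
-- import your own Cfsg.Agent.* helpers here

set_option autoImplicit false
open scoped Pointwise
open Cfsg

namespace Cfsg.Agent.S1602

open CfsgLib.Golay
open scoped Pointwise

/-- the five octads attached to the base pair -/
def X0 : List ℕ := [10232008, 8798658, 13108704, 10513600, 15864000]

theorem x0_ok : (octList.filter fun m => m.testBit 23 && m.testBit 6 && m.testBit 7 &&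
      pop 24 (m &&& dod0) == 2).Perm X0 ∧ X0.Nodup ∧ (∀ m ∈ X0, m < 2 ^ 24) ∧
    ∀ i ∈ [8, 10, 13, 14, 17], atom F23 ((dod0) :: X0) i = 2 ^ i ∧ dod0.testBit i = false ∧ i < 24 := by
  decide +kernel

theorem eq_one_of_fix {g : Equiv.Perm GolayPt} (hg : g ∈ M24) (hd : g • dec dod0 = dec dod0)
    (h23 : g (pt 23) = pt 23) (hX : ∀ m ∈ X0, g • dec m = dec m) : g = 1 := by
  obtain ⟨-, -, -, hat⟩ := x0_ok
  have hdc : (dec dod0)ᶜ ∈ dodecads :=
    ⟨compl_mem_supports dod0_mem.1, by rw [Finset.card_compl, dod0_mem.2]; rfl⟩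
  have hfix : ∀ i ∈ [8, 10, 13, 14, 17], g (pt i) = pt i := fun i hi => by
    obtain ⟨hai, -, hi24⟩ := hat i hi
    have h := mem_atom (F := F23) (g := g) (fun p hp => by
      rw [(mem_dec_two_pow (by norm_num)).1 hp, h23]) (dod0 :: X0) (fun o ho => by
      rcases List.mem_cons.1 ho with rfl | ho
      · exact hd
      · exact hX o ho) (p := pt i) (by
      intro hc
      have := (mem_dec_two_pow (by norm_num)).1 hc
      have h' := congrArg idx this
      rw [idx_pt i hi24, idx_pt 23 (by norm_num)] at h'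
      subst h'
      simp at hi)
    rw [idx_pt i hi24, hai] at h
    exact (mem_dec_two_pow hi24).1 h
  let x : Fin 5 ↪ GolayPt := ⟨fun j => pt ([8, 10, 13, 14, 17].getD j.val 0), by decide +kernel⟩
  have hx : ∀ j, x j ∈ (dec dod0)ᶜ := by decide +kernel
  obtain ⟨_, -, huniq⟩ := sharply_five hdc x x hx hx
  have hst : (⟨g, hg⟩ : M24) ∈ MulAction.stabilizer M24 (dec dod0)ᶜ := by
    rw [mem_stab_set]
    show g • (dec dod0)ᶜ = _
    rw [Finset.compl_eq_univ_sdiff, Finset.smul_finset_sdiff, hd, Finset.smul_finset_univ]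
  have hxg : ∀ j : Fin 5, g (x j) = x j := fun j => hfix _ (by
    show [8, 10, 13, 14, 17].getD j.val 0 ∈ [8, 10, 13, 14, 17]
    rw [List.getD_eq_getElem _ _ (by exact j.2)]
    exact List.getElem_mem _)
  have h1 := huniq ⟨_, hst⟩ hxg
  have h2 := huniq 1 fun i => rfl
  exact congrArg (fun z : MulAction.stabilizer M24 (dec dod0)ᶜ => ((z : M24) : Equiv.Perm GolayPt))
    (h1.trans h2.symm)

/-- the five octads attached to a pair -/
def X (d : Finset GolayPt) (p q q' : GolayPt) : Set (Finset GolayPt) :=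
  {o | o ∈ octads ∧ p ∈ o ∧ {q, q'} ⊆ o ∧ (o ∩ d).card = 2}

theorem X_base : X (dec dod0) (pt 23) (pt 6) (pt 7) = {o | ∃ m ∈ X0, dec m = o} := by
  obtain ⟨hperm, -⟩ := x0_ok
  ext o
  simp only [X, Set.mem_ofPred_eq, Finset.insert_subset_iff, Finset.singleton_subset_iff]
  have h : ∀ m, m ∈ X0 ↔ (m ∈ octList ∧ pt 23 ∈ dec m ∧ (pt 6 ∈ dec m ∧ pt 7 ∈ dec m) ∧
      (dec m ∩ dec dod0).card = 2) := fun m => by
    rw [← hperm.mem_iff, List.mem_filter, mem_dec_iff (by norm_num), mem_dec_iff (by norm_num),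
      mem_dec_iff (by norm_num), card_inter_dec]
    simp [and_assoc]
  constructor
  · rintro ⟨ho, h23, h67, hc⟩
    obtain ⟨m, hm, rfl⟩ := mem_octads.1 ho
    exact ⟨m, (h m).2 ⟨hm, h23, h67, hc⟩, rfl⟩
  · rintro ⟨m, hm, rfl⟩
    obtain ⟨hm, h23, h67, hc⟩ := (h m).1 hm
    exact ⟨mem_octads.2 ⟨m, hm, rfl⟩, h23, h67, hc⟩

theorem X_smul {g : Equiv.Perm GolayPt} (hg : g ∈ M24) {d : Finset GolayPt} {p q q' : GolayPt}
    {o : Finset GolayPt} (ho : o ∈ X d p q q') {d' : Finset GolayPt} {p' r r' : GolayPt}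
    (hd : g • d = d') (hp : g p = p') (hs : g • ({q, q'} : Finset GolayPt) = {r, r'}) :
    g • o ∈ X d' p' r r' := by
  subst hd hp
  refine ⟨smul_mem_octads hg ho.1, Finset.smul_mem_smul_finset (a := g) ho.2.1, ?_, ?_⟩
  · rw [← hs]; exact Finset.smul_finset_subset_smul_finset ho.2.2.1
  · rw [← Finset.smul_finset_inter, Finset.card_smul_finset, ho.2.2.2]

/-- In the 12-point action of the smallest Mathieu group the setwise stabiliser of a pair is isomorphic to the symmetric group of degree 5. -/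
theorem result (d : Finset Cfsg.GolayPt) (hd : d ∈ Cfsg.dodecads) (p q q' : Cfsg.GolayPt) (hp : p ∈ d) (hq : q ∉ d) (hq' : q' ∉ d) (hqq' : q ≠ q') : Nonempty (↥(MulAction.stabilizer Cfsg.M24 d ⊓ MulAction.stabilizer Cfsg.M24 p ⊓ MulAction.stabilizer Cfsg.M24 ({q, q'} : Finset Cfsg.GolayPt)) ≃* Equiv.Perm (Fin 5)) := by
  classical
  set M := MulAction.stabilizer M24 d ⊓ MulAction.stabilizer M24 p with hM
  have hdc : dᶜ.card = 12 := by rw [Finset.card_compl, hd.2]; rfl
  have htrans : ∀ u v : GolayPt, u ∉ d → v ∉ d → u ≠ v → ∀ u' v' : GolayPt, u' ∉ d → v' ∉ d → u' ≠ v' →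
      ∃ g ∈ M, (g : Equiv.Perm GolayPt) u = u' ∧ (g : Equiv.Perm GolayPt) v = v' := by
    have hext : ∀ u v : GolayPt, u ∉ d → v ∉ d → u ≠ v →
        ∃ e : Fin 3 ↪ GolayPt, e 0 = u ∧ e 1 = v ∧ ∀ j, e j ∉ d := by
      intro u v hu hv huv
      obtain ⟨w, hw, hwu, hwv⟩ : ∃ w ∈ dᶜ, w ≠ u ∧ w ≠ v := by
        obtain ⟨w, hw⟩ : (dᶜ \ {u, v}).Nonempty := by
          rw [← Finset.card_pos]
          have := Finset.le_card_sdiff {u, v} dᶜ
          have : ({u, v} : Finset GolayPt).card ≤ 2 := Finset.card_le_two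
          omega
        simp only [Finset.mem_sdiff, Finset.mem_insert, Finset.mem_singleton, not_or] at hw
        exact ⟨w, hw.1, hw.2.1, hw.2.2⟩
      refine ⟨⟨![u, v, w], ?_⟩, rfl, rfl, fun j => ?_⟩
      · intro i j h
        fin_cases i <;> fin_cases j <;> simp [huv, huv.symm, hwu, hwu.symm, hwv, hwv.symm] at h ⊢
      · fin_cases j
        · exact hu
        · exact hv
        · exact Finset.mem_compl.1 hw
    intro u v hu hv huv u' v' hu' hv' huv'
    obtain ⟨e, e0, e1, he⟩ := hext u v hu hv huv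
    obtain ⟨e', e0', e1', he'⟩ := hext u' v' hu' hv' huv'
    obtain ⟨g, hg, hge⟩ := three_transitive hd hp e e' he he'
    exact ⟨g, hg, by rw [← e0, hge, e0'], by rw [← e1, hge, e1']⟩
  set L := MulAction.stabilizer M24 d ⊓ MulAction.stabilizer M24 p ⊓
    MulAction.stabilizer M24 ({q, q'} : Finset GolayPt) with hL
  have hcard : Nat.card L = 120 := by
    have horb : MulAction.orbit M ({q, q'} : Finset GolayPt) = (dᶜ.powersetCard 2 : Finset _) := by
      ext s
      rw [Finset.mem_coe, Finset.mem_powersetCard]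
      constructor
      · rintro ⟨⟨g, hg⟩, rfl⟩
        have hgd : (g : Equiv.Perm GolayPt) • d = d := (Subgroup.mem_inf.1 hg).1
        show (g : Equiv.Perm GolayPt) • ({q, q'} : Finset GolayPt) ⊆ dᶜ ∧ _
        refine ⟨?_, ?_⟩
        · intro x hx
          obtain ⟨y, hy, rfl⟩ := Finset.mem_smul_finset.1 hx
          rw [Finset.mem_compl, ← hgd, Finset.smul_mem_smul_finset_iff]
          rcases Finset.mem_insert.1 hy with rfl | hy
          · exact hq
          · rw [Finset.mem_singleton.1 hy]; exact hq'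
        · show ((g : Equiv.Perm GolayPt) • ({q, q'} : Finset GolayPt)).card = 2
          rw [Finset.card_smul_finset, Finset.card_pair hqq']
      · rintro ⟨hs, hs2⟩
        obtain ⟨u, v, huv, rfl⟩ := Finset.card_eq_two.1 hs2
        obtain ⟨g, hg, h1, h2⟩ := htrans q q' hq hq' hqq' u v
          (Finset.mem_compl.1 (hs (by simp))) (Finset.mem_compl.1 (hs (by simp))) huv
        refine ⟨⟨g, hg⟩, ?_⟩
        show (g : Equiv.Perm GolayPt) • ({q, q'} : Finset GolayPt) = _
        rw [Finset.smul_finset_insert, Finset.smul_finset_singleton, Equiv.Perm.smul_def,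
          Equiv.Perm.smul_def, h1, h2]
    have h := Subgroup.index_mul_card (MulAction.stabilizer M ({q, q'} : Finset GolayPt))
    rw [MulAction.index_stabilizer, horb, Set.ncard_coe_finset, Finset.card_powersetCard, hdc,
      natCard_stab_dodecad_point hd hp] at h
    have e : MulAction.stabilizer M ({q, q'} : Finset GolayPt) ≃ L :=
      { toFun := fun g => ⟨(g : M), Subgroup.mem_inf.2 ⟨(g : M).2, g.2⟩⟩
        invFun := fun g => ⟨⟨g, (Subgroup.mem_inf.1 g.2).1⟩, (Subgroup.mem_inf.1 g.2).2⟩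
        left_inv := fun _ => rfl
        right_inv := fun _ => rfl }
    rw [Nat.card_congr e, show Nat.choose 12 2 = 66 by decide] at h
    omega
  obtain ⟨g, hg, hgd, hgp⟩ := exists_smul_dod0_point hd hp
  have h6 : g (pt 6) ∉ d ∧ g (pt 7) ∉ d ∧ g (pt 6) ≠ g (pt 7) := by
    subst hgd
    refine ⟨?_, ?_, fun h => ?_⟩
    · rw [← Equiv.Perm.smul_def, Finset.smul_mem_smul_finset_iff, mem_dec]; decide +kernel
    · rw [← Equiv.Perm.smul_def, Finset.smul_mem_smul_finset_iff, mem_dec]; decide +kernel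
    · exact absurd (congrArg idx (g.injective h)) (by decide +kernel)
  obtain ⟨k, hk, hk6, hk7⟩ := htrans _ _ h6.1 h6.2.1 h6.2.2 q q' hq hq' hqq'
  set c := (k : Equiv.Perm GolayPt) * g with hc
  have hcM : c ∈ M24 := mul_mem k.2 hg
  have hcd : c • dec dod0 = d := by rw [hc, mul_smul, hgd]; exact (Subgroup.mem_inf.1 hk).1
  have hc23 : c (pt 23) = p := by
    rw [hc, Equiv.Perm.mul_apply, hgp]; exact (Subgroup.mem_inf.1 hk).2
  have hcs : c • ({pt 6, pt 7} : Finset GolayPt) = {q, q'} := by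
    rw [Finset.smul_finset_insert, Finset.smul_finset_singleton, Equiv.Perm.smul_def,
      Equiv.Perm.smul_def, hc, Equiv.Perm.mul_apply, Equiv.Perm.mul_apply, hk6, hk7]
  have hci : c⁻¹ • d = dec dod0 ∧ c⁻¹ p = pt 23 ∧ c⁻¹ • ({q, q'} : Finset GolayPt) = {pt 6, pt 7} :=
    ⟨inv_smul_eq_iff.2 hcd.symm, Equiv.Perm.inv_eq_iff_eq.2 hc23.symm, inv_smul_eq_iff.2 hcs.symm⟩
  have hX : X d p q q' = (c • ·) '' {o | ∃ m ∈ X0, dec m = o} := by
    rw [← X_base]
    ext o
    constructor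
    · intro ho
      exact ⟨c⁻¹ • o, X_smul (inv_mem hcM) ho hci.1 hci.2.1 hci.2.2, smul_inv_smul c o⟩
    · rintro ⟨o', ho', rfl⟩
      exact X_smul hcM ho' hcd hc23 hcs
  obtain ⟨-, hnd, hlt, -⟩ := x0_ok
  have hX5 : (X d p q q').ncard = 5 := by
    rw [hX, Set.ncard_image_of_injective _ (MulAction.injective c),
      show {o : Finset GolayPt | ∃ m ∈ X0, dec m = o} = ((X0.map dec).toFinset : Set _) by ext; simp,
      Set.ncard_coe_finset, List.toFinset_card_of_nodup (hnd.map_on fun a ha b hb h =>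
        dec_inj (hlt a ha) (hlt b hb) h)]
    rfl
  have hst : ∀ g : L, ((g : M24) : Equiv.Perm GolayPt) • d = d ∧ ((g : M24) : Equiv.Perm GolayPt) p = p ∧
      ((g : M24) : Equiv.Perm GolayPt) • ({q, q'} : Finset GolayPt) = {q, q'} := fun g =>
    ⟨(Subgroup.mem_inf.1 (Subgroup.mem_inf.1 g.2).1).1, (Subgroup.mem_inf.1 (Subgroup.mem_inf.1 g.2).1).2,
      (Subgroup.mem_inf.1 g.2).2⟩
  let T := {o : Finset GolayPt // o ∈ X d p q q'}
  letI : MulAction L T :=
    { smul := fun g o => ⟨((g : M24) : Equiv.Perm GolayPt) • o.1,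
        X_smul (g : M24).2 o.2 (hst g).1 (hst g).2.1 (hst g).2.2⟩
      one_smul := fun o => Subtype.ext (one_smul _ o.1)
      mul_smul := fun a b o => Subtype.ext (mul_smul _ _ o.1) }
  let φ : L →* Equiv.Perm T := MulAction.toPermHom L T
  have hinj : Function.Injective φ := by
    rw [injective_iff_map_eq_one]
    intro g hg
    have h1 : c⁻¹ * ((g : M24) : Equiv.Perm GolayPt) * c = 1 := by
      refine eq_one_of_fix (mul_mem (mul_mem (inv_mem hcM) (g : M24).2) hcM)
        ((conj_smul_eq_iff hcd).2 (hst g).1) ((conj_apply_eq_iff hc23).2 (hst g).2.1) fun m hm => ?_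
      have hmem : c • dec m ∈ X d p q q' := by rw [hX]; exact ⟨_, ⟨m, hm, rfl⟩, rfl⟩
      exact (conj_smul_eq_iff rfl).2 (congrArg Subtype.val (Equiv.ext_iff.1 hg ⟨_, hmem⟩))
    refine Subtype.ext (Subtype.ext ?_)
    calc ((g : M24) : Equiv.Perm GolayPt) = c * (c⁻¹ * ((g : M24) : Equiv.Perm GolayPt) * c) * c⁻¹ := by group
      _ = 1 := by rw [h1]; group
  have hT : Nat.card T = 5 := (Nat.card_coe_set_eq _).trans hX5
  have hb : Function.Bijective φ := (Nat.bijective_iff_injective_and_card φ).2 ⟨hinj, by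
    rw [hcard, Nat.card_perm, hT]; rfl⟩
  exact ⟨(MulEquiv.ofBijective φ hb).trans
    (Equiv.permCongrHom ((Finite.equivFin T).trans (finCongr hT)))⟩

end Cfsg.Agent.S1602
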