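import Cfsg.Statements.S1603
import Cfsg.Agent.Lib.Golay.MathieuFacts
import Cfsg.Agent.Lib.Golay.SylowList
-- import your own Cfsg.Agent.* helpers here

set_option autoImplicit false
open scoped Pointwise
open Cfsg

namespace Cfsg.Agent.S1603

open CfsgLib.Golay CfsgLib.Golay.SylowTwo CfsgLib.Golay.SylowList
open scoped Pointwise

/-- an involution -/
def X1 : ℕ := 984683679202251656063076328997751072

/-- a Sylow subgroup -/
def S16 : List ℕ := [984818244535754528103549039458486304,
  978044950578682113136001772006980768,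
  984481035417004622389629550076640288,
  966069725141497712091024752102246528,
  978284525929456391895950728600357024,
  963756309916391920485078837253671264,
  963586446511382375651607873583201632,
  966643977480569402994928722801441920,
  984250132374674243132699426645261600,
  966515552356264100146472797336878464,
  984683679202251656063076328997751072,
  977882455393775558871641756429060608,
  963951403086558404292831828295059552,
  966319048750972976862954148710582656,
  978243727839065522928181072350199296,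
  963999569395087759372838660228922464]

/-- involutions of it with conjugators -/
def conjs : List (ℕ × ℕ) := [(984481035417004622389629550076640288, 984688423101703817991055951632118240),
  (966643977480569402994928722801441920, 982057365544584805003090706257383584),
  (984250132374674243132699426645261600, 966073300476340041788261997125742624),
  (966515552356264100146472797336878464, 968958431606145932794304725110788448),
  (984683679202251656063076328997751072, 984818244535754528103549039458486304)]

/-- the images of the matrices -/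
def glTab : List ℕ := [0,
  0,
  0,
  0,
  0,
  0,
  0,
  0,
  0,
  0,
  0,
  0,
  978288368504457187614773945129339055,
  978044950578682113136001772006980768,
  978004648115006007017689242500464802,
  977882455393775558871641756429060608,
  978247649642713978929817870793031170,
  977761227012834617581302315877433871,
  0,
  0,
  0,
  978284525929456391895950728600357024,
  978000607487908900507123625123676335,
  978041424915706545242390788618435746,
  977879127800712608224636955235813903,
  977757067544472554106944098219196930,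
  978243727839065522928181072350199296,
  0,
  984818244535754528103549039458486304,
  984805330331391781625161798575851567,
  0,
  966637124257738559399764779790023810,
  966643977480569402994928722801441920,
  0,
  964039827020198296408552323774021999,
  964032379560113572851120924541616482,
  0,
  984736871907586786079410036780728367,
  984481035417004622389629550076640288,
  966602887973544463557210932948500610,
  0,
  966069725141497712091024752102246528,
  963593775126012231626492508272508258,
  963748268267004194814219890416159087,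
  0,
  0,
  984493791160769930296690188106218530,
  984724512305066964385336881123262498,
  966597104307523781736891990748266639,
  966076103017694245142500472665442447,
  0,
  963586446511382375651607873583201632,
  0,
  963756309916391920485078837253671264,
  0,
  984696078422409821557867724842076463,
  984683679202251656063076328997751072,
  0,
  963918492803612076772893908740898914,
  963910926500297891794796136818147439,
  0,
  966515552356264100146472797336878464,
  966522009438119824178707268000333186,
  0,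
  984534252072163894935184319599182114,
  984237614315252230064478264221908258,
  963999569395087759372838660228922464,
  963951403086558404292831828295059552,
  0,
  966197687915283668225607602609947023,
  0,
  966313027400384695614110504035060111,
  0,
  984250132374674243132699426645261600,
  984521139801096197418675843297181999,
  963992003095812377104210892639714402,
  0,
  963959088208071142249281269542324335,
  966191151582679615039727112174076290,
  966319048750972976862954148710582656,
  0]

/-- the model of M₁₁ -/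
noncomputable abbrev K : Subgroup (Equiv.Perm GolayPt) := fixH H12 F23

/-- membership test -/
def inK (P : ℕ) : Bool := inM24 P && mimg P dod0 == dod0 && fixes P F23

theorem mem_of_inK {P : ℕ} (h : inK P = true) : validP P = true ∧ toPerm P ∈ K := by
  simp only [inK, Bool.and_eq_true, beq_iff_eq] at h
  have hv : validP P = true := by
    have := h.1.1
    simp only [inM24, Bool.and_eq_true] at this
    exact this.1
  exact ⟨hv, mem_fixH.2 ⟨toPerm_mem_H12 h.1.1 h.1.2, fun p hp => fixes_apply hv h.2 hp⟩⟩

/-- the fixed triple -/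
def TM : ℕ := 32773

/-- the centralizer of the involution -/
def C48 : List ℕ := glTab.filter fun P => P != 0

theorem sylow_ok : closedOK S16 = true ∧ S16.length = 16 ∧ S16.all inK = true ∧ inK X1 = true ∧
    (S16.all fun P => !eqP (mulP P P) idP || eqP P idP || conjs.any fun t => eqP P t.1) = true ∧
    (conjs.all fun t => inK t.1 && inK t.2 && eqP (mulP t.2 t.1) (mulP X1 t.2)) = true := by
  decide +kernel

theorem cent_ok : closedOK C48 = true ∧ C48.length = 48 ∧
    (C48.all fun P => inK P && mimg P TM == TM && eqP (mulP P X1) (mulP X1 P)) = true ∧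
    ((List.range 24).all fun i => TM.testBit i == (dod0.testBit i && i != 23 && ap X1 i == i)) = true := by
  decide +kernel

/-- code of a matrix -/
def code (a b c e : ℕ) : ℕ := 27 * a + 9 * b + 3 * c + e

theorem table_ok : ∀ a b c e a' b' c' e' : Fin 3, glTab.getD (code a b c e) 0 ≠ 0 →
    glTab.getD (code a' b' c' e') 0 ≠ 0 →
    eqP (glTab.getD (code ((a.val * a'.val + b.val * c'.val) % 3) ((a.val * b'.val + b.val * e'.val) % 3)
        ((c.val * a'.val + e.val * c'.val) % 3) ((c.val * b'.val + e.val * e'.val) % 3)) 0)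
      (mulP (glTab.getD (code a b c e) 0) (glTab.getD (code a' b' c' e') 0)) = true := by
  decide +kernel

theorem table_ne : ∀ a b c e : Fin 3, (a.val * e.val + 2 * (b.val * c.val)) % 3 ≠ 0 →
    glTab.getD (code a b c e) 0 ≠ 0 := by
  decide +kernel

theorem table_onto : ∀ i ∈ List.range 81, glTab.getD i 0 ≠ 0 →
    ∃ a b c e : Fin 3, code a b c e = i ∧ (a.val * e.val + 2 * (b.val * c.val)) % 3 ≠ 0 := by
  decide +kernel

theorem getD_mem {i : ℕ} (h : glTab.getD i 0 ≠ 0) : glTab.getD i 0 ∈ C48 := by
  refine List.mem_filter.2 ⟨?_, by simpa using h⟩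
  by_cases hi : i < glTab.length
  · rw [List.getD_eq_getElem _ _ hi]; exact List.getElem_mem hi
  · rw [List.getD_eq_default _ _ (by omega)] at h; exact absurd rfl h

theorem det_code : ∀ a b c e : ZMod 3, a * e - b * c ≠ 0 →
    (a.val * e.val + 2 * (b.val * c.val)) % 3 ≠ 0 := by
  decide +kernel

theorem det_fin : ∀ a b c e : Fin 3, (a.val * e.val + 2 * (b.val * c.val)) % 3 ≠ 0 →
    (a : ZMod 3) * e - (b : ZMod 3) * c ≠ 0 := by
  decide +kernel

/-- code of an invertible matrix -/
def gcode (A : GL (Fin 2) (ZMod 3)) : ℕ :=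
  glTab.getD (code ((A : Matrix (Fin 2) (Fin 2) (ZMod 3)) 0 0).val ((A : Matrix (Fin 2) (Fin 2) (ZMod 3)) 0 1).val
    ((A : Matrix (Fin 2) (Fin 2) (ZMod 3)) 1 0).val ((A : Matrix (Fin 2) (Fin 2) (ZMod 3)) 1 1).val) 0

theorem gcode_ne (A : GL (Fin 2) (ZMod 3)) : gcode A ≠ 0 := by
  have hd : (A : Matrix (Fin 2) (Fin 2) (ZMod 3)).det ≠ 0 :=
    ((Matrix.isUnit_iff_isUnit_det _).1 A.isUnit).ne_zero
  rw [Matrix.det_fin_two] at hd
  exact table_ne ⟨_, ZMod.val_lt _⟩ ⟨_, ZMod.val_lt _⟩ ⟨_, ZMod.val_lt _⟩ ⟨_, ZMod.val_lt _⟩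
    (det_code _ _ _ _ hd)

theorem entry_val : ∀ a b a' b' : ZMod 3,
    (a * a' + b * b').val = (a.val * a'.val + b.val * b'.val) % 3 := by
  decide +kernel

theorem centralizer_model : ∀ g, (g ∈ K ∧ g * toPerm X1 = toPerm X1 * g) ↔
    ∃ P ∈ C48, g = toPerm P := by
  obtain ⟨hcl, hlen, hall, hTM⟩ := cent_ok
  obtain ⟨-, -, -, hX1, -, -⟩ := sylow_ok
  obtain ⟨hvX, hXK⟩ := mem_of_inK hX1
  obtain ⟨B, hBc, hBi⟩ := exists_subgroup hcl
  intro g
  constructor
  · rintro ⟨hgK, hgx⟩
    rw [← hBi]
    obtain ⟨hgH, hgF⟩ := mem_fixH.1 hgK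
    obtain ⟨hgM, hgd⟩ := mem_H12_iff.1 hgH
    have hg23 : g (pt 23) = pt 23 := hgF _ (by rw [mem_dec]; decide +kernel)
    have hTiff : ∀ q, q ∈ dec TM ↔ q ∈ dec dod0 ∧ q ≠ pt 23 ∧ toPerm X1 q = q := by
      intro q
      have h := List.all_eq_true.1 hTM (idx q) (List.mem_range.2 (idx_lt q))
      rw [beq_iff_eq] at h
      rw [mem_dec, h, mem_dec]
      simp only [Bool.and_eq_true, bne_iff_ne, beq_iff_eq, and_assoc]
      rw [← idx_injective.ne_iff (y := pt 23), idx_pt 23 (by norm_num), ← idx_injective.eq_iff,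
        idx_toPerm hvX]
    have hgT : g • dec TM = dec TM := by
      refine Finset.eq_of_subset_of_card_le (fun q hq => ?_) (le_of_eq (Finset.card_smul_finset _ _).symm)
      obtain ⟨r, hr, rfl⟩ := Finset.mem_smul_finset.1 hq
      obtain ⟨h1, h2, h3⟩ := (hTiff r).1 hr
      refine (hTiff _).2 ⟨?_, fun h => h2 (g.injective (h.trans hg23.symm)), ?_⟩
      · rw [← hgd]; exact Finset.smul_mem_smul_finset h1
      · rw [Equiv.Perm.smul_def, ← Equiv.Perm.mul_apply, ← hgx, Equiv.Perm.mul_apply, h3]
    -- the stabilizer of the triple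
    set A := (dec dod0).erase (pt 23) with hA
    have hAc : A.card = 11 := by
      rw [hA, Finset.card_erase_of_mem (by rw [mem_dec]; decide +kernel), dod0_mem.2]
    have horb : MulAction.orbit K (dec TM) = (A.powersetCard 3 : Finset _) := by
      ext s
      rw [Finset.mem_coe, Finset.mem_powersetCard]
      constructor
      · rintro ⟨⟨k, hk⟩, rfl⟩
        obtain ⟨hkH, hkF⟩ := mem_fixH.1 hk
        show k • dec TM ⊆ A ∧ (k • dec TM).card = 3
        refine ⟨fun q hq => ?_, by rw [Finset.card_smul_finset, card_dec_eq_pop]; decide +kernel⟩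
        obtain ⟨r, hr, rfl⟩ := Finset.mem_smul_finset.1 hq
        obtain ⟨h1, h2, -⟩ := (hTiff r).1 hr
        refine Finset.mem_erase.2 ⟨fun h => h2 (k.injective (h.trans (hkF _ (by
          rw [mem_dec]; decide +kernel)).symm)), ?_⟩
        rw [← (mem_H12_iff.1 hkH).2]; exact Finset.smul_mem_smul_finset h1
      · rintro ⟨hs, hs3⟩
        have hmk : ∀ s : Finset GolayPt, s ⊆ A → s.card = 3 → ∃ k ∈ K, k • ({pt 0, pt 1, pt 2} : Finset GolayPt) = s := by
          intro s hs hs3
          obtain ⟨u, v, w, huv, huw, hvw, rfl⟩ := Finset.card_eq_three.1 hs3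
          simp only [Finset.insert_subset_iff, Finset.singleton_subset_iff] at hs
          obtain ⟨hu, hv, hw⟩ := hs
          obtain ⟨z, hz⟩ : (A \ {u, v, w}).Nonempty := by
            rw [← Finset.card_pos]
            have := Finset.le_card_sdiff {u, v, w} A
            have : ({u, v, w} : Finset GolayPt).card ≤ 3 := Finset.card_le_three
            omega
          simp only [Finset.mem_sdiff, Finset.mem_insert, Finset.mem_singleton, not_or] at hz
          simp only [hA, Finset.mem_erase] at hu hv hw hz
          obtain ⟨k, hk, hmap⟩ := exists_map12 [pt 23, u, v, w, z] rfl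
            (by simp [huv, huw, hvw, hu.1.symm, hv.1.symm, hw.1.symm, hz.1.1.symm, Ne.symm hz.2.1,
              Ne.symm hz.2.2.1, Ne.symm hz.2.2.2])
            (fun p hp => by
              simp only [List.mem_cons, List.not_mem_nil, or_false] at hp
              rcases hp with rfl | rfl | rfl | rfl | rfl
              · rw [mem_dec]; decide +kernel
              · exact hu.2
              · exact hv.2
              · exact hw.2
              · exact hz.1.2)
          simp only [base5, List.map_cons, List.map_nil, List.cons.injEq] at hmap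
          obtain ⟨h23, h0, h1, h2, -⟩ := hmap
          refine ⟨k, mem_fixH.2 ⟨hk, fun p hp => ?_⟩, ?_⟩
          · rw [(mem_dec_two_pow (by norm_num)).1 hp, h23]
          · rw [Finset.smul_finset_insert, Finset.smul_finset_insert, Finset.smul_finset_singleton,
              Equiv.Perm.smul_def, Equiv.Perm.smul_def, Equiv.Perm.smul_def, h0, h1, h2]
        obtain ⟨k, hk, hks⟩ := hmk s hs hs3
        obtain ⟨l, hl, hls⟩ := hmk (dec TM) (fun q hq =>
          Finset.mem_erase.2 ⟨((hTiff q).1 hq).2.1, ((hTiff q).1 hq).1⟩)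
          (by rw [card_dec_eq_pop]; decide +kernel)
        refine ⟨⟨k * l⁻¹, mul_mem hk (inv_mem hl)⟩, ?_⟩
        show (k * l⁻¹) • dec TM = s
        rw [mul_smul, ← hls, inv_smul_smul, hks]
    set St := MulAction.stabilizer K (dec TM) with hSt
    have hStc : Nat.card St = 48 := by
      have h := Subgroup.index_mul_card St
      rw [MulAction.index_stabilizer, horb, Set.ncard_coe_finset, Finset.card_powersetCard, hAc,
        natCard_fix11, show Nat.choose 11 3 = 165 by decide] at h
      omega
    have hsub : ∀ h ∈ B, h ∈ K ∧ h • dec TM = dec TM := by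
      intro h hh
      obtain ⟨P, hP, rfl⟩ := (hBi h).1 hh
      have := List.all_eq_true.1 hall P hP
      simp only [Bool.and_eq_true, beq_iff_eq] at this
      obtain ⟨hv, hm⟩ := mem_of_inK this.1.1
      exact ⟨hm, by rw [smul_dec hv, this.1.2]⟩
    let f : B → St := fun h => ⟨⟨h, (hsub h h.2).1⟩, (hsub h h.2).2⟩
    have hf : Function.Bijective f := (Nat.bijective_iff_injective_and_card f).2
      ⟨fun a b e => Subtype.ext (congrArg (fun z : St => ((z : K) : Equiv.Perm GolayPt)) e),
        by rw [hStc, hBc, hlen]⟩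
    obtain ⟨h, hh⟩ := hf.2 ⟨⟨g, hgK⟩, hgT⟩
    have : (h : Equiv.Perm GolayPt) = g := congrArg (fun z : St => ((z : K) : Equiv.Perm GolayPt)) hh
    exact this ▸ h.2
  · rintro ⟨P, hP, rfl⟩
    have := List.all_eq_true.1 hall P hP
    simp only [Bool.and_eq_true, beq_iff_eq] at this
    obtain ⟨hv, hm⟩ := mem_of_inK this.1.1
    refine ⟨hm, ?_⟩
    rw [← toPerm_mulP hv hvX, ← toPerm_mulP hvX hv]
    exact toPerm_eq_of_eqP (validP_mulP hv hvX) (validP_mulP hvX hv) this.2

theorem model_gl : Nonempty (GL (Fin 2) (ZMod 3) ≃*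
    Subgroup.centralizer ({(⟨toPerm X1, (mem_of_inK sylow_ok.2.2.2.1).2⟩ : K)} : Set K)) := by
  classical
  set x : K := ⟨toPerm X1, (mem_of_inK sylow_ok.2.2.2.1).2⟩ with hx
  have hiff : ∀ g : K, g ∈ Subgroup.centralizer ({x} : Set K) ↔ ∃ P ∈ C48, (g : Equiv.Perm GolayPt) = toPerm P := by
    intro g
    rw [← centralizer_model, Subgroup.mem_centralizer_singleton_iff, Subtype.ext_iff]
    exact ⟨fun h => ⟨g.2, h⟩, fun h => h.2⟩
  have hmem : ∀ P ∈ C48, validP P = true ∧ toPerm P ∈ K := by
    intro P hP
    have := List.all_eq_true.1 cent_ok.2.2.1 P hP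
    simp only [Bool.and_eq_true] at this
    exact mem_of_inK this.1.1
  let f : GL (Fin 2) (ZMod 3) →* Subgroup.centralizer ({x} : Set K) := MonoidHom.mk'
    (fun A => ⟨⟨toPerm (gcode A), (hmem _ (getD_mem (gcode_ne A))).2⟩,
      (hiff _).2 ⟨gcode A, getD_mem (gcode_ne A), rfl⟩⟩) fun A B => by
    apply Subtype.ext; apply Subtype.ext
    push_cast
    show toPerm (gcode (A * B)) = toPerm (gcode A) * toPerm (gcode B)
    have hvA : validP (gcode A) = true := (hmem _ (getD_mem (gcode_ne A))).1
    have hvB : validP (gcode B) = true := (hmem _ (getD_mem (gcode_ne B))).1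
    rw [← toPerm_mulP hvA hvB]
    refine toPerm_eq_of_eqP (hmem _ (getD_mem (gcode_ne (A * B)))).1 (validP_mulP hvA hvB) ?_
    have h := table_ok ⟨_, ZMod.val_lt ((A : Matrix (Fin 2) (Fin 2) (ZMod 3)) 0 0)⟩ ⟨_, ZMod.val_lt _⟩
      ⟨_, ZMod.val_lt _⟩ ⟨_, ZMod.val_lt _⟩
      ⟨_, ZMod.val_lt ((B : Matrix (Fin 2) (Fin 2) (ZMod 3)) 0 0)⟩ ⟨_, ZMod.val_lt _⟩
      ⟨_, ZMod.val_lt _⟩ ⟨_, ZMod.val_lt _⟩ (gcode_ne A) (gcode_ne B)
    simp only [← entry_val] at h
    simpa only [gcode, Units.val_mul, Matrix.mul_apply, Fin.sum_univ_two] using h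
  have hsurj : Function.Surjective f := by
    rintro ⟨g, hg⟩
    obtain ⟨P, hP, hgP⟩ := (hiff g).1 hg
    obtain ⟨hPm, hP0⟩ := List.mem_filter.1 hP
    obtain ⟨i, hi, rfl⟩ := List.getElem_of_mem hPm
    have hi81 : i ∈ List.range 81 := List.mem_range.2 hi
    obtain ⟨a, b, c, e, hc, hd⟩ := table_onto i hi81 (by
      rw [List.getD_eq_getElem _ _ hi]; simpa using hP0)
    let M : Matrix (Fin 2) (Fin 2) (ZMod 3) := !![(a : ZMod 3), b; c, e]
    have hdet : M.det ≠ 0 := by
      exact (Matrix.det_fin_two M).trans_ne (det_fin a b c e hd)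
    refine ⟨Matrix.GeneralLinearGroup.mkOfDetNeZero M hdet, Subtype.ext (Subtype.ext ?_)⟩
    show toPerm (gcode _) = (g : Equiv.Perm GolayPt)
    rw [hgP]
    refine congrArg toPerm ?_
    show glTab.getD (code a b c e) 0 = _
    rw [hc, List.getD_eq_getElem _ _ hi]
  have hinj : Function.Injective f := by
    haveI : Finite (Subgroup.centralizer ({x} : Set K)) := inferInstance
    refine ((Nat.bijective_iff_surjective_and_card f).2 ⟨hsurj, ?_⟩).1
    obtain ⟨B, hBc, hBi⟩ := exists_subgroup cent_ok.1
    have e : Subgroup.centralizer ({x} : Set K) ≃ B :=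
      { toFun := fun z => ⟨((z : K) : Equiv.Perm GolayPt), (hBi _).2 ((hiff _).1 z.2)⟩
        invFun := fun z => ⟨⟨z, by obtain ⟨P, hP, h⟩ := (hBi _).1 z.2; exact h ▸ (hmem P hP).2⟩,
          (hiff _).2 ((hBi _).1 z.2)⟩
        left_inv := fun _ => rfl
        right_inv := fun _ => rfl }
    rw [Nat.card_congr e, hBc, cent_ok.2.1, Matrix.card_GL_field, Fin.prod_univ_two]
    simp
  exact ⟨MulEquiv.ofBijective f ⟨hinj, hsurj⟩⟩

/-- Involution centralisers in the smallest Mathieu group are isomorphic to GL(2, 3). -/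
theorem result (d : Finset Cfsg.GolayPt) (hd : d ∈ Cfsg.dodecads) (p : Cfsg.GolayPt) (hp : p ∈ d) (x : ↥(MulAction.stabilizer Cfsg.M24 d ⊓ MulAction.stabilizer Cfsg.M24 p)) (hx : orderOf x = 2) : Nonempty (↥(Subgroup.centralizer ({x} : Set ↥(MulAction.stabilizer Cfsg.M24 d ⊓ MulAction.stabilizer Cfsg.M24 p))) ≃* GL (Fin 2) (ZMod 3)) := by
  classical
  obtain ⟨e⟩ := nonempty_equiv11 hd hp
  set y : K := e x with hy
  have hy2 : orderOf y = 2 := by rw [hy, MulEquiv.orderOf_eq, hx]
  haveI : Fact (Nat.Prime 2) := ⟨Nat.prime_two⟩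
  obtain ⟨hcl, hlen, hall, -, hinv, hconj⟩ := sylow_ok
  have hy2' : (y : Equiv.Perm GolayPt) ^ 2 ^ 1 = 1 := by
    rw [pow_one, ← SubmonoidClass.coe_pow, ← hy2, pow_orderOf_eq_one]; rfl
  obtain ⟨a, ha, P, hP, haP⟩ := exists_conj_list (G := K) (p := 2) (n := 4) (m := 495)
    (by rw [natCard_fix11]; norm_num) (by norm_num) hcl (by rw [hlen]; norm_num)
    (fun P hP => (mem_of_inK (List.all_eq_true.1 hall P hP)).2) y.2 hy2'
  have hvP := (mem_of_inK (List.all_eq_true.1 hall P hP)).1
  have h := List.all_eq_true.1 hinv P hP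
  simp only [Bool.or_eq_true, Bool.not_eq_true', List.any_eq_true] at h
  have hne : eqP P idP ≠ true := fun h0 => by
    have h1 := toPerm_eq_of_eqP hvP validP_idP h0
    rw [toPerm_idP, ← haP, conj_eq_one_iff] at h1
    rw [show y = 1 from Subtype.ext h1, orderOf_one] at hy2
    norm_num at hy2
  have hsq : eqP (mulP P P) idP = true := by
    refine eqP_of_toPerm_eq (validP_mulP hvP hvP) validP_idP ?_
    rw [toPerm_mulP hvP hvP, toPerm_idP, ← haP, conj_mul, ← pow_two]
    rw [pow_one] at hy2'
    rw [hy2', mul_one, mul_inv_cancel]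
  obtain ⟨t, ht, hPt⟩ : ∃ t ∈ conjs, eqP P t.1 = true := by
    rcases h with (h | h) | h
    · rw [hsq] at h; exact absurd h (by simp)
    · exact absurd h hne
    · exact h
  have hc := List.all_eq_true.1 hconj t ht
  simp only [Bool.and_eq_true] at hc
  obtain ⟨⟨h1, h2⟩, h3⟩ := hc
  obtain ⟨hv1, -⟩ := mem_of_inK h1
  obtain ⟨hv2, hm2⟩ := mem_of_inK h2
  have hX := mem_of_inK sylow_ok.2.2.2.1
  have hb : (toPerm t.2 * a) * (y : Equiv.Perm GolayPt) * (toPerm t.2 * a)⁻¹ = toPerm X1 := by
    have e3 := toPerm_eq_of_eqP (validP_mulP hv2 hv1) (validP_mulP hX.1 hv2) h3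
    rw [toPerm_mulP hv2 hv1, toPerm_mulP hX.1 hv2] at e3
    calc (toPerm t.2 * a) * (y : Equiv.Perm GolayPt) * (toPerm t.2 * a)⁻¹
        = toPerm t.2 * (a * y * a⁻¹) * (toPerm t.2)⁻¹ := by group
      _ = toPerm X1 := by rw [haP, toPerm_eq_of_eqP hvP hv1 hPt, e3, mul_inv_cancel_right]
  let θ : ↥(MulAction.stabilizer M24 d ⊓ MulAction.stabilizer M24 p) ≃* K :=
    e.trans (MulAut.conj (⟨toPerm t.2 * a, mul_mem hm2 ha⟩ : K))
  have hθ : θ x = ⟨toPerm X1, (mem_of_inK sylow_ok.2.2.2.1).2⟩ := Subtype.ext (by
    show (toPerm t.2 * a) * (y : Equiv.Perm GolayPt) * (toPerm t.2 * a)⁻¹ = _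
    exact hb)
  obtain ⟨g⟩ := model_gl
  refine ⟨MulEquiv.trans ?_ g.symm⟩
  refine (θ.subgroupMap (Subgroup.centralizer {x})).trans (MulEquiv.subgroupCongr ?_)
  ext z
  rw [Subgroup.mem_map, Subgroup.mem_centralizer_singleton_iff]
  constructor
  · rintro ⟨w, hw, rfl⟩
    rw [Subgroup.mem_centralizer_singleton_iff] at hw
    rw [← hθ]
    show θ w * θ x = θ x * θ w
    rw [← map_mul, hw, map_mul]
  · intro hz
    refine ⟨θ.symm z, ?_, θ.apply_symm_apply z⟩
    rw [Subgroup.mem_centralizer_singleton_iff]
    apply θ.injective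
    rw [map_mul, map_mul, MulEquiv.apply_symm_apply, hθ, hz]

end Cfsg.Agent.S1603
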