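import Cfsg.Statements.S1610
import Mathlib
-- import your own Cfsg.Agent.* helpers here

set_option autoImplicit false
open Cfsg

namespace Cfsg.Agent.S1610

/-- The hexacode has 64 words, minimum weight 4, and weight distribution 0^1 4^45 6^18. -/
theorem result (F : Type*) [Field F] [Fintype F] [DecidableEq F] (hF : Fintype.card F = 4) (ω : F) (hω : ω ^ 2 + ω + 1 = 0) : Nat.card ↥(Cfsg.hexacode F ω) = 64 ∧ (∀ x ∈ Cfsg.hexacode F ω, x ≠ 0 → (Finset.univ.filter fun i => x i ≠ 0).card = 4 ∨ (Finset.univ.filter fun i => x i ≠ 0).card = 6) ∧ {x : Fin 6 → F | x ∈ Cfsg.hexacode F ω ∧ (Finset.univ.filter fun i => x i ≠ 0).card = 4}.ncard = 45 ∧ {x : Fin 6 → F | x ∈ Cfsg.hexacode F ω ∧ (Finset.univ.filter fun i => x i ≠ 0).card = 6}.ncard = 18 := by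
  classical
  have h2 : (2 : F) = 0 := by
    have h := FiniteField.cast_card_eq_zero F
    rw [hF] at h
    have h' : (2 : F) * 2 = 0 := by norm_num at h ⊢; exact h
    exact (mul_self_eq_zero.1 h')
  have hneg : ∀ a : F, -a = a := fun a => by linear_combination -(a * h2)
  have hw2 : ω ^ 2 = ω + 1 := by linear_combination hω - (ω + 1) * h2
  have hw0 : ω ≠ 0 := fun e => by rw [e] at hω; norm_num at hω
  have hw1 : ω ≠ 1 := fun e => by
    rw [e] at hω
    exact one_ne_zero (show (1 : F) = 0 by linear_combination hω - h2)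
  let ι : Fin 2 × Fin 2 → F := fun p => (p.1.val : F) + (p.2.val : F) * ω
  have hbij : Function.Bijective ι := by
    rw [Fintype.bijective_iff_injective_and_card]
    refine ⟨?_, by rw [hF]; rfl⟩
    have hw1' : ω + 1 ≠ 0 := fun e => hw1 (by rw [← hneg 1]; linear_combination e)
    rintro ⟨a, b⟩ ⟨c, d⟩ h
    fin_cases a <;> fin_cases b <;> fin_cases c <;> fin_cases d <;>
      simp [ι, hw0, hw0.symm, hw1, hw1.symm] at h ⊢ <;>
      first
      | exact hw1' (by linear_combination h)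
      | exact hw1' (by linear_combination -h)
      | exact hw1' (by linear_combination h + h2)
      | exact hw1' (by linear_combination -h + h2)
  let add2 : Fin 2 × Fin 2 → Fin 2 × Fin 2 → Fin 2 × Fin 2 := fun p q => (p.1 + q.1, p.2 + q.2)
  let mul2 : Fin 2 × Fin 2 → Fin 2 × Fin 2 → Fin 2 × Fin 2 := fun p q =>
    (p.1 * q.1 + p.2 * q.2, p.1 * q.2 + p.2 * q.1 + p.2 * q.2)
  have hca : ∀ a c : Fin 2, (((a + c : Fin 2) : ℕ) : F) = (a : ℕ) + (c : ℕ) := by
    intro a c
    fin_cases a <;> fin_cases c <;> simp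
    linear_combination -h2
  have hcm : ∀ a c : Fin 2, (((a * c : Fin 2) : ℕ) : F) = (a : ℕ) * (c : ℕ) := by
    intro a c
    fin_cases a <;> fin_cases c <;> simp
  have hadd : ∀ p q, ι (add2 p q) = ι p + ι q := by
    rintro ⟨a, b⟩ ⟨c, d⟩
    simp only [ι, add2, hca]
    ring
  have hmul : ∀ p q, ι (mul2 p q) = ι p * ι q := by
    rintro ⟨a, b⟩ ⟨c, d⟩
    simp only [ι, mul2, hca, hcm]
    linear_combination (-((b : ℕ) : F) * ((d : ℕ) : F)) * hw2
  let W : Fin 2 × Fin 2 := (0, 1)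
  let V : Fin 2 × Fin 2 := (1, 1)
  have hW : ι W = ω := by simp [ι, W]
  have hV : ι V = ω ^ 2 := by simp [ι, V, hw2, add_comm]
  let word : (Fin 2 × Fin 2) × (Fin 2 × Fin 2) × (Fin 2 × Fin 2) → (Fin 6 → Fin 2 × Fin 2) := fun abc i =>
    add2 (add2 (mul2 abc.1 (![W, V, V, W, V, W] i)) (mul2 abc.2.1 (![V, W, W, V, V, W] i)))
      (mul2 abc.2.2 (![V, W, V, W, W, V] i))
  let Φ : (Fin 2 × Fin 2) × (Fin 2 × Fin 2) × (Fin 2 × Fin 2) → (Fin 6 → F) := fun abc i => ι (word abc i)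
  have hΦ : ∀ abc, Φ abc = ι abc.1 • ![ω, ω ^ 2, ω ^ 2, ω, ω ^ 2, ω] +
      ι abc.2.1 • ![ω ^ 2, ω, ω, ω ^ 2, ω ^ 2, ω] + ι abc.2.2 • ![ω ^ 2, ω, ω ^ 2, ω, ω, ω ^ 2] := by
    intro abc
    funext i
    simp only [Φ, word, hadd, hmul, Pi.add_apply, Pi.smul_apply, smul_eq_mul]
    fin_cases i <;> simp [hW, hV]
  have hrange : (Cfsg.hexacode F ω : Set (Fin 6 → F)) = Set.range Φ := by
    ext x
    rw [SetLike.mem_coe, Cfsg.hexacode, Submodule.mem_span_insert]
    constructor
    · rintro ⟨a, y, hy, rfl⟩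
      obtain ⟨b, c, rfl⟩ := Submodule.mem_span_pair.1 hy
      obtain ⟨pa, rfl⟩ := hbij.2 a
      obtain ⟨pb, rfl⟩ := hbij.2 b
      obtain ⟨pc, rfl⟩ := hbij.2 c
      exact ⟨(pa, pb, pc), by rw [hΦ, add_assoc]⟩
    · rintro ⟨abc, rfl⟩
      exact ⟨_, _, Submodule.mem_span_pair.2 ⟨_, _, rfl⟩, by rw [hΦ, add_assoc]⟩
  have hinj : Function.Injective Φ := by
    have hw : Function.Injective word := by decide +kernel
    exact fun a b h => hw (funext fun i => hbij.1 (congrFun h i))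
  have hsupp : ∀ abc, (Finset.univ.filter fun i => Φ abc i ≠ 0) = Finset.univ.filter fun i => word abc i ≠ (0, 0) := by
    intro abc
    refine Finset.filter_congr fun i _ => not_congr ?_
    rw [show (0 : F) = ι (0, 0) by simp [ι]]
    exact hbij.1.eq_iff
  have hcount : ∀ k, {x : Fin 6 → F | x ∈ Cfsg.hexacode F ω ∧ (Finset.univ.filter fun i => x i ≠ 0).card = k}.ncard =
      (Finset.univ.filter fun abc => (Finset.univ.filter fun i => word abc i ≠ (0, 0)).card = k).card := fun k => by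
    rw [← Set.ncard_coe_finset, ← Set.ncard_image_of_injective _ hinj]
    congr 1
    ext x
    simp only [Set.mem_ofPred_eq, Set.mem_image, Finset.coe_filter, Finset.mem_univ, true_and]
    rw [← SetLike.mem_coe, hrange]
    constructor
    · rintro ⟨⟨abc, rfl⟩, hc⟩; exact ⟨abc, by rwa [← hsupp], rfl⟩
    · rintro ⟨abc, hc, rfl⟩; exact ⟨⟨abc, rfl⟩, by rwa [hsupp]⟩
  refine ⟨?_, ?_, ?_, ?_⟩
  · rw [← SetLike.coe_sort_coe, hrange, Nat.card_coe_set_eq, ← Set.image_univ,
      Set.ncard_image_of_injective _ hinj, Set.ncard_univ, Nat.card_eq_fintype_card]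
    rfl
  · intro x hx hne
    rw [← SetLike.mem_coe, hrange] at hx
    obtain ⟨abc, rfl⟩ := hx
    rw [hsupp]
    have key : ∀ abc, (Finset.univ.filter fun i => word abc i ≠ (0, 0)).card = 4 ∨
        (Finset.univ.filter fun i => word abc i ≠ (0, 0)).card = 6 ∨ ∀ i, word abc i = (0, 0) := by decide +kernel
    rcases key abc with h | h | h
    · exact Or.inl h
    · exact Or.inr h
    · exact absurd (funext fun i => by
        show ι (word abc i) = 0
        rw [h i]; simp [ι]) hne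
  · rw [hcount]; decide +kernel
  · rw [hcount]; decide +kernel

end Cfsg.Agent.S1610
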