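import Cfsg.Statements.S1612
import Cfsg.Agent.Lib.ThreeTransp.Main
-- import your own Cfsg.Agent.* helpers here

set_option autoImplicit false
open Cfsg

namespace Cfsg.Agent.S1612

/-- In a 3-transposition group (no solvable normal subgroup, perfect derived group), the normaliser of a commuting set of transpositions of maximum size contains a Sylow 2-subgroup and is doubly transitive on the set. -/
theorem result {G : Type*} [Group G] [Finite G] (hsol : ∀ N : Subgroup G, N.Normal → Group.IsSolvable ↥N → N = ⊥) (hperf : ⁅commutator G, commutator G⁆ = commutator G) {D : Set G} (hD : Cfsg.IsThreeTranspositionClass D) {E : Set G} (hE : E ⊆ D) (hc : ∀ a ∈ E, ∀ b ∈ E, Commute a b) (hmax : ∀ E' : Set G, E' ⊆ D → (∀ a ∈ E', ∀ b ∈ E', Commute a b) → E'.ncard ≤ E.ncard) : (∃ P : Sylow 2 G, (P : Subgroup G) ≤ Subgroup.normalizer E) ∧ ∀ a ∈ E, ∀ b ∈ E, ∀ c ∈ E, ∀ d ∈ E, a ≠ b → c ≠ d → ∃ g ∈ Subgroup.normalizer E, g * a * g⁻¹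 = c ∧ g * b * g⁻¹ = d := by
  obtain ⟨hG, hprim, hw⟩ := CfsgLib.ThreeTransp.primitive_of_no_solvable hsol hperf hD
  have hS := hD.1
  have hcl := CfsgLib.ThreeTransp.class_conjClosed hD
  refine ⟨CfsgLib.ThreeTransp.exists_sylow_le_normalizer hS hcl hE hc hmax, ?_⟩
  intro a ha b hb c hc' d hd hab hcd
  -- moving a translate of `E` back inside the centraliser of members it shares with `E`
  have key : ∀ (g : G) (H : Subgroup G), (∀ x ∈ E, x ∈ H) → (∀ x ∈ E, g * x * g⁻¹ ∈ H) →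
      ∃ k ∈ H, ∀ x ∈ E, (k * g) * x * (k * g)⁻¹ ∈ E := by
    intro g H hEH hgEH
    have hinj : Function.Injective (fun x => g * x * g⁻¹) := fun p q e => by simpa using e
    obtain ⟨h, hh, himg⟩ := CfsgLib.ThreeTransp.exists_conj_max hS hcl H hE
      (E' := (fun x => g * x * g⁻¹) '' E) (by rintro _ ⟨x, hx, rfl⟩; exact hcl g x (hE hx)) hc
      (by rintro _ ⟨x, hx, rfl⟩ _ ⟨y, hy, rfl⟩; exact CfsgLib.ThreeTransp.commute_conj.mpr (hc x hx y hy))
      hEH (by rintro _ ⟨x, hx, rfl⟩; exact hgEH x hx) hmax (Set.ncard_image_of_injective E hinj)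
    refine ⟨h⁻¹, H.inv_mem hh, fun x hx => ?_⟩
    obtain ⟨z, hz, hzx⟩ := himg.superset ⟨x, hx, rfl⟩
    have : (h⁻¹ * g) * x * (h⁻¹ * g)⁻¹ = z := by
      simp only at hzx
      rw [show (h⁻¹ * g) * x * (h⁻¹ * g)⁻¹ = h⁻¹ * (g * x * g⁻¹) * h by group, ← hzx]
      group
    exact this ▸ hz
  obtain ⟨g, hg⟩ := CfsgLib.ThreeTransp.class_exists_conj hD (hE ha) (hE hc')
  have hcc : ∀ x, Commute c x → x ∈ Subgroup.centralizer ({c} : Set G) :=
    fun x hx => Subgroup.mem_centralizer_singleton_iff.mpr hx.symm.eq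
  obtain ⟨k, hk, hk'⟩ := key g (Subgroup.centralizer {c}) (fun x hx => hcc x (hc c hc' x hx))
    (fun x hx => hcc _ (hg ▸ CfsgLib.ThreeTransp.commute_conj.mpr (hc a ha x hx)))
  have hkc : Commute k c := Subgroup.mem_centralizer_singleton_iff.mp hk
  set g₀ := k * g with hg₀def
  have hg₀ : g₀ * a * g₀⁻¹ = c := by
    rw [hg₀def, show k * g * a * (k * g)⁻¹ = k * (g * a * g⁻¹) * k⁻¹ by group, hg, hkc.eq,
      mul_inv_cancel_right]
  have hb₁ : g₀ * b * g₀⁻¹ ≠ c := fun h => hab (mul_left_cancel (mul_right_cancel (hg₀.trans h.symm)))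
  obtain ⟨f, hf, hfb⟩ := CfsgLib.ThreeTransp.transitive_commute hG hprim hw (hE hc') (hE (hk' b hb))
    (hE hd) hb₁ hcd.symm (hc c hc' _ (hk' b hb)) (hc c hc' d hd)
  have hfc : Commute f c := (CfsgLib.ThreeTransp.perp_closure_conj hS hcl
    (Subgroup.closure_mono (k := {y : G | y ∈ D ∧ Commute c y})
      (fun z hz => (⟨hz.1, hz.2.2⟩ : z ∈ {y : G | y ∈ D ∧ Commute c y})) hf) (hE hc')).1
  have hfa : (f * g₀) * a * (f * g₀)⁻¹ = c := by
    rw [show f * g₀ * a * (f * g₀)⁻¹ = f * (g₀ * a * g₀⁻¹) * f⁻¹ by group, hg₀, hfc.eq,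
      mul_inv_cancel_right]
  have hfb' : (f * g₀) * b * (f * g₀)⁻¹ = d := by
    rw [← hfb]; group
  obtain ⟨m, hm, hm'⟩ := key (f * g₀)
    (Subgroup.centralizer {c} ⊓ Subgroup.centralizer {d})
    (fun x hx => ⟨hcc x (hc c hc' x hx),
      Subgroup.mem_centralizer_singleton_iff.mpr (hc x hx d hd).eq⟩)
    (fun x hx => ⟨hcc _ (hfa ▸ CfsgLib.ThreeTransp.commute_conj.mpr (hc a ha x hx)),
      Subgroup.mem_centralizer_singleton_iff.mpr
        (hfb' ▸ CfsgLib.ThreeTransp.commute_conj.mpr (hc x hx b hb) :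
          Commute ((f * g₀) * x * (f * g₀)⁻¹) d).eq⟩)
  refine ⟨m * (f * g₀), Subgroup.mem_normalizer_fintype hm', ?_, ?_⟩
  · rw [show m * (f * g₀) * a * (m * (f * g₀))⁻¹ = m * ((f * g₀) * a * (f * g₀)⁻¹) * m⁻¹ by group,
      hfa, Subgroup.mem_centralizer_singleton_iff.mp hm.1, mul_inv_cancel_right]
  · rw [show m * (f * g₀) * b * (m * (f * g₀))⁻¹ = m * ((f * g₀) * b * (f * g₀)⁻¹) * m⁻¹ by group,
      hfb', Subgroup.mem_centralizer_singleton_iff.mp hm.2, mul_inv_cancel_right]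

end Cfsg.Agent.S1612
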