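import Cfsg.Statements.S1614
import Cfsg.Agent.Lib.FischerO2.Solvable
import Cfsg.Agent.S1615
import Cfsg.Agent.S0247

set_option autoImplicit false
open Cfsg

namespace Cfsg.Agent.S1614

/-- If the commuting transpositions of one transposition generate a solvable group, a Fischer 3-transposition group is S5, S6, PSU(4, 2) or PSU(5, 2). -/
theorem result {G : Type*} [Group G] [Finite G] (hsol : ∀ N : Subgroup G, N.Normal → Group.IsSolvable ↥N → N = ⊥) (hperf : ⁅commutator G, commutator G⁆ = commutator G) {D : Set G} (hD : Cfsg.IsThreeTranspositionClass D) (x : G) (hx : x ∈ D) (hs : Group.IsSolvable ↥(Subgroup.closure {y : G | y ∈ D ∧ y ≠ x ∧ Commute x y})) : Nonempty (G ≃* Equiv.Perm (Fin 5)) ∨ Nonempty (G ≃* Equiv.Perm (Fin 6)) ∨ ∃ (F : Type) (_ : Field F) (_ : Fintype F), Fintype.card F = 4 ∧ (Nonempty (G ≃* Cfsg.PSU 4 F 2) ∨ Nonempty (G ≃* Cfsg.PSU 5 F 2)) := by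
  obtain ⟨hG, hprim, hw⟩ := CfsgLib.ThreeTransp.primitive_of_no_solvable hsol hperf hD
  have hZ : Subgroup.center G = ⊥ := hsol _ inferInstance
    (Group.isSolvable_of_comm fun a b => Subtype.ext (Subgroup.mem_center_iff.mp b.2 a))
  rcases CfsgLib.FischerO2.core_noncentral hG hprim hw hx hs with h | h
  · rcases (CfsgLib.FischerO2.lines_of_core hG hprim hw hx h).symp_or_unit with S | U
    · obtain ⟨e⟩ := S.solvable hZ hx hs
      obtain ⟨f⟩ := Cfsg.Agent.S0247.result (F := ZMod 2) (ZMod.card 2)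
      exact Or.inr (Or.inl ⟨e.trans f⟩)
    · exact Or.inr (Or.inr (U.solvable hZ hx hs))
  · refine Or.inl (Cfsg.Agent.S1615.result hsol hperf hD x hx fun hodd => h (le_trans ?_ hodd))
    haveI : Fact (Nat.Prime 3) := ⟨Nat.prime_three⟩
    set H := Subgroup.closure {y : G | y ∈ D ∧ y ≠ x ∧ Commute x y}
    have hp : IsPGroup 3 (Cfsg.pCore 3 H) := CfsgLib.Fitting.pCore_isPGroup 3
    obtain ⟨n, hn⟩ := IsPGroup.iff_card.mp hp
    refine le_sSup ⟨CfsgLib.Fitting.pCore_normal 3, ?_⟩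
    exact Nat.Coprime.coprime_dvd_left (dvd_of_eq hn) (Nat.Coprime.pow_left n (by norm_num))

end Cfsg.Agent.S1614
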