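import Cfsg.Statements.S5560
import Cfsg.Agent.Lib.ZStar.Main
import Cfsg.Agent.Lib.Coprime.Action
import Cfsg.Agent.Lib.Fitting.Basic

set_option autoImplicit false
open Cfsg

namespace Cfsg.Agent.S5560

/-- A Z*-type result for an odd prime p. Let G be a finite group and d an involution of G such that the product of any two conjugates of d has order a power of p. Then the product of any two conjugates of d lies in the largest normal p-subgroup O_p(G); in other words the conjugacy class of d lies in the coset O_p(G)d, and d is central modulo O_p(G). -/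
theorem result {G : Type*} [Group G] [Finite G] {p : ℕ} (hp : p.Prime) (hp2 : p ≠ 2)
    (d : G) (hd : orderOf d = 2)
    (hprod : ∀ a ∈ conjugatesOf d, ∀ b ∈ conjugatesOf d, ∃ k : ℕ, orderOf (a * b) = p ^ k) :
    ∀ a ∈ conjugatesOf d, ∀ b ∈ conjugatesOf d, a * b ∈ Cfsg.pCore p G := by
  have hpow : ∀ a ∈ conjugatesOf d, ∀ b ∈ conjugatesOf d, (a * b) ^ 2 = 1 → a * b = 1 := by
    intro a ha b hb h2
    obtain ⟨k, hk⟩ := hprod a ha b hb
    have hcop : Nat.Coprime (p ^ k) 2 :=
      Nat.Coprime.pow_left k ((Nat.coprime_primes hp Nat.prime_two).mpr hp2)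
    exact orderOf_eq_one_iff.mp (Nat.eq_one_of_dvd_coprimes hcop (by rw [hk])
      (orderOf_dvd_of_pow_eq_one h2))
  have hd2 : d * d = 1 := by rw [← pow_two, ← hd, pow_orderOf_eq_one]
  have hdinv : d⁻¹ = d := inv_eq_of_mul_eq_one_right hd2
  have hconj : ∀ g : G, g * d * g⁻¹ ∈ conjugatesOf d := fun g => isConj_iff.mpr ⟨g, rfl⟩
  have hdd : d ∈ conjugatesOf d := IsConj.refl d
  have hiso : Cfsg.IsIsolatedInvolution d := by
    refine ⟨hd, fun g hg => ?_⟩
    have e2 : (g * d * g⁻¹) ^ 2 = 1 := by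
      rw [conj_pow, pow_two, hd2, mul_one, mul_inv_cancel]
    have h := hpow _ hdd _ (hconj g) (by rw [hg.mul_pow, e2, pow_two, hd2, one_mul])
    rw [eq_inv_of_mul_eq_one_right h, hdinv]
  have hcore := CfsgLib.ZStar.commutatorsInCore_of_isolated hiso
  set N := Cfsg.pPrimeCore 2 G
  have hN : N.Normal := CfsgLib.Transfer.pPrimeCore_normal 2 G
  have hodd : Odd (Nat.card N) := CfsgLib.ZStar.odd_card_core
  haveI := hN
  haveI : Fact p.Prime := ⟨hp⟩
  -- every conjugate of `d` is conjugate under `N`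
  have h1 : ∀ g : G, ∃ n ∈ N, g * d * g⁻¹ = n * d * n⁻¹ := by
    intro g
    set m := d * (g * d * g⁻¹) with hm
    have hmN : m ∈ N := by
      have := hcore g
      rwa [hdinv, show d * g * d * g⁻¹ = d * (g * d * g⁻¹) by group] at this
    obtain ⟨r, hr⟩ := hodd
    have hm1 : m ^ (2 * r + 1) = 1 := by
      rw [← hr]; exact orderOf_dvd_iff_pow_eq_one.mp (Subgroup.orderOf_dvd_natCard N hmN)
    refine ⟨(m ^ (r + 1))⁻¹, inv_mem (pow_mem hmN _), ?_⟩
    have hinv : d * m * d⁻¹ = m⁻¹ := by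
      rw [hm, mul_inv_rev, show (g * d * g⁻¹)⁻¹ = g * d * g⁻¹ by rw [conj_inv, hdinv],
        ← mul_assoc d d, hd2, one_mul]
    have hpow' : d * (m ^ (r + 1)) = (m ^ (r + 1))⁻¹ * d := by
      rw [← inv_pow, ← hinv, conj_pow, inv_mul_cancel_right]
    have hsq : m ^ (r + 1) * m ^ (r + 1) = m := by
      rw [← pow_add, show r + 1 + (r + 1) = 2 * r + 1 + 1 by ring, pow_succ, hm1, one_mul]
    rw [inv_inv, ← hpow', mul_assoc d, hsq, hm, ← mul_assoc, hd2, one_mul]
  -- a Sylow `p`-subgroup of `N` normalized by `d`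
  have hA : Subgroup.zpowers d ≤ Subgroup.normalizer (N : Set G) := by
    rw [Subgroup.normalizer_eq_top]; exact le_top
  have hcop : (Nat.card (Subgroup.zpowers d)).Coprime (Nat.card N) := by
    rw [Nat.card_zpowers, hd]; exact Nat.coprime_two_left.mpr hodd
  have hsol : Group.IsSolvable (Subgroup.zpowers d) ∨ Group.IsSolvable N := Or.inl inferInstance
  obtain ⟨P, hP⟩ := CfsgLib.Coprime.exists_invariant_sylow hA hcop hsol p
  set Cn := (Subgroup.centralizer ({d} : Set G)).subgroupOf N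
  have hidx : ∀ q : ℕ, q.Prime → q ≠ p → ¬ q ∣ Cn.index := by
    intro q hq hqp
    haveI : Fact q.Prime := ⟨hq⟩
    obtain ⟨Q, hQ⟩ := CfsgLib.Coprime.exists_invariant_sylow hA hcop hsol q
    have hQC : (Q : Subgroup N) ≤ Cn := by
      intro x hx
      have hxd : d * (x : G) * d⁻¹ ∈ (Q : Subgroup N).map N.subtype :=
        (Subgroup.mem_normalizer_iff.mp (hQ (Subgroup.mem_zpowers d)) _).mp ⟨x, hx, rfl⟩
      obtain ⟨y, hy, hye⟩ := hxd
      change (y : G) = d * x * d⁻¹ at hye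
      obtain ⟨k, hk⟩ := hprod d hdd _ (hconj (x : G))
      obtain ⟨j, hj⟩ := IsPGroup.iff_orderOf.mp Q.isPGroup' ⟨y * x⁻¹, mul_mem hy (inv_mem hx)⟩
      rw [← orderOf_injective (N.subtype.comp (Q : Subgroup N).subtype)
        (N.subtype_injective.comp (Q : Subgroup N).subtype_injective)] at hj
      change orderOf ((y : G) * (x : G)⁻¹) = q ^ j at hj
      rw [show d * ((x : G) * d * (x : G)⁻¹) = (y : G) * (x : G)⁻¹ by
        rw [hye, hdinv]; group, hj] at hk
      have h' : (y : G) * (x : G)⁻¹ = 1 := orderOf_eq_one_iff.mp (hj.trans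
        (Nat.eq_one_of_dvd_coprimes (Nat.Coprime.pow j k ((Nat.coprime_primes hq hp).mpr hqp))
          dvd_rfl (by rw [hk])))
      rw [mul_inv_eq_one, hye] at h'
      refine Subgroup.mem_centralizer_singleton_iff.mpr ?_
      exact (mul_inv_eq_iff_eq_mul.mp h').symm
    exact fun h => Q.not_dvd_index (h.trans (Subgroup.index_dvd_of_le hQC))
  obtain ⟨k, hk⟩ : ∃ k, Cn.index = p ^ k :=
    ⟨_, Nat.eq_prime_pow_of_unique_prime_dvd Subgroup.FiniteIndex.index_ne_zero fun {q} hq hd' =>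
      by_contra fun hne => hidx q hq hne hd'⟩
  have hrel : Cn.index ≤ Cn.relIndex (P : Subgroup N) := by
    refine Nat.le_of_dvd (Nat.pos_of_ne_zero ?_) ?_
    · exact Subgroup.FiniteIndex.index_ne_zero
    · have h2 : Cn.index ∣ Cn.relIndex (P : Subgroup N) * (P : Subgroup N).index := by
        rw [← Subgroup.inf_relIndex_right, Subgroup.relIndex_mul_index inf_le_right]
        exact Subgroup.index_dvd_of_le inf_le_left
      refine Nat.Coprime.dvd_of_dvd_mul_right ?_ h2
      rw [hk]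
      exact Nat.Coprime.pow_left k ((Nat.Prime.coprime_iff_not_dvd hp).mpr P.not_dvd_index)
  have hsurj : Function.Surjective
      (Quotient.map' (s₁ := QuotientGroup.leftRel (Cn.subgroupOf P))
        (s₂ := QuotientGroup.leftRel Cn) (fun x : (P : Subgroup N) => (x : N)) fun a b h => by
        rw [QuotientGroup.leftRel_apply] at h ⊢; exact h) := by
    refine (Function.Injective.bijective_of_nat_card_le ?_ ?_).surjective
    · rintro ⟨a⟩ ⟨b⟩ h
      refine Quotient.sound ?_
      have h' : (a : N)⁻¹ * (b : N) ∈ Cn := QuotientGroup.leftRel_apply.mp (Quotient.exact h)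
      exact QuotientGroup.leftRel_apply.mpr h'
    · show Cn.index ≤ Cn.relIndex (P : Subgroup N)
      exact hrel
  set P' := (P : Subgroup N).map N.subtype
  have h2 : ∀ a ∈ conjugatesOf d, a * d ∈ P' := by
    intro a ha
    obtain ⟨g, rfl⟩ := isConj_iff.mp ha
    obtain ⟨n, hn, he⟩ := h1 g
    obtain ⟨⟨w⟩, hw⟩ := hsurj (QuotientGroup.mk (⟨n, hn⟩ : N))
    have hw' := QuotientGroup.leftRel_apply.mp (Quotient.exact hw)
    have hc : d * (((w : N) : G)⁻¹ * n) = ((w : N) : G)⁻¹ * n * d :=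
      (Subgroup.mem_centralizer_singleton_iff.mp hw').symm
    have he' : n * d * n⁻¹ = ((w : N) : G) * d * ((w : N) : G)⁻¹ := by
      rw [show n * d * n⁻¹ = ((w : N) : G) * ((((w : N) : G)⁻¹ * n) * d) * n⁻¹ by group, ← hc]
      group
    rw [he, he']
    have hwP : ((w : N) : G) ∈ P' := ⟨w, w.2, rfl⟩
    rw [show ((w : N) : G) * d * ((w : N) : G)⁻¹ * d
      = ((w : N) : G) * (d * ((w : N) : G)⁻¹ * d⁻¹) by rw [hdinv]; group]
    exact mul_mem hwP
      ((Subgroup.mem_normalizer_iff.mp (hP (Subgroup.mem_zpowers d)) _).mp (inv_mem hwP))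
  have h3 : ∀ a ∈ conjugatesOf d, ∀ b ∈ conjugatesOf d, a * b ∈ P' := by
    intro a ha b hb
    have hbinv : b⁻¹ = b := by
      obtain ⟨g, rfl⟩ := isConj_iff.mp hb
      rw [conj_inv, hdinv]
    rw [show a * b = a * d * (b * d)⁻¹ by
      rw [mul_inv_rev, hdinv, hbinv, mul_assoc a, ← mul_assoc d, hd2, one_mul]]
    exact mul_mem (h2 a ha) (inv_mem (h2 b hb))
  intro a ha b hb
  let S : Set G := {x | ∃ a ∈ conjugatesOf d, ∃ b ∈ conjugatesOf d, x = a * b}
  have hS : Subgroup.normalClosure S ≤ P' := by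
    refine (Subgroup.closure_le _).mpr fun x hx => ?_
    obtain ⟨y, ⟨a, ha, b, hb, rfl⟩, hxy⟩ := Group.mem_conjugatesOfSet_iff.mp hx
    obtain ⟨g, rfl⟩ := isConj_iff.mp hxy
    rw [← conj_mul]
    exact h3 _ (IsConj.trans ha (isConj_iff.mpr ⟨g, rfl⟩)) _
      (IsConj.trans hb (isConj_iff.mpr ⟨g, rfl⟩))
  exact CfsgLib.Fitting.le_pCore inferInstance
    ((P.isPGroup'.map N.subtype).to_le hS) (Subgroup.subset_normalClosure ⟨a, ha, b, hb, rfl⟩)

end Cfsg.Agent.S5560
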