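import Cfsg.Statements.S1618
import Cfsg.Agent.S5560

set_option autoImplicit false
open Cfsg
open scoped commutatorElement

namespace Cfsg.Agent.S1618

/-- A group generated by a class of involutions whose pairwise products (of distinct members) have p-power order for a fixed odd prime p has nilpotent derived subgroup. -/
theorem result {G : Type*} [Group G] [Finite G] (p : ℕ) (hp : p.Prime) (hodd : p ≠ 2) {D : Set G} (hinv : ∀ d ∈ D, orderOf d = 2) (hconj : ∃ d ∈ D, D = conjugatesOf d) (hgen : Subgroup.closure D = ⊤) (hprod : ∀ x ∈ D, ∀ y ∈ D, x ≠ y → ∃ k : ℕ, orderOf (x * y) = p ^ k) : Group.IsNilpotent ↥(commutator G) := by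
  obtain ⟨d, hd, rfl⟩ := hconj
  have hord := hinv d hd
  have hd2 : d * d = 1 := by rw [← pow_two, ← hord, pow_orderOf_eq_one]
  have key := Cfsg.Agent.S5560.result hp hodd d hord fun a ha b hb => by
    rcases eq_or_ne a b with rfl | h
    · exact ⟨0, by rw [pow_zero, orderOf_eq_one_iff, ← pow_two, ← hinv a ha, pow_orderOf_eq_one]⟩
    · exact hprod a ha b hb h
  haveI : Fact p.Prime := ⟨hp⟩
  haveI hN : (Cfsg.pCore p G).Normal := CfsgLib.Fitting.pCore_normal p
  let π := QuotientGroup.mk' (Cfsg.pCore p G)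
  have hmem : ∀ g : G, π g ∈ Subgroup.zpowers (π d) := by
    intro g
    have hg : g ∈ Subgroup.closure (conjugatesOf d) := hgen ▸ Subgroup.mem_top g
    refine (?_ : _ ≤ (Subgroup.zpowers (π d)).comap π) hg
    rw [Subgroup.closure_le]
    intro a ha
    have h := (QuotientGroup.eq_one_iff (a * d)).mpr (key a ha d hd)
    have h' : π a * π d = 1 := by rw [← map_mul]; exact h
    show π a ∈ Subgroup.zpowers (π d)
    rw [eq_inv_of_mul_eq_one_left h']
    exact inv_mem (Subgroup.mem_zpowers _)
  have hle : commutator G ≤ Cfsg.pCore p G := by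
    rw [commutator_eq_closure, Subgroup.closure_le]
    rintro _ ⟨a, b, rfl⟩
    rw [SetLike.mem_coe, ← QuotientGroup.eq_one_iff]
    show π ⁅a, b⁆ = 1
    obtain ⟨i, hi⟩ := Subgroup.mem_zpowers_iff.mp (hmem a)
    obtain ⟨j, hj⟩ := Subgroup.mem_zpowers_iff.mp (hmem b)
    rw [map_commutatorElement, ← hi, ← hj]
    exact commutatorElement_eq_one_iff_commute.mpr (Commute.zpow_zpow_self _ i j)
  exact ((CfsgLib.Fitting.pCore_isPGroup p).to_le hle).isNilpotent

end Cfsg.Agent.S1618
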