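import Cfsg.Statements.S1635
import Cfsg.Agent.Lib.Golay.Cosets
-- import your own Cfsg.Agent.* helpers here

set_option autoImplicit false
open Cfsg

namespace Cfsg.Agent.S1635

/-- Coset leaders of the length-24 code: a coset contains a unique word of weight ≤ 3, or else exactly six words of weight 4 and none lighter. -/
theorem result (w : Cfsg.GolayPt → ZMod 2) : ({v : Cfsg.GolayPt → ZMod 2 | hammingNorm v ≤ 4 ∧ w - v ∈ Cfsg.golayCode}.ncard = 1 ∧ ∃ v : Cfsg.GolayPt → ZMod 2, hammingNorm v ≤ 3 ∧ w - v ∈ Cfsg.golayCode) ∨ ({v : Cfsg.GolayPt → ZMod 2 | hammingNorm v ≤ 4 ∧ w - v ∈ Cfsg.golayCode}.ncard = 6 ∧ ∀ v : Cfsg.GolayPt → ZMod 2, w - v ∈ Cfsg.golayCode → hammingNorm v ≤ 4 → hammingNorm v = 4) := by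
  rcases CfsgLib.Golay.golay_leaders w with ⟨v, hv, h3⟩ | ⟨h6, hall⟩
  · refine Or.inl ⟨by rw [hv, Set.ncard_singleton], v, h3, ?_⟩
    have : v ∈ ({v} : Set (Cfsg.GolayPt → ZMod 2)) := rfl
    rw [← hv] at this
    exact this.2
  · exact Or.inr ⟨h6, fun v h1 h2 => (hall v ⟨h2, h1⟩).1⟩

end Cfsg.Agent.S1635
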