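import Cfsg.Statements.S1653
import Cfsg.Agent.Lib.HeUnique.Struct.Setup
import Cfsg.Agent.Lib.HeUnique.End.Trichotomy
import Cfsg.Agent.Lib.HePres.Sub

set_option autoImplicit false
open Cfsg

namespace Cfsg.Agent.S1653

/-- A group of Held type contains Sp₄(4):2: let a finite simple group of order 4030387200 have exactly two conjugacy classes of involutions and an involution t whose centraliser C has a normal subgroup Q, extraspecial of order 2 ^ 7 with an elementary abelian subgroup of order 16, whose centraliser in C lies in Q, such that C / Q is isomorphic to SL(3, 2). Then some subgroup H has a normal subgroup of index 2 isomorphic to the symplectic group of dimension 4 over a field with 4 elements. -/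
theorem result {G : Type*} [Group G] [Finite G] [IsSimpleGroup G] (t : G) (ht : orderOf t = 2) (Q : Subgroup (Subgroup.centralizer ({t} : Set G))) [Q.Normal] (hQ : Cfsg.IsExtraspecial 2 Q) (hcard : Nat.card Q = 2 ^ 7) (hplus : ∃ E : Subgroup Q, Cfsg.IsElementaryAbelian 2 E ∧ Nat.card E = 2 ^ 4) (h2c : Subgroup.centralizer (Q : Set (Subgroup.centralizer ({t} : Set G))) ≤ Q) (e : (Subgroup.centralizer ({t} : Set G)) ⧸ Q ≃* Matrix.SpecialLinearGroup (Fin 3) (ZMod 2)) (hG : Nat.card G = 4030387200) (htwo : ∃ x y : G, orderOf x = 2 ∧ orderOf y = 2 ∧ ¬ IsConj x y ∧ ∀ z : G, orderOf z = 2 → IsConj z x ∨ IsConj z y) : ∃ (H : Subgroup G) (N : Subgroup H) (K : Type) (_ : Field K) (_ : Fintype K), N.Normal ∧ N.index = 2 ∧ Fintype.card K = 4 ∧ Nonempty (N ≃* Matrix.symplecticGroup (Fin 2) K) := by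
  obtain ⟨ι, R⟩ := CfsgLib.HeUnique.Struct.exists_rep_of_data t ht Q hQ hcard h2c e hG
  rcases CfsgLib.HeUnique.simple_three_way R with ⟨⟨φ⟩⟩ | ⟨⟨φ⟩⟩ | ⟨⟨φ⟩⟩
  · have h1 := (Nat.card_congr φ.toEquiv).trans CfsgLib.HeUnique.card_SL52
    omega
  · have h1 := (Nat.card_congr φ.toEquiv).trans CfsgLib.Golay.natCard_M24
    omega
  · obtain ⟨N, K, hK1, hK2, hN, hi, hc, ⟨ψ⟩⟩ := CfsgLib.HePres.subA_structure
    let σ := φ.symm.subgroupMap CfsgLib.HePres.subA
    exact ⟨_, N.map σ.toMonoidHom, K, hK1, hK2, hN.map _ σ.surjective,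
      (Subgroup.index_map_equiv (H := N) σ).trans hi, hc, ⟨(σ.subgroupMap N).symm.trans ψ⟩⟩

end Cfsg.Agent.S1653
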