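import Cfsg.Statements.S1690
import Cfsg.Agent.Lib.Fi24Act.Main

set_option autoImplicit false
open Cfsg

namespace Cfsg.Agent.S1690

/-- In the presented group Fi₂₄ = Fi₂₄′:2, the subgroup generated by the images of a, b, c, d, e, f, g, h, i, j and l (every generator but k) has index 306936. -/
theorem result : (((Subgroup.closure ({Cfsg.Spor.Fi24.a, Cfsg.Spor.Fi24.b, Cfsg.Spor.Fi24.c, Cfsg.Spor.Fi24.d, Cfsg.Spor.Fi24.e, Cfsg.Spor.Fi24.f, Cfsg.Spor.Fi24.g, Cfsg.Spor.Fi24.h, Cfsg.Spor.Fi24.i, Cfsg.Spor.Fi24.j, Cfsg.Spor.Fi24.l} : Set (FreeGroup Cfsg.Spor.Fi24.Gen))).map (PresentedGroup.mk (Cfsg.Spor.coxRelators Cfsg.Spor.Fi24.edges ∪ {r | r ∈ Cfsg.Spor.Fi24.extra})))).index = 306936 := by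
  have e : ∀ {G : Type} [Group G] (S : Set (FreeGroup Cfsg.Spor.Fi24.Gen)) (f : FreeGroup Cfsg.Spor.Fi24.Gen →* G),
      (Subgroup.closure S).map f = Subgroup.closure (f '' S) := fun S f => f.map_closure S
  rw [e]
  refine Eq.trans (congrArg Subgroup.index ?_) CfsgLib.Fi24Act.subH_index
  show _ = Subgroup.closure {y | ∃ g < 11, CfsgLib.Fi24Pres.gen g = y}
  congr 1
  ext y
  simp only [Set.image_insert_eq, Set.image_singleton, Set.mem_insert_iff, Set.mem_singleton_iff, Set.mem_ofPred_eq]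
  constructor
  · rintro (rfl | rfl | rfl | rfl | rfl | rfl | rfl | rfl | rfl | rfl | rfl)
    exacts [⟨0, by norm_num, rfl⟩, ⟨1, by norm_num, rfl⟩, ⟨2, by norm_num, rfl⟩, ⟨3, by norm_num, rfl⟩,
      ⟨4, by norm_num, rfl⟩, ⟨5, by norm_num, rfl⟩, ⟨6, by norm_num, rfl⟩, ⟨7, by norm_num, rfl⟩,
      ⟨8, by norm_num, rfl⟩, ⟨9, by norm_num, rfl⟩, ⟨10, by norm_num, rfl⟩]
  · rintro ⟨g, hg, rfl⟩
    interval_cases g
    exacts [.inl rfl, .inr (.inl rfl), .inr (.inr (.inl rfl)), .inr (.inr (.inr (.inl rfl))),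
      .inr (.inr (.inr (.inr (.inl rfl)))), .inr (.inr (.inr (.inr (.inr (.inl rfl))))),
      .inr (.inr (.inr (.inr (.inr (.inr (.inl rfl)))))), .inr (.inr (.inr (.inr (.inr (.inr (.inr (.inl rfl))))))),
      .inr (.inr (.inr (.inr (.inr (.inr (.inr (.inr (.inl rfl)))))))),
      .inr (.inr (.inr (.inr (.inr (.inr (.inr (.inr (.inr (.inl rfl))))))))),
      .inr (.inr (.inr (.inr (.inr (.inr (.inr (.inr (.inr (.inr rfl)))))))))]

end Cfsg.Agent.S1690
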