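import Cfsg.Statements.S1691
import Mathlib
-- import your own Cfsg.Agent.* helpers here

set_option autoImplicit false
open Cfsg Cfsg.Spor

namespace Cfsg.Agent.S1691

/-- The commutator subgroup of the presented group Fi₂₄ has index 2 (the presented group is Fi₂₄′:2 with Fi₂₄′ its derived subgroup). -/
theorem result : (commutator Cfsg.Spor.Fi24).index = 2 := by
  classical
  let φ : Abelianization Fi24 := Abelianization.of (PresentedGroup.of Fi24.Gen.d)
  have hsurj : ∃ f : Fi24 →* Multiplicative (ZMod 2), f (PresentedGroup.of Fi24.Gen.d) ≠ 1 := by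
    refine ⟨PresentedGroup.toGroup (f := fun _ => Multiplicative.ofAdd (1 : ZMod 2)) ?_, ?_⟩
    · rintro r (⟨x, hx, y, hy, rfl⟩ | hr)
      · rw [map_pow, map_mul, FreeGroup.lift_apply_of, FreeGroup.lift_apply_of]
        refine (congrArg (· ^ coxLabel Fi24.edges x y) (?_ : _ = (1 : Multiplicative (ZMod 2)))).trans (one_pow _)
        decide
      · simp only [Fi24.extra, List.mem_cons, List.not_mem_nil, or_false, Set.mem_setOf_eq] at hr
        rcases hr with rfl | rfl <;>
          simp only [map_mul, map_pow, map_inv, Fi24.l, Fi24.k, Fi24.a, Fi24.b, Fi24.c, Fi24.d,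
            Fi24.e, Fi24.f, Fi24.g, Fi24.j, Fi24.h, Fi24.i, FreeGroup.lift_apply_of] <;> decide
    · rw [PresentedGroup.toGroup.of]; decide
  obtain ⟨f, hf⟩ := hsurj
  have hφ1 : φ ≠ 1 := fun h => hf (by
    have := congrArg (Abelianization.lift f) h
    simpa [φ] using this)
  let A := fun x : Fi24.Gen => Abelianization.of (PresentedGroup.of (rels := coxRelators Fi24.edges ∪ {r | r ∈ Fi24.extra}) x)
  have hnode : ∀ x : Fi24.Gen, x ∈ coxNodes Fi24.edges := by intro x; cases x <;> decide
  have hrel : ∀ x y : Fi24.Gen, (A x * A y) ^ coxLabel Fi24.edges x y = 1 := fun x y => by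
    have h := PresentedGroup.one_of_mem (rels := coxRelators Fi24.edges ∪ {r | r ∈ Fi24.extra})
      (Set.mem_union_left _ ⟨x, hnode x, y, hnode y, rfl⟩)
    have := congrArg Abelianization.of h
    rwa [map_one, map_pow, map_mul, map_pow, map_mul] at this
  have hsq : ∀ x, A x * A x = 1 := fun x => by simpa [coxLabel] using hrel x x
  have hedge : ∀ x y, coxLabel Fi24.edges x y = 3 → A x = A y := fun x y h => by
    have h3 := hrel x y
    rw [h] at h3
    have h2 : (A x * A y) ^ 2 = 1 := by rw [mul_pow, pow_two, pow_two, hsq, hsq, one_mul]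
    rw [pow_succ, h2, one_mul] at h3
    calc A x = A x * (A y * A y) := by rw [hsq, mul_one]
      _ = A y := by rw [← mul_assoc, h3, one_mul]
  have hall : ∀ x, A x = φ := by
    have hc := hedge .c .d (by decide); have hb := hedge .b .c (by decide)
    have ha := hedge .a .b (by decide); have hk := hedge .k .a (by decide)
    have hl := hedge .l .k (by decide); have he := hedge .d .e (by decide)
    have hf' := hedge .e .f (by decide); have hg := hedge .f .g (by decide)
    have hj := hedge .g .j (by decide); have hh := hedge .d .h (by decide)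
    have hi := hedge .h .i (by decide)
    intro x; show A x = A .d
    cases x
    exacts [hl.trans (hk.trans (ha.trans (hb.trans hc))), hk.trans (ha.trans (hb.trans hc)),
      ha.trans (hb.trans hc), hb.trans hc, hc, rfl, he.symm, (he.trans hf').symm,
      (he.trans (hf'.trans hg)).symm, (he.trans (hf'.trans (hg.trans hj))).symm, hh.symm, (hh.trans hi).symm]
  have htop : Subgroup.zpowers φ = ⊤ := by
    have h : ∀ g : Fi24, Abelianization.of g ∈ Subgroup.zpowers φ := fun g => by
      refine PresentedGroup.generated_by _ ((Subgroup.zpowers φ).comap Abelianization.of) ?_ g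
      exact fun x => Subgroup.mem_comap.mpr (by rw [show Abelianization.of (PresentedGroup.of x) = φ from hall x]; exact Subgroup.mem_zpowers φ)
    rw [eq_top_iff]; rintro z -
    obtain ⟨g, rfl⟩ := QuotientGroup.mk'_surjective _ z
    exact h g
  rw [Subgroup.index_eq_card]
  change Nat.card (Abelianization Fi24) = 2
  rw [← Subgroup.card_top, ← htop, Nat.card_zpowers]
  exact orderOf_eq_prime (by rw [pow_two]; exact hsq .d) hφ1

end Cfsg.Agent.S1691
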