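import Cfsg.Statements.S1722
import Cfsg.Agent.Lib.J2Type.FiveClasses

set_option autoImplicit false
open Cfsg

namespace Cfsg.Agent.S1722

/-- Sylow 5-structure of a group of Hall–Janko type (large-extraspecial hypothesis with Q of order 32, quotient Ω⁻(4, 2), z not weakly closed in Q, more than one class of involutions): a Sylow 5-subgroup P is its own centraliser, has order 25, its normaliser has order 300, and the subgroups of order 5 fall into exactly two conjugacy classes. -/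
theorem result {G : Type*} [Group G] [Finite G] (z : G) (hz : orderOf z = 2) (Q : Subgroup (Subgroup.centralizer ({z} : Set G))) [Q.Normal] (hF : Cfsg.generalizedFittingSubgroup (Subgroup.centralizer ({z} : Set G)) = Q) (hQ : Cfsg.IsExtraspecial 2 Q) (hcard : Nat.card Q = 2 ^ 5) (e : (Subgroup.centralizer ({z} : Set G)) ⧸ Q ≃* Cfsg.Omega (ZMod 2) (Cfsg.quadFormMinus 1 (ZMod 2) 1 1)) (hnwc : ∃ g : G, (∃ hq : g * z * g⁻¹ ∈ Subgroup.centralizer ({z} : Set G), (⟨g * z * g⁻¹, hq⟩ : Subgroup.centralizer ({z} : Set G)) ∈ Q) ∧ g * z * g⁻¹ ≠ z) (hcl : ∃ x y : G, orderOf x = 2 ∧ orderOf y = 2 ∧ ¬ IsConj x y) (P : Sylow 5 G) : Subgroup.centralizer ((P : Subgroup G) : Set G) = P ∧ Nat.card P = 25 ∧ Nat.card (Subgroup.normalizer ((P : Subgroup G) : Set G)) = 300 ∧ ∃ X Y : Subgroup G, Nat.card X = 5 ∧ Nat.card Y = 5 ∧ (∀ g : G, X.map (MulAut.conj g).toMonoidHom ≠ Y) ∧ ∀ W : Subgroup G, Nat.card W = 5 → ∃ g : G, W.map (MulAut.conj g).toMonoidHom = X ∨ W.map (MulAut.conj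 g).toMonoidHom = Y := by
  obtain ⟨t, g, Q', K, C, V, M0, D⟩ := CfsgLib.J2Type.exists_data z hz Q hF hQ hcard e hnwc hcl
  obtain ⟨f, a, -, ho, -, -, hao, -, hne, hall, hN⟩ := D.five_main
  refine ⟨D.centralizer_sylow P, D.card_five P, hN P, Subgroup.zpowers f, Subgroup.zpowers a,
    by rw [Nat.card_zpowers, ho], by rw [Nat.card_zpowers, hao], fun u h => ?_, fun W hW => ?_⟩
  · rw [CfsgLib.J2Type.conj_zpowers] at h
    exact hne u (h ▸ Subgroup.mem_zpowers _)
  · haveI : Nontrivial W := Finite.one_lt_card_iff_nontrivial.mp (by omega)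
    obtain ⟨⟨y, hy⟩, hy1'⟩ := exists_ne (1 : W)
    have hy1 : y ≠ 1 := fun h => hy1' (Subtype.ext h)
    have hyo : orderOf y = 5 := by
      have h := Subgroup.orderOf_dvd_natCard _ hy
      rw [hW] at h
      rcases (Nat.dvd_prime (by norm_num)).1 h with h' | h'
      · exact absurd (orderOf_eq_one_iff.1 h') hy1
      · exact h'
    have hWy : W = Subgroup.zpowers y :=
      (Subgroup.eq_of_le_of_card_ge (Subgroup.zpowers_le.2 hy) (by rw [Nat.card_zpowers, hyo, hW])).symm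
    obtain ⟨u, hu⟩ := hall y hyo
    have hu1 : u * y * u⁻¹ ≠ 1 := fun h => hy1 (conj_eq_one_iff.1 h)
    refine ⟨u, ?_⟩
    rw [hWy, CfsgLib.J2Type.conj_zpowers]
    rcases hu with hu | hu
    · exact Or.inl (CfsgLib.J2Type.zpowers_eq_of_mem ho hu hu1)
    · exact Or.inr (CfsgLib.J2Type.zpowers_eq_of_mem hao hu hu1)

end Cfsg.Agent.S1722
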