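import Cfsg.Statements.S1725
import Cfsg.Agent.Lib.SuzThree.Sylow
import Cfsg.Agent.Lib.SuzType.Build

set_option autoImplicit false
open Cfsg

namespace Cfsg.Agent.S1725

/-- Transport of the quotient along an automorphism. -/
theorem iso_map {G : Type*} [Group G] (A : Subgroup G) (f : G ≃* G)
    (h1 : (A.subgroupOf (Subgroup.normalizer (A : Set G))).Normal)
    (h2 : ((A.map f.toMonoidHom).subgroupOf (Subgroup.normalizer (A.map f.toMonoidHom : Set G))).Normal)
    (hiso : Cfsg.Spor.IsoM11 (↥(Subgroup.normalizer (A : Set G)) ⧸ A.subgroupOf (Subgroup.normalizer (A : Set G)))) :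
    Cfsg.Spor.IsoM11 (↥(Subgroup.normalizer (A.map f.toMonoidHom : Set G)) ⧸
      (A.map f.toMonoidHom).subgroupOf (Subgroup.normalizer (A.map f.toMonoidHom : Set G))) := by
  haveI := h1
  haveI := h2
  obtain ⟨e⟩ := hiso
  let g : ↥(Subgroup.normalizer (A : Set G)) ≃* ↥(Subgroup.normalizer (A.map f.toMonoidHom : Set G)) :=
    (f.subgroupMap (Subgroup.normalizer (A : Set G))).trans (MulEquiv.subgroupCongr (A.map_equiv_normalizer_eq f))
  have hg : (A.subgroupOf (Subgroup.normalizer (A : Set G))).map g.toMonoidHom =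
      (A.map f.toMonoidHom).subgroupOf (Subgroup.normalizer (A.map f.toMonoidHom : Set G)) := by
    ext x
    constructor
    · rintro ⟨a, ha, rfl⟩
      exact ⟨(a : G), ha, rfl⟩
    · rintro ⟨a, ha, hax⟩
      exact ⟨⟨a, Subgroup.le_normalizer ha⟩, ha, Subtype.ext hax⟩
  exact ⟨(QuotientGroup.congr _ _ g hg).symm.trans e⟩

/-- A 3-local step in the uniqueness proof for the sporadic Suzuki group: let G satisfy the large-extraspecial hypothesis with Q of order 2 ^ 7, quotient Ω⁻(6, 2) and z not weakly closed in Q, and let X be a subgroup of order 3 of the centraliser C of z with the commutator subgroup of Q and X of order 8 and non-abelian (a quaternion group). Then for any Sylow 3-subgroup P of the normaliser of X in G, P is a Sylow 3-subgroup of G (its index in G is prime to 3), and P contains an elementary abelian subgroup A of order 3 ^ 5 with C_G(A) = A and N_G(A) / A isomorphic to the Mathieu group M₁₁. -/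
theorem result {G : Type*} [Group G] [Finite G] (z : G) (hz : orderOf z = 2) (Q : Subgroup (Subgroup.centralizer ({z} : Set G))) [Q.Normal] (hF : Cfsg.generalizedFittingSubgroup (Subgroup.centralizer ({z} : Set G)) = Q) (hQ : Cfsg.IsExtraspecial 2 Q) (hcard : Nat.card Q = 2 ^ 7) (e : (Subgroup.centralizer ({z} : Set G)) ⧸ Q ≃* Cfsg.Omega (ZMod 2) (Cfsg.quadFormMinus 2 (ZMod 2) 1 1)) (hnwc : ∃ g : G, (∃ hq : g * z * g⁻¹ ∈ Subgroup.centralizer ({z} : Set G), (⟨g * z * g⁻¹, hq⟩ : Subgroup.centralizer ({z} : Set G)) ∈ Q) ∧ g * z * g⁻¹ ≠ z) (X : Subgroup (Subgroup.centralizer ({z} : Set G))) (hX : Nat.card X = 3) (hQX : Nat.card ↥⁅Q, X⁆ = 8) (hQXna : ¬ IsMulCommutative ↥⁅Q, X⁆) (P : Sylow 3 ↥(Subgroup.normalizer ((X.map (Subgroup.subtype (Subgroup.centralizer ({z} : Set G))) : Subgroup G) : Set G))) : ¬ 3 ∣ (((P : Subgroup ↥(Subgroup.normalizer ((X.map (Subgroup.subtype (Subgroup.centralizer ({z} : Set G))) : Subgroup G) : Set G))).map (Subgroup.subtype (Subgroup.normalizer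 ((X.map (Subgroup.subtype (Subgroup.centralizer ({z} : Set G))) : Subgroup G) : Set G)))).index) ∧ ∃ A : Subgroup G, A ≤ (P : Subgroup ↥(Subgroup.normalizer ((X.map (Subgroup.subtype (Subgroup.centralizer ({z} : Set G))) : Subgroup G) : Set G))).map (Subgroup.subtype (Subgroup.normalizer ((X.map (Subgroup.subtype (Subgroup.centralizer ({z} : Set G))) : Subgroup G) : Set G))) ∧ Cfsg.IsElementaryAbelian 3 A ∧ Nat.card A = 3 ^ 5 ∧ Subgroup.centralizer (A : Set G) = A ∧ ∃ _ : (A.subgroupOf (Subgroup.normalizer (A : Set G))).Normal, Cfsg.Spor.IsoM11 (↥(Subgroup.normalizer (A : Set G)) ⧸ A.subgroupOf (Subgroup.normalizer (A : Set G))) := by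
  classical
  obtain ⟨v, H⟩ := CfsgLib.SuzType.exists_co z hz Q hF hQ hcard e hnwc
  haveI : Fact (Nat.Prime 3) := ⟨Nat.prime_three⟩
  haveI : IsCyclic X := isCyclic_of_prime_card hX
  obtain ⟨g, hg⟩ := IsCyclic.exists_ofOrder_eq_natCard (α := X)
  rw [hX] at hg
  have hgC : orderOf ((g : (Subgroup.centralizer ({z} : Set G))) : G) = 3 := by rw [Subgroup.orderOf_coe, Subgroup.orderOf_coe]; exact hg
  have hzp : Subgroup.zpowers (g : (Subgroup.centralizer ({z} : Set G))) = X :=
    Subgroup.eq_of_le_of_card_ge ((Subgroup.zpowers_le).mpr g.2) (by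
      rw [hX, Nat.card_zpowers, Subgroup.orderOf_coe, hg])
  set y : G := ((g : (Subgroup.centralizer ({z} : Set G))) : G) with hy
  have hB : X.map (Subgroup.centralizer ({z} : Set G)).subtype = Subgroup.zpowers y := by
    rw [← hzp, MonoidHom.map_zpowers]; rfl
  have hy3 : y * y * y = 1 := by
    have := pow_orderOf_eq_one y
    rwa [hgC, pow_succ, pow_two] at this
  have hy1 : y ≠ 1 := fun e => by rw [e, orderOf_one] at hgC; exact absurd hgC (by norm_num)
  have hyz : y * z = z * y := Subgroup.mem_centralizer_singleton_iff.mp (g : (Subgroup.centralizer ({z} : Set G))).2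
  let S : Finset CfsgLib.SuzType.V6 :=
    (Set.toFinite ((⁅Q, X⁆ : Subgroup (Subgroup.centralizer ({z} : Set G))) : Set (Subgroup.centralizer ({z} : Set G)))).toFinset.image (fun c : ↥(Subgroup.centralizer ({z} : Set G)) => v (c : G))
  have hS : S.card ≤ 8 := by
    refine Finset.card_image_le.trans ?_
    rw [← Nat.card_eq_card_finite_toFinset]; exact hQX.le
  obtain ⟨v', D⟩ := CfsgLib.SuzThree.exists_yd H hy3 hy1 hyz S hS (fun a ha => by
    obtain ⟨q, hq, rfl⟩ := ha
    refine Finset.mem_image.mpr ⟨q⁻¹ * (g : (Subgroup.centralizer ({z} : Set G))) * (q⁻¹)⁻¹ * (g : (Subgroup.centralizer ({z} : Set G)))⁻¹, (Set.Finite.mem_toFinset _).mpr ?_, ?_⟩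
    · exact Subgroup.commutator_mem_commutator (inv_mem hq) g.2
    · have hq' : (q : G) ∈ Q.map (Subgroup.centralizer ({z} : Set G)).subtype := ⟨q, hq, rfl⟩
      have hm := H.conj_mem hyz hq'
      show v ((q : G)⁻¹ * y * ((q : G)⁻¹)⁻¹ * y⁻¹) = v ((q : G) * (y * (q : G) * y⁻¹))
      rw [show (q : G)⁻¹ * y * ((q : G)⁻¹)⁻¹ * y⁻¹ = (q : G)⁻¹ * (y * (q : G) * y⁻¹) by group,
        H.mul _ (inv_mem hq') _ hm, H.v_inv hq', H.mul _ hq' _ hm])
  haveI : Fintype (GaloisField 3 2) := Fintype.ofFinite _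
  have hK : Fintype.card (GaloisField 3 2) = 9 := by
    rw [← Nat.card_eq_fintype_card, GaloisField.card 3 2 (by norm_num)]; norm_num
  obtain ⟨α, β, GDd⟩ := D.exists_gd
  obtain ⟨A, nk, t, T⟩ := GDd.exists_tor hK
  obtain ⟨R, hRN, hRcard, hAR, hRi⟩ := GDd.exists_sylow T hK
  have hcardN := D.card_normalizer hK
  revert P
  rw [hB]
  set N := Subgroup.normalizer (Subgroup.zpowers y : Set G) with hN
  intro P
  let R' : Sylow 3 ↥N := Sylow.ofCard (R.subgroupOf N) (by
    rw [Nat.card_congr (Subgroup.subgroupOfEquivOfLe hRN).toEquiv, hRcard, hcardN,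
      show (19595520 : ℕ) = 3 ^ 7 * 8960 by norm_num, Nat.factorization_mul (by norm_num) (by norm_num),
      Finsupp.add_apply, Nat.Prime.factorization_pow Nat.prime_three, Finsupp.single_eq_same,
      Nat.factorization_eq_zero_of_not_dvd (by norm_num), add_zero])
  obtain ⟨n, hn⟩ := MulAction.exists_smul_eq ↥N R' P
  set f : G ≃* G := MulAut.conj (n : G) with hf
  have hPmap : (P : Subgroup ↥N).map N.subtype = R.map f.toMonoidHom := by
    rw [← hn]
    ext x
    constructor
    · rintro ⟨_, ⟨r, hr, rfl⟩, rfl⟩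
      exact ⟨(r : G), hr, rfl⟩
    · rintro ⟨r, hr, rfl⟩
      exact ⟨_, ⟨⟨r, hRN hr⟩, hr, rfl⟩, rfl⟩
  have h1 : (A.subgroupOf (Subgroup.normalizer (A : Set G))).Normal := Subgroup.normal_in_normalizer
  refine ⟨?_, A.map f.toMonoidHom, ?_, ⟨⟨⟨?_⟩⟩, ?_⟩, ?_, ?_, Subgroup.normal_in_normalizer,
    iso_map A f h1 Subgroup.normal_in_normalizer (GDd.quotient_m11 T h1)⟩
  · rw [hPmap, show (R.map f.toMonoidHom).index = R.index from Subgroup.index_map_equiv R f]; exact hRi
  · rw [hPmap]; exact Subgroup.map_mono hAR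
  · rintro ⟨_, a, ha, rfl⟩ ⟨_, b, hb, rfl⟩
    refine Subtype.ext ?_
    show f a * f b = f b * f a
    rw [← map_mul, ← map_mul, T.comm a ha b hb]
  · rintro _ ⟨a, ha, rfl⟩
    show f a ^ 3 = 1
    rw [← map_pow, pow_succ, pow_two, T.cube a ha, map_one]
  · rw [Subgroup.card_map_of_injective f.injective, T.card]; norm_num
  · ext g
    rw [Subgroup.mem_centralizer_iff]
    constructor
    · intro hg
      refine ⟨f.symm g, T.cent _ fun a ha => ?_, f.apply_symm_apply g⟩
      refine f.injective ?_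
      rw [map_mul, map_mul, f.apply_symm_apply]
      exact (hg (f a) ⟨a, ha, rfl⟩).symm
    · rintro ⟨a, ha, rfl⟩ _ ⟨b, hb, rfl⟩
      show f b * f a = f a * f b
      rw [← map_mul, ← map_mul, T.comm b hb a ha]

end Cfsg.Agent.S1725
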