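import Cfsg.Statements.S1743
import Cfsg.Agent.Lib.GTwoSyl.Main
import Cfsg.Agent.Lib.GTwoSyl.Fusion

set_option autoImplicit false
open Cfsg

namespace Cfsg.Agent.S1743

/-- Let G be a finite simple group whose Sylow 2-subgroups are isomorphic to a Sylow 2-subgroup of the Chevalley group of type G₂ over a finite field of odd order, and let S be a Sylow 2-subgroup of G. Then either all involutions of G are conjugate, or S has order 64 and the involutions of G form exactly two conjugacy classes. -/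
theorem result {G : Type*} [Group G] [Finite G] [IsSimpleGroup G]
    {F : Type*} [Field F] [Fintype F] (hF : Odd (Fintype.card F)) (S : Sylow 2 G) (P : Sylow 2 ↥(Cfsg.Lie.chevG2.group F))
    (hS : Nonempty (↥(S : Subgroup G) ≃* ↥(P : Subgroup ↥(Cfsg.Lie.chevG2.group F)))) :
    (∀ x y : G, orderOf x = 2 → orderOf y = 2 → IsConj x y) ∨
      (Nat.card ↥(S : Subgroup G) = 64 ∧ ∃ x y : G, orderOf x = 2 ∧ orderOf y = 2 ∧ ¬ IsConj x y ∧
        ∀ z : G, orderOf z = 2 → IsConj z x ∨ IsConj z y) := by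
  obtain ⟨k, ⟨e⟩⟩ := CfsgLib.GTwoSyl.sylow_equiv hF P
  obtain ⟨eS⟩ := hS
  let g : CfsgLib.GTwoSyl.GT k ≃* ↥(S : Subgroup G) := e.trans eS.symm
  let f : CfsgLib.GTwoSyl.GT k →* G := (S : Subgroup G).subtype.comp g.toMonoidHom
  have hf : Function.Injective f := (Subgroup.subtype_injective _).comp g.injective
  have hr : f.range = (S : Subgroup G) := by
    ext x
    exact ⟨fun ⟨u, hu⟩ => hu ▸ (g u).2, fun hx => ⟨g.symm ⟨x, hx⟩, by
      show ((g (g.symm ⟨x, hx⟩) : ↥(S : Subgroup G)) : G) = x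
      rw [g.apply_symm_apply]⟩⟩
  rcases CfsgLib.GTwoSyl.classes S f hf hr with h | ⟨rfl, h⟩
  · exact Or.inl h
  · exact Or.inr ⟨by rw [← Nat.card_congr g.toEquiv, CfsgLib.GTwoSyl.GT.card_eq]; norm_num, h⟩

end Cfsg.Agent.S1743
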