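import Cfsg.Statements.S1746
import Cfsg.Agent.Lib.LyStd.Strong
-- import your own Cfsg.Agent.* helpers here

set_option autoImplicit false
open Cfsg

namespace Cfsg.Agent.S1746

/-- Let G be a non-abelian finite simple group with the strong B-property (every section of G has the B-property) possessing a standard subgroup L which is a non-split double cover of the alternating group of degree 11. Then G is a group of Lie type in characteristic 3, or an alternating group of degree at least 9, or G is isomorphic to the Lyons group. -/
theorem result {G : Type*} [Group G] [Finite G] [IsSimpleGroup G] (hG : ¬ IsMulCommutative G)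
    (hB : Cfsg.HasStrongBProperty G) (L : Subgroup G) (hL : Cfsg.IsStandardSubgroup L)
    (hLX : Cfsg.IsNonsplitDoubleCover ↥L ↥(alternatingGroup (Fin 11))) :
    Cfsg.IsLieTypeChar 3 G ∨ (∃ n : ℕ, 9 ≤ n ∧ Nonempty (G ≃* ↥(alternatingGroup (Fin n)))) ∨ Cfsg.Spor.IsoLy G := by
  haveI := CfsgLib.LyPres.finite_G
  obtain ⟨e⟩ := CfsgLib.LyRecog.exists_iso hLX
  have hr : (L.subtype.comp e.toMonoidHom).range = L := by
    rw [MonoidHom.range_comp, MonoidHom.range_eq_top.2 e.surjective, ← MonoidHom.range_eq_map,
      Subgroup.range_subtype]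
  let c : CfsgLib.LyStd.Ctx G := ⟨L.subtype.comp e.toMonoidHom, Subtype.val_injective.comp e.injective, hr.symm ▸ hL⟩
  obtain ⟨g, hg⟩ := c.exists_g
  exact Or.inr (Or.inr (c.iso_ly hg))

end Cfsg.Agent.S1746
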