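import Cfsg.Statements.S1747
import Cfsg.Agent.Lib.HeStd.Gamma
import Cfsg.Agent.Lib.HeStd.Top

set_option autoImplicit false
open Cfsg

namespace Cfsg.Agent.S1747

/-- Let G be a non-abelian finite simple group with the strong B-property (every section of G has the B-property) possessing a standard subgroup L whose centre is a Klein four-group with quotient isomorphic to the projective special linear group of dimension 3 over the field with 4 elements. Then G is a group of Lie type in characteristic 3, or an alternating group of degree at least 9, or G is isomorphic to the Held group. -/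
theorem result {G : Type*} [Group G] [Finite G] [IsSimpleGroup G] (hG : ¬ IsMulCommutative G)
    (hB : Cfsg.HasStrongBProperty G) (L : Subgroup G) (hL : Cfsg.IsStandardSubgroup L)
    {F : Type*} [Field F] [Fintype F] (hF : Fintype.card F = 4)
    (hLX : IsKleinFour ↥(Subgroup.center ↥L) ∧ Nonempty (↥L ⧸ Subgroup.center ↥L ≃* Matrix.ProjectiveSpecialLinearGroup (Fin 3) F)) :
    Cfsg.IsLieTypeChar 3 G ∨ (∃ n : ℕ, 9 ≤ n ∧ Nonempty (G ≃* ↥(alternatingGroup (Fin n)))) ∨ Cfsg.Spor.IsoHe G := by
  obtain ⟨c, -⟩ := CfsgLib.HeStd.exists_ctx L hL hF hLX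
  exact Or.inr (Or.inr (CfsgLib.HeStd.Ctx.isoHe_of_no_swap (c := c) CfsgLib.HeStd.Ctx.no_swap))

end Cfsg.Agent.S1747
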