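import Cfsg.Statements.S1752
import Cfsg.Agent.Lib.HNStd.Simple
import Cfsg.Agent.Lib.HNStd.KEnd

set_option autoImplicit false
open Cfsg

namespace Cfsg.Agent.S1752

/-- Let G be a non-abelian finite simple group with the strong B-property (every section of G has the B-property) possessing a standard subgroup L whose centre has order 2 with quotient isomorphic to the Higman–Sims group. Then G is a group of Lie type in characteristic 3, or an alternating group of degree at least 9, or G is isomorphic to the Harada–Norton group. -/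
theorem result {G : Type*} [Group G] [Finite G] [IsSimpleGroup G] (hG : ¬ IsMulCommutative G)
    (hB : Cfsg.HasStrongBProperty G) (L : Subgroup G) (hL : Cfsg.IsStandardSubgroup L)
    (hLX : Nat.card ↥(Subgroup.center ↥L) = 2 ∧ Nonempty (↥L ⧸ Subgroup.center ↥L ≃* ↥Cfsg.Spor.HS)) :
    Cfsg.IsLieTypeChar 3 G ∨ (∃ n : ℕ, 9 ≤ n ∧ Nonempty (G ≃* ↥(alternatingGroup (Fin n)))) ∨ Cfsg.Spor.IsoHN G := by
  obtain ⟨c⟩ := CfsgLib.HNStd.exists_ctx hL hLX.1 hLX.2
  obtain ⟨g, x, x', h⟩ := c.exists_pair hG
  by_cases hroot : ∃ k ∈ c.K, k * k = c.z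
  · obtain ⟨k, hk, hk2⟩ := hroot
    exact (CfsgLib.HNStd.false_of_root hG c h hk hk2).elim
  · exact Or.inr (Or.inr (CfsgLib.HNStd.iso_of_no_root c h fun k hk e => hroot ⟨k, hk, e⟩))

end Cfsg.Agent.S1752
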