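import Mathlib
import Cfsg.Statements.S1753

set_option autoImplicit false
set_option linter.style.haveILetI false
set_option linter.unusedVariables false
universe u
open Cfsg

namespace Cfsg.Agent.S1753

/-- Let K be any property of groups. (1) If G is a minimal counterexample relative to K — a finite non-abelian simple group not satisfying K such that every finite non-abelian simple group of smaller order satisfies K — then every proper subgroup of G is a K-group (all its non-abelian simple sections satisfy K), since such sections have smaller order than G. (2) Consequently (induction on the order), if every finite non-abelian simple group all of whose proper subgroups are K-groups satisfies K, then every finite non-abelian simple group satisfies K. -/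
theorem result (K : ∀ (X : Type u) [Group X], Prop) :
    (∀ (G : Type u) [Group G], Cfsg.IsMinCounterexampleWith K G → Cfsg.IsKProperWith K G) ∧
      ((∀ (X : Type u) [Group X] [Finite X], IsSimpleGroup X → ¬ IsMulCommutative X → Cfsg.IsKProperWith K X → K X) →
        ∀ (G : Type u) [Group G] [Finite G], IsSimpleGroup G → ¬ IsMulCommutative G → K G) := by
  refine ⟨fun G _ hmin => ?_, fun h G _ _ hsimp hncomm => ?_⟩
  · obtain ⟨hfin, -, -, -, hsmall⟩ := hmin
    haveI := hfin
    intro H hH L N _ hs hc
    refine hsmall _ hs hc ?_
    calc Nat.card (↥L ⧸ N) ≤ Nat.card L := Nat.le_of_dvd Nat.card_pos (Subgroup.card_quotient_dvd_card N)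
      _ ≤ Nat.card H := Nat.le_of_dvd Nat.card_pos L.card_subgroup_dvd_card
      _ < Nat.card G := (lt_of_le_of_ne (Nat.le_of_dvd Nat.card_pos H.card_subgroup_dvd_card) fun h => hH (Subgroup.card_eq_iff_eq_top H |>.mp h))
  · suffices ∀ n : ℕ, ∀ (G : Type u) [Group G] [Finite G], Nat.card G = n → IsSimpleGroup G →
        ¬ IsMulCommutative G → K G from this _ G rfl hsimp hncomm
    intro n
    induction n using Nat.strong_induction_on with
    | _ n ih =>
      intro G _ _ hn hs hc
      refine h G hs hc fun H hH L N _ hs' hc' => ih _ ?_ _ rfl hs' hc'
      calc Nat.card (↥L ⧸ N) ≤ Nat.card L := Nat.le_of_dvd Nat.card_pos (Subgroup.card_quotient_dvd_card N)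
        _ ≤ Nat.card H := Nat.le_of_dvd Nat.card_pos L.card_subgroup_dvd_card
        _ < n := hn ▸ (lt_of_le_of_ne (Nat.le_of_dvd Nat.card_pos H.card_subgroup_dvd_card) fun h => hH (Subgroup.card_eq_iff_eq_top H |>.mp h))

end Cfsg.Agent.S1753
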