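import Mathlib
import Cfsg.Statements.S1754

set_option autoImplicit false
set_option linter.style.haveILetI false
set_option linter.unusedVariables false
open Cfsg

namespace Cfsg.Agent.S1754

theorem isQuasisimple_congr {H K : Type*} [Group H] [Group K] (e : H ≃* K)
    (h : Cfsg.IsQuasisimple H) : Cfsg.IsQuasisimple K := by
  obtain ⟨hp, hs⟩ := h
  have hc : Subgroup.map e.toMonoidHom (Subgroup.center H) = Subgroup.center K := by
    ext x
    rw [Subgroup.mem_map_equiv, Subgroup.mem_center_iff, Subgroup.mem_center_iff]
    constructor
    · intro h g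
      simpa using congrArg e (h (e.symm g))
    · intro h g
      apply e.injective
      simpa using h (e g)
  let q := QuotientGroup.congr (Subgroup.center H) (Subgroup.center K) e hc
  haveI := hp
  haveI := hs
  haveI : Nontrivial (K ⧸ Subgroup.center K) := q.toEquiv.symm.nontrivial
  exact ⟨Group.IsPerfect.ofSurjective (f := e.toMonoidHom) e.surjective,
    IsSimpleGroup.isSimpleGroup_of_surjective q.toMonoidHom q.surjective⟩

/-- Let A be a standard subgroup of the finite group G (A quasisimple, C_G(A) tightly embedded of even order, A commuting elementwise with no other conjugate of itself, and N_G(A) = N_G(C_G(A))), and let t be an involution of G centralizing A. Then the centralizer of t lies in the normalizer of A; in particular A, viewed inside C_G(t), is a component of C_G(t). -/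
theorem result {G : Type*} [Group G] [Finite G]
    (A : Subgroup G) (hA : Cfsg.IsStandardSubgroup A) (t : G) (ht : orderOf t = 2) (htA : t ∈ Subgroup.centralizer (A : Set G)) :
    Subgroup.centralizer ({t} : Set G) ≤ Subgroup.normalizer (A : Set G) ∧
      Cfsg.IsComponent (A.subgroupOf (Subgroup.centralizer ({t} : Set G))) := by
  obtain ⟨hq, ⟨-, htight⟩, -, hNN⟩ := hA
  have hle : Subgroup.centralizer ({t} : Set G) ≤ Subgroup.normalizer (A : Set G) := by
    intro g hg
    by_contra hgn
    rw [hNN] at hgn
    have hodd := htight g hgn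
    have htm : t ∈ Subgroup.centralizer (A : Set G) ⊓
        (Subgroup.centralizer (A : Set G)).map (MulAut.conj g).toMonoidHom := by
      refine ⟨htA, ⟨t, htA, ?_⟩⟩
      change g * t * g⁻¹ = t
      rw [Subgroup.mem_centralizer_singleton_iff.mp hg, mul_inv_cancel_right]
    have hdvd := orderOf_dvd_natCard (⟨t, htm⟩ : ↥(Subgroup.centralizer (A : Set G) ⊓
        (Subgroup.centralizer (A : Set G)).map (MulAut.conj g).toMonoidHom))
    rw [Subgroup.orderOf_mk, ht] at hdvd
    exact Nat.not_even_iff_odd.mpr hodd (even_iff_two_dvd.mpr hdvd)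
  refine ⟨hle, ?_⟩
  set C := Subgroup.centralizer ({t} : Set G)
  have hAC : A ≤ C := fun a ha =>
    Subgroup.mem_centralizer_singleton_iff.mpr (Subgroup.mem_centralizer_iff.mp htA a ha)
  haveI : (A.subgroupOf C).Normal := by
    refine ⟨fun a ha c => ?_⟩
    rw [Subgroup.mem_subgroupOf] at ha ⊢
    exact (Subgroup.mem_normalizer_iff.mp (hle c.2) _).mp ha
  exact ⟨Subgroup.Normal.isSubnormal inferInstance,
    isQuasisimple_congr (Subgroup.subgroupOfEquivOfLe hAC).symm hq⟩

end Cfsg.Agent.S1754
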