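import Mathlib
import Cfsg.Statements.S1755
import Cfsg.Agent.Lib.Layer.Basic
import Cfsg.Agent.Lib.Fitting.Basic

set_option autoImplicit false
set_option linter.style.haveILetI false
set_option linter.unusedVariables false
open Cfsg

namespace Cfsg.Agent.S1755

theorem eq_of_sq {A : Type*} [Group A] [Finite A] [IsCyclic A] {x y : A} (hx : x ^ 2 = 1) (hx1 : x ≠ 1)
    (hy : y ^ 2 = 1) (hy1 : y ≠ 1) : x = y := by
  classical
  haveI := Fintype.ofFinite A
  by_contra h
  have h2 := IsCyclic.card_pow_eq_one_le (α := A) (n := 2) (by norm_num)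
  have hsub : ({1, x, y} : Finset A) ⊆ Finset.univ.filter (fun a => a ^ 2 = 1) := by
    intro a ha
    simp only [Finset.mem_insert, Finset.mem_singleton] at ha
    simp only [Finset.mem_filter, Finset.mem_univ, true_and]
    rcases ha with rfl | rfl | rfl
    · exact one_pow 2
    · exact hx
    · exact hy
  have := Finset.card_le_card hsub
  rw [Finset.card_insert_of_notMem (by simp [hx1.symm, hy1.symm]), Finset.card_pair h] at this
  omega

theorem exists_sq {A : Type*} [Group A] [Finite A] (h2 : IsPGroup 2 A) {B : Subgroup A} (hB : B ≠ ⊥) :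
    ∃ t ∈ B, t ≠ 1 ∧ t ^ 2 = 1 := by
  obtain ⟨x, hx⟩ := Subgroup.ne_bot_iff_exists_ne_one.mp hB
  obtain ⟨k, hk⟩ := IsPGroup.iff_orderOf.mp (h2.to_subgroup B) x
  cases k with
  | zero => exact absurd (orderOf_eq_one_iff.mp (by simpa using hk)) hx
  | succ j =>
    refine ⟨((x ^ 2 ^ j : B) : A), SetLike.coe_mem _, fun h => ?_, ?_⟩
    · have := orderOf_dvd_of_pow_eq_one (Subtype.ext h : x ^ 2 ^ j = 1)
      rw [hk] at this
      exact absurd (Nat.le_of_dvd (Nat.two_pow_pos j) this) (not_le.mpr (Nat.pow_lt_pow_right one_lt_two (Nat.lt_succ_self j)))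
    · rw [← Subgroup.coe_pow, ← pow_mul, ← pow_succ, ← hk, pow_orderOf_eq_one]
      rfl
theorem ti_of_symplectic {G : Type*} [Group G] [Finite G] (z : G) (hz : orderOf z = 2) (C : Subgroup G)
    (hgz : ∀ {g : G}, g * z = z * g → g ∈ C) (hcz : ∀ c ∈ C, c * z = z * c) (hzC : z ∈ C)
    (Q : Subgroup C) [hQn : Q.Normal] (hzQ : (⟨z, hzC⟩ : C) ∈ Q) (hQ : Cfsg.IsOfSymplecticType ↥Q)
    (B : Subgroup Q) (hBc : B.Characteristic) (hBa : IsMulCommutative ↥B) (g : G) :
    ((B.map Q.subtype).map C.subtype).map (MulAut.conj g).toMonoidHom = (B.map Q.subtype).map C.subtype ∨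
      ((B.map Q.subtype).map C.subtype).map (MulAut.conj g).toMonoidHom ⊓ (B.map Q.subtype).map C.subtype = ⊥ := by
  obtain ⟨h2, hchar⟩ := hQ
  haveI hBcyc : IsCyclic B := hchar B hBc hBa
  haveI hZcyc : IsCyclic (Subgroup.center Q) := hchar _ inferInstance inferInstance
  set ι := C.subtype.comp Q.subtype with hι
  have hinj : Function.Injective ι := C.subtype_injective.comp Q.subtype_injective
  rw [Subgroup.map_map B C.subtype Q.subtype, ← hι]
  by_cases hbot : (B.map ι).map (MulAut.conj g).toMonoidHom ⊓ B.map ι = ⊥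
  · exact Or.inr hbot
  refine Or.inl ?_
  haveI : B.Characteristic := hBc
  have hzc : (⟨z, hzC⟩ : C) ∈ Subgroup.center C := Subgroup.mem_center_iff.mpr fun c => Subtype.ext (hcz c c.2)
  have hz1 : z ≠ 1 := fun h => by rw [h, orderOf_one] at hz; exact absurd hz (by norm_num)
  have hz2 : z ^ 2 = 1 := by rw [← hz]; exact pow_orderOf_eq_one z
  have hcen : ∀ t : Q, t ∈ B → t ≠ 1 → t ^ 2 = 1 → ι t = z := by
    intro t ht ht1 ht2
    have htc : t ∈ Subgroup.center Q := by
      refine Subgroup.mem_center_iff.mpr fun q => ?_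
      have hm : q * t * q⁻¹ ∈ B := Subgroup.Normal.conj_mem inferInstance t ht q
      have := eq_of_sq (x := (⟨t, ht⟩ : B)) (y := ⟨q * t * q⁻¹, hm⟩) (Subtype.ext ht2) (fun h => ht1 (congrArg Subtype.val h))
        (Subtype.ext (by show (q * t * q⁻¹) ^ 2 = 1; rw [conj_pow, ht2, mul_one, mul_inv_cancel]))
        (fun h => ht1 (by simpa using congrArg Subtype.val h))
      have e : t = q * t * q⁻¹ := congrArg Subtype.val this
      exact (eq_mul_inv_iff_mul_eq.mp e).symm
    have hzz : (⟨⟨z, hzC⟩, hzQ⟩ : Q) ∈ Subgroup.center Q := Subgroup.mem_center_iff.mpr fun q => Subtype.ext (Subgroup.mem_center_iff.mp hzc q)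
    have := eq_of_sq (x := (⟨t, htc⟩ : Subgroup.center Q)) (y := ⟨⟨⟨z, hzC⟩, hzQ⟩, hzz⟩) (Subtype.ext ht2) (fun h => ht1 (congrArg Subtype.val h))
      (Subtype.ext (Subtype.ext (Subtype.ext hz2))) (fun h => hz1 (congrArg (fun u : Subgroup.center Q => ι u) h))
    exact congrArg (fun u : Subgroup.center Q => ι u) this
  obtain ⟨w, hw⟩ := Subgroup.ne_bot_iff_exists_ne_one.mp hbot
  obtain ⟨⟨_, ⟨b, hb, rfl⟩, hbe⟩, -⟩ := w.2
  have hb1 : b ≠ 1 := fun h => hw (Subtype.ext (by rw [← hbe, h, map_one, map_one]; rfl))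
  have hP : (Subgroup.zpowers b) ≠ ⊥ := by simpa [Subgroup.zpowers_eq_bot] using hb1
  obtain ⟨t, ht, ht1, ht2⟩ := exists_sq h2 hP
  have htB : t ∈ B := Subgroup.zpowers_le.mpr hb ht
  obtain ⟨k, hk⟩ := Subgroup.mem_zpowers_iff.mp ht
  have hwm : (w : G) ^ k ∈ B.map ι := Subgroup.zpow_mem _ w.2.2 k
  obtain ⟨s, hs, hse⟩ := hwm
  have e : ι s = g * z * g⁻¹ := by
    rw [hse, ← hbe, MulEquiv.coe_toMonoidHom, MulAut.conj_apply, conj_zpow, ← map_zpow, hk, hcen t htB ht1 ht2]
  have hs1 : s ≠ 1 := fun h => hz1 (by rw [h, map_one] at e; simpa using e.symm)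
  have hs2 : s ^ 2 = 1 := hinj (by rw [map_pow, e, conj_pow, hz2, map_one, mul_one, mul_inv_cancel])
  have hgC : g ∈ C := hgz (mul_inv_eq_iff_eq_mul.mp ((hcen s hs hs1 hs2).symm.trans e).symm)
  refine Subgroup.eq_of_le_of_card_ge ?_ (Subgroup.card_map_of_injective (MulAut.conj g).injective).ge
  rintro _ ⟨_, ⟨a, ha, rfl⟩, rfl⟩
  have hm := Subgroup.Normal.conj_mem (ConjAct.normal_of_characteristic_of_normal (K := B) : (B.map Q.subtype).Normal) _ ⟨a, ha, rfl⟩ ⟨g, hgC⟩
  obtain ⟨a', ha', ea⟩ := hm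
  exact ⟨a', ha', congrArg C.subtype ea⟩

/-- Let G be a finite group and let z be an involution of G such that Q, the generalized Fitting subgroup of the centralizer C of z, is a 2-group of symplectic type (every characteristic abelian subgroup of Q is cyclic). Let B be a characteristic abelian subgroup of Q, viewed as a subgroup of G. Then for every g in G, the conjugate of B by g either equals B or meets B trivially. -/
theorem result {G : Type*} [Group G] [Finite G] (z : G) (hz : orderOf z = 2) (hQ : Cfsg.IsOfSymplecticType ↥(Cfsg.generalizedFittingSubgroup ↥(Subgroup.centralizer ({z} : Set G))))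
    (B : Subgroup ↥(Cfsg.generalizedFittingSubgroup ↥(Subgroup.centralizer ({z} : Set G)))) (hBc : B.Characteristic) (hBa : IsMulCommutative ↥B) (g : G) :
    ((B.map (Cfsg.generalizedFittingSubgroup ↥(Subgroup.centralizer ({z} : Set G))).subtype).map (Subgroup.centralizer ({z} : Set G)).subtype).map (MulAut.conj g).toMonoidHom =
        (B.map (Cfsg.generalizedFittingSubgroup ↥(Subgroup.centralizer ({z} : Set G))).subtype).map (Subgroup.centralizer ({z} : Set G)).subtype ∨
      ((B.map (Cfsg.generalizedFittingSubgroup ↥(Subgroup.centralizer ({z} : Set G))).subtype).map (Subgroup.centralizer ({z} : Set G)).subtype).map (MulAut.conj g).toMonoidHom ⊓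
        (B.map (Cfsg.generalizedFittingSubgroup ↥(Subgroup.centralizer ({z} : Set G))).subtype).map (Subgroup.centralizer ({z} : Set G)).subtype = ⊥ := by
  haveI : (Cfsg.generalizedFittingSubgroup ↥(Subgroup.centralizer ({z} : Set G))).Characteristic :=
    CfsgLib.Layer.generalizedFitting_characteristic
  refine ti_of_symplectic z hz _ (fun h => Subgroup.mem_centralizer_singleton_iff.mpr h)
    (fun c hc => Subgroup.mem_centralizer_singleton_iff.mp hc) (Subgroup.mem_centralizer_singleton_iff.mpr rfl) _ ?_ hQ B hBc hBa g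
  exact CfsgLib.Layer.fittingSubgroup_le_generalizedFitting (CfsgLib.Fitting.le_fittingSubgroup inferInstance
    (@Group.IsNilpotent.mk _ _ ⟨1, Subgroup.upperCentralSeries_one _ |>.trans (eq_top_iff.mpr fun x _ => Subgroup.mem_center_iff.mpr fun y => Subtype.ext (Subgroup.mem_center_iff.mp x.2 y))⟩)
    (Subgroup.mem_center_iff.mpr fun c => Subtype.ext (Subgroup.mem_centralizer_singleton_iff.mp c.2)))

end Cfsg.Agent.S1755
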