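import Mathlib
import Cfsg.Statements.S1756

set_option autoImplicit false
set_option linter.style.haveILetI false
set_option linter.unusedVariables false
open Cfsg

open scoped commutatorElement

namespace Cfsg.Agent.S1756

theorem exists_centralizing {Q : Type*} [Group Q] [Finite Q] (hZ2 : Nat.card (Subgroup.center Q) = 2)
    (hcomm : commutator Q ≤ Subgroup.center Q) (M : Subgroup Q) (hZM : Subgroup.center Q ≤ M)
    (hM : M.index = 2) :
    ∃ w ∈ Subgroup.centralizer (M : Set Q), w ∉ Subgroup.center Q := by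
  have key : ∀ S : Set Q, S.Finite → 2 * Nat.card Q ≤
      Nat.card (Subgroup.centralizer ((Subgroup.center Q ⊔ Subgroup.closure S : Subgroup Q) : Set Q)) *
        Nat.card ↥(Subgroup.center Q ⊔ Subgroup.closure S) := by
    intro S hS
    induction S, hS using Set.Finite.induction_on with
    | empty =>
      rw [Subgroup.closure_empty, sup_bot_eq]
      have h1 : Subgroup.centralizer ((Subgroup.center Q : Subgroup Q) : Set Q) = ⊤ := by
        refine top_le_iff.mp fun x _ => Subgroup.mem_centralizer_iff.mpr fun z hz => ?_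
        exact (Subgroup.mem_center_iff.mp hz x).symm
      rw [h1, Subgroup.card_top, hZ2, mul_comm]
    | @insert h S _ _ ih =>
      set H := Subgroup.center Q ⊔ Subgroup.closure S with hH
      have e : Subgroup.center Q ⊔ Subgroup.closure (insert h S) = H ⊔ Subgroup.zpowers h := by
        rw [Set.insert_eq, Subgroup.closure_union, ← Subgroup.zpowers_eq_closure, hH, sup_comm (Subgroup.zpowers h),
          sup_assoc]
      rw [e]
      by_cases hh : h ∈ H
      · rwa [sup_eq_left.mpr (Subgroup.zpowers_le.mpr hh)]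
      set H' := H ⊔ Subgroup.zpowers h
      have hHH : H ≤ H' := le_sup_left
      have hlt : 2 * Nat.card H ≤ Nat.card H' := by
        obtain ⟨k, hk⟩ := Subgroup.card_dvd_of_le hHH
        have hk1 : k ≠ 1 := fun hk1 => hh (by
          rw [hk1, mul_one] at hk
          rw [Subgroup.eq_of_le_of_card_ge hHH hk.le]
          exact Subgroup.mem_sup_right (Subgroup.mem_zpowers h))
        have hk0 : k ≠ 0 := fun hk0 => by
          rw [hk0, mul_zero] at hk
          exact (Nat.card_pos (α := H')).ne' hk
        rw [hk, mul_comm 2]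
        exact Nat.mul_le_mul_left _ (by omega)
      have hc : ∀ x : Q, x * h * x⁻¹ * h⁻¹ ∈ Subgroup.center Q := fun x => hcomm (by
        rw [commutator_def]
        simpa [commutatorElement_def] using
          Subgroup.commutator_mem_commutator (Subgroup.mem_top x) (Subgroup.mem_top h))
      let f : ↥(Subgroup.centralizer (H : Set Q)) →* Subgroup.center Q :=
        { toFun := fun x => ⟨(x : Q) * h * (x : Q)⁻¹ * h⁻¹, hc x⟩
          map_one' := Subtype.ext (by simp)
          map_mul' := fun x y => Subtype.ext (by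
            have h1 := Subgroup.mem_center_iff.mp (hc y) (x : Q)
            change (x : Q) * y * h * ((x : Q) * y)⁻¹ * h⁻¹ =
              ((x : Q) * h * (x : Q)⁻¹ * h⁻¹) * ((y : Q) * h * (y : Q)⁻¹ * h⁻¹)
            calc (x : Q) * y * h * ((x : Q) * y)⁻¹ * h⁻¹
                = ((x : Q) * ((y : Q) * h * (y : Q)⁻¹ * h⁻¹)) * h * (x : Q)⁻¹ * h⁻¹ := by group
              _ = (((y : Q) * h * (y : Q)⁻¹ * h⁻¹) * (x : Q)) * h * (x : Q)⁻¹ * h⁻¹ := by rw [h1]
              _ = ((y : Q) * h * (y : Q)⁻¹ * h⁻¹) * ((x : Q) * h * (x : Q)⁻¹ * h⁻¹) := by group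
              _ = _ := (Subgroup.mem_center_iff.mp (hc y) _).symm) }
      have h2 : f.range.index * Nat.card f.range = 2 := by
        rw [mul_comm, Subgroup.card_mul_index, hZ2]
      have h3 : Nat.card f.range ≤ 2 := hZ2 ▸ Subgroup.card_le_card_group _
      have h4 : Nat.card (Subgroup.centralizer (H : Set Q)) ≤
          2 * Nat.card (Subgroup.centralizer (H' : Set Q)) := by
        rw [← f.ker.card_mul_index, Subgroup.index_ker, mul_comm 2]
        refine Nat.mul_le_mul ?_ h3
        rw [← Subgroup.card_map_of_injective (Subgroup.centralizer (H : Set Q)).subtype_injective]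
        refine Subgroup.card_le_of_le ?_
        rintro _ ⟨⟨x, hx⟩, hxk, rfl⟩
        have hxh : x * h = h * x := by
          have e1 : x * h * x⁻¹ * h⁻¹ = 1 := congrArg Subtype.val hxk
          exact mul_inv_eq_iff_eq_mul.mp (mul_inv_eq_one.mp e1)
        have hle : H' ≤ Subgroup.centralizer ({x} : Set Q) :=
          sup_le (fun y hy => Subgroup.mem_centralizer_singleton_iff.mpr
            (Subgroup.mem_centralizer_iff.mp hx y hy))
            (Subgroup.zpowers_le.mpr (Subgroup.mem_centralizer_singleton_iff.mpr hxh.symm))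
        exact Subgroup.mem_centralizer_iff.mpr fun y hy =>
          Subgroup.mem_centralizer_singleton_iff.mp (hle hy)
      calc 2 * Nat.card Q ≤ _ := ih
        _ ≤ (2 * Nat.card (Subgroup.centralizer (H' : Set Q))) * Nat.card H := Nat.mul_le_mul_right _ h4
        _ = Nat.card (Subgroup.centralizer (H' : Set Q)) * (2 * Nat.card H) := by ring
        _ ≤ _ := Nat.mul_le_mul_left _ hlt
  have h := key (M : Set Q) (Set.toFinite _)
  rw [Subgroup.closure_eq, sup_eq_right.mpr hZM] at h
  by_contra hcon
  push Not at hcon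
  have h5 : Nat.card (Subgroup.centralizer (M : Set Q)) ≤ 2 :=
    hZ2 ▸ Subgroup.card_le_of_le (fun x hx => hcon x hx)
  have h6 := M.card_mul_index
  rw [hM] at h6
  have h7 := Nat.mul_le_mul_right (Nat.card M) h5
  have h8 : 0 < Nat.card Q := Nat.card_pos
  omega

/-- Let Q be an extraspecial 2-subgroup of the finite group G (special with centre of order 2) and t an involution of G normalizing Q such that the centralizer of t in Q has index at most 2 in Q. Then t lies in the product of Q with the centralizer of Q. -/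
theorem result {G : Type*} [Group G] [Finite G] (Q : Subgroup G)
    (hQ : Cfsg.IsExtraspecial 2 ↥Q) (t : G) (ht : orderOf t = 2) (htN : t ∈ Subgroup.normalizer (Q : Set G))
    (hi : (Subgroup.centralizer ({t} : Set G) ⊓ Q).relIndex Q ≤ 2) :
    t ∈ Q ⊔ Subgroup.centralizer (Q : Set G) := by
  obtain ⟨⟨-, -, hcz⟩, hZ2⟩ := hQ
  set M := (Subgroup.centralizer ({t} : Set G) ⊓ Q).subgroupOf Q with hM
  have htt : t * t = 1 := by rw [← pow_two, ← ht, pow_orderOf_eq_one]
  have htinv : t⁻¹ = t := inv_eq_of_mul_eq_one_right htt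
  let φ : Q → Q := fun x => ⟨t * x * t⁻¹, (Subgroup.mem_normalizer_iff.mp htN x).mp x.2⟩
  have hφM : ∀ x : Q, x ∈ M ↔ φ x = x := by
    intro x
    rw [hM, Subgroup.mem_subgroupOf, Subgroup.mem_inf]
    constructor
    · intro h
      apply Subtype.ext
      change t * x * t⁻¹ = (x : G)
      rw [← Subgroup.mem_centralizer_singleton_iff.mp h.1, mul_inv_cancel_right]
    · intro h
      refine ⟨Subgroup.mem_centralizer_singleton_iff.mpr ?_, x.2⟩
      have h1 : t * x * t⁻¹ = (x : G) := congrArg Subtype.val h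
      exact (mul_inv_eq_iff_eq_mul.mp h1).symm
  by_cases htop : M = ⊤
  · refine Subgroup.mem_sup_right (Subgroup.mem_centralizer_iff.mpr fun x hx => ?_)
    exact (Subgroup.mem_centralizer_singleton_iff.mp
      (show (⟨x, hx⟩ : Q) ∈ M by rw [htop]; trivial : (⟨x, hx⟩ : Q) ∈ M).1)
  have hidx : M.index = 2 := by
    have h1 : M.index ≠ 0 := Subgroup.index_ne_zero_of_finite
    have h2 : M.index ≠ 1 := fun h => htop (Subgroup.index_eq_one.mp h)
    have h3 : M.index ≤ 2 := hi
    omega
  haveI := Subgroup.normal_of_index_eq_two hidx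
  -- the centre is fixed by `t`
  have hφmul : ∀ x y : Q, φ (x * y) = φ x * φ y := fun x y => Subtype.ext (by
    change t * ((x : G) * y) * t⁻¹ = t * x * t⁻¹ * (t * y * t⁻¹); group)
  have hφφ : ∀ x : Q, φ (φ x) = x := fun x => Subtype.ext (by
    change t * (t * x * t⁻¹) * t⁻¹ = (x : G)
    rw [htinv]
    calc t * (t * x * t) * t = (t * t) * x * (t * t) := by group
      _ = x := by rw [htt, one_mul, mul_one])
  have hφone : φ 1 = 1 := Subtype.ext (by change t * 1 * t⁻¹ = 1; group)
  have hφc : ∀ z ∈ Subgroup.center Q, φ z = z := by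
    intro z hz
    have h1 : φ z ∈ Subgroup.center Q := Subgroup.mem_center_iff.mpr fun y => by
      conv_lhs => rw [← hφφ y, ← hφmul, Subgroup.mem_center_iff.mp hz, hφmul, hφφ]
    rcases eq_or_ne z 1 with rfl | hz1
    · exact hφone
    have hz1' : φ z ≠ 1 := fun h => hz1 (by rw [← hφφ z, h, hφone])
    obtain ⟨u, -, hu⟩ := (Nat.card_eq_two_iff' (1 : Subgroup.center Q)).mp hZ2
    have e1 := hu ⟨z, hz⟩ (fun h => hz1 (congrArg Subtype.val h))
    have e2 := hu ⟨φ z, h1⟩ (fun h => hz1' (congrArg Subtype.val h))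
    exact congrArg Subtype.val (e2.trans e1.symm)
  have hZM : Subgroup.center Q ≤ M := fun z hz => (hφM z).mpr (hφc z hz)
  obtain ⟨q, hq⟩ : ∃ q, q ∉ M := by
    by_contra h
    push Not at h
    exact htop (top_le_iff.mp fun x _ => h x)
  set c := φ q * q⁻¹ with hc
  have hcq : φ q = c * q := by rw [hc, inv_mul_cancel_right]
  have hcM : ∀ m ∈ M, c * m = m * c := by
    intro m hm
    have h1 : φ (q⁻¹ * m * q) = q⁻¹ * m * q :=
      (hφM _).mp (by simpa using Subgroup.Normal.conj_mem inferInstance m hm q⁻¹)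
    have h2 : φ (q⁻¹) = (φ q)⁻¹ := eq_inv_of_mul_eq_one_left (by rw [← hφmul, inv_mul_cancel, hφone])
    rw [hφmul, hφmul, h2, (hφM m).mp hm, hcq] at h1
    calc c * m = c * (q * (q⁻¹ * m * q) * q⁻¹) := by group
      _ = c * (q * ((c * q)⁻¹ * m * (c * q)) * q⁻¹) := by rw [h1]
      _ = m * c := by group
  have hcmem : c ∈ M := by
    by_contra hcn
    refine hcn (hZM (Subgroup.mem_center_iff.mpr fun y => ?_))
    by_cases hy : y ∈ M
    · exact (hcM y hy).symm
    · have h3 : y * c⁻¹ ∈ M :=
        (Subgroup.mul_mem_iff_of_index_two hidx).mpr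
          ⟨fun h => absurd h hy, fun h => absurd (by simpa using M.inv_mem h) hcn⟩
      have h4 := hcM _ h3
      calc y * c = (y * c⁻¹) * c * c := by group
        _ = (c * (y * c⁻¹)) * c := by rw [h4]
        _ = c * y := by group
  have hc2 : c * c = 1 := by
    have h := hφφ q
    rw [hcq, hφmul, hcq, (hφM c).mp hcmem, ← mul_assoc] at h
    exact mul_eq_right.mp h
  have hcZ : c ∈ Subgroup.center Q := by
    have hqq : q * q ∈ M := (Subgroup.mul_mem_iff_of_index_two hidx).mpr Iff.rfl
    have h := (hφM _).mp hqq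
    rw [hφmul, hcq, mul_assoc, ← mul_assoc q c q, ← mul_assoc] at h
    have h1 : c * (q * c) = q := mul_right_cancel h
    refine Subgroup.mem_center_iff.mpr fun y => ?_
    by_cases hy : y ∈ M
    · exact (hcM y hy).symm
    · have h3 : y * q⁻¹ ∈ M := (Subgroup.mul_mem_iff_of_index_two hidx).mpr
        ⟨fun h => absurd h hy, fun h => absurd (by simpa using M.inv_mem h) hq⟩
      have h4 : q * c = c * q := by
        calc q * c = (c * c) * (q * c) := by rw [hc2, one_mul]
          _ = c * q := by rw [mul_assoc, h1]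
      calc y * c = (y * q⁻¹) * (q * c) := by group
        _ = (y * q⁻¹) * c * q := by rw [h4]; group
        _ = c * (y * q⁻¹) * q := by rw [hcM _ h3]
        _ = c * y := by group
  have hc1 : c ≠ 1 := fun h => hq ((hφM q).mpr (by rw [hcq, h, one_mul]))
  obtain ⟨w, hw, hwZ⟩ := exists_centralizing hZ2 hcz.le M hZM hidx
  have hwq : w * q ≠ q * w := by
    intro h
    refine hwZ (Subgroup.mem_center_iff.mpr fun y => ?_)
    by_cases hy : y ∈ M
    · exact Subgroup.mem_centralizer_iff.mp hw y hy
    · have h3 : y * q⁻¹ ∈ M := (Subgroup.mul_mem_iff_of_index_two hidx).mpr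
        ⟨fun h => absurd h hy, fun h => absurd (by simpa using M.inv_mem h) hq⟩
      calc y * w = (y * q⁻¹) * (q * w) := by group
        _ = (y * q⁻¹) * w * q := by rw [← h]; group
        _ = w * (y * q⁻¹) * q := by rw [Subgroup.mem_centralizer_iff.mp hw _ h3]
        _ = w * y := by group
  set d := w⁻¹ * q * w * q⁻¹ with hd
  have hdZ : d ∈ Subgroup.center Q := hcz.le (by
    rw [commutator_def]
    have := Subgroup.commutator_mem_commutator (Subgroup.mem_top w⁻¹) (Subgroup.mem_top q)
    simpa [commutatorElement_def, hd] using this)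
  have hd1 : d ≠ 1 := fun h => hwq (by
    have h1 : q = w⁻¹ * q * w := (mul_inv_eq_one.mp h).symm
    conv_lhs => rw [h1]
    group)
  have hdc : d = c := by
    obtain ⟨u, -, hu⟩ := (Nat.card_eq_two_iff' (1 : Subgroup.center Q)).mp hZ2
    have e1 := hu ⟨d, hdZ⟩ (fun h => hd1 (congrArg Subtype.val h))
    have e2 := hu ⟨c, hcZ⟩ (fun h => hc1 (congrArg Subtype.val h))
    exact congrArg Subtype.val (e1.trans e2.symm)
  -- `t` and `w⁻¹` induce the same automorphism of `Q`
  have hsame : ∀ x : Q, φ x = w⁻¹ * x * w := by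
    intro x
    have hMw : ∀ m ∈ M, φ m = w⁻¹ * m * w := fun m hm => by
      rw [(hφM m).mp hm, mul_assoc, Subgroup.mem_centralizer_iff.mp hw m hm, inv_mul_cancel_left]
    by_cases hx : x ∈ M
    · exact hMw x hx
    · have h3 : x * q⁻¹ ∈ M := (Subgroup.mul_mem_iff_of_index_two hidx).mpr
        ⟨fun h => absurd h hx, fun h => absurd (by simpa using M.inv_mem h) hq⟩
      have hq' : φ q = w⁻¹ * q * w := by rw [hcq, ← hdc, hd, inv_mul_cancel_right]
      calc φ x = φ (x * q⁻¹) * φ q := by rw [← hφmul, inv_mul_cancel_right]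
        _ = w⁻¹ * (x * q⁻¹) * w * (w⁻¹ * q * w) := by rw [hMw _ h3, hq']
        _ = _ := by group
  have hmem : (w : G) * t ∈ Subgroup.centralizer (Q : Set G) := by
    refine Subgroup.mem_centralizer_iff.mpr fun x hx => ?_
    have h : t * x * t⁻¹ = (w : G)⁻¹ * x * w := congrArg Subtype.val (hsame ⟨x, hx⟩)
    calc x * ((w : G) * t) = (w : G) * ((w : G)⁻¹ * x * w) * t := by group
      _ = (w : G) * (t * x * t⁻¹) * t := by rw [h]
      _ = (w : G) * t * x := by group
  have := Subgroup.mul_mem _ (Subgroup.mem_sup_left (T := Subgroup.centralizer (Q : Set G)) (Q.inv_mem w.2))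
    (Subgroup.mem_sup_right (S := Q) hmem)
  simpa using this

end Cfsg.Agent.S1756
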