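import Mathlib
import Cfsg.Statements.S1757
import Cfsg.Agent.Lib.Coprime.Action
import Cfsg.Agent.Lib.Transfer.Sylow

set_option autoImplicit false
set_option linter.style.haveILetI false
set_option linter.unusedVariables false
open Cfsg

open scoped commutatorElement

namespace Cfsg.Agent.S1757

/-- Let p be a prime and A, B p-subgroups of the finite group G, each of which meets every conjugate of itself other than itself trivially. Suppose the order of A is at most that of B, A and B intersect trivially, and B normalizes A. Then A and B commute elementwise. -/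
theorem result {G : Type*} [Group G] [Finite G] (p : ℕ) [Fact p.Prime] (A B : Subgroup G)
    (hA : IsPGroup p ↥A) (hB : IsPGroup p ↥B)
    (hAti : ∀ g : G, A.map (MulAut.conj g).toMonoidHom = A ∨ A.map (MulAut.conj g).toMonoidHom ⊓ A = ⊥)
    (hBti : ∀ g : G, B.map (MulAut.conj g).toMonoidHom = B ∨ B.map (MulAut.conj g).toMonoidHom ⊓ B = ⊥)
    (hle : Nat.card ↥A ≤ Nat.card ↥B) (hAB : A ⊓ B = ⊥) (hN : B ≤ Subgroup.normalizer (A : Set G)) : ⁅A, B⁆ = ⊥ := by
  rw [eq_bot_iff]
  have hleft : ⁅A, B⁆ ≤ A := CfsgLib.Coprime.commutator_le_left_of_le_normalizer hN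
  by_cases hAN : A ≤ Subgroup.normalizer (B : Set G)
  · rw [← hAB]
    refine le_inf hleft ?_
    rw [Subgroup.commutator_comm]
    exact CfsgLib.Coprime.commutator_le_left_of_le_normalizer hAN
  exfalso
  set P := A ⊔ B with hP
  have hPp : IsPGroup p P := IsPGroup.to_sup_of_normal_left' hA hB hN
  haveI := hPp.isNilpotent
  have hBP : B ≤ P := le_sup_right
  set Q := P ⊓ Subgroup.normalizer (B : Set G) with hQ
  have hQP : Q < P := lt_of_le_of_ne inf_le_left fun h => hAN (le_sup_left.trans (h.ge.trans inf_le_right))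
  have hlt : Q < P ⊓ Subgroup.normalizer (Q : Set G) :=
    CfsgLib.Transfer.lt_inf_normalizer hPp hQP
  obtain ⟨x, ⟨hxP, hxN⟩, hxQ⟩ := SetLike.exists_of_lt hlt
  have hBQ : B ≤ Q := le_inf hBP Subgroup.le_normalizer
  set B' := B.map (MulAut.conj x).toMonoidHom with hB'
  have hB'Q : B' ≤ Q := by
    rintro _ ⟨b, hb, rfl⟩
    exact (Subgroup.mem_normalizer_iff.mp hxN b).mp (hBQ hb)
  have hdis : B' ⊓ B = ⊥ := (hBti x).resolve_left fun h =>
    hxQ ⟨hxP, CfsgLib.Transfer.map_conj_eq_self_iff.mp h⟩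
  have hcard := CfsgLib.Coprime.card_sup_mul_card_inf (K := B) (S := B')
    (hB'Q.trans inf_le_right)
  rw [inf_comm, hdis, Subgroup.card_bot, mul_one] at hcard
  have hB'c : Nat.card B' = Nat.card B :=
    (Nat.card_congr (B.equivMapOfInjective _ (MulAut.conj x).injective).toEquiv).symm
  have hPc := CfsgLib.Coprime.card_sup_mul_card_inf (K := A) (S := B) hN
  rw [hAB, Subgroup.card_bot, mul_one] at hPc
  have h1 : Nat.card ↥(B ⊔ B') ≤ Nat.card Q :=
    Nat.le_of_dvd Nat.card_pos (Subgroup.card_dvd_of_le (sup_le hBQ hB'Q))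
  have h2 : Nat.card Q < Nat.card P := by
    rcases (Nat.le_of_dvd Nat.card_pos (Subgroup.card_dvd_of_le hQP.le)).lt_or_eq with h | h
    · exact h
    · exact absurd (Subgroup.eq_of_le_of_card_ge hQP.le h.ge) hQP.ne
  rw [hB'c] at hcard
  rw [← hP] at hPc
  have := Nat.mul_le_mul_right (Nat.card B) hle
  omega

end Cfsg.Agent.S1757
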