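import Cfsg.Statements.S1774
import Cfsg.Agent.Lib.Layer.Basic
import Cfsg.Agent.Lib.Critical.Basic

set_option autoImplicit false
set_option linter.style.haveILetI false

set_option autoImplicit false
open Cfsg
open scoped commutatorElement

namespace Cfsg.Agent.S1774

/-- An element commuting with a subgroup of index two and with one element outside is central. -/
theorem central_of {G : Type*} [Group G] (Q : Subgroup G) (z t q w : G) (hzz : z * z = 1)
    (hzc : ∀ x ∈ Q, x * z = z * x) (hx : ∀ x ∈ Q, x * t * x⁻¹ = t ∨ x * t * x⁻¹ = z * t)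
    (hq : q ∈ Q) (hqt : q * t * q⁻¹ = z * t)
    (h1 : ∀ x ∈ Q, x * t = t * x → x * w = w * x) (h2 : q * w = w * q) :
    ∀ x ∈ Q, x * w = w * x := by
  intro x hxQ
  rcases hx x hxQ with e | e
  · exact h1 x hxQ (mul_inv_eq_iff_eq_mul.mp e)
  · have h3 : q * x * t * (q * x)⁻¹ = t := by
      calc q * x * t * (q * x)⁻¹ = q * (x * t * x⁻¹) * q⁻¹ := by group
        _ = (q * z * q⁻¹) * (q * t * q⁻¹) := by rw [e]; group
        _ = z * (z * t) := by rw [hzc q hq, mul_inv_cancel_right, hqt]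
        _ = t := by rw [← mul_assoc, hzz, one_mul]
    have h4 := h1 (q * x) (Q.mul_mem hq hxQ) (mul_inv_eq_iff_eq_mul.mp h3)
    apply mul_left_cancel (a := q)
    rw [← mul_assoc, h4, ← mul_assoc q w x, h2, mul_assoc]

/-- Squares in `⟨z⟩` give commutators in `⟨z⟩`. -/
theorem comm_of_sq {G : Type*} [Group G] (Q : Subgroup G) (z : G) (hzz : z * z = 1)
    (hzc : ∀ x ∈ Q, x * z = z * x) (hsq : ∀ x ∈ Q, x * x = 1 ∨ x * x = z) :
    ∀ a ∈ Q, ∀ b ∈ Q, ⁅a, b⁆ = 1 ∨ ⁅a, b⁆ = z := by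
  intro a ha b hb
  have hzi : z⁻¹ = z := inv_eq_of_mul_eq_one_right hzz
  have e : ⁅a, b⁆ = a * b * (a * b) * (b⁻¹ * (a * a)⁻¹ * b) * (b * b)⁻¹ := by
    simp only [commutatorElement_def]; group
  have h2 : b⁻¹ * (a * a)⁻¹ * b = (a * a)⁻¹ := by
    rcases hsq a ha with e | e
    · rw [e]; group
    · rw [e, hzi, mul_assoc, ← hzc b hb, inv_mul_cancel_left]
  rw [e, h2]
  rcases hsq _ (Q.mul_mem ha hb) with e1 | e1 <;> rcases hsq a ha with e2 | e2 <;>
    rcases hsq b hb with e3 | e3 <;> rw [e1, e2, e3] <;> simp [hzi, hzz]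

theorem mem_conj {G : Type*} [Group G] (z t g : G) (Q : Subgroup G) (hzz : z * z = 1) (hz1 : z ≠ 1)
    (hzQ : z ∈ Q) (hzc : ∀ x ∈ Q, x * z = z * x)
    (hn : ∀ c : G, c * z = z * c → ∀ x ∈ Q, c * x * c⁻¹ ∈ Q)
    (hself : ∀ c : G, c * z = z * c → (∀ x ∈ Q, x * c = c * x) → c ∈ Q)
    (hsq : ∀ x ∈ Q, x * x = 1 ∨ x * x = z)
    (hcen : ∀ w ∈ Q, (∀ x ∈ Q, x * w = w * x) → w * w = 1 → w = 1 ∨ w = z)
    (ht : g * z * g⁻¹ = t) (htz : t ≠ z) (htQ : t ∈ Q) : g⁻¹ * z * g ∈ Q := by
  have htt : t * t = 1 := by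
    rw [← ht]
    calc g * z * g⁻¹ * (g * z * g⁻¹) = g * (z * z) * g⁻¹ := by group
      _ = 1 := by rw [hzz, mul_one, mul_inv_cancel]
  have ht1 : t ≠ 1 := fun e => hz1 (by
    rw [e] at ht
    calc z = g⁻¹ * (g * z * g⁻¹) * g := by group
      _ = 1 := by rw [ht]; group)
  have hti : t⁻¹ = t := inv_eq_of_mul_eq_one_right htt
  have hzi : z⁻¹ = z := inv_eq_of_mul_eq_one_right hzz
  have htz' : t * z = z * t := hzc t htQ
  have hcm := comm_of_sq Q z hzz hzc hsq
  have hxt : ∀ x ∈ Q, x * t * x⁻¹ = t ∨ x * t * x⁻¹ = z * t := by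
    intro x hx
    rcases hcm x hx t htQ with e | e <;> rw [commutatorElement_def, hti, mul_assoc _ t] at e
    · exact Or.inl (by
        calc x * t * x⁻¹ = x * t * x⁻¹ * (t * t) := by rw [htt, mul_one]
          _ = t := by rw [← mul_assoc, mul_assoc _ t t] at *; simp only [← mul_assoc] at e ⊢; rw [e, one_mul])
    · exact Or.inr (by
        calc x * t * x⁻¹ = x * t * x⁻¹ * (t * t) := by rw [htt, mul_one]
          _ = z * t := by simp only [← mul_assoc] at e ⊢; rw [e])
  obtain ⟨q, hq, hqt⟩ : ∃ q ∈ Q, q * t * q⁻¹ = z * t := by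
    by_contra! hall
    rcases hcen t htQ (fun x hx => mul_inv_eq_iff_eq_mul.mp ((hxt x hx).resolve_right (hall x hx))) htt with e | e
    · exact ht1 e
    · exact htz e
  by_contra hzP
  let P : Subgroup G := Q.comap (MulAut.conj g⁻¹).toMonoidHom
  have hP : ∀ x, x ∈ P ↔ g⁻¹ * x * g ∈ Q := fun x => by
    show g⁻¹ * x * g⁻¹⁻¹ ∈ Q ↔ _
    rw [inv_inv]
  have htg : g⁻¹ * t * g = z := by rw [← ht]; group
  have htP : t ∈ P := (hP t).mpr (by rw [htg]; exact hzQ)
  have hzP' : z ∉ P := fun h => hzP ((hP z).mp h)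
  have hPt : ∀ x ∈ P, x * t = t * x := by
    intro x hx
    calc x * t = g * ((g⁻¹ * x * g) * (g⁻¹ * t * g)) * g⁻¹ := by group
      _ = g * ((g⁻¹ * t * g) * (g⁻¹ * x * g)) * g⁻¹ := by rw [htg, hzc _ ((hP x).mp hx)]
      _ = t * x := by group
  have hPsq : ∀ x ∈ P, x * x = 1 ∨ x * x = t := by
    intro x hx
    rcases hsq _ ((hP x).mp hx) with e | e
    · exact Or.inl (by
        calc x * x = g * (g⁻¹ * x * g * (g⁻¹ * x * g)) * g⁻¹ := by group
          _ = 1 := by rw [e]; group)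
    · exact Or.inr (by
        calc x * x = g * (g⁻¹ * x * g * (g⁻¹ * x * g)) * g⁻¹ := by group
          _ = t := by rw [e, ht])
  have hPn : ∀ c : G, c * t = t * c → ∀ x ∈ P, c * x * c⁻¹ ∈ P := by
    intro c hc x hx
    have h1 : (g⁻¹ * c * g) * z = z * (g⁻¹ * c * g) := by
      calc g⁻¹ * c * g * z = g⁻¹ * (c * (g * z * g⁻¹)) * g := by group
        _ = g⁻¹ * (t * c) * g := by rw [ht, hc]
        _ = z * (g⁻¹ * c * g) := by rw [← ht]; group
    rw [hP]
    have := hn _ h1 _ ((hP x).mp hx)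
    rwa [show g⁻¹ * c * g * (g⁻¹ * x * g) * (g⁻¹ * c * g)⁻¹ = g⁻¹ * (c * x * c⁻¹) * g by group] at this
  have hPcm := comm_of_sq P t htt hPt hPsq
  -- no element of `P` moves `z` to `z * t`
  have key : ∀ x ∈ P, x * z * x⁻¹ ≠ t * z := by
    intro x hx e
    have hc : (x⁻¹ * q * g) * z * (x⁻¹ * q * g)⁻¹ = z := by
      calc x⁻¹ * q * g * z * (x⁻¹ * q * g)⁻¹ = x⁻¹ * (q * (g * z * g⁻¹) * q⁻¹) * x := by group
        _ = x⁻¹ * (t * z) * x := by rw [ht, hqt, htz']
        _ = z := by rw [← e]; group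
    have hc' : (x⁻¹ * q * g)⁻¹ * z = z * (x⁻¹ * q * g)⁻¹ := by
      nth_rewrite 1 [← hc]; group
    have hxz : x⁻¹ * z * x = t * z := by
      calc x⁻¹ * z * x = t * (x⁻¹ * (t * z) * x) := by
            rw [show x⁻¹ * (t * z) * x = x⁻¹ * t * z * x by group,
              (Commute.inv_left (hPt x hx : Commute x t)).eq]
            simp only [← mul_assoc, htt, one_mul]
        _ = t * (x⁻¹ * (x * z * x⁻¹) * x) := by rw [e]
        _ = t * z := by group
    have := hn _ hc' _ (Q.mul_mem htQ hzQ)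
    refine hzP ?_
    rwa [← hxz, show (x⁻¹ * q * g)⁻¹ * (x⁻¹ * z * x) * (x⁻¹ * q * g)⁻¹⁻¹ = g⁻¹ * (q⁻¹ * z * q) * g by group,
      show q⁻¹ * z * q = z by rw [mul_assoc, ← hzc q hq, inv_mul_cancel_left]] at this
  have keyR : ∀ x ∈ P, z * x * z * x⁻¹ = 1 ∨ z * x * z * x⁻¹ = t → z * x = x * z := by
    rintro x hx (e | e)
    · calc z * x = z * x * z * x⁻¹ * (x * z⁻¹) := by group
        _ = x * z := by rw [e, one_mul, hzi]
    · exact absurd (calc x * z * x⁻¹ = z⁻¹ * (z * x * z * x⁻¹) := by group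
        _ = t * z := by rw [e, hzi, htz']) (key x hx)
  have hW : ∀ w ∈ Q, w ∈ P → w = 1 ∨ w = t := by
    intro w hwQ hwP
    have hww : w * w = 1 := by
      rcases hsq w hwQ with e | e
      · exact e
      · rcases hPsq w hwP with e' | e'
        · exact e'
        · exact absurd (e'.symm.trans e) htz
    have h1 : ∀ a ∈ Q, a * t = t * a → a * w = w * a := by
      intro a ha hat
      rcases hcm a ha w hwQ with e | e
      · exact commutatorElement_eq_one_iff_mul_comm.mp e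
      · exact absurd (show z ∈ P by
          rw [← e, commutatorElement_def]; exact P.mul_mem (hPn a hat w hwP) (P.inv_mem hwP)) hzP'
    rcases hcm q hq w hwQ with e | e
    · rcases hcen w hwQ (central_of Q z t q w hzz hzc hxt hq hqt h1
        (commutatorElement_eq_one_iff_mul_comm.mp e)) hww with e' | e'
      · exact Or.inl e'
      · exact absurd (e' ▸ hwP) hzP'
    · have htw : t * w = w * t := h1 t htQ rfl
      have h2 : q * (w * t) = w * t * q := by
        calc q * (w * t) = ⁅q, w⁆ * w * (q * t * q⁻¹) * q := by simp only [commutatorElement_def]; group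
          _ = z * w * (z * t) * q := by rw [e, hqt]
          _ = w * (z * z) * t * q := by rw [← hzc w hwQ]; group
          _ = w * t * q := by rw [hzz, mul_one]
      have hwt : w * t * (w * t) = 1 := by
        rw [mul_assoc, ← mul_assoc t, htw, mul_assoc w t t, htt, mul_one, hww]
      rcases hcen (w * t) (Q.mul_mem hwQ htQ) (central_of Q z t q _ hzz hzc hxt hq hqt
        (fun a ha hat => by rw [← mul_assoc, h1 a ha hat, mul_assoc, hat, mul_assoc]) h2) hwt with e' | e'
      · exact Or.inr ((eq_inv_of_mul_eq_one_left e').trans hti)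
      · exact absurd (e' ▸ P.mul_mem hwP htP) hzP'
  have hRQ : ∀ a ∈ Q, a * t = t * a → ∀ r ∈ P, r * z = z * r → a * r * a⁻¹ = r ∨ a * r * a⁻¹ = t * r := by
    intro a ha hat r hr hrz
    have hwQ : a * r * a⁻¹ * r⁻¹ ∈ Q := by
      rw [show a * r * a⁻¹ * r⁻¹ = a * (r * a⁻¹ * r⁻¹) by group]
      exact Q.mul_mem ha (hn r hrz _ (Q.inv_mem ha))
    rcases hW _ hwQ (P.mul_mem (hPn a hat r hr) (P.inv_mem hr)) with e | e
    · exact Or.inl (mul_inv_eq_one.mp e)
    · exact Or.inr (mul_inv_eq_iff_eq_mul.mp e)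
  have hzt : z * t = t * z := htz'.symm
  have hzconj : ∀ y ∈ P, z * y * z ∈ P := fun y hy => by
    have := hPn z hzt y hy
    rwa [hzi] at this
  have hzR : ∀ w ∈ P, z * (z * w * z * w⁻¹) = z * w * z * w⁻¹ * z := by
    intro w hw
    refine keyR _ (P.mul_mem (hzconj w hw) (P.inv_mem hw)) ?_
    rw [show z * (z * w * z * w⁻¹) * z * (z * w * z * w⁻¹)⁻¹ = (z * z) * w * z * w⁻¹ * z * (z * w * z * w⁻¹)⁻¹ by group,
      hzz, one_mul, show w * z * w⁻¹ * z = (z * w * z * w⁻¹)⁻¹ by simp only [mul_inv_rev, inv_inv, hzi, mul_assoc],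
      ← mul_inv_rev]
    rcases hPsq _ (P.mul_mem (hzconj w hw) (P.inv_mem hw)) with e | e
    · exact Or.inl (by rw [e, inv_one])
    · exact Or.inr (by rw [e, hti])
  have hval : ∀ u ∈ P, ∀ v ∈ P, ∀ c : G, c * t = t * c → c * ⁅u, v⁆ * c⁻¹ = ⁅u, v⁆ := by
    intro u hu v hv c hc
    rcases hPcm u hu v hv with e | e <;> rw [e]
    · group
    · rw [hc, mul_inv_cancel_right]
  have hl : ∀ u ∈ P, ∀ v ∈ P, ∀ r ∈ P, ⁅u * v, r⁆ = ⁅v, r⁆ * ⁅u, r⁆ := by
    intro u hu v hv r hr
    rw [show ⁅u * v, r⁆ = u * ⁅v, r⁆ * u⁻¹ * ⁅u, r⁆ by simp only [commutatorElement_def]; group,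
      hval v hv r hr u (hPt u hu)]
  have hr' : ∀ u ∈ P, ∀ v ∈ P, ∀ r ∈ P, ⁅u, v * r⁆ = ⁅u, v⁆ * ⁅u, r⁆ := by
    intro u hu v hv r hr
    rw [show ⁅u, v * r⁆ = ⁅u, v⁆ * (v * ⁅u, r⁆ * v⁻¹) by simp only [commutatorElement_def]; group,
      hval u hu r hr v (hPt v hv)]
  -- the operators commute with `z`
  have hd : ∀ a ∈ Q, a * t = t * a → ∀ y ∈ P, z * (a * y * a⁻¹ * y⁻¹) = a * y * a⁻¹ * y⁻¹ * z := by
    intro a ha hat y hy
    have hay := hPn a hat y hy
    have hdP : a * y * a⁻¹ * y⁻¹ ∈ P := P.mul_mem hay (P.inv_mem hy)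
    have hdR : ∀ r ∈ P, r * z = z * r → ⁅a * y * a⁻¹ * y⁻¹, r⁆ = 1 := by
      intro r hr hrz
      have h1 : ⁅a * y * a⁻¹, r⁆ = ⁅y, r⁆ := by
        have hai : a⁻¹ * t = t * a⁻¹ := (Commute.inv_left (hat : Commute a t)).eq
        have hra := hPn a⁻¹ hai r hr
        rw [inv_inv] at hra
        rw [show ⁅a * y * a⁻¹, r⁆ = a * ⁅y, a⁻¹ * r * a⁆ * a⁻¹ by simp only [commutatorElement_def]; group,
          hval y hy _ hra a hat]
        rcases hRQ a⁻¹ (Q.inv_mem ha) hai r hr hrz with e | e <;> rw [inv_inv] at e <;> rw [e]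
        rw [hr' y hy t htP r hr, commutatorElement_eq_one_iff_mul_comm.mpr (hPt y hy), one_mul]
      rw [hl _ hay _ (P.inv_mem hy) r hr, h1, ← hl _ hy _ (P.inv_mem hy) r hr, mul_inv_cancel,
        commutatorElement_one_left]
    set d := a * y * a⁻¹ * y⁻¹ with hd0
    have heP : z * d * z * d⁻¹ ∈ P := P.mul_mem (hzconj d hdP) (P.inv_mem hdP)
    have hec : ∀ w ∈ P, w * (z * d * z * d⁻¹) = z * d * z * d⁻¹ * w := by
      intro w hw
      refine (commutatorElement_eq_one_iff_mul_comm.mp ?_).symm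
      have h2 : ⁅z * d * z, w⁆ = ⁅d, w⁆ := by
        have hcP : z * w * z * w⁻¹ ∈ P := P.mul_mem (hzconj w hw) (P.inv_mem hw)
        calc ⁅z * d * z, w⁆ = z * ⁅d, z * w * z⁆ * z⁻¹ := by
              simp only [commutatorElement_def, mul_inv_rev, hzi]
              simp only [mul_assoc, hzz, mul_one]
          _ = ⁅d, (z * w * z * w⁻¹) * w⁆ := by rw [hval d hdP _ (hzconj w hw) z hzt, inv_mul_cancel_right]
          _ = ⁅d, w⁆ := by rw [hr' d hdP _ hcP w hw, hdR _ hcP (hzR w hw).symm, one_mul]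
      rw [hl _ (hzconj d hdP) _ (P.inv_mem hdP) w hw, h2, ← hl _ hdP _ (P.inv_mem hdP) w hw, mul_inv_cancel,
        commutatorElement_one_left]
    refine keyR d hdP ?_
    have h3 := hzR d hdP
    have h4 : z * (z * d * z * d⁻¹) * z = (z * d * z * d⁻¹)⁻¹ := by
      simp only [mul_inv_rev, inv_inv, hzi, ← mul_assoc, hzz, one_mul]
    rw [h3, mul_assoc _ z z, hzz, mul_one] at h4
    have h5 := eq_inv_iff_mul_eq_one.mp h4
    have h6 := (hP _).mp heP
    have h8 : ∀ x ∈ Q, x * (g⁻¹ * (z * d * z * d⁻¹) * g) = g⁻¹ * (z * d * z * d⁻¹) * g * x := by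
      intro x hx
      have h7 := hec (g * x * g⁻¹) ((hP _).mpr (by simpa [mul_assoc] using hx))
      calc x * (g⁻¹ * (z * d * z * d⁻¹) * g) = g⁻¹ * ((g * x * g⁻¹) * (z * d * z * d⁻¹)) * g := by group
        _ = g⁻¹ * ((z * d * z * d⁻¹) * (g * x * g⁻¹)) * g := by rw [h7]
        _ = g⁻¹ * (z * d * z * d⁻¹) * g * x := by group
    rcases hcen _ h6 h8 (by
      calc g⁻¹ * (z * d * z * d⁻¹) * g * (g⁻¹ * (z * d * z * d⁻¹) * g) =
          g⁻¹ * ((z * d * z * d⁻¹) * (z * d * z * d⁻¹)) * g := by group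
        _ = 1 := by rw [h5]; group) with e | e
    · exact Or.inl (by
        calc z * d * z * d⁻¹ = g * (g⁻¹ * (z * d * z * d⁻¹) * g) * g⁻¹ := by group
          _ = 1 := by rw [e]; group)
    · exact Or.inr (by
        calc z * d * z * d⁻¹ = g * (g⁻¹ * (z * d * z * d⁻¹) * g) * g⁻¹ := by group
          _ = t := by rw [e, ht])
  -- `C_Q(t)` has exponent two
  have hsq1 : ∀ a ∈ Q, a * t = t * a → a * a = 1 := by
    intro a ha hat
    refine (hsq a ha).resolve_right fun haz => hzP ?_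
    refine hself _ ?_ ?_
    · calc g⁻¹ * z * g * z = g⁻¹ * (z * (g * z * g⁻¹)) * g := by group
        _ = g⁻¹ * (t * z) * g := by rw [ht, hzt]
        _ = z * (g⁻¹ * z * g) := by rw [← ht]; group
    intro x hx
    have hy : g * x * g⁻¹ ∈ P := (hP _).mpr (by simpa [mul_assoc] using hx)
    have key2 : z * (g * x * g⁻¹) = g * x * g⁻¹ * z := by
      set y := g * x * g⁻¹
      have hdP : a * y * a⁻¹ * y⁻¹ ∈ P := P.mul_mem (hPn a hat y hy) (P.inv_mem hy)
      refine keyR y hy ?_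
      have e : z * y * z * y⁻¹ =
          a * (a * y * a⁻¹ * y⁻¹) * a⁻¹ * (a * y * a⁻¹ * y⁻¹) := by
        nth_rewrite 2 [← hzi]
        rw [← haz]; group
      rw [e]
      rcases hRQ a ha hat _ hdP (hd a ha hat y hy).symm with e1 | e1 <;>
        rcases hPsq _ hdP with e2 | e2 <;>
          rw [e1] <;> simp only [mul_assoc t, e2, mul_one, htt] <;> simp
    calc x * (g⁻¹ * z * g) = g⁻¹ * ((g * x * g⁻¹) * z) * g := by group
      _ = g⁻¹ * (z * (g * x * g⁻¹)) * g := by rw [key2]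
      _ = g⁻¹ * z * g * x := by group
  have hel : ∀ a ∈ Q, a * t = t * a → a = 1 ∨ a = z ∨ a = t ∨ a = z * t := by
    intro a ha hat
    have h1 : ∀ b ∈ Q, b * t = t * b → b * a = a * b := by
      intro b hb hbt
      have h2 := hsq1 (b * a) (Q.mul_mem hb ha) (by rw [mul_assoc, hat, ← mul_assoc, hbt, mul_assoc])
      calc b * a = (b * a)⁻¹ := (inv_eq_of_mul_eq_one_right h2).symm
        _ = a * b := by
          rw [mul_inv_rev, inv_eq_of_mul_eq_one_right (hsq1 a ha hat),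
            inv_eq_of_mul_eq_one_right (hsq1 b hb hbt)]
    rcases hcm q hq a ha with e | e
    · rcases hcen a ha (central_of Q z t q a hzz hzc hxt hq hqt h1
        (commutatorElement_eq_one_iff_mul_comm.mp e)) (hsq1 a ha hat) with e' | e'
      · exact Or.inl e'
      · exact Or.inr (Or.inl e')
    · have h2 : q * (a * t) = a * t * q := by
        calc q * (a * t) = ⁅q, a⁆ * a * (q * t * q⁻¹) * q := by simp only [commutatorElement_def]; group
          _ = z * a * (z * t) * q := by rw [e, hqt]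
          _ = a * (z * z) * t * q := by rw [← hzc a ha]; group
          _ = a * t * q := by rw [hzz, mul_one]
      have hc2 : ∀ b ∈ Q, b * t = t * b → b * (a * t) = a * t * b := fun b hb hbt => by
        rw [← mul_assoc, h1 b hb hbt, mul_assoc, hbt, mul_assoc]
      rcases hcen (a * t) (Q.mul_mem ha htQ) (central_of Q z t q _ hzz hzc hxt hq hqt hc2 h2)
        (hsq1 _ (Q.mul_mem ha htQ) (by rw [mul_assoc, htt, mul_one, ← mul_assoc, ← hat, mul_assoc, htt, mul_one])) with e' | e'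
      · exact Or.inr (Or.inr (Or.inl ((eq_inv_of_mul_eq_one_left e').trans hti)))
      · exact Or.inr (Or.inr (Or.inr (by rw [← e', mul_assoc, htt, mul_one])))
  -- an element of order four
  obtain ⟨i, hi, hii, hit⟩ : ∃ i ∈ Q, i * i = z ∧ i * t * i⁻¹ = z * t := by
    rcases hsq q hq with e | e
    · refine ⟨t * q, Q.mul_mem htQ hq, ?_, ?_⟩
      · calc t * q * (t * q) = t * (q * t * q⁻¹) * (q * q) := by group
          _ = z * (t * t) := by rw [hqt, e, mul_one, ← mul_assoc, htz', mul_assoc]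
          _ = z := by rw [htt, mul_one]
      · calc t * q * t * (t * q)⁻¹ = t * (q * t * q⁻¹) * t⁻¹ := by group
          _ = z * (t * t) * t⁻¹ := by rw [hqt, ← mul_assoc t, htz', mul_assoc z t t]
          _ = z * t := by rw [htt, mul_one, hti]
    · exact ⟨q, hq, e, hqt⟩
  have h2el : ∀ x ∈ Q, x * x = z → x = i ∨ x = z * i := by
    intro x hx hxx
    have hxn : x * t * x⁻¹ = z * t := (hxt x hx).resolve_left fun e =>
      hz1 (hxx.symm.trans (hsq1 x hx (mul_inv_eq_iff_eq_mul.mp e)))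
    have hat : x * i⁻¹ * t = t * (x * i⁻¹) := mul_inv_eq_iff_eq_mul.mp (by
      calc x * i⁻¹ * t * (x * i⁻¹)⁻¹ = x * (i⁻¹ * t * i) * x⁻¹ := by group
        _ = x * (z * t) * x⁻¹ := by
          rw [show i⁻¹ * t * i = z * t by
            calc i⁻¹ * t * i = z * z * (i⁻¹ * t * i) := by rw [hzz, one_mul]
              _ = z * (i⁻¹ * (z * t) * i) := by
                rw [show i⁻¹ * (z * t) * i = i⁻¹ * z * t * i by group,
                  (Commute.inv_left (hzc i hi : Commute i z)).eq]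
                group
              _ = z * (i⁻¹ * (i * t * i⁻¹) * i) := by rw [hit]
              _ = z * t := by group]
        _ = (x * z * x⁻¹) * (x * t * x⁻¹) := by group
        _ = z * (z * t) := by rw [hzc x hx, mul_inv_cancel_right, hxn]
        _ = t := by rw [← mul_assoc, hzz, one_mul])
    rcases hel _ (Q.mul_mem hx (Q.inv_mem hi)) hat with e | e | e | e
    · exact Or.inl (mul_inv_eq_one.mp e)
    · exact Or.inr (mul_inv_eq_iff_eq_mul.mp e)
    · exfalso
      rw [mul_inv_eq_iff_eq_mul.mp e] at hxx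
      apply hz1
      rw [← hxx, show t * i * (t * i) = t * (i * t * i⁻¹) * (i * i) by group, hit, hii,
        show t * (z * t) * z = (t * z) * (t * z) by group]
      nth_rewrite 1 [htz']
      rw [mul_assoc, ← mul_assoc t t, htt, one_mul, hzz]
    · exfalso
      rw [mul_inv_eq_iff_eq_mul.mp e] at hxx
      apply hz1
      rw [← hxx, show z * t * i * (z * t * i) = z * t * (i * z * i⁻¹) * (i * t * i⁻¹) * (i * i) by group, hzc i hi,
        mul_inv_cancel_right, hit, hii, mul_assoc z t z, htz',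
        show z * (z * t) * (z * t) * z = (z * z) * (t * z) * (t * z) by group, hzz, one_mul]
      nth_rewrite 1 [htz']
      rw [mul_assoc, ← mul_assoc t t, htt, one_mul, hzz]
  -- final contradiction
  set i' := g * i * g⁻¹ with hi'
  have hi'P : i' ∈ P := (hP _).mpr (by rw [hi']; simpa [mul_assoc] using hi)
  have hi'2 : i' * i' = t := by rw [← ht, ← hii, hi']; group
  have hi'z : z * i' = i' * z := by
    refine keyR i' hi'P ?_
    rcases h2el _ ((hP _).mp (hzconj i' hi'P)) (by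
      calc g⁻¹ * (z * i' * z) * g * (g⁻¹ * (z * i' * z) * g) = g⁻¹ * (z * i' * (z * z) * i' * z) * g := by group
        _ = g⁻¹ * (z * (i' * i') * z) * g := by rw [hzz, mul_one, mul_assoc z i' i']
        _ = z := by rw [hi'2, show z * t * z = t by rw [hzt, mul_assoc, hzz, mul_one], htg]) with e | e
    · exact Or.inl (by
        calc z * i' * z * i'⁻¹ = g * (g⁻¹ * (z * i' * z) * g) * g⁻¹ * i'⁻¹ := by group
          _ = 1 := by rw [e, hi', mul_inv_cancel])
    · exact Or.inr (by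
        calc z * i' * z * i'⁻¹ = g * (g⁻¹ * (z * i' * z) * g) * g⁻¹ * i'⁻¹ := by group
          _ = t := by rw [e, hi', ← ht]; group)
  have hfix : i' * i' * i * (i' * i')⁻¹ = i := by
    rcases h2el (i' * i * i'⁻¹) (hn i' hi'z.symm i hi) (by
      calc i' * i * i'⁻¹ * (i' * i * i'⁻¹) = i' * (i * i) * i'⁻¹ := by group
        _ = z := by rw [hii, ← hi'z, mul_inv_cancel_right]) with e | e
    · calc i' * i' * i * (i' * i')⁻¹ = i' * (i' * i * i'⁻¹) * i'⁻¹ := by group
        _ = i := by rw [e, e]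
    · calc i' * i' * i * (i' * i')⁻¹ = i' * (i' * i * i'⁻¹) * i'⁻¹ := by group
        _ = i' * (z * i) * i'⁻¹ := by rw [e]
        _ = (i' * z * i'⁻¹) * (i' * i * i'⁻¹) := by group
        _ = z * (z * i) := by rw [← hi'z, mul_inv_cancel_right, e]
        _ = i := by rw [← mul_assoc, hzz, one_mul]
  rw [hi'2, hti] at hfix
  have : i * t * i⁻¹ = t := by
    nth_rewrite 1 [← hfix]
    calc t * i * t * t * i⁻¹ = t * (i * (t * t) * i⁻¹) := by group
      _ = t := by rw [htt]; group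
  rw [hit, mul_eq_right] at this
  exact hz1 this


/-- Let G be a finite group and let z be an involution of G such that Q, the generalized Fitting subgroup of the centralizer C of z, is a 2-group of symplectic type (every characteristic abelian subgroup of Q is cyclic); suppose every element of Q has order dividing 4. Let g ∈ G with z' = g z g⁻¹ ≠ z and z' ∈ Q. Then z lies in the conjugate g Q g⁻¹, and the subgroup X generated by Q and g Q g⁻¹ induces every automorphism of the four-group generated by z and z': for any two distinct non-identity elements u, v of that four-group there is x ∈ X with x z x⁻¹ = u and x z' x⁻¹ = v. -/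
theorem result {G : Type*} [Group G] [Finite G] (z : G) (hz : orderOf z = 2) (hQ : Cfsg.IsOfSymplecticType ↥(Cfsg.generalizedFittingSubgroup ↥(Subgroup.centralizer ({z} : Set G))))
    (h4 : ∀ q ∈ (Cfsg.generalizedFittingSubgroup ↥(Subgroup.centralizer ({z} : Set G))).map (Subgroup.centralizer ({z} : Set G)).subtype, q ^ 4 = 1) (g : G) (hne : g * z * g⁻¹ ≠ z) (hin : g * z * g⁻¹ ∈ (Cfsg.generalizedFittingSubgroup ↥(Subgroup.centralizer ({z} : Set G))).map (Subgroup.centralizer ({z} : Set G)).subtype) :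
    z ∈ ((Cfsg.generalizedFittingSubgroup ↥(Subgroup.centralizer ({z} : Set G))).map (Subgroup.centralizer ({z} : Set G)).subtype).map (MulAut.conj g).toMonoidHom ∧
      ∀ u ∈ Subgroup.closure ({z, g * z * g⁻¹} : Set G), ∀ v ∈ Subgroup.closure ({z, g * z * g⁻¹} : Set G),
        u ≠ 1 → v ≠ 1 → u ≠ v →
          ∃ x ∈ (Cfsg.generalizedFittingSubgroup ↥(Subgroup.centralizer ({z} : Set G))).map (Subgroup.centralizer ({z} : Set G)).subtype ⊔ ((Cfsg.generalizedFittingSubgroup ↥(Subgroup.centralizer ({z} : Set G))).map (Subgroup.centralizer ({z} : Set G)).subtype).map (MulAut.conj g).toMonoidHom, x * z * x⁻¹ = u ∧ x * (g * z * g⁻¹) * x⁻¹ = v := by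
  haveI : Fact (Nat.Prime 2) := ⟨Nat.prime_two⟩
  set C := Subgroup.centralizer ({z} : Set G) with hC
  set F := Cfsg.generalizedFittingSubgroup ↥C with hFdef
  set QG := F.map C.subtype with hQG
  haveI hFn : F.Normal := CfsgLib.Layer.generalizedFitting_normal
  have hzz : z * z = 1 := by rw [← pow_two, ← hz, pow_orderOf_eq_one]
  have hz1 : z ≠ 1 := fun e => by rw [e, orderOf_one] at hz; norm_num at hz
  have hmem : ∀ c : G, c ∈ C ↔ c * z = z * c := fun c => Subgroup.mem_centralizer_singleton_iff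
  have hQC : QG ≤ C := Subgroup.map_subtype_le _
  have hzc : ∀ x ∈ QG, x * z = z * x := fun x hx => (hmem x).mp (hQC hx)
  have hn : ∀ c : G, c * z = z * c → ∀ x ∈ QG, c * x * c⁻¹ ∈ QG := by
    rintro c hc _ ⟨x, hx, rfl⟩
    exact ⟨⟨c, (hmem c).mpr hc⟩ * x * ⟨c, (hmem c).mpr hc⟩⁻¹, hFn.conj_mem x hx _, rfl⟩
  have hself : ∀ c : G, c * z = z * c → (∀ x ∈ QG, x * c = c * x) → c ∈ QG := fun c hc h =>
    ⟨⟨c, (hmem c).mpr hc⟩, CfsgLib.Layer.centralizer_generalizedFitting_le
      (Subgroup.mem_centralizer_iff.mpr fun q hq => Subtype.ext (h q ⟨q, hq, rfl⟩)), rfl⟩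
  have hzQ : z ∈ QG := hself z rfl hzc
  obtain ⟨z0, hz0, hz0G⟩ := id hzQ
  obtain ⟨hp, hchar⟩ := hQ
  obtain ⟨H, hHchar, hHp, hHc, hHs⟩ := CfsgLib.Critical.exists_isCrit hp
  haveI := hHchar
  set A := H ⊓ Subgroup.centralizer (H : Set ↥F) with hA
  have hAchar : A.Characteristic := by rw [hA]; infer_instance
  have hAcyc : IsCyclic A := hchar A hAchar ⟨⟨fun a b => Subtype.ext
    (Subgroup.mem_centralizer_iff.mp b.2.2 a a.2.1)⟩⟩
  set Z : F := ⟨z0, hz0⟩ with hZdef
  have hZZ : Z * Z = 1 := Subtype.ext (Subtype.ext (by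
    show (z0 : G) * (z0 : G) = 1
    rw [show (z0 : G) = z from hz0G]; exact hzz))
  have hZ1 : Z ≠ 1 := fun e => hz1 (by
    rw [← hz0G]; exact congrArg (fun f : F => ((f : C) : G)) e)
  have hZc : ∀ f : F, f * Z = Z * f := fun f => Subtype.ext (Subtype.ext (by
    show ((f : C) : G) * (z0 : G) = (z0 : G) * ((f : C) : G)
    rw [show (z0 : G) = z from hz0G]; exact (hmem _).mp f.1.2))
  have hZA : Z ∈ A := ⟨hHs (Subgroup.mem_centralizer_iff.mpr fun h _ => hZc h),
    Subgroup.mem_centralizer_iff.mpr fun h _ => hZc h⟩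
  have huniq : ∀ {K : Subgroup F}, IsCyclic K → Z ∈ K → ∀ a ∈ K, a * a = 1 → a = 1 ∨ a = Z := by
    intro K hK hZK a ha haa
    classical
    haveI := Fintype.ofFinite K
    by_contra! h
    have h2 := IsCyclic.card_pow_eq_one_le (α := K) (n := 2) (by norm_num)
    have hsub : ({1, ⟨Z, hZK⟩, ⟨a, ha⟩} : Finset K) ⊆ Finset.univ.filter (fun a => a ^ 2 = 1) := by
      intro b hb
      simp only [Finset.mem_insert, Finset.mem_singleton] at hb
      simp only [Finset.mem_filter, Finset.mem_univ, true_and, pow_two]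
      rcases hb with rfl | rfl | rfl
      · exact one_mul 1
      · exact Subtype.ext hZZ
      · exact Subtype.ext haa
    have := Finset.card_le_card hsub
    rw [Finset.card_insert_of_notMem (by
        simp only [Finset.mem_insert, Finset.mem_singleton, not_or]
        exact ⟨fun e => hZ1 (congrArg Subtype.val e).symm, fun e => h.1 (congrArg Subtype.val e).symm⟩),
      Finset.card_pair (fun e => h.2 (congrArg Subtype.val e).symm)] at this
    omega
  have hF4 : ∀ f : F, f * f * (f * f) = 1 := fun f => Subtype.ext (Subtype.ext (by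
    have := h4 ((f : C) : G) ⟨f, f.2, rfl⟩
    show ((f : C) : G) * ((f : C) : G) * (((f : C) : G) * ((f : C) : G)) = 1
    rw [← this]; simp only [pow_succ, pow_zero, one_mul, mul_assoc]))
  have hH2 : ∀ h ∈ H, ∀ f : F, ⁅h, f⁆ * ⁅h, f⁆ = 1 := by
    intro h hh f
    have hc : ⁅h, f⁆ ∈ A := hHc (Subgroup.commutator_mem_commutator hh (Subgroup.mem_top f))
    have h1 : h * ⁅h, f⁆ = ⁅h, f⁆ * h := Subgroup.mem_centralizer_iff.mp hc.2 h hh
    have h2 : h * h = 1 ∨ h * h = Z := huniq hAcyc hZA _ (by rw [← pow_two]; exact hHp h hh) (hF4 h)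
    have h3 : ⁅h * h, f⁆ = 1 := by
      rcases h2 with e | e <;> rw [e]
      · exact commutatorElement_one_left _
      · exact commutatorElement_eq_one_iff_mul_comm.mpr (hZc f).symm
    rw [show ⁅h * h, f⁆ = h * ⁅h, f⁆ * h⁻¹ * ⁅h, f⁆ by simp only [commutatorElement_def]; group, h1,
      mul_inv_cancel_right] at h3
    exact h3
  have hsqF : ∀ f : F, f * f = 1 ∨ f * f = Z := by
    intro f
    have hff : f * f ∈ Subgroup.centralizer (H : Set ↥F) := by
      refine Subgroup.mem_centralizer_iff.mpr fun h hh => commutatorElement_eq_one_iff_mul_comm.mp ?_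
      have hc : ⁅h, f⁆ ∈ A := hHc (Subgroup.commutator_mem_commutator hh (Subgroup.mem_top f))
      rcases huniq hAcyc hZA _ hc (hH2 h hh f) with e | e
      · rw [show ⁅h, f * f⁆ = ⁅h, f⁆ * (f * ⁅h, f⁆ * f⁻¹) by simp only [commutatorElement_def]; group, e]
        group
      · rw [show ⁅h, f * f⁆ = ⁅h, f⁆ * (f * ⁅h, f⁆ * f⁻¹) by simp only [commutatorElement_def]; group, e,
          hZc f, mul_inv_cancel_right, hZZ]
    exact huniq hAcyc hZA _ ⟨hHs hff, hff⟩ (hF4 f)
  have hsq : ∀ x ∈ QG, x * x = 1 ∨ x * x = z := by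
    rintro _ ⟨x, hx, rfl⟩
    rcases hsqF ⟨x, hx⟩ with e | e
    · exact Or.inl (congrArg (fun f : F => ((f : C) : G)) e)
    · exact Or.inr (by rw [← hz0G]; exact congrArg (fun f : F => ((f : C) : G)) e)
  have hcen : ∀ w ∈ QG, (∀ x ∈ QG, x * w = w * x) → w * w = 1 → w = 1 ∨ w = z := by
    rintro _ ⟨w, hw, rfl⟩ hc hww
    rcases huniq (hchar (Subgroup.center F) inferInstance inferInstance)
      (Subgroup.mem_center_iff.mpr fun f => hZc f) (⟨w, hw⟩ : F)
      (Subgroup.mem_center_iff.mpr fun f => Subtype.ext (Subtype.ext (hc _ ⟨f, f.2, rfl⟩)))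
      (Subtype.ext (Subtype.ext hww)) with e | e
    · exact Or.inl (congrArg (fun f : F => ((f : C) : G)) e)
    · exact Or.inr (by rw [← hz0G]; exact congrArg (fun f : F => ((f : C) : G)) e)
  have hmemP : ∀ x : G, x ∈ QG.map (MulAut.conj g).toMonoidHom ↔ g⁻¹ * x * g ∈ QG := fun x => by
    constructor
    · rintro ⟨y, hy, rfl⟩
      show g⁻¹ * (g * y * g⁻¹) * g ∈ QG
      simpa [mul_assoc] using hy
    · intro h
      exact ⟨_, h, show g * (g⁻¹ * x * g) * g⁻¹ = x by group⟩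
  set t := g * z * g⁻¹ with ht
  have hconc : g⁻¹ * z * g ∈ QG := mem_conj z t g QG hzz hz1 hzQ hzc hn hself hsq hcen rfl hne hin
  refine ⟨(hmemP z).mpr hconc, ?_⟩
  have htt : t * t = 1 := by
    rw [ht]
    calc g * z * g⁻¹ * (g * z * g⁻¹) = g * (z * z) * g⁻¹ := by group
      _ = 1 := by rw [hzz, mul_one, mul_inv_cancel]
  have ht1 : t ≠ 1 := fun e => hz1 (by
    calc z = g⁻¹ * t * g := by rw [ht]; group
      _ = 1 := by rw [e]; group)
  have htz : t * z = z * t := hzc t hin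
  obtain ⟨q, hq, hqt⟩ : ∃ q ∈ QG, q * t * q⁻¹ = z * t := by
    by_contra! hall
    have hc : ∀ x ∈ QG, x * t = t * x := fun x hx => by
      rcases comm_of_sq QG z hzz hzc hsq x hx t hin with e | e
      · exact commutatorElement_eq_one_iff_mul_comm.mp e
      · rw [commutatorElement_def, mul_inv_eq_iff_eq_mul] at e
        exact absurd e (hall x hx)
    rcases hcen t hin hc htt with e | e
    · exact ht1 e
    · exact hne e
  obtain ⟨q', hq', hqz⟩ : ∃ q' ∈ QG.map (MulAut.conj g).toMonoidHom, q' * z * q'⁻¹ = t * z := by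
    have hs1 : g⁻¹ * z * g ≠ 1 := fun e => hz1 (by
      calc z = g * (g⁻¹ * z * g) * g⁻¹ := by group
        _ = 1 := by rw [e]; group)
    have hs2 : g⁻¹ * z * g ≠ z := fun e => hne (by
      rw [ht]; nth_rewrite 1 [← e]; group)
    have hss : g⁻¹ * z * g * (g⁻¹ * z * g) = 1 := by
      calc g⁻¹ * z * g * (g⁻¹ * z * g) = g⁻¹ * (z * z) * g := by group
        _ = 1 := by rw [hzz]; group
    by_contra! hall
    have hc : ∀ x ∈ QG, x * (g⁻¹ * z * g) = g⁻¹ * z * g * x := fun x hx => by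
      rcases comm_of_sq QG z hzz hzc hsq x hx _ hconc with e | e
      · exact commutatorElement_eq_one_iff_mul_comm.mp e
      · rw [commutatorElement_def, mul_inv_eq_iff_eq_mul] at e
        refine absurd ?_ (hall (g * x * g⁻¹) ((hmemP _).mpr (by simpa [mul_assoc] using hx)))
        calc g * x * g⁻¹ * z * (g * x * g⁻¹)⁻¹ = g * (x * (g⁻¹ * z * g) * x⁻¹) * g⁻¹ := by group
          _ = t * z := by rw [e, ht]; group
    rcases hcen _ hconc hc hss with e | e
    · exact hs1 e
    · exact hs2 e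
  have hq_z : q * z * q⁻¹ = z := by rw [hzc q hq, mul_inv_cancel_right]
  have hq'_t : q' * t * q'⁻¹ = t := by
    have := hzc _ ((hmemP q').mp hq')
    rw [mul_inv_eq_iff_eq_mul]
    calc q' * t = g * (g⁻¹ * q' * g * z) * g⁻¹ := by rw [ht]; group
      _ = t * q' := by rw [this, ht]; group
  have hqzt : q * (z * t) * q⁻¹ = t := by
    rw [show q * (z * t) * q⁻¹ = (q * z * q⁻¹) * (q * t * q⁻¹) by group, hq_z, hqt, ← mul_assoc, hzz, one_mul]
  have hq'zt : q' * (z * t) * q'⁻¹ = z := by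
    rw [show q' * (z * t) * q'⁻¹ = (q' * z * q'⁻¹) * (q' * t * q'⁻¹) by group, hqz, hq'_t, htz, mul_assoc, htt, mul_one]
  have hcl : ∀ u ∈ Subgroup.closure ({z, t} : Set G), u = 1 ∨ u = z ∨ u = t ∨ u = z * t := by
    intro u hu
    induction hu using Subgroup.closure_induction with
    | mem x hx => rcases hx with rfl | rfl <;> simp
    | one => exact Or.inl rfl
    | mul x y _ _ hx hy =>
      have a1 : z * (z * t) = t := by rw [← mul_assoc, hzz, one_mul]
      have a2 : t * (z * t) = z := by rw [← mul_assoc, htz, mul_assoc, htt, mul_one]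
      have a3 : z * t * z = t := by rw [← htz, mul_assoc, hzz, mul_one]
      have a4 : z * t * t = z := by rw [mul_assoc, htt, mul_one]
      have a5 : z * t * (z * t) = 1 := by rw [← mul_assoc, a3, htt]
      rcases hx with rfl | rfl | rfl | rfl <;> rcases hy with rfl | rfl | rfl | rfl <;>
        simp [hzz, htt, htz, a1, a2, a3, a4, a5]
    | inv x _ hx =>
      have hi : (z * t)⁻¹ = z * t := by
        rw [mul_inv_rev, inv_eq_of_mul_eq_one_right hzz, inv_eq_of_mul_eq_one_right htt, htz]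
      rcases hx with rfl | rfl | rfl | rfl <;>
        simp [inv_eq_of_mul_eq_one_right hzz, inv_eq_of_mul_eq_one_right htt, hi]
  intro u hu v hv hu1 hv1 huv
  set M := QG ⊔ QG.map (MulAut.conj g).toMonoidHom with hM
  have hqM : q ∈ M := Subgroup.mem_sup_left hq
  have hqM' : q' ∈ M := Subgroup.mem_sup_right hq'
  have hconj : ∀ a b w : G, a * b * w * (a * b)⁻¹ = a * (b * w * b⁻¹) * a⁻¹ := fun a b w => by group
  have c1 : ∃ x ∈ M, x * z * x⁻¹ = z ∧ x * t * x⁻¹ = t := ⟨1, M.one_mem, by simp, by simp⟩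
  have c2 : ∃ x ∈ M, x * z * x⁻¹ = z ∧ x * t * x⁻¹ = z * t := ⟨q, hqM, hq_z, hqt⟩
  have c3 : ∃ x ∈ M, x * z * x⁻¹ = z * t ∧ x * t * x⁻¹ = t := ⟨q', hqM', hqz.trans htz, hq'_t⟩
  have c4 : ∃ x ∈ M, x * z * x⁻¹ = t ∧ x * t * x⁻¹ = z * t :=
    ⟨q * q', M.mul_mem hqM hqM', by rw [hconj, hqz, htz, hqzt], by rw [hconj, hq'_t, hqt]⟩
  have c5 : ∃ x ∈ M, x * z * x⁻¹ = z * t ∧ x * t * x⁻¹ = z :=
    ⟨q' * q, M.mul_mem hqM' hqM, by rw [hconj, hq_z, hqz, htz], by rw [hconj, hqt, hq'zt]⟩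
  have c6 : ∃ x ∈ M, x * z * x⁻¹ = t ∧ x * t * x⁻¹ = z :=
    ⟨q * q' * q, M.mul_mem (M.mul_mem hqM hqM') hqM,
      by rw [hconj, hq_z, hconj, hqz, htz, hqzt], by rw [hconj, hqt, hconj, hq'zt, hq_z]⟩
  rcases hcl u hu with e | e | e | e <;> rcases hcl v hv with e' | e' | e' | e' <;> subst e e' <;>
    first
    | exact absurd rfl hu1
    | exact absurd rfl hv1
    | exact absurd rfl huv
    | exact c1
    | exact c2
    | exact c3
    | exact c4
    | exact c5
    | exact c6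

end Cfsg.Agent.S1774
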