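import Cfsg.Statements.S1775
import Cfsg.Agent.Lib.Layer.CoCentralizer
import Cfsg.Agent.Lib.PSolvable.Core
import Cfsg.Agent.Lib.OddOrder.Solvable

set_option autoImplicit false
open Cfsg
open scoped commutatorElement

namespace Cfsg.Agent.S1775

open CfsgLib CfsgLib.Layer

universe u

/-- A 2-component of a group whose core commutes with the layer is a component. -/
theorem component_of_commute {H : Type u} [Group H] [Finite H]
    (h : ⁅Cfsg.pLayer 2 H, Cfsg.pPrimeCore 2 H⁆ = ⊥) {L : Subgroup H} (hc : NonQS.PComp 2 L) :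
    Cfsg.IsComponent L := by
  haveI : Fact (Nat.Prime 2) := ⟨Nat.prime_two⟩
  haveI := Transfer.pPrimeCore_normal 2 ↥L
  haveI : Group.IsPerfect ↥L := Subgroup.isPerfect_iff.mpr hc.perfect
  refine hc.isComponent (NonQS.isQuasisimple_of_central_ker (QuotientGroup.mk'_surjective _) ?_ hc.qs)
  rw [QuotientGroup.ker_mk']
  intro k hk
  have h1 : L ≤ Subgroup.centralizer (Cfsg.pPrimeCore 2 H : Set H) :=
    (le_sSup (show L ∈ {K : Subgroup H | Cfsg.IsPComponent 2 K} from hc.isPComponent)).trans (Subgroup.commutator_eq_bot_iff_le_centralizer.mp h)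
  exact Subgroup.mem_center_iff.mpr fun l => Subtype.ext
    (Subgroup.mem_centralizer_iff.mp (h1 l.2) k ((mem_pPrimeCore_iff hc.sn k).mp hk)).symm

/-- The layer of a centraliser met with another centraliser, carried into a quotient. -/
theorem core {G : Type u} [Group G] [Finite G] (x y : G) (hx : orderOf x = 2)
    (hxy : x * y = y * x) (hB : Cfsg.HasBProperty
      (↥(Subgroup.centralizer ({y} : Set G)) ⧸ Cfsg.oddCore ↥(Subgroup.centralizer ({y} : Set G))))
    (A : Subgroup G) (hAx : A ≤ Subgroup.centralizer ({x} : Set G))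
    (hAy : A ≤ Subgroup.centralizer ({y} : Set G))
    (hAn : ∀ g ∈ Subgroup.centralizer ({x} : Set G) ⊓ Subgroup.centralizer ({y} : Set G),
      ∀ a ∈ A, g * a * g⁻¹ ∈ A)
    (J : Subgroup ↥A) (hJ : Cfsg.IsPComponent 2 J) :
    Cfsg.IsComponent
        ((((J.map A.subtype).subgroupOf (Subgroup.centralizer ({y} : Set G))).map (QuotientGroup.mk' (Cfsg.oddCore ↥(Subgroup.centralizer ({y} : Set G))))).subgroupOf
          (Subgroup.centralizer ({(QuotientGroup.mk' (Cfsg.oddCore ↥(Subgroup.centralizer ({y} : Set G))) ⟨x, Subgroup.mem_centralizer_singleton_iff.mpr hxy⟩ : ↥(Subgroup.centralizer ({y} : Set G)) ⧸ Cfsg.oddCore ↥(Subgroup.centralizer ({y} : Set G)))} : Set _))) ∧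
      ∀ E : Subgroup G, E ≤ Subgroup.centralizer ({x} : Set G) ⊓ Subgroup.centralizer ({y} : Set G) → Odd (Nat.card ↥E) →
        (∀ j ∈ J.map A.subtype, ∀ e ∈ E, j * e * j⁻¹ ∈ E) →
          ⁅J.map A.subtype, E⁆ ≤ (Cfsg.oddCore ↥(Subgroup.centralizer ({y} : Set G))).map (Subgroup.centralizer ({y} : Set G)).subtype := by
  haveI : Fact (Nat.Prime 2) := ⟨Nat.prime_two⟩
  set C := Subgroup.centralizer ({y} : Set G) with hC
  set O := Cfsg.oddCore ↥C with hO
  haveI : O.Normal := Transfer.pPrimeCore_normal 2 ↥C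
  set x' : ↥C := ⟨x, Subgroup.mem_centralizer_singleton_iff.mpr hxy⟩ with hx'
  set π := QuotientGroup.mk' O with hπ
  have hπs : Function.Surjective π := QuotientGroup.mk'_surjective O
  have hker : (Nat.card π.ker).Coprime 2 := by
    rw [hπ, QuotientGroup.ker_mk']
    exact Transfer.pPrimeCore_coprime 2
  set Cx := Subgroup.centralizer ({x'} : Set ↥C) with hCx
  set Dq := Subgroup.centralizer ({π x'} : Set (↥C ⧸ O)) with hDq
  have hx'2 : orderOf x' = 2 := by rw [← Subgroup.orderOf_coe, hx', hx]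
  have hP : IsPGroup 2 (Subgroup.zpowers x') :=
    IsPGroup.of_card (n := 1) (by rw [Nat.card_zpowers, hx'2, pow_one])
  have hmap : Cx.map π = Dq := by
    have h := PSolvable.map_centralizer_eq hπs hker hP
    rw [MonoidHom.map_zpowers, Subgroup.zpowers_eq_closure, Subgroup.zpowers_eq_closure,
      Subgroup.centralizer_closure, Subgroup.centralizer_closure] at h
    exact h
  -- the inclusion of the layer
  have hmemx : ∀ c : ↥C, c ∈ Cx ↔ (c : G) ∈ Subgroup.centralizer ({x} : Set G) := fun c => by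
    rw [hCx, Subgroup.mem_centralizer_singleton_iff, Subgroup.mem_centralizer_singleton_iff,
      Subtype.ext_iff]
    rfl
  let f : ↥A →* ↥Cx :=
    { toFun := fun a => ⟨⟨a.1, hAy a.2⟩, (hmemx _).mpr (hAx a.2)⟩
      map_one' := rfl
      map_mul' := fun _ _ => rfl }
  have hfi : Function.Injective f := fun a b h =>
    Subtype.ext (congrArg (fun t : ↥Cx => ((t : ↥C) : G)) h)
  have hfr : f.range.Normal := ⟨by
    rintro _ ⟨a, rfl⟩ g
    exact ⟨⟨((g : ↥C) : G) * a.1 * ((g : ↥C) : G)⁻¹,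
      hAn _ ⟨(hmemx _).mp g.2, (g : ↥C).2⟩ a.1 a.2⟩, rfl⟩⟩
  have hJc := NonQS.PComp.of_isPComponent hJ
  have hJf : NonQS.PComp 2 (J.map f) := hJc.map_injective hfi
    (NonQS.map_isSubnormal_of_range f hfr.isSubnormal hJc.sn)
  -- the quotient map on centralisers
  let g : ↥Cx →* ↥Dq :=
    { toFun := fun c => ⟨π c.1, hmap ▸ Subgroup.mem_map_of_mem π c.2⟩
      map_one' := Subtype.ext (map_one π)
      map_mul' := fun a b => Subtype.ext (map_mul π a.1 b.1) }
  have hgs : Function.Surjective g := fun d => by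
    obtain ⟨c, hc, hcd⟩ := (hmap.ge d.2 : (d : ↥C ⧸ O) ∈ Cx.map π)
    exact ⟨⟨c, hc⟩, Subtype.ext hcd⟩
  set Jb := (J.map f).map g with hJb
  have hne : Jb ≠ ⊥ := fun h => hJf.ne_bot (NonQS.eq_bot_of_gen_of_coprime hJf.gen (by
    have hle : (J.map f).map Cx.subtype ≤ π.ker := by
      rintro _ ⟨c, hc, rfl⟩
      have h0 : g c ∈ Jb := Subgroup.mem_map_of_mem g hc
      rw [h, Subgroup.mem_bot] at h0
      exact congrArg Subtype.val h0
    exact (Nat.Coprime.coprime_dvd_left ((Subgroup.card_map_of_injective Cx.subtype_injective (K := J.map f)) ▸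
      Subgroup.card_dvd_of_le hle) hker)))
  have hJq : NonQS.PComp 2 Jb := hJf.map g (hJf.sn.map hgs) hne
  -- the B-property
  have hπx : orderOf (π x') = 2 := by
    refine orderOf_eq_prime (by rw [← map_pow, ← hx'2, pow_orderOf_eq_one, map_one]) fun h => ?_
    have h1 := Subgroup.orderOf_dvd_natCard (π.ker) (show x' ∈ π.ker from h)
    rw [hx'2] at h1
    exact absurd (Nat.dvd_gcd h1 dvd_rfl) (by rw [hker.gcd_eq_one]; decide)
  have hbot : ⁅Cfsg.pLayer 2 ↥Dq, Cfsg.pPrimeCore 2 ↥Dq⁆ = ⊥ := by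
    have h := hB (π x') hπx
    have hO1 : Cfsg.oddCore (↥C ⧸ O) = ⊥ := Layer.pPrimeCore_quotient_eq_bot 2
    rw [hO1, le_bot_iff, Subgroup.map_eq_bot_iff_of_injective _ Dq.subtype_injective] at h
    exact h
  have hcomp : Cfsg.IsComponent Jb := component_of_commute hbot hJq
  have heq : (((J.map A.subtype).subgroupOf C).map π).subgroupOf Dq = Jb := by
    ext d
    constructor
    · rintro ⟨c, hc, hcd⟩
      obtain ⟨j, hj, hjc⟩ := hc
      exact ⟨f j, Subgroup.mem_map_of_mem f hj, Subtype.ext (by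
        show π ⟨j.1, hAy j.2⟩ = (d : ↥C ⧸ O)
        rw [← (show π c = (d : ↥C ⧸ O) from hcd)]
        exact congrArg π (Subtype.ext hjc))⟩
    · rintro ⟨_, ⟨j, hj, rfl⟩, rfl⟩
      exact ⟨⟨j.1, hAy j.2⟩, ⟨j, hj, rfl⟩, rfl⟩
  refine ⟨heq.symm ▸ hcomp, fun E hE hEodd hinv => ?_⟩
  let E' : Subgroup ↥Cx := E.comap (C.subtype.comp Cx.subtype)
  set Eb := E'.map g with hEb
  have hEsol : Group.IsSolvable ↥Eb := OddOrder.solvable_of_odd _ _ rfl
    (hEodd.of_dvd_nat ((Subgroup.card_map_dvd _ _).trans (Subgroup.card_comap_dvd_of_injective E _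
      (C.subtype_injective.comp Cx.subtype_injective))))
  have hnorm : Jb ≤ Subgroup.normalizer (Eb : Set ↥Dq) := by
    refine le_trans (Subgroup.map_mono ?_) (Subgroup.le_normalizer_map g)
    rintro _ ⟨j, hj, rfl⟩
    rw [Subgroup.mem_normalizer_iff]
    have hj' : ∀ j ∈ J, ∀ c ∈ E', f j * c * (f j)⁻¹ ∈ E' := fun j hj c hc =>
      hinv _ (Subgroup.mem_map_of_mem A.subtype hj) _ hc
    intro c
    refine ⟨hj' j hj c, fun h => ?_⟩
    have h2 := hj' j⁻¹ (J.inv_mem hj) _ h
    rwa [map_inv, inv_inv, show (f j)⁻¹ * (f j * c * (f j)⁻¹) * f j = c by group] at h2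
  have hcom := Layer.commutator_eq_bot_of_isSolvable hcomp hEsol hnorm
  rw [Subgroup.commutator_le]
  intro j hj e he
  obtain ⟨a, ha, rfl⟩ := hj
  let e' : ↥Cx := ⟨⟨e, (hE he).2⟩, (hmemx _).mpr (hE he).1⟩
  have h1 : ⁅g (f a), g e'⁆ = 1 := Subgroup.mem_bot.mp (hcom ▸ Subgroup.commutator_mem_commutator
    (Subgroup.mem_map_of_mem g (Subgroup.mem_map_of_mem f ha)) (Subgroup.mem_map_of_mem g (show e' ∈ E' from he)))
  rw [← map_commutatorElement] at h1
  refine ⟨((⁅f a, e'⁆ : ↥Cx) : ↥C), ?_, rfl⟩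
  have h2 : π ((⁅f a, e'⁆ : ↥Cx) : ↥C) = 1 := congrArg Subtype.val h1
  rwa [← MonoidHom.mem_ker, hπ, QuotientGroup.ker_mk'] at h2

/-- Let G be a finite group whose generalized Fitting subgroup is a non-abelian simple group and in which every proper section (every quotient H/N of a proper subgroup H, or of G by a nontrivial normal subgroup) has the B-property. Let x, y be commuting involutions, let D be the intersection of the 2-layer of C_G(x) with C_G(y), and let J be a 2-component of D. Write Q for the quotient of C_G(y) by its largest normal odd-order subgroup. Then (i) the image of J in Q is a component of the centralizer in Q of the image of x; and (ii) for every J-invariant subgroup E of odd order of C_G(x) ∩ C_G(y), the commutator subgroup [J, E] lies in the largest normal odd-order subgroup of C_G(y). -/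
theorem result {G : Type*} [Group G] [Finite G]
    (hF : IsSimpleGroup ↥(Cfsg.generalizedFittingSubgroup G)) (hF' : ¬ IsMulCommutative ↥(Cfsg.generalizedFittingSubgroup G))
    (hsec : ∀ (H : Subgroup G) (N : Subgroup ↥H) [N.Normal], (H ≠ ⊤ ∨ N ≠ ⊥) → Cfsg.HasBProperty (↥H ⧸ N))
    (x y : G) (hx : orderOf x = 2) (hy : orderOf y = 2) (hxy : x * y = y * x)
    (J : Subgroup ↥((Cfsg.pLayer 2 ↥(Subgroup.centralizer ({x} : Set G))).map (Subgroup.centralizer ({x} : Set G)).subtype ⊓ Subgroup.centralizer ({y} : Set G)))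
    (hJ : Cfsg.IsPComponent 2 J) :
    Cfsg.IsComponent
        ((((J.map (Subgroup.subtype _)).subgroupOf (Subgroup.centralizer ({y} : Set G))).map (QuotientGroup.mk' (Cfsg.oddCore ↥(Subgroup.centralizer ({y} : Set G))))).subgroupOf
          (Subgroup.centralizer ({(QuotientGroup.mk' (Cfsg.oddCore ↥(Subgroup.centralizer ({y} : Set G))) ⟨x, Subgroup.mem_centralizer_singleton_iff.mpr hxy⟩ : ↥(Subgroup.centralizer ({y} : Set G)) ⧸ Cfsg.oddCore ↥(Subgroup.centralizer ({y} : Set G)))} : Set _))) ∧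
      ∀ E : Subgroup G, E ≤ Subgroup.centralizer ({x} : Set G) ⊓ Subgroup.centralizer ({y} : Set G) → Odd (Nat.card ↥E) →
        (∀ j ∈ J.map (Subgroup.subtype _), ∀ e ∈ E, j * e * j⁻¹ ∈ E) →
          ⁅J.map (Subgroup.subtype _), E⁆ ≤ (Cfsg.oddCore ↥(Subgroup.centralizer ({y} : Set G))).map (Subgroup.centralizer ({y} : Set G)).subtype := by
  have hC : Subgroup.centralizer ({y} : Set G) ≠ ⊤ := by
    intro h
    set F := Cfsg.generalizedFittingSubgroup G
    have hyc : ∀ g : G, g * y = y * g := fun g =>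
      Subgroup.mem_centralizer_singleton_iff.mp (h ▸ Subgroup.mem_top g)
    have hyF : y ∈ F := Layer.centralizer_generalizedFitting_le
      (Subgroup.mem_centralizer_iff.mpr fun g _ => hyc g)
    haveI := hF
    rcases (inferInstance : (Subgroup.center ↥F).Normal).eq_bot_or_eq_top with h0 | h0
    · have h1 : (⟨y, hyF⟩ : F) ∈ Subgroup.center F :=
        Subgroup.mem_center_iff.mpr fun g => Subtype.ext (hyc g)
      rw [h0, Subgroup.mem_bot, Subtype.ext_iff] at h1
      rw [show y = 1 from h1, orderOf_one] at hy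
      exact absurd hy (by decide)
    · exact hF' ⟨⟨fun a b => Subgroup.mem_center_iff.mp (h0 ▸ Subgroup.mem_top b) a⟩⟩
  haveI : (Cfsg.oddCore ↥(Subgroup.centralizer ({y} : Set G))).Normal :=
    CfsgLib.Transfer.pPrimeCore_normal 2 _
  exact core x y hx hxy (hsec _ _ (Or.inl hC)) _ (inf_le_left.trans (Subgroup.map_subtype_le _))
    inf_le_right (fun g hg a ha => by
      haveI := CfsgLib.Transfer.pPrimeCore_normal 2 ↥(Subgroup.centralizer ({x} : Set G))
      obtain ⟨⟨c, hc, hca⟩, hay⟩ := ha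
      refine ⟨⟨⟨g, hg.1⟩ * c * ⟨g, hg.1⟩⁻¹, ?_, by simp [← hca]⟩,
        Subgroup.mul_mem _ (Subgroup.mul_mem _ hg.2 hay) (Subgroup.inv_mem _ hg.2)⟩
      exact (CfsgLib.Layer.LBalance.pLayer_normal 2 ↥(Subgroup.centralizer ({x} : Set G))).conj_mem c hc _) J hJ

end Cfsg.Agent.S1775
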