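import Mathlib
import Cfsg.Statements.S1780

set_option autoImplicit false
set_option linter.style.haveILetI false
set_option linter.unusedVariables false
open Cfsg

namespace Cfsg.Agent.S1780

/-- Let A be a finite abelian 2-group and t an automorphism of A whose order is a power of 2. If every element of A fixed by t² is fixed by t, then t fixes every element of A. -/
theorem result {A : Type*} [CommGroup A] [Finite A]
    (hA : IsPGroup 2 A) (t : MulAut A) (ht : ∃ k : ℕ, orderOf t = 2 ^ k) (hC : ∀ a : A, t (t a) = a → t a = a) :
    ∀ a : A, t a = a := by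
  obtain ⟨k, hk⟩ := ht
  set f : ℕ → A → A := fun n a => (t ^ n) a with hf
  have base : ∀ x : A, x * x = 1 → t x = x := by
    let D : A → A := fun a => t a * a
    have key : ∀ j : ℕ, ∀ x : A, x * x = 1 → D^[2 ^ j] x = (t ^ 2 ^ j) x * x := by
      intro j
      induction j with
      | zero => intro x _; simp [D]
      | succ j ih =>
        intro x hx
        have hu : ((t ^ 2 ^ j) x * x) * ((t ^ 2 ^ j) x * x) = 1 := by
          rw [mul_mul_mul_comm, ← map_mul, hx, map_one, one_mul]
        rw [pow_succ, Nat.mul_two, Function.iterate_add_apply, ih x hx, ih _ hu, map_mul, pow_add,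
          MulAut.mul_apply]
        rw [mul_assoc, ← mul_assoc ((t ^ 2 ^ j) x), ← map_mul, hx, map_one, one_mul]
    intro x hx
    have hD : ∀ a : A, a * a = 1 → D a * D a = 1 := fun a ha => by
      change t a * a * (t a * a) = 1
      rw [mul_mul_mul_comm, ← map_mul, ha, map_one, one_mul]
    have hD1 : ∀ a : A, a * a = 1 → D (D a) = 1 → D a = 1 := by
      intro a ha h
      have h' : t (t a) * a = 1 := by
        change t (t a * a) * (t a * a) = 1 at h
        rwa [map_mul, mul_assoc, ← mul_assoc (t a), ← map_mul, ha, map_one, one_mul] at h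
      have : t (t a) = a := mul_right_cancel (h'.trans ha.symm)
      change t a * a = 1
      rw [hC a this, ha]
    have down : ∀ m : ℕ, ∀ a : A, a * a = 1 → D^[m] a = 1 → D a = 1 := by
      intro m
      induction m with
      | zero => intro a ha h; rw [show a = 1 from h]; simp [D]
      | succ m ih =>
        intro a ha h
        rw [Function.iterate_succ_apply] at h
        exact hD1 a ha (ih (D a) (hD a ha) h)
    have h1 : D x = 1 := by
      refine down (2 ^ k) x hx ?_
      rw [key k x hx, ← hk, pow_orderOf_eq_one, MulAut.one_apply, hx]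
    exact mul_right_cancel (h1.trans hx.symm)
  suffices ∀ n : ℕ, ∀ a : A, a ^ 2 ^ n = 1 → t a = a by
    intro a
    obtain ⟨n, hn⟩ := hA a
    exact this n a hn
  intro n
  induction n with
  | zero => intro a ha; rw [pow_zero, pow_one] at ha; rw [ha, map_one]
  | succ n ih =>
    intro a ha
    have h2 : t (a * a) = a * a := by
      refine ih _ ?_
      rw [← pow_two, ← pow_mul, mul_comm 2, ← pow_succ, ha]
    set u := t a * a⁻¹ with hu
    have hu2 : u * u = 1 := by
      rw [hu, mul_mul_mul_comm, ← map_mul, h2, ← mul_inv, mul_inv_cancel]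
    have hfix := base u hu2
    have e : t a = u * a := by rw [hu, inv_mul_cancel_right]
    refine hC a ?_
    rw [e, map_mul, hfix, e, ← mul_assoc, hu2, one_mul]

end Cfsg.Agent.S1780
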