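import Cfsg.Statements.S1781
import Mathlib
import Cfsg.Agent.S1780
import Cfsg.Agent.Lib.Transfer.Sylow

set_option linter.style.haveILetI false

set_option autoImplicit false
open Cfsg

namespace Cfsg.Agent.S1781

open CfsgLib.Transfer

/-- An element of order at least `4` of a TI member normalizing another member centralizes it. -/
theorem centralizes {G : Type*} [Group G] [Finite G] {A B : Subgroup G} (hA2 : IsPGroup 2 A)
    (hB2 : IsPGroup 2 B) (hAc : ∀ x ∈ A, ∀ y ∈ A, x * y = y * x)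
    (hBc : ∀ x ∈ B, ∀ y ∈ B, x * y = y * x)
    (hti : ∀ h : G, A.map (MulAut.conj h).toMonoidHom = A ∨
      A.map (MulAut.conj h).toMonoidHom ⊓ A = ⊥)
    (hAB : ∀ x, x ∈ A → x ∈ B → x = 1) {a : G} (haA : a ∈ A)
    (haB : a ∈ Subgroup.normalizer (B : Set G)) (ha : a * a ≠ 1) :
    ∀ b ∈ B, a * b = b * a ∧ b ∈ Subgroup.normalizer (A : Set G) := by
  letI : CommGroup ↥B := { (inferInstance : Group ↥B) with
    mul_comm := fun x y => Subtype.ext (hBc x x.2 y y.2) }
  -- an element commuting with a nontrivial element of `A` normalizes `A`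
  have hn : ∀ z ∈ A, z ≠ 1 → ∀ b : G, b * z = z * b → b ∈ Subgroup.normalizer (A : Set G) := by
    intro z hz hz1 b hb
    refine map_conj_eq_self_iff.mp ((hti b).resolve_right fun h => hz1 ?_)
    have h1 : z ∈ A.map (MulAut.conj b).toMonoidHom ⊓ A :=
      ⟨mem_conj_map_iff.mpr (by rw [mul_assoc, ← hb, inv_mul_cancel_left]; exact hz), hz⟩
    rwa [h, Subgroup.mem_bot] at h1
  set t : MulAut ↥B := B.normalizerMonoidHom ⟨a, haB⟩ with ht
  have hto : ∃ k : ℕ, orderOf t = 2 ^ k := by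
    obtain ⟨j, hj⟩ := IsPGroup.iff_orderOf.mp hA2 ⟨a, haA⟩
    rw [← Subgroup.orderOf_coe] at hj
    obtain ⟨k, -, hk⟩ := (Nat.dvd_prime_pow Nat.prime_two).mp ((orderOf_map_dvd B.normalizerMonoidHom
      (⟨a, haB⟩ : Subgroup.normalizer (B : Set G))).trans (dvd_of_eq (by
        rw [← Subgroup.orderOf_coe]; exact hj)))
    exact ⟨k, hk⟩
  have hfix := S1780.result hB2 t hto (fun x hx => by
    have h1 : a * (a * (x : G) * a⁻¹) * a⁻¹ = x := congrArg Subtype.val hx
    have h2 : (x : G) * (a * a) = a * a * x := by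
      conv_lhs => rw [← h1]
      group
    have h3 : (x : G) ∈ Subgroup.normalizer (A : Set G) := hn _ (mul_mem haA haA) ha _ h2
    have h4 := hAB (a * x * a⁻¹ * (x : G)⁻¹) (by
      rw [show a * x * a⁻¹ * (x : G)⁻¹ = a * (x * a⁻¹ * (x : G)⁻¹) by group]
      exact mul_mem haA ((Subgroup.mem_normalizer_iff.mp h3 _).mp (inv_mem haA)))
      (mul_mem ((Subgroup.mem_normalizer_iff.mp haB x).mp x.2) (inv_mem x.2))
    exact Subtype.ext (mul_inv_eq_one.mp h4))
  intro b hb
  have h1 : a * b * a⁻¹ = b := congrArg Subtype.val (hfix ⟨b, hb⟩)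
  have h2 : a * b = b * a := mul_inv_eq_iff_eq_mul.mp h1
  exact ⟨h2, hn a haA (fun h => ha (by rw [h, mul_one])) b h2.symm⟩

/-- Let A be an abelian 2-subgroup of the finite group G such that every conjugate of A equals A or meets A trivially, and let g ∈ G with g A g⁻¹ ≠ A. Then either the subgroup of those elements of A that normalize g A g⁻¹ is an elementary abelian 2-group, or A and g A g⁻¹ commute elementwise. -/
theorem result {G : Type*} [Group G] [Finite G] (A : Subgroup G)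
    (hA2 : IsPGroup 2 ↥A) (hAa : IsMulCommutative ↥A)
    (hti : ∀ h : G, A.map (MulAut.conj h).toMonoidHom = A ∨ A.map (MulAut.conj h).toMonoidHom ⊓ A = ⊥)
    (g : G) (hg : A.map (MulAut.conj g).toMonoidHom ≠ A) :
    Cfsg.IsElementaryAbelian 2 (A ⊓ Subgroup.normalizer ((A.map (MulAut.conj g).toMonoidHom : Subgroup G) : Set G)) ∨
      ⁅A, A.map (MulAut.conj g).toMonoidHom⁆ = ⊥ := by
  set B := A.map (MulAut.conj g).toMonoidHom with hB
  by_cases hel : ∀ a ∈ A, a ∈ Subgroup.normalizer (B : Set G) → a * a = 1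
  · left
    refine ⟨⟨⟨fun x y => Subtype.ext ((congrArg Subtype.val
      (mul_comm' (⟨x, x.2.1⟩ : A) ⟨y, y.2.1⟩) :) : (x : G) * y = y * x)⟩⟩, fun x hx => ?_⟩
    rw [pow_two]
    exact hel x hx.1 hx.2
  push Not at hel
  obtain ⟨a, haA, haB, ha⟩ := hel
  right
  have hAc : ∀ x ∈ A, ∀ y ∈ A, x * y = y * x := fun x hx y hy =>
    congrArg Subtype.val (mul_comm' (⟨x, hx⟩ : A) ⟨y, hy⟩)
  have hBc : ∀ x ∈ B, ∀ y ∈ B, x * y = y * x := by
    rintro _ ⟨x, hx, rfl⟩ _ ⟨y, hy, rfl⟩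
    rw [← map_mul, ← map_mul, hAc x hx y hy]
  have hB2 : IsPGroup 2 B := hA2.map _
  have hAB : ∀ x, x ∈ A → x ∈ B → x = 1 := by
    intro x hxA hxB
    have h1 : x ∈ B ⊓ A := ⟨hxB, hxA⟩
    rwa [(hti g).resolve_left hg, Subgroup.mem_bot] at h1
  have h1 := centralizes hA2 hB2 hAc hBc hti hAB haA haB ha
  have htiB : ∀ h : G, B.map (MulAut.conj h).toMonoidHom = B ∨
      B.map (MulAut.conj h).toMonoidHom ⊓ B = ⊥ := by
    intro h
    have e : B.map (MulAut.conj h).toMonoidHom =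
        (A.map (MulAut.conj (g⁻¹ * h * g)).toMonoidHom).map (MulAut.conj g).toMonoidHom := by
      rw [hB, map_conj_mul, map_conj_mul]
      congr 3
      group
    rcases hti (g⁻¹ * h * g) with h2 | h2
    · exact Or.inl (by rw [e, h2])
    · right
      rw [e, hB, ← Subgroup.map_inf _ _ _ (MulAut.conj g).injective, h2, Subgroup.map_bot]
  have hgaB : g * a * g⁻¹ ∈ B := ⟨a, haA, rfl⟩
  have hga : g * a * g⁻¹ * (g * a * g⁻¹) ≠ 1 := fun h => ha (by
    have h2 : g * (a * a) * g⁻¹ = 1 := by rw [← h]; group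
    exact conj_eq_one_iff.mp h2)
  have h3 := centralizes hB2 hA2 hBc hAc htiB (fun x hx hx' => hAB x hx' hx) hgaB
    (h1 _ hgaB).2 hga
  rw [Subgroup.commutator_eq_bot_iff_le_centralizer]
  intro x hx y hy
  have e : x * y * x⁻¹ * y⁻¹ = 1 := by
    refine hAB _ ?_ (mul_mem ((Subgroup.mem_normalizer_iff.mp (h3 x hx).2 y).mp hy) (inv_mem hy))
    rw [show x * y * x⁻¹ * y⁻¹ = x * (y * x⁻¹ * y⁻¹) by group]
    exact mul_mem hx ((Subgroup.mem_normalizer_iff.mp (h1 y hy).2 _).mp (inv_mem hx))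
  rw [mul_inv_eq_one, mul_inv_eq_iff_eq_mul] at e
  exact e.symm

end Cfsg.Agent.S1781
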