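import Cfsg.Statements.S1782
import Mathlib
import Cfsg.Agent.Lib.Transfer.Sylow
import Cfsg.Agent.Lib.Critical.Basic

set_option linter.style.haveILetI false

set_option autoImplicit false
open Cfsg

namespace Cfsg.Agent.S1782

open CfsgLib.Transfer

theorem main {S : Type*} [Group S] [Finite S] (hS : IsPGroup 2 S)
    (Δ : Set (Subgroup S)) (hinv : ∀ s : S, ∀ R ∈ Δ, R.map (MulAut.conj s).toMonoidHom ∈ Δ)
    (hne : ∀ R ∈ Δ, ∃ y ∈ R, y * y ≠ 1) (hord : ∀ R ∈ Δ, ∀ T ∈ Δ, Nat.card ↥R = Nat.card ↥T)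
    (hti : ∀ R ∈ Δ, ∀ T ∈ Δ, R = T ∨ R ⊓ T = ⊥) (U : Subgroup S) :
    ∀ R ∈ Δ, ∀ T ∈ Δ, R ≤ U → T ≤ U → R ≠ T → ∀ r ∈ R, ∀ t ∈ T, r * t = t * r := by
  induction U using WellFoundedLT.induction with
  | _ U IH =>
  intro R hR T hT hRU hTU hRT
  by_cases hlt : R ⊔ T < U
  · exact IH _ hlt R hR T hT le_sup_left le_sup_right hRT
  have hU : U = R ⊔ T := ((sup_le hRU hTU).eq_or_lt.resolve_right hlt).symm
  -- members of `Δ` in `U` are proper, and their `U`-conjugates lie in a proper subgroup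
  have hproper : ∀ A ∈ Δ, A ≤ U → ∃ M : Subgroup S, A ≤ M ∧ M < U ∧
      ∀ g ∈ U, A.map (MulAut.conj g).toMonoidHom ≤ M := by
    intro A hA hAU
    have hne' : A.subgroupOf U ≠ ⊤ := by
      intro h
      have hUA : U ≤ A := Subgroup.subgroupOf_eq_top.mp h
      have h1 : ∀ B ∈ Δ, B ≤ U → B = A := fun B hB hBU => by
        rcases hti A hA B hB with h2 | h2
        · exact h2.symm
        · obtain ⟨y, hy, hy1⟩ := hne B hB
          have h3 : y ∈ A ⊓ B := ⟨hUA (hBU hy), hy⟩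
          rw [h2, Subgroup.mem_bot] at h3
          exact absurd (by rw [h3, mul_one]) hy1
      exact hRT ((h1 R hR hRU).trans (h1 T hT hTU).symm)
    obtain ⟨M, hM, hAM⟩ := (eq_top_or_exists_le_coatom (A.subgroupOf U)).resolve_left hne'
    haveI : Group.IsNilpotent ↥U := (hS.to_subgroup U).isNilpotent
    haveI hMn : M.Normal := Subgroup.NormalizerCondition.normal_of_coatom M
      Group.normalizerCondition_of_isNilpotent hM
    refine ⟨M.map U.subtype, fun a ha => ⟨⟨a, hAU ha⟩, hAM ha, rfl⟩, ?_, ?_⟩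
    · refine lt_of_le_of_ne (Subgroup.map_subtype_le M) fun h => hM.1 ?_
      exact Subgroup.map_injective U.subtype_injective
        (h.trans (by rw [← MonoidHom.range_eq_map, Subgroup.range_subtype]))
    · rintro g hg _ ⟨a, ha, rfl⟩
      exact ⟨_, hMn.conj_mem _ (hAM (show (⟨a, hAU ha⟩ : U) ∈ A.subgroupOf U from ha)) ⟨g, hg⟩, rfl⟩
  have hconj : ∀ A ∈ Δ, A ≤ U → ∀ g ∈ U, g ∉ Subgroup.normalizer (A : Set S) →
      ∀ a ∈ A, ∀ b ∈ A, a * (g * b * g⁻¹) = g * b * g⁻¹ * a := by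
    intro A hA hAU g hg hgA a ha b hb
    obtain ⟨M, hAM, hMU, hM⟩ := hproper A hA hAU
    exact IH M hMU A hA _ (hinv g A hA) hAM (hM g hg)
      (fun h => hgA (map_conj_eq_self_iff.mp h.symm)) a ha _ ⟨b, hb, rfl⟩
  have hdisj : ∀ A ∈ Δ, ∀ g : S, g ∉ Subgroup.normalizer (A : Set S) →
      ∀ x ∈ A, g⁻¹ * x * g ∈ A → x = 1 := by
    intro A hA g hgA x hx hx'
    have h1 : x ∈ A ⊓ A.map (MulAut.conj g).toMonoidHom := ⟨hx, mem_conj_map_iff.mpr hx'⟩
    rwa [(hti A hA _ (hinv g A hA)).resolve_left fun h => hgA (map_conj_eq_self_iff.mp h.symm),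
      Subgroup.mem_bot] at h1
  have hone : ∀ A ∈ Δ, ∀ B ∈ Δ, A ≠ B → ∀ x, x ∈ A → x ∈ B → x = 1 := by
    intro A hA B hB hAB x hxA hxB
    have h1 : x ∈ A ⊓ B := ⟨hxA, hxB⟩
    rwa [(hti A hA B hB).resolve_left hAB, Subgroup.mem_bot] at h1
  -- if one normalizes the other, they commute
  have hnor : ∀ A ∈ Δ, ∀ B ∈ Δ, A ≤ U → B ≤ U → A ≠ B → U = A ⊔ B →
      A ≤ Subgroup.normalizer (B : Set S) → ∀ a ∈ A, ∀ b ∈ B, a * b = b * a := by
    intro A hA B hB hAU hBU hAB hUAB hAN a ha b hb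
    by_cases hBN : B ≤ Subgroup.normalizer (A : Set S)
    · have h1 : a * b * a⁻¹ * b⁻¹ ∈ B :=
        mul_mem ((Subgroup.mem_normalizer_iff.mp (hAN ha) b).mp hb) (inv_mem hb)
      have h2 : a * b * a⁻¹ * b⁻¹ ∈ A := by
        rw [show a * b * a⁻¹ * b⁻¹ = a * (b * a⁻¹ * b⁻¹) by group]
        exact mul_mem ha ((Subgroup.mem_normalizer_iff.mp (hBN hb) _).mp (inv_mem ha))
      have h3 := hone A hA B hB hAB _ h2 h1
      rwa [mul_inv_eq_one, mul_inv_eq_iff_eq_mul] at h3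
    exfalso
    obtain ⟨g, hgB, hgA⟩ := SetLike.not_le_iff_exists.mp hBN
    obtain ⟨M, hAM, hMU, hM⟩ := hproper A hA hAU
    have h1 : Nat.card A * Nat.card A ≤ Nat.card M := by
      rw [← Nat.card_prod]
      refine Nat.card_le_card_of_injective
        (fun x : A × A => (⟨x.1 * (g * x.2 * g⁻¹), mul_mem (hAM x.1.2)
          (hM g (hBU hgB) ⟨x.2, x.2.2, rfl⟩)⟩ : M)) ?_
      rintro ⟨a₁, b₁⟩ ⟨a₂, b₂⟩ h
      have h' : (a₁ : S) * (g * b₁ * g⁻¹) = a₂ * (g * b₂ * g⁻¹) := congrArg Subtype.val h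
      have h2 : (a₂ : S)⁻¹ * a₁ = g * ((b₂ : S) * (b₁ : S)⁻¹) * g⁻¹ := by
        calc (a₂ : S)⁻¹ * a₁ = (a₂ : S)⁻¹ * (a₁ * (g * b₁ * g⁻¹)) * (g * b₁ * g⁻¹)⁻¹ := by group
          _ = _ := by rw [h']; group
      have h3 := hdisj A hA g hgA _ (mul_mem (inv_mem a₂.2) a₁.2) (by
        rw [h2]
        simpa [mul_assoc] using mul_mem b₂.2 (inv_mem b₁.2))
      have ha12 : a₁ = a₂ := Subtype.ext (inv_mul_eq_one.mp h3).symm
      subst ha12
      rw [h3, eq_comm, conj_eq_one_iff, mul_inv_eq_one] at h2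
      rw [Prod.mk.injEq]
      exact ⟨rfl, Subtype.ext h2.symm⟩
    have h2 : Nat.card U ≤ Nat.card A * Nat.card B := by
      rw [← Nat.card_prod]
      refine Nat.card_le_card_of_surjective
        (fun x : A × B => (⟨x.1 * x.2, mul_mem (hAU x.1.2) (hBU x.2.2)⟩ : U)) ?_
      rintro ⟨u, hu⟩
      rw [hUAB, ← SetLike.mem_coe, Subgroup.coe_mul_of_left_le_normalizer_right A B hAN] at hu
      obtain ⟨x, hx, y, hy, rfl⟩ := hu
      exact ⟨(⟨x, hx⟩, ⟨y, hy⟩), rfl⟩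
    have h3 : Nat.card M < Nat.card U := by
      by_contra h
      exact hMU.ne (Subgroup.eq_of_le_of_card_ge hMU.le (not_lt.mp h))
    rw [hord B hB A hA] at h2
    omega
  by_cases hRN : R ≤ Subgroup.normalizer (T : Set S)
  · exact hnor R hR T hT hRU hTU hRT hU hRN
  by_cases hTN : T ≤ Subgroup.normalizer (R : Set S)
  · intro r hr t ht
    exact (hnor T hT R hR hTU hRU hRT.symm (by rw [hU, sup_comm]) hTN t ht r hr).symm
  exfalso
  obtain ⟨r, hrR, hrT⟩ := SetLike.not_le_iff_exists.mp hRN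
  obtain ⟨t, htT, htR⟩ := SetLike.not_le_iff_exists.mp hTN
  have hrU := hRU hrR
  have hC1 : ∀ a ∈ T, ∀ b ∈ T, a * (r * b * r⁻¹) = r * b * r⁻¹ * a := hconj T hT hTU r hrU hrT
  -- the identity
  have hid : ∀ s ∈ T, s ∉ Subgroup.normalizer (R : Set S) →
      r * (r * s * r⁻¹) * r⁻¹ = r * s * r⁻¹ * s⁻¹ * (r * s * r⁻¹) := by
    intro s hs hsR
    have h1 : r * (s⁻¹ * r * s) = s⁻¹ * r * s * r := by
      have := hconj R hR hRU s⁻¹ (inv_mem (hTU hs))
        (fun h => hsR (by simpa using inv_mem h)) r hrR r hrR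
      simpa using this
    calc r * (r * s * r⁻¹) * r⁻¹
        = r * s * r⁻¹ * (r * (s⁻¹ * r * s) * r⁻¹ * r⁻¹) := by group
      _ = r * s * r⁻¹ * ((s⁻¹ * r * s * r) * r⁻¹ * r⁻¹) := by rw [h1]
      _ = _ := by group
  -- `r * r` normalizes `T`
  have hr2 : r * r ∈ Subgroup.normalizer (T : Set S) := by
    by_contra hr2
    have hC2 : ∀ a ∈ T, ∀ b ∈ T, a * (r * (r * b * r⁻¹) * r⁻¹) = r * (r * b * r⁻¹) * r⁻¹ * a := by
      intro a ha b hb
      have := hconj T hT hTU (r * r) (mul_mem hrU hrU) hr2 a ha b hb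
      simpa [mul_assoc] using this
    have hcen : ∀ s ∈ T, s ∉ Subgroup.normalizer (R : Set S) → ∀ a ∈ T, a * s = s * a := by
      intro s hs hsR a ha
      have e : s = r * s * r⁻¹ * (r * (r * s * r⁻¹) * r⁻¹)⁻¹ * (r * s * r⁻¹) := by
        rw [hid s hs hsR]; group
      have c1 : Commute a (r * s * r⁻¹) := hC1 a ha s hs
      have c2 : Commute a (r * (r * s * r⁻¹) * r⁻¹) := hC2 a ha s hs
      rw [e]
      exact ((c1.mul_right c2.inv_right).mul_right c1).eq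
    have hsplit : ∀ s ∈ T, ∃ u v : S, (u ∈ T ∧ u ∉ Subgroup.normalizer (R : Set S)) ∧
        (v ∈ T ∧ v ∉ Subgroup.normalizer (R : Set S)) ∧ (s = u ∨ s = u * v) := by
      intro s hs
      by_cases hsR : s ∈ Subgroup.normalizer (R : Set S)
      · refine ⟨s * t, t⁻¹, ⟨mul_mem hs htT, fun h => htR ?_⟩,
          ⟨inv_mem htT, fun h => htR (by simpa using inv_mem h)⟩, Or.inr (by group)⟩
        simpa using mul_mem (inv_mem hsR) h
      · exact ⟨s, s, ⟨hs, hsR⟩, ⟨hs, hsR⟩, Or.inl rfl⟩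
    have hab : ∀ a ∈ T, ∀ b ∈ T, a * b = b * a := by
      intro a ha b hb
      obtain ⟨u, v, ⟨hu, huR⟩, ⟨hv, hvR⟩, rfl | rfl⟩ := hsplit b hb
      · exact hcen _ hu huR a ha
      · exact ((show Commute a u from hcen u hu huR a ha).mul_right (hcen v hv hvR a ha)).eq
    have hall : ∀ s ∈ T, r * (r * s * r⁻¹) * r⁻¹ = r * s * r⁻¹ * s⁻¹ * (r * s * r⁻¹) := by
      intro s hs
      obtain ⟨u, v, ⟨hu, huR⟩, ⟨hv, hvR⟩, rfl | rfl⟩ := hsplit s hs
      · exact hid _ hu huR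
      · set u' := r * u * r⁻¹ with hu'
        set v' := r * v * r⁻¹ with hv'
        have e1 : r * (u * v) * r⁻¹ = u' * v' := by rw [hu', hv']; group
        rw [e1, show r * (u' * v') * r⁻¹ = (r * u' * r⁻¹) * (r * v' * r⁻¹) by group,
          hid u hu huR, hid v hv hvR, mul_inv_rev, ← hu', ← hv']
        have c1 : Commute u⁻¹ v' := hC1 _ (inv_mem hu) _ hv
        have c2 : Commute u' v' := by
          show u' * v' = v' * u'
          rw [hu', hv', show r * u * r⁻¹ * (r * v * r⁻¹) = r * (u * v) * r⁻¹ by group,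
            hab u hu v hv]
          group
        have c3 : Commute v⁻¹ u' := hC1 _ (inv_mem hv) _ hu
        have c4 : Commute u⁻¹ v⁻¹ := hab _ (inv_mem hu) _ (inv_mem hv)
        calc u' * u⁻¹ * u' * (v' * v⁻¹ * v')
            = u' * (u⁻¹ * (u' * v')) * v⁻¹ * v' := by group
          _ = u' * (u⁻¹ * (v' * u')) * v⁻¹ * v' := by rw [c2.eq]
          _ = u' * (u⁻¹ * v') * (u' * v⁻¹) * v' := by group
          _ = u' * (v' * u⁻¹) * (v⁻¹ * u') * v' := by rw [c1.eq, c3.eq]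
          _ = u' * v' * (u⁻¹ * v⁻¹) * (u' * v') := by group
          _ = u' * v' * (v⁻¹ * u⁻¹) * (u' * v') := by rw [c4.eq]
    obtain ⟨y, hyT, hy⟩ := hne T hT
    have hy1 : y ≠ 1 := fun h => hy (by rw [h, mul_one])
    obtain ⟨k, hk⟩ := IsPGroup.iff_orderOf.mp hS y
    obtain ⟨z, hz, hz2⟩ : ∃ z ∈ T, orderOf z = 2 := by
      have h2 : 2 ∣ orderOf y := hk ▸ dvd_pow_self 2 fun h => hy1 (orderOf_eq_one_iff.mp (by
        rw [hk, h, pow_zero]))
      exact ⟨y ^ (orderOf y / 2), pow_mem hyT _, orderOf_pow_orderOf_div (orderOf_pos y).ne' h2⟩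
    have hzi : z⁻¹ = z := inv_eq_of_mul_eq_one_left (by rw [← pow_two, ← hz2, pow_orderOf_eq_one])
    have hzz : z * z = 1 := by rw [← pow_two, ← hz2, pow_orderOf_eq_one]
    have h1 := hall z hz
    rw [hzi, ← hC1 z hz z hz,
      show z * (r * z * r⁻¹) * (r * z * r⁻¹) = z * (r * (z * z) * r⁻¹) by group, hzz, mul_one,
      mul_inv_cancel, mul_one] at h1
    have h2 := hdisj T hT (r * r) hr2 z hz (by
      rw [show (r * r)⁻¹ * z * (r * r) = z from ?_]
      · exact hz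
      conv_lhs => rw [← h1]
      group)
    rw [h2, orderOf_one] at hz2
    exact absurd hz2 (by norm_num)
  -- elements of `T` outside `N(R)` are involutions
  have hinvol : ∀ s ∈ T, s ∉ Subgroup.normalizer (R : Set S) → s * s = 1 := by
    intro s hs hsR
    have h1 : r * (r * s * r⁻¹) * r⁻¹ ∈ T := by
      have := (Subgroup.mem_normalizer_iff.mp hr2 s).mp hs
      simpa [mul_assoc] using this
    rw [hid s hs hsR, mul_assoc (r * s * r⁻¹), hC1 _ (inv_mem hs) _ hs, ← mul_assoc] at h1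
    have h2 := mul_mem h1 hs
    rw [inv_mul_cancel_right] at h2
    have h3 : r * (s * s) * r⁻¹ = 1 := by
      refine hdisj T hT r hrT _ ?_ ?_
      · rw [show r * (s * s) * r⁻¹ = r * s * r⁻¹ * (r * s * r⁻¹) by group]; exact h2
      · simpa [mul_assoc] using mul_mem hs hs
    simpa using h3
  obtain ⟨y, hyT, hy⟩ := hne T hT
  have hyR : y ∈ Subgroup.normalizer (R : Set S) := by
    by_contra h; exact hy (hinvol y hyT h)
  have hy1 : y ≠ 1 := fun h => hy (by rw [h, mul_one])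
  obtain ⟨k, hk⟩ := IsPGroup.iff_orderOf.mp hS y
  obtain ⟨z, ⟨hzT, hzR⟩, hz2⟩ : ∃ z, (z ∈ T ∧ z ∈ Subgroup.normalizer (R : Set S)) ∧ orderOf z = 2 := by
    have h2 : 2 ∣ orderOf y := hk ▸ dvd_pow_self 2 fun h => hy1 (orderOf_eq_one_iff.mp (by
      rw [hk, h, pow_zero]))
    exact ⟨y ^ (orderOf y / 2), ⟨pow_mem hyT _, pow_mem hyR _⟩,
      orderOf_pow_orderOf_div (orderOf_pos y).ne' h2⟩
  have hzz : z * z = 1 := by rw [← pow_two, ← hz2, pow_orderOf_eq_one]
  have hzi : z⁻¹ = z := inv_eq_of_mul_eq_one_left hzz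
  have htt : t * t = 1 := hinvol t htT htR
  have hti' : t⁻¹ = t := inv_eq_of_mul_eq_one_left htt
  have htz : t * z = z * t := by
    have h1 := hinvol (t * z) (mul_mem htT hzT) (fun h => htR (by
      simpa [mul_assoc] using mul_mem h (inv_mem hzR)))
    calc t * z = (t * z)⁻¹ := (inv_eq_of_mul_eq_one_left h1).symm
      _ = z * t := by rw [mul_inv_rev, hzi, hti']
  set u := r * z * r⁻¹ with hu
  have ha : z * u ∈ R := by
    rw [hu, show z * (r * z * r⁻¹) = z * r * z * r⁻¹ by group]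
    rw [show z * r * z * r⁻¹ = z * r * z⁻¹ * r⁻¹ by rw [hzi]]
    exact mul_mem ((Subgroup.mem_normalizer_iff.mp hzR r).mp hrR) (inv_mem hrR)
  have h1 := hdisj R hR t htR _ ha (by
    rw [show t⁻¹ * (z * u) * t = z * u from ?_]
    · exact ha
    rw [mul_assoc t⁻¹, mul_assoc z u t, show u * t = t * u from (hC1 t htT z hzT).symm,
      ← mul_assoc z t, ← htz]
    group)
  have h2 := hdisj T hT r hrT z hzT (by
    have h3 : u = z := by
      calc u = z⁻¹ * (z * u) := by group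
        _ = z := by rw [h1, mul_one, hzi]
    rw [hu] at h3
    rw [show r⁻¹ * z * r = z from ?_]
    · exact hzT
    conv_lhs => rw [← h3]
    group)
  rw [h2, orderOf_one] at hz2
  exact absurd hz2 (by norm_num)

/-- Let S be a finite 2-group and Δ a set of subgroups of S closed under conjugation by S, all of the same order, each with nontrivial Frattini subgroup, and such that two distinct members of Δ meet trivially. Then any two distinct members of Δ commute elementwise. -/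
theorem result {S : Type*} [Group S] [Finite S] (hS : IsPGroup 2 S)
    (Δ : Set (Subgroup S)) (hinv : ∀ s : S, ∀ R ∈ Δ, R.map (MulAut.conj s).toMonoidHom ∈ Δ)
    (hΦ : ∀ R ∈ Δ, frattini ↥R ≠ ⊥) (hord : ∀ R ∈ Δ, ∀ T ∈ Δ, Nat.card ↥R = Nat.card ↥T)
    (hti : ∀ R ∈ Δ, ∀ T ∈ Δ, R = T ∨ R ⊓ T = ⊥) :
    ∀ R ∈ Δ, ∀ T ∈ Δ, R ≠ T → ⁅R, T⁆ = ⊥ := by
  have hne : ∀ R ∈ Δ, ∃ y ∈ R, y * y ≠ 1 := by
    intro R hR
    by_contra h
    push Not at h
    refine hΦ R hR (eq_bot_iff.mpr (CfsgLib.Critical.frattini_le_of_elementary (p := 2) ⊥ ?_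
      (fun x => Subtype.ext (by rw [Subgroup.coe_pow, pow_two]; exact h x x.2))))
    rw [commutator_def, Subgroup.commutator_le]
    intro a _ b _
    rw [Subgroup.mem_bot, commutatorElement_eq_one_iff_mul_comm]
    have e : ∀ x : R, x⁻¹ = x := fun x =>
      inv_eq_of_mul_eq_one_left (Subtype.ext (h x x.2))
    calc a * b = (a * b)⁻¹ := (e _).symm
      _ = b * a := by rw [mul_inv_rev, e a, e b]
  intro R hR T hT hRT
  rw [Subgroup.commutator_eq_bot_iff_le_centralizer]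
  intro r hr t ht
  exact (main hS Δ hinv hne hord hti ⊤ R hR T hT le_top le_top hRT r hr t ht).symm

end Cfsg.Agent.S1782
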