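import Cfsg.Statements.S1783
import Mathlib
import Cfsg.Agent.S1782
import Cfsg.Agent.Lib.OddOmega.Basic
import Cfsg.Agent.Lib.Layer.Basic
import Cfsg.Agent.Lib.Coprime.Action
import Cfsg.Agent.Lib.Transfer.Basic

set_option linter.style.haveILetI false

set_option autoImplicit false
open Cfsg

namespace Cfsg.Agent.S1783

open CfsgLib.Transfer

/-- Conjugates, inside a `2`-subgroup, of an abelian non-elementary TI subgroup commute. -/
theorem conj_commute {X : Type*} [Group X] [Finite X] {B P : Subgroup X} (hP : IsPGroup 2 P)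
    (hne : ∃ y ∈ B, y * y ≠ 1) (hBa : ∀ a ∈ B, ∀ b ∈ B, a * b = b * a)
    (hti : ∀ h : X, B.map (MulAut.conj h).toMonoidHom = B ∨
      B.map (MulAut.conj h).toMonoidHom ⊓ B = ⊥)
    (hBP : B ≤ P) (h : X) (hh : B.map (MulAut.conj h).toMonoidHom ≤ P) :
    ∀ a ∈ B, ∀ b ∈ B, a * (h * b * h⁻¹) = h * b * h⁻¹ * a := by
  intro a ha b hb
  set Δ : Set (Subgroup P) :=
    {R | ∃ g : X, R.map P.subtype = B.map (MulAut.conj g).toMonoidHom}
  set R := B.subgroupOf P with hR
  set T := (B.map (MulAut.conj h).toMonoidHom).subgroupOf P with hT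
  have hR' : R.map P.subtype = B.map (MulAut.conj (1 : X)).toMonoidHom := by
    rw [map_conj_one, hR, Subgroup.map_subgroupOf_eq_of_le hBP]
  have hT' : T.map P.subtype = B.map (MulAut.conj h).toMonoidHom := by
    rw [hT, Subgroup.map_subgroupOf_eq_of_le hh]
  have ha' : (⟨a, hBP ha⟩ : P) ∈ R := ha
  have hb' : (⟨h * b * h⁻¹, hh ⟨b, hb, rfl⟩⟩ : P) ∈ T :=
    Subgroup.mem_subgroupOf.mpr ⟨b, hb, rfl⟩
  have main := S1782.main hP Δ ?_ ?_ ?_ ?_ ⊤ R ⟨1, hR'⟩ T ⟨h, hT'⟩ le_top le_top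
  · by_cases hRT : R = T
    · have h1 : B = B.map (MulAut.conj h).toMonoidHom := by
        rw [← hT', ← hRT, hR', map_conj_one]
      exact hBa a ha _ (h1.ge ⟨b, hb, rfl⟩)
    · exact congrArg Subtype.val (main hRT _ ha' _ hb')
  · rintro s U ⟨g, hg⟩
    refine ⟨(s : X) * g, ?_⟩
    rw [← map_conj_mul, ← hg, Subgroup.map_map, Subgroup.map_map]
    rfl
  · rintro U ⟨g, hg⟩
    obtain ⟨y, hy, hy1⟩ := hne
    obtain ⟨u, hu, hu'⟩ : g * y * g⁻¹ ∈ U.map P.subtype := hg ▸ ⟨y, hy, rfl⟩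
    refine ⟨u, hu, fun e => hy1 ?_⟩
    have h1 : g * y * g⁻¹ * (g * y * g⁻¹) = 1 := by
      rw [← hu']
      exact congrArg Subtype.val e
    rw [show g * y * g⁻¹ * (g * y * g⁻¹) = g * (y * y) * g⁻¹ by group, conj_eq_one_iff] at h1
    exact h1
  · rintro U ⟨g, hg⟩ V ⟨k, hk⟩
    rw [← Subgroup.card_map_of_injective P.subtype_injective (K := U), hg,
      ← Subgroup.card_map_of_injective P.subtype_injective (K := V), hk,
      Subgroup.card_map_of_injective (MulAut.conj g).injective,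
      Subgroup.card_map_of_injective (MulAut.conj k).injective]
  · rintro U ⟨g, hg⟩ V ⟨k, hk⟩
    rcases hti (k⁻¹ * g) with h1 | h1
    · left
      apply Subgroup.map_injective P.subtype_injective
      rw [hg, hk]
      conv_rhs => rw [← h1, map_conj_mul, mul_inv_cancel_left]
    · right
      rw [eq_bot_iff]
      intro u hu
      have h2 : k⁻¹ * (u : X) * k ∈ B.map (MulAut.conj (k⁻¹ * g)).toMonoidHom ⊓ B := by
        refine ⟨?_, mem_conj_map_iff.mp (hk ▸ Subgroup.mem_map_of_mem P.subtype hu.2)⟩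
        have h3 := mem_conj_map_iff.mp (hg ▸ Subgroup.mem_map_of_mem P.subtype hu.1)
        rw [Subgroup.coe_subtype] at h3
        refine mem_conj_map_iff.mpr ?_
        convert h3 using 1
        group
      rw [h1, Subgroup.mem_bot] at h2
      rw [Subgroup.mem_bot]
      exact Subtype.ext (by simpa using (conj_eq_one_iff (a := k⁻¹) (b := (u : X))).mp (by simpa using h2))

/-- Let X be a finite group whose generalized Fitting subgroup equals its largest normal 2-subgroup Q, and let A be an abelian 2-subgroup of X such that every conjugate of A equals A or meets A trivially. Let B be the subgroup generated by the squares of the elements of A. Then B lies in Q, and if B is not an elementary abelian 2-group then the normal closure of B in X is commutative. -/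
theorem result {X : Type*} [Group X] [Finite X]
    (hX : Cfsg.generalizedFittingSubgroup X = Cfsg.pCore 2 X) (A : Subgroup X) (hA2 : IsPGroup 2 ↥A) (hAa : IsMulCommutative ↥A)
    (hti : ∀ h : X, A.map (MulAut.conj h).toMonoidHom = A ∨ A.map (MulAut.conj h).toMonoidHom ⊓ A = ⊥) :
    Subgroup.closure ((fun a : X => a ^ 2) '' (A : Set X)) ≤ Cfsg.pCore 2 X ∧
      (¬ Cfsg.IsElementaryAbelian 2 (Subgroup.closure ((fun a : X => a ^ 2) '' (A : Set X))) →
        IsMulCommutative ↥(Subgroup.normalClosure ((fun a : X => a ^ 2) '' (A : Set X)))) := by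
  set Q := Cfsg.pCore 2 X with hQdef
  haveI hQn : Q.Normal := CfsgLib.Fitting.pCore_normal 2
  have hQp : IsPGroup 2 Q := CfsgLib.Fitting.pCore_isPGroup 2
  have hC : Subgroup.centralizer (Q : Set X) ≤ Q := by
    have := CfsgLib.Layer.centralizer_generalizedFitting_le (G := X)
    rwa [hX] at this
  have hAc : ∀ a ∈ A, ∀ b ∈ A, a * b = b * a := fun a ha b hb =>
    congrArg Subtype.val (mul_comm' (⟨a, ha⟩ : A) ⟨b, hb⟩)
  -- the subgroup acting trivially on `Q / Φ(Q)`
  haveI : (frattini ↥Q).Characteristic := frattini_characteristic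
  set D := (frattini ↥Q).map Q.subtype with hD
  haveI hDn : D.Normal := ConjAct.normal_of_characteristic_of_normal
  set π := QuotientGroup.mk' D with hπ
  haveI : (Q.map π).Normal := hQn.map π (QuotientGroup.mk'_surjective D)
  haveI : (Subgroup.centralizer ((Q.map π : Subgroup (X ⧸ D)) : Set (X ⧸ D))).Normal :=
    Subgroup.normal_centralizer
  set K := (Subgroup.centralizer ((Q.map π : Subgroup (X ⧸ D)) : Set (X ⧸ D))).comap π with hK
  haveI : K.Normal := inferInstance
  have hKmem : ∀ g : X, g ∈ K ↔ ∀ k ∈ Q, g * k * g⁻¹ * k⁻¹ ∈ D := by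
    intro g
    rw [hK, Subgroup.mem_comap]
    constructor
    · intro hg k hk
      rw [← QuotientGroup.eq_one_iff]
      show π (g * k * g⁻¹ * k⁻¹) = 1
      rw [map_mul, map_mul, map_mul, map_inv, map_inv, mul_inv_eq_one, mul_inv_eq_iff_eq_mul]
      exact (hg _ (Subgroup.mem_map_of_mem π hk)).symm
    · rintro hg _ ⟨k, hk, rfl⟩
      have h1 : π (g * k * g⁻¹ * k⁻¹) = 1 := (QuotientGroup.eq_one_iff _).mpr (hg k hk)
      rw [map_mul, map_mul, map_mul, map_inv, map_inv, mul_inv_eq_one, mul_inv_eq_iff_eq_mul] at h1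
      exact h1.symm
  have hKQ : K ≤ Q := by
    refine le_sSup (α := Subgroup X) ⟨inferInstance, ?_⟩
    rintro ⟨g, hg⟩
    obtain ⟨a, m, hm, hgo, hcop, -⟩ := exists_pow_coprime_part (p := 2) g
    refine ⟨a, Subtype.ext ?_⟩
    show g ^ 2 ^ a = 1
    have hcQ : Subgroup.zpowers (g ^ 2 ^ a) ≤ Subgroup.centralizer (Q : Set X) := by
      refine CfsgLib.Coprime.le_centralizer_of_frattini Subgroup.le_normalizer_of_normal ?_
        fun b hb => (hKmem b).mp ((Subgroup.zpowers_le.mpr (pow_mem hg _)) hb)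
      rw [Nat.card_zpowers]
      obtain ⟨n, hn⟩ := IsPGroup.iff_card.mp (hQp.to_subgroup (frattini ↥Q))
      rw [hn]
      exact hcop.pow_right n
    obtain ⟨j, hj⟩ := hQp ⟨g ^ 2 ^ a, hC (hcQ (Subgroup.mem_zpowers _))⟩
    exact orderOf_eq_one_iff.mp (Nat.eq_one_of_dvd_coprimes (hcop.pow_right j) dvd_rfl
      (orderOf_dvd_of_pow_eq_one (congrArg Subtype.val hj)))
  have hsq : ∀ a ∈ A, a ^ 2 ∈ Q := by
    intro a ha
    by_cases hel : ∃ y ∈ A, y * y ≠ 1
    swap
    · push Not at hel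
      rw [pow_two, hel a ha]
      exact one_mem _
    refine hKQ ((hKmem _).mpr fun k hk => ?_)
    have hP : IsPGroup 2 ↥(Q ⊔ A) := hQp.to_sup_of_normal_left hA2
    have hconj : A.map (MulAut.conj k).toMonoidHom ≤ Q ⊔ A := by
      rintro _ ⟨b, hb, rfl⟩
      exact mul_mem (mul_mem (Subgroup.mem_sup_left hk) (Subgroup.mem_sup_right hb))
        (inv_mem (Subgroup.mem_sup_left hk))
    have hcc : a * (k * a⁻¹ * k⁻¹) = k * a⁻¹ * k⁻¹ * a :=
      conj_commute hP hel hAc hti le_sup_right k hconj a ha a⁻¹ (inv_mem ha)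
    set c := a * k * a⁻¹ * k⁻¹ with hc
    have hcQ : c ∈ Q := mul_mem (hQn.conj_mem k hk a) (inv_mem hk)
    have hac : a * c = c * a := by
      calc a * c = a * (a * (k * a⁻¹ * k⁻¹)) := by rw [hc]; group
        _ = a * ((k * a⁻¹ * k⁻¹) * a) := by rw [hcc]
        _ = c * a := by rw [hc]; group
    have h1 : a ^ 2 * k * (a ^ 2)⁻¹ * k⁻¹ = c ^ 2 := by
      calc a ^ 2 * k * (a ^ 2)⁻¹ * k⁻¹ = a * c * k * a⁻¹ * k⁻¹ := by rw [hc, pow_two]; group
        _ = c * (a * k * a⁻¹ * k⁻¹) := by rw [hac]; group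
        _ = c ^ 2 := by rw [← hc, pow_two]
    rw [h1]
    exact ⟨_, CfsgLib.OddOmega.pow_mem_frattini hQp ⟨c, hcQ⟩, rfl⟩
  set B := Subgroup.closure ((fun a : X => a ^ 2) '' (A : Set X)) with hB
  have hBQ : B ≤ Q := (Subgroup.closure_le _).mpr (by rintro _ ⟨a, ha, rfl⟩; exact hsq a ha)
  refine ⟨hBQ, fun hnel => ?_⟩
  have hBA : B ≤ A := (Subgroup.closure_le _).mpr (by rintro _ ⟨a, ha, rfl⟩; exact pow_mem ha 2)
  have hBc : ∀ a ∈ B, ∀ b ∈ B, a * b = b * a := fun a ha b hb => hAc a (hBA ha) b (hBA hb)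
  have hne : ∃ y ∈ B, y * y ≠ 1 := by
    by_contra h
    push Not at h
    exact hnel ⟨⟨⟨fun a b => Subtype.ext (hBc a a.2 b b.2)⟩⟩, fun a ha => by
      rw [pow_two]; exact h a ha⟩
  have htiB : ∀ h : X, B.map (MulAut.conj h).toMonoidHom = B ∨
      B.map (MulAut.conj h).toMonoidHom ⊓ B = ⊥ := by
    intro h
    rcases hti h with h1 | h1
    · left
      rw [hB, MonoidHom.map_closure, ← Set.image_comp]
      conv_rhs => rw [← h1, Subgroup.coe_map, ← Set.image_comp]
      congr 1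
      refine Set.image_congr fun a _ => ?_
      exact map_pow (MulAut.conj h).toMonoidHom a 2
    · right
      rw [eq_bot_iff, ← h1]
      exact inf_le_inf (Subgroup.map_mono hBA) hBA
  have hBn : ∀ g : X, B.map (MulAut.conj g).toMonoidHom ≤ Q := by
    rintro g _ ⟨b, hb, rfl⟩
    exact hQn.conj_mem b (hBQ hb) g
  refine Subgroup.isMulCommutative_closure ?_
  intro x hx y hy
  rw [Group.conjugatesOfSet, Set.mem_iUnion₂] at hx hy
  obtain ⟨a, ha, hxa⟩ := hx
  obtain ⟨b, hb, hyb⟩ := hy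
  obtain ⟨g, rfl⟩ := isConj_iff.mp hxa
  obtain ⟨k, rfl⟩ := isConj_iff.mp hyb
  have h1 := conj_commute hQp hne hBc htiB hBQ (g⁻¹ * k) (hBn _) a (Subgroup.subset_closure ha) b
    (Subgroup.subset_closure hb)
  calc g * a * g⁻¹ * (k * b * k⁻¹) = g * (a * (g⁻¹ * k * b * (g⁻¹ * k)⁻¹)) * g⁻¹ := by group
    _ = g * (g⁻¹ * k * b * (g⁻¹ * k)⁻¹ * a) * g⁻¹ := by rw [h1]
    _ = k * b * k⁻¹ * (g * a * g⁻¹) := by group

end Cfsg.Agent.S1783
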