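import Cfsg.Statements.S1784
import Cfsg.Agent.Lib.Layer.Basic
import Cfsg.Agent.Lib.Extraspecial.Basics

set_option autoImplicit false
set_option linter.style.haveILetI false
open Cfsg
open scoped commutatorElement

namespace Cfsg.Agent.S1784

/-- Let G be a finite group and let z be an involution of G such that Q, the generalized Fitting subgroup of the centralizer C of z, is a 2-group of symplectic type (every characteristic abelian subgroup of Q is cyclic); suppose Q is extraspecial, and view Q inside G. Let α be an involution of C that is not in Q, and let Q₀ be the subgroup of those q ∈ Q whose commutator with α lies in the subgroup generated by z. Then (a) the subgroup generated by the commutators α q α⁻¹ q⁻¹, q ∈ Q, equals the centre of Q₀; and (b) if Q₀ is not contained in the product of the centralizer of α in Q with the subgroup generated by z, then some element of Q conjugates α to α z. -/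
theorem result {G : Type*} [Group G] [Finite G] (z : G) (hz : orderOf z = 2) (hQ : Cfsg.IsOfSymplecticType ↥(Cfsg.generalizedFittingSubgroup ↥(Subgroup.centralizer ({z} : Set G)))) (hE : Cfsg.IsExtraspecial 2 ↥(Cfsg.generalizedFittingSubgroup ↥(Subgroup.centralizer ({z} : Set G))))
    (α : G) (hα : orderOf α = 2) (hαC : α ∈ Subgroup.centralizer ({z} : Set G)) (hαQ : α ∉ (Cfsg.generalizedFittingSubgroup ↥(Subgroup.centralizer ({z} : Set G))).map (Subgroup.centralizer ({z} : Set G)).subtype)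
    (Q₀ : Subgroup G) (hQ₀ : ∀ q : G, q ∈ Q₀ ↔ (q ∈ (Cfsg.generalizedFittingSubgroup ↥(Subgroup.centralizer ({z} : Set G))).map (Subgroup.centralizer ({z} : Set G)).subtype ∧ α * q * α⁻¹ * q⁻¹ ∈ Subgroup.zpowers z)) :
    Subgroup.closure ((fun q : G => α * q * α⁻¹ * q⁻¹) '' ((Cfsg.generalizedFittingSubgroup ↥(Subgroup.centralizer ({z} : Set G))).map (Subgroup.centralizer ({z} : Set G)).subtype : Set G)) = (Subgroup.center ↥Q₀).map Q₀.subtype ∧
      (¬ Q₀ ≤ ((Cfsg.generalizedFittingSubgroup ↥(Subgroup.centralizer ({z} : Set G))).map (Subgroup.centralizer ({z} : Set G)).subtype ⊓ Subgroup.centralizer ({α} : Set G)) ⊔ Subgroup.zpowers z →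
        ∃ q ∈ (Cfsg.generalizedFittingSubgroup ↥(Subgroup.centralizer ({z} : Set G))).map (Subgroup.centralizer ({z} : Set G)).subtype, q * α * q⁻¹ = α * z) := by
  haveI : Fact (Nat.Prime 2) := ⟨Nat.prime_two⟩
  set C := Subgroup.centralizer ({z} : Set G) with hC
  set F := Cfsg.generalizedFittingSubgroup ↥C with hFdef
  set QG := F.map C.subtype with hQG
  haveI hFn : F.Normal := CfsgLib.Layer.generalizedFitting_normal
  have hzz : z * z = 1 := by rw [← pow_two, ← hz, pow_orderOf_eq_one]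
  have hz1 : z ≠ 1 := fun e => by rw [e, orderOf_one] at hz; norm_num at hz
  have hzC : z ∈ C := Subgroup.mem_centralizer_singleton_iff.mpr rfl
  have hmemC : ∀ c ∈ C, c * z = z * c := fun c hc => Subgroup.mem_centralizer_singleton_iff.mp hc
  have hQC : QG ≤ C := Subgroup.map_subtype_le _
  have hself : ∀ c ∈ C, (∀ q ∈ QG, q * c = c * q) → c ∈ QG := fun c hc h =>
    ⟨⟨c, hc⟩, CfsgLib.Layer.centralizer_generalizedFitting_le
      (Subgroup.mem_centralizer_iff.mpr fun q hq => Subtype.ext (h q ⟨q, hq, rfl⟩)), rfl⟩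
  have hzQ : z ∈ QG := hself z hzC fun q hq => hmemC q (hQC hq)
  have hzp : ∀ w ∈ Subgroup.zpowers z, w = 1 ∨ w = z := by
    rintro w ⟨i, rfl⟩
    rcases Int.even_or_odd' i with ⟨c, rfl | rfl⟩
    · left; show z ^ (2 * c) = 1
      rw [zpow_mul, zpow_two, hzz, one_zpow]
    · right; show z ^ (2 * c + 1) = z
      rw [zpow_add, zpow_mul, zpow_two, hzz, one_zpow, one_mul, zpow_one]
  have hzpC : ∀ w ∈ Subgroup.zpowers z, ∀ c ∈ C, c * w = w * c := by
    intro w hw c hc
    rcases hzp w hw with rfl | rfl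
    · rw [mul_one, one_mul]
    · exact hmemC c hc
  -- the centre
  obtain ⟨z0, hz0, hz0G⟩ := hzQ
  have hz0c : (⟨z0, hz0⟩ : F) ∈ Subgroup.center F := Subgroup.mem_center_iff.mpr fun f =>
    Subtype.ext (Subtype.ext (show ((f : C) : G) * (z0 : G) = (z0 : G) * ((f : C) : G) by
      rw [show (z0 : G) = z from hz0G]; exact hmemC _ f.1.2))
  have hz01 : (⟨z0, hz0⟩ : F) ≠ 1 := fun e => hz1 (by
    rw [← hz0G]; exact congrArg (fun f : F => ((f : C) : G)) e)
  have hcen := (CfsgLib.Extraspecial.center_eq hE hz0c hz01).1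
  have hzQ : z ∈ QG := ⟨z0, hz0, hz0G⟩
  have hcenG : ∀ q ∈ QG, (∀ r ∈ QG, r * q = q * r) → q ∈ Subgroup.zpowers z := by
    rintro _ ⟨q, hq, rfl⟩ h
    have hm : (⟨q, hq⟩ : F) ∈ Subgroup.center F := Subgroup.mem_center_iff.mpr fun f =>
      Subtype.ext (Subtype.ext (h _ ⟨f, f.2, rfl⟩))
    obtain ⟨i, hi⟩ := Subgroup.mem_zpowers_iff.mp (hcen.ge hm)
    exact ⟨i, by rw [← hz0G]; exact congrArg (fun f : F => ((f : C) : G)) hi⟩
  have hcm : ∀ a ∈ QG, ∀ b ∈ QG, ⁅a, b⁆ ∈ Subgroup.zpowers z := by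
    rintro _ ⟨a, ha, rfl⟩ _ ⟨b, hb, rfl⟩
    obtain ⟨i, hi⟩ := Subgroup.mem_zpowers_iff.mp
      (hcen.ge (CfsgLib.Extraspecial.comm_mem hE (⟨a, ha⟩ : F) ⟨b, hb⟩))
    exact ⟨i, by rw [← hz0G]; exact congrArg (fun f : F => ((f : C) : G)) hi⟩
  have hsq : ∀ a ∈ QG, a * a ∈ Subgroup.zpowers z := by
    rintro _ ⟨a, ha, rfl⟩
    obtain ⟨i, hi⟩ := Subgroup.mem_zpowers_iff.mp
      (hcen.ge (CfsgLib.Extraspecial.pow_mem_center hE (⟨a, ha⟩ : F)))
    refine ⟨i, ?_⟩
    rw [← hz0G]
    have := congrArg (fun f : F => ((f : C) : G)) hi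
    rw [pow_two] at this
    exact this
  have hαα : α * α = 1 := by rw [← pow_two, ← hα, pow_orderOf_eq_one]
  have hαi : α⁻¹ = α := inv_eq_of_mul_eq_one_right hαα
  have hαn : ∀ q ∈ QG, α * q * α ∈ QG := by
    rintro _ ⟨q, hq, rfl⟩
    refine ⟨⟨α, hαC⟩ * q * ⟨α, hαC⟩⁻¹, hFn.conj_mem q hq _, ?_⟩
    show α * (q : G) * α⁻¹ = _
    rw [hαi]; rfl
  have hαd : ∀ q : G, α * q * α⁻¹ * q⁻¹ = α * q * α * q⁻¹ := fun q => by rw [hαi]
  set D := Subgroup.closure ((fun q : G => α * q * α⁻¹ * q⁻¹) '' (QG : Set G)) with hD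
  have hgenD : ∀ q ∈ QG, α * q * α * q⁻¹ ∈ D := fun q hq =>
    Subgroup.subset_closure ⟨q, hq, hαd q⟩
  have hQ0Q : Q₀ ≤ QG := fun q hq => ((hQ₀ q).mp hq).1
  have hDQ0 : D ≤ Q₀ := by
    refine (Subgroup.closure_le _).mpr ?_
    rintro _ ⟨q, hq, rfl⟩
    simp only [hαd]
    have hd : α * q * α * q⁻¹ ∈ QG := mul_mem (hαn q hq) (inv_mem hq)
    refine (hQ₀ _).mpr ⟨hd, ?_⟩
    rw [hαd]
    have e : α * (α * q * α * q⁻¹) * α * (α * q * α * q⁻¹)⁻¹ =
        ((α * q * α * q⁻¹) * (α * q * α * q⁻¹))⁻¹ := by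
      rw [show α * (α * q * α * q⁻¹) * α = (α * α) * q * α * q⁻¹ * α by group, hαα, one_mul]
      rw [show ((α * q * α * q⁻¹) * (α * q * α * q⁻¹))⁻¹ = q * α⁻¹ * q⁻¹ * α⁻¹ * (α * q * α * q⁻¹)⁻¹ by group,
        hαi]
    rw [e]
    exact inv_mem (hsq _ hd)
  -- `α` preserves the form
  have hform : ∀ q ∈ QG, ∀ r ∈ QG, ⁅α * q * α, r⁆ = ⁅q, α * r * α⁆ := by
    intro q hq r hr
    have hw := hcm q hq (α * r * α) (hαn r hr)
    calc ⁅α * q * α, r⁆ = α * ⁅q, α * r * α⁆ * α := by
          simp only [commutatorElement_def, mul_inv_rev, hαi]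
          rw [show α * (q * (α * r * α) * q⁻¹ * (α * (r⁻¹ * α))) * α =
            α * q * α * r * (α * q⁻¹ * α) * r⁻¹ * (α * α) by group, hαα, mul_one]
          group
      _ = _ := by rw [hzpC _ hw α hαC, mul_assoc, hαα, mul_one]
  have hlin : ∀ u ∈ QG, ∀ v ∈ QG, ∀ r ∈ QG, ⁅u * v, r⁆ = ⁅u, r⁆ * ⁅v, r⁆ := by
    intro u hu v hv r hr
    rw [show ⁅u * v, r⁆ = u * ⁅v, r⁆ * u⁻¹ * ⁅u, r⁆ by simp only [commutatorElement_def]; group,
      hzpC _ (hcm v hv r hr) u (hQC hu), mul_inv_cancel_right]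
    exact hzpC _ (hcm u hu r hr) _ (by
      rcases hzp _ (hcm v hv r hr) with e | e <;> rw [e]
      · exact C.one_mem
      · exact hzC)
  have hinv : ∀ q ∈ QG, ∀ r ∈ QG, ⁅q⁻¹, r⁆ = ⁅q, r⁆⁻¹ := by
    intro q hq r hr
    rw [eq_inv_iff_mul_eq_one, ← hlin _ (inv_mem hq) q hq r hr, inv_mul_cancel, commutatorElement_one_left]
  have hDc : ∀ q ∈ QG, ∀ r ∈ QG, (∀ w : G, α * r * α = w * r → w ∈ Subgroup.zpowers z) →
      ⁅α * q * α * q⁻¹, r⁆ = 1 := by
    intro q hq r hr hw
    have hw' := hw (α * r * α * r⁻¹) (by group)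
    rw [hlin _ (hαn q hq) _ (inv_mem hq) r hr, hinv q hq r hr, hform q hq r hr, mul_inv_eq_one]
    rw [show α * r * α = (α * r * α * r⁻¹) * r by group,
      show ⁅q, (α * r * α * r⁻¹) * r⁆ = ⁅q, α * r * α * r⁻¹⁆ * ((α * r * α * r⁻¹) * ⁅q, r⁆ * (α * r * α * r⁻¹)⁻¹) by
        simp only [commutatorElement_def]; group,
      commutatorElement_eq_one_iff_mul_comm.mpr (hzpC _ hw' q (hQC hq)), one_mul,
      hzpC _ (hcm q hq r hr) _ (hQC (mul_mem (hαn r hr) (inv_mem hr))), mul_inv_cancel_right]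
  -- `D` contains `z`
  have hzD : z ∈ D := by
    by_cases hex : ∃ q ∈ QG, α * q * α * q⁻¹ = z
    · obtain ⟨q, hq, e⟩ := hex
      exact e ▸ hgenD q hq
    obtain ⟨q', hq', hne⟩ : ∃ q' ∈ QG, α * q' * α * q'⁻¹ ∉ Subgroup.zpowers z := by
      by_contra! hall
      refine hαQ (hself α hαC fun q hq => ?_)
      rcases hzp _ (hall q hq) with e | e
      · rw [mul_inv_eq_one] at e
        calc q * α = (α * q * α) * α := by rw [e]
          _ = α * q := by rw [mul_assoc _ α α, hαα, mul_one]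
      · exact absurd ⟨q, hq, e⟩ hex
    have hd' : α * q' * α * q'⁻¹ ∈ QG := mul_mem (hαn q' hq') (inv_mem hq')
    obtain ⟨q, hq, hqd⟩ : ∃ q ∈ QG, q * (α * q' * α * q'⁻¹) * q⁻¹ = z * (α * q' * α * q'⁻¹) := by
      by_contra! hall
      refine hne (hcenG _ hd' fun q hq => ?_)
      rcases hzp _ (hcm q hq _ hd') with e | e
      · exact commutatorElement_eq_one_iff_mul_comm.mp e
      · rw [commutatorElement_def, mul_inv_eq_iff_eq_mul] at e
        exact absurd e (hall q hq)
    have e : α * (q * q') * α * (q * q')⁻¹ =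
        (α * q * α * q⁻¹) * z * (α * q' * α * q'⁻¹) := by
      rw [mul_assoc _ z, ← hqd,
        show α * q * α * q⁻¹ * (q * (α * q' * α * q'⁻¹) * q⁻¹) = α * q * (α * α) * q' * α * q'⁻¹ * q⁻¹ by group,
        hαα, mul_one]
      group
    have h3 : z = (α * q * α * q⁻¹)⁻¹ * (α * (q * q') * α * (q * q')⁻¹) * (α * q' * α * q'⁻¹)⁻¹ := by
      rw [e]; group
    rw [h3]
    exact mul_mem (mul_mem (inv_mem (hgenD q hq)) (hgenD _ (mul_mem hq hq'))) (inv_mem (hgenD q' hq'))
  refine ⟨le_antisymm ?_ ?_, ?_⟩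
  · intro d hd
    refine ⟨⟨d, hDQ0 hd⟩, Subgroup.mem_center_iff.mpr fun r => Subtype.ext ?_, rfl⟩
    refine Subgroup.closure_induction (p := fun d _ => (r : G) * d = d * (r : G)) ?_ ?_ ?_ ?_ hd
    · rintro _ ⟨q, hq, rfl⟩
      simp only [hαd]
      refine (commutatorElement_eq_one_iff_mul_comm.mp (hDc q hq _ (hQ0Q r.2) fun w hw => ?_)).symm
      have := ((hQ₀ _).mp r.2).2
      rwa [hαd, hw, mul_inv_cancel_right] at this
    · rw [mul_one, one_mul]
    · intro a b _ _ h1 h2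
      rw [← mul_assoc, h1, mul_assoc, h2, mul_assoc]
    · intro a _ h1
      exact (Commute.inv_right (h1 : Commute (r : G) a)).eq
  · rintro _ ⟨⟨y, hyQ0⟩, hyc, rfl⟩
    show y ∈ D
    by_contra hyD
    obtain ⟨y0, hy0F, hy0G⟩ := hQ0Q hyQ0
    set D' := (D.comap C.subtype).comap F.subtype with hD'
    have hD'z : ∀ a b : F, ⁅a, b⁆ ∈ D' ∧ a * a ∈ D' := by
      intro a b
      constructor
      · show ⁅((a : C) : G), ((b : C) : G)⁆ ∈ D
        rcases hzp _ (hcm _ ⟨a, a.2, rfl⟩ _ ⟨b, b.2, rfl⟩) with e | e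
        · exact e.symm ▸ D.one_mem
        · exact e.symm ▸ hzD
      · show ((a : C) : G) * ((a : C) : G) ∈ D
        rcases hzp _ (hsq _ ⟨a, a.2, rfl⟩) with e | e
        · exact e.symm ▸ D.one_mem
        · exact e.symm ▸ hzD
    obtain ⟨M, hDM, ⟨-, hyM⟩, hmax⟩ := Finite.exists_le_maximal
      (p := fun M : Subgroup F => D' ≤ M ∧ (⟨y0, hy0F⟩ : F) ∉ M) (a := D')
      ⟨le_rfl, fun h => hyD (hy0G ▸ h)⟩
    have hkey : ∀ b : F, b ∉ M → b * ⟨y0, hy0F⟩ ∈ M := by
      intro b hb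
      let M' : Subgroup F :=
        { carrier := {x | x ∈ M ∨ x * b ∈ M}
          one_mem' := Or.inl M.one_mem
          mul_mem' := by
            intro x w hx hw
            have hc : ∀ u v : F, u * v ∈ M ↔ v * u ∈ M := fun u v => by
              rw [show u * v = ⁅u, v⁆ * (v * u) by simp only [commutatorElement_def]; group]
              exact M.mul_mem_cancel_left (hDM (hD'z u v).1)
            rcases hx with hx | hx <;> rcases hw with hw | hw
            · exact Or.inl (M.mul_mem hx hw)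
            · exact Or.inr (by rw [mul_assoc]; exact M.mul_mem hx hw)
            · refine Or.inr ?_
              rw [mul_assoc, hc, mul_assoc, M.mul_mem_cancel_left hw, hc]; exact hx
            · refine Or.inl ?_
              have h2 := M.mul_mem (M.mul_mem ((hc _ _).mp hx) hw) (M.inv_mem (hDM (hD'z b 1).2))
              rw [show b * x * (w * b) * (b * b)⁻¹ = b * (x * w) * b⁻¹ by group, hc,
                show b⁻¹ * (b * (x * w)) = x * w by group] at h2
              exact h2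
          inv_mem' := by
            intro x hx
            rcases hx with hx | hx
            · exact Or.inl (M.inv_mem hx)
            · refine Or.inr ?_
              have h2 := M.mul_mem (M.inv_mem hx) (hDM (hD'z b 1).2)
              rw [show (x * b)⁻¹ * (b * b) = b⁻¹ * (x⁻¹ * b * b) by group] at h2
              rw [show x⁻¹ * b = ⁅x⁻¹ * b * b, b⁻¹⁆ * (b⁻¹ * (x⁻¹ * b * b)) by
                simp only [commutatorElement_def]; group]
              exact M.mul_mem (hDM (hD'z _ _).1) h2 }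
      have hle : M ≤ M' := fun x hx => Or.inl hx
      by_contra hby
      have hb' : b ∈ M' := Or.inr (hDM (hD'z b 1).2)
      refine hb (hmax ⟨hDM.trans hle, ?_⟩ hle hb')
      rintro (h | h)
      · exact hyM h
      · refine hby ?_
        rw [show b * (⟨y0, hy0F⟩ : F) = ⁅b, ⟨y0, hy0F⟩⁆ * (⟨y0, hy0F⟩ * b) by
          simp only [commutatorElement_def]; group]
        exact M.mul_mem (hDM (hD'z _ _).1) h
    have hidx : M.index = 2 := by
      refine Subgroup.index_eq_two_iff.mpr ⟨⟨y0, hy0F⟩, fun b => ?_⟩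
      by_cases hb : b ∈ M
      · exact Or.inr ⟨hb, fun h => hyM ((M.mul_mem_cancel_left hb).mp h)⟩
      · exact Or.inl ⟨hkey b hb, hb⟩
    classical
    let f : F → F := fun x => if x ∈ M then 1 else ⟨z0, hz0⟩
    have hz0sq : (⟨z0, hz0⟩ : F) * ⟨z0, hz0⟩ = 1 := Subtype.ext (Subtype.ext (by
      show (z0 : G) * (z0 : G) = 1
      rw [show (z0 : G) = z from hz0G]; exact hzz))
    let χ : F →* F := MonoidHom.mk' f fun a b => by
      simp only [f]
      by_cases ha : a ∈ M <;> by_cases hb : b ∈ M <;>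
        simp [ha, hb, Subgroup.mul_mem_iff_of_index_two hidx, hz0sq]
    obtain ⟨g, hg⟩ := CfsgLib.Extraspecial.exists_comm_eq_hom (Nat.card F) F hE rfl χ
      (fun x => by
        show f x ∈ _
        simp only [f]; split <;> first | exact one_mem _ | exact hz0c)
      (fun x hx => by
        show f x = 1
        have : x ∈ M := by
          refine hDM ?_
          rw [← hcen] at hx
          exact Subgroup.zpowers_le.mpr (show (⟨z0, hz0⟩ : F) ∈ D' by show (z0 : G) ∈ D; rw [show (z0 : G) = z from hz0G]; exact hzD) hx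
        simp [f, this])
    have hgQ : ((g : C) : G) ∈ QG := ⟨g, g.2, rfl⟩
    have hgD : ∀ q ∈ QG, ⁅α * q * α * q⁻¹, ((g : C) : G)⁆ = 1 := by
      intro q hq
      obtain ⟨d, hdF, hdG⟩ := (mul_mem (hαn q hq) (inv_mem hq) : α * q * α * q⁻¹ ∈ QG)
      have h1 : χ ⟨d, hdF⟩ = 1 := by
        show f _ = 1
        have : (⟨d, hdF⟩ : F) ∈ M := hDM (show (d : G) ∈ D by rw [show (d : G) = _ from hdG]; exact hgenD q hq)
        simp [f, this]
      rw [hg] at h1
      rw [← commutatorElement_inv, inv_eq_one, ← hdG]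
      exact congrArg (fun f : F => ((f : C) : G)) h1
    have hgQ0 : ((g : C) : G) ∈ Q₀ := by
      refine (hQ₀ _).mpr ⟨hgQ, ?_⟩
      rw [hαd]
      set r := ((g : C) : G)
      set w := α * r * α * r⁻¹ with hw
      have hwQ : w ∈ QG := mul_mem (hαn r hgQ) (inv_mem hgQ)
      refine hcenG w hwQ fun q hq => ?_
      have h1 := hgD q hq
      rw [hlin _ (hαn q hq) _ (inv_mem hq) r hgQ, hinv q hq r hgQ, hform q hq r hgQ, mul_inv_eq_one,
        show α * r * α = w * r by rw [hw]; group,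
        show ⁅q, w * r⁆ = ⁅q, w⁆ * (w * ⁅q, r⁆ * w⁻¹) by simp only [commutatorElement_def]; group,
        hzpC _ (hcm q hq r hgQ) w (hQC hwQ), mul_inv_cancel_right, mul_eq_right] at h1
      exact commutatorElement_eq_one_iff_mul_comm.mp h1
    have h2 := congrArg (fun f : F => ((f : C) : G)) (hg ⟨y0, hy0F⟩)
    have hcy : ((g : C) : G) * y = y * ((g : C) : G) :=
      congrArg Subtype.val (Subgroup.mem_center_iff.mp hyc ⟨_, hgQ0⟩)
    have h3 : χ ⟨y0, hy0F⟩ = ⟨z0, hz0⟩ := by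
      show f _ = _
      simp [f, hyM]
    rw [h3] at h2
    have h4 : (z0 : G) = ⁅((g : C) : G), (y0 : G)⁆ := h2
    rw [show (y0 : G) = y from hy0G, commutatorElement_eq_one_iff_mul_comm.mpr hcy] at h4
    exact hz1 (hz0G ▸ h4)
  · intro hnle
    obtain ⟨q, hq, hqn⟩ := SetLike.not_le_iff_exists.mp hnle
    obtain ⟨hqQ, hqz⟩ := (hQ₀ q).mp hq
    refine ⟨q, hqQ, ?_⟩
    rw [hαd] at hqz
    rcases hzp _ hqz with e | e
    · refine absurd (Subgroup.mem_sup_left (Subgroup.mem_inf.mpr ⟨hqQ, Subgroup.mem_centralizer_singleton_iff.mpr ?_⟩)) hqn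
      rw [mul_inv_eq_one] at e
      calc q * α = (α * q * α) * α := by rw [e]
        _ = α * q := by rw [mul_assoc _ α α, hαα, mul_one]
    · rw [mul_inv_eq_iff_eq_mul] at e
      have e2 : α * q = z * q * α := by
        rw [← e, mul_assoc _ α α, hαα, mul_one]
      have hzq : z * q = q * z := (hmemC q (hQC hqQ)).symm
      have hzα : z * α = α * z := (hmemC α hαC).symm
      rw [hzq, mul_assoc, hzα] at e2
      calc q * α * q⁻¹ = q * (α * z) * z * q⁻¹ := by
            rw [show q * (α * z) * z = q * α * (z * z) by group, hzz, mul_one]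
        _ = α * q * z * q⁻¹ := by rw [← e2]
        _ = α * z := by rw [mul_assoc α q z, ← hzq]; group

end Cfsg.Agent.S1784
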