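import Cfsg.Statements.S1785
import Cfsg.Agent.S0606
import Cfsg.Agent.Lib.Coprime.Action
-- import your own Cfsg.Agent.* helpers here

set_option autoImplicit false
open Cfsg CfsgLib

namespace Cfsg.Agent.S1785

section
variable {X : Type*} [Group X] [Finite X]

theorem elem_mono {A B : Subgroup X} (hB : IsElementaryAbelian 2 B) (h : A ≤ B) :
    IsElementaryAbelian 2 A :=
  ⟨⟨⟨fun a b => Subtype.ext (show (a : X) * b = b * a from congrArg Subtype.val
    (hB.1.is_comm.comm (⟨a, h a.2⟩ : B) ⟨b, h b.2⟩))⟩⟩, fun a ha => hB.2 a (h ha)⟩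

theorem elem_zpowers {a : X} (ha : a * a = 1) : IsElementaryAbelian 2 (Subgroup.zpowers a) := by
  refine ⟨inferInstance, fun w hw => ?_⟩
  obtain ⟨i, rfl⟩ := Subgroup.mem_zpowers_iff.mp hw
  rw [← zpow_natCast, ← zpow_mul, mul_comm, zpow_mul, zpow_natCast, pow_two, ha, one_zpow]

theorem elem_comm {A : Subgroup X} (hA : IsElementaryAbelian 2 A) {a b : X} (ha : a ∈ A) (hb : b ∈ A) :
    Commute a b :=
  congrArg Subtype.val (hA.1.is_comm.comm (⟨a, ha⟩ : A) ⟨b, hb⟩)

/-- Adjoining a commuting involution. -/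
theorem elem_adjoin {A : Subgroup X} (hA : IsElementaryAbelian 2 A) {a : X} (ha : a * a = 1)
    (hc : ∀ x ∈ A, Commute x a) : IsElementaryAbelian 2 (A ⊔ Subgroup.zpowers a : Subgroup X) :=
  Cfsg.Agent.S0606.elem_sup hA (elem_zpowers ha) (Subgroup.zpowers_le.mpr fun x hx => hc x hx)

theorem card_adjoin {A : Subgroup X} (hA : IsElementaryAbelian 2 A) {a : X} (ha : a * a = 1) (haA : a ∉ A)
    (hc : ∀ x ∈ A, Commute x a) : Nat.card ↥(A ⊔ Subgroup.zpowers a) = 2 * Nat.card A := by
  have h := CfsgLib.Coprime.card_sup_mul_card_inf (K := A) (S := Subgroup.zpowers a)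
    ((Subgroup.zpowers_le.mpr fun x hx => hc x hx :
      Subgroup.zpowers a ≤ Subgroup.centralizer (A : Set X)).trans (Subgroup.centralizer_le_normalizer _))
  have ho : orderOf a = 2 := orderOf_eq_prime (by rw [pow_two]; exact ha) fun e => haA (e ▸ one_mem A)
  have hi : A ⊓ Subgroup.zpowers a = ⊥ := by
    rw [eq_bot_iff]
    rintro w ⟨hw, hwz⟩
    obtain ⟨i, rfl⟩ := Subgroup.mem_zpowers_iff.mp hwz
    rcases Int.even_or_odd i with ⟨j, rfl⟩ | ⟨j, rfl⟩
    · rw [← two_mul, zpow_mul, zpow_two, ha, one_zpow]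
      exact one_mem _
    · exfalso
      apply haA
      rwa [zpow_add, zpow_mul, zpow_two, ha, one_zpow, one_mul, zpow_one] at hw
  rw [hi, Subgroup.card_bot, mul_one, Nat.card_zpowers, ho] at h
  rw [h, mul_comm]

/-- The fixed points of an involution on an elementary abelian group. -/
theorem card_le_fixed {U : Subgroup X} (hU : IsElementaryAbelian 2 U) {a : X} (ha : a * a = 1)
    (hn : ∀ u ∈ U, a * u * a⁻¹ ∈ U) :
    Nat.card U ≤ Nat.card ↥(U ⊓ Subgroup.centralizer ({a} : Set X)) ^ 2 := by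
  let φ : U →* U := MonoidHom.mk' (fun u => ⟨a * (u : X) * a⁻¹ * (u : X)⁻¹, U.mul_mem (hn u u.2) (U.inv_mem u.2)⟩)
    fun u v => Subtype.ext (by
      have h : Commute (a * (v : X) * a⁻¹) (u : X)⁻¹ := elem_comm hU (hn v v.2) (U.inv_mem u.2)
      have h2 : Commute (u : X) v := elem_comm hU u.2 v.2
      show a * ((u : X) * v) * a⁻¹ * ((u : X) * v)⁻¹ = a * u * a⁻¹ * (u : X)⁻¹ * (a * v * a⁻¹ * (v : X)⁻¹)
      rw [show ((u : X) * v)⁻¹ = (u : X)⁻¹ * (v : X)⁻¹ by rw [h2.eq, mul_inv_rev]]
      calc a * ((u : X) * v) * a⁻¹ * ((u : X)⁻¹ * (v : X)⁻¹)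
          = a * u * a⁻¹ * (a * v * a⁻¹ * (u : X)⁻¹) * (v : X)⁻¹ := by group
        _ = a * u * a⁻¹ * ((u : X)⁻¹ * (a * v * a⁻¹)) * (v : X)⁻¹ := by rw [h.eq]
        _ = a * u * a⁻¹ * (u : X)⁻¹ * (a * v * a⁻¹ * (v : X)⁻¹) := by group)
  set C := U ⊓ Subgroup.centralizer ({a} : Set X) with hC
  have hker : φ.ker.map U.subtype ≤ C := by
    rintro _ ⟨u, hu, rfl⟩
    have h : a * (u : X) * a⁻¹ * (u : X)⁻¹ = 1 := congrArg Subtype.val hu
    exact ⟨u.2, Subgroup.mem_centralizer_singleton_iff.mpr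
      (mul_inv_eq_iff_eq_mul.mp (mul_inv_eq_one.mp h)).symm⟩
  have hrange : φ.range.map U.subtype ≤ C := by
    rintro _ ⟨_, ⟨u, rfl⟩, rfl⟩
    refine ⟨(φ u).2, Subgroup.mem_centralizer_singleton_iff.mpr ?_⟩
    show a * (u : X) * a⁻¹ * (u : X)⁻¹ * a = a * (a * (u : X) * a⁻¹ * (u : X)⁻¹)
    have hinv : a⁻¹ = a := inv_eq_of_mul_eq_one_right ha
    have hsq : ∀ w ∈ U, w⁻¹ = w := fun w hw => inv_eq_of_mul_eq_one_right (by rw [← pow_two]; exact hU.2 w hw)
    have hc := elem_comm hU (hn u u.2) u.2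
    rw [hinv] at hc ⊢
    rw [hsq _ u.2]
    calc a * (u : X) * a * u * a = (u : X) * (a * u * a) * a := by rw [hc.eq]
      _ = (u : X) * (a * u) * (a * a) := by group
      _ = (a * a) * ((u : X) * a * u) := by rw [ha]; group
      _ = a * (a * u * a * u) := by group
  have h := φ.ker.card_mul_index
  rw [Subgroup.index_ker] at h
  rw [← h, pow_two]
  refine Nat.mul_le_mul ?_ ?_
  · rw [← Subgroup.card_map_of_injective U.subtype_injective]; exact Subgroup.card_le_of_le hker
  · rw [← Subgroup.card_map_of_injective U.subtype_injective]; exact Subgroup.card_le_of_le hrange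

theorem exists_sub_card (hX : IsPGroup 2 X) {U : Subgroup X} {k : ℕ} (h : 2 ^ k ≤ Nat.card U) :
    ∃ V ≤ U, Nat.card V = 2 ^ k := by
  haveI : Fact (Nat.Prime 2) := ⟨Nat.prime_two⟩
  obtain ⟨n, hn⟩ := (hX.to_subgroup U).exists_card_eq
  rw [hn] at h
  have hd : 2 ^ k ∣ Nat.card U := hn ▸ Nat.pow_dvd_pow 2 ((Nat.pow_le_pow_iff_right one_lt_two).mp h)
  obtain ⟨V, hV⟩ := Sylow.exists_subgroup_card_pow_prime 2 hd
  exact ⟨V.map U.subtype, Subgroup.map_subtype_le _, by
    rw [Subgroup.card_map_of_injective U.subtype_injective, hV]⟩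

theorem le_pow {n m : ℕ} (hX : IsPGroup 2 X) {U : Subgroup X} (h : m ≤ Nat.card U ^ 2)
    (hnm : (2 ^ n) ^ 2 < m) : 2 ^ (n + 1) ≤ Nat.card U := by
  haveI : Fact (Nat.Prime 2) := ⟨Nat.prime_two⟩
  obtain ⟨j, hj⟩ := (hX.to_subgroup U).exists_card_eq
  rw [hj] at h ⊢
  have h1 : 2 ^ n < 2 ^ j := lt_of_pow_lt_pow_left₀ 2 (Nat.zero_le _) (lt_of_lt_of_le hnm h)
  exact Nat.pow_le_pow_right two_pos ((Nat.pow_lt_pow_iff_right one_lt_two).mp h1)

end

/-- Let X be a finite 2-group having a normal elementary abelian subgroup of order at least 32. Then (a) for any two elementary abelian subgroups A, B of X of order 8 there is a chain A = A₁, A₂, …, Aₙ = B of elementary abelian subgroups of order 8 in which consecutive members commute elementwise; and (b) every elementary abelian subgroup of X of order 4 is contained in an elementary abelian subgroup of order 8. -/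
theorem result {X : Type*} [Group X] [Finite X]
    (hX : IsPGroup 2 X) (E : Subgroup X) [E.Normal] (hE : Cfsg.IsElementaryAbelian 2 E) (hE32 : 32 ≤ Nat.card ↥E) :
    (∀ A B : Subgroup X, Cfsg.IsElementaryAbelian 2 A → Nat.card ↥A = 8 → Cfsg.IsElementaryAbelian 2 B → Nat.card ↥B = 8 →
        Relation.ReflTransGen
          (fun C D : Subgroup X => Cfsg.IsElementaryAbelian 2 C ∧ Nat.card ↥C = 8 ∧ Cfsg.IsElementaryAbelian 2 D ∧ Nat.card ↥D = 8 ∧ ⁅C, D⁆ = ⊥)
          A B) ∧
      (∀ V : Subgroup X, Cfsg.IsElementaryAbelian 2 V → Nat.card ↥V = 4 →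
        ∃ A : Subgroup X, V ≤ A ∧ Cfsg.IsElementaryAbelian 2 A ∧ Nat.card ↥A = 8) := by
  haveI : Fact (Nat.Prime 2) := ⟨Nat.prime_two⟩
  have hEn : ∀ a u : X, u ∈ E → a * u * a⁻¹ ∈ E := fun a u hu => (inferInstance : E.Normal).conj_mem u hu a
  have hsq : ∀ {A : Subgroup X}, IsElementaryAbelian 2 A → ∀ a ∈ A, a * a = 1 := fun hA a ha => by
    rw [← pow_two]; exact hA.2 a ha
  -- fixed points of one and two involutions
  have h8 : ∀ a : X, a * a = 1 → 2 ^ 3 ≤ Nat.card ↥(E ⊓ Subgroup.centralizer ({a} : Set X)) := fun a ha =>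
    le_pow (n := 2) hX (hE32.trans (card_le_fixed hE ha fun u hu => hEn a u hu)) (by norm_num)
  have h4 : ∀ a b : X, a * a = 1 → b * b = 1 → Commute a b →
      2 ^ 2 ≤ Nat.card ↥(E ⊓ Subgroup.centralizer ({a} : Set X) ⊓ Subgroup.centralizer ({b} : Set X)) := by
    intro a b ha hb hab
    refine le_pow (n := 1) hX ((h8 a ha).trans (card_le_fixed (elem_mono hE inf_le_left) hb ?_)) (by norm_num)
    rintro u ⟨hu, hua⟩
    refine ⟨hEn b u hu, Subgroup.mem_centralizer_singleton_iff.mpr ?_⟩
    calc b * u * b⁻¹ * a = b * (u * a) * b⁻¹ := by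
          rw [mul_assoc, mul_assoc, hab.inv_right.symm.eq]; group
      _ = b * (a * u) * b⁻¹ := by rw [Subgroup.mem_centralizer_singleton_iff.mp hua]
      _ = a * (b * u * b⁻¹) := by rw [← mul_assoc b a u, ← hab.eq]; group
  constructor
  · set R : Subgroup X → Subgroup X → Prop := fun C D => Cfsg.IsElementaryAbelian 2 C ∧ Nat.card ↥C = 8 ∧
      Cfsg.IsElementaryAbelian 2 D ∧ Nat.card ↥D = 8 ∧ ⁅C, D⁆ = ⊥ with hR
    have hsymm : ∀ C D, R C D → R D C := fun C D h => ⟨h.2.2.1, h.2.2.2.1, h.1, h.2.1, by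
      rw [Subgroup.commutator_comm]; exact h.2.2.2.2⟩
    have hRc : ∀ {C D : Subgroup X}, IsElementaryAbelian 2 C → Nat.card C = 8 → IsElementaryAbelian 2 D →
        Nat.card D = 8 → C ≤ Subgroup.centralizer (D : Set X) → R C D := fun h1 h2 h3 h4 h5 =>
      ⟨h1, h2, h3, h4, Subgroup.commutator_eq_bot_iff_le_centralizer.mpr h5⟩
    have hstep : ∀ B, IsElementaryAbelian 2 B → Nat.card B = 8 → 4 ≤ Nat.card ↥(B ⊓ E) →
        ∃ D ≤ E, Nat.card D = 8 ∧ Relation.ReflTransGen R B D := by
      intro B hB hB8 hBE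
      by_cases hle : B ≤ E
      · exact ⟨B, hle, hB8, Relation.ReflTransGen.refl⟩
      obtain ⟨b, hbB, hbE⟩ := SetLike.not_le_iff_exists.mp hle
      obtain ⟨D, hD, hD8⟩ := exists_sub_card hX (k := 3) (h8 b (hsq hB b hbB))
      refine ⟨D, hD.trans inf_le_left, hD8, Relation.ReflTransGen.single
        (hRc hB hB8 (elem_mono hE (hD.trans inf_le_left)) hD8 ?_)⟩
      have hgen : B = (B ⊓ E) ⊔ Subgroup.zpowers b := by
        refine (Subgroup.eq_of_le_of_card_ge (sup_le inf_le_left (Subgroup.zpowers_le.mpr hbB)) ?_).symm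
        rw [card_adjoin (elem_mono hB inf_le_left) (hsq hB b hbB) (fun h => hbE h.2)
          (fun x hx => elem_comm hB hx.1 hbB), hB8]
        omega
      rw [hgen]
      refine sup_le ?_ (Subgroup.zpowers_le.mpr fun d hd => Subgroup.mem_centralizer_singleton_iff.mp (hD hd).2)
      exact fun x hx d hd => elem_comm hE (hD hd).1 hx.2
    have hconn : ∀ A, IsElementaryAbelian 2 A → Nat.card A = 8 →
        ∃ D ≤ E, Nat.card D = 8 ∧ Relation.ReflTransGen R A D := by
      intro A hA hA8
      by_cases hAE : A ≤ E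
      · exact ⟨A, hAE, hA8, Relation.ReflTransGen.refl⟩
      set W := E ⊓ Subgroup.centralizer (A : Set X) with hW
      by_cases hW4 : 4 ≤ Nat.card W
      · obtain ⟨W₄, hW₄, hW₄c⟩ := exists_sub_card hX (k := 2) hW4
        obtain ⟨a, haA, haE⟩ := SetLike.not_le_iff_exists.mp hAE
        have hel : IsElementaryAbelian 2 W₄ := elem_mono hE (hW₄.trans inf_le_left)
        have hc : ∀ x ∈ W₄, Commute x a := fun x hx => ((hW₄ hx).2 a haA).symm
        have hBc : Nat.card ↥(W₄ ⊔ Subgroup.zpowers a) = 8 := by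
          rw [card_adjoin hel (hsq hA a haA) (fun h => haE (hW₄ h).1) hc, hW₄c]; norm_num
        obtain ⟨D, hD, hD8, hpath⟩ := hstep _ (elem_adjoin hel (hsq hA a haA) hc) hBc
          ((hW₄c.ge).trans (Subgroup.card_le_of_le (le_inf le_sup_left (hW₄.trans inf_le_left))))
        refine ⟨D, hD, hD8, hpath.head (hRc hA hA8 (elem_adjoin hel (hsq hA a haA) hc) hBc ?_)⟩
        rw [Subgroup.le_centralizer_iff]
        exact sup_le (hW₄.trans inf_le_right) (Subgroup.zpowers_le.mpr fun x hx => elem_comm hA hx haA)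
      -- now `C_E(A)` has order at most 2
      obtain ⟨a, haA, haW⟩ : ∃ a ∈ A, a ∉ W := by
        by_contra hc
        push Not at hc
        exact hAE fun x hx => (hc x hx).1
      have hWel : IsElementaryAbelian 2 W := elem_mono hE inf_le_left
      have hWa : ∀ x ∈ W, Commute x a := fun x hx => (hx.2 a haA).symm
      have hW1 : IsElementaryAbelian 2 (W ⊔ Subgroup.zpowers a : Subgroup X) := elem_adjoin hWel (hsq hA a haA) hWa
      have hW1c := card_adjoin hWel (hsq hA a haA) haW hWa
      obtain ⟨b, hbA, hbW⟩ : ∃ b ∈ A, b ∉ W ⊔ Subgroup.zpowers a := by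
        by_contra hc
        push Not at hc
        have := Subgroup.card_le_of_le (show A ≤ W ⊔ Subgroup.zpowers a from hc)
        rw [hW1c, hA8] at this
        omega
      have hW1b : ∀ x ∈ W ⊔ Subgroup.zpowers a, Commute x b := fun x hx => by
        have h : W ⊔ Subgroup.zpowers a ≤ Subgroup.centralizer ({b} : Set X) :=
          sup_le (fun w hw => Subgroup.mem_centralizer_singleton_iff.mpr (hw.2 b hbA).symm)
            (Subgroup.zpowers_le.mpr (Subgroup.mem_centralizer_singleton_iff.mpr (elem_comm hA haA hbA).eq))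
        exact Subgroup.mem_centralizer_singleton_iff.mp (h hx)
      set C4 := E ⊓ Subgroup.centralizer ({a} : Set X) ⊓ Subgroup.centralizer ({b} : Set X) with hC4
      have hWC4 : W ≤ C4 := fun w hw => ⟨⟨hw.1, Subgroup.mem_centralizer_singleton_iff.mpr (hw.2 a haA).symm⟩,
        Subgroup.mem_centralizer_singleton_iff.mpr (hw.2 b hbA).symm⟩
      have hC4c := h4 a b (hsq hA a haA) (hsq hA b hbA) (elem_comm hA haA hbA)
      -- `W` is nontrivial
      have hW2 : 2 ≤ Nat.card W := by
        obtain ⟨c, hcA, hcW⟩ : ∃ c ∈ A, c ∉ Subgroup.zpowers a ⊔ Subgroup.zpowers b := by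
          by_contra hc
          push Not at hc
          have h1 := Subgroup.card_le_of_le (show A ≤ Subgroup.zpowers a ⊔ Subgroup.zpowers b from hc)
          rw [card_adjoin (elem_zpowers (hsq hA a haA)) (hsq hA b hbA) (fun h => hbW (Subgroup.mem_sup_right h))
            (fun x hx => elem_comm hA (Subgroup.zpowers_le.mpr haA hx) hbA), Nat.card_zpowers, hA8] at h1
          have : orderOf a ≤ 2 := Nat.le_of_dvd two_pos (orderOf_dvd_of_pow_eq_one (hA.2 a haA))
          omega
        have hgen : A = Subgroup.zpowers a ⊔ Subgroup.zpowers b ⊔ Subgroup.zpowers c := by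
          have hab : IsElementaryAbelian 2 (Subgroup.zpowers a ⊔ Subgroup.zpowers b : Subgroup X) :=
            elem_adjoin (elem_zpowers (hsq hA a haA)) (hsq hA b hbA)
              (fun x hx => elem_comm hA (Subgroup.zpowers_le.mpr haA hx) hbA)
          have hle : Subgroup.zpowers a ⊔ Subgroup.zpowers b ≤ A :=
            sup_le (Subgroup.zpowers_le.mpr haA) (Subgroup.zpowers_le.mpr hbA)
          refine (Subgroup.eq_of_le_of_card_ge (sup_le hle (Subgroup.zpowers_le.mpr hcA)) ?_).symm
          rw [card_adjoin hab (hsq hA c hcA) hcW (fun x hx => elem_comm hA (hle hx) hcA),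
            card_adjoin (elem_zpowers (hsq hA a haA)) (hsq hA b hbA) (fun h => hbW (Subgroup.mem_sup_right h))
              (fun x hx => elem_comm hA (Subgroup.zpowers_le.mpr haA hx) hbA), Nat.card_zpowers,
            orderOf_eq_prime (hA.2 a haA) (fun e => haW (e ▸ one_mem W)), hA8]
        have h := hC4c.trans (card_le_fixed (elem_mono hE (inf_le_left.trans inf_le_left)) (hsq hA c hcA) ?_)
        · refine le_trans (le_pow (n := 0) hX h (by norm_num)) (Subgroup.card_le_of_le ?_)
          rintro w ⟨⟨⟨hwE, hwa⟩, hwb⟩, hwc⟩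
          refine ⟨hwE, ?_⟩
          have hle : A ≤ Subgroup.centralizer ({w} : Set X) := hgen.le.trans (sup_le (sup_le
            (Subgroup.zpowers_le.mpr (Subgroup.mem_centralizer_singleton_iff.mpr (Subgroup.mem_centralizer_singleton_iff.mp hwa).symm))
            (Subgroup.zpowers_le.mpr (Subgroup.mem_centralizer_singleton_iff.mpr (Subgroup.mem_centralizer_singleton_iff.mp hwb).symm)))
            (Subgroup.zpowers_le.mpr (Subgroup.mem_centralizer_singleton_iff.mpr (Subgroup.mem_centralizer_singleton_iff.mp hwc).symm)))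
          exact fun x hx => Subgroup.mem_centralizer_singleton_iff.mp (hle hx)
        · rintro u ⟨⟨huE, hua⟩, hub⟩
          have key : ∀ d ∈ A, Commute u d → Commute (c * u * c⁻¹) d := fun d hd hud => by
            have hcd := elem_comm hA hcA hd
            exact (hcd.mul_left hud).mul_left hcd.inv_left
          exact ⟨⟨hEn c u huE, Subgroup.mem_centralizer_singleton_iff.mpr
            (key a haA (Subgroup.mem_centralizer_singleton_iff.mp hua)).eq⟩,
            Subgroup.mem_centralizer_singleton_iff.mpr (key b hbA (Subgroup.mem_centralizer_singleton_iff.mp hub)).eq⟩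
      have hBel := elem_adjoin hW1 (hsq hA b hbA) hW1b
      have hB8 : Nat.card ↥(W ⊔ Subgroup.zpowers a ⊔ Subgroup.zpowers b) = 8 := by
        rw [card_adjoin hW1 (hsq hA b hbA) hbW hW1b, hW1c]
        obtain ⟨j, hj⟩ := (hX.to_subgroup W).exists_card_eq
        rcases j with _ | _ | j
        · rw [hj] at hW2; norm_num at hW2
        · rw [hj]; norm_num
        · exfalso; apply hW4; rw [hj]; exact le_trans (by norm_num) (Nat.pow_le_pow_right two_pos (Nat.le_add_left 2 j))
      obtain ⟨F, hF, hFc⟩ := exists_sub_card hX (k := 2) hC4c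
      have hFel : IsElementaryAbelian 2 F := elem_mono hE (hF.trans (inf_le_left.trans inf_le_left))
      have hFa : ∀ x ∈ F, Commute x a := fun x hx => Subgroup.mem_centralizer_singleton_iff.mp (hF hx).1.2
      have haF : a ∉ F := fun h => haW ⟨(hF h).1.1, fun x hx => elem_comm hA hx haA⟩
      have hCc : Nat.card ↥(F ⊔ Subgroup.zpowers a) = 8 := by
        rw [card_adjoin hFel (hsq hA a haA) haF hFa, hFc]; norm_num
      obtain ⟨D, hD, hD8, hpath⟩ := hstep _ (elem_adjoin hFel (hsq hA a haA) hFa) hCc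
        ((hFc.ge).trans (Subgroup.card_le_of_le (le_inf le_sup_left (hF.trans (inf_le_left.trans inf_le_left)))))
      refine ⟨D, hD, hD8, (hpath.head (hRc hBel hB8 (elem_adjoin hFel (hsq hA a haA) hFa) hCc ?_)).head
        (hRc hA hA8 hBel hB8 ?_)⟩
      · rw [Subgroup.le_centralizer_iff]
        refine sup_le (fun f hf => ?_) (Subgroup.zpowers_le.mpr fun x hx => ?_)
        · have h : W ⊔ Subgroup.zpowers a ⊔ Subgroup.zpowers b ≤ Subgroup.centralizer ({f} : Set X) :=
            sup_le (sup_le (fun w hw => Subgroup.mem_centralizer_singleton_iff.mpr (elem_comm hE hw.1 (hF hf).1.1).eq)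
              (Subgroup.zpowers_le.mpr (Subgroup.mem_centralizer_singleton_iff.mpr (hFa f hf).symm.eq)))
              (Subgroup.zpowers_le.mpr (Subgroup.mem_centralizer_singleton_iff.mpr
                (Subgroup.mem_centralizer_singleton_iff.mp (hF hf).2).symm))
          exact fun x hx => Subgroup.mem_centralizer_singleton_iff.mp (h hx)
        · exact elem_comm hBel hx (Subgroup.mem_sup_left (Subgroup.mem_sup_right (Subgroup.mem_zpowers a)))
      · rw [Subgroup.le_centralizer_iff]
        exact sup_le (sup_le inf_le_right (Subgroup.zpowers_le.mpr fun x hx => elem_comm hA hx haA))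
          (Subgroup.zpowers_le.mpr fun x hx => elem_comm hA hx hbA)
    intro A B hA hA8 hB hB8
    obtain ⟨D, hD, hD8, hAD⟩ := hconn A hA hA8
    obtain ⟨D', hD', hD8', hBD⟩ := hconn B hB hB8
    have hDD : R D D' := hRc (elem_mono hE hD) hD8 (elem_mono hE hD') hD8'
      (fun x hx y hy => elem_comm hE (hD' hy) (hD hx))
    have hrev : ∀ C C', Relation.ReflTransGen R C C' → Relation.ReflTransGen R C' C := by
      intro C C' h
      induction h with
      | refl => exact Relation.ReflTransGen.refl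
      | tail _ h ih => exact ih.head (hsymm _ _ h)
    have hDB : Relation.ReflTransGen R D' B := hrev _ _ hBD
    exact hAD.trans ((Relation.ReflTransGen.single hDD).trans hDB)
  · intro V hV hV4
    obtain ⟨a, haV, ha1⟩ : ∃ a ∈ V, a ≠ 1 := by
      by_contra hc
      push Not at hc
      rw [(Subgroup.eq_bot_iff_forall V).mpr hc, Subgroup.card_bot] at hV4
      norm_num at hV4
    obtain ⟨b, hbV, hba⟩ : ∃ b ∈ V, b ∉ Subgroup.zpowers a := by
      by_contra hc
      push Not at hc
      have h := Subgroup.card_le_of_le (show V ≤ Subgroup.zpowers a from hc)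
      rw [Nat.card_zpowers, orderOf_eq_prime (hV.2 a haV) ha1, hV4] at h
      norm_num at h
    have hgen : V = Subgroup.zpowers a ⊔ Subgroup.zpowers b := by
      refine (Subgroup.eq_of_le_of_card_ge (sup_le (Subgroup.zpowers_le.mpr haV) (Subgroup.zpowers_le.mpr hbV)) ?_).symm
      rw [card_adjoin (elem_zpowers (hsq hV a haV)) (hsq hV b hbV) hba
        (fun x hx => elem_comm hV (Subgroup.zpowers_le.mpr haV hx) hbV), Nat.card_zpowers,
        orderOf_eq_prime (hV.2 a haV) ha1, hV4]
    set C4 := E ⊓ Subgroup.centralizer ({a} : Set X) ⊓ Subgroup.centralizer ({b} : Set X) with hC4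
    have hC4V : ∀ e ∈ C4, ∀ x ∈ V, Commute x e := by
      rintro e ⟨⟨-, hea⟩, heb⟩ x hx
      have hle : V ≤ Subgroup.centralizer ({e} : Set X) := hgen.le.trans (sup_le
        (Subgroup.zpowers_le.mpr (Subgroup.mem_centralizer_singleton_iff.mpr (Subgroup.mem_centralizer_singleton_iff.mp hea).symm))
        (Subgroup.zpowers_le.mpr (Subgroup.mem_centralizer_singleton_iff.mpr (Subgroup.mem_centralizer_singleton_iff.mp heb).symm)))
      exact Subgroup.mem_centralizer_singleton_iff.mp (hle hx)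
    by_cases hle : C4 ≤ V
    · exfalso
      have hC := h4 a b (hsq hV a haV) (hsq hV b hbV) (elem_comm hV haV hbV)
      have heq : C4 = V := Subgroup.eq_of_le_of_card_ge hle (by rw [hV4]; exact hC)
      have hVE : V ≤ E := heq ▸ (inf_le_left.trans inf_le_left)
      have hEC : E ≤ C4 := fun e he => ⟨⟨he, Subgroup.mem_centralizer_singleton_iff.mpr (elem_comm hE he (hVE haV)).eq⟩,
        Subgroup.mem_centralizer_singleton_iff.mpr (elem_comm hE he (hVE hbV)).eq⟩
      have := hE32.trans (Subgroup.card_le_of_le (hEC.trans hle))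
      rw [hV4] at this
      norm_num at this
    · obtain ⟨e, he, heV⟩ := SetLike.not_le_iff_exists.mp hle
      have hes : e * e = 1 := hsq hE e he.1.1
      exact ⟨V ⊔ Subgroup.zpowers e, le_sup_left, elem_adjoin hV hes fun x hx => hC4V e he x hx,
        by rw [card_adjoin hV hes heV (fun x hx => hC4V e he x hx), hV4]⟩

end Cfsg.Agent.S1785
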