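import Cfsg.Statements.S1786
import Cfsg.Agent.Lib.TI.LargeRadicalAction
import Cfsg.Agent.Lib.Critical.Basic
import Cfsg.Agent.Lib.PSolvable.Omega

set_option autoImplicit false
set_option linter.style.haveILetI false
open Cfsg

namespace Cfsg.Agent.S1786

/-- Let G be a finite group, V an elementary abelian 2-subgroup of G and M the normalizer of V; write Q for the largest normal 2-subgroup of M. Suppose (1) the generalized Fitting subgroup of M equals Q; (2) V is a maximal abelian normal subgroup of M; (3) every conjugate of V equals V or meets V trivially, and for some g ∈ G the conjugate V' = g V g⁻¹ is different from V and contained in Q. Let P be the centralizer of V in Q, W the subgroup generated by V and V', and H the subgroup generated by P and g P g⁻¹. Then: (a) V is contained in g Q g⁻¹; (b) every non-identity element of W lies in exactly one conjugate of V contained in W, H normalizes W, and H modulo the centralizer of W in H is isomorphic to the special linear group of dimension 2 over the field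 with |V| elements; (c) P = Q, and V equals the Frattini subgroup, the centre and the commutator subgroup of Q. -/
theorem result {G : Type*} [Group G] [Finite G] (V : Subgroup G)
    (hV : Cfsg.IsElementaryAbelian 2 V)
    (h1 : (Cfsg.generalizedFittingSubgroup ↥(Subgroup.normalizer (V : Set G))).map (Subgroup.normalizer (V : Set G)).subtype =
      (Cfsg.pCore 2 ↥(Subgroup.normalizer (V : Set G))).map (Subgroup.normalizer (V : Set G)).subtype)
    (h2 : ∀ A : Subgroup G, V ≤ A → A ≤ Subgroup.normalizer (V : Set G) → IsMulCommutative ↥A →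
      (∀ m ∈ Subgroup.normalizer (V : Set G), ∀ a ∈ A, m * a * m⁻¹ ∈ A) → A = V)
    (hti : ∀ x : G, V.map (MulAut.conj x).toMonoidHom = V ∨ V.map (MulAut.conj x).toMonoidHom ⊓ V = ⊥)
    (g : G) (hg : V.map (MulAut.conj g).toMonoidHom ≠ V)
    (hgQ : V.map (MulAut.conj g).toMonoidHom ≤ (Cfsg.pCore 2 ↥(Subgroup.normalizer (V : Set G))).map (Subgroup.normalizer (V : Set G)).subtype) :
    let Q : Subgroup G := (Cfsg.pCore 2 ↥(Subgroup.normalizer (V : Set G))).map (Subgroup.normalizer (V : Set G)).subtype
    let P : Subgroup G := Q ⊓ Subgroup.centralizer (V : Set G)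
    let W : Subgroup G := V ⊔ V.map (MulAut.conj g).toMonoidHom
    let H : Subgroup G := P ⊔ P.map (MulAut.conj g).toMonoidHom
    V ≤ Q.map (MulAut.conj g).toMonoidHom ∧
      (∀ w ∈ W, w ≠ 1 → ∃! U : Subgroup G, (∃ x : G, U = V.map (MulAut.conj x).toMonoidHom) ∧ U ≤ W ∧ w ∈ U) ∧
      H ≤ Subgroup.normalizer (W : Set G) ∧
      (∀ hN : ((Subgroup.centralizer (W : Set G)).subgroupOf H).Normal, ∃ (F : Type) (_ : Field F) (_ : Fintype F), Fintype.card F = Nat.card ↥V ∧
        Nonempty (↥H ⧸ (Subgroup.centralizer (W : Set G)).subgroupOf H ≃* Matrix.SpecialLinearGroup (Fin 2) F)) ∧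
      P = Q ∧ (frattini ↥Q).map Q.subtype = V ∧ (Subgroup.center ↥Q).map Q.subtype = V ∧ (commutator ↥Q).map Q.subtype = V := by
  classical
  haveI : Fact (Nat.Prime 2) := ⟨Nat.prime_two⟩
  have h : CfsgLib.TI.LargeRadical.Ctx V :=
    { comm := fun a ha b hb => by
        haveI := hV.1
        exact congrArg Subtype.val (mul_comm' (⟨a, ha⟩ : V) ⟨b, hb⟩)
      sq := fun a ha => by rw [← pow_two]; exact hV.2 a ha
      ti := fun x z hz hzV hz1 => by
        rcases hti x with e | e
        · exact e
        · exact absurd (Subgroup.mem_bot.mp (e ▸ Subgroup.mem_inf.mpr ⟨hz, hzV⟩)) hz1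
      maxAb := fun A h3 h4 h5 h6 => h2 A h3 h4 ⟨⟨fun a b => Subtype.ext (h5 a a.2 b b.2)⟩⟩ h6
      selfc := fun x hx hc => by
        have hmem : (⟨x, hx⟩ : ↥(Subgroup.normalizer (V : Set G))) ∈
            Cfsg.generalizedFittingSubgroup ↥(Subgroup.normalizer (V : Set G)) := by
          refine CfsgLib.Layer.centralizer_generalizedFitting_le
            (Subgroup.mem_centralizer_iff.mpr fun t ht => Subtype.ext ?_)
          have ht' : (t : G) ∈ CfsgLib.TI.LargeRadical.rad V := by
            rw [CfsgLib.TI.LargeRadical.rad, ← h1]; exact ⟨t, ht, rfl⟩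
          exact (hc t ht').symm
        rw [CfsgLib.TI.LargeRadical.rad, ← h1]
        exact ⟨_, hmem, rfl⟩ }
  have hne : CfsgLib.TI.LargeRadical.cj V g ≠ V := hg
  have hle : CfsgLib.TI.LargeRadical.cj V g ≤ CfsgLib.TI.LargeRadical.cr V := h.cj_le_cr hne hgQ
  have hPQ := h.cr_eq_rad hne hle
  have hcomm := h.commutator_eq hne hle
  intro Q P W H
  have hmapc : ∀ (K : Subgroup G), (commutator ↥K).map K.subtype = ⁅K, K⁆ := fun K => by
    rw [commutator_def, Subgroup.map_commutator, ← MonoidHom.range_eq_map, Subgroup.range_subtype]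
  refine ⟨?_, ?_, h.sup_normalizes hne hle, fun hN => h.exists_sl2 hne hle hN, hPQ, ?_, ?_, ?_⟩
  · intro v hv
    exact Subgroup.map_mono (inf_le_left : CfsgLib.TI.LargeRadical.cr V ≤ _) (h.le_Ps hne hle hv)
  · intro w hw hw1
    refine existsUnique_of_exists_of_unique ?_ ?_
    · rcases h.covered hne hle hw with hwV | ⟨p, hp, hwp⟩
      · exact ⟨V, ⟨1, (CfsgLib.TI.LargeRadical.cj_one V).symm⟩, le_sup_left, hwV⟩
      · exact ⟨_, ⟨p * g, rfl⟩, h.conjK_le hne hle hp, hwp⟩
    · rintro _ _ ⟨⟨x, rfl⟩, -, hx⟩ ⟨⟨y, rfl⟩, -, hy⟩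
      exact h.ti2 hx hy hw1
  · -- Frattini subgroup
    have hQ2 : IsPGroup 2 ↥Q := CfsgLib.TI.LargeRadical.Ctx.isPGroup_rad
    refine le_antisymm ?_ ?_
    · haveI : (V.subgroupOf Q).Normal := ⟨fun a ha q => by
        have h3 := CfsgLib.TI.LargeRadical.Ctx.rad_le q.2
        exact (Subgroup.mem_normalizer_iff.mp h3 a).mp ha⟩
      have hfr : frattini ↥Q ≤ V.subgroupOf Q := by
        refine CfsgLib.Critical.frattini_le_of_elementary (p := 2) _ ?_ fun x => ?_
        · rw [← Subgroup.map_le_map_iff_of_injective Q.subtype_injective, hmapc,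
            Subgroup.map_subgroupOf_eq_of_le (show V ≤ Q from h.le_radV)]
          exact le_of_eq hcomm
        · show ((x ^ 2 : ↥Q) : G) ∈ V
          rw [pow_two, Subgroup.coe_mul]
          exact h.sq_mem (hPQ.ge x.2)
      refine (Subgroup.map_mono hfr).trans ?_
      rw [Subgroup.map_subgroupOf_eq_of_le (show V ≤ Q from h.le_radV)]
    · refine le_trans (le_of_eq hcomm.symm) ?_
      rw [← hmapc]
      exact Subgroup.map_mono (CfsgLib.PSolvable.commutator_le_frattini hQ2).1
  · -- centre
    refine le_antisymm ?_ ?_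
    · rintro _ ⟨z, hz, rfl⟩
      refine h.central_mem (hPQ.ge z.2) fun t ht => ?_
      exact (congrArg Subtype.val (Subgroup.mem_center_iff.mp hz ⟨t, (Subgroup.mem_inf.mp ht).1⟩)).symm
    · intro v hv
      refine ⟨⟨v, h.le_radV hv⟩, Subgroup.mem_center_iff.mpr fun t => Subtype.ext ?_, rfl⟩
      exact CfsgLib.TI.LargeRadical.Ctx.comm_V (hPQ.ge t.2) hv
  · rw [hmapc]; exact hcomm

end Cfsg.Agent.S1786
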