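import Cfsg.Statements.S1850
import Cfsg.Agent.Lib.Layer.CharP

set_option autoImplicit false
open Cfsg CfsgLib CfsgLib.CharCore

namespace Cfsg.Agent.S1850

/-- Let G be a non-abelian finite simple QTKE-group and T a Sylow 2-subgroup of G. If U is a nontrivial 2-subgroup of G with U ∩ Z(T) ≠ 1, then F*(N_G(U)) = O₂(N_G(U)). -/
theorem result {G : Type*} [Group G] [Finite G] [IsSimpleGroup G]
    (hG : ¬ IsMulCommutative G) (hQ : Cfsg.IsQTKE G) (T : Sylow 2 G) (U : Subgroup G)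
    (hU : IsPGroup 2 ↥U) (hZ : U ⊓ ((T : Subgroup G) ⊓ Subgroup.centralizer ((T : Subgroup G) : Set G)) ≠ ⊥) :
    Subgroup.normalizer (U : Set G) ∈ Cfsg.calHe G := by
  have : Fact (Nat.Prime 2) := ⟨Nat.prime_two⟩
  obtain ⟨z, ⟨hzU, hzT, hzc⟩, hz⟩ :
      ∃ z ∈ U ⊓ ((T : Subgroup G) ⊓ Subgroup.centralizer ((T : Subgroup G) : Set G)),
        orderOf z = 2 := by
    obtain ⟨z, hz, hz2, -⟩ := exists_central_orderOf (hU.to_le inf_le_left) hZ le_rfl
      Subgroup.le_normalizer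
    exact ⟨z, hz, hz2⟩
  rw [calHe, Set.mem_setOf_eq, generalizedFitting_iff]
  refine cp_normalizer_of_mem hU hzU ?_
  set Z := Subgroup.zpowers z with hZdef
  have e : Subgroup.centralizer (Z : Set G) = Subgroup.centralizer ({z} : Set G) := by
    rw [hZdef, Subgroup.zpowers_eq_closure, Subgroup.centralizer_closure]
  have hCN : Subgroup.centralizer ({z} : Set G) ≤ Subgroup.normalizer (Z : Set G) :=
    e ▸ Subgroup.centralizer_le_normalizer _
  refine cp_of_normal hCN (e ▸ Coprime.le_normalizer_centralizer le_rfl)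
    (hQ.2.2 _ ⟨Z, hU.to_le (Subgroup.zpowers_le.mpr hzU), ?_, rfl⟩ ⟨T, ?_⟩)
  · intro h0
    rw [hZdef, Subgroup.zpowers_eq_bot] at h0
    rw [h0, orderOf_one] at hz
    omega
  · exact le_trans (fun t ht => Subgroup.mem_centralizer_singleton_iff.mpr (hzc t ht)) hCN

end Cfsg.Agent.S1850
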