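import Mathlib
import Cfsg.Statements.S2820
import Cfsg.Agent.Lib.Transfer.Basic
import Cfsg.Agent.Lib.PSolvable.Core
import Cfsg.Agent.Lib.Coprime.Action

set_option autoImplicit false
set_option linter.style.haveILetI false
set_option linter.unusedVariables false
open Cfsg

namespace Cfsg.Agent.S2820

theorem map_pCore_le_of_subnormal {X : Type*} [Group X] {p : ℕ} {K : Subgroup X}
    (hK : K.IsSubnormal) : (Cfsg.pCore p K).map K.subtype ≤ Cfsg.pCore p X := by
  induction hK with
  | top => exact CfsgLib.PSolvable.map_pCore_le _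
  | step H K hle hS hn ih =>
    refine le_trans ?_ ih
    intro x hx
    have hxK : x ∈ K := hle (Subgroup.map_subtype_le _ hx)
    refine ⟨⟨x, hxK⟩, ?_, rfl⟩
    refine CfsgLib.Fitting.le_pCore (N := ((Cfsg.pCore p H).map H.subtype).subgroupOf K) ?_
      (((CfsgLib.Fitting.pCore_isPGroup p).map _).comap_of_injective _ K.subtype_injective) hx
    refine ⟨fun a ha c => ?_⟩
    rw [Subgroup.mem_subgroupOf] at ha ⊢
    have hcH : (c : X) ∈ Subgroup.normalizer (H : Set X) :=
      ((Subgroup.normal_subgroupOf_iff_le_normalizer hle).mp hn) c.2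
    exact (Subgroup.mem_normalizer_iff.mp
      (CfsgLib.PSolvable.le_normalizer_map_of_characteristic le_rfl (Cfsg.pCore p H) hcH) _).mp ha

theorem le_pCore_of_subnormal {X : Type*} [Group X] {p : ℕ} {A : Subgroup X} (hA : A.IsSubnormal)
    (hp : IsPGroup p A) : A ≤ Cfsg.pCore p X := fun a ha =>
  map_pCore_le_of_subnormal hA ⟨⟨a, ha⟩,
    CfsgLib.Fitting.le_pCore (N := (⊤ : Subgroup A)) inferInstance (hp.to_subgroup _) trivial, rfl⟩

theorem mem_of_subnormal_index {J : Type*} [Group J] [Finite J] {p : ℕ} [Fact p.Prime] {X : Subgroup J}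
    (hX : X.IsSubnormal) (hidx : ∃ k : ℕ, X.index ∣ p ^ k) :
    ∀ x : J, (orderOf x).Coprime p → x ∈ X := by
  induction hX with
  | top => exact fun _ _ => trivial
  | step H K hle hS hn ih =>
    obtain ⟨k, hk⟩ := hidx
    intro x hx
    have hxK : x ∈ K := ih ⟨k, (Subgroup.index_dvd_of_le hle).trans hk⟩ x hx
    haveI := hn
    have h2 := Subgroup.pow_index_mem (H.subgroupOf K) ⟨x, hxK⟩
    rw [Subgroup.mem_subgroupOf] at h2
    change x ^ H.relIndex K ∈ H at h2
    have hco : (H.relIndex K).Coprime (orderOf x) :=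
      Nat.Coprime.coprime_dvd_left ((Subgroup.relIndex_dvd_index_of_le hle).trans hk) ((hx.pow_right k).symm)
    obtain ⟨m, hm⟩ := exists_pow_eq_self_of_coprime hco
    rw [← hm]
    exact H.pow_mem h2 m

/-- Let A and B be subnormal subgroups of the finite group H with A a p-group and B = O^p(B) (B generated by its elements of order prime to p). Then A normalizes B and B = O^p(AB), the subgroup of ⟨A, B⟩ generated by its elements of order prime to p. -/
theorem result {H : Type*} [Group H] [Finite H] {p : ℕ} [Fact p.Prime] (A B : Subgroup H) (hA : A.IsSubnormal) (hB : B.IsSubnormal) (hAp : IsPGroup p ↥A) (hBres : (Cfsg.pResidual p ↥B).map B.subtype = B) : A ≤ Subgroup.normalizer (B : Set H) ∧ (Cfsg.pResidual p ↥(A ⊔ B)).map (A ⊔ B).subtype = B := by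
  haveI := CfsgLib.Fitting.pCore_normal (G := H) p
  set N := Cfsg.pCore p H with hN
  set J := B ⊔ N with hJ
  have hAN : A ≤ N := le_pCore_of_subnormal hA hAp
  have hBJ : B ≤ J := le_sup_left
  have hidx : ∃ k : ℕ, (B.subgroupOf J).index ∣ p ^ k := by
    obtain ⟨k, hk⟩ := IsPGroup.iff_card.mp (CfsgLib.Fitting.pCore_isPGroup (G := H) p)
    refine ⟨k, ?_⟩
    change B.relIndex (B ⊔ N) ∣ _
    have h1 := CfsgLib.Coprime.card_sup_mul_card_inf (K := N) (S := B) (by
      rw [Subgroup.normalizer_eq_top]; exact le_top)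
    rw [sup_comm] at h1
    have h2 : Nat.card B * B.relIndex (B ⊔ N) = Nat.card ↥(B ⊔ N) := by
      rw [← Subgroup.relIndex_bot_left, ← Subgroup.relIndex_bot_left]
      exact Subgroup.relIndex_mul_relIndex _ _ _ bot_le le_sup_left
    refine ⟨Nat.card ↥(N ⊓ B), ?_⟩
    rw [← hk]
    refine Nat.eq_of_mul_eq_mul_left (Nat.card_pos (α := B)) ?_
    rw [← mul_assoc, h2, h1, mul_comm]
  have hmemB : ∀ x ∈ J, (orderOf x).Coprime p → x ∈ B := fun x hxJ hx =>
    mem_of_subnormal_index hB.subgroupOf hidx ⟨x, hxJ⟩ (by rwa [← Subgroup.orderOf_coe])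
  have hBgen : ∀ C : Subgroup H, (∀ x ∈ B, (orderOf x).Coprime p → x ∈ C) → B ≤ C := by
    intro C hC
    conv_lhs => rw [← hBres]
    rw [Cfsg.pResidual, MonoidHom.map_closure, Subgroup.closure_le]
    rintro _ ⟨x, hx, rfl⟩
    exact hC x x.2 (by rwa [Subgroup.orderOf_coe])
  have hJB : J ≤ Subgroup.normalizer (B : Set H) := by
    intro c hc
    refine Subgroup.mem_normalizer_fintype fun b hb => ?_
    refine hBgen (B.comap (MulAut.conj c).toMonoidHom) (fun x hx hxo => ?_) hb
    refine hmemB _ (J.mul_mem (J.mul_mem hc (hBJ hx)) (J.inv_mem hc)) ?_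
    rw [
      orderOf_injective (MulAut.conj c).toMonoidHom (MulAut.conj c).injective]
    exact hxo
  refine ⟨(hAN.trans le_sup_right).trans hJB, le_antisymm ?_ (hBgen _ fun x hx hxo => ?_)⟩
  · rw [Cfsg.pResidual, MonoidHom.map_closure, Subgroup.closure_le]
    rintro _ ⟨x, hx, rfl⟩
    exact hmemB x (sup_le (hAN.trans le_sup_right) hBJ x.2) (by rwa [Subgroup.orderOf_coe])
  · exact ⟨⟨x, Subgroup.mem_sup_right hx⟩, CfsgLib.Transfer.mem_pResidual_of_coprime
      (by rwa [← Subgroup.orderOf_coe]), rfl⟩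

end Cfsg.Agent.S2820
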