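import Cfsg.Statements.S1851
import Cfsg.Agent.S2820
import Cfsg.Agent.Lib.Layer.CharPSubnormal
import Cfsg.Agent.Lib.Layer.Basic
import Cfsg.Agent.Lib.PReduced.Largest
-- import your own Cfsg.Agent.* helpers here

set_option autoImplicit false
open Cfsg CfsgLib CfsgLib.CharCore

namespace Cfsg.Agent.S1851

section
variable {G : Type*} [Group G] [Finite G]

theorem pResidual_eq_top_of_perfect {X : Type*} [Group X] [Finite X] {p : ℕ} [Fact p.Prime]
    (hX : ⁅(⊤ : Subgroup X), (⊤ : Subgroup X)⁆ = ⊤) : Cfsg.pResidual p X = ⊤ := by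
  haveI := Transfer.pResidual_normal p X
  by_contra hne
  haveI : Nontrivial (X ⧸ Cfsg.pResidual p X) := QuotientGroup.nontrivial_iff.mpr hne
  haveI : Group.IsPerfect X := ⟨hX⟩
  haveI : Group.IsPerfect (X ⧸ Cfsg.pResidual p X) :=
    Group.IsPerfect.ofSurjective (QuotientGroup.mk'_surjective _)
  exact Group.IsPerfect.not_isNilpotent (X ⧸ Cfsg.pResidual p X) Transfer.isPGroup_quotient_pResidual.isNilpotent

theorem mem_data {S K : Subgroup G} (hK : K ∈ Cfsg.calL S) :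
    K ≠ ⊥ ∧ ⁅K, K⁆ = K ∧ (K.subgroupOf (K ⊔ S)).IsSubnormal := by
  obtain ⟨⟨h1, h2, h3, -⟩, -, -⟩ := hK
  refine ⟨fun e => h1 (by rw [e, Subgroup.bot_subgroupOf]), ?_, h3⟩
  have h := congrArg (Subgroup.map (K ⊔ S).subtype) h2
  rwa [Subgroup.map_commutator, Subgroup.map_subgroupOf_eq_of_le le_sup_left] at h

theorem cp_join (hQ : Cfsg.IsQTKE G) (T : Sylow 2 G) {K : Subgroup G}
    (hK : K ∈ Cfsg.calL (T : Subgroup G)) : Cp 2 ↥(K ⊔ (T : Subgroup G)) := by
  haveI : Fact (Nat.Prime 2) := ⟨Nat.prime_two⟩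
  set H := K ⊔ (T : Subgroup G) with hH
  set A := Cfsg.pCoreOf 2 H with hA
  set N := Subgroup.normalizer (A : Set G) with hN
  have hA1 : A ≠ ⊥ := fun e => hK.2.2 ((Subgroup.map_eq_bot_iff_of_injective _ H.subtype_injective).mp e)
  have hHN : H ≤ N := PReduced.le_normalizer_pCoreOf 2 H
  have hTN : (T : Subgroup G) ≤ N := le_sup_right.trans hHN
  have hcp : Cp 2 ↥N := hQ.2.2 _ ⟨A, PReduced.isPGroup_pCoreOf 2 H, hA1, rfl⟩ ⟨T, hTN⟩
  have hBT : Cfsg.pCoreOf 2 N ≤ (T : Subgroup G) := PReduced.pCoreOf_le_sylow T hTN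
  have hBA : Cfsg.pCoreOf 2 N ≤ A :=
    PReduced.le_pCoreOf (hBT.trans le_sup_right) (hHN.trans (PReduced.le_normalizer_pCoreOf 2 N))
      (PReduced.isPGroup_pCoreOf 2 N)
  intro c hc
  have h1 : (⟨c, hHN c.2⟩ : N) ∈ Cfsg.pCore 2 N := hcp fun z hz => Subtype.ext (by
    obtain ⟨w, hw, hwz⟩ := hBA ⟨z, hz, rfl⟩
    have h2 := congrArg Subtype.val (hc w hw)
    show (z : G) * c = c * z
    rw [show (z : G) = (w : G) from hwz.symm]
    exact h2)
  obtain ⟨w, hw, hwc⟩ := hBA ⟨_, h1, rfl⟩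
  exact (Subtype.ext hwc : w = c) ▸ hw

theorem mem_calX (hQ : Cfsg.IsQTKE G) (T : Sylow 2 G) {K : Subgroup G}
    (hK : K ∈ Cfsg.calL (T : Subgroup G)) : K ∈ Cfsg.calX G := by
  haveI : Fact (Nat.Prime 2) := ⟨Nat.prime_two⟩
  obtain ⟨h1, h2, h3⟩ := mem_data hK
  refine ⟨h1, ?_, ?_⟩
  · refine le_antisymm ((Subgroup.closure_le _).mpr fun x hx => hx.1) ?_
    have hp : Cfsg.pResidual 2 K = ⊤ := by
      refine pResidual_eq_top_of_perfect (Subgroup.map_injective K.subtype_injective ?_)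
      rw [Subgroup.map_commutator, ← MonoidHom.range_eq_map, Subgroup.range_subtype, h2]
    have h := Subgroup.map_mono (f := K.subtype) hp.ge
    rw [← MonoidHom.range_eq_map, Subgroup.range_subtype] at h
    refine h.trans ?_
    rw [Cfsg.pResidual, MonoidHom.map_closure]
    refine Subgroup.closure_mono ?_
    rintro _ ⟨x, hx, rfl⟩
    refine ⟨x.2, ?_⟩
    show Odd (orderOf ((x : K) : G))
    rw [Subgroup.orderOf_coe]
    exact Nat.coprime_two_right.mp hx
  · show Cfsg.generalizedFittingSubgroup K = Cfsg.pCore 2 K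
    rw [generalizedFitting_iff]
    exact cp_congr (Subgroup.subgroupOfEquivOfLe le_sup_left) (cp_of_isSubnormal h3 (cp_join hQ T hK))

theorem pCoreTwoOf_eq (T : Sylow 2 G) {K : Subgroup G} (hK : K ∈ Cfsg.calL (T : Subgroup G))
    (hKn : Cfsg.pCoreOf 2 (K ⊔ (T : Subgroup G)) ≤ Subgroup.normalizer (K : Set G)) :
    Cfsg.pCoreTwoOf K = Cfsg.pCoreOf 2 (K ⊔ (T : Subgroup G)) ⊓ K := by
  haveI : Fact (Nat.Prime 2) := ⟨Nat.prime_two⟩
  set H := K ⊔ (T : Subgroup G) with hH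
  refine le_antisymm (le_inf ?_ (Subgroup.map_subtype_le _)) ?_
  · have hsn : ((Cfsg.pCoreTwoOf K).subgroupOf H).IsSubnormal := by
      refine Subgroup.IsSubnormal.trans (K := K.subgroupOf H)
        (Subgroup.comap_mono (Subgroup.map_subtype_le _)) ?_ (mem_data hK).2.2
      refine Subgroup.Normal.isSubnormal ?_
      refine (Subgroup.normal_subgroupOf_iff_le_normalizer (Subgroup.comap_mono (Subgroup.map_subtype_le _))).mpr ?_
      intro w hw
      exact Subgroup.mem_normalizer_iff.mpr fun v =>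
        Subgroup.mem_normalizer_iff.mp (PReduced.le_normalizer_pCoreOf 2 K hw) (v : G)
    have h := Subgroup.map_mono (f := H.subtype) (Layer.le_pCore_of_isSubnormal hsn
      (((Fitting.pCore_isPGroup (G := ↥K) 2).map _).comap_of_injective _ H.subtype_injective))
    have hle : Cfsg.pCoreTwoOf K ≤ H := (Subgroup.map_subtype_le _).trans le_sup_left
    rwa [Subgroup.map_subgroupOf_eq_of_le hle] at h
  · exact PReduced.le_pCoreOf inf_le_right
      (Coprime.le_normalizer_inf_of_le (le_sup_left.trans (PReduced.le_normalizer_pCoreOf 2 H))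
        Subgroup.le_normalizer) ((PReduced.isPGroup_pCoreOf 2 H).to_le inf_le_left)

theorem core_le_normalizer (T : Sylow 2 G) {K : Subgroup G} (hK : K ∈ Cfsg.calL (T : Subgroup G)) :
    Cfsg.pCoreOf 2 (K ⊔ (T : Subgroup G)) ≤ Subgroup.normalizer (K : Set G) := by
  haveI : Fact (Nat.Prime 2) := ⟨Nat.prime_two⟩
  obtain ⟨-, h2, h3⟩ := mem_data hK
  set H := K ⊔ (T : Subgroup G) with hH
  set B := K.subgroupOf H with hB
  have hres : (Cfsg.pResidual 2 ↥B).map B.subtype = B := by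
    rw [pResidual_eq_top_of_perfect (Subgroup.map_injective B.subtype_injective ?_),
      ← MonoidHom.range_eq_map, Subgroup.range_subtype]
    rw [Subgroup.map_commutator, ← MonoidHom.range_eq_map, Subgroup.range_subtype, hK.1.2.1]
  have h := (Cfsg.Agent.S2820.result (Cfsg.pCore 2 ↥H) B
    ((Fitting.pCore_normal (G := ↥H) 2).isSubnormal) h3 (Fitting.pCore_isPGroup 2) hres).1
  rintro _ ⟨r, hr, rfl⟩
  have h4 := Subgroup.le_normalizer_map H.subtype (Subgroup.mem_map_of_mem _ (h hr))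
  rwa [hB, Subgroup.map_subgroupOf_eq_of_le le_sup_left] at h4

theorem upward (hQ : Cfsg.IsQTKE G) (T : Sylow 2 G) {L K : Subgroup G}
    (hL : L ∈ Cfsg.calLf (T : Subgroup G)) (hK : K ∈ Cfsg.calL (T : Subgroup G)) (hLK : L ≤ K) :
    K ∈ Cfsg.calLf (T : Subgroup G) := by
  haveI : Fact (Nat.Prime 2) := ⟨Nat.prime_two⟩
  refine ⟨hK, mem_calX hQ T hK, fun hV => ?_⟩
  obtain ⟨hLl, hLX, hVL⟩ := hL
  apply hVL
  set HK := K ⊔ (T : Subgroup G) with hHK
  set HL := L ⊔ (T : Subgroup G) with hHL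
  set R := Cfsg.pCoreOf 2 HK with hR
  set SL := Cfsg.pCoreOf 2 HL with hSL
  have hHH : HL ≤ HK := sup_le_sup_right hLK _
  have hRS : R ≤ SL := PReduced.le_pCoreOf ((PReduced.pCoreOf_le_sylow T le_sup_right).trans le_sup_right)
    (hHH.trans (PReduced.le_normalizer_pCoreOf 2 HK)) (PReduced.isPGroup_pCoreOf 2 HK)
  have hSLT : SL ≤ (T : Subgroup G) := PReduced.pCoreOf_le_sylow T le_sup_right
  -- `K` centralizes `Ω₁(Z(O₂(KT)))`
  set ZR := Cfsg.omegaOne 2 (R ⊓ Subgroup.centralizer (R : Set G)) with hZR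
  have hZRle : ZR ≤ R ⊓ Subgroup.centralizer (R : Set G) := (Subgroup.closure_le _).mpr fun x hx => hx.1
  have hKR : R ≤ Subgroup.normalizer (K : Set G) := core_le_normalizer T hK
  have hOK := pCoreTwoOf_eq T hK hKR
  have hinv : K ≤ Subgroup.normalizer (ZR : Set G) := fun k hk => Subgroup.mem_normalizer_fintype fun z hz => by
    have hkR := PReduced.le_normalizer_pCoreOf 2 HK ((le_sup_left : K ≤ HK) hk)
    have hle : ZR ≤ ZR.comap (MulAut.conj k).toMonoidHom := (Subgroup.closure_le _).mpr fun w hw =>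
      Subgroup.subset_closure ⟨⟨(Subgroup.mem_normalizer_iff.mp hkR w).mp hw.1.1,
        (Subgroup.mem_normalizer_iff.mp (Coprime.le_normalizer_centralizer le_rfl hkR) w).mp hw.1.2⟩,
        by show (MulAut.conj k w) ^ 2 = 1; rw [← map_pow, hw.2, map_one]⟩
    exact hle hz
  have hZRK : ⁅K, ZR⁆ = ⊥ := by
    refine Layer.commutator_eq_bot_of_perfect (mem_data hK).2.1 ?_
    have h1 : ⁅K, ZR⁆ ≤ ZR ⊓ K := le_inf
      (Subgroup.commutator_comm K ZR ▸ Coprime.commutator_le_left_of_le_normalizer hinv)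
      (Coprime.commutator_le_left_of_le_normalizer ((hZRle.trans inf_le_left).trans hKR))
    have hexp : ∀ z ∈ ZR, z ^ 2 = 1 := by
      intro z hz
      induction hz using Subgroup.closure_induction with
      | mem w hw => exact hw.2
      | one => exact one_pow 2
      | mul a b ha hb iha ihb =>
        have hc : Commute a b := (hZRle hb).2 a (hZRle ha).1
        rw [hc.mul_pow, iha, ihb, one_mul]
      | inv a ha ih => rw [inv_pow, ih, inv_one]
    have h2 : ZR ⊓ K ≤ Cfsg.omegaOne 2 (Cfsg.pCoreTwoOf K ⊓ Subgroup.centralizer (Cfsg.pCoreTwoOf K : Set G)) := by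
      rintro z ⟨hz, hzK⟩
      refine Subgroup.subset_closure ⟨⟨?_, ?_⟩, hexp z hz⟩
      · rw [hOK]; exact ⟨(hZRle hz).1, hzK⟩
      · intro b hb
        exact (hZRle hz).2 b ((hOK.le hb).1)
    rw [← le_bot_iff, ← hV]
    exact Subgroup.commutator_mono (h1.trans h2) le_rfl
  -- transfer to `L`
  set P := Cfsg.pCoreTwoOf L with hP
  set Z0 := Cfsg.omegaOne 2 (P ⊓ Subgroup.centralizer (P : Set G)) with hZ0
  have hZ0le : Z0 ≤ P ⊓ Subgroup.centralizer (P : Set G) := (Subgroup.closure_le _).mpr fun x hx => hx.1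
  have hLR : SL ≤ Subgroup.normalizer (L : Set G) := core_le_normalizer T hLl
  have hPS : P = SL ⊓ L := pCoreTwoOf_eq T hLl hLR
  have hZ0p : IsPGroup 2 Z0 :=
    (PReduced.isPGroup_pCoreOf 2 HL).to_le ((hZ0le.trans inf_le_left).trans (hPS.le.trans inf_le_left))
  have hnorm : ∀ g ∈ Subgroup.normalizer (P : Set G), g ∈ Subgroup.normalizer (Z0 : Set G) := fun g hg =>
    Subgroup.mem_normalizer_fintype fun z hz => by
      have hle : Z0 ≤ Z0.comap (MulAut.conj g).toMonoidHom := (Subgroup.closure_le _).mpr fun w hw =>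
        Subgroup.subset_closure ⟨⟨(Subgroup.mem_normalizer_iff.mp hg w).mp hw.1.1,
          (Subgroup.mem_normalizer_iff.mp (Coprime.le_normalizer_centralizer le_rfl hg) w).mp hw.1.2⟩,
          by show (MulAut.conj g w) ^ 2 = 1; rw [← map_pow, hw.2, map_one]⟩
      exact hle hz
  have hexp0 : ∀ z ∈ Z0, z ^ 2 = 1 := by
    intro z hz
    induction hz using Subgroup.closure_induction with
    | mem w hw => exact hw.2
    | one => exact one_pow 2
    | mul a b ha hb iha ihb =>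
      have hc : Commute a b := (hZ0le hb).2 a (hZ0le ha).1
      rw [hc.mul_pow, iha, ihb, one_mul]
    | inv a ha ih => rw [inv_pow, ih, inv_one]
  have hLP : L ≤ Subgroup.normalizer (P : Set G) := PReduced.le_normalizer_pCoreOf 2 L
  have hSP : SL ≤ Subgroup.normalizer (P : Set G) := by
    rw [hPS]; exact Coprime.le_normalizer_inf_of_le Subgroup.le_normalizer hLR
  have hW : Z0 ⊓ Subgroup.centralizer (SL : Set G) ≤ Subgroup.centralizer (L : Set G) := by
    rintro w ⟨hw, hwc⟩ l hl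
    have hwL : w ∈ L := (hPS.le ((hZ0le hw).1)).2
    have hwH : w ∈ HL := Subgroup.mem_sup_left hwL
    have hwS : w ∈ SL := by
      have h := cp_join hQ T hLl (show (⟨w, hwH⟩ : HL) ∈ Subgroup.centralizer (Cfsg.pCore 2 ↥HL : Set ↥HL) from
        fun v hv => Subtype.ext (hwc (v : G) ⟨v, hv, rfl⟩))
      exact ⟨_, h, rfl⟩
    have hwR : w ∈ R := by
      have h := cp_join hQ T hK (show (⟨w, hHH hwH⟩ : HK) ∈ Subgroup.centralizer (Cfsg.pCore 2 ↥HK : Set ↥HK) from
        fun v hv => Subtype.ext (hwc (v : G) (hRS ⟨v, hv, rfl⟩)))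
      exact ⟨_, h, rfl⟩
    have hwZ : w ∈ ZR := Subgroup.subset_closure ⟨⟨hwR, fun v hv => hwc v (hRS hv)⟩, hexp0 w hw⟩
    exact (Subgroup.commutator_eq_bot_iff_le_centralizer.mp hZRK (hLK hl) w hwZ).symm
  show ⁅Z0, L⁆ = ⊥
  rw [Subgroup.commutator_eq_bot_iff_le_centralizer, Subgroup.le_centralizer_iff, ← hLX.2.1]
  refine (Subgroup.closure_le _).mpr ?_
  rintro x ⟨hxL, hxo⟩
  -- an element of odd order centralizes `Z0`
  set V := Z0 ⊓ Subgroup.centralizer ({x} : Set G) with hVdef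
  suffices hall : Z0 ≤ V from fun z hz => (Subgroup.mem_centralizer_singleton_iff.mp (hall hz).2)
  have hd : ∀ s ∈ SL, ∀ z ∈ Z0, x * (s * z * s⁻¹) * x⁻¹ = s * (x * z * x⁻¹) * s⁻¹ := by
    intro s hs z hz
    have hdP : s⁻¹ * x⁻¹ * s * x ∈ P := by
      rw [hPS]
      refine ⟨?_, ?_⟩
      · rw [show s⁻¹ * x⁻¹ * s * x = s⁻¹ * (x⁻¹ * s * x) by group]
        exact SL.mul_mem (SL.inv_mem hs) ((Subgroup.mem_normalizer_iff''.mp
          (PReduced.le_normalizer_pCoreOf 2 HL (Subgroup.mem_sup_left hxL)) s).mp hs)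
      · exact L.mul_mem ((Subgroup.mem_normalizer_iff''.mp (hLR hs) _).mp (L.inv_mem hxL)) hxL
    have hz' : x * z * x⁻¹ ∈ Z0 := (Subgroup.mem_normalizer_iff.mp (hnorm x (hLP hxL)) z).mp hz
    have h1 : s⁻¹ * x⁻¹ * s * x * z = z * (s⁻¹ * x⁻¹ * s * x) := ((hZ0le hz).2 _ hdP)
    calc x * (s * z * s⁻¹) * x⁻¹ = x * s * (z * (s⁻¹ * x⁻¹ * s * x)) * x⁻¹ * s⁻¹ * x * x⁻¹ := by group
      _ = x * s * (s⁻¹ * x⁻¹ * s * x * z) * x⁻¹ * s⁻¹ * x * x⁻¹ := by rw [h1]
      _ = s * (x * z * x⁻¹) * s⁻¹ := by group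
  classical
  haveI := Fintype.ofFinite (Subgroup G)
  by_contra hne
  obtain ⟨U, hU, hmin⟩ := Finset.exists_min_image
    (Finset.univ.filter fun U : Subgroup G => U ≤ Z0 ∧ SL ≤ Subgroup.normalizer (U : Set G) ∧ ¬ U ≤ V)
    (fun U => Nat.card U)
    ⟨Z0, Finset.mem_filter.mpr ⟨Finset.mem_univ _, le_rfl, fun s hs => hnorm s (hSP hs), hne⟩⟩
  obtain ⟨-, hUZ, hUS, hUV⟩ := Finset.mem_filter.mp hU
  have hU1 : U ≠ ⊥ := fun e => hUV (e ▸ bot_le)
  haveI : Group.IsNilpotent ↥(SL ⊔ U) :=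
    (IsPGroup.to_sup_of_normal_right' (PReduced.isPGroup_pCoreOf 2 HL) (hZ0p.to_le hUZ) hUS).isNilpotent
  have hlt : ⁅U, SL⁆ < U := Coprime.commutator_lt_of_isNilpotent (X := SL ⊔ U) le_sup_right le_sup_left hUS hU1
  have hcV : ⁅U, SL⁆ ≤ V := by
    by_contra h
    exact absurd (hmin _ (Finset.mem_filter.mpr ⟨Finset.mem_univ _, hlt.le.trans hUZ,
      Coprime.le_normalizer_commutator hUS Subgroup.le_normalizer, h⟩))
      (not_le.mpr (Set.Finite.card_lt_card (Set.toFinite _) hlt))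
  apply hUV
  intro u hu
  refine ⟨hUZ hu, Subgroup.mem_centralizer_singleton_iff.mpr ?_⟩
  have huZ := hUZ hu
  set c := x * u * x⁻¹ * u⁻¹ with hc
  have hcZ : c ∈ Z0 :=
    Z0.mul_mem ((Subgroup.mem_normalizer_iff.mp (hnorm x (hLP hxL)) u).mp huZ) (Z0.inv_mem huZ)
  have hcS : c ∈ Subgroup.centralizer (SL : Set G) := by
    intro s hs
    set v := u⁻¹ * (s * u * s⁻¹) with hv
    have hvV : v ∈ V := by
      rw [hv, show u⁻¹ * (s * u * s⁻¹) = u⁻¹ * s * u⁻¹⁻¹ * s⁻¹ by group]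
      exact hcV (Subgroup.commutator_mem_commutator (U.inv_mem hu) hs)
    have hsu : s * u * s⁻¹ = u * v := by rw [hv, mul_inv_cancel_left]
    have hxv : x * v * x⁻¹ = v := by
      rw [← Subgroup.mem_centralizer_singleton_iff.mp hvV.2, mul_inv_cancel_right]
    have h1 : s * c * s⁻¹ = c := by
      calc s * c * s⁻¹ = s * (x * u * x⁻¹) * s⁻¹ * (s * u * s⁻¹)⁻¹ := by rw [hc]; group
        _ = x * (u * v) * x⁻¹ * (u * v)⁻¹ := by rw [← hd s hs u huZ, hsu]
        _ = x * u * x⁻¹ * (x * v * x⁻¹) * v⁻¹ * u⁻¹ := by group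
        _ = c := by rw [hxv, hc]; group
    calc s * c = s * c * s⁻¹ * s := by group
      _ = c * s := by rw [h1]
  have hcx : Commute x c := hW ⟨hcZ, hcS⟩ x hxL
  have hxu : x * u * x⁻¹ = c * u := by rw [hc, inv_mul_cancel_right]
  have h := Coprime.pow_conj_eq (a := x) (k := u) (d := c) hxu hcx (orderOf x)
  rw [pow_orderOf_eq_one, one_mul, inv_one, mul_one, right_eq_mul] at h
  have hc1 : c = 1 := orderOf_eq_one_iff.mp (Nat.eq_one_of_dvd_coprimes (Nat.coprime_two_right.mpr hxo)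
    (orderOf_dvd_of_pow_eq_one h) (orderOf_dvd_of_pow_eq_one (hexp0 c hcZ)))
  rw [hc1, one_mul] at hxu
  exact (mul_inv_eq_iff_eq_mul.mp hxu).symm

end

/-- Let G be a non-abelian finite simple QTKE-group and T a Sylow 2-subgroup of G, and let L be a member of ℒ_f(G, T) (a member of ℒ(G, T) that lies in 𝒳 — L ≠ 1, L = O²(L), F*(L) = O₂(L) — and acts nontrivially on Ω₁(Z(O₂(L)))). Then (1) every member K of ℒ(G, T) containing L is again in ℒ_f(G, T) (a sharper form of (1) also compares the modules [Ω₁(Z(R)), L] and [Ω₁(Z(R')), K] for suitable 2-subgroups R, R'; that comparison is not included); and (2) if L is maximal under inclusion among the members of ℒ_f(G, T), then L is a maximal member of ℒ(G, T), hence a member of ℒ_f*(G, T). -/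
theorem result {G : Type*} [Group G] [Finite G] [IsSimpleGroup G]
    (hG : ¬ IsMulCommutative G) (hQ : Cfsg.IsQTKE G) (T : Sylow 2 G) (L : Subgroup G)
    (hL : L ∈ Cfsg.calLf (T : Subgroup G)) :
    (∀ K ∈ Cfsg.calL (T : Subgroup G), L ≤ K → K ∈ Cfsg.calLf (T : Subgroup G)) ∧
    ((∀ K ∈ Cfsg.calLf (T : Subgroup G), L ≤ K → K = L) → L ∈ Cfsg.calLfMax (T : Subgroup G)) := by
  have h1 := fun K hK hLK => upward (K := K) hQ T hL hK hLK
  exact ⟨h1, fun h => ⟨⟨hL.1, fun K hK hLK => h K (h1 K hK hLK) hLK⟩, hL.2⟩⟩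

end Cfsg.Agent.S1851
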