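import Cfsg.Statements.S1892
import Cfsg.Agent.Lib.Layer.Characteristic

set_option autoImplicit false
open Cfsg CfsgLib

namespace Cfsg.Agent.S1892

open scoped commutatorElement

/-- Let S be a finite p-solvable group with no nontrivial normal subgroup of order prime to p, A a p-subgroup of S, and Q a nontrivial A-invariant subgroup of order prime to p with [A, Q] = Q. Then the commutator [O_p(S), A, Q] is nontrivial. -/
theorem result {S : Type*} [Group S] [Finite S] {p : ℕ} [Fact p.Prime]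
    (hS : Cfsg.IsPSolvable p S) (hred : Cfsg.pPrimeCore p S = ⊥)
    (A Q : Subgroup S) (hA : IsPGroup p A) (hQ : ¬ p ∣ Nat.card Q) (hQ1 : Q ≠ ⊥)
    (hinv : ∀ a ∈ A, ∀ x ∈ Q, a * x * a⁻¹ ∈ Q) (hAQ : ⁅A, Q⁆ = Q) :
    ⁅⁅Cfsg.pCore p S, A⁆, Q⁆ ≠ ⊥ := by
  intro h
  haveI := Fitting.pCore_normal (G := S) p
  set O := pCore p S with hO
  set W := ⁅O, A⁆ with hW
  have hWO : W ≤ O := Subgroup.commutator_le_left O A
  have hQW : W ≤ Subgroup.centralizer (Q : Set S) :=
    Subgroup.commutator_eq_bot_iff_le_centralizer.mp h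
  have hQc : (Nat.card Q).Coprime p :=
    ((Fact.out : p.Prime).coprime_iff_not_dvd.mpr hQ).symm
  -- elements acting trivially on `O` modulo `W`
  have hOW : O ≤ Subgroup.normalizer (W : Set S) := Subgroup.normalizer_commutator_ge_left O A
  have key : ⁅O, ⁅A, Q⁆⁆ ≤ W := by
    rw [Subgroup.commutator_le]
    intro o ho y hy
    have hy' : y ∈ Subgroup.closure {g | ∃ a ∈ A, ∃ x ∈ Q, ⁅a, x⁆ = g} := hy
    induction hy' using Subgroup.closure_induction generalizing o with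
    | mem g hg =>
      obtain ⟨a, ha, x, hx, rfl⟩ := hg
      have hfix : ∀ w ∈ W, x * w * x⁻¹ = w := fun w hw => by
        rw [hQW hw x hx, mul_inv_cancel_right]
      have hwa : ∀ o ∈ O, ⁅a, o⁆ ∈ W := fun o ho => by
        rw [hW, Subgroup.commutator_comm]
        exact Subgroup.commutator_mem_commutator ha ho
      set o₁ := a⁻¹ * o * a with ho₁
      have ho₁O : o₁ ∈ O := Subgroup.Normal.conj_mem' inferInstance o ho a
      set o₂ := x⁻¹ * o₁ * x with ho₂
      have ho₂O : o₂ ∈ O := Subgroup.Normal.conj_mem' inferInstance _ ho₁O x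
      have e : a * x * a⁻¹ * x⁻¹ * o * (a * x * a⁻¹ * x⁻¹)⁻¹ * o⁻¹ =
          ⁅a, x * (a⁻¹ * (x⁻¹ * o * x) * a) * x⁻¹⁆ * (x * ⁅a⁻¹, x⁻¹ * o * x⁆ * x⁻¹) := by
        simp only [commutatorElement_def]; group
      have h1 : a * x * a⁻¹ * x⁻¹ * o * (a * x * a⁻¹ * x⁻¹)⁻¹ * o⁻¹ ∈ W := by
        rw [e]
        refine W.mul_mem (hwa _ (Subgroup.Normal.conj_mem inferInstance _
          (Subgroup.Normal.conj_mem' inferInstance _ (Subgroup.Normal.conj_mem' inferInstance o ho x) a) x)) ?_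
        have h2 : ⁅a⁻¹, x⁻¹ * o * x⁆ ∈ W := by
          rw [hW, Subgroup.commutator_comm]
          exact Subgroup.commutator_mem_commutator (A.inv_mem ha)
            (Subgroup.Normal.conj_mem' inferInstance o ho x)
        rw [hfix _ h2]
        exact h2
      have h3 := W.inv_mem h1
      rwa [show ⁅o, ⁅a, x⁆⁆ = (a * x * a⁻¹ * x⁻¹ * o * (a * x * a⁻¹ * x⁻¹)⁻¹ * o⁻¹)⁻¹ by
        simp only [commutatorElement_def]; group]
    | one => simp
    | mul g g' hg hg' ih ih' =>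
      have hgQ : g ∈ Q := hAQ ▸ hg
      have h1 := ih o ho hg
      have h2 := ih' o ho hg'
      rw [show ⁅o, g * g'⁆ = ⁅o, g⁆ * (g * ⁅o, g'⁆ * g⁻¹) by
        simp only [commutatorElement_def]; group,
        hQW h2 g hgQ, mul_inv_cancel_right]
      exact W.mul_mem h1 h2
    | inv g hg ih =>
      have hgQ : g ∈ Q := hAQ ▸ hg
      have h1 := W.inv_mem (ih o ho hg)
      rw [show ⁅o, g⁻¹⁆ = g⁻¹ * ⁅o, g⁆⁻¹ * g by simp only [commutatorElement_def]; group]
      rw [show g⁻¹ * ⁅o, g⁆⁻¹ * g = ⁅o, g⁆⁻¹ by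
        rw [mul_assoc, ← hQW h1 g hgQ, inv_mul_cancel_left]]
      exact h1
  rw [hAQ] at key
  have h4 : ⁅⁅O, Q⁆, Q⁆ = ⊥ := eq_bot_iff.mpr ((Subgroup.commutator_mono key le_rfl).trans h.le)
  have h5 := Coprime.commutator_eq_bot_of_commutator_commutator (A := Q) (K := O)
    Subgroup.le_normalizer_of_normal
    (PSolvable.coprime_card_of_isPGroup (Fitting.pCore_isPGroup p) hQc).symm h4
  rw [Subgroup.commutator_comm, Subgroup.commutator_eq_bot_iff_le_centralizer] at h5
  refine hQ1 ((Subgroup.eq_bot_iff_forall Q).mpr fun x hx =>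
    PSolvable.eq_one_of_mem_of_mem (Fitting.pCore_isPGroup p) hQc
      (PSolvable.centralizer_pCore_le hS hred (h5 hx)) hx)

end Cfsg.Agent.S1892
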