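import Mathlib
import Cfsg.Statements.S1893
import Cfsg.Agent.Lib.Qd.Stable
import Cfsg.Agent.Lib.Fitting.Basic
import Cfsg.Agent.Lib.PSolvable.Constrained
import Cfsg.Agent.Lib.Classical.Transvection

set_option autoImplicit false
set_option linter.style.haveILetI false
set_option linter.unusedVariables false
open scoped MatrixGroups commutatorElement
open Cfsg

namespace Cfsg.Agent.S1893

variable {S : Type*} [Group S] [Finite S]

theorem le_of_prime_pow {A B : Subgroup S}
    (h : ∀ q : ℕ, q.Prime → ∀ x ∈ A, (∃ k : ℕ, orderOf x = q ^ k) → x ∈ B) : A ≤ B := by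
  have hc : Nat.card A ∣ Nat.card (A ⊓ B : Subgroup S) := by
    refine (Nat.dvd_iff_prime_pow_dvd_dvd _ _).mpr fun q k hq hd => ?_
    haveI := Fact.mk hq
    obtain ⟨Q, hQ⟩ := Sylow.exists_subgroup_card_pow_prime q hd
    have hle : Q.map A.subtype ≤ A ⊓ B := by
      rintro _ ⟨y, hy, rfl⟩
      refine ⟨y.2, h q hq _ y.2 ?_⟩
      have h1 : orderOf y ∣ q ^ k := hQ ▸ Subgroup.orderOf_dvd_natCard Q hy
      obtain ⟨i, -, hi⟩ := (Nat.dvd_prime_pow hq).mp h1
      exact ⟨i, by rw [← hi]; exact Subgroup.orderOf_coe y⟩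
    have := Subgroup.card_dvd_of_le hle
    rwa [Subgroup.card_map_of_injective A.subtype_injective, hQ] at this
  have := Subgroup.eq_of_le_of_card_ge (inf_le_left : A ⊓ B ≤ A)
    (Nat.le_of_dvd Nat.card_pos hc)
  exact this ▸ inf_le_right

theorem mem_pCore_of_mem_fitting {q : ℕ} [Fact q.Prime] {x : S}
    (hx : x ∈ Cfsg.fittingSubgroup S) (ho : ∃ k : ℕ, orderOf x = q ^ k) :
    x ∈ Cfsg.pCore q S := by
  haveI := CfsgLib.Fitting.fittingSubgroup_isNilpotent (G := S)
  haveI := CfsgLib.Fitting.fittingSubgroup_normal (G := S)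
  obtain ⟨k, hk⟩ := ho
  set y : Cfsg.fittingSubgroup S := ⟨x, hx⟩
  have hy : IsPGroup q (Subgroup.zpowers y) := IsPGroup.of_card (n := k) (by
    rw [Nat.card_zpowers, ← Subgroup.orderOf_coe y, hk])
  obtain ⟨Q, hQ⟩ := hy.exists_le_sylow
  haveI : (Q : Subgroup (Cfsg.fittingSubgroup S)).Normal := inferInstance
  haveI := Sylow.characteristic_of_normal Q inferInstance
  have hn := CfsgLib.PSolvable.normal_map_of_characteristic (Cfsg.fittingSubgroup S)
    (Q : Subgroup (Cfsg.fittingSubgroup S))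
  exact CfsgLib.Fitting.le_pCore hn (Q.2.map _) ⟨y, hQ (Subgroup.mem_zpowers y), rfl⟩

theorem mem_centralizer_of_pow {q r : ℕ} (hq : q.Prime) (hr : r.Prime) (hqr : q ≠ r) {x : S}
    {C : Subgroup S} {i : ℕ} (hox : orderOf x = r ^ i) {j : ℕ} (hj : x ^ q ^ j ∈ C) : x ∈ C := by
  have hco : (q ^ j).Coprime (orderOf x) := by
    rw [hox]; exact ((Nat.coprime_primes hq hr).mpr hqr).pow j i
  exact (mem_zpowers_pow_iff.mpr (by simpa [Nat.Coprime] using hco.gcd_eq_one)) |>
    fun h => (Subgroup.zpowers_le.mpr hj) h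

theorem solvable_qdFree [Group.IsSolvable S] {q : ℕ} [Fact q.Prime] (hq : 5 ≤ q) :
    ¬ Cfsg.Involves ↥(Cfsg.qd q) S := by
  intro h
  obtain ⟨K, ψ, hψ⟩ := CfsgLib.Offender.exists_hom_of_involves h
  have hsq : Group.IsSolvable ↥(Cfsg.qd q) := solvable_of_surjective hψ
  let f : ↥(Cfsg.qd q) →* SL(2, ZMod q) := MonoidHom.mk'
    (fun z => (CfsgLib.Qd.el_surj z).choose) (fun z w => by
      obtain ⟨v, hv⟩ := (CfsgLib.Qd.el_surj z).choose_spec
      obtain ⟨v', hv'⟩ := (CfsgLib.Qd.el_surj w).choose_spec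
      obtain ⟨v'', hv''⟩ := (CfsgLib.Qd.el_surj (z * w)).choose_spec
      have e := hv''
      conv_rhs at e => rw [← hv, ← hv', CfsgLib.Qd.el_mul]
      exact (CfsgLib.Qd.el_inj e).1)
  have hf : Function.Surjective f := fun g => ⟨CfsgLib.Qd.el g 0, by
    obtain ⟨v, hv⟩ := (CfsgLib.Qd.el_surj (CfsgLib.Qd.el g 0)).choose_spec
    exact (CfsgLib.Qd.el_inj hv).1⟩
  haveI : Group.IsSolvable SL(2, ZMod q) := solvable_of_surjective hf
  haveI : Nontrivial SL(2, ZMod q) := by
    refine ⟨1, Matrix.SpecialLinearGroup.transvection (i := 0) (j := 1) (by decide) 1, fun e => ?_⟩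
    have := congrFun (congrFun (congrArg Subtype.val e) 0) 1
    simp [Matrix.SpecialLinearGroup.transvection, Matrix.transvection] at this
  have h4 : ((2 : ℕ) : ZMod q) ≠ 0 ∧ ((3 : ℕ) : ZMod q) ≠ 0 := by
    constructor <;> · rw [Ne, ZMod.natCast_eq_zero_iff]; exact fun e => absurd (Nat.le_of_dvd (by omega) e) (by omega)
  have h2 : ∃ x : ZMod q, x ≠ 0 ∧ x ^ 2 ≠ 1 := ⟨2, by simpa using h4.1, fun e => h4.2 (by
    push_cast; linear_combination e)⟩
  exact (Group.IsSolvable.commutator_lt_top_of_nontrivial (G := SL(2, ZMod q))).ne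
    (CfsgLib.Classical.commutator_SL_eq_top (ι := Fin 2) (F := ZMod q) (.inr h2))

theorem core [Group.IsSolvable S] (π : Set ℕ) (h2 : 2 ∉ π) (h3 : 3 ∉ π) (A F : Subgroup S)
    (hFA : F ≤ Subgroup.normalizer (A : Set S)) (hAF : F ⊓ Subgroup.centralizer (A : Set S) = A)
    (hP : ∀ q : ℕ, q.Prime → Cfsg.pCore q S ≤ F)
    (hbot : ∀ q : ℕ, q.Prime → q ∉ π → Cfsg.pCore q S = ⊥) :
    Subgroup.centralizer (A : Set S) ≤ A := by
  intro x hx
  have key : ∀ q : ℕ, (hq : q.Prime) → haveI := Fact.mk hq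
      haveI := CfsgLib.Fitting.pCore_normal (G := S) q
      x ∈ CfsgLib.ZJ.opMod q (Cfsg.pCore q S) := by
    intro q hq
    haveI := Fact.mk hq
    haveI := CfsgLib.Fitting.pCore_normal (G := S) q
    set P := Cfsg.pCore q S with hPdef
    by_cases hqπ : q ∈ π
    · have h5 : 5 ≤ q := by
        have h0 := hq.two_le
        rcases eq_or_ne q 2 with rfl | h
        · exact absurd hqπ h2
        rcases eq_or_ne q 3 with rfl | h'
        · exact absurd hqπ h3
        rcases eq_or_ne q 4 with rfl | h''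
        · exact absurd hq (by decide)
        omega
      refine CfsgLib.ZJ.mem_opMod.mpr (CfsgLib.Qd.isPStableOn_of_qdFree (by omega) (solvable_qdFree h5) P
        (CfsgLib.Fitting.pCore_isPGroup q) x ?_)
      have hxc : ⁅A, Subgroup.zpowers x⁆ = ⊥ := by
        rw [Subgroup.commutator_eq_bot_iff_le_centralizer, Subgroup.le_centralizer_iff,
          Subgroup.zpowers_le]
        exact hx
      have h6 : ⁅P, A⁆ ≤ A := Subgroup.commutator_le.mpr fun u hu a ha => by
        rw [commutatorElement_def]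
        exact mul_mem ((Subgroup.mem_normalizer_iff.mp (hFA (hP q hq hu)) a).mp ha) (inv_mem ha)
      have h7 : ⁅⁅P, A⁆, Subgroup.zpowers x⁆ = ⊥ :=
        le_bot_iff.mp (hxc ▸ Subgroup.commutator_mono h6 le_rfl)
      have h8 : ⁅⁅A, Subgroup.zpowers x⁆, P⁆ = ⊥ := by
        rw [hxc, Subgroup.commutator_bot_left]
      have h9 : ⁅⁅Subgroup.zpowers x, P⁆, A⁆ = ⊥ :=
        Subgroup.commutator_commutator_eq_bot_of_rotate h7 h8 |> fun h => by
          simpa only [Subgroup.commutator_comm] using h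
      rw [Subgroup.commutator_eq_bot_iff_le_centralizer] at h9
      have h10 : ⁅P, Subgroup.zpowers x⁆ ≤ A := by
        rw [Subgroup.commutator_comm, ← hAF]
        exact le_inf ((Subgroup.commutator_le_right _ _).trans (hP q hq)) h9
      exact le_bot_iff.mp (hxc ▸ Subgroup.commutator_mono h10 le_rfl)
    · exact CfsgLib.ZJ.centralizer_le_opMod q _ (by
        rw [show Cfsg.pCore q S = ⊥ from hbot q hq hqπ]
        exact fun y hy => by rw [Subgroup.mem_bot.mp hy]; simp)
  let K : Subgroup S := ⨅ (q : ℕ) (hq : q.Prime),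
    haveI := CfsgLib.Fitting.pCore_normal (G := S) q
    CfsgLib.ZJ.opMod q (Cfsg.pCore q S)
  have hxK : x ∈ K := by
    simp only [K, Subgroup.mem_iInf]
    exact fun q hq => key q hq
  haveI hKn : K.Normal := Subgroup.normal_iInf_normal fun q => Subgroup.normal_iInf_normal fun hq => by
    haveI := CfsgLib.Fitting.pCore_normal (G := S) q
    exact CfsgLib.ZJ.opMod_normal q _
  have hK : ∀ q : ℕ, q.Prime → ∀ y ∈ K, ∀ r : ℕ, r.Prime → q ≠ r → (∃ i : ℕ, orderOf y = r ^ i) →
      y ∈ Subgroup.centralizer (Cfsg.pCore q S : Set S) := by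
    intro q hq y hy r hr hqr ⟨i, hi⟩
    haveI := CfsgLib.Fitting.pCore_normal (G := S) q
    obtain ⟨j, hj⟩ := CfsgLib.ZJ.exists_pow_mem_centralizer (Cfsg.pCore q S)
      (Subgroup.mem_iInf.mp (Subgroup.mem_iInf.mp hy q) hq)
    exact mem_centralizer_of_pow hq hr hqr hi hj
  have hKF : K ≤ Cfsg.fittingSubgroup S := by
    refine CfsgLib.Fitting.le_fittingSubgroup hKn ?_
    refine ((Group.isNilpotent_of_finite_tfae (G := K)).out 0 3).mpr fun r hr R => ?_
    haveI := hr
    let T : Subgroup S := K ⊓ ⨅ (q : ℕ) (_ : q.Prime ∧ q ≠ r),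
      Subgroup.centralizer (Cfsg.pCore q S : Set S)
    have hTn : T.Normal := by
      haveI : ∀ q, (Subgroup.centralizer (Cfsg.pCore q S : Set S)).Normal := fun q => by
        haveI := CfsgLib.Fitting.pCore_normal (G := S) q
        infer_instance
      haveI : (⨅ (q : ℕ) (_ : q.Prime ∧ q ≠ r),
          Subgroup.centralizer (Cfsg.pCore q S : Set S)).Normal :=
        Subgroup.normal_iInf_normal fun q => Subgroup.normal_iInf_normal fun _ => inferInstance
      exact Subgroup.normal_inf_normal _ _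
    set RS : Subgroup S := (R : Subgroup K).map K.subtype with hRS
    have hRp : IsPGroup r RS := R.2.map _
    have hordR : ∀ y ∈ RS, ∃ i : ℕ, orderOf y = r ^ i := fun y hy => by
      obtain ⟨i, hi⟩ := IsPGroup.iff_orderOf.mp hRp ⟨y, hy⟩
      exact ⟨i, by rw [← hi, Subgroup.orderOf_mk]⟩
    have hRT : RS ≤ T := fun y hy => by
      refine ⟨Subgroup.map_subtype_le _ hy, ?_⟩
      refine Subgroup.mem_iInf.mpr fun q => Subgroup.mem_iInf.mpr fun hq => ?_
      exact hK q hq.1 y (Subgroup.map_subtype_le _ hy) r hr.out hq.2 (hordR y hy)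
    have hT : ∀ y ∈ T, ∀ q : ℕ, q.Prime → (∃ i : ℕ, orderOf y = q ^ i) → q ≠ r →
        y ∈ Subgroup.centralizer (RS : Set S) := by
      intro y hy q hq hyo hqr
      haveI := Fact.mk hq
      have hyF : y ∈ Subgroup.centralizer (Cfsg.fittingSubgroup S : Set S) := by
        rw [← Subgroup.zpowers_le, Subgroup.le_centralizer_iff]
        refine le_of_prime_pow fun t ht z hz hzo => ?_
        haveI := Fact.mk ht
        have hzP := mem_pCore_of_mem_fitting hz hzo
        refine Subgroup.le_centralizer_iff.mp ?_ hzP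
        rw [Subgroup.zpowers_le]
        by_cases htr : t = r
        · exact hK t ht y hy.1 q hq (htr ▸ hqr.symm) hyo
        · exact Subgroup.mem_iInf.mp (Subgroup.mem_iInf.mp hy.2 t) ⟨ht, htr⟩
      have hyP : y ∈ Cfsg.pCore q S := mem_pCore_of_mem_fitting
        (CfsgLib.PSolvable.centralizer_fittingSubgroup_le hyF) hyo
      rw [Subgroup.mem_centralizer_iff]
      intro z hz
      have hzT := hRT hz
      exact ((Subgroup.mem_centralizer_iff.mp
        (Subgroup.mem_iInf.mp (Subgroup.mem_iInf.mp hzT.2 q) ⟨hq, hqr⟩)) y hyP).symm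
    have hTR : T ≤ Subgroup.normalizer (RS : Set S) := by
      set B := T ⊓ Subgroup.normalizer (RS : Set S) with hB
      have hc : Nat.card T ∣ Nat.card B := by
        refine (Nat.dvd_iff_prime_pow_dvd_dvd _ _).mpr fun q k hq hd => ?_
        haveI := Fact.mk hq
        by_cases hqr : q = r
        · subst hqr
          have h1 : q ^ k ∣ Nat.card (R : Subgroup K) := by
            rw [R.card_eq_multiplicity]
            exact pow_dvd_pow q ((Nat.Prime.pow_dvd_iff_le_factorization hq Nat.card_pos.ne').mp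
              (hd.trans (Subgroup.card_dvd_of_le inf_le_left)))
          refine h1.trans ?_
          rw [← Subgroup.card_map_of_injective K.subtype_injective]
          exact Subgroup.card_dvd_of_le (le_inf hRT Subgroup.le_normalizer)
        · obtain ⟨Q, hQ⟩ := Sylow.exists_subgroup_card_pow_prime q hd
          rw [← hQ, ← Subgroup.card_map_of_injective T.subtype_injective]
          refine Subgroup.card_dvd_of_le ?_
          rintro _ ⟨y, hy, rfl⟩
          refine ⟨y.2, Subgroup.centralizer_le_normalizer _ (hT _ y.2 q hq ?_ hqr)⟩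
          obtain ⟨i, -, hi⟩ := (Nat.dvd_prime_pow hq).mp (hQ ▸ Subgroup.orderOf_dvd_natCard Q hy)
          exact ⟨i, by rw [← hi]; exact Subgroup.orderOf_coe y⟩
      exact (Subgroup.eq_of_le_of_card_ge (inf_le_left : B ≤ T)
        (Nat.le_of_dvd Nat.card_pos hc)) ▸ inf_le_right
    have hin : ∀ z : K, (∃ i : ℕ, orderOf z = r ^ i) → z ∈ (R : Subgroup K) := by
      intro z hzo
      have hzo' : ∃ i : ℕ, orderOf (z : S) = r ^ i := by simpa [Subgroup.orderOf_coe] using hzo
      have hzT : (z : S) ∈ T := by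
        refine ⟨z.2, ?_⟩
        refine Subgroup.mem_iInf.mpr fun q => Subgroup.mem_iInf.mpr fun hq => ?_
        exact hK q hq.1 z z.2 r hr.out hq.2 hzo'
      have hn : Subgroup.zpowers z ≤ Subgroup.normalizer ((R : Subgroup K) : Set K) := by
        rw [Subgroup.zpowers_le, Subgroup.mem_normalizer_iff]
        intro w
        have := Subgroup.mem_normalizer_iff.mp (hTR hzT) (w : S)
        simp only [SetLike.mem_coe, hRS, Subgroup.mem_map, Subgroup.coe_subtype, SetLike.coe_eq_coe] at this ⊢
        constructor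
        · intro hw
          obtain ⟨v, hv, e⟩ := this.mp ⟨w, hw, rfl⟩
          rwa [show z * w * z⁻¹ = v from Subtype.ext (by simpa using e.symm)]
        · intro hw
          obtain ⟨v, hv, e⟩ := this.mpr ⟨z * w * z⁻¹, hw, by simp⟩
          exact e ▸ hv
      obtain ⟨i, hi⟩ := hzo
      have hp' := IsPGroup.to_sup_of_normal_left' R.2
        (IsPGroup.of_card (n := i) (by rw [Nat.card_zpowers, hi])) hn
      have := R.3 hp' le_sup_left
      rw [← this]
      exact Subgroup.mem_sup_right (Subgroup.mem_zpowers z)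
    exact ⟨fun z hz g => hin _ (by
      obtain ⟨i, hi⟩ := IsPGroup.iff_orderOf.mp R.2 ⟨z, hz⟩
      refine ⟨i, ?_⟩
      rw [← hi]
      rw [Subgroup.orderOf_mk z hz, ← MulEquiv.orderOf_eq (MulAut.conj g) z]
      first | rfl | exact (Subgroup.orderOf_coe _).symm | exact Subgroup.orderOf_coe _)⟩
  have := hKF hxK
  rw [← hAF]
  refine ⟨?_, hx⟩
  exact le_of_prime_pow (B := F) (fun q hq y hy ho => by
    haveI := Fact.mk hq
    exact hP q hq (mem_pCore_of_mem_fitting hy ho)) this

/-- Let S be a finite solvable group, π a set of primes containing neither 2 nor 3, H a Hall π-subgroup of S, and A a self-centralizing normal subgroup of the Fitting subgroup F(H). Then C_S(A) = A × D for a normal subgroup D of C_S(A) whose order has no prime divisor in π. -/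
theorem result {S : Type*} [Group S] [Finite S] [Group.IsSolvable S]
    (π : Set ℕ) (h2 : 2 ∉ π) (h3 : 3 ∉ π) (H : Subgroup S) (hH : Cfsg.IsPiHall π H)
    (A : Subgroup S) (hA : Cfsg.IsSCN ((Cfsg.fittingSubgroup H).map H.subtype) A) :
    ∃ D : Subgroup S, D ≤ Subgroup.centralizer (A : Set S) ∧
      (∀ c ∈ Subgroup.centralizer (A : Set S), ∀ d ∈ D, c * d * c⁻¹ ∈ D) ∧
      A ⊓ D = ⊥ ∧ A ⊔ D = Subgroup.centralizer (A : Set S) ∧
      ∀ q : ℕ, q.Prime → q ∣ Nat.card D → q ∉ π := by
  classical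
  set F : Subgroup S := (Cfsg.fittingSubgroup H).map H.subtype with hF
  obtain ⟨hAle, hFA, hAF⟩ := hA
  have hFH : F ≤ H := Subgroup.map_subtype_le _
  have hAC : A ≤ Subgroup.centralizer (A : Set S) := fun a ha => (hAF.symm.le ha).2
  -- the largest normal subgroup of order prime to π
  obtain ⟨N, ⟨hNn, hNπ⟩, hmax⟩ := (Set.toFinite {M : Subgroup S | M.Normal ∧
    ∀ q : ℕ, q.Prime → q ∣ Nat.card M → q ∉ π}).exists_maximal ⟨⊥, inferInstance, fun q hq hd => by
      rw [Subgroup.card_bot] at hd; exact absurd (Nat.dvd_one.mp hd) hq.ne_one⟩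
  haveI := hNn
  have hHN : H ⊓ N = ⊥ := Subgroup.inf_eq_bot_of_coprime (Nat.coprime_of_dvd fun q hq hd hd' =>
    hNπ q hq hd' (hH.1 q hq hd))
  set f := QuotientGroup.mk' N with hf
  have hsurj : Function.Surjective f := QuotientGroup.mk'_surjective N
  have hinj : ∀ x ∈ H, f x = 1 → x = 1 := fun x hx e => by
    rw [← Subgroup.mem_bot, ← hHN]
    exact ⟨hx, (QuotientGroup.eq_one_iff x).mp e⟩
  have hcore := core π h2 h3 (A.map f) (F.map f)
    ((Subgroup.map_mono hFA).trans ((Subgroup.le_normalizer_map f)))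
    (le_antisymm (fun z hz => by
      obtain ⟨⟨x, hx, rfl⟩, hc⟩ := hz
      refine ⟨x, hAF.le ⟨hx, Subgroup.mem_centralizer_iff.mpr fun a ha => ?_⟩, rfl⟩
      have e := Subgroup.mem_centralizer_iff.mp hc (f a) ⟨a, ha, rfl⟩
      have hm : (a * x) * (x * a)⁻¹ ∈ H :=
        mul_mem (mul_mem (hFH (hAle ha)) (hFH hx)) (inv_mem (mul_mem (hFH hx) (hFH (hAle ha))))
      exact mul_inv_eq_one.mp (hinj _ hm (by rw [map_mul, map_inv, map_mul, map_mul, e, mul_inv_cancel])))
      (le_inf (Subgroup.map_mono hAle) (by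
        rintro _ ⟨a, ha, rfl⟩
        rw [Subgroup.mem_centralizer_iff]
        rintro _ ⟨b, hb, rfl⟩
        rw [← map_mul, ← map_mul, Subgroup.mem_centralizer_iff.mp (hAC ha) b hb])))
    (fun q hq => by
      haveI := Fact.mk hq
      set P := Cfsg.pCore q (S ⧸ N)
      have hPn : P.Normal := CfsgLib.Fitting.pCore_normal q
      have hPp : IsPGroup q P := CfsgLib.Fitting.pCore_isPGroup q
      by_cases hqπ : q ∈ π
      · intro z hz
        have hle : P ≤ H.map f := by
          rw [← Subgroup.relIndex_eq_one]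
          obtain ⟨k, hk⟩ := hPp.exists_card_eq
          have h1 : (H.map f).relIndex P ∣ q ^ k := hk ▸ Subgroup.relIndex_dvd_card _ _
          obtain ⟨i, -, hi⟩ := (Nat.dvd_prime_pow hq).mp h1
          rcases Nat.eq_zero_or_pos i with rfl | hi0
          · simpa using hi
          · refine absurd ?_ (hH.2 q hq hqπ)
            exact ((dvd_pow_self q hi0.ne').trans (hi ▸
              CfsgLib.Fitting.relIndex_dvd_index_of_normal_right (H.map f) P)).trans
              (Subgroup.index_map_dvd H hsurj)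
        obtain ⟨x, hx, rfl⟩ := hle hz
        haveI := hPn
        set Q : Subgroup H := P.comap (f.comp H.subtype)
        have hQn : Q.Normal := Subgroup.Normal.comap hPn _
        have hQp : IsPGroup q Q := hPp.comap_of_injective _ (by
          rw [injective_iff_map_eq_one]
          exact fun y hy => Subtype.ext (hinj _ y.2 hy))
        exact ⟨x, ⟨⟨x, hx⟩, (CfsgLib.Fitting.le_pCore hQn hQp).trans
          (CfsgLib.Fitting.pCore_le_fittingSubgroup q) hz, rfl⟩, rfl⟩
      · have h0 : P = ⊥ := by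
          haveI := Fact.mk hq
          rw [Subgroup.eq_bot_iff_forall]
          intro z hz
          have hMn : ((Cfsg.pCore q (S ⧸ N)).comap f).Normal :=
            Subgroup.Normal.comap (CfsgLib.Fitting.pCore_normal q) _
          have hle : N ≤ (Cfsg.pCore q (S ⧸ N)).comap f := fun x hx => by
            rw [Subgroup.mem_comap, show f x = 1 from (QuotientGroup.eq_one_iff x).mpr hx]
            exact one_mem _
          have hge := hmax ⟨hMn, fun t ht hd => by
            rw [← Subgroup.card_mul_index (N.subgroupOf ((Cfsg.pCore q (S ⧸ N)).comap f)),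
              Nat.card_congr (Subgroup.subgroupOfEquivOfLe hle).toEquiv,
              ← Subgroup.relIndex] at hd
            rcases ht.dvd_mul.mp hd with hd | hd
            · exact hNπ t ht hd
            · obtain ⟨k, hk⟩ := (CfsgLib.Fitting.pCore_isPGroup (G := S ⧸ N) q).exists_card_eq
              have h1 : N.relIndex ((Cfsg.pCore q (S ⧸ N)).comap f) = q ^ k := by
                conv_lhs => arg 1; rw [← QuotientGroup.ker_mk' N]
                rw [← MonoidHom.comap_bot, Subgroup.relIndex_comap, Subgroup.map_comap_eq_self_of_surjective hsurj,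
                  Subgroup.relIndex_bot_left, hk]
              rw [h1] at hd
              exact (Nat.prime_dvd_prime_iff_eq ht hq).mp (ht.dvd_of_dvd_pow hd) ▸ hqπ⟩ hle
          obtain ⟨x, rfl⟩ := hsurj z
          exact (QuotientGroup.eq_one_iff x).mpr (hge hz)
        rw [h0]
        exact bot_le)
    (fun q hq hqπ => by
      haveI := Fact.mk hq
      rw [Subgroup.eq_bot_iff_forall]
      intro z hz
      have hMn : ((Cfsg.pCore q (S ⧸ N)).comap f).Normal :=
        Subgroup.Normal.comap (CfsgLib.Fitting.pCore_normal q) _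
      have hle : N ≤ (Cfsg.pCore q (S ⧸ N)).comap f := fun x hx => by
        rw [Subgroup.mem_comap, show f x = 1 from (QuotientGroup.eq_one_iff x).mpr hx]
        exact one_mem _
      have hge := hmax ⟨hMn, fun t ht hd => by
        rw [← Subgroup.card_mul_index (N.subgroupOf ((Cfsg.pCore q (S ⧸ N)).comap f)),
          Nat.card_congr (Subgroup.subgroupOfEquivOfLe hle).toEquiv,
          ← Subgroup.relIndex] at hd
        rcases ht.dvd_mul.mp hd with hd | hd
        · exact hNπ t ht hd
        · obtain ⟨k, hk⟩ := (CfsgLib.Fitting.pCore_isPGroup (G := S ⧸ N) q).exists_card_eq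
          have h1 : N.relIndex ((Cfsg.pCore q (S ⧸ N)).comap f) = q ^ k := by
            conv_lhs => arg 1; rw [← QuotientGroup.ker_mk' N]
            rw [← MonoidHom.comap_bot, Subgroup.relIndex_comap, Subgroup.map_comap_eq_self_of_surjective hsurj,
              Subgroup.relIndex_bot_left, hk]
          rw [h1] at hd
          exact (Nat.prime_dvd_prime_iff_eq ht hq).mp (ht.dvd_of_dvd_pow hd) ▸ hqπ⟩ hle
      obtain ⟨x, rfl⟩ := hsurj z
      exact (QuotientGroup.eq_one_iff x).mpr (hge hz))
  refine ⟨N ⊓ Subgroup.centralizer (A : Set S), inf_le_right, fun c hc d hd =>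
    Subgroup.mem_inf.mpr ⟨hNn.conj_mem d hd.1 c, mul_mem (mul_mem hc hd.2) (inv_mem hc)⟩, ?_, le_antisymm (sup_le hAC inf_le_right) ?_,
    fun q hq hd => hNπ q hq (hd.trans (Subgroup.card_dvd_of_le inf_le_left))⟩
  · rw [← le_bot_iff, ← hHN]
    exact le_inf (inf_le_left.trans (hAle.trans hFH)) (inf_le_right.trans inf_le_left)
  · intro x hx
    obtain ⟨a, ha, e⟩ := hcore (show f x ∈ Subgroup.centralizer ((A.map f : Subgroup (S ⧸ N)) : Set (S ⧸ N)) by
      rw [Subgroup.mem_centralizer_iff]
      rintro _ ⟨b, hb, rfl⟩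
      rw [← map_mul, ← map_mul, Subgroup.mem_centralizer_iff.mp hx b hb])
    rw [show x = a * (a⁻¹ * x) by group]
    refine mul_mem (Subgroup.mem_sup_left ha) (Subgroup.mem_sup_right (Subgroup.mem_inf.mpr ⟨?_, mul_mem (inv_mem (hAC ha)) hx⟩))
    rw [← QuotientGroup.eq_one_iff, ← QuotientGroup.mk'_apply N, map_mul, map_inv]
    show (f a)⁻¹ * f x = 1
    rw [e, inv_mul_cancel]

end Cfsg.Agent.S1893

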