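import Cfsg.Statements.S1895
import Cfsg.Agent.Lib.PGroup.RankTwoSections

set_option autoImplicit false
open Cfsg

namespace Cfsg.Agent.S1895

/-- Let p be an odd prime and G a finite p-solvable group with no elementary abelian subgroup of order p³. Then every chief factor H/K of G (H, K normal in G with no normal subgroup of G strictly between them) whose order is a power of p has order p or p². -/
theorem result {G : Type*} [Group G] [Finite G] {p : ℕ} [Fact p.Prime] (hp : p ≠ 2)
    (hG : Cfsg.IsPSolvable p G) (hr : Cfsg.PRankLE p 2 G)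
    (H K : Subgroup G) [H.Normal] [K.Normal] (hKH : K < H) (hpow : ∃ n : ℕ, K.relIndex H = p ^ n)
    (hchief : ∀ L : Subgroup G, L.Normal → K ≤ L → L ≤ H → L = K ∨ L = H) :
    K.relIndex H = p ∨ K.relIndex H = p ^ 2 := by
  classical
  obtain ⟨n, hn⟩ := hpow
  have hpp := (Fact.out : p.Prime)
  let P₀ : Sylow p H := default
  set P := (P₀ : Subgroup H).map H.subtype with hP
  set N := Subgroup.normalizer (P : Set G) with hNdef
  have hPp : IsPGroup p P := P₀.2.map H.subtype
  have hPH : P ≤ H := Subgroup.map_subtype_le _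
  have hsupH : P ⊔ K = H := by
    refine le_antisymm (sup_le hPH hKH.le) (Subgroup.relIndex_eq_one.mp ?_)
    have h1 : (P ⊔ K).relIndex H ∣ p ^ n := hn ▸ Subgroup.relIndex_dvd_of_le_left H le_sup_right
    have h2 : (P ⊔ K).relIndex H ∣ (P₀ : Subgroup H).index := by
      refine (Subgroup.relIndex_dvd_of_le_left H le_sup_left).trans (dvd_of_eq ?_)
      rw [Subgroup.relIndex, hP, Subgroup.subgroupOf,
        Subgroup.comap_map_eq_self_of_injective H.subtype_injective]
    obtain ⟨i, -, hi⟩ := (Nat.dvd_prime_pow hpp).mp h1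
    rcases Nat.eq_zero_or_pos i with h | h
    · rw [hi, h, pow_zero]
    · exact absurd ((hi ▸ dvd_pow_self p h.ne').trans h2) P₀.not_dvd_index
  have htop : N ⊔ K = ⊤ := by
    have h := P₀.normalizer_sup_eq_top
    refine top_unique (h.ge.trans (sup_le le_sup_left ?_))
    rw [← hsupH]
    exact sup_le (Subgroup.le_normalizer.trans le_sup_left) le_sup_right
  obtain ⟨X, ⟨hXP, hXN, hXK⟩, hmin⟩ : ∃ X : Subgroup G, (X ≤ P ∧ N ≤ Subgroup.normalizer (X : Set G) ∧
      X ⊔ K = H) ∧ ∀ Y : Subgroup G, (Y ≤ P ∧ N ≤ Subgroup.normalizer (Y : Set G) ∧ Y ⊔ K = H) →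
        Y ≤ X → X ≤ Y := by
    haveI := Fintype.ofFinite (Subgroup G)
    obtain ⟨X, hX1, hX2⟩ := Finset.exists_min_image (Finset.univ.filter fun Y : Subgroup G =>
      Y ≤ P ∧ N ≤ Subgroup.normalizer (Y : Set G) ∧ Y ⊔ K = H) (fun Y => Nat.card Y)
      ⟨P, Finset.mem_filter.mpr ⟨Finset.mem_univ _, le_rfl, le_rfl, hsupH⟩⟩
    exact ⟨X, (Finset.mem_filter.mp hX1).2, fun Y hY hYX =>
      (Subgroup.eq_of_le_of_card_ge hYX (hX2 Y (Finset.mem_filter.mpr ⟨Finset.mem_univ _, hY⟩))).ge⟩
  have hXH : X ≤ H := hXP.trans hPH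
  set L := K.subgroupOf X
  have hidx : L.index = p ^ n := by
    show K.relIndex X = p ^ n
    rw [← hn, ← hXK, Subgroup.relIndex_sup_right]
  have hcharL : ∀ C : Subgroup X, C.Characteristic → C ≠ ⊤ → C ≤ L := by
    intro C hC hCtop
    set C' := C.map X.subtype with hC'
    have hC'X : C' ≤ X := Subgroup.map_subtype_le _
    have hC'N : N ≤ Subgroup.normalizer (C' : Set G) := by
      intro g hg
      have hgX := Subgroup.mem_normalizer_iff.mp (hXN hg)
      let φ : MulAut X :=
        { toFun := fun x => ⟨g * x * g⁻¹, (hgX x).mp x.2⟩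
          invFun := fun x => ⟨g⁻¹ * x * g, (hgX _).mpr (by
            rw [show g * (g⁻¹ * (x : G) * g) * g⁻¹ = x by group]
            exact x.2)⟩
          left_inv := fun x => Subtype.ext (show g⁻¹ * (g * (x : G) * g⁻¹) * g = x by group)
          right_inv := fun x => Subtype.ext (show g * (g⁻¹ * (x : G) * g) * g⁻¹ = x by group)
          map_mul' := fun x y => Subtype.ext (show g * ((x : G) * y) * g⁻¹ = g * x * g⁻¹ * (g * y * g⁻¹) by group) }
      have hφ := hC.fixed φ
      rw [Subgroup.mem_normalizer_iff]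
      intro y
      constructor
      · rintro ⟨x, hx, rfl⟩
        exact ⟨φ x, hφ.ge hx, rfl⟩
      · rintro ⟨x, hx, hxy⟩
        have hyX : y ∈ X := (hgX y).mpr (hxy ▸ x.2)
        have h2 : φ ⟨y, hyX⟩ ∈ C := by
          have : φ ⟨y, hyX⟩ = x := Subtype.ext hxy.symm
          rw [this]; exact hx
        exact ⟨⟨y, hyX⟩, hφ.le h2, rfl⟩
    have hnorm : (C' ⊔ K).Normal := by
      rw [← Subgroup.normalizer_eq_top_iff]
      refine top_unique (htop.ge.trans (sup_le (fun g hg => ?_) ((le_sup_right).trans Subgroup.le_normalizer)))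
      have h1 := (C' ⊔ K).map_equiv_eq_comap_symm (MulAut.conj g)
      rw [Subgroup.mem_normalizer_iff_conj_image_eq]
      have h2 : (C' ⊔ K).map (MulAut.conj g).toMonoidHom = C' ⊔ K := by
        rw [Subgroup.map_sup, show K.map (MulAut.conj g).toMonoidHom = K from Subgroup.Normal.map_conj_eq K g]
        congr 1
        exact SetLike.coe_injective (Subgroup.mem_normalizer_iff_conj_image_eq.mp (hC'N hg))
      exact congrArg (fun S : Subgroup G => (S : Set G)) h2
    rcases hchief _ hnorm le_sup_right (sup_le (hC'X.trans hXH) hKH.le) with h | h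
    · intro x hx
      exact (le_sup_left.trans h.le) ⟨x, hx, rfl⟩
    · exfalso
      have hle := hmin C' ⟨hC'X.trans hXP, hC'N, h⟩ hC'X
      exact hCtop (eq_top_iff.mpr fun x _ => by
        obtain ⟨y, hy, hyx⟩ := hle x.2
        rwa [← Subtype.ext hyx])
  haveI : L.Normal := inferInstance
  have hXne : X ≠ ⊥ := fun h => hKH.ne (by rw [← hXK, h, bot_sup_eq])
  haveI : Nontrivial X := (Subgroup.nontrivial_iff_ne_bot X).mpr hXne
  have hXp : IsPGroup p X := hPp.to_le hXP
  have hΦ : frattini X ≤ L := hcharL _ inferInstance fun h => bot_ne_top (α := Subgroup X) (frattini_nongenerating (by rw [h, sup_top_eq]))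
  have hrX : Cfsg.PRankLE p 2 X := CfsgLib.RankTwoThree.prankLE_subgroup hr X
  have hle := CfsgLib.RankTwoSections.index_le hXp hp hrX hΦ hcharL
  rw [hidx, Nat.pow_le_pow_iff_right hpp.one_lt] at hle
  rcases n with _ | _ | _ | k
  · rw [pow_zero, Subgroup.relIndex_eq_one] at hn
    exact absurd hn hKH.not_ge
  · exact Or.inl (hn.trans (pow_one p))
  · exact Or.inr hn
  · omega

end Cfsg.Agent.S1895
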