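import Cfsg.Statements.S1896
import Cfsg.Agent.Lib.Fusion.MetacyclicTwoAut

set_option autoImplicit false
open Cfsg

namespace Cfsg.Agent.S1896

/-- A finite metacyclic 2-group whose automorphism group is not a 2-group is isomorphic to the quaternion group of order 8 or to a homocyclic abelian group Z_{2^n} × Z_{2^n}. -/
theorem result {X : Type*} [Group X] [Finite X] (hX : IsPGroup 2 X)
    (hm : Cfsg.IsMetacyclic X) (hA : ¬ IsPGroup 2 (MulAut X)) :
    Nonempty (X ≃* QuaternionGroup 2) ∨
      ∃ n : ℕ, Nonempty (X ≃* Multiplicative (ZMod (2 ^ n)) × Multiplicative (ZMod (2 ^ n))) := by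
  rcases CfsgLib.Fusion.homocyclic_or_quaternion_of_not_isPGroup hX hm hA with ⟨n, -, ⟨e⟩⟩ | h
  · refine Or.inr ⟨n, ⟨e.trans
      { toFun := fun f => (Multiplicative.ofAdd (Multiplicative.toAdd f 0), Multiplicative.ofAdd (Multiplicative.toAdd f 1))
        invFun := fun x => Multiplicative.ofAdd ![Multiplicative.toAdd x.1, Multiplicative.toAdd x.2]
        left_inv := fun f => Multiplicative.toAdd.injective (funext fun i => by fin_cases i <;> rfl)
        right_inv := fun x => rfl
        map_mul' := fun f g => rfl }⟩⟩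
  · exact Or.inl h

end Cfsg.Agent.S1896
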