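import Cfsg.Statements.S1897
import Cfsg.Agent.Lib.Classical.UThreeThree.Hom
import Cfsg.Agent.Lib.FormRep.Unitary

set_option autoImplicit false
set_option linter.style.haveILetI false
open Cfsg

namespace Cfsg.Agent.S1897

/-- The projective special unitary group PSU₃(3) (realised over the field with 9 elements) has a subgroup isomorphic to PSL₂(7). -/
theorem result {F : Type*} [Field F] [Fintype F] (hF : Fintype.card F = 9)
    {K : Type*} [Field K] [Fintype K] (hK : Fintype.card K = 7) :
    ∃ H : Subgroup (Cfsg.PSU 3 F 3), Nonempty (H ≃* Matrix.ProjectiveSpecialLinearGroup (Fin 2) K) := by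
  classical
  haveI : Fintype CfsgLib.UThreeThree.K9 := Fintype.ofEquiv _ (QuadraticAlgebra.equivProd 2 0).symm
  have hc : Nat.card CfsgLib.UThreeThree.K9 = 9 := by
    rw [Nat.card_congr (QuadraticAlgebra.equivProd (R := ZMod 3) 2 0)]; simp
  let e : CfsgLib.UThreeThree.K9 ≃+* F := FiniteField.ringEquivOfCardEq
    (by rw [hF, ← Nat.card_eq_fintype_card, hc])
  haveI : CharP CfsgLib.UThreeThree.K9 3 :=
    charP_of_injective_algebraMap (algebraMap (ZMod 3) CfsgLib.UThreeThree.K9).injective 3
  haveI : Fact (Nat.Prime 3) := ⟨by norm_num⟩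
  let σ : F ≃+* F := RingEquiv.ofBijective
    ((e.toRingHom.comp (frobenius CfsgLib.UThreeThree.K9 3)).comp e.symm.toRingHom)
    (Finite.injective_iff_bijective.mp (RingHom.injective _))
  have hσq : ∀ c, σ c = c ^ 3 := fun c => by
    show e ((e.symm c) ^ 3) = _
    rw [map_pow, e.apply_symm_apply]
  have hσ : ∀ c, σ (σ c) = c := fun c => by
    rw [hσq, hσq, ← pow_mul, show 3 * 3 = Fintype.card F from hF.symm, FiniteField.pow_card]
  let toSL : Matrix.SpecialLinearGroup (Fin 3) (ZMod 2) →* Matrix.SpecialLinearGroup (Fin 3) F :=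
    { toFun := fun A => ⟨(CfsgLib.UThreeThree.imgHom A).map e, by
        rw [← RingEquiv.coe_toRingHom, ← RingHom.mapMatrix_apply, ← RingHom.map_det,
          show (CfsgLib.UThreeThree.imgHom A).det = 1 from (CfsgLib.UThreeThree.imgOf_spec A.1 A.2).1,
          map_one]⟩
      map_one' := Subtype.ext (by simp)
      map_mul' := fun A B => Subtype.ext (by simp; rfl) }
  have mem : ∀ A, toSL A ∈ SU 3 F 3 := by
    intro A
    rw [CfsgLib.FormRep.Unitary.mem_SU_iff σ hσq hσ]
    set W := CfsgLib.UThreeThree.imgHom A with hW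
    show ((W.map e).map σ).transpose * W.map e = 1
    have h1 : (W.map e).map σ = (W.map fun x => x * x * x).map e := by
      ext i j
      simp [hσq, pow_succ]
    rw [h1, ← Matrix.transpose_map]
    show Matrix.map _ e.toRingHom * Matrix.map _ e.toRingHom = 1
    rw [← Matrix.map_mul, show (W.map fun x => x * x * x).transpose * W = 1 from
      (CfsgLib.UThreeThree.imgOf_spec A.1 A.2).2]
    exact Matrix.map_one _ (map_zero e) (map_one e)
  let toPSU : Matrix.SpecialLinearGroup (Fin 3) (ZMod 2) →* PSU 3 F 3 :=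
    (QuotientGroup.mk' _).comp (toSL.codRestrict _ mem)
  have hinj : Function.Injective toPSU := by
    haveI : IsSimpleGroup (Matrix.SpecialLinearGroup (Fin 3) (ZMod 2)) :=
      CfsgLib.UThreeThree.isSimpleGroup_SL32.1
    rw [← MonoidHom.ker_eq_bot_iff]
    refine (MonoidHom.normal_ker toPSU).eq_bot_or_eq_top.resolve_right fun h => ?_
    apply CfsgLib.UThreeThree.genImg_not_commute
    rw [← CfsgLib.UThreeThree.imgHom_gen, ← CfsgLib.UThreeThree.imgHom_gen]
    set a : Matrix.SpecialLinearGroup (Fin 3) (ZMod 2) := ⟨_, CfsgLib.UThreeThree.det_gen false⟩ with ha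
    set b : Matrix.SpecialLinearGroup (Fin 3) (ZMod 2) := ⟨_, CfsgLib.UThreeThree.det_gen true⟩ with hb
    have hz : toSL.codRestrict _ mem a ∈ Subgroup.center (SU 3 F 3) := by
      have : a ∈ toPSU.ker := h ▸ Subgroup.mem_top a
      exact (QuotientGroup.eq_one_iff _).1 this
    have h2 := congrArg (fun g : SU 3 F 3 => (g.1 : Matrix (Fin 3) (Fin 3) F))
      (Subgroup.mem_center_iff.1 hz (toSL.codRestrict _ mem b))
    apply Matrix.map_injective e.injective
    show (CfsgLib.UThreeThree.imgHom a * CfsgLib.UThreeThree.imgHom b).map e.toRingHom =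
      (CfsgLib.UThreeThree.imgHom b * CfsgLib.UThreeThree.imgHom a).map e.toRingHom
    rw [Matrix.map_mul, Matrix.map_mul]
    exact h2.symm
  obtain ⟨ψ⟩ := CfsgLib.UThreeThree.nonempty_mulEquiv_PSL_two_seven hK
  exact ⟨toPSU.range, ⟨(MonoidHom.ofInjective hinj).symm.trans ψ⟩⟩

end Cfsg.Agent.S1897
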