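import Cfsg.Statements.S1898

set_option autoImplicit false
set_option linter.style.haveILetI false
set_option linter.unusedVariables false
open Cfsg

open scoped commutatorElement

namespace Cfsg.Agent.S1898

theorem commute_facts {X : Type*} [Group X] (hel : Cfsg.IsElementaryAbelian 2 (commutator X))
    (hcen : commutator X ≤ Subgroup.center X) (x y : X) :
    (x * y) ^ 4 = x ^ 4 * y ^ 4 := by
  obtain ⟨c, hc, hyx⟩ : ∃ c ∈ commutator X, y * x = c * (x * y) := by
    refine ⟨y * x * y⁻¹ * x⁻¹, ?_, by group⟩
    rw [commutator_def]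
    simpa [commutatorElement_def, mul_assoc] using
      Subgroup.commutator_mem_commutator (Subgroup.mem_top y) (Subgroup.mem_top x)
  have hcz : ∀ z, z * c = c * z := fun z => Subgroup.mem_center_iff.mp (hcen hc) z
  have hc2 : c * c = 1 := by rw [← pow_two]; exact hel.2 c hc
  have h2 : (x * y) ^ 2 = c * (x ^ 2 * y ^ 2) := by
    calc (x * y) ^ 2 = x * (y * x) * y := by rw [pow_two]; group
      _ = x * c * (x * y) * y := by rw [hyx]; group
      _ = c * x * (x * y) * y := by rw [hcz x]
      _ = c * (x ^ 2 * y ^ 2) := by rw [pow_two, pow_two]; group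
  have hcomm : y ^ 2 * x ^ 2 = x ^ 2 * y ^ 2 := by
    have h3 : y * (x * x) = x * x * y := by
      calc y * (x * x) = y * x * x := by group
        _ = c * (x * y) * x := by rw [hyx]
        _ = c * x * (y * x) := by group
        _ = c * (x * c) * (x * y) := by rw [hyx]; group
        _ = c * c * (x * (x * y)) := by rw [hcz x]; group
        _ = x * x * y := by rw [hc2]; group
    calc y ^ 2 * x ^ 2 = y * (y * (x * x)) := by rw [pow_two, pow_two]; group
      _ = y * (x * x * y) := by rw [h3]
      _ = (y * (x * x)) * y := by group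
      _ = x * x * y * y := by rw [h3]
      _ = x ^ 2 * y ^ 2 := by rw [pow_two, pow_two]; group
  calc (x * y) ^ 4 = (x * y) ^ 2 * (x * y) ^ 2 := by group
    _ = c * (x ^ 2 * y ^ 2) * (c * (x ^ 2 * y ^ 2)) := by rw [h2]
    _ = c * (x ^ 2 * y ^ 2 * c) * (x ^ 2 * y ^ 2) := by group
    _ = c * c * (x ^ 2 * (y ^ 2 * x ^ 2) * y ^ 2) := by rw [hcz]; group
    _ = x ^ 2 * (x ^ 2 * y ^ 2) * y ^ 2 := by rw [hc2, hcomm, one_mul]
    _ = x ^ 4 * y ^ 4 := by group

/-- Let X be a finite 2-group whose derived subgroup is elementary abelian and central. Then the subgroup generated by the elements of order dividing 4 has exponent dividing 4, and every automorphism of X fixing each element of order dividing 4 has 2-power order. -/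
theorem result {X : Type*} [Group X] [Finite X] (hX : IsPGroup 2 X)
    (hel : Cfsg.IsElementaryAbelian 2 (commutator X)) (hcen : commutator X ≤ Subgroup.center X) :
    (∀ x ∈ Subgroup.closure {g : X | g ^ 4 = 1}, x ^ 4 = 1) ∧
      ∀ φ : MulAut X, (∀ g : X, g ^ 4 = 1 → φ g = g) → ∃ k : ℕ, φ ^ (2 ^ k) = 1 := by
  refine ⟨fun x hx => ?_, fun φ hφ => ?_⟩
  · induction hx using Subgroup.closure_induction with
    | mem g hg => exact hg
    | one => exact one_pow 4
    | mul a b _ _ ha hb => rw [commute_facts hel hcen, ha, hb, one_mul]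
    | inv a _ ha => rw [inv_pow, ha, inv_one]
  -- elements killed by `2 ^ j` are fixed by `φ ^ (4 ^ j)`
  have key : ∀ j : ℕ, ∀ g : X, g ^ (2 ^ j) = 1 → (φ ^ (4 ^ j)) g = g := by
    intro j
    induction j with
    | zero => intro g hg; rw [pow_zero, pow_one] at hg; rw [hg, map_one]
    | succ j ih =>
      intro g hg
      set ψ := φ ^ (4 ^ j) with hψ
      have h2 : ψ (g * g) = g * g := ih _ (by rw [← pow_two, ← pow_mul, ← pow_succ']; exact hg)
      have hfix : ∀ u : X, u ^ 4 = 1 → ψ u = u := by
        intro u hu
        have : ∀ m : ℕ, (φ ^ m) u = u := by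
          intro m
          induction m with
          | zero => simp
          | succ m ihm => rw [pow_succ, MulAut.mul_apply, hφ u hu, ihm]
        exact this _
      set d := g⁻¹ * ψ g with hd
      have hg1 : ψ g = g * d := by rw [hd, mul_inv_cancel_left]
      have hdd : g * d * (g * d) = g * g := by rw [← hg1, ← map_mul, h2]
      obtain ⟨c, hc, hcdef⟩ : ∃ c ∈ commutator X, d * g = c * (g * d) := by
        refine ⟨d * g * d⁻¹ * g⁻¹, ?_, by group⟩
        rw [commutator_def]
        simpa [commutatorElement_def, mul_assoc] using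
          Subgroup.commutator_mem_commutator (Subgroup.mem_top d) (Subgroup.mem_top g)
      have hcz : ∀ z, z * c = c * z := fun z => Subgroup.mem_center_iff.mp (hcen hc) z
      have hcd : c * (d * d) = 1 := by
        have e : g * d * (g * d) = g * g * (c * (d * d)) := by
          calc g * d * (g * d) = g * (d * g) * d := by group
            _ = g * (c * (g * d)) * d := by rw [hcdef]
            _ = g * (c * g) * (d * d) := by group
            _ = g * g * (c * (d * d)) := by rw [← hcz g]; group
        rw [e] at hdd
        exact mul_eq_left.mp hdd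
      have hd4 : d ^ 4 = 1 := by
        have h3 : d * d = c⁻¹ := eq_inv_of_mul_eq_one_right hcd
        calc d ^ 4 = d * d * (d * d) := by simp [pow_succ, mul_assoc]
          _ = (c ^ 2)⁻¹ := by rw [h3]; group
          _ = 1 := by rw [hel.2 c hc, inv_one]
      have hm : ∀ m : ℕ, (ψ ^ m) g = g * d ^ m := by
        intro m
        induction m with
        | zero => simp
        | succ m ihm =>
          rw [pow_succ', MulAut.mul_apply, ihm, map_mul, hg1, map_pow, hfix d hd4, pow_succ',
            mul_assoc]
      rw [pow_succ, pow_mul, ← hψ, hm 4, hd4, mul_one]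
  obtain ⟨n, hn⟩ := hX.exists_card_eq
  refine ⟨2 * n, MulEquiv.ext fun g => ?_⟩
  rw [pow_mul, show (2 : ℕ) ^ 2 = 4 from rfl, MulAut.one_apply]
  exact key n g (by rw [← hn]; exact pow_card_eq_one')

end Cfsg.Agent.S1898
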