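import Cfsg.Statements.S1899

set_option autoImplicit false
set_option linter.style.haveILetI false
set_option linter.unusedVariables false
open Cfsg

open scoped commutatorElement

namespace Cfsg.Agent.S1899

/-- Let a dihedral group of order 2n, n odd and n > 1, act on a finite abelian 2-group A through automorphisms d and t with d^n = 1, t² = 1 and t d t⁻¹ = d⁻¹, and suppose that d fixes only the identity. Then A is the internal direct product of C_A(t) and its image under d. -/
theorem result {A : Type*} [CommGroup A] [Finite A] (hA : IsPGroup 2 A)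
    {n : ℕ} (hn : Odd n) (hn1 : 1 < n) (d t : MulAut A) (hd : d ^ n = 1) (ht : t ^ 2 = 1) (hdt : t * d * t⁻¹ = d⁻¹)
    (hfix : ∀ a : A, d a = a → a = 1) :
    (MulEquiv.toMonoidHom t).eqLocus (MonoidHom.id A) ⊓ ((MulEquiv.toMonoidHom t).eqLocus (MonoidHom.id A)).map d.toMonoidHom = ⊥ ∧
      (MulEquiv.toMonoidHom t).eqLocus (MonoidHom.id A) ⊔ ((MulEquiv.toMonoidHom t).eqLocus (MonoidHom.id A)).map d.toMonoidHom = ⊤ := by
  obtain ⟨k, rfl⟩ := hn
  have hdt' : ∀ a, t (d a) = d⁻¹ (t a) := by
    intro a
    have h := congrArg (fun e : MulAut A => e (t a)) hdt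
    simp only [MulAut.mul_apply, MulAut.inv_apply, MulEquiv.symm_apply_apply] at h
    exact h
  have htt : ∀ a, t (t a) = a := fun a => by
    have h := congrArg (fun e : MulAut A => e a) ht
    simpa [pow_two] using h
  have hd2 : ∀ b : A, d (d b) = b → b = 1 := by
    intro b hb
    apply hfix
    have h2 : ∀ j : ℕ, (d ^ (2 * j)) b = b := by
      intro j
      induction j with
      | zero => simp
      | succ j ih =>
        rw [show 2 * (j + 1) = 2 * j + 1 + 1 from rfl, pow_succ, pow_succ, MulAut.mul_apply,
          MulAut.mul_apply, hb, ih]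
    have h3 := congrArg (fun e : MulAut A => e b) hd
    simp only [MulAut.one_apply] at h3
    rw [pow_succ', MulAut.mul_apply, h2 k] at h3
    exact h3
  refine ⟨?_, top_le_iff.mp fun a _ => ?_⟩
  · rw [eq_bot_iff]
    rintro a ⟨ha, b, hb, rfl⟩
    change t (d b) = d b at ha
    change t b = b at hb
    rw [Subgroup.mem_bot]
    change d b = 1
    rw [hdt', hb] at ha
    rw [hd2 b (by
      have h := congrArg d ha
      rw [MulAut.inv_apply, MulEquiv.apply_symm_apply] at h
      exact h.symm), map_one]
  · have hinj : Function.Injective (fun a : A => t a * (d (d (t a)))⁻¹) := by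
      intro x y h
      apply t.injective
      rw [← div_eq_one]
      refine hd2 _ ?_
      rw [map_div, map_div]
      have h' : t x * (d (d (t x)))⁻¹ = t y * (d (d (t y)))⁻¹ := h
      rw [← div_eq_mul_inv, ← div_eq_mul_inv, div_eq_div_iff_div_eq_div] at h'
      exact h'.symm
    obtain ⟨b, rfl⟩ := Finite.surjective_of_injective hinj a
    change t b * (d (d (t b)))⁻¹ ∈ _
    rw [show t b * (d (d (t b)))⁻¹ = (b * t b) * (b * d (d (t b)))⁻¹ by
      rw [mul_inv_rev, mul_comm b (t b), mul_assoc, mul_comm (d (d (t b)))⁻¹ b⁻¹,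
        mul_inv_cancel_left]]
    refine Subgroup.mul_mem _ (Subgroup.mem_sup_left ?_) (Subgroup.inv_mem _ (Subgroup.mem_sup_right ?_))
    · change t (b * t b) = b * t b
      rw [map_mul, htt, mul_comm]
    · refine ⟨d⁻¹ (b * d (d (t b))), ?_, MulEquiv.apply_symm_apply d _⟩
      have e : ∀ x : A, t (d⁻¹ x) = d (t x) := by
        intro x
        have h := hdt' (d⁻¹ x)
        rw [MulAut.inv_apply, MulEquiv.apply_symm_apply, MulAut.inv_apply] at h
        rw [MulAut.inv_apply, h, MulEquiv.apply_symm_apply]
      change t (d⁻¹ (b * d (d (t b)))) = d⁻¹ (b * d (d (t b)))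
      rw [e, map_mul, map_mul, map_mul, hdt', hdt', htt]
      simp [MulAut.inv_apply, mul_comm]

end Cfsg.Agent.S1899
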