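import Cfsg.Statements.S1900
import Cfsg.Agent.Lib.Coprime.Generation

set_option autoImplicit false
set_option linter.style.haveILetI false
open Cfsg

namespace Cfsg.Agent.S1900

open scoped commutatorElement

theorem mem_centralizer_singleton_of_commute {G : Type*} [Group G] {g x : G} (h : x * g = g * x) :
    x ∈ Subgroup.centralizer ({g} : Set G) :=
  Subgroup.mem_centralizer_singleton_iff.mpr h

set_option linter.unusedVariables false in
theorem aux {S : Type*} [Group S] [Finite S] {P Q : Subgroup S} [P.Normal] [IsMulCommutative Q]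
    (hS : P ⊔ Q = ⊤) [hnil : Group.IsNilpotent P] (hcop : (Nat.card Q).Coprime (Nat.card P))
    {X₁ X₂ : Subgroup S} (h₁ : X₁ ≤ Q) (h₂ : X₂ ≤ Q)
    (hgen : ∀ M ≤ P, Q ≤ Subgroup.normalizer (M : Set S) →
      M ≤ (M ⊓ Subgroup.centralizer (X₁ : Set S)) ⊔ (M ⊓ Subgroup.centralizer (X₂ : Set S)))
    (hbot : (P ⊓ Subgroup.centralizer (X₁ : Set S)) ⊓ (P ⊓ Subgroup.centralizer (X₂ : Set S)) = ⊥)
    {M : Subgroup S} [M.Normal] (hMP : M ≤ P)
    (hM : ⁅P ⊓ Subgroup.centralizer (X₁ : Set S), P ⊓ Subgroup.centralizer (X₂ : Set S)⁆ ≤ M) :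
    ⁅P ⊓ Subgroup.centralizer (X₁ : Set S), P ⊓ Subgroup.centralizer (X₂ : Set S)⁆
      ≤ (M ⊓ Subgroup.centralizer (X₁ : Set S)) ⊔ ⁅M, P⁆ := by
  set C₁ := P ⊓ Subgroup.centralizer (X₁ : Set S) with hC₁
  set C₂ := P ⊓ Subgroup.centralizer (X₂ : Set S) with hC₂
  set K := (M ⊓ Subgroup.centralizer (X₁ : Set S)) ⊔ ⁅M, P⁆ with hK
  have hQX : ∀ X : Subgroup S, X ≤ Q → Q ≤ Subgroup.normalizer (X : Set S) := fun X hX q hq =>
    Subgroup.centralizer_le_normalizer (X : Set S) fun x hx =>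
      congrArg (Subtype.val (p := fun z => z ∈ Q)) (mul_comm' (⟨x, hX hx⟩ : Q) ⟨q, hq⟩)
  have hKM : K ≤ M := sup_le inf_le_left (Subgroup.commutator_le_left M P)
  haveI : K.Normal := by
    rw [← Subgroup.normalizer_eq_top_iff, eq_top_iff, ← hS]
    refine sup_le (fun g hg => ?_) ?_
    · rw [CfsgLib.Coprime.mem_normalizer_iff_conj_smul]
      apply le_antisymm
      · rintro _ ⟨k, hk, rfl⟩
        have h : ⁅g, k⁆ * k ∈ K := mul_mem (Subgroup.mem_sup_right
          (by rw [Subgroup.commutator_comm]; exact Subgroup.commutator_mem_commutator hg (hKM hk))) hk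
        simpa [commutatorElement_def] using h
      · intro k hk
        rw [CfsgLib.Coprime.mem_conj_smul_iff]
        have h : ⁅g⁻¹, k⁆ * k ∈ K := mul_mem (Subgroup.mem_sup_right
          (by rw [Subgroup.commutator_comm]
              exact Subgroup.commutator_mem_commutator (inv_mem hg) (hKM hk))) hk
        simpa [commutatorElement_def] using h
    · exact CfsgLib.Coprime.le_normalizer_sup_of_le
        (CfsgLib.Coprime.le_normalizer_inf_of_le Subgroup.le_normalizer_of_normal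
          (CfsgLib.Coprime.le_normalizer_centralizer (hQX X₁ h₁)))
        Subgroup.le_normalizer_of_normal
  set π := QuotientGroup.mk' K with hπ
  have hker : ∀ x ∈ K, π x = 1 := fun x hx => (QuotientGroup.eq_one_iff x).mpr hx
  have hMc : ∀ m ∈ M, ∀ g ∈ P, π m * π g = π g * π m := fun m hm g hg => by
    have h := hker _ (Subgroup.mem_sup_right (Subgroup.commutator_mem_commutator hm hg))
    rw [map_commutatorElement, commutatorElement_eq_one_iff_mul_comm] at h
    exact h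
  have hMy : ∀ y ∈ X₂, ∀ m ∈ M, π m * π y = π y * π m := by
    intro y hy m hm
    have h : M ≤ (Subgroup.centralizer ({π y} : Set (S ⧸ K))).comap π := by
      refine (hgen M hMP Subgroup.le_normalizer_of_normal).trans (sup_le (fun x hx => ?_) fun x hx => ?_)
      · refine mem_centralizer_singleton_of_commute ?_
        rw [hker x (Subgroup.mem_sup_left hx), one_mul, mul_one]
      · refine mem_centralizer_singleton_of_commute ?_
        rw [← map_mul, ← map_mul, (Subgroup.mem_inf.mp hx).2 y hy]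
    exact Subgroup.mem_centralizer_singleton_iff.mp (h hm)
  have hX₂C₁ : X₂ ≤ Subgroup.normalizer (C₁ : Set S) :=
    h₂.trans (CfsgLib.Coprime.le_normalizer_inf_of_le Subgroup.le_normalizer_of_normal
      (CfsgLib.Coprime.le_normalizer_centralizer (hQX X₁ h₁)))
  have hcopC : (Nat.card X₂).Coprime (Nat.card C₁) :=
    (hcop.coprime_dvd_left (Subgroup.card_dvd_of_le h₂)).coprime_dvd_right
      (Subgroup.card_dvd_of_le inf_le_left)
  have hsol : Group.IsSolvable X₂ := Group.isSolvable_of_comm fun a b => Subtype.ext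
    (congrArg (Subtype.val (p := fun z => z ∈ Q)) (mul_comm' (⟨a, h₂ a.2⟩ : Q) ⟨b, h₂ b.2⟩))
  have hC₁eq : ⁅C₁, X₂⁆ = C₁ := by
    have h := CfsgLib.Coprime.commutator_sup_centralizer hX₂C₁ hcopC (Or.inl hsol)
    have h' : C₁ ⊓ Subgroup.centralizer (X₂ : Set S) = ⊥ := by
      refine le_bot_iff.mp (le_trans ?_ hbot.le)
      exact le_inf inf_le_left (le_inf (inf_le_left.trans inf_le_left) inf_le_right)
    rwa [h', sup_bot_eq] at h
  refine Subgroup.commutator_le.mpr fun a₀ ha₀ b hb => ?_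
  have hU : C₁ ≤ (Subgroup.centralizer ({π b} : Set (S ⧸ K))).comap π := by
    conv_lhs => rw [← hC₁eq]
    refine Subgroup.commutator_le.mpr fun a ha y hy => ?_
    set a' := y * a * y⁻¹ with ha'
    set c := ⁅a, y⁆ with hc
    have ha'C : a' ∈ C₁ := (Subgroup.mem_normalizer_iff.mp (hX₂C₁ hy) a).mp ha
    have hcC : c ∈ C₁ := by
      rw [← hC₁eq]; exact Subgroup.commutator_mem_commutator ha hy
    have hac : a = c * a' := by rw [hc, ha', commutatorElement_def]; group
    have hyb : y * b * y⁻¹ = b := by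
      rw [(Subgroup.mem_inf.mp hb).2 y hy, mul_inv_cancel_right]
    have hz : π ⁅a', b⁆ = π ⁅a, b⁆ := by
      have h1 : ⁅a', b⁆ = y * ⁅a, b⁆ * y⁻¹ := by
        conv_lhs => rw [← hyb, ha']
        simp only [commutatorElement_def]; group
      rw [h1, map_mul, map_mul, map_inv, ← hMy y hy _ (hM (Subgroup.commutator_mem_commutator ha hb)),
        mul_inv_cancel_right]
    have h2 : π ⁅a, b⁆ = π ⁅a', b⁆ * π ⁅c, b⁆ := by
      have h3 : ⁅c * a', b⁆ = c * ⁅a', b⁆ * c⁻¹ * ⁅c, b⁆ := by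
        simp only [commutatorElement_def]; group
      conv_lhs => rw [hac, h3]
      rw [map_mul, map_mul, map_mul, map_inv,
        ← hMc _ (hM (Subgroup.commutator_mem_commutator ha'C hb)) c (Subgroup.mem_inf.mp hcC).1,
        mul_inv_cancel_right]
    rw [hz, left_eq_mul, map_commutatorElement, commutatorElement_eq_one_iff_mul_comm] at h2
    exact mem_centralizer_singleton_of_commute h2
  have h := Subgroup.mem_centralizer_singleton_iff.mp (hU ha₀)
  rw [← QuotientGroup.eq_one_iff]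
  change π ⁅a₀, b⁆ = 1
  rw [map_commutatorElement, commutatorElement_eq_one_iff_mul_comm]
  exact h

/-- Let S = PQ be a finite group with P a normal Sylow p-subgroup and Q elementary abelian of order q², q a prime different from p. If exactly two subgroups X₁, X₂ of order q in Q have a nontrivial centralizer in P, then P is the internal direct product of C_P(X₁) and C_P(X₂): they commute elementwise, meet trivially and generate P. -/
theorem result {S : Type*} [Group S] [Finite S] {p q : ℕ} [Fact p.Prime] [Fact q.Prime] (hpq : p ≠ q)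
    (P : Sylow p S) [(P : Subgroup S).Normal] (Q : Subgroup S) (hQ : Cfsg.IsElementaryAbelian q Q) (hQc : Nat.card Q = q ^ 2)
    (hS : (P : Subgroup S) ⊔ Q = ⊤)
    (X₁ X₂ : Subgroup S) (h₁ : X₁ ≤ Q) (h₂ : X₂ ≤ Q) (h₁₂ : X₁ ≠ X₂) (hc₁ : Nat.card X₁ = q) (hc₂ : Nat.card X₂ = q)
    (hf₁ : (P : Subgroup S) ⊓ Subgroup.centralizer (X₁ : Set S) ≠ ⊥)
    (hf₂ : (P : Subgroup S) ⊓ Subgroup.centralizer (X₂ : Set S) ≠ ⊥)
    (honly : ∀ X : Subgroup S, X ≤ Q → Nat.card X = q →
      (P : Subgroup S) ⊓ Subgroup.centralizer (X : Set S) ≠ ⊥ → X = X₁ ∨ X = X₂) :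
    ⁅(P : Subgroup S) ⊓ Subgroup.centralizer (X₁ : Set S), (P : Subgroup S) ⊓ Subgroup.centralizer (X₂ : Set S)⁆ = ⊥ ∧
      ((P : Subgroup S) ⊓ Subgroup.centralizer (X₁ : Set S)) ⊓ ((P : Subgroup S) ⊓ Subgroup.centralizer (X₂ : Set S)) = ⊥ ∧
      ((P : Subgroup S) ⊓ Subgroup.centralizer (X₁ : Set S)) ⊔ ((P : Subgroup S) ⊓ Subgroup.centralizer (X₂ : Set S)) = P := by
  classical
  haveI : IsMulCommutative Q := hQ.1
  have hp := (Fact.out : p.Prime)
  have hq := (Fact.out : q.Prime)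
  haveI : Group.IsNilpotent (P : Subgroup S) := P.2.isNilpotent
  have hcop : (Nat.card Q).Coprime (Nat.card (P : Subgroup S)) := by
    obtain ⟨n, hn⟩ := IsPGroup.iff_card.mp P.2
    rw [hQc, hn]
    exact Nat.coprime_pow_primes _ _ hq hp hpq.symm
  have hQnc : ¬ IsCyclic Q := CfsgLib.Coprime.not_isCyclic_of_exponent hQ.2 hq.pos
    (by rw [hQc]; nlinarith [hq.two_le])
  have hord : ∀ g ∈ Q, g ≠ 1 → Nat.card (Subgroup.zpowers g) = q := fun g hg hg1 => by
    rw [Nat.card_zpowers]; exact orderOf_eq_prime (hQ.2 g hg) hg1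
  obtain ⟨x₁, hx₁, hx₁1⟩ : ∃ x ∈ X₁, x ≠ 1 := by
    refine (X₁.bot_or_exists_ne_one).resolve_left fun h => ?_
    rw [h, Subgroup.card_bot] at hc₁; exact hq.one_lt.ne hc₁
  obtain ⟨x₂, hx₂, hx₂1⟩ : ∃ x ∈ X₂, x ≠ 1 := by
    refine (X₂.bot_or_exists_ne_one).resolve_left fun h => ?_
    rw [h, Subgroup.card_bot] at hc₂; exact hq.one_lt.ne hc₂
  have hgen₁ : Subgroup.zpowers x₁ = X₁ := Subgroup.eq_of_le_of_card_ge
    (Subgroup.zpowers_le.mpr hx₁) (by rw [hord x₁ (h₁ hx₁) hx₁1, hc₁])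
  have hgen₂ : Subgroup.zpowers x₂ = X₂ := Subgroup.eq_of_le_of_card_ge
    (Subgroup.zpowers_le.mpr hx₂) (by rw [hord x₂ (h₂ hx₂) hx₂1, hc₂])
  set x₃ := x₁ * x₂ with hx₃
  have hx₃Q : x₃ ∈ Q := mul_mem (h₁ hx₁) (h₂ hx₂)
  have hn₁ : x₂ ∉ X₁ := fun h => h₁₂ (Subgroup.eq_of_le_of_card_ge
    (hgen₂ ▸ Subgroup.zpowers_le.mpr h) (by rw [hc₁, hc₂])).symm
  have hn₂ : x₁ ∉ X₂ := fun h => h₁₂ (Subgroup.eq_of_le_of_card_ge
    (hgen₁ ▸ Subgroup.zpowers_le.mpr h) (by rw [hc₁, hc₂]))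
  have hx₃1 : x₃ ≠ 1 := fun h => hn₂ (by
    rw [eq_inv_of_mul_eq_one_left h]; exact inv_mem hx₂)
  have hfix₃ : (P : Subgroup S) ⊓ Subgroup.centralizer ((Subgroup.zpowers x₃ : Subgroup S) : Set S) = ⊥ := by
    by_contra hne
    rcases honly _ (Subgroup.zpowers_le.mpr hx₃Q) (hord x₃ hx₃Q hx₃1) hne with h | h
    · have h' := mul_mem (inv_mem hx₁) (h ▸ Subgroup.mem_zpowers x₃ : x₃ ∈ X₁)
      rw [hx₃, inv_mul_cancel_left] at h'
      exact hn₁ h'
    · have h' := mul_mem (h ▸ Subgroup.mem_zpowers x₃ : x₃ ∈ X₂) (inv_mem hx₂)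
      rw [hx₃, mul_inv_cancel_right] at h'
      exact hn₂ h'
  have hgen : ∀ M : Subgroup S, M ≤ P → Q ≤ Subgroup.normalizer (M : Set S) →
      M ≤ (M ⊓ Subgroup.centralizer (X₁ : Set S)) ⊔ (M ⊓ Subgroup.centralizer (X₂ : Set S)) := by
    intro M hMP hMQ
    refine CfsgLib.Coprime.le_of_centralizer_le hQnc hMQ
      (hcop.coprime_dvd_right (Subgroup.card_dvd_of_le hMP)) fun g hg hg1 m hm => ?_
    obtain ⟨hmM, hmg⟩ := Subgroup.mem_inf.mp hm
    have hmz := CfsgLib.Coprime.mem_centralizer_singleton_zpowers hmg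
    by_cases hm1 : m = 1
    · rw [hm1]; exact one_mem _
    rcases honly _ (Subgroup.zpowers_le.mpr hg) (hord g hg hg1) (fun h => hm1 (by
      rw [← Subgroup.mem_bot, ← h]; exact Subgroup.mem_inf.mpr ⟨hMP hmM, hmz⟩)) with h | h
    · rw [h] at hmz; exact Subgroup.mem_sup_left (Subgroup.mem_inf.mpr ⟨hmM, hmz⟩)
    · rw [h] at hmz; exact Subgroup.mem_sup_right (Subgroup.mem_inf.mpr ⟨hmM, hmz⟩)
  have hbot : ((P : Subgroup S) ⊓ Subgroup.centralizer (X₁ : Set S)) ⊓
      ((P : Subgroup S) ⊓ Subgroup.centralizer (X₂ : Set S)) = ⊥ := by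
    refine le_bot_iff.mp fun u hu => ?_
    obtain ⟨hu1, hu2⟩ := Subgroup.mem_inf.mp hu
    rw [← hfix₃]
    refine Subgroup.mem_inf.mpr ⟨(Subgroup.mem_inf.mp hu1).1,
      CfsgLib.Coprime.mem_centralizer_singleton_zpowers (mem_centralizer_singleton_of_commute ?_)⟩
    have e₁ : Commute u x₁ := ((Subgroup.mem_inf.mp hu1).2 x₁ hx₁).symm
    have e₂ : Commute u x₂ := ((Subgroup.mem_inf.mp hu2).2 x₂ hx₂).symm
    exact (e₁.mul_right e₂).eq
  refine ⟨?_, hbot, le_antisymm (sup_le inf_le_left inf_le_left)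
    (hgen _ le_rfl Subgroup.le_normalizer_of_normal)⟩
  suffices H : ∀ (n : ℕ) (M : Subgroup S), Nat.card M = n → M.Normal → M ≤ P →
      ⁅(P : Subgroup S) ⊓ Subgroup.centralizer (X₁ : Set S),
        (P : Subgroup S) ⊓ Subgroup.centralizer (X₂ : Set S)⁆ ≤ M →
      ⁅(P : Subgroup S) ⊓ Subgroup.centralizer (X₁ : Set S),
        (P : Subgroup S) ⊓ Subgroup.centralizer (X₂ : Set S)⁆ = ⊥ from
    H _ (P : Subgroup S) rfl inferInstance le_rfl
      ((Subgroup.commutator_mono inf_le_left inf_le_left).trans (Subgroup.commutator_le_left _ _))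
  intro n
  induction n using Nat.strong_induction_on with
  | _ n ih =>
    intro M hn hMn hMP hM
    by_cases hM0 : M = ⊥
    · exact le_bot_iff.mp (hM0 ▸ hM)
    have hlt : ⁅M, (P : Subgroup S)⁆ < M :=
      CfsgLib.Coprime.commutator_lt_of_isNilpotent hMP le_rfl Subgroup.le_normalizer_of_normal hM0
    haveI : (⁅M, (P : Subgroup S)⁆).Normal := Subgroup.commutator_normal M P
    refine ih _ (hn ▸ Set.Finite.card_lt_card (Set.toFinite _) (SetLike.coe_ssubset_coe.mpr hlt)) _ rfl inferInstance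
      (hlt.le.trans hMP) ?_
    intro u hu
    have k₁ := aux hS hcop h₁ h₂ hgen hbot hMP hM hu
    have k₂ := aux hS hcop h₂ h₁ (fun N hN hN' => (hgen N hN hN').trans (sup_comm _ _).le)
      (by rw [inf_comm]; exact hbot) hMP (by rw [Subgroup.commutator_comm]; exact hM) (by rw [Subgroup.commutator_comm]; exact hu)
    set N := ⁅M, (P : Subgroup S)⁆ with hN
    set π := QuotientGroup.mk' N with hπ
    have hcomm : ∀ (X : Subgroup S) (x : S), x ∈ X → u ∈ (M ⊓ Subgroup.centralizer (X : Set S)) ⊔ N →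
        Commute (π u) (π x) := by
      intro X x hx h
      have h' : (M ⊓ Subgroup.centralizer (X : Set S)) ⊔ N
          ≤ (Subgroup.centralizer ({π x} : Set (S ⧸ N))).comap π := by
        refine sup_le (fun m hm => ?_) fun m hm => ?_
        · refine mem_centralizer_singleton_of_commute ?_
          rw [← map_mul, ← map_mul, (Subgroup.mem_inf.mp hm).2 x hx]
        · refine mem_centralizer_singleton_of_commute ?_
          rw [show π m = 1 from (QuotientGroup.eq_one_iff m).mpr hm, one_mul, mul_one]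
      exact Subgroup.mem_centralizer_singleton_iff.mp (h' h)
    have hc3 : π u ∈ Subgroup.centralizer
        (((Subgroup.zpowers x₃).map π : Subgroup (S ⧸ N)) : Set (S ⧸ N)) := by
      rw [MonoidHom.map_zpowers]
      refine CfsgLib.Coprime.mem_centralizer_singleton_zpowers (mem_centralizer_singleton_of_commute ?_)
      rw [hx₃, map_mul]
      exact ((hcomm X₁ x₁ hx₁ k₁).mul_right (hcomm X₂ x₂ hx₂ k₂)).eq
    have h3 : π u ∈ M.map π ⊓ Subgroup.centralizer
        (((Subgroup.zpowers x₃).map π : Subgroup (S ⧸ N)) : Set (S ⧸ N)) :=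
      Subgroup.mem_inf.mpr ⟨Subgroup.mem_map_of_mem π (hM hu), hc3⟩
    rw [← CfsgLib.Coprime.map_inf_centralizer Subgroup.le_normalizer_of_normal
      ((hcop.coprime_dvd_left (Subgroup.card_dvd_of_le (Subgroup.zpowers_le.mpr hx₃Q))).coprime_dvd_right
        (Subgroup.card_dvd_of_le hMP))
      (Or.inl (Group.isSolvable_of_comm fun a b => mul_comm' a b)) π,
      le_bot_iff.mp ((inf_le_inf_right _ hMP).trans hfix₃.le), Subgroup.map_bot, Subgroup.mem_bot] at h3
    exact (QuotientGroup.eq_one_iff u).mp h3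

end Cfsg.Agent.S1900
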