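import Cfsg.Statements.S1901
import Mathlib
import Cfsg.Agent.Lib.Layer.PComponent

set_option autoImplicit false
set_option linter.style.haveILetI false
open Cfsg

namespace Cfsg.Agent.S1901

open scoped commutatorElement

/-- One step along a normal `p`- or `p'`-subgroup `M`. -/
theorem step {X : Type*} [Group X] [Finite X] {p : ℕ} [Fact p.Prime] {P Q M : Subgroup X}
    [M.Normal] (hP : IsPGroup p P) (hPi : P.index.Coprime p) (hQ : (Nat.card Q).Coprime p)
    (hQP : Q ≤ Subgroup.normalizer (P : Set X)) {x : X} (hx : x ∈ Subgroup.normalizer (Q : Set X))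
    {k : ℕ} (hxk : x ^ p ^ k = 1) (hM : IsPGroup p M ∨ (Nat.card M).Coprime p)
    {q : X} (hq : q ∈ Q) (hqM : ⁅x, q⁆ ∈ M) : ⁅x, q⁆ = 1 := by
  set c := ⁅x, q⁆ with hc
  have hcQ : c ∈ Q := by
    rw [hc, commutatorElement_def]
    exact mul_mem ((Subgroup.mem_normalizer_iff.mp hx q).mp hq) (inv_mem hq)
  have hone : ∀ {A : Subgroup X} {z : X}, IsPGroup p A → z ∈ A → ∀ {B : Subgroup X},
      (Nat.card B).Coprime p → z ∈ B → z = 1 := by
    intro A z hA hzA B hB hzB
    obtain ⟨j, hj⟩ := hA ⟨z, hzA⟩
    exact orderOf_eq_one_iff.mp (Nat.eq_one_of_dvd_coprimes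
      (((hB.coprime_dvd_left (B.orderOf_dvd_natCard hzB)).pow_right j).symm)
      (orderOf_dvd_of_pow_eq_one (congrArg Subtype.val hj)) dvd_rfl)
  rcases hM with hM | hM
  · exact hone hM hqM hQ hcQ
  set Q₀ := Q ⊓ M with hQ₀
  have hPQ₀ : P ≤ Subgroup.centralizer (Q₀ : Set X) := by
    intro s hs a ha
    obtain ⟨haQ, haM⟩ := Subgroup.mem_inf.mp ha
    rw [← commutatorElement_eq_one_iff_mul_comm]
    refine hone hP ?_ hM ?_
    · rw [commutatorElement_def]
      exact mul_mem ((Subgroup.mem_normalizer_iff.mp (hQP haQ) s).mp hs) (inv_mem hs)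
    · rw [commutatorElement_def, show a * s * a⁻¹ * s⁻¹ = a * (s * a⁻¹ * s⁻¹) by group]
      exact mul_mem haM (Subgroup.Normal.conj_mem inferInstance _ (inv_mem haM) s)
  have hxQ₀ : x ∈ Subgroup.normalizer (Q₀ : Set X) :=
    CfsgLib.Coprime.le_normalizer_inf_of_le (Subgroup.zpowers_le.mpr hx)
      Subgroup.le_normalizer_of_normal (Subgroup.mem_zpowers x)
  set N := Subgroup.normalizer (Q₀ : Set X) with hN
  set C := Subgroup.centralizer (Q₀ : Set X) with hC
  haveI : (C.subgroupOf N).Normal :=
    (Subgroup.normal_subgroupOf_iff_le_normalizer (Subgroup.centralizer_le_normalizer _)).mpr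
      (CfsgLib.Coprime.le_normalizer_centralizer le_rfl)
  have hxC : x ∈ C := by
    have h1 : ((C.subgroupOf N).index).Coprime p := by
      refine hPi.coprime_dvd_left ?_
      exact ((Subgroup.relIndex_dvd_of_le_left N hPQ₀).trans
        (Subgroup.relIndex_dvd_index_of_le (hPQ₀.trans (Subgroup.centralizer_le_normalizer _))))
    have h2 := CfsgLib.Layer.mem_of_isSubnormal_of_coprime_index
      (inferInstance : (C.subgroupOf N).Normal).isSubnormal h1 (x := ⟨x, hxQ₀⟩) (j := k)
      (by rw [← Subgroup.orderOf_coe]; exact orderOf_dvd_of_pow_eq_one hxk)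
    exact h2
  have hxc : x * c = c * x := (hxC c (Subgroup.mem_inf.mpr ⟨hcQ, hqM⟩)).symm
  have hxq : x * q = c * q * x := by rw [hc, commutatorElement_def]; group
  have hpow : ∀ m : ℕ, x ^ m * q = c ^ m * q * x ^ m := by
    intro m
    induction m with
    | zero => simp
    | succ m ih =>
      calc x ^ (m + 1) * q = x * (c ^ m * q * x ^ m) := by rw [pow_succ', mul_assoc, ih]
        _ = c ^ m * (x * q) * x ^ m := by
          rw [← mul_assoc, ← mul_assoc, ((show Commute x c from hxc).pow_right m).eq]; group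
        _ = c ^ (m + 1) * q * x ^ (m + 1) := by rw [hxq, pow_succ, pow_succ' x]; group
  have hck := hpow (p ^ k)
  rw [hxk, one_mul, mul_one, right_eq_mul] at hck
  exact orderOf_eq_one_iff.mp (Nat.eq_one_of_dvd_coprimes
    (((hQ.coprime_dvd_left (Q.orderOf_dvd_natCard hcQ)).pow_right k).symm)
    (orderOf_dvd_of_pow_eq_one hck) dvd_rfl)

/-- Let G be a finite p-solvable group and Q a subgroup of order prime to p such that p divides the index of C_G(Q) in N_G(Q). Then Q normalizes no Sylow p-subgroup of G. -/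
theorem result {G : Type*} [Group G] [Finite G] {p : ℕ} [Fact p.Prime]
    (hG : Cfsg.IsPSolvable p G) (Q : Subgroup G) (hQ : ¬ p ∣ Nat.card Q)
    (hA : p ∣ (Subgroup.centralizer (Q : Set G)).relIndex (Subgroup.normalizer (Q : Set G)))
    (P : Sylow p G) : ¬ Q ≤ Subgroup.normalizer ((P : Subgroup G) : Set G) := by
  intro hQP
  have hp := (Fact.out : p.Prime)
  have hQc : (Nat.card Q).Coprime p := (hp.coprime_iff_not_dvd.mpr hQ).symm
  obtain ⟨n, H, h0, hlast, hmono, hnorm, hstep⟩ := hG
  have key : ∀ i : Fin (n + 1), ∀ x ∈ Subgroup.normalizer (Q : Set G), (∃ k, x ^ p ^ k = 1) →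
      ∀ q ∈ Q, ⁅x, q⁆ ∈ H i := by
    intro i
    induction i using Fin.reverseInduction with
    | last => intro x _ _ q _; rw [hlast]; trivial
    | cast i ih =>
      intro x hx hxk q hq
      obtain ⟨k, hk⟩ := hxk
      haveI := hnorm i.castSucc
      haveI := hnorm i.succ
      set π := QuotientGroup.mk' (H i.castSucc) with hπ
      haveI : ((H i.succ).map π).Normal :=
        (hnorm i.succ).map π (QuotientGroup.mk'_surjective _)
      have hle : H i.castSucc ≤ H i.succ := hmono (Fin.castSucc_le_succ i)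
      have hcard : Nat.card ↥((H i.succ).map π) = (H i.castSucc).relIndex (H i.succ) := by
        have h1 := Subgroup.relIndex_ker (K := H i.succ) π
        rw [hπ, QuotientGroup.ker_mk'] at h1
        rw [h1]
      have hM : IsPGroup p ↥((H i.succ).map π) ∨ (Nat.card ↥((H i.succ).map π)).Coprime p := by
        rcases hstep i with ⟨m, hm⟩ | hm
        · exact Or.inl (IsPGroup.of_card (n := m) (hcard.trans hm))
        · exact Or.inr (hcard ▸ hm)
      have hπi : ((P : Subgroup G).map π).index.Coprime p := by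
        refine ((hp.coprime_iff_not_dvd.mpr P.not_dvd_index).symm).coprime_dvd_left ?_
        exact Subgroup.index_map_dvd _ (QuotientGroup.mk'_surjective _)
      have h2 := step (P := (P : Subgroup G).map π) (Q := Q.map π) (M := (H i.succ).map π)
        (P.2.map π) hπi (hQc.coprime_dvd_left (Subgroup.card_map_dvd _ π))
        ((Subgroup.map_mono hQP).trans (Subgroup.le_normalizer_map π))
        (Subgroup.le_normalizer_map π (Subgroup.mem_map_of_mem π hx))
        (k := k) (by rw [← map_pow, hk, map_one]) hM (Subgroup.mem_map_of_mem π hq)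
        (by rw [← map_commutatorElement]
            exact Subgroup.mem_map_of_mem π (ih x hx ⟨k, hk⟩ q hq))
      rw [← map_commutatorElement] at h2
      exact (QuotientGroup.eq_one_iff _).mp h2
  obtain ⟨S⟩ := (inferInstance : Nonempty (Sylow p ↥(Subgroup.normalizer (Q : Set G))))
  refine S.not_dvd_index (hA.trans (Subgroup.index_dvd_of_le fun y hy => ?_))
  obtain ⟨k, hk⟩ := S.2 ⟨y, hy⟩
  refine Subgroup.mem_subgroupOf.mpr fun q hq => ?_
  have h1 := key 0 (y : G) y.2 ⟨k, by
    rw [← SubmonoidClass.coe_pow]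
    exact congrArg (fun z => ((z : ↥(S : Subgroup ↥(Subgroup.normalizer (Q : Set G)))) : G)) hk⟩ q hq
  rw [h0, Subgroup.mem_bot, commutatorElement_eq_one_iff_mul_comm] at h1
  exact h1.symm

end Cfsg.Agent.S1901
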