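import Cfsg.Statements.S1902
import Cfsg.Agent.Lib.Coprime.FpfFixedLine
import Cfsg.Agent.Lib.PSolvable.Constrained

set_option autoImplicit false
set_option linter.style.haveILetI false

set_option autoImplicit false
open Cfsg

namespace Cfsg.Agent.S1902

/-- Let p be an odd prime, G a finite p-solvable group, and B an elementary abelian subgroup of order p² such that B is the subgroup generated by the elements of order p of some Sylow p-subgroup of C_G(b₀), for some nontrivial b₀ ∈ B. Then every B-invariant subgroup of G of order prime to p lies in O_{p'}(G). -/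
theorem result {G : Type*} [Group G] [Finite G] {p : ℕ} [Fact p.Prime] (hp : p ≠ 2)
    (hG : Cfsg.IsPSolvable p G) (B : Subgroup G) (hB : Cfsg.IsElementaryAbelian p B) (hBc : Nat.card B = p ^ 2)
    (b₀ : G) (hb₀ : b₀ ∈ B) (hb₁ : b₀ ≠ 1) (P : Sylow p ↥(Subgroup.centralizer ({b₀} : Set G)))
    (hBP : B = Subgroup.closure {x : G | x ∈ ((P : Subgroup ↥(Subgroup.centralizer ({b₀} : Set G))).map
      (Subgroup.centralizer ({b₀} : Set G)).subtype : Subgroup G) ∧ orderOf x = p})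
    (Q : Subgroup G) (hQ : ¬ p ∣ Nat.card Q) (hinv : ∀ b ∈ B, ∀ x ∈ Q, b * x * b⁻¹ ∈ Q) :
    Q ≤ Cfsg.pPrimeCore p G := by
  classical
  set N := Cfsg.pPrimeCore p G with hN
  haveI : N.Normal := CfsgLib.Transfer.pPrimeCore_normal p G
  have hNp : (Nat.card N).Coprime p := CfsgLib.Transfer.pPrimeCore_coprime p
  set f := QuotientGroup.mk' N with hf
  have hsurj : Function.Surjective f := QuotientGroup.mk'_surjective N
  have hpp : Nat.Prime p := Fact.out
  haveI : IsMulCommutative B := hB.1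
  have hBp : IsPGroup p B := fun k => ⟨1, Subtype.ext (by rw [pow_one]; exact hB.2 k k.2)⟩
  have hBcomm : ∀ a ∈ B, a * b₀ = b₀ * a := fun a ha =>
    congrArg Subtype.val (mul_comm' (⟨a, ha⟩ : B) ⟨b₀, hb₀⟩)
  let C := Subgroup.centralizer ({b₀} : Set G)
  have hBC : B ≤ C := fun a ha => Subgroup.mem_centralizer_singleton_iff.mpr (hBcomm a ha)
  have hlift : ∀ X : Subgroup G, IsPGroup p X → ∀ x ∈ X, f x = 1 → x = 1 := by
    intro X hX x hx hfx
    have hxN : x ∈ N := (QuotientGroup.eq_one_iff x).mp hfx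
    obtain ⟨j, hj⟩ := IsPGroup.iff_orderOf.mp hX ⟨x, hx⟩
    rw [Subgroup.orderOf_mk] at hj
    have h1 : orderOf x ∣ Nat.card N := Subgroup.orderOf_dvd_natCard N hxN
    exact orderOf_eq_one_iff.mp (Nat.eq_one_of_dvd_coprimes (hNp.pow_right j) h1 (by rw [hj]))
  -- key property of the image of `B`
  have hH : ∀ W : Subgroup (G ⧸ N), IsPGroup p W → B.map f ≤ W →
      (∀ w ∈ W, w * f b₀ = f b₀ * w) → ∀ y ∈ W, y ^ p = 1 → y ∈ B.map f := by
    intro W hW hBW hWc y hy hyp
    have hBco : B ≤ W.comap f := fun a ha => hBW ⟨a, ha, rfl⟩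
    obtain ⟨P1, hP1⟩ := (hBp.of_equiv (Subgroup.subgroupOfEquivOfLe hBco).symm).exists_le_sylow
    set P1G := (P1 : Subgroup (W.comap f)).map (W.comap f).subtype with hP1G
    have hP1p : IsPGroup p P1G := P1.2.map _
    have hBP1 : B ≤ P1G := fun a ha => ⟨⟨a, hBco ha⟩, hP1 ha, rfl⟩
    have hs : Function.Surjective (f.subgroupComap W) := f.subgroupComap_surjective_of_surjective W hsurj
    have htop : (P1.mapSurjective hs : Sylow p W).toSubgroup = ⊤ :=
      ((P1.mapSurjective hs).is_maximal' (hW.to_subgroup ⊤ |> fun h => h) le_top).symm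
    have himg : ∀ w ∈ W, ∃ x ∈ P1G, f x = w := by
      intro w hw
      have : (⟨w, hw⟩ : W) ∈ (P1 : Subgroup (W.comap f)).map (f.subgroupComap W) := by
        rw [← Sylow.coe_mapSurjective hs, htop]; trivial
      obtain ⟨x, hx, hxe⟩ := this
      exact ⟨x, ⟨x, hx, rfl⟩, congrArg Subtype.val hxe⟩
    have hP1C : P1G ≤ C := by
      intro x hx
      refine Subgroup.mem_centralizer_singleton_iff.mpr (mul_inv_eq_one.mp
        (hlift P1G hP1p (x * b₀ * (b₀ * x)⁻¹) ?_ ?_))
      · exact P1G.mul_mem (P1G.mul_mem hx (hBP1 hb₀)) (P1G.inv_mem (P1G.mul_mem (hBP1 hb₀) hx))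
      · obtain ⟨x', hx', rfl⟩ := hx
        rw [map_mul, map_inv, map_mul, map_mul, show f ((W.comap f).subtype x') * f b₀ = f b₀ * f ((W.comap f).subtype x') from hWc _ x'.2, mul_inv_cancel]
    obtain ⟨S, hS⟩ := (hP1p.of_equiv (Subgroup.subgroupOfEquivOfLe hP1C).symm).exists_le_sylow
    obtain ⟨c, hc⟩ := MulAction.exists_smul_eq C S P
    have hconj : ∀ x ∈ P1G, x ^ p = 1 → (c : G) * x * (c : G)⁻¹ ∈ B := by
      intro x hx hxp
      by_cases hx1 : x = 1
      · rw [hx1, mul_one, mul_inv_cancel]; exact B.one_mem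
      rw [hBP]
      refine Subgroup.subset_closure ⟨⟨c * ⟨x, hP1C hx⟩ * c⁻¹, ?_, rfl⟩, orderOf_eq_prime ?_ ?_⟩
      · show c * (⟨x, hP1C hx⟩ : C) * c⁻¹ ∈ (P : Subgroup C)
        rw [← hc]
        exact ⟨_, hS (show (⟨x, hP1C hx⟩ : C) ∈ P1G.subgroupOf C from hx), rfl⟩
      · rw [conj_pow, hxp, mul_one, mul_inv_cancel]
      · exact fun e => hx1 (conj_eq_one_iff.mp e)
    have hBB : B.map (MulAut.conj (c : G)).toMonoidHom = B :=
      Subgroup.eq_of_le_of_card_ge (by rintro _ ⟨a, ha, rfl⟩; exact hconj a (hBP1 ha) (hB.2 a ha))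
        (Subgroup.card_map_of_injective (MulAut.conj (c : G)).injective).ge
    obtain ⟨x, hx, rfl⟩ := himg y hy
    have hxp : x ^ p = 1 := hlift P1G hP1p _ (P1G.pow_mem hx p) (by rw [map_pow]; exact hyp)
    have h := hconj x hx hxp
    rw [← hBB] at h
    obtain ⟨a, ha, hae⟩ := h
    exact ⟨a, ha, congrArg f ((MulAut.conj (c : G)).injective hae)⟩
  -- the reduced situation
  set b := f b₀ with hb
  set R := Cfsg.pCore p (G ⧸ N) with hR
  haveI : R.Normal := CfsgLib.Fitting.pCore_normal p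
  have hRp : IsPGroup p R := CfsgLib.Fitting.pCore_isPGroup p
  have hCR : Subgroup.centralizer (R : Set (G ⧸ N)) ≤ R :=
    CfsgLib.PSolvable.isPConstrained_iff.mp (CfsgLib.PSolvable.isPConstrained_of_isPSolvable hG)
  set Bb := B.map f with hBb
  have hBbp : IsPGroup p Bb := hBp.map f
  have hbB : b ∈ Bb := ⟨b₀, hb₀, rfl⟩
  have hbc : ∀ w ∈ Bb, w * b = b * w := by
    rintro _ ⟨a, ha, rfl⟩
    rw [hb, ← map_mul, ← map_mul, hBcomm a ha]
  set Qb := Q.map f with hQb
  have hQbp : (Nat.card Qb).Coprime p :=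
    ((hpp.coprime_iff_not_dvd.mpr hQ).symm).coprime_dvd_left (Subgroup.card_map_dvd Q f)
  have hBQ : ∀ w ∈ Bb, w ∈ Subgroup.normalizer (Qb : Set (G ⧸ N)) := by
    rintro _ ⟨a, ha, rfl⟩
    refine CfsgLib.Coprime.FpfFixedLine.mem_normalizer_of ?_
    rintro _ ⟨x, hx, rfl⟩
    exact ⟨a * x * a⁻¹, hinv a ha x hx, by rw [map_mul, map_mul, map_inv]⟩
  have hRQ : ∀ x ∈ R, x ∈ Qb → x = 1 := by
    intro x hxR hxQ
    obtain ⟨j, hj⟩ := IsPGroup.iff_orderOf.mp hRp ⟨x, hxR⟩
    rw [Subgroup.orderOf_mk] at hj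
    exact orderOf_eq_one_iff.mp (Nat.eq_one_of_dvd_coprimes (hQbp.pow_right j)
      (Subgroup.orderOf_dvd_natCard Qb hxQ) (by rw [hj]))
  have hfixB : ∀ y ∈ R, y ^ p = 1 → b * y = y * b → y ∈ Bb := by
    intro y hy hyp hyb
    set R0 := R ⊓ Subgroup.centralizer ({b} : Set (G ⧸ N)) with hR0
    have hn : Bb ≤ Subgroup.normalizer (R0 : Set (G ⧸ N)) := fun w hw =>
      CfsgLib.Coprime.FpfFixedLine.mem_normalizer_of fun x hx => by
        refine ⟨Subgroup.Normal.conj_mem inferInstance x hx.1 w, Subgroup.mem_centralizer_singleton_iff.mpr ?_⟩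
        have h1 : x * b = b * x := Subgroup.mem_centralizer_singleton_iff.mp hx.2
        have h2 : Commute w⁻¹ b := Commute.inv_left (hbc w hw)
        calc w * x * w⁻¹ * b = w * x * (w⁻¹ * b) := by group
          _ = w * (x * b) * w⁻¹ := by rw [h2.eq]; group
          _ = (w * b) * x * w⁻¹ := by rw [h1]; group
          _ = b * (w * x * w⁻¹) := by rw [hbc w hw]; group
    refine hH (R0 ⊔ Bb) (IsPGroup.to_sup_of_normal_left' (hRp.to_le inf_le_left) hBbp hn) le_sup_right ?_ y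
      (Subgroup.mem_sup_left ⟨hy, Subgroup.mem_centralizer_singleton_iff.mpr hyb.symm⟩) hyp
    intro w hw
    have hle : R0 ⊔ Bb ≤ Subgroup.centralizer ({b} : Set (G ⧸ N)) :=
      sup_le inf_le_right fun w hw => Subgroup.mem_centralizer_singleton_iff.mpr (hbc w hw)
    exact Subgroup.mem_centralizer_singleton_iff.mp (hle hw)
  have hQcent : ∀ y ∈ R, y ∈ Bb → ∀ x ∈ Qb, x * y = y * x := by
    intro y hy hyB x hx
    have h1 : x * y * x⁻¹ * y⁻¹ ∈ R := R.mul_mem (Subgroup.Normal.conj_mem inferInstance y hy x) (R.inv_mem hy)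
    have h2 : x * y * x⁻¹ * y⁻¹ ∈ Qb := by
      rw [show x * y * x⁻¹ * y⁻¹ = x * (y * x⁻¹ * y⁻¹) by group]
      exact Qb.mul_mem hx (CfsgLib.Coprime.FpfFixedLine.conj_mem (hBQ y hyB) (Qb.inv_mem hx))
    exact mul_inv_eq_iff_eq_mul.mp (mul_inv_eq_one.mp (hRQ _ h1 h2))
  -- no fixed points of `b` on `Qb`
  have hbp : b ^ p = 1 := by rw [hb, ← map_pow, hB.2 b₀ hb₀, map_one]
  have hb1' : b ≠ 1 := fun e => hb₁ (hlift B hBp b₀ hb₀ e)
  have hzp : IsPGroup p (Subgroup.zpowers b) :=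
    IsPGroup.of_card (n := 1) (by rw [Nat.card_zpowers, pow_one]; exact orderOf_eq_prime hbp hb1')
  have hfpf : ∀ x ∈ Qb, b * x = x * b → x = 1 := by
    intro x hx hxb
    set D := Qb ⊓ Subgroup.centralizer ({b} : Set (G ⧸ N)) with hD
    have hxD : x ∈ D := ⟨hx, Subgroup.mem_centralizer_singleton_iff.mpr hxb.symm⟩
    have hDR : D ≤ Subgroup.centralizer (R : Set (G ⧸ N)) := by
      refine CfsgLib.Coprime.pxq hzp (hQbp.coprime_dvd_left (Subgroup.card_dvd_of_le inf_le_left)) ?_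
        hRp Subgroup.le_normalizer_of_normal Subgroup.le_normalizer_of_normal ?_
      · rw [Subgroup.zpowers_le]
        exact Subgroup.mem_centralizer_iff.mpr fun d hd => Subgroup.mem_centralizer_singleton_iff.mp hd.2
      · intro r hr
        refine Subgroup.mem_centralizer_iff.mpr fun d hd => ?_
        set U := R ⊓ Subgroup.centralizer (Subgroup.zpowers b : Set (G ⧸ N)) with hU
        have hdc : d ∈ Subgroup.centralizer (Subgroup.zpowers b : Set (G ⧸ N)) := by
          refine Subgroup.mem_centralizer_iff.mpr ?_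
          rintro _ ⟨i, rfl⟩
          exact ((show Commute d b from Subgroup.mem_centralizer_singleton_iff.mp hd.2).zpow_right i).symm.eq
        have hdn : d ∈ Subgroup.normalizer (U : Set (G ⧸ N)) :=
          CfsgLib.Coprime.FpfFixedLine.mem_normalizer_of fun u hu =>
            ⟨Subgroup.Normal.conj_mem inferInstance u hu.1 d,
              Subgroup.mul_mem _ (Subgroup.mul_mem _ hdc hu.2) (Subgroup.inv_mem _ hdc)⟩
        have hmem := CfsgLib.Transfer.mem_centralizer_of_fixes_small (hRp.to_le inf_le_left : IsPGroup p U) hdn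
          (hQbp.coprime_dvd_left (Subgroup.orderOf_dvd_natCard Qb hd.1)) fun a ha hap => by
            rcases hap with h | ⟨h, -⟩
            · have hab : b * a = a * b := Subgroup.mem_centralizer_iff.mp ha.2 b (Subgroup.mem_zpowers b)
              rw [hQcent a ha.1 (hfixB a ha.1 h hab) d hd.1, mul_inv_cancel_right]
            · exact absurd h hp
        exact (Subgroup.mem_centralizer_iff.mp hmem r hr).symm
    exact hRQ x (hCR (hDR hxD)) hx
  -- conclusion
  suffices hbot : Qb = ⊥ by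
    intro x hx
    have h : f x ∈ Qb := ⟨x, hx, rfl⟩
    rw [hbot, Subgroup.mem_bot] at h
    exact (QuotientGroup.eq_one_iff x).mp h
  rw [eq_bot_iff]
  intro x hx
  rw [Subgroup.mem_bot]
  by_cases hbR : b ∈ R
  · exact hfpf x hx (hQcent b hbR hbB x hx).symm
  by_cases hR1 : R = ⊥
  · refine hRQ x (hCR (Subgroup.mem_centralizer_iff.mpr fun r hr => ?_)) hx
    rw [hR1] at hr
    rw [Subgroup.mem_bot.mp hr, one_mul, mul_one]
  obtain ⟨z, hz, hz1, hzb⟩ : ∃ z ∈ R, z ≠ 1 ∧ z * b = b * z := by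
    set H := R ⊔ Subgroup.zpowers b with hH'
    haveI : Group.IsNilpotent H := (hRp.to_sup_of_normal_left hzp).isNilpotent
    obtain ⟨⟨z, hzK, hzc⟩, hz1⟩ := Subgroup.ne_bot_iff_exists_ne_one.mp
      (CfsgLib.Critical.inf_center_ne_bot (R.subgroupOf H) fun e => hR1 (by
        rw [← Subgroup.map_subgroupOf_eq_of_le (le_sup_left : R ≤ H), e, Subgroup.map_bot]))
    exact ⟨z, hzK, fun e => hz1 (Subtype.ext (Subtype.ext e)),
      (congrArg Subtype.val (Subgroup.mem_center_iff.mp hzc ⟨b, Subgroup.mem_sup_right (Subgroup.mem_zpowers b)⟩)).symm⟩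
  obtain ⟨j, hj⟩ := IsPGroup.iff_orderOf.mp hRp ⟨z, hz⟩
  rw [Subgroup.orderOf_mk] at hj
  obtain ⟨i, rfl⟩ : ∃ i, j = i + 1 := by
    refine ⟨j - 1, ?_⟩
    rcases Nat.eq_zero_or_pos j with rfl | h
    · exact absurd (orderOf_eq_one_iff.mp (by rw [hj, pow_zero])) hz1
    · omega
  set y := z ^ p ^ i with hy
  have hyo : orderOf y = p := by
    rw [hy, orderOf_pow_of_dvd (pow_ne_zero _ hpp.ne_zero) (by rw [hj]; exact pow_dvd_pow p (by omega)), hj,
      pow_succ, Nat.mul_div_cancel_left _ (pow_pos hpp.pos _)]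
  have hyp : y ^ p = 1 := by rw [← hyo, pow_orderOf_eq_one]
  have hyR : y ∈ R := R.pow_mem hz _
  have hyb : b * y = y * b := ((show Commute z b from hzb).pow_left _).symm.eq
  have hyB := hfixB y hyR hyp hyb
  have hcardB : Nat.card Bb = p ^ 2 := by
    rw [← hBc]
    exact (Nat.card_congr (Equiv.ofBijective (fun a : B => (⟨f a, a, a.2, rfl⟩ : Bb))
      ⟨fun a a' e => Subtype.ext (inv_mul_eq_one.mp (hlift B hBp _ (B.mul_mem (B.inv_mem a.2) a'.2) (by
        rw [map_mul, map_inv, show f a = f a' from congrArg Subtype.val e, inv_mul_cancel]))),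
      fun w => by obtain ⟨_, a, ha, rfl⟩ := w; exact ⟨⟨a, ha⟩, rfl⟩⟩)).symm
  have hline : Bb ⊓ R = Subgroup.zpowers y := by
    refine (Subgroup.eq_of_le_of_card_ge (Subgroup.zpowers_le.mpr (Subgroup.mem_inf.mpr ⟨hyB, hyR⟩)) ?_).symm
    rw [Nat.card_zpowers, hyo]
    obtain ⟨k, hk, hk'⟩ := (Nat.dvd_prime_pow hpp).mp (hcardB ▸ Subgroup.card_dvd_of_le (inf_le_left : Bb ⊓ R ≤ Bb))
    rw [hk']
    rcases (show k ≤ 1 ∨ k = 2 by omega) with h | h
    · exact (Nat.pow_le_pow_right hpp.pos h).trans (le_of_eq (pow_one p))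
    · exfalso
      subst h
      have : Bb ⊓ R = Bb := Subgroup.eq_of_le_of_card_ge inf_le_left (by rw [hk', hcardB])
      exact hbR (this.ge hbB).2
  have hmain := CfsgLib.Coprime.FpfFixedLine.le_centralizer (b := b) (b₁ := y) hp hQbp hRp
    Subgroup.le_normalizer_of_normal ((Subgroup.le_normalizer_of_normal : (⊤ : Subgroup (G ⧸ N)) ≤ Subgroup.normalizer (R : Set (G ⧸ N))) (Subgroup.mem_top b))
    (hBQ b hbB) hbp hfpf hyp (hQcent y hyR hyB) fun w hw hwp hwb => hline.le ⟨hfixB w hw hwp hwb, hw⟩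
  exact hRQ x (hCR (hmain hx)) hx

end Cfsg.Agent.S1902
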