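import Cfsg.Statements.S3663
import Cfsg.Agent.Lib.UThreeFour.Model

set_option autoImplicit false
open Cfsg

namespace Cfsg.Agent.S3663

open CfsgLib.UThreeFour

/-- The action on a power of the module. -/
noncomputable def powAct (ι : Type) : G →* MulAut (Multiplicative (ι → diffMod)) where
  toFun g := AddEquiv.toMultiplicative (AddEquiv.piCongrRight fun _ => actW g)
  map_one' := by
    refine MulEquiv.ext fun w => ?_
    refine Multiplicative.toAdd.injective (funext fun k => ?_)
    exact actW_one _
  map_mul' g h := by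
    refine MulEquiv.ext fun w => ?_
    refine Multiplicative.toAdd.injective (funext fun k => ?_)
    exact actW_mul g h _

theorem five_nsmul {ι : Type} (w : ι → diffMod) : 5 • w = 0 := by
  funext k
  refine Subtype.ext (funext fun p => ?_)
  show (5 : ℕ) • (w k).1 p = 0
  rw [nsmul_eq_mul, show ((5 : ℕ) : ZMod 5) = 0 from by decide, zero_mul]

theorem pow_five {ι : Type} (m : Multiplicative (ι → diffMod)) : m ^ 5 = 1 :=
  Multiplicative.toAdd.injective (five_nsmul m.toAdd)

theorem left_pow_fixed {M N : Type} [CommGroup M] [Group N] (φ : N →* MulAut M) (h : M ⋊[φ] N)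
    (n : ℕ) (hn : h.right ^ n = 1) : φ h.right (h ^ n).left = (h ^ n).left := by
  have hr : (h ^ n).right = 1 := by
    rw [show (h ^ n).right = (SemidirectProduct.rightHom (h ^ n)) from rfl, map_pow]; exact hn
  have hc : (h * h ^ n).left = (h ^ n * h).left := by rw [← pow_succ, ← pow_succ']
  rw [SemidirectProduct.mul_left, SemidirectProduct.mul_left, hr, map_one, MulAut.one_apply,
    mul_comm (h ^ n).left h.left] at hc
  exact mul_left_cancel hc

theorem orderOf_dvd_mul {M N : Type} [CommGroup M] [Group N] (φ : N →* MulAut M) {e : ℕ}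
    (he : ∀ m : M, m ^ e = 1) (h : M ⋊[φ] N) : orderOf h ∣ orderOf h.right * e := by
  apply orderOf_dvd_of_pow_eq_one
  have hr : (h ^ orderOf h.right).right = 1 := by
    rw [show (h ^ orderOf h.right).right = (SemidirectProduct.rightHom (h ^ orderOf h.right)) from rfl,
      map_pow]
    exact pow_orderOf_eq_one _
  have hi : h ^ orderOf h.right = SemidirectProduct.inl (h ^ orderOf h.right).left :=
    SemidirectProduct.ext (by simp) (by simp [hr])
  rw [pow_mul, hi, ← map_pow, he, map_one]

/-- Change of the field. -/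
theorem exists_equiv {F : Type*} [Field F] [Fintype F] (hF : Fintype.card F = 16) :
    Nonempty (Cfsg.PSU 3 F 4 ≃* G) := by
  obtain ⟨e⟩ : Nonempty (K16 ≃+* F) :=
    ⟨FiniteField.ringEquivOfCardEq (by rw [K16.card_eq, hF])⟩
  let m : Matrix.SpecialLinearGroup (Fin 3) K16 →* Matrix.SpecialLinearGroup (Fin 3) F :=
    Matrix.SpecialLinearGroup.map (e : K16 →+* F)
  let m' : Matrix.SpecialLinearGroup (Fin 3) F →* Matrix.SpecialLinearGroup (Fin 3) K16 :=
    Matrix.SpecialLinearGroup.map (e.symm : F →+* K16)
  have hh : ∀ u v : Fin 3 → K16, Cfsg.hermForm 3 F 4 (fun i => e (u i)) (fun i => e (v i)) =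
      e (Cfsg.hermForm 3 K16 4 u v) := fun u v => by simp [Cfsg.hermForm, map_sum]
  have hm : ∀ (g : Matrix.SpecialLinearGroup (Fin 3) K16) (u : Fin 3 → K16),
      (m g).1.mulVec (fun i => e (u i)) = fun i => e (g.1.mulVec u i) := fun g u => by
    funext i
    exact (RingHom.map_mulVec (e : K16 →+* F) g.1 u i).symm
  have hiff : ∀ g, m g ∈ Cfsg.SU 3 F 4 ↔ g ∈ Cfsg.SU 3 K16 4 := by
    intro g
    constructor
    · intro h u v
      refine e.injective ?_
      rw [← hh, ← hh]
      have h' := h (fun i => e (u i)) (fun i => e (v i))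
      exact (congrArg₂ _ (hm g u) (hm g v)).symm.trans h'
    · intro h u v
      obtain ⟨u, rfl⟩ : ∃ u' : Fin 3 → K16, u = fun i => e (u' i) :=
        ⟨fun i => e.symm (u i), funext fun i => (e.apply_symm_apply _).symm⟩
      obtain ⟨v, rfl⟩ : ∃ v' : Fin 3 → K16, v = fun i => e (v' i) :=
        ⟨fun i => e.symm (v i), funext fun i => (e.apply_symm_apply _).symm⟩
      show Cfsg.hermForm 3 F 4 ((m g).1.mulVec _) ((m g).1.mulVec _) = _
      rw [hm, hm, hh, hh]
      exact congrArg e (h u v)
  have h12 : ∀ g, m' (m g) = g := fun g => by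
    ext i j; exact e.symm_apply_apply _
  have h21 : ∀ g, m (m' g) = g := fun g => by
    ext i j; exact e.apply_symm_apply _
  let f : G ≃* Cfsg.SU 3 F 4 :=
    { toFun := fun g => ⟨m g.1, (hiff _).2 g.2⟩
      invFun := fun g => ⟨m' g.1, (hiff _).1 (by rw [h21]; exact g.2)⟩
      left_inv := fun g => Subtype.ext (h12 _)
      right_inv := fun g => Subtype.ext (h21 _)
      map_mul' := fun a b => Subtype.ext (map_mul m a.1 b.1) }
  obtain ⟨C⟩ := CfsgLib.Classical.Herm.exists_conj_of_card (F := F) (q := 4)
    (by rw [hF]; norm_num)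
  have hz : Subgroup.center (Cfsg.SU 3 F 4) = ⊥ := by
    rw [Subgroup.eq_bot_iff_card, CfsgLib.Classical.Herm.card_center C (by norm_num)]; decide
  exact ⟨((QuotientGroup.quotientMulEquivOfEq hz).trans QuotientGroup.quotientBot).trans f.symm⟩

/-- The prime graph of a finite group has the prime divisors of its order as vertices, two distinct primes p, q being joined when the group has an element of order pq; two groups have the same prime graph when they have the same prime divisors and the same joined pairs. Let F be the field with 16 elements and L = PSU(3,4) realised over F. There are finite groups of arbitrarily large order with the same prime graph as L. -/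
theorem result {F : Type*} [Field F] [Fintype F] (hF : Fintype.card F = 16) (N : ℕ) :
    ∃ (H : Type) (_ : Group H) (_ : Finite H), N < Nat.card H ∧
      ((∀ p : ℕ, p.Prime → (p ∣ Nat.card (Cfsg.PSU 3 F 4) ↔ p ∣ Nat.card H)) ∧
      (∀ p q : ℕ, p.Prime → q.Prime → p ≠ q → ((∃ g : (Cfsg.PSU 3 F 4), orderOf g = p * q) ↔ (∃ g : H, orderOf g = p * q)))) := by
  obtain ⟨E⟩ := exists_equiv hF
  obtain ⟨w₀, hw₀⟩ := diffMod_nontrivial
  haveI : Nontrivial diffMod := ⟨w₀, 0, hw₀⟩
  let M := Multiplicative (Fin (N + 1) → diffMod)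
  let φ : G →* MulAut M := powAct (Fin (N + 1))
  haveI : Finite (M ⋊[φ] G) := Finite.of_equiv (M × G)
    ⟨fun p => ⟨p.1, p.2⟩, fun h => (h.left, h.right), fun _ => rfl, fun _ => rfl⟩
  have h5 : ∀ m : M, m ^ 5 = 1 := pow_five
  have hM : N + 1 < Nat.card M := by
    rw [show Nat.card M = Nat.card (Fin (N + 1) → diffMod) from
      Nat.card_congr Multiplicative.toAdd, Nat.card_fun, Nat.card_fin]
    exact Nat.lt_pow_self Finite.one_lt_card
  have hH : Nat.card (M ⋊[φ] G) = Nat.card M * 62400 := by
    rw [SemidirectProduct.card, card_G]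
  have hL : Nat.card (Cfsg.PSU 3 F 4) = 62400 := by rw [Nat.card_congr E.toEquiv, card_G]
  refine ⟨M ⋊[φ] G, inferInstance, inferInstance, by rw [hH]; omega, ?_, ?_⟩
  · intro p hp
    rw [hL, hH]
    refine ⟨fun h => h.mul_left _, fun h => ?_⟩
    rcases hp.dvd_mul.1 h with h | h
    · haveI := Fact.mk hp
      obtain ⟨m, hm⟩ := exists_prime_orderOf_dvd_card' p h
      have h1 := orderOf_dvd_of_pow_eq_one (h5 m)
      rw [hm] at h1
      exact h1.trans (by norm_num)
    · exact h
  · intro p q hp hq hpq
    refine ⟨fun ⟨g, hg⟩ => ⟨SemidirectProduct.inr (E g), by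
      rw [orderOf_injective _ SemidirectProduct.inr_injective, MulEquiv.orderOf_eq, hg]⟩,
      fun ⟨h, hh⟩ => ?_⟩
    suffices ∃ g : G, orderOf g = p * q by
      obtain ⟨g, hg⟩ := this
      exact ⟨E.symm g, by rw [MulEquiv.orderOf_eq, hg]⟩
    set d := orderOf h.right with hd
    have hdd : d ∣ p * q := hh ▸ orderOf_map_dvd (SemidirectProduct.rightHom) h
    have hpd : p * q ∣ d * 5 := hh ▸ orderOf_dvd_mul φ h5 h
    have key : ∀ r : ℕ, r.Prime → r ≠ 5 → r ∣ d → d ∣ 5 * r → orderOf h = 5 * r →
        ∃ g : G, orderOf g = 5 * r := by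
      intro r hr hr5 hrd hdr hor
      obtain ⟨a, b, ha, hb, hab⟩ := Nat.dvd_mul.1 hdr
      rcases (Nat.dvd_prime hr).1 hb with rfl | rfl
      · rw [mul_one] at hab
        subst hab
        exact absurd ((Nat.prime_dvd_prime_iff_eq hr Nat.prime_five).1 (hrd.trans ha)) hr5
      rcases (Nat.dvd_prime Nat.prime_five).1 ha with rfl | rfl
      swap
      · exact ⟨h.right, hab.symm⟩
      rw [one_mul] at hab
      have hcard : b ∣ 62400 := card_G ▸ hab ▸ orderOf_dvd_natCard h.right
      have hfac : b ∣ 2 ^ 6 * 3 * 5 ^ 2 * 13 := hcard.trans (by norm_num)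
      rcases hr.dvd_mul.1 hfac with h1 | h1
      · rcases hr.dvd_mul.1 h1 with h2 | h2
        · rcases hr.dvd_mul.1 h2 with h3 | h3
          · obtain rfl := (Nat.prime_dvd_prime_iff_eq hr Nat.prime_two).1 (hr.dvd_of_dvd_pow h3)
            exact exists_orderOf_ten
          · obtain rfl := (Nat.prime_dvd_prime_iff_eq hr Nat.prime_three).1 h3
            exact exists_orderOf_fifteen
        · exact absurd ((Nat.prime_dvd_prime_iff_eq hr Nat.prime_five).1 (hr.dvd_of_dvd_pow h2)) hr5
      · obtain rfl := (Nat.prime_dvd_prime_iff_eq hr (by norm_num)).1 h1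
        exfalso
        have hpow : h.right ^ 13 = 1 := hab ▸ pow_orderOf_eq_one h.right
        have hfix := left_pow_fixed φ h 13 hpow
        have hz : (h ^ 13).left = 1 := by
          refine Multiplicative.toAdd.injective (funext fun k => ?_)
          exact fixed_thirteen h.right hab.symm _ (congrFun (congrArg Multiplicative.toAdd hfix) k)
        have h13 : h ^ 13 = 1 := SemidirectProduct.ext hz (by
          rw [show (h ^ 13).right = SemidirectProduct.rightHom (h ^ 13) from rfl, map_pow]
          exact hpow)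
        have := orderOf_dvd_of_pow_eq_one h13
        rw [hor] at this
        norm_num at this
    by_cases hp5 : p = 5
    · subst hp5
      refine key q hq (Ne.symm hpq) ?_ hdd hh
      exact ((Nat.coprime_primes hq Nat.prime_five).2 (Ne.symm hpq)).dvd_of_dvd_mul_right
        ((dvd_mul_left q 5).trans hpd)
    by_cases hq5 : q = 5
    · subst hq5
      rw [mul_comm p 5] at hh hdd ⊢
      refine key p hp hp5 ?_ hdd hh
      exact ((Nat.coprime_primes hp Nat.prime_five).2 hp5).dvd_of_dvd_mul_right
        ((dvd_mul_right p 5).trans hpd)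
    refine ⟨h.right, Nat.dvd_antisymm hdd ?_⟩
    exact (Nat.Coprime.mul_left ((Nat.coprime_primes hp Nat.prime_five).2 hp5)
      ((Nat.coprime_primes hq Nat.prime_five).2 hq5)).dvd_of_dvd_mul_right hpd

end Cfsg.Agent.S3663
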