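import Cfsg.Statements.S1903
import Cfsg.Agent.S3663
import Cfsg.Agent.Lib.PSolvable.Omega
import Cfsg.Agent.Lib.IsolatedMin.Basic

set_option autoImplicit false
set_option linter.style.haveILetI false
open Cfsg

namespace Cfsg.Agent.S1903

open scoped commutatorElement

/-- The conjugates of `a` under the powers of `s`. -/
def cj {G : Type*} [Group G] (s a : G) (i : ℕ) : G := s ^ i * a * (s ^ i)⁻¹

/-- The relations of the group of order 320. -/
structure Rel {G : Type*} [Group G] (a s : G) : Prop where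
  s5 : s ^ 5 = 1
  prod : a * cj s a 1 * cj s a 2 * cj s a 3 * cj s a 4 = 1
  sq1 : ⁅a, cj s a 1⁆ * ⁅a, cj s a 1⁆ = 1
  sq2 : ⁅a, cj s a 2⁆ * ⁅a, cj s a 2⁆ = 1
  com1 : ⁅a, cj s a 1⁆ * a = a * ⁅a, cj s a 1⁆
  com2 : ⁅a, cj s a 2⁆ * a = a * ⁅a, cj s a 2⁆
  coms1 : ⁅a, cj s a 1⁆ * s = s * ⁅a, cj s a 1⁆
  coms2 : ⁅a, cj s a 2⁆ * s = s * ⁅a, cj s a 2⁆
  sq : a * a = ⁅a, cj s a 1⁆ * ⁅a, cj s a 2⁆

theorem Rel.pair {G H : Type*} [Group G] [Group H] {a s : G} {b t : H} (h : Rel a s) (k : Rel b t) :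
    Rel (a, b) (s, t) := by
  constructor
  · exact Prod.ext h.s5 k.s5
  · exact Prod.ext h.prod k.prod
  · exact Prod.ext h.sq1 k.sq1
  · exact Prod.ext h.sq2 k.sq2
  · exact Prod.ext h.com1 k.com1
  · exact Prod.ext h.com2 k.com2
  · exact Prod.ext h.coms1 k.coms1
  · exact Prod.ext h.coms2 k.coms2
  · exact Prod.ext h.sq k.sq

section bound

variable {G : Type*} [Group G] [Finite G]

theorem card_closure_insert {S : Set G} {x : G} {p : ℕ} (hp : 0 < p)
    (hn : ∀ y ∈ S, x * y * x⁻¹ ∈ Subgroup.closure S) (hx : x ^ p ∈ Subgroup.closure S) :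
    Nat.card (Subgroup.closure (insert x S)) ≤ p * Nat.card (Subgroup.closure S) := by
  set X := Subgroup.closure S with hX
  have hN : x ∈ Subgroup.normalizer (X : Set G) := by
    refine Subgroup.mem_normalizer_fintype fun y hy => ?_
    have h1 : X.map (MulAut.conj x).toMonoidHom ≤ X := by
      rw [hX, MonoidHom.map_closure, Subgroup.closure_le]
      rintro _ ⟨y, hy, rfl⟩
      exact hn y hy
    exact h1 ⟨y, hy, rfl⟩
  let f : X × Fin p → Subgroup.closure (insert x S) := fun q =>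
    ⟨(q.1 : G) * x ^ (q.2 : ℕ), mul_mem (Subgroup.closure_mono (Set.subset_insert x S) q.1.2)
      (pow_mem (Subgroup.subset_closure (Set.mem_insert x S)) _)⟩
  have hf : Function.Surjective f := by
    rintro ⟨g, hg⟩
    have h1 : Subgroup.closure (insert x S) ≤ X ⊔ Subgroup.zpowers x := by
      rw [Subgroup.closure_le]
      rintro y (rfl | hy)
      · exact Subgroup.mem_sup_right (Subgroup.mem_zpowers _)
      · exact Subgroup.mem_sup_left (Subgroup.subset_closure hy)
    have h2 : g ∈ (↑(X ⊔ Subgroup.zpowers x) : Set G) := h1 hg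
    rw [Subgroup.coe_mul_of_right_le_normalizer_left X (Subgroup.zpowers x)
      (Subgroup.zpowers_le.mpr hN)] at h2
    obtain ⟨y, hy, w, hw, rfl⟩ := h2
    obtain ⟨i, rfl⟩ : ∃ i : ℕ, x ^ i = w := by
      obtain ⟨i, hi⟩ := mem_powers_iff_mem_zpowers.mpr hw
      exact ⟨i, hi⟩
    refine ⟨⟨⟨y * (x ^ p) ^ (i / p), mul_mem hy (pow_mem hx _)⟩, ⟨i % p, Nat.mod_lt _ hp⟩⟩, ?_⟩
    apply Subtype.ext
    show y * (x ^ p) ^ (i / p) * x ^ (i % p) = y * x ^ i
    rw [← pow_mul, mul_assoc, ← pow_add, Nat.div_add_mod]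
  have h3 := Nat.card_le_card_of_surjective f hf
  rw [Nat.card_prod, Nat.card_fin, mul_comm] at h3
  exact h3

theorem Rel.card_le {a s : G} (h : Rel a s) :
    Nat.card (Subgroup.closure ({a, s} : Set G)) ≤ 320 := by
  set c1 := ⁅a, cj s a 1⁆ with hc1
  set c2 := ⁅a, cj s a 2⁆ with hc2
  have hperiod : ∀ i, cj s a (i + 5) = cj s a i := fun i => by
    rw [cj, cj, pow_add, h.s5, mul_one]
  have hstep : ∀ i, s * cj s a i * s⁻¹ = cj s a (i + 1) := fun i => by
    rw [cj, cj, pow_succ']; group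
  have hcent : ∀ (c : G), c * a = a * c → c * s = s * c → ∀ i, c * cj s a i = cj s a i * c := by
    intro c ha hs i
    have h1 : Commute c (s ^ i) := Commute.pow_right hs i
    exact ((h1.mul_right ha).mul_right h1.inv_right).eq
  have hz1 := hcent c1 h.com1 h.coms1
  have hz2 := hcent c2 h.com2 h.coms2
  have hk1 : ∀ i, ⁅cj s a i, cj s a (i + 1)⁆ = c1 := fun i => by
    have h1 : ⁅cj s a i, cj s a (i + 1)⁆ = s ^ i * c1 * (s ^ i)⁻¹ := by
      rw [hc1, cj, cj, cj, pow_add]; simp only [commutatorElement_def]; group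
    rw [h1, ((show Commute c1 s from h.coms1).pow_right i).symm.eq, mul_inv_cancel_right]
  have hk2 : ∀ i, ⁅cj s a i, cj s a (i + 2)⁆ = c2 := fun i => by
    have h1 : ⁅cj s a i, cj s a (i + 2)⁆ = s ^ i * c2 * (s ^ i)⁻¹ := by
      rw [hc2, cj, cj, cj, pow_add]; simp only [commutatorElement_def]; group
    rw [h1, ((show Commute c2 s from h.coms2).pow_right i).symm.eq, mul_inv_cancel_right]
  have hsq : ∀ i, cj s a i ^ 2 = c1 * c2 := fun i => by
    rw [cj, conj_pow, pow_two, h.sq, ← hc1, ← hc2]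
    have h1 : Commute (c1 * c2) (s ^ i) :=
      Commute.pow_right (Commute.mul_left h.coms1 h.coms2) i
    rw [h1.symm.eq, mul_inv_cancel_right]
  have e0 : cj s a 0 = a := by simp [cj]
  set a1 := cj s a 1 with ha1
  set a2 := cj s a 2 with ha2
  set a3 := cj s a 3 with ha3
  have conj_of : ∀ x y c : G, ⁅x, y⁆ = c → c * x = x * c → c * y = y * c →
      y * x * y⁻¹ = c⁻¹ * x ∧ x * y * x⁻¹ = c * y := by
    intro x y c hc hcx hcy
    refine ⟨?_, by rw [← hc, commutatorElement_def]; group⟩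
    rw [← hc, commutatorElement_def]
    group
  have h01 := conj_of a a1 c1 (e0 ▸ hk1 0) h.com1 (hz1 1)
  have h12 := conj_of a1 a2 c1 (hk1 1) (hz1 1) (hz1 2)
  have h23 := conj_of a2 a3 c1 (hk1 2) (hz1 2) (hz1 3)
  have h02 := conj_of a a2 c2 (e0 ▸ hk2 0) h.com2 (hz2 2)
  have h13 := conj_of a1 a3 c2 (hk2 1) (hz2 1) (hz2 3)
  have h30 := conj_of a3 a c2 (by have := hk2 3; rwa [hperiod 0, e0] at this) (hz2 3) h.com2
  let S1 : Set G := insert c1 ∅
  let S2 : Set G := insert c2 S1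
  let S3 : Set G := insert a S2
  let S4 : Set G := insert a1 S3
  let S5 : Set G := insert a2 S4
  let S6 : Set G := insert a3 S5
  let S7 : Set G := insert s S6
  have m : ∀ {S : Set G} {x : G}, x ∈ S → x ∈ Subgroup.closure S := fun hx => Subgroup.subset_closure hx
  have fixc : ∀ {x c : G}, c * x = x * c → x * c * x⁻¹ = c := fun e => by
    rw [← e, mul_inv_cancel_right]
  have n1 : Nat.card (Subgroup.closure S1) ≤ 2 := by
    have h0 := card_closure_insert (S := (∅ : Set G)) (x := c1) (p := 2) (by norm_num)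
      (fun y hy => hy.elim) (by rw [pow_two, h.sq1]; exact one_mem _)
    rwa [Subgroup.closure_empty, Subgroup.card_bot] at h0
  have n2 : Nat.card (Subgroup.closure S2) ≤ 2 * 2 := by
    refine (card_closure_insert (S := S1) (x := c2) (p := 2) (by norm_num) ?_
      (by rw [pow_two, h.sq2]; exact one_mem _)).trans (by omega)
    rintro y (rfl | hy)
    · have h1 : c1 * c2 = c2 * c1 := by
        have : Commute c1 c2 := by
          rw [hc2, commutatorElement_def]
          exact (((show Commute c1 a from h.com1).mul_right (hz1 2)).mul_right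
            (Commute.inv_right h.com1)).mul_right (Commute.inv_right (hz1 2))
        exact this.eq
      rw [fixc h1]
      exact m (Or.inl rfl)
    · exact hy.elim
  have mc : ∀ {S : Set G}, S2 ⊆ S → c1 ∈ Subgroup.closure S ∧ c2 ∈ Subgroup.closure S :=
    fun hS => ⟨m (hS (Or.inr (Or.inl rfl))), m (hS (Or.inl rfl))⟩
  have sq_mem : ∀ {S : Set G}, S2 ⊆ S → ∀ i, cj s a i ^ 2 ∈ Subgroup.closure S := fun hS i => by
    rw [hsq i]; exact mul_mem (mc hS).1 (mc hS).2
  have s3 : S2 ⊆ S3 := Set.subset_insert _ _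
  have s4 : S2 ⊆ S4 := s3.trans (Set.subset_insert _ _)
  have s5 : S2 ⊆ S5 := s4.trans (Set.subset_insert _ _)
  have s6 : S2 ⊆ S6 := s5.trans (Set.subset_insert _ _)
  have base : ∀ {S : Set G} (x : G), S2 ⊆ S → c1 * x = x * c1 → c2 * x = x * c2 →
      ∀ y ∈ S2, x * y * x⁻¹ ∈ Subgroup.closure S := by
    rintro S x hS e1 e2 y (rfl | rfl | hy)
    · rw [fixc e2]; exact (mc hS).2
    · rw [fixc e1]; exact (mc hS).1
    · exact hy.elim
  have n3 : Nat.card (Subgroup.closure S3) ≤ 2 * (2 * 2) := by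
    refine (card_closure_insert (S := S2) (x := a) (p := 2) (by norm_num)
      (base a subset_rfl h.com1 h.com2) (e0 ▸ sq_mem subset_rfl 0)).trans (by omega)
  have n4 : Nat.card (Subgroup.closure S4) ≤ 2 * (2 * (2 * 2)) := by
    refine (card_closure_insert (S := S3) (x := a1) (p := 2) (by norm_num) ?_
      (sq_mem s3 1)).trans (by omega)
    rintro y (e | hy)
    · rw [e, h01.1]; exact mul_mem (inv_mem (mc s3).1) (m (Or.inl rfl))
    · exact base a1 s3 (hz1 1) (hz2 1) y hy
  have n5 : Nat.card (Subgroup.closure S5) ≤ 2 * (2 * (2 * (2 * 2))) := by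
    refine (card_closure_insert (S := S4) (x := a2) (p := 2) (by norm_num) ?_
      (sq_mem s4 2)).trans (by omega)
    rintro y (e | e | hy)
    · rw [e, h12.1]; exact mul_mem (inv_mem (mc s4).1) (m (Or.inl rfl))
    · rw [e, h02.1]; exact mul_mem (inv_mem (mc s4).2) (m (Or.inr (Or.inl rfl)))
    · exact base a2 s4 (hz1 2) (hz2 2) y hy
  have n6 : Nat.card (Subgroup.closure S6) ≤ 2 * (2 * (2 * (2 * (2 * 2)))) := by
    refine (card_closure_insert (S := S5) (x := a3) (p := 2) (by norm_num) ?_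
      (sq_mem s5 3)).trans (by omega)
    rintro y (e | e | e | hy)
    · rw [e, h23.1]; exact mul_mem (inv_mem (mc s5).1) (m (Or.inl rfl))
    · rw [e, h13.1]; exact mul_mem (inv_mem (mc s5).2) (m (Or.inr (Or.inl rfl)))
    · rw [e, h30.2]; exact mul_mem (mc s5).2 (m (Or.inr (Or.inr (Or.inl rfl))))
    · exact base a3 s5 (hz1 3) (hz2 3) y hy
  have ma : a ∈ Subgroup.closure S6 := m (Or.inr (Or.inr (Or.inr (Or.inl rfl))))
  have m1 : a1 ∈ Subgroup.closure S6 := m (Or.inr (Or.inr (Or.inl rfl)))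
  have m2 : a2 ∈ Subgroup.closure S6 := m (Or.inr (Or.inl rfl))
  have m3 : a3 ∈ Subgroup.closure S6 := m (Or.inl rfl)
  have m4 : cj s a 4 ∈ Subgroup.closure S6 := by
    rw [← inv_inv (cj s a 4), ← eq_inv_of_mul_eq_one_left h.prod] at *
    exact inv_mem (mul_mem (mul_mem (mul_mem ma m1) m2) m3)
  have n7 : Nat.card (Subgroup.closure S7) ≤ 5 * (2 * (2 * (2 * (2 * (2 * 2))))) := by
    refine (card_closure_insert (S := S6) (x := s) (p := 5) (by norm_num) ?_
      (by rw [h.s5]; exact one_mem _)).trans (by omega)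
    rintro y (e | e | e | e | hy)
    · rw [e, ha3, hstep]; exact m4
    · rw [e, ha2, hstep]; exact m3
    · rw [e, ha1, hstep]; exact m2
    · rw [e, show s * a * s⁻¹ = a1 by rw [ha1, cj, pow_one]]; exact m1
    · exact base s s6 h.coms1 h.coms2 y hy
  refine le_trans ?_ n7
  refine Nat.le_of_dvd Nat.card_pos (Subgroup.card_dvd_of_le (Subgroup.closure_mono ?_))
  rintro y (rfl | rfl)
  · exact Or.inr (Or.inr (Or.inr (Or.inr (Or.inl rfl))))
  · exact Or.inl rfl

end bound

/-- A homomorphism between groups with the relations. -/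
theorem exists_hom {G H : Type*} [Group G] [Finite G] [Group H] [Finite H] {a s : G} {b t : H}
    (hG : Nat.card G = 320) (hgen : Subgroup.closure ({a, s} : Set G) = ⊤) (h : Rel a s)
    (k : Rel b t) : ∃ φ : G →* H, φ a = b ∧ φ s = t ∧ φ.range = Subgroup.closure ({b, t} : Set H) := by
  set K := Subgroup.closure ({(a, b), (s, t)} : Set (G × H)) with hK
  have hle : Nat.card K ≤ 320 := (h.pair k).card_le
  let p : K →* G := (MonoidHom.fst G H).comp K.subtype
  have hp : Function.Surjective p := by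
    rw [← MonoidHom.range_eq_top, MonoidHom.range_comp, Subgroup.range_subtype, hK,
      MonoidHom.map_closure, Set.image_pair]
    exact hgen
  have hb : Function.Bijective p :=
    (Nat.bijective_iff_surjective_and_card p).mpr ⟨hp,
      le_antisymm (hG ▸ hle) (Nat.card_le_card_of_surjective p hp)⟩
  let e := MulEquiv.ofBijective p hb
  let φ : G →* H := (MonoidHom.snd G H).comp (K.subtype.comp e.symm.toMonoidHom)
  have hφ : ∀ x y, (x, y) ∈ K → φ x = y := fun x y hxy => by
    have h1 : e.symm x = ⟨(x, y), hxy⟩ := by rw [MulEquiv.symm_apply_eq]; rfl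
    show ((e.symm x : K) : G × H).2 = y
    rw [h1]
  have ha : φ a = b := hφ _ _ (Subgroup.subset_closure (Or.inl rfl))
  have hs : φ s = t := hφ _ _ (Subgroup.subset_closure (Or.inr rfl))
  refine ⟨φ, ha, hs, ?_⟩
  rw [MonoidHom.range_eq_map, ← hgen, MonoidHom.map_closure, Set.image_pair, ha, hs]

set_option maxHeartbeats 2000000 in
/-- Facts about the abstract group. -/
theorem exists_gens {G : Type*} [Group G] [Finite G] (hG : Nat.card G = 320)
    (hD : Nat.card (commutator G) = 64) (hZ : IsKleinFour (Subgroup.center (commutator G))) :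
    ∃ a s : G, Rel a s ∧ Subgroup.closure ({a, s} : Set G) = ⊤ ∧
      ∀ N : Subgroup G, N.Normal → ⁅a, cj s a 1⁆ ∉ N → ⁅a, cj s a 2⁆ ∉ N →
        ⁅a, cj s a 1⁆ * ⁅a, cj s a 2⁆ ∉ N → N = ⊥ := by
  classical
  haveI : Fact (Nat.Prime 2) := ⟨Nat.prime_two⟩
  haveI : Fact (Nat.Prime 5) := ⟨Nat.prime_five⟩
  set T := commutator G with hT
  have hTp : IsPGroup 2 T := IsPGroup.of_card (n := 6) hD
  obtain ⟨s, hs⟩ := exists_prime_orderOf_dvd_card' (G := G) 5 (by rw [hG]; norm_num)
  have hs5 : s ^ 5 = 1 := hs ▸ pow_orderOf_eq_one s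
  have hsT : s ∉ T := fun hmem => by
    have h1 := orderOf_dvd_natCard (⟨s, hmem⟩ : T)
    rw [Subgroup.orderOf_mk, hs, hD] at h1
    norm_num at h1
  have hidx : T.index = 5 := by
    have h1 := T.card_mul_index
    rw [hD, hG] at h1
    omega
  set Z := (Subgroup.center T).map T.subtype with hZdef
  haveI : (Subgroup.center T).Characteristic := inferInstance
  haveI hZn : Z.Normal := ConjAct.normal_of_characteristic_of_normal
  have hZ4 : Nat.card Z = 4 := by
    rw [hZdef, Subgroup.card_map_of_injective T.subtype_injective]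
    exact hZ.card_four
  have hZT : Z ≤ T := Subgroup.map_subtype_le _
  have hZsq : ∀ z ∈ Z, z * z = 1 := by
    rintro _ ⟨z, hz, rfl⟩
    have h1 : (⟨z, hz⟩ : Subgroup.center T) * ⟨z, hz⟩ = 1 := IsKleinFour.mul_self _
    have h2 : z * z = 1 := congrArg Subtype.val h1
    exact congrArg T.subtype h2
  have hZcomm : ∀ z ∈ Z, ∀ x ∈ T, z * x = x * z := by
    rintro _ ⟨z, hz, rfl⟩ x hx
    exact congrArg T.subtype ((Subgroup.mem_center_iff.mp hz ⟨x, hx⟩).symm)
  -- the element of order five centralizes `Z`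
  have hgen : ∀ g : G, ∃ x ∈ T, ∃ i : ℕ, g = x * s ^ i := by
    have h1 : ∀ q : G ⧸ T, q ∈ Subgroup.zpowers (QuotientGroup.mk' T s) := fun q => by
      refine mem_zpowers_of_prime_card (p := 5) ?_ ?_
      · rw [← Subgroup.index_eq_card, hidx]
      · rw [QuotientGroup.mk'_apply, ne_eq, QuotientGroup.eq_one_iff]; exact hsT
    intro g
    obtain ⟨i, -, hi⟩ := Finset.mem_image.mp (mem_zpowers_iff_mem_range_orderOf.mp (h1 g))
    refine ⟨g * (s ^ i)⁻¹, ?_, i, by group⟩
    rw [← QuotientGroup.eq_one_iff, QuotientGroup.mk_mul, QuotientGroup.mk_inv, QuotientGroup.mk_pow]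
    simp only [QuotientGroup.mk'_apply] at hi
    rw [hi, mul_inv_cancel]
  have hsZ : ∀ z ∈ Z, z * s = s * z := by
    intro z hz
    rcases eq_or_ne z 1 with rfl | hz1
    · rw [one_mul, mul_one]
    let f : Z → Z := fun w => ⟨s * w * s⁻¹, hZn.conj_mem _ w.2 s⟩
    by_contra hne
    have hval : ∀ (i : ℕ), ((f^[i]) ⟨z, hz⟩ : G) = s ^ i * z * (s ^ i)⁻¹ := by
      intro i
      induction i with
      | zero => simp
      | succ i ih =>
        rw [Function.iterate_succ_apply']
        show s * ((f^[i]) ⟨z, hz⟩ : G) * s⁻¹ = _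
        rw [ih, pow_succ']; group
    have hinj : Function.Injective (fun i : Fin 5 => (f^[(i : ℕ)]) ⟨z, hz⟩) := by
      intro i j hij
      by_contra hij'
      apply hne
      have h2 : s ^ (i : ℕ) * z * (s ^ (i : ℕ))⁻¹ = s ^ (j : ℕ) * z * (s ^ (j : ℕ))⁻¹ := by
        rw [← hval, ← hval]; exact congrArg Subtype.val hij
      set u := (s ^ (j : ℕ))⁻¹ * s ^ (i : ℕ) with hu
      have h3 : Commute u z := by
        show u * z = z * u
        calc u * z = (s ^ (j : ℕ))⁻¹ * (s ^ (i : ℕ) * z * (s ^ (i : ℕ))⁻¹) * s ^ (i : ℕ) := by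
              rw [hu]; group
          _ = (s ^ (j : ℕ))⁻¹ * (s ^ (j : ℕ) * z * (s ^ (j : ℕ))⁻¹) * s ^ (i : ℕ) := by rw [h2]
          _ = z * u := by rw [hu]; group
      have hu' : u ∈ Subgroup.zpowers s :=
        mul_mem (inv_mem (pow_mem (Subgroup.mem_zpowers s) _)) (pow_mem (Subgroup.mem_zpowers s) _)
      have hu1 : u ≠ 1 := fun e => hij' (Fin.ext (by
        have h4 : s ^ (j : ℕ) = s ^ (i : ℕ) := inv_mul_eq_one.mp e
        exact (pow_injOn_Iio_orderOf (by rw [hs]; exact i.2) (by rw [hs]; exact j.2) h4.symm)))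
      have htop : (Subgroup.zpowers u : Subgroup G) = Subgroup.zpowers s :=
        Subgroup.eq_of_le_of_card_ge (Subgroup.zpowers_le.mpr hu') (by
          rw [Nat.card_zpowers, Nat.card_zpowers, hs]
          have h5 : orderOf u ∣ 5 := hs ▸ (Nat.card_zpowers s ▸
            (Subgroup.orderOf_mk (H := Subgroup.zpowers s) u hu' ▸ orderOf_dvd_natCard _))
          rcases (Nat.dvd_prime Nat.prime_five).mp h5 with h6 | h6
          · exact absurd (orderOf_eq_one_iff.mp h6) hu1
          · omega)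
      obtain ⟨n, hn⟩ := Subgroup.mem_zpowers_iff.mp (htop.ge (Subgroup.mem_zpowers s))
      exact (hn ▸ (h3.zpow_left n)).symm.eq
    have := Nat.card_le_card_of_injective _ hinj
    rw [Nat.card_fin, hZ4] at this
    omega
  have hZc : ∀ z ∈ Z, ∀ g : G, z * g = g * z := fun z hz g => by
    obtain ⟨x, hx, i, rfl⟩ := hgen g
    exact ((show Commute z x from hZcomm z hz x hx).mul_right (Commute.pow_right (hsZ z hz) i)).eq
  -- central elements lie in the derived subgroup of `T`
  set T' := (commutator T).map T.subtype with hT'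
  have hZT' : Z ≤ T' := by
    rintro z hz
    let π : T →* T ⧸ commutator T := QuotientGroup.mk' (commutator T)
    let π' : T →* Abelianization T := Abelianization.of
    have hzc : ∀ g : G, z * g = g * z := hZc z hz
    have hker : T ≤ (MonoidHom.transfer π').ker :=
      Abelianization.commutator_subset_ker _
    have h1 : MonoidHom.transfer π' z = 1 := MonoidHom.mem_ker.mp (hker (hZT hz))
    rw [MonoidHom.transfer_eq_pow π' z (fun k g₀ hk => by
      have : Commute (z ^ k) g₀ := Commute.pow_left (hzc g₀) k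
      rw [mul_assoc, this.eq, inv_mul_cancel_left])] at h1
    obtain ⟨z', hz', hzz⟩ := hz
    have h2 : π' (⟨z ^ T.index, pow_mem (hzz ▸ z'.2) _⟩ : T) = 1 := h1
    have h3 : (⟨z ^ T.index, pow_mem (hzz ▸ z'.2) _⟩ : T) = z' := Subtype.ext (by
      show z ^ T.index = (z' : G)
      rw [hidx, show z = (z' : G) from hzz.symm]
      have h4 := hZsq _ ⟨z', hz', rfl⟩
      rw [show (z' : G) ^ 5 = ((z' : G) * z') * ((z' : G) * z') * z' by simp [pow_succ, mul_assoc]]
      rw [show (z' : G) * z' = 1 from h4, one_mul, one_mul])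
    rw [h3] at h2
    exact ⟨z', (QuotientGroup.eq_one_iff z').mp h2, hzz⟩
  -- squares and commutators
  set D := (frattini T).map T.subtype with hD'
  haveI : (frattini T).Characteristic := inferInstance
  haveI hDn : D.Normal := ConjAct.normal_of_characteristic_of_normal
  have hTD : T' ≤ D := Subgroup.map_mono (CfsgLib.PSolvable.commutator_le_frattini hTp).1
  have hsqD : ∀ x ∈ T, x * x ∈ D := fun x hx =>
    ⟨⟨x, hx⟩ * ⟨x, hx⟩, by rw [← sq]; exact (CfsgLib.PSolvable.commutator_le_frattini hTp).2 _, rfl⟩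
  have hcD : ∀ x ∈ T, ∀ y ∈ T, ⁅x, y⁆ ∈ D := fun x hx y hy =>
    hTD ⟨⁅(⟨x, hx⟩ : T), ⟨y, hy⟩⁆,
      Subgroup.commutator_mem_commutator (Subgroup.mem_top _) (Subgroup.mem_top _), rfl⟩
  have hDT : D ≤ T := Subgroup.map_subtype_le _
  -- fixed points of `s` modulo a normal subgroup
  have horb : ∀ (M : Subgroup G) [M.Normal], M ≤ T → ∀ k : ℕ,
      Nat.card (T.map (QuotientGroup.mk' M)) = k →
      Nat.card {q : T.map (QuotientGroup.mk' M) // (QuotientGroup.mk' M s) * q * (QuotientGroup.mk' M s)⁻¹ = q} % 5 = k % 5 := by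
    intro M _ hM k hk
    set Q := T.map (QuotientGroup.mk' M) with hQ
    haveI : Q.Normal := Subgroup.Normal.map inferInstance _ (QuotientGroup.mk'_surjective M)
    set P := Subgroup.zpowers (QuotientGroup.mk' M s) with hP
    letI : MulAction P Q := MulAction.compHom Q ((MulAut.conjNormal (H := Q)).comp P.subtype)
    have hPp : IsPGroup 5 P := by
      have h1 : IsPGroup 5 (Subgroup.zpowers s) :=
        IsPGroup.of_card (n := 1) (by rw [Nat.card_zpowers, hs, pow_one])
      have h2 := h1.map (QuotientGroup.mk' M)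
      rwa [MonoidHom.map_zpowers] at h2
    have h3 := hPp.card_modEq_card_fixedPoints Q
    rw [hk] at h3
    refine Eq.trans ?_ h3.symm
    congr 1
    refine Nat.card_congr (Equiv.subtypeEquivRight fun q => ⟨fun hq u => ?_, fun hq => ?_⟩)
    · obtain ⟨u, hu⟩ := u
      obtain ⟨n, rfl⟩ := Subgroup.mem_zpowers_iff.mp hu
      apply Subtype.ext
      show (QuotientGroup.mk' M s) ^ n * (q : G ⧸ M) * ((QuotientGroup.mk' M s) ^ n)⁻¹ = q
      have h4 : Commute (QuotientGroup.mk' M s) (q : G ⧸ M) := by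
        show _ * _ = _ * _
        conv_rhs => rw [← hq]
        group
      rw [(h4.zpow_left n).eq, mul_inv_cancel_right]
    · exact congrArg Subtype.val (hq ⟨_, Subgroup.mem_zpowers _⟩)
  -- `s` moves some element modulo `D`
  obtain ⟨x₀, hx₀, hx₀D⟩ : ∃ x ∈ T, s * x * s⁻¹ * x⁻¹ ∉ D := by
    by_contra hcon
    push Not at hcon
    have hab : ∀ g h : G ⧸ D, g * h = h * g := by
      intro g h
      obtain ⟨g, rfl⟩ := QuotientGroup.mk'_surjective D g
      obtain ⟨h, rfl⟩ := QuotientGroup.mk'_surjective D h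
      obtain ⟨x, hx, i, rfl⟩ := hgen g
      obtain ⟨y, hy, j, rfl⟩ := hgen h
      have hxs : ∀ x ∈ T, Commute (QuotientGroup.mk' D s) (QuotientGroup.mk' D x) := fun x hx => by
        rw [← commutatorElement_eq_one_iff_commute, ← map_commutatorElement, QuotientGroup.mk'_apply,
          QuotientGroup.eq_one_iff, commutatorElement_def]
        exact hcon x hx
      have hxy : Commute (QuotientGroup.mk' D x) (QuotientGroup.mk' D y) := by
        rw [← commutatorElement_eq_one_iff_commute, ← map_commutatorElement, QuotientGroup.mk'_apply,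
          QuotientGroup.eq_one_iff]
        exact hcD x hx y hy
      simp only [map_mul, map_pow]
      exact ((hxy.mul_right ((hxs x hx).symm.pow_right j)).mul_left
        (((hxs y hy).pow_left i).mul_right ((Commute.refl _).pow_pow i j))).eq
    have h1 : T ≤ D := by
      rw [hT, commutator_def, Subgroup.commutator_le]
      intro g _ h _
      rw [← QuotientGroup.eq_one_iff, ← QuotientGroup.mk'_apply, map_commutatorElement,
        commutatorElement_eq_one_iff_mul_comm]
      exact hab _ _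
    haveI : Nontrivial T := Finite.one_lt_card_iff_nontrivial.mp (by rw [hD]; norm_num)
    have h2 : frattini T = ⊤ := eq_top_iff.mpr fun x _ => by
      obtain ⟨y, hy, he⟩ := h1 x.2
      exact T.subtype_injective he ▸ hy
    have h3 : (⊥ : Subgroup T) = ⊤ := frattini_nongenerating (by rw [bot_sup_eq, h2])
    exact bot_ne_top h3
  have hcardQ : ∀ (M : Subgroup G) [M.Normal], M ≤ T →
      Nat.card (T.map (QuotientGroup.mk' M)) * Nat.card M = 64 := by
    intro M _ hM
    rw [← hD, ← Subgroup.relIndex_ker, QuotientGroup.ker_mk', mul_comm, ← Subgroup.relIndex_bot_left M,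
      ← Subgroup.relIndex_bot_left T]
    exact Subgroup.relIndex_mul_relIndex _ _ _ bot_le hM
  have hDZ : D = Z := by
    refine (Subgroup.eq_of_le_of_card_ge (hZT'.trans hTD) ?_).symm
    have hk := hcardQ D hDT
    rw [hZ4]
    set k := Nat.card (T.map (QuotientGroup.mk' D)) with hkdef
    set r := Nat.card {q : T.map (QuotientGroup.mk' D) //
      (QuotientGroup.mk' D s) * q * (QuotientGroup.mk' D s)⁻¹ = q} with hr
    have hmod : r % 5 = k % 5 := horb D hDT k rfl
    -- the fixed points form a proper subgroup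
    set C := T.map (QuotientGroup.mk' D) ⊓ Subgroup.centralizer {QuotientGroup.mk' D s} with hC
    have hrC : r = Nat.card C := by
      rw [hr]
      exact Nat.card_congr
        { toFun := fun q => ⟨q.1.1, q.1.2, Subgroup.mem_centralizer_singleton_iff.mpr
            (mul_inv_eq_iff_eq_mul.mp q.2).symm⟩
          invFun := fun q => ⟨⟨q.1, q.2.1⟩, mul_inv_eq_iff_eq_mul.mpr
            (Subgroup.mem_centralizer_singleton_iff.mp q.2.2).symm⟩
          left_inv := fun _ => rfl
          right_inv := fun _ => rfl }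
    have hlt : r < k := by
      rw [hrC, hkdef]
      refine lt_of_le_of_ne (Nat.le_of_dvd Nat.card_pos (Subgroup.card_dvd_of_le inf_le_left)) fun e => ?_
      have h1 := Subgroup.eq_of_le_of_card_ge (inf_le_left : C ≤ _) e.ge
      have h2 : QuotientGroup.mk' D x₀ ∈ C := h1.ge ⟨x₀, hx₀, rfl⟩
      apply hx₀D
      rw [← QuotientGroup.eq_one_iff, ← QuotientGroup.mk'_apply]
      simp only [map_mul, map_inv]
      rw [← Subgroup.mem_centralizer_singleton_iff.mp h2.2]
      group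
    have hdvd : r ∣ k := hrC ▸ hkdef ▸ Subgroup.card_dvd_of_le inf_le_left
    have hk64 : k ∣ 64 := Dvd.intro _ hk
    by_contra hbig
    push Not at hbig
    have hk16 : k < 16 := by nlinarith
    obtain ⟨i, -, hi⟩ := (Nat.dvd_prime_pow Nat.prime_two).mp (show k ∣ 2 ^ 6 from hk64)
    rw [hi] at hdvd hmod hk16 hlt
    obtain ⟨j, -, hj⟩ := (Nat.dvd_prime_pow Nat.prime_two).mp hdvd
    rw [hj] at hmod hlt
    have hi4 : i < 4 := (Nat.pow_lt_pow_iff_right (by norm_num : 1 < 2)).mp (hk16 : 2 ^ i < 2 ^ 4)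
    have hj4 : j < i := (Nat.pow_lt_pow_iff_right (by norm_num : 1 < 2)).mp hlt
    interval_cases i <;> interval_cases j <;> norm_num at hmod
  rw [← hDZ] at hZ4 hZsq hZc
  have hfix : ∀ x ∈ T, s * x * s⁻¹ * x⁻¹ ∈ D → x ∈ D := by
    intro x hx hxD
    have hk : Nat.card (T.map (QuotientGroup.mk' D)) = 16 := by
      have := hcardQ D hDT
      rw [hZ4] at this
      omega
    set C := T.map (QuotientGroup.mk' D) ⊓ Subgroup.centralizer {QuotientGroup.mk' D s} with hC
    have hmod : Nat.card C % 5 = 1 := by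
      have h1 := horb D hDT 16 hk
      norm_num at h1
      rw [← h1]
      congr 1
      exact Nat.card_congr
        { toFun := fun q => ⟨⟨q.1, q.2.1⟩, mul_inv_eq_iff_eq_mul.mpr
            (Subgroup.mem_centralizer_singleton_iff.mp q.2.2).symm⟩
          invFun := fun q => ⟨q.1.1, q.1.2, Subgroup.mem_centralizer_singleton_iff.mpr
            (mul_inv_eq_iff_eq_mul.mp q.2).symm⟩
          left_inv := fun _ => rfl
          right_inv := fun _ => rfl }
    have hxC : QuotientGroup.mk' D x ∈ C := by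
      refine ⟨⟨x, hx, rfl⟩, Subgroup.mem_centralizer_singleton_iff.mpr ?_⟩
      have h1 : QuotientGroup.mk' D (s * x * s⁻¹ * x⁻¹) = 1 := (QuotientGroup.eq_one_iff _).mpr hxD
      rw [map_mul, map_mul, map_mul, map_inv, map_inv, mul_inv_eq_one, mul_inv_eq_iff_eq_mul] at h1
      exact h1.symm
    have hdvd : Nat.card C ∣ 16 := hk ▸ Subgroup.card_dvd_of_le inf_le_left
    have hne : Nat.card C ≠ 16 := fun e => by
      have h1 := Subgroup.eq_of_le_of_card_ge (inf_le_left : C ≤ _) (by rw [e, hk])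
      have h2 : QuotientGroup.mk' D x₀ ∈ C := h1.ge ⟨x₀, hx₀, rfl⟩
      apply hx₀D
      rw [← QuotientGroup.eq_one_iff, ← QuotientGroup.mk'_apply]
      simp only [map_mul, map_inv]
      rw [← Subgroup.mem_centralizer_singleton_iff.mp h2.2]
      group
    have h1 : Nat.card C = 1 := by
      obtain ⟨i, hi, he⟩ := (Nat.dvd_prime_pow Nat.prime_two).mp (show Nat.card C ∣ 2 ^ 4 from hdvd)
      rw [he] at hmod hne ⊢
      interval_cases i <;> simp at hmod hne ⊢
    have h2 := Subgroup.eq_bot_of_card_eq _ h1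
    rw [h2, Subgroup.mem_bot, QuotientGroup.mk'_apply, QuotientGroup.eq_one_iff] at hxC
    exact hxC
  have hconjT : ∀ x ∈ T, ∀ g : G, g * x * g⁻¹ ∈ T := fun x hx g =>
    (inferInstance : (commutator G).Normal).conj_mem x hx g
  -- the chosen element
  set π := QuotientGroup.mk' D with hπ
  have hπc : ∀ x ∈ T, ∀ y ∈ T, Commute (π x) (π y) := fun x hx y hy => by
    rw [← commutatorElement_eq_one_iff_commute, ← map_commutatorElement, hπ, QuotientGroup.mk'_apply,
      QuotientGroup.eq_one_iff]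
    exact hcD x hx y hy
  have hcjT : ∀ x ∈ T, ∀ i, cj s x i ∈ T := fun x hx i => hconjT x hx _
  set P := x₀ * cj s x₀ 1 * cj s x₀ 2 * cj s x₀ 3 * cj s x₀ 4 with hP
  have hPT : P ∈ T := mul_mem (mul_mem (mul_mem (mul_mem hx₀ (hcjT _ hx₀ 1)) (hcjT _ hx₀ 2))
    (hcjT _ hx₀ 3)) (hcjT _ hx₀ 4)
  have hPD : P ∈ D := by
    refine hfix P hPT ?_
    rw [← QuotientGroup.eq_one_iff, ← QuotientGroup.mk'_apply, map_mul, map_inv, mul_inv_eq_one]
    have h1 : s * P * s⁻¹ = cj s x₀ 1 * cj s x₀ 2 * cj s x₀ 3 * cj s x₀ 4 * x₀ := by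
      have e5 : cj s x₀ 5 = x₀ := by rw [cj, hs5, one_mul, inv_one, mul_one]
      calc s * P * s⁻¹ = cj s x₀ 1 * cj s x₀ 2 * cj s x₀ 3 * cj s x₀ 4 * cj s x₀ 5 := by
            rw [hP]; simp only [cj]; group
        _ = _ := by rw [e5]
    rw [h1, hP]
    simp only [map_mul]
    have hc := (((hπc _ hx₀ _ (hcjT _ hx₀ 1)).mul_right (hπc _ hx₀ _ (hcjT _ hx₀ 2))).mul_right
      (hπc _ hx₀ _ (hcjT _ hx₀ 3))).mul_right (hπc _ hx₀ _ (hcjT _ hx₀ 4))
    rw [← hc.eq]
    simp only [mul_assoc]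
    rfl
  set a := x₀ * P with ha
  have haT : a ∈ T := mul_mem hx₀ hPT
  have haD : a ∉ D := fun h => hx₀D (by
    have h1 : x₀ ∈ D := by
      have := mul_mem h (inv_mem hPD)
      rwa [ha, mul_inv_cancel_right] at this
    exact mul_mem (hDn.conj_mem _ h1 s) (inv_mem h1))
  have hcj : ∀ i, cj s a i = cj s x₀ i * P := fun i => by
    rw [cj, cj, ha, show s ^ i * (x₀ * P) * (s ^ i)⁻¹ = s ^ i * x₀ * (P * (s ^ i)⁻¹) by group,
      hZc P hPD]
    group
  have hprod : a * cj s a 1 * cj s a 2 * cj s a 3 * cj s a 4 = 1 := by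
    rw [hcj, hcj, hcj, hcj, ha]
    have hp := hZc P hPD
    calc x₀ * P * (cj s x₀ 1 * P) * (cj s x₀ 2 * P) * (cj s x₀ 3 * P) * (cj s x₀ 4 * P)
        = x₀ * (P * cj s x₀ 1) * (P * cj s x₀ 2) * (P * cj s x₀ 3) * (P * cj s x₀ 4) * P := by group
      _ = x₀ * (cj s x₀ 1 * P) * (cj s x₀ 2 * P) * (cj s x₀ 3 * P) * (cj s x₀ 4 * P) * P := by
          rw [hp (cj s x₀ 1), hp (cj s x₀ 2), hp (cj s x₀ 3), hp (cj s x₀ 4)]
      _ = x₀ * cj s x₀ 1 * (P * cj s x₀ 2) * P * cj s x₀ 3 * (P * cj s x₀ 4) * (P * P) := by group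
      _ = x₀ * cj s x₀ 1 * cj s x₀ 2 * (P * P) * cj s x₀ 3 * cj s x₀ 4 * P * (P * P) := by
          rw [hp (cj s x₀ 2), hp (cj s x₀ 4)]; group
      _ = P * P := by rw [hZsq P hPD, mul_one, mul_one, ← hP]; exact hZsq P hPD
      _ = 1 := hZsq P hPD
  set c1 := ⁅a, cj s a 1⁆ with hc1
  set c2 := ⁅a, cj s a 2⁆ with hc2
  have h1D : c1 ∈ D := hcD a haT _ (hcjT a haT 1)
  have h2D : c2 ∈ D := hcD a haT _ (hcjT a haT 2)
  have e0 : cj s a 0 = a := by simp [cj]
  have hsq : a * a = c1 * c2 := by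
    have eD : a * a ∈ D := hsqD a haT
    set a1 := cj s a 1 with ha1
    set a2 := cj s a 2 with ha2
    set a3 := cj s a 3 with ha3
    set e := a * a with he
    have hconj : ∀ i, cj s a i * cj s a i = e := fun i => by
      rw [cj, show s ^ i * a * (s ^ i)⁻¹ * (s ^ i * a * (s ^ i)⁻¹) = s ^ i * (a * a) * (s ^ i)⁻¹ by group,
        ← he, ← hZc e eD, mul_inv_cancel_right]
    -- the square of a product
    have hmul : ∀ x ∈ T, ∀ y ∈ T, x * y * (x * y) = x * x * (y * y) * ⁅y, x⁆ := by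
      intro x hx y hy
      have h1 : ⁅y⁻¹, x⁆ ∈ D := hcD _ (inv_mem hy) _ hx
      have h2 : ⁅y, x⁆ ∈ D := hcD _ hy _ hx
      calc x * y * (x * y) = x * (⁅y, x⁆ * (x * y) * y) := by rw [commutatorElement_def]; group
        _ = x * ((x * y) * ⁅y, x⁆ * y) := by rw [hZc _ h2 (x * y)]
        _ = x * (x * y) * (⁅y, x⁆ * y) := by group
        _ = x * x * (y * y) * ⁅y, x⁆ := by rw [hZc _ h2 y]; group
    have hcm : ∀ x ∈ T, ∀ y ∈ T, ∀ z ∈ T, ⁅x, y * z⁆ = ⁅x, y⁆ * ⁅x, z⁆ := by
      intro x hx y hy z hz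
      calc ⁅x, y * z⁆ = ⁅x, y⁆ * (y * ⁅x, z⁆ * y⁻¹) := by simp only [commutatorElement_def]; group
        _ = _ := by rw [← hZc _ (hcD x hx z hz) y, mul_inv_cancel_right]
    have hk : ∀ (i j : ℕ), ⁅cj s a i, cj s a (i + j)⁆ = ⁅a, cj s a j⁆ := fun i j => by
      have h1 : ⁅cj s a i, cj s a (i + j)⁆ = s ^ i * ⁅a, cj s a j⁆ * (s ^ i)⁻¹ := by
        rw [cj, cj, cj, pow_add]; simp only [commutatorElement_def]; group
      rw [h1, ← hZc _ (hcD a haT _ (hcjT a haT j)), mul_inv_cancel_right]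
    have hinv : ∀ x ∈ T, ∀ y ∈ T, ⁅x, y⁆ = ⁅y, x⁆ := fun x hx y hy => by
      rw [← commutatorElement_inv x y]
      exact eq_inv_of_mul_eq_one_left (hZsq _ (hcD x hx y hy))
    have h30 : ⁅a3, a⁆ = c2 := by
      have h1 := hk 3 2
      rw [show cj s a (3 + 2) = a by rw [cj, hs5, one_mul, inv_one, mul_one]] at h1
      exact h1
    have h01 : ⁅a1, a⁆ = c1 := (hinv _ (hcjT a haT 1) _ haT).trans rfl
    have h02 : ⁅a2, a⁆ = c2 := (hinv _ (hcjT a haT 2) _ haT).trans rfl
    have h12 : ⁅a2, a1⁆ = c1 := (hinv _ (hcjT a haT 2) _ (hcjT a haT 1)).trans (hk 1 1)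
    have h13 : ⁅a3, a1⁆ = c2 := (hinv _ (hcjT a haT 3) _ (hcjT a haT 1)).trans (hk 1 2)
    have h23 : ⁅a3, a2⁆ = c1 := (hinv _ (hcjT a haT 3) _ (hcjT a haT 2)).trans (hk 2 1)
    set w := a * a1 * a2 * a3 with hw
    have h4 : cj s a 4 = w⁻¹ := eq_inv_of_mul_eq_one_right hprod
    have hw2 : w * w = e := by
      have := hconj 4
      rw [h4, ← mul_inv_rev] at this
      rw [← inv_inv (w * w), this]
      exact inv_eq_of_mul_eq_one_left (hZsq e eD)
    have m01 : a * a1 ∈ T := mul_mem haT (hcjT a haT 1)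
    have m012 : a * a1 * a2 ∈ T := mul_mem m01 (hcjT a haT 2)
    rw [hw, hmul _ m012 _ (hcjT a haT 3), hmul _ m01 _ (hcjT a haT 2), hmul _ haT _ (hcjT a haT 1),
      hcm _ (hcjT a haT 3) _ m01 _ (hcjT a haT 2), hcm _ (hcjT a haT 3) _ haT _ (hcjT a haT 1),
      hcm _ (hcjT a haT 2) _ haT _ (hcjT a haT 1), h30, h13, h23, h02, h12, h01, ← he,
      hconj 1, hconj 2, hconj 3] at hw2
    have k1 := hZsq _ h1D
    have k2 := hZsq _ h2D
    have ke := hZsq _ eD
    have hcomm : Commute c1 c2 := hZc _ h1D c2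
    rw [show e * e * c1 * e * (c2 * c1) * e * (c2 * c2 * c1) = c1 * c2 from ?_] at hw2
    · exact hw2.symm
    rw [ke, one_mul, k2, one_mul, hcomm.symm.eq]
    calc c1 * e * (c1 * c2) * e * c1 = c1 * (e * (c1 * c2)) * e * c1 := by group
      _ = c1 * (c1 * c2 * e) * e * c1 := by rw [hZc e eD]
      _ = c1 * c1 * c2 * (e * e) * c1 := by group
      _ = c2 * c1 := by rw [k1, ke, one_mul, mul_one]
      _ = c1 * c2 := hcomm.symm.eq
  have hrel : Rel a s :=
    ⟨hs5, hprod, hZsq _ h1D, hZsq _ h2D, hZc _ h1D a, hZc _ h2D a, hZc _ h1D s, hZc _ h2D s, hsq⟩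
  -- generation
  set K := Subgroup.closure ({a, s} : Set G) with hK
  have haK : a ∈ K := Subgroup.subset_closure (Or.inl rfl)
  have hsK : s ∈ K := Subgroup.subset_closure (Or.inr rfl)
  have hTK : T ≤ K := by
    set J := (T ⊓ K).map π with hJ
    have hJle : J ≤ T.map π := Subgroup.map_mono inf_le_left
    have hsub : ∀ y ∈ (J : Set (G ⧸ D)), π s * y * (π s)⁻¹ ∈ J := by
      rintro _ ⟨u, hu, rfl⟩
      exact ⟨s * u * s⁻¹, ⟨hconjT u hu.1 s, K.mul_mem (K.mul_mem hsK hu.2) (K.inv_mem hsK)⟩, by simp⟩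
    have hk : Nat.card (T.map π) = 16 := by
      have := hcardQ D hDT
      rw [hZ4] at this
      change Nat.card (T.map π) * 4 = 64 at this
      omega
    set R := Subgroup.zpowers (π s) with hR
    have hRN : R ≤ Subgroup.normalizer (J : Set (G ⧸ D)) :=
      Subgroup.zpowers_le.mpr (Subgroup.mem_normalizer_fintype hsub)
    letI : MulAction R J := MulAction.compHom J
      ((Subgroup.normalizerMonoidHom J).comp (Subgroup.inclusion hRN))
    have hRp : IsPGroup 5 R := by
      have h1 : IsPGroup 5 (Subgroup.zpowers s) :=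
        IsPGroup.of_card (n := 1) (by rw [Nat.card_zpowers, hs, pow_one])
      have h2 := h1.map π
      rwa [MonoidHom.map_zpowers] at h2
    have hfx : Subsingleton (MulAction.fixedPoints R J) := by
      refine ⟨fun p q => ?_⟩
      have key : ∀ p : MulAction.fixedPoints R J, ((p : J) : G ⧸ D) = 1 := by
        rintro ⟨⟨v, ⟨u, hu, rfl⟩⟩, hv⟩
        have h1 : π s * π u * (π s)⁻¹ = π u := congrArg Subtype.val (hv ⟨π s, Subgroup.mem_zpowers _⟩)
        refine (QuotientGroup.eq_one_iff u).mpr (hfix u hu.1 ?_)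
        rw [← QuotientGroup.eq_one_iff, ← QuotientGroup.mk'_apply, ← hπ, map_mul, map_mul, map_mul,
          map_inv, map_inv, h1, mul_inv_cancel]
      exact Subtype.ext (Subtype.ext ((key p).trans (key q).symm))
    have hmod := hRp.card_modEq_card_fixedPoints J
    have hfx1 : Nat.card (MulAction.fixedPoints R J) = 1 := by
      haveI : Nonempty (MulAction.fixedPoints R J) := ⟨⟨1, fun r => Subtype.ext (by
        show (r : G ⧸ D) * 1 * (r : G ⧸ D)⁻¹ = 1
        group)⟩⟩
      exact Nat.card_unique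
    rw [hfx1] at hmod
    have hdvd : Nat.card J ∣ 16 := hk ▸ Subgroup.card_dvd_of_le hJle
    have hne : Nat.card J ≠ 1 := fun e => haD ((QuotientGroup.eq_one_iff a).mp (Subgroup.mem_bot.mp
      ((Subgroup.eq_bot_of_card_eq _ e).le ⟨a, ⟨haT, haK⟩, rfl⟩)))
    have h16 : Nat.card J = 16 := by
      have hm : Nat.card J % 5 = 1 := hmod
      obtain ⟨i, hi, he⟩ := (Nat.dvd_prime_pow Nat.prime_two).mp (show Nat.card J ∣ 2 ^ 4 from hdvd)
      rw [he] at hm hne ⊢
      interval_cases i <;> simp at hm hne ⊢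
    have hJeq : J = T.map π := Subgroup.eq_of_le_of_card_ge hJle (by rw [h16, hk])
    have hsup : ((T ⊓ K).subgroupOf T) ⊔ frattini T = ⊤ := by
      refine eq_top_iff.mpr fun x _ => ?_
      obtain ⟨u, hu, he⟩ := hJeq.ge ⟨x, x.2, rfl⟩
      have h1 : u⁻¹ * (x : G) ∈ D := QuotientGroup.eq.mp he
      obtain ⟨d, hd, hde⟩ := h1
      rw [show x = (⟨u, hu.1⟩ : T) * d from Subtype.ext (by
        show (x : G) = u * (d : G)
        rw [show (d : G) = u⁻¹ * x from hde, mul_inv_cancel_left])]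
      exact mul_mem (Subgroup.mem_sup_left hu) (Subgroup.mem_sup_right hd)
    have h1 := frattini_nongenerating hsup
    intro x hx
    exact (h1.ge (Subgroup.mem_top (⟨x, hx⟩ : T))).2
  have htop : K = ⊤ := eq_top_iff.mpr fun g _ => by
    obtain ⟨x, hx, i, rfl⟩ := hgen g
    exact mul_mem (hTK hx) (pow_mem hsK i)
  refine ⟨a, s, hrel, htop, fun N hN n1 n2 n3 => ?_⟩
  -- `c1`, `c2` are independent
  change c1 ∉ N at n1
  change c2 ∉ N at n2
  change c1 * c2 ∉ N at n3
  have hne1 : c1 ≠ 1 := fun e => n1 (e ▸ one_mem N)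
  have hne2 : c2 ≠ 1 := fun e => n2 (e ▸ one_mem N)
  have hne3 : c1 * c2 ≠ 1 := fun e => n3 (e ▸ one_mem N)
  have hlist : ∀ z ∈ D, z = 1 ∨ z = c1 ∨ z = c2 ∨ z = c1 * c2 := by
    intro z hz
    have h12 : c1 ≠ c2 := fun e => hne3 (by rw [e]; exact hZsq _ h2D)
    have h13 : c1 ≠ c1 * c2 := fun e => hne2 (mul_eq_left.mp e.symm)
    have h23 : c2 ≠ c1 * c2 := fun e => hne1 (mul_eq_right.mp e.symm)
    haveI : Fintype D := Fintype.ofFinite _
    have hcard : Fintype.card D = 4 := by rw [← Nat.card_eq_fintype_card, hZ4]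
    let S : Finset D := {1, ⟨c1, h1D⟩, ⟨c2, h2D⟩, ⟨c1 * c2, mul_mem h1D h2D⟩}
    have hS : S = Finset.univ := by
      refine Finset.eq_univ_of_card _ ?_
      rw [hcard]
      simp [S, Subtype.ext_iff, hne1.symm, hne2.symm, hne3.symm, h12, h13, h23]
    have := hS.ge (Finset.mem_univ ⟨z, hz⟩)
    simpa [S, Subtype.ext_iff] using this
  haveI := hN
  have hNT : N ⊓ T = ⊥ := by
    by_contra hne
    set M := (N ⊓ T).subgroupOf T with hM
    haveI : M.Normal := by
      haveI : (N ⊓ T).Normal := Subgroup.normal_inf_normal N T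
      infer_instance
    haveI : Nontrivial M := by
      rw [Subgroup.nontrivial_iff_ne_bot, ne_eq, Subgroup.subgroupOf_eq_bot, disjoint_iff]
      rw [inf_assoc, inf_idem]
      exact hne
    have hnd : ¬ Disjoint M (Subgroup.center T) := fun hd =>
      CfsgLib.IsolatedMin.inf_center_ne_bot hTp M
        ((Subgroup.nontrivial_iff_ne_bot M).mp inferInstance) (disjoint_iff.mp hd)
    rw [Subgroup.disjoint_def] at hnd
    push Not at hnd
    obtain ⟨z, hzM, hzc, hz1⟩ := hnd
    have hzD : (z : G) ∈ D := hDZ.ge ⟨z, hzc, rfl⟩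
    have hzN : (z : G) ∈ N := hzM.1
    rcases hlist _ hzD with h | h | h | h
    · exact hz1 (Subtype.ext h)
    · exact n1 (h ▸ hzN)
    · exact n2 (h ▸ hzN)
    · exact n3 (h ▸ hzN)
  refine eq_bot_iff.mpr fun n hn => Subgroup.mem_bot.mpr ?_
  by_contra hn1
  have hna : n * a = a * n := by
    have h1 : ⁅n, a⁆ ∈ N ⊓ T := by
      refine ⟨?_, Subgroup.commutator_mem_commutator (Subgroup.mem_top _) (Subgroup.mem_top _)⟩
      rw [commutatorElement_def, show n * a * n⁻¹ * a⁻¹ = n * (a * n⁻¹ * a⁻¹) by group]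
      exact mul_mem hn (hN.conj_mem _ (inv_mem hn) a)
    rw [hNT, Subgroup.mem_bot, commutatorElement_eq_one_iff_mul_comm] at h1
    exact h1
  obtain ⟨x, hx, i, rfl⟩ := hgen n
  have hi : ¬ 5 ∣ i := fun hd => by
    obtain ⟨j, rfl⟩ := hd
    rw [pow_mul, hs5, one_pow, mul_one] at hn hn1
    exact hn1 (Subgroup.mem_bot.mp (hNT.le ⟨hn, hx⟩))
  apply haD
  refine hfix a haT ?_
  rw [← QuotientGroup.eq_one_iff, ← QuotientGroup.mk'_apply, ← hπ]
  have h1 : Commute (π x * π s ^ i) (π a) := by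
    rw [← map_pow, ← map_mul]
    show _ * _ = _ * _
    rw [← map_mul, ← map_mul, hna]
  have h2 : Commute (π s ^ i) (π a) := by
    have := ((hπc x hx a haT).inv_left).mul_left h1
    rwa [inv_mul_cancel_left] at this
  have h3 : Commute (π s) (π a) := by
    obtain ⟨j, -, hj⟩ := Nat.exists_mul_mod_eq_one_of_coprime
      ((Nat.prime_five.coprime_iff_not_dvd.mpr hi).symm) (by norm_num)
    have h4 := h2.pow_left j
    rw [← pow_mul, ← map_pow, ← Nat.mod_add_div (i * j) 5, hj, pow_add, pow_mul, hs5, one_pow,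
      mul_one, pow_one] at h4
    exact h4
  rw [map_mul, map_mul, map_mul, map_inv, map_inv, h3.eq, mul_inv_cancel_right, mul_inv_cancel]

open CfsgLib.UThreeFour in
/-- The generator in the Sylow subgroup. -/
def matM : Matrix (Fin 3) (Fin 3) K16 := !![⟨2⟩, ⟨0⟩, ⟨4⟩; ⟨2⟩, ⟨13⟩, ⟨15⟩; ⟨1⟩, ⟨4⟩, ⟨14⟩]

open CfsgLib.UThreeFour in
/-- The inverse of `matM`. -/
def matMi : Matrix (Fin 3) (Fin 3) K16 := !![⟨3⟩, ⟨3⟩, ⟨1⟩; ⟨0⟩, ⟨11⟩, ⟨5⟩; ⟨5⟩, ⟨8⟩, ⟨9⟩]

open CfsgLib.UThreeFour in
theorem matM_spec : matM.det = 1 ∧ ∀ j k, (matM 0 j * q4 (matM 0 k) + matM 1 j * q4 (matM 1 k) +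
    matM 2 j * q4 (matM 2 k)) = if j = k then 1 else 0 := by
  rw [Matrix.det_fin_three]; decide +kernel

open CfsgLib.UThreeFour in
/-- Conjugates of `matM`. -/
def mc (i : ℕ) : Matrix (Fin 3) (Fin 3) K16 := matA ^ (2 * i) * matM * matA ^ (10 - 2 * i)

open CfsgLib.UThreeFour in
/-- Inverse conjugates of `matM`. -/
def mci (i : ℕ) : Matrix (Fin 3) (Fin 3) K16 := matA ^ (2 * i) * matMi * matA ^ (10 - 2 * i)

open CfsgLib.UThreeFour in
/-- The first commutator. -/
def mk1 : Matrix (Fin 3) (Fin 3) K16 := matM * mc 1 * matMi * mci 1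

open CfsgLib.UThreeFour in
/-- The second commutator. -/
def mk2 : Matrix (Fin 3) (Fin 3) K16 := matM * mc 2 * matMi * mci 2

open CfsgLib.UThreeFour in
theorem mat_rel : matM * matMi = 1 ∧ matM * mc 1 * mc 2 * mc 3 * mc 4 = 1 ∧
    mk1 * mk1 = 1 ∧ mk2 * mk2 = 1 ∧ mk1 * matM = matM * mk1 ∧ mk2 * matM = matM * mk2 ∧
    mk1 * matA ^ 2 = matA ^ 2 * mk1 ∧ mk2 * matA ^ 2 = matA ^ 2 * mk2 ∧ matM * matM = mk1 * mk2 ∧
    mk1 ≠ 1 ∧ mk2 ≠ 1 ∧ mk1 * mk2 ≠ 1 := by decide +kernel

open CfsgLib.UThreeFour in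
/-- The conjugating elements. -/
def cw (r : ℕ) : Matrix (Fin 3) (Fin 3) K16 :=
  matX ^ (r % 13) * matA ^ (r / 13) * matX ^ (min (r / 13) 1)

open CfsgLib.UThreeFour in
/-- Their inverses. -/
def cwi (r : ℕ) : Matrix (Fin 3) (Fin 3) K16 :=
  matX ^ (13 - min (r / 13) 1) * matA ^ (10 - r / 13) * matX ^ (13 - r % 13)

open CfsgLib.UThreeFour in
theorem mat_conj : ((List.range 66).map fun r => cw r * mk1 * cwi r).Nodup := by decide +kernel

set_option maxHeartbeats 2000000 in
/-- The statement for the model. -/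
theorem model {G : Type*} [Group G] [Finite G] (hG : Nat.card G = 320)
    (hD : Nat.card (commutator G) = 64) (hZ : IsKleinFour (Subgroup.center (commutator G))) :
    ∃ t : CfsgLib.UThreeFour.G, orderOf t = 2 ∧
      Nonempty (G ≃* Subgroup.centralizer ({t} : Set CfsgLib.UThreeFour.G)) := by
  classical
  obtain ⟨a, s, hrel, hgen, hsep⟩ := exists_gens hG hD hZ
  open CfsgLib.UThreeFour in
  let gA := mkG matA matA_spec.1 matA_spec.2
  let gM : CfsgLib.UThreeFour.G := CfsgLib.UThreeFour.mkG matM matM_spec.1 matM_spec.2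
  set τ := gA ^ 2 with hτ
  have hA10 : gA ^ 10 = 1 := CfsgLib.UThreeFour.toMat_injective (by
    rw [map_pow, map_one]; exact CfsgLib.UThreeFour.matA_order.1)
  have hMi : CfsgLib.UThreeFour.toMat gM⁻¹ = matMi := by
    have h1 : CfsgLib.UThreeFour.toMat gM⁻¹ * CfsgLib.UThreeFour.toMat gM = 1 := by
      rw [← map_mul, inv_mul_cancel, map_one]
    calc CfsgLib.UThreeFour.toMat gM⁻¹ = CfsgLib.UThreeFour.toMat gM⁻¹ * (matM * matMi) := by
          rw [mat_rel.1, mul_one]
      _ = matMi := by rw [← mul_assoc]; exact (congrArg (· * matMi) h1).trans (one_mul _)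
  have hinvτ : ∀ i, i ≤ 5 → (τ ^ i)⁻¹ = gA ^ (10 - 2 * i) := fun i hi => by
    refine inv_eq_of_mul_eq_one_right ?_
    rw [hτ, ← pow_mul, ← pow_add, show 2 * i + (10 - 2 * i) = 10 by omega, hA10]
  have hcj : ∀ i, i ≤ 5 → CfsgLib.UThreeFour.toMat (cj τ gM i) = mc i ∧
      CfsgLib.UThreeFour.toMat (cj τ gM i)⁻¹ = mci i := fun i hi => by
    refine ⟨?_, ?_⟩
    · rw [cj, hinvτ i hi, hτ, ← pow_mul, map_mul, map_mul, map_pow, map_pow]; rfl
    · rw [cj, mul_inv_rev, mul_inv_rev, inv_inv, ← mul_assoc, hinvτ i hi, hτ, ← pow_mul, map_mul,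
        map_mul, map_pow, map_pow, hMi]
      rfl
  have hk : ∀ i, i ≤ 5 → CfsgLib.UThreeFour.toMat ⁅gM, cj τ gM i⁆ = matM * mc i * matMi * mci i := by
    intro i hi
    rw [commutatorElement_def, map_mul, map_mul, map_mul, (hcj i hi).1, (hcj i hi).2, hMi]
    rfl
  have k1 : CfsgLib.UThreeFour.toMat ⁅gM, cj τ gM 1⁆ = mk1 := hk 1 (by norm_num)
  have k2 : CfsgLib.UThreeFour.toMat ⁅gM, cj τ gM 2⁆ = mk2 := hk 2 (by norm_num)
  obtain ⟨-, r2, r3, r4, r5, r6, r7, r8, r9, r10, r11, r12⟩ := mat_rel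
  have inj := CfsgLib.UThreeFour.toMat_injective
  have hM0 : CfsgLib.UThreeFour.toMat gM = matM := rfl
  have hτ0 : CfsgLib.UThreeFour.toMat τ = CfsgLib.UThreeFour.matA ^ 2 := by rw [hτ, map_pow]; rfl
  have hrel' : Rel gM τ := by
    constructor
    · rw [hτ, ← pow_mul]; exact hA10
    · apply inj
      simp only [map_mul, map_one, (hcj _ (show 1 ≤ 5 by norm_num)).1,
        (hcj _ (show 2 ≤ 5 by norm_num)).1, (hcj _ (show 3 ≤ 5 by norm_num)).1,
        (hcj _ (show 4 ≤ 5 by norm_num)).1, hM0]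
      exact r2
    · apply inj; simp only [map_mul, map_one, k1]; exact r3
    · apply inj; simp only [map_mul, map_one, k2]; exact r4
    · apply inj; simp only [map_mul, k1, hM0]; exact r5
    · apply inj; simp only [map_mul, k2, hM0]; exact r6
    · apply inj; simp only [map_mul, k1, hτ0]; exact r7
    · apply inj; simp only [map_mul, k2, hτ0]; exact r8
    · apply inj; simp only [map_mul, k1, k2, hM0]; exact r9
  obtain ⟨φ, hφa, hφs, -⟩ := exists_hom hG hgen hrel hrel'
  have hφk : ∀ i, φ ⁅a, cj s a i⁆ = ⁅gM, cj τ gM i⁆ := fun i => by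
    simp only [map_commutatorElement, cj, map_mul, map_inv, map_pow, hφa, hφs]
  have hinj : Function.Injective φ := by
    rw [← MonoidHom.ker_eq_bot_iff]
    refine hsep _ inferInstance ?_ ?_ ?_
    · intro h
      rw [MonoidHom.mem_ker, hφk] at h
      exact r10 (k1 ▸ congrArg CfsgLib.UThreeFour.toMat h)
    · intro h
      rw [MonoidHom.mem_ker, hφk] at h
      exact r11 (k2 ▸ congrArg CfsgLib.UThreeFour.toMat h)
    · intro h
      rw [MonoidHom.mem_ker, map_mul, hφk, hφk] at h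
      have h1 := congrArg CfsgLib.UThreeFour.toMat h
      rw [map_mul, k1, k2] at h1
      exact r12 h1
  set t := ⁅gM, cj τ gM 1⁆ with ht
  refine ⟨t, ?_, ?_⟩
  · refine orderOf_eq_prime (by rw [sq]; exact hrel'.sq1) fun h => r10 ?_
    exact k1 ▸ congrArg CfsgLib.UThreeFour.toMat h
  set C := Subgroup.centralizer ({t} : Set CfsgLib.UThreeFour.G) with hC
  have hle : φ.range ≤ C := by
    rw [MonoidHom.range_eq_map, ← hgen, MonoidHom.map_closure, Subgroup.closure_le]
    rintro _ ⟨x, hx | hx, rfl⟩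
    · rw [hx, SetLike.mem_coe, hC, Subgroup.mem_centralizer_singleton_iff, hφa]
      exact hrel'.com1.symm
    · rw [Set.mem_singleton_iff] at hx
      rw [hx, SetLike.mem_coe, hC, Subgroup.mem_centralizer_singleton_iff, hφs]
      exact hrel'.coms1.symm
  have hrange : Nat.card φ.range = 320 := by
    rw [← hG]; exact (Nat.card_congr (MonoidHom.ofInjective hinj).toEquiv).symm
  -- conjugates
  open CfsgLib.UThreeFour in
  let g : Fin 66 → CfsgLib.UThreeFour.G := fun r =>
    gX ^ ((r : ℕ) % 13) * gA ^ ((r : ℕ) / 13) * gX ^ (min ((r : ℕ) / 13) 1)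
  have hX13 : CfsgLib.UThreeFour.gX ^ 13 = 1 :=
    CfsgLib.UThreeFour.orderOf_gX ▸ pow_orderOf_eq_one _
  have hg : ∀ r : Fin 66, CfsgLib.UThreeFour.toMat (g r * t * (g r)⁻¹) =
      cw (r : ℕ) * mk1 * cwi (r : ℕ) := by
    intro r
    have e1 : (g r)⁻¹ = CfsgLib.UThreeFour.gX ^ (13 - min ((r : ℕ) / 13) 1) *
        gA ^ (10 - (r : ℕ) / 13) * CfsgLib.UThreeFour.gX ^ (13 - (r : ℕ) % 13) := by
      refine inv_eq_of_mul_eq_one_right ?_
      set X := CfsgLib.UThreeFour.gX with hXdef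
      set i := (r : ℕ) % 13 with hi
      set q := (r : ℕ) / 13 with hq
      have hqb : q ≤ 10 := by omega
      calc X ^ i * gA ^ q * X ^ min q 1 * (X ^ (13 - min q 1) * gA ^ (10 - q) * X ^ (13 - i))
          = X ^ i * gA ^ q * (X ^ min q 1 * X ^ (13 - min q 1)) * gA ^ (10 - q) * X ^ (13 - i) := by
            group
        _ = X ^ i * (gA ^ q * gA ^ (10 - q)) * X ^ (13 - i) := by
            rw [← pow_add X, show min q 1 + (13 - min q 1) = 13 by omega, hX13]; group
        _ = 1 := by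
            rw [← pow_add, show q + (10 - q) = 10 by omega, hA10, mul_one, ← pow_add,
              show i + (13 - i) = 13 by omega, hX13]
    rw [e1, map_mul, map_mul, show CfsgLib.UThreeFour.toMat t = mk1 from k1]
    have hX0 : CfsgLib.UThreeFour.toMat CfsgLib.UThreeFour.gX = CfsgLib.UThreeFour.matX := rfl
    have hA0 : CfsgLib.UThreeFour.toMat gA = CfsgLib.UThreeFour.matA := rfl
    simp only [g, cw, cwi, map_mul, map_pow, hX0, hA0]
  have hginj : Function.Injective fun r : Fin 66 => (QuotientGroup.mk (g r) : CfsgLib.UThreeFour.G ⧸ C) := by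
    intro r r' he
    have h1 : (g r)⁻¹ * g r' ∈ C := QuotientGroup.eq.mp he
    rw [hC, Subgroup.mem_centralizer_singleton_iff] at h1
    have h2 : g r * t * (g r)⁻¹ = g r' * t * (g r')⁻¹ := by
      calc g r * t * (g r)⁻¹ = g r * (t * ((g r)⁻¹ * g r')) * (g r')⁻¹ := by group
        _ = g r * ((g r)⁻¹ * g r' * t) * (g r')⁻¹ := by rw [h1]
        _ = _ := by group
    have h3 := congrArg CfsgLib.UThreeFour.toMat h2
    rw [hg, hg] at h3
    exact Fin.ext (List.inj_on_of_nodup_map mat_conj (List.mem_range.mpr r.2) (List.mem_range.mpr r'.2) h3)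
  have h66 := Nat.card_le_card_of_injective _ hginj
  rw [Nat.card_fin, ← Subgroup.index_eq_card] at h66
  have hmul := C.card_mul_index
  rw [CfsgLib.UThreeFour.card_G] at hmul
  obtain ⟨k, hk'⟩ : 320 ∣ Nat.card C := hrange ▸ Subgroup.card_dvd_of_le hle
  have hkC : Nat.card C = 320 := by
    rw [hk'] at hmul ⊢
    have : k < 3 := by nlinarith
    interval_cases k <;> omega
  have heq : φ.range = C := Subgroup.eq_of_le_of_card_ge hle (by rw [hrange, hkC])
  exact ⟨(MonoidHom.ofInjective hinj).trans (MulEquiv.subgroupCongr heq)⟩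

/-- A finite group of order 320 whose derived subgroup has order 64 and has centre a Klein four-group is isomorphic to the centralizer of an involution in PSU₃(4). -/
theorem result {G : Type*} [Group G] [Finite G] (hG : Nat.card G = 320) (hD : Nat.card (commutator G) = 64)
    (hZ : IsKleinFour (Subgroup.center (commutator G)))
    {F : Type*} [Field F] [Fintype F] (hF : Fintype.card F = 16) :
    ∃ t : Cfsg.PSU 3 F 4, orderOf t = 2 ∧ Nonempty (G ≃* Subgroup.centralizer ({t} : Set (Cfsg.PSU 3 F 4))) := by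
  obtain ⟨t, ht, ⟨e⟩⟩ := model hG hD hZ
  obtain ⟨E⟩ := Cfsg.Agent.S3663.exists_equiv hF
  refine ⟨E.symm t, by rw [MulEquiv.orderOf_eq]; exact ht, ⟨e.trans ?_⟩⟩
  exact (Subgroup.centralizer ({t} : Set CfsgLib.UThreeFour.G)).equivMapOfInjective
    E.symm.toMonoidHom E.symm.injective |>.trans (MulEquiv.subgroupCongr (by
      ext x
      rw [Subgroup.mem_map, Subgroup.mem_centralizer_singleton_iff]
      constructor
      · rintro ⟨y, hy, rfl⟩
        show E.symm y * E.symm t = E.symm t * E.symm y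
        rw [← map_mul, ← map_mul, Subgroup.mem_centralizer_singleton_iff.mp hy]
      · intro h
        refine ⟨E x, Subgroup.mem_centralizer_singleton_iff.mpr ?_, E.symm_apply_apply x⟩
        have h' := congrArg E h
        simpa using h'))

end Cfsg.Agent.S1903
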