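import Cfsg.Statements.S1905
import Cfsg.Agent.S2899
import Cfsg.Agent.Lib.Strong.Conj
import Cfsg.Agent.Lib.Invol.StronglyEmbedded

set_option autoImplicit false
open Cfsg

namespace Cfsg.Agent.S1905

/-- Let M be a subgroup of even order of a finite group S such that M contains the centralizer in S of each of its involutions and the normal core of M in S has odd order. Then all involutions of S are conjugate. If moreover N_S(X) ≤ M for a Sylow 2-subgroup X of M and I is an involution in the centre of X, then all involutions of M are conjugate in M and M = M₀ C_M(I) for some subgroup M₀ of M of odd order. -/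
theorem result {S : Type*} [Group S] [Finite S] (M : Subgroup S) (hM : Even (Nat.card M))
    (hC : ∀ i ∈ M, orderOf i = 2 → Subgroup.centralizer ({i} : Set S) ≤ M) (hcore : Odd (Nat.card M.normalCore)) :
    (∀ x y : S, orderOf x = 2 → orderOf y = 2 → IsConj x y) ∧
      ∀ (X : Sylow 2 M) (I : M), I ∈ (Subgroup.center ↥(X : Subgroup ↥M)).map (X : Subgroup ↥M).subtype → orderOf I = 2 →
        Subgroup.normalizer (((X : Subgroup M).map M.subtype : Subgroup S) : Set S) ≤ M →
        (∀ x y : M, orderOf x = 2 → orderOf y = 2 → IsConj x y) ∧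
          ∃ M₀ : Subgroup M, Odd (Nat.card M₀) ∧
            ∀ m : M, ∃ a ∈ M₀, ∃ c ∈ Subgroup.centralizer ({I} : Set M), m = a * c := by
  haveI : Fact (Nat.Prime 2) := ⟨Nat.prime_two⟩
  obtain ⟨i₀, hi₀⟩ := exists_prime_orderOf_dvd_card' (G := M) 2 (even_iff_two_dvd.mp hM)
  have hi₀S : orderOf (i₀ : S) = 2 := (Subgroup.orderOf_coe i₀).trans hi₀
  obtain ⟨j, hj, hjM⟩ : ∃ j : S, orderOf j = 2 ∧ j ∉ M := by
    by_contra hn
    push Not at hn
    have hmem : (i₀ : S) ∈ M.normalCore := fun b => hn _ (CfsgLib.Invol.conj_orderOf_two hi₀S b)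
    have h2 : 2 ∣ Nat.card M.normalCore := by
      rw [← hi₀S, ← Subgroup.orderOf_mk (⟨_, hmem⟩ : M.normalCore).1 hmem]
      exact orderOf_dvd_natCard _
    exact Nat.not_even_iff_odd.mpr hcore (even_iff_two_dvd.mpr h2)
  have key : ∀ a b : S, orderOf a = 2 → a ∈ M → orderOf b = 2 → b ∉ M → IsConj a b := by
    intro a b ha haM hb hbM
    refine CfsgLib.Invol.isConj_of_odd ha hb ?_
    by_contra he
    rw [Nat.not_odd_iff_even] at he
    have hz := hC a haM ha (Subgroup.mem_centralizer_singleton_iff.mpr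
      (CfsgLib.Invol.centralInvol_comm_left ha hb he).eq)
    exact hbM (hC _ hz (CfsgLib.Invol.orderOf_centralInvol a b he)
      (Subgroup.mem_centralizer_singleton_iff.mpr
        (CfsgLib.Invol.centralInvol_comm_right ha hb he).eq.symm))
  refine ⟨fun x y hx hy => ?_, fun X I _ hI hN => ?_⟩
  · have h1 : ∀ z : S, orderOf z = 2 → IsConj z j := by
      intro z hz
      by_cases hzM : z ∈ M
      · exact key z j hz hzM hj hjM
      · exact (key _ z hi₀S i₀.2 hz hzM).symm.trans (key _ j hi₀S i₀.2 hj hjM)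
    exact (h1 x hx).trans (h1 y hy).symm
  · have hne : M ≠ ⊤ := fun h => hjM (h ▸ Subgroup.mem_top j)
    have hSP := (Cfsg.Agent.S2899.result M hne X).mpr
      ⟨fun x hx h2 => hC x (Subgroup.map_subtype_le _ hx) h2, hN⟩
    obtain ⟨-, hN'⟩ := CfsgLib.Strong.exists_sylow_le_and_normalizer_le hSP
    have hSE : Cfsg.IsStronglyEmbedded M := ⟨hne, hM, fun g hg => Nat.not_even_iff_odd.mp
      fun he => CfsgLib.Strong.forall_not_dvd_iff.mpr hN' g hg (even_iff_two_dvd.mp he)⟩
    have trans' : ∀ x y : M, orderOf x = 2 → orderOf y = 2 →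
        ∃ d ∈ (M ⊓ M.map (MulAut.conj j).toMonoidHom), d * (x : S) * d⁻¹ = y := fun x y hx hy =>
      CfsgLib.Invol.strongly_inter_transitive hSE hj hjM ((Subgroup.orderOf_coe x).trans hx) x.2
        ((Subgroup.orderOf_coe y).trans hy) y.2
    refine ⟨fun x y hx hy => ?_, (M ⊓ M.map (MulAut.conj j).toMonoidHom).subgroupOf M, ?_, fun m => ?_⟩
    · obtain ⟨d, hd, e⟩ := trans' x y hx hy
      exact isConj_iff.mpr ⟨⟨d, hd.1⟩, Subtype.ext e⟩
    · rw [Nat.card_congr (Subgroup.subgroupOfEquivOfLe inf_le_left).toEquiv]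
      exact hSE.2.2 j hjM
    · obtain ⟨d, hd, e⟩ := trans' I (m * I * m⁻¹) hI (CfsgLib.Invol.conj_orderOf_two hI m)
      refine ⟨⟨d, hd.1⟩, Subgroup.mem_subgroupOf.mpr hd, (⟨d, hd.1⟩ : M)⁻¹ * m, ?_, by group⟩
      rw [Subgroup.mem_centralizer_singleton_iff]
      have e' : (⟨d, hd.1⟩ : M) * I * (⟨d, hd.1⟩ : M)⁻¹ = m * I * m⁻¹ := Subtype.ext e
      calc (⟨d, hd.1⟩ : M)⁻¹ * m * I = (⟨d, hd.1⟩ : M)⁻¹ * (m * I * m⁻¹) * m := by group
        _ = I * ((⟨d, hd.1⟩ : M)⁻¹ * m) := by rw [← e']; group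

end Cfsg.Agent.S1905
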