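import Cfsg.Statements.S1906
import Cfsg.Agent.Lib.GLThree.Involutions
import Cfsg.Agent.Lib.Transfer.Thompson
import Cfsg.Agent.Lib.Critical.Basic
-- import your own Cfsg.Agent.* helpers here

set_option autoImplicit false
open Cfsg CfsgLib
open scoped commutatorElement

namespace Cfsg.Agent.S1906

/-- Let G be a finite group with no subgroup of index 2 whose Sylow 2-subgroup X embeds in GL₃(F) for a finite field F of odd order. If X contains an elementary abelian subgroup of order 8, then X is abelian. -/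
theorem result {G : Type*} [Group G] [Finite G] (hG : ∀ H : Subgroup G, H.index ≠ 2) (X : Sylow 2 G)
    {F : Type*} [Field F] [Fintype F] (hF : Odd (Fintype.card F))
    (f : ↥(X : Subgroup G) →* GL (Fin 3) F) (hf : Function.Injective f)
    (E : Subgroup G) (hE : E ≤ (X : Subgroup G)) (hEa : Cfsg.IsElementaryAbelian 2 E) (hE8 : Nat.card E = 8) :
    IsMulCommutative (X : Subgroup G) := by
  classical
  haveI := Fact.mk Nat.prime_two
  have h2 : (2 : F) ≠ 0 := by
    refine Ring.two_ne_zero fun h => ?_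
    haveI := ringChar.of_eq h
    obtain ⟨n, hn, hq⟩ := FiniteField.card F 2
    exact Nat.not_even_iff_odd.mpr hF (hq ▸ (Nat.even_pow.mpr ⟨even_two, n.ne_zero⟩))
  have hneg1 : (-1 : F) ≠ 1 := fun h => h2 (by linear_combination -h)
  let Y := ↥(X : Subgroup G)
  have hYp : IsPGroup 2 Y := X.isPGroup'
  haveI : Group.IsNilpotent Y := hYp.isNilpotent
  by_contra hab
  -- elementary subgroups of order eight of Y
  have h8 : ∀ O : Subgroup Y, Nat.card O = 8 → (∀ o ∈ O, o * o = 1) →
      (∀ o ∈ O, ∀ o' ∈ O, o * o' = o' * o) →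
      (∃ z ∈ O, (f z : Matrix (Fin 3) (Fin 3) F) = -1) ∧
      ((∀ o ∈ O, ∀ y : Y, y * o = o * y) → False) := by
    intro O hO hinv hcomm
    have h := GLThree.structure_of_card_eight h2 (O.map f)
      (by rw [Subgroup.card_map_of_injective hf, hO])
      (by
        rintro _ ⟨o, ho, rfl⟩
        rw [← map_mul, hinv o ho, map_one])
      (by
        rintro _ ⟨o, ho, rfl⟩ _ ⟨o', ho', rfl⟩
        rw [← map_mul, ← map_mul, hcomm o ho o' ho'])
    refine ⟨?_, fun hcen => hab ⟨⟨fun x y => hf ?_⟩⟩⟩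
    · obtain ⟨_, ⟨o, ho, rfl⟩, e⟩ := h.1
      exact ⟨o, ho, e⟩
    · rw [map_mul, map_mul]
      refine h.2 _ _ ?_ ?_ <;> rintro _ ⟨o, ho, rfl⟩ <;> rw [← map_mul, ← map_mul, hcen o ho]
  -- the central involution mapping to -1
  obtain ⟨⟨z, hzE, hzneg⟩, -⟩ := h8 (E.subgroupOf (X : Subgroup G))
    (by rw [Nat.card_congr (Subgroup.subgroupOfEquivOfLe hE).toEquiv, hE8])
    (fun o ho => Subtype.ext ((pow_two (o : G)).symm.trans
      (hEa.2 _ (Subgroup.mem_subgroupOf.mp ho))))
    (fun o ho o' ho' => Subtype.ext (show (o : G) * o' = o' * o from congrArg Subtype.val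
      (hEa.1.is_comm.comm (⟨(o : G), Subgroup.mem_subgroupOf.mp ho⟩ : E)
        ⟨(o' : G), Subgroup.mem_subgroupOf.mp ho'⟩)))
  have hzc : z ∈ Subgroup.center Y := by
    rw [Subgroup.mem_center_iff]
    intro y
    apply hf
    apply Units.ext
    rw [map_mul, map_mul, Units.val_mul, Units.val_mul, hzneg]
    simp
  have hz2 : z * z = 1 := by
    apply hf
    apply Units.ext
    rw [map_mul, map_one, Units.val_mul, hzneg]
    simp
  let φ : Y →* Fˣ := Matrix.GeneralLinearGroup.det.comp f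
  have hφz : φ z = -1 := by
    apply Units.ext
    change (f z : Matrix (Fin 3) (Fin 3) F).det = -1
    rw [hzneg, Matrix.det_neg]
    simp [Odd.neg_one_pow (show Odd 3 by decide)]
  have hφz1 : φ z ≠ 1 := by
    rw [hφz]
    intro h
    exact hneg1 (by simpa using congrArg Units.val h)
  -- the group of central involutions
  let O : Subgroup Y :=
    { carrier := {y | y ∈ Subgroup.center Y ∧ y * y = 1}
      one_mem' := ⟨one_mem _, one_mul 1⟩
      mul_mem' := fun {a b} ha hb => ⟨mul_mem ha.1 hb.1, by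
        have hab' : b * a = a * b := Subgroup.mem_center_iff.mp ha.1 b
        calc a * b * (a * b) = a * (b * a) * b := by group
          _ = (a * a) * (b * b) := by rw [hab']; group
          _ = 1 := by rw [ha.2, hb.2, one_mul]⟩
      inv_mem' := fun {a} ha => ⟨inv_mem ha.1, by rw [← mul_inv_rev, ha.2, inv_one]⟩ }
  have hOp : IsPGroup 2 O := hYp.to_subgroup O
  have hO4 : Nat.card O ≤ 4 := by
    by_contra hgt
    obtain ⟨k, hk⟩ := hOp.exists_card_eq
    have h3 : 3 ≤ k := by
      by_contra hk3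
      interval_cases k <;> omega
    obtain ⟨O', hO'⟩ := Sylow.exists_subgroup_card_pow_prime 2 (G := O) (n := 3)
      (hk ▸ pow_dvd_pow 2 h3)
    refine (h8 (O'.map O.subtype) (by rw [Subgroup.card_subtype, hO']; norm_num) ?_ ?_).2 ?_
    · rintro _ ⟨o, -, rfl⟩
      exact o.2.2
    · rintro _ ⟨o, -, rfl⟩ _ ⟨o', -, rfl⟩
      exact Subgroup.mem_center_iff.mp o'.2.1 _
    · rintro _ ⟨o, -, rfl⟩ y
      exact Subgroup.mem_center_iff.mp o.2.1 y
  have hcomm1 : ∀ y ∈ commutator Y, φ y = 1 := fun y hy =>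
    Abelianization.commutator_subset_ker φ hy
  -- the unique central involution of determinant one
  have huniq : ∀ s w : Y, s ∈ O → w ∈ O → φ s = 1 → φ w = 1 → s ≠ 1 → w ≠ 1 → s = w := by
    intro s w hs hw hs1 hw1 hsn hwn
    by_contra hne
    have hzO : z ∈ O := ⟨hzc, hz2⟩
    let L : Finset O := {1, ⟨z, hzO⟩, ⟨s, hs⟩, ⟨w, hw⟩, ⟨z * s, mul_mem hzO hs⟩}
    have hL : L.card = 5 := by
      have hzn : z ≠ 1 := fun h => hφz1 (by rw [h, map_one])
      have hzs : φ (z * s) ≠ 1 := by rw [map_mul, hs1, mul_one]; exact hφz1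
      have a1 : z ≠ s := fun h => hφz1 (h ▸ hs1)
      have a2 : z ≠ w := fun h => hφz1 (h ▸ hw1)
      have a3 : z * s ≠ w := fun h => hzs (h ▸ hw1)
      have a4 : z * s ≠ s := fun h => hzs (h.symm ▸ hs1)
      have a5 : z * s ≠ 1 := fun h => hzs (by rw [h, map_one])
      simp only [L]
      rw [Finset.card_insert_of_notMem, Finset.card_insert_of_notMem, Finset.card_insert_of_notMem,
        Finset.card_insert_of_notMem, Finset.card_singleton] <;>
        simp [Subtype.ext_iff, hzn, hsn, hwn, a1, a2, hne, hzn.symm, Ne.symm hsn, Ne.symm hwn,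
          Ne.symm a3, Ne.symm a4, Ne.symm a5]
    haveI := Fintype.ofFinite O
    have hle := Finset.card_le_univ L
    rw [hL, ← Nat.card_eq_fintype_card] at hle
    omega
  -- an involution in the commutator subgroup and the centre
  have hcne : commutator Y ≠ ⊥ := fun h => hab ⟨⟨fun x y => by
    have : ⁅(x : Y), y⁆ ∈ commutator Y :=
      Subgroup.commutator_mem_commutator (Subgroup.mem_top _) (Subgroup.mem_top _)
    rw [h, Subgroup.mem_bot, commutatorElement_eq_one_iff_mul_comm] at this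
    exact this⟩⟩
  have hCZ := Critical.inf_center_ne_bot (commutator Y) hcne
  obtain ⟨s, hsC, hs2⟩ : ∃ s : Y, s ∈ commutator Y ⊓ Subgroup.center Y ∧ orderOf s = 2 := by
    obtain ⟨k, hk⟩ := (hYp.to_subgroup (commutator Y ⊓ Subgroup.center Y)).exists_card_eq
    have hk0 : k ≠ 0 := fun h => hCZ (Subgroup.card_eq_one.mp (by rw [hk, h, pow_zero]))
    obtain ⟨s, hs⟩ := exists_prime_orderOf_dvd_card'
      (G := ↥(commutator Y ⊓ Subgroup.center Y)) 2 (hk ▸ dvd_pow_self 2 hk0)
    exact ⟨s, s.2, by rw [Subgroup.orderOf_coe, hs]⟩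
  have hsn : s ≠ 1 := fun h => by simp [h] at hs2
  have hsO : s ∈ O := ⟨hsC.2, Transfer.sq_eq_one_of_orderOf_eq_two hs2⟩
  -- the transfer
  have hzG : (z : G) * z = 1 := congrArg Subtype.val hz2
  by_cases htr : MonoidHom.transfer φ (z : G) = 1
  · have hA : ∀ a b : Fˣ, a * a = 1 → b * b = 1 → a ≠ 1 → b ≠ 1 → a = b := fun a b ha hb ha1 hb1 =>
      Transfer.eq_of_sq_eq_one_of_isCyclic a b ha hb ha1 hb1
    obtain ⟨a, haX, hz', hker⟩ := Transfer.exists_conj_ker_of_transfer_eq_one φ hA hzG z.2 hφz1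
      (Nat.not_even_iff_odd.mp fun e => X.not_dvd_index (even_iff_two_dvd.mp e)) htr
      (X : Subgroup G) X.isPGroup' (fun y hy => Subgroup.mem_centralizer_singleton_iff.mpr
        (congrArg Subtype.val (Subgroup.mem_center_iff.mp hzc ⟨y, hy⟩)))
    let ψ : Y →* Y :=
      { toFun := fun y => ⟨a⁻¹ * y * a, haX y y.2⟩
        map_one' := Subtype.ext (by simp)
        map_mul' := fun x y => Subtype.ext (show a⁻¹ * ((x : G) * y) * a = a⁻¹ * x * a * (a⁻¹ * y * a) by group) }
    have hψi : Function.Injective ψ := fun x y h => by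
      have h' := congrArg Subtype.val h
      exact Subtype.ext (by simpa [ψ] using h')
    have hψs : Function.Surjective ψ := Finite.surjective_of_injective hψi
    have hψO : ∀ y ∈ O, ψ y ∈ O := fun y hy => ⟨Subgroup.mem_center_iff.mpr fun g => by
        obtain ⟨x, rfl⟩ := hψs g
        rw [← map_mul, ← map_mul, Subgroup.mem_center_iff.mp hy.1 x],
      by rw [← map_mul, hy.2, map_one]⟩
    have hzn : z ≠ 1 := fun h => hφz1 (by rw [h, map_one])
    have hsφ : φ (ψ s) = 1 :=
      hcomm1 _ (Subgroup.map_commutator (⊤ : Subgroup Y) ⊤ ψ ▸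
        Subgroup.commutator_mono le_top le_top |>.trans' le_rfl <| Subgroup.mem_map_of_mem ψ hsC.1)
    have heq : ψ z = ψ s := huniq _ _ (hψO z ⟨hzc, hz2⟩) (hψO s hsO) hker hsφ
      (fun h => hzn (hψi (h.trans (map_one ψ).symm))) (fun h => hsn (hψi (h.trans (map_one ψ).symm)))
    exact hφz1 (by rw [hψi heq]; exact hcomm1 s hsC.1)
  · set V := MonoidHom.transfer φ
    set N := Nat.card Fˣ
    set m := ordCompl[2] N
    let Apow : Subgroup Fˣ := (powMonoidHom (2 ^ N.factorization 2) : Fˣ →* Fˣ).ker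
    have hmem : ∀ x : Fˣ, x ^ m ∈ Apow := fun x => by
      simp only [Apow, MonoidHom.mem_ker, powMonoidHom_apply]
      rw [← pow_mul, mul_comm, Nat.ordProj_mul_ordCompl_eq_self]
      exact pow_card_eq_one'
    let g : G →* Apow := ((powMonoidHom m : Fˣ →* Fˣ).comp V).codRestrict Apow fun x => hmem _
    have hApow : IsPGroup 2 Apow := fun x =>
      ⟨N.factorization 2, Subtype.ext (MonoidHom.mem_ker.mp x.2)⟩
    have hmodd : Odd m := Nat.not_even_iff_odd.mp fun e =>
      Nat.not_dvd_ordCompl Nat.prime_two (Nat.card_pos.ne') (even_iff_two_dvd.mp e)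
    have hg : g ≠ 1 := by
      intro h
      have h' : V (z : G) ^ m = 1 := congrArg Subtype.val (DFunLike.congr_fun h (z : G))
      have hV2 : V (z : G) * V z = 1 := by rw [← map_mul, hzG, map_one]
      obtain ⟨k, hk⟩ := hmodd
      rw [hk, pow_succ, pow_mul, pow_two, hV2, one_pow, one_mul] at h'
      exact htr h'
    obtain ⟨M, hM⟩ := Transfer.exists_index_of_hom_isPGroup hApow g hg
    exact hG M hM

end Cfsg.Agent.S1906
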