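import Cfsg.Statements.S1907
import Cfsg.Agent.Lib.Transfer.SylowCore
import Cfsg.Agent.Lib.Transfer.Sylow
import Cfsg.Agent.Lib.PSolvable.Core

set_option autoImplicit false
open Cfsg CfsgLib

namespace Cfsg.Agent.S1907

theorem exists_mul_of_mem_sup' {G : Type*} [Group G] {H N : Subgroup G}
    (h : H ≤ Subgroup.normalizer (N : Set G)) {x : G}
    (hx : x ∈ H ⊔ N) : ∃ a ∈ H, ∃ b ∈ N, a * b = x := by
  rw [← SetLike.mem_coe, Subgroup.coe_mul_of_left_le_normalizer_right H N h] at hx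
  exact hx

/-- Let P be a Sylow p-subgroup of a finite group G, H = P ∩ O_{p',p}(G), N = N_G(H) and D = O_{p'}(G). (a) If y is an element of p-power order of N and d ∈ D with d⁻¹ y d ∈ N, then d = d₁ d₂ with d₁ ∈ C_D(y) and d₂ ∈ C_D(H). (b) Two elements of P that are conjugate in G are conjugate in N. -/
theorem result {G : Type*} [Group G] [Finite G] {p : ℕ} [Fact p.Prime] (P : Sylow p G) :
    (∀ y ∈ Subgroup.normalizer (((P : Subgroup G) ⊓ Cfsg.pPrimePCore p G : Subgroup G) : Set G), (∃ k : ℕ, orderOf y = p ^ k) →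
      ∀ d ∈ Cfsg.pPrimeCore p G, d⁻¹ * y * d ∈ Subgroup.normalizer (((P : Subgroup G) ⊓ Cfsg.pPrimePCore p G : Subgroup G) : Set G) →
        ∃ d₁ ∈ Cfsg.pPrimeCore p G ⊓ Subgroup.centralizer ({y} : Set G),
          ∃ d₂ ∈ Cfsg.pPrimeCore p G ⊓ Subgroup.centralizer (((P : Subgroup G) ⊓ Cfsg.pPrimePCore p G : Subgroup G) : Set G), d = d₁ * d₂) ∧
    ∀ x y : G, x ∈ (P : Subgroup G) → y ∈ (P : Subgroup G) → IsConj x y →
      ∃ n ∈ Subgroup.normalizer (((P : Subgroup G) ⊓ Cfsg.pPrimePCore p G : Subgroup G) : Set G), n * x * n⁻¹ = y := by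
  set R := (P : Subgroup G) ⊓ Cfsg.pPrimePCore p G with hR
  set N := Subgroup.normalizer (R : Set G) with hN
  set D := Cfsg.pPrimeCore p G with hD
  haveI := Transfer.pPrimeCore_normal p G
  have hDc : (Nat.card D).Coprime p := Transfer.pPrimeCore_coprime p
  have hC0 : ∀ c ∈ D ⊓ N, c ∈ Subgroup.centralizer (R : Set G) := by
    intro c hc r hr
    have h1 : r * c * r⁻¹ * c⁻¹ = 1 := by
      refine PSolvable.eq_one_of_mem_of_mem (P.2.to_le (inf_le_left : R ≤ _)) hDc ?_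
        (D.mul_mem (Subgroup.Normal.conj_mem inferInstance _ hc.1 r) (D.inv_mem hc.1))
      rw [show r * c * r⁻¹ * c⁻¹ = r * (c * r⁻¹ * c⁻¹) by group]
      exact R.mul_mem hr ((Subgroup.mem_normalizer_iff.mp hc.2 _).mp (R.inv_mem hr))
    exact mul_inv_eq_iff_eq_mul.mp (mul_inv_eq_one.mp h1)
  have part1 : ∀ y ∈ N, (∃ k : ℕ, orderOf y = p ^ k) → ∀ d ∈ D, d⁻¹ * y * d ∈ N →
      ∃ d₁ ∈ D ⊓ Subgroup.centralizer ({y} : Set G),
        ∃ d₂ ∈ D ⊓ Subgroup.centralizer (R : Set G), d = d₁ * d₂ := by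
    intro y hy hyp d hd hyd
    set C0 := D ⊓ N with hC0def
    set Y := Subgroup.zpowers y with hY
    have hYC : Y ≤ Subgroup.normalizer (C0 : Set G) := Subgroup.zpowers_le.mpr
      (Coprime.le_normalizer_inf_of_le Subgroup.le_normalizer_of_normal Subgroup.le_normalizer hy)
    set U := Y ⊔ C0 with hU
    have hYp : IsPGroup p Y := Transfer.isPGroup_zpowers hyp
    have hidx : ¬ p ∣ (Y.subgroupOf U).index := by
      intro h
      have h1 : Y.relIndex U * C0.relIndex Y ∣ Nat.card C0 * C0.relIndex Y := by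
        have e1 := Subgroup.relIndex_mul_relIndex (⊥ : Subgroup G) Y U bot_le le_sup_left
        have e2 := Subgroup.relIndex_mul_relIndex (⊥ : Subgroup G) C0 U bot_le le_sup_right
        rw [Subgroup.relIndex_bot_left] at e1 e2
        rw [hU, sup_comm Y C0, Coprime.relIndex_sup_of_le_normalizer hYC, sup_comm C0 Y, ← hU] at e2
        have e3 : C0.relIndex Y = Nat.card Y := by
          rw [← Subgroup.inf_relIndex_right, Coprime.inf_eq_bot_of_coprime_card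
            (PSolvable.coprime_card_of_isPGroup hYp
              (hDc.coprime_dvd_left (Subgroup.card_dvd_of_le inf_le_left))).symm,
            Subgroup.relIndex_bot_left]
        rw [e3] at e2 ⊢
        rw [mul_comm (Y.relIndex U), e1, e2]
      refine ((Fact.out : p.Prime).coprime_iff_not_dvd.mp
        (hDc.coprime_dvd_left (Subgroup.card_dvd_of_le (inf_le_left : C0 ≤ D))).symm) (h.trans ?_)
      exact Nat.dvd_of_mul_dvd_mul_right (Nat.pos_of_ne_zero Subgroup.index_ne_zero_of_finite) h1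
    have hy' : d⁻¹ * y * d ∈ U := by
      have h1 : y⁻¹ * (d⁻¹ * y * d) ∈ C0 := by
        refine ⟨?_, N.mul_mem (N.inv_mem hy) hyd⟩
        rw [show y⁻¹ * (d⁻¹ * y * d) = y⁻¹ * d⁻¹ * y * d by group]
        exact D.mul_mem (Subgroup.Normal.conj_mem' inferInstance _ (D.inv_mem hd) y) hd
      simpa using U.mul_mem (Subgroup.mem_sup_left (Subgroup.mem_zpowers y))
        (Subgroup.mem_sup_right h1 : y⁻¹ * (d⁻¹ * y * d) ∈ U)
    have hp' : IsPGroup p (Subgroup.zpowers (⟨d⁻¹ * y * d, hy'⟩ : U)) := by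
      refine Transfer.isPGroup_zpowers ?_
      obtain ⟨k, hk⟩ := hyp
      refine ⟨k, ?_⟩
      rw [← Subgroup.orderOf_coe]
      have := Transfer.orderOf_conj d⁻¹ y
      rw [inv_inv] at this
      exact this.trans hk
    obtain ⟨u, hu⟩ := Transfer.exists_map_conj_le_sylow hp'
      ((hYp.comap_of_injective U.subtype U.subtype_injective).toSylow hidx)
    have hu' : (u : G) * (d⁻¹ * y * d) * (u : G)⁻¹ ∈ Y :=
      hu (Subgroup.mem_map_of_mem _ (Subgroup.mem_zpowers _))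
    obtain ⟨a, ha, c, hc, e⟩ := exists_mul_of_mem_sup' hYC u.2
    rw [← e] at hu'
    have hcy : c * (d⁻¹ * y * d) * c⁻¹ ∈ Y := by
      have := Y.mul_mem (Y.mul_mem (Y.inv_mem ha) hu') ha
      rwa [show a⁻¹ * (a * c * (d⁻¹ * y * d) * (a * c)⁻¹) * a = c * (d⁻¹ * y * d) * c⁻¹ by group]
        at this
    have h2 : c * (d⁻¹ * y * d) * c⁻¹ * y⁻¹ = 1 := by
      refine PSolvable.eq_one_of_mem_of_mem hYp hDc (Y.mul_mem hcy (Y.inv_mem (Subgroup.mem_zpowers y))) ?_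
      rw [show c * (d⁻¹ * y * d) * c⁻¹ * y⁻¹ = c * d⁻¹ * (y * (d * c⁻¹) * y⁻¹) by group]
      exact D.mul_mem (D.mul_mem hc.1 (D.inv_mem hd))
        (Subgroup.Normal.conj_mem inferInstance _ (D.mul_mem hd (D.inv_mem hc.1)) y)
    refine ⟨d * c⁻¹, ⟨D.mul_mem hd (D.inv_mem hc.1), Subgroup.mem_centralizer_singleton_iff.mpr ?_⟩,
      c, ⟨hc.1, hC0 c hc⟩, by group⟩
    have h3 := mul_inv_eq_one.mp h2
    calc d * c⁻¹ * y = d * c⁻¹ * (c * (d⁻¹ * y * d) * c⁻¹) := by rw [h3]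
      _ = y * (d * c⁻¹) := by group
  refine ⟨part1, fun x y hx hy hxy => ?_⟩
  obtain ⟨g, hg⟩ := isConj_iff.mp hxy
  obtain ⟨d, hd, n, hn, rfl⟩ := Transfer.exists_normalizer_mul P g
  have hPN : (P : Subgroup G) ≤ N := Transfer.sylow_le_normalizer_inf P
  have e : d⁻¹ * y * d = n * x * n⁻¹ := by rw [← hg]; group
  obtain ⟨k, hk⟩ := IsPGroup.iff_orderOf.mp P.2 ⟨y, hy⟩
  rw [← Subgroup.orderOf_coe] at hk
  obtain ⟨d₁, hd₁, d₂, hd₂, rfl⟩ := part1 y (hPN hy) ⟨k, hk⟩ d hd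
    (e ▸ N.mul_mem (N.mul_mem hn (hPN hx)) (N.inv_mem hn))
  refine ⟨d₂ * n, N.mul_mem (Subgroup.centralizer_le_normalizer _ hd₂.2) hn, ?_⟩
  have h1 := Subgroup.mem_centralizer_singleton_iff.mp hd₁.2
  calc d₂ * n * x * (d₂ * n)⁻¹ = d₁⁻¹ * (d₁ * d₂ * n * x * (d₁ * d₂ * n)⁻¹) * d₁ := by group
    _ = d₁⁻¹ * (y * d₁) := by rw [hg]; group
    _ = y := by rw [← h1]; group

end Cfsg.Agent.S1907
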