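import Cfsg.Statements.S1910
import Cfsg.Agent.Lib.TightlyEmbedded.Basic

set_option autoImplicit false
open Cfsg CfsgLib.Transfer CfsgLib.TightlyEmbedded
set_option linter.style.haveILetI false

namespace Cfsg.Agent.S1910

/-- Let Q be a tightly embedded subgroup of a finite group G, g an element outside N_G(Q), T a nontrivial Sylow 2-subgroup of Q^g ∩ N_G(Q), and S a Sylow 2-subgroup of QT containing T. Then T ∩ Q = 1, and N_S(T) is the direct product of T and N_S(T) ∩ Q, with N_S(T) ∩ Q isomorphic to T. -/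
theorem result {G : Type*} [Group G] [Finite G] (Q : Subgroup G) (hQ : Cfsg.IsTightlyEmbedded Q)
    (g : G) (hg : g ∉ Subgroup.normalizer (Q : Set G))
    (T : Subgroup G) (hT1 : T ≠ ⊥) (hT : T ≤ Q.map (MulAut.conj g).toMonoidHom ⊓ Subgroup.normalizer (Q : Set G))
    (hTsyl : IsPGroup 2 T ∧ ¬ 2 ∣ T.relIndex (Q.map (MulAut.conj g).toMonoidHom ⊓ Subgroup.normalizer (Q : Set G)))
    (S : Subgroup G) (hTS : T ≤ S) (hS : S ≤ Q ⊔ T) (hSsyl : IsPGroup 2 S ∧ ¬ 2 ∣ S.relIndex (Q ⊔ T)) :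
    T ⊓ Q = ⊥ ∧
      T ⊓ (S ⊓ Subgroup.normalizer (T : Set G) ⊓ Q) = ⊥ ∧
      ⁅T, S ⊓ Subgroup.normalizer (T : Set G) ⊓ Q⁆ = ⊥ ∧
      T ⊔ (S ⊓ Subgroup.normalizer (T : Set G) ⊓ Q) = S ⊓ Subgroup.normalizer (T : Set G) ∧
      Nonempty (↥(S ⊓ Subgroup.normalizer (T : Set G) ⊓ Q) ≃* T) := by
  haveI : Fact (Nat.Prime 2) := ⟨Nat.prime_two⟩
  set Qg := Q.map (MulAut.conj g).toMonoidHom with hQg
  set R := S ⊓ Subgroup.normalizer (T : Set G) ⊓ Q with hR
  obtain ⟨hT2, hTi⟩ := hTsyl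
  obtain ⟨hS2, hSi⟩ := hSsyl
  have hTg : T ≤ Qg := hT.trans inf_le_left
  have hTN : T ≤ Subgroup.normalizer (Q : Set G) := hT.trans inf_le_right
  have hodd : Odd (Nat.card ↥(Q ⊓ Qg)) := hQ.2 g hg
  have hTQ : T ⊓ Q = ⊥ :=
    eq_bot_of_isPGroup_of_odd (hT2.to_le inf_le_left) (le_inf inf_le_right (inf_le_left.trans hTg)) hodd
  have hRQ : R ≤ Q := inf_le_right
  have hRS : R ≤ S := inf_le_left.trans inf_le_left
  have hRN : R ≤ Subgroup.normalizer (T : Set G) := inf_le_left.trans inf_le_right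
  have hTR : T ⊓ R = ⊥ := le_bot_iff.mp ((inf_le_inf_left T hRQ).trans hTQ.le)
  have hcomm : ∀ t ∈ T, ∀ r ∈ R, Commute t r := by
    intro t ht r hr
    have h1 : t * r * t⁻¹ * r⁻¹ ∈ T ⊓ Q := by
      refine ⟨?_, Q.mul_mem ((Subgroup.mem_normalizer_iff.mp (hTN ht) r).mp (hRQ hr))
        (Q.inv_mem (hRQ hr))⟩
      have h2 := (Subgroup.mem_normalizer_iff.mp (hRN hr) t⁻¹).mp (T.inv_mem ht)
      have h3 := T.mul_mem ht h2
      simp only [← mul_assoc] at h3
      exact h3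
    rw [hTQ, Subgroup.mem_bot, mul_inv_eq_one, mul_inv_eq_iff_eq_mul] at h1
    exact h1
  have hsup : T ⊔ R = S ⊓ Subgroup.normalizer (T : Set G) := by
    refine le_antisymm (sup_le (le_inf hTS Subgroup.le_normalizer) inf_le_left) fun s hs => ?_
    have h1 : s ∈ ((Q ⊔ T : Subgroup G) : Set G) := hS hs.1
    rw [Subgroup.coe_mul_of_right_le_normalizer_left _ _ hTN] at h1
    obtain ⟨q, hq, t, ht, rfl⟩ := h1
    have hts : t ∈ S ⊓ Subgroup.normalizer (T : Set G) := ⟨hTS ht, Subgroup.le_normalizer ht⟩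
    have hqs : q ∈ R := ⟨by simpa using mul_mem hs (inv_mem hts), hq⟩
    exact mul_mem (Subgroup.mem_sup_right hqs) (Subgroup.mem_sup_left ht)
  refine ⟨hTQ, hTR, ?_, hsup, ?_⟩
  · rw [eq_bot_iff, Subgroup.commutator_le]
    intro t ht r hr
    rw [Subgroup.mem_bot, commutatorElement_eq_one_iff_commute]
    exact hcomm t ht r hr
  -- the isomorphism
  have hTQg : Cfsg.IsTightlyEmbedded Qg := conj hQ g
  have hRNg : R ≤ Subgroup.normalizer (Qg : Set G) := fun r hr =>
    mem_normalizer_of_le hTQg hT2 hT1 (le_inf hTg (by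
      rw [← map_conj_eq_self_iff.mpr (hRN hr)]; exact Subgroup.map_mono hTg))
  have hQTN : Q ⊔ T ≤ Subgroup.normalizer (Q : Set G) := sup_le Subgroup.le_normalizer hTN
  have hSQi : ¬ 2 ∣ (S ⊓ Q).relIndex Q := not_dvd_relIndex_inf le_sup_left hQTN hSi
  have hSQ2 : IsPGroup 2 ↥(S ⊓ Q) := hS2.to_le inf_le_left
  have hRT : R ⊔ T ≤ S := sup_le hRS hTS
  obtain ⟨W, hRTW, hWK, hW2, hWi⟩ := exists_sylow_between
    (sup_le le_sup_right (hTg.trans le_sup_left) : R ⊔ T ≤ Qg ⊔ R) (hS2.to_le hRT)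
  have hVi : ¬ 2 ∣ (W ⊓ Qg).relIndex Qg :=
    not_dvd_relIndex_inf le_sup_left (sup_le Subgroup.le_normalizer hRNg) hWi
  have hV2 : IsPGroup 2 ↥(W ⊓ Qg) := hW2.to_le inf_le_left
  obtain ⟨eV⟩ : Nonempty (↥(S ⊓ Q) ≃* ↥(W ⊓ Qg)) := by
    have h1 : (S ⊓ Q).map (MulAut.conj g).toMonoidHom ≤ Qg := Subgroup.map_mono inf_le_right
    obtain ⟨e⟩ := nonempty_mulEquiv_of_sylow h1 inf_le_right (hSQ2.map _) hV2
      (by rw [Subgroup.relIndex_map_map_of_injective _ _ (MulAut.conj g).injective]; exact hSQi) hVi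
    exact ⟨((S ⊓ Q).equivMapOfInjective _ (MulAut.conj g).injective).trans e⟩
  have hTV : T ≤ W ⊓ Qg := le_inf (le_sup_right.trans hRTW) hTg
  have hTI : (R ⊔ T) ⊓ Qg ≤ T := by
    intro y hy
    have h1 : y ∈ ((R ⊔ T : Subgroup G) : Set G) := hy.1
    rw [Subgroup.coe_mul_of_left_le_normalizer_right _ _ hRN] at h1
    obtain ⟨r, hr, t, ht, rfl⟩ := h1
    have hr' : r ∈ R ⊓ (Q ⊓ Qg) := ⟨hr, hRQ hr, by simpa using Qg.mul_mem hy.2 (Qg.inv_mem (hTg ht))⟩
    rw [eq_bot_of_isPGroup_of_odd (hS2.to_le (inf_le_left.trans hRS)) inf_le_right hodd,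
      Subgroup.mem_bot] at hr'
    simpa [hr'] using ht
  have caseS : (∃ f : T →* R, Function.Injective f) ∨ S ⊓ Q = R := by
    rcases eq_or_lt_of_le hRT with h | h
    · refine Or.inr (le_antisymm (le_inf (le_inf inf_le_left ?_) inf_le_right) (le_inf hRS hRQ))
      refine inf_le_left.trans (h.symm.le.trans ?_)
      exact sup_le hRN Subgroup.le_normalizer
    · obtain ⟨x, ⟨hxS, hxN⟩, hxRT⟩ := SetLike.exists_of_lt (lt_inf_normalizer hS2 h)
      have hxT : x ∉ Subgroup.normalizer (T : Set G) := fun hc => hxRT (by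
        rw [sup_comm, hsup]; exact ⟨hxS, hc⟩)
      have hle : T.map (MulAut.conj x).toMonoidHom ≤ R ⊔ T :=
        (Subgroup.map_mono le_sup_right).trans (map_conj_eq_self_iff.mpr hxN).le
      have hdis : T.map (MulAut.conj x).toMonoidHom ⊓ T = ⊥ := by
        by_contra hne
        have hxQ := mem_normalizer_of_le hTQg (hT2.to_le inf_le_right) hne
          (le_inf (inf_le_right.trans hTg) (inf_le_left.trans (Subgroup.map_mono hTg)))
        have h2 : T.map (MulAut.conj x).toMonoidHom ≤ T := (le_inf hle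
          ((Subgroup.map_mono hTg).trans (map_conj_eq_self_iff.mpr hxQ).le)).trans hTI
        exact hxT (map_conj_eq_self_iff.mp
          (Subgroup.eq_of_le_of_card_ge h2 (by rw [card_conj_map])))
      obtain ⟨f, hf⟩ := exists_injective_hom hcomm hTR (by rwa [sup_comm]) hdis
      exact Or.inl ⟨f.comp (T.equivMapOfInjective _ (MulAut.conj x).injective).toMonoidHom,
        hf.comp (MulEquiv.injective _)⟩
  have caseV : (∃ f : R →* T, Function.Injective f) ∨ W ⊓ Qg = T := by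
    rcases eq_or_lt_of_le hRTW with h | h
    · exact Or.inr (le_antisymm (by rw [← h]; exact hTI) hTV)
    · obtain ⟨w, ⟨hwW, hwN⟩, hwRT⟩ := SetLike.exists_of_lt (lt_inf_normalizer hW2 h)
      have h1 : w ∈ ((Qg ⊔ R : Subgroup G) : Set G) := hWK hwW
      rw [Subgroup.coe_mul_of_right_le_normalizer_left _ _ hRNg] at h1
      obtain ⟨v, hv, r, hr, rfl⟩ := h1
      have hrW : r ∈ W := hRTW (Subgroup.mem_sup_left hr)
      have hvW : v ∈ W := by simpa using W.mul_mem hwW (W.inv_mem hrW)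
      have hrN : r ∈ Subgroup.normalizer ((R ⊔ T : Subgroup G) : Set G) :=
        Subgroup.le_normalizer (Subgroup.mem_sup_left hr)
      have hvN : v ∈ Subgroup.normalizer ((R ⊔ T : Subgroup G) : Set G) := by
        simpa using (Subgroup.normalizer ((R ⊔ T : Subgroup G) : Set G)).mul_mem hwN (Subgroup.inv_mem _ hrN)
      have hvT : v ∉ T := fun hc =>
        hwRT (mul_mem (Subgroup.mem_sup_right hc) (Subgroup.mem_sup_left hr))
      have hvQ : v ∉ Subgroup.normalizer (Q : Set G) := by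
        intro hc
        have hle : T ⊔ Subgroup.zpowers v ≤ Qg ⊓ Subgroup.normalizer (Q : Set G) :=
          sup_le hT (Subgroup.zpowers_le.mpr ⟨hv, hc⟩)
        have h2 := le_of_not_dvd_relIndex le_sup_left hle
          (hW2.to_le (sup_le (hTV.trans inf_le_left) (Subgroup.zpowers_le.mpr hvW))) hTi
        exact hvT (h2 (Subgroup.mem_sup_right (Subgroup.mem_zpowers v)))
      have hdis : R.map (MulAut.conj v).toMonoidHom ⊓ R = ⊥ := by
        by_contra hne
        exact hvQ (mem_normalizer_of_le hQ ((hS2.to_le hRS).to_le inf_le_right) hne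
          (le_inf (inf_le_right.trans hRQ) (inf_le_left.trans (Subgroup.map_mono hRQ))))
      obtain ⟨f, hf⟩ := exists_injective_hom (fun a ha b hb => (hcomm b hb a ha).symm)
        (by rwa [inf_comm]) ((Subgroup.map_mono le_sup_left).trans (map_conj_eq_self_iff.mpr hvN).le)
        hdis
      exact Or.inl ⟨f.comp (R.equivMapOfInjective _ (MulAut.conj v).injective).toMonoidHom,
        hf.comp (MulEquiv.injective _)⟩
  have hcard := Nat.card_congr eV.toEquiv
  have hcR : Nat.card R ≤ Nat.card ↥(S ⊓ Q) :=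
    Nat.card_le_card_of_injective _ (Subgroup.inclusion_injective (le_inf hRS hRQ))
  have hcT : Nat.card T ≤ Nat.card ↥(W ⊓ Qg) :=
    Nat.card_le_card_of_injective _ (Subgroup.inclusion_injective hTV)
  rcases caseV with ⟨f, hf⟩ | hV
  · refine ⟨MulEquiv.ofBijective f ((Nat.bijective_iff_injective_and_card f).mpr ⟨hf, ?_⟩)⟩
    refine le_antisymm (Nat.card_le_card_of_injective f hf) ?_
    rcases caseS with ⟨f', hf'⟩ | hR'
    · exact Nat.card_le_card_of_injective f' hf'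
    · rw [hR'] at hcard; omega
  · rcases caseS with ⟨f', hf'⟩ | hR'
    · refine ⟨(MulEquiv.ofBijective f' ((Nat.bijective_iff_injective_and_card f').mpr ⟨hf', ?_⟩)).symm⟩
      refine le_antisymm (Nat.card_le_card_of_injective f' hf') ?_
      rw [hV] at hcard; omega
    · exact ⟨(MulEquiv.subgroupCongr hR'.symm).trans (eV.trans (MulEquiv.subgroupCongr hV))⟩

end Cfsg.Agent.S1910
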