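import Cfsg.Statements.S1914
import Cfsg.Agent.Lib.FixedFour.Main
import Cfsg.Agent.Lib.Layer.Basic

set_option autoImplicit false
open Cfsg

namespace Cfsg.Agent.S1914

/-- Let A be a semisimple subgroup (a central product of quasisimple groups, A = E(A)) of a finite group and t an involution normalizing A such that the Sylow 2-subgroups of C_A(t) are cyclic of order 4. Then A has 2-rank exactly 1. -/
theorem result {G : Type*} [Group G] [Finite G] (A : Subgroup G) (hA : Cfsg.layer ↥A = ⊤)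
    (t : G) (ht : orderOf t = 2) (htA : t ∈ Subgroup.normalizer (A : Set G))
    (hC : ∀ R : Sylow 2 ↥(A ⊓ Subgroup.centralizer ({t} : Set G)), IsCyclic R ∧ Nat.card R = 4) :
    Cfsg.PRankLE 2 1 A ∧ ¬ Cfsg.PRankLE 2 0 A := by
  classical
  haveI : Fact (Nat.Prime 2) := ⟨Nat.prime_two⟩
  have hperf : ⁅A, A⁆ = A := by
    have h := CfsgLib.Layer.commutator_layer_self (G := ↥A)
    rw [hA] at h
    have h' := congrArg (Subgroup.map A.subtype) h
    rwa [Subgroup.map_commutator, ← MonoidHom.range_eq_map, Subgroup.range_subtype] at h'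
  have htt : t * t = 1 := by rw [← pow_two, ← ht]; exact pow_orderOf_eq_one t
  have ht1 : t ≠ 1 := fun e => by rw [e, orderOf_one] at ht; omega
  let C := A ⊓ Subgroup.centralizer ({t} : Set G)
  have hin : ∀ (Q : Subgroup G), IsPGroup 2 Q → Q ≤ C → IsCyclic Q ∧ Nat.card Q ≤ 4 := by
    intro Q hQ hQC
    obtain ⟨R, hR⟩ := IsPGroup.exists_le_sylow (P := Q.subgroupOf C)
      (hQ.of_equiv (Subgroup.subgroupOfEquivOfLe hQC).symm)
    haveI := (hC R).1
    haveI : IsCyclic ↥(Q.subgroupOf C) :=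
      isCyclic_of_injective (Subgroup.inclusion hR) (Subgroup.inclusion_injective hR)
    refine ⟨isCyclic_of_surjective (Subgroup.subgroupOfEquivOfLe hQC)
      (Subgroup.subgroupOfEquivOfLe hQC).surjective, ?_⟩
    rw [← Nat.card_congr (Subgroup.subgroupOfEquivOfLe hQC).toEquiv, ← (hC R).2]
    exact Subgroup.card_le_of_le hR
  obtain ⟨R⟩ := (inferInstance : Nonempty (Sylow 2 ↥C))
  obtain ⟨hRc, hR4⟩ := hC R
  obtain ⟨r, hr⟩ := hRc.exists_ofOrder_eq_natCard
  rw [hR4, ← Subgroup.orderOf_coe, ← Subgroup.orderOf_coe] at hr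
  have hx : ((r : ↥C) : G) ∈ A ∧ t * ((r : ↥C) : G) = ((r : ↥C) : G) * t :=
    ⟨(r : ↥C).2.1, (Subgroup.mem_centralizer_singleton_iff.mp (r : ↥C).2.2).symm⟩
  generalize ((r : ↥C) : G) = x at hr hx
  have hx4 : x * x * (x * x) = 1 := by
    rw [show x * x * (x * x) = x ^ 4 by simp [pow_succ, mul_assoc], ← hr, pow_orderOf_eq_one]
  have hx2 : x * x ≠ 1 := fun e => by
    have := orderOf_le_of_pow_eq_one two_pos ((pow_two x).trans e)
    omega
  refine ⟨CfsgLib.FixedFour.prankLE_one A hperf t htt ht1 htA ?_ ?_ hx.1 hx.2 hx2 hx4, fun h0 => ?_⟩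
  · intro a ha b hb ha2 hb2 ha1 hb1 hta htb hab
    let K := Subgroup.closure ({a, b} : Set G)
    haveI : IsMulCommutative K := Subgroup.isMulCommutative_closure (by
      rintro u (rfl | rfl) v (rfl | rfl)
      · rfl
      · exact hab
      · exact hab.symm
      · rfl)
    have hK2 : IsPGroup 2 K := by
      refine fun ⟨y, hy⟩ => ⟨1, Subtype.ext ?_⟩
      show y ^ 2 ^ 1 = 1
      induction hy using Subgroup.closure_induction with
      | mem y hy => rcases hy with rfl | rfl <;> simp [pow_two, ha2, hb2]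
      | one => exact one_pow _
      | mul u v hu hv iu iv =>
        have huv : Commute u v := congrArg Subtype.val (mul_comm' (⟨u, hu⟩ : K) ⟨v, hv⟩)
        rw [huv.mul_pow, iu, iv, mul_one]
      | inv u _ iu => rw [inv_pow, iu, inv_one]
    have hKC : K ≤ C := (Subgroup.closure_le _).mpr (by
      rintro u (rfl | rfl)
      · exact ⟨ha, Subgroup.mem_centralizer_singleton_iff.mpr hta.symm⟩
      · exact ⟨hb, Subgroup.mem_centralizer_singleton_iff.mpr htb.symm⟩)
    haveI := (hin K hK2 hKC).1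
    obtain ⟨e₀, he₀⟩ := IsCyclic.exists_generator (α := ↥K)
    have hmem : ∀ u ∈ K, u ∈ Subgroup.zpowers (e₀ : G) := fun u hu => by
      obtain ⟨i, hi⟩ := Subgroup.mem_zpowers_iff.mp (he₀ ⟨u, hu⟩)
      exact Subgroup.mem_zpowers_iff.mpr ⟨i, congrArg Subtype.val hi⟩
    exact CfsgLib.FixedFour.Four.invol_zpowers (hmem a (Subgroup.subset_closure (by simp)))
      (hmem b (Subgroup.subset_closure (by simp))) ha2 hb2 ha1 hb1
  · intro Q hQ hQA hQt
    exact (hin Q hQ fun q hq => ⟨hQA hq, Subgroup.mem_centralizer_singleton_iff.mpr (hQt q hq).symm⟩).2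
  · haveI : IsMulCommutative (Subgroup.zpowers (⟨x * x, mul_mem hx.1 hx.1⟩ : A)) := inferInstance
    have h1 := h0 (Subgroup.zpowers (⟨x * x, mul_mem hx.1 hx.1⟩ : A)) inferInstance fun q hq => by
      obtain ⟨i, rfl⟩ := Subgroup.mem_zpowers_iff.mp hq
      rw [← zpow_natCast, ← zpow_mul, mul_comm i, zpow_mul, zpow_natCast, pow_two,
        show (⟨x * x, mul_mem hx.1 hx.1⟩ : A) * ⟨x * x, mul_mem hx.1 hx.1⟩ = 1 from Subtype.ext hx4, one_zpow]
    rw [Nat.card_zpowers, Subgroup.orderOf_mk, pow_zero] at h1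
    have := orderOf_pos (x * x)
    exact hx2 (orderOf_eq_one_iff.mp (by omega))

end Cfsg.Agent.S1914
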