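import Cfsg.Statements.S1915
import Cfsg.Agent.Lib.FourRankOne.Main
import Cfsg.Agent.Lib.Layer.Basic

set_option autoImplicit false
open Cfsg

namespace Cfsg.Agent.S1915

/-- Let A be a semisimple subgroup (A = E(A)) of a finite group and U a Klein four-group normalizing A. If the subgroup of A generated by the normalizers N_A(V) of the nontrivial subgroups V of U has 2-rank exactly 1, then A has 2-rank exactly 1. -/
theorem result {G : Type*} [Group G] [Finite G] (A : Subgroup G) (hA : Cfsg.layer ↥A = ⊤)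
    (U : Subgroup G) (hU : IsKleinFour U) (hUA : U ≤ Subgroup.normalizer (A : Set G))
    (hΓ : Cfsg.PRankLE 2 1 ↥(⨆ V : {V : Subgroup G // V ≤ U ∧ V ≠ ⊥}, A ⊓ Subgroup.normalizer ((V : Subgroup G) : Set G)) ∧
      ¬ Cfsg.PRankLE 2 0 ↥(⨆ V : {V : Subgroup G // V ≤ U ∧ V ≠ ⊥}, A ⊓ Subgroup.normalizer ((V : Subgroup G) : Set G))) :
    Cfsg.PRankLE 2 1 A ∧ ¬ Cfsg.PRankLE 2 0 A := by
  have hperf : ⁅A, A⁆ = A := by
    have h := CfsgLib.Layer.commutator_layer_self (G := ↥A)
    rw [hA] at h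
    have h' := congrArg (Subgroup.map A.subtype) h
    rwa [Subgroup.map_commutator, ← MonoidHom.range_eq_map, Subgroup.range_subtype] at h'
  refine ⟨CfsgLib.FourRankOne.prankLE_one A U hperf hU hUA hΓ.1, fun h0 => hΓ.2 fun B hBc hB2 => ?_⟩
  have hle : (⨆ V : {V : Subgroup G // V ≤ U ∧ V ≠ ⊥}, A ⊓ Subgroup.normalizer ((V : Subgroup G) : Set G)) ≤ A :=
    iSup_le fun V => inf_le_left
  let f := Subgroup.inclusion hle
  haveI := hBc
  have h := h0 (B.map f) (Subgroup.map_isMulCommutative B f) fun a ha => by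
    obtain ⟨b, hb, rfl⟩ := Subgroup.mem_map.mp ha
    rw [← map_pow, hB2 b hb, map_one]
  rwa [Nat.card_congr (B.equivMapOfInjective f (Subgroup.inclusion_injective hle)).toEquiv]

end Cfsg.Agent.S1915
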