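import Cfsg.Statements.S1921
import Cfsg.Agent.Lib.Layer.Basic

set_option autoImplicit false
open Cfsg

namespace Cfsg.Agent.S1921

/-- Let a be an involution of a finite group H and L a component of H with a L a⁻¹ ≠ L; put M = ⟨L, aLa⁻¹⟩ and let J be the subgroup generated by the elements x · a x a⁻¹ with x ∈ L (the diagonal). Then every element of M outside J·Z(M) generates M together with J. -/
theorem result {H : Type*} [Group H] [Finite H] (a : H) (ha : orderOf a = 2) (L : Subgroup H) (hL : Cfsg.IsComponent L)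
    (hLa : L.map (MulAut.conj a).toMonoidHom ≠ L) (x : H) (hxM : x ∈ L ⊔ L.map (MulAut.conj a).toMonoidHom)
    (hxJ : x ∉ Subgroup.closure {y : H | ∃ l ∈ L, y = l * (a * l * a⁻¹)} ⊔
      ((L ⊔ L.map (MulAut.conj a).toMonoidHom) ⊓ Subgroup.centralizer ((L ⊔ L.map (MulAut.conj a).toMonoidHom : Subgroup H) : Set H))) :
    Subgroup.closure {y : H | ∃ l ∈ L, y = l * (a * l * a⁻¹)} ⊔ Subgroup.zpowers x = L ⊔ L.map (MulAut.conj a).toMonoidHom := by
  set La := L.map (MulAut.conj a).toMonoidHom with hLa'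
  set M := L ⊔ La with hM
  set J := Subgroup.closure {y : H | ∃ l ∈ L, y = l * (a * l * a⁻¹)} with hJ
  have hcomm := CfsgLib.Layer.commutator_eq_bot_of_ne (CfsgLib.Layer.isComponent_map_equiv (MulAut.conj a) hL) hL hLa
  have hc : ∀ b ∈ La, ∀ l ∈ L, l * b = b * l := fun b hb l hl =>
    Subgroup.mem_centralizer_iff.mp (Subgroup.commutator_eq_bot_iff_le_centralizer.mp hcomm hb) l hl
  have hmem : ∀ l ∈ L, a * l * a⁻¹ ∈ La := fun l hl => ⟨l, hl, rfl⟩
  have hJM : J ≤ M := by
    refine (Subgroup.closure_le _).mpr ?_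
    rintro _ ⟨l, hl, rfl⟩
    exact mul_mem (Subgroup.mem_sup_left hl) (Subgroup.mem_sup_right (hmem l hl))
  set U := J ⊔ Subgroup.zpowers x with hU
  refine le_antisymm (sup_le hJM (Subgroup.zpowers_le.mpr hxM)) ?_
  -- decompose `x`
  have hn : La ≤ Subgroup.normalizer (L : Set H) :=
    (Subgroup.commutator_eq_bot_iff_le_centralizer.mp hcomm).trans (Subgroup.centralizer_le_normalizer _)
  have hx' : x ∈ ((L ⊔ La : Subgroup H) : Set H) := hxM
  rw [Subgroup.coe_mul_of_right_le_normalizer_left L La hn, Set.mem_mul] at hx'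
  obtain ⟨l, hl, b, hb, hlb⟩ := hx'
  replace hl : l ∈ L := hl
  obtain ⟨m, hm, hmb⟩ := (hb : b ∈ La)
  replace hmb : a * m * a⁻¹ = b := hmb
  set d := m * (a * m * a⁻¹) with hd
  have hdJ : d ∈ J := Subgroup.subset_closure ⟨m, hm, rfl⟩
  set u := l * m⁻¹ with hu
  have huL : u ∈ L := mul_mem hl (inv_mem hm)
  have hxu : x = u * d := by rw [← hlb, ← hmb, hu, hd]; group
  have huU : u ∈ U := by
    rw [show u = x * d⁻¹ by rw [hxu]; group]
    exact mul_mem (Subgroup.mem_sup_right (Subgroup.mem_zpowers x)) (inv_mem (Subgroup.mem_sup_left hdJ))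
  haveI hnorm : (U.subgroupOf L).Normal := by
    refine ⟨fun n hn' g => Subgroup.mem_subgroupOf.mpr ?_⟩
    set e := (g : H) * (a * g * a⁻¹) with he
    have heU : e ∈ U := Subgroup.mem_sup_left (Subgroup.subset_closure ⟨g, g.2, rfl⟩)
    have h1 : e * n * e⁻¹ = (g : H) * n * (g : H)⁻¹ := by
      rw [he, mul_assoc (g : H) _ (n : H), ← hc _ (hmem g g.2) n n.2]; group
    show (g : H) * n * (g : H)⁻¹ ∈ U
    rw [← h1]
    exact mul_mem (mul_mem heU (Subgroup.mem_subgroupOf.mp hn')) (inv_mem heU)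
  have hLU : L ≤ U := by
    rcases CfsgLib.Layer.eq_top_or_le_center_of_normal hL.2 (U.subgroupOf L) with h | h
    · exact Subgroup.subgroupOf_eq_top.mp h
    exfalso
    refine hxJ (hxu ▸ mul_mem (Subgroup.mem_sup_right (Subgroup.mem_inf.mpr
      ⟨Subgroup.mem_sup_left huL, ?_⟩)) (Subgroup.mem_sup_left hdJ))
    have hcen := Subgroup.mem_center_iff.mp (h (x := ⟨u, huL⟩) (Subgroup.mem_subgroupOf.mpr huU))
    have hle : L ⊔ La ≤ Subgroup.centralizer ({u} : Set H) :=
      sup_le (fun w hw => Subgroup.mem_centralizer_singleton_iff.mpr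
          (congrArg Subtype.val (hcen ⟨w, hw⟩)))
        (fun w hw => Subgroup.mem_centralizer_singleton_iff.mpr (hc w hw u huL).symm)
    exact Subgroup.mem_centralizer_iff.mpr fun w hw =>
      Subgroup.mem_centralizer_singleton_iff.mp (hle hw)
  refine sup_le hLU ?_
  rintro _ ⟨k, hk, rfl⟩
  show a * k * a⁻¹ ∈ U
  rw [show a * k * a⁻¹ = k⁻¹ * (k * (a * k * a⁻¹)) by group]
  exact mul_mem (inv_mem (hLU hk)) (Subgroup.mem_sup_left (Subgroup.subset_closure ⟨k, hk, rfl⟩))

end Cfsg.Agent.S1921
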