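import Cfsg.Statements.S1922
import Mathlib
import Cfsg.Agent.Lib.Invol.Dihedral
import Cfsg.Agent.Lib.Transfer.Basic

set_option autoImplicit false
set_option linter.unusedSectionVars false
set_option linter.style.haveILetI false
open Cfsg

namespace Cfsg.Agent.S1922

open CfsgLib.Invol

section
variable {G : Type*} [Group G] [Finite G] {z : G} {H : Subgroup G}

theorem fix_iff (y x : G) :
    y • (x : G ⧸ H) = (x : G ⧸ H) ↔ y ∈ H.map (MulAut.conj x).toMonoidHom := by
  rw [MulAction.Quotient.smul_coe, smul_eq_mul, QuotientGroup.eq,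
    CfsgLib.Transfer.mem_conj_map_iff]
  rw [show (y * x)⁻¹ * x = (x⁻¹ * y * x)⁻¹ by group, inv_mem_iff]

theorem fix_conj (h0 : ∀ g : G, z ∈ H.map (MulAut.conj g).toMonoidHom ↔ g ∈ H) (g : G)
    (p : G ⧸ H) : (g * z * g⁻¹) • p = p ↔ p = g • ((1 : G) : G ⧸ H) := by
  rw [mul_smul, mul_smul, ← eq_inv_smul_iff]
  induction p using QuotientGroup.induction_on with
  | H x =>
    rw [MulAction.Quotient.smul_coe H g⁻¹, fix_iff, h0, MulAction.Quotient.smul_coe, smul_eq_mul,
      smul_eq_mul, mul_one, QuotientGroup.eq, ← inv_mem_iff, mul_inv_rev, inv_inv]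

theorem fix_z (h0 : ∀ g : G, z ∈ H.map (MulAut.conj g).toMonoidHom ↔ g ∈ H) (p : G ⧸ H) :
    z • p = p ↔ p = ((1 : G) : G ⧸ H) := by
  simpa using fix_conj h0 1 p

theorem mem_and_centralizer_le (h0 : ∀ g : G, z ∈ H.map (MulAut.conj g).toMonoidHom ↔ g ∈ H) :
    z ∈ H ∧ Subgroup.centralizer ({z} : Set G) ≤ H := by
  have hzH : z ∈ H := by
    have h := (h0 1).mpr (one_mem _)
    rwa [CfsgLib.Transfer.mem_conj_map_iff, inv_one, one_mul, mul_one] at h
  refine ⟨hzH, fun x hx => (h0 x).mp ?_⟩
  rw [CfsgLib.Transfer.mem_conj_map_iff, mul_assoc, ← Subgroup.mem_centralizer_singleton_iff.mp hx,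
    inv_mul_cancel_left]
  exact hzH

theorem odd_product (hz : orderOf z = 2)
    (h0 : ∀ g : G, z ∈ H.map (MulAut.conj g).toMonoidHom ↔ g ∈ H)
    (hA : ∀ t : G, IsConj z t → t ≠ z → t * z = z * t → ∀ p : G ⧸ H,
      (z * t) • p = p → p = ((1 : G) : G ⧸ H))
    {g : G} (hg : g ∉ H) : Odd (orderOf (z * (g * z * g⁻¹))) := by
  by_contra hne
  have he := Nat.not_odd_iff_even.mp hne
  set y := g * z * g⁻¹ with hy
  have hy2 : orderOf y = 2 := conj_orderOf_two hz g
  set c := centralInvol z y with hc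
  have hcz := centralInvol_comm_left hz hy2 he
  have hcy := centralInvol_comm_right hz hy2 he
  have hconj : IsConj z (z * c) := by
    rcases left_mul_centralInvol_isConj hz hy2 he with h | h
    · exact h
    · exact (isConj_iff.mpr ⟨g, rfl⟩ : IsConj z y).trans h
  have hne1 : z * c ≠ z := fun h => centralInvol_ne_one _ _ he (mul_eq_left.mp h)
  have hcomm : z * c * z = z * (z * c) := by rw [mul_assoc, hcz.eq]
  set p := g • ((1 : G) : G ⧸ H) with hp
  have hyp : y • p = p := (fix_conj h0 g p).mpr rfl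
  have hcp : c • p = p := (fix_conj h0 g (c • p)).mp (by
    rw [← hy, ← mul_smul, ← hcy.eq, mul_smul, hyp])
  have := hA _ hconj hne1 hcomm p (by
    rw [← mul_assoc, mul_self_of_orderOf_two hz, one_mul, hcp])
  rw [hp, MulAction.Quotient.smul_coe, smul_eq_mul, mul_one, eq_comm, QuotientGroup.eq] at this
  rw [inv_one, one_mul] at this
  exact hg this

theorem odd_class (hz : orderOf z = 2) (hH : H ≠ ⊤)
    (h0 : ∀ g : G, z ∈ H.map (MulAut.conj g).toMonoidHom ↔ g ∈ H)
    (hA : ∀ t : G, IsConj z t → t ≠ z → t * z = z * t → ∀ p : G ⧸ H,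
      (z * t) • p = p → p = ((1 : G) : G ⧸ H)) :
    Odd (Nat.card {t : G // IsConj z t}) := by
  classical
  haveI := Fintype.ofFinite G
  haveI := Fintype.ofFinite (G ⧸ H)
  set p₀ := ((1 : G) : G ⧸ H) with hp₀
  set C := Finset.univ.filter (fun t : G => IsConj z t) with hC
  have hCmem : ∀ t, t ∈ C ↔ IsConj z t := fun t => by simp [hC]
  set K : G ⧸ H → Finset G := fun p => C.filter (fun t => t • p = p) with hK
  set D : G ⧸ H → Finset G := fun p => C.filter (fun t => t • p₀ = p) with hD
  have hKcard : ∀ p, (K p).card = (K p₀).card := by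
    intro p
    induction p using QuotientGroup.induction_on with
    | H x =>
      have hx : (x : G ⧸ H) = x • p₀ := by simp [hp₀]
      refine (Finset.card_bij (fun t _ => x * t * x⁻¹) ?_ ?_ ?_).symm
      · intro t ht
        simp only [hK, Finset.mem_filter, hCmem] at ht ⊢
        exact ⟨ht.1.trans (isConj_iff.mpr ⟨x, rfl⟩),
          by rw [hx, mul_smul, mul_smul, inv_smul_smul, ht.2]⟩
      · intro a _ b _ h; exact mul_left_cancel (mul_right_cancel h)
      · intro t ht
        simp only [hK, Finset.mem_filter, hCmem] at ht ⊢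
        refine ⟨x⁻¹ * t * x, ⟨ht.1.trans (isConj_iff.mpr ⟨x⁻¹, by group⟩), ?_⟩, by group⟩
        rw [mul_smul, mul_smul, ← hx, ht.2, hx, inv_smul_smul]
  have hsumK : C.card = ∑ p, (K p).card := by
    have h : ∀ t ∈ C, ∃ p : G ⧸ H, ∀ q : G ⧸ H, t • q = q ↔ q = p := by
      intro t ht
      obtain ⟨g, rfl⟩ := isConj_iff.mp ((hCmem t).mp ht)
      exact ⟨_, fix_conj h0 g⟩
    choose! f hf using h
    rw [Finset.card_eq_sum_card_fiberwise (f := f) (t := Finset.univ) (fun _ _ => Finset.mem_univ _)]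
    refine Finset.sum_congr rfl fun p _ => congrArg Finset.card ?_
    ext t
    simp only [hK, Finset.mem_filter]
    exact ⟨fun h => ⟨h.1, (hf t h.1 p).mpr h.2.symm⟩, fun h => ⟨h.1, ((hf t h.1 p).mp h.2).symm⟩⟩
  have hsumD : C.card = ∑ p, (D p).card :=
    Finset.card_eq_sum_card_fiberwise (f := fun t => t • p₀) (t := Finset.univ)
      (fun _ _ => Finset.mem_univ _)
  have hge : ∀ p, (K p₀).card ≤ (D p).card := by
    intro p
    by_cases hp : p = p₀
    · rw [hp]
    rw [← hKcard p]
    refine Finset.card_le_card_of_surjOn (fun d => d * z * d) ?_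
    intro y hy
    simp only [hK, Finset.mem_coe, Finset.mem_filter, hCmem] at hy
    obtain ⟨g, rfl⟩ := isConj_iff.mp hy.1
    have hpg := (fix_conj h0 g p).mp hy.2
    have hg : g ∉ H := fun hg => hp (by
      rw [hpg, hp₀, MulAction.Quotient.smul_coe, smul_eq_mul, mul_one, QuotientGroup.eq, mul_one]
      exact inv_mem hg)
    set y := g * z * g⁻¹ with hyd
    have hy2 : orderOf y = 2 := conj_orderOf_two hz g
    obtain ⟨k, hk⟩ := exists_zpow_conj_of_odd hz hy2 (odd_product hz h0 hA hg)
    set d := (z * y) ^ k * z with hd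
    have hd2 : d * d = 1 := by
      rw [hd, zpow_mul_left hz hy2, left_mul_zpow_mul_self hz hy2, sub_self, zpow_zero]
    have hdC : IsConj z d := by
      rcases Int.even_or_odd k with ⟨a, ha⟩ | ⟨a, ha⟩
      · refine isConj_iff.mpr ⟨(z * y) ^ a, ?_⟩
        rw [conj_left hz hy2, hd, zpow_mul_left hz hy2, ha]
        congr 2; ring
      · refine (isConj_iff.mpr ⟨g, rfl⟩ : IsConj z y).trans (isConj_iff.mpr ⟨(z * y) ^ (a + 1), ?_⟩)
        rw [conj_right hz hy2, hd, zpow_mul_left hz hy2, ha]
        congr 2; ring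
    have hdzd : d * z * d = y := by
      calc d * z * d = d * z * d⁻¹ := by rw [inv_eq_of_mul_eq_one_right hd2]
        _ = (z * y) ^ k * z * ((z * y) ^ k)⁻¹ := by rw [hd]; group
        _ = y := hk
    refine ⟨d, ?_, hdzd⟩
    simp only [hD, Finset.mem_coe, Finset.mem_filter, hCmem]
    refine ⟨hdC, ((fix_conj h0 g _).mp ?_).trans hpg.symm⟩
    rw [← hyd, ← hdzd, mul_smul, ← mul_smul d d, hd2, one_smul, mul_smul,
      (fix_z h0 p₀).mpr rfl]
  have hDeq : ∀ p, (D p).card = (K p₀).card := by
    have h : ∑ _p : G ⧸ H, (K p₀).card = ∑ p, (D p).card := by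
      rw [← hsumD, hsumK]
      exact Finset.sum_congr rfl fun p _ => (hKcard p).symm
    exact fun p => ((Finset.sum_eq_sum_iff_of_le fun p _ => hge p).mp h p (Finset.mem_univ p)).symm
  -- parity of the number of conjugates fixing a point
  obtain ⟨p₁, hp₁⟩ : ∃ p : G ⧸ H, p ≠ p₀ := by
    obtain ⟨x, hx⟩ : ∃ x, x ∉ H := by
      by_contra! h
      exact hH (eq_top_iff.mpr fun x _ => h x)
    exact ⟨(x : G ⧸ H), fun h => hx (by
      rw [hp₀, eq_comm, QuotientGroup.eq, inv_one, one_mul] at h; exact h)⟩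
  have hKpos : 0 < (K p₀).card := Finset.card_pos.mpr
    ⟨z, Finset.mem_filter.mpr ⟨(hCmem _).mpr (IsConj.refl z), (fix_z h0 p₀).mpr rfl⟩⟩
  obtain ⟨d₀, hd₀⟩ := Finset.card_pos.mp ((hDeq p₁).symm ▸ hKpos)
  simp only [hD, Finset.mem_filter, hCmem] at hd₀
  have hd₀2 : d₀ * d₀ = 1 := by
    obtain ⟨g, rfl⟩ := isConj_iff.mp hd₀.1
    exact mul_self_of_orderOf_two (conj_orderOf_two hz g)
  have hd₀i : d₀⁻¹ = d₀ := inv_eq_of_mul_eq_one_right hd₀2
  have hd₀p : d₀ • p₁ = p₀ := by rw [← hd₀.2, ← mul_smul, hd₀2, one_smul]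
  have hkey : ∀ d ∈ D p₁, d₀ * d * d₀ = d → d = d₀ := by
    intro d hd hfix
    simp only [hD, Finset.mem_filter, hCmem] at hd
    by_contra hne
    have hdd : d₀ * d = d * d₀ := by
      calc d₀ * d = d₀ * d * (d₀ * d₀) := by rw [hd₀2, mul_one]
        _ = d * d₀ := by rw [← mul_assoc, hfix]
    have hd2 : d * d = 1 := by
      obtain ⟨g, rfl⟩ := isConj_iff.mp hd.1
      exact mul_self_of_orderOf_two (conj_orderOf_two hz g)
    obtain ⟨g, hg⟩ := isConj_iff.mp hd₀.1
    set t := g⁻¹ * d * g with ht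
    have htC : IsConj z t := hd.1.trans (isConj_iff.mpr ⟨g⁻¹, by rw [ht]; group⟩)
    have htz : t ≠ z := fun h => hne (by rw [← hg, ← h, ht]; group)
    have hzt : z * t = g⁻¹ * (d₀ * d) * g := by rw [ht, ← hg]; group
    have htc : t * z = z * t := by
      rw [hzt, hdd, ht, ← hg]; group
    have f₀ : (z * t) • (g⁻¹ • p₀) = g⁻¹ • p₀ := by
      rw [hzt, mul_smul, mul_smul, smul_inv_smul, mul_smul, hd.2, hd₀p]
    have f₁ : (z * t) • (g⁻¹ • p₁) = g⁻¹ • p₁ := by
      rw [hzt, mul_smul, mul_smul, smul_inv_smul, mul_smul,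
        show d • p₁ = p₀ by rw [← hd.2, ← mul_smul, hd2, one_smul], hd₀.2]
    exact hp₁ (smul_left_cancel g⁻¹ ((hA t htC htz htc _ f₁).trans (hA t htC htz htc _ f₀).symm))
  have hDodd : Odd (D p₁).card := by
    have hmem : d₀ ∈ D p₁ := Finset.mem_filter.mpr ⟨(hCmem _).mpr hd₀.1, hd₀.2⟩
    have hz2 : (((D p₁).erase d₀).card : ZMod 2) = 0 := by
      rw [Finset.cast_card]
      refine Finset.sum_involution (fun d _ => d₀ * d * d₀) (fun _ _ => by decide) ?_ ?_ ?_
      · intro d hd _
        rw [Finset.mem_erase] at hd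
        exact fun h => hd.1 (hkey d hd.2 h)
      · intro d hd
        rw [Finset.mem_erase] at hd ⊢
        refine ⟨fun h => hd.1 ?_, ?_⟩
        · calc d = d₀ * (d₀ * d * d₀) * d₀ := by
                rw [show d₀ * (d₀ * d * d₀) * d₀ = (d₀ * d₀) * d * (d₀ * d₀) by group, hd₀2,
                  one_mul, mul_one]
            _ = d₀ := by rw [h, hd₀2, one_mul]
        · have hd' := hd.2
          simp only [hD, Finset.mem_filter, hCmem] at hd' ⊢
          refine ⟨hd'.1.trans (isConj_iff.mpr ⟨d₀, by rw [hd₀i]⟩), ?_⟩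
          have hd2 : d * d = 1 := by
            obtain ⟨g, rfl⟩ := isConj_iff.mp hd'.1
            exact mul_self_of_orderOf_two (conj_orderOf_two hz g)
          rw [mul_smul, mul_smul, hd₀.2,
            show d • p₁ = p₀ by rw [← hd'.2, ← mul_smul, hd2, one_smul], hd₀.2]
      · intro d _
        rw [show d₀ * (d₀ * d * d₀) * d₀ = (d₀ * d₀) * d * (d₀ * d₀) by group, hd₀2, one_mul,
          mul_one]
    rw [ZMod.natCast_eq_zero_iff_even] at hz2
    rw [← Finset.card_erase_add_one hmem]
    exact hz2.add_one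
  have hn : Odd (Fintype.card (G ⧸ H)) := by
    haveI : Fact (Nat.Prime 2) := ⟨Nat.prime_two⟩
    have hp : IsPGroup 2 (Subgroup.zpowers z) :=
      IsPGroup.of_card (n := 1) (by rw [Nat.card_zpowers, hz, pow_one])
    have hmod := hp.card_modEq_card_fixedPoints (G ⧸ H)
    have hfix : MulAction.fixedPoints (Subgroup.zpowers z) (G ⧸ H) = {p₀} := by
      ext p
      simp only [MulAction.mem_fixedPoints, Set.mem_singleton_iff]
      constructor
      · intro h; exact (fix_z h0 p).mp (h ⟨z, Subgroup.mem_zpowers z⟩)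
      · intro h τ
        have hle : Subgroup.zpowers z ≤ MulAction.stabilizer G p :=
          Subgroup.zpowers_le.mpr ((fix_z h0 p).mpr h)
        exact hle τ.2
    rw [hfix, Nat.card_coe_set_eq, Set.ncard_singleton, Nat.card_eq_fintype_card] at hmod
    exact Nat.odd_iff.mpr hmod
  rw [Nat.card_eq_fintype_card, Fintype.card_subtype, ← hC, hsumK,
    Finset.sum_congr rfl fun p _ => hKcard p, Finset.sum_const, Finset.card_univ, smul_eq_mul]
  exact hn.mul (hDeq p₁ ▸ hDodd)

end

/-- Let z be an involution of a finite group G and H a proper subgroup such that z lies in gHg⁻¹ exactly when g ∈ H. Then the following are equivalent: (1) for every conjugate t ≠ z of z commuting with z, the product zt lies in gHg⁻¹ exactly when g ∈ H; (2) z lies in the centre of some Sylow 2-subgroup of G, and for every conjugate t ≠ z of z commuting with z, the centralizer of zt is contained in H. -/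
theorem result {G : Type*} [Group G] [Finite G] (z : G) (hz : orderOf z = 2) (H : Subgroup G) (hH : H ≠ ⊤)
    (h0 : ∀ g : G, z ∈ H.map (MulAut.conj g).toMonoidHom ↔ g ∈ H) :
    (∀ t : G, IsConj z t → t ≠ z → t * z = z * t → ∀ g : G, z * t ∈ H.map (MulAut.conj g).toMonoidHom ↔ g ∈ H) ↔
      ((∃ P : Sylow 2 G, z ∈ (Subgroup.center ↥(P : Subgroup G)).map (P : Subgroup G).subtype) ∧
        ∀ t : G, IsConj z t → t ≠ z → t * z = z * t → Subgroup.centralizer ({z * t} : Set G) ≤ H) := by
  haveI : Fact (Nat.Prime 2) := ⟨Nat.prime_two⟩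
  obtain ⟨hzH, hCz⟩ := mem_and_centralizer_le h0
  constructor
  · intro hA
    refine ⟨?_, fun t htC htz htc x hx => ?_⟩
    · have hodd : Odd (Nat.card {t : G // IsConj z t}) := odd_class hz hH h0
        (fun t htC htz htc p hp => by
          induction p using QuotientGroup.induction_on with
          | H x =>
            rw [fix_iff, hA t htC htz htc] at hp
            rw [eq_comm, QuotientGroup.eq, inv_one, one_mul]
            exact hp)
      set K := Subgroup.centralizer ({z} : Set G) with hK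
      obtain ⟨R⟩ := (inferInstance : Nonempty (Sylow 2 K))
      obtain ⟨S, hRS⟩ := (R.2.map K.subtype).exists_le_sylow
      have hzR : (⟨z, Subgroup.mem_centralizer_singleton_iff.mpr rfl⟩ : K) ∈ (R : Subgroup K) := by
        set zK : K := ⟨z, Subgroup.mem_centralizer_singleton_iff.mpr rfl⟩ with hzK
        have hzp : IsPGroup 2 (Subgroup.zpowers zK) :=
          IsPGroup.of_card (n := 1) (by rw [Nat.card_zpowers, ← Subgroup.orderOf_coe, hz, pow_one])
        obtain ⟨R', hR'⟩ := hzp.exists_le_sylow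
        obtain ⟨c, hc⟩ := MulAction.exists_smul_eq K R' R
        rw [← hc]
        have := Subgroup.smul_mem_pointwise_smul zK (MulAut.conj c) _ (hR' (Subgroup.mem_zpowers zK))
        rwa [MulAut.smul_def, MulAut.conj_apply,
          show c * zK * c⁻¹ = zK from mul_inv_eq_iff_eq_mul.mpr
            (Subtype.ext (Subgroup.mem_centralizer_singleton_iff.mp c.2))] at this
      have hcard : Nat.card ((R : Subgroup K).map K.subtype) = Nat.card (S : Subgroup G) := by
        refine le_antisymm (Nat.le_of_dvd Nat.card_pos (Subgroup.card_dvd_of_le hRS)) ?_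
        rw [Subgroup.card_map_of_injective K.subtype_injective]
        refine Nat.le_of_dvd Nat.card_pos ?_
        rw [R.card_eq_multiplicity, S.card_eq_multiplicity]
        refine pow_dvd_pow 2 ?_
        have h := card_isConj_mul_card_centralizer z
        rw [← hK] at h
        have hne : Nat.card {t : G // IsConj z t} ≠ 0 := fun h0 => by
          rw [h0] at hodd; exact absurd hodd (by decide)
        rw [← h, Nat.factorization_mul hne Nat.card_pos.ne', Finsupp.add_apply,
          Nat.factorization_eq_zero_of_not_dvd (fun h2 => Nat.not_even_iff_odd.mpr hodd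
            (even_iff_two_dvd.mpr h2)), zero_add]
      have hSR := Subgroup.eq_of_le_of_card_ge hRS hcard.ge
      have hzS : z ∈ (S : Subgroup G) := by rw [← hSR]; exact ⟨_, hzR, rfl⟩
      refine ⟨S, ⟨z, hzS⟩, Subgroup.mem_center_iff.mpr fun s => Subtype.ext ?_, rfl⟩
      have hs : (s : G) ∈ (R : Subgroup K).map K.subtype := by rw [hSR]; exact s.2
      obtain ⟨k, -, hk⟩ := hs
      change (s : G) * z = z * (s : G)
      rw [← hk]
      exact Subgroup.mem_centralizer_singleton_iff.mp k.2
    · have hmem : z * t ∈ H :=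
        H.mul_mem hzH (hCz (Subgroup.mem_centralizer_singleton_iff.mpr htc))
      refine (hA t htC htz htc x).mp (CfsgLib.Transfer.mem_conj_map_iff.mpr ?_)
      rwa [mul_assoc, ← Subgroup.mem_centralizer_singleton_iff.mp hx, inv_mul_cancel_left]
  · rintro ⟨⟨P, zP, hzPc, hzPe⟩, hCzt⟩ t htC htz htc g
    have hmem : z * t ∈ H :=
      H.mul_mem hzH (hCz (Subgroup.mem_centralizer_singleton_iff.mpr htc))
    constructor
    · intro hg
      have hPc : ∀ s ∈ (P : Subgroup G), s * z = z * s := fun s hs => by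
        rw [← hzPe]
        exact congrArg Subtype.val (Subgroup.mem_center_iff.mp hzPc ⟨s, hs⟩)
      have hPH : (P : Subgroup G) ≤ H := fun s hs =>
        hCz (Subgroup.mem_centralizer_singleton_iff.mpr (hPc s hs))
      rw [CfsgLib.Transfer.mem_conj_map_iff] at hg
      set u := g⁻¹ * (z * t) * g with hu
      have hu2 : IsPGroup 2 (Subgroup.zpowers (⟨u, hg⟩ : H)) := by
        have ht2 : t * t = 1 := by
          obtain ⟨a, rfl⟩ := isConj_iff.mp htC
          exact mul_self_of_orderOf_two (conj_orderOf_two hz a)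
        have hw2 : u ^ 2 = 1 := by
          rw [pow_two, hu, show g⁻¹ * (z * t) * g * (g⁻¹ * (z * t) * g)
            = g⁻¹ * (z * (t * z) * t) * g by group, htc]
          rw [show z * (z * t) * t = (z * z) * (t * t) by group, ht2, mul_self_of_orderOf_two hz]
          group
        obtain ⟨k, -, hk⟩ := (Nat.dvd_prime_pow Nat.prime_two).mp
          (show orderOf u ∣ 2 ^ 1 by rw [pow_one]; exact orderOf_dvd_of_pow_eq_one hw2)
        exact IsPGroup.of_card (n := k) (by rw [Nat.card_zpowers, ← Subgroup.orderOf_coe, hk])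
      obtain ⟨R, hR⟩ := hu2.exists_le_sylow
      obtain ⟨c, hc⟩ := MulAction.exists_smul_eq H R (P.subtype hPH)
      have hcu : (c : G) * u * (c : G)⁻¹ ∈ (P : Subgroup G) := by
        have h1 : c * ⟨u, hg⟩ * c⁻¹ ∈ (P.subtype hPH : Subgroup H) := by
          rw [← hc]
          exact Subgroup.smul_mem_pointwise_smul _ (MulAut.conj c) _ (hR (Subgroup.mem_zpowers _))
        exact h1
      have hcen : g * ((c : G)⁻¹ * z * (c : G)) * g⁻¹ ∈ Subgroup.centralizer ({z * t} : Set G) := by
        rw [Subgroup.mem_centralizer_singleton_iff]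
        have h2 := hPc _ hcu
        have hcom : ((c : G)⁻¹ * z * (c : G)) * u = u * ((c : G)⁻¹ * z * (c : G)) := by
          calc ((c : G)⁻¹ * z * (c : G)) * u
              = (c : G)⁻¹ * (z * ((c : G) * u * (c : G)⁻¹)) * c := by group
            _ = (c : G)⁻¹ * ((c : G) * u * (c : G)⁻¹ * z) * c := by rw [h2]
            _ = u * ((c : G)⁻¹ * z * (c : G)) := by group
        calc g * ((c : G)⁻¹ * z * (c : G)) * g⁻¹ * (z * t)
            = g * (((c : G)⁻¹ * z * (c : G)) * u) * g⁻¹ := by rw [hu]; group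
          _ = g * (u * ((c : G)⁻¹ * z * (c : G))) * g⁻¹ := by rw [hcom]
          _ = z * t * (g * ((c : G)⁻¹ * z * (c : G)) * g⁻¹) := by rw [hu]; group
      have hin := hCzt t htC htz htc hcen
      have := (h0 ((c : G) * g⁻¹)).mp (CfsgLib.Transfer.mem_conj_map_iff.mpr (by
        rwa [show ((c : G) * g⁻¹)⁻¹ * z * ((c : G) * g⁻¹)
          = g * ((c : G)⁻¹ * z * (c : G)) * g⁻¹ by group]))
      exact inv_mem_iff.mp ((Subgroup.mul_mem_cancel_left H c.2).mp this)
    · intro hg
      exact CfsgLib.Transfer.mem_conj_map_iff.mpr (H.mul_mem (H.mul_mem (inv_mem hg) hmem) hg)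

end Cfsg.Agent.S1922
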