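import Cfsg.Statements.S1924
import Cfsg.Agent.Lib.Transfer.Thompson

set_option autoImplicit false
set_option linter.style.haveILetI false

set_option autoImplicit false
open Cfsg

namespace Cfsg.Agent.S1924

/-- A permutation of order dividing `2 ^ (k + 1)` whose power `2 ^ k` moves every point is even only
if the number of points over `2 ^ (k + 1)` is. -/
theorem sign_semiregular {α : Type*} [Fintype α] [DecidableEq α] (σ : Equiv.Perm α) (k m : ℕ)
    (hσ : σ ^ 2 ^ (k + 1) = 1) (hfree : ∀ a, (σ ^ 2 ^ k) a ≠ a) (hcard : Fintype.card α = 2 ^ (k + 1) * m)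
    (hm : Odd m) : Equiv.Perm.sign σ = -1 := by
  have hct : ∀ n ∈ σ.cycleType, n = 2 ^ (k + 1) := by
    intro n hn
    rw [Equiv.Perm.cycleType_def, Multiset.mem_map] at hn
    obtain ⟨c, hc, rfl⟩ := hn
    have hc' : c ∈ σ.cycleFactorsFinset := hc
    obtain ⟨hcyc, -⟩ := Equiv.Perm.mem_cycleFactorsFinset_iff.mp hc'
    obtain ⟨x, hx⟩ := hcyc.nonempty_support
    have hce : c = σ.cycleOf x := Equiv.Perm.cycle_is_cycleOf hx hc'
    have hmem : c.support.card ∈ σ.cycleType := by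
      rw [Equiv.Perm.cycleType_def, Multiset.mem_map]; exact ⟨c, hc, rfl⟩
    have hdvd : c.support.card ∣ 2 ^ (k + 1) :=
      (Equiv.Perm.dvd_of_mem_cycleType hmem).trans (orderOf_dvd_of_pow_eq_one hσ)
    obtain ⟨i, hi, hie⟩ := (Nat.dvd_prime_pow Nat.prime_two).mp hdvd
    show c.support.card = 2 ^ (k + 1)
    rcases eq_or_lt_of_le hi with rfl | hlt
    · exact hie
    · exfalso
      apply hfree x
      have : c ^ 2 ^ k = 1 := by
        rw [← orderOf_dvd_iff_pow_eq_one, hcyc.orderOf, hie]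
        exact pow_dvd_pow 2 (by omega)
      rw [← Equiv.Perm.cycleOf_pow_apply_self σ x, ← hce, this, Equiv.Perm.one_apply]
  have hsum : σ.cycleType.sum = Fintype.card α := by
    rw [Equiv.Perm.sum_cycleType, (Finset.card_eq_iff_eq_univ _).mpr]
    refine Finset.eq_univ_iff_forall.mpr fun a => Equiv.Perm.mem_support.mpr fun e => hfree a ?_
    exact Equiv.Perm.pow_apply_eq_self_of_apply_eq_self e _
  have hrep := Multiset.eq_replicate_card.mpr hct
  rw [hrep, Multiset.sum_replicate, smul_eq_mul, hcard] at hsum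
  have hn : Multiset.card σ.cycleType = m := by
    refine Nat.eq_of_mul_eq_mul_right (pow_pos two_pos (k + 1)) ?_
    rw [hsum, mul_comm]
  rw [Equiv.Perm.sign_of_cycleType, hrep, Multiset.sum_replicate, Multiset.card_replicate, hn, smul_eq_mul]
  refine Odd.neg_one_pow (Even.add_odd ?_ hm)
  exact (even_iff_two_dvd.mpr (dvd_mul_of_dvd_right (dvd_pow_self 2 (Nat.succ_ne_zero k)) m))


/-- A consequence of Thompson's transfer lemma. Let G be a finite group, L a subgroup with O²(L) = L, T a Sylow 2-subgroup of L and S a Sylow 2-subgroup of G containing T. Suppose D ≤ S is a dihedral subgroup of order at least 4 (the four-group counts) with D ∩ T = 1 and S = TD as a set of products (so |S| = |T|·|D|), and C ≤ D is cyclic of index 2 in D. If no involution of D outside C is G-conjugate to an involution of the subgroup generated by T and C, and the involution of C is not G-conjugate to any involution of T, then G has a normal subgroup K, containing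 every Sylow 2-subgroup of L as a Sylow 2-subgroup, with G = KD. -/
theorem result {G : Type*} [Group G] [Finite G] (L T S D C : Subgroup G) (hL : Cfsg.pResidual 2 ↥L = ⊤)
    (hTL : T ≤ L) (hT2 : IsPGroup 2 T) (hTsyl : ¬ 2 ∣ T.relIndex L)
    (hS2 : IsPGroup 2 S) (hSsyl : ¬ 2 ∣ S.index) (hTS : T ≤ S)
    (hDS : D ≤ S) (hDih : ∃ n : ℕ, 2 ≤ n ∧ Nonempty (↥D ≃* DihedralGroup n)) (hDT : D ⊓ T = ⊥) (hTD : T ⊔ D = S) (hTDc : Nat.card T * Nat.card D = Nat.card S)
    (hCD : C ≤ D) (hC : IsCyclic ↥C) (hCi : C.relIndex D = 2)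
    (h1 : ∀ x ∈ D, x ∉ C → orderOf x = 2 → ∀ g : G, g * x * g⁻¹ ∈ T ⊔ C → False)
    (h2 : ∀ c ∈ C, orderOf c = 2 → ∀ g : G, g * c * g⁻¹ ∈ T → False) :
    ∃ K : Subgroup G, K.Normal ∧ K ⊔ D = ⊤ ∧
      ∀ T' : Subgroup G, T' ≤ L → IsPGroup 2 T' → ¬ 2 ∣ T'.relIndex L → T' ≤ K ∧ ¬ 2 ∣ T'.relIndex K := by
  classical
  haveI : Fact (Nat.Prime 2) := ⟨Nat.prime_two⟩
  set R := Cfsg.pResidual 2 G with hR
  haveI hRn : R.Normal := CfsgLib.Transfer.pResidual_normal 2 G
  have hLR : L ≤ R := by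
    intro l hl
    exact CfsgLib.Transfer.map_pResidual_subtype_le L ⟨⟨l, hl⟩, hL.ge trivial, rfl⟩
  have hTR : T ≤ R := hTL.trans hLR
  -- a homomorphism from `R` to a `2`-group is trivial
  have hRperf : ∀ f : R →* ℤˣ, ∀ r, f r = 1 := by
    intro f r
    have hz : IsPGroup 2 ℤˣ := fun u => ⟨1, by rw [pow_one, pow_two, Int.units_mul_self]⟩
    have hle := CfsgLib.Transfer.le_ker_of_isPGroup hz f
    have key : R ≤ (Cfsg.pResidual 2 R).map R.subtype := by
      conv_lhs => rw [hR, Cfsg.pResidual]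
      refine (Subgroup.closure_le _).mpr fun x hx => ?_
      exact ⟨⟨x, CfsgLib.Transfer.mem_pResidual_of_coprime hx⟩,
        CfsgLib.Transfer.mem_pResidual_of_coprime (by rw [← Subgroup.orderOf_coe]; exact hx), rfl⟩
    obtain ⟨w, hw, hwe⟩ := key r.2
    have e : w = r := Subtype.ext hwe
    exact e ▸ MonoidHom.mem_ker.mp (hle hw)
  -- decomposition of `S`
  have hdec : ∀ s ∈ S, ∃ t ∈ T, ∃ d ∈ D, t * d = s := by
    let f : T × D → S := fun v => ⟨(v.1 : G) * v.2, S.mul_mem (hTS v.1.2) (hDS v.2.2)⟩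
    have hinj : Function.Injective f := by
      intro v w e
      have e' : (v.1 : G) * v.2 = w.1 * w.2 := congrArg Subtype.val e
      have h3 : (w.1 : G)⁻¹ * v.1 = w.2 * (v.2 : G)⁻¹ := by
        calc (w.1 : G)⁻¹ * v.1 = (w.1 : G)⁻¹ * ((v.1 : G) * v.2) * (v.2 : G)⁻¹ := by group
          _ = w.2 * (v.2 : G)⁻¹ := by rw [e']; group
      have h4 : (w.1 : G)⁻¹ * v.1 = 1 := Subgroup.mem_bot.mp (hDT.le
        ⟨h3 ▸ D.mul_mem w.2.2 (D.inv_mem v.2.2), T.mul_mem (T.inv_mem w.1.2) v.1.2⟩)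
      rw [h4, eq_comm, mul_inv_eq_one] at h3
      exact Prod.ext (Subtype.ext (inv_mul_eq_one.mp h4).symm) (Subtype.ext h3.symm)
    intro s hs
    obtain ⟨v, hv⟩ := (hinj.bijective_of_nat_card_le (by rw [Nat.card_prod, hTDc])).2 ⟨s, hs⟩
    exact ⟨v.1, v.1.2, v.2, v.2.2, congrArg Subtype.val hv⟩
  obtain ⟨n, hn, ⟨e⟩⟩ := hDih
  haveI : NeZero n := ⟨by omega⟩
  -- elements of `D` outside `C` are involutions
  have hrefl : ∀ x ∈ D, x ∉ C → x * x = 1 := by
    intro x hx hxC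
    obtain ⟨⟨c0, hc0⟩, hgen⟩ := IsCyclic.exists_generator (α := C)
    have hcz : ∀ y ∈ C, ∃ i : ℤ, c0 ^ i = y := fun y hy => by
      obtain ⟨i, hi⟩ := Subgroup.mem_zpowers_iff.mp (hgen ⟨y, hy⟩)
      exact ⟨i, by simpa using congrArg Subtype.val hi⟩
    have hCcard : Nat.card C = n := by
      have h := (C.subgroupOf D).card_mul_index
      rw [show (C.subgroupOf D).index = 2 from hCi, Nat.card_congr (Subgroup.subgroupOfEquivOfLe hCD).toEquiv,
        Nat.card_congr e.toEquiv, DihedralGroup.nat_card] at h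
      omega
    have hzero : ∀ w : DihedralGroup n, (∀ i, w = DihedralGroup.r i → w * w = 1) → w * w = 1 := by
      intro w h
      cases w with
      | r i => exact h i rfl
      | sr i => exact DihedralGroup.sr_mul_self i
    suffices e (⟨x, hx⟩ : D) * e ⟨x, hx⟩ = 1 by
      rw [← map_mul, ← e.map_one] at this
      exact congrArg Subtype.val (e.injective this)
    refine hzero _ fun i hi => ?_
    by_cases hn2 : n = 2
    · subst hn2
      rw [hi, DihedralGroup.r_mul_r, DihedralGroup.one_def, show i + i = 0 from CharTwo.add_self_eq_zero i]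
    exfalso
    have hc0n : orderOf (e (⟨c0, hCD hc0⟩ : D)) = n := by
      rw [e.orderOf_eq, ← hCcard, ← orderOf_eq_card_of_forall_mem_zpowers hgen, Subgroup.orderOf_mk, Subgroup.orderOf_mk]
    obtain ⟨j, hj⟩ : ∃ j, e (⟨c0, hCD hc0⟩ : D) = DihedralGroup.r j := by
      cases h : e (⟨c0, hCD hc0⟩ : D) with
      | r j => exact ⟨j, rfl⟩
      | sr j => rw [h, DihedralGroup.orderOf_sr] at hc0n; exact absurd hc0n.symm hn2
    rw [hj, DihedralGroup.orderOf_r] at hc0n
    have hcop : Nat.Coprime j.val n := by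
      have h1 : Nat.gcd n j.val ∣ n := Nat.gcd_dvd_left _ _
      have h2 := Nat.div_mul_cancel h1
      rw [hc0n] at h2
      exact Nat.coprime_comm.mp (Nat.eq_of_mul_eq_mul_left (by omega) (h2.trans (mul_one n).symm))
    obtain ⟨m, hm⟩ : ∃ m : ℕ, DihedralGroup.r j ^ m = DihedralGroup.r i := by
      refine ⟨(i * ((ZMod.unitOfCoprime j.val hcop)⁻¹ : (ZMod n)ˣ)).val, ?_⟩
      rw [DihedralGroup.r_pow, ZMod.natCast_val, ZMod.cast_id]
      congr 1
      have hju : ((ZMod.unitOfCoprime j.val hcop : (ZMod n)ˣ) : ZMod n) = j := by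
        rw [ZMod.coe_unitOfCoprime, ZMod.natCast_val, ZMod.cast_id]
      rw [mul_comm j, mul_assoc]
      nth_rewrite 2 [← hju]
      rw [Units.inv_mul, mul_one]
    apply hxC
    rw [← hj, ← map_pow, ← hi] at hm
    have h9 : c0 ^ m = x := congrArg Subtype.val (e.injective hm)
    rw [← h9]
    exact C.pow_mem hc0 m
  -- `T ⊔ C` has index two in `S`
  have hTC : ∀ x ∈ D, x ∉ C → x ∉ T ⊔ C := by
    intro x hx hxC h
    have hx2 : orderOf x = 2 := orderOf_eq_prime (by rw [pow_two]; exact hrefl x hx hxC) fun e => hxC (e ▸ C.one_mem)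
    exact h1 x hx hxC hx2 1 (by simpa using h)
  obtain ⟨x0, hx0, hx0C⟩ : ∃ x0 ∈ D, x0 ∉ C := by
    by_contra! hall
    rw [Subgroup.relIndex_eq_one.mpr hall] at hCi
    omega
  have hQi : (T ⊔ C).relIndex S = 2 := by
    have hQS : T ⊔ C ≤ S := sup_le hTS (hCD.trans hDS)
    refine Subgroup.index_eq_two_iff.mpr ⟨⟨x0, hDS hx0⟩, fun b => ?_⟩
    obtain ⟨t, ht, d, hd, hb⟩ := hdec b b.2
    simp only [Subgroup.mem_subgroupOf, Subgroup.coe_mul]
    by_cases hdC : d ∈ C
    · refine Or.inr ⟨hb ▸ Subgroup.mul_mem_sup ht hdC, fun h => hTC x0 hx0 hx0C ?_⟩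
      exact ((T ⊔ C).mul_mem_cancel_left (hb ▸ Subgroup.mul_mem_sup ht hdC)).mp h
    · refine Or.inl ⟨?_, fun h => hTC d hd hdC ?_⟩
      · rw [← hb, mul_assoc]
        have h2 : (⟨d, hd⟩ : D) * ⟨x0, hx0⟩ ∈ C.subgroupOf D := by
          rw [Subgroup.mul_mem_iff_of_index_two hCi]
          simp [Subgroup.mem_subgroupOf, hdC, hx0C]
        exact Subgroup.mul_mem_sup ht h2
      · rw [← hb] at h
        exact ((T ⊔ C).mul_mem_cancel_left (Subgroup.mem_sup_left ht)).mp h
  -- reflections are not in `R`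
  have hRD : ∀ d ∈ D, d ∈ R → d ∈ C := by
    intro d hd hdR
    by_contra hdC
    have hd2 : orderOf d = 2 := orderOf_eq_prime (by rw [pow_two]; exact hrefl d hd hdC) fun e => hdC (e ▸ C.one_mem)
    let P : Sylow 2 G := hS2.toSylow hSsyl
    rcases CfsgLib.Transfer.thompson_transfer P (Q := T ⊔ C) hQi (hrefl d hd hdC) (hDS hd) (hTC d hd hdC) with
      ⟨M, hMn, hMi, hdM⟩ | ⟨g, -, hg⟩
    · haveI := hMn
      exact hdM (CfsgLib.Transfer.pResidual_le_of_isPGroup_quotient M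
        (IsPGroup.of_card (n := 1) (by rw [← Subgroup.index_eq_card, hMi, pow_one])) hdR)
    · exact h1 d hd hdC hd2 g hg
  -- the Sylow subgroup `S ⊓ R` of `R`
  have hSR : ∀ s ∈ S, s ∈ R → ∃ t ∈ T, ∃ c ∈ C ⊓ R, t * c = s := by
    intro s hs hsR
    obtain ⟨t, ht, d, hd, rfl⟩ := hdec s hs
    have hdR : d ∈ R := (R.mul_mem_cancel_left (hTR ht)).mp hsR
    exact ⟨t, ht, d, ⟨hRD d hd hdR, hdR⟩, rfl⟩
  have hSRidx : ¬ 2 ∣ (S ⊓ R).relIndex R := by
    intro h
    have h' : (S ⊓ R).relIndex R ∣ S.index := by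
      rw [Subgroup.inf_relIndex_right]
      exact CfsgLib.Transfer.relIndex_dvd_index_of_normal S R
    exact hSsyl (h.trans h')
  have hCR : ∀ c ∈ C ⊓ R, c = 1 := by
    by_contra! hne
    obtain ⟨c1, hc1, hc1n⟩ := hne
    haveI := hC
    haveI : IsCyclic (C ⊓ R : Subgroup G) :=
      isCyclic_of_injective (Subgroup.inclusion inf_le_left) (Subgroup.inclusion_injective _)
    obtain ⟨⟨c, hc⟩, hgen⟩ := IsCyclic.exists_generator (α := (C ⊓ R : Subgroup G))
    have hcz : ∀ y ∈ C ⊓ R, y ∈ Subgroup.zpowers c := fun y hy => by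
      obtain ⟨i, hi⟩ := Subgroup.mem_zpowers_iff.mp (hgen ⟨y, hy⟩)
      exact Subgroup.mem_zpowers_iff.mpr ⟨i, by simpa using congrArg Subtype.val hi⟩
    obtain ⟨j, hj⟩ := IsPGroup.iff_orderOf.mp hS2 (⟨c, hDS (hCD hc.1)⟩ : S)
    rw [Subgroup.orderOf_mk] at hj
    obtain ⟨k, rfl⟩ : ∃ k, j = k + 1 := by
      refine ⟨j - 1, ?_⟩
      rcases Nat.eq_zero_or_pos j with rfl | h
      · rw [pow_zero, orderOf_eq_one_iff] at hj
        have := hcz c1 hc1
        rw [hj, Subgroup.zpowers_one_eq_bot, Subgroup.mem_bot] at this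
        exact absurd this hc1n
      · omega
    set u := c ^ 2 ^ k with hu
    have hu2 : orderOf u = 2 := by
      rw [hu, orderOf_pow_of_dvd (by positivity) (by rw [hj]; exact pow_dvd_pow 2 (by omega)), hj, pow_succ,
        Nat.mul_div_cancel_left _ (by positivity)]
    haveI := Fintype.ofFinite (R ⧸ T.subgroupOf R)
    let φ : R →* ℤˣ := Equiv.Perm.sign.comp (MulAction.toPermHom R (R ⧸ T.subgroupOf R))
    obtain ⟨m, hm, hcard⟩ : ∃ m, Odd m ∧ Nat.card (R ⧸ T.subgroupOf R) = 2 ^ (k + 1) * m := by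
      refine ⟨(S ⊓ R).relIndex R, Nat.not_even_iff_odd.mp (fun h => hSRidx (even_iff_two_dvd.mp h)), ?_⟩
      have hmul := Subgroup.relIndex_mul_relIndex T (S ⊓ R) R (le_inf hTS hTR) inf_le_right
      rw [← Subgroup.index_eq_card, ← Subgroup.relIndex, ← hmul]
      congr 1
      let f : T × (C ⊓ R : Subgroup G) → (S ⊓ R : Subgroup G) := fun v =>
        ⟨(v.1 : G) * v.2, (S ⊓ R).mul_mem ⟨hTS v.1.2, hTR v.1.2⟩ ⟨hDS (hCD v.2.2.1), v.2.2.2⟩⟩
      have hf : Function.Bijective f := by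
        refine ⟨fun v w e => ?_, fun s => ?_⟩
        · have e' : (v.1 : G) * v.2 = w.1 * w.2 := congrArg Subtype.val e
          have h3 : (w.1 : G)⁻¹ * v.1 = w.2 * (v.2 : G)⁻¹ := by
            calc (w.1 : G)⁻¹ * v.1 = (w.1 : G)⁻¹ * ((v.1 : G) * v.2) * (v.2 : G)⁻¹ := by group
              _ = w.2 * (v.2 : G)⁻¹ := by rw [e']; group
          have h4 : (w.1 : G)⁻¹ * v.1 = 1 := Subgroup.mem_bot.mp (hDT.le
            ⟨h3 ▸ D.mul_mem (hCD w.2.2.1) (D.inv_mem (hCD v.2.2.1)), T.mul_mem (T.inv_mem w.1.2) v.1.2⟩)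
          rw [h4, eq_comm, mul_inv_eq_one] at h3
          exact Prod.ext (Subtype.ext (inv_mul_eq_one.mp h4).symm) (Subtype.ext h3.symm)
        · obtain ⟨t, ht, c', hc', e⟩ := hSR s s.2.1 s.2.2
          exact ⟨(⟨t, ht⟩, ⟨c', hc'⟩), Subtype.ext e⟩
      have h5 := Nat.card_congr (Equiv.ofBijective f hf)
      rw [Nat.card_prod, show Nat.card (C ⊓ R : Subgroup G) = 2 ^ (k + 1) by
        rw [← orderOf_eq_card_of_forall_mem_zpowers hgen, Subgroup.orderOf_mk, hj]] at h5
      have h6 := (T.subgroupOf (S ⊓ R)).card_mul_index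
      rw [Nat.card_congr (Subgroup.subgroupOfEquivOfLe (le_inf hTS hTR)).toEquiv, ← h5] at h6
      exact Nat.eq_of_mul_eq_mul_left Nat.card_pos h6
    have hsign : φ ⟨c, hc.2⟩ = -1 := by
      refine sign_semiregular _ k m ?_ (fun a => ?_) (by rw [← Nat.card_eq_fintype_card]; exact hcard) hm
      · rw [← map_pow, show (⟨c, hc.2⟩ : R) ^ 2 ^ (k + 1) = 1 from Subtype.ext (by
          show c ^ 2 ^ (k + 1) = 1
          rw [← hj, pow_orderOf_eq_one]), map_one]
      · induction a using QuotientGroup.induction_on with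
        | H r =>
        rw [← map_pow]
        intro h
        have h' : (QuotientGroup.mk ((⟨c, hc.2⟩ : R) ^ 2 ^ k * r) : R ⧸ T.subgroupOf R) = QuotientGroup.mk r := h
        have h'' := Subgroup.mem_subgroupOf.mp (QuotientGroup.eq.mp h'.symm)
        refine h2 u (C.pow_mem hc.1 _) hu2 (r : G)⁻¹ ?_
        rw [inv_inv, mul_assoc]
        simpa [mul_assoc] using h''
    rw [hRperf φ] at hsign
    exact absurd hsign (by decide)
  have hSRT : ∀ s ∈ S, s ∈ R → s ∈ T := fun s hs hsR => by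
    obtain ⟨t, ht, c, hc, rfl⟩ := hSR s hs hsR
    rwa [hCR c hc, mul_one]
  refine ⟨R, hRn, ?_, fun T' hT'L hT'2 hT'syl => ⟨hT'L.trans hLR, ?_⟩⟩
  · refine top_le_iff.mp ?_
    rw [← CfsgLib.Transfer.sylow_sup_pResidual (hS2.toSylow hSsyl)]
    refine sup_le ?_ le_sup_left
    intro s hs
    obtain ⟨t, ht, d, hd, rfl⟩ := hdec s hs
    exact Subgroup.mul_mem_sup (hTR ht) hd
  · have hTeq : S ⊓ R = T := le_antisymm (fun s hs => hSRT s hs.1 hs.2) (le_inf hTS hTR)
    have hcard : Nat.card T' = Nat.card T := by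
      obtain ⟨m1, -, h1'⟩ := CfsgLib.Transfer.exists_conj_le_of_not_dvd_relIndex hTL hT2 hTsyl hT'L hT'2
      obtain ⟨m2, -, h2'⟩ := CfsgLib.Transfer.exists_conj_le_of_not_dvd_relIndex hT'L hT'2 hT'syl hTL hT2
      have a1 := Subgroup.card_le_of_le h1'
      have a2 := Subgroup.card_le_of_le h2'
      rw [Subgroup.card_map_of_injective (MulAut.conj _).injective] at a1 a2
      omega
    have e1 := Subgroup.relIndex_mul_relIndex ⊥ T' R bot_le (hT'L.trans hLR)
    have e2 := Subgroup.relIndex_mul_relIndex ⊥ T R bot_le hTR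
    simp only [Subgroup.relIndex_bot_left] at e1 e2
    rw [← e2, hcard] at e1
    rw [Nat.eq_of_mul_eq_mul_left Nat.card_pos e1, ← hTeq]
    exact hSRidx

end Cfsg.Agent.S1924
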