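import Cfsg.Statements.S1932
import Cfsg.Agent.Lib.Offender.QuadraticSylow
import Cfsg.Agent.Lib.Offender.Timmesfeld
import Cfsg.Agent.Lib.Transfer.ThompsonBasics
import Cfsg.Agent.Lib.PSolvable.Constrained
-- import your own Cfsg.Agent.* helpers here

set_option autoImplicit false
set_option linter.style.haveILetI false
open Cfsg

namespace Cfsg.Agent.S1932

open CfsgLib
open scoped commutatorElement

universe u

theorem dd_eq_comm {G : Type u} [Group G] (s t : G) : QuadSylow.dd s t = ⁅s, t⁆ :=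
  (commutatorElement_def s t).symm

/-- The hypothesis of class at most two, elementwise. -/
def ClassTwo {G : Type u} [Group G] (S : Subgroup G) : Prop :=
  ∀ s ∈ S, ∀ t ∈ S, ∀ r ∈ S, ⁅⁅s, t⁆, r⁆ = 1

theorem ClassTwo.map {G H : Type u} [Group G] [Group H] {S : Subgroup G} (h : ClassTwo S)
    (f : G →* H) : ClassTwo (S.map f) := by
  rintro _ ⟨s, hs, rfl⟩ _ ⟨t, ht, rfl⟩ _ ⟨r, hr, rfl⟩
  rw [← map_commutatorElement, ← map_commutatorElement, h s hs t ht r hr, map_one]

theorem classTwo_of_lcs {G : Type u} [Group G] (S : Subgroup G)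
    (h : Subgroup.lowerCentralSeries S 2 = ⊥) : ClassTwo S := by
  intro s hs t ht r hr
  have h1 : ⁅⁅s, t⁆, r⁆ ∈ Subgroup.lowerCentralSeries S 2 :=
    Subgroup.commutator_mem_commutator (Subgroup.commutator_mem_commutator hs ht) hr
  rwa [h, Subgroup.mem_bot] at h1

theorem involves_subgroup {G : Type u} [Group G] (R : Subgroup G)
    (h : ¬ Cfsg.Involves (Equiv.Perm (Fin 4)) G) : ¬ Cfsg.Involves (Equiv.Perm (Fin 4)) R :=
  fun hi => h (Offender.involves_of_injective R.subtype R.subtype_injective hi)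

theorem normal_J (n : ℕ) : ∀ (G : Type u) [Group G] [Finite G], Nat.card G = n →
    Subgroup.centralizer (Cfsg.pCore 2 G : Set G) ≤ Cfsg.pCore 2 G →
    ¬ Cfsg.Involves (Equiv.Perm (Fin 4)) G → ∀ S : Sylow 2 G, ClassTwo (S : Subgroup G) →
    (Transfer.thompsonJ 2 (S : Subgroup G)).Normal := by
  induction n using Nat.strong_induction_on with
  | _ n ih =>
  intro G _ _ hn hC hS4 S hcl
  classical
  haveI : Fact (Nat.Prime 2) := ⟨Nat.prime_two⟩
  set Q := Cfsg.pCore 2 G with hQdef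
  haveI hQn : Q.Normal := Fitting.pCore_normal 2
  have hQ2 : IsPGroup 2 Q := Fitting.pCore_isPGroup 2
  have hQsyl : ∀ P : Sylow 2 G, Q ≤ (P : Subgroup G) := fun P q hq =>
    (Fitting.mem_pCore_iff_forall_sylow.1 hq) P
  set J := Transfer.thompsonJ 2 (S : Subgroup G) with hJ
  have hJS : J ≤ (S : Subgroup G) := Transfer.thompsonJ_le 2 _
  -- descent to a proper normal subgroup containing `J`
  have descend : ∀ R : Subgroup G, R.Normal → R ≠ ⊤ → J ≤ R → J.Normal := by
    intro R hR hRtop hJR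
    have hlt : Nat.card R < n := hn ▸
      lt_of_le_of_ne (Subgroup.card_le_card_group R) fun h => hRtop (Subgroup.eq_top_of_card_eq _ h)
    have hT₀ : IsPGroup 2 ↥((S : Subgroup G).subgroupOf R) :=
      S.2.comap_of_injective R.subtype R.subtype_injective
    obtain ⟨T, hT⟩ := hT₀.exists_le_sylow
    have hTS : (T : Subgroup R).map R.subtype = (S : Subgroup G) ⊓ R := by
      have hle : (S : Subgroup G) ⊓ R ≤ (T : Subgroup R).map R.subtype := by
        rintro x ⟨hxS, hxR⟩
        exact ⟨⟨x, hxR⟩, hT hxS, rfl⟩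
      obtain ⟨P, hP⟩ := (T.2.map R.subtype).exists_le_sylow
      obtain ⟨g, hg⟩ := MulAction.exists_smul_eq G S P
      refine (Subgroup.eq_of_le_of_card_ge hle ?_).symm
      have hle2 : (T : Subgroup R).map R.subtype ≤
          ((S : Subgroup G) ⊓ R).map (MulAut.conj g).toMonoidHom := by
        intro x hx
        have hxP : x ∈ (P : Subgroup G) := hP hx
        rw [← hg, Sylow.coe_subgroup_smul] at hxP
        obtain ⟨y, hy, rfl⟩ := hxP
        have hxR : g * y * g⁻¹ ∈ R := (Subgroup.map_subtype_le _ : _ ≤ R) hx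
        refine ⟨y, ⟨hy, ?_⟩, rfl⟩
        simpa [mul_assoc] using hR.conj_mem' _ hxR g
      exact (Subgroup.card_le_of_le hle2).trans
        (Subgroup.card_map_of_injective (MulAut.conj g).injective).le
    have hclT : ClassTwo (T : Subgroup R) := by
      intro s hs t ht r hr
      have hm : ∀ z ∈ (T : Subgroup R), (z : G) ∈ (S : Subgroup G) := fun z hz =>
        (hTS.le ⟨z, hz, rfl⟩).1
      exact Subtype.ext (hcl _ (hm s hs) _ (hm t ht) _ (hm r hr))
    have hJn := ih _ hlt R rfl (PSolvable.centralizer_pCore_le_of_normal hC R)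
      (involves_subgroup R hS4) T hclT
    have hmap : (Transfer.thompsonJ 2 (T : Subgroup R)).map R.subtype = J := by
      rw [Transfer.map_thompsonJ 2 R.subtype R.subtype_injective.injOn, hTS, hJ]
      exact Transfer.thompsonJ_eq_of_le (le_inf hJS hJR) inf_le_left
    have hJQ : J ≤ Q := by
      rw [← hmap]
      refine (Subgroup.map_mono (Fitting.le_pCore hJn
        (T.2.to_le (Transfer.thompsonJ_le 2 _)))).trans (PSolvable.map_pCore_le R)
    rw [← Subgroup.normalizer_eq_top_iff, ← top_le_iff]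
    have e := Transfer.thompsonJ_eq_of_le (e := 2) hJQ (hQsyl S)
    calc (⊤ : Subgroup G) ≤ Subgroup.normalizer (Q : Set G) :=
          (Subgroup.normalizer_eq_top_iff.2 hQn).ge
      _ ≤ Subgroup.normalizer (Transfer.thompsonJ 2 Q : Set G) :=
          Transfer.normalizer_le_normalizer_thompsonJ 2 Q
      _ = Subgroup.normalizer (J : Set G) := by rw [e]
  -- the module `Ω₁(Z(Q))`
  let V : Subgroup G :=
    { carrier := {v | v ∈ Q ∧ v ∈ Subgroup.centralizer (Q : Set G) ∧ v * v = 1}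
      one_mem' := ⟨one_mem _, one_mem _, one_mul 1⟩
      mul_mem' := fun {a b} ha hb => ⟨mul_mem ha.1 hb.1, mul_mem ha.2.1 hb.2.1, by
        rw [mul_assoc, ← mul_assoc b, ← hb.2.1 a ha.1, mul_assoc a b, hb.2.2, mul_one, ha.2.2]⟩
      inv_mem' := fun {a} ha => by
        rw [show a⁻¹ = a from inv_eq_of_mul_eq_one_right ha.2.2]; exact ha }
  have hCn : (Subgroup.centralizer (Q : Set G)).Normal := inferInstance
  have hVn : V.Normal := ⟨fun v hv g => ⟨hQn.conj_mem v hv.1 g, hCn.conj_mem v hv.2.1 g, by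
    calc g * v * g⁻¹ * (g * v * g⁻¹) = g * (v * v) * g⁻¹ := by group
      _ = 1 := by rw [hv.2.2, mul_one, mul_inv_cancel]⟩⟩
  have hVQ : V ≤ Q := fun v hv => hv.1
  have D : QuadSylow.Data V := by
    refine ⟨hVn, fun x hx y hy => hy.2.1 x hx.1, fun v hv => hv.2.2, ?_, hS4⟩
    intro N _ hN T hT s t v hv hs ht
    obtain ⟨P₀, hP₀⟩ := hT.exists_le_sylow
    obtain ⟨P, rfl⟩ := Sylow.mapSurjective_surjective (f := QuotientGroup.mk' N)
      (QuotientGroup.mk'_surjective N) 2 P₀
    obtain ⟨s', hs', hse⟩ := hP₀ hs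
    obtain ⟨t', ht', hte⟩ := hP₀ ht
    obtain ⟨g, hg⟩ := MulAction.exists_smul_eq G S P
    have hclP : ClassTwo (P : Subgroup G) := by
      rw [← hg, Sylow.coe_subgroup_smul]
      exact hcl.map _
    have hd : QuadSylow.dd s v = QuadSylow.dd s' v := by
      unfold QuadSylow.dd
      rw [QuadSylow.act_eq hN (hse.symm : (s : G ⧸ N) = s') hv]
    have hd' : QuadSylow.dd s' v ∈ V := V.mul_mem (hVn.conj_mem v hv s') (V.inv_mem hv)
    rw [hd, QuadSylow.act_eq hN (hte.symm : (t : G ⧸ N) = t') hd', mul_inv_eq_iff_eq_mul,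
      dd_eq_comm]
    exact (commutatorElement_eq_one_iff_mul_comm.1
      (hclP s' hs' v (hQsyl P (hVQ hv)) t' ht')).symm
  set C := Subgroup.centralizer (V : Set G) with hCV
  haveI hCn' : C.Normal := QuadSylow.ker_normal D
  have hgood := QuadSylow.good_all D (N := C) rfl ⊤
  have hmem : ∀ A ∈ Transfer.maxAbExp 2 (S : Subgroup G),
      QuadSylow.img C A ≤ Cfsg.pCore 2 (G ⧸ C) := by
    intro A hA
    have hbest : QuadSylow.Best V C A := by
      refine ⟨(S.2.to_le hA.1).map _, fun B hB => ?_⟩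
      set cB := V ⊓ Subgroup.centralizer (B : Set G) with hcB
      haveI hAc : IsMulCommutative A := hA.2.1.1
      have hAcomm : ∀ a ∈ A, ∀ b ∈ A, a * b = b * a := fun a ha b hb =>
        congrArg Subtype.val (mul_comm' (⟨a, ha⟩ : A) ⟨b, hb⟩)
      have hW : Nat.card ↥(B ⊔ cB) ≤ Nat.card A := by
        refine hA.2.2 _ (sup_le (hB.trans hA.1) ((inf_le_left.trans hVQ).trans (hQsyl S))) ?_
        have hgen : B ⊔ cB = Subgroup.closure ((B : Set G) ∪ cB) := by
          rw [Subgroup.closure_union, Subgroup.closure_eq, Subgroup.closure_eq]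
        have hcomm : ∀ x ∈ (B : Set G) ∪ cB, ∀ y ∈ (B : Set G) ∪ cB, x * y = y * x := by
          rintro x (hx | hx) y (hy | hy)
          · exact hAcomm x (hB hx) y (hB hy)
          · exact hy.2 x hx
          · exact (hx.2 y hy).symm
          · exact hy.1.2.1 x hx.1.1
        haveI hc : IsMulCommutative ↥(B ⊔ cB) := by
          rw [hgen]; exact Subgroup.isMulCommutative_closure hcomm
        refine ⟨hc, fun z hz => ?_⟩
        rw [hgen] at hz
        induction hz using Subgroup.closure_induction with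
        | mem x hx =>
          rcases hx with hx | hx
          · exact hA.2.1.2 x (hB hx)
          · rw [pow_two]; exact hx.1.2.2
        | one => exact one_pow 2
        | mul x y hx hy ihx ihy =>
          rw [← hgen] at hx hy
          rw [Commute.mul_pow (congrArg Subtype.val
            (mul_comm' (⟨x, hx⟩ : ↥(B ⊔ cB)) ⟨y, hy⟩)), ihx, ihy, mul_one]
        | inv x _ ihx => rw [inv_pow, ihx, inv_one]
      have hI : Nat.card ↥(B ⊓ cB) ≤ Nat.card ↥(V ⊓ Subgroup.centralizer (A : Set G)) :=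
        Subgroup.card_le_of_le fun z hz => ⟨hz.2.1, fun a ha => hAcomm a ha z (hB hz.1)⟩
      exact (CfsgLib.Offender.Timmesfeld.card_mul_card_le B cB).trans (Nat.mul_le_mul hW hI)
    obtain ⟨R, hR2, -, hnorm, hAR⟩ := hgood.normal_two le_top hbest
    refine hAR.trans (Fitting.le_pCore ?_ hR2)
    rw [← Subgroup.normalizer_eq_top_iff, ← top_le_iff]
    refine le_trans (le_of_eq ?_) hnorm
    rw [QuadSylow.img, Subgroup.map_top_of_surjective _ (QuotientGroup.mk'_surjective C)]
  set R := (Cfsg.pCore 2 (G ⧸ C)).comap (QuotientGroup.mk' C) with hRdef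
  by_cases hRtop : R = ⊤
  swap
  · exact descend R ((Fitting.pCore_normal 2).comap _) hRtop
      (sSup_le fun A hA => Subgroup.map_le_iff_le_comap.1 (hmem A hA))
  -- now `G / C` is a `2`-group, so elements of odd order centralize `Z(Q)`
  have hoddC : ∀ x : G, Odd (orderOf x) → x ∈ C := by
    intro x hx
    have hxR : x ∈ R := hRtop ▸ Subgroup.mem_top x
    obtain ⟨j, hj⟩ := (Fitting.pCore_isPGroup (G := G ⧸ C) 2) ⟨_, hxR⟩
    have h2 : (x : G ⧸ C) ^ 2 ^ j = 1 := congrArg Subtype.val hj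
    rw [← QuotientGroup.eq_one_iff, ← orderOf_eq_one_iff]
    exact Nat.eq_one_of_dvd_coprimes ((Nat.coprime_two_left.2 hx).symm.pow_right j)
      (orderOf_map_dvd (QuotientGroup.mk' C) x) (orderOf_dvd_of_pow_eq_one h2)
  set ZQ := Q ⊓ Subgroup.centralizer (Q : Set G) with hZQ
  haveI hZn : ZQ.Normal := by rw [hZQ]; infer_instance
  have hoddZ : ∀ x : G, Odd (orderOf x) → ∀ z ∈ ZQ, x * z * x⁻¹ = z := by
    intro x hx
    suffices ∀ (j : ℕ) (z : G), z ∈ ZQ → z ^ 2 ^ j = 1 → x * z * x⁻¹ = z by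
      intro z hz
      obtain ⟨j, hj⟩ := hQ2 ⟨z, hz.1⟩
      exact this j z hz (congrArg Subtype.val hj)
    intro j
    induction j with
    | zero =>
      intro z _ hz
      rw [pow_zero, pow_one] at hz
      rw [hz, mul_one, mul_inv_cancel]
    | succ j ihj =>
      intro z hz hzp
      have h2 : x * (z * z) * x⁻¹ = z * z :=
        ihj _ (mul_mem hz hz) (by rw [← pow_two, ← pow_mul, ← pow_succ', hzp])
      set e := z⁻¹ * (x * z * x⁻¹) with he
      have hxz : x * z * x⁻¹ ∈ ZQ := hZn.conj_mem z hz x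
      have heZ : e ∈ ZQ := mul_mem (inv_mem hz) hxz
      have hc : x * z * x⁻¹ * z⁻¹ = z⁻¹ * (x * z * x⁻¹) := hz.1 |> fun h =>
        (hxz.2 z⁻¹ (inv_mem h)).symm
      have hee : e * e = 1 := by
        calc e * e = z⁻¹ * ((x * z * x⁻¹) * z⁻¹) * (x * z * x⁻¹) := by rw [he]; group
          _ = z⁻¹ * z⁻¹ * (x * (z * z) * x⁻¹) := by rw [hc]; group
          _ = 1 := by rw [h2]; group
      have heV : e ∈ V := ⟨heZ.1, heZ.2, hee⟩
      exact PushUp.fix_of_stabilizes hQ2 hx heZ.1
        (mul_inv_eq_iff_eq_mul.2 (hoddC x hx e heV).symm)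
        (by rw [pow_orderOf_eq_one, one_mul, inv_one, mul_one])
  -- the kernel of the action on `Q / Z(Q)`
  set N₀ := (Subgroup.centralizer ((Q.map (QuotientGroup.mk' ZQ) : Subgroup (G ⧸ ZQ)) :
    Set (G ⧸ ZQ))).comap (QuotientGroup.mk' ZQ) with hN₀
  haveI : (Q.map (QuotientGroup.mk' ZQ)).Normal := hQn.map _ (QuotientGroup.mk'_surjective ZQ)
  have hN₀n : N₀.Normal := by rw [hN₀]; infer_instance
  have hSN : (S : Subgroup G) ≤ N₀ := by
    rintro s hs _ ⟨q, hq, rfl⟩
    rw [← map_mul, ← map_mul, QuotientGroup.mk'_apply, QuotientGroup.mk'_apply, QuotientGroup.eq]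
    have hqS := hQsyl S hq
    have e : (q * s)⁻¹ * (s * q) = ⁅s⁻¹, q⁻¹⁆ := by rw [commutatorElement_def]; group
    rw [e]
    refine ⟨?_, fun r hr => ?_⟩
    · rw [commutatorElement_def, inv_inv, inv_inv]
      exact mul_mem (by simpa using hQn.conj_mem _ (inv_mem hq) s⁻¹) hq
    · exact (commutatorElement_eq_one_iff_mul_comm.1
        (hcl _ (inv_mem hs) _ (inv_mem hqS) r (hQsyl S hr))).symm
  by_cases hN₀top : N₀ = ⊤
  swap
  · exact descend N₀ hN₀n hN₀top (hJS.trans hSN)
  have hG2 : IsPGroup 2 (⊤ : Subgroup G) := by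
    refine PSolvable.isPGroup_of_forall_coprime fun x _ hx => ?_
    have hxodd : Odd (orderOf x) := Nat.coprime_two_right.1 hx
    have hxQ : x ∈ Q := hC fun q hq => by
      have hxN : x ∈ N₀ := hN₀top ▸ Subgroup.mem_top x
      have h1 := hxN (q : G ⧸ ZQ) ⟨q, hq, rfl⟩
      rw [QuotientGroup.mk'_apply, ← QuotientGroup.mk_mul, ← QuotientGroup.mk_mul,
        QuotientGroup.eq] at h1
      -- `h1 : (q * x)⁻¹ * (x * q) ∈ Z(Q)`
      have h2 : q⁻¹ * (x * q * x⁻¹) ∈ ZQ := by
        have h3 := hZn.conj_mem _ h1 x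
        rwa [show x * ((q * x)⁻¹ * (x * q)) * x⁻¹ = q⁻¹ * (x * q * x⁻¹) by group] at h3
      exact (mul_inv_eq_iff_eq_mul.1 (PushUp.fix_of_stabilizes hQ2 hxodd h2.1 (hoddZ x hxodd _ h2)
        (by rw [pow_orderOf_eq_one, one_mul, inv_one, mul_one]))).symm
    obtain ⟨j, hj⟩ := hQ2 ⟨x, hxQ⟩
    exact orderOf_eq_one_iff.1 (Nat.eq_one_of_dvd_coprimes
      ((Nat.coprime_two_left.2 hxodd).symm.pow_right j) dvd_rfl
      (orderOf_dvd_of_pow_eq_one (congrArg Subtype.val hj)))
  have hStop : (⊤ : Subgroup G) = (S : Subgroup G) := S.3 hG2 le_top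
  rw [← Subgroup.normalizer_eq_top_iff, ← top_le_iff]
  calc (⊤ : Subgroup G) ≤ Subgroup.normalizer ((S : Subgroup G) : Set G) := by
        rw [hStop]; exact Subgroup.le_normalizer
    _ ≤ _ := Transfer.normalizer_le_normalizer_thompsonJ 2 _

/-- Let G be a finite group that is 2-constrained and has no section isomorphic to the symmetric group of degree 4, and let S be a Sylow 2-subgroup of G of nilpotency class at most 2. Then G = N_G(J(S))·O_{2'}(G), where J(S) is the Thompson subgroup generated by the elementary abelian subgroups of S of largest order. -/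
theorem result {G : Type*} [Group G] [Finite G] (hcon : Cfsg.IsPConstrained 2 G) (hS4 : ¬ Cfsg.Involves (Equiv.Perm (Fin 4)) G) (S : Sylow 2 G) (hcl : Subgroup.lowerCentralSeries (S : Subgroup G) 2 = ⊥) : Subgroup.normalizer ((Cfsg.thompsonSubgroupOf 2 (S : Subgroup G)) : Set G) ⊔ Cfsg.pPrimeCore 2 G = ⊤ := by
  classical
  haveI : Fact (Nat.Prime 2) := ⟨Nat.prime_two⟩
  haveI := CfsgLib.Transfer.pPrimeCore_normal 2 G
  set O := Cfsg.pPrimeCore 2 G with hO
  set f := QuotientGroup.mk' O with hf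
  have hsurj : Function.Surjective f := QuotientGroup.mk'_surjective O
  have hK : (Nat.card f.ker).Coprime 2 := by
    rw [hf, QuotientGroup.ker_mk']; exact CfsgLib.Transfer.pPrimeCore_coprime 2
  have hinj : Set.InjOn f ((S : Subgroup G) : Set G) := fun a ha b hb h =>
    inv_mul_eq_one.1 (CfsgLib.PSolvable.eq_one_of_mem_of_mem S.2 hK (mul_mem (inv_mem ha) hb)
      (by rw [MonoidHom.mem_ker, map_mul, map_inv, h, inv_mul_cancel]))
  have hn := normal_J (Nat.card (G ⧸ O)) (G ⧸ O) rfl (CfsgLib.PSolvable.isPConstrained_iff.1 hcon)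
    (fun h => hS4 (CfsgLib.Offender.involves_of_surjective f hsurj h))
    (S.mapSurjective hsurj) (by
      rw [Sylow.coe_mapSurjective]
      exact (classTwo_of_lcs _ hcl).map f)
  rw [CfsgLib.Transfer.thompsonSubgroupOf_eq, sup_comm, eq_top_iff]
  intro x _
  have hJ : CfsgLib.Transfer.thompsonJ 2 (S : Subgroup G) ≤ S :=
    CfsgLib.Transfer.thompsonJ_le 2 _
  have hx : f x ∈ Subgroup.normalizer
      (((CfsgLib.Transfer.thompsonJ 2 (S : Subgroup G)).map f : Subgroup (G ⧸ O)) : Set (G ⧸ O)) := by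
    rw [CfsgLib.Transfer.map_thompsonJ 2 f hinj, ← Sylow.coe_mapSurjective hsurj S,
      Subgroup.normalizer_eq_top_iff.2 hn]
    exact Subgroup.mem_top _
  obtain ⟨m, hm, hme⟩ := CfsgLib.PSolvable.exists_mem_normalizer_of_map hK (S.2.to_le hJ) hx
  have hxm : x * m⁻¹ ∈ O := (QuotientGroup.eq_one_iff _).1 (by
    change f (x * m⁻¹) = 1
    rw [map_mul, map_inv, hme, mul_inv_cancel])
  exact (inv_mul_cancel_right x m) ▸ Subgroup.mul_mem_sup hxm hm

end Cfsg.Agent.S1932
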