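import Cfsg.Statements.S1936
import Cfsg.Agent.Lib.PPrimeAbelian.Count

set_option autoImplicit false
open Cfsg

namespace Cfsg.Agent.S1936

set_option linter.style.haveILetI false

universe u

theorem aux {p : ℕ} [hp : Fact p.Prime] : ∀ (n : ℕ) (G : Type u) [Group G] [Finite G],
    Nat.card G = n → CfsgLib.PPrimeAbelian.Pab G p → Group.IsSolvable G := by
  intro n
  induction n using Nat.strong_induction_on with
  | _ n ih =>
    intro G _ _ hn h
    subst hn
    rcases subsingleton_or_nontrivial G with hG | hG
    · exact Group.isSolvable_of_comm fun a b => Subsingleton.elim _ _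
    by_contra hns
    have hproper : ∀ H : Subgroup G, H ≠ ⊤ → Group.IsSolvable H := fun H hH => by
      refine ih _ ?_ H rfl (h.subgroup H)
      exact lt_of_le_of_ne H.card_le_card_group fun e => hH (Subgroup.eq_top_of_card_eq H e)
    refine CfsgLib.PPrimeAbelian.no_hyp
      (⟨⟨fun N hN => ?_⟩, hns, hproper, h⟩ : CfsgLib.PPrimeAbelian.Hyp G p)
    by_contra hcon
    push Not at hcon
    haveI := hproper N hcon.2
    haveI : Nontrivial N := (Subgroup.nontrivial_iff_ne_bot N).mpr hcon.1
    -- a normal abelian `q`-subgroup or a normal `p`-subgroup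
    obtain ⟨q, hq, N₀, hN₀, hN₀0, hN₀p, -⟩ :=
      CfsgLib.Hall.exists_normal_pgroup_ne_bot (G := N)
    haveI := hN
    set R := (Cfsg.pCore q N).map N.subtype
    haveI : R.Normal := CfsgLib.PSolvable.normal_map_of_characteristic N _
    have hRp : IsPGroup q R := (CfsgLib.Fitting.pCore_isPGroup q).map _
    have hR0 : R ≠ ⊥ := fun hb => hN₀0 (le_bot_iff.mp ((CfsgLib.Fitting.le_pCore hN₀ hN₀p).trans
      ((Subgroup.map_eq_bot_iff_of_injective _ N.subtype_injective).mp hb).le))
    have hR : IsPGroup p R ∨ (Nat.card R).Coprime p := by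
      by_cases hqp : q = p
      · exact Or.inl (hqp ▸ hRp)
      · haveI := Fact.mk hq
        obtain ⟨k, hk⟩ := IsPGroup.iff_card.mp hRp
        exact Or.inr (hk ▸ ((Nat.coprime_primes hq hp.out).mpr hqp).pow_left k)
    haveI : Group.IsSolvable (G ⧸ R) := by
      refine ih _ ?_ (G ⧸ R) rfl (h.quotient R hR)
      rw [← Subgroup.index, ← R.card_mul_index]
      have : 1 < Nat.card R := Finite.one_lt_card_iff_nontrivial.mpr
        ((Subgroup.nontrivial_iff_ne_bot R).mpr hR0)
      exact lt_mul_of_one_lt_left (Nat.pos_of_ne_zero Subgroup.index_ne_zero_of_finite) this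
    haveI : Group.IsSolvable R := by
      haveI := Fact.mk hq
      haveI := hRp.isNilpotent
      infer_instance
    exact hns (Group.isSolvable_of_ker_le_range R.subtype (QuotientGroup.mk' R) (by simp))



/-- Let p be a prime and G a finite group in which every subgroup of order prime to p is abelian of exponent dividing p − 1. Then G is solvable. -/
theorem result {G : Type*} [Group G] [Finite G] (p : ℕ) [Fact p.Prime] (h : ∀ H : Subgroup G, (Nat.card ↥H).Coprime p → IsMulCommutative ↥H ∧ ∀ x ∈ H, x ^ (p - 1) = 1) : Group.IsSolvable G := by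
  exact aux _ G rfl h

end Cfsg.Agent.S1936
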