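import Mathlib
import Cfsg.Statements.S1939
import Cfsg.Agent.Lib.Transfer.Basic
import Cfsg.Agent.Lib.Transfer.Sylow

set_option autoImplicit false
set_option linter.style.haveILetI false
set_option linter.unusedVariables false
open Cfsg

namespace Cfsg.Agent.S1939

/-- Let S be a Sylow p-subgroup of the finite group G and a an element of S that is the only G-conjugate of a lying in S. Then every power of a has the same property: for every n, the only G-conjugate of a^n lying in S is a^n. -/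
theorem result {G : Type*} [Group G] [Finite G] {p : ℕ} [Fact p.Prime] (S : Sylow p G) (a : G)
    (haS : a ∈ (S : Subgroup G)) (hwc : ∀ g : G, g * a * g⁻¹ ∈ (S : Subgroup G) → g * a * g⁻¹ = a) (n : ℕ) :
    ∀ g : G, g * a ^ n * g⁻¹ ∈ (S : Subgroup G) → g * a ^ n * g⁻¹ = a ^ n := by
  have hx : ∃ k : ℕ, orderOf a = p ^ k := by
    obtain ⟨k, hk⟩ := IsPGroup.iff_orderOf.mp S.2 ⟨a, haS⟩
    exact ⟨k, by rwa [← Subgroup.orderOf_coe] at hk⟩
  have haC : ∀ s ∈ (S : Subgroup G), s * a = a * s := fun s hs =>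
    mul_inv_eq_iff_eq_mul.mp (hwc s (Subgroup.mul_mem _ (Subgroup.mul_mem _ hs haS) (Subgroup.inv_mem _ hs)))
  intro g hg
  set y := g * a ^ n * g⁻¹ with hy
  set C := Subgroup.centralizer ({y} : Set G) with hC
  have hxC : a ∈ C := Subgroup.mem_centralizer_singleton_iff.mpr (haC y hg).symm
  have hgxC : g * a * g⁻¹ ∈ C := by
    rw [hC, Subgroup.mem_centralizer_singleton_iff, hy]
    group
  obtain ⟨R, hR⟩ := (CfsgLib.Transfer.isPGroup_zpowers (p := p) (x := (⟨a, hxC⟩ : C))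
    (by obtain ⟨k, hk⟩ := hx; exact ⟨k, by rw [← Subgroup.orderOf_coe]; exact hk⟩)).exists_le_sylow
  obtain ⟨c, hcR⟩ := CfsgLib.Transfer.exists_map_conj_le_sylow (CfsgLib.Transfer.isPGroup_zpowers (p := p)
    (x := (⟨g * a * g⁻¹, hgxC⟩ : C))
    (by obtain ⟨k, hk⟩ := hx
        exact ⟨k, by rw [← Subgroup.orderOf_coe]; exact (CfsgLib.Transfer.orderOf_conj g a).trans hk⟩)) R
  obtain ⟨P', hP'⟩ := (R.2.map C.subtype).exists_le_sylow
  obtain ⟨h, hh⟩ := CfsgLib.Transfer.exists_map_conj_sylow_eq P' S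
  have h1 : h * a * h⁻¹ = a :=
    hwc h (hh.le ⟨a, hP' ⟨_, hR (Subgroup.mem_zpowers _), rfl⟩, rfl⟩)
  have h2 : h * ((c : G) * (g * a * g⁻¹) * (c : G)⁻¹) * h⁻¹ ∈ (S : Subgroup G) :=
    hh.le ⟨_, hP' ⟨_, hcR ⟨_, Subgroup.mem_zpowers _, rfl⟩, rfl⟩, rfl⟩
  have h3 : (h * (c : G) * g) * a * (h * (c : G) * g)⁻¹ = h * a * h⁻¹ := by
    rw [h1]
    refine hwc _ ?_
    convert h2 using 1
    group
  have h4 : ((c : G) * g) * a * ((c : G) * g)⁻¹ = a := by
    have h5 := congrArg (fun z => h⁻¹ * z * h) h3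
    convert h5 using 1 <;> group
  have h6 : (c : G) * y * (c : G)⁻¹ = a ^ n := by
    conv_rhs => rw [← h4, conj_pow]
    rw [hy]
    group
  rwa [Subgroup.mem_centralizer_singleton_iff.mp c.2, mul_inv_cancel_right] at h6

end Cfsg.Agent.S1939
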