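import Mathlib
import Cfsg.Statements.S1940
import Cfsg.Agent.Lib.Coprime.Trace

set_option autoImplicit false
set_option linter.style.haveILetI false
set_option linter.unusedVariables false
open Cfsg

namespace Cfsg.Agent.S1940

/-- Let the finite group L act by automorphisms on the finite abelian group M, and let N be an L-invariant subgroup of M such that M/N is a p-group on which L acts trivially (every l • m lies in the coset mN). If every element of M is a product of an element of N and an element fixed by a Sylow p-subgroup T of L, then every element of M is a product of an element of N and an element fixed by all of L. -/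
theorem result {L : Type*} [Group L] [Finite L] {M : Type*} [CommGroup M] [Finite M] [MulDistribMulAction L M]
    {p : ℕ} [Fact p.Prime] (N : Subgroup M) (hN : ∀ (l : L) (m : M), m ∈ N → l • m ∈ N)
    (hquot : IsPGroup p (M ⧸ N)) (htriv : ∀ (l : L) (m : M), (l • m) * m⁻¹ ∈ N) (T : Sylow p L)
    (hT : ∀ m : M, ∃ n ∈ N, ∃ c : M, (∀ t ∈ (T : Subgroup L), t • c = c) ∧ m = n * c) :
    ∀ m : M, ∃ n ∈ N, ∃ c : M, (∀ l : L, l • c = c) ∧ m = n * c := by
  intro m
  obtain ⟨n, hn, c, hc, rfl⟩ := hT m
  obtain ⟨C, hC, hCc⟩ := CfsgLib.Coprime.exists_fixed_congr_pow_index (MulDistribMulAction.toMulAut L M) (T : Subgroup L) N htriv c hc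
  have hk : ¬ p ∣ (T : Subgroup L).index := T.not_dvd_index
  obtain ⟨e, he⟩ := hquot (c : M ⧸ N)
  have hcop : Nat.Coprime (T : Subgroup L).index (orderOf (c : M ⧸ N)) :=
    Nat.Coprime.coprime_dvd_right (orderOf_dvd_of_pow_eq_one he) (((Fact.out : p.Prime).coprime_iff_not_dvd.mpr hk).symm.pow_right e)
  obtain ⟨j, hj⟩ := exists_pow_eq_self_of_coprime hcop
  refine ⟨n * (c * (C ^ j)⁻¹), N.mul_mem hn ?_, C ^ j, fun l => ?_, by group⟩
  · rw [← QuotientGroup.eq_one_iff, QuotientGroup.mk_mul, QuotientGroup.mk_inv, QuotientGroup.mk_pow, mul_inv_eq_one]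
    have : (C : M ⧸ N) = (c : M ⧸ N) ^ (T : Subgroup L).index := by
      rw [← mul_inv_eq_one, ← QuotientGroup.mk_pow, ← QuotientGroup.mk_inv, ← QuotientGroup.mk_mul, QuotientGroup.eq_one_iff]
      exact hCc
    rw [this, hj]
  · rw [smul_pow']
    exact congrArg (· ^ j) (hC l)

end Cfsg.Agent.S1940
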