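import Cfsg.Statements.S1941
import Cfsg.Agent.Lib.Layer.Characteristic
import Cfsg.Agent.Lib.Fitting.Basic
-- import your own Cfsg.Agent.* helpers here

set_option autoImplicit false
open Cfsg CfsgLib

namespace Cfsg.Agent.S1941

/-- Let G be a finite group with no nontrivial normal subgroup of order prime to p, T a Sylow p-subgroup of G and E(G) the layer of G (the subgroup generated by its components). An automorphism of G of p-power order that fixes T and E(G) elementwise is inner. -/
theorem result {G : Type*} [Group G] [Finite G] {p : ℕ} [Fact p.Prime] (hcore : Cfsg.pPrimeCore p G = ⊥)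
    (T : Sylow p G) (α : MulAut G) (hα : ∃ j : ℕ, orderOf α = p ^ j) (hfixT : ∀ x ∈ (T : Subgroup G), α x = x)
    (hfixE : ∀ x ∈ Cfsg.layer G, α x = x) : ∃ g : G, ∀ x : G, α x = g * x * g⁻¹ := by
  set F := Cfsg.generalizedFittingSubgroup G with hF
  haveI hFn : F.Normal := Layer.generalizedFitting_normal
  have hFeq := Layer.fittingSubgroup_eq_pCore hcore
  have hPT : Cfsg.pCore p G ≤ (T : Subgroup G) := by
    haveI := Fitting.pCore_normal (G := G) p
    obtain ⟨R, hR⟩ := (Fitting.pCore_isPGroup (G := G) p).exists_le_sylow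
    obtain ⟨a, rfl⟩ := MulAction.exists_smul_eq G T R
    intro x hx
    have h := hR ((inferInstance : (Cfsg.pCore p G).Normal).conj_mem x hx a)
    obtain ⟨v, hv, hvx⟩ := h
    have : v = x := mul_left_cancel (mul_right_cancel hvx)
    exact this ▸ hv
  have hfix : ∀ x ∈ F, α x = x := fun x hx => by
    have hle : F ≤ α.toMonoidHom.eqLocus (MonoidHom.id G) :=
      sup_le (fun y hy => hfixE y hy) (hFeq.le.trans fun y hy => hfixT y (hPT hy))
    exact hle hx
  set Z := Subgroup.centralizer (F : Set G) with hZ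
  haveI hZn : Z.Normal := inferInstance
  have hZF : Z ≤ F := Layer.centralizer_generalizedFitting_le
  letI : CommGroup Z := { (inferInstance : Group Z) with
    mul_comm := fun a b => Subtype.ext (b.2 (a : G) (hZF a.2)) }
  have hZp : IsPGroup p Z := (Fitting.pCore_isPGroup (G := G) p).to_le (hFeq ▸
    le_sSup ⟨hZn, inferInstance⟩)
  have hc : ∀ g : G, α g * g⁻¹ ∈ Z := by
    intro g x hx
    have h1 : g⁻¹ * x * g ∈ F := by simpa using hFn.conj_mem x hx g⁻¹
    have h2 := hfix _ h1
    rw [map_mul, map_mul, map_inv, hfix x hx] at h2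
    calc x * (α g * g⁻¹) = α g * ((α g)⁻¹ * x * α g) * g⁻¹ := by group
      _ = α g * (g⁻¹ * x * g) * g⁻¹ := by rw [h2]
      _ = α g * g⁻¹ * x := by group
  let f : G ⧸ (T : Subgroup G) → Z := Quotient.lift (fun g => (⟨α g * g⁻¹, hc g⟩ : Z)) (by
    intro a b hab
    have ht : a⁻¹ * b ∈ (T : Subgroup G) := QuotientGroup.leftRel_apply.mp hab
    refine Subtype.ext ?_
    have h := hfixT _ ht
    rw [map_mul, map_inv, inv_mul_eq_iff_eq_mul] at h
    show α a * a⁻¹ = α b * b⁻¹
    rw [h]; group)
  have hf : ∀ g : G, ((f (g : G ⧸ (T : Subgroup G)) : Z) : G) = α g * g⁻¹ := fun g => rfl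
  haveI := Fintype.ofFinite (G ⧸ (T : Subgroup G))
  set m := Fintype.card (G ⧸ (T : Subgroup G)) with hm
  set z := ∏ q, f q with hz
  have key : ∀ h : G, (f (h : G ⧸ (T : Subgroup G))) ^ m * MulAut.conjNormal h z = z := by
    intro h
    rw [hz, map_prod, hm, ← Finset.card_univ, ← Finset.prod_const, ← Finset.prod_mul_distrib]
    refine Fintype.prod_equiv (MulAction.toPerm h) _ _ fun q => ?_
    induction q using QuotientGroup.induction_on with
    | H g =>
      refine Subtype.ext ?_
      show (α h * h⁻¹) * (h * (α g * g⁻¹) * h⁻¹) = α (h * g) * (h * g)⁻¹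
      rw [map_mul]; group
  obtain ⟨k, hk⟩ := hZp.exists_card_eq
  have hcop : (Nat.card Z).Coprime m := by
    rw [hk, hm, ← Nat.card_eq_fintype_card, ← Subgroup.index_eq_card]
    exact Nat.Coprime.pow_left k ((Fact.out : p.Prime).coprime_iff_not_dvd.mpr T.not_dvd_index)
  obtain ⟨w, hw⟩ := (powCoprime hcop).surjective z
  refine ⟨(w : G), fun h => ?_⟩
  have h1 : (f (h : G ⧸ (T : Subgroup G)) * MulAut.conjNormal h w) ^ m = w ^ m := by
    rw [mul_pow, ← map_pow, show w ^ m = z from hw]
    exact key h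
  have h2 : f (h : G ⧸ (T : Subgroup G)) * MulAut.conjNormal h w = w :=
    (powCoprime hcop).injective h1
  have h3 : α h * h⁻¹ * (h * w * h⁻¹) = w := by
    rw [← hf, ← MulAut.conjNormal_apply, ← Subgroup.coe_mul, h2]
  calc α h = α h * h⁻¹ * (h * w * h⁻¹) * h * (w : G)⁻¹ := by group
    _ = w * h * (w : G)⁻¹ := by rw [h3]

end Cfsg.Agent.S1941
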