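import Cfsg.Statements.S1944
import Cfsg.Agent.Lib.Transfer.SylowCore
import Cfsg.Agent.Lib.Transfer.Sylow
import Cfsg.Agent.Lib.PSolvable.Core

set_option autoImplicit false
open Cfsg CfsgLib

namespace Cfsg.Agent.S1944

open scoped IsMulCommutative

/-- Let S be a Sylow p-subgroup of the finite group G and suppose that the centre Z(S) lies in O_{p',p}(G). The elements of S each of which is its only G-conjugate in S form a subgroup W of Z(S); W is then a direct factor of Z(S): there is a subgroup K of Z(S) with W ∩ K = 1 and WK = Z(S). -/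
theorem result {G : Type*} [Group G] [Finite G] {p : ℕ} [Fact p.Prime] (S : Sylow p G)
    (hZ : ((S : Subgroup G) ⊓ Subgroup.centralizer ((S : Subgroup G) : Set G)) ≤ Cfsg.pPrimePCore p G) :
    ∃ W K : Subgroup G, (∀ x : G, x ∈ W ↔ (x ∈ (S : Subgroup G) ∧ ∀ g : G, g * x * g⁻¹ ∈ (S : Subgroup G) → g * x * g⁻¹ = x)) ∧
      K ≤ ((S : Subgroup G) ⊓ Subgroup.centralizer ((S : Subgroup G) : Set G)) ∧ W ⊓ K = ⊥ ∧ W ⊔ K = ((S : Subgroup G) ⊓ Subgroup.centralizer ((S : Subgroup G) : Set G)) := by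
  classical
  set R := (S : Subgroup G) ⊓ Cfsg.pPrimePCore p G with hR
  set N := Subgroup.normalizer (R : Set G) with hN
  set D := Cfsg.pPrimeCore p G with hD
  haveI := Transfer.pPrimeCore_normal p G
  have hDc : (Nat.card D).Coprime p := Transfer.pPrimeCore_coprime p
  have hSN : (S : Subgroup G) ≤ N := Transfer.sylow_le_normalizer_inf S
  set M := R ⊓ Subgroup.centralizer (R : Set G) with hM
  haveI : IsMulCommutative M := ⟨⟨fun a b => Subtype.ext (b.2.2 a a.2.1)⟩⟩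
  have hNM : N ≤ Subgroup.normalizer (M : Set G) :=
    Coprime.le_normalizer_inf_of_le le_rfl (Coprime.le_normalizer_centralizer le_rfl)
  set Z := (S : Subgroup G) ⊓ Subgroup.centralizer ((S : Subgroup G) : Set G) with hZdef
  have hZM : Z ≤ M := fun x hx => ⟨⟨hx.1, hZ hx⟩, fun r hr => hx.2 r hr.1⟩
  set W := Z ⊓ Subgroup.centralizer (N : Set G) with hW
  -- membership in `W`
  have hmem : ∀ x : G, x ∈ W ↔
      (x ∈ (S : Subgroup G) ∧ ∀ g : G, g * x * g⁻¹ ∈ (S : Subgroup G) → g * x * g⁻¹ = x) := by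
    intro x
    constructor
    · rintro ⟨hxZ, hxN⟩
      refine ⟨hxZ.1, fun g hg => ?_⟩
      obtain ⟨d, hd, n, hn, rfl⟩ := Transfer.exists_normalizer_mul S g
      have e : d * n * x * (d * n)⁻¹ = d * x * d⁻¹ := by
        rw [mul_assoc d n x, hxN n hn]; group
      rw [e] at hg ⊢
      have h1 : d * x * d⁻¹ * x⁻¹ = 1 := by
        refine PSolvable.eq_one_of_mem_of_mem S.2 hDc
          ((S : Subgroup G).mul_mem hg ((S : Subgroup G).inv_mem hxZ.1)) ?_
        rw [show d * x * d⁻¹ * x⁻¹ = d * (x * d⁻¹ * x⁻¹) by group]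
        exact D.mul_mem hd (Subgroup.Normal.conj_mem inferInstance _ (D.inv_mem hd) x)
      exact mul_inv_eq_one.mp h1
    · rintro ⟨hxS, hx⟩
      have hxZ : x ∈ Z := ⟨hxS, fun s hs => mul_inv_eq_iff_eq_mul.mp (hx s
        ((S : Subgroup G).mul_mem ((S : Subgroup G).mul_mem hs hxS) ((S : Subgroup G).inv_mem hs)))⟩
      exact ⟨hxZ, fun n hn => mul_inv_eq_iff_eq_mul.mp (hx n
        (((Subgroup.mem_normalizer_iff.mp hn x).mp ⟨hxS, hZ hxZ⟩).1))⟩
  -- the trace from `Z` to `W`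
  let f : N →* MulAut M := (Subgroup.normalizerMonoidHom M).comp (Subgroup.inclusion hNM)
  set T := (S : Subgroup G).subgroupOf N with hT
  haveI : Fintype (N ⧸ T) := Fintype.ofFinite _
  have hfix : ∀ z : Z, ∀ t ∈ T, f t ⟨z, hZM z.2⟩ = ⟨z, hZM z.2⟩ := fun z t ht => Subtype.ext (by
    show (t : G) * z * (t : G)⁻¹ = z
    rw [z.2.2 t ht, mul_inv_cancel_right])
  let tr : Z →* M := MonoidHom.mk' (fun z => ∏ q : N ⧸ T, f q.out ⟨z, hZM z.2⟩) fun a b => by
    rw [← Finset.prod_mul_distrib]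
    refine Finset.prod_congr rfl fun q _ => ?_
    rw [← map_mul]
    rfl
  have htr : ∀ (z : Z) (l : N), f l (tr z) = tr z := by
    intro z l
    show f l (∏ q : N ⧸ T, f q.out ⟨z, hZM z.2⟩) = _
    rw [map_prod]
    refine Fintype.prod_equiv (MulAction.toPerm l) _ _ fun q => ?_
    obtain ⟨t, ht⟩ := QuotientGroup.mk_out_eq_mul T (l * q.out)
    have e : (l • q : N ⧸ T) = QuotientGroup.mk (l * q.out) := by
      conv_lhs => rw [← QuotientGroup.out_eq' q]
      rfl
    show f l (f q.out _) = f (l • q).out _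
    rw [e, ht, map_mul f (l * q.out), MulAut.mul_apply, hfix z t t.2, map_mul, MulAut.mul_apply]
  set n := T.index with hn
  have hnp : ¬ p ∣ n := fun h => S.not_dvd_index
    (h.trans (Subgroup.relIndex_dvd_index_of_le hSN))
  have htrW : ∀ z : Z, (tr z : G) ∈ W := by
    intro z
    have hc : ∀ l ∈ N, Commute l (tr z : G) := fun l hl =>
      mul_inv_eq_iff_eq_mul.mp (congrArg Subtype.val (htr z ⟨l, hl⟩))
    exact ⟨⟨(tr z).2.1.1, fun s hs => (hc s (hSN hs)).eq⟩, fun l hl => (hc l hl).eq⟩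
  have hpow : ∀ z : Z, (z : G) ∈ W → (tr z : G) = (z : G) ^ n := by
    intro z hz
    show ((∏ q : N ⧸ T, f q.out ⟨z, hZM z.2⟩ : M) : G) = _
    rw [Finset.prod_congr rfl (g := fun _ => (⟨z, hZM z.2⟩ : M)) fun q _ => Subtype.ext (by
      show (q.out : G) * z * (q.out : G)⁻¹ = z
      rw [hz.2 q.out q.out.2, mul_inv_cancel_right]), Finset.prod_const, Finset.card_univ,
      ← Nat.card_eq_fintype_card, ← Subgroup.index_eq_card, Subgroup.coe_pow]
  have hcop : ∀ z ∈ Z, (orderOf z).Coprime n := by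
    intro z hz
    obtain ⟨k, hk⟩ := IsPGroup.iff_orderOf.mp S.2 ⟨z, hz.1⟩
    rw [← Subgroup.orderOf_coe] at hk
    rw [show orderOf z = p ^ k from hk]
    exact Nat.Coprime.pow_left k ((Fact.out : p.Prime).coprime_iff_not_dvd.mpr hnp)
  set K := tr.ker.map Z.subtype with hK
  refine ⟨W, K, hmem, Subgroup.map_subtype_le _, ?_, le_antisymm (sup_le inf_le_left (Subgroup.map_subtype_le _)) ?_⟩
  · rw [Subgroup.eq_bot_iff_forall]
    rintro x ⟨hxW, z, hz, rfl⟩
    have h1 : ((z : G)) ^ n = 1 := by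
      rw [← hpow z hxW, show tr z = 1 from hz]; rfl
    exact orderOf_eq_one_iff.mp (Nat.eq_one_of_dvd_coprimes (hcop _ z.2) dvd_rfl
      (orderOf_dvd_of_pow_eq_one h1))
  · intro z hz
    obtain ⟨j, hj⟩ := exists_pow_eq_self_of_coprime (hcop _ (htrW ⟨z, hz⟩).1).symm
    have hjm : ((tr ⟨z, hz⟩ : G)) ^ j ∈ W := pow_mem (htrW _) j
    set w : Z := ⟨(tr ⟨z, hz⟩ : G) ^ j, hjm.1⟩ with hw
    have hw1 : tr w = tr ⟨z, hz⟩ := Subtype.ext (by
      rw [hpow w hjm]
      show ((tr ⟨z, hz⟩ : G) ^ j) ^ n = _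
      rw [← pow_mul, mul_comm, pow_mul, hj])
    have hk : (⟨z, hz⟩ : Z) * w⁻¹ ∈ tr.ker := by
      rw [MonoidHom.mem_ker, map_mul, map_inv, hw1, mul_inv_cancel]
    have := Subgroup.mul_mem (W ⊔ K)
      (Subgroup.mem_sup_right (Subgroup.mem_map_of_mem Z.subtype hk))
      (Subgroup.mem_sup_left hjm)
    simpa [hw] using this

end Cfsg.Agent.S1944
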