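import Cfsg.Statements.S1945
import Cfsg.Agent.S1985
import Cfsg.Agent.Lib.PSolvable.Core
import Cfsg.Agent.Lib.Transfer.Sylow
import Cfsg.Agent.Lib.Conjugacy.Complement
import Cfsg.Agent.Lib.Coprime.Action

set_option autoImplicit false
open Cfsg

namespace Cfsg.Agent.S1945

theorem exists_split {G : Type*} [Group G] [Finite G] {p : ℕ} [hp : Fact p.Prime] (S : Sylow p G)
    (N A : Subgroup G) (hSN : (S : Subgroup G) ≤ N) (hAS : A ≤ (S : Subgroup G))
    (hAn : ∀ n ∈ N, ∀ a ∈ A, n * a * n⁻¹ ∈ A) (hAc : ∀ a ∈ A, ∀ b ∈ A, a * b = b * a)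
    (hZA : ∀ z ∈ (S : Subgroup G), (∀ s ∈ (S : Subgroup G), s * z = z * s) → z ∈ A)
    (hfix : ∀ x ∈ A, (∀ n ∈ N, n * x = x * n) →
      ∀ g : G, g * x * g⁻¹ ∈ (S : Subgroup G) → g * x * g⁻¹ = x) :
    ∃ W K : Subgroup G, (∀ x : G, x ∈ W ↔ (x ∈ (S : Subgroup G) ∧ ∀ g : G, g * x * g⁻¹ ∈ (S : Subgroup G) → g * x * g⁻¹ = x)) ∧
      K ≤ ((S : Subgroup G) ⊓ Subgroup.centralizer ((S : Subgroup G) : Set G)) ∧ W ⊓ K = ⊥ ∧ W ⊔ K = ((S : Subgroup G) ⊓ Subgroup.centralizer ((S : Subgroup G) : Set G)) := by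
  classical
  set Z := (S : Subgroup G) ⊓ Subgroup.centralizer ((S : Subgroup G) : Set G) with hZdef
  have hZA' : Z ≤ A := fun z hz => hZA z hz.1 fun s hs => hz.2 s hs
  set W := A ⊓ Subgroup.centralizer (N : Set G) with hWdef
  have hWZ : W ≤ Z := fun x hx => ⟨hAS hx.1, fun s hs => hx.2 s (hSN hs)⟩
  have hW : ∀ x, x ∈ W ↔ (x ∈ (S : Subgroup G) ∧
      ∀ g : G, g * x * g⁻¹ ∈ (S : Subgroup G) → g * x * g⁻¹ = x) := by
    intro x
    constructor
    · exact fun hx => ⟨hAS hx.1, hfix x hx.1 fun n hn => hx.2 n hn⟩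
    · rintro ⟨hxS, hx⟩
      have hxA : x ∈ A := hZA x hxS fun s hs =>
        mul_inv_eq_iff_eq_mul.mp (hx s (mul_mem (mul_mem hs hxS) (inv_mem hs)))
      exact ⟨hxA, fun n hn => mul_inv_eq_iff_eq_mul.mp (hx n (hAS (hAn n hn x hxA)))⟩
  haveI : IsMulCommutative A := ⟨⟨fun a b => Subtype.ext (hAc a a.2 b b.2)⟩⟩
  letI : CommGroup A := { (inferInstance : Group A) with mul_comm := mul_comm' }
  set S' := (S : Subgroup G).subgroupOf N with hS'
  haveI : Fintype (N ⧸ S') := Fintype.ofFinite _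
  let act : N → A → A := fun n a => ⟨(n : G) * a * (n : G)⁻¹, hAn n n.2 a a.2⟩
  have hact : ∀ (n n' : N) (z : Z), (n : N ⧸ S') = n' →
      act n ⟨z, hZA' z.2⟩ = act n' ⟨z, hZA' z.2⟩ := by
    intro n n' z hnn
    rw [QuotientGroup.eq] at hnn
    apply Subtype.ext
    show (n : G) * z * (n : G)⁻¹ = (n' : G) * z * (n' : G)⁻¹
    have h1 : (n : G)⁻¹ * n' ∈ (S : Subgroup G) := hnn
    have h2 : ((n : G)⁻¹ * n') * z = z * ((n : G)⁻¹ * n') := z.2.2 _ h1
    calc (n : G) * z * (n : G)⁻¹ = (n : G) * (z * ((n : G)⁻¹ * n')) * (n' : G)⁻¹ := by group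
      _ = (n' : G) * z * (n' : G)⁻¹ := by rw [← h2]; group
  let τ : Z →* A := MonoidHom.mk' (fun z => ∏ q : N ⧸ S', act q.out ⟨z, hZA' z.2⟩) fun z z' => by
    rw [← Finset.prod_mul_distrib]
    refine Finset.prod_congr rfl fun q _ => Subtype.ext ?_
    show _ * (((z : G)) * z') * _ = (_ * (z : G) * _) * (_ * (z' : G) * _)
    group
  have hτN : ∀ (z : Z) (n : N), act n (τ z) = τ z := by
    intro z n
    let actn : A →* A := MonoidHom.mk' (act n) fun a b => Subtype.ext (by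
      show (n : G) * ((a : G) * b) * (n : G)⁻¹ = ((n : G) * a * (n : G)⁻¹) * ((n : G) * b * (n : G)⁻¹)
      group)
    show actn (∏ q : N ⧸ S', act q.out ⟨z, hZA' z.2⟩) = ∏ q : N ⧸ S', act q.out ⟨z, hZA' z.2⟩
    rw [map_prod]
    refine Fintype.prod_equiv (MulAction.toPerm n) _ _ fun q => ?_
    have h1 := hact (n * q.out) ((MulAction.toPerm n) q).out z (by
      rw [QuotientGroup.out_eq']
      show _ = n • q
      conv_rhs => rw [← QuotientGroup.out_eq' q]
      rfl)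
    show act n (act q.out ⟨z, hZA' z.2⟩) = act _ ⟨z, hZA' z.2⟩
    rw [← h1]
    apply Subtype.ext
    show (n : G) * ((q.out : G) * z * (q.out : G)⁻¹) * (n : G)⁻¹ =
      ((n : G) * q.out) * z * ((n : G) * q.out)⁻¹
    group
  have hτW : ∀ z : Z, ((τ z : A) : G) ∈ W := fun z => ⟨(τ z).2, fun n hn => by
    have := congrArg Subtype.val (hτN z ⟨n, hn⟩)
    exact mul_inv_eq_iff_eq_mul.mp this⟩
  set m := Fintype.card (N ⧸ S') with hmdef
  have hτpow : ∀ z : Z, (z : G) ∈ W → ((τ z : A) : G) = (z : G) ^ m := by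
    intro z hz
    have : τ z = (⟨z, hZA' z.2⟩ : A) ^ m := by
      show (∏ q : N ⧸ S', act q.out ⟨z, hZA' z.2⟩) = _
      rw [Finset.prod_eq_pow_card (b := (⟨z, hZA' z.2⟩ : A)) fun q _ => ?_, Finset.card_univ]
      exact Subtype.ext (mul_inv_eq_iff_eq_mul.mpr (hz.2 _ q.out.2))
    rw [this]
    rfl
  have hm : m.Coprime p := by
    rw [Nat.coprime_comm, hp.out.coprime_iff_not_dvd, hmdef, ← Nat.card_eq_fintype_card,
      ← Subgroup.index_eq_card]
    intro h
    exact S.not_dvd_index (h.trans (Subgroup.relIndex_dvd_index_of_le hSN))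
  have hWp : IsPGroup p W := S.2.to_le fun x hx => hAS hx.1
  set K := τ.ker.map Z.subtype with hK
  refine ⟨W, K, hW, Subgroup.map_subtype_le _, ?_, le_antisymm (sup_le hWZ (Subgroup.map_subtype_le _)) ?_⟩
  · rw [eq_bot_iff]
    rintro x ⟨hxW, z, hz, rfl⟩
    have h1 := hτpow z hxW
    rw [MonoidHom.mem_ker.mp hz] at h1
    obtain ⟨k, hk⟩ := hWp ⟨_, hxW⟩
    exact Subgroup.mem_bot.mpr (orderOf_eq_one_iff.mp (Nat.eq_one_of_dvd_coprimes
      (hm.pow_right k) (orderOf_dvd_of_pow_eq_one h1.symm)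
      (orderOf_dvd_of_pow_eq_one (congrArg Subtype.val hk))))
  · intro z hz
    obtain ⟨k, hk⟩ := hWp ⟨_, hτW ⟨z, hz⟩⟩
    obtain ⟨j, hj⟩ := exists_pow_eq_self_of_coprime (n := m) (x := ((τ ⟨z, hz⟩ : A) : G)) (by
      refine Nat.Coprime.coprime_dvd_right (orderOf_dvd_of_pow_eq_one (congrArg Subtype.val hk)) ?_
      exact hm.pow_right k)
    set w : Z := ⟨((τ ⟨z, hz⟩ : A) : G) ^ j, hWZ (pow_mem (hτW ⟨z, hz⟩) j)⟩
    have hτw : τ w = τ ⟨z, hz⟩ := by
      refine Subtype.ext ((hτpow w (pow_mem (hτW ⟨z, hz⟩) j)).trans ?_)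
      show (((τ ⟨z, hz⟩ : A) : G) ^ j) ^ m = _
      rw [← pow_mul, mul_comm, pow_mul]
      exact hj
    have hmem : w⁻¹ * ⟨z, hz⟩ ∈ τ.ker := by
      rw [MonoidHom.mem_ker, map_mul, map_inv, hτw, inv_mul_cancel]
    have hz' : z = (w : G) * ((w⁻¹ * ⟨z, hz⟩ : Z) : G) := by
      rw [Subgroup.coe_mul, Subgroup.coe_inv, mul_inv_cancel_left]
    rw [hz']
    exact mul_mem (Subgroup.mem_sup_left (pow_mem (hτW ⟨z, hz⟩) j))
      (Subgroup.mem_sup_right ⟨_, hmem, rfl⟩)


/-- Let S be a Sylow p-subgroup of the finite group G, and assume that p is odd or that G is solvable. The elements of S each of which is its only G-conjugate in S form a subgroup W of Z(S); W is then a direct factor of Z(S): there is a subgroup K of Z(S) with W ∩ K = 1 and WK = Z(S). (For p = 2 and G not solvable this can fail.) -/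
theorem result {G : Type*} [Group G] [Finite G] {p : ℕ} [Fact p.Prime] (S : Sylow p G) (h : p ≠ 2 ∨ Group.IsSolvable G) :
    ∃ W K : Subgroup G, (∀ x : G, x ∈ W ↔ (x ∈ (S : Subgroup G) ∧ ∀ g : G, g * x * g⁻¹ ∈ (S : Subgroup G) → g * x * g⁻¹ = x)) ∧
      K ≤ ((S : Subgroup G) ⊓ Subgroup.centralizer ((S : Subgroup G) : Set G)) ∧ W ⊓ K = ⊥ ∧ W ⊔ K = ((S : Subgroup G) ⊓ Subgroup.centralizer ((S : Subgroup G) : Set G)) := by
  classical
  by_cases hp : p = 2
  · haveI : Group.IsSolvable G := h.resolve_left fun h' => h' hp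
    haveI := CfsgLib.Transfer.pPrimeCore_normal p G
    set O := Cfsg.pPrimeCore p G with hO
    set π := QuotientGroup.mk' O
    have hπs : Function.Surjective π := QuotientGroup.mk'_surjective O
    haveI := CfsgLib.Fitting.pCore_normal (G := G ⧸ O) p
    set L := (Cfsg.pCore p (G ⧸ O)).comap π with hL
    haveI : L.Normal := Subgroup.Normal.comap inferInstance π
    have hOcop : (Nat.card O).Coprime p := CfsgLib.Transfer.pPrimeCore_coprime p
    have hC : Subgroup.centralizer (Cfsg.pCore p (G ⧸ O) : Set (G ⧸ O)) ≤ Cfsg.pCore p (G ⧸ O) :=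
      CfsgLib.PSolvable.centralizer_pCore_le (CfsgLib.PSolvable.isPSolvable_of_isSolvable inferInstance)
        (CfsgLib.PSolvable.pPrimeCore_eq_bot_of_ker hπs (QuotientGroup.ker_mk' O))
    have hcoreS : Cfsg.pCore p (G ⧸ O) ≤ ((S.mapSurjective hπs : Sylow p (G ⧸ O)) : Subgroup (G ⧸ O)) :=
      IsPGroup.le_sylow_of_normal (CfsgLib.Fitting.pCore_isPGroup p) _
    set Q := (S : Subgroup G) ⊓ L with hQ
    set PL : Sylow p L := IsPGroup.toSylow (S.2.comap_of_injective L.subtype L.subtype_injective)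
      (fun h' => S.not_dvd_index (h'.trans (CfsgLib.Transfer.relIndex_dvd_index_of_normal (S : Subgroup G) L)))
    have hQimg : Q.map π = Cfsg.pCore p (G ⧸ O) := by
      refine le_antisymm ((Subgroup.map_mono inf_le_right).trans (Subgroup.map_comap_le π _)) ?_
      intro y hy
      obtain ⟨s, hs, rfl⟩ := hcoreS hy
      exact ⟨s, ⟨hs, hy⟩, rfl⟩
    set N := Subgroup.normalizer (Q : Set G) with hN
    have hNimg : N.map π = ⊤ := by
      have h1 := Sylow.normalizer_sup_eq_top PL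
      rw [show (PL : Subgroup L).map L.subtype = Q from
        Subgroup.subgroupOf_map_subtype (S : Subgroup G) L] at h1
      have h2 := congrArg (Subgroup.map π) h1
      rw [Subgroup.map_sup, Subgroup.map_top_of_surjective _ hπs] at h2
      refine eq_top_iff.mpr (h2.ge.trans (sup_le le_rfl ?_))
      refine (Subgroup.map_comap_le π _).trans ?_
      rw [← hQimg]
      exact Subgroup.map_mono Subgroup.le_normalizer
    have hSN : (S : Subgroup G) ≤ N := fun s hs =>
      CfsgLib.Coprime.le_normalizer_inf_of_le Subgroup.le_normalizer Subgroup.le_normalizer_of_normal hs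
    refine exists_split S N (Q ⊓ Subgroup.centralizer (Q : Set G)) hSN
      (fun x hx => hx.1.1) (fun n hn a ha => ?_) (fun a ha b hb => hb.2 a ha.1) (fun z hz hzc => ?_)
      fun x hx hxN g hg => ?_
    · have h1 : n ∈ Subgroup.normalizer ((Q ⊓ Subgroup.centralizer (Q : Set G) : Subgroup G) : Set G) :=
        CfsgLib.Coprime.le_normalizer_inf_of_le le_rfl (CfsgLib.Coprime.le_normalizer_centralizer le_rfl) hn
      exact (Subgroup.mem_normalizer_iff.mp h1 a).mp ha
    · refine ⟨⟨hz, hC fun y hy => ?_⟩, fun q hq => hzc q hq.1⟩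
      obtain ⟨s, hs, rfl⟩ := hcoreS hy
      rw [← map_mul, ← map_mul, hzc s hs]
    · obtain ⟨n, hn, hne⟩ : π g ∈ N.map π := hNimg ▸ Subgroup.mem_top _
      set o := g * n⁻¹ with ho
      have hoO : o ∈ O := by
        rw [← QuotientGroup.eq_one_iff]
        show π (g * n⁻¹) = 1
        rw [map_mul, map_inv, hne, mul_inv_cancel]
      have hnx : n * x * n⁻¹ = x := by rw [hxN n hn, mul_inv_cancel_right]
      have hgx : g * x * g⁻¹ = o * x * o⁻¹ := by
        rw [show g = o * n by rw [ho, inv_mul_cancel_right],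
          show o * n * x * (o * n)⁻¹ = o * (n * x * n⁻¹) * o⁻¹ by group, hnx]
      rw [hgx] at hg ⊢
      have h1 : o * x * o⁻¹ * x⁻¹ = 1 := by
        refine CfsgLib.PSolvable.eq_one_of_mem_of_mem S.2 hOcop (mul_mem hg (inv_mem hx.1.1)) ?_
        rw [show o * x * o⁻¹ * x⁻¹ = o * (x * o⁻¹ * x⁻¹) by group]
        exact mul_mem hoO ((CfsgLib.Transfer.pPrimeCore_normal p G).conj_mem _ (inv_mem hoO) x)
      exact mul_inv_eq_one.mp h1
  · set W₀ := Cfsg.inducedFunctor (G := G) Cfsg.kInfLower (S : Subgroup G) with hW₀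
    have hctl := Cfsg.Agent.S1985.result (G := G) (p := p) hp
    obtain ⟨hcen, T, -, hTp, hidx, hclosed⟩ := hctl
    have hW₀S : W₀ ≤ (S : Subgroup G) := Subgroup.map_subtype_le _
    set N := Subgroup.normalizer (W₀ : Set G) with hN
    have hSN : (S : Subgroup G) ≤ N := Subgroup.le_normalizer.trans
      (CfsgLib.Conjugacy.normalizer_le (CfsgLib.Conjugacy.isCharPFunctor_kInfLower p) S.2)
    refine exists_split S N (W₀ ⊓ Subgroup.centralizer (W₀ : Set G)) hSN
      (fun x hx => hW₀S hx.1) (fun n hn a ha => ?_) (fun a ha b hb => hb.2 a ha.1)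
      (fun z hz hzc => ⟨hcen _ S.2 ⟨hz, hzc⟩, fun q hq => hzc q (hW₀S hq)⟩) fun x hx hxN g hg => ?_
    · have h1 : n ∈ Subgroup.normalizer ((W₀ ⊓ Subgroup.centralizer (W₀ : Set G) : Subgroup G) : Set G) :=
        CfsgLib.Coprime.le_normalizer_inf_of_le le_rfl (CfsgLib.Coprime.le_normalizer_centralizer le_rfl) hn
      exact (Subgroup.mem_normalizer_iff.mp h1 a).mp ha
    · rw [Subgroup.relIndex_top_right] at hidx
      obtain ⟨c, hc⟩ := CfsgLib.Transfer.exists_map_conj_sylow_eq S (hTp.toSylow hidx)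
      change (S : Subgroup G).map (MulAut.conj c).toMonoidHom = T at hc
      have hmem : ∀ y, y ∈ (S : Subgroup G) → c * y * c⁻¹ ∈ T := fun y hy => hc.le ⟨y, hy, rfl⟩
      have hWT : W₀.map (MulAut.conj c).toMonoidHom = Cfsg.inducedFunctor Cfsg.kInfLower T := by
        rw [← hc]
        exact CfsgLib.Conjugacy.map (CfsgLib.Conjugacy.isCharPFunctor_kInfLower p) _ S.2
          (MulAut.conj c).injective.injOn
      have h1 := hclosed (c * x * c⁻¹) ⟨hmem x (hW₀S hx.1), fun y hy => ?_⟩ (c * g * c⁻¹)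
        (Subgroup.mem_top _) (by
          rw [show c * g * c⁻¹ * (c * x * c⁻¹) * (c * g * c⁻¹)⁻¹ = c * (g * x * g⁻¹) * c⁻¹ by group]
          exact hmem _ hg)
      · rw [show c * g * c⁻¹ * (c * x * c⁻¹) * (c * g * c⁻¹)⁻¹ = c * (g * x * g⁻¹) * c⁻¹ by group] at h1
        exact mul_left_cancel (mul_right_cancel h1)
      · have hy' : c⁻¹ * y * c ∈ N := by
          have h2 := (Subgroup.mem_inf.mp hy).2
          rw [← hWT] at h2
          have h3 := Subgroup.map_equiv_normalizer_eq W₀ (MulAut.conj c)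
          rw [← h3] at h2
          obtain ⟨n, hn, rfl⟩ := h2
          simpa [mul_assoc] using hn
        have h2 := hxN _ hy'
        calc y * (c * x * c⁻¹) = c * ((c⁻¹ * y * c) * x) * c⁻¹ := by group
          _ = c * (x * (c⁻¹ * y * c)) * c⁻¹ := by rw [h2]
          _ = c * x * c⁻¹ * y := by group

end Cfsg.Agent.S1945
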