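import Cfsg.Statements.S1946
import Mathlib
import Cfsg.Agent.Lib.Transfer.SmallElements

set_option autoImplicit false
set_option linter.style.haveILetI false
open Cfsg

namespace Cfsg.Agent.S1946

/-- Let P be a Sylow p-subgroup of the finite group G. Then G has a normal p-complement if and only if P controls the fusion of its elements of order dividing p (dividing 4 when p = 2): whenever such an element a of P has a G-conjugate g a g⁻¹ in P, that conjugate is already x a x⁻¹ for some x in P. -/
theorem result {G : Type*} [Group G] [Finite G] {p : ℕ} [Fact p.Prime] (P : Sylow p G) :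
    Cfsg.HasNormalPComplement p G ↔
      ∀ a ∈ (P : Subgroup G), (a ^ p = 1 ∨ (p = 2 ∧ a ^ 4 = 1)) → ∀ g : G, g * a * g⁻¹ ∈ (P : Subgroup G) →
        ∃ x ∈ (P : Subgroup G), g * a * g⁻¹ = x * a * x⁻¹ := by
  constructor
  · intro hN a ha _ g hga
    obtain ⟨k, hk, hk'⟩ := CfsgLib.Transfer.exists_mem_conj_eq_of_pAutomizers
      (CfsgLib.Transfer.pAutomizers_of_hasNormalPComplement hN) P (A := {a}) (g := g⁻¹)
      (Set.singleton_subset_iff.mpr ha)
      (by rintro _ ⟨b, rfl : b = a, rfl⟩; change g⁻¹⁻¹ * b * g⁻¹ ∈ (P : Subgroup G); rw [inv_inv]; exact hga)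
    refine ⟨k⁻¹, inv_mem hk, ?_⟩
    rw [inv_inv, hk' a rfl, inv_inv]
  · intro h
    haveI : Group.IsNilpotent (P : Subgroup G) := P.2.isNilpotent
    obtain ⟨c, hc⟩ := Group.IsNilpotent.nilpotent (G := (P : Subgroup G))
    set F : ℕ → Subgroup G := fun i =>
      (Subgroup.upperCentralSeries (P : Subgroup G) i).map (P : Subgroup G).subtype with hF
    refine CfsgLib.Transfer.hasNormalPComplement_of_pAutomizers
      (CfsgLib.Transfer.pAutomizers_of_sylow P fun Q hQP g hg hgc => ?_)
    refine CfsgLib.Transfer.mem_centralizer_of_series F ?_ ?_ c Q (P.2.to_le hQP) ?_ g hg hgc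
    · simp [hF]
    · intro i R _ hR g hg a ha hsmall
      obtain ⟨⟨a', ha'⟩, haZ, haa⟩ := hR ha
      obtain rfl : a' = a := haa
      have hgaR := (Subgroup.mem_normalizer_iff.mp hg a').mp ha
      obtain ⟨x, hx, hxa⟩ := h a' ha' hsmall g (Subgroup.map_subtype_le _ (hR hgaR))
      have h2 := inv_mem (Subgroup.mem_upperCentralSeries_succ_iff.mp haZ ⟨x, hx⟩)
      refine ⟨_, h2, ?_⟩
      rw [hxa]
      simp [commutatorElement_def, mul_assoc]
    · intro q hq
      exact ⟨⟨q, hQP hq⟩, by rw [hc]; trivial, rfl⟩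

end Cfsg.Agent.S1946
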