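import Cfsg.Statements.S1947
import Mathlib
import Cfsg.Agent.Lib.Transfer.SmallElements

set_option autoImplicit false
set_option linter.style.haveILetI false
open Cfsg

namespace Cfsg.Agent.S1947

/-- Let G be a finite group and p a prime. If every element of G of order dividing p (dividing 4 when p = 2) lies in some fixed term Z_n(G) of the upper central series, then G has a normal p-complement. -/
theorem result {G : Type*} [Group G] [Finite G] {p : ℕ} [Fact p.Prime] (n : ℕ)
    (h : ∀ a : G, (a ^ p = 1 ∨ (p = 2 ∧ a ^ 4 = 1)) → a ∈ Subgroup.upperCentralSeries G n) : Cfsg.HasNormalPComplement p G := by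
  have hstep : ∀ (i : ℕ) (Q : Subgroup G), IsPGroup p Q → Q ≤ Subgroup.upperCentralSeries G (i + 1) →
      ∀ g ∈ Subgroup.normalizer (Q : Set G), ∀ a ∈ Q, (a ^ p = 1 ∨ (p = 2 ∧ a ^ 4 = 1)) →
        g * a * g⁻¹ * a⁻¹ ∈ Subgroup.upperCentralSeries G i := by
    intro i Q _ hQ g _ a ha _
    have h1 := inv_mem (Subgroup.mem_upperCentralSeries_succ_iff.mp (hQ ha) g)
    simpa [commutatorElement_def, mul_assoc] using h1
  refine CfsgLib.Transfer.hasNormalPComplement_of_pAutomizers fun Q hQ g hg hgc => ?_
  refine CfsgLib.Transfer.mem_centralizer_of_fixes_small hQ hg hgc fun a ha hsmall => ?_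
  have hgN : g ∈ Subgroup.normalizer ((Q ⊓ Subgroup.upperCentralSeries G n : Subgroup G) : Set G) := by
    rw [Subgroup.mem_normalizer_iff]
    intro x
    simp only [Subgroup.mem_inf, ← Subgroup.mem_normalizer_iff.mp hg x]
    refine and_congr_right fun _ => ⟨fun hx => Subgroup.Normal.conj_mem inferInstance x hx g, fun hx => ?_⟩
    have := Subgroup.Normal.conj_mem inferInstance _ hx g⁻¹
    simpa [mul_assoc] using this
  have := CfsgLib.Transfer.mem_centralizer_of_series (Subgroup.upperCentralSeries G)
    (Subgroup.upperCentralSeries_zero G) hstep n (Q ⊓ Subgroup.upperCentralSeries G n)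
    (hQ.to_le inf_le_left) inf_le_right g hgN hgc
  rw [← Subgroup.mem_centralizer_iff.mp this a (Subgroup.mem_inf.mpr ⟨ha, h a hsmall⟩),
    mul_inv_cancel_right]

end Cfsg.Agent.S1947
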