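import Cfsg.Statements.S1948
import Cfsg.Agent.Lib.Transfer.Sylow
import Cfsg.Agent.Lib.Transfer.Focal
import Cfsg.Agent.Lib.Fitting.Basic
import Cfsg.Agent.Lib.PSolvable.Core
import Cfsg.Agent.Lib.PSolvable.Constrained
import Cfsg.Agent.Lib.TightlyEmbedded.Basic

set_option autoImplicit false
open Cfsg
set_option linter.style.haveILetI false

namespace Cfsg.Agent.S1948

/-- With `O_{p'} = 1` and a normal Sylow subgroup, the `p`-core is self-centralizing. -/
theorem centralizer_pCore_le_of_normal_sylow {G : Type*} [Group G] [Finite G] {p : ℕ}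
    [Fact p.Prime] (hO : Cfsg.pPrimeCore p G = ⊥) (S : Sylow p G) (hS : (S : Subgroup G).Normal) :
    Subgroup.centralizer (Cfsg.pCore p G : Set G) ≤ Cfsg.pCore p G := by
  haveI := CfsgLib.Fitting.pCore_normal (G := G) p
  set C := Subgroup.centralizer (Cfsg.pCore p G : Set G)
  haveI : C.Normal := Subgroup.normal_centralizer
  have hSc : (S : Subgroup G) ≤ Cfsg.pCore p G := CfsgLib.Fitting.le_pCore hS S.2
  let P : Sylow p C := default
  have hPc : (P : Subgroup C) ≤ Subgroup.center C := by
    intro x hx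
    rw [Subgroup.mem_center_iff]
    intro y
    have hmem : (x : G) ∈ (S : Subgroup G) := by
      obtain ⟨R, hR⟩ := (P.2.map C.subtype).exists_le_sylow
      haveI := hS
      haveI := Sylow.unique_of_normal S hS
      rw [Subsingleton.elim S R]
      exact hR ⟨x, hx, rfl⟩
    exact Subtype.ext (y.2 _ (hSc hmem)).symm
  have hcompl := CfsgLib.Transfer.hasNormalPComplement_of_central P hPc
  have hbot : Cfsg.pResidual p C = ⊥ := by
    rw [← CfsgLib.Transfer.pPrimeCore_eq_pResidual hcompl]
    have h1 := CfsgLib.PSolvable.map_pPrimeCore_le (p := p) C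
    rw [hO, le_bot_iff] at h1
    exact (Subgroup.map_eq_bot_iff_of_injective _ C.subtype_injective).mp h1
  refine CfsgLib.Fitting.le_pCore inferInstance
    (CfsgLib.PSolvable.isPGroup_of_forall_coprime fun x hx hc => ?_)
  have h2 := CfsgLib.Transfer.mem_pResidual_of_coprime (G := C) (x := ⟨x, hx⟩)
    (by rwa [← Subgroup.orderOf_coe])
  rw [hbot, Subgroup.mem_bot] at h2
  exact congrArg Subtype.val h2

/-- Let S be a Sylow p-subgroup of the finite group G. Then G = N_G(S)·O_{p'}(G) if and only if G is p-constrained and N_G(S) controls fusion in S, in the sense that whenever a subgroup Q of S has a conjugate g Q g⁻¹ inside S, the element g is a product n c with n normalizing S and c centralizing Q. -/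
theorem result {G : Type*} [Group G] [Finite G] {p : ℕ} [Fact p.Prime] (S : Sylow p G) :
    Subgroup.normalizer ((S : Subgroup G) : Set G) ⊔ Cfsg.pPrimeCore p G = ⊤ ↔
      (Cfsg.IsPConstrained p G ∧
        ∀ Q : Subgroup G, Q ≤ (S : Subgroup G) → ∀ g : G, Q.map (MulAut.conj g).toMonoidHom ≤ (S : Subgroup G) →
          ∃ n ∈ Subgroup.normalizer ((S : Subgroup G) : Set G), ∃ c ∈ Subgroup.centralizer (Q : Set G), g = n * c) := by
  haveI := CfsgLib.Transfer.pPrimeCore_normal p G
  set K := Cfsg.pPrimeCore p G with hK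
  set N := Subgroup.normalizer ((S : Subgroup G) : Set G) with hN
  set f := QuotientGroup.mk' K with hf
  have hsurj : Function.Surjective f := QuotientGroup.mk'_surjective _
  have hker : f.ker = K := QuotientGroup.ker_mk' K
  constructor
  · intro h
    refine ⟨?_, ?_⟩
    · rw [CfsgLib.PSolvable.isPConstrained_iff]
      have hSn : ((S.mapSurjective hsurj : Sylow p (G ⧸ K)) : Subgroup (G ⧸ K)).Normal := by
        rw [Sylow.coe_mapSurjective, ← Subgroup.normalizer_eq_top_iff, eq_top_iff,
          ← Subgroup.map_top_of_surjective f hsurj, ← h, Subgroup.map_sup,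
          Subgroup.map_eq_bot_iff K |>.mpr hker.ge, sup_bot_eq]
        exact Subgroup.le_normalizer_map f
      exact centralizer_pCore_le_of_normal_sylow
        (CfsgLib.PSolvable.pPrimeCore_eq_bot_of_ker hsurj hker) _ hSn
    · intro Q hQ g hg
      have h1 : g ∈ ((N ⊔ K : Subgroup G) : Set G) := h ▸ Subgroup.mem_top g
      rw [Subgroup.mul_normal] at h1
      obtain ⟨n, hn, k, hk, rfl⟩ := h1
      refine ⟨n, hn, k, ?_, rfl⟩
      intro x hx
      have h2 : n * k * x * (n * k)⁻¹ ∈ (S : Subgroup G) := hg ⟨x, hx, rfl⟩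
      have h3 : k * x * k⁻¹ ∈ (S : Subgroup G) :=
        (Subgroup.mem_normalizer_iff.mp hn _).mpr (by
          rwa [show n * (k * x * k⁻¹) * n⁻¹ = n * k * x * (n * k)⁻¹ by group])
      have h4 : k * x * k⁻¹ * x⁻¹ ∈ (S : Subgroup G) := mul_mem h3 (inv_mem (hQ hx))
      have h5 : k * (x * k⁻¹ * x⁻¹) ∈ K :=
        mul_mem hk (Subgroup.Normal.conj_mem inferInstance _ (inv_mem hk) x)
      rw [← mul_assoc, ← mul_assoc] at h5
      have h6 := CfsgLib.PSolvable.eq_one_of_mem_of_mem S.2 (CfsgLib.Transfer.pPrimeCore_coprime p) h4 h5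
      exact (mul_inv_eq_iff_eq_mul.mp (mul_inv_eq_one.mp h6)).symm
  · rintro ⟨hcons, hfus⟩
    set U := Cfsg.pPrimePCore p G with hU
    have hUc : U = (Cfsg.pCore p (G ⧸ K)).comap f := rfl
    haveI : U.Normal := by rw [hUc]; exact (CfsgLib.Fitting.pCore_normal p).comap _
    have hUSK : U ≤ (S : Subgroup G) ⊔ K := by
      haveI := CfsgLib.Fitting.pCore_normal (G := G ⧸ K) p
      calc U ≤ ((S : Subgroup G).map f).comap f := Subgroup.comap_mono
            ((CfsgLib.Fitting.pCore_isPGroup p).le_sylow_of_normal (S.mapSurjective hsurj))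
        _ = (S : Subgroup G) ⊔ f.ker := Subgroup.comap_map_eq _ _
        _ = _ := by rw [hker]
    have hidx : ¬ p ∣ ((S : Subgroup G) ⊓ U).relIndex U :=
      CfsgLib.TightlyEmbedded.not_dvd_relIndex_inf le_top Subgroup.le_normalizer_of_normal
        (by rw [Subgroup.relIndex_top_right]; exact S.not_dvd_index)
    let P : Sylow p U :=
      ((S.2.to_le (inf_le_left : (S : Subgroup G) ⊓ U ≤ _)).comap_of_injective _
        U.subtype_injective).toSylow hidx
    have hP : (P : Subgroup U).map U.subtype = (S : Subgroup G) ⊓ U :=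
      Subgroup.map_subgroupOf_eq_of_le inf_le_right
    rw [eq_top_iff, ← Sylow.normalizer_sup_eq_top P]
    refine sup_le (fun g hg => ?_) (hUSK.trans (sup_le_sup_right Subgroup.le_normalizer _))
    rw [hP] at hg
    have hgP : ((S : Subgroup G) ⊓ U).map (MulAut.conj g).toMonoidHom ≤ (S : Subgroup G) :=
      (CfsgLib.Transfer.map_conj_eq_self_iff.mpr hg).le.trans inf_le_left
    obtain ⟨n, hn, c, hc, rfl⟩ := hfus _ inf_le_left g hgP
    refine mul_mem (Subgroup.mem_sup_left hn)
      (sup_le_sup_right Subgroup.le_normalizer K (hUSK (hcons P ?_)))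
    rw [hP]
    exact hc

end Cfsg.Agent.S1948
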