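import Cfsg.Statements.S1949
import Cfsg.Agent.Lib.Critical.Detect
import Cfsg.Agent.Lib.PPrimeAbelian.Tools

set_option autoImplicit false
open Cfsg

namespace Cfsg.Agent.S1949

/-- Let P be a finite p-group and G a group of automorphisms of P containing the inner automorphisms. Then there is a G-invariant subgroup D of P, contained in the subgroup generated by the elements x⁻¹α(x) with x in P and α in O^p(G), of exponent dividing p when p is odd and dividing 4 when p = 2, with [D, P] ≤ Z(D), such that every automorphism in G of order prime to p that fixes D elementwise is the identity; moreover every maximal abelian subgroup A of D is normal in P and every automorphism in G fixing A elementwise has p-power order. -/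
theorem result {P : Type*} [Group P] [Finite P] {p : ℕ} [Fact p.Prime] (hP : IsPGroup p P)
    (G : Subgroup (MulAut P)) (hG : Cfsg.Inn P ≤ G) :
    ∃ D : Subgroup P,
      (∀ α ∈ G, D.map α.toMonoidHom = D) ∧
      D ≤ Subgroup.closure {y : P | ∃ α ∈ Cfsg.pResidual p ↥G, ∃ x : P, y = x⁻¹ * (α : MulAut P) x} ∧
      (∀ d ∈ D, d ^ p = 1 ∨ (p = 2 ∧ d ^ 4 = 1)) ∧
      ⁅D, (⊤ : Subgroup P)⁆ ≤ D ⊓ Subgroup.centralizer (D : Set P) ∧
      (∀ α ∈ G, (orderOf α).Coprime p → (∀ d ∈ D, α d = d) → α = 1) ∧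
      ∀ A : Subgroup P, A ≤ D → IsMulCommutative ↥A →
        (∀ B : Subgroup P, A ≤ B → B ≤ D → IsMulCommutative ↥B → B = A) →
        A.Normal ∧ ∀ α ∈ G, (∀ a ∈ A, α a = a) → ∃ k : ℕ, orderOf α = p ^ k := by
  have hconj : ∀ g : P, MulAut.conj g ∈ G := fun g => hG ⟨g, rfl⟩
  set N := Subgroup.closure {y : P | ∃ α ∈ Cfsg.pResidual p ↥G, ∃ x : P, y = x⁻¹ * (α : MulAut P) x}
    with hNdef
  haveI hR : (Cfsg.pResidual p ↥G).Normal := by
    refine ⟨fun a ha g => ?_⟩
    have h : Cfsg.pResidual p ↥G ≤ (Cfsg.pResidual p ↥G).comap (MulAut.conj g).toMonoidHom :=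
      (Subgroup.closure_le _).mpr fun b hb => Subgroup.subset_closure (by
        show Nat.Coprime (orderOf ((MulAut.conj g).toMonoidHom b)) p
        rw [orderOf_injective _ (MulAut.conj g).injective]
        exact hb)
    exact h ha
  have hN : CfsgLib.Critical.Detect.Inv G N := by
    intro β hβ y hy
    have h : N ≤ N.comap (β : P ≃* P).toMonoidHom := (Subgroup.closure_le _).mpr (by
      rintro _ ⟨α, hα, x, rfl⟩
      refine Subgroup.subset_closure
        ⟨(⟨β, hβ⟩ : ↥G) * α * (⟨β, hβ⟩ : ↥G)⁻¹, hR.conj_mem α hα _, β x, ?_⟩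
      show β (x⁻¹ * (α : MulAut P) x) = (β x)⁻¹ * (β * (α : MulAut P) * β⁻¹) (β x)
      simp [MulAut.mul_apply, MulAut.inv_apply_self])
    exact h hy
  obtain ⟨D, hD, hDN, hexp, hcen, hdet⟩ := CfsgLib.Critical.Detect.exists_detecting hP hconj hN
    (fun α hα hc x => Subgroup.subset_closure ⟨⟨α, hα⟩, Subgroup.subset_closure (by
      show Nat.Coprime (orderOf (⟨α, hα⟩ : ↥G)) p
      rwa [← Subgroup.orderOf_coe]), x, rfl⟩)
  refine ⟨D, fun α hα => le_antisymm (by rintro _ ⟨x, hx, rfl⟩; exact hD α hα x hx)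
    (fun x hx => ⟨α⁻¹ x, hD _ (G.inv_mem hα) x hx, MulAut.apply_inv_self _ α x⟩), hDN, ?_, hcen,
    hdet, fun A hAD hA hmax => ?_⟩
  · intro d hd
    have h := hexp d hd
    by_cases h2 : p = 2
    · right
      rw [CfsgLib.Critical.Detect.expo, if_pos h2] at h
      exact ⟨h2, h⟩
    · left
      rwa [CfsgLib.Critical.Detect.expo, if_neg h2] at h
  obtain ⟨hAn, hself⟩ := CfsgLib.Critical.Detect.maximal_abelian_normal hcen hAD hA hmax
  refine ⟨hAn, fun α hα hfix => ?_⟩
  obtain ⟨u, v, huv, -, hv, ⟨k, hk⟩, hcop⟩ := CfsgLib.PPrimeAbelian.exists_split (Fact.out : p.Prime) α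
  have hvG : v ∈ G := Subgroup.zpowers_le.mpr hα hv
  have hvA : ∀ a ∈ A, v a = a := by
    intro a ha
    obtain ⟨n, rfl⟩ := hv
    have h : ∀ n : ℕ, (α ^ n) a = a := by
      intro n
      induction n with
      | zero => rfl
      | succ n ih => rw [pow_succ, MulAut.mul_apply, hfix a ha, ih]
    cases n with
    | ofNat m => simpa using h m
    | negSucc m =>
      simp only [zpow_negSucc]
      conv_lhs => rw [← h (m + 1)]
      exact MulAut.inv_apply_self _ _ _
  have hv1 : v = 1 := by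
    refine hdet v hvG hcop fun d hd => ?_
    refine CfsgLib.Critical.Detect.eq_self_of_fix hP hcop (hvA _ (hself _ ?_ ?_))
    · exact D.mul_mem (D.inv_mem hd) (hD v hvG d hd)
    intro a ha
    have h1 : v (d * a * d⁻¹) = d * a * d⁻¹ := hvA _ (hAn.conj_mem a ha d)
    rw [map_mul, map_mul, map_inv, hvA a ha] at h1
    calc a * (d⁻¹ * v d) = d⁻¹ * (d * a * d⁻¹) * v d := by group
      _ = d⁻¹ * (v d * a * (v d)⁻¹) * v d := by rw [h1]
      _ = d⁻¹ * v d * a := by group
  exact ⟨k, by rw [huv, hv1, mul_one, hk]⟩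

end Cfsg.Agent.S1949
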