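import Cfsg.Statements.S1952
import Cfsg.Agent.Lib.Transfer.WreathQuotient
import Cfsg.Agent.Lib.Fusion.Yoshida
import Cfsg.Agent.Lib.Critical.Basic

set_option autoImplicit false
open Cfsg

namespace Cfsg.Agent.S1952

/-- Let P be a finite p-group with a normal elementary abelian subgroup A of index p, and let x ∈ A and y ∈ P with y outside A. If the product of the p conjugates y^(-i) x y^i (i = 0, …, p−1) is not the identity, then the wreath product Z_p ≀ Z_p, realised as a Sylow p-subgroup of the symmetric group of degree p², is a homomorphic image of P. -/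
theorem result {P : Type*} [Group P] [Finite P] {p : ℕ} [Fact p.Prime] (hP : IsPGroup p P) (A : Subgroup P) [A.Normal]
    (hA : Cfsg.IsElementaryAbelian p A) (hidx : A.index = p) (x y : P) (hx : x ∈ A) (hy : y ∉ A)
    (hprod : ((List.range p).map (fun i => (y ^ i)⁻¹ * x * y ^ i)).prod ≠ 1) :
    ∃ (Q : Sylow p (Equiv.Perm (Fin (p ^ 2)))) (f : P →* ↥(Q : Subgroup (Equiv.Perm (Fin (p ^ 2))))), Function.Surjective f := by
  classical
  have hn : A.Normal := inferInstance
  have hmem : ∀ n, ((List.range n).map (fun i => (y ^ i)⁻¹ * x * y ^ i)).prod ∈ A := fun n =>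
    A.list_prod_mem fun z hz => by
      obtain ⟨i, -, rfl⟩ := List.mem_map.1 hz
      exact hn.conj_mem' _ hx _
  have hAp : IsPGroup p A := hP.to_subgroup A
  have hfr : frattini ↥A ≤ ⊥ := by
    refine CfsgLib.Critical.frattini_le_of_elementary (p := p) (⊥ : Subgroup A) ?_ fun a => ?_
    · have := hA.1
      exact le_of_eq ((Subgroup.commutator_eq_bot_iff_le_centralizer).2 fun a _ b _ =>
        mul_comm' b a)
    · exact Subgroup.mem_bot.2 (Subtype.ext (hA.2 a a.2))
  obtain ⟨θ, -, hθ⟩ := CfsgLib.Fusion.exists_hom_zmod hAp ⊥ hfr ⟨_, hmem p⟩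
    (fun h => hprod (congrArg Subtype.val (Subgroup.mem_bot.1 h)))
  refine CfsgLib.Transfer.exists_wreath_quotient hP A hidx θ hy ⟨x, hx⟩ ?_
  suffices h : ∀ n, ∑ k ∈ Finset.range n,
      (θ ⟨(y ^ k)⁻¹ * x * y ^ k, hn.conj_mem' _ hx _⟩).toAdd = (θ ⟨_, hmem n⟩).toAdd by
    rw [h]
    exact fun h0 => hθ (Multiplicative.toAdd.injective (h0.trans toAdd_one.symm))
  intro n
  induction n with
  | zero => rw [show (⟨_, hmem 0⟩ : A) = 1 from rfl, map_one]; rfl
  | succ n ih =>
    rw [Finset.sum_range_succ, ih, ← toAdd_mul, ← map_mul]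
    congr 2
    apply Subtype.ext
    simp [List.range_succ]

end Cfsg.Agent.S1952
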