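import Cfsg.Statements.S1954
import Cfsg.Agent.Lib.Transfer.FixedCosetLift
import Cfsg.Agent.Lib.Transfer.Sylow

set_option autoImplicit false
set_option linter.style.haveILetI false

set_option autoImplicit false
open Cfsg

namespace Cfsg.Agent.S1954

/-- Let N be a normal subgroup of the finite group G, P a Sylow p-subgroup of G, and V a subgroup of P ∩ N normal in P ∩ N such that N_N(V) controls strong fusion in P ∩ N with respect to N (whenever a subgroup A of P ∩ N has n A n⁻¹ ≤ P ∩ N for some n in N, then n = h c with h in N_N(V) and c in C_N(A)). Let W be the subgroup generated by the conjugates of V under N_G(P ∩ N). Then N_G(W) controls strong fusion in P with respect to G. -/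
theorem result {G : Type*} [Group G] [Finite G] {p : ℕ} [Fact p.Prime] (N : Subgroup G) [N.Normal] (P : Sylow p G) (V : Subgroup G)
    (hV : V ≤ (P : Subgroup G) ⊓ N) (hVn : ∀ x ∈ (P : Subgroup G) ⊓ N, V.map (MulAut.conj x).toMonoidHom = V)
    (hctrl : ∀ A : Subgroup G, A ≤ (P : Subgroup G) ⊓ N → ∀ n ∈ N, A.map (MulAut.conj n).toMonoidHom ≤ (P : Subgroup G) ⊓ N →
      ∃ h ∈ N ⊓ Subgroup.normalizer (V : Set G), ∃ c ∈ N ⊓ Subgroup.centralizer (A : Set G), n = h * c)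
    (W : Subgroup G) (hW : W = Subgroup.closure (⋃ x ∈ Subgroup.normalizer (((P : Subgroup G) ⊓ N : Subgroup G) : Set G),
      ((V.map (MulAut.conj x).toMonoidHom : Subgroup G) : Set G))) :
    ∀ A : Subgroup G, A ≤ (P : Subgroup G) → ∀ g : G, A.map (MulAut.conj g).toMonoidHom ≤ (P : Subgroup G) →
        ∃ h ∈ Subgroup.normalizer (W : Set G), ∃ c ∈ Subgroup.centralizer (A : Set G), g = h * c := by
  classical
  set P0 := (P : Subgroup G) ⊓ N with hP0
  set M := Subgroup.normalizer (P0 : Set G) with hM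
  have hM' : ∀ x ∈ M, ∀ a, a ∈ P0 ↔ x * a * x⁻¹ ∈ P0 := fun x hx a => Subgroup.mem_normalizer_iff.mp hx a
  have hPM : (P : Subgroup G) ≤ M := by
    intro a ha
    refine Subgroup.mem_normalizer_iff.mpr fun b => ⟨fun hb => ?_, fun hb => ?_⟩
    · exact ⟨(P : Subgroup G).mul_mem ((P : Subgroup G).mul_mem ha hb.1) (inv_mem ha),
        Subgroup.Normal.conj_mem inferInstance _ hb.2 a⟩
    · have h1 := (P : Subgroup G).mul_mem ((P : Subgroup G).mul_mem (inv_mem ha) hb.1) ha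
      have h2 := Subgroup.Normal.conj_mem (inferInstance : N.Normal) _ hb.2 a⁻¹
      rw [show a⁻¹ * (a * b * a⁻¹) * a⁻¹⁻¹ = b by group] at h2
      rw [show a⁻¹ * (a * b * a⁻¹) * a = b by group] at h1
      exact ⟨h1, h2⟩
  let Vx : G → Subgroup G := fun x => V.map (MulAut.conj x).toMonoidHom
  have hVx : ∀ x ∈ M, Vx x ≤ P0 := by
    rintro x hx _ ⟨v, hv, rfl⟩
    exact (hM' x hx v).mp (hV hv)
  let Nz : G → Subgroup G := fun x => Subgroup.normalizer ((Vx x : Subgroup G) : Set G)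
  -- each conjugate of `V` controls fusion
  have hone : ∀ x ∈ M, ∀ A : Subgroup G, A ≤ P0 → ∀ n ∈ N, (∀ a ∈ A, n * a * n⁻¹ ∈ P0) →
      ∃ h ∈ N, h ∈ Nz x ∧ ∃ c ∈ N, (∀ a ∈ A, c * a = a * c) ∧ n = h * c := by
    intro x hx A hA n hn hmap
    have hxi := M.inv_mem hx
    obtain ⟨h, hh, c, hc, e⟩ := hctrl (A.map (MulAut.conj x⁻¹).toMonoidHom)
      (by rintro _ ⟨a, ha, rfl⟩; exact (hM' _ hxi a).mp (hA ha))
      (x⁻¹ * n * x) (by simpa using Subgroup.Normal.conj_mem (inferInstance : N.Normal) n hn x⁻¹)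
      (by
        rintro _ ⟨_, ⟨a, ha, rfl⟩, rfl⟩
        show x⁻¹ * n * x * (x⁻¹ * a * x⁻¹⁻¹) * (x⁻¹ * n * x)⁻¹ ∈ P0
        rw [show x⁻¹ * n * x * (x⁻¹ * a * x⁻¹⁻¹) * (x⁻¹ * n * x)⁻¹ = x⁻¹ * (n * a * n⁻¹) * x⁻¹⁻¹ by group]
        exact (hM' _ hxi _).mp (hmap a ha))
    refine ⟨x * h * x⁻¹, Subgroup.Normal.conj_mem inferInstance h hh.1 x, ?_, x * c * x⁻¹,
      Subgroup.Normal.conj_mem inferInstance c hc.1 x, fun a ha => ?_, ?_⟩
    · refine Subgroup.mem_normalizer_iff.mpr fun w => ?_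
      have hh' := Subgroup.mem_normalizer_iff.mp hh.2 (x⁻¹ * w * x)
      have hmem : ∀ u, u ∈ Vx x ↔ x⁻¹ * u * x ∈ V := fun u => by
        constructor
        · rintro ⟨v, hv, rfl⟩
          show x⁻¹ * (x * v * x⁻¹) * x ∈ V
          simpa [mul_assoc] using hv
        · intro hu
          exact ⟨_, hu, show x * (x⁻¹ * u * x) * x⁻¹ = u by group⟩
      show w ∈ Vx x ↔ _ ∈ Vx x
      rw [hmem, hmem, hh']
      rw [show x⁻¹ * (x * h * x⁻¹ * w * (x * h * x⁻¹)⁻¹) * x = h * (x⁻¹ * w * x) * h⁻¹ by group]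
    · have := Subgroup.mem_centralizer_iff.mp hc.2 (x⁻¹ * a * x⁻¹⁻¹) ⟨a, ha, rfl⟩
      calc x * c * x⁻¹ * a = x * (c * (x⁻¹ * a * x⁻¹⁻¹)) * x⁻¹ := by group
        _ = x * ((x⁻¹ * a * x⁻¹⁻¹) * c) * x⁻¹ := by rw [this]
        _ = a * (x * c * x⁻¹) := by group
    · calc n = x * (x⁻¹ * n * x) * x⁻¹ := by group
        _ = x * h * x⁻¹ * (x * c * x⁻¹) := by rw [e]; group
  -- hence so do all of them together
  have hall : ∀ s : Finset G, (∀ x ∈ s, x ∈ M) → ∀ A : Subgroup G, A ≤ P0 → ∀ n ∈ N, (∀ a ∈ A, n * a * n⁻¹ ∈ P0) →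
      ∃ h ∈ N, (∀ x ∈ s, h ∈ Nz x) ∧ ∃ c ∈ N, (∀ a ∈ A, c * a = a * c) ∧ n = h * c := by
    intro s
    induction s using Finset.induction with
    | empty => exact fun _ A _ n hn _ => ⟨n, hn, by simp, 1, N.one_mem, by simp, by simp⟩
    | @insert x s _ ih =>
      intro hs A hA n hn hmap
      obtain ⟨h, hhN, hh, c, hcN, hc, e⟩ := ih (fun y hy => hs y (Finset.mem_insert_of_mem hy)) A hA n hn hmap
      set A' := A ⊔ ⨆ y ∈ s, Vx y with hA'
      have hA'le : A' ≤ P0 ⊓ P0.comap (MulAut.conj h).toMonoidHom := by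
        refine sup_le (fun a ha => ⟨hA ha, ?_⟩) (iSup₂_le fun y hy v hv => ?_)
        · show h * a * h⁻¹ ∈ P0
          have := hmap a ha
          rwa [show n * a * n⁻¹ = h * a * h⁻¹ by
            rw [e, show h * c * a * (h * c)⁻¹ = h * (c * a * c⁻¹) * h⁻¹ by group, hc a ha, mul_inv_cancel_right]] at this
        · have hy' := hVx y (hs y (Finset.mem_insert_of_mem hy))
          exact ⟨hy' hv, hy' ((Subgroup.mem_normalizer_iff.mp (hh y hy) v).mp hv)⟩
      obtain ⟨h', hh'N, hh'x, c', hc'N, hc', e'⟩ := hone x (hs x (Finset.mem_insert_self x s)) A'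
        (hA'le.trans inf_le_left) h hhN (fun a ha => (hA'le ha).2)
      refine ⟨h', hh'N, fun y hy => ?_, c' * c, N.mul_mem hc'N hcN, fun a ha => ?_, by rw [e, e', mul_assoc]⟩
      · rcases Finset.mem_insert.mp hy with rfl | hy
        · exact hh'x
        · have hc'y : c' ∈ Nz y := by
            refine Subgroup.mem_normalizer_iff.mpr fun v => ?_
            have key : ∀ v ∈ Vx y, c' * v * c'⁻¹ = v := fun v hv => by
              rw [hc' v (Subgroup.mem_sup_right (Subgroup.mem_iSup_of_mem y (Subgroup.mem_iSup_of_mem hy hv))),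
                mul_inv_cancel_right]
            constructor
            · intro hv; exact (key v hv).symm ▸ hv
            · intro hv
              have h2 := key _ hv
              have : v = c' * v * c'⁻¹ := by
                calc v = c'⁻¹ * (c' * v * c'⁻¹) * c' := by group
                  _ = c'⁻¹ * (c' * (c' * v * c'⁻¹) * c'⁻¹) * c' := by rw [h2]
                  _ = c' * v * c'⁻¹ := by group
              exact this ▸ hv
          rw [show h' = h * c'⁻¹ by rw [e', mul_inv_cancel_right]]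
          exact Subgroup.mul_mem _ (hh y hy) (Subgroup.inv_mem _ hc'y)
      · have h1 := hc' a (Subgroup.mem_sup_left ha)
        rw [mul_assoc, hc a ha, ← mul_assoc, h1, mul_assoc]
  set L := Subgroup.normalizer (W : Set G) with hL
  have hnormW : ∀ h : G, (∀ x ∈ M, ∀ v ∈ Vx x, h * v * h⁻¹ ∈ W) → ∀ w ∈ W, h * w * h⁻¹ ∈ W := by
    intro h hh w hw
    have : W ≤ W.comap (MulAut.conj h).toMonoidHom := by
      conv_lhs => rw [hW]
      refine (Subgroup.closure_le _).mpr (Set.iUnion₂_subset fun x hx v hv => ?_)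
      exact hh x hx v hv
    exact this hw
  have hVW : ∀ x ∈ M, Vx x ≤ W := fun x hx v hv => by
    rw [hW]; exact Subgroup.subset_closure (Set.mem_iUnion₂.mpr ⟨x, hx, hv⟩)
  have hmkL : ∀ h : G, (∀ w ∈ W, h * w * h⁻¹ ∈ W) → (∀ w ∈ W, h⁻¹ * w * h ∈ W) → h ∈ L := fun h h1 h2 =>
    Subgroup.mem_normalizer_iff.mpr fun w => ⟨h1 w, fun hw => by
      have := h2 _ hw
      rwa [show h⁻¹ * (h * w * h⁻¹) * h = w by group] at this⟩
  have hML : M ≤ L := by
    have key : ∀ m ∈ M, ∀ w ∈ W, m * w * m⁻¹ ∈ W := fun m hm => hnormW m fun x hx v hv => by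
      obtain ⟨v0, hv0, rfl⟩ := hv
      refine hVW (m * x) (M.mul_mem hm hx) ⟨v0, hv0, ?_⟩
      show m * x * v0 * (m * x)⁻¹ = m * (x * v0 * x⁻¹) * m⁻¹
      group
    exact fun m hm => hmkL m (key m hm) fun w hw => by simpa using key m⁻¹ (M.inv_mem hm) w hw
  have hNL : ∀ h : G, (∀ x ∈ M, h ∈ Nz x) → h ∈ L := by
    intro h hh
    refine hmkL h (hnormW h fun x hx v hv => hVW x hx ((Subgroup.mem_normalizer_iff.mp (hh x hx) v).mp hv))
      fun w hw => ?_
    have := hnormW h⁻¹ (fun x hx v hv => hVW x hx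
      ((Subgroup.mem_normalizer_iff.mp (Subgroup.inv_mem _ (hh x hx)) v).mp hv)) w hw
    rwa [inv_inv] at this
  -- Frattini
  have hPN : ¬ p ∣ ((P : Subgroup G).subgroupOf N).index := fun h =>
    P.not_dvd_index (h.trans (CfsgLib.Transfer.relIndex_dvd_index_of_normal (P : Subgroup G) N))
  have hPNp : IsPGroup p ((P : Subgroup G).subgroupOf N) := P.isPGroup'.comap_of_injective _ N.subtype_injective
  obtain ⟨S, hS⟩ : ∃ S : Sylow p N, (S : Subgroup N) = (P : Subgroup G).subgroupOf N := ⟨hPNp.toSylow hPN, rfl⟩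
  have hFr : ∀ g : G, ∃ m ∈ M, ∃ n ∈ N, n * m = g := by
    intro g
    have h1 := Sylow.normalizer_sup_eq_top S
    have e : (S : Subgroup N).map N.subtype = P0 := by rw [hS, Subgroup.subgroupOf_map_subtype]
    have hg : g ∈ N ⊔ M := by
      rw [sup_comm]
      rw [e] at h1
      rw [h1]; trivial
    rw [← SetLike.mem_coe, Subgroup.normal_mul] at hg
    obtain ⟨n, hn, m, hm, e⟩ := hg
    exact ⟨m, hm, n, hn, e⟩
  have hPL : (P : Subgroup G) ≤ L := hPM.trans hML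
  intro A hA g hg
  have hY : ¬ p ∣ Nat.card (G ⧸ L) := by
    intro h
    exact P.not_dvd_index (h.trans (Subgroup.index_dvd_of_le hPL))
  have htr := CfsgLib.Transfer.FixedCosetLift.transitive_centralizer (p := p) N hY
    (fun A0 hA0N hA0p u v hu hv => by
      -- a representative in `N` carrying `A0` into `P ⊓ N`
      have hrep : ∀ u : G ⧸ L, (∀ a ∈ A0, a • u = u) → ∃ n ∈ N, (QuotientGroup.mk n : G ⧸ L) = u ∧ ∀ a ∈ A0, n⁻¹ * a * n ∈ P0 := by
        intro u hu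
        induction u using QuotientGroup.induction_on with
        | H g0 =>
        obtain ⟨m, hm, n, hn, rfl⟩ := hFr g0
        have e1 : (QuotientGroup.mk (n * m) : G ⧸ L) = QuotientGroup.mk n :=
          QuotientGroup.eq.mpr (by rw [show (n * m)⁻¹ * n = m⁻¹ by group]; exact L.inv_mem (hML hm))
        rw [e1] at hu ⊢
        let A1 := A0.map (MulAut.conj n⁻¹).toMonoidHom
        have hA1 : A1 ≤ N ⊓ L := by
          rintro _ ⟨a, ha, rfl⟩
          refine ⟨Subgroup.Normal.conj_mem inferInstance a (hA0N ha) n⁻¹, ?_⟩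
          show n⁻¹ * a * n⁻¹⁻¹ ∈ L
          have := QuotientGroup.eq.mp (hu a ha).symm
          rwa [inv_inv, mul_assoc]
        obtain ⟨l, hl, hlA⟩ : ∃ l ∈ N ⊓ L, ∀ a ∈ A1, l⁻¹ * a * l ∈ P0 := by
          obtain ⟨S0, hS0⟩ := ((hA0p.map (MulAut.conj n⁻¹).toMonoidHom).of_equiv
            (Subgroup.subgroupOfEquivOfLe hA1).symm).exists_le_sylow
          have hP0le : P0 ≤ N ⊓ L := fun a ha => ⟨ha.2, hPL ha.1⟩
          have hP0p : IsPGroup p (P0.subgroupOf (N ⊓ L)) :=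
            (P.isPGroup'.to_le inf_le_left).of_equiv (Subgroup.subgroupOfEquivOfLe hP0le).symm
          have hidx : ¬ p ∣ (P0.subgroupOf (N ⊓ L)).index := by
            intro h
            apply hPN
            rw [← Subgroup.relIndex, ← Subgroup.inf_relIndex_right]
            exact h.trans ⟨_, (Subgroup.relIndex_mul_relIndex P0 (N ⊓ L) N hP0le inf_le_left).symm⟩
          obtain ⟨l, hl⟩ := MulAction.exists_smul_eq (↥(N ⊓ L)) S0 (hP0p.toSylow hidx)
          refine ⟨(l : G)⁻¹, (N ⊓ L).inv_mem l.2, fun a ha => ?_⟩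
          have h1 : l * ⟨a, hA1 ha⟩ * l⁻¹ ∈ (hP0p.toSylow hidx : Subgroup _) := by
            rw [← hl]; exact ⟨_, hS0 ha, rfl⟩
          rw [inv_inv]
          exact h1
        refine ⟨n * l, N.mul_mem hn hl.1, QuotientGroup.eq.mpr ?_, fun a ha => ?_⟩
        · rw [show (n * l)⁻¹ * n = l⁻¹ by group]; exact L.inv_mem hl.2
        · have := hlA _ ⟨a, ha, rfl⟩
          rwa [show l⁻¹ * (MulAut.conj n⁻¹).toMonoidHom a * l = (n * l)⁻¹ * a * (n * l) by
            show l⁻¹ * (n⁻¹ * a * n⁻¹⁻¹) * l = _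
            group] at this
      obtain ⟨n, hn, rfl, hnA⟩ := hrep u hu
      obtain ⟨n', hn', rfl, hn'A⟩ := hrep v hv
      set s : Finset G := (Set.toFinite (M : Set G)).toFinset with hs
      obtain ⟨h, hhN, hh, c, hcN, hc, e⟩ := hall s (fun x hx => (Set.Finite.mem_toFinset _).mp hx)
        (A0.map (MulAut.conj n⁻¹).toMonoidHom)
        (by
          rintro _ ⟨a, ha, rfl⟩
          show n⁻¹ * a * n⁻¹⁻¹ ∈ P0
          rw [inv_inv]; exact hnA a ha)
        (n'⁻¹ * n) (N.mul_mem (N.inv_mem hn') hn) (by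
          rintro _ ⟨a, ha, rfl⟩
          show n'⁻¹ * n * (n⁻¹ * a * n⁻¹⁻¹) * (n'⁻¹ * n)⁻¹ ∈ P0
          rw [show n'⁻¹ * n * (n⁻¹ * a * n⁻¹⁻¹) * (n'⁻¹ * n)⁻¹ = n'⁻¹ * a * n' by group]
          exact hn'A a ha)
      have hhL : h ∈ L := hNL h fun x hx => hh x ((Set.Finite.mem_toFinset _).mpr hx)
      refine ⟨n * c⁻¹ * n⁻¹, Subgroup.Normal.conj_mem inferInstance _ (N.inv_mem hcN) n, fun a ha => ?_, ?_⟩
      · have h1 := hc (n⁻¹ * a * n⁻¹⁻¹) ⟨a, ha, rfl⟩
        have h2 : Commute c⁻¹ (n⁻¹ * a * n⁻¹⁻¹) := Commute.inv_left h1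
        calc n * c⁻¹ * n⁻¹ * a = n * (c⁻¹ * (n⁻¹ * a * n⁻¹⁻¹)) * n⁻¹ := by group
          _ = n * ((n⁻¹ * a * n⁻¹⁻¹) * c⁻¹) * n⁻¹ := by rw [h2.eq]
          _ = a * (n * c⁻¹ * n⁻¹) := by group
      · show QuotientGroup.mk (n * c⁻¹ * n⁻¹ * n) = QuotientGroup.mk n'
        rw [inv_mul_cancel_right]
        refine QuotientGroup.eq.mpr ?_
        rw [show n' = n * c⁻¹ * h⁻¹ by
          calc n' = n * (n'⁻¹ * n)⁻¹ := by group
            _ = n * c⁻¹ * h⁻¹ := by rw [e]; group]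
        rw [show (n * c⁻¹)⁻¹ * (n * c⁻¹ * h⁻¹) = h⁻¹ by group]
        exact L.inv_mem hhL)
    A (P.isPGroup'.to_le hA) (QuotientGroup.mk 1) (QuotientGroup.mk g⁻¹)
    (fun a ha => QuotientGroup.eq.mpr (by simpa using L.inv_mem (hPL (hA ha))))
    (fun a ha => by
      show QuotientGroup.mk (a * g⁻¹) = _
      refine QuotientGroup.eq.mpr ?_
      rw [show (a * g⁻¹)⁻¹ * g⁻¹ = g * a⁻¹ * g⁻¹ by group]
      exact hPL (hg ⟨a⁻¹, A.inv_mem ha, rfl⟩))
  obtain ⟨c, hcN, hc, hcg⟩ := htr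
  have hcg' : (QuotientGroup.mk c : G ⧸ L) = QuotientGroup.mk g⁻¹ := by
    rw [← hcg]
    show _ = QuotientGroup.mk (c * 1)
    rw [mul_one]
  refine ⟨g * c, ?_, c⁻¹, Subgroup.inv_mem _ (Subgroup.mem_centralizer_iff.mpr fun a ha => (hc a ha).symm), by group⟩
  have := QuotientGroup.eq.mp hcg'.symm
  rwa [inv_inv] at this

end Cfsg.Agent.S1954
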