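import Mathlib
import Cfsg.Statements.S1956
import Cfsg.Agent.Lib.Transfer.Sylow

set_option autoImplicit false
set_option linter.style.haveILetI false
set_option linter.unusedVariables false
open Cfsg

namespace Cfsg.Agent.S1956

/-- Let P be a Sylow p-subgroup of the finite group G such that every element of P of order dividing p (dividing 4 when p = 2) is central in P. Then the fusion of these elements is controlled by N_G(P): if such an element a of P has g a g⁻¹ in P, then g = n c with n normalizing P and c commuting with a. -/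
theorem result {G : Type*} [Group G] [Finite G] {p : ℕ} [Fact p.Prime] (P : Sylow p G)
    (hcen : ∀ a ∈ (P : Subgroup G), (a ^ p = 1 ∨ (p = 2 ∧ a ^ 4 = 1)) → ∀ y ∈ (P : Subgroup G), a * y = y * a) :
    ∀ a ∈ (P : Subgroup G), (a ^ p = 1 ∨ (p = 2 ∧ a ^ 4 = 1)) → ∀ g : G, g * a * g⁻¹ ∈ (P : Subgroup G) →
      ∃ n ∈ Subgroup.normalizer ((P : Subgroup G) : Set G), ∃ c : G, c * a = a * c ∧ g = n * c := by
  intro a ha hord g hga
  have hsmall : (g * a * g⁻¹) ^ p = 1 ∨ (p = 2 ∧ (g * a * g⁻¹) ^ 4 = 1) := by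
    rcases hord with h | ⟨h, h'⟩
    · left; rw [conj_pow, h, mul_one, mul_inv_cancel]
    · right; exact ⟨h, by rw [conj_pow, h', mul_one, mul_inv_cancel]⟩
  have key : ∀ z ∈ (P : Subgroup G), (z ^ p = 1 ∨ (p = 2 ∧ z ^ 4 = 1)) →
      ∀ x ∈ (P : Subgroup G), (fun y => x * y * x⁻¹) '' {z} = {z} := by
    intro z hz ho x hx
    rw [Set.image_singleton, ← hcen z hz ho x hx, mul_inv_cancel_right]
  obtain ⟨m, hm, h⟩ := CfsgLib.Transfer.exists_normalizer_image_conj_eq P (X := {a}) (Y := {g * a * g⁻¹})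
    (key a ha hord) (key _ hga hsmall) g (by rw [Set.image_singleton])
  rw [Set.image_singleton, Set.singleton_eq_singleton_iff] at h
  refine ⟨m, hm, m⁻¹ * g, ?_, by group⟩
  calc m⁻¹ * g * a = m⁻¹ * (g * a * g⁻¹) * g := by group
    _ = m⁻¹ * (m * a * m⁻¹) * g := by rw [h]
    _ = _ := by group

end Cfsg.Agent.S1956
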