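import Cfsg.Statements.S1957
import Cfsg.Agent.Lib.Coprime.Generation
import Cfsg.Agent.Lib.PReduced.Largest
import Cfsg.Agent.Lib.Critical.Basic

set_option autoImplicit false
open Cfsg

namespace Cfsg.Agent.S1957

/-- A four group `U` inside a group with a characteristic-2 normal 2-subgroup `R` normalizing it
centralizes every `U`-invariant subgroup of odd order. -/
theorem centralizes_of_core {G : Type*} [Group G] [Finite G] {U R W K : Subgroup G} {u : G}
    (hU4 : Nat.card U = 4) (hUc : ∀ x ∈ U, ∀ y ∈ U, x * y = y * x) (hu : u ∈ U) (huR : u ∈ R)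
    (hu1 : u ≠ 1) (hu2 : u * u = 1)
    (hR : IsPGroup 2 R) (hWR : W ≤ Subgroup.normalizer (R : Set G)) (hUW : U ≤ W)
    (hRU : R ≤ Subgroup.normalizer (U : Set G))
    (hself : W ⊓ Subgroup.centralizer (R : Set G) ≤ R)
    (hK : Odd (Nat.card K)) (hKW : K ≤ W) (hKu : ∀ k ∈ K, k * u = u * k)
    (hUK : U ≤ Subgroup.normalizer (K : Set G)) : U ≤ Subgroup.centralizer (K : Set G) := by
  haveI : Fact (Nat.Prime 2) := ⟨Nat.prime_two⟩
  have hKR : ∀ c ∈ K, c ∈ R → c = 1 := by
    intro c hcK hcR
    obtain ⟨i, hi⟩ := hR ⟨c, hcR⟩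
    have h1 : orderOf c ∣ 2 ^ i := orderOf_dvd_of_pow_eq_one (congrArg Subtype.val hi)
    have h2 : orderOf c ∣ Nat.card K := Subgroup.orderOf_dvd_natCard K hcK
    exact orderOf_eq_one_iff.1 (Nat.eq_one_of_dvd_coprimes
      ((Nat.coprime_two_left.2 hK).pow_left i) h1 h2)
  intro v hv
  rw [Subgroup.mem_centralizer_iff]
  intro k hk
  have hc : k * v * k⁻¹ * v⁻¹ ∈ K := by
    rw [show k * v * k⁻¹ * v⁻¹ = k * (v * k⁻¹ * v⁻¹) by group]
    exact K.mul_mem hk ((Subgroup.mem_normalizer_iff.1 (hUK hv) _).1 (K.inv_mem hk))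
  suffices hc1 : k * v * k⁻¹ * v⁻¹ = 1 by
    rw [mul_inv_eq_one, mul_inv_eq_iff_eq_mul] at hc1
    exact hc1
  by_cases hUR : U ≤ R
  · refine hKR _ hc (R.mul_mem ?_ (R.inv_mem (hUR hv)))
    exact (Subgroup.mem_normalizer_iff.1 (hWR (hKW hk)) v).1 (hUR hv)
  -- `U ∩ R = ⟨u⟩`
  have hUR2 : ∀ x ∈ U, x ∈ R → x = 1 ∨ x = u := by
    intro x hxU hxR
    by_contra hx
    push Not at hx
    refine hUR fun y hy => ?_
    have hsub : Subgroup.closure ({u, x} : Set G) ≤ U := by
      rw [Subgroup.closure_le]; simp [Set.insert_subset_iff, hu, hxU]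
    have hsubR : Subgroup.closure ({u, x} : Set G) ≤ R := by
      rw [Subgroup.closure_le]; simp [Set.insert_subset_iff, huR, hxR]
    have h3 : 2 < Nat.card ↥(U ⊓ R) := by
      have hlt : Nat.card (Subgroup.zpowers u) < Nat.card ↥(U ⊓ R) := by
        have hle : Subgroup.zpowers u ≤ U ⊓ R := Subgroup.zpowers_le.2 ⟨hu, huR⟩
        refine lt_of_le_of_ne (Subgroup.card_le_of_le hle) fun he => ?_
        have := Subgroup.eq_of_le_of_card_ge hle he.ge
        have hx' : x ∈ Subgroup.zpowers u := by rw [this]; exact ⟨hxU, hxR⟩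
        obtain ⟨i, hi⟩ := Subgroup.mem_zpowers_iff.1 hx'
        rcases Int.even_or_odd i with ⟨j, rfl⟩ | ⟨j, rfl⟩
        · rw [← two_mul, zpow_mul, zpow_two, hu2, one_zpow] at hi
          exact hx.1 hi.symm
        · rw [zpow_add, zpow_mul, zpow_two, hu2, one_zpow, one_mul, zpow_one] at hi
          exact hx.2 hi.symm
      rw [Nat.card_zpowers, orderOf_eq_prime (by rw [pow_two, hu2]) hu1] at hlt
      exact hlt
    have h4 : U ⊓ R = U := by
      refine Subgroup.eq_of_le_of_card_ge inf_le_left ?_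
      obtain ⟨q, hq⟩ := Subgroup.card_dvd_of_le (inf_le_left : U ⊓ R ≤ U)
      rw [hU4] at hq ⊢
      rcases q with _ | _ | q
      · omega
      · omega
      · have := Nat.mul_le_mul_left (Nat.card ↥(U ⊓ R)) (show 2 ≤ q + 1 + 1 by omega)
        omega
    exact (h4.symm ▸ hy : y ∈ U ⊓ R).2
  have hW' : ∀ w ∈ W, ∀ r ∈ R, w * r * w⁻¹ ∈ R := fun w hw r hr =>
    (Subgroup.mem_normalizer_iff.1 (hWR hw) r).1 hr
  -- elements acting trivially on `R / ⟨u⟩`
  let triv : G → Prop := fun g => g * u = u * g ∧ ∀ r ∈ R, ∃ s, (s = 1 ∨ s = u) ∧ g * r * g⁻¹ = r * s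
  have hv_triv : triv v := by
    refine ⟨hUc v hv u hu, fun r hr => ⟨r⁻¹ * (v * r * v⁻¹), hUR2 _ ?_ ?_, by group⟩⟩
    · rw [show r⁻¹ * (v * r * v⁻¹) = (r⁻¹ * v * r) * v⁻¹ by group]
      exact U.mul_mem ((Subgroup.mem_normalizer_iff''.1 (hRU hr) v).1 hv) (U.inv_mem hv)
    · exact R.mul_mem (R.inv_mem hr) (hW' v (hUW hv) r hr)
  have hc_triv : triv (k * v * k⁻¹ * v⁻¹) := by
    have hku := hKu k hk
    have hkiu : k⁻¹ * u = u * k⁻¹ := (Commute.inv_left hku).eq
    have hviu : v⁻¹ * u = u * v⁻¹ := (Commute.inv_left hv_triv.1).eq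
    refine ⟨?_, fun r hr => ?_⟩
    · exact ((((show Commute k u from hku).mul_left hv_triv.1).mul_left hkiu).mul_left hviu).eq
    · have hvi : v⁻¹ * r * v ∈ R := by
        have := hW' v⁻¹ (W.inv_mem (hUW hv)) r hr
        rwa [inv_inv] at this
      obtain ⟨s, hs, hse⟩ := hv_triv.2 _ hvi
      have hki : k⁻¹ * (v⁻¹ * r * v) * k ∈ R := by
        have := hW' k⁻¹ (W.inv_mem (hKW hk)) _ hvi
        rwa [inv_inv] at this
      obtain ⟨t, ht, hte⟩ := hv_triv.2 _ hki
      -- conjugates of the two central signs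
      have hsu : s * u = u * s := by rcases hs with rfl | rfl <;> simp
      refine ⟨s * t, ?_, ?_⟩
      · rcases hs with rfl | rfl <;> rcases ht with rfl | rfl <;> simp [hu2]
      · have hkt : k * t = t * k := by rcases ht with rfl | rfl <;> [simp; exact hku]
        have hrs : r = v⁻¹ * r * v * s := by
          rw [← hse]; group
        calc k * v * k⁻¹ * v⁻¹ * r * (k * v * k⁻¹ * v⁻¹)⁻¹
            = k * (v * (k⁻¹ * (v⁻¹ * r * v) * k) * v⁻¹) * k⁻¹ := by group
          _ = k * (k⁻¹ * (v⁻¹ * r * v) * k * t) * k⁻¹ := by rw [hte]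
          _ = v⁻¹ * r * v * (k * t * k⁻¹) := by group
          _ = v⁻¹ * r * v * t := by rw [hkt, mul_inv_cancel_right]
          _ = r * (s * t) := by
              have hss : s * s = 1 := by rcases hs with rfl | rfl <;> simp [hu2]
              nth_rw 2 [hrs]
              rw [mul_assoc (v⁻¹ * r * v) s, ← mul_assoc s s, hss, one_mul]
  set c := k * v * k⁻¹ * v⁻¹
  refine hKR c hc (hself ⟨hKW hc, Subgroup.mem_centralizer_iff.2 fun r hr => ?_⟩)
  obtain ⟨s, hs, hse⟩ := hc_triv.2 r hr
  have hn : ∀ n : ℕ, c ^ n * r * (c ^ n)⁻¹ = r * s ^ n := by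
    intro n
    induction n with
    | zero => simp
    | succ n ih =>
      have hcs : Commute c (s ^ n) := by
        rcases hs with h | h
        · rw [h, one_pow]; exact Commute.one_right c
        · rw [h]; exact (show Commute c u from hc_triv.1).pow_right n
      calc c ^ (n + 1) * r * (c ^ (n + 1))⁻¹ = c * (c ^ n * r * (c ^ n)⁻¹) * c⁻¹ := by
            rw [pow_succ']; group
        _ = c * r * (s ^ n * c⁻¹) := by rw [ih]; group
        _ = (c * r * c⁻¹) * s ^ n := by rw [← hcs.inv_left.eq]; group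
        _ = r * s ^ (n + 1) := by rw [hse, pow_succ', mul_assoc]
  have hodd : Odd (orderOf c) := hK.of_dvd_nat (Subgroup.orderOf_dvd_natCard K hc)
  have h1 := hn (orderOf c)
  rw [pow_orderOf_eq_one, one_mul, inv_one, mul_one, left_eq_mul] at h1
  have hs1 : s = 1 := by
    rcases hs with h | h
    · exact h
    · obtain ⟨m, hm⟩ := hodd
      rw [hm, h, pow_succ, pow_mul, pow_two, hu2, one_pow, one_mul] at h1
      rw [h, h1]
  rw [hs1, mul_one, mul_inv_eq_iff_eq_mul] at hse
  exact hse.symm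

/-- Let `G` be a finite non-abelian simple group in which every local subgroup is solvable and which is of characteristic 2 type. Let `P` be a Sylow 2-subgroup of `G` and `U` a normal subgroup of `P` that is a four-group, with `U` central in `P` if the centre of `P` is not cyclic. Then `U` centralizes every subgroup of odd order of `G` that it normalizes. -/
theorem result {G : Type*} [Group G] [Finite G]
    [IsSimpleGroup G] (hna : ¬ IsMulCommutative G) (hN : Cfsg.IsNGroup G) (h2 : Cfsg.IsCharacteristicTwoType G)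
    (P : Sylow 2 G) (U : Subgroup G) (hUP : U ≤ (P : Subgroup G)) (hUn : (P : Subgroup G) ≤ Subgroup.normalizer (U : Set G))
    (hU4 : IsKleinFour ↥U)
    (hUZ : ¬ IsCyclic ↥((P : Subgroup G) ⊓ Subgroup.centralizer ((P : Subgroup G) : Set G)) →
      U ≤ Subgroup.centralizer ((P : Subgroup G) : Set G))
    (K : Subgroup G) (hK : Odd (Nat.card K)) (hUK : U ≤ Subgroup.normalizer (K : Set G)) :
    U ≤ Subgroup.centralizer (K : Set G) := by
  haveI : Fact (Nat.Prime 2) := ⟨Nat.prime_two⟩
  have hUcard : Nat.card U = 4 := hU4.card_four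
  have hUc : ∀ x ∈ U, ∀ y ∈ U, x * y = y * x := fun x hx y hy => by
    haveI : IsMulCommutative U := IsPGroup.isMulCommutative_of_card_eq_prime_sq (p := 2) (by rw [hUcard]; norm_num)
    exact congrArg Subtype.val (mul_comm' (⟨x, hx⟩ : U) ⟨y, hy⟩)
  have hsq : ∀ x ∈ U, x * x = 1 := fun x hx => by
    have h1 : (⟨x, hx⟩ : U) ^ 2 = 1 := hU4.exponent_two ▸ Monoid.pow_exponent_eq_one _
    have := congrArg Subtype.val h1
    simpa [pow_two] using this
  -- a Sylow subgroup of the centralizer normalizing `U`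
  have hT : ∀ u ∈ U, u ≠ 1 → ∃ T : Subgroup G, T ≤ Subgroup.centralizer ({u} : Set G) ∧
      T ≤ Subgroup.normalizer (U : Set G) ∧
      ∀ R : Subgroup G, IsPGroup 2 R → R ≤ Subgroup.centralizer ({u} : Set G) →
        Subgroup.centralizer ({u} : Set G) ≤ Subgroup.normalizer (R : Set G) → R ≤ T := by
    intro u hu hu1
    set C := Subgroup.centralizer ({u} : Set G) with hC
    set P0 := (P : Subgroup G) ⊓ C with hP0
    obtain ⟨T0, hT0⟩ := ((P.isPGroup'.to_le (inf_le_left (b := C))).of_equiv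
      (Subgroup.subgroupOfEquivOfLe (inf_le_right : P0 ≤ C)).symm).exists_le_sylow
    have hmax : ∀ R : Subgroup G, IsPGroup 2 R → R ≤ C → C ≤ Subgroup.normalizer (R : Set G) →
        R ≤ (T0 : Subgroup C).map C.subtype := by
      intro R hR hRC hRn
      haveI : (R.subgroupOf C).Normal :=
        (Subgroup.normal_subgroupOf_iff_le_normalizer hRC).2 hRn
      obtain ⟨T1, hT1⟩ := (hR.of_equiv (Subgroup.subgroupOfEquivOfLe hRC).symm).exists_le_sylow
      obtain ⟨g, rfl⟩ := MulAction.exists_smul_eq C T1 T0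
      intro r hr
      refine ⟨⟨r, hRC hr⟩, ?_, rfl⟩
      have h2 : g⁻¹ * ⟨r, hRC hr⟩ * g ∈ R.subgroupOf C := by
        have := (inferInstance : (R.subgroupOf C).Normal).conj_mem ⟨r, hRC hr⟩ hr g⁻¹
        rwa [inv_inv] at this
      refine Subgroup.mem_pointwise_smul_iff_inv_smul_mem.2 ?_
      simpa [MulAut.smul_def] using hT1 h2
    refine ⟨(T0 : Subgroup C).map C.subtype, Subgroup.map_subtype_le _, ?_, hmax⟩
    set T := (T0 : Subgroup C).map C.subtype with hTdef
    have hTc : Nat.card T ∣ Nat.card (P : Subgroup G) := by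
      obtain ⟨n, hn⟩ := IsPGroup.iff_card.1 (T0.isPGroup'.map C.subtype)
      change Nat.card T = 2 ^ n at hn
      rw [hn, P.card_eq_multiplicity]
      exact Nat.pow_dvd_pow 2 ((Nat.prime_two.pow_dvd_iff_le_factorization Nat.card_pos.ne').1
        (hn ▸ T.card_subgroup_dvd_card))
    have hPT : P0 ≤ T := fun g hg => ⟨⟨g, hg.2⟩, hT0 (show (⟨g, hg.2⟩ : C) ∈ P0.subgroupOf C from hg), rfl⟩
    by_cases hPC : (P : Subgroup G) ≤ C
    · have hPT' : (P : Subgroup G) ≤ T := fun g hg => hPT ⟨hg, hPC hg⟩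
      rw [← Subgroup.eq_of_le_of_card_ge hPT' (Nat.le_of_dvd Nat.card_pos hTc)]
      exact hUn
    -- `u` is not central in `P`; the centre of `P` is cyclic
    set ZP := (P : Subgroup G) ⊓ Subgroup.centralizer ((P : Subgroup G) : Set G) with hZP
    have hcyc : IsCyclic ZP := by
      by_contra hnc
      exact hPC fun g hg => Subgroup.mem_centralizer_singleton_iff.2
        (Subgroup.mem_centralizer_iff.1 (hUZ hnc hu) g hg)
    have hinvo : ∀ y ∈ ZP, ∀ y' ∈ ZP, y * y = 1 → y' * y' = 1 → y ≠ 1 → y' ≠ 1 → y = y' := by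
      intro y hy y' hy' h2 h2' h1 h1'
      by_contra hne
      classical
      haveI := Fintype.ofFinite ZP
      have hall := hcyc.card_pow_eq_one_le (α := ZP) (by norm_num : 0 < 2)
      have h3 : ({1, ⟨y, hy⟩, ⟨y', hy'⟩} : Finset ZP) ⊆ Finset.univ.filter fun g : ZP => g ^ 2 = 1 := by
        intro g hg
        simp only [Finset.mem_insert, Finset.mem_singleton] at hg
        refine Finset.mem_filter.2 ⟨Finset.mem_univ _, ?_⟩
        rcases hg with rfl | rfl | rfl
        · simp
        · exact Subtype.ext (by simp [pow_two, h2])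
        · exact Subtype.ext (by simp [pow_two, h2'])
      have := (Finset.card_le_card h3).trans (le_of_eq_of_le (by congr!) hall)
      rw [Finset.card_eq_three.2 ⟨1, ⟨y, hy⟩, ⟨y', hy'⟩, fun e => h1 (congrArg Subtype.val e).symm,
        fun e => h1' (congrArg Subtype.val e).symm, fun e => hne (congrArg Subtype.val e), rfl⟩] at this
      omega
    have hconjU : ∀ g ∈ (P : Subgroup G), ∀ x ∈ U, g * x * g⁻¹ ∈ U := fun g hg x hx =>
      (Subgroup.mem_normalizer_iff.1 (hUn hg) x).1 hx
    -- the central involution in `U`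
    obtain ⟨z, hzU, hz1, hzZ⟩ : ∃ z ∈ U, z ≠ 1 ∧ z ∈ ZP := by
      haveI hnU : (U.subgroupOf (P : Subgroup G)).Normal :=
        (Subgroup.normal_subgroupOf_iff_le_normalizer hUP).2 hUn
      haveI : Nontrivial (U.subgroupOf (P : Subgroup G)) := by
        rw [← Finite.one_lt_card_iff_nontrivial,
          Nat.card_congr (Subgroup.subgroupOfEquivOfLe hUP).toEquiv, hUcard]
        norm_num
      haveI := P.isPGroup'.isNilpotent
      obtain ⟨⟨z, hz⟩, hz1⟩ := Subgroup.ne_bot_iff_exists_ne_one.1 (CfsgLib.Critical.inf_center_ne_bot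
        (U.subgroupOf (P : Subgroup G)) ((Subgroup.nontrivial_iff_ne_bot _).1 inferInstance))
      refine ⟨z, hz.1, fun e => hz1 (Subtype.ext (Subtype.ext e)), z.2, Subgroup.mem_centralizer_iff.2 fun g hg => ?_⟩
      exact congrArg Subtype.val (Subgroup.mem_center_iff.1 hz.2 ⟨g, hg⟩)
    have huz : u ≠ z := fun e => hPC fun g hg => Subgroup.mem_centralizer_singleton_iff.2
      (e ▸ Subgroup.mem_centralizer_iff.1 hzZ.2 g hg)
    have hU4' : ∀ x ∈ U, x = 1 ∨ x = z ∨ x = u ∨ x = u * z := by
      classical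
      intro x hx
      by_contra hcon
      push Not at hcon
      obtain ⟨h1, h2, h3, h4⟩ := hcon
      haveI := Fintype.ofFinite U
      have hsub : ({1, ⟨z, hzU⟩, ⟨u, hu⟩, ⟨u * z, U.mul_mem hu hzU⟩, ⟨x, hx⟩} : Finset U).card ≤ 4 := by
        rw [← hUcard, Nat.card_eq_fintype_card]; exact Finset.card_le_univ _
      have huz1 : u * z ≠ 1 := fun e => huz (by rw [← mul_one u, ← hsq z hzU, ← mul_assoc, e, one_mul])
      rw [Finset.card_insert_of_notMem (by simp [Subtype.ext_iff, Ne.symm hz1, Ne.symm hu1, Ne.symm huz1, Ne.symm h1]),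
        Finset.card_insert_of_notMem (by simp [Subtype.ext_iff, Ne.symm huz, hu1, Ne.symm h2]),
        Finset.card_insert_of_notMem (by simp [Subtype.ext_iff, hz1, Ne.symm h3]),
        Finset.card_insert_of_notMem (by simp [Subtype.ext_iff, Ne.symm h4]), Finset.card_singleton] at hsub
      omega
    -- conjugates of `u` in `P`
    have hconju : ∀ g ∈ (P : Subgroup G), g ∉ C → g * u * g⁻¹ = u * z := by
      intro g hg hgC
      rcases hU4' _ (hconjU g hg u hu) with h | h | h | h
      · exact absurd (conj_eq_one_iff.1 h) hu1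
      · refine absurd ?_ huz
        have := Subgroup.mem_centralizer_iff.1 hzZ.2 g hg
        exact mul_left_cancel ((mul_inv_eq_iff_eq_mul.1 h).trans this.symm)
      · exact absurd (Subgroup.mem_centralizer_singleton_iff.2 (mul_inv_eq_iff_eq_mul.1 h)) hgC
      · exact h
    have hPidx : ∀ a ∈ (P : Subgroup G), a ∉ C → ∀ b ∈ (P : Subgroup G), b ∉ C → a⁻¹ * b ∈ P0 := by
      intro a ha haC b hb hbC
      refine ⟨Subgroup.mul_mem _ (Subgroup.inv_mem _ ha) hb, Subgroup.mem_centralizer_singleton_iff.2 ?_⟩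
      have h1 := hconju a ha haC
      have h2 := hconju b hb hbC
      rw [← h1] at h2
      calc a⁻¹ * b * u = a⁻¹ * (b * u * b⁻¹) * b := by group
        _ = u * (a⁻¹ * b) := by rw [h2]; group
    obtain ⟨a, ha, haC⟩ := SetLike.not_le_iff_exists.1 hPC
    have hidxP : Nat.card (P : Subgroup G) = 2 * Nat.card P0 := by
      have h1 : P0.relIndex (P : Subgroup G) = 2 := by
        rw [Subgroup.relIndex, Subgroup.index_eq_two_iff]
        refine ⟨⟨a, ha⟩⁻¹, fun b => ?_⟩
        by_cases hb : (b : G) ∈ C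
        · refine Or.inr ⟨⟨b.2, hb⟩, fun h => haC ?_⟩
          have := P0.mul_mem (P0.inv_mem ⟨b.2, hb⟩) h
          simpa using this.2
        · refine Or.inl ⟨?_, fun h => hb h.2⟩
          rw [Subgroup.mem_subgroupOf]
          have hbi : (b : G)⁻¹ ∉ C := fun h => hb (by simpa using C.inv_mem h)
          have := hPidx (b : G)⁻¹ (Subgroup.inv_mem _ b.2) hbi a⁻¹ (Subgroup.inv_mem _ ha)
            (fun h => haC (by simpa using C.inv_mem h))
          simpa using this
      have h2 := (P0.subgroupOf (P : Subgroup G)).card_mul_index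
      rw [← Subgroup.relIndex, h1, Nat.card_congr (Subgroup.subgroupOfEquivOfLe inf_le_left).toEquiv] at h2
      exact h2.symm.trans (mul_comm _ _)
    have hPT0 : T ≤ Subgroup.normalizer (P0 : Set G) := by
      refine (Subgroup.normal_subgroupOf_iff_le_normalizer hPT).1 ?_
      obtain ⟨q, hq⟩ := hTc
      have h2 := (P0.subgroupOf T).card_mul_index
      rw [Nat.card_congr (Subgroup.subgroupOfEquivOfLe hPT).toEquiv] at h2
      have h3 : (P0.subgroupOf T).index * q = 2 := by
        refine Nat.eq_of_mul_eq_mul_left (Nat.card_pos (α := P0)) ?_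
        rw [← mul_assoc, h2, ← hq, hidxP]; ring
      rcases (Nat.dvd_prime Nat.prime_two).1 (Dvd.intro _ h3) with h | h
      · rw [Subgroup.index_eq_one.1 h]; infer_instance
      · exact Subgroup.normal_of_index_eq_two h
    -- the involutions in the centre of `P0` lie in `U`
    have hUP0 : ∀ x ∈ U, x ∈ P0 := fun x hx =>
      ⟨hUP hx, Subgroup.mem_centralizer_singleton_iff.2 (hUc x hx u hu)⟩
    have hUcen : ∀ x ∈ U, ∀ g ∈ P0, g * x = x * g := by
      intro x hx g hg
      have hgu := Subgroup.mem_centralizer_singleton_iff.1 hg.2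
      have hgz := Subgroup.mem_centralizer_iff.1 hzZ.2 g hg.1
      rcases hU4' x hx with rfl | rfl | rfl | rfl
      · simp
      · exact hgz
      · exact hgu
      · exact ((show Commute g u from hgu).mul_right hgz).eq
    have hY : ∀ y ∈ P0, (∀ g ∈ P0, g * y = y * g) → y * y = 1 → y ∈ U := by
      intro y hy hyc hy2
      -- a commuting involution fixed by `a` is central
      have hfix : ∀ x ∈ P0, (∀ g ∈ P0, g * x = x * g) → a * x * a⁻¹ = x → x ∈ ZP := by
        intro x hx hxc hax
        refine ⟨hx.1, Subgroup.mem_centralizer_iff.2 fun g hg => ?_⟩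
        by_cases hgC : g ∈ C
        · exact hxc g ⟨hg, hgC⟩
        · have h1 := hxc _ (hPidx a ha haC g hg hgC)
          have h2 : a * x = x * a := mul_inv_eq_iff_eq_mul.1 hax
          calc g * x = a * (a⁻¹ * g * x) := by group
            _ = a * x * (a⁻¹ * g) := by rw [h1, mul_assoc]
            _ = x * g := by rw [h2]; group
      have haP0 : a ∈ Subgroup.normalizer (P0 : Set G) := by
        haveI : (P0.subgroupOf (P : Subgroup G)).Normal := Subgroup.normal_of_index_eq_two (by
          have h2 := (P0.subgroupOf (P : Subgroup G)).card_mul_index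
          rw [Nat.card_congr (Subgroup.subgroupOfEquivOfLe inf_le_left).toEquiv, hidxP] at h2
          exact Nat.eq_of_mul_eq_mul_left Nat.card_pos (h2.trans (mul_comm _ _)))
        exact (Subgroup.normal_subgroupOf_iff_le_normalizer inf_le_left).1 this ha
      set y' := a * y * a⁻¹ with hy'
      have hy'P : y' ∈ P0 := (Subgroup.mem_normalizer_iff.1 haP0 y).1 hy
      have hy'c : ∀ g ∈ P0, g * y' = y' * g := fun g hg => by
        have h1 := hyc _ ((Subgroup.mem_normalizer_iff''.1 haP0 g).1 hg)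
        calc g * y' = a * ((a⁻¹ * g * a) * y) * a⁻¹ := by rw [hy']; group
          _ = a * (y * (a⁻¹ * g * a)) * a⁻¹ := by rw [h1]
          _ = y' * g := by rw [hy']; group
      have hy'2 : y' * y' = 1 := by
        rw [hy', show a * y * a⁻¹ * (a * y * a⁻¹) = a * (y * y) * a⁻¹ by group, hy2]; group
      have hyy : y' * y = y * y' := hyc y' hy'P
      have ha2 : a * a ∈ P0 := by
        refine ⟨Subgroup.mul_mem _ ha ha, ?_⟩
        by_contra h
        have := (hPidx a ha haC (a * a) (Subgroup.mul_mem _ ha ha) h).2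
        rw [inv_mul_cancel_left] at this
        exact haC this
      have haa : a * y' * a⁻¹ = y := by
        rw [hy', show a * (a * y * a⁻¹) * a⁻¹ = a * a * y * (a * a)⁻¹ by group, hyc _ ha2,
          mul_inv_cancel_right]
      have hw : y * y' ∈ ZP := by
        refine hfix _ (P0.mul_mem hy hy'P) (fun g hg => ?_) ?_
        · exact ((show Commute g y from hyc g hg).mul_right (hy'c g hg)).eq
        · rw [show a * (y * y') * a⁻¹ = y' * (a * y' * a⁻¹) by rw [hy']; group, haa, hyy]
      by_cases hyy1 : y * y' = 1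
      · have hyZ : y ∈ ZP := hfix y hy hyc (by
          have h4 : y' = y := by rw [← one_mul y', ← hy2, mul_assoc, hyy1, mul_one]
          exact h4)
        rcases eq_or_ne y 1 with rfl | hy1
        · exact U.one_mem
        · rw [hinvo y hyZ z hzZ hy2 (hsq z hzU) hy1 hz1]; exact hzU
      · have h5 : y * y' = z := hinvo _ hw z hzZ (by
          rw [mul_assoc, ← mul_assoc y' y y', hyy, mul_assoc y y', hy'2, mul_one, hy2]) (hsq z hzU) hyy1 hz1
        -- `y u` is fixed by `a`
        have hau := hconju a ha haC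
        have h6 : y' = y * z := by rw [← h5, ← mul_assoc, hy2, one_mul]
        have hyu : y * u ∈ ZP := by
          refine hfix _ (P0.mul_mem hy (hUP0 u hu)) (fun g hg => ?_) ?_
          · rw [← mul_assoc, hyc g hg, mul_assoc, hUcen u hu g hg, mul_assoc]
          · rw [show a * (y * u) * a⁻¹ = y' * (a * u * a⁻¹) by rw [hy']; group, hau, h6,
              hUc u hu z hzU, mul_assoc, ← mul_assoc z, hsq z hzU, one_mul]
        rcases eq_or_ne (y * u) 1 with h7 | h7
        · rw [eq_inv_of_mul_eq_one_left h7]; exact U.inv_mem hu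
        · have h8 : y * u = z := hinvo _ hyu z hzZ (by
            rw [mul_assoc, ← mul_assoc u, ← (hyc u (hUP0 u hu)).symm.trans rfl, mul_assoc, hsq u hu,
              mul_one, hy2]) (hsq z hzU) h7 hz1
          rw [show y = z * u⁻¹ by rw [← h8]; group]
          exact U.mul_mem hzU (U.inv_mem hu)
    intro t ht
    rw [Subgroup.mem_normalizer_iff_map_conj_eq]
    refine Subgroup.eq_of_le_of_card_ge ?_ (le_of_eq (Nat.card_congr
      (Subgroup.equivMapOfInjective _ _ (MulAut.conj t).injective).toEquiv))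
    rintro _ ⟨x, hx, rfl⟩
    show t * x * t⁻¹ ∈ U
    refine hY _ ((Subgroup.mem_normalizer_iff.1 (hPT0 ht) x).1 (hUP0 x hx)) (fun g hg => ?_) ?_
    · have h1 := hUcen x hx _ ((Subgroup.mem_normalizer_iff''.1 (hPT0 ht) g).1 hg)
      calc g * (t * x * t⁻¹) = t * ((t⁻¹ * g * t) * x) * t⁻¹ := by group
        _ = t * x * t⁻¹ * g := by rw [h1]; group
    · rw [show t * x * t⁻¹ * (t * x * t⁻¹) = t * (x * x) * t⁻¹ by group, hsq x hx]; group
  -- each centralizer
  have hloc : ∀ u ∈ U, u ≠ 1 → U ≤ Subgroup.centralizer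
      ((K ⊓ Subgroup.centralizer ({u} : Set G) : Subgroup G) : Set G) := by
    intro u hu hu1
    obtain ⟨T, -, hTU, hTR⟩ := hT u hu hu1
    set C := Subgroup.centralizer ({u} : Set G) with hC
    have hNC : Subgroup.normalizer ((Subgroup.zpowers u : Subgroup G) : Set G) = C := by
      have hmem : ∀ y, y ∈ Subgroup.zpowers u → y = 1 ∨ y = u := by
        intro y hy
        obtain ⟨i, rfl⟩ := Subgroup.mem_zpowers_iff.1 hy
        rcases Int.even_or_odd i with ⟨j, rfl⟩ | ⟨j, rfl⟩
        · left; rw [← two_mul, zpow_mul, zpow_two, hsq u hu, one_zpow]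
        · right; rw [zpow_add, zpow_mul, zpow_two, hsq u hu, one_zpow, one_mul, zpow_one]
      refine le_antisymm (fun g hg => ?_) (fun g hg => ?_)
      · rcases hmem _ ((Subgroup.mem_normalizer_iff.1 hg u).1 (Subgroup.mem_zpowers u)) with h | h
        · exact absurd (conj_eq_one_iff.1 h) hu1
        · exact Subgroup.mem_centralizer_singleton_iff.2 (mul_inv_eq_iff_eq_mul.1 h)
      · refine Subgroup.centralizer_le_normalizer _ ?_
        refine Subgroup.mem_centralizer_iff.2 fun y hy => ?_
        have hgu := Subgroup.mem_centralizer_singleton_iff.1 hg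
        rcases hmem y hy with rfl | rfl
        · simp
        · exact hgu.symm
    have hZ : IsPGroup 2 (Subgroup.zpowers u) :=
      IsPGroup.of_card (n := 1) (by rw [Nat.card_zpowers, orderOf_eq_prime (by rw [pow_two, hsq u hu]) hu1, pow_one])
    have hchar := h2.2 _ hZ (by rw [Ne, Subgroup.zpowers_eq_bot]; exact hu1)
    rw [hNC] at hchar
    set O := Cfsg.pCore 2 C with hO
    haveI hOn : O.Normal := Subgroup.sSup_normal _ fun N hN => hN.1
    have hOp : IsPGroup 2 O := CfsgLib.Fitting.pCore_isPGroup 2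
    have huO : (⟨u, Subgroup.mem_centralizer_singleton_iff.2 rfl⟩ : C) ∈ O := by
      refine (le_sSup (a := (Subgroup.zpowers u).subgroupOf C) ?_ : _ ≤ O)
        (Subgroup.mem_zpowers u)
      have hle : Subgroup.zpowers u ≤ C :=
        Subgroup.zpowers_le.2 (Subgroup.mem_centralizer_singleton_iff.2 rfl)
      exact ⟨(Subgroup.normal_subgroupOf_iff_le_normalizer hle).2 hNC.ge,
        hZ.of_equiv (Subgroup.subgroupOfEquivOfLe hle).symm⟩
    have hRn : C ≤ Subgroup.normalizer ((O.map C.subtype : Subgroup G) : Set G) := by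
      refine (Subgroup.normal_subgroupOf_iff_le_normalizer (Subgroup.map_subtype_le O)).1 ?_
      rwa [Subgroup.subgroupOf, Subgroup.comap_map_eq_self_of_injective C.subtype_injective]
    refine centralizes_of_core (R := O.map C.subtype) (W := C) hUcard hUc hu ⟨_, huO, rfl⟩ hu1 (hsq u hu)
      (hOp.map _) hRn (fun x hx => Subgroup.mem_centralizer_singleton_iff.2 (hUc x hx u hu))
      ((hTR _ (hOp.map _) (Subgroup.map_subtype_le O) hRn).trans hTU) ?_
      (hK.of_dvd_nat (Subgroup.card_dvd_of_le inf_le_left)) inf_le_right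
      (fun k hk => Subgroup.mem_centralizer_singleton_iff.1 hk.2) ?_
    · rintro x ⟨hxC, hx⟩
      refine ⟨⟨x, hxC⟩, hchar (Subgroup.mem_centralizer_iff.2 fun r hr => Subtype.ext ?_), rfl⟩
      exact Subgroup.mem_centralizer_iff.1 hx r ⟨r, hr, rfl⟩
    · refine le_trans (le_inf hUK ?_) (Subgroup.inf_normalizer_le_normalizer_inf)
      intro x hx
      exact Subgroup.le_normalizer (Subgroup.mem_centralizer_singleton_iff.2 (hUc x hx u hu))
  haveI : IsMulCommutative U := ⟨⟨fun x y => Subtype.ext (hUc x x.2 y y.2)⟩⟩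
  have hgen := CfsgLib.Coprime.iSup_centralizer_eq (A := U) (K := K) hU4.not_isCyclic hUK
    (by
      rw [hUcard, show (4 : ℕ) = 2 ^ 2 by norm_num]
      exact (Nat.coprime_two_left.2 hK).pow_left 2)
  rw [← Subgroup.le_centralizer_iff, ← hgen]
  exact iSup₂_le fun u hu => Subgroup.le_centralizer_iff.1 (hloc u hu.1 hu.2)

end Cfsg.Agent.S1957
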