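import Cfsg.Statements.S1959
import Mathlib
import Cfsg.Agent.Lib.Conjugacy.LocalGlobal
import Cfsg.Agent.Lib.Conjugacy.FusionSections

set_option autoImplicit false
set_option linter.style.haveILetI false
open Cfsg

namespace Cfsg.Agent.S1959

/-- Let p be a prime, G a finite group with Sylow p-subgroup S, and 𝓦 a set of conjugacy functors for p on G. Suppose that 𝓦 controls strong fusion in N_G(T) for every nonidentity subgroup T of S for which N_S(T) is a Sylow p-subgroup of N_G(T). Then 𝓦 controls strong fusion in G. (A set of functors controls strong fusion in a subgroup H when, for a Sylow p-subgroup T' of H, every conjugation of a tuple of elements of T' into T' by an element of H is a composite of conjugations inside the normalizers N_H(W(T')), W ∈ 𝓦, all intermediate tuples staying in T'.) -/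
theorem result {G : Type*} [Group G] [Finite G] {p : ℕ} [Fact p.Prime] (S : Sylow p G) (𝓦 : Set (Subgroup G → Subgroup G)) (h𝓦 : ∀ W ∈ 𝓦, Cfsg.IsConjugacyFunctor p W) (hloc : ∀ T : Subgroup G, T ≤ (S : Subgroup G) → T ≠ ⊥ → ¬ p ∣ ((S : Subgroup G) ⊓ Subgroup.normalizer ((T : Subgroup G) : Set G)).relIndex (Subgroup.normalizer ((T : Subgroup G) : Set G)) → Cfsg.FamilyControlsStrongFusionIn p 𝓦 (Subgroup.normalizer ((T : Subgroup G) : Set G))) : Cfsg.FamilyControlsStrongFusionIn p 𝓦 ⊤ := by
  refine ⟨(S : Subgroup G), le_top, S.2, by rw [Subgroup.relIndex_top_right]; exact S.not_dvd_index,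
    fun A h _ hA hhA => ?_⟩
  have hP : Subgroup.closure A ≤ (S : Subgroup G) := (Subgroup.closure_le _).mpr hA
  have hgP : CfsgLib.Conjugacy.cj h (Subgroup.closure A) ≤ (S : Subgroup G) := by
    rw [CfsgLib.Conjugacy.cj, MonoidHom.map_closure, Subgroup.closure_le]
    rintro _ ⟨a, ha, rfl⟩
    exact hhA ⟨a, ha, rfl⟩
  have hctl := CfsgLib.Conjugacy.ctl_local_to_global h𝓦 (CfsgLib.Conjugacy.niceFam_fullyNorm h𝓦)
    (fun U hU hU1 => CfsgLib.Conjugacy.ctl_of_family_in (hloc U hU.1 hU1 hU.2)) _ h hP hgP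
  obtain ⟨n, c, c0, cs, ci, cl⟩ := hctl.exists_chain
  refine ⟨n, fun i => c i.val, c0, fun i => ?_, fun i => ?_, fun a ha => ?_⟩
  · obtain ⟨_, ⟨W, hW, rfl⟩, hm⟩ := cs i.val i.isLt
    exact ⟨W, hW, ⟨Subgroup.mem_top _, hm⟩⟩
  · rintro _ ⟨a, ha, rfl⟩
    exact ci i.val (Nat.le_of_lt_succ i.isLt)
      (CfsgLib.Conjugacy.conj_mem_cj (Subgroup.subset_closure ha))
  · exact cl a (Subgroup.subset_closure ha)

end Cfsg.Agent.S1959
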