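import Cfsg.Statements.S1961
import Mathlib
import Cfsg.Agent.Lib.Conjugacy.LocalGlobal
import Cfsg.Agent.Lib.Conjugacy.FusionSections

set_option autoImplicit false
set_option linter.style.haveILetI false
open Cfsg

namespace Cfsg.Agent.S1961

/-- Local-to-global control of strong fusion through well-placed subgroups. Let p be a prime, G a finite group with Sylow p-subgroup S, and W a conjugacy functor for p on G. If W controls strong fusion in N_G(T) for every nonidentity subgroup T of S that is well placed in S with respect to W, then W controls strong fusion in G. -/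
theorem result {G : Type*} [Group G] [Finite G] {p : ℕ} [Fact p.Prime] (S : Sylow p G) (W : Subgroup G → Subgroup G) (hW : Cfsg.IsConjugacyFunctor p W) (hloc : ∀ T : Subgroup G, T ≠ ⊥ → Cfsg.IsWellPlaced p W (S : Subgroup G) T → Cfsg.ControlsStrongFusionIn p W (Subgroup.normalizer ((T : Subgroup G) : Set G))) : Cfsg.ControlsStrongFusionIn p W ⊤ := by
  have h𝓦 : ∀ W' ∈ ({W} : Set (Subgroup G → Subgroup G)), Cfsg.IsConjugacyFunctor p W' := by
    rintro _ rfl; exact hW
  refine ⟨(S : Subgroup G), le_top, S.2, by rw [Subgroup.relIndex_top_right]; exact S.not_dvd_index,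
    fun A h _ hA hhA => ?_⟩
  have hP : Subgroup.closure A ≤ (S : Subgroup G) := (Subgroup.closure_le _).mpr hA
  have hgP : CfsgLib.Conjugacy.cj h (Subgroup.closure A) ≤ (S : Subgroup G) := by
    rw [CfsgLib.Conjugacy.cj, MonoidHom.map_closure, Subgroup.closure_le]
    rintro _ ⟨a, ha, rfl⟩
    exact hhA ⟨a, ha, rfl⟩
  have hctl := CfsgLib.Conjugacy.ctl_local_to_global h𝓦 (CfsgLib.Conjugacy.niceFam_wellPlaced hW)
    (fun U hU hU1 => ?_) _ h hP hgP
  · obtain ⟨x, hx, hxa⟩ := CfsgLib.Conjugacy.exists_mem_of_ctl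
      (N := Subgroup.normalizer ((W (S : Subgroup G) : Subgroup G) : Set G))
      (by rintro _ ⟨W', rfl, rfl⟩; exact le_rfl) hctl
    exact ⟨x, ⟨Subgroup.mem_top _, hx⟩, fun a ha => (hxa a (Subgroup.subset_closure ha)).symm⟩
  · obtain ⟨T, hT, hTp, hTi, hc⟩ := hloc U hU1 hU
    refine ⟨T, hT, hTp, hTi, fun P g hP hg hgP => ?_⟩
    obtain ⟨x, hx, hxa⟩ := hc (P : Set G) g hg hP (by
      rintro _ ⟨a, ha, rfl⟩; exact hgP (CfsgLib.Conjugacy.conj_mem_cj ha))
    refine CfsgLib.Conjugacy.Ctl.congr (g := x) (.step (Subgroup.normalizer (U : Set G) ⊓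
      Subgroup.normalizer ((W T : Subgroup G) : Set G)) ⟨W, rfl, rfl⟩ hx hP ?_) hxa
    rw [CfsgLib.Conjugacy.Ctl.cj_eq_of_agree hxa]
    exact hgP

end Cfsg.Agent.S1961
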