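import Cfsg.Statements.S1962
import Cfsg.Agent.Lib.Conjugacy.TransferSections


set_option autoImplicit false
open Cfsg

namespace Cfsg.Agent.S1962

open CfsgLib.Conjugacy CfsgLib.Transfer

open scoped commutatorElement

universe u

theorem tower_shift {G : Type*} [Group G] (W : Subgroup G → Subgroup G) (S T : Subgroup G) (i : ℕ) :
    ∀ j, Cfsg.functorTower W S (Cfsg.functorTower W S T i) j = Cfsg.functorTower W S T (i + j) := by
  intro j
  induction j with
  | zero => rfl
  | succ j ih =>
    show W _ = W (S ⊓ Subgroup.normalizer ((Cfsg.functorTower W S T (i + j) : Subgroup G) : Set G))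
    rw [ih]

theorem local_to_global {G : Type u} [Group G] [Finite G] {p : ℕ} [Fact p.Prime] (S : Sylow p G)
    (W : Subgroup G → Subgroup G) (hW : Cfsg.IsConjugacyFunctor p W)
    (hloc : ∀ T : Subgroup G, T ≠ ⊥ → Cfsg.IsWellPlaced p W (S : Subgroup G) T →
      Cfsg.ControlsTransferIn p W (Subgroup.normalizer ((T : Subgroup G) : Set G))) :
    Cfsg.ControlsTransferIn p W ⊤ := by
  set N0 := Subgroup.normalizer ((W (S : Subgroup G) : Subgroup G) : Set G) with hN0
  -- one step along the tower
  have hstep : ∀ U : Subgroup G, U ≠ ⊥ → Cfsg.IsWellPlaced p W (S : Subgroup G) U →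
      (S : Subgroup G) ⊓ Subgroup.normalizer (U : Set G) ⊓
        ⁅Subgroup.normalizer (U : Set G), Subgroup.normalizer (U : Set G)⁆ ≤
      ⁅Subgroup.normalizer ((W ((S : Subgroup G) ⊓ Subgroup.normalizer (U : Set G)) : Subgroup G) : Set G),
        Subgroup.normalizer ((W ((S : Subgroup G) ⊓ Subgroup.normalizer (U : Set G)) : Subgroup G) : Set G)⁆ := by
    intro U hU hwp
    obtain ⟨T', hT'N, hT'p, hT'i, he⟩ := hloc U hU hwp
    set N := Subgroup.normalizer (U : Set G) with hN
    set R := (S : Subgroup G) ⊓ N with hR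
    have hRp : IsPGroup p R := S.2.to_le inf_le_left
    obtain ⟨y, hy, hyR⟩ := exists_cj_le_of_relIndex hT'N hT'p hT'i (inf_le_right : R ≤ N) hRp
    obtain ⟨y', -, hy'⟩ := exists_cj_le_of_relIndex (inf_le_right : R ≤ N) hRp
      (show ¬ p ∣ R.relIndex N from hwp.2 0) hT'N hT'p
    have heq : cj y R = T' := Subgroup.eq_of_le_of_card_ge hyR (by
      rw [card_cj, ← card_cj y' T']
      exact Subgroup.card_le_of_le hy')
    intro z hz
    have h1 : y * z * y⁻¹ ∈ T' ⊓ ⁅N, N⁆ := by
      refine ⟨heq.le (conj_mem_cj hz.1), ?_⟩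
      have h2 : cj y ⁅N, N⁆ = ⁅N, N⁆ := by
        rw [cj, Subgroup.map_commutator, ← cj, cj_eq_of_mem_normalizer (Subgroup.le_normalizer hy)]
      exact h2.le (conj_mem_cj hz.2)
    rw [he] at h1
    have h3 : y * z * y⁻¹ ∈ cj y ⁅Subgroup.normalizer ((W R : Subgroup G) : Set G),
        Subgroup.normalizer ((W R : Subgroup G) : Set G)⁆ := by
      have hnorm : cj y (Subgroup.normalizer ((W R : Subgroup G) : Set G)) =
          Subgroup.normalizer ((W T' : Subgroup G) : Set G) := by
        rw [← heq, (hW R hRp).2.2 y]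
        exact Subgroup.map_equiv_normalizer_eq _ (MulAut.conj y)
      rw [cj, Subgroup.map_commutator, ← cj, hnorm]
      exact Subgroup.commutator_mono inf_le_right inf_le_right h1.2
    exact (Subgroup.mem_map_iff_mem (MulAut.conj y).injective).mp h3
  have hlift : ∀ (n : ℕ) (U : Subgroup G), U ≠ ⊥ → Cfsg.IsWellPlaced p W (S : Subgroup G) U →
      Nat.card (S : Subgroup G) < Nat.card ↥((S : Subgroup G) ⊓ Subgroup.normalizer (U : Set G)) + n →
      (S : Subgroup G) ⊓ Subgroup.normalizer (U : Set G) ⊓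
        ⁅Subgroup.normalizer (U : Set G), Subgroup.normalizer (U : Set G)⁆ ≤ ⁅N0, N0⁆ := by
    intro n
    induction n with
    | zero =>
      intro U _ _ h
      have := Subgroup.card_le_of_le
        (inf_le_left : (S : Subgroup G) ⊓ Subgroup.normalizer (U : Set G) ≤ S)
      omega
    | succ n ih =>
      intro U hU hwp hlt
      set R := (S : Subgroup G) ⊓ Subgroup.normalizer (U : Set G) with hR
      have h1 := hstep U hU hwp
      rw [← hR] at h1
      by_cases hRS : R = (S : Subgroup G)
      · rw [hRS] at h1 ⊢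
        exact h1
      have hRp : IsPGroup p R := S.2.to_le inf_le_left
      have hR1 : R ≠ ⊥ := fun e =>
        hU (le_bot_iff.mp ((le_inf hwp.1 Subgroup.le_normalizer).trans e.le))
      have hU' : W R ≠ ⊥ := (hW R hRp).2.1 hR1
      have hwp' : Cfsg.IsWellPlaced p W (S : Subgroup G) (W R) := by
        refine ⟨(hW R hRp).1.trans inf_le_left, fun j => ?_⟩
        rw [show Cfsg.functorTower W (S : Subgroup G) (W R) j =
          Cfsg.functorTower W (S : Subgroup G) U (1 + j) from
            tower_shift W (S : Subgroup G) U 1 j]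
        exact hwp.2 (1 + j)
      set R' := (S : Subgroup G) ⊓ Subgroup.normalizer ((W R : Subgroup G) : Set G) with hR'
      have hlt2 : R < R' := by
        refine lt_of_lt_of_le (lt_inf_normalizer S.2 (lt_of_le_of_ne inf_le_left hRS))
          (inf_le_inf_left _ fun x hx => Subgroup.mem_normalizer_iff_map_conj_eq.mpr ?_)
        have h2 := (hW R hRp).2.2 x
        rw [show R.map (MulAut.conj x).toMonoidHom = R from cj_eq_of_mem_normalizer hx] at h2
        exact h2.symm
      intro z hz
      exact ih (W R) hU' hwp' (by have := card_lt_card hlt2; rw [hR'] at this; omega) ⟨hlt2.le hz.1, h1 hz⟩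
  refine ⟨(S : Subgroup G), le_top, S.2, by rw [Subgroup.relIndex_top_right]; exact S.not_dvd_index, ?_⟩
  rw [top_inf_eq, ← hN0]
  refine le_antisymm ?_ (inf_le_inf_left _ (Subgroup.commutator_mono le_top le_top))
  refine le_inf inf_le_left ?_
  rw [← commutator_def, inf_comm, Subgroup.commutator_inf_eq_focalSubgroup S,
    Subgroup.focalSubgroup_def, Subgroup.closure_le]
  rintro z ⟨hz, x, hx, u', rfl⟩
  have hu : u' * x⁻¹ * u'⁻¹ ∈ (S : Subgroup G) := by
    rw [show u' * x⁻¹ * u'⁻¹ = x⁻¹ * ⁅x, u'⁆ by simp [commutatorElement_def, mul_assoc]]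
    exact Subgroup.mul_mem _ (Subgroup.inv_mem _ hx) hz
  obtain ⟨l, hl, hprod⟩ := fam_of_fullyNorm (p := p)
    (𝓕 := {T : Subgroup G | Cfsg.IsWellPlaced p W (S : Subgroup G) T}) S
    (fun T hT => by
      obtain ⟨g, hg⟩ := exists_wellPlaced hW S hT
      exact ⟨_, hg, ⟨g, rfl⟩, hg.2 0⟩)
    (fun T hT => hT.1) (Nat.card (S : Subgroup G) + 1) (Subgroup.zpowers x⁻¹) (by omega) u'⁻¹
    (Subgroup.zpowers_le.mpr (Subgroup.inv_mem _ hx))
    (by rw [inv_inv, cj, MonoidHom.map_zpowers]; exact Subgroup.zpowers_le.mpr hu)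
  have h2 := telescope (n := 0) (T := ⁅N0, N0⁆) (fun Q hQ _ => ?_) hl (Nat.zero_le _) x⁻¹
    (Subgroup.mem_zpowers _)
  · rw [hprod, inv_inv, inv_inv] at h2
    show ⁅x, u'⁆ ∈ ⁅N0, N0⁆
    simpa [commutatorElement_def, mul_assoc] using h2
  · rcases eq_or_ne Q ⊥ with rfl | hQ1
    · rw [Subgroup.commutator_bot_left]; exact bot_le
    refine le_trans ?_ (hlift _ Q hQ1 hQ (Nat.lt_add_of_pos_left Nat.card_pos))
    refine le_inf (le_trans ?_ (le_inf hQ.1 Subgroup.le_normalizer))
      (Subgroup.commutator_mono Subgroup.le_normalizer le_rfl)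
    rw [Subgroup.commutator_le]
    intro a ha b hb
    rw [show ⁅a, b⁆ = a * (b * a⁻¹ * b⁻¹) by simp [commutatorElement_def, mul_assoc]]
    exact Q.mul_mem ha ((Subgroup.mem_normalizer_iff.mp hb _).mp (Q.inv_mem ha))

/-- Local-to-global control of transfer through well-placed subgroups. Let p be a prime, G a finite group with Sylow p-subgroup S, and W a conjugacy functor for p on G. If W controls transfer in N_G(T) for every nonidentity subgroup T of S that is well placed in S with respect to W, then W controls transfer in G: S ∩ G' = S ∩ (N_G(W(S)))'. -/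
theorem result {G : Type*} [Group G] [Finite G] {p : ℕ} [Fact p.Prime] (S : Sylow p G) (W : Subgroup G → Subgroup G) (hW : Cfsg.IsConjugacyFunctor p W) (hloc : ∀ T : Subgroup G, T ≠ ⊥ → Cfsg.IsWellPlaced p W (S : Subgroup G) T → Cfsg.ControlsTransferIn p W (Subgroup.normalizer ((T : Subgroup G) : Set G))) : Cfsg.ControlsTransferIn p W ⊤ := by
  exact local_to_global S W hW hloc

end Cfsg.Agent.S1962
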