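import Mathlib
import Cfsg.Statements.S1966
import Cfsg.Agent.Lib.Fitting.Basic

set_option autoImplicit false
set_option linter.style.haveILetI false
set_option linter.unusedVariables false
open Cfsg

namespace Cfsg.Agent.S1966

/-- Let p be a prime, G a finite group with Sylow p-subgroup S and 𝓕 a conjugation family for S in G. Then the members of 𝓕 containing O_p(G) still form a conjugation family for S in G. -/
theorem result {G : Type*} [Group G] [Finite G] {p : ℕ} [Fact p.Prime] (S : Sylow p G) (𝓕 : Set (Subgroup G)) (h : Cfsg.IsConjugationFamily 𝓕 (S : Subgroup G)) : Cfsg.IsConjugationFamily {T : Subgroup G | T ∈ 𝓕 ∧ Cfsg.pCore p G ≤ T} (S : Subgroup G) := by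
  refine ⟨fun T hT => h.1 T hT.1, fun A g hA hAS hAg => ?_⟩
  haveI := CfsgLib.Fitting.pCore_normal (G := G) p
  have hQS : Cfsg.pCore p G ≤ (S : Subgroup G) :=
    IsPGroup.le_sylow_of_normal (CfsgLib.Fitting.pCore_isPGroup p) S
  have hinv : ∀ (u : G) (q : G), q ∈ Cfsg.pCore p G → u⁻¹ * q * u ∈ Cfsg.pCore p G := fun u q hq =>
    Subgroup.Normal.conj_mem' inferInstance q hq u
  obtain ⟨n, T, x, hprod, hT, hx, h0, hstep⟩ := h.2 (A ∪ (Cfsg.pCore p G : Set G)) g (hA.mono Set.subset_union_left)
    (Set.union_subset hAS hQS) (by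
      rw [Set.image_union]
      exact Set.union_subset hAg (Set.image_subset_iff.mpr fun q hq => hQS (hinv g q hq)))
  refine ⟨n, T, x, hprod, fun i => ⟨hT i, ?_⟩, hx, fun hn => Set.subset_union_left.trans (h0 hn),
    fun i hi => (Set.image_mono Set.subset_union_left).trans (hstep i hi)⟩
  rcases i with ⟨_ | j, hj⟩
  · exact fun q hq => h0 hj (Or.inr hq)
  · intro q hq
    set u := ((List.ofFn x).take (j + 1)).prod
    have h1 := hstep ⟨j, by omega⟩ hj (Set.mem_image_of_mem _
      (Or.inr (Subgroup.Normal.conj_mem inferInstance q hq u : u * q * u⁻¹ ∈ Cfsg.pCore p G)))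
    change u⁻¹ * (u * q * u⁻¹) * u ∈ _ at h1
    rw [show u⁻¹ * (u * q * u⁻¹) * u = q by group] at h1
    exact h1

end Cfsg.Agent.S1966
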