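import Mathlib
import Cfsg.Statements.S1967
import Cfsg.Agent.Lib.Transfer.Basic
import Cfsg.Agent.Lib.Transfer.Sylow

set_option autoImplicit false
set_option linter.style.haveILetI false
set_option linter.unusedVariables false
open Cfsg

namespace Cfsg.Agent.S1967

/-- Let p be a prime, G a finite group with Sylow p-subgroup S and W a conjugacy functor for p on G. Then W controls strong fusion in G if and only if, whenever T ≤ S and g ∈ G satisfy gTg⁻¹ ≤ S, one can write g = n c with n ∈ N_G(W(S)) and c ∈ C_G(T). -/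
theorem result {G : Type*} [Group G] [Finite G] {p : ℕ} [Fact p.Prime] (S : Sylow p G) (W : Subgroup G → Subgroup G) (hW : Cfsg.IsConjugacyFunctor p W) : Cfsg.ControlsStrongFusionIn p W ⊤ ↔ ∀ (T : Subgroup G) (g : G), T ≤ (S : Subgroup G) → T.map (MulAut.conj g).toMonoidHom ≤ (S : Subgroup G) → ∃ n ∈ Subgroup.normalizer ((W (S : Subgroup G) : Subgroup G) : Set G), ∃ c ∈ Subgroup.centralizer (T : Set G), g = n * c := by
  constructor
  · rintro ⟨T₀, -, hp, hidx, hctrl⟩ T g hT hg
    obtain ⟨x, hx⟩ := CfsgLib.Transfer.exists_map_conj_sylow_eq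
      (hp.toSylow (by rwa [Subgroup.relIndex_top_right] at hidx)) S
    change T₀.map (MulAut.conj x).toMonoidHom = (S : Subgroup G) at hx
    have hWS : W (S : Subgroup G) = (W T₀).map (MulAut.conj x).toMonoidHom := by
      rw [← hx]; exact (hW T₀ hp).2.2 x
    have mem0 : ∀ s ∈ (S : Subgroup G), x⁻¹ * s * x ∈ T₀ := fun s hs =>
      CfsgLib.Transfer.mem_conj_map_iff.mp (hx.ge hs)
    obtain ⟨y, ⟨-, hy⟩, hya⟩ := hctrl ((fun t => x⁻¹ * t * x) '' (T : Set G)) (x⁻¹ * g * x) trivial
      (by rintro _ ⟨t, ht, rfl⟩; exact mem0 t (hT ht))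
      (by
        rintro _ ⟨_, ⟨t, ht, rfl⟩, rfl⟩
        have := mem0 _ (hg ⟨t, ht, rfl⟩)
        simp only [MulEquiv.toMonoidHom_eq_coe, MonoidHom.coe_coe, MulAut.conj_apply] at this
        convert this using 1
        group
        exact Iff.rfl)
    refine ⟨x * y * x⁻¹, ?_, (x * y * x⁻¹)⁻¹ * g, ?_, by group⟩
    · rw [hWS, ← CfsgLib.Transfer.map_conj_eq_self_iff]
      calc ((W T₀).map (MulAut.conj x).toMonoidHom).map (MulAut.conj (x * y * x⁻¹)).toMonoidHom
          = (W T₀).map (MulAut.conj (x * y)).toMonoidHom := by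
            rw [CfsgLib.Transfer.map_conj_mul, show x * y * x⁻¹ * x = x * y by group]
        _ = _ := by rw [← CfsgLib.Transfer.map_conj_mul, CfsgLib.Transfer.map_conj_eq_self_iff.mpr hy]
    · refine Subgroup.mem_centralizer_iff.mpr fun t ht => ?_
      have h1 := hya _ ⟨t, ht, rfl⟩
      have h2 : (x * y * x⁻¹) * t * (x * y * x⁻¹)⁻¹ = g * t * g⁻¹ := by
        have h3 := congrArg (fun z => x * z * x⁻¹) h1
        simp only at h3
        convert h3 using 1 <;> group
      calc t * ((x * y * x⁻¹)⁻¹ * g)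
          = (x * y * x⁻¹)⁻¹ * ((x * y * x⁻¹) * t * (x * y * x⁻¹)⁻¹) * g := by group
        _ = _ := by rw [h2]; group
  · intro h
    refine ⟨S, le_top, S.2, by rw [Subgroup.relIndex_top_right]; exact S.not_dvd_index, fun A g _ hA hAg => ?_⟩
    obtain ⟨m, hm, c, hc, rfl⟩ := h (Subgroup.closure A) g ((Subgroup.closure_le _).mpr hA) (by
      rw [MonoidHom.map_closure, Subgroup.closure_le]
      exact hAg)
    refine ⟨m, ⟨trivial, hm⟩, fun a ha => ?_⟩
    have := Subgroup.mem_centralizer_iff.mp hc a (Subgroup.subset_closure ha)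
    calc m * a * m⁻¹ = m * (c * a * c⁻¹) * m⁻¹ := by rw [← this, mul_inv_cancel_right]
      _ = _ := by group

end Cfsg.Agent.S1967
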