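import Cfsg.Statements.S1970
import Cfsg.Agent.Lib.Conjugacy.TransferForms


set_option autoImplicit false
universe u
open Cfsg

namespace Cfsg.Agent.S1970

/-- Let p be a prime, G a finite group and W an isomorphism-invariant p-group functor (W assigns to every group Q a subgroup W(Q), nontrivial whenever Q is a nontrivial finite p-group, and every isomorphism from a finite p-group Q onto a group R carries W(Q) onto W(R)). Suppose that for every section G* = K/R of G with C_{G*}(O_p(G*)) ≤ O_p(G*) and every Sylow p-subgroup S* of G*, one has O_p(G*) ∩ (G*)' = O_p(G*) ∩ (N_{G*}(W(S*)))'. Then W controls transfer in every section G* of G: S* ∩ (G*)' = S* ∩ (N_{G*}(W(S*)))' for a Sylow p-subgroup S* of G*. -/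
theorem result {G : Type u} [Group G] [Finite G] {p : ℕ} [Fact p.Prime] (W : ∀ (Q : Type u) [Group Q], Subgroup Q) (hW : Cfsg.IsCharPFunctor.{u} p W) (hloc : ∀ (K R : Subgroup G) [hR : (R.subgroupOf K).Normal], Subgroup.centralizer ((Cfsg.pCore p (↥K ⧸ R.subgroupOf K) : Subgroup (↥K ⧸ R.subgroupOf K)) : Set (↥K ⧸ R.subgroupOf K)) ≤ Cfsg.pCore p (↥K ⧸ R.subgroupOf K) → ∀ T : Sylow p (↥K ⧸ R.subgroupOf K), Cfsg.pCore p (↥K ⧸ R.subgroupOf K) ⊓ commutator (↥K ⧸ R.subgroupOf K) = Cfsg.pCore p (↥K ⧸ R.subgroupOf K) ⊓ ⁅Subgroup.normalizer ((Cfsg.inducedFunctor (G := (↥K ⧸ R.subgroupOf K)) W ((T : Subgroup (↥K ⧸ R.subgroupOf K))) : Subgroup (↥K ⧸ R.subgroupOf K)) : Set (↥K ⧸ R.subgroupOf K)), Subgroup.normalizer ((Cfsg.inducedFunctor (G := (↥K ⧸ R.subgroupOf K)) W ((T : Subgroup (↥K ⧸ R.subgroupOf K))) : Subgroup (↥K ⧸ R.subgroupOf K)) : Set (↥K ⧸ R.subgroupOf K))⁆) : ∀ (K R : Subgroup G) [hR : (R.subgroupOf K).Normal], Cfsg.ControlsTransferIn p (Cfsg.inducedFunctor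 (G := (↥K ⧸ R.subgroupOf K)) W) ⊤ := by
  open CfsgLib.Conjugacy in
  intro K R _
  have h𝓦 : ∀ V ∈ ({W} : Set (∀ (Q : Type u) [Group Q], Subgroup Q)), Cfsg.IsCharPFunctor.{u} p V := by
    rintro V rfl
    exact hW
  refine controlsTransferIn_of_ok (ok_of_core (G₀ := G) h𝓦
    (fun X _ _ _ T => derived_le_focalJoin h𝓦 ⟨W, rfl⟩ T.2) (fun X _ _ hsec _ hc T => ?_)
    (sect_quotient K R))
  haveI := CfsgLib.Fitting.pCore_normal (G := X) p
  obtain ⟨K', R', hn, ⟨e⟩⟩ := exists_equiv_of_sect hsec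
  haveI := hn
  set T' : Sylow p (↥K' ⧸ R'.subgroupOf K') := T.mapSurjective (f := e.toMonoidHom) e.surjective
  have heq := hloc K' R' (constrained_congr e hc) T'
  have hle : ⁅Cfsg.pCore p X, (⊤ : Subgroup X)⁆ ≤ (T : Subgroup X) :=
    (Subgroup.commutator_le_left (Cfsg.pCore p X) ⊤).trans
      (IsPGroup.le_sylow_of_normal (CfsgLib.Fitting.pCore_isPGroup p) T)
  intro x hx
  refine le_focalJoin (Set.mem_singleton W) _ ⟨hle hx, ?_⟩
  have h1 : e x ∈ Cfsg.pCore p (↥K' ⧸ R'.subgroupOf K') ⊓ commutator (↥K' ⧸ R'.subgroupOf K') := by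
    refine ⟨(map_pCore_equiv (p := p) e).le (Subgroup.mem_map_of_mem e.toMonoidHom
      (Subgroup.commutator_le_left (Cfsg.pCore p X) ⊤ hx)), ?_⟩
    have := Subgroup.mem_map_of_mem e.toMonoidHom hx
    rw [Subgroup.map_commutator] at this
    exact Subgroup.commutator_mono le_top le_top this
  rw [heq] at h1
  have hT' : (T' : Subgroup _).map e.symm.toMonoidHom = (T : Subgroup X) := by
    show ((T : Subgroup X).map e.toMonoidHom).map e.symm.toMonoidHom = _
    rw [Subgroup.map_map, show e.symm.toMonoidHom.comp e.toMonoidHom = MonoidHom.id X from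
      MonoidHom.ext e.symm_apply_apply, Subgroup.map_id]
  have h2 := Subgroup.mem_map_of_mem e.symm.toMonoidHom h1.2
  rw [Subgroup.map_commutator] at h2
  rw [← hT', ← CfsgLib.Conjugacy.map hW e.symm.toMonoidHom T'.2 e.symm.injective.injOn]
  rw [show e.symm.toMonoidHom (e x) = x from e.symm_apply_apply x] at h2
  exact Subgroup.commutator_mono (Subgroup.le_normalizer_map _) (Subgroup.le_normalizer_map _) h2

end Cfsg.Agent.S1970
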