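import Cfsg.Statements.S1972
import Cfsg.Agent.Lib.Conjugacy.TransferForms
import Cfsg.Agent.Lib.Conjugacy.TransferEngel


set_option autoImplicit false
universe u
open Cfsg

namespace Cfsg.Agent.S1972

/-- Let p be a prime, G a finite group and W an isomorphism-invariant p-group functor (W assigns to every group Q a subgroup W(Q), nontrivial whenever Q is a nontrivial finite p-group, and every isomorphism from a finite p-group Q onto a group R carries W(Q) onto W(R)). Suppose that whenever G* = K/R is a section of G with C_{G*}(O_p(G*)) ≤ O_p(G*) and S* is a Sylow p-subgroup of G* with W(S*) not normal in G*, there is an element g of S* outside O_p(G*) such that [X, g, …, g] ≤ Y with p − 1 entries g, for every chief factor X/Y of G* with X ≤ O_p(G*). Then W controls transfer in every section of G. -/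
theorem result {G : Type u} [Group G] [Finite G] {p : ℕ} [Fact p.Prime] (W : ∀ (Q : Type u) [Group Q], Subgroup Q) (hW : Cfsg.IsCharPFunctor.{u} p W) (hloc : ∀ (K R : Subgroup G) [hR : (R.subgroupOf K).Normal], Subgroup.centralizer ((Cfsg.pCore p (↥K ⧸ R.subgroupOf K) : Subgroup (↥K ⧸ R.subgroupOf K)) : Set (↥K ⧸ R.subgroupOf K)) ≤ Cfsg.pCore p (↥K ⧸ R.subgroupOf K) → ∀ T : Sylow p (↥K ⧸ R.subgroupOf K), ¬ (Cfsg.inducedFunctor (G := (↥K ⧸ R.subgroupOf K)) W ((T : Subgroup (↥K ⧸ R.subgroupOf K)))).Normal → ∃ g : (↥K ⧸ R.subgroupOf K), g ∈ (T : Subgroup (↥K ⧸ R.subgroupOf K)) ∧ g ∉ Cfsg.pCore p (↥K ⧸ R.subgroupOf K) ∧ ∀ U V : Subgroup (↥K ⧸ R.subgroupOf K), Cfsg.IsChiefFactor U V → U ≤ Cfsg.pCore p (↥K ⧸ R.subgroupOf K) → Cfsg.iterCommutator U (Subgroup.zpowers g) (p - 1) ≤ V) : ∀ (K R : Subgroup G) [hR : (R.subgroupOf K).Normal], Cfsg.ControlsTransferIn p (Cfsg.inducedFunctor (G := (↥K ⧸ R.subgroupOf K)) W) ⊤ := by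
  open CfsgLib.Conjugacy in
  intro K R _
  have h𝓦 : ∀ V ∈ ({W} : Set (∀ (Q : Type u) [Group Q], Subgroup Q)), Cfsg.IsCharPFunctor.{u} p V := by
    rintro V rfl
    exact hW
  refine controlsTransferIn_of_ok (ok_of_core (G₀ := G) h𝓦
    (fun X _ _ _ T => derived_le_focalJoin h𝓦 ⟨W, rfl⟩ T.2) (fun X _ _ hsec hIH hc T => ?_)
    (sect_quotient K R))
  haveI := CfsgLib.Fitting.pCore_normal (G := X) p
  by_contra hbad
  obtain ⟨K', R', hn, ⟨e⟩⟩ := exists_equiv_of_sect hsec
  haveI := hn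
  set T' : Sylow p (↥K' ⧸ R'.subgroupOf K') := T.mapSurjective (f := e.toMonoidHom) e.surjective
  by_cases hnorm : (Cfsg.inducedFunctor W (T' : Subgroup (↥K' ⧸ R'.subgroupOf K'))).Normal
  · refine hbad ?_
    have hN : Subgroup.normalizer (Cfsg.inducedFunctor W (T : Subgroup X) : Set X) = ⊤ := by
      have h1 := hnorm.comap e.toMonoidHom
      rw [show (T' : Subgroup (↥K' ⧸ R'.subgroupOf K')) = (T : Subgroup X).map e.toMonoidHom from rfl,
        ← CfsgLib.Conjugacy.map hW e.toMonoidHom T.2 e.injective.injOn,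
        Subgroup.comap_map_eq_self_of_injective (f := e.toMonoidHom) e.injective] at h1
      exact Subgroup.normalizer_eq_top_iff.mpr h1
    refine le_trans ?_ (le_focalJoin (Set.mem_singleton W) _)
    rw [hN]
    exact le_inf ((Subgroup.commutator_le_left (Cfsg.pCore p X) ⊤).trans
      (IsPGroup.le_sylow_of_normal (CfsgLib.Fitting.pCore_isPGroup p) T))
      (Subgroup.commutator_mono le_top le_rfl)
  obtain ⟨g, hgT, hgD, hg⟩ := hloc K' R' (constrained_congr e hc) T' hnorm
  have hsym : ∀ z : ↥K' ⧸ R'.subgroupOf K', ∀ H : Subgroup X,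
      e.symm z ∈ H ↔ z ∈ H.map e.toMonoidHom := fun z H =>
    ⟨fun h => ⟨_, h, e.apply_symm_apply z⟩, fun ⟨w, hw, he⟩ => by
      rw [← he]
      exact (e.symm_apply_apply w).symm ▸ hw⟩
  refine no_engel h𝓦 ⟨W, rfl⟩ hIH T hbad (u := e.symm g) ((hsym g _).mpr hgT)
    (fun h => hgD ((map_pCore_equiv (p := p) e).le ((hsym g _).mp h))) fun U V hUV hUD => ?_
  have h1 := hg _ _ (isChiefFactor_map e hUV)
    ((Subgroup.map_mono hUD).trans (map_pCore_equiv (p := p) e).le)
  rw [← e.apply_symm_apply g, show e (e.symm g) = e.toMonoidHom (e.symm g) from rfl,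
    ← MonoidHom.map_zpowers, ← CfsgLib.PStable.map_iterCommutator] at h1
  exact (Subgroup.map_le_map_iff_of_injective e.injective).mp h1

end Cfsg.Agent.S1972
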