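import Mathlib
import Cfsg.Statements.S1990
import Cfsg.Agent.Lib.Conjugacy.Complement
import Cfsg.Agent.Lib.Transfer.Frobenius

set_option autoImplicit false
set_option linter.style.haveILetI false
set_option linter.unusedVariables false
universe u
open Cfsg

namespace Cfsg.Agent.S1990

/-- Let p be an odd prime, G a finite group with Sylow p-subgroup S, and W an isomorphism-invariant p-group functor (W assigns to every group Q a subgroup W(Q), nontrivial whenever Q is a nontrivial finite p-group, and every isomorphism from a finite p-group Q onto a group R carries W(Q) onto W(R)). Suppose N_G(W(S)) has a normal p-complement, and W(T) controls strong fusion in every section G* = K/R of G all of whose sections are p-stable in the normalizer form, for every Sylow p-subgroup T of G*. Then G has a normal p-complement. -/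
theorem result {G : Type u} [Group G] [Finite G] {p : ℕ} [Fact p.Prime] (hp : p ≠ 2) (W : ∀ (Q : Type u) [Group Q], Subgroup Q) (hW : Cfsg.IsCharPFunctor.{u} p W) (S : Sylow p G) (hN : Cfsg.HasNormalPComplement p ↥(Subgroup.normalizer ((Cfsg.inducedFunctor (G := G) W (S : Subgroup G) : Subgroup G) : Set G))) (hctl : ∀ (K R : Subgroup G) [hR : (R.subgroupOf K).Normal], (∀ (K' R' : Subgroup (↥K ⧸ R.subgroupOf K)) [hR' : (R'.subgroupOf K').Normal], Cfsg.IsNormalizerPStable p (↥K' ⧸ R'.subgroupOf K')) → ∀ T : Sylow p (↥K ⧸ R.subgroupOf K), Cfsg.ControlsStrongFusion p (Cfsg.inducedFunctor (G := (↥K ⧸ R.subgroupOf K)) W (T : Subgroup (↥K ⧸ R.subgroupOf K)))) : Cfsg.HasNormalPComplement p G := by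
  refine CfsgLib.Conjugacy.hasNormalPComplement_of_critical hW S hN fun X _ _ T hsec hX => ?_
  obtain ⟨K, R, hn, T', hc, hback⟩ := CfsgLib.Conjugacy.exists_quotient_of_sect hW hsec hX
  haveI := hn
  refine hback ?_
  clear hback hX
  set N := Subgroup.normalizer ((Cfsg.inducedFunctor W (T' : Subgroup (↥K ⧸ R.subgroupOf K))) : Set (↥K ⧸ R.subgroupOf K)) with hNdef
  obtain ⟨T₂, hUT, hfus⟩ := hctl K R (fun K' R' _ =>
    CfsgLib.PStable.isNormalizerPStable hp ((hc.abelian.subgroup K').of_surjective _ (QuotientGroup.mk'_surjective _))) T'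
  have hTN : (T₂ : Subgroup (↥K ⧸ R.subgroupOf K)) ≤ N := by
    intro g hg
    obtain ⟨-, h2⟩ := hfus (T₂ : Subgroup (↥K ⧸ R.subgroupOf K)) Set.Subset.rfl
    obtain ⟨n, hn', hne⟩ := h2 g (by
      rintro _ ⟨a, ha, rfl⟩
      exact Subgroup.mul_mem _ (Subgroup.mul_mem _ hg ha) (Subgroup.inv_mem _ hg))
    have hC : n⁻¹ * g ∈ Subgroup.centralizer ((Cfsg.inducedFunctor W (T' : Subgroup (↥K ⧸ R.subgroupOf K))) : Set (↥K ⧸ R.subgroupOf K)) := by
      intro a ha
      have := hne a (hUT ha)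
      calc a * (n⁻¹ * g) = n⁻¹ * (n * a * n⁻¹) * g := by group
        _ = n⁻¹ * (g * a * g⁻¹) * g := by rw [this]
        _ = n⁻¹ * g * a := by group
    simpa using N.mul_mem hn' (Subgroup.centralizer_le_normalizer _ hC)
  refine CfsgLib.Transfer.hasNormalPComplement_of_no_fusion T₂ fun x hx g hgx => ?_
  obtain ⟨-, h2⟩ := hfus {x} (Set.singleton_subset_iff.mpr hx)
  obtain ⟨n, hn', hne⟩ := h2 g (by rintro _ ⟨a, rfl, rfl⟩; exact hgx)
  have e := hne x rfl
  obtain ⟨k, hk, hkx⟩ := CfsgLib.Transfer.exists_mem_conj_eq_of_pAutomizers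
    (CfsgLib.Transfer.pAutomizers_of_hasNormalPComplement hc.hyp) (T₂.subtype hTN)
    (A := {(⟨x, hTN hx⟩ : N)}) (g := (⟨n, hn'⟩ : N)⁻¹) (Set.singleton_subset_iff.mpr hx)
    (by
      rintro _ ⟨a, rfl, rfl⟩
      show _ ∈ (T₂ : Subgroup (↥K ⧸ R.subgroupOf K))
      simp only [inv_inv, Subgroup.coe_subtype, Subgroup.coe_mul, InvMemClass.coe_inv]
      rw [← e]; exact hgx)
  refine ⟨(k : ↥K ⧸ R.subgroupOf K)⁻¹, Subgroup.inv_mem _ hk, ?_⟩
  have := congrArg Subtype.val (hkx _ rfl)
  simp only [inv_inv, Subgroup.coe_mul, InvMemClass.coe_inv] at this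
  rw [inv_inv, this, e]

end Cfsg.Agent.S1990
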