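import Cfsg.Statements.S1992
import Cfsg.Agent.S1991
import Cfsg.Agent.S0144

set_option autoImplicit false
open Cfsg

namespace Cfsg.Agent.S1992

/-- Let G be a finite group in which, for every prime q dividing the order of G, every Sylow q-subgroup is its own normalizer. Then the order of G is a power of a single prime (G is a q-group for some prime q; for G trivial any prime works). -/
theorem result {G : Type*} [Group G] [Finite G] (h : ∀ q : ℕ, q.Prime → q ∣ Nat.card G → ∀ Q : Sylow q G, Subgroup.normalizer ((Q : Subgroup G) : Set G) = Q) : ∃ q : ℕ, q.Prime ∧ IsPGroup q G := by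
  rcases subsingleton_or_nontrivial G with hs | hs
  · exact ⟨2, Nat.prime_two, fun g => ⟨0, Subsingleton.elim _ _⟩⟩
  obtain ⟨p, hp, N, hN, hidx⟩ : ∃ p, p.Prime ∧ ∃ N : Subgroup G, N.Normal ∧ N.index = p := by
    by_cases hbig : ∃ p, p.Prime ∧ p ∣ Nat.card G ∧ 5 ≤ p
    · obtain ⟨p, hp, hdvd, h5⟩ := hbig
      haveI := Fact.mk hp
      obtain ⟨S⟩ : Nonempty (Sylow p G) := inferInstance
      refine ⟨p, hp, Cfsg.Agent.S1991.result h5 S (S.ne_bot_of_dvd_card hdvd) fun g hg hgo => ?_⟩
      rw [h p hp hdvd S] at hg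
      obtain ⟨k, hk⟩ := S.2 ⟨g, hg⟩
      obtain rfl : g = 1 := orderOf_eq_one_iff.mp (Nat.eq_one_of_dvd_coprimes (hgo.pow_right k) dvd_rfl
        (orderOf_dvd_of_pow_eq_one (by simpa using congrArg Subtype.val hk)))
      exact Subgroup.one_mem _
    · haveI : Group.IsSolvable G := by
        refine Cfsg.Agent.S0144.aux 2 3 Nat.prime_two Nat.prime_three _ G rfl
          ⟨Nat.card G, Nat.card G, ?_⟩
        rw [← Nat.factorization_prime_le_iff_dvd Nat.card_pos.ne' (by positivity)]
        intro r hr
        by_cases hrG : r ∣ Nat.card G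
        · have hr5 : r < 5 := lt_of_not_ge fun h5 => hbig ⟨r, hr, hrG, h5⟩
          have hle : (Nat.card G).factorization r ≤ Nat.card G := Nat.factorization_le_of_le_pow
            (Nat.lt_pow_self hr.one_lt).le
          refine hle.trans ((hr.pow_dvd_iff_le_factorization (by positivity)).mp ?_)
          have h2 := hr.two_le
          interval_cases r
          · exact dvd_mul_right _ _
          · exact dvd_mul_left _ _
          · exact absurd hr (by norm_num)
        · rw [Nat.factorization_eq_zero_of_not_dvd hrG]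
          exact Nat.zero_le _
      obtain ⟨p, hp, hpd⟩ := Nat.exists_prime_and_dvd (n := (commutator G).index)
        (fun e => (Group.IsSolvable.commutator_lt_top_of_nontrivial G).ne (Subgroup.index_eq_one.mp e))
      haveI := Fact.mk hp
      obtain ⟨S⟩ : Nonempty (Sylow p G) := inferInstance
      exact ⟨p, hp, CfsgLib.Conjugacy.exists_normal_index_eq S fun hle =>
        S.not_dvd_index (hpd.trans (Subgroup.index_dvd_of_le hle))⟩
  haveI := hN
  haveI := Fact.mk hp
  refine ⟨p, hp, IsPGroup.of_card (n := (Nat.card G).factorization p) ?_⟩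
  by_contra hne
  obtain ⟨q, hq, hqd, hqp⟩ : ∃ q, q.Prime ∧ q ∣ Nat.card G ∧ q ≠ p := by
    by_contra hall
    push Not at hall
    have h1 := Nat.eq_prime_pow_of_unique_prime_dvd Nat.card_pos.ne' fun {d} hd hdd => hall d hd hdd
    refine hne ?_
    rw [h1, hp.factorization_pow, Finsupp.single_eq_same]
  haveI := Fact.mk hq
  obtain ⟨Q⟩ : Nonempty (Sylow q G) := inferInstance
  have hQN : (Q : Subgroup G) ≤ N := by
    intro x hx
    rw [← QuotientGroup.eq_one_iff]
    obtain ⟨k, hk⟩ := Q.2 ⟨x, hx⟩
    refine orderOf_eq_one_iff.mp (Nat.eq_one_of_dvd_coprimes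
      (((Nat.coprime_primes hq hp).mpr hqp).pow_left k) (orderOf_dvd_of_pow_eq_one ?_)
      (by rw [← hidx]; exact orderOf_dvd_natCard _))
    rw [← QuotientGroup.mk_pow, show x ^ q ^ k = 1 by simpa using congrArg Subtype.val hk,
      QuotientGroup.mk_one]
  have htop := Sylow.normalizer_sup_eq_top' Q hQN
  rw [show Subgroup.normalizer (Q : Set G) = (Q : Subgroup G) from h q hq hqd Q, sup_eq_right.mpr hQN] at htop
  rw [htop, Subgroup.index_top] at hidx
  exact hp.ne_one hidx.symm

end Cfsg.Agent.S1992
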