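import Cfsg.Statements.S1995
import Cfsg.Agent.Lib.Conjugacy.TransferForms


set_option autoImplicit false
universe u
open Cfsg

namespace Cfsg.Agent.S1995

/-- Let p be a prime, G a finite group and 𝓦 a set of isomorphism-invariant p-group functors (W assigns to every group Q a subgroup W(Q), nontrivial whenever Q is a nontrivial finite p-group, and every isomorphism from a finite p-group Q onto a group R carries W(Q) onto W(R)). If the conjugacy functors induced by 𝓦 control transfer in every section G* = K/R of G with C_{G*}(O_p(G*)) ≤ O_p(G*), then they control transfer in G: S ∩ G' is generated by the subgroups S ∩ (N_G(W(S)))', W ∈ 𝓦, for a Sylow p-subgroup S. -/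
theorem result {G : Type u} [Group G] [Finite G] {p : ℕ} [Fact p.Prime] (𝓦 : Set (∀ (Q : Type u) [Group Q], Subgroup Q)) (h𝓦 : ∀ W ∈ 𝓦, Cfsg.IsCharPFunctor.{u} p W) (hloc : ∀ (K R : Subgroup G) [hR : (R.subgroupOf K).Normal], Subgroup.centralizer ((Cfsg.pCore p (↥K ⧸ R.subgroupOf K) : Subgroup (↥K ⧸ R.subgroupOf K)) : Set (↥K ⧸ R.subgroupOf K)) ≤ Cfsg.pCore p (↥K ⧸ R.subgroupOf K) → Cfsg.FamilyControlsTransferIn p ((fun W => Cfsg.inducedFunctor (G := (↥K ⧸ R.subgroupOf K)) W) '' 𝓦) ⊤) : Cfsg.FamilyControlsTransferIn p ((fun W => Cfsg.inducedFunctor (G := G) W) '' 𝓦) ⊤ := by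
  open CfsgLib.Conjugacy in
  have hok : ∀ (X : Type u) [Group X] [Finite X], Sect G X →
      Subgroup.centralizer (Cfsg.pCore p X : Set X) ≤ Cfsg.pCore p X → Ok p 𝓦 X := by
    intro X _ _ hsec hc
    obtain ⟨K, R, hn, ⟨e⟩⟩ := exists_equiv_of_sect hsec
    haveI := hn
    exact ok_congr h𝓦 e.symm (ok_of_family h𝓦 (hloc K R (constrained_congr e hc)))
  obtain ⟨S⟩ := (inferInstance : Nonempty (Sylow p G))
  refine family_of_okAt S (ok_of_core h𝓦 (fun X _ _ hsec T => ?_) (fun X _ _ hsec _ hc T => ?_)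
    (Sect.refl G) S)
  · have htop : Cfsg.pCore p (T : Subgroup X) = ⊤ := top_le_iff.mp
      (CfsgLib.Fitting.le_pCore inferInstance (T.2.of_equiv Subgroup.topEquiv.symm))
    have hT := hok (T : Subgroup X) (hsec.subgroup _) (by rw [htop]; exact le_top)
    refine le_trans (le_inf (Subgroup.commutator_le_self (T : Subgroup X)) le_rfl)
      (inf_commutator_le h𝓦 le_rfl T.2 ?_ hT)
    rw [Subgroup.relIndex_self]
    exact fun hd => (Fact.out : p.Prime).ne_one (Nat.dvd_one.mp hd)
  · haveI := CfsgLib.Fitting.pCore_normal (G := X) p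
    exact le_trans (le_inf ((Subgroup.commutator_le_left (Cfsg.pCore p X) ⊤).trans
      (IsPGroup.le_sylow_of_normal (CfsgLib.Fitting.pCore_isPGroup p) T))
      (Subgroup.commutator_mono le_top le_rfl)) (hok X hsec hc T)

end Cfsg.Agent.S1995
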