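import Cfsg.Statements.S1998
import Cfsg.Agent.Lib.Conjugacy.TransferForms
import Cfsg.Agent.Lib.Conjugacy.TransferEngel


set_option autoImplicit false
universe u
open Cfsg

namespace Cfsg.Agent.S1998

/-- Let p be a prime, G a finite group with Sylow p-subgroup S, and 𝓦 a nonempty set of isomorphism-invariant p-group functors (W assigns to every group Q a subgroup W(Q), nontrivial whenever Q is a nontrivial finite p-group, and every isomorphism from a finite p-group Q onto a group R carries W(Q) onto W(R)). Suppose the induced conjugacy functors control transfer in every section of G other than G itself, but not in G. Let T be the subgroup generated by the S ∩ (N_G(W(S)))', W ∈ 𝓦, and M = N_G(T ∩ O_p(G)). Then: C_G(O_p(G)) ≤ O_p(G); M is a proper subgroup of G containing every proper subgroup of G that contains S (the unique maximal subgroup over S); [O_p(G), M] ≤ O_p(G) ∩ M' ≤ O_p(G) ∩ T; and every element u of S outside O_p(G)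 satisfies [X, u, …, u] ≰ Y with p − 1 entries u, for some chief factor X/Y of G with X ≤ O_p(G). -/
theorem result {G : Type u} [Group G] [Finite G] {p : ℕ} [Fact p.Prime] (S : Sylow p G) (𝓦 : Set (∀ (Q : Type u) [Group Q], Subgroup Q)) (h𝓦 : ∀ W ∈ 𝓦, Cfsg.IsCharPFunctor.{u} p W) (hne : 𝓦.Nonempty) (hsec : ∀ (K R : Subgroup G) [hR : (R.subgroupOf K).Normal], (K = ⊤ → R ≠ ⊥) → Cfsg.FamilyControlsTransferIn p ((fun W => Cfsg.inducedFunctor (G := (↥K ⧸ R.subgroupOf K)) W) '' 𝓦) ⊤) (hG : ¬ Cfsg.FamilyControlsTransferIn p ((fun W => Cfsg.inducedFunctor (G := G) W) '' 𝓦) ⊤) (T M : Subgroup G) (hT : T = (⨆ W ∈ 𝓦, (S : Subgroup G) ⊓ ⁅Subgroup.normalizer ((Cfsg.inducedFunctor (G := G) W (S : Subgroup G) : Subgroup G) : Set G), Subgroup.normalizer ((Cfsg.inducedFunctor (G := G) W (S : Subgroup G) : Subgroup G) : Set G)⁆)) (hM : M = Subgroup.normalizer ((T ⊓ Cfsg.pCore p G : Subgroup G) : Set G)) : Subgroup.centralizer ((Cfsg.pCore p G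 : Subgroup G) : Set G) ≤ Cfsg.pCore p G ∧ (M ≠ ⊤ ∧ ∀ H : Subgroup G, (S : Subgroup G) ≤ H → H ≠ ⊤ → H ≤ M) ∧ (⁅Cfsg.pCore p G, M⁆ ≤ Cfsg.pCore p G ⊓ ⁅M, M⁆ ∧ Cfsg.pCore p G ⊓ ⁅M, M⁆ ≤ Cfsg.pCore p G ⊓ T) ∧ ∀ u : G, u ∈ (S : Subgroup G) → u ∉ Cfsg.pCore p G → ∃ U V : Subgroup G, Cfsg.IsChiefFactor U V ∧ U ≤ Cfsg.pCore p G ∧ ¬ Cfsg.iterCommutator U (Subgroup.zpowers u) (p - 1) ≤ V := by
  open CfsgLib.Conjugacy in
  have hT' : T = focalJoin 𝓦 (S : Subgroup G) := hT
  subst hT'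
  have hIH : SmallerOk p 𝓦 G := smallerOk_of_quotients h𝓦 fun K R _ hKR => ok_of_family h𝓦 (hsec K R hKR)
  have hbad : ¬ OkAt 𝓦 (S : Subgroup G) := fun h => hG (family_of_okAt S h)
  obtain ⟨hc, hnot⟩ := minimal_failure h𝓦 hIH S (derived_le_focalJoin h𝓦 hne S.2) hbad
  subst hM
  haveI := CfsgLib.Fitting.pCore_normal (G := G) p
  set D := Cfsg.pCore p G with hD
  have hMtop := normalizer_ne_top h𝓦 hne hIH S hnot
  have hover : ∀ H : Subgroup G, (S : Subgroup G) ≤ H → H ≠ ⊤ →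
      H ≤ Subgroup.normalizer ((focalJoin 𝓦 (S : Subgroup G) ⊓ D : Subgroup G) : Set G) :=
    fun H h1 h2 => le_normalizer_of_overgroup h𝓦 hIH S h1 h2
  have hSM : (S : Subgroup G) ≤
      Subgroup.normalizer ((focalJoin 𝓦 (S : Subgroup G) ⊓ D : Subgroup G) : Set G) := fun s hs =>
    CfsgLib.Coprime.le_normalizer_inf_of_le (normalizer_le_focalJoin h𝓦 S.2)
      Subgroup.le_normalizer_of_normal (Subgroup.le_normalizer hs)
  have hDS : D ≤ (S : Subgroup G) := IsPGroup.le_sylow_of_normal (CfsgLib.Fitting.pCore_isPGroup p) S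
  refine ⟨hc, ⟨hMtop, hover⟩, ⟨le_inf (Subgroup.commutator_le_left D _)
    (Subgroup.commutator_mono (hDS.trans hSM) le_rfl), le_inf inf_le_left ?_⟩, ?_⟩
  · exact fun x hx => inf_commutator_le_sylow h𝓦 S hSM (hIH.1 _ hMtop) ⟨hDS hx.1, hx.2⟩
  · intro u hu huD
    by_contra hne'
    push Not at hne'
    exact no_engel h𝓦 hne hIH S hnot hu huD hne' 

end Cfsg.Agent.S1998
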