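import Cfsg.Statements.S1999
import Cfsg.Agent.Lib.SThreeFree.Factorization
import Cfsg.Agent.Lib.LocalK.Functors
import Cfsg.Agent.Lib.Conjugacy.Factorization
-- import your own Cfsg.Agent.* helpers here

set_option autoImplicit false
open Cfsg

namespace Cfsg.Agent.S1999

open CfsgLib.Conjugacy CfsgLib.Transfer

set_option maxRecDepth 10000

universe u

/-- The centre as a functor. -/
def wCenter (Q : Type u) [Group Q] : Subgroup Q := Subgroup.center Q

theorem induced_wCenter {G : Type u} [Group G] (P : Subgroup G) :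
    Cfsg.inducedFunctor (G := G) wCenter P = P ⊓ Subgroup.centralizer (P : Set G) := by
  ext x
  constructor
  · rintro ⟨z, hz, rfl⟩
    exact ⟨z.2, fun p hp => congrArg Subtype.val (Subgroup.mem_center_iff.mp hz ⟨p, hp⟩)⟩
  · rintro ⟨hx, hc⟩
    exact ⟨⟨x, hx⟩, Subgroup.mem_center_iff.mpr fun p => Subtype.ext (hc p p.2), rfl⟩

theorem isCharPFunctor_wCenter : Cfsg.IsCharPFunctor.{u} 2 wCenter := by
  haveI : Fact (Nat.Prime 2) := ⟨Nat.prime_two⟩
  refine ⟨fun Q _ _ hQ hnt => ?_, fun Q R _ _ _ _ φ => ?_⟩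
  · haveI := hnt
    haveI := hQ.center_nontrivial
    exact (Subgroup.nontrivial_iff_ne_bot (Subgroup.center Q)).mp inferInstance
  · ext x
    simp only [Subgroup.mem_map, wCenter, Subgroup.mem_center_iff]
    constructor
    · rintro ⟨z, hz, rfl⟩ r
      obtain ⟨q, rfl⟩ := φ.surjective r
      show φ q * φ z = φ z * φ q
      rw [← map_mul, ← map_mul, hz q]
    · intro h
      refine ⟨φ.symm x, fun q => φ.injective ?_, φ.apply_symm_apply x⟩
      rw [map_mul, map_mul, φ.apply_symm_apply]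
      exact h _

theorem forward {G : Type u} [Group G] [Finite G]
    (hfree : ¬ Cfsg.Involves (Equiv.Perm (Fin 4)) G) (K R : Subgroup G)
    [hR : (R.subgroupOf K).Normal] :
    Cfsg.FamilyControlsStrongFusionIn 2 ({fun P : Subgroup (↥K ⧸ R.subgroupOf K) => P ⊓ Subgroup.centralizer ((P : Subgroup (↥K ⧸ R.subgroupOf K)) : Set (↥K ⧸ R.subgroupOf K)), fun P : Subgroup (↥K ⧸ R.subgroupOf K) => Cfsg.thompsonSubgroupOf 2 P} : Set (Subgroup (↥K ⧸ R.subgroupOf K) → Subgroup (↥K ⧸ R.subgroupOf K))) ⊤ := by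
  haveI : Fact (Nat.Prime 2) := ⟨Nat.prime_two⟩
  have hW₁ : Cfsg.IsCharPFunctor.{u} 2 wCenter := isCharPFunctor_wCenter
  have hW₂ := CfsgLib.LocalK.isCharPFunctor_wJe.{u}
  have h𝓦 : ∀ V ∈ ({wCenter, CfsgLib.LocalK.wJe} : Set (∀ (Q : Type u) [Group Q], Subgroup Q)),
      Cfsg.IsCharPFunctor.{u} 2 V := by
    rintro V (rfl | rfl) <;> assumption
  have hsub : ∀ (L S : Subgroup G) [(S.subgroupOf L).Normal],
      ¬ Cfsg.Involves (Equiv.Perm (Fin 4)) (↥L ⧸ S.subgroupOf L) := fun L S _ h =>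
    hfree (CfsgLib.Offender.involves_of_injective L.subtype L.subtype_injective
      (CfsgLib.Offender.involves_of_surjective (QuotientGroup.mk' _)
        (QuotientGroup.mk'_surjective _) h))
  have hloc : Local 2 ({wCenter, CfsgLib.LocalK.wJe} :
      Set (∀ (Q : Type u) [Group Q], Subgroup Q)) (↥K ⧸ R.subgroupOf K) := by
    refine local_of_quotients h𝓦 fun L S _ hc => controlled_of_pair_factor hW₁ hW₂ fun T x => ?_
    have hY : ¬ Cfsg.Involves (Equiv.Perm (Fin 4)) (↥L ⧸ S.subgroupOf L) := fun h =>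
      hsub K R (CfsgLib.Offender.involves_of_injective L.subtype L.subtype_injective
        (CfsgLib.Offender.involves_of_surjective (QuotientGroup.mk' _)
          (QuotientGroup.mk'_surjective _) h))
    obtain ⟨c, hcz, n, hn, e⟩ := CfsgLib.SThreeFree.fac_center hc hY T x
    exact ⟨c, by rw [induced_wCenter]; exact Subgroup.centralizer_le_normalizer _ hcz,
      n, by rw [CfsgLib.LocalK.induced_wJe]; exact hn, e⟩
  have := family_of_controlled (controlled_of_local h𝓦 hloc (Sect.refl _))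
  rw [Set.image_pair] at this
  have e1 : Cfsg.inducedFunctor (G := ↥K ⧸ R.subgroupOf K) wCenter =
      fun P => P ⊓ Subgroup.centralizer (P : Set _) := funext induced_wCenter
  have e2 : Cfsg.inducedFunctor (G := ↥K ⧸ R.subgroupOf K) CfsgLib.LocalK.wJe =
      fun P => Cfsg.thompsonSubgroupOf 2 P := funext CfsgLib.LocalK.induced_wJe
  rw [e1, e2] at this
  exact this

theorem perm_center : ∀ z : Equiv.Perm (Fin 4), z ≠ 1 → ∃ g, g * z ≠ z * g := by decide

theorem perm_pair : ∀ z w : Equiv.Perm (Fin 4), z ≠ 1 → w ≠ 1 → z ≠ w →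
    (Finset.univ.filter fun g => g * z = z * g ∧ g * w = w * g).card < 8 := by decide

theorem perm_swap : ∀ a b : Fin 4, a ≠ b →
    (Finset.univ.filter fun g => g * Equiv.swap a b = Equiv.swap a b * g).card < 8 := by decide

theorem perm_klein : ∀ z : Equiv.Perm (Fin 4), z ≠ 1 →
    8 ≤ (Finset.univ.filter fun g => g * z = z * g).card → z * z = 1 ∧ ∀ x, z x ≠ x := by decide

/-- The four-group. -/
def klein : Subgroup (Equiv.Perm (Fin 4)) where
  carrier := {g | g = 1 ∨ (g * g = 1 ∧ ∀ x, g x ≠ x)}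
  one_mem' := Or.inl rfl
  mul_mem' {a b} ha hb := (by decide : ∀ a b : Equiv.Perm (Fin 4),
    (a = 1 ∨ (a * a = 1 ∧ ∀ x, a x ≠ x)) → (b = 1 ∨ (b * b = 1 ∧ ∀ x, b x ≠ x)) →
      (a * b = 1 ∨ (a * b * (a * b) = 1 ∧ ∀ x, (a * b) x ≠ x))) a b ha hb
  inv_mem' {a} ha := (by decide : ∀ a : Equiv.Perm (Fin 4),
    (a = 1 ∨ (a * a = 1 ∧ ∀ x, a x ≠ x)) → (a⁻¹ = 1 ∨ (a⁻¹ * a⁻¹ = 1 ∧ ∀ x, a⁻¹ x ≠ x))) a ha

theorem klein_normal : klein.Normal :=
  ⟨fun a ha g => (by decide : ∀ a g : Equiv.Perm (Fin 4),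
    (a = 1 ∨ (a * a = 1 ∧ ∀ x, a x ≠ x)) →
      (g * a * g⁻¹ = 1 ∨ (g * a * g⁻¹ * (g * a * g⁻¹) = 1 ∧ ∀ x, (g * a * g⁻¹) x ≠ x))) a g ha⟩

theorem backward {G : Type u} [Group G] [Finite G]
    (h : ∀ (K R : Subgroup G) [hR : (R.subgroupOf K).Normal], Cfsg.FamilyControlsStrongFusionIn 2 ({fun P : Subgroup (↥K ⧸ R.subgroupOf K) => P ⊓ Subgroup.centralizer ((P : Subgroup (↥K ⧸ R.subgroupOf K)) : Set (↥K ⧸ R.subgroupOf K)), fun P : Subgroup (↥K ⧸ R.subgroupOf K) => Cfsg.thompsonSubgroupOf 2 P} : Set (Subgroup (↥K ⧸ R.subgroupOf K) → Subgroup (↥K ⧸ R.subgroupOf K))) ⊤) :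
    ¬ Cfsg.Involves (Equiv.Perm (Fin 4)) G := by
  classical
  haveI : Fact (Nat.Prime 2) := ⟨Nat.prime_two⟩
  rintro ⟨K, R, hR, ⟨e⟩⟩
  obtain ⟨T, -, hTp, hidx, hch⟩ := @h K R hR
  set Y := ↥K ⧸ R.subgroupOf K with hY
  rw [Subgroup.relIndex_top_right] at hidx
  let TS : Sylow 2 Y := hTp.toSylow hidx
  let T' : Sylow 2 (Equiv.Perm (Fin 4)) := TS.mapSurjective (f := e.toMonoidHom) e.surjective
  have hmem : ∀ y : Y, e y ∈ (T' : Subgroup (Equiv.Perm (Fin 4))) ↔ y ∈ T := fun y =>
    ⟨fun ⟨x, hx, hxy⟩ => e.injective hxy ▸ hx, fun hy => ⟨y, hy, rfl⟩⟩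
  have hS4 : Nat.card (Equiv.Perm (Fin 4)) = 24 := by
    rw [Nat.card_eq_fintype_card, Fintype.card_perm, Fintype.card_fin]; rfl
  have hcard : Nat.card (T' : Subgroup (Equiv.Perm (Fin 4))) = 8 := by
    rw [T'.card_eq_multiplicity, hS4, Nat.factorization_def _ Nat.prime_two]
    rw [show (24 : ℕ) = 2 ^ 3 * 3 by norm_num, padicValNat.mul (by norm_num) (by norm_num),
      padicValNat.prime_pow, padicValNat.eq_zero_of_not_dvd (by norm_num : ¬ 2 ∣ 3)]
    rfl
  have hcent : ∀ P : Equiv.Perm (Fin 4) → Prop, ∀ [DecidablePred P],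
      (∀ g ∈ (T' : Subgroup (Equiv.Perm (Fin 4))), P g) → 8 ≤ (Finset.univ.filter P).card := by
    intro P _ hP
    rw [← hcard, ← SetLike.coe_sort_coe, Nat.card_coe_set_eq, ← Set.ncard_coe_finset]
    exact Set.ncard_le_ncard (fun g hg => by simpa using hP g hg)
  set Z := T ⊓ Subgroup.centralizer (T : Set Y) with hZ
  -- the centre
  have hzz : ∀ z ∈ Z, ∀ g ∈ (T' : Subgroup (Equiv.Perm (Fin 4))), g * e z = e z * g := by
    intro z hz g hg
    obtain ⟨x, hx, rfl⟩ := hg
    show e x * e z = e z * e x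
    rw [← map_mul, ← map_mul, Subgroup.mem_centralizer_iff.mp hz.2 x hx]
  haveI : Nontrivial T := by
    rw [← Finite.one_lt_card_iff_nontrivial]
    have h8 : Nat.card T = 8 := by
      rw [← hcard]
      exact (Subgroup.card_map_of_injective e.injective).symm
    omega
  obtain ⟨z, hzZ, hz1⟩ : ∃ z ∈ Z, z ≠ 1 := by
    haveI := hTp.center_nontrivial
    obtain ⟨⟨z, hz⟩, hne⟩ := exists_ne (1 : Subgroup.center T)
    refine ⟨z, ⟨z.2, fun p hp => congrArg Subtype.val (Subgroup.mem_center_iff.mp hz ⟨p, hp⟩)⟩,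
      fun h0 => hne ?_⟩
    exact Subtype.ext (Subtype.ext h0)
  have hez : e z ≠ 1 := fun h0 => hz1 (e.injective (h0.trans (map_one e).symm))
  have huniq : ∀ w ∈ Z, w ≠ 1 → w = z := by
    intro w hw hw1
    by_contra hne
    exact absurd (perm_pair (e w) (e z) (fun h0 => hw1 (e.injective (h0.trans (map_one e).symm)))
      hez fun h0 => hne (e.injective h0))
      (not_lt.mpr (hcent _ fun g hg => ⟨hzz w hw g hg, hzz z hzZ g hg⟩))
  have hek : e z ∈ klein := Or.inr (perm_klein _ hez (hcent _ (hzz z hzZ)))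
  have hkle : klein ≤ (T' : Subgroup (Equiv.Perm (Fin 4))) := by
    haveI := klein_normal
    refine IsPGroup.le_sylow_of_normal (fun g => ⟨1, Subtype.ext ?_⟩) T'
    rcases g.2 with h0 | ⟨h0, -⟩
    · rw [SubmonoidClass.coe_pow, h0, one_pow]; rfl
    · rw [SubmonoidClass.coe_pow, pow_one, pow_two, h0]; rfl
  -- `N(Z(T)) = T`
  have hidx3 : (T' : Subgroup (Equiv.Perm (Fin 4))).index = 3 := by
    have h1 := (T' : Subgroup (Equiv.Perm (Fin 4))).card_mul_index
    rw [hcard, hS4] at h1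
    omega
  have hidxT : T.index = 3 := by
    rw [← hidx3]
    exact (Subgroup.index_map_of_bijective e.bijective T).symm
  have hmax : ∀ N : Subgroup Y, T ≤ N → N ≠ ⊤ → N ≤ T := by
    intro N hTN hN
    rw [← Subgroup.relIndex_eq_one]
    have h1 := Subgroup.relIndex_mul_index hTN
    rw [hidxT] at h1
    rcases (Nat.dvd_prime Nat.prime_three).mp (Dvd.intro_left _ h1) with h2 | h2
    · exact absurd (Subgroup.index_eq_one.mp h2) hN
    · rw [h2] at h1; omega
  have hconjne : ∃ g : Y, g * z * g⁻¹ ≠ z := by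
    obtain ⟨g, hg⟩ := perm_center _ hez
    refine ⟨e.symm g, fun h0 => hg ?_⟩
    have h2 := congrArg e h0
    rw [map_mul, map_mul, map_inv, e.apply_symm_apply] at h2
    exact mul_inv_eq_iff_eq_mul.mp h2
  have hNZ : Subgroup.normalizer (Z : Set Y) ≤ T := by
    refine hmax _ (fun t ht => ?_) fun htop => ?_
    · refine Subgroup.centralizer_le_normalizer _ fun w hw => ?_
      exact (Subgroup.mem_centralizer_iff.mp hw.2 t ht).symm
    · obtain ⟨g, hg⟩ := hconjne
      have h2 : g * z * g⁻¹ ∈ Z :=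
        (Subgroup.mem_normalizer_iff.mp (htop.ge (Subgroup.mem_top g)) z).mp hzZ
      exact hg (huniq _ h2 fun h0 => hz1 (conj_eq_one_iff.mp h0))
  -- `N(J(T)) = T`
  obtain ⟨t, htT, a, b, hab, hts⟩ : ∃ t ∈ T, ∃ a b : Fin 4, a ≠ b ∧ e t = Equiv.swap a b := by
    have hp : IsPGroup 2 (Subgroup.zpowers (Equiv.swap (0 : Fin 4) 1)) :=
      IsPGroup.of_card (n := 1) (by
        rw [Nat.card_zpowers, orderOf_eq_prime (p := 2) (by decide) (by decide), pow_one])
    obtain ⟨g, hg⟩ := exists_map_conj_le_sylow hp T'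
    obtain ⟨x, hx, hxe⟩ := hg ⟨_, Subgroup.mem_zpowers _, rfl⟩
    refine ⟨x, hx, g 0, g 1, fun h0 => absurd (g.injective h0) (by decide), ?_⟩
    refine hxe.trans ?_
    show g * Equiv.swap 0 1 * g⁻¹ = _
    rw [Equiv.swap_apply_apply]
  have ht2 : t * t = 1 := e.injective (by rw [map_mul, hts, map_one, Equiv.swap_mul_self])
  have hz2 : z * z = 1 := e.injective (by rw [map_mul, map_one]; exact (perm_klein _ hez (hcent _ (hzz z hzZ))).1)
  have htz : t ≠ z := fun h0 => absurd (perm_swap a b hab)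
    (not_lt.mpr (hts ▸ h0 ▸ hcent _ (hzz z hzZ)))
  have ht1 : t ≠ 1 := fun h0 => by
    rw [h0, map_one] at hts
    exact hab (Equiv.swap_eq_one_iff.mp hts.symm)
  have hmaxel : ∀ B : Subgroup Y, B ≤ T → (∀ x ∈ B, x * x = 1) → Nat.card B ≤ 4 := by
    intro B hB hsq
    by_contra hlt
    have h8 : Nat.card T = 8 := by
      rw [← hcard]
      exact (Subgroup.card_map_of_injective e.injective).symm
    have hd : Nat.card B ∣ 2 ^ 3 := (Subgroup.card_dvd_of_le hB).trans (dvd_of_eq (h8.trans rfl))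
    obtain ⟨i, hi, hi'⟩ := (Nat.dvd_prime_pow Nat.prime_two).mp hd
    have hB8 : Nat.card B = 8 := by
      interval_cases i <;> omega
    have hBT : B = T := Subgroup.eq_of_le_of_card_ge hB (h8.trans hB8.symm).le
    have htZ : t ∈ Z := ⟨htT, fun y hy => (Subgroup.mem_centralizer_iff.mp
      (CfsgLib.PushUp.comm_of_sq hsq (hBT ▸ htT)) y (hBT ▸ hy))⟩
    exact htz (huniq t htZ ht1)
  let A : Subgroup Y :=
    { carrier := {x | x = 1 ∨ x = t ∨ x = z ∨ x = t * z}
      one_mem' := Or.inl rfl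
      mul_mem' := by
        have hc : t * z = z * t := Subgroup.mem_centralizer_iff.mp hzZ.2 t htT
        have e1 : t * (t * z) = z := by rw [← mul_assoc, ht2, one_mul]
        have e2 : t * z * z = t := by rw [mul_assoc, hz2, mul_one]
        have e3 : z * (t * z) = t := by rw [hc, ← mul_assoc, hz2, one_mul]
        have e4 : t * z * t = z := by rw [hc, mul_assoc, ht2, mul_one]
        have e5 : t * z * (t * z) = 1 := by rw [← mul_assoc, e4, hz2]
        intro p q hp hq
        rcases hp with rfl | rfl | rfl | rfl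
        · simpa using hq
        · rcases hq with rfl | rfl | rfl | rfl
          exacts [Or.inr (Or.inl (mul_one _)), Or.inl ht2, Or.inr (Or.inr (Or.inr rfl)),
            Or.inr (Or.inr (Or.inl e1))]
        · rcases hq with rfl | rfl | rfl | rfl
          exacts [Or.inr (Or.inr (Or.inl (mul_one _))), Or.inr (Or.inr (Or.inr hc.symm)),
            Or.inl hz2, Or.inr (Or.inl e3)]
        · rcases hq with rfl | rfl | rfl | rfl
          exacts [Or.inr (Or.inr (Or.inr (mul_one _))), Or.inr (Or.inr (Or.inl e4)),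
            Or.inr (Or.inl e2), Or.inl e5]
      inv_mem' := by
        rintro p (rfl | rfl | rfl | rfl)
        · exact Or.inl inv_one
        · exact Or.inr (Or.inl (inv_eq_of_mul_eq_one_right ht2))
        · exact Or.inr (Or.inr (Or.inl (inv_eq_of_mul_eq_one_right hz2)))
        · refine Or.inr (Or.inr (Or.inr (inv_eq_of_mul_eq_one_right ?_)))
          rw [show t * z * (t * z) = t * (z * t) * z by group,
            ← Subgroup.mem_centralizer_iff.mp hzZ.2 t htT, ← mul_assoc, ht2, one_mul, hz2] }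
  have hA : Nat.card A = 4 := by
    have hcoe : (A : Set Y) = {1, t, z, t * z} := by
      ext x; simp [A, Set.mem_insert_iff]
    have htz1 : t * z ≠ 1 := fun h0 => htz
      ((inv_eq_of_mul_eq_one_right ht2).symm.trans (inv_eq_of_mul_eq_one_right h0))
    rw [← SetLike.coe_sort_coe, Nat.card_coe_set_eq, hcoe,
      Set.ncard_insert_of_notMem (by simp [ht1.symm, hz1.symm, htz1.symm]),
      Set.ncard_insert_of_notMem (by simp [htz, hz1]), Set.ncard_pair (by simp [ht1])]
  have hAmax : CfsgLib.PushUp.MaxEl T A := by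
    refine ⟨?_, ?_, fun B hB hsq => (hmaxel B hB hsq).trans hA.ge⟩
    · rintro x (rfl | rfl | rfl | rfl)
      exacts [one_mem T, htT, hzZ.1, T.mul_mem htT hzZ.1]
    · rintro x (rfl | rfl | rfl | rfl)
      · exact one_mul 1
      · exact ht2
      · exact hz2
      · rw [show t * z * (t * z) = t * (z * t) * z by group,
          ← Subgroup.mem_centralizer_iff.mp hzZ.2 t htT, ← mul_assoc, ht2, one_mul, hz2]
  have htJ : t ∈ CfsgLib.LocalK.je T := CfsgLib.LocalK.le_je hAmax (Or.inr (Or.inl rfl))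
  have hNJ : Subgroup.normalizer (Cfsg.thompsonSubgroupOf 2 T : Set Y) ≤ T := by
    refine hmax _ (Subgroup.le_normalizer.trans
      (CfsgLib.LocalK.normalizer_le_normalizer_je T)) fun htop => ?_
    have hall : ∀ g : Y, g * t * g⁻¹ ∈ T := fun g => CfsgLib.LocalK.je_le T
      ((Subgroup.mem_normalizer_iff.mp (htop.ge (Subgroup.mem_top g)) t).mp htJ)
    have hswaps : {g : Equiv.Perm (Fin 4) | g.IsSwap} ⊆ (T' : Set (Equiv.Perm (Fin 4))) := by
      intro σ hσ
      obtain ⟨c, d, hcd, rfl⟩ := hσ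
      obtain ⟨g, hg⟩ := isConj_iff.mp (Equiv.Perm.isConj_swap hab hcd)
      refine ⟨e.symm g * t * (e.symm g)⁻¹, hall _, ?_⟩
      show e (e.symm g * t * (e.symm g)⁻¹) = _
      rw [map_mul, map_mul, map_inv, e.apply_symm_apply, hts, hg]
    have htop' : (T' : Subgroup (Equiv.Perm (Fin 4))) = ⊤ :=
      top_le_iff.mp (Equiv.Perm.closure_isSwap.ge.trans ((Subgroup.closure_le _).mpr hswaps))
    rw [htop', Subgroup.card_top, hS4] at hcard
    omega
  -- no chain moves `z`
  obtain ⟨g, hg⟩ := hconjne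
  have hgT : g * z * g⁻¹ ∈ T := by
    rw [← hmem]
    refine hkle ?_
    rw [map_mul, map_mul, map_inv]
    exact klein_normal.conj_mem _ hek _
  obtain ⟨n, c, hc0, hstep, -, hlast⟩ := hch {z} g (Subgroup.mem_top g)
    (Set.singleton_subset_iff.mpr hzZ.1) (by
      rintro _ ⟨x, rfl, rfl⟩
      exact hgT)
  have hcT : ∀ i : Fin (n + 1), c i ∈ T := by
    intro i
    induction i using Fin.induction with
    | zero => rw [hc0]; exact one_mem T
    | succ i ih =>
      obtain ⟨W, hW, hmemN⟩ := hstep i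
      have h2 : c i.succ * (c i.castSucc)⁻¹ ∈ T := by
        rcases hW with rfl | rfl
        · exact hNZ hmemN.2
        · exact hNJ hmemN.2
      simpa using T.mul_mem h2 ih
  have h3 := hlast z rfl
  rw [Subgroup.mem_centralizer_iff.mp hzZ.2 _ (hcT _), mul_inv_cancel_right] at h3
  exact hg h3.symm


/-- Let G be a finite group. The symmetric group of degree 4 is not involved in G if and only if, in every section K/R of G, the pair of conjugacy functors {Z, J_e} controls strong fusion (for the prime 2): here Z(P) is the centre and J_e(P) the subgroup generated by the elementary abelian subgroups of P of largest order, and control by the pair means that 2-fusion of tuples inside a Sylow 2-subgroup T of the section is generated, staying inside T, by conjugation inside N(Z(T)) and N(J_e(T)). -/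
theorem result {G : Type*} [Group G] [Finite G] : ¬ Cfsg.Involves (Equiv.Perm (Fin 4)) G ↔ ∀ (K R : Subgroup G) [hR : (R.subgroupOf K).Normal], Cfsg.FamilyControlsStrongFusionIn 2 ({fun P : Subgroup (↥K ⧸ R.subgroupOf K) => P ⊓ Subgroup.centralizer ((P : Subgroup (↥K ⧸ R.subgroupOf K)) : Set (↥K ⧸ R.subgroupOf K)), fun P : Subgroup (↥K ⧸ R.subgroupOf K) => Cfsg.thompsonSubgroupOf 2 P} : Set (Subgroup (↥K ⧸ R.subgroupOf K) → Subgroup (↥K ⧸ R.subgroupOf K))) ⊤ := by
  exact ⟨fun h K R _ => forward h K R, backward⟩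

end Cfsg.Agent.S1999
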