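import Mathlib
import Cfsg.Statements.S2761

set_option autoImplicit false
set_option linter.style.haveILetI false
set_option linter.unusedVariables false
open Cfsg

namespace Cfsg.Agent.S2761

theorem qd_last (M : ↥(Cfsg.qd 2)) : ∀ j : Fin 3, (M.1 : Matrix (Fin 3) (Fin 3) (ZMod 2)) 2 j = if j = 2 then 1 else 0 := by
  obtain ⟨M, hM⟩ := M
  let K : Subgroup (Matrix.SpecialLinearGroup (Fin 3) (ZMod 2)) :=
    { carrier := {M | Matrix.vecMul (Pi.single 2 1) (M : Matrix (Fin 3) (Fin 3) (ZMod 2)) = Pi.single 2 1}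
      mul_mem' := fun {a b} ha hb => by
        show Matrix.vecMul _ ((a * b : Matrix.SpecialLinearGroup (Fin 3) (ZMod 2)) : Matrix (Fin 3) (Fin 3) (ZMod 2)) = _
        rw [Matrix.SpecialLinearGroup.coe_mul, ← Matrix.vecMul_vecMul, ha, hb]
      one_mem' := by show Matrix.vecMul _ _ = _; rw [Matrix.SpecialLinearGroup.coe_one, Matrix.vecMul_one]
      inv_mem' := fun {a} ha => by
        show Matrix.vecMul _ _ = _
        conv_lhs => rw [← ha]
        rw [Matrix.vecMul_vecMul, ← Matrix.SpecialLinearGroup.coe_mul, mul_inv_cancel, Matrix.SpecialLinearGroup.coe_one, Matrix.vecMul_one] }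
  have hle : Cfsg.qd 2 ≤ K := by
    rw [Cfsg.qd, Subgroup.closure_le]
    rintro A ⟨h0, h1, h2⟩
    funext j
    rw [Matrix.single_one_vecMul]
    fin_cases j <;> simp_all
  intro j
  have := congrFun (hle hM : Matrix.vecMul (Pi.single 2 1) (M : Matrix (Fin 3) (Fin 3) (ZMod 2)) = Pi.single 2 1) j
  rw [Matrix.single_one_vecMul] at this
  exact this.trans (Pi.single_apply 2 1 j)

def act (M : Matrix (Fin 3) (Fin 3) (ZMod 2)) (v : ZMod 2 × ZMod 2) : ZMod 2 × ZMod 2 :=
  (M 0 0 * v.1 + M 0 1 * v.2 + M 0 2, M 1 0 * v.1 + M 1 1 * v.2 + M 1 2)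

theorem act_mul (A B : ↥(Cfsg.qd 2)) (v : ZMod 2 × ZMod 2) :
    act ((A * B : ↥(Cfsg.qd 2)).1 : Matrix (Fin 3) (Fin 3) (ZMod 2)) v =
      act (A.1 : Matrix (Fin 3) (Fin 3) (ZMod 2)) (act (B.1 : Matrix (Fin 3) (Fin 3) (ZMod 2)) v) := by
  have e0 := qd_last B 0; have e1 := qd_last B 1; have e2 := qd_last B 2
  simp at e0 e1 e2
  simp only [act, Subgroup.coe_mul, Matrix.SpecialLinearGroup.coe_mul, Matrix.mul_apply, Fin.sum_univ_three, e0, e1, e2]
  ext <;> ring

theorem det_one : ∀ a b c : ZMod 2 × ZMod 2, a ≠ b → a ≠ c → b ≠ c →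
    (b.1 - a.1) * (c.2 - a.2) - (c.1 - a.1) * (b.2 - a.2) = 1 := by decide

theorem fourth : ∀ a b c d : ZMod 2 × ZMod 2, a ≠ b → a ≠ c → a ≠ d → b ≠ c → b ≠ d → c ≠ d →
    d = ((b.1 - a.1) * 1 + (c.1 - a.1) * 1 + a.1, (b.2 - a.2) * 1 + (c.2 - a.2) * 1 + a.2) := by decide

theorem cases4 : ∀ v : ZMod 2 × ZMod 2, v = (0, 0) ∨ v = (1, 0) ∨ v = (0, 1) ∨ v = (1, 1) := by decide

/-- The group Qd(2), the natural semidirect product of an elementary abelian group of order 4 by SL₂(2) (realised as the affine subgroup of SL₃(2)), is isomorphic to the symmetric group of degree 4. -/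
theorem result : Nonempty (↥(Cfsg.qd 2) ≃* Equiv.Perm (Fin 4)) := by
  letI : MulAction ↥(Cfsg.qd 2) (ZMod 2 × ZMod 2) :=
    { smul := fun M v => act (M.1 : Matrix (Fin 3) (Fin 3) (ZMod 2)) v
      one_smul := fun v => by show act _ v = v; simp [act]
      mul_smul := fun A B v => act_mul A B v }
  have hinj : Function.Injective (MulAction.toPermHom ↥(Cfsg.qd 2) (ZMod 2 × ZMod 2)) := by
    intro A B h
    have hv : ∀ v, act (A.1 : Matrix (Fin 3) (Fin 3) (ZMod 2)) v = act (B.1 : Matrix (Fin 3) (Fin 3) (ZMod 2)) v :=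
      fun v => Equiv.congr_fun h v
    have h0 := hv (0, 0); have h1 := hv (1, 0); have h2 := hv (0, 1)
    simp [act] at h0 h1 h2
    refine Subtype.ext (Subtype.ext (Matrix.ext fun i j => ?_))
    fin_cases i
    · fin_cases j <;> simp_all
    · fin_cases j <;> simp_all
    · exact (qd_last A j).trans (qd_last B j).symm
  have hsurj : Function.Surjective (MulAction.toPermHom ↥(Cfsg.qd 2) (ZMod 2 × ZMod 2)) := by
    intro σ
    set a := σ (0, 0) with ha
    set b := σ (1, 0) with hb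
    set c := σ (0, 1) with hc
    set d := σ (1, 1) with hd
    have hab : a ≠ b := σ.injective.ne (by decide)
    have hac : a ≠ c := σ.injective.ne (by decide)
    have had : a ≠ d := σ.injective.ne (by decide)
    have hbc : b ≠ c := σ.injective.ne (by decide)
    have hbd : b ≠ d := σ.injective.ne (by decide)
    have hcd : c ≠ d := σ.injective.ne (by decide)
    let M : Matrix (Fin 3) (Fin 3) (ZMod 2) := !![b.1 - a.1, c.1 - a.1, a.1; b.2 - a.2, c.2 - a.2, a.2; 0, 0, 1]
    have hdet : M.det = 1 := by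
      rw [Matrix.det_fin_three]
      simp [M]
      exact det_one a b c hab hac hbc
    refine ⟨⟨⟨M, hdet⟩, Subgroup.subset_closure ⟨by simp [M], by simp [M], by simp [M]⟩⟩, Equiv.ext fun v => ?_⟩
    show act M v = σ v
    rcases cases4 v with rfl | rfl | rfl | rfl
    · rw [← ha]; simp [act, M]
    · rw [← hb]; simp [act, M]
    · rw [← hc]; simp [act, M]
    · rw [← hd]
      refine (Eq.trans ?_ (fourth a b c d hab hac had hbc hbd hcd).symm)
      simp [act, M]
  have e4 : Fintype.card (ZMod 2 × ZMod 2) = 4 := rfl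
  exact ⟨(MulEquiv.ofBijective _ ⟨hinj, hsurj⟩).trans (Equiv.permCongrHom (Fintype.equivFinOfCardEq e4))⟩

end Cfsg.Agent.S2761
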