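import Cfsg.Statements.S2000
import Cfsg.Agent.S1999
import Cfsg.Agent.S2761
import Cfsg.Agent.Lib.Conjugacy.KInfFusion
import Cfsg.Agent.Lib.Conjugacy.KInfQd
import Cfsg.Agent.Lib.Qd.Stable
-- import your own Cfsg.Agent.* helpers here

set_option autoImplicit false
universe u
open Cfsg

namespace Cfsg.Agent.S2000

open CfsgLib.Conjugacy CfsgLib.Qd
open scoped MatrixGroups

variable {p : ℕ} [hp : Fact p.Prime]

/-- The transvection. -/
def tv (s : ZMod p) : SL(2, ZMod p) := ⟨!![1, s; 0, 1], by simp [Matrix.det_fin_two_of]⟩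

theorem tv_mul (s t : ZMod p) : tv s * tv t = tv (s + t) := by
  refine Matrix.SpecialLinearGroup.ext _ _ fun i j => ?_
  show ((tv s).1 * (tv t).1) i j = _
  fin_cases i <;> fin_cases j <;> simp [tv, Matrix.mul_apply, Fin.sum_univ_two, add_comm]

theorem tv_zero : tv (0 : ZMod p) = 1 := by
  refine Matrix.SpecialLinearGroup.ext _ _ fun i j => ?_
  fin_cases i <;> fin_cases j <;> simp [tv]

theorem tv_inj {s t : ZMod p} (h : tv s = tv t) : s = t := by
  have h1 := congrArg (fun M : SL(2, ZMod p) => M.1 0 1) h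
  simpa [tv] using h1

theorem tv_inv (s : ZMod p) : (tv s)⁻¹ = tv (-s) :=
  inv_eq_of_mul_eq_one_right (by rw [tv_mul, add_neg_cancel, tv_zero])

theorem tv_mulVec (s x y : ZMod p) : (tv s).1.mulVec ![x, y] = ![x + s * y, y] := by
  funext i; fin_cases i <;> simp [tv, Matrix.mulVec, dotProduct, Fin.sum_univ_two]

/-- No set of functors controls fusion in `Qd(p)`. -/
theorem not_controlled_qd {X : Type u} [Group X] [Finite X] (e : X ≃* ↥(Cfsg.qd p))
    {𝓦 : Set (∀ (Q : Type u) [Group Q], Subgroup Q)}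
    (h𝓦 : ∀ W ∈ 𝓦, Cfsg.IsCharPFunctor.{u} p W) : ¬ Controlled p 𝓦 X := by
  intro hX
  let E : ZMod p → ZMod p → ZMod p → X := fun s x y => e.symm (el (tv s) ![x, y])
  have hEmul : ∀ s x y s' x' y', E s x y * E s' x' y' = E (s + s') (x + x' + s * y') (y + y') :=
    fun s x y s' x' y' => by
      simp only [E, ← map_mul, el_mul, tv_mul, tv_mulVec]
      congr 2
      funext i; fin_cases i <;> simp [add_assoc]
  have hE1 : E 0 0 0 = 1 := by
    simp only [E, tv_zero]
    rw [show (![0, 0] : Fin 2 → ZMod p) = 0 by funext i; fin_cases i <;> rfl, el_one, map_one]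
  have hEinj : ∀ {s x y s' x' y'}, E s x y = E s' x' y' → s = s' ∧ x = x' ∧ y = y' :=
    fun {s x y s' x' y'} h => by
      obtain ⟨h1, h2⟩ := el_inj (e.symm.injective h)
      exact ⟨tv_inj h1, by simpa using congrFun h2 0, by simpa using congrFun h2 1⟩
  have hEinv : ∀ s x y, (E s x y)⁻¹ = E (-s) (s * y - x) (-y) := fun s x y =>
    inv_eq_of_mul_eq_one_right (by
      rw [hEmul, show x + (s * y - x) + s * -y = 0 by ring, add_neg_cancel, add_neg_cancel, hE1])
  let T : Subgroup X :=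
    { carrier := {a | ∃ s x y, E s x y = a}
      one_mem' := ⟨0, 0, 0, hE1⟩
      mul_mem' := by
        rintro _ _ ⟨s, x, y, rfl⟩ ⟨s', x', y', rfl⟩
        exact ⟨_, _, _, (hEmul _ _ _ _ _ _).symm⟩
      inv_mem' := by
        rintro _ ⟨s, x, y, rfl⟩
        exact ⟨_, _, _, (hEinv _ _ _).symm⟩ }
  have hTcard : Nat.card T = p ^ 3 := by
    rw [← Nat.card_eq_of_bijective
      (fun z : ZMod p × ZMod p × ZMod p => (⟨E z.1 z.2.1 z.2.2, _, _, _, rfl⟩ : T))
      ⟨fun a b h => by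
        obtain ⟨h1, h2, h3⟩ := hEinj (congrArg Subtype.val h)
        exact Prod.ext h1 (Prod.ext h2 h3), fun a => by
        obtain ⟨s, x, y, h⟩ := a.2
        exact ⟨(s, x, y), Subtype.ext h⟩⟩, Nat.card_prod, Nat.card_prod, Nat.card_zmod]
    ring
  have hXcard : Nat.card X = p ^ 3 * ((p - 1) * (p + 1)) := by
    have hbij : Function.Bijective fun z : SL(2, ZMod p) × (Fin 2 → ZMod p) =>
        e.symm (el z.1 z.2) := by
      refine ⟨fun a b hab => Prod.ext (el_inj (e.symm.injective hab)).1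
        (el_inj (e.symm.injective hab)).2, fun x => ?_⟩
      obtain ⟨g, v, hgv⟩ := el_surj (e x)
      exact ⟨(g, v), by simp [hgv]⟩
    rw [← Nat.card_eq_of_bijective _ hbij, Nat.card_prod, CfsgLib.SL2.card_SL_two', Nat.card_zmod,
      Nat.card_fun, Nat.card_zmod, Nat.card_eq_fintype_card, Fintype.card_fin]
    ring
  have hTp : IsPGroup p T := IsPGroup.of_card hTcard
  have hidx : ¬ p ∣ T.index := by
    have h1 := T.card_mul_index
    rw [hTcard, hXcard] at h1
    rw [Nat.eq_of_mul_eq_mul_left (pow_pos hp.out.pos 3) h1]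
    have h2 := hp.out.two_le
    intro hd
    rcases hp.out.dvd_mul.mp hd with h | h
    · have := Nat.le_of_dvd (by omega) h; omega
    · exact absurd ((Nat.dvd_add_right (dvd_refl p)).mp h) hp.out.not_dvd_one
  -- the automorphism moving the translations
  let f : T → T := fun a =>
    ⟨E a.2.choose_spec.choose_spec.choose
      (a.2.choose * a.2.choose_spec.choose_spec.choose - a.2.choose_spec.choose) a.2.choose,
      _, _, _, rfl⟩
  have hf : ∀ (a : T) s x y, E s x y = (a : X) → (f a : X) = E y (s * y - x) s := by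
    intro a s x y h
    obtain ⟨rfl, rfl, rfl⟩ :=
      hEinj (a.2.choose_spec.choose_spec.choose_spec.trans h.symm)
    rfl
  have hff : Function.Involutive f := fun a => by
    obtain ⟨s, x, y, h⟩ := a.2
    refine Subtype.ext ?_
    rw [hf (f a) y (s * y - x) s (hf a s x y h).symm, ← h]
    congr 1
    ring
  let σ : T ≃* T :=
    { hff.toPerm with
      map_mul' := fun a b => by
        obtain ⟨s, x, y, h⟩ := a.2
        obtain ⟨s', x', y', h'⟩ := b.2
        refine Subtype.ext ?_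
        show (f (a * b) : X) = (f a : X) * f b
        rw [hf a s x y h, hf b s' x' y' h', hEmul,
          hf (a * b) _ _ _ (by rw [Subgroup.coe_mul, ← h, ← h', hEmul])]
        congr 1
        ring }
  -- the normalizers stabilize the centre
  let Z : Set X := {a | ∃ x, E 0 x 0 = a}
  have hV : ∀ (n : X) x y, ∃ x' y', n * E 0 x y * n⁻¹ = E 0 x' y' := by
    intro n x y
    obtain ⟨g, v, hgv⟩ := el_surj (e n)
    refine ⟨(g.1.mulVec ![x, y]) 0, (g.1.mulVec ![x, y]) 1, e.injective ?_⟩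
    simp only [E, map_mul, map_inv, e.apply_symm_apply, tv_zero, ← hgv]
    rw [el_inv, el_mul, el_mul, mul_one, mul_inv_cancel, Matrix.mulVec_neg, Matrix.mulVec_mulVec,
      ← Matrix.SpecialLinearGroup.coe_mul, mul_inv_cancel, Matrix.SpecialLinearGroup.coe_one,
      Matrix.one_mulVec]
    congr 1
    funext i; fin_cases i <;> simp [Matrix.vecHead, Matrix.vecTail] <;> ring
  have hpow : ∀ (A : Subgroup X) x y, E 0 x y ∈ A → ∀ k : ZMod p, E 0 (k * x) (k * y) ∈ A := by
    intro A x y h k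
    have key : ∀ m : ℕ, E 0 ((m : ZMod p) * x) ((m : ZMod p) * y) ∈ A := by
      intro m
      induction m with
      | zero => simp only [Nat.cast_zero, zero_mul, hE1]; exact one_mem A
      | succ m ih =>
        have := A.mul_mem ih h
        rw [hEmul] at this
        convert this using 2 <;> push_cast <;> ring
    have := key k.val
    rwa [ZMod.natCast_zmod_val] at this
  have hN : ∀ N ∈ Ns 𝓦 T, ∀ n ∈ N, ∀ a ∈ Z, n * a * n⁻¹ ∈ Z := by
    rintro _ ⟨W, hW, rfl⟩ n hn _ ⟨x₀, rfl⟩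
    set A := Cfsg.inducedFunctor W T with hA
    have hW' := h𝓦 W hW
    have hAle : A ≤ T := Subgroup.map_subtype_le _
    have hmemA : ∀ a : T, (a : X) ∈ A ↔ a ∈ W ↥T := fun a =>
      ⟨fun ⟨b, hb, hba⟩ => Subtype.ext hba ▸ hb, fun ha => ⟨a, ha, rfl⟩⟩
    have haut : ∀ (φ : T ≃* T) (a : T), a ∈ W ↥T → φ a ∈ W ↥T := fun φ a ha =>
      (hW'.2 ↥T ↥T hTp φ).le ⟨a, ha, rfl⟩
    have hσA : ∀ s x y, E s x y ∈ A → E y (s * y - x) s ∈ A := by
      intro s x y h
      have hmem : E s x y ∈ T := ⟨s, x, y, rfl⟩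
      have h1 := haut σ ⟨_, hmem⟩ ((hmemA ⟨_, hmem⟩).mp h)
      have h2 := (hmemA _).mpr h1
      rwa [show ((σ ⟨_, hmem⟩ : T) : X) = E y (s * y - x) s from hf ⟨_, hmem⟩ s x y rfl] at h2
    have hconj : ∀ a ∈ T, ∀ b ∈ A, a * b * a⁻¹ ∈ A := fun a ha b hb => by
      have h1 := haut (MulAut.conj (⟨a, ha⟩ : T)) ⟨b, hAle hb⟩ ((hmemA ⟨b, hAle hb⟩).mp hb)
      exact (hmemA _).mpr h1
    obtain ⟨x', y', he⟩ := hV n x₀ 0
    rw [he]
    -- `A` contains the centre
    have hne : W ↥T ≠ ⊥ := hW'.1 ↥T hTp (Finite.one_lt_card_iff_nontrivial.mp (by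
      rw [hTcard]; exact one_lt_pow₀ hp.out.one_lt three_ne_zero))
    obtain ⟨a, ha, ha1⟩ := (Subgroup.bot_or_exists_ne_one _).resolve_left hne
    obtain ⟨s, x, y, hsxy⟩ := a.2
    have haA : E s x y ∈ A := hsxy ▸ (hmemA a).mpr ha
    have hZ : ∀ k, E 0 k 0 ∈ A := by
      obtain ⟨k₀, hk₀, hk₀A⟩ : ∃ k, k ≠ 0 ∧ E 0 k 0 ∈ A := by
        by_cases hs : s = 0
        · subst hs
          by_cases hy : y = 0
          · subst hy
            refine ⟨x, fun h0 => ha1 (Subtype.ext ?_), haA⟩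
            rw [← hsxy, h0, hE1]; rfl
          · refine ⟨y, hy, ?_⟩
            have h2 := A.mul_mem (hconj (E 1 0 0) ⟨1, 0, 0, rfl⟩ _ haA) (A.inv_mem haA)
            rw [hEinv, hEinv, hEmul, hEmul, hEmul] at h2
            convert h2 using 2 <;> ring
        · refine ⟨s, hs, ?_⟩
          have h2 := A.mul_mem haA (A.inv_mem (hconj (E 0 0 1) ⟨0, 0, 1, rfl⟩ _ haA))
          rw [hEinv, hEmul, hEmul, hEinv, hEmul] at h2
          convert h2 using 2 <;> ring
      intro k
      have := hpow A k₀ 0 hk₀A (k / k₀)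
      rwa [div_mul_cancel₀ k hk₀, mul_zero] at this
    have hxyA : E 0 x' y' ∈ A := he ▸ (Subgroup.mem_normalizer_iff.mp hn _).mp (hZ x₀)
    suffices hy0 : y' = 0 from ⟨x', by rw [hy0]⟩
    by_contra hy0
    -- otherwise `A` is everything
    have hAT : T ≤ A := by
      rintro _ ⟨s₁, x₁, y₁, rfl⟩
      have h1 := hσA _ _ _ hxyA
      rw [zero_mul, zero_sub] at h1
      have hs : ∀ k : ZMod p, ∃ c, E k c 0 ∈ A := by
        intro k
        have key : ∀ m : ℕ, ∃ c, E ((m : ZMod p) * y') c 0 ∈ A := by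
          intro m
          induction m with
          | zero => exact ⟨0, by simp only [Nat.cast_zero, zero_mul, hE1]; exact one_mem A⟩
          | succ m ih =>
            obtain ⟨c, hc⟩ := ih
            have := A.mul_mem hc h1
            rw [hEmul] at this
            exact ⟨_, by convert this using 2 <;> push_cast <;> ring⟩
        obtain ⟨c, hc⟩ := key (k / y').val
        exact ⟨c, by rwa [ZMod.natCast_zmod_val, div_mul_cancel₀ k hy0] at hc⟩
      obtain ⟨c, hc⟩ := hs s₁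
      have h2 := hpow A x' y' hxyA (y₁ / y')
      rw [div_mul_cancel₀ y₁ hy0] at h2
      have h3 := A.mul_mem (A.mul_mem (hZ (x₁ - (c + y₁ / y' * x' + s₁ * y₁))) hc) h2
      rw [hEmul, hEmul] at h3
      convert h3 using 2 <;> ring
    have hT1 : E 1 0 0 ∈ A := hAT ⟨1, 0, 0, rfl⟩
    have h4 : n⁻¹ * E 1 0 0 * n ∈ T := hAle ((Subgroup.mem_normalizer_iff''.mp hn _).mp hT1)
    obtain ⟨s₂, x₂, y₂, h5⟩ := h4
    have hcomm : E 0 x₀ 0 * (n⁻¹ * E 1 0 0 * n) = n⁻¹ * E 1 0 0 * n * E 0 x₀ 0 := by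
      rw [← h5, hEmul, hEmul]; congr 1 <;> ring
    have h6 : E 0 x' y' * E 1 0 0 = E 1 0 0 * E 0 x' y' := by
      rw [← he]
      calc n * E 0 x₀ 0 * n⁻¹ * E 1 0 0 = n * (E 0 x₀ 0 * (n⁻¹ * E 1 0 0 * n)) * n⁻¹ := by group
        _ = E 1 0 0 * (n * E 0 x₀ 0 * n⁻¹) := by rw [hcomm]; group
    rw [hEmul, hEmul] at h6
    have h7 := (hEinj h6).2.1
    exact hy0 (by linear_combination -h7)
  -- a move out of the centre
  let w : SL(2, ZMod p) := ⟨!![0, -1; 1, 0], by simp [Matrix.det_fin_two_of]⟩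
  set h := e.symm (el w 0) with hh
  have hmove : h * E 0 1 0 * h⁻¹ = E 0 0 1 := by
    simp only [hh, E, tv_zero, ← map_mul, ← map_inv, el_inv, el_mul, mul_one, mul_inv_cancel,
      Matrix.mulVec_zero, neg_zero, zero_add, add_zero]
    congr 2
    funext i; fin_cases i <;> simp [w, Matrix.mulVec, dotProduct, Fin.sum_univ_two]
  have hle : ∀ {a : X}, a ∈ T → Subgroup.zpowers a ≤ T := fun ha => Subgroup.zpowers_le.mpr ha
  have hctl := hX (hTp.toSylow hidx) (Subgroup.zpowers (E 0 1 0)) h (hle ⟨0, 1, 0, rfl⟩) (by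
    rw [CfsgLib.Conjugacy.cj, MonoidHom.map_zpowers]
    refine hle ?_
    show h * E 0 1 0 * h⁻¹ ∈ T
    rw [hmove]; exact ⟨_, _, _, rfl⟩)
  have key : ∀ {P : Subgroup X} {g : X}, Ctl T (Ns 𝓦 T) P g →
      ∀ a ∈ P, a ∈ Z → g * a * g⁻¹ ∈ Z := by
    intro P g hc
    induction hc with
    | refl _ => intro a _ ha; simpa using ha
    | step N hN' hg _ _ => exact fun a _ ha => hN N hN' _ hg a ha
    | @comp P g h _ _ ih1 ih2 =>
      intro a haP ha
      have := ih2 _ (conj_mem_cj haP) (ih1 a haP ha)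
      rwa [mul_inv_rev, show h * g * a * (g⁻¹ * h⁻¹) = h * (g * a * g⁻¹) * h⁻¹ by group]
    | congr _ he ih =>
      intro a haP ha
      rw [← he a haP]
      exact ih a haP ha
  obtain ⟨x, hx⟩ := key hctl (E 0 1 0) (Subgroup.mem_zpowers _) ⟨1, rfl⟩
  rw [hmove] at hx
  exact zero_ne_one (hEinj hx).2.2

theorem result_mpr {G : Type u} [Group G] [Finite G]
    {𝓦 : Set (∀ (Q : Type u) [Group Q], Subgroup Q)} (h𝓦 : ∀ W ∈ 𝓦, Cfsg.IsCharPFunctor.{u} p W)
    (h : ∀ (K R : Subgroup G) [hR : (R.subgroupOf K).Normal], Cfsg.FamilyControlsStrongFusionIn p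
      ((fun W => Cfsg.inducedFunctor (G := (↥K ⧸ R.subgroupOf K)) W) '' 𝓦) ⊤) :
    ¬ Cfsg.Involves ↥(Cfsg.qd p) G := by
  rintro ⟨K, R, hn, ⟨e⟩⟩
  exact not_controlled_qd e h𝓦 (controlled_of_family h𝓦 (@h K R hn))

theorem not_involves_section {H : Type} [Group H] {G : Type u} [Group G]
    (hfree : ¬ Cfsg.Involves H G) (K R : Subgroup G) [(R.subgroupOf K).Normal] :
    ¬ Cfsg.Involves H (↥K ⧸ R.subgroupOf K) := fun h =>
  hfree (CfsgLib.Offender.involves_of_injective K.subtype K.subtype_injective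
    (CfsgLib.Offender.involves_of_surjective (QuotientGroup.mk' _)
      (QuotientGroup.mk'_surjective _) h))

theorem result_mp {G : Type u} [Group G] [Finite G] (hfree : ¬ Cfsg.Involves ↥(Cfsg.qd p) G) :
    ∃ 𝓦 : Set (∀ (Q : Type u) [Group Q], Subgroup Q), (∀ W ∈ 𝓦, Cfsg.IsCharPFunctor.{u} p W) ∧
      ∀ (K R : Subgroup G) [hR : (R.subgroupOf K).Normal], Cfsg.FamilyControlsStrongFusionIn p
        ((fun W => Cfsg.inducedFunctor (G := (↥K ⧸ R.subgroupOf K)) W) '' 𝓦) ⊤ := by
  rcases eq_or_ne p 2 with rfl | hp2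
  · have hS4 : ¬ Cfsg.Involves (Equiv.Perm (Fin 4)) G := by
      intro h
      obtain ⟨e⟩ := Cfsg.Agent.S2761.result
      obtain ⟨L, ψ, hψ⟩ := CfsgLib.Offender.exists_hom_of_involves h
      exact hfree (CfsgLib.Offender.involves_of_hom (e.symm.toMonoidHom.comp ψ)
        (e.symm.surjective.comp hψ))
    refine ⟨{Cfsg.Agent.S1999.wCenter, CfsgLib.LocalK.wJe}, ?_, fun K R _ => ?_⟩
    · rintro V (rfl | rfl)
      exacts [Cfsg.Agent.S1999.isCharPFunctor_wCenter, CfsgLib.LocalK.isCharPFunctor_wJe]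
    · rw [Set.image_pair]
      have := Cfsg.Agent.S1999.forward hS4 K R
      have e1 : Cfsg.inducedFunctor (G := ↥K ⧸ R.subgroupOf K) Cfsg.Agent.S1999.wCenter =
          fun P => P ⊓ Subgroup.centralizer (P : Set _) :=
        funext Cfsg.Agent.S1999.induced_wCenter
      have e2 : Cfsg.inducedFunctor (G := ↥K ⧸ R.subgroupOf K) CfsgLib.LocalK.wJe =
          fun P => Cfsg.thompsonSubgroupOf 2 P := funext CfsgLib.LocalK.induced_wJe
      rw [e1, e2]
      exact this
  · have hW : Cfsg.IsCharPFunctor.{u} p Cfsg.kInfLower := isCharPFunctor_kInfLower p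
    have h𝓦 : ∀ V ∈ ({Cfsg.kInfLower} : Set (∀ (Q : Type u) [Group Q], Subgroup Q)),
        Cfsg.IsCharPFunctor.{u} p V := by rintro V rfl; exact hW
    refine ⟨_, h𝓦, fun K R _ => family_of_controlled (controlled_of_local h𝓦
      (local_of_quotients h𝓦 fun L S _ hc U P g hP hgP => ?_) (Sect.refl _))⟩
    have hYfree := not_involves_section (not_involves_section hfree K R) L S
    have hnorm := (kInf_normal_of_pStable hc (fun N _ =>
      CfsgLib.Qd.isNormalizerPStable_of_qdFree hp2 (CfsgLib.Qd.not_involves_quotient _ hYfree)) U).1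
    refine Ctl.step _ ⟨_, rfl, rfl⟩ ?_ hP hgP
    rw [Subgroup.normalizer_eq_top_iff.mpr hnorm]
    exact Subgroup.mem_top g


/-- Let p be a prime and G a finite group. Then Qd(p) (the natural semidirect product of an elementary abelian group of order p² by SL₂(p)) is not involved in G if and only if there is a set 𝓦 of isomorphism-invariant p-group functors (each nontrivial on nontrivial finite p-groups and carried onto W(R) by every isomorphism from a finite p-group Q onto R, hence with characteristic values on finite p-groups) whose induced conjugacy functors control strong fusion in every section of G. -/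
theorem result {G : Type u} [Group G] [Finite G] {p : ℕ} [Fact p.Prime] : ¬ Cfsg.Involves ↥(Cfsg.qd p) G ↔ ∃ 𝓦 : Set (∀ (Q : Type u) [Group Q], Subgroup Q), (∀ W ∈ 𝓦, Cfsg.IsCharPFunctor.{u} p W) ∧ ∀ (K R : Subgroup G) [hR : (R.subgroupOf K).Normal], Cfsg.FamilyControlsStrongFusionIn p ((fun W => Cfsg.inducedFunctor (G := (↥K ⧸ R.subgroupOf K)) W) '' 𝓦) ⊤ := by
  exact ⟨result_mp, fun ⟨𝓦, h𝓦, h⟩ => result_mpr h𝓦 h⟩

end Cfsg.Agent.S2000
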