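import Mathlib
import Cfsg.Statements.S2006
import Cfsg.Agent.Lib.Conjugacy.Complement
import Cfsg.Agent.Lib.PStable.Engel

set_option autoImplicit false
set_option linter.style.haveILetI false
set_option linter.unusedVariables false
universe u
open Cfsg

open scoped commutatorElement

namespace Cfsg.Agent.S2006

theorem map_iterCommutator {G H : Type*} [Group G] [Group H] (f : G →* H) (N K : Subgroup G) :
    ∀ n, (Cfsg.iterCommutator N K n).map f = Cfsg.iterCommutator (N.map f) (K.map f) n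
  | 0 => rfl
  | n + 1 => by
    simp only [Cfsg.iterCommutator, Subgroup.map_commutator]
    rw [map_iterCommutator f N K n]

/-- Let p be a prime, G a finite group with Sylow p-subgroup S, and W an isomorphism-invariant p-group functor (W assigns to every group Q a subgroup W(Q), nontrivial whenever Q is a nontrivial finite p-group, and every isomorphism from a finite p-group Q onto a group R carries W(Q) onto W(R)). Suppose N_G(W(S)) has a normal p-complement, and that whenever G* = K/R is a section of G with C_{G*}(O_p(G*)) ≤ O_p(G*) and S* is a Sylow p-subgroup of G* with W(S*) not normal in G*, there are an element g of S* outside O_p(G*) and a chief factor X/Y of G* with X ≤ O_p(G*) such that [X, g, …, g] ≤ Y with p − 1 entries g but [X, g] ≰ Y. Then G has a normal p-complement. -/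
theorem result {G : Type u} [Group G] [Finite G] {p : ℕ} [Fact p.Prime] (W : ∀ (Q : Type u) [Group Q], Subgroup Q) (hW : Cfsg.IsCharPFunctor.{u} p W) (S : Sylow p G) (hN : Cfsg.HasNormalPComplement p ↥(Subgroup.normalizer ((Cfsg.inducedFunctor (G := G) W (S : Subgroup G) : Subgroup G) : Set G))) (hloc : ∀ (K R : Subgroup G) [hR : (R.subgroupOf K).Normal], Subgroup.centralizer ((Cfsg.pCore p (↥K ⧸ R.subgroupOf K) : Subgroup (↥K ⧸ R.subgroupOf K)) : Set (↥K ⧸ R.subgroupOf K)) ≤ Cfsg.pCore p (↥K ⧸ R.subgroupOf K) → ∀ T : Sylow p (↥K ⧸ R.subgroupOf K), ¬ (Cfsg.inducedFunctor (G := (↥K ⧸ R.subgroupOf K)) W ((T : Subgroup (↥K ⧸ R.subgroupOf K)))).Normal → ∃ g : (↥K ⧸ R.subgroupOf K), g ∈ (T : Subgroup (↥K ⧸ R.subgroupOf K)) ∧ g ∉ Cfsg.pCore p (↥K ⧸ R.subgroupOf K) ∧ ∃ U V : Subgroup (↥K ⧸ R.subgroupOf K), Cfsg.IsChiefFactor U V ∧ U ≤ Cfsg.pCore p (↥K ⧸ R.subgroupOf K) ∧ Cfsg.iterCommutator U (Subgroup.zpowers g) (p - 1) ≤ V ∧ ¬ ⁅U, Subgroup.zpowers g⁆ ≤ V) : Cfsg.HasNormalPComplement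 p G := by
  refine CfsgLib.Conjugacy.hasNormalPComplement_of_critical hW S hN fun X _ _ T hsec hX => ?_
  obtain ⟨K, R, hn, T', hc, hback⟩ := CfsgLib.Conjugacy.exists_quotient_of_sect hW hsec hX
  haveI := hn
  refine hback ?_
  clear hback
  by_cases hWn : (Cfsg.inducedFunctor W (T' : Subgroup (↥K ⧸ R.subgroupOf K))).Normal
  · exact CfsgLib.Transfer.hasNPC_top.mp (CfsgLib.Transfer.hasNPC_of_le (le_of_eq (Subgroup.normalizer_eq_top_iff.mpr hWn).symm) hc.hyp)
  exfalso
  obtain ⟨g, hgT, -, U, V, ⟨hVU, hUn, hVn, hmin⟩, hUc, hit, hnc⟩ := hloc K R hc.constrained T' hWn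
  haveI := hUn
  haveI := hVn
  set π := QuotientGroup.mk' V with hπ
  have hπs : Function.Surjective π := QuotientGroup.mk'_surjective V
  haveI : (U.map π).Normal := Subgroup.Normal.map inferInstance π hπs
  have hUp : IsPGroup p (U.map π) := ((CfsgLib.Fitting.pCore_isPGroup p).to_le hUc).map π
  have hmin' : ∀ N : Subgroup ((↥K ⧸ R.subgroupOf K) ⧸ V), N.Normal → N ≤ U.map π → N = ⊥ ∨ N = U.map π := by
    intro N hN hle
    have hle2 : N.comap π ≤ U := by
      intro x hx
      obtain ⟨u, hu, hue⟩ := hle hx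
      have hv : u⁻¹ * x ∈ V := QuotientGroup.eq.mp hue
      simpa using U.mul_mem hu (hVU.le hv)
    have hVle : V ≤ N.comap π := fun v hv => by
      show π v ∈ N
      rw [show π v = 1 from (QuotientGroup.eq_one_iff v).mpr hv]
      exact N.one_mem
    rcases hmin _ (hN.comap π) hVle hle2 with h | h
    · left
      rw [← Subgroup.map_comap_eq_self_of_surjective hπs N, h, hπ, QuotientGroup.map_mk'_self]
    · right
      rw [← h, Subgroup.map_comap_eq_self_of_surjective hπs N]
  obtain ⟨i, hi⟩ := T'.2 ⟨g, hgT⟩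
  have hg' : ∃ j, (π g) ^ p ^ j = 1 := ⟨i, by
    rw [← map_pow, show g ^ p ^ i = 1 from congrArg Subtype.val hi, map_one]⟩
  have hit' : Cfsg.iterCommutator (U.map π) (Subgroup.zpowers (π g)) (p - 1) = ⊥ := by
    rw [← MonoidHom.map_zpowers π g, ← map_iterCommutator, Subgroup.map_eq_bot_iff, hπ, QuotientGroup.ker_mk']
    exact hit
  have hcent := CfsgLib.PStable.commutator_le_of_engel (hc.abelian.of_surjective π hπs) hUp hmin' hg' hit'
  refine hnc (Subgroup.commutator_le.mpr fun u hu z hz => ?_)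
  rw [← QuotientGroup.eq_one_iff, ← QuotientGroup.mk'_apply, map_commutatorElement, commutatorElement_eq_one_iff_mul_comm]
  obtain ⟨k, rfl⟩ := Subgroup.mem_zpowers_iff.mp hz
  rw [map_zpow]
  exact Subgroup.mem_centralizer_iff.mp (Subgroup.zpow_mem _ hcent k) _ (Subgroup.mem_map_of_mem π hu)

end Cfsg.Agent.S2006
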