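import Mathlib
import Cfsg.Statements.S2007
import Cfsg.Agent.Lib.Transfer.Basic
import Cfsg.Agent.Lib.Transfer.Sylow

set_option autoImplicit false
set_option linter.style.haveILetI false
set_option linter.unusedVariables false
open Cfsg

namespace Cfsg.Agent.S2007

/-- Let p be a prime, G a finite group with Sylow p-subgroup S, and T a normal subgroup of S containing C_S(T). If N_G(T)/C_G(T) is a p-group (every element of N_G(T) of order prime to p centralizes T), then N_G(T) has a normal p-complement. -/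
theorem result {G : Type*} [Group G] [Finite G] {p : ℕ} [Fact p.Prime] (S : Sylow p G) (T : Subgroup G) (hTS : T ≤ (S : Subgroup G)) (hTn : (S : Subgroup G) ≤ Subgroup.normalizer ((T : Subgroup G) : Set G)) (hC : (S : Subgroup G) ⊓ Subgroup.centralizer ((T : Subgroup G) : Set G) ≤ T) (hN : ∀ g ∈ Subgroup.normalizer ((T : Subgroup G) : Set G), (orderOf g).Coprime p → g ∈ Subgroup.centralizer ((T : Subgroup G) : Set G)) : Cfsg.HasNormalPComplement p ↥(Subgroup.normalizer ((T : Subgroup G) : Set G)) := by
  set N := Subgroup.normalizer (T : Set G) with hN'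
  set C := Subgroup.centralizer (T : Set G) with hCdef
  have hCN : C ≤ N := Subgroup.centralizer_le_normalizer _
  obtain ⟨Q⟩ := (inferInstance : Nonempty (Sylow p C))
  have hS : ¬ p ∣ (S : Subgroup G).relIndex N := fun h =>
    S.not_dvd_index (h.trans (Subgroup.relIndex_dvd_index_of_le hTn))
  obtain ⟨h, hhN, hh⟩ := CfsgLib.Transfer.exists_conj_le_of_not_dvd_relIndex hTn S.2 hS
    ((Subgroup.map_subtype_le (Q : Subgroup C)).trans hCN) (Q.2.map C.subtype)
  have hQT : (Q : Subgroup C).map C.subtype ≤ T := by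
    intro z hz
    have h1 : h * z * h⁻¹ ∈ T := by
      refine hC ⟨hh ⟨z, hz, rfl⟩, Subgroup.mem_centralizer_iff.mpr fun t ht => ?_⟩
      have h2 := Subgroup.mem_centralizer_iff.mp (Subgroup.map_subtype_le _ hz) (h⁻¹ * t * h)
        (((Subgroup.mem_normalizer_iff''.mp hhN) t).mp ht)
      calc t * (h * z * h⁻¹) = h * ((h⁻¹ * t * h) * z) * h⁻¹ := by group
        _ = h * (z * (h⁻¹ * t * h)) * h⁻¹ := by rw [h2]
        _ = _ := by group
    exact (Subgroup.mem_normalizer_iff.mp hhN z).mpr h1
  have hCcomp : Cfsg.HasNormalPComplement p C := by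
    refine CfsgLib.Transfer.hasNormalPComplement_of_normalizer_le_centralizer Q fun c _ => ?_
    refine Subgroup.mem_centralizer_iff.mpr fun q hq => Subtype.ext ?_
    exact Subgroup.mem_centralizer_iff.mp c.2 _ (hQT ⟨q, hq, rfl⟩)
  rw [CfsgLib.Transfer.hasNormalPComplement_iff_pResidual] at hCcomp ⊢
  intro hd
  apply hCcomp
  rw [← Subgroup.card_map_of_injective C.subtype_injective]
  rw [← Subgroup.card_map_of_injective N.subtype_injective] at hd
  refine hd.trans (Subgroup.card_dvd_of_le ?_)
  rw [Cfsg.pResidual, MonoidHom.map_closure, Subgroup.closure_le]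
  rintro _ ⟨x, hx, rfl⟩
  have hxC : (x : G) ∈ C := hN x x.2 (by rw [Subgroup.orderOf_coe]; exact hx)
  refine ⟨⟨x, hxC⟩, CfsgLib.Transfer.mem_pResidual_of_coprime ?_, rfl⟩
  rw [← Subgroup.orderOf_coe]
  change (orderOf (x : G)).Coprime p
  rw [Subgroup.orderOf_coe]
  exact hx

end Cfsg.Agent.S2007
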