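import Mathlib
import Cfsg.Statements.S2008

set_option autoImplicit false
set_option linter.style.haveILetI false
set_option linter.unusedVariables false
open Cfsg

namespace Cfsg.Agent.S2008

/-- Let H be a finite group and z an involution such that every proper normal subgroup of H meets the centralizer of z trivially, and suppose z lies in a Klein four-subgroup E of H all three of whose involutions are conjugate to z in H. Then H has no non-trivial abelian normal subgroup. -/
theorem result {H : Type*} [Group H] [Finite H] (z : H) (hz : orderOf z = 2) (hN : ∀ N : Subgroup H, N.Normal → N ≠ ⊤ → N ⊓ Subgroup.centralizer ({z} : Set H) = ⊥) (E : Subgroup H) (hE : IsKleinFour ↥E) (hzE : z ∈ E) (hc : ∀ e ∈ E, e ≠ 1 → IsConj z e) (N : Subgroup H) [N.Normal] (hab : IsMulCommutative ↥N) : N = ⊥ := by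
  have hz2 : z * z = 1 := by rw [← pow_two, ← hz, pow_orderOf_eq_one]
  have hcomm : ∀ a ∈ N, ∀ b ∈ N, a * b = b * a := fun a ha b hb =>
    congrArg Subtype.val (hab.is_comm.comm (⟨a, ha⟩ : N) ⟨b, hb⟩)
  obtain ⟨e, heE, he1, hez⟩ : ∃ e ∈ E, e ≠ 1 ∧ e ≠ z := by
    by_contra hno
    push Not at hno
    have hsub : (E : Set H) ⊆ {1, z} := fun u hu => by
      by_cases h1 : u = 1
      · exact Or.inl h1
      · exact Or.inr (hno u hu h1)
    have h4 := Set.ncard_le_ncard hsub
    rw [← Nat.card_coe_set_eq] at h4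
    have h5 : Nat.card (E : Set H) = 4 := hE.card_four
    have h6 : ({1, z} : Set H).ncard ≤ 2 := (Set.ncard_insert_le _ _).trans (by simp)
    omega
  have hNtop : N ≠ ⊤ := by
    rintro rfl
    obtain ⟨c, hc'⟩ := isConj_iff.mp (hc e heE he1)
    rw [hcomm c trivial z trivial, mul_inv_cancel_right] at hc'
    exact hez hc'.symm
  have hinv : ∀ u : H, IsConj z u → ∀ a ∈ N, u * a * u⁻¹ = a⁻¹ := by
    intro u hu a ha
    obtain ⟨c, rfl⟩ := isConj_iff.mp hu
    set b := c⁻¹ * a * c with hb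
    have hbN : b ∈ N := Subgroup.Normal.conj_mem' inferInstance a ha c
    have hzb : z * b * z⁻¹ ∈ N := Subgroup.Normal.conj_mem inferInstance b hbN z
    have h1 : b * (z * b * z⁻¹) = 1 := by
      refine Subgroup.mem_bot.mp ((hN N inferInstance hNtop).le ⟨N.mul_mem hbN hzb, ?_⟩)
      refine Subgroup.mem_centralizer_singleton_iff.mpr ?_
      have hzi : z⁻¹ = z := inv_eq_of_mul_eq_one_right hz2
      calc b * (z * b * z⁻¹) * z = b * z * b := by group
        _ = z * ((z * b * z⁻¹) * b) := by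
          rw [hzi]; simp only [← mul_assoc]; rw [hz2, one_mul]
        _ = _ := by rw [hcomm _ hzb _ hbN]
    calc c * z * c⁻¹ * a * (c * z * c⁻¹)⁻¹ = c * (z * b * z⁻¹) * c⁻¹ := by rw [hb]; group
      _ = c * b⁻¹ * c⁻¹ := by rw [eq_inv_of_mul_eq_one_right h1]
      _ = _ := by rw [hb]; group
  have hze : z * e ∈ E ∧ z * e ≠ 1 := ⟨E.mul_mem hzE heE, fun h => hez (mul_left_cancel (h.trans hz2.symm))⟩
  refine (Subgroup.eq_bot_iff_forall _).mpr fun a ha => ?_
  have h3 : (z * e) * a * (z * e)⁻¹ = a := by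
    calc (z * e) * a * (z * e)⁻¹ = z * (e * a * e⁻¹) * z⁻¹ := by group
      _ = _ := by rw [hinv e (hc e heE he1) a ha, hinv z (IsConj.refl z) _ (N.inv_mem ha), inv_inv]
  obtain ⟨c, hc'⟩ := isConj_iff.mp (hc _ hze.1 hze.2)
  have h4 : c⁻¹ * a * c = 1 := by
    refine Subgroup.mem_bot.mp ((hN N inferInstance hNtop).le ⟨Subgroup.Normal.conj_mem' inferInstance a ha c, ?_⟩)
    refine Subgroup.mem_centralizer_singleton_iff.mpr ?_
    calc c⁻¹ * a * c * z = c⁻¹ * (a * (c * z * c⁻¹)) * c := by group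
      _ = c⁻¹ * ((c * z * c⁻¹) * a) * c := by rw [hc', ← mul_inv_eq_iff_eq_mul.mp h3]
      _ = _ := by group
  calc a = c * (c⁻¹ * a * c) * c⁻¹ := by group
    _ = 1 := by rw [h4, mul_one, mul_inv_cancel]

end Cfsg.Agent.S2008
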