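import Mathlib
import Cfsg.Statements.S2009
import Cfsg.Agent.S2008

set_option autoImplicit false
set_option linter.style.haveILetI false
set_option linter.unusedVariables false
open Cfsg

namespace Cfsg.Agent.S2009

/-- Let H be a finite group and z an involution such that every proper normal subgroup of H meets the centralizer of z trivially, and suppose z lies in a Klein four-subgroup E of H all three of whose involutions are conjugate to z in H. Then H is simple. -/
theorem result {H : Type*} [Group H] [Finite H] (z : H) (hz : orderOf z = 2) (hN : ∀ N : Subgroup H, N.Normal → N ≠ ⊤ → N ⊓ Subgroup.centralizer ({z} : Set H) = ⊥) (E : Subgroup H) (hE : IsKleinFour ↥E) (hzE : z ∈ E) (hc : ∀ e ∈ E, e ≠ 1 → IsConj z e) : IsSimpleGroup H := by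
  have hz2 : z * z = 1 := by rw [← pow_two, ← hz, pow_orderOf_eq_one]
  haveI : Nontrivial H := ⟨z, 1, fun h => by rw [h, orderOf_one] at hz; omega⟩
  refine ⟨fun N hn => ?_⟩
  by_cases hT : N = ⊤
  · exact Or.inr hT
  refine Or.inl ?_
  haveI := hn
  let f : N → N := fun a => ⟨(a : H)⁻¹ * (z * a * z⁻¹),
    N.mul_mem (N.inv_mem a.2) (hn.conj_mem _ a.2 z)⟩
  have hf : Function.Injective f := by
    intro a b h
    have h' : (a : H)⁻¹ * (z * a * z⁻¹) = (b : H)⁻¹ * (z * b * z⁻¹) := congrArg Subtype.val h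
    refine Subtype.ext (mul_inv_eq_one.mp (Subgroup.mem_bot.mp ((hN N hn hT).le
      ⟨N.mul_mem a.2 (N.inv_mem b.2), Subgroup.mem_centralizer_singleton_iff.mpr ?_⟩)))
    calc (a : H) * (b : H)⁻¹ * z = a * ((b : H)⁻¹ * (z * b * z⁻¹)) * z * (b : H)⁻¹ := by group
      _ = a * ((a : H)⁻¹ * (z * a * z⁻¹)) * z * (b : H)⁻¹ := by rw [h']
      _ = _ := by group
  have hinv : ∀ w ∈ N, z * w * z⁻¹ = w⁻¹ := by
    intro w hw
    obtain ⟨a, ha⟩ := Finite.injective_iff_surjective.mp hf ⟨w, hw⟩
    have ha' : (a : H)⁻¹ * (z * a * z⁻¹) = w := congrArg Subtype.val ha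
    rw [← ha', show z⁻¹ = z from inv_eq_of_mul_eq_one_right hz2]
    simp only [mul_inv_rev, inv_inv, show z⁻¹ = z from inv_eq_of_mul_eq_one_right hz2]
    simp only [← mul_assoc]
    rw [mul_assoc _ z z, hz2, mul_one]
  refine Cfsg.Agent.S2008.result z hz hN E hE hzE hc N ⟨⟨fun a b => Subtype.ext ?_⟩⟩
  have h1 := hinv _ (N.mul_mem a.2 b.2)
  rw [show z * ((a : H) * b) * z⁻¹ = (z * a * z⁻¹) * (z * b * z⁻¹) by group, hinv _ a.2, hinv _ b.2,
    ← mul_inv_rev] at h1
  exact (inv_injective h1).symm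

end Cfsg.Agent.S2009
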