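import Cfsg.Statements.S2011
import Cfsg.Agent.Lib.Transfer.Basic
-- import your own Cfsg.Agent.* helpers here

set_option autoImplicit false
open Cfsg CfsgLib

namespace Cfsg.Agent.S2011

/-- Let G be a finite group with Sylow p-subgroup P and Q ≤ P. Then Q is centric in the fusion system of G on P (C_P(R) ≤ R for every G-conjugate R of Q lying in P) if and only if C_G(Q) is the internal direct product of Z(Q) = Q ∩ C_G(Q) and the largest normal subgroup of C_G(Q) of order prime to p. -/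
theorem result {G : Type*} [Group G] [Finite G] (p : ℕ) [Fact p.Prime] (P : Sylow p G) (Q : Subgroup G) (hQ : Q ≤ P) : (Cfsg.groupFusionSystem (P : Subgroup G)).IsCentric Q ↔ Cfsg.IsInternalDirectProduct (Q ⊓ Subgroup.centralizer (Q : Set G)) ((Cfsg.pPrimeCore p ↥(Subgroup.centralizer (Q : Set G))).map (Subgroup.centralizer (Q : Set G)).subtype) (Subgroup.centralizer (Q : Set G)) := by
  have hpp := (Fact.out : p.Prime)
  set C := Subgroup.centralizer (Q : Set G) with hC
  set Zc := (Q ⊓ C).subgroupOf C with hZc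
  set O := Cfsg.pPrimeCore p ↥C with hO
  have := Transfer.pPrimeCore_normal p ↥C
  have hZcent : ∀ z ∈ Zc, ∀ c : ↥C, c * z = z * c := fun z hz c => Subtype.ext (c.2 (z : G) hz.1).symm
  have hZp : IsPGroup p Zc :=
    (P.2.to_le (inf_le_left.trans hQ)).comap_of_injective C.subtype C.subtype_injective
  have hdisj : Zc ⊓ O = ⊥ := by
    rw [← Subgroup.card_eq_one]
    obtain ⟨k, hk⟩ := (hZp.to_le (inf_le_left : Zc ⊓ O ≤ Zc)).exists_card_eq
    refine Nat.eq_one_of_dvd_coprimes (Nat.Coprime.pow_right k (Transfer.pPrimeCore_coprime (G := ↥C) p))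
      (Subgroup.card_dvd_of_le inf_le_right) ?_
    rw [hk]
  constructor
  · intro ⟨_, hcen⟩
    obtain ⟨R⟩ := (inferInstance : Nonempty (Sylow p ↥C))
    have hRZ : (R : Subgroup ↥C) ≤ Zc := by
      have hRp : IsPGroup p ((R : Subgroup ↥C).map C.subtype) := R.2.map _
      have hnorm : (R : Subgroup ↥C).map C.subtype ≤ Subgroup.normalizer (Q : Set G) :=
        (Subgroup.map_subtype_le _).trans (Subgroup.centralizer_le_normalizer _)
      obtain ⟨S, hS⟩ := (hRp.to_sup_of_normal_right' (P.2.to_le hQ) hnorm).exists_le_sylow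
      obtain ⟨g, rfl⟩ := MulAction.exists_smul_eq G P S
      have hmemP : ∀ w ∈ (R : Subgroup ↥C).map C.subtype ⊔ Q, g⁻¹ * w * g ∈ (P : Subgroup G) := by
        intro w hw
        obtain ⟨v, hv, hvw⟩ := hS hw
        rw [← hvw]
        show g⁻¹ * (g * v * g⁻¹) * g ∈ (P : Subgroup G)
        rw [show g⁻¹ * (g * v * g⁻¹) * g = v by group]
        exact hv
      set φ : Q →* G := (MulAut.conj g⁻¹).toMonoidHom.comp Q.subtype with hφdef
      have hφe : ∀ x : Q, φ x = g⁻¹ * x * g := fun x => by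
        show g⁻¹ * (x : G) * g⁻¹⁻¹ = _
        rw [inv_inv]
      have hφ : φ ∈ (Cfsg.groupFusionSystem (P : Subgroup G)).Hom Q :=
        ⟨hQ, fun x => (hφe x).symm ▸ hmemP _ (Subgroup.mem_sup_right x.2),
          g⁻¹, fun x => by rw [hφe, inv_inv]⟩
      intro r hr
      have hrS : ((r : ↥C) : G) ∈ (R : Subgroup ↥C).map C.subtype := Subgroup.mem_map_of_mem _ hr
      have h1 : g⁻¹ * (r : G) * g ∈ FusionSystem.centralizerIn (P : Subgroup G) φ.range := by
        refine ⟨hmemP _ (Subgroup.mem_sup_left hrS), ?_⟩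
        rintro _ ⟨x, rfl⟩
        rw [hφe]
        have hc : (x : G) * (r : G) = (r : G) * x := r.2 x x.2
        calc g⁻¹ * (x : G) * g * (g⁻¹ * (r : G) * g) = g⁻¹ * ((x : G) * r) * g := by group
          _ = g⁻¹ * ((r : G) * x) * g := by rw [hc]
          _ = g⁻¹ * (r : G) * g * (g⁻¹ * (x : G) * g) := by group
      obtain ⟨x, hx⟩ := hcen φ.range ⟨φ, hφ, rfl⟩ h1
      rw [hφe] at hx
      refine ⟨?_, r.2⟩
      show (r : G) ∈ Q
      rw [← (mul_left_cancel (mul_right_cancel hx) : (x : G) = r)]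
      exact x.2
    have hcR : Subgroup.normalizer ((R : Subgroup ↥C) : Set ↥C) ≤ Subgroup.centralizer ((R : Subgroup ↥C) : Set ↥C) :=
      fun c _ z hz => (hZcent z (hRZ hz) c).symm
    obtain ⟨N, hN, hcomp⟩ := (Transfer.hasNormalPComplement_iff_forall_sylow R).mp
      (Transfer.hasNormalPComplement_of_normalizer_le_centralizer R hcR)
    have hsup : Zc ⊔ O = ⊤ := top_le_iff.mp (hcomp.sup_eq_top ▸ sup_le
      ((Transfer.le_pPrimeCore hN (Transfer.coprime_card_of_isComplement' hcomp)).trans le_sup_right)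
      (hRZ.trans le_sup_left))
    refine ⟨inf_le_right, Subgroup.map_subtype_le _, ?_, ?_, ?_⟩
    · rintro a ha _ ⟨b, hb, rfl⟩
      exact (congrArg Subtype.val (hZcent ⟨a, ha.2⟩ ha b)).symm
    · rw [← Subgroup.map_subgroupOf_eq_of_le (inf_le_right : Q ⊓ C ≤ C),
        ← Subgroup.map_inf _ _ _ C.subtype_injective, hdisj, Subgroup.map_bot]
    · rw [← Subgroup.map_subgroupOf_eq_of_le (inf_le_right : Q ⊓ C ≤ C), ← Subgroup.map_sup, hsup,
        ← MonoidHom.range_eq_map, Subgroup.range_subtype]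
  · rintro ⟨-, -, -, -, hsup⟩
    refine ⟨hQ, ?_⟩
    rintro _ ⟨φ, ⟨-, hφP, g, hg⟩, rfl⟩
    rintro s ⟨hsP, hsC⟩
    set t := g⁻¹ * s * g with ht
    have htC : t ∈ C := by
      intro x hx
      have h1 : φ ⟨x, hx⟩ * s = s * φ ⟨x, hx⟩ := hsC _ ⟨_, rfl⟩
      rw [hg] at h1
      calc x * t = g⁻¹ * (g * x * g⁻¹ * s) * g := by rw [ht]; group
        _ = g⁻¹ * (s * (g * x * g⁻¹)) * g := by rw [h1]
        _ = t * x := by rw [ht]; group
    have htop : Zc ⊔ O = ⊤ := by
      refine Subgroup.map_injective C.subtype_injective ?_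
      rw [Subgroup.map_sup, Subgroup.map_subgroupOf_eq_of_le (inf_le_right : Q ⊓ C ≤ C), hsup,
        ← MonoidHom.range_eq_map, Subgroup.range_subtype]
    have hmem : (⟨t, htC⟩ : ↥C) ∈ ((Zc ⊔ O : Subgroup ↥C) : Set ↥C) := by rw [htop]; exact Subgroup.mem_top _
    rw [Subgroup.mul_normal] at hmem
    obtain ⟨z, hz, m, hm, hzm⟩ := hmem
    simp only at hzm
    obtain ⟨a, ha⟩ := hZp ⟨z, hz⟩
    obtain ⟨b, hb⟩ := P.2 ⟨s, hsP⟩
    have hzp : z ^ p ^ (a + b) = 1 := by
      rw [pow_add, pow_mul, show z ^ p ^ a = 1 from congrArg Subtype.val ha, one_pow]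
    have htp : (⟨t, htC⟩ : ↥C) ^ p ^ (a + b) = 1 := by
      refine Subtype.ext ?_
      show t ^ p ^ (a + b) = 1
      have hs' : s ^ p ^ b = 1 := congrArg Subtype.val hb
      rw [ht, show g⁻¹ * s * g = g⁻¹ * s * g⁻¹⁻¹ by rw [inv_inv], conj_pow, pow_add, mul_comm,
        pow_mul, hs', one_pow]
      group
    have hmp : m ^ p ^ (a + b) = 1 := by
      have hc : Commute z m := (hZcent z hz m).symm
      rw [← hzm, hc.mul_pow, hzp, one_mul] at htp
      exact htp
    have hm1 : m = 1 := orderOf_eq_one_iff.mp (Nat.eq_one_of_dvd_coprimes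
      (Nat.Coprime.pow_right (a + b) (Transfer.coprime_orderOf_of_mem (Transfer.pPrimeCore_coprime p) hm))
      dvd_rfl (orderOf_dvd_of_pow_eq_one hmp))
    rw [hm1, mul_one] at hzm
    refine ⟨⟨t, (show (z : G) = t from congrArg Subtype.val hzm) ▸ hz.1⟩, ?_⟩
    rw [hg]
    show g * t * g⁻¹ = s
    rw [ht]; group

end Cfsg.Agent.S2011
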