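import Cfsg.Statements.S2012
import Cfsg.Agent.Lib.Transfer.Alperin
import Cfsg.Agent.S0116

set_option autoImplicit false
set_option linter.style.haveILetI false
set_option linter.unusedVariables false
open Cfsg

namespace Cfsg.Agent.S2012

open CfsgLib.Transfer in
/-- Alperin with `p`-element factors. -/
theorem chain_pElement {G : Type*} [Group G] [Finite G] {p : ℕ} [Fact p.Prime] (P : Sylow p G)
    {A : Set G} {g : G} (h : Chain (fun D _ => IsTameInter P D) A g) :
    Chain (fun D x => ∃ Q : Sylow p G, D = (P : Subgroup G) ⊓ (Q : Subgroup G) ∧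
      ¬ p ∣ ((P : Subgroup G) ⊓ Subgroup.normalizer (D : Set G)).relIndex
        (Subgroup.normalizer (D : Set G)) ∧
      ¬ p ∣ ((Q : Subgroup G) ⊓ Subgroup.normalizer (D : Set G)).relIndex
        (Subgroup.normalizer (D : Set G)) ∧
      ((Q : Subgroup G) = (P : Subgroup G) ∨ ∃ k : ℕ, orderOf x = p ^ k)) A g := by
  set T := fun (D : Subgroup G) (x : G) => ∃ Q : Sylow p G, D = (P : Subgroup G) ⊓ (Q : Subgroup G) ∧
      ¬ p ∣ ((P : Subgroup G) ⊓ Subgroup.normalizer (D : Set G)).relIndex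
        (Subgroup.normalizer (D : Set G)) ∧
      ¬ p ∣ ((Q : Subgroup G) ⊓ Subgroup.normalizer (D : Set G)).relIndex
        (Subgroup.normalizer (D : Set G)) ∧
      ((Q : Subgroup G) = (P : Subgroup G) ∨ ∃ k : ℕ, orderOf x = p ^ k)
  refine h.bind fun D x hD hx h3 => ?_
  clear h3
  induction hd : Nat.card (P : Subgroup G) - Nat.card D using Nat.strong_induction_on
    generalizing D x with
  | _ d IH =>
  obtain ⟨Q, hDQ, t1, t2⟩ := hD
  have hDP : D ≤ (P : Subgroup G) := hDQ ▸ inf_le_left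
  rcases hDP.eq_or_lt with rfl | hlt
  · obtain ⟨R, e, u1, -⟩ := isTameInter_self P
    exact Chain.single (P : Subgroup G) ⟨P, (inf_idem _).symm, u1, u1, Or.inl rfl⟩ hx subset_rfl
  set N := Subgroup.normalizer (D : Set G) with hN
  set S := (P : Subgroup G) ⊓ N with hS
  have hlt' : D < S := lt_inf_normalizer P.2 hlt
  have hcard : Nat.card D < Nat.card S :=
    lt_of_le_of_ne (Subgroup.card_le_of_le hlt'.le)
      (fun e => hlt'.ne (Subgroup.eq_of_le_of_card_ge hlt'.le e.ge))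
  set M := Subgroup.closure {y : N | ∃ k : ℕ, orderOf (y : G) = p ^ k} with hM
  haveI : M.Normal := by
    refine ⟨fun a ha c => ?_⟩
    have : M.map (MulAut.conj c).toMonoidHom ≤ M := by
      rw [hM, MonoidHom.map_closure]
      refine Subgroup.closure_mono ?_
      rintro _ ⟨y, ⟨k, hk⟩, rfl⟩
      exact ⟨k, by simpa [CfsgLib.Transfer.orderOf_conj] using hk⟩
    exact this ⟨a, ha, rfl⟩
  have hSN : S ≤ N := inf_le_right
  have hSp : IsPGroup p (S.subgroupOf N) :=
    (P.2.to_le inf_le_left).comap_of_injective _ N.subtype_injective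
  set S' : Sylow p N := hSp.toSylow t1 with hS'
  have hS'M : (S' : Subgroup N) ≤ M := by
    intro y hy
    obtain ⟨k, hk⟩ := IsPGroup.iff_orderOf.mp P.2 ⟨(y : G), (show (y : G) ∈ S from hy).1⟩
    exact Subgroup.subset_closure ⟨k, by rwa [← Subgroup.orderOf_coe] at hk⟩
  have hxN : (⟨x, hx⟩ : N) ∈ Subgroup.normalizer ((S' : Subgroup N) : Set N) ⊔ M := by
    exact (S'.normalizer_sup_eq_top' hS'M).ge (Subgroup.mem_top _)
  obtain ⟨m, hm, y, hy, hmy⟩ := Subgroup.mem_sup_of_normal_right.mp hxN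
  have hxeq : x = (m : G) * (y : G) := (congrArg Subtype.val hmy).symm
  have hmS : (m : G) ∈ Subgroup.normalizer (S : Set G) := by
    have h2 := Subgroup.le_normalizer_map N.subtype (Subgroup.mem_map_of_mem _ hm)
    change (m : G) ∈ Subgroup.normalizer (((S.subgroupOf N).map N.subtype : Subgroup G) : Set G) at h2
    rwa [Subgroup.map_subgroupOf_eq_of_le hSN] at h2
  have hrS : rconj (m : G) (S : Set G) ⊆ (S : Set G) := by
    rw [rconj_subset_iff, map_conj_eq_self_iff.mpr hmS]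
  have hchain1 : Chain T (D : Set G) (m : G) := by
    refine (Chain.bind (alperin_set P (fun a ha => (show a ∈ S from ha).1)
      (hrS.trans fun a ha => (show a ∈ S from ha).1)) fun D' x' h1 h2 h3 => ?_).mono
        (SetLike.coe_subset_coe.mpr hlt'.le)
    refine IH _ ?_ D' x' h1 h2 rfl
    obtain ⟨g', hg'⟩ := h3
    have h4 : Nat.card S ≤ Nat.card D' :=
      (card_rconj g' (S : Set G)).ge.trans (Nat.card_mono (Set.toFinite _) hg')
    obtain ⟨Q', e', -⟩ := h1
    have h5 : Nat.card D' ≤ Nat.card (P : Subgroup G) :=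
      Subgroup.card_le_of_le (e' ▸ inf_le_left)
    omega
  have hfix : ∀ c : N, rconj (c : G) (D : Set G) ⊆ (D : Set G) := fun c => by
    rw [rconj_subset_iff, map_conj_eq_self_iff.mpr c.2]
  have hstep : ∀ y : N, (∃ k : ℕ, orderOf (y : G) = p ^ k) → Chain T (D : Set G) (y : G) :=
    fun y hy => Chain.single D ⟨Q, hDQ, t1, t2, Or.inr hy⟩ y.2 subset_rfl
  have hchain2 : Chain T (D : Set G) (y : G) := by
    clear hmy hxeq
    rw [hM] at hy
    induction hy using Subgroup.closure_induction'' with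
    | mem a ha => exact hstep a ha
    | inv_mem a ha =>
      obtain ⟨k, hk⟩ := ha
      exact hstep _ ⟨k, by rw [Subgroup.coe_inv, orderOf_inv, hk]⟩
    | one => exact Chain.nil _
    | mul a b _ _ ha hb => exact ha.trans (hb.mono (hfix a))
  rw [hxeq]
  exact hchain1.trans (hchain2.mono (hfix m))

/-- Alperin's fusion Theorem with the factors taken to be p-elements: let P be a Sylow p-subgroup of a finite group G, A a subset of P and g an element with g⁻¹Ag ⊆ P. Then g = x_1 ⋯ x_n where, for each i, Q_i is a Sylow p-subgroup with P ∩ Q_i a tame intersection (the normalizers in P and in Q_i of P ∩ Q_i are Sylow in N_G(P ∩ Q_i)), x_i normalizes P ∩ Q_i, x_i has p-power order unless Q_i = P, A ⊆ P ∩ Q_1, and (x_1 ⋯ x_i)⁻¹ A (x_1 ⋯ x_i) lies in P ∩ Q_{i+1} for i < n. -/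
theorem result {G : Type*} [Group G] [Finite G] {p : ℕ} [Fact p.Prime] (P : Sylow p G) (A : Set G) (g : G) (hA : A ⊆ (P : Set G)) (hAg : (fun a => g⁻¹ * a * g) '' A ⊆ (P : Set G)) : ∃ (n : ℕ) (Q : Fin n → Sylow p G) (x : Fin n → G), (List.ofFn x).prod = g ∧ (∀ i : Fin n, x i ∈ Subgroup.normalizer ((((P : Subgroup G) ⊓ (Q i : Subgroup G)) : Subgroup G) : Set G) ∧ ¬ p ∣ ((P : Subgroup G) ⊓ Subgroup.normalizer ((((P : Subgroup G) ⊓ (Q i : Subgroup G)) : Subgroup G) : Set G)).relIndex (Subgroup.normalizer ((((P : Subgroup G) ⊓ (Q i : Subgroup G)) : Subgroup G) : Set G)) ∧ ¬ p ∣ ((Q i : Subgroup G) ⊓ Subgroup.normalizer ((((P : Subgroup G) ⊓ (Q i : Subgroup G)) : Subgroup G) : Set G)).relIndex (Subgroup.normalizer ((((P : Subgroup G) ⊓ (Q i : Subgroup G)) : Subgroup G) : Set G)) ∧ ((Q i : Subgroup G) = (P : Subgroup G) ∨ ∃ k : ℕ, orderOf (x i) = p ^ k)) ∧ (∀ h : 0 < n, A ⊆ (((P : Subgroup G) ⊓ (Q ⟨0, h⟩ : Subgroup G) : Subgroup G) : Set G)) ∧ ∀ i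 : Fin n, ∀ h : i.val + 1 < n, (fun a => (((List.ofFn x).take (i.val + 1)).prod)⁻¹ * a * ((List.ofFn x).take (i.val + 1)).prod) '' A ⊆ (((P : Subgroup G) ⊓ (Q ⟨i.val + 1, h⟩ : Subgroup G) : Subgroup G) : Set G) := by
  obtain ⟨n, D, x, h1, h2, h3, h4⟩ :=
    S0116.chain_seq (chain_pElement P (CfsgLib.Transfer.alperin_set P hA hAg))
  choose Q hQ using fun i => (h2 i).1
  refine ⟨n, Q, x, h1, fun i => ?_, fun h => (hQ ⟨0, h⟩).1 ▸ h3 h, fun i h => (hQ ⟨i.val + 1, h⟩).1 ▸ h4 i h⟩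
  obtain ⟨e, t1, t2, t3⟩ := hQ i
  rw [e] at t1 t2
  exact ⟨e ▸ (h2 i).2, t1, t2, t3⟩

end Cfsg.Agent.S2012
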