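import Mathlib
import Cfsg.Statements.S2014
import Cfsg.Agent.Lib.Transfer.Basic
import Cfsg.Agent.Lib.Transfer.Sylow

set_option autoImplicit false
set_option linter.style.haveILetI false
set_option linter.unusedVariables false
open Cfsg

namespace Cfsg.Agent.S2014

/-- Let P be a Sylow p-subgroup of a finite group G and A, C ≤ P subgroups conjugate in G, with C extremal: N_P(C) is a Sylow p-subgroup of N_G(C). Then there is g with gAg⁻¹ = C and g N_P(A) g⁻¹ ≤ N_P(C); moreover, given any h with hAh⁻¹ = C, g can be chosen so that h g⁻¹ lies in O^p(N_G(C)), the subgroup of N_G(C) generated by its elements of order prime to p. -/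
theorem result {G : Type*} [Group G] [Finite G] (p : ℕ) [Fact p.Prime] (P : Sylow p G) (A C : Subgroup G) (hA : A ≤ P) (hC : C ≤ P) (hext : ¬ p ∣ ((P : Subgroup G) ⊓ Subgroup.normalizer ((C : Subgroup G) : Set G)).relIndex (Subgroup.normalizer ((C : Subgroup G) : Set G))) (h : G) (hh : A.map (MulAut.conj h).toMonoidHom = C) : ∃ g : G, A.map (MulAut.conj g).toMonoidHom = C ∧ ((P : Subgroup G) ⊓ Subgroup.normalizer ((A : Subgroup G) : Set G)).map (MulAut.conj g).toMonoidHom ≤ (P : Subgroup G) ⊓ Subgroup.normalizer ((C : Subgroup G) : Set G) ∧ h * g⁻¹ ∈ (Cfsg.pResidual p ↥(Subgroup.normalizer ((C : Subgroup G) : Set G))).map (Subgroup.normalizer ((C : Subgroup G) : Set G)).subtype := by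
  set N := Subgroup.normalizer (C : Set G) with hN
  set Q := (P : Subgroup G) ⊓ N with hQ
  set Y := ((P : Subgroup G) ⊓ Subgroup.normalizer (A : Set G)).map (MulAut.conj h).toMonoidHom with hY
  have hYN : Y ≤ N := by
    rintro _ ⟨x, ⟨-, hxA⟩, rfl⟩
    change h * x * h⁻¹ ∈ N
    rw [hN, ← CfsgLib.Transfer.map_conj_eq_self_iff, ← hh, CfsgLib.Transfer.map_conj_mul,
      show h * x * h⁻¹ * h = h * x by group, ← CfsgLib.Transfer.map_conj_mul,
      CfsgLib.Transfer.map_conj_eq_self_iff.mpr hxA]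
  obtain ⟨n, hn, hnY⟩ := CfsgLib.Transfer.exists_conj_le_of_not_dvd_relIndex (inf_le_right : Q ≤ N)
    (P.2.to_le inf_le_left) hext hYN ((P.2.to_le inf_le_left).map _)
  set QS : Sylow p N := ((P.2.to_le inf_le_left).comap_of_injective _ N.subtype_injective).toSylow hext with hQS
  haveI := CfsgLib.Transfer.pResidual_normal p N
  obtain ⟨q, hq, r, hr, hqr⟩ := Subgroup.mem_sup_of_normal_right.mp
    (show (⟨n, hn⟩ : N) ∈ (QS : Subgroup N) ⊔ Cfsg.pResidual p N by
      rw [CfsgLib.Transfer.sylow_sup_pResidual]; trivial)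
  have hqQ : (q : G) ∈ Q := hq
  have hn' : (q : G) * r = n := congrArg Subtype.val hqr
  have hgC : A.map (MulAut.conj ((r : G) * h)).toMonoidHom = C := by
    rw [← CfsgLib.Transfer.map_conj_mul, hh, CfsgLib.Transfer.map_conj_eq_self_iff.mpr r.2]
  refine ⟨(r : G) * h, hgC, ?_, ⟨r⁻¹, Subgroup.inv_mem _ hr, ?_⟩⟩
  · rw [← CfsgLib.Transfer.map_conj_mul]
    rintro _ ⟨y, hy, rfl⟩
    change (r : G) * y * (r : G)⁻¹ ∈ Q
    have h1 : n * y * n⁻¹ ∈ Q := hnY ⟨y, hy, rfl⟩
    have h2 := Q.mul_mem (Q.mul_mem (Q.inv_mem hqQ) h1) hqQ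
    convert h2 using 1
    rw [← hn']
    group
  · simp

end Cfsg.Agent.S2014
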