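import Cfsg.Statements.S2015
import Cfsg.Agent.Lib.Conjugacy.KInfTransfer

set_option autoImplicit false
universe u
open Cfsg

namespace Cfsg.Agent.S2015

/-- For p ≥ 5, every finite p-group P has a characteristic subgroup K containing Z(P), depending only on P, whose normalizer controls transfer wherever P is a Sylow subgroup: for every finite group G and every embedding ι of P onto a Sylow p-subgroup of G, the intersection of ι(P) with the derived subgroup of G equals its intersection with the derived subgroup of N_G(ι(K)). -/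
theorem result (p : ℕ) [Fact p.Prime] (hp : 5 ≤ p) (P : Type u) [Group P] [Finite P] (hP : IsPGroup p P) : ∃ K : Subgroup P, K.Characteristic ∧ Subgroup.center P ≤ K ∧ ∀ (G : Type u) [Group G] [Finite G] (ι : P →* G), Function.Injective ι → (∃ T : Sylow p G, (T : Subgroup G) = ι.range) → ι.range ⊓ commutator G = ι.range ⊓ (commutator ↥(Subgroup.normalizer ((K.map ι : Subgroup G) : Set G))).map (Subgroup.normalizer ((K.map ι : Subgroup G) : Set G)).subtype := by
  refine ⟨Cfsg.kInfUpper P, ?_, CfsgLib.Conjugacy.center_le_kInf.2, fun G _ _ ι hι hT => ?_⟩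
  · exact Subgroup.characteristic_iff_map_eq.mpr fun φ => (CfsgLib.Conjugacy.kInf_equiv φ).2
  obtain ⟨T, hT⟩ := hT
  have hK : Cfsg.inducedFunctor Cfsg.kInfUpper (T : Subgroup G) = (Cfsg.kInfUpper P).map ι := by
    rw [hT, Cfsg.inducedFunctor, ← (CfsgLib.Conjugacy.kInf_equiv (MonoidHom.ofInjective hι)).2,
      Subgroup.map_map]
    rfl
  have h := CfsgLib.Conjugacy.inf_commutator_eq_of_ok (CfsgLib.Conjugacy.ok_kInfUpper hp G) T
  rw [hK, hT] at h
  rw [h, Subgroup.map_subtype_commutator]

end Cfsg.Agent.S2015
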