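import Cfsg.Statements.S2035
import Cfsg.Agent.Lib.Golay.Mult.TwelveCover

set_option autoImplicit false
open Cfsg

namespace Cfsg.Agent.S2035

open CfsgLib.Golay CfsgLib.Golay.Mult CfsgLib.Golay.Mult.Twelve CfsgLib.Golay.SylowTwo
open scoped commutatorElement

theorem cert_ok : twelveCert.ok inG = true := by decide +kernel

theorem bound {Γ : Type} [Group Γ] [Finite Γ] {σ : Γ →* ↥Cfsg.Spor.M12} (hσ : Cfsg.IsStemExtension σ) :
    Nat.card σ.ker ∣ 2 := by
  set a := lift Cfsg.Spor.M12 (twelveCert.reps.getD 0 idP)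
  set f : ℕ → ↥Cfsg.Spor.M12 := fun i => lift Cfsg.Spor.M12 (twelveFour.getD i 0)
  have E1 := eqs [twelveCert.reps.getD 0 idP, twelveCert.reps.getD 0 idP] [] (by decide +kernel)
  have E2 := eqs [twelveFour.getD 1 0, twelveFour.getD 0 0] [twelveFour.getD 0 0, twelveFour.getD 1 0]
    (by decide +kernel)
  have E3 := eqs [twelveFour.getD 2 0, twelveFour.getD 0 0] [twelveCert.reps.getD 0 idP, twelveFour.getD 2 0]
    (by decide +kernel)
  have E4 := eqs [twelveFour.getD 3 0, twelveFour.getD 1 0] [twelveCert.reps.getD 0 idP, twelveFour.getD 3 0]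
    (by decide +kernel)
  have E5 := eqs [twelveFour.getD 4 0, twelveFour.getD 0 0, twelveFour.getD 1 0]
    [twelveCert.reps.getD 0 idP, twelveFour.getD 4 0] (by decide +kernel)
  simp only [List.map_cons, List.map_nil, List.prod_cons, List.prod_nil, mul_one] at E1 E2 E3 E4 E5
  refine CfsgLib.Schur.InvolLift.card_ker_le_two (fun ℓ hℓ h2 => ?_) (a := a) (u := f 0) (v := f 1)
    (g₁ := f 2) (g₂ := f 3) (g₃ := f 4) E1 E2 E3 E4 E5 ?_ hσ
  · haveI := Fact.mk hℓ
    by_cases h3 : ℓ = 3
    · subst h3
      obtain ⟨hx, hy, hcx, hcy, hc3, hne⟩ := three_facts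
      set g := lift Cfsg.Spor.M12 (twelveThree.getD 2 0)
      set h := lift Cfsg.Spor.M12 (twelveThree.getD 3 0)
      have conj : ∀ {a b c : ↥Cfsg.Spor.M12}, a * b = c * a → a * b * a⁻¹ = c := fun e =>
        mul_inv_eq_iff_eq_mul.2 e
      have hxi : sx⁻¹ = sx * sx := inv_eq_of_mul_eq_one_right (by rw [← hx, pow_succ, pow_two, mul_assoc])
      have hyi : sy⁻¹ = sy * sy := inv_eq_of_mul_eq_one_right (by rw [← hy, pow_succ, pow_two, mul_assoc])
      set X := twelveThree.getD 0 0 with hX
      set Y := twelveThree.getD 1 0 with hY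
      set P := twelveThree.getD 2 0 with hP
      set Q := twelveThree.getD 3 0 with hQ
      have egx : g = lift Cfsg.Spor.M12 P := rfl
      have ehx : h = lift Cfsg.Spor.M12 Q := rfl
      have exx : sx = lift Cfsg.Spor.M12 X := rfl
      have exy : sy = lift Cfsg.Spor.M12 Y := rfl
      have hgx : g * sx * g⁻¹ = sx := conj (by
        simpa [egx, exx] using eqs [P, X] [X, P] (by decide +kernel))
      have hgy : g * sy * g⁻¹ = sy⁻¹ := conj (by
        rw [hyi]; simpa [egx, exy, mul_assoc] using eqs [P, Y] [Y, Y, P] (by decide +kernel))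
      have hhx : h * sx * h⁻¹ = sx⁻¹ := conj (by
        rw [hxi]; simpa [ehx, exx, mul_assoc] using eqs [Q, X] [X, X, Q] (by decide +kernel))
      have hhy : h * sy * h⁻¹ = sy := conj (by
        simpa [ehx, exy] using eqs [Q, Y] [Y, Q] (by decide +kernel))
      refine ⟨Subgroup.closure {sx, sy}, fun hi => ?_,
        fun Γ _ _ σ hσ hc z hz hzd _ => CfsgLib.Schur.preimage_commutator_inf_ker_extraThree hσ hc hx
          hy hcx hcy hne hgx hgy hhx hhy hz hzd⟩
      have := mul_dvd_mul (CfsgLib.Schur.three_pow_three_dvd_closure hx hy hcx hcy hc3 hne) hi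
      rw [Subgroup.card_mul_index, card_twelve] at this
      norm_num at this
    · refine local_of_sq_not_dvd hℓ fun hd => ?_
      rw [card_twelve] at hd
      have h1 : ℓ ∣ 2 ^ 6 * 3 ^ 3 * 5 * 11 := (dvd_pow_self ℓ two_ne_zero).trans (by simpa using hd)
      simp only [Nat.Prime.dvd_mul hℓ] at h1
      rcases h1 with ((h | h) | h) | h
      · exact h2 ((Nat.prime_dvd_prime_iff_eq hℓ Nat.prime_two).1 (hℓ.dvd_of_dvd_pow h))
      · exact h3 ((Nat.prime_dvd_prime_iff_eq hℓ Nat.prime_three).1 (hℓ.dvd_of_dvd_pow h))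
      all_goals
        have := (Nat.prime_dvd_prime_iff_eq hℓ (by norm_num)).1 h
        subst this
        norm_num at hd
  · intro E _ _ τ hτ hk hsq
    refine no_double_of_cert_base hG twelveCert cert_ok ?_ E τ hτ hk fun c hc => ?_
    · intro m hm
      rw [card_twelve, show twelveCert.T.N = 64 by decide +kernel] at hm
      omega
    · obtain rfl : c = 0 := by
        have : twelveCert.assume = 1 := by decide +kernel
        omega
      exact hsq

/-- The Schur multiplier of the Mathieu group M₁₂ (the stabiliser of a dodecad in the automorphism group of the length-24 binary code) is cyclic of order 2; here the Schur multiplier is described through stem extensions, as in the definitions: surjective homomorphisms onto the group from a finite group, whose kernel is central in that finite group and contained in that finite group's commutator subgroup. -/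
theorem result : Cfsg.HasCyclicSchurMultiplier ↥Cfsg.Spor.M12 2 := by
  haveI : Finite ↥Cfsg.Spor.M12 := inferInstance
  obtain ⟨Γ, iG, iF, σ, hσ, hk⟩ := stem
  refine ⟨⟨Γ, iG, iF, σ, hσ, ?_⟩, fun Δ _ _ τ hτ => ?_⟩
  · haveI : Fact (Nat.Prime 2) := ⟨Nat.prime_two⟩
    haveI : IsCyclic σ.ker := isCyclic_of_prime_card hk
    exact ⟨mulEquivOfCyclicCardEq (by rw [hk, Nat.card_congr Multiplicative.toAdd, Nat.card_zmod])⟩
  · have h := bound hτ
    obtain ⟨g, hg⟩ : ∃ g : τ.ker, ∀ k : τ.ker, k ∈ Subgroup.zpowers g := by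
      haveI : IsCyclic τ.ker := by
        rcases (Nat.dvd_prime Nat.prime_two).1 h with e | e
        · have : Subsingleton τ.ker := (Nat.card_eq_one_iff_unique.1 e).1
          exact isCyclic_of_subsingleton
        · haveI : Fact (Nat.Prime 2) := ⟨Nat.prime_two⟩
          exact isCyclic_of_prime_card e
      exact IsCyclic.exists_generator
    exact CfsgLib.StemExt.exists_surjective_of_zmod g hg
      (orderOf_dvd_iff_pow_eq_one.1 ((orderOf_dvd_natCard g).trans h))

end Cfsg.Agent.S2035
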