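import Cfsg.Statements.S2036
import Cfsg.Agent.Lib.M22.Mult
-- import your own Cfsg.Agent.* helpers here

set_option autoImplicit false
open Cfsg

namespace Cfsg.Agent.S2036

/-- The Schur multiplier of the Mathieu group M₂₂ (the permutations in the automorphism group of the length-24 binary code that fix each of two given points) is cyclic of order 12; here the Schur multiplier is described through stem extensions, as in the definitions: surjective homomorphisms onto the group from a finite group, whose kernel is central in that finite group and contained in that finite group's commutator subgroup. -/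
theorem result : Cfsg.HasCyclicSchurMultiplier ↥Cfsg.Spor.M22 12 := by
  have e : Cfsg.Spor.M22 = CfsgLib.Golay.fixH Cfsg.M24 CfsgLib.Golay.F22 := by
    have e0 : CfsgLib.Golay.pt 23 = (none : Cfsg.GolayPt) := by decide +kernel
    have e1 : CfsgLib.Golay.pt 0 = (some 0 : Cfsg.GolayPt) := by decide +kernel
    ext g
    rw [CfsgLib.Golay.mem_fix22_iff, e0, e1]
    exact ⟨fun h => ⟨h.1.1, h.1.2, h.2⟩, fun h => ⟨⟨h.1, h.2.1⟩, h.2.2⟩⟩
  rw [e]
  exact CfsgLib.M22.multiplier_fix22


end Cfsg.Agent.S2036
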