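import Cfsg.Statements.S2037
import Cfsg.Agent.Lib.Golay.Mult.M23Data
import Cfsg.Agent.Lib.Golay.Mult.Odd
import Cfsg.Agent.Lib.Golay.MathieuFacts

set_option autoImplicit false
open Cfsg

namespace Cfsg.Agent.S2037

open CfsgLib.Golay CfsgLib.Golay.Mult CfsgLib.Golay.SylowTwo

/-- membership test -/
def inG (P : ℕ) : Bool := inM24 P && fixes P (2 ^ 23)

theorem hG : ∀ P, inG P = true → validP P = true ∧ toPerm P ∈ Cfsg.Spor.M23 := by
  intro P h
  simp only [inG, inM24, Bool.and_eq_true] at h
  refine ⟨h.1.1, Subgroup.mem_inf.2 ⟨toPerm_mem_M24 (by simp only [inM24, Bool.and_eq_true]; exact h.1),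
    MulAction.mem_stabilizer_iff.2 ?_⟩⟩
  exact fixes_apply h.1.1 h.2 (p := none) (by rw [mem_dec]; decide +kernel)

theorem hcard : Nat.card Cfsg.Spor.M23 = 10200960 := by
  rw [← Nat.card_congr (conjEquiv (K := Cfsg.Spor.M23) inf_le_left
    (MulAction.stabilizer M24 (none : GolayPt)) (one_mem M24) fun x => by
      simp only [inv_one, one_mul, mul_one, Subgroup.mem_inf, Cfsg.Spor.M23,
        MulAction.mem_stabilizer_iff, SetLike.coe_mem, true_and]
      rfl).toEquiv, natCard_stab_point]

/-- an element of order three -/
def PX : ℕ := 983481524292047899491086707109332490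
/-- an element of order three centralising the first -/
def PY : ℕ := 974087651512234256701555561493300754
/-- an involution inverting the first and centralising the second -/
def PH : ℕ := 982224611155749253793622207162173776

/-- The Schur multiplier of the Mathieu group M₂₃ (the stabiliser of a point in the automorphism group of the length-24 binary code) is trivial; here the Schur multiplier is described through stem extensions, as in the definitions: surjective homomorphisms onto the group from a finite group, whose kernel is central in that finite group and contained in that finite group's commutator subgroup. -/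
theorem result : Cfsg.HasCyclicSchurMultiplier ↥Cfsg.Spor.M23 1 := by
  refine CfsgLib.Schur.InvolLift.trivial_multiplier_of_local_two (fun ℓ hℓ h2 => ?_) ?_
  · haveI := Fact.mk hℓ
    by_cases h3 : ℓ = 3
    · subst h3
      have hin : inG PX = true ∧ inG PY = true ∧ inG PH = true := by decide +kernel
      set x := lift Cfsg.Spor.M23 PX
      set y := lift Cfsg.Spor.M23 PY
      set t := lift Cfsg.Spor.M23 PH
      have hx : x ^ 3 = 1 := by
        have h := prod_lift_eq hG (l := [PX, PX, PX]) (r := []) (by decide +kernel)
        simpa [pow_succ, mul_assoc] using h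
      have hy : y ^ 3 = 1 := by
        have h := prod_lift_eq hG (l := [PY, PY, PY]) (r := []) (by decide +kernel)
        simpa [pow_succ, mul_assoc] using h
      have hx1 : x ≠ 1 := by
        have h := prod_lift_ne hG (l := [PX]) (r := []) (by decide +kernel) rfl (by decide +kernel)
        simpa using h
      have hy1 : y ≠ 1 := by
        have h := prod_lift_ne hG (l := [PY]) (r := []) (by decide +kernel) rfl (by decide +kernel)
        simpa using h
      have hxy : x * y = y * x := by
        have h := prod_lift_eq hG (l := [PX, PY]) (r := [PY, PX]) (by decide +kernel)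
        simpa using h
      have htx : t * x * t⁻¹ = x⁻¹ := by
        have h := prod_lift_eq hG (l := [PX, PH, PX]) (r := [PH]) (by decide +kernel)
        simp only [List.map_cons, List.map_nil, List.prod_cons, List.prod_nil, mul_one] at h
        rw [mul_inv_eq_iff_eq_mul, eq_inv_mul_iff_mul_eq]
        exact h
      have hty : t * y * t⁻¹ = y := by
        have h := prod_lift_eq hG (l := [PH, PY]) (r := [PY, PH]) (by decide +kernel)
        simp only [List.map_cons, List.map_nil, List.prod_cons, List.prod_nil, mul_one] at h
        rw [mul_inv_eq_iff_eq_mul]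
        exact h
      have hnot : y ∉ Subgroup.zpowers x := fun h => by
        obtain ⟨i, hi⟩ := Subgroup.mem_zpowers_iff.mp h
        have e : y = y⁻¹ := by
          conv_lhs => rw [← hty, ← hi, ← conj_zpow, htx, inv_zpow, hi]
        have h2y : y ^ 2 = 1 := by rw [sq]; nth_rw 2 [e]; exact mul_inv_cancel y
        exact hy1 (by rwa [pow_succ, h2y, one_mul] at hy)
      have hd := CfsgLib.Schur.pow_succ_dvd_card_closure_pair (p := 3) (k := 1)
        (by rw [pow_one]; exact orderOf_eq_prime hx hx1) hy
        (by rw [← hxy, mul_inv_cancel_right]; exact Subgroup.mem_zpowers x) hnot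
      refine ⟨Subgroup.closure {x, y}, fun hi => ?_, fun Γ _ _ σ hσ hc z hz hzd _ => ?_⟩
      · have := mul_dvd_mul hd hi
        rw [Subgroup.card_mul_index, hcard] at this
        norm_num at this
      · rw [CfsgLib.Schur.preimage_commutator_nine hσ hc hx hxy htx hty] at hzd
        exact Subgroup.mem_bot.mp hzd
    · refine local_of_sq_not_dvd hℓ fun hd => ?_
      rw [hcard] at hd
      have hle : ℓ ^ 2 ≤ 10200960 := Nat.le_of_dvd (by norm_num) hd
      have h1 : ℓ ∣ 2 ^ 7 * 3 ^ 2 * 5 * 7 * 11 * 23 := (dvd_pow_self ℓ two_ne_zero).trans (by simpa using hd)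
      simp only [Nat.Prime.dvd_mul hℓ] at h1
      rcases h1 with ((((h | h) | h) | h) | h) | h
      · exact h2 ((Nat.prime_dvd_prime_iff_eq hℓ Nat.prime_two).1 (hℓ.dvd_of_dvd_pow h))
      · exact h3 ((Nat.prime_dvd_prime_iff_eq hℓ Nat.prime_three).1 (hℓ.dvd_of_dvd_pow h))
      all_goals
        have := (Nat.prime_dvd_prime_iff_eq hℓ (by norm_num)).1 h
        subst this
        norm_num at hd
  · intro E _ _ τ hτ hk
    refine no_double_of_cert hG twentyThreeCert (by decide +kernel) ?_ E τ hτ hk
    intro m hm
    rw [hcard, show twentyThreeCert.T.N = 384 from rfl] at hm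
    omega

end Cfsg.Agent.S2037
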