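import Cfsg.Statements.S2043
import Cfsg.Agent.Lib.Leech.MultOne.Mono
import Cfsg.Agent.Lib.Leech.MultOne.Odd
import Cfsg.Agent.Lib.Schur.CyclicBound

set_option autoImplicit false
set_option linter.style.haveILetI false
open Cfsg

namespace Cfsg.Agent.S2043

open CfsgLib.Leech CfsgLib.Leech.MultOne CfsgLib.Schur Cfsg.Spor
open scoped commutatorElement

theorem commutator_Co1 : commutator Co1 = ⊤ := by
  haveI := isSimpleGroup_Co1
  refine (this.eq_bot_or_eq_top_of_normal (commutator Co1) inferInstance).resolve_left fun h => ?_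
  have hc : ∀ a b : Co1, a * b = b * a := fun a b => by
    have hm : ⁅a, b⁆ ∈ commutator Co1 := by
      rw [commutator_def]; exact Subgroup.commutator_mem_commutator trivial trivial
    rw [h, Subgroup.mem_bot, commutatorElement_eq_one_iff_mul_comm] at hm
    exact hm
  letI : CommGroup Co1 := { (inferInstance : Group Co1) with mul_comm := hc }
  haveI := finite_Co1
  have hp : (Nat.card Co1).Prime := IsSimpleGroup.prime_card
  rw [natCard_Co1] at hp
  exact Nat.not_prime_of_dvd_of_ne (m := 2) (by norm_num) (by norm_num) (by norm_num) hp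

theorem commutator_Co0 : commutator ↥Co0 = ⊤ := by
  haveI := finite_Co0
  set π := QuotientGroup.mk' (Subgroup.center ↥Co0)
  set D := commutator ↥Co0 with hD
  have hmap : D.map π = ⊤ := by
    rw [hD, commutator_def, Subgroup.map_commutator,
      Subgroup.map_top_of_surjective _ (QuotientGroup.mk'_surjective _), ← commutator_def]
    exact commutator_Co1
  have hsup : D ⊔ Subgroup.center ↥Co0 = ⊤ := by
    have h := congrArg (Subgroup.comap π) hmap
    rwa [Subgroup.comap_map_eq, QuotientGroup.ker_mk', Subgroup.comap_top] at h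
  have hz : Subgroup.zpowers negAut = Subgroup.center ↥Co0 := by
    refine le_antisymm (Subgroup.zpowers_le.2 negAut_mem_center) fun x hx => ?_
    rw [← SetLike.mem_coe, center_eq] at hx
    rcases hx with rfl | rfl
    · exact one_mem _
    · exact Subgroup.mem_zpowers _
  have hneg : negAut ∈ D := by
    by_contra hn
    refine nonsplit_negation D (Subgroup.isComplement'_of_disjoint_and_mul_eq_univ ?_ ?_)
    · rw [hz, disjoint_iff, eq_bot_iff]
      intro x hx
      obtain ⟨hxZ, hxD⟩ := Subgroup.mem_inf.1 hx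
      rw [← SetLike.mem_coe, center_eq] at hxZ
      rcases hxZ with rfl | rfl
      · exact Subgroup.mem_bot.2 rfl
      · exact absurd hxD hn
    · rw [hz, ← Subgroup.normal_mul, sup_comm, hsup]
      rfl
  rw [← hsup, eq_comm]
  exact sup_eq_left.2 (hz ▸ Subgroup.zpowers_le.2 hneg)

theorem perfect_of_stem {E : Type} [Group E] {τ : E →* ↥Co0} (hτ : IsStemExtension τ) :
    commutator E = ⊤ := by
  have hmap : (commutator E).map τ = ⊤ := by
    rw [commutator_def, Subgroup.map_commutator, Subgroup.map_top_of_surjective _ hτ.1,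
      ← commutator_def, commutator_Co0]
  have h := congrArg (Subgroup.comap τ) hmap
  rwa [Subgroup.comap_map_eq, sup_eq_left.2 hτ.2.2, Subgroup.comap_top] at h

theorem multiplier_Co0 : HasCyclicSchurMultiplier ↥Co0 1 := by
  haveI := finite_Co0
  refine trivial_multiplier_of_prime fun ℓ hℓ E _ _ τ hτ hk => ?_
  by_cases h2 : ℓ = 2
  · exact no_double_Co0 E τ hτ (h2 ▸ hk)
  set σ : E →* Co1 := (QuotientGroup.mk' (Subgroup.center ↥Co0)).comp τ with hσ
  have hcomm := perfect_of_stem hτ
  have kc : ∀ {z : E}, z ∈ τ.ker → ∀ u, u * z = z * u := fun hz u =>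
    Subgroup.mem_center_iff.1 (hτ.2.1 hz) u
  have hstem : IsStemExtension σ := by
    refine ⟨(QuotientGroup.mk'_surjective _).comp hτ.1, fun x hx => ?_, hcomm ▸ le_top⟩
    have hx' : τ x ∈ Subgroup.center ↥Co0 := (QuotientGroup.eq_one_iff _).1 hx
    have hk' : ∀ e, ⁅x, e⁆ ∈ τ.ker := fun e => by
      rw [MonoidHom.mem_ker, map_commutatorElement, commutatorElement_eq_one_iff_mul_comm]
      exact (Subgroup.mem_center_iff.1 hx' _).symm
    let φ : E →* τ.ker := MonoidHom.mk' (fun e => ⟨⁅x, e⁆, hk' e⟩) fun u v => Subtype.ext (by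
      show ⁅x, u * v⁆ = ⁅x, u⁆ * ⁅x, v⁆
      rw [show ⁅x, u * v⁆ = ⁅x, u⁆ * (u * ⁅x, v⁆ * u⁻¹) by simp only [commutatorElement_def]; group,
        kc (hk' v) u, mul_inv_cancel_right])
    have hle : commutator E ≤ φ.ker := by
      rw [commutator_def, Subgroup.commutator_le]
      intro u _ v _
      rw [MonoidHom.mem_ker, map_commutatorElement, commutatorElement_eq_one_iff_mul_comm]
      exact Subtype.ext (kc (φ v).2 _)
    rw [hcomm] at hle
    refine Subgroup.mem_center_iff.2 fun e => ?_
    have he : ⁅x, e⁆ = 1 := congrArg Subtype.val (hle (Subgroup.mem_top e))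
    exact (commutatorElement_eq_one_iff_mul_comm.1 he).symm
  have hdvd : ℓ ∣ Nat.card σ.ker := by
    rw [← hk]
    exact Subgroup.card_dvd_of_le fun x hx => by
      rw [MonoidHom.mem_ker, hσ, MonoidHom.comp_apply, MonoidHom.mem_ker.1 hx, map_one]
  obtain ⟨E', _, _, τ', hτ', hk'⟩ := InvolLift.exists_stem_ker_prime hstem hℓ hdvd
  exact no_stem_odd hℓ h2 E' τ' hτ' hk'

theorem cover_bound (Γ : Type) [Group Γ] [Finite Γ] (σ : Γ →* Co1) (hσ : IsStemExtension σ) :
    ∃ π : Multiplicative (ZMod 2) →* σ.ker, Function.Surjective π := by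
  haveI := finite_Co0
  set π := QuotientGroup.mk' (Subgroup.center ↥Co0)
  let P : Subgroup (↥Co0 × Γ) :=
    MonoidHom.eqLocus (π.comp (MonoidHom.fst _ _)) (σ.comp (MonoidHom.snd _ _))
  let p : P →* ↥Co0 := (MonoidHom.fst _ _).comp P.subtype
  let q : P →* Γ := (MonoidHom.snd _ _).comp P.subtype
  let P' : Subgroup P := commutator P
  let p' : P' →* ↥Co0 := p.comp P'.subtype
  let q' : P' →* Γ := q.comp P'.subtype
  have hpq : ∀ x : P, π (p x) = σ (q x) := fun x => x.2
  have hps : Function.Surjective p := fun g => by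
    obtain ⟨γ, hγ⟩ := hσ.1 (π g)
    exact ⟨⟨(g, γ), hγ.symm⟩, rfl⟩
  have hpk : p.ker ≤ Subgroup.center P := fun x hx => by
    have hx' : p x = 1 := hx
    have hq : q x ∈ σ.ker := by rw [MonoidHom.mem_ker, ← hpq, hx', map_one]
    refine Subgroup.mem_center_iff.2 fun y => Subtype.ext (Prod.ext ?_ ?_)
    · show p y * p x = p x * p y
      rw [hx', mul_one, one_mul]
    · exact Subgroup.mem_center_iff.1 (hσ.2.1 hq) _
  have hmap : (commutator P).map p = ⊤ := by
    rw [commutator_def, Subgroup.map_commutator, Subgroup.map_top_of_surjective _ hps,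
      ← commutator_def, commutator_Co0]
  have hp's : Function.Surjective p' := fun g => by
    obtain ⟨x, hx, rfl⟩ := hmap.ge (Subgroup.mem_top g)
    exact ⟨⟨x, hx⟩, rfl⟩
  have hperf : commutator P' = ⊤ := by
    have hle : P' ≤ (commutator P').map P'.subtype := by
      rw [commutator_def, Subgroup.map_commutator, ← MonoidHom.range_eq_map, Subgroup.range_subtype]
      show commutator P ≤ ⁅P', P'⁆
      rw [commutator_def, Subgroup.commutator_le]
      intro a _ b _
      obtain ⟨a', ha, ha'⟩ := hmap.ge (Subgroup.mem_top (p a))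
      obtain ⟨b', hb, hb'⟩ := hmap.ge (Subgroup.mem_top (p b))
      rw [commutatorElement_congr p hpk ha'.symm hb'.symm]
      exact Subgroup.commutator_mem_commutator ha hb
    rw [eq_top_iff]
    intro x _
    obtain ⟨y, hy, hyx⟩ := hle x.2
    exact Subtype.ext hyx ▸ hy
  have hp'k : p'.ker ≤ Subgroup.center P' := fun x hx => Subgroup.mem_center_iff.2 fun y =>
    Subtype.ext (Subgroup.mem_center_iff.1 (hpk (x := (x : P)) hx) _)
  obtain ⟨ρ, hρ⟩ := multiplier_Co0.2 P' p' ⟨hp's, hp'k, hperf ▸ le_top⟩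
  have hinj : ∀ x : P', p' x = 1 → x = 1 := fun x hx => by
    obtain ⟨a, ha⟩ := hρ ⟨x, hx⟩
    rw [Subsingleton.elim a 1, map_one] at ha
    exact congrArg Subtype.val ha.symm
  have hgen : ∀ g : Γ, ∃ x : P', σ g = σ (q' x) := fun g => by
    obtain ⟨y, hy⟩ := QuotientGroup.mk'_surjective (Subgroup.center ↥Co0) (σ g)
    obtain ⟨x, hx⟩ := hp's y
    exact ⟨x, by rw [show σ (q' x) = π (p' x) from (hpq x).symm, hx]; exact hy.symm⟩
  have hq's : Function.Surjective q' := by
    have hder : commutator Γ ≤ q'.range := by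
      rw [commutator_def, Subgroup.commutator_le]
      intro a _ b _
      obtain ⟨x, hx⟩ := hgen a
      obtain ⟨y, hy⟩ := hgen b
      rw [commutatorElement_congr σ hσ.2.1 hx hy, ← map_commutatorElement]
      exact ⟨_, rfl⟩
    intro g
    obtain ⟨x, hx⟩ := hgen g
    have hk : g⁻¹ * q' x ∈ σ.ker := by rw [MonoidHom.mem_ker, map_mul, map_inv, hx, inv_mul_cancel]
    obtain ⟨y, hy⟩ := hder (hσ.2.2 hk)
    refine ⟨x * y⁻¹, ?_⟩
    rw [map_mul, map_inv, hy, mul_inv_rev, inv_inv, mul_inv_cancel_left]
  obtain ⟨z, hz⟩ := hp's negAut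
  have hzker : q' z ∈ σ.ker := by
    rw [MonoidHom.mem_ker, show σ (q' z) = π (p' z) from (hpq z).symm, hz]
    exact (QuotientGroup.eq_one_iff _).2 negAut_mem_center
  have hz2 : z ^ 2 = 1 := hinj _ (by
    have h : negAut ^ 2 = (1 : ↥Co0) := by
      refine aut_ext fun v => ?_
      rw [sq, mul_smul, negAut_smul, negAut_smul, neg_neg, one_smul]
    rw [map_pow, hz, h])
  refine CyclicBound.exists_surjection hzker (by rw [← map_pow, hz2, map_one]) fun g hg => ?_
  obtain ⟨x, rfl⟩ := hq's g
  have h : p' x ∈ (Subgroup.center ↥Co0 : Set ↥Co0) :=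
    (QuotientGroup.eq_one_iff _).1 ((hpq x).trans hg)
  rw [center_eq] at h
  rcases h with h | h
  · rw [hinj x h, map_one]; exact one_mem _
  · have e : x = z := inv_mul_eq_one.1 (hinj (x⁻¹ * z) (by
      rw [map_mul, map_inv, hz, show p' x = negAut from h, inv_mul_cancel]))
    rw [e]; exact Subgroup.mem_zpowers _

/-- The Schur multiplier of the Conway group Co₁ (the automorphism group of the rank-24 lattice modulo its centre) is cyclic of order 2; here the Schur multiplier is described through stem extensions, as in the definitions: surjective homomorphisms onto the group from a finite group, whose kernel is central in that finite group and contained in that finite group's commutator subgroup. -/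
theorem result : Cfsg.HasCyclicSchurMultiplier Cfsg.Spor.Co1 2 := by
  haveI := finite_Co0
  refine ⟨⟨↥Co0, inferInstance, inferInstance, QuotientGroup.mk' (Subgroup.center ↥Co0),
    ⟨QuotientGroup.mk'_surjective _, (QuotientGroup.ker_mk' _).le, commutator_Co0 ▸ le_top⟩, ?_⟩,
    fun Γ _ _ σ hσ => cover_bound Γ σ hσ⟩
  haveI : Fact (Nat.Prime 2) := ⟨Nat.prime_two⟩
  refine ⟨mulEquivOfPrimeCardEq (p := 2) ?_ ?_⟩
  · rw [QuotientGroup.ker_mk', natCard_center]
  · rw [Nat.card_congr Multiplicative.toAdd, Nat.card_zmod]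

end Cfsg.Agent.S2043
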