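import Cfsg.Statements.S2045
import Cfsg.Agent.Lib.Leech.Mult.ThreeChecks
import Cfsg.Agent.Lib.Leech.Mult.ThreePoints
import Cfsg.Agent.Lib.Golay.Mult.Odd
import Cfsg.Agent.Lib.Schur.Suzuki

set_option autoImplicit false
set_option linter.style.haveILetI false
open Cfsg

namespace Cfsg.Agent.S2045

open CfsgLib.Golay CfsgLib.Leech CfsgLib.Leech.Mult CfsgLib.Schur Cfsg.Spor

attribute [local irreducible] dL bL key keyL coord packB linL bits stabOK

theorem hne : vec threeV ≠ 0 := by
  intro h
  have := congrFun h none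
  revert this
  decide +kernel

theorem sqNorm_threeV : sqNorm (vec threeV) = 48 := by
  rw [sqNorm_vec (inL_length threeV_inL)]
  decide +kernel

/-- the elements of the certificates -/
noncomputable def elt (i : ℕ) : ↥(stabL threeV_inL) := stabElt threeV_inL (threeMats.getD i [])

theorem rep_elt (i : ℕ) : Rep threeV_inL (elt i) (threeCols.getD i pow2L) := by
  rcases lt_or_ge i threeMats.length with hi | hi
  · have h' := threeElts_len.1 ▸ hi
    have h := List.all_eq_true.1 threeElts_ok (threeMats[i], threeCols[i]) (List.mem_iff_getElem.2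
      ⟨i, by rw [List.length_zip]; exact lt_min hi h', List.getElem_zip⟩)
    simp only [eltOK, Bool.and_eq_true, beq_iff_eq] at h
    rw [elt, List.getD_eq_getElem _ _ hi, List.getD_eq_getElem _ _ h', ← h.2]
    exact rep_stabElt threeV_inL h.1
  · rw [elt, List.getD_eq_default _ _ hi, List.getD_eq_default _ _ (threeElts_len.1 ▸ hi),
      stabElt, dif_neg (by decide +kernel)]
    exact rep_one threeV_inL

theorem hcard : Nat.card ↥(stabL threeV_inL) = 495766656000 := natCard_stab48 sqNorm_threeV

/-- no stem extension of the stabilizer has a kernel of prime order -/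
theorem no_stem (ℓ : ℕ) (hℓ : ℓ.Prime) (E : Type) [Group E] [Finite E] (τ : E →* ↥(stabL threeV_inL))
    (hτ : Cfsg.IsStemExtension τ) (hk : Nat.card τ.ker = ℓ) : False := by
  haveI : Finite ↥(stabL threeV_inL) := Nat.finite_of_card_ne_zero (by rw [hcard]; norm_num)
  by_cases h2 : ℓ = 2
  · subst h2
    refine no_double_of_two threeV_inL hne threeTwo threeTab_ok threeClasses_ok threePoints_ok elt
      rep_elt ?_ E τ hτ hk
    intro m hm
    rw [hcard, show threeTwo.T.N = 1024 from rfl] at hm
    omega
  by_cases h3 : ℓ = 3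
  · subst h3
    obtain ⟨hA, hB, hact, hsB⟩ := three3_ok
    exact no_stem_of_odd threeV_inL hne threeOdd3 hℓ h2 hA hB hact three3_size hsB elt rep_elt
      (by rw [hcard]; decide +kernel) E τ hτ hk
  by_cases h5 : ℓ = 5
  · subst h5
    obtain ⟨hA, hB, hact, hsA, hsB⟩ := three5_ok
    exact no_stem_of_odd threeV_inL hne threeOdd5 hℓ h2 hA hB hact hsA hsB elt rep_elt
      (by rw [hcard]; decide +kernel) E τ hτ hk
  have hsq : ¬ ℓ ^ 2 ∣ Nat.card ↥(stabL threeV_inL) := by
    rw [hcard]
    intro hd
    have h1 : ℓ ∣ 2 ^ 10 * 3 ^ 7 * 5 ^ 3 * 7 * 11 * 23 := (dvd_pow_self ℓ two_ne_zero).trans (by simpa using hd)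
    simp only [Nat.Prime.dvd_mul hℓ] at h1
    rcases h1 with ((((h | h) | h) | h) | h) | h
    · exact h2 ((Nat.prime_dvd_prime_iff_eq hℓ Nat.prime_two).1 (hℓ.dvd_of_dvd_pow h))
    · exact h3 ((Nat.prime_dvd_prime_iff_eq hℓ Nat.prime_three).1 (hℓ.dvd_of_dvd_pow h))
    · exact h5 ((Nat.prime_dvd_prime_iff_eq hℓ Nat.prime_five).1 (hℓ.dvd_of_dvd_pow h))
    all_goals
      have := (Nat.prime_dvd_prime_iff_eq hℓ (by norm_num)).1 h
      subst this
      norm_num at hd
  obtain ⟨U, hU, hUc⟩ := CfsgLib.Golay.Mult.local_of_sq_not_dvd hℓ hsq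
  exact no_stem_of_local hℓ hτ hk U hU fun z hz hzd hzo => hUc E τ hτ.1 hτ.2.1 z hz hzd hzo

theorem multiplier_stab : Cfsg.HasCyclicSchurMultiplier ↥(stabL threeV_inL) 1 := by
  haveI : Finite ↥(stabL threeV_inL) := Nat.finite_of_card_ne_zero (by rw [hcard]; norm_num)
  exact trivial_multiplier_of_prime fun ℓ hℓ E _ _ τ hτ hk => no_stem ℓ hℓ E τ hτ hk

theorem sqNorm_leechV : sqNorm (leechV : GolayPt → ℤ) = 48 := by
  simp [leechV, vecV, sqNorm, Fintype.sum_option]

/-- The group is the stabilizer of a vector. -/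
theorem exists_equiv : Nonempty (↥(stabL threeV_inL) ≃* ↥Cfsg.Spor.Co3) := by
  obtain ⟨g, hg⟩ := transitive_small (t := 2) (by norm_num) (v := ⟨vec threeV, vec_mem threeV_inL⟩)
    (w := leechV) sqNorm_threeV sqNorm_leechV
  refine ⟨(MulAction.stabilizerEquivStabilizer hg.symm).trans ?_⟩
  refine {
    toFun := fun x => ⟨(x : ↥Co0).1, x.1.2, MulAction.mem_stabilizer_iff.2 x.2⟩
    invFun := fun y => ⟨⟨y.1, y.2.1⟩, MulAction.mem_stabilizer_iff.2 (MulAction.mem_stabilizer_iff.1 y.2.2)⟩
    left_inv := fun _ => rfl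
    right_inv := fun _ => rfl
    map_mul' := fun _ _ => rfl }

/-- The Schur multiplier of the Conway group Co₃ (the stabiliser of a vector of the second shortest length in the rank-24 lattice) is trivial; here the Schur multiplier is described through stem extensions, as in the definitions: surjective homomorphisms onto the group from a finite group, whose kernel is central in that finite group and contained in that finite group's commutator subgroup. -/
theorem result : Cfsg.HasCyclicSchurMultiplier ↥Cfsg.Spor.Co3 1 := by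
  haveI : Finite ↥(stabL threeV_inL) := Nat.finite_of_card_ne_zero (by rw [hcard]; norm_num)
  exact trivial_multiplier_congr exists_equiv.some multiplier_stab

end Cfsg.Agent.S2045
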