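import Cfsg.Statements.S2061
import Cfsg.Agent.Lib.Golay.AutTwo

set_option autoImplicit false
open Cfsg

namespace Cfsg.Agent.S2061

open scoped Pointwise

/-- The outer automorphism group of the Mathieu group M₁₂ (the stabiliser of a dodecad in the automorphism group of the length-24 binary code) has order 2. -/
theorem result : Nat.card (Cfsg.Out ↥Cfsg.Spor.M12) = 2 := by
  have hd : CfsgLib.Golay.dec 340831 ∈ Cfsg.dodecads :=
    ⟨⟨CfsgLib.Golay.wd 340831, CfsgLib.Golay.wd_mem_of_inC (by decide +kernel), CfsgLib.Golay.support_wd _⟩, by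
      rw [CfsgLib.Golay.card_dec_eq_pop]; decide +kernel⟩
  have hsq : Cfsg.Spor.squareDodecad = CfsgLib.Golay.dec 340831 := by
    rw [Cfsg.Spor.squareDodecad, CfsgLib.Golay.qrWord_eq, CfsgLib.Golay.support_wd]
    rfl
  obtain ⟨e⟩ := CfsgLib.Golay.nonempty_equiv12 hd
  rw [← CfsgLib.Golay.AutTwo.out12, ← CfsgLib.Golay.AutTwo.out_congr e]
  refine CfsgLib.Golay.AutTwo.out_congr ?_
  refine (CfsgLib.Golay.conjEquiv (K := Cfsg.Spor.M12) inf_le_left
    (MulAction.stabilizer Cfsg.M24 (CfsgLib.Golay.dec 340831)) (one_mem Cfsg.M24) fun x => ?_).symm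
  simp only [inv_one, one_mul, mul_one, Cfsg.Spor.M12, Subgroup.mem_inf, SetLike.coe_mem, true_and,
    MulAction.mem_stabilizer_iff, hsq]
  rfl

end Cfsg.Agent.S2061
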