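import Cfsg.Statements.S2063
import Cfsg.Agent.Lib.Golay.Aut

set_option autoImplicit false
open Cfsg

namespace Cfsg.Agent.S2063

/-- The outer automorphism group of the Mathieu group M₂₃ (the stabiliser of a point in the automorphism group of the length-24 binary code) is trivial: every automorphism is inner. -/
theorem result : Nat.card (Cfsg.Out ↥Cfsg.Spor.M23) = 1 := by
  have h := CfsgLib.Golay.Aut.out23
  have e : Cfsg.Spor.M23 = CfsgLib.Golay.fixH Cfsg.M24 CfsgLib.Golay.F23 := by
    have e0 : CfsgLib.Golay.pt 23 = (none : Cfsg.GolayPt) := by decide +kernel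
    ext g
    rw [CfsgLib.Golay.mem_fix23_iff, e0]
    rfl
  rwa [← e] at h

end Cfsg.Agent.S2063
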