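import Cfsg.Statements.S2070
import Cfsg.Agent.Lib.Leech.OutStab.TwoChecks
import Cfsg.Agent.Lib.Leech.StabSimple
-- import your own Cfsg.Agent.* helpers here

set_option autoImplicit false
open Cfsg

namespace Cfsg.Agent.S2070

open CfsgLib.Golay CfsgLib.Leech CfsgLib.Leech.Mult CfsgLib.Leech.OutStab CfsgLib.Golay.AutTwo Cfsg.Spor

attribute [local irreducible] dL bL key keyL coord packB linL bits stabOK twoCert

theorem cert32V_inL : inL cert32V = true := by decide +kernel

theorem sqNorm_twoV : sqNorm (vec cert32V) = 32 := by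
  rw [sqNorm_vec (inL_length cert32V_inL)]
  decide +kernel

theorem sqNorm_leechU : sqNorm (leechU : GolayPt → ℤ) = 32 := by
  show sqNorm vecU = 32
  decide +kernel

/-- The group is the stabilizer of a vector. -/
theorem exists_equiv : Nonempty (↥(stabL cert32V_inL) ≃* ↥Cfsg.Spor.Co2) := by
  obtain ⟨g, hg⟩ := transitive_small (t := 1) (by norm_num) (v := ⟨vec cert32V, vec_mem cert32V_inL⟩)
    (w := leechU) sqNorm_twoV sqNorm_leechU
  refine ⟨(MulAction.stabilizerEquivStabilizer hg.symm).trans ?_⟩
  refine {
    toFun := fun x => ⟨(x : ↥Co0).1, x.1.2, MulAction.mem_stabilizer_iff.2 x.2⟩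
    invFun := fun y => ⟨⟨y.1, y.2.1⟩, MulAction.mem_stabilizer_iff.2 (MulAction.mem_stabilizer_iff.1 y.2.2)⟩
    left_inv := fun _ => rfl
    right_inv := fun _ => rfl
    map_mul' := fun _ _ => rfl }

/-- The outer automorphism group of the Conway group Co₂ (the stabiliser of a minimal vector of the rank-24 lattice) is trivial: every automorphism is inner. -/
theorem result : Nat.card (Cfsg.Out ↥Cfsg.Spor.Co2) = 1 := by
  obtain ⟨e⟩ := exists_equiv
  rw [← out_congr e]
  have hcard : Nat.card ↥(stabL cert32V_inL) = 23 * 1839366144000 :=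
    (natCard_stab32 sqNorm_twoV).trans (by norm_num)
  exact card_out_eq_one_of_inv cert32V_inL twoCert two_elts two_fixed two_inv hcard (by norm_num) two_prog
    two_levs (by rw [two_bound]) two_words

end Cfsg.Agent.S2070
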