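import Cfsg.Statements.S2087
import Cfsg.Agent.Lib.Schur.SLThreeTwoCover
import Cfsg.Agent.Lib.Schur.DihedralEight
-- import your own Cfsg.Agent.* helpers here

set_option autoImplicit false
open Cfsg

namespace Cfsg.Agent.S2087

open CfsgLib.OrderType CfsgLib.Schur.Cover168
open scoped commutatorElement

theorem card_SL32 : Nat.card SL32 = 168 := by
  rw [← Nat.card_congr (Equiv.subtypeUnivEquiv (p := fun g : SL32 => g ^ 0 = 1) fun g => pow_zero g)]
  show numRoots SL32 0 = 168
  rw [numRoots_SL32]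
  decide +kernel

/-- an element of order four -/
def ea : SL32 := ⟨!![1, 1, 0; 0, 1, 1; 0, 0, 1], by decide⟩
/-- an involution inverting it -/
def eb : SL32 := ⟨!![1, 1, 0; 0, 1, 0; 0, 0, 1], by decide⟩

/-- the upper bound -/
theorem bound {Δ : Type*} [Group Δ] [Finite Δ] (σ : Δ →* SL32) (hσ : Cfsg.IsStemExtension σ) :
    ∃ g : σ.ker, g ^ 2 = 1 ∧ ∀ k : σ.ker, k ∈ Subgroup.zpowers g := by
  obtain ⟨hs, hc, hd⟩ := hσ
  have ha : orderOf ea = 2 ^ 2 :=
    orderOf_eq_prime_pow (p := 2) (n := 1) (by decide +kernel) (by decide +kernel)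
  have hb : eb * eb = 1 := by decide +kernel
  have hab : eb * ea * eb⁻¹ = ea⁻¹ := by
    rw [mul_inv_eq_iff_eq_mul, eq_inv_mul_iff_mul_eq]
    decide +kernel
  have hnot : eb ∉ Subgroup.zpowers ea := fun h => by
    obtain ⟨i, hi⟩ := Subgroup.mem_zpowers_iff.mp h
    have hne : eb * ea ≠ ea * eb := by decide +kernel
    rw [← hi, (Commute.zpow_self ea i).eq] at hne
    exact hne rfl
  set U : Subgroup SL32 := Subgroup.closure {ea, eb}
  have hU8 := CfsgLib.Schur.pow_succ_dvd_card_closure_pair ha (by rw [sq]; exact hb)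
    (by rw [hab]; exact inv_mem (Subgroup.mem_zpowers _)) hnot
  have hU : ¬2 ∣ U.index := fun hi => by
    have := mul_dvd_mul hU8 hi
    rw [Subgroup.card_mul_index, card_SL32] at this
    norm_num at this
  have h2 : ∀ r : ℕ, r.Prime → r ∣ Nat.card σ.ker → r = 2 := by
    intro r hr hdvd
    by_contra h2
    haveI := Fact.mk hr
    obtain ⟨⟨z, hzk⟩, hz⟩ := exists_prime_orderOf_dvd_card' r hdvd
    rw [Subgroup.orderOf_mk] at hz
    let P : Sylow r SL32 := default
    have hP := P.card_eq_multiplicity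
    rw [card_SL32] at hP
    haveI : IsCyclic (P : Subgroup SL32) := by
      rcases Nat.lt_or_ge ((168 : ℕ).factorization r) 2 with hlt | hge
      · interval_cases hf : (168 : ℕ).factorization r
        · rw [pow_zero] at hP
          have : Subsingleton (P : Subgroup SL32) := (Nat.card_eq_one_iff_unique.1 hP).1
          exact isCyclic_of_subsingleton
        · rw [pow_one] at hP
          exact isCyclic_of_prime_card hP
      · exfalso
        have hd2 : r ^ 2 ∣ 168 := (pow_dvd_pow r hge).trans (Nat.ordProj_dvd 168 r)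
        have hb' : r < 13 := by nlinarith [Nat.le_of_dvd (by norm_num) hd2]
        revert hd2
        interval_cases r <;> norm_num at *
    have hmem := CfsgLib.Schur.mem_commutator_preimage (a := 1) hs hr hzk (hc hzk) (hd hzk)
      (by rw [pow_one, ← hz, pow_orderOf_eq_one]) (P : Subgroup SL32) P.not_dvd_index
    rw [CfsgLib.Schur.preimage_commutator_eq_bot_of_isCyclic σ hc, Subgroup.mem_bot] at hmem
    rw [hmem, orderOf_one] at hz
    exact hr.ne_one hz.symm
  obtain ⟨j, hj⟩ : ∃ j, Nat.card σ.ker = 2 ^ j :=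
    ⟨_, Nat.eq_prime_pow_of_unique_prime_dvd Nat.card_pos.ne' fun {r} hr hrd => h2 r hr hrd⟩
  obtain ⟨w, hw2, hw⟩ := CfsgLib.Schur.preimage_commutator_inf_ker_dihedral_eight hs hc ha hb hab
  have hk : ∀ z ∈ σ.ker, z ∈ Subgroup.zpowers w := fun z hz =>
    hw z hz (CfsgLib.Schur.mem_commutator_preimage (a := j) hs Nat.prime_two hz (hc hz) (hd hz)
      (by
        have h := congrArg Subtype.val (pow_card_eq_one' (G := σ.ker) (x := ⟨z, hz⟩))
        rw [hj] at h
        exact h) U hU)
  by_cases hwk : w ∈ σ.ker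
  · exact ⟨⟨w, hwk⟩, Subtype.ext hw2, fun k => by
      obtain ⟨i, hi⟩ := Subgroup.mem_zpowers_iff.mp (hk k k.2)
      exact Subgroup.mem_zpowers_iff.mpr ⟨i, Subtype.ext hi⟩⟩
  · refine ⟨1, one_pow 2, fun k => ?_⟩
    obtain ⟨i, hi⟩ := Subgroup.mem_zpowers_iff.mp (hk k k.2)
    rcases Int.even_or_odd i with ⟨t, ht⟩ | ⟨t, ht⟩
    · have h1 : (k : Δ) = 1 := by
        rw [← hi, ht, ← two_mul, zpow_mul, show (2 : ℤ) = ((2 : ℕ) : ℤ) from rfl, zpow_natCast, hw2, one_zpow]
      rw [show k = 1 from Subtype.ext h1]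
      exact one_mem _
    · exfalso
      refine hwk ?_
      have h1 : (k : Δ) = w := by
        rw [← hi, ht, zpow_add, zpow_mul, show (2 : ℤ) = ((2 : ℕ) : ℤ) from rfl, zpow_natCast, hw2,
          one_zpow, one_mul, zpow_one]
      exact h1 ▸ k.2


/-- Exceptional Schur multiplier: over the field with 2 elements, PSL₃ has Schur multiplier cyclic of order 2 (here the Schur multiplier is described through stem extensions, as in the definitions). -/
theorem result {F : Type*} [Field F] [Fintype F] (hF : Fintype.card F = 2) : Cfsg.HasCyclicSchurMultiplier (Matrix.ProjectiveSpecialLinearGroup (Fin 3) F) 2 := by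
  let φ : ZMod 2 ≃+* F := ZMod.ringEquivOfPrime F Nat.prime_two hF
  let e₀ : SL32 ≃* Matrix.SpecialLinearGroup (Fin 3) F :=
    MonoidHom.toMulEquiv (Matrix.SpecialLinearGroup.map φ.toRingHom)
      (Matrix.SpecialLinearGroup.map φ.symm.toRingHom)
      (MonoidHom.ext fun g => Subtype.ext (Matrix.ext fun i j => φ.symm_apply_apply (g.1 i j)))
      (MonoidHom.ext fun g => Subtype.ext (Matrix.ext fun i j => φ.apply_symm_apply (g.1 i j)))
  have hbot : Subgroup.center (Matrix.SpecialLinearGroup (Fin 3) F) = ⊥ := by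
    rw [eq_bot_iff]
    intro x hx
    obtain ⟨r, hr, hrx⟩ := Matrix.SpecialLinearGroup.mem_center_iff.1 hx
    have key : ∀ s : ZMod 2, s ^ 3 = 1 → s = 1 := by decide
    have hr1 : r = 1 := by
      have h1 : φ.symm r ^ 3 = 1 := by
        rw [← map_pow]
        rw [Fintype.card_fin] at hr
        rw [hr, map_one]
      exact φ.symm.injective ((key _ h1).trans (map_one _).symm)
    rw [Subgroup.mem_bot]
    refine Subtype.ext ?_
    rw [← hrx, hr1, map_one, Matrix.SpecialLinearGroup.coe_one]
  let π : Matrix.SpecialLinearGroup (Fin 3) F →* Matrix.ProjectiveSpecialLinearGroup (Fin 3) F :=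
    QuotientGroup.mk' _
  have hπ : Function.Bijective π := by
    refine ⟨?_, QuotientGroup.mk'_surjective _⟩
    rw [← MonoidHom.ker_eq_bot_iff]
    exact (QuotientGroup.ker_mk' _).trans hbot
  let e : SL32 ≃* Matrix.ProjectiveSpecialLinearGroup (Fin 3) F :=
    e₀.trans (MulEquiv.ofBijective π hπ)
  let σ₀ : ULift.{u_1} SL27 →* Matrix.ProjectiveSpecialLinearGroup (Fin 3) F :=
    (e.toMonoidHom.comp hom).comp MulEquiv.ulift.toMonoidHom
  have hker : ∀ x : ULift.{u_1} SL27, x ∈ σ₀.ker ↔ x.down ∈ hom.ker := fun x =>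
    ⟨fun h => e.injective (h.trans (map_one e).symm), fun h => by
      show e (hom x.down) = 1
      rw [MonoidHom.mem_ker.mp h, map_one]⟩
  have hbound : ∀ (Δ : Type u_1) [Group Δ] [Finite Δ]
      (σ : Δ →* Matrix.ProjectiveSpecialLinearGroup (Fin 3) F), Cfsg.IsStemExtension σ →
      ∃ g : σ.ker, g ^ 2 = 1 ∧ ∀ k : σ.ker, k ∈ Subgroup.zpowers g := by
    intro Δ _ _ σ hσ
    have hk : (e.symm.toMonoidHom.comp σ).ker = σ.ker := by
      ext x
      simp [MonoidHom.mem_ker]
    have h := bound (e.symm.toMonoidHom.comp σ)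
      ⟨e.symm.surjective.comp hσ.1, hk ▸ hσ.2.1, hk ▸ hσ.2.2⟩
    rwa [hk] at h
  refine CfsgLib.StemExt.hasCyclicSchurMultiplier_of_cyclic σ₀ ⟨?_, ?_, ?_⟩ ?_ hbound
  · exact (e.surjective.comp hom_surjective).comp MulEquiv.ulift.surjective
  · intro x hx
    rcases (mem_ker_iff _).mp ((hker x).mp hx) with h | h
    · rw [show x = 1 from MulEquiv.ulift.injective (h.trans (map_one _).symm)]; exact one_mem _
    · exact Subgroup.mem_center_iff.mpr fun y => MulEquiv.ulift.injective (by
        rw [map_mul, map_mul, show MulEquiv.ulift x = -1 from h]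
        exact Subgroup.mem_center_iff.mp neg_one_mem_center _)
  · intro x hx
    rcases (mem_ker_iff _).mp ((hker x).mp hx) with h | h
    · rw [show x = 1 from MulEquiv.ulift.injective (h.trans (map_one _).symm)]; exact one_mem _
    · have hx' : x = MulEquiv.ulift.symm (-1 : SL27) :=
        MulEquiv.ulift.injective (h.trans (MulEquiv.ulift.apply_symm_apply _).symm)
      have hmem := Subgroup.mem_map_of_mem MulEquiv.ulift.symm.toMonoidHom neg_one_mem_commutator
      rw [commutator_def, Subgroup.map_commutator,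
        Subgroup.map_top_of_surjective _ MulEquiv.ulift.symm.surjective, ← commutator_def] at hmem
      exact hx' ▸ hmem
  · refine Eq.trans ?_ card_ker
    exact Nat.card_congr
      { toFun := fun x => ⟨x.1.down, (hker _).mp x.2⟩
        invFun := fun y => ⟨ULift.up y.1, (hker _).mpr y.2⟩
        left_inv := fun _ => rfl
        right_inv := fun _ => rfl }

end Cfsg.Agent.S2087
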