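import Cfsg.Statements.S2093
import Cfsg.Agent.Lib.Schur.SpSixTwo
-- import your own Cfsg.Agent.* helpers here

set_option autoImplicit false
open Cfsg

namespace Cfsg.Agent.S2093

/-- Exceptional Schur multiplier: over the field with 2 elements, PSp₆ has Schur multiplier cyclic of order 2 (here the Schur multiplier is described through stem extensions, as in the definitions). -/
theorem result {F : Type*} [Field F] [Fintype F] (hF : Fintype.card F = 2) : Cfsg.HasCyclicSchurMultiplier (Cfsg.PSp 3 F) 2 := by
  classical
  refine CfsgLib.Schur.SpSixTwo.hasSchurMultiplier (fun c => ?_)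
  by_contra hc
  push Not at hc
  have h3 : ({0, 1, c} : Finset F).card = 3 := Finset.card_eq_three.2
    ⟨0, 1, c, zero_ne_one, hc.1.symm, hc.2.symm, rfl⟩
  have := Finset.card_le_univ ({0, 1, c} : Finset F)
  omega

end Cfsg.Agent.S2093
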