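import Cfsg.Statements.S2094
import Cfsg.Agent.Lib.Schur.OmegaStd
-- import your own Cfsg.Agent.* helpers here

set_option autoImplicit false
open Cfsg

namespace Cfsg.Agent.S2094

/-- Schur multipliers of the odd-dimensional orthogonal groups: for m ≥ 3 and a field F of odd order q with (m, q) ≠ (3, 3), the Schur multiplier of PΩ_(2m+1)(F) (for the form x₀² + Σ xᵢyᵢ) is cyclic of order 2 = gcd(2, q − 1); here the Schur multiplier is described through stem extensions, as in the definitions. -/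
theorem result {F : Type*} [Field F] [Fintype F] {q : ℕ} (hF : Fintype.card F = q) (hq : Odd q) (m : ℕ) (hm : 3 ≤ m) (hexc : ¬ (m = 3 ∧ q = 3)) : Cfsg.HasCyclicSchurMultiplier (Cfsg.POmega F (Cfsg.quadFormOdd m F)) 2 := by
  classical
  have h2 : (2 : F) ≠ 0 := CfsgLib.Schur.OmegaStd.odd_two_ne hF hq
  obtain ⟨Q, hQ, hB⟩ := CfsgLib.Orth.exists_quadForm_odd h2 m
  rw [← hQ]
  have hn : Module.finrank F (Unit ⊕ (Fin m ⊕ Fin m) → F) = 2 * m + 1 := by simp; omega
  let i : (Fin m ⊕ Fin m → F) →ₗ[F] (Unit ⊕ (Fin m ⊕ Fin m) → F) :=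
    { toFun := fun x => Sum.elim 0 x
      map_add' := fun x y => funext fun s => by rcases s with s | s <;> simp
      map_smul' := fun a x => funext fun s => by rcases s with s | s <;> simp }
  obtain ⟨j, rfl⟩ : ∃ j, m = 3 + j := ⟨m - 3, by omega⟩
  let e := i ∘ₗ CfsgLib.Schur.OmegaStd.e3 (F := F) (3 + j)
  have he : Function.Injective e := fun x y h =>
    CfsgLib.Schur.OmegaStd.e3_injective (by omega) (funext fun s => congrFun h (.inr s))
  have h3 : 2 ≤ Fintype.card F := Fintype.one_lt_card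
  have hcard : Nat.card F = q := by rw [Nat.card_eq_fintype_card, hF]
  have Qb : CfsgLib.Schur.OmegaMult.Bound Q := CfsgLib.Schur.OmegaStd.bound_of_embedding h2 hB e he
    (fun x => by
      rw [hQ, ← CfsgLib.Schur.OmegaStd.e3_form j x]
      simp [Cfsg.quadFormOdd, Cfsg.quadFormPlus, e, i])
    (by
      obtain ⟨k, hk⟩ := hq
      by_cases h4 : 4 < q
      · exact Or.inl ⟨by omega, by omega⟩
      · have hq3 : q = 3 := by omega
        refine Or.inr (Or.inr ⟨by omega, ?_⟩)
        have : j ≠ 0 := fun h => hexc ⟨by omega, hq3⟩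
        omega)
  refine CfsgLib.Schur.OmegaMult.hasSchurMultiplier hB h2 (by omega) Qb fun m' hm' => ?_
  exact CfsgLib.Schur.OmegaMult.iso_two hB h2 (by omega) Qb
    (CfsgLib.Orth.no_neg_of_odd hB h2 (by rw [hn]; exact ⟨3 + j, by omega⟩))
    (by rw [Nat.card_congr Multiplicative.toAdd, Nat.card_zmod]) hm'

end Cfsg.Agent.S2094
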