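import Cfsg.Statements.S2096
import Cfsg.Agent.Lib.Schur.OmegaPlus
-- import your own Cfsg.Agent.* helpers here

set_option autoImplicit false
open Cfsg

namespace Cfsg.Agent.S2096

/-- Schur multipliers of the even-dimensional orthogonal groups of plus type and odd rank: for odd l ≥ 5 and a field F with q elements, the Schur multiplier of PΩ⁺_2l(F) (for the form Σ xᵢyᵢ) is cyclic of order gcd(4, q^l − 1); here the Schur multiplier is described through stem extensions, as in the definitions. -/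
theorem result {F : Type*} [Field F] [Fintype F] {q : ℕ} (hF : Fintype.card F = q) (l : ℕ) (hl : 5 ≤ l) (hodd : Odd l) : Cfsg.HasCyclicSchurMultiplier (Cfsg.POmega F (Cfsg.quadFormPlus l F)) (Nat.gcd 4 (q ^ l - 1)) := by
  classical
  obtain ⟨Q, hQ, hB⟩ := CfsgLib.Orth.exists_quadForm_plus (F := F) l
  rw [← hQ]
  have hn : Module.finrank F (Fin l ⊕ Fin l → F) = 2 * l := by simp; omega
  rcases eq_or_ne (2 : F) 0 with h2 | h2
  · refine CfsgLib.Schur.OmegaEven.hasSchurMultiplier h2 hB (by omega) (Or.inr (by omega)) ?_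
    rw [CfsgLib.Schur.OmegaPlus.card_gcd]
    have hev := CfsgLib.Schur.OmegaPlus.even_of_two_eq hF h2
    have h1 : Odd (q ^ l - 1) := by
      refine Nat.Even.sub_odd (Nat.one_le_pow _ _ ?_) ((Nat.even_pow' (by omega)).2 (Nat.even_iff.2 hev))
        odd_one
      rw [← hF]; exact Fintype.card_pos
    have : Nat.Coprime 4 (q ^ l - 1) := by
      rw [show 4 = 2 ^ 2 by norm_num]
      exact ((Nat.coprime_two_left).2 h1).pow_left 2
    exact this
  · have hq := CfsgLib.Schur.OmegaPlus.odd_of_two_ne hF h2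
    have Qb : CfsgLib.Schur.OmegaMult.Bound Q := CfsgLib.Schur.OmegaPlus.bound_plus hF h2 (by omega) (by omega) hQ hB
    have hneg := CfsgLib.Schur.OmegaPlus.neg_iff hF h2 (by omega) hQ hB
    obtain ⟨k, rfl⟩ := hodd
    obtain ⟨r, hr⟩ : ∃ r, q ^ (2 * k + 1) = 4 * r + q % 4 := by
      refine ⟨q ^ (2 * k + 1) / 4, ?_⟩
      have h1 : q ^ (2 * k + 1) % 4 = q % 4 := by
        have hsq : q * q % 4 = 1 := by
          rw [Nat.mul_mod]
          rcases (show q % 4 = 1 ∨ q % 4 = 3 by omega) with h | h <;> rw [h]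
        rw [pow_succ, pow_mul, Nat.mul_mod, Nat.pow_mod, sq, hsq]
        simp
      omega
    refine CfsgLib.Schur.OmegaMult.hasSchurMultiplier hB h2 (by omega) Qb fun m' hm' => ?_
    by_cases h4 : q % 4 = 3
    · refine CfsgLib.Schur.OmegaMult.iso_two hB h2 (by omega) Qb ?_ ?_ hm'
      · rw [hneg]
        rintro (h | h)
        · exact Nat.not_even_iff_odd.2 ⟨k, rfl⟩ h
        · exact h h4
      · rw [CfsgLib.Schur.OmegaPlus.card_gcd, hr, h4,
          show 4 * r + 3 - 1 = 2 + 4 * r by omega, Nat.gcd_add_mul_left_right]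
        rfl
    · refine CfsgLib.Schur.OmegaMult.iso_four hB h2 (by omega) Qb (l := 2 * k + 1) (by omega) hn
        (hneg.2 (Or.inr h4)) ?_ ⟨fun _ => inferInstance, fun h => ?_⟩ hm'
      · rw [CfsgLib.Schur.OmegaPlus.card_gcd, hr, show q % 4 = 1 by omega, Nat.add_sub_cancel,
          Nat.gcd_mul_right_right]
      · exact absurd h (Nat.not_even_iff_odd.2 ⟨k, rfl⟩)

end Cfsg.Agent.S2096
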