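import Cfsg.Statements.S2097
import Cfsg.Agent.Lib.Schur.OmegaPlus
import Cfsg.Agent.Lib.Schur.OmegaD4
-- import your own Cfsg.Agent.* helpers here

set_option autoImplicit false
open Cfsg

namespace Cfsg.Agent.S2097

/-- Schur multipliers of the even-dimensional orthogonal groups of plus type and even rank: for even l ≥ 4 and a field F with q elements, (l, q) ≠ (4, 2), the Schur multiplier of PΩ⁺_2l(F) (for the form Σ xᵢyᵢ) is the product of two cyclic groups of order gcd(2, q^l − 1) (so trivial for q even and a four-group for q odd; here the Schur multiplier is described through stem extensions, as in the definitions). -/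
theorem result {F : Type*} [Field F] [Fintype F] {q : ℕ} (hF : Fintype.card F = q) (l : ℕ) (hl : 4 ≤ l) (heven : Even l) (hexc : ¬ (l = 4 ∧ q = 2)) : Cfsg.HasSchurMultiplier (Cfsg.POmega F (Cfsg.quadFormPlus l F)) (Multiplicative (ZMod (Nat.gcd 2 (q ^ l - 1)) × ZMod (Nat.gcd 2 (q ^ l - 1)))) := by
  classical
  obtain ⟨Q, hQ, hB⟩ := CfsgLib.Orth.exists_quadForm_plus (F := F) l
  rw [← hQ]
  have hn : Module.finrank F (Fin l ⊕ Fin l → F) = 2 * l := by simp; omega
  rcases eq_or_ne (2 : F) 0 with h2 | h2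
  · have hev := CfsgLib.Schur.OmegaPlus.even_of_two_eq hF h2
    have hg : Nat.gcd 2 (q ^ l - 1) = 1 := by
      refine Nat.coprime_two_left.2 (Nat.Even.sub_odd (Nat.one_le_pow _ _ ?_)
        ((Nat.even_pow' (by omega)).2 (Nat.even_iff.2 hev)) odd_one)
      rw [← hF]; exact Fintype.card_pos
    refine CfsgLib.Schur.OmegaEven.hasSchurMultiplier h2 hB (by omega) ?_ ?_
    · by_cases hl4 : l = 4
      · exact Or.inl (CfsgLib.Schur.OmegaPlus.exists_ne_two hF fun e => hexc ⟨hl4, e⟩)
      · exact Or.inr (by omega)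
    · rw [Nat.card_congr Multiplicative.toAdd, Nat.card_prod, Nat.card_zmod, hg]
  · have hq := CfsgLib.Schur.OmegaPlus.odd_of_two_ne hF h2
    have hg : Nat.gcd 2 (q ^ l - 1) = 2 := by
      refine Nat.gcd_eq_left (even_iff_two_dvd.1 ?_)
      obtain ⟨r, hr⟩ := (Nat.odd_iff.2 hq).pow (n := l)
      exact ⟨r, by omega⟩
    have Qb : CfsgLib.Schur.OmegaMult.Bound Q := by
      by_cases h43 : l = 4 ∧ q = 3
      · obtain ⟨rfl, rfl⟩ := h43
        exact CfsgLib.Schur.OmegaD4.bound hF hQ hB h2
      · exact CfsgLib.Schur.OmegaPlus.bound_plus hF h2 hl h43 hQ hB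
    refine CfsgLib.Schur.OmegaMult.hasSchurMultiplier hB h2 (by omega) Qb fun m' hm' => ?_
    refine CfsgLib.Schur.OmegaMult.iso_four hB h2 (by omega) Qb (l := l) (by omega) hn
      ((CfsgLib.Schur.OmegaPlus.neg_iff hF h2 (by omega) hQ hB).2 (Or.inl heven)) ?_
      ⟨fun h => absurd heven (Nat.not_even_iff_odd.2 h), fun _ => ?_⟩ hm'
    · rw [Nat.card_congr Multiplicative.toAdd, Nat.card_prod, Nat.card_zmod, hg]
    · rw [hg]
      infer_instance

end Cfsg.Agent.S2097
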