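import Cfsg.Statements.S2099
import Cfsg.Agent.Lib.Schur.OmegaMinus
-- import your own Cfsg.Agent.* helpers here

set_option autoImplicit false
open Cfsg

namespace Cfsg.Agent.S2099

/-- Schur multipliers of the even-dimensional orthogonal groups of minus type: for l ≥ 4 and a field F with q elements, the Schur multiplier of PΩ⁻_2l(F) (for the form Σ_{i<l−1} xᵢyᵢ + z₁² + a z₁z₂ + b z₂² with the binary part anisotropic) is cyclic of order gcd(4, q^l + 1); here the Schur multiplier is described through stem extensions, as in the definitions. -/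
theorem result {F : Type*} [Field F] [Fintype F] {q : ℕ} (hF : Fintype.card F = q) (l : ℕ) (hl : 4 ≤ l) (a b : F) (hab : ∀ z₁ z₂ : F, z₁ ^ 2 + a * z₁ * z₂ + b * z₂ ^ 2 = 0 → z₁ = 0 ∧ z₂ = 0) : Cfsg.HasCyclicSchurMultiplier (Cfsg.POmega F (Cfsg.quadFormMinus (l - 1) F a b)) (Nat.gcd 4 (q ^ l + 1)) := by
  classical
  obtain ⟨k, rfl⟩ : ∃ k, l = k + 1 := ⟨l - 1, by omega⟩
  rw [Nat.add_sub_cancel]
  obtain ⟨Q, hQ, hB⟩ := CfsgLib.Orth.exists_quadForm_minus (F := F) k hab
  rw [← hQ]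
  have hn : Module.finrank F ((Fin k ⊕ Fin k) ⊕ Fin 2 → F) = 2 * (k + 1) := by simp; omega
  have hpos : 0 < q := hF ▸ Fintype.card_pos
  rcases eq_or_ne (2 : F) 0 with h2 | h2
  · have hev := CfsgLib.Schur.OmegaPlus.even_of_two_eq hF h2
    have hg : Nat.card (Multiplicative (ZMod (Nat.gcd 4 (q ^ (k + 1) + 1)))) = 1 := by
      rw [CfsgLib.Schur.OmegaPlus.card_gcd, show 4 = 2 ^ 2 by norm_num]
      exact ((Nat.coprime_two_left).2
        (((Nat.even_pow' (by omega)).2 (Nat.even_iff.2 hev)).add_one)).pow_left 2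
    by_cases hsp : k = 3 ∧ q = 2
    · obtain ⟨rfl, rfl⟩ := hsp
      have hF2 : ∀ c : F, c = 0 ∨ c = 1 := fun c => by
        by_contra hc
        push Not at hc
        have h3 : ({0, 1, c} : Finset F).card = 3 := Finset.card_eq_three.2
          ⟨0, 1, c, zero_ne_one, hc.1.symm, hc.2.symm, rfl⟩
        have := Finset.card_le_univ ({0, 1, c} : Finset F)
        omega
      obtain ⟨rfl, rfl⟩ := CfsgLib.Schur.OmegaMinus.two_elem hab hF2
      obtain ⟨K⟩ := CfsgLib.Schur.OmegaMinusTwo.exists_config hQ h2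
      exact CfsgLib.Schur.OmegaEven.hasSchurMultiplier_of_injective h2 hB (by omega)
        (fun σ hs hc hΓ => CfsgLib.Schur.OmegaMinusTwo.injective h2 hB (by omega) hF2 hn K σ hs hc hΓ)
        hg
    · refine CfsgLib.Schur.OmegaEven.hasSchurMultiplier h2 hB (by omega) ?_ hg
      by_cases hk4 : k = 3
      · exact Or.inl (CfsgLib.Schur.OmegaPlus.exists_ne_two hF fun e => hsp ⟨hk4, e⟩)
      · exact Or.inr (by omega)
  · have hq := CfsgLib.Schur.OmegaPlus.odd_of_two_ne hF h2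
    have Qb : CfsgLib.Schur.OmegaMult.Bound Q :=
      CfsgLib.Schur.OmegaMinus.bound_minus hab hF h2 (by omega) hQ hB
    have hneg := CfsgLib.Schur.OmegaMinus.neg_iff hab hF h2 hQ hB
    have hgcd : Nat.gcd 4 (q ^ (k + 1) + 1) = if Even k ∧ q % 4 = 3 then 4 else 2 := by
      have hmod : q ^ (k + 1) % 4 = if Even k ∧ q % 4 = 3 then 3 else 1 := by
        rw [Nat.pow_mod]
        rcases (show q % 4 = 1 ∨ q % 4 = 3 by omega) with h | h
        · rw [h, if_neg (by simp), one_pow]; norm_num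
        · rw [h]
          rcases Nat.even_or_odd k with ⟨j, hj⟩ | ⟨j, hj⟩
          · rw [if_pos ⟨⟨j, hj⟩, rfl⟩, hj, ← two_mul, pow_succ, pow_mul, Nat.mul_mod, Nat.pow_mod]
            norm_num
          · rw [if_neg (fun h => Nat.not_even_iff_odd.2 ⟨j, hj⟩ h.1), hj,
              show 2 * j + 1 + 1 = 2 * (j + 1) by ring, pow_mul, Nat.pow_mod]
            norm_num
      by_cases hc : Even k ∧ q % 4 = 3
      · rw [if_pos hc] at hmod ⊢
        exact Nat.gcd_eq_left (Nat.dvd_of_mod_eq_zero (by omega))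
      · rw [if_neg hc] at hmod ⊢
        rw [Nat.gcd_rec, show (q ^ (k + 1) + 1) % 4 = 2 by omega]
        rfl
    refine CfsgLib.Schur.OmegaMult.hasSchurMultiplier hB h2 (by omega) Qb fun m' hm' => ?_
    by_cases hc : Even k ∧ q % 4 = 3
    · refine CfsgLib.Schur.OmegaMult.iso_four hB h2 (by omega) Qb (l := k + 1) (by omega) hn
        (hneg.2 hc) ?_ ⟨fun _ => inferInstance, fun h => ?_⟩ hm'
      · rw [CfsgLib.Schur.OmegaPlus.card_gcd, hgcd, if_pos hc]
      · exact absurd h (Nat.not_even_iff_odd.2 hc.1.add_one)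
    · refine CfsgLib.Schur.OmegaMult.iso_two hB h2 (by omega) Qb (fun h => hc (hneg.1 h)) ?_ hm'
      rw [CfsgLib.Schur.OmegaPlus.card_gcd, hgcd, if_neg hc]

end Cfsg.Agent.S2099
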