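import Cfsg.Statements.S2104
import Cfsg.Agent.Lib.Chev.F4Two.Cover

set_option autoImplicit false
open Cfsg

namespace Cfsg.Agent.S2104

/-- Exceptional Schur multiplier: over the field with 2 elements the Chevalley group of type F₄ has Schur multiplier cyclic of order 2 (here the Schur multiplier is described through stem extensions, as in the definitions). -/
theorem result {F : Type*} [Field F] [Fintype F] (hF : Fintype.card F = 2) : Cfsg.HasCyclicSchurMultiplier ↥(Cfsg.Lie.chevF4.group F) 2 := by
  refine ⟨CfsgLib.F4Two.exists_cover hF, fun Γ _ _ σ hσ => ?_⟩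
  obtain ⟨z, hz, hgen⟩ := CfsgLib.F4Two.ker_stem hF σ hσ
  let g : Multiplicative (ZMod 2) := Multiplicative.ofAdd 1
  have hg : ∀ x, x ∈ Subgroup.zpowers g := fun x =>
    Subgroup.mem_zpowers_iff.2 ⟨((Multiplicative.toAdd x).val : ℤ), by
      rw [zpow_natCast]
      revert x; decide⟩
  have hord : orderOf z ∣ orderOf g := by
    rw [show orderOf g = 2 from orderOf_eq_prime (by decide) (by decide)]
    exact orderOf_dvd_of_pow_eq_one hz
  refine ⟨monoidHomOfForallMemZpowers hg hord, fun w => ?_⟩
  obtain ⟨k, hk⟩ := Subgroup.mem_zpowers_iff.1 (hgen w)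
  exact ⟨g ^ k, by rw [map_zpow, monoidHomOfForallMemZpowers_apply_gen, hk]⟩

end Cfsg.Agent.S2104
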