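import Cfsg.Statements.S2107
import Cfsg.Agent.Lib.Chev.StTwo
-- import your own Cfsg.Agent.* helpers here

set_option autoImplicit false
open Cfsg

namespace Cfsg.Agent.S2107

/-- Schur multipliers of the Chevalley groups of type E₈: over every finite field the Schur multiplier of E₈(q) is trivial (here the Schur multiplier is described through stem extensions, as in the definitions). -/
theorem result {F : Type*} [Field F] [Fintype F] : Cfsg.HasCyclicSchurMultiplier ↥(Cfsg.Lie.chevE8.group F) 1 := by
  obtain ⟨T, C, h, hnb, hl⟩ := CfsgLib.Chev.rel_finite (K := F)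
    (D := Cfsg.Lie.chevE8) (by simp) (Or.inr (by simp))
  obtain ⟨e⟩ := CfsgLib.Chev.centerEquivOne
    (CfsgLib.Chev.center_cover_bot (K := F) (D := Cfsg.Lie.chevE8) (by simp))
  refine h.hasSchurMultiplier_group hnb (CfsgLib.Chev.perfect_cover (by simp) fun hB => ?_) hl e
  exact absurd (congrArg Cfsg.Lie.ChevalleyDatum.nroots hB) (by decide +kernel)

end Cfsg.Agent.S2107
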