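import Cfsg.Statements.S2114
import Cfsg.Agent.Lib.Chev.TwistF4Mult

set_option autoImplicit false
open Cfsg

namespace Cfsg.Agent.S2114

/-- Schur multipliers of the large Ree groups: for q = 2^(2m+1) with m ≥ 1 the Schur multiplier of ²F₄(q) is trivial (here the Schur multiplier is described through stem extensions, as in the definitions). -/
theorem result {K : Type*} [Field K] [Fintype K] {m : ℕ} (hm : 1 ≤ m) (hK : Fintype.card K = 2 ^ (2 * m + 1)) : Cfsg.HasCyclicSchurMultiplier ↥(Cfsg.Lie.twistedF4 K (2 ^ m)) 1 := by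
  haveI : CharP K 2 := by
    haveI := Fact.mk Nat.prime_two
    obtain ⟨p, hp⟩ := CharP.exists K
    haveI := hp
    obtain ⟨n, hpr, hcard⟩ := FiniteField.card K p
    have h : p ∣ 2 ^ (2 * m + 1) := by
      rw [← hK, hcard]; exact dvd_pow_self p n.ne_zero
    obtain rfl := (Nat.prime_dvd_prime_iff_eq hpr Nat.prime_two).1 (hpr.dvd_of_dvd_pow h)
    exact hp
  obtain ⟨f, hf, hK'⟩ := CfsgLib.Chev.setupF4 (K := K) hK
  rw [← CfsgLib.Chev.fix_eq_twistedF4 f hf hK']
  exact CfsgLib.Chev.F4Root.multiplier_fix f hf hK' m rfl hm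

end Cfsg.Agent.S2114
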