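import Cfsg.Statements.S2136
import Cfsg.Agent.Lib.Leech.Octad.Surj
import Cfsg.Agent.Lib.Conjugacy.TransferForms

set_option autoImplicit false
set_option maxRecDepth 20000
set_option linter.style.haveILetI false
open Cfsg

namespace Cfsg.Agent.S2136

open CfsgLib.Golay CfsgLib.Leech CfsgLib.Leech.Octad Cfsg.Spor

attribute [local irreducible] dL bL key keyL coord packB linL bits

theorem sqNorm_uV : sqNorm (Octad.uV : GolayPt → ℤ) = 32 := by
  rw [sqNorm_eq_dotInt, Octad.uV, dot_mkV (goodL_inL good_ok.1) (goodL_inL good_ok.1), unit_ok.2.2.1]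

theorem sqNorm_leechU : sqNorm (leechU : GolayPt → ℤ) = 32 := by
  show sqNorm vecU = 32
  decide +kernel

/-- The group is the stabilizer of the vector. -/
theorem exists_equiv : Nonempty (↥Octad.SU ≃* ↥Cfsg.Spor.Co2) := by
  obtain ⟨g, hg⟩ := transitive_small (t := 1) (by norm_num) (v := Octad.uV) (w := leechU) sqNorm_uV sqNorm_leechU
  refine ⟨(MulAction.stabilizerEquivStabilizer hg.symm).trans ?_⟩
  refine {
    toFun := fun x => ⟨(x : ↥Co0).1, x.1.2, MulAction.mem_stabilizer_iff.2 x.2⟩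
    invFun := fun y => ⟨⟨y.1, y.2.1⟩, MulAction.mem_stabilizer_iff.2 (MulAction.mem_stabilizer_iff.1 y.2.2)⟩
    left_inv := fun _ => rfl
    right_inv := fun _ => rfl
    map_mul' := fun _ _ => rfl }

theorem orderOf_tS : orderOf tS = 2 := by
  haveI : Fact (Nat.Prime 2) := ⟨Nat.prime_two⟩
  refine orderOf_eq_prime ?_ fun h => tO_ne_one (congrArg Subtype.val h)
  rw [pow_two]
  exact Subtype.ext tO_sq

theorem map_centralizer {X Y : Type*} [Group X] [Group Y] (e : X ≃* Y) (x : X) :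
    (Subgroup.centralizer ({x} : Set X)).map e.toMonoidHom = Subgroup.centralizer ({e x} : Set Y) := by
  ext y
  simp only [Subgroup.mem_map, Subgroup.mem_centralizer_singleton_iff, MulEquiv.coe_toMonoidHom]
  refine ⟨?_, fun h => ⟨e.symm y, e.injective (by simp [h]), e.apply_symm_apply y⟩⟩
  rintro ⟨z, hz, rfl⟩
  rw [← map_mul, hz, map_mul]

/-- The Conway group Co₂ (the stabiliser of a minimal vector of the rank-24 lattice) has an involution whose centraliser C has largest normal 2-subgroup extraspecial of order 2^9 with quotient C / O₂(C) isomorphic to the symplectic group Sp(6, 2) (shape 2^{1+8}Sp(6, 2)). -/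
theorem result : ∃ t : ↥Cfsg.Spor.Co2, orderOf t = 2 ∧ Cfsg.IsExtraspecial 2 (Cfsg.pCore 2 ↥(Subgroup.centralizer ({t} : Set ↥Cfsg.Spor.Co2))) ∧ Nat.card (Cfsg.pCore 2 ↥(Subgroup.centralizer ({t} : Set ↥Cfsg.Spor.Co2))) = 2 ^ 9 ∧ Nonempty (↥(Subgroup.centralizer ({t} : Set ↥Cfsg.Spor.Co2)) ⧸ Cfsg.pCore 2 ↥(Subgroup.centralizer ({t} : Set ↥Cfsg.Spor.Co2)) ≃* Matrix.symplecticGroup (Fin 3) (ZMod 2)) := by
  obtain ⟨e⟩ := exists_equiv
  refine ⟨e tS, by rw [MulEquiv.orderOf_eq, orderOf_tS], ?_⟩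
  let f : ↥CT ≃* ↥(Subgroup.centralizer ({e tS} : Set ↥Cfsg.Spor.Co2)) :=
    (e.subgroupMap CT).trans (MulEquiv.subgroupCongr (map_centralizer e tS))
  haveI : Fact (Nat.Prime 2) := ⟨Nat.prime_two⟩
  haveI : Finite ↥Co0 := finite_Co0
  haveI : Finite ↥Cfsg.Spor.Co2 := Finite.of_equiv ↥Octad.SU e.toEquiv
  have hp := CfsgLib.Conjugacy.map_pCore_equiv (p := 2) f
  rw [pCore_CT] at hp
  let g : ↥KT ≃* ↥(Cfsg.pCore 2 ↥(Subgroup.centralizer ({e tS} : Set ↥Cfsg.Spor.Co2))) :=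
    (KT.equivMapOfInjective f.toMonoidHom f.injective).trans (MulEquiv.subgroupCongr hp)
  refine ⟨CfsgLib.Extraspecial.isExtraspecial_congr g isExtraspecial_KT, ?_, ?_⟩
  · rw [← Nat.card_congr g.toEquiv, natCard_KT]
  · exact ⟨((QuotientGroup.congr KT _ f hp).symm.trans
      (QuotientGroup.quotientKerEquivOfSurjective toSp toSp_surjective))⟩

end Cfsg.Agent.S2136
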