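import Cfsg.Statements.S2140
import Cfsg.Agent.Lib.Classical.MinIndexPSL

set_option autoImplicit false
open Cfsg

namespace Cfsg.Agent.S2140

/-- Minimal index of a proper subgroup of the linear groups: for n ≥ 3 and a field F with q elements, (n, q) ≠ (4, 2), every proper subgroup of PSL_n(F) has index at least (q^n − 1)/(q − 1), and some subgroup has exactly that index (the stabiliser of a point of the projective space). -/
theorem result {F : Type*} [Field F] [Fintype F] {q : ℕ} (hF : Fintype.card F = q) (n : ℕ) (hn : 3 ≤ n) (hexc : ¬ (n = 4 ∧ q = 2)) : (∀ H : Subgroup (Matrix.ProjectiveSpecialLinearGroup (Fin n) F), H ≠ ⊤ → (q ^ n - 1) / (q - 1) ≤ H.index) ∧ (∃ H : Subgroup (Matrix.ProjectiveSpecialLinearGroup (Fin n) F), H.index = (q ^ n - 1) / (q - 1)) := by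
  have hq : Nat.card F = q := by rw [Nat.card_eq_fintype_card, hF]
  have hq1 : 1 < q := hq ▸ Finite.one_lt_card
  have hN : (q ^ n - 1) / (q - 1) = Nat.card (Projectivization F (Fin n → F)) := by
    rw [← hq, ← CfsgLib.Classical.MinIndex.sub_one_mul_card_points (F := F) n,
      Nat.mul_div_cancel_left _ (by omega)]
  set π := QuotientGroup.mk' (Subgroup.center (Matrix.SpecialLinearGroup (Fin n) F))
  have hsurj : Function.Surjective π := QuotientGroup.mk'_surjective _
  rw [hN]
  refine ⟨fun H hH => ?_, ?_⟩
  · refine (CfsgLib.Classical.MinIndex.card_points_le_index (H.comap π) hn (fun h => hexc ⟨h.1, hq ▸ h.2⟩)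
      fun h => hH (Subgroup.comap_injective hsurj (by rw [h, Subgroup.comap_top]))).trans
      (Subgroup.index_comap_of_surjective _ hsurj).le
  · obtain ⟨K, hK, hcK⟩ := CfsgLib.Classical.MinIndex.exists_index_eq (F := F) hn
    exact ⟨K.map π, (Subgroup.index_map_eq _ hsurj (by rw [QuotientGroup.ker_mk']; exact hcK)).trans hK⟩

end Cfsg.Agent.S2140
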