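import Cfsg.Statements.S2141
import Cfsg.Agent.Lib.MinIndexSp.Main

set_option autoImplicit false
open Cfsg

namespace Cfsg.Agent.S2141

/-- Minimal index of a proper subgroup of the symplectic groups over fields with at least 3 elements: for m ≥ 2 and a field F with q ≥ 3 elements, (m, q) ≠ (2, 3), every proper subgroup of PSp_2m(F) has index at least (q^(2m) − 1)/(q − 1), and that index is attained. -/
theorem result {F : Type*} [Field F] [Fintype F] {q : ℕ} (hF : Fintype.card F = q) (m : ℕ) (hm : 2 ≤ m) (hq : 3 ≤ q) (hexc : ¬ (m = 2 ∧ q = 3)) : (∀ H : Subgroup (Cfsg.PSp m F), H ≠ ⊤ → (q ^ (2 * m) - 1) / (q - 1) ≤ H.index) ∧ (∃ H : Subgroup (Cfsg.PSp m F), H.index = (q ^ (2 * m) - 1) / (q - 1)) := by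
  classical
  subst hF
  have hsurj := QuotientGroup.mk'_surjective (Subgroup.center (Matrix.symplecticGroup (Fin m) F))
  refine ⟨fun H hH => ?_, ?_⟩
  · rw [← Subgroup.index_comap_of_surjective H hsurj]
    refine Nat.div_le_of_le_mul (CfsgLib.MinIndexSp.index_lower hm hq hexc fun e => hH ?_)
    exact Subgroup.comap_injective hsurj (e.trans (Subgroup.comap_top _).symm)
  · obtain ⟨K, hKc, hK⟩ := CfsgLib.MinIndexSp.exists_index_line (F := F) (m := m) (by omega)
    refine ⟨K.map (QuotientGroup.mk' _), ?_⟩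
    rw [Subgroup.index_map_eq _ hsurj (by rwa [QuotientGroup.ker_mk']), ← hK, Nat.mul_div_cancel_left _ (by omega)]

end Cfsg.Agent.S2141
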