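import Cfsg.Statements.S2142
import Cfsg.Agent.Lib.MinIndexSp.ExistTwo
import Cfsg.Agent.Lib.MinIndexSp.Fixed

set_option autoImplicit false
open Cfsg

namespace Cfsg.Agent.S2142

/-- Minimal index of a proper subgroup of the symplectic groups over the field with 2 elements: for m ≥ 3, every proper subgroup of Sp_2m(2) has index at least 2^(m−1)(2^m − 1), and that index is attained. -/
theorem result {F : Type*} [Field F] [Fintype F] (hF : Fintype.card F = 2) (m : ℕ) (hm : 3 ≤ m) : (∀ H : Subgroup (Cfsg.PSp m F), H ≠ ⊤ → 2 ^ (m - 1) * (2 ^ m - 1) ≤ H.index) ∧ (∃ H : Subgroup (Cfsg.PSp m F), H.index = 2 ^ (m - 1) * (2 ^ m - 1)) := by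
  classical
  open CfsgLib.MinIndexSp in
  have hsurj := QuotientGroup.mk'_surjective (Subgroup.center (Matrix.symplecticGroup (Fin m) F))
  refine ⟨fun H hH => ?_, ?_⟩
  · rw [← Subgroup.index_comap_of_surjective H hsurj]
    by_contra hd
    rw [not_le] at hd
    have hK : H.comap (QuotientGroup.mk' (Subgroup.center (Matrix.symplecticGroup (Fin m) F))) ≠ ⊤ := fun e =>
      hH (Subgroup.comap_injective hsurj (e.trans (Subgroup.comap_top _).symm))
    obtain ⟨v, hv, hvK⟩ := CfsgLib.MinIndexSp.exists_centre _ hm hK ⟨fun h3 => absurd h3 (by omega), fun _ => hd⟩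
    exact absurd (CfsgLib.MinIndexSp.Two.index_of_centre (show 0 < m by omega) _ hF hm hK hv hvK) (not_le.2 hd)
  · obtain ⟨K, hK⟩ := CfsgLib.MinIndexSp.Two.exists_index (F := F) (m := m) hF (by omega)
    refine ⟨K.map (QuotientGroup.mk' _), ?_⟩
    rw [Subgroup.index_map_eq _ hsurj, hK]
    rw [QuotientGroup.ker_mk', CfsgLib.MinIndexSp.Two.center_eq_bot hF]
    exact bot_le

end Cfsg.Agent.S2142
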