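import Cfsg.Statements.S2143
import Cfsg.Agent.Lib.MinIndexOrth.Standard
import Cfsg.Agent.Lib.OrthTwo.Arith

set_option autoImplicit false
open Cfsg

namespace Cfsg.Agent.S2143

/-- Minimal index of a proper subgroup of the odd-dimensional orthogonal groups: for m ≥ 3 and a field F with q elements, q odd and q ≥ 5, every proper subgroup of PΩ_(2m+1)(F) (for the form x₀² + Σ xᵢyᵢ) has index at least (q^(2m) − 1)/(q − 1), and that index is attained. -/
theorem result {F : Type*} [Field F] [Fintype F] {q : ℕ} (hF : Fintype.card F = q) (hodd : Odd q) (h5 : 5 ≤ q) (m : ℕ) (hm : 3 ≤ m) : (∀ H : Subgroup (Cfsg.POmega F (Cfsg.quadFormOdd m F)), H ≠ ⊤ → (q ^ (2 * m) - 1) / (q - 1) ≤ H.index) ∧ (∃ H : Subgroup (Cfsg.POmega F (Cfsg.quadFormOdd m F)), H.index = (q ^ (2 * m) - 1) / (q - 1)) := by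
  classical
  have hq : Nat.card F = q := by rw [Nat.card_eq_fintype_card, hF]
  have h2 : (2 : F) ≠ 0 := Cfsg.Agent.OrthTwo.two_ne_zero_of_odd (F := F) (hF ▸ hodd)
  obtain ⟨Q, hQ, hB⟩ := CfsgLib.Orth.exists_quadForm_odd h2 m
  have hpts := CfsgLib.MinIndexOrth.odd_points hB
  rw [← hQ, ← hq]
  have hd : Module.finrank F (Unit ⊕ (Fin m ⊕ Fin m) → F) = (2 * m - 1) + 2 := by
    rw [Module.finrank_pi, Fintype.card_sum, Fintype.card_sum, Fintype.card_fin, Fintype.card_unit]; omega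
  have hdiv := Nat.div_mul_cancel (CfsgLib.MinIndexOrth.sub_one_mul_geom (x := Nat.card F) (2 * m))
  refine CfsgLib.MinIndexOrth.pomega_min hB hd (by omega) (by omega) hpts ?_ fun h => absurd h (by omega)
  rw [hdiv, show 2 * m - 1 + 1 = 2 * m by omega]
  omega

end Cfsg.Agent.S2143
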