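import Cfsg.Statements.S2145
import Cfsg.Agent.Lib.MinIndexOrth.Standard

set_option autoImplicit false
open Cfsg

namespace Cfsg.Agent.S2145

/-- Minimal index of a proper subgroup of the even-dimensional orthogonal groups of plus type: for m ≥ 4 and a field F with q ≥ 4 elements, every proper subgroup of PΩ⁺_2m(F) (for the form Σ xᵢyᵢ) has index at least (q^m − 1)(q^(m−1) + 1)/(q − 1), and that index is attained (the singular points). -/
theorem result {F : Type*} [Field F] [Fintype F] {q : ℕ} (hF : Fintype.card F = q) (hq : 4 ≤ q) (m : ℕ) (hm : 4 ≤ m) : (∀ H : Subgroup (Cfsg.POmega F (Cfsg.quadFormPlus m F)), H ≠ ⊤ → (q ^ m - 1) * (q ^ (m - 1) + 1) / (q - 1) ≤ H.index) ∧ (∃ H : Subgroup (Cfsg.POmega F (Cfsg.quadFormPlus m F)), H.index = (q ^ m - 1) * (q ^ (m - 1) + 1) / (q - 1)) := by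
  classical
  have hq' : Nat.card F = q := by rw [Nat.card_eq_fintype_card, hF]
  obtain ⟨Q, hQ, hB⟩ := CfsgLib.Orth.exists_quadForm_plus (F := F) m
  have hpts := CfsgLib.MinIndexOrth.plus_points (by omega) hQ hB
  rw [← hQ, ← hq']
  have hd : Module.finrank F (Fin m ⊕ Fin m → F) = (2 * m - 2) + 2 := by
    rw [Module.finrank_pi, Fintype.card_sum, Fintype.card_fin]; omega
  have hdiv := Nat.div_mul_cancel ((CfsgLib.MinIndexOrth.sub_one_mul_geom (x := Nat.card F) m).mul_right
    (Nat.card F ^ (m - 1) + 1))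
  refine CfsgLib.MinIndexOrth.pomega_min hB hd (by omega) (by omega) hpts ?_ fun h => ?_
  · rw [hdiv, show 2 * m - 2 + 1 = m + (m - 1) by omega, show (2 * m - 2) / 2 + 1 = m by omega, pow_add,
      Nat.sub_mul, one_mul, mul_add, mul_one]
    exact Nat.sub_le _ _
  · obtain rfl : m = 4 := by omega
    rw [hdiv]

end Cfsg.Agent.S2145
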