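import Cfsg.Statements.S2146
import Cfsg.Agent.Lib.MinIndexOrth.TwoSix

set_option autoImplicit false
open Cfsg

namespace Cfsg.Agent.S2146

/-- Minimal index of a proper subgroup of the even-dimensional orthogonal groups of plus type over the field with 2 elements: for m ≥ 4, every proper subgroup of Ω⁺_2m(2) (for the form Σ xᵢyᵢ) has index at least 2^(m−1)(2^m − 1), and that index is attained. -/
theorem result {F : Type*} [Field F] [Fintype F] (hF : Fintype.card F = 2) (m : ℕ) (hm : 4 ≤ m) : (∀ H : Subgroup (Cfsg.POmega F (Cfsg.quadFormPlus m F)), H ≠ ⊤ → 2 ^ (m - 1) * (2 ^ m - 1) ≤ H.index) ∧ (∃ H : Subgroup (Cfsg.POmega F (Cfsg.quadFormPlus m F)), H.index = 2 ^ (m - 1) * (2 ^ m - 1)) := by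
  classical
  obtain ⟨Q, hQ, hB⟩ := CfsgLib.Orth.exists_quadForm_plus (F := F) m
  have h2 : Nat.card F = 2 := by rw [Nat.card_eq_fintype_card, hF]
  obtain ⟨htot, hex⟩ := CfsgLib.MinIndexOrth.plus_two_data (by omega) h2 hQ hB
  rw [← hQ]
  refine ⟨fun H hH => ?_, hex⟩
  have hd : Module.finrank F (Fin m ⊕ Fin m → F) = (2 * m - 2) + 2 := by
    rw [Module.finrank_pi, Fintype.card_sum, Fintype.card_fin]; omega
  rcases (show m = 4 ∨ m = 5 ∨ 6 ≤ m by omega) with rfl | rfl | h6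
  · exact CfsgLib.MinIndexOrth.bound_two_six hB hd h2 (by norm_num) htot H hH
  · exact CfsgLib.MinIndexOrth.bound_two_large hB h2 hd (Or.inl ⟨rfl, by norm_num⟩) htot H hH
  · refine CfsgLib.MinIndexOrth.bound_two_large hB h2 hd (Or.inr ⟨by omega, ?_⟩) htot H hH
    calc 2 ^ (m - 1) * (2 ^ m - 1) ≤ 2 ^ (m - 1) * 2 ^ m := Nat.mul_le_mul_left _ (Nat.sub_le _ _)
      _ = 2 ^ (2 * m - 2 + 1) := by rw [← pow_add]; congr 1; omega

end Cfsg.Agent.S2146
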