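import Cfsg.Statements.S2147
import Cfsg.Agent.Lib.MinIndexOrth.TwoSix

set_option autoImplicit false
open Cfsg

namespace Cfsg.Agent.S2147

/-- Minimal index of a proper subgroup of the even-dimensional orthogonal groups of minus type: for m ≥ 4 and a field F with q elements, every proper subgroup of PΩ⁻_2m(F) (for the form Σ_{i<m−1} xᵢyᵢ + z₁² + a z₁z₂ + b z₂² with anisotropic binary part) has index at least (q^m + 1)(q^(m−1) − 1)/(q − 1), and that index is attained. -/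
theorem result {F : Type*} [Field F] [Fintype F] {q : ℕ} (hF : Fintype.card F = q) (m : ℕ) (hm : 4 ≤ m) (a b : F) (hab : ∀ z₁ z₂ : F, z₁ ^ 2 + a * z₁ * z₂ + b * z₂ ^ 2 = 0 → z₁ = 0 ∧ z₂ = 0) : (∀ H : Subgroup (Cfsg.POmega F (Cfsg.quadFormMinus (m - 1) F a b)), H ≠ ⊤ → (q ^ m + 1) * (q ^ (m - 1) - 1) / (q - 1) ≤ H.index) ∧ (∃ H : Subgroup (Cfsg.POmega F (Cfsg.quadFormMinus (m - 1) F a b)), H.index = (q ^ m + 1) * (q ^ (m - 1) - 1) / (q - 1)) := by
  classical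
  obtain ⟨j, rfl⟩ : ∃ j, m = j + 1 := ⟨m - 1, by omega⟩
  change (∀ H : Subgroup (Cfsg.POmega F (Cfsg.quadFormMinus j F a b)), H ≠ ⊤ →
      (q ^ (j + 1) + 1) * (q ^ j - 1) / (q - 1) ≤ H.index) ∧
    ∃ H : Subgroup (Cfsg.POmega F (Cfsg.quadFormMinus j F a b)),
      H.index = (q ^ (j + 1) + 1) * (q ^ j - 1) / (q - 1)
  obtain ⟨Q, hQ, hB⟩ := CfsgLib.Orth.exists_quadForm_minus (F := F) j hab
  have hq : Nat.card F = q := by rw [Nat.card_eq_fintype_card, hF]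
  rw [← hQ, ← hq]
  by_cases h3 : 3 ≤ Nat.card F
  · exact CfsgLib.MinIndexOrth.pomega_minus_of_three (by omega) h3 hab hQ hB
  have h2 : Nat.card F = 2 := by
    have := CfsgLib.MinIndexOrth.two_le_card (F := F)
    omega
  obtain ⟨htot, hex⟩ := CfsgLib.MinIndexOrth.minus_two_data (by omega) h2 hab hQ hB
  rw [h2, show (2 : ℕ) - 1 = 1 from rfl, Nat.div_one]
  refine ⟨fun H hH => ?_, hex⟩
  have hd : Module.finrank F ((Fin j ⊕ Fin j) ⊕ Fin 2 → F) = 2 * j + 2 := CfsgLib.MinIndexOrth.minus_dim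
  rcases (show j = 3 ∨ j = 4 ∨ 5 ≤ j by omega) with rfl | rfl | h5
  · exact CfsgLib.MinIndexOrth.bound_two_six hB hd h2 (by norm_num) htot H hH
  · exact CfsgLib.MinIndexOrth.bound_two_large hB h2 hd (Or.inl ⟨rfl, by norm_num⟩) htot H hH
  · refine CfsgLib.MinIndexOrth.bound_two_large hB h2 hd (Or.inr ⟨by omega, ?_⟩) htot H hH
    have e : 2 ^ (2 * j + 1) = 2 ^ (j + 1) * 2 ^ j := by rw [← pow_add]; ring_nf
    have h1 : 2 ^ j ≤ 2 ^ (j + 1) := Nat.pow_le_pow_right (by norm_num) (by omega)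
    rw [e, add_mul, one_mul, Nat.mul_sub, mul_one]
    have h2' : 2 ^ (j + 1) ≤ 2 ^ (j + 1) * 2 ^ j := Nat.le_mul_of_pos_right _ (pow_pos (by norm_num) _)
    omega

end Cfsg.Agent.S2147
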