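import Cfsg.Statements.S2155
import Cfsg.Agent.Lib.Chev.All
import Cfsg.Agent.Lib.Layer.Characteristic
import Cfsg.Agent.Lib.Chev.RadicalCentralizer
import Cfsg.Agent.Lib.Chev.SimpleData
import Cfsg.Agent.Lib.Chev.Order
-- import your own Cfsg.Agent.* helpers here

set_option autoImplicit false
open Cfsg

namespace Cfsg.Agent.S2155

/-- In a Chevalley group of type G₂, B₂, D₄, F₄, E₆, E₇ or E₈ over a finite field of characteristic p (for types G₂ and B₂ the field is assumed to have at least 3 elements, so that the group is simple), the generalized Fitting subgroup of every proper standard parabolic subgroup P_J is a p-group (P_J is p-constrained with trivial largest normal subgroup of order prime to p). -/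
theorem result {F : Type*} [Field F] [Fintype F] (p : ℕ) [Fact p.Prime] [CharP F p] (D : Cfsg.Lie.ChevalleyDatum) (hD : D ∈ [Cfsg.Lie.chevG2, Cfsg.Lie.chevB2, Cfsg.Lie.chevD4, Cfsg.Lie.chevF4, Cfsg.Lie.chevE6, Cfsg.Lie.chevE7, Cfsg.Lie.chevE8]) (hq : (D = Cfsg.Lie.chevG2 ∨ D = Cfsg.Lie.chevB2) → 3 ≤ Fintype.card F) (J : Set ℕ) (hJ : ∃ i, i < D.rank ∧ i ∉ J) : IsPGroup p ↥(Cfsg.generalizedFittingSubgroup ↥(D.parabolicSubgroup F J)) := by
  obtain ⟨T, C, h, hconn⟩ : ∃ T C, CfsgLib.Chev.Cert D T C ∧ CfsgLib.Chev.Connected T := by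
    simp only [List.mem_cons, List.not_mem_nil, or_false] at hD
    rcases hD with rfl | rfl | rfl | rfl | rfl | rfl | rfl
    · exact ⟨_, _, CfsgLib.Chev.certG2, CfsgLib.Chev.connectedG2⟩
    · exact ⟨_, _, CfsgLib.Chev.certB2, CfsgLib.Chev.connectedB2⟩
    · exact ⟨_, _, CfsgLib.Chev.certD4, CfsgLib.Chev.connectedD4⟩
    · exact ⟨_, _, CfsgLib.Chev.certF4, CfsgLib.Chev.connectedF4⟩
    · exact ⟨_, _, CfsgLib.Chev.certE6, CfsgLib.Chev.connectedE6⟩
    · exact ⟨_, _, CfsgLib.Chev.certE7, CfsgLib.Chev.connectedE7⟩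
    · exact ⟨_, _, CfsgLib.Chev.certE8, CfsgLib.Chev.connectedE8⟩
  classical
  obtain ⟨i, hi, hiJ⟩ := hJ
  have hiT : i < T.l := lt_of_lt_of_eq hi h.rank_eq
  set P := D.parabolicSubgroup F J with hP
  have hUP : D.unipotentRadical F J ≤ P := by
    rw [hP, ← h.radical_sup_levi (F := F) J]; exact le_sup_left
  set R := (D.unipotentRadical F J).subgroupOf P with hR
  have hRn : R.Normal := by
    refine ⟨fun x hx g => ?_⟩
    rw [hR, Subgroup.mem_subgroupOf] at hx ⊢
    exact (Subgroup.mem_normalizer_iff.1 (h.parabolic_le_normalizer J g.2) _).1 hx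
  have hpos : IsPGroup p ↥(D.posUnipotent F) := by
    obtain ⟨m, -, hm⟩ := FiniteField.card F p
    exact IsPGroup.of_card (n := (m : ℕ) * T.half) (by rw [h.card_posUnipotent, hm, ← pow_mul])
  have hrad : D.unipotentRadical F J ≤ D.posUnipotent F := by
    rw [h.unipotentRadical_eq, h.posUnipotent_eq]
    exact CfsgLib.Chev.gen_mono D fun r hr => hr.1
  have hRp : IsPGroup p ↥R :=
    (hpos.to_le hrad).of_equiv (Subgroup.subgroupOfEquivOfLe hUP).symm
  have hRle := CfsgLib.Fitting.le_pCore hRn hRp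
  have hcent : Subgroup.centralizer (Cfsg.pCore p ↥P : Set ↥P) ≤ Cfsg.pCore p ↥P := by
    intro g hg
    refine hRle ?_
    rw [hR, Subgroup.mem_subgroupOf, h.unipotentRadical_eq]
    refine h.centralizer_radical_le hconn ⟨i, hiT, hiJ⟩ g.2 fun x hx => ?_
    rw [← h.unipotentRadical_eq] at hx
    have hmem : (⟨x, hUP hx⟩ : ↥P) ∈ R := by rw [hR, Subgroup.mem_subgroupOf]; exact hx
    have h1 := congrArg Subtype.val (Subgroup.mem_centralizer_iff.1 hg _ (hRle hmem))
    simp only [Subgroup.coe_mul] at h1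
    rw [← h1, mul_inv_cancel_right]
  rw [CfsgLib.Layer.generalizedFitting_eq_pCore_iff.2 hcent]
  exact CfsgLib.Fitting.pCore_isPGroup p

end Cfsg.Agent.S2155
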