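import Cfsg.Statements.S2162
-- import your own Cfsg.Agent.* helpers here

set_option autoImplicit false
open Cfsg

namespace Cfsg.Agent.S2162

open Module in
/-- Normal form of an endomorphism of square zero. -/
theorem exists_basis {K V : Type*} [Field K] [AddCommGroup V] [Module K V] [FiniteDimensional K V]
    (f : V →ₗ[K] V) (hf : ∀ v, f (f v) = 0) (r s : ℕ) (hr : finrank K ↥(LinearMap.range f) = r)
    (hs : r + r + s = finrank K V) :
    ∃ b : Basis ((Fin r ⊕ Fin r) ⊕ Fin s) K V, (∀ i, f (b (.inl (.inl i))) = b (.inl (.inr i))) ∧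
      (∀ i, f (b (.inl (.inr i))) = 0) ∧ ∀ j, f (b (.inr j)) = 0 := by
  classical
  set y := finBasisOfFinrankEq K ↥(LinearMap.range f) hr with hy
  choose x hx using fun i => LinearMap.mem_range.1 (y i).2
  have hle : LinearMap.range f ≤ LinearMap.ker f := by
    rintro _ ⟨v, rfl⟩
    exact hf v
  obtain ⟨D', hD'⟩ := Submodule.exists_isCompl (LinearMap.range f)
  set D := D' ⊓ LinearMap.ker f with hD
  have hsup : LinearMap.range f ⊔ D = LinearMap.ker f := by
    rw [hD, ← sup_inf_assoc_of_le _ hle, hD'.sup_eq_top, top_inf_eq]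
  have hinf : LinearMap.range f ⊓ D = ⊥ := by
    rw [hD, ← inf_assoc, hD'.inf_eq_bot, bot_inf_eq]
  have hdim : finrank K ↥D = s := by
    have h1 := Submodule.finrank_sup_add_finrank_inf_eq (LinearMap.range f) D
    rw [hsup, hinf, finrank_bot, add_zero, hr] at h1
    have h2 := LinearMap.finrank_range_add_finrank_ker f
    omega
  set z := finBasisOfFinrankEq K ↥D hdim with hz
  let v : (Fin r ⊕ Fin r) ⊕ Fin s → V :=
    Sum.elim (Sum.elim x fun i => (y i : V)) fun j => (z j : V)
  have hzk : ∀ j, f (z j : V) = 0 := fun j => (z j).2.2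
  have hyk : ∀ i, f (y i : V) = 0 := fun i => hle (y i).2
  have hli : LinearIndependent K v := by
    rw [Fintype.linearIndependent_iff]
    intro c hc
    simp only [v, Fintype.sum_sum_type, Sum.elim_inl, Sum.elim_inr] at hc
    have ha : ∑ i, c (.inl (.inl i)) • y i = 0 := by
      refine Subtype.ext ?_
      have := congrArg f hc
      simpa [map_sum, hx, hzk, hyk] using this
    have ha' := Fintype.linearIndependent_iff.1 y.linearIndependent _ ha
    simp only [ha', zero_smul, Finset.sum_const_zero, zero_add] at hc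
    have hyR : (∑ i, c (.inl (.inr i)) • (y i : V)) ∈ LinearMap.range f :=
      Submodule.sum_mem _ fun i _ => Submodule.smul_mem _ _ (y i).2
    have hzD : (∑ j, c (.inr j) • (z j : V)) ∈ D :=
      Submodule.sum_mem _ fun j _ => Submodule.smul_mem _ _ (z j).2
    have h0 : (∑ i, c (.inl (.inr i)) • (y i : V)) = 0 := by
      have : (∑ i, c (.inl (.inr i)) • (y i : V)) ∈ LinearMap.range f ⊓ D :=
        ⟨hyR, by rw [eq_neg_of_add_eq_zero_left hc]; exact D.neg_mem hzD⟩
      rwa [hinf, Submodule.mem_bot] at this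
    rw [h0, zero_add] at hc
    have hb' := Fintype.linearIndependent_iff.1 y.linearIndependent _
      (Subtype.ext (by simpa using h0) : ∑ i, c (.inl (.inr i)) • y i = 0)
    have hc' := Fintype.linearIndependent_iff.1 z.linearIndependent _
      (Subtype.ext (by simpa using hc) : ∑ j, c (.inr j) • z j = 0)
    rintro ((i | i) | j)
    exacts [ha' i, hb' i, hc' j]
  by_cases hem : Nonempty ((Fin r ⊕ Fin r) ⊕ Fin s)
  · refine ⟨basisOfLinearIndependentOfCardEqFinrank hli (by simp [hs]), ?_, ?_, ?_⟩ <;>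
      intro i <;> simp [v, hx, hzk, hyk]
  · have : IsEmpty (Fin (0 + 0 + 0)) := Fin.isEmpty'
    have hr0 : r = 0 := by
      rcases Nat.eq_zero_or_pos r with h | h
      · exact h
      · exact absurd ⟨.inl (.inl ⟨0, h⟩)⟩ hem
    have hs0 : s = 0 := by
      rcases Nat.eq_zero_or_pos s with h | h
      · exact h
      · exact absurd ⟨.inr ⟨0, h⟩⟩ hem
    subst hr0 hs0
    exact ⟨(finBasisOfFinrankEq K V hs.symm).reindex (Equiv.equivOfIsEmpty (Fin (0 + 0 + 0)) _),
      fun i => i.elim0, fun i => i.elim0, fun i => i.elim0⟩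

open Module in
/-- Two square-zero endomorphisms of equal positive rank are similar by a map of any square determinant. -/
theorem exists_similar {K V : Type*} [Field K] [AddCommGroup V] [Module K V] [FiniteDimensional K V]
    (f g : V →ₗ[K] V) (hf : ∀ v, f (f v) = 0) (hg : ∀ v, g (g v) = 0)
    (heq : finrank K ↥(LinearMap.range f) = finrank K ↥(LinearMap.range g)) (hne : f ≠ 0)
    (hsq : ∀ c : K, IsSquare c) :
    ∃ e : V →ₗ[K] V, LinearMap.det e = 1 ∧ e ∘ₗ f = g ∘ₗ e := by
  classical
  set r := finrank K ↥(LinearMap.range f) with hr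
  have hle : LinearMap.range f ≤ LinearMap.ker f := by
    rintro _ ⟨v, rfl⟩
    exact hf v
  have h2r : r + r ≤ finrank K V := by
    have h1 := Submodule.finrank_mono hle
    have h2 := LinearMap.finrank_range_add_finrank_ker f
    omega
  have hs : r + r + (finrank K V - (r + r)) = finrank K V := by omega
  obtain ⟨b, hb1, hb2, hb3⟩ := exists_basis f hf r _ hr.symm hs
  obtain ⟨b', hb1', hb2', hb3'⟩ := exists_basis g hg r _ heq.symm hs
  have hrpos : 0 < r := by
    rcases Nat.eq_zero_or_pos r with h | h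
    · exact absurd (LinearMap.range_eq_bot.1 (Submodule.finrank_eq_zero.1 h)) hne
    · exact h
  set e0 : V ≃ₗ[K] V := b.equiv b' (Equiv.refl _) with he0
  obtain ⟨d, hd⟩ := hsq (LinearMap.det (e0 : V →ₗ[K] V))⁻¹
  let w : (Fin r ⊕ Fin r) ⊕ Fin (finrank K V - (r + r)) → K :=
    Sum.elim (Sum.elim (fun i => if i = ⟨0, hrpos⟩ then d else 1)
      (fun i => if i = ⟨0, hrpos⟩ then d else 1)) (fun _ => 1)
  let φ : V →ₗ[K] V := b.constr K fun i => w i • b i
  have hφ : LinearMap.det φ = d * d := by
    have hm : LinearMap.toMatrix b b φ = Matrix.diagonal w := by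
      ext i j
      rw [LinearMap.toMatrix_apply]
      simp [φ, Matrix.diagonal, Finsupp.single_apply]
      split_ifs with h1 h2 h3 <;> simp_all
    rw [← LinearMap.det_toMatrix b, hm, Matrix.det_diagonal]
    simp [w, Fintype.prod_sum_type]
  refine ⟨(e0 : V →ₗ[K] V) ∘ₗ φ, ?_, ?_⟩
  · rw [LinearMap.det_comp, hφ, ← hd, mul_inv_cancel₀ (LinearEquiv.isUnit_det' e0).ne_zero]
  · refine b.ext ?_
    rintro ((i | i) | j) <;>
      simp [φ, w, e0, hb1, hb2, hb3] <;> (try split_ifs) <;> simp [hb1', hb2', hb3']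

/-- Subtracting one from an involution gives a matrix of square zero in characteristic two. -/
theorem sub_one_sq {F : Type*} [Field F] [CharP F 2] {n : ℕ}
    (a : Matrix.SpecialLinearGroup (Fin n) F) (ha : orderOf a = 2) :
    ((a : Matrix (Fin n) (Fin n) F) - 1) * ((a : Matrix (Fin n) (Fin n) F) - 1) = 0 := by
  have h : a * a = 1 := by rw [← pow_two, ← ha, pow_orderOf_eq_one]
  rw [sub_mul, mul_sub, mul_one, one_mul, ← Matrix.SpecialLinearGroup.coe_mul, h,
    Matrix.SpecialLinearGroup.coe_one]
  ext i j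
  simp [Matrix.sub_apply, CharTwo.sub_eq_add, add_comm, CharTwo.add_self_eq_zero]

/-- Conjugacy of involutions in the special linear group over a finite field of characteristic two, in dimension at least 3: two elements of order 2 of SL_n(F) are conjugate in SL_n(F) exactly when the matrices a − 1 and b − 1 have the same rank (the rank of a − 1 is the dimension of the commutator space [V, a]). -/
theorem result {F : Type*} [Field F] [Fintype F] [CharP F 2] {n : ℕ} (hn : 3 ≤ n) (a b : Matrix.SpecialLinearGroup (Fin n) F) (ha : orderOf a = 2) (hb : orderOf b = 2) :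
    IsConj a b ↔ ((a : Matrix (Fin n) (Fin n) F) - 1).rank = ((b : Matrix (Fin n) (Fin n) F) - 1).rank := by
  classical
  refine ⟨fun h => ?_, fun h => ?_⟩
  · obtain ⟨c, hc⟩ := isConj_iff.1 h
    have : (b : Matrix (Fin n) (Fin n) F) - 1 =
        (c : Matrix (Fin n) (Fin n) F) * ((a : Matrix (Fin n) (Fin n) F) - 1) * ((c⁻¹ : Matrix.SpecialLinearGroup (Fin n) F) : Matrix (Fin n) (Fin n) F) := by
      rw [← hc]
      simp only [Matrix.SpecialLinearGroup.coe_mul, mul_sub, sub_mul, mul_one]
      rw [← Matrix.SpecialLinearGroup.coe_mul c c⁻¹, mul_inv_cancel, Matrix.SpecialLinearGroup.coe_one]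
    rw [this, Matrix.rank_mul_eq_left_of_isUnit_det _ _ (by simp [Matrix.det_adjugate]),
      Matrix.rank_mul_eq_right_of_isUnit_det _ _ (by simp)]
  · have hne : Matrix.toLin' ((a : Matrix (Fin n) (Fin n) F) - 1) ≠ 0 := by
      rw [ne_eq, LinearEquiv.map_eq_zero_iff, sub_eq_zero]
      intro h1
      have : a = 1 := Subtype.ext h1
      simp [this] at ha
    have hzero : ∀ c : Matrix.SpecialLinearGroup (Fin n) F, orderOf c = 2 → ∀ v,
        Matrix.toLin' ((c : Matrix (Fin n) (Fin n) F) - 1) (Matrix.toLin' ((c : Matrix (Fin n) (Fin n) F) - 1) v) = 0 := by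
      intro c hc v
      rw [← LinearMap.comp_apply, ← Matrix.toLin'_mul, sub_one_sq c hc, map_zero, LinearMap.zero_apply]
    have hsq : ∀ c : F, IsSquare c := fun c =>
      FiniteField.isSquare_of_char_two (ringChar.eq F 2 ▸ rfl) c
    obtain ⟨e, he1, he2⟩ := exists_similar _ _ (hzero a ha) (hzero b hb) h hne hsq
    have hdet : (LinearMap.toMatrix' e).det = 1 := by rw [LinearMap.det_toMatrix', he1]
    refine isConj_iff.2 ⟨(⟨LinearMap.toMatrix' e, hdet⟩ : Matrix.SpecialLinearGroup (Fin n) F),
      mul_inv_eq_iff_eq_mul.2 (Subtype.ext ?_)⟩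
    have h2 := congrArg LinearMap.toMatrix' he2
    rw [LinearMap.toMatrix'_comp, LinearMap.toMatrix'_comp, LinearMap.toMatrix'_toLin',
      LinearMap.toMatrix'_toLin', mul_sub, sub_mul, mul_one, one_mul, sub_left_inj] at h2
    exact h2

end Cfsg.Agent.S2162
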