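import Cfsg.Statements.S2163
import Mathlib

set_option autoImplicit false
set_option linter.style.haveILetI false
open Cfsg

namespace Cfsg.Agent.S2163

/-- Over a finite field of characteristic two and for n ≥ 3: for every ℓ with 1 ≤ ℓ and 2ℓ ≤ n, the matrix j_ℓ that is the identity plus the entries 1 in positions (n − ℓ + i, i) for i < ℓ (an identity block of size ℓ in the lower left corner) lies in SL_n(F), has order 2, and j_ℓ − 1 has rank ℓ. Together with the conjugacy criterion by rank, these matrices represent the conjugacy classes of involutions of SL_n(F). -/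
theorem result {F : Type*} [Field F] [Fintype F] [CharP F 2] {n : ℕ} (hn : 3 ≤ n) (ℓ : ℕ) (h1 : 1 ≤ ℓ) (h2 : 2 * ℓ ≤ n) :
    ∃ a : Matrix.SpecialLinearGroup (Fin n) F, (a : Matrix (Fin n) (Fin n) F) = 1 + Matrix.of (fun i j : Fin n => if j.val < ℓ ∧ i.val = j.val + (n - ℓ) then (1 : F) else 0) ∧ orderOf a = 2 ∧ ((a : Matrix (Fin n) (Fin n) F) - 1).rank = ℓ := by
  classical
  set E : Matrix (Fin n) (Fin n) F :=
    Matrix.of fun i j => if j.val < ℓ ∧ i.val = j.val + (n - ℓ) then 1 else 0 with hE
  have hEE : E * E = 0 := by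
    ext i j
    rw [Matrix.mul_apply]
    refine Finset.sum_eq_zero fun k _ => ?_
    simp only [hE, Matrix.of_apply]
    split_ifs <;> simp <;> omega
  have hdet : (1 + E).det = 1 := by
    rw [Matrix.det_of_lowerTriangular _ (fun i j hij => ?_)]
    · refine Finset.prod_eq_one fun i _ => ?_
      rw [Matrix.add_apply, Matrix.one_apply_eq, hE, Matrix.of_apply, if_neg (by omega), add_zero]
    · have hij' : i.val < j.val := hij
      rw [Matrix.add_apply, Matrix.one_apply_ne (fun h => by omega), hE, Matrix.of_apply,
        if_neg (by omega), add_zero]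
  have hrank : E.rank = ℓ := by
    let P : Matrix (Fin n) (Fin ℓ) F := Matrix.of fun i k => if i.val = k.val + (n - ℓ) then 1 else 0
    let Q : Matrix (Fin ℓ) (Fin n) F := Matrix.of fun k j => if j.val = k.val then 1 else 0
    have hPQ : E = P * Q := by
      ext i j
      rw [Matrix.mul_apply]
      by_cases hj : j.val < ℓ
      · rw [Finset.sum_eq_single_of_mem ⟨j.val, hj⟩ (Finset.mem_univ _) fun b _ hb => by
          have : j.val ≠ b.val := fun e => hb (Fin.ext e.symm)
          simp [Q, this]]
        simp [P, Q, hE, hj]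
      · rw [Finset.sum_eq_zero fun b _ => by
          have : j.val ≠ b.val := by omega
          simp [Q, this]]
        simp [hE, hj]
    have h1 : E.rank ≤ ℓ := by
      rw [hPQ]
      exact (Matrix.rank_mul_le_left P Q).trans (by simpa using P.rank_le_card_width)
    have h2 : Q * Q.transpose = (1 : Matrix (Fin ℓ) (Fin ℓ) F) := by
      ext a b
      rw [Matrix.mul_apply, Finset.sum_eq_single_of_mem (⟨a.val, by omega⟩ : Fin n)
        (Finset.mem_univ _) fun c _ hc => by
          have : c.val ≠ a.val := fun e => hc (Fin.ext e)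
          simp [Q, this]]
      simp [Q, Matrix.one_apply, Fin.ext_iff]
    have h3 : P.transpose * P = (1 : Matrix (Fin ℓ) (Fin ℓ) F) := by
      ext a b
      rw [Matrix.mul_apply, Finset.sum_eq_single_of_mem (⟨a.val + (n - ℓ), by omega⟩ : Fin n)
        (Finset.mem_univ _) fun c _ hc => by
          have : c.val ≠ a.val + (n - ℓ) := fun e => hc (Fin.ext e)
          simp [P, this]]
      simp [P, Matrix.one_apply, Fin.ext_iff]
    refine le_antisymm h1 ?_
    have h4 : P.transpose * E * Q.transpose = 1 := by
      rw [hPQ, ← Matrix.mul_assoc, h3, Matrix.one_mul, h2]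
    calc ℓ = (1 : Matrix (Fin ℓ) (Fin ℓ) F).rank := by rw [Matrix.rank_one, Fintype.card_fin]
      _ ≤ E.rank := by
        rw [← h4]
        exact (Matrix.rank_mul_le_left _ _).trans (Matrix.rank_mul_le_right _ _)
  refine ⟨⟨1 + E, hdet⟩, rfl, orderOf_eq_prime ?_ ?_, ?_⟩
  · refine (pow_two _).trans (Subtype.ext ?_)
    show (1 + E) * (1 + E) = 1
    rw [mul_add, mul_one, add_mul, one_mul, hEE, add_zero, add_assoc]
    ext i j
    simp [CharTwo.add_self_eq_zero]
  · intro h
    have h' : 1 + E = 1 := congrArg Subtype.val h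
    rw [add_eq_left.mp h', Matrix.rank_zero] at hrank
    omega
  · show (1 + E - 1).rank = ℓ
    rw [add_sub_cancel_left, hrank]

end Cfsg.Agent.S2163
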