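import Cfsg.Statements.S2164
import Cfsg.Agent.Lib.Classical.UnitaryDetClasses
-- import your own Cfsg.Agent.* helpers here

set_option autoImplicit false
open Cfsg

namespace Cfsg.Agent.S2164

/-- Conjugacy of involutions in the special unitary group SU_n(q), q even, n ≥ 3, realised over the field F with q² elements as the matrices of determinant 1 preserving the form Σ u_i v_i^q: for two elements of order 2 of SU_n(q) the following are equivalent — they are conjugate in SU_n(q); they are conjugate in SL_n(F); the matrices a − 1 and b − 1 have the same rank. -/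
theorem result {F : Type*} [Field F] [Fintype F] [CharP F 2] {n q : ℕ} (hF : Fintype.card F = q ^ 2) (hn : 3 ≤ n) (a b : ↥(Cfsg.SU n F q)) (ha : orderOf a = 2) (hb : orderOf b = 2) :
    (IsConj a b ↔ IsConj (a : Matrix.SpecialLinearGroup (Fin n) F) (b : Matrix.SpecialLinearGroup (Fin n) F)) ∧
    (IsConj a b ↔ (((a : Matrix.SpecialLinearGroup (Fin n) F) : Matrix (Fin n) (Fin n) F) - 1).rank = (((b : Matrix.SpecialLinearGroup (Fin n) F) : Matrix (Fin n) (Fin n) F) - 1).rank) := by
  classical
  have hrank : IsConj (a : Matrix.SpecialLinearGroup (Fin n) F) (b : Matrix.SpecialLinearGroup (Fin n) F) →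
      (((a : Matrix.SpecialLinearGroup (Fin n) F) : Matrix (Fin n) (Fin n) F) - 1).rank =
      (((b : Matrix.SpecialLinearGroup (Fin n) F) : Matrix (Fin n) (Fin n) F) - 1).rank := by
    intro h
    obtain ⟨c, hc⟩ := isConj_iff.mp ((Matrix.SpecialLinearGroup.toGL
      (n := Fin n) (R := F)).map_isConj h)
    have h1 := congrArg (fun z : GL (Fin n) F => (z : Matrix (Fin n) (Fin n) F) - 1) hc
    have e : ∀ M : Matrix (Fin n) (Fin n) F, (c : Matrix (Fin n) (Fin n) F) * M *
        ((c⁻¹ : GL (Fin n) F) : Matrix (Fin n) (Fin n) F) - 1 = (c : Matrix (Fin n) (Fin n) F) * (M - 1) *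
        ((c⁻¹ : GL (Fin n) F) : Matrix (Fin n) (Fin n) F) := fun M => by
      rw [mul_sub, sub_mul, mul_one, Units.mul_inv]
    simp only [Units.val_mul] at h1
    rw [e] at h1
    refine Eq.trans ?_ (congrArg Matrix.rank h1)
    rw [Matrix.rank_mul_eq_left_of_isUnit_det _ _ ((Matrix.isUnit_iff_isUnit_det _).1 (c⁻¹).isUnit),
      Matrix.rank_mul_eq_right_of_isUnit_det _ _ ((Matrix.isUnit_iff_isUnit_det _).1 c.isUnit)]
    rfl
  haveI : Fact (Nat.Prime 2) := ⟨Nat.prime_two⟩
  have hback := CfsgLib.Classical.UnitaryDetClasses.su_involutions (p := 2) hF rfl a b ha hb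
  exact ⟨⟨fun h => (Cfsg.SU n F q).subtype.map_isConj h, fun h => hback (hrank h)⟩,
    ⟨fun h => hrank ((Cfsg.SU n F q).subtype.map_isConj h), hback⟩⟩

end Cfsg.Agent.S2164
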