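import Cfsg.Statements.S2165
import Mathlib
-- import your own Cfsg.Agent.* helpers here

set_option autoImplicit false
open Cfsg

namespace Cfsg.Agent.S2165

/-- In SU_n(q), q even, n ≥ 3 (matrices of determinant 1 over the field with q² elements preserving Σ u_i v_i^q): for every ℓ with 1 ≤ ℓ and 2ℓ ≤ n, the permutation matrix of the involution of {0, …, n−1} exchanging i and n − ℓ + i for each i < ℓ lies in SU_n(q), has order 2, and differs from the identity by a matrix of rank ℓ. So every rank between 1 and n/2 occurs for involutions of SU_n(q). -/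
theorem result {F : Type*} [Field F] [Fintype F] [CharP F 2] {n q : ℕ} (hF : Fintype.card F = q ^ 2) (hn : 3 ≤ n) (ℓ : ℕ) (h1 : 1 ≤ ℓ) (h2 : 2 * ℓ ≤ n) :
    ∃ a : ↥(Cfsg.SU n F q), (((a : Matrix.SpecialLinearGroup (Fin n) F) : Matrix (Fin n) (Fin n) F) = Matrix.of (fun i j : Fin n => if (j.val < ℓ ∧ i.val = j.val + (n - ℓ)) ∨ (i.val < ℓ ∧ j.val = i.val + (n - ℓ)) ∨ (i = j ∧ ℓ ≤ i.val ∧ i.val < n - ℓ) then (1 : F) else 0)) ∧ orderOf a = 2 ∧ ((((a : Matrix.SpecialLinearGroup (Fin n) F) : Matrix (Fin n) (Fin n) F)) - 1).rank = ℓ := by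
  classical
  let σf : Fin n → Fin n := fun i =>
    if h : i.val < ℓ then ⟨i.val + (n - ℓ), by omega⟩
    else if h' : n - ℓ ≤ i.val then ⟨i.val - (n - ℓ), by omega⟩ else i
  have hv : ∀ i : Fin n, (σf i).val = if i.val < ℓ then i.val + (n - ℓ)
      else if n - ℓ ≤ i.val then i.val - (n - ℓ) else i.val := fun i => by
    simp only [σf]; split_ifs <;> rfl
  have hinv : Function.Involutive σf := fun i => by
    refine Fin.ext ?_
    have := i.isLt
    rw [hv, hv]; split_ifs <;> omega
  let σ : Equiv.Perm (Fin n) := hinv.toPerm σf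
  let M : Matrix (Fin n) (Fin n) F := Matrix.of (fun i j : Fin n =>
    if (j.val < ℓ ∧ i.val = j.val + (n - ℓ)) ∨ (i.val < ℓ ∧ j.val = i.val + (n - ℓ)) ∨
      (i = j ∧ ℓ ≤ i.val ∧ i.val < n - ℓ) then (1 : F) else 0)
  have hMσ : M = σ.permMatrix F := by
    ext i j
    have hij : ((j.val < ℓ ∧ i.val = j.val + (n - ℓ)) ∨ (i.val < ℓ ∧ j.val = i.val + (n - ℓ)) ∨
      (i = j ∧ ℓ ≤ i.val ∧ i.val < n - ℓ)) ↔ σf i = j := by
      have := i.isLt; have := j.isLt
      simp only [Fin.ext_iff, hv]
      split_ifs <;> omega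
    show (if _ then (1 : F) else 0) = _
    simp [hij, Equiv.Perm.permMatrix, PEquiv.toMatrix_apply, σ]
  have hdet : M.det = 1 := by
    rw [hMσ, Matrix.det_permutation]
    rcases Int.units_eq_one_or (Equiv.Perm.sign σ) with h | h <;> simp [h, CharTwo.neg_eq]
  have hmv : ∀ (u : Fin n → F) i, M.mulVec u i = u (σ i) := fun u i => by
    rw [hMσ]; simp [Matrix.permMatrix_mulVec]
  let A : Matrix.SpecialLinearGroup (Fin n) F := ⟨M, hdet⟩
  have hA : A ∈ Cfsg.SU n F q := by
    intro u v
    show hermForm n F q (M.mulVec u) (M.mulVec v) = _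
    simp only [hermForm, hmv]
    exact Equiv.sum_comp σ (fun i => u i * v i ^ q)
  refine ⟨⟨A, hA⟩, rfl, ?_, ?_⟩
  · refine orderOf_eq_prime ?_ ?_
    · refine Subtype.ext (Subtype.ext ?_)
      show (M : Matrix (Fin n) (Fin n) F) ^ 2 = 1
      refine Matrix.ext_of_mulVec_single fun j => ?_
      rw [pow_two, ← Matrix.mulVec_mulVec, Matrix.one_mulVec]
      funext i
      rw [hmv, hmv]
      exact congrArg _ (hinv i)
    · intro h
      have h1 : M = 1 := congrArg Subtype.val (congrArg Subtype.val h)
      have := congrFun (congrFun h1 ⟨0, by omega⟩) ⟨0, by omega⟩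
      rw [Matrix.one_apply_eq] at this
      change (if _ then (1 : F) else 0) = 1 at this
      rw [if_neg (by simp; omega)] at this
      exact zero_ne_one this
  · show (M - 1).rank = ℓ
    let U : Matrix (Fin n) (Fin ℓ) F := Matrix.of fun i k =>
      if i.val = k.val ∨ i.val = k.val + (n - ℓ) then 1 else 0
    let V : Matrix (Fin ℓ) (Fin n) F := Matrix.of fun k j =>
      if j.val = k.val ∨ j.val = k.val + (n - ℓ) then 1 else 0
    have hUV : M - 1 = U * V := by
      ext i j
      rw [Matrix.sub_apply, Matrix.one_apply, Matrix.mul_apply, CharTwo.sub_eq_add]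
      simp only [M, U, V, Matrix.of_apply]
      have := i.isLt; have := j.isLt
      by_cases h : i.val < ℓ
      · rw [Finset.sum_eq_single ⟨i.val, h⟩ (fun k _ hk => by
          rw [if_neg (by simp only [ne_eq, Fin.ext_iff] at hk; omega), zero_mul]) (by simp)]
        simp only [true_or, if_true, one_mul, Fin.ext_iff]
        split_ifs <;> first | (simp; done) | (exfalso; omega) | exact CharTwo.add_self_eq_zero (1 : F) | (simp [CharTwo.add_self_eq_zero]; done)
      · by_cases h' : n - ℓ ≤ i.val
        · rw [Finset.sum_eq_single ⟨i.val - (n - ℓ), by omega⟩ (fun k _ hk => by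
            rw [if_neg (by simp only [ne_eq, Fin.ext_iff] at hk; omega), zero_mul]) (by simp)]
          simp only [Fin.ext_iff]
          split_ifs <;> first | (simp; done) | (exfalso; omega) | exact CharTwo.add_self_eq_zero (1 : F) | (simp [CharTwo.add_self_eq_zero]; done)
        · rw [Finset.sum_eq_zero (fun k _ => by rw [if_neg (by have := k.isLt; omega), zero_mul])]
          simp only [Fin.ext_iff]
          split_ifs <;> first | (simp; done) | (exfalso; omega) | exact CharTwo.add_self_eq_zero (1 : F) | (simp [CharTwo.add_self_eq_zero]; done)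
    refine le_antisymm ?_ ?_
    · rw [hUV]; exact (Matrix.rank_mul_le_left _ _).trans (Matrix.rank_le_width _)
    · have e : (M - 1).submatrix (fun k : Fin ℓ => (⟨k.val, by omega⟩ : Fin n))
          (fun k : Fin ℓ => (⟨k.val + (n - ℓ), by omega⟩ : Fin n)) = 1 := by
        ext a b
        have := a.isLt; have := b.isLt
        simp only [Matrix.submatrix_apply, Matrix.sub_apply, Matrix.one_apply, M, Matrix.of_apply, Fin.ext_iff]
        split_ifs <;> first | (simp; done) | (exfalso; omega) | (simp [CharTwo.neg_eq]; done)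
      have h := Matrix.rank_submatrix_le (M - 1) (fun k : Fin ℓ => (⟨k.val, by omega⟩ : Fin n))
          (fun k : Fin ℓ => (⟨k.val + (n - ℓ), by omega⟩ : Fin n))
      rwa [e, Matrix.rank_one, Fintype.card_fin] at h

end Cfsg.Agent.S2165
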