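import Cfsg.Statements.S2167
import Cfsg.Agent.Lib.Classical.SympTrans
import Cfsg.Agent.Lib.Classical.Forms
-- import your own Cfsg.Agent.* helpers here

set_option autoImplicit false
open Cfsg Matrix CfsgLib.Classical.SympTrans

namespace Cfsg.Agent.S2167

/-- For an involution t of the symplectic group Sp_{2m}(F), m ≥ 2, F a finite field of characteristic two (matrices A with A J Aᵀ = J acting on column vectors, alternating form f(u, v) = u ⬝ (J v)): the set V(t) of vectors v with f(v, t v) = 0 has either q^{2m} or q^{2m−1} elements, q the order of F (it is a subspace of codimension at most 1), and if it is the whole space then t − 1 has even rank. -/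
theorem result {F : Type*} [Field F] [Fintype F] [CharP F 2] {m : ℕ} (hm : 2 ≤ m) (a : ↥(Matrix.symplecticGroup (Fin m) F)) (ha : orderOf a = 2) :
    (Nat.card {v : Fin m ⊕ Fin m → F // Cfsg.sympForm m F v (Matrix.mulVec ((a : ↥(Matrix.symplecticGroup (Fin m) F)) : Matrix (Fin m ⊕ Fin m) (Fin m ⊕ Fin m) F) v) = 0} = Fintype.card F ^ (2 * m) ∨ Nat.card {v : Fin m ⊕ Fin m → F // Cfsg.sympForm m F v (Matrix.mulVec ((a : ↥(Matrix.symplecticGroup (Fin m) F)) : Matrix (Fin m ⊕ Fin m) (Fin m ⊕ Fin m) F) v) = 0} * Fintype.card F = Fintype.card F ^ (2 * m)) ∧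
    ((∀ v : Fin m ⊕ Fin m → F, Cfsg.sympForm m F v (Matrix.mulVec ((a : ↥(Matrix.symplecticGroup (Fin m) F)) : Matrix (Fin m ⊕ Fin m) (Fin m ⊕ Fin m) F) v) = 0) → Even (((a : ↥(Matrix.symplecticGroup (Fin m) F)) : Matrix (Fin m ⊕ Fin m) (Fin m ⊕ Fin m) F) - 1).rank) := by
  classical
  have h2 : (2 : F) = 0 := CharTwo.two_eq_zero
  have haa : ∀ x, app a (app a x) = x := fun x => by
    rw [← app_mul, ← pow_two, ← ha, pow_orderOf_eq_one, app_one]
  have hsymm : ∀ u v, Cfsg.sympForm m F u (app a v) = Cfsg.sympForm m F (app a u) v := fun u v => by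
    conv_lhs => rw [← f_app a, haa]
  set φ : (Fin m ⊕ Fin m → F) → F := fun v => Cfsg.sympForm m F v (app a v)
  have hadd : ∀ u v, φ (u + v) = φ u + φ v := fun u v => by
    simp only [φ]
    rw [app_add, f_add_left, f_add_right, f_add_right, hsymm v u, f_swap u (app a v)]
    ring
  choose s hs using fun x : F => FiniteField.isSquare_of_char_two
    (CharP.ringChar_of_prime_eq_zero Nat.prime_two (by exact_mod_cast h2)) x
  have hinj : ∀ x y : F, x * x = y * y → x = y := fun x y e => by
    have : (x - y) * (x - y) = 0 := by linear_combination e + (y * y - x * y) * h2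
    exact sub_eq_zero.1 (mul_self_eq_zero.1 this)
  let L : (Fin m ⊕ Fin m → F) →ₗ[F] F :=
    { toFun := fun v => s (φ v)
      map_add' := fun u v => hinj _ _ (by
        rw [← hs, hadd]
        linear_combination hs (φ u) + hs (φ v) - s (φ u) * s (φ v) * h2)
      map_smul' := fun c v => hinj _ _ (by
        rw [← hs, RingHom.id_apply, smul_eq_mul]
        simp only [φ, app_smul, f_smul_left, f_smul_right]
        linear_combination c * c * hs (φ v)) }
  have hker : ∀ v, φ v = 0 ↔ v ∈ LinearMap.ker L := fun v => by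
    rw [LinearMap.mem_ker]
    refine ⟨fun h => ?_, fun h => (hs _).trans (by rw [show s (φ v) = 0 from h, mul_zero])⟩
    have := hs (φ v)
    rw [h] at this
    exact (congrArg s h).trans (mul_self_eq_zero.1 this.symm)
  refine ⟨?_, fun h => ?_⟩
  · have hc : Nat.card {v // φ v = 0} = Nat.card (LinearMap.ker L) :=
      Nat.card_congr (Equiv.subtypeEquivRight hker)
    have e : Nat.card (LinearMap.ker L) = Fintype.card F ^ Module.finrank F (LinearMap.ker L) := by
      rw [Module.natCard_eq_pow_finrank (K := F), Nat.card_eq_fintype_card]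
    have hr := L.finrank_range_add_finrank_ker
    have h1 : Module.finrank F (LinearMap.range L) ≤ 1 :=
      (Submodule.finrank_le _).trans_eq (Module.finrank_self F)
    rw [Module.finrank_fintype_fun_eq_card, Fintype.card_sum, Fintype.card_fin] at hr
    show Nat.card {v // φ v = 0} = _ ∨ Nat.card {v // φ v = 0} * _ = _
    rw [hc, e]
    rcases Nat.le_one_iff_eq_zero_or_eq_one.1 h1 with h0 | h0
    · exact Or.inl (by rw [show Module.finrank F (LinearMap.ker L) = 2 * m by omega])
    · exact Or.inr (by rw [← pow_succ, show Module.finrank F (LinearMap.ker L) + 1 = 2 * m by omega])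
  set N := Matrix.mulVecLin ((a : Matrix (Fin m ⊕ Fin m) (Fin m ⊕ Fin m) F) - 1)
  have hN : ∀ x, N x = app a x - x := fun x => by
    rw [Matrix.mulVecLin_apply, sub_mulVec, one_mulVec]; rfl
  obtain ⟨r, hr⟩ := N.rangeRestrict.exists_rightInverse_of_surjective N.range_rangeRestrict
  have hr' : ∀ x : LinearMap.range N, N (r x) = x := fun x => congrArg Subtype.val (LinearMap.congr_fun hr x)
  let W : LinearMap.BilinForm F (Fin m ⊕ Fin m → F) :=
    LinearMap.mk₂ F (Cfsg.sympForm m F) f_add_left f_smul_left f_add_right f_smul_right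
  let B : LinearMap.BilinForm F (LinearMap.range N) := W.compl₁₂ r (LinearMap.range N).subtype
  obtain ⟨k, b, -⟩ := CfsgLib.Forms.exists_symplectic_basis_nondeg B (fun x => by
      show Cfsg.sympForm m F (r x) (x : Fin m ⊕ Fin m → F) = 0
      rw [← hr' x, hN, f_sub_right, f_self, sub_zero]
      exact h (r x))
    fun x hx => Subtype.ext <| eq_zero_of_f _ fun v => by
      rw [← hr' x, hN, f_sub_left, ← hsymm, ← f_sub_right, ← hN]
      exact hx ⟨N v, LinearMap.mem_range_self _ v⟩
  refine ⟨k, ?_⟩
  show Module.finrank F (LinearMap.range N) = k + k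
  rw [Module.finrank_eq_card_basis b, Fintype.card_sum, Fintype.card_fin]

end Cfsg.Agent.S2167
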