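import Cfsg.Statements.S2172
import Cfsg.Agent.Lib.Classical.InvolutionOmegaStd
-- import your own Cfsg.Agent.* helpers here

set_option autoImplicit false
open Cfsg

namespace Cfsg.Agent.S2172

/-- Splitting of involution classes from O to Ω for the hyperbolic quadratic form Q = Σ x_i y_i in dimension 2m over a finite field F of characteristic two, m ≥ 4. Let t, s be involutions of the commutator subgroup Ω that are conjugate in the full isometry group O. If it is not the case that t − 1 has rank m and Q(v + t v) = 0 for every vector v, then t and s are conjugate by an element of Ω. If t − 1 has rank m and Q(v + t v) = 0 for all v, then t and s are conjugate by an element of Ω exactly when the intersection of the images of t − 1 and s − 1 has even dimension (so the class of t in O meets at most two classes of Ω). -/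
theorem result {F : Type*} [Field F] [Fintype F] [CharP F 2] {m : ℕ} (hm : 4 ≤ m) (t s : ↥(Cfsg.isometryGroup F (Cfsg.quadFormPlus m F))) (ht : orderOf t = 2) (hs : orderOf s = 2) (htO : t ∈ Cfsg.Omega F (Cfsg.quadFormPlus m F)) (hsO : s ∈ Cfsg.Omega F (Cfsg.quadFormPlus m F)) (hconj : IsConj t s) :
    (¬ (((((t : ↥(Cfsg.isometryGroup F (Cfsg.quadFormPlus m F))) : GL (Fin m ⊕ Fin m) F) : Matrix (Fin m ⊕ Fin m) (Fin m ⊕ Fin m) F) - 1).rank = m ∧ ∀ v : Fin m ⊕ Fin m → F, Cfsg.quadFormPlus m F (v + Matrix.mulVec (((t : ↥(Cfsg.isometryGroup F (Cfsg.quadFormPlus m F))) : GL (Fin m ⊕ Fin m) F) : Matrix (Fin m ⊕ Fin m) (Fin m ⊕ Fin m) F) v) = 0) →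
      ∃ g ∈ Cfsg.Omega F (Cfsg.quadFormPlus m F), g * t * g⁻¹ = s) ∧
    ((((((t : ↥(Cfsg.isometryGroup F (Cfsg.quadFormPlus m F))) : GL (Fin m ⊕ Fin m) F) : Matrix (Fin m ⊕ Fin m) (Fin m ⊕ Fin m) F) - 1).rank = m ∧ ∀ v : Fin m ⊕ Fin m → F, Cfsg.quadFormPlus m F (v + Matrix.mulVec (((t : ↥(Cfsg.isometryGroup F (Cfsg.quadFormPlus m F))) : GL (Fin m ⊕ Fin m) F) : Matrix (Fin m ⊕ Fin m) (Fin m ⊕ Fin m) F) v) = 0) →
      ((∃ g ∈ Cfsg.Omega F (Cfsg.quadFormPlus m F), g * t * g⁻¹ = s) ↔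
        Even (Module.finrank F ↥(LinearMap.range (Matrix.toLin' ((((t : ↥(Cfsg.isometryGroup F (Cfsg.quadFormPlus m F))) : GL (Fin m ⊕ Fin m) F) : Matrix (Fin m ⊕ Fin m) (Fin m ⊕ Fin m) F) - 1)) ⊓ LinearMap.range (Matrix.toLin' ((((s : ↥(Cfsg.isometryGroup F (Cfsg.quadFormPlus m F))) : GL (Fin m ⊕ Fin m) F) : Matrix (Fin m ⊕ Fin m) (Fin m ⊕ Fin m) F) - 1)))))) := by
  obtain ⟨Q, hQ, hB⟩ := CfsgLib.Orth.exists_quadForm_plus (F := F) m
  revert t s ht hs htO hsO hconj
  rw [← hQ]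
  intro t s ht hs htO hsO hconj
  have hΩ := CfsgLib.Classical.InvolutionOmegaStd.omega_plus_eq_ker hB (by omega) (Or.inr (by omega))
  have hd : Module.finrank F (Fin m ⊕ Fin m → F) = m + m := by simp
  have halt : CfsgLib.Classical.InvolutionOrth.AltO t ↔ ∀ v : Fin m ⊕ Fin m → F,
      Q (v + Matrix.mulVec (((t : ↥(Cfsg.isometryGroup F ⇑Q)) : GL (Fin m ⊕ Fin m) F) : Matrix (Fin m ⊕ Fin m) (Fin m ⊕ Fin m) F) v) = 0 := by
    rw [CfsgLib.Classical.InvolutionOrth.altO_iff]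
    refine forall_congr' fun v => ?_
    rw [Matrix.sub_mulVec, Matrix.one_mulVec, sub_eq_add_neg,
      CfsgLib.Classical.InvolutionData.neg_eq_self (F := F) v, add_comm]
  have hrank : ∀ g : ↥(Cfsg.isometryGroup F ⇑Q), (((g : GL (Fin m ⊕ Fin m) F) : Matrix (Fin m ⊕ Fin m) (Fin m ⊕ Fin m) F) - 1).rank
      = Module.finrank F ↥(LinearMap.range (CfsgLib.Classical.InvolutionOrth.uO g)) :=
    CfsgLib.Classical.InvolutionOrth.rank_eq
  refine ⟨fun hn => CfsgLib.Classical.InvolutionDickson.exists_omega_conj hΩ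
    (CfsgLib.Classical.InvolutionOrth.orderOf_two ht) (fun hh => hn ⟨by rw [hrank]; omega, halt.1 hh.2⟩) hconj,
    fun ⟨hr, ha⟩ => ?_⟩
  rw [hrank] at hr
  rw [CfsgLib.Classical.InvolutionDickson.omega_conj_iff hΩ (by omega) (halt.2 ha) hconj]
  have hev := (CfsgLib.Classical.InvolutionDickson.mem_omega_iff_rank hΩ t).1 htO
  rw [hr] at hev ⊢
  rw [Nat.even_add]
  exact ⟨fun h => h.1 hev, fun h => iff_of_true hev h⟩

end Cfsg.Agent.S2172
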