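import Cfsg.Statements.S2174
import Cfsg.Agent.Lib.Chev.InvolCheckF4
-- import your own Cfsg.Agent.* helpers here

set_option autoImplicit false
open Cfsg

namespace Cfsg.Agent.S2174

open CfsgLib.Chev

/-- The orbit of the highest root. -/
def orbit : List ℕ := [0, 1, 2, 4, 5, 6, 15, 16, 17, 21, 22, 23, 24, 25, 26, 30, 31, 32, 41, 42, 43, 45, 46, 47]

/-- The roots above 44 absorb the commutators with it. -/
theorem above : ((List.range tabF4.n).all fun r => (List.range tabF4.n).all fun s =>
    decide (r < tabF4.half) || decide (s < 44) || decide (s < tabF4.half) || decide (s = r) ||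
      (tabF4.oddTerms r s).all fun q => decide (44 < q.1)) = true := by
  decide +kernel

theorem not_conj {F : Type*} [Field F] [CharP F 2] {g : GL Cfsg.Lie.chevF4.Idx F}
    (hg : g ∈ Cfsg.Lie.chevF4.group F) :
    g * X Cfsg.Lie.chevF4 47 1 * g⁻¹ ≠ X Cfsg.Lie.chevF4 44 1 :=
  certF4.central_not_conj (O := orbit) (by decide +kernel) ⟨by decide +kernel, by decide +kernel⟩
    (by decide +kernel) (by decide +kernel) (by decide +kernel)
    (fun r hr hr' s hs hbs hs' hne q hq => by
      have h1 := above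
      simp only [List.all_eq_true, List.mem_range, Bool.or_eq_true, decide_eq_true_eq] at h1
      rcases h1 r hr s hs with (((h2 | h2) | h2) | h2) | h2
      · omega
      · omega
      · omega
      · exact absurd h2 hne
      · exact h2 q hq) hg


/-- Conjugacy classes of involutions in the Chevalley group of type F₄ over a finite field F of characteristic two (the matrix group generated by the root elements x_r(t)). In this problem's root numbering for type F₄ (the Chevalley data module; fundamental roots p₁, p₂ short and p₃, p₄ long; roots indexed by their coefficient vectors in increasing order) let r = 47 be the highest root (2,4,3,2), s = 44 the highest short root (2,3,2,1), and α = 39 = (1,2,2,1), β = 45 = (2,4,2,1), an orthogonal short/long pair; consider the four elements x_r(1), x_s(1), x_r(1)x_s(1), x_α(1)x_β(1). Then: each invertible matrix equal to one of these four products lies in the group and has order 2; every element of order 2 of the group is conjugate in the group to one of them;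 and no two of them are conjugate in the group (so, the four matrices being distinct, the group has exactly four conjugacy classes of involutions). -/
theorem result {F : Type*} [Field F] [Fintype F] [CharP F 2] :
    (∀ y : GL Cfsg.Lie.chevF4.Idx F, ((y : GL Cfsg.Lie.chevF4.Idx F) : Matrix Cfsg.Lie.chevF4.Idx Cfsg.Lie.chevF4.Idx F) ∈ [Cfsg.Lie.chevF4.x F 47 1, Cfsg.Lie.chevF4.x F 44 1, Cfsg.Lie.chevF4.x F 47 1 * Cfsg.Lie.chevF4.x F 44 1, Cfsg.Lie.chevF4.x F 39 1 * Cfsg.Lie.chevF4.x F 45 1] → y ∈ Cfsg.Lie.chevF4.group F ∧ orderOf y = 2) ∧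
    (∀ g ∈ Cfsg.Lie.chevF4.group F, orderOf g = 2 → ∃ y ∈ Cfsg.Lie.chevF4.group F, ((y : GL Cfsg.Lie.chevF4.Idx F) : Matrix Cfsg.Lie.chevF4.Idx Cfsg.Lie.chevF4.Idx F) ∈ [Cfsg.Lie.chevF4.x F 47 1, Cfsg.Lie.chevF4.x F 44 1, Cfsg.Lie.chevF4.x F 47 1 * Cfsg.Lie.chevF4.x F 44 1, Cfsg.Lie.chevF4.x F 39 1 * Cfsg.Lie.chevF4.x F 45 1] ∧ ∃ h ∈ Cfsg.Lie.chevF4.group F, h * g * h⁻¹ = y) ∧
    (∀ y₁ ∈ Cfsg.Lie.chevF4.group F, ∀ y₂ ∈ Cfsg.Lie.chevF4.group F, ((y₁ : GL Cfsg.Lie.chevF4.Idx F) : Matrix Cfsg.Lie.chevF4.Idx Cfsg.Lie.chevF4.Idx F) ∈ [Cfsg.Lie.chevF4.x F 47 1, Cfsg.Lie.chevF4.x F 44 1, Cfsg.Lie.chevF4.x F 47 1 * Cfsg.Lie.chevF4.x F 44 1, Cfsg.Lie.chevF4.x F 39 1 * Cfsg.Lie.chevF4.x F 45 1] → ((y₂ : GL Cfsg.Lie.chevF4.Idx F) : Matrix Cfsg.Lie.chevF4.Idx Cfsg.Lie.chevF4.Idx F) ∈ [Cfsg.Lie.chevF4.x F 47 1, Cfsg.Lie.chevF4.x F 44 1, Cfsg.Lie.chevF4.x F 47 1 * Cfsg.Lie.chevF4.x F 44 1, Cfsg.Lie.chevF4.x F 39 1 * Cfsg.Lie.chevF4.x F 45 1] →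
      (∃ h ∈ Cfsg.Lie.chevF4.group F, h * y₁ * h⁻¹ = y₂) → ((y₁ : GL Cfsg.Lie.chevF4.Idx F) : Matrix Cfsg.Lie.chevF4.Idx Cfsg.Lie.chevF4.Idx F) = ((y₂ : GL Cfsg.Lie.chevF4.Idx F) : Matrix Cfsg.Lie.chevF4.Idx Cfsg.Lie.chevF4.Idx F)) := by
  refine certF4.classes_of_cert (tg := [[47], [44], [47, 44], [39, 45]]) ?_ ?_ ?_ (tgl := invF4Tg) rfl invF4_rel invF4_chk
    (r := 338) (by omega) invF4_root
  · simp only [List.map_cons, List.map_nil, certF4.coe_oneProd_one, certF4.coe_oneProd_two]
  · intro t ht
    simp only [List.mem_cons, List.not_mem_nil, or_false] at ht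
    rcases ht with rfl | rfl | rfl | rfl
    · exact ⟨16, by decide +kernel⟩
    · exact ⟨16, by decide +kernel⟩
    · exact ⟨21, by decide +kernel⟩
    · exact ⟨24, by decide +kernel⟩
  · intro t ht t' ht' hc
    obtain ⟨x, hx, e⟩ := hc
    simp only [List.mem_cons, List.not_mem_nil, or_false] at ht ht'
    rcases ht with rfl | rfl | rfl | rfl <;> rcases ht' with rfl | rfl | rfl | rfl
    · rfl
    · exact absurd (by simpa [oneProd] using e) (not_conj hx)
    · exact absurd (certF4.target_rank_eq (F := F) (k := 16) (k' := 21) (by decide +kernel) (by decide +kernel) e) (by omega)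
    · exact absurd (certF4.target_rank_eq (F := F) (k := 16) (k' := 24) (by decide +kernel) (by decide +kernel) e) (by omega)
    · refine absurd ?_ (not_conj (inv_mem hx))
      simp only [oneProd, List.map_cons, List.map_nil, List.prod_cons, List.prod_nil, mul_one] at e
      rw [← e]; group
    · rfl
    · exact absurd (certF4.target_rank_eq (F := F) (k := 16) (k' := 21) (by decide +kernel) (by decide +kernel) e) (by omega)
    · exact absurd (certF4.target_rank_eq (F := F) (k := 16) (k' := 24) (by decide +kernel) (by decide +kernel) e) (by omega)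
    · exact absurd (certF4.target_rank_eq (F := F) (k := 21) (k' := 16) (by decide +kernel) (by decide +kernel) e) (by omega)
    · exact absurd (certF4.target_rank_eq (F := F) (k := 21) (k' := 16) (by decide +kernel) (by decide +kernel) e) (by omega)
    · rfl
    · exact absurd (certF4.target_rank_eq (F := F) (k := 21) (k' := 24) (by decide +kernel) (by decide +kernel) e) (by omega)
    · exact absurd (certF4.target_rank_eq (F := F) (k := 24) (k' := 16) (by decide +kernel) (by decide +kernel) e) (by omega)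
    · exact absurd (certF4.target_rank_eq (F := F) (k := 24) (k' := 16) (by decide +kernel) (by decide +kernel) e) (by omega)
    · exact absurd (certF4.target_rank_eq (F := F) (k := 24) (k' := 21) (by decide +kernel) (by decide +kernel) e) (by omega)
    · rfl

end Cfsg.Agent.S2174
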