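import Cfsg.Statements.S2176
import Cfsg.Agent.Lib.Chev.InvolCheckE8
-- import your own Cfsg.Agent.* helpers here

set_option autoImplicit false
open Cfsg

namespace Cfsg.Agent.S2176

open CfsgLib.Chev


/-- Conjugacy classes of involutions in the Chevalley group of type E₈ over a finite field F of characteristic two (the matrix group generated by the root elements x_r(t)). In this problem's root numbering for type E₈ (the Chevalley data module; fundamental roots numbered so that p₁–p₃–p₄–p₅–p₆–p₇–p₈ is the long chain of the diagram and p₂ is joined to p₄; roots indexed by their coefficient vectors in increasing order) let r = 239 be the highest root (2,3,4,6,5,4,3,2), α = 232 = (2,2,4,5,4,3,2,1), β = 233 = (2,3,3,5,4,3,2,1), γ = 228 = (2,2,3,4,3,2,2,1), δ = 222 = (1,2,3,4,3,3,2,1), ε = 218 = (1,2,2,4,4,3,2,1), φ = 226 = (2,2,3,4,3,2,1,0), ψ = 220 = (1,2,3,4,3,2,1,1), θ = 213 = (1,2,2,3,3,3,2,1), ω = 216 = (1,2,2,4,3,2,2,1) (the roots within each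 of {α, β}, {γ, δ, ε}, {φ, ψ, θ, ω} pairwise orthogonal); consider x_r(1), x_α(1)x_β(1), x_γ(1)x_δ(1)x_ε(1) and x_φ(1)x_ψ(1)x_θ(1)x_ω(1). Then: each invertible matrix equal to one of these four products lies in the group and has order 2; every element of order 2 of the group is conjugate in the group to one of them; and no two of them are conjugate in the group (so, the four matrices being distinct, the group has exactly four conjugacy classes of involutions). -/
theorem result {F : Type*} [Field F] [Fintype F] [CharP F 2] :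
    (∀ y : GL Cfsg.Lie.chevE8.Idx F, ((y : GL Cfsg.Lie.chevE8.Idx F) : Matrix Cfsg.Lie.chevE8.Idx Cfsg.Lie.chevE8.Idx F) ∈ [Cfsg.Lie.chevE8.x F 239 1, Cfsg.Lie.chevE8.x F 232 1 * Cfsg.Lie.chevE8.x F 233 1, Cfsg.Lie.chevE8.x F 228 1 * Cfsg.Lie.chevE8.x F 222 1 * Cfsg.Lie.chevE8.x F 218 1, Cfsg.Lie.chevE8.x F 226 1 * Cfsg.Lie.chevE8.x F 220 1 * Cfsg.Lie.chevE8.x F 213 1 * Cfsg.Lie.chevE8.x F 216 1] → y ∈ Cfsg.Lie.chevE8.group F ∧ orderOf y = 2) ∧
    (∀ g ∈ Cfsg.Lie.chevE8.group F, orderOf g = 2 → ∃ y ∈ Cfsg.Lie.chevE8.group F, ((y : GL Cfsg.Lie.chevE8.Idx F) : Matrix Cfsg.Lie.chevE8.Idx Cfsg.Lie.chevE8.Idx F) ∈ [Cfsg.Lie.chevE8.x F 239 1, Cfsg.Lie.chevE8.x F 232 1 * Cfsg.Lie.chevE8.x F 233 1, Cfsg.Lie.chevE8.x F 228 1 * Cfsg.Lie.chevE8.x F 222 1 * Cfsg.Lie.chevE8.x F 218 1, Cfsg.Lie.chevE8.x F 226 1 * Cfsg.Lie.chevE8.x F 220 1 * Cfsg.Lie.chevE8.x F 213 1 * Cfsg.Lie.chevE8.x F 216 1] ∧ ∃ h ∈ Cfsg.Lie.chevE8.group F, h * g * h⁻¹ = y) ∧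
    (∀ y₁ ∈ Cfsg.Lie.chevE8.group F, ∀ y₂ ∈ Cfsg.Lie.chevE8.group F, ((y₁ : GL Cfsg.Lie.chevE8.Idx F) : Matrix Cfsg.Lie.chevE8.Idx Cfsg.Lie.chevE8.Idx F) ∈ [Cfsg.Lie.chevE8.x F 239 1, Cfsg.Lie.chevE8.x F 232 1 * Cfsg.Lie.chevE8.x F 233 1, Cfsg.Lie.chevE8.x F 228 1 * Cfsg.Lie.chevE8.x F 222 1 * Cfsg.Lie.chevE8.x F 218 1, Cfsg.Lie.chevE8.x F 226 1 * Cfsg.Lie.chevE8.x F 220 1 * Cfsg.Lie.chevE8.x F 213 1 * Cfsg.Lie.chevE8.x F 216 1] → ((y₂ : GL Cfsg.Lie.chevE8.Idx F) : Matrix Cfsg.Lie.chevE8.Idx Cfsg.Lie.chevE8.Idx F) ∈ [Cfsg.Lie.chevE8.x F 239 1, Cfsg.Lie.chevE8.x F 232 1 * Cfsg.Lie.chevE8.x F 233 1, Cfsg.Lie.chevE8.x F 228 1 * Cfsg.Lie.chevE8.x F 222 1 * Cfsg.Lie.chevE8.x F 218 1, Cfsg.Lie.chevE8.x F 226 1 * Cfsg.Lie.chevE8.x F 220 1 * Cfsg.Lie.chevE8.x F 213 1 * Cfsg.Lie.chevE8.x F 216 1] →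
      (∃ h ∈ Cfsg.Lie.chevE8.group F, h * y₁ * h⁻¹ = y₂) → ((y₁ : GL Cfsg.Lie.chevE8.Idx F) : Matrix Cfsg.Lie.chevE8.Idx Cfsg.Lie.chevE8.Idx F) = ((y₂ : GL Cfsg.Lie.chevE8.Idx F) : Matrix Cfsg.Lie.chevE8.Idx Cfsg.Lie.chevE8.Idx F)) := by
  refine certE8.classes_of_cert (tg := [[239], [232, 233], [228, 222, 218], [226, 220, 213, 216]]) ?_ ?_ ?_ (tgl := invE8Tg) rfl invE8_rel invE8_chk
    (r := 1640) (by omega) invE8_root
  · simp only [List.map_cons, List.map_nil, certE8.coe_oneProd_four, certE8.coe_oneProd_one, certE8.coe_oneProd_three, certE8.coe_oneProd_two]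
  · intro t ht
    simp only [List.mem_cons, List.not_mem_nil, or_false] at ht
    rcases ht with rfl | rfl | rfl | rfl
    · exact ⟨58, by decide +kernel⟩
    · exact ⟨92, by decide +kernel⟩
    · exact ⟨110, by decide +kernel⟩
    · exact ⟨120, by decide +kernel⟩
  · intro t ht t' ht' hc
    obtain ⟨x, hx, e⟩ := hc
    simp only [List.mem_cons, List.not_mem_nil, or_false] at ht ht'
    rcases ht with rfl | rfl | rfl | rfl <;> rcases ht' with rfl | rfl | rfl | rfl
    · rfl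
    · exact absurd (certE8.target_rank_eq (F := F) (k := 58) (k' := 92) (by decide +kernel) (by decide +kernel) e) (by omega)
    · exact absurd (certE8.target_rank_eq (F := F) (k := 58) (k' := 110) (by decide +kernel) (by decide +kernel) e) (by omega)
    · exact absurd (certE8.target_rank_eq (F := F) (k := 58) (k' := 120) (by decide +kernel) (by decide +kernel) e) (by omega)
    · exact absurd (certE8.target_rank_eq (F := F) (k := 92) (k' := 58) (by decide +kernel) (by decide +kernel) e) (by omega)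
    · rfl
    · exact absurd (certE8.target_rank_eq (F := F) (k := 92) (k' := 110) (by decide +kernel) (by decide +kernel) e) (by omega)
    · exact absurd (certE8.target_rank_eq (F := F) (k := 92) (k' := 120) (by decide +kernel) (by decide +kernel) e) (by omega)
    · exact absurd (certE8.target_rank_eq (F := F) (k := 110) (k' := 58) (by decide +kernel) (by decide +kernel) e) (by omega)
    · exact absurd (certE8.target_rank_eq (F := F) (k := 110) (k' := 92) (by decide +kernel) (by decide +kernel) e) (by omega)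
    · rfl
    · exact absurd (certE8.target_rank_eq (F := F) (k := 110) (k' := 120) (by decide +kernel) (by decide +kernel) e) (by omega)
    · exact absurd (certE8.target_rank_eq (F := F) (k := 120) (k' := 58) (by decide +kernel) (by decide +kernel) e) (by omega)
    · exact absurd (certE8.target_rank_eq (F := F) (k := 120) (k' := 92) (by decide +kernel) (by decide +kernel) e) (by omega)
    · exact absurd (certE8.target_rank_eq (F := F) (k := 120) (k' := 110) (by decide +kernel) (by decide +kernel) e) (by omega)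
    · rfl

end Cfsg.Agent.S2176
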