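import Cfsg.Statements.S2177
import Cfsg.Agent.Lib.Chev.InvolCheckG2
-- import your own Cfsg.Agent.* helpers here

set_option autoImplicit false
open Cfsg

namespace Cfsg.Agent.S2177

open CfsgLib.Chev

/-- The orbit of the highest root. -/
def orbit : List ℕ := [0, 1, 5, 6, 10, 11]

/-- The roots above 9 absorb the commutators with it. -/
theorem above : ((List.range tabG2.n).all fun r => (List.range tabG2.n).all fun s =>
    decide (r < tabG2.half) || decide (s < 9) || decide (s < tabG2.half) || decide (s = r) ||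
      (tabG2.oddTerms r s).all fun q => decide (9 < q.1)) = true := by
  decide +kernel

theorem not_conj {F : Type*} [Field F] [CharP F 2] {g : GL Cfsg.Lie.chevG2.Idx F}
    (hg : g ∈ Cfsg.Lie.chevG2.group F) :
    g * X Cfsg.Lie.chevG2 11 1 * g⁻¹ ≠ X Cfsg.Lie.chevG2 9 1 :=
  certG2.central_not_conj (O := orbit) (by decide +kernel) ⟨by decide +kernel, by decide +kernel⟩
    (by decide +kernel) (by decide +kernel) (by decide +kernel)
    (fun r hr hr' s hs hbs hs' hne q hq => by
      have h1 := above
      simp only [List.all_eq_true, List.mem_range, Bool.or_eq_true, decide_eq_true_eq] at h1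
      rcases h1 r hr s hs with (((h2 | h2) | h2) | h2) | h2
      · omega
      · omega
      · omega
      · exact absurd h2 hne
      · exact h2 q hq) hg


/-- Conjugacy classes of involutions in the Chevalley group of type G₂ over a finite field F of characteristic two with at least four elements (the matrix group generated by the root elements x_r(t)). In this problem's root numbering for type G₂ (the Chevalley data module; p₁ = a short, p₂ = b long; roots indexed by coefficient vectors in increasing order) let 11 be the highest root 3a + 2b (long) and 9 the short root 2a + b; consider x_{3a+2b}(1) and x_{2a+b}(1). Then: each invertible matrix equal to one of these two products lies in the group and has order 2; every element of order 2 of the group is conjugate in the group to one of them; and no two of them are conjugate in the group (so, the two matrices being distinct, the group has exactly two conjugacy classes of involutions). -/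
theorem result {F : Type*} [Field F] [Fintype F] [CharP F 2] (hF : 4 ≤ Fintype.card F) :
    (∀ y : GL Cfsg.Lie.chevG2.Idx F, ((y : GL Cfsg.Lie.chevG2.Idx F) : Matrix Cfsg.Lie.chevG2.Idx Cfsg.Lie.chevG2.Idx F) ∈ [Cfsg.Lie.chevG2.x F 11 1, Cfsg.Lie.chevG2.x F 9 1] → y ∈ Cfsg.Lie.chevG2.group F ∧ orderOf y = 2) ∧
    (∀ g ∈ Cfsg.Lie.chevG2.group F, orderOf g = 2 → ∃ y ∈ Cfsg.Lie.chevG2.group F, ((y : GL Cfsg.Lie.chevG2.Idx F) : Matrix Cfsg.Lie.chevG2.Idx Cfsg.Lie.chevG2.Idx F) ∈ [Cfsg.Lie.chevG2.x F 11 1, Cfsg.Lie.chevG2.x F 9 1] ∧ ∃ h ∈ Cfsg.Lie.chevG2.group F, h * g * h⁻¹ = y) ∧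
    (∀ y₁ ∈ Cfsg.Lie.chevG2.group F, ∀ y₂ ∈ Cfsg.Lie.chevG2.group F, ((y₁ : GL Cfsg.Lie.chevG2.Idx F) : Matrix Cfsg.Lie.chevG2.Idx Cfsg.Lie.chevG2.Idx F) ∈ [Cfsg.Lie.chevG2.x F 11 1, Cfsg.Lie.chevG2.x F 9 1] → ((y₂ : GL Cfsg.Lie.chevG2.Idx F) : Matrix Cfsg.Lie.chevG2.Idx Cfsg.Lie.chevG2.Idx F) ∈ [Cfsg.Lie.chevG2.x F 11 1, Cfsg.Lie.chevG2.x F 9 1] →
      (∃ h ∈ Cfsg.Lie.chevG2.group F, h * y₁ * h⁻¹ = y₂) → ((y₁ : GL Cfsg.Lie.chevG2.Idx F) : Matrix Cfsg.Lie.chevG2.Idx Cfsg.Lie.chevG2.Idx F) = ((y₂ : GL Cfsg.Lie.chevG2.Idx F) : Matrix Cfsg.Lie.chevG2.Idx Cfsg.Lie.chevG2.Idx F)) := by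
  refine certG2.classes_of_cert (tg := [[11], [9]]) ?_ ?_ ?_ (tgl := invG2Tg) rfl invG2_rel invG2_chk
    (r := 35) (by omega) invG2_root
  · simp only [List.map_cons, List.map_nil, certG2.coe_oneProd_one]
  · intro t ht
    simp only [List.mem_cons, List.not_mem_nil, or_false] at ht
    rcases ht with rfl | rfl
    · exact ⟨6, by decide +kernel⟩
    · exact ⟨6, by decide +kernel⟩
  · intro t ht t' ht' hc
    obtain ⟨x, hx, e⟩ := hc
    simp only [List.mem_cons, List.not_mem_nil, or_false] at ht ht'
    rcases ht with rfl | rfl <;> rcases ht' with rfl | rfl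
    · rfl
    · exact absurd (by simpa [oneProd] using e) (not_conj hx)
    · refine absurd ?_ (not_conj (inv_mem hx))
      simp only [oneProd, List.map_cons, List.map_nil, List.prod_cons, List.prod_nil, mul_one] at e
      rw [← e]; group
    · rfl

end Cfsg.Agent.S2177
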