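import Cfsg.Statements.S2178
import Cfsg.Agent.Lib.Chev.All
import Cfsg.Agent.Lib.Chev.CentRoot
-- import your own Cfsg.Agent.* helpers here

set_option autoImplicit false
open Cfsg

namespace Cfsg.Agent.S2178

/-- Centralizers of the long and the short root involutions in the Chevalley group G of type F₄ over a finite field F of characteristic two (this problem's root numbering for type F₄, from the Chevalley data module: fundamental roots p₁, p₂ short, p₃, p₄ long, with indices 33, 27, 25, 24, their negatives 14, 20, 22, 23; highest root 47, highest short root 44; U the subgroup generated by the positive root subgroups). For an element t of G with matrix x_47(1): the centralizer of t in G is the subgroup generated by U and the root subgroups X_{−p₁}, X_{−p₂}, X_{−p₃} (the unipotent radical of the maximal parabolic subgroup whose Levi factor has fundamental roots p₁, p₂, p₃, together with that Levi factor's root subgroups; the Levi factor is of type C₃). For an element u of G with matrix x_44(1): the centralizer of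 u in G is generated by U and X_{−p₂}, X_{−p₃}, X_{−p₄} (the same construction for the Levi factor with fundamental roots p₂, p₃, p₄, of type B₃). -/
theorem result {F : Type*} [Field F] [Fintype F] [CharP F 2] (t u : GL Cfsg.Lie.chevF4.Idx F) (ht : (t : Matrix Cfsg.Lie.chevF4.Idx Cfsg.Lie.chevF4.Idx F) = Cfsg.Lie.chevF4.x F 47 1) (hu : (u : Matrix Cfsg.Lie.chevF4.Idx Cfsg.Lie.chevF4.Idx F) = Cfsg.Lie.chevF4.x F 44 1) :
    Cfsg.Lie.chevF4.group F ⊓ Subgroup.centralizer {t} = Cfsg.Lie.chevF4.posUnipotent F ⊔ Cfsg.Lie.chevF4.rootSubgroup F 14 ⊔ Cfsg.Lie.chevF4.rootSubgroup F 20 ⊔ Cfsg.Lie.chevF4.rootSubgroup F 22 ∧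
    Cfsg.Lie.chevF4.group F ⊓ Subgroup.centralizer {u} = Cfsg.Lie.chevF4.posUnipotent F ⊔ Cfsg.Lie.chevF4.rootSubgroup F 20 ⊔ Cfsg.Lie.chevF4.rootSubgroup F 22 ⊔ Cfsg.Lie.chevF4.rootSubgroup F 23 := by
  obtain rfl := CfsgLib.Chev.certF4.coe_eq_iff.1 ht
  obtain rfl := CfsgLib.Chev.certF4.coe_eq_iff.1 hu
  have key : ∀ a b c : ℕ, CfsgLib.Chev.Cert.leviGen Cfsg.Lie.chevF4 F [a, b, c] =
      Cfsg.Lie.chevF4.posUnipotent F ⊔ Cfsg.Lie.chevF4.rootSubgroup F a ⊔
        Cfsg.Lie.chevF4.rootSubgroup F b ⊔ Cfsg.Lie.chevF4.rootSubgroup F c := by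
    intro a b c
    simp only [CfsgLib.Chev.certF4.rootSubgroup_eq]
    refine le_antisymm (sup_le (le_sup_left.trans (le_sup_left.trans le_sup_left)) ?_)
      (sup_le (sup_le (sup_le le_sup_left ?_) ?_) ?_)
    · rw [Subgroup.closure_le]
      rintro g ⟨s, hs, z, e⟩
      obtain rfl := CfsgLib.Chev.certF4.coe_eq_iff.1 e
      simp only [List.mem_cons, List.not_mem_nil, or_false] at hs
      rcases hs with rfl | rfl | rfl
      · exact Subgroup.mem_sup_left (Subgroup.mem_sup_left
          (Subgroup.mem_sup_right (CfsgLib.Chev.X_mem_gen _ (Set.mem_singleton s) z)))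
      · exact Subgroup.mem_sup_left (Subgroup.mem_sup_right
          (CfsgLib.Chev.X_mem_gen _ (Set.mem_singleton s) z))
      · exact Subgroup.mem_sup_right (CfsgLib.Chev.X_mem_gen _ (Set.mem_singleton s) z)
    all_goals
      rw [CfsgLib.Chev.gen, Subgroup.closure_le]
      rintro g ⟨s, hs, z, rfl⟩
      exact CfsgLib.Chev.certF4.X_mem_leviGen (by simp [Set.mem_singleton_iff.1 hs]) z
  rw [← key, ← key]
  exact ⟨CfsgLib.Chev.certF4.centralizer_X (by decide +kernel),
    CfsgLib.Chev.certF4.centralizer_X (by decide +kernel)⟩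

end Cfsg.Agent.S2178
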