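import Cfsg.Statements.S2179
import Cfsg.Agent.Lib.Chev.CentComm
import Cfsg.Agent.Lib.Chev.All
import Cfsg.Agent.Lib.Chev.DataCentF4
-- import your own Cfsg.Agent.* helpers here

set_option autoImplicit false
open Cfsg

namespace Cfsg.Agent.S2179

open CfsgLib.Chev

set_option maxRecDepth 100000

/-- The roots of the centralizer of the second involution. -/
def ccList : List ℕ :=
  [33, 14, 24, 23] ++ ((List.range 48).filter fun r => decide (24 ≤ r ∧ r ∉ [27, 25, 34, 26]))

variable {F : Type*} [Field F] [CharP F 2]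

theorem split_pos {u : GL Cfsg.Lie.chevF4.Idx F} (hu : u ∈ Cfsg.Lie.chevF4.posUnipotent F) :
    ∃ c ∈ gen Cfsg.Lie.chevF4 F {r | r ∈ ccList}, ∃ a b x y : F,
      u = c * (X Cfsg.Lie.chevF4 27 a * X Cfsg.Lie.chevF4 34 b *
        (X Cfsg.Lie.chevF4 25 x * X Cfsg.Lie.chevF4 26 y)) := by
  have h0 : u ∈ gen Cfsg.Lie.chevF4 F {r | r ∈ posList tabF4} := by
    rw [certF4.posUnipotent_eq] at hu
    exact gen_mono _ (fun r hr => Cert.mem_posList.2 hr) hu
  obtain ⟨a₁, ha₁, a₂, ha₂, rfl⟩ := certF4.split_list (A := {r | r ∉ [24, 25, 26]})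
    (L₁ := (posList tabF4).filter fun r => decide (r ∉ [24, 25, 26])) (L₂ := [24, 25, 26])
    Cert.sortedLT_posList (by decide +kernel) (by decide +kernel)
    (fun r hr hA => List.mem_filter.2 ⟨hr, decide_eq_true hA⟩) (fun r _ hA => not_not.1 hA) h0
  obtain ⟨c₀, hc₀, a₃, ha₃, rfl⟩ := certF4.split_list (A := {r | r ∉ [27, 33, 34]})
    (L₁ := ccList) (L₂ := [27, 33, 34])
    ((Cert.sortedLT_posList (T := tabF4)).pairwise.filter _).sortedLT (by decide +kernel)
    (by decide +kernel)
    (fun r hr hA => by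
      have key : ∀ r ∈ (posList tabF4).filter fun r => decide (r ∉ [24, 25, 26]),
          r ∉ [27, 33, 34] → r ∈ ccList := by decide +kernel
      exact key r hr hA)
    (fun r _ hA => not_not.1 hA) ha₁
  obtain ⟨x₁, hx₁, y₁, hy₁, rfl⟩ := certF4.split_list (A := {33}) (L₁ := ccList) (L₂ := [27, 34])
    (L := [27, 33, 34]) (by decide +kernel) (by decide +kernel) (by decide +kernel)
    (fun r _ hA => by rw [Set.mem_singleton_iff.1 hA]; decide +kernel)
    (fun r hr hA => by simp only [Set.mem_singleton_iff] at hA; simp at hr ⊢; omega) ha₃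
  obtain ⟨x₂, hx₂, y₂, hy₂, rfl⟩ := certF4.split_list (A := {24}) (L₁ := [24]) (L₂ := [25, 26])
    (L := [24, 25, 26]) (by decide +kernel) (by decide +kernel) (by decide +kernel)
    (fun r _ hA => by rw [Set.mem_singleton_iff.1 hA]; simp)
    (fun r hr hA => by simp only [Set.mem_singleton_iff] at hA; simp at hr ⊢; omega) ha₂
  obtain ⟨a, b, rfl⟩ := certF4.exists_pair (by decide +kernel) (by decide +kernel)
    (certF4.commute_of_evenComm (by decide +kernel) (by decide +kernel) (by omega)
      (by decide +kernel) (by decide +kernel)) hy₁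
  obtain ⟨x, y, rfl⟩ := certF4.exists_pair (by decide +kernel) (by decide +kernel)
    (certF4.commute_of_evenComm (by decide +kernel) (by decide +kernel) (by omega)
      (by decide +kernel) (by decide +kernel)) hy₂
  obtain ⟨z, rfl⟩ := (certF4.gen_singleton (r := 24) (by decide +kernel)).1
    (gen_mono _ (fun r hr => List.mem_singleton.1 hr) hx₂)
  have hc : Commute (X Cfsg.Lie.chevF4 27 a * X Cfsg.Lie.chevF4 34 b) (X Cfsg.Lie.chevF4 24 z) :=
    (certF4.commute_of_evenComm (by decide +kernel) (by decide +kernel) (by omega)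
      (by decide +kernel) (by decide +kernel) a z).mul_left
    (certF4.commute_of_evenComm (by decide +kernel) (by decide +kernel) (by omega)
      (by decide +kernel) (by decide +kernel) b z)
  refine ⟨c₀ * x₁ * X Cfsg.Lie.chevF4 24 z,
    mul_mem (mul_mem hc₀ hx₁) (X_mem_gen _ (by decide +kernel : 24 ∈ ccList) z), a, b, x, y, ?_⟩
  simp only [mul_assoc]
  rw [← mul_assoc (X Cfsg.Lie.chevF4 34 b), ← mul_assoc (X Cfsg.Lie.chevF4 27 a),
    ← mul_assoc (X Cfsg.Lie.chevF4 27 a) (X Cfsg.Lie.chevF4 34 b), hc.eq]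
  simp only [mul_assoc]

omit [CharP F 2] in
theorem conj_term {r s q : ℕ} (hr : r < tabF4.n) (hs : s < tabF4.n) (hne : s ≠ r)
    (hneg : s ≠ tabF4.neg r) (e : tabF4.commTerms r s = [(q, 1, 1, 1)]) (t u : F) :
    X Cfsg.Lie.chevF4 r t * X Cfsg.Lie.chevF4 s u * (X Cfsg.Lie.chevF4 r t)⁻¹ =
      X Cfsg.Lie.chevF4 s u * X Cfsg.Lie.chevF4 q (t * u) := by
  have h := certF4.X_conj hr hs hne hneg (-t) u
  rw [_root_.neg_neg, ← certF4.X_inv hr] at h
  rw [h, e]
  simp

theorem second (v : GL Cfsg.Lie.chevF4.Idx F)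
    (hv : v = X Cfsg.Lie.chevF4 39 (1 : F) * X Cfsg.Lie.chevF4 45 1) :
    Cfsg.Lie.chevF4.group F ⊓ Subgroup.centralizer {v} =
      gen Cfsg.Lie.chevF4 F {r | r ∈ ccList} := by
  have hn : ∀ r ∈ [39, 40, 44, 45, 46, 47], r < tabF4.n := by decide +kernel
  have hv' : v = prodX Cfsg.Lie.chevF4 [39, 40, 44, 45, 46, 47]
      fun r => if r ∈ [39, 45] then (1 : F) else 0 := by
    subst hv
    simp [prodX, certF4.X_zero (hn 40 (by simp)), certF4.X_zero (hn 44 (by simp)),
      certF4.X_zero (hn 46 (by simp)), certF4.X_zero (hn 47 (by simp))]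
  have hC : tabF4.chkCommSet [39, 45] ccList = true := by decide +kernel
  have hcC : ∀ g ∈ gen Cfsg.Lie.chevF4 F {r | r ∈ ccList}, Commute g v := fun g hg => by
    rw [hv']
    exact certF4.commSet_commute_prodX hC hn hg fun r _ hr => if_neg hr
  refine certF4.centralizer_commProd (by decide +kernel : tabF4.chkConjSet _ [39, 45] = true)
    (by decide +kernel) hC
    (by decide +kernel : tabF4.chkStab [39, 45] ccList [0, 3]
      (fun i a => if i = 1 then 1 else if a = 39 then 2 else 1) = true)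
    (by decide +kernel : tabF4.chkPairOrbit [39, 45] [39, 40, 44, 45, 46, 47] pairOrbitF4 = true)
    (Y := {r | r ∈ [27, 34, 25, 26]}) ?_ hv' ?_ ?_
  · have key : ∀ r ∈ [27, 34, 25, 26], (24 ≤ r ∧ r < 48) ∧
        ((List.range 4).any fun i => decide (i ∉ [0, 3] ∧ 0 < tabF4.cor r i)) = true := by
      decide +kernel
    intro r hr
    obtain ⟨hp, hi⟩ := key r hr
    obtain ⟨i, hi', h1⟩ := List.any_eq_true.1 hi
    exact ⟨hp, i, List.mem_range.1 hi', of_decide_eq_true h1⟩
  · intro u hu
    obtain ⟨c, hc, a, b, x, y, rfl⟩ := split_pos hu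
    refine ⟨c, hc, _, mul_mem (mul_mem ?_ ?_) (mul_mem ?_ ?_), rfl⟩
    all_goals exact X_mem_gen _ (by simp) _
  · intro g hg hgv
    have hU : g ∈ Cfsg.Lie.chevF4.posUnipotent F := by
      rw [certF4.posUnipotent_eq]
      exact gen_mono _ (fun r hr =>
        (by decide +kernel : ∀ r ∈ [27, 34, 25, 26], 24 ≤ r ∧ r < 48) r hr) hg
    obtain ⟨c, hc, a, b, x, y, rfl⟩ := split_pos hU
    have h1 := (hcC _ (inv_mem hc)).mul_left hgv
    rw [inv_mul_cancel_left] at h1
    have c1 : ∀ {r s : ℕ}, r < tabF4.n → s < tabF4.n → s ≠ r → s ≠ tabF4.neg r →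
        tabF4.evenComm r s = true → ∀ t u : F, X Cfsg.Lie.chevF4 r t * X Cfsg.Lie.chevF4 s u *
          (X Cfsg.Lie.chevF4 r t)⁻¹ = X Cfsg.Lie.chevF4 s u := fun hr hs h2 h3 h4 t u =>
      mul_inv_eq_of_eq_mul (certF4.commute_of_evenComm hr hs h2 h3 h4 t u).eq
    set P := MulAut.conj (X Cfsg.Lie.chevF4 27 a) with hP
    set Q := MulAut.conj (X Cfsg.Lie.chevF4 34 b) with hQ
    set R := MulAut.conj (X Cfsg.Lie.chevF4 25 x) with hR
    set S := MulAut.conj (X Cfsg.Lie.chevF4 26 y) with hS
    have h2 : P (Q (R (S v))) = v := by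
      simp only [hP, hQ, hR, hS, MulAut.conj_apply]
      refine Eq.trans ?_ (mul_inv_eq_of_eq_mul h1.eq)
      group
    have eS : S v = X Cfsg.Lie.chevF4 39 (1 : F) *
        (X Cfsg.Lie.chevF4 45 1 * X Cfsg.Lie.chevF4 47 y) := by
      subst hv
      rw [map_mul]; simp only [hS, MulAut.conj_apply]
      rw [c1 (by decide +kernel) (by decide +kernel) (by omega) (by decide +kernel)
        (by decide +kernel), conj_term (by decide +kernel) (by decide +kernel) (by omega)
        (by decide +kernel) (by decide +kernel : tabF4.commTerms 26 45 = [(47, 1, 1, 1)]), mul_one]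
    have eR : R (S v) = X Cfsg.Lie.chevF4 39 (1 : F) * (X Cfsg.Lie.chevF4 45 1 *
        X Cfsg.Lie.chevF4 46 x * X Cfsg.Lie.chevF4 47 y) := by
      rw [eS, map_mul, map_mul]; simp only [hR, MulAut.conj_apply]
      rw [c1 (by decide +kernel) (by decide +kernel) (by omega) (by decide +kernel)
        (by decide +kernel), conj_term (by decide +kernel) (by decide +kernel) (by omega)
        (by decide +kernel) (by decide +kernel : tabF4.commTerms 25 45 = [(46, 1, 1, 1)]), mul_one,
        c1 (by decide +kernel) (by decide +kernel) (by omega) (by decide +kernel)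
        (by decide +kernel)]
    have eQ : Q (R (S v)) = X Cfsg.Lie.chevF4 39 (1 : F) * X Cfsg.Lie.chevF4 44 b *
        (X Cfsg.Lie.chevF4 45 1 * X Cfsg.Lie.chevF4 46 x * X Cfsg.Lie.chevF4 47 y) := by
      rw [eR, map_mul, map_mul, map_mul]; simp only [hQ, MulAut.conj_apply]
      rw [conj_term (by decide +kernel) (by decide +kernel) (by omega)
        (by decide +kernel) (by decide +kernel : tabF4.commTerms 34 39 = [(44, 1, 1, 1)]), mul_one,
        c1 (r := 34) (s := 45) (by decide +kernel) (by decide +kernel) (by omega)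
        (by decide +kernel) (by decide +kernel),
        c1 (r := 34) (s := 46) (by decide +kernel) (by decide +kernel) (by omega)
        (by decide +kernel) (by decide +kernel),
        c1 (r := 34) (s := 47) (by decide +kernel) (by decide +kernel) (by omega)
        (by decide +kernel) (by decide +kernel)]
    have eP : P (Q (R (S v))) = X Cfsg.Lie.chevF4 39 (1 : F) * X Cfsg.Lie.chevF4 40 a *
        X Cfsg.Lie.chevF4 44 b *
        (X Cfsg.Lie.chevF4 45 1 * X Cfsg.Lie.chevF4 46 x * X Cfsg.Lie.chevF4 47 y) := by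
      rw [eQ, map_mul, map_mul, map_mul, map_mul]; simp only [hP, MulAut.conj_apply]
      rw [conj_term (by decide +kernel) (by decide +kernel) (by omega)
        (by decide +kernel) (by decide +kernel : tabF4.commTerms 27 39 = [(40, 1, 1, 1)]), mul_one,
        c1 (r := 27) (s := 44) (by decide +kernel) (by decide +kernel) (by omega)
        (by decide +kernel) (by decide +kernel),
        c1 (r := 27) (s := 45) (by decide +kernel) (by decide +kernel) (by omega)
        (by decide +kernel) (by decide +kernel),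
        c1 (r := 27) (s := 46) (by decide +kernel) (by decide +kernel) (by omega)
        (by decide +kernel) (by decide +kernel),
        c1 (r := 27) (s := 47) (by decide +kernel) (by decide +kernel) (by omega)
        (by decide +kernel) (by decide +kernel)]
    let f : ℕ → F := fun r => if r = 40 then a else if r = 44 then b else
      if r = 46 then x else if r = 47 then y else 1
    have h3 : prodX Cfsg.Lie.chevF4 [39, 40, 44, 45, 46, 47] f =
        prodX Cfsg.Lie.chevF4 [39, 40, 44, 45, 46, 47]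
          fun r => if r ∈ [39, 45] then (1 : F) else 0 := by
      rw [← hv']
      refine Eq.trans ?_ h2
      rw [eP]
      simp [prodX, f, mul_assoc]
    have h4 := certF4.prodX_inj _ (by decide +kernel)
      (fun r hr => certF4.conjSet_pos (by decide +kernel :
        tabF4.chkConjSet [39, 40, 44, 45, 46, 47] [39, 45] = true) r hr) _ _ h3
    obtain rfl : a = 0 := by simpa [f] using h4 40 (by simp)
    obtain rfl : b = 0 := by simpa [f] using h4 44 (by simp)
    obtain rfl : x = 0 := by simpa [f] using h4 46 (by simp)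
    obtain rfl : y = 0 := by simpa [f] using h4 47 (by simp)
    simpa [certF4.X_zero (show 27 < tabF4.n by decide +kernel),
      certF4.X_zero (show 34 < tabF4.n by decide +kernel),
      certF4.X_zero (show 25 < tabF4.n by decide +kernel),
      certF4.X_zero (show 26 < tabF4.n by decide +kernel)] using hc


/-- Centralizers of the two remaining classes of involutions in the Chevalley group G of type F₄ over a finite field F of characteristic two (this problem's root numbering for type F₄, from the Chevalley data module: p₁, p₂ short, p₃, p₄ long with indices 33, 27, 25, 24 and negatives 14, 20, 22, 23; U generated by the positive root subgroups). For an element of G with matrix x_47(1)x_44(1) (highest root times highest short root): its centralizer in G is generated by U, X_{−p₂} and X_{−p₃}. For an element of G with matrix x_39(1)x_45(1) (roots (1,2,2,1) and (2,4,2,1), an orthogonal short/long pair): its centralizer in G is generated by X_{p₁}, X_{−p₁}, X_{p₄}, X_{−p₄} and the root subgroups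 of all positive roots other than p₂ (27), p₃ (25), p₁ + p₂ (34) and p₃ + p₄ (26). -/
theorem result {F : Type*} [Field F] [Fintype F] [CharP F 2] (w v : GL Cfsg.Lie.chevF4.Idx F) (hw : (w : Matrix Cfsg.Lie.chevF4.Idx Cfsg.Lie.chevF4.Idx F) = Cfsg.Lie.chevF4.x F 47 1 * Cfsg.Lie.chevF4.x F 44 1) (hv : (v : Matrix Cfsg.Lie.chevF4.Idx Cfsg.Lie.chevF4.Idx F) = Cfsg.Lie.chevF4.x F 39 1 * Cfsg.Lie.chevF4.x F 45 1) :
    Cfsg.Lie.chevF4.group F ⊓ Subgroup.centralizer {w} = Cfsg.Lie.chevF4.posUnipotent F ⊔ Cfsg.Lie.chevF4.rootSubgroup F 20 ⊔ Cfsg.Lie.chevF4.rootSubgroup F 22 ∧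
    Cfsg.Lie.chevF4.group F ⊓ Subgroup.centralizer {v} = Cfsg.Lie.chevF4.rootSubgroup F 33 ⊔ Cfsg.Lie.chevF4.rootSubgroup F 14 ⊔ Cfsg.Lie.chevF4.rootSubgroup F 24 ⊔ Cfsg.Lie.chevF4.rootSubgroup F 23 ⊔
      Subgroup.closure {g : GL Cfsg.Lie.chevF4.Idx F | ∃ (r : ℕ) (c : F), Cfsg.Lie.chevF4.IsPosRoot r ∧ r ∉ [27, 25, 34, 26] ∧ (g : Matrix Cfsg.Lie.chevF4.Idx Cfsg.Lie.chevF4.Idx F) = Cfsg.Lie.chevF4.x F r c} := by
  obtain rfl : w = X Cfsg.Lie.chevF4 47 (1 : F) * X Cfsg.Lie.chevF4 44 1 :=
    Units.ext (by rw [hw, Units.val_mul, certF4.coe_X, certF4.coe_X])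
  obtain rfl : v = X Cfsg.Lie.chevF4 39 (1 : F) * X Cfsg.Lie.chevF4 45 1 :=
    Units.ext (by rw [hv, Units.val_mul, certF4.coe_X, certF4.coe_X])
  constructor
  · rw [certF4.centralizer_pair (L := [20, 22])
      (O := [0, 1, 2, 4, 5, 6, 15, 16, 17, 21, 22, 23, 24, 25, 26, 30, 31, 32, 41, 42, 43, 45, 46, 47])
      (by omega) (by decide +kernel) (by decide +kernel) (by decide +kernel) (by decide +kernel)]
    simp only [certF4.rootSubgroup_eq, certF4.posUnipotent_eq, Cert.leviGen]
    rw [← certF4.gen_union, ← certF4.gen_union,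
      show Subgroup.closure {g : GL Cfsg.Lie.chevF4.Idx F | ∃ s ∈ [20, 22], ∃ c : F,
          (g : Matrix Cfsg.Lie.chevF4.Idx Cfsg.Lie.chevF4.Idx F) = Cfsg.Lie.chevF4.x F s c} =
        gen Cfsg.Lie.chevF4 F ({20} ∪ {22}) from by
          unfold gen; congr 1; ext g
          simp [← certF4.coe_eq_iff, or_comm], ← certF4.gen_union]
    congr 1
    exact (Set.union_assoc _ _ _).symm
  · rw [second _ rfl]
    simp only [certF4.rootSubgroup_eq]
    rw [show Subgroup.closure {g : GL Cfsg.Lie.chevF4.Idx F | ∃ (r : ℕ) (c : F),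
          Cfsg.Lie.chevF4.IsPosRoot r ∧ r ∉ [27, 25, 34, 26] ∧
          (g : Matrix Cfsg.Lie.chevF4.Idx Cfsg.Lie.chevF4.Idx F) = Cfsg.Lie.chevF4.x F r c} =
        gen Cfsg.Lie.chevF4 F {r | r ∈ posSet tabF4 ∧ r ∉ [27, 25, 34, 26]} from by
          unfold gen; congr 1; ext g
          simp only [certF4.isPosRoot_iff, certF4.coe_eq_iff, Set.mem_ofPred_eq, posSet]
          exact ⟨fun ⟨r, c, h1, h2, h3⟩ => ⟨r, ⟨h1, h2⟩, c, h3⟩,
            fun ⟨r, ⟨h1, h2⟩, c, h3⟩ => ⟨r, c, h1, h2, h3⟩⟩,
      ← certF4.gen_union, ← certF4.gen_union, ← certF4.gen_union, ← certF4.gen_union]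
    congr 1
    ext r
    simp only [Set.mem_ofPred_eq, Set.mem_union, Set.mem_singleton_iff, posSet, ccList,
      List.mem_append, List.mem_cons, List.not_mem_nil, or_false, List.mem_filter, List.mem_range,
      decide_eq_true_eq, show tabF4.half = 24 from by decide +kernel,
      show tabF4.n = 48 from by decide +kernel]
    omega

end Cfsg.Agent.S2179
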