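import Cfsg.Statements.S2180
import Cfsg.Agent.Lib.Chev.CentComm
import Cfsg.Agent.Lib.Chev.All
-- import your own Cfsg.Agent.* helpers here

set_option autoImplicit false
open Cfsg

namespace Cfsg.Agent.S2180

open CfsgLib.Chev

set_option maxRecDepth 100000

variable {F : Type*} [Field F] [CharP F 2]

theorem split_pos {u : GL Cfsg.Lie.chevG2.Idx F} (hu : u ∈ Cfsg.Lie.chevG2.posUnipotent F) :
    ∃ c ∈ gen Cfsg.Lie.chevG2 F {r | r ∈ [9, 10, 11, 6, 5]}, ∃ a b : F,
      u = c * (X Cfsg.Lie.chevG2 8 b * X Cfsg.Lie.chevG2 7 a) := by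
  have h0 : u ∈ gen Cfsg.Lie.chevG2 F {r | r ∈ [6, 7, 8, 9, 10, 11]} := by
    rw [certG2.posUnipotent_eq] at hu
    refine gen_mono _ (fun r hr => ?_) hu
    have key : ∀ r < 12, 6 ≤ r → r ∈ [6, 7, 8, 9, 10, 11] := by decide
    exact key r hr.2 hr.1
  obtain ⟨c₁, hc₁, g₁, hg₁, rfl⟩ := certG2.split_list (A := {6}) (L₁ := [6])
    (L₂ := [7, 8, 9, 10, 11]) (L := [6, 7, 8, 9, 10, 11]) (by decide +kernel) (by decide +kernel)
    (by decide +kernel) (fun r _ hA => by rw [Set.mem_singleton_iff.1 hA]; simp)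
    (fun r hr hA => by simp only [Set.mem_singleton_iff] at hA; simp at hr ⊢; omega) h0
  obtain ⟨g₂, hg₂, x, hx, rfl⟩ := certG2.split_list (A := {r | r ≠ 7}) (L₁ := [8, 9, 10, 11])
    (L₂ := [7]) (L := [7, 8, 9, 10, 11]) (by decide +kernel) (by decide +kernel) (by decide +kernel)
    (fun r hr hA => by simp only [Set.mem_ofPred_eq] at hA; simp at hr ⊢; omega)
    (fun r _ hA => List.mem_singleton.2 (not_not.1 hA)) hg₁
  obtain ⟨c₂, hc₂, y, hy, rfl⟩ := certG2.split_list (A := {r | r ≠ 8}) (L₁ := [9, 10, 11])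
    (L₂ := [8]) (L := [8, 9, 10, 11]) (by decide +kernel) (by decide +kernel) (by decide +kernel)
    (fun r hr hA => by simp only [Set.mem_ofPred_eq] at hA; simp at hr ⊢; omega)
    (fun r _ hA => List.mem_singleton.2 (not_not.1 hA)) hg₂
  obtain ⟨a, rfl⟩ := (certG2.gen_singleton (r := 7) (by decide +kernel)).1
    (gen_mono _ (fun r hr => List.mem_singleton.1 hr) hx)
  obtain ⟨b, rfl⟩ := (certG2.gen_singleton (r := 8) (by decide +kernel)).1
    (gen_mono _ (fun r hr => List.mem_singleton.1 hr) hy)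
  refine ⟨c₁ * c₂, mul_mem (gen_mono _ (fun r hr => ?_) hc₁) (gen_mono _ (fun r hr => ?_) hc₂),
    a, b, by simp only [mul_assoc]⟩
  · simp at hr ⊢; omega
  · simp at hr ⊢; omega

theorem conj_term {r s q : ℕ} {m : ℤ} (hr : r < tabG2.n) (hs : s < tabG2.n) (hne : s ≠ r)
    (hneg : s ≠ tabG2.neg r) (e : tabG2.commTerms r s = [(q, m, 1, 1)]) (hm : m % 2 = 1) (t u : F) :
    X Cfsg.Lie.chevG2 r t * X Cfsg.Lie.chevG2 s u * (X Cfsg.Lie.chevG2 r t)⁻¹ =
      X Cfsg.Lie.chevG2 s u * X Cfsg.Lie.chevG2 q (t * u) := by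
  have h := certG2.X_conj hr hs hne hneg (-t) u
  rw [_root_.neg_neg, ← certG2.X_inv hr] at h
  have hm1 : (m : F) = 1 := by
    have h2 : ((m - 1 : ℤ) : F) = 0 :=
      (CharP.intCast_eq_zero_iff F 2 _).2 (Int.dvd_of_emod_eq_zero (by push_cast; omega))
    rwa [Int.cast_sub, Int.cast_one, sub_eq_zero] at h2
  rw [h, e]
  simp [hm1]

theorem second (t : GL Cfsg.Lie.chevG2.Idx F) (ht : t = X Cfsg.Lie.chevG2 9 (1 : F)) :
    Cfsg.Lie.chevG2.group F ⊓ Subgroup.centralizer {t} =
      gen Cfsg.Lie.chevG2 F {r | r ∈ [9, 10, 11, 6, 5]} := by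
  have hn : ∀ r ∈ [9, 10, 11], r < tabG2.n := by decide +kernel
  have hv' : t = prodX Cfsg.Lie.chevG2 [9, 10, 11] fun r => if r ∈ [9] then (1 : F) else 0 := by
    subst ht
    simp [prodX, certG2.X_zero (hn 10 (by simp)), certG2.X_zero (hn 11 (by simp))]
  have hC : tabG2.chkCommSet [9] [9, 10, 11, 6, 5] = true := by decide +kernel
  refine certG2.centralizer_commProd (by decide +kernel : tabG2.chkConjSet _ [9] = true)
    (by decide +kernel) hC
    (by decide +kernel : tabG2.chkStab [9] [9, 10, 11, 6, 5] [1] (fun _ _ => 1) = true)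
    (by decide +kernel : tabG2.chkPairOrbit [9] [9, 10, 11]
      [[9], [8], [7], [4], [3], [2]] = true)
    (Y := {r | r ∈ [7, 8]}) ?_ hv' ?_ ?_
  · have key : ∀ r ∈ [7, 8], (6 ≤ r ∧ r < 12) ∧ 0 < tabG2.cor r 0 := by decide +kernel
    intro r hr
    obtain ⟨hp, h1⟩ := key r hr
    exact ⟨hp, 0, (by decide +kernel : 0 < tabG2.l), by simp, h1⟩
  · intro u hu
    obtain ⟨c, hc, a, b, rfl⟩ := split_pos hu
    exact ⟨c, hc, _, mul_mem (X_mem_gen _ (by simp) _) (X_mem_gen _ (by simp) _), rfl⟩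
  · intro g hg hgv
    have hU : g ∈ Cfsg.Lie.chevG2.posUnipotent F := by
      rw [certG2.posUnipotent_eq]
      exact gen_mono _ (fun r hr => (by decide +kernel : ∀ r ∈ [7, 8], 6 ≤ r ∧ r < 12) r hr) hg
    obtain ⟨c, hc, a, b, rfl⟩ := split_pos hU
    have hcv : Commute c t := by
      rw [hv']
      exact certG2.commSet_commute_prodX hC hn hc fun r _ hr => if_neg hr
    have h1 := hcv.inv_left.mul_left hgv
    rw [inv_mul_cancel_left] at h1
    have c1 : X Cfsg.Lie.chevG2 8 b * X Cfsg.Lie.chevG2 10 a * (X Cfsg.Lie.chevG2 8 b)⁻¹ =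
        X Cfsg.Lie.chevG2 10 a := mul_inv_eq_of_eq_mul (certG2.commute_of_evenComm
          (by decide +kernel) (by decide +kernel) (by omega) (by decide +kernel)
          (by decide +kernel) b a).eq
    set P := MulAut.conj (X Cfsg.Lie.chevG2 8 b) with hP
    set Q := MulAut.conj (X Cfsg.Lie.chevG2 7 a) with hQ
    have h2 : P (Q t) = t := by
      simp only [hP, hQ, MulAut.conj_apply]
      refine Eq.trans ?_ (mul_inv_eq_of_eq_mul h1.eq)
      group
    have eP : P (Q t) = X Cfsg.Lie.chevG2 9 (1 : F) * X Cfsg.Lie.chevG2 11 b *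
        X Cfsg.Lie.chevG2 10 a := by
      subst ht
      simp only [hQ, MulAut.conj_apply]
      rw [conj_term (by decide +kernel) (by decide +kernel) (by omega) (by decide +kernel)
        (by decide +kernel : tabG2.commTerms 7 9 = [(10, 3, 1, 1)]) (by decide), mul_one, map_mul]
      simp only [hP, MulAut.conj_apply]
      rw [c1, conj_term (by decide +kernel) (by decide +kernel) (by omega) (by decide +kernel)
        (by decide +kernel : tabG2.commTerms 8 9 = [(11, 3, 1, 1)]) (by decide), mul_one]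
    let f : ℕ → F := fun r => if r = 10 then a else if r = 11 then b else 1
    have h3 : prodX Cfsg.Lie.chevG2 [9, 10, 11] f =
        prodX Cfsg.Lie.chevG2 [9, 10, 11] fun r => if r ∈ [9] then (1 : F) else 0 := by
      rw [← hv']
      refine Eq.trans ?_ h2
      rw [eP, mul_assoc, (certG2.commute_of_evenComm (r := 11) (s := 10) (by decide +kernel)
        (by decide +kernel) (by omega) (by decide +kernel) (by decide +kernel) b a).eq]
      simp [prodX, f, mul_assoc]
    have h4 := certG2.prodX_inj _ (by decide +kernel)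
      (fun r hr => certG2.conjSet_pos (by decide +kernel :
        tabG2.chkConjSet [9, 10, 11] [9] = true) r hr) _ _ h3
    obtain rfl : a = 0 := by simpa [f] using h4 10 (by simp)
    obtain rfl : b = 0 := by simpa [f] using h4 11 (by simp)
    simpa [certG2.X_zero (show 7 < tabG2.n by decide +kernel),
      certG2.X_zero (show 8 < tabG2.n by decide +kernel)] using hc


/-- Centralizers of involutions in the Chevalley group G of type G₂ over a finite field F of characteristic two with at least four elements (this problem's root numbering for type G₂, from the Chevalley data module: a = p₁ short with index 7, b = p₂ long with index 6, −a = 4, −b = 5, 2a + b = 9, 3a + b = 10, 3a + 2b = 11; U generated by the positive root subgroups). For an element z of G with matrix x_{3a+2b}(1): the centralizer of z in G is generated by U and X_{−a}. For an element t of G with matrix x_{2a+b}(1): the centralizer of t in G is generated by X_{2a+b}, X_{3a+b}, X_{3a+2b}, X_b and X_{−b}.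 -/
theorem result {F : Type*} [Field F] [Fintype F] [CharP F 2] (hF : 4 ≤ Fintype.card F) (z t : GL Cfsg.Lie.chevG2.Idx F) (hz : (z : Matrix Cfsg.Lie.chevG2.Idx Cfsg.Lie.chevG2.Idx F) = Cfsg.Lie.chevG2.x F 11 1) (ht : (t : Matrix Cfsg.Lie.chevG2.Idx Cfsg.Lie.chevG2.Idx F) = Cfsg.Lie.chevG2.x F 9 1) :
    Cfsg.Lie.chevG2.group F ⊓ Subgroup.centralizer {z} = Cfsg.Lie.chevG2.posUnipotent F ⊔ Cfsg.Lie.chevG2.rootSubgroup F 4 ∧
    Cfsg.Lie.chevG2.group F ⊓ Subgroup.centralizer {t} = Cfsg.Lie.chevG2.rootSubgroup F 9 ⊔ Cfsg.Lie.chevG2.rootSubgroup F 10 ⊔ Cfsg.Lie.chevG2.rootSubgroup F 11 ⊔ Cfsg.Lie.chevG2.rootSubgroup F 6 ⊔ Cfsg.Lie.chevG2.rootSubgroup F 5 := by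
  obtain rfl := certG2.coe_eq_iff.1 hz
  obtain rfl := certG2.coe_eq_iff.1 ht
  constructor
  · rw [certG2.centralizer_X (L := [4]) (by decide +kernel)]
    simp only [certG2.rootSubgroup_eq, certG2.posUnipotent_eq, Cert.leviGen]
    congr 1
    unfold gen
    congr 1
    ext g
    simp [← certG2.coe_eq_iff]
  · rw [second _ rfl]
    simp only [certG2.rootSubgroup_eq]
    rw [← certG2.gen_union, ← certG2.gen_union, ← certG2.gen_union, ← certG2.gen_union]
    congr 1
    ext r
    simp only [Set.mem_ofPred_eq, Set.mem_union, Set.mem_singleton_iff, List.mem_cons,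
      List.not_mem_nil, or_false]
    omega

end Cfsg.Agent.S2180
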