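import Cfsg.Statements.S2181
import Cfsg.Agent.Lib.Chev.InvolCheckE7
-- import your own Cfsg.Agent.* helpers here

set_option autoImplicit false
open Cfsg

namespace Cfsg.Agent.S2181

open CfsgLib.Chev

/-- The Chevalley group of type E₇ over a finite field of characteristic two (the matrix group generated by the root elements) has exactly five conjugacy classes of elements of order 2. -/
theorem result {F : Type*} [Field F] [Fintype F] [CharP F 2] :
    (ConjClasses.mk '' {g : ↥(Cfsg.Lie.chevE7.group F) | orderOf g = 2}).ncard = 5 := by
  exact certE7.ncard_classes_of_cert (tg := [[63, 92, 125], [78, 87, 92, 125], [87, 92, 125], [92, 125], [125]])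
    [53, 63, 62, 52, 34] rfl (by decide +kernel) (by decide +kernel) (tgl := invE7Tg) rfl invE7_rel
    invE7_chk (r := 640) (by omega) invE7_root

end Cfsg.Agent.S2181
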