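import Cfsg.Statements.S2182
import Cfsg.Agent.Lib.Chev.InvolTwistCheckE6
-- import your own Cfsg.Agent.* helpers here

set_option autoImplicit false
open Cfsg

namespace Cfsg.Agent.S2182

open CfsgLib.Chev

theorem signs : ((List.range tabE6.n).all fun r =>
    decide (twistE6.ep r % 2 = 1 ∧ twistE6.dg r = 1)) = true := by
  decide +kernel

theorem tau {K : Type*} [Field K] [Fintype K] [CharP K 2] (f : K →+* K) :
    ∀ r < tabE6.n, ∀ t, (endoE6 f).τ r t = f t := by
  intro r hr t
  have h1 := signs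
  simp only [List.all_eq_true, List.mem_range, decide_eq_true_eq] at h1
  show (twistE6.ep r : K) * f t ^ twistE6.dg r = f t
  rw [intCast_odd, if_pos (h1 r hr).1, (h1 r hr).2, one_mul, pow_one]

/-- The twisted group ²E₆(q), q even, realised inside the Chevalley group of type E₆ over the field K with q² elements, has exactly three conjugacy classes of elements of order 2. -/
theorem result {K : Type*} [Field K] [Fintype K] [CharP K 2] (q : ℕ) (hK : Fintype.card K = q ^ 2) :
    (ConjClasses.mk '' {g : ↥(Cfsg.Lie.twistedE6 K q) | orderOf g = 2}).ncard = 3 := by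
  obtain ⟨n, hn, hq2, hq⟩ := exists_two_pow_of_card two_ne_zero hK
  obtain ⟨f, hf⟩ := exists_frob hq hK
  rw [← fix_eq_twistedE6 f hf hK hq]
  refine (endoE6 f).ncard_invol_of_cert (fieldTwist_of_pow _ (Or.inl rfl) hq.two_le hK hf (tau f))
    (k := n * 36) (g := Nat.gcd 3 (q + 1))
    (M := (q ^ 2 - 1) * (q ^ 5 + 1) * (q ^ 6 - 1) * (q ^ 8 - 1) * (q ^ 9 + 1) * (q ^ 12 - 1))
    ?_ ?_ ?_ (tg := [[39], [36, 56], [36, 39, 56]]) [22, 32, 38] rfl (by decide) ?_ (tgl := twE6Tg) rfl
    (st := twE6Tree.get) (n := 692) twE6_chk (r := 691) (by omega) twE6_root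
  · rw [card_posE6 f hf hK hq, hq2, ← pow_mul]
  · have h2 : ∀ k, k ≠ 0 → 2 ∣ q ^ k := fun k hk =>
      (show 2 ∣ q by rw [hq2]; exact dvd_pow_self 2 (by omega)).trans (dvd_pow_self q hk)
    have h1 : ∀ k, k ≠ 0 → ¬ 2 ∣ q ^ k - 1 := fun k hk hd => by
      have := h2 k hk
      have : 1 ≤ q ^ k := Nat.one_le_pow _ _ (by have := hq.two_le; omega)
      omega
    have h3 : ∀ k, k ≠ 0 → ¬ 2 ∣ q ^ k + 1 := fun k hk hd => by
      have := h2 k hk
      omega
    exact Nat.Prime.not_dvd_mul Nat.prime_two (Nat.Prime.not_dvd_mul Nat.prime_two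
      (Nat.Prime.not_dvd_mul Nat.prime_two (Nat.Prime.not_dvd_mul Nat.prime_two
        (Nat.Prime.not_dvd_mul Nat.prime_two (h1 2 two_ne_zero) (h3 5 (by norm_num)))
        (h1 6 (by norm_num))) (h1 8 (by norm_num))) (h3 9 (by norm_num))) (h1 12 (by norm_num))
  · rw [card_twistE6 f hf hK hq, hq2]; ring
  · exact (by decide +kernel :
      ((List.range ([[39], [36, 56], [36, 39, 56]] : List (List ℕ)).length).all fun i =>
      tabE6.chkTarget (([[39], [36, 56], [36, 39, 56]] : List (List ℕ)).getD i [])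
          (([22, 32, 38] : List ℕ).getD i 0) &&
        decide (((([[39], [36, 56], [36, 39, 56]] : List (List ℕ)).getD i []).map twistE6.rt).Perm
          (([[39], [36, 56], [36, 39, 56]] : List (List ℕ)).getD i []))) = true)

end Cfsg.Agent.S2182
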