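import Cfsg.Statements.S2183
import Cfsg.Agent.Lib.Chev.InvolTwistCheckD4
-- import your own Cfsg.Agent.* helpers here

set_option autoImplicit false
open Cfsg

namespace Cfsg.Agent.S2183

open CfsgLib.Chev

theorem signs : ((List.range tabD4.n).all fun r =>
    decide (twistD4a.ep r % 2 = 1 ∧ twistD4a.dg r = 1)) = true := by
  decide +kernel

theorem tau {K : Type*} [Field K] [Fintype K] [CharP K 2] (f : K →+* K) :
    ∀ r < tabD4.n, ∀ t, (endoD4 f).τ r t = f t := by
  intro r hr t
  have h1 := signs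
  simp only [List.all_eq_true, List.mem_range, decide_eq_true_eq] at h1
  show (twistD4a.ep r : K) * f t ^ twistD4a.dg r = f t
  rw [intCast_odd, if_pos (h1 r hr).1, (h1 r hr).2, one_mul, pow_one]

/-- The twisted group ³D₄(q), q even, realised inside the Chevalley group of type D₄ over the field K with q³ elements, has exactly two conjugacy classes of elements of order 2. -/
theorem result {K : Type*} [Field K] [Fintype K] [CharP K 2] (q : ℕ) (hK : Fintype.card K = q ^ 3) :
    (ConjClasses.mk '' {g : ↥(Cfsg.Lie.twistedD4 K q) | orderOf g = 2}).ncard = 2 := by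
  obtain ⟨n, hn, hq2, hq⟩ := exists_two_pow_of_card three_ne_zero hK
  obtain ⟨f, hf⟩ := exists_frob hq hK
  rw [← fix_eq_twistedD4 f hf hK hq]
  refine (endoD4 f).ncard_invol_of_cert (fieldTwist_of_pow _ (Or.inr rfl) hq.two_le hK hf (tau f))
    (k := n * 12) (g := 1) (M := (q ^ 2 - 1) * (q ^ 6 - 1) * (q ^ 8 + q ^ 4 + 1)) ?_ ?_ ?_
    (tg := [[14], [12, 13, 18]]) [10, 12] rfl (by decide) ?_ (tgl := twD4Tg) rfl
    (st := twD4Tree.get) (n := 31) twD4_chk (r := 30) (by omega) twD4_root
  · rw [card_posD4 f hf hK hq, hq2, ← pow_mul]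
  · have he : Even q := by rw [hq2, Nat.even_pow]; exact ⟨even_two, by omega⟩
    have h1 : ∀ k, k ≠ 0 → ¬ 2 ∣ q ^ k - 1 := fun k hk hd => by
      have h2 : 2 ∣ q ^ k := (even_iff_two_dvd.1 he).trans (dvd_pow_self q hk)
      have : 1 ≤ q ^ k := Nat.one_le_pow _ _ (by have := hq.two_le; omega)
      omega
    have h3 : ¬ 2 ∣ q ^ 8 + q ^ 4 + 1 := fun hd => by
      have h2 : ∀ k, k ≠ 0 → 2 ∣ q ^ k := fun k hk =>
        (even_iff_two_dvd.1 he).trans (dvd_pow_self q hk)
      have := h2 8 (by norm_num)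
      have := h2 4 (by norm_num)
      omega
    exact Nat.Prime.not_dvd_mul Nat.prime_two
      (Nat.Prime.not_dvd_mul Nat.prime_two (h1 2 two_ne_zero) (h1 6 (by norm_num))) h3
  · rw [one_mul, card_twistD4 f hf hK hq, hq2]; ring
  · exact (by decide +kernel : ((List.range ([[14], [12, 13, 18]] : List (List ℕ)).length).all fun i =>
      tabD4.chkTarget (([[14], [12, 13, 18]] : List (List ℕ)).getD i []) (([10, 12] : List ℕ).getD i 0) &&
        decide (((([[14], [12, 13, 18]] : List (List ℕ)).getD i []).map twistD4a.rt).Perm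
          (([[14], [12, 13, 18]] : List (List ℕ)).getD i []))) = true)

end Cfsg.Agent.S2183
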