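import Cfsg.Statements.S2189
import Cfsg.Agent.Lib.Chev.SubfieldAlgMain

set_option autoImplicit false
open Cfsg CfsgLib.Chev

namespace Cfsg.Agent.S2189

/-- Finite subgroups of an adjoint Chevalley group over an algebraically closed field that contain the group over a finite subfield. Let k be an algebraically closed field of prime characteristic p, G the Chevalley group of type G₂, B₂, D₄, F₄, E₆, E₇ or E₈ over k (the matrix group generated by the root elements x_s(t), t ∈ k), and q = p^a with a ≥ 1. Let L be the subgroup generated by the root elements x_s(t) with t^q = t (the Chevalley group over the field of q elements inside G), and let M be a finite subgroup of G containing L. Then for some r ≥ 1, M contains every root element x_s(t) with t^(q^r) = t and every element of M is a matrix all of whose entries c satisfy c^(q^r) = c (so M lies between the Chevalley group over the field with q^r elements and the group of points of G fixed by the q^r-th power map). -/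
theorem result {k : Type*} [Field k] [IsAlgClosed k] (p : ℕ) [Fact p.Prime] [CharP k p] (D : Cfsg.Lie.ChevalleyDatum) (hD : D ∈ [Cfsg.Lie.chevG2, Cfsg.Lie.chevB2, Cfsg.Lie.chevD4, Cfsg.Lie.chevF4, Cfsg.Lie.chevE6, Cfsg.Lie.chevE7, Cfsg.Lie.chevE8]) (a : ℕ) (ha : 1 ≤ a) (M : Subgroup (GL D.Idx k)) (hMfin : Finite ↥M) (hMG : M ≤ D.group k)
    (hLM : Subgroup.closure {g : GL D.Idx k | ∃ (s : ℕ) (t : k), t ^ (p ^ a) = t ∧ (g : Matrix D.Idx D.Idx k) = D.x k s t} ≤ M) :
    ∃ r : ℕ, 1 ≤ r ∧ Subgroup.closure {g : GL D.Idx k | ∃ (s : ℕ) (t : k), t ^ ((p ^ a) ^ r) = t ∧ (g : Matrix D.Idx D.Idx k) = D.x k s t} ≤ M ∧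
      ∀ g ∈ M, ∀ i j : D.Idx, ((g : Matrix D.Idx D.Idx k) i j) ^ ((p ^ a) ^ r) = (g : Matrix D.Idx D.Idx k) i j := by
  classical
  haveI := hMfin
  obtain ⟨T, C, hm⟩ := exists_finData (K := k) p hD
  have h := hm.cert
  let k₁ : Subfield k := RingHom.eqLocusField (iterateFrobenius k p a) (RingHom.id k)
  have hk₁ : ∀ t : k, t ∈ k₁ ↔ t ^ (p ^ a) = t := fun t => Iff.rfl
  have hcard₁ : Nat.card k₁ = p ^ a := SubfieldStep.card_fixedField p (by omega)
  obtain ⟨k₀, hfin, h10, hX, hfix⟩ := hm.overgroup hMG (k₁ := k₁) fun s _ t ht =>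
    hLM (Subgroup.subset_closure ⟨s, t, (hk₁ t).1 ht, h.coe_X s t⟩)
  haveI := hfin
  obtain ⟨r, hr⟩ := SubfieldStep.exists_pow_card h10
  rw [hcard₁] at hr
  have hmem : ∀ t : k, t ∈ k₀ ↔ t ^ ((p ^ a) ^ r) = t := fun t => by
    rw [SubfieldStep.mem_iff_pow_card k₀, hr]
  refine ⟨r, Nat.pos_of_ne_zero fun e => ?_, (Subgroup.closure_le _).2 ?_, fun g hg i j => ?_⟩
  · rw [e, pow_zero] at hr
    have := Finite.one_lt_card (α := k₀)
    omega
  · rintro g ⟨s, t, ht, hgst⟩
    rcases lt_or_ge s T.n with hs | hs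
    · rw [show g = X D s t from Units.ext (hgst.trans (h.coe_X s t).symm)]
      exact hX s hs t ((hmem t).2 ht)
    · rw [show g = 1 from Units.ext (by rw [hgst, x_of_le h.agrees hs, Units.val_one])]
      exact one_mem M
  · have hσ : ∀ x : k, x ∈ k₀ ↔ iterateFrobenius k p (a * r) x = x := fun x => by
      rw [hmem, iterateFrobenius_def, pow_mul]
    have h1 := (mapGL_eq_self_iff D _ g).1 (hfix _ hσ g hg) i j
    rwa [iterateFrobenius_def, pow_mul] at h1

end Cfsg.Agent.S2189
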