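import Cfsg.Statements.S2190
import Cfsg.Agent.Lib.Chev.SubfieldMain

set_option autoImplicit false
open Cfsg CfsgLib.Chev

namespace Cfsg.Agent.S2190

/-- Subfield subgroups of prime degree are maximal. Let K be a finite field with q^r elements, r a prime, q a power of the characteristic, and G the Chevalley group of type G₂, B₂, D₄, F₄, E₆, E₇ or E₈ over K (the matrix group generated by the root elements). Let M be the subgroup of G consisting of the matrices all of whose entries lie in the subfield with q elements (entries c with c^q = c). Then M is a proper subgroup of G and is maximal: every subgroup of G containing M is M or G. -/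
theorem result {K : Type*} [Field K] [Fintype K] (p : ℕ) [Fact p.Prime] [CharP K p] (D : Cfsg.Lie.ChevalleyDatum) (hD : D ∈ [Cfsg.Lie.chevG2, Cfsg.Lie.chevB2, Cfsg.Lie.chevD4, Cfsg.Lie.chevF4, Cfsg.Lie.chevE6, Cfsg.Lie.chevE7, Cfsg.Lie.chevE8]) (a r : ℕ) (ha : 1 ≤ a) (hr : r.Prime) (hK : Fintype.card K = (p ^ a) ^ r) (M : Subgroup (GL D.Idx K))
    (hM : ∀ g : GL D.Idx K, g ∈ M ↔ g ∈ D.group K ∧ ∀ i j : D.Idx, ((g : Matrix D.Idx D.Idx K) i j) ^ (p ^ a) = (g : Matrix D.Idx D.Idx K) i j) :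
    M ≠ D.group K ∧ ∀ H : Subgroup (GL D.Idx K), M ≤ H → H ≤ D.group K → H = M ∨ H = D.group K := by
  classical
  obtain ⟨T, C, hm⟩ := exists_maxData (K := K) hD
  let σ : K →+* K := iterateFrobenius K p a
  have hσ : ∀ x : K, σ x = x ^ (p ^ a) := fun x => iterateFrobenius_def p a x
  let k : Subfield K := RingHom.eqLocusField σ (RingHom.id K)
  have hk : ∀ x : K, x ∈ k ↔ σ x = x := fun x => Iff.rfl
  have hfix : ∀ g : GL D.Idx K, g ∈ M ↔ g ∈ D.group K ∧ mapGL D σ g = g := by
    intro g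
    rw [hM, mapGL_eq_self_iff]
    simp only [hσ]
  obtain ⟨hcard, hmax⟩ := maxSub_powerField ha hr hK (k := k) fun x => by rw [hk, hσ]
  refine ⟨fun hMG => ?_, fun H hMH hHG => ?_⟩
  · have hne : k ≠ ⊤ := fun e => by
      have h1 : Nat.card k = Nat.card K := by
        rw [e]; exact Nat.card_congr (Equiv.Set.univ K)
      rw [hcard, Nat.card_eq_fintype_card, hK] at h1
      have hq : 1 < p ^ a := Nat.one_lt_pow (by omega) (Fact.out : p.Prime).one_lt
      exact (lt_self_pow₀ hq hr.one_lt).ne h1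
    obtain ⟨c, hc⟩ : ∃ c, c ∉ k := by
      by_contra hall
      exact hne (eq_top_iff.2 fun x _ => not_not.1 fun hx => hall ⟨x, hx⟩)
    obtain ⟨g, hg, hgf⟩ := hm.exists_not_fixed (σ := σ) (c := c) fun e => hc ((hk c).2 e)
    exact hgf ((hfix g).1 (hMG ▸ hg)).2
  · have hb : Between D σ k H :=
      ⟨hk, hHG, fun g hg e => hMH ((hfix g).2 ⟨hg, e⟩)⟩
    rcases hm.eq_or_eq hmax hb with e | e
    · exact Or.inl (le_antisymm (fun g hg => (hfix g).2 ⟨hHG hg, e g hg⟩) hMH)
    · exact Or.inr e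

end Cfsg.Agent.S2190
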