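import Cfsg.Statements.S2202
import Cfsg.Agent.Lib.Invol.AICSplit

set_option autoImplicit false
open Cfsg

namespace Cfsg.Agent.S2202

/-- Finite groups in which the centralizer of every involution is abelian. Let G be a finite group of even order in which the centralizer of every element of order 2 is abelian. Then the Sylow 2-subgroups of G are cyclic, or a Sylow 2-subgroup of G is normal, or G is isomorphic to the direct product of SL₂(F) for a finite field F of characteristic two and an abelian group of odd order. -/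
theorem result {G : Type*} [Group G] [Finite G] (heven : Even (Nat.card G)) (h : ∀ t : G, orderOf t = 2 → IsMulCommutative ↥(Subgroup.centralizer ({t} : Set G))) :
    (∀ P : Sylow 2 G, IsCyclic ↥P) ∨ (∀ P : Sylow 2 G, (P : Subgroup G).Normal) ∨
    (∃ (F : Type) (_ : Field F) (_ : Fintype F) (A : Type) (_ : CommGroup A) (_ : Finite A), CharP F 2 ∧ Odd (Nat.card A) ∧ Nonempty (G ≃* Matrix.SpecialLinearGroup (Fin 2) F × A)) := by
  classical
  by_cases hc : ∀ P : Sylow 2 G, IsCyclic ↥P
  · exact Or.inl hc
  by_cases hn : ∀ P : Sylow 2 G, (P : Subgroup G).Normal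
  · exact Or.inr (Or.inl hn)
  refine Or.inr (Or.inr (CfsgLib.Invol.AIC.IsOddCover.split ?_))
  push Not at hc hn
  obtain ⟨T, hT⟩ := hc
  obtain ⟨T', hT'⟩ := hn
  have : Fact (Nat.Prime 2) := ⟨Nat.prime_two⟩
  refine CfsgLib.Invol.AIC.isOddCover (fun t a b ht ht1 ha hb => ?_) T hT fun hN => hT' ?_
  · have hmem : ∀ c, Commute c t → c ∈ Subgroup.centralizer ({t} : Set G) := fun c hc =>
      Subgroup.mem_centralizer_singleton_iff.2 hc
    exact congrArg Subtype.val ((h t (CfsgLib.Invol.CASimple.involution_iff.2 ⟨ht, ht1⟩)).is_comm.comm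
      ⟨a, hmem a ha⟩ ⟨b, hmem b hb⟩)
  · have := Sylow.unique_of_normal T hN
    rw [Subsingleton.elim T' T]
    exact hN

end Cfsg.Agent.S2202
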