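import Cfsg.Statements.S2212
import Cfsg.Agent.Lib.UThreeCent.Model
import Cfsg.Agent.Lib.SUPres.Three

set_option autoImplicit false
open Cfsg

namespace Cfsg.Agent.S2212

/-- Characterization of the three-dimensional projective unitary groups over finite fields of characteristic two by the centralizer of an involution. Let q = 2^n > 2 and let PGU₃(q) be the quotient of the full unitary group of a non-degenerate Hermitian form in three variables over the field with q² elements by its centre. Let G be a finite group of even order in which all involutions are conjugate, the centralizer of an involution is isomorphic to the centralizer of an involution in PGU₃(q), and a Sylow 2-subgroup is not normal. Then G ≅ PGU₃(q). -/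
theorem result {G : Type*} [Group G] [Finite G] {F : Type*} [Field F] [Fintype F] [CharP F 2] (q : ℕ) (hq : 2 < q) (hF : Fintype.card F = q ^ 2)
    (heven : Even (Nat.card G)) (hconj : ∀ s t : G, orderOf s = 2 → orderOf t = 2 → IsConj s t)
    (hC : ∀ (x : G) (y : (↥(Cfsg.GU 3 F q) ⧸ Subgroup.center ↥(Cfsg.GU 3 F q))), orderOf x = 2 → orderOf y = 2 →
      Nonempty (↥(Subgroup.centralizer ({x} : Set G)) ≃* ↥(Subgroup.centralizer ({y} : Set (↥(Cfsg.GU 3 F q) ⧸ Subgroup.center ↥(Cfsg.GU 3 F q))))))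
    (hS : ∀ P : Sylow 2 G, ¬ (P : Subgroup G).Normal) :
    Nonempty (G ≃* (↥(Cfsg.GU 3 F q) ⧸ Subgroup.center ↥(Cfsg.GU 3 F q))) := by
  classical
  obtain ⟨K⟩ := CfsgLib.SUPres.exists_conj_of_card hF
  obtain ⟨ψ₀, τ₀, L₀⟩ := CfsgLib.UThreeCent.exists_loc_model K (by omega)
  obtain ⟨e₁⟩ := L₀.equiv_std
  haveI : Fact (Nat.Prime 2) := ⟨Nat.prime_two⟩
  obtain ⟨x, hx⟩ := exists_prime_orderOf_dvd_card' (G := G) 2 (even_iff_two_dvd.mp heven)
  have hy : orderOf (ψ₀ (CfsgLib.UThreeCent.ez K)) = 2 :=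
    orderOf_eq_prime (by rw [pow_two]; exact L₀.zp_sq (map_one K.bar))
      (L₀.zp_ne (map_one K.bar) one_ne_zero)
  obtain ⟨e⟩ := hC x _ hx hy
  have hxC : x ∈ Subgroup.centralizer ({x} : Set G) :=
    Subgroup.mem_centralizer_singleton_iff.mpr rfl
  have hxx : x * x = 1 := by rw [← pow_two, ← hx, pow_orderOf_eq_one]
  obtain ⟨u, hu⟩ := L₀.twoC (g := (e ⟨x, hxC⟩ : _)) (e ⟨x, hxC⟩).2 (k := 1) (by
    rw [pow_one, pow_two, ← Subgroup.coe_mul, ← map_mul,
      show (⟨x, hxC⟩ * ⟨x, hxC⟩ : Subgroup.centralizer ({x} : Set G)) = 1 from Subtype.ext hxx,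
      map_one, Subgroup.coe_one])
  have hu1 : u.1.1 = 0 := L₀.ψ_sq.mp (by
    rw [← hu, ← Subgroup.coe_mul, ← map_mul,
      show (⟨x, hxC⟩ * ⟨x, hxC⟩ : Subgroup.centralizer ({x} : Set G)) = 1 from Subtype.ext hxx,
      map_one, Subgroup.coe_one])
  have hu0 : u.1.2 ≠ 0 := CfsgLib.UThreeCent.snd_ne u fun h => by
    rw [h, L₀.ψ_one, ← Subgroup.coe_one, Subtype.coe_inj, e.map_eq_one_iff] at hu
    rw [show x = 1 from congrArg Subtype.val hu, orderOf_one] at hx
    omega
  obtain ⟨l, hl, hll⟩ := CfsgLib.UThreeCent.exists_sqrt K (CfsgLib.UThreeCent.bar_snd_of_fst u hu1)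
  have hl0 : l ≠ 0 := fun h => hu0 (by rw [← hll, h, mul_zero])
  let ψ₁ : CfsgLib.Classical.URoot.Par K → G := fun z =>
    (e.symm ⟨ψ₀ (CfsgLib.UThreeCent.scl K l z), L₀.ψ_mem_C _⟩ : G)
  let τ₁ : F → G := fun c =>
    if h : CfsgLib.UThreeCent.Mu K c then (e.symm ⟨τ₀ c, L₀.τ_mem_C h⟩ : G) else 1
  have hτ₁ : ∀ c (h : CfsgLib.UThreeCent.Mu K c), τ₁ c = (e.symm ⟨τ₀ c, L₀.τ_mem_C h⟩ : G) :=
    fun c h => dif_pos h
  have hscl : ∀ z, ∃ z', CfsgLib.UThreeCent.scl K l z' = z := fun z =>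
    ⟨CfsgLib.UThreeCent.scl K l⁻¹ z, by
      rw [CfsgLib.UThreeCent.scl_scl, mul_inv_cancel₀ hl0, CfsgLib.UThreeCent.scl_one]⟩
  have hψ₁x : ψ₁ (CfsgLib.UThreeCent.ez K) = x := by
    have h1 : CfsgLib.UThreeCent.scl K l (CfsgLib.UThreeCent.ez K) = u :=
      CfsgLib.UThreeCent.par_ext (by simp [hu1]) (by simp [hl, hll])
    show (e.symm ⟨ψ₀ _, _⟩ : G) = x
    have h2 : (⟨ψ₀ (CfsgLib.UThreeCent.scl K l (CfsgLib.UThreeCent.ez K)), L₀.ψ_mem_C _⟩ :
        Subgroup.centralizer _) = e ⟨x, hxC⟩ := Subtype.ext (by rw [hu, h1])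
    exact congrArg Subtype.val (e.symm_apply_eq.mpr h2)
  have htwo : ∀ g, g * x = x * g → ∀ k : ℕ, g ^ 2 ^ k = 1 → ∃ z, g = ψ₁ z := by
    intro g hg k hk
    have hgC : g ∈ Subgroup.centralizer ({x} : Set G) :=
      Subgroup.mem_centralizer_singleton_iff.mpr hg
    obtain ⟨z, hz⟩ := L₀.twoC (g := (e ⟨g, hgC⟩ : _)) (e ⟨g, hgC⟩).2 (k := k) (by
      rw [← Subgroup.coe_pow, ← map_pow,
        show (⟨g, hgC⟩ ^ 2 ^ k : Subgroup.centralizer ({x} : Set G)) = 1 from Subtype.ext hk,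
        map_one, Subgroup.coe_one])
    obtain ⟨z', rfl⟩ := hscl z
    refine ⟨z', ?_⟩
    show g = (e.symm ⟨ψ₀ _, _⟩ : G)
    rw [show (⟨ψ₀ (CfsgLib.UThreeCent.scl K l z'), L₀.ψ_mem_C _⟩ : Subgroup.centralizer _) =
      e ⟨g, hgC⟩ from Subtype.ext hz.symm, e.symm_apply_apply]
  have hmul : ∀ y z, ψ₁ y * ψ₁ z = ψ₁ (CfsgLib.Classical.URoot.pmul K y z) := by
    intro y z
    simp only [ψ₁, ← Subgroup.coe_mul, ← map_mul]
    refine congrArg (fun w => ((e.symm w) : G)) (Subtype.ext ?_)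
    show ψ₀ _ * ψ₀ _ = ψ₀ _
    rw [L₀.ψ_mul, CfsgLib.UThreeCent.scl_pmul]
  have L : CfsgLib.UThreeCent.Loc K ψ₁ τ₁ := by
    refine ⟨hmul, fun y z h => ?_, fun c d hc hd => ?_, fun c hc z => ?_, fun c z hc h => ?_,
      fun g => ?_, fun t ht ht1 => ?_, ?_, by omega⟩
    · exact CfsgLib.UThreeCent.scl_inj hl0
        (L₀.ψ_inj (congrArg Subtype.val (e.symm.injective (Subtype.ext h))))
    · rw [hτ₁ c hc, hτ₁ d hd, hτ₁ _ (hc.mul hd), ← Subgroup.coe_mul, ← map_mul]
      exact congrArg (fun w => ((e.symm w) : G)) (Subtype.ext (L₀.τ_mul c d hc hd))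
    · rw [hτ₁ c hc]
      simp only [ψ₁, ← Subgroup.coe_inv, ← Subgroup.coe_mul, ← map_inv, ← map_mul]
      refine congrArg (fun w => ((e.symm w) : G)) (Subtype.ext ?_)
      show τ₀ c * ψ₀ _ * (τ₀ c)⁻¹ = ψ₀ _
      rw [L₀.τ_conj c hc, CfsgLib.UThreeCent.scl_scl, CfsgLib.UThreeCent.scl_scl, mul_comm]
    · rw [hτ₁ c hc] at h
      exact L₀.τ_sep c _ hc (congrArg Subtype.val (e.symm.injective (Subtype.ext h)))
    · rw [hψ₁x]
      constructor
      · intro hg
        have hgC : g ∈ Subgroup.centralizer ({x} : Set G) :=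
          Subgroup.mem_centralizer_singleton_iff.mpr hg
        obtain ⟨z, c, hc, hz⟩ := L₀.mem_C.mp (e ⟨g, hgC⟩).2
        obtain ⟨z', rfl⟩ := hscl z
        refine ⟨z', c, hc, ?_⟩
        rw [hτ₁ c hc]
        simp only [ψ₁, ← Subgroup.coe_mul, ← map_mul]
        rw [show (⟨ψ₀ (CfsgLib.UThreeCent.scl K l z'), L₀.ψ_mem_C _⟩ * ⟨τ₀ c, L₀.τ_mem_C hc⟩ :
          Subgroup.centralizer _) = e ⟨g, hgC⟩ from Subtype.ext hz.symm, e.symm_apply_apply]
      · rintro ⟨z, c, hc, rfl⟩
        rw [hτ₁ c hc]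
        simp only [ψ₁, ← Subgroup.coe_mul]
        exact Subgroup.mem_centralizer_singleton_iff.mp (SetLike.coe_mem _)
    · rw [hψ₁x]
      exact isConj_iff.mp (hconj x t hx (orderOf_eq_prime (by rw [pow_two, ht]) ht1))
    · by_contra hno
      push Not at hno
      have hx1 : x ≠ 1 := fun h => by rw [h, orderOf_one] at hx; omega
      obtain ⟨T, hT⟩ := (IsPGroup.of_card (p := 2) (n := 1)
        (G := Subgroup.zpowers x) (by rw [Nat.card_zpowers, hx, pow_one])).exists_le_sylow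
      have hxT : x ∈ (T : Subgroup G) := hT (Subgroup.mem_zpowers x)
      haveI : Nontrivial (T : Subgroup G) :=
        ⟨⟨⟨x, hxT⟩, 1, fun h => hx1 (congrArg Subtype.val h)⟩⟩
      have hnt := T.isPGroup'.center_nontrivial
      obtain ⟨z, hz⟩ := exists_prime_orderOf_dvd_card' (G := Subgroup.center (T : Subgroup G)) 2 (by
        obtain ⟨k, hk⟩ := IsPGroup.iff_card.mp (T.isPGroup'.to_subgroup (Subgroup.center _))
        rw [hk]
        refine dvd_pow_self 2 fun h => ?_
        have := Finite.one_lt_card_iff_nontrivial.mpr hnt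
        rw [hk, h, pow_zero] at this
        omega)
      have hz2 : orderOf ((z : (T : Subgroup G)) : G) = 2 := by
        rw [Subgroup.orderOf_coe, Subgroup.orderOf_coe, hz]
      have hzc : ∀ s ∈ (T : Subgroup G), s * ((z : (T : Subgroup G)) : G) =
          ((z : (T : Subgroup G)) : G) * s := fun s hs =>
        congrArg Subtype.val (Subgroup.mem_center_iff.mp z.2 ⟨s, hs⟩)
      obtain ⟨g, hg⟩ := isConj_iff.mp (hconj _ x hz2 hx)
      refine hS T ⟨fun s hs n => ?_⟩
      have hsub : ∀ s ∈ (T : Subgroup G), ∃ w, s = ψ₁ w := by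
        intro s hs
        obtain ⟨k, hk⟩ := T.isPGroup' ⟨s, hs⟩
        have hk' : s ^ 2 ^ k = 1 := congrArg Subtype.val hk
        obtain ⟨w, hw⟩ := htwo (g * s * g⁻¹) (by
          rw [← hg]
          calc g * s * g⁻¹ * (g * ((z : (T : Subgroup G)) : G) * g⁻¹)
              = g * (s * ((z : (T : Subgroup G)) : G)) * g⁻¹ := by group
            _ = g * (((z : (T : Subgroup G)) : G) * s) * g⁻¹ := by rw [hzc s hs]
            _ = _ := by group) k (by rw [conj_pow, hk', mul_one, mul_inv_cancel])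
        obtain ⟨w', hw'⟩ := hno g⁻¹ w
        refine ⟨w', ?_⟩
        rw [hw', ← hw]
        group
      have hP : IsPGroup 2 (Subgroup.closure (Set.range ψ₁)) := by
        intro a
        obtain ⟨w, hw⟩ : ∃ w, (a : G) = ψ₁ w := by
          obtain ⟨a, ha⟩ := a
          induction ha using Subgroup.closure_induction with
          | mem a ha => obtain ⟨w, rfl⟩ := ha; exact ⟨w, rfl⟩
          | one =>
            refine ⟨CfsgLib.Classical.URoot.pone K, ?_⟩
            have := hmul (CfsgLib.Classical.URoot.pone K) (CfsgLib.Classical.URoot.pone K)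
            rw [CfsgLib.UThreeCent.pmul_one, mul_eq_left] at this
            exact this.symm
          | mul a b _ _ ha hb =>
            obtain ⟨w, hw⟩ := ha
            obtain ⟨w', hw'⟩ := hb
            exact ⟨CfsgLib.Classical.URoot.pmul K w w', by simp only at hw hw' ⊢; rw [hw, hw', hmul]⟩
          | inv a _ ha =>
            obtain ⟨w, hw⟩ := ha
            refine ⟨CfsgLib.Classical.URoot.pinv K w, inv_eq_of_mul_eq_one_right ?_⟩
            simp only at hw
            rw [hw, hmul, CfsgLib.UThreeCent.pmul_pinv]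
            have := hmul (CfsgLib.Classical.URoot.pone K) (CfsgLib.Classical.URoot.pone K)
            rwa [CfsgLib.UThreeCent.pmul_one, mul_eq_left] at this
        refine ⟨2, Subtype.ext ?_⟩
        rw [Subgroup.coe_pow, hw, Subgroup.coe_one]
        simp only [ψ₁, ← Subgroup.coe_pow, ← map_pow]
        rw [← Subgroup.coe_one (Subgroup.centralizer ({x} : Set G)), ← map_one e.symm]
        exact congrArg (fun w => ((e.symm w) : G)) (Subtype.ext (L₀.ψ_four _))
      have hle : (T : Subgroup G) ≤ Subgroup.closure (Set.range ψ₁) := fun s hs => by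
        obtain ⟨w, rfl⟩ := hsub s hs
        exact Subgroup.subset_closure ⟨w, rfl⟩
      obtain ⟨w, rfl⟩ := hsub s hs
      rw [← T.is_maximal' hP hle]
      exact Subgroup.subset_closure (hno n w)
  obtain ⟨e₂⟩ := L.equiv_std
  exact ⟨e₂.trans e₁.symm⟩

end Cfsg.Agent.S2212
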