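import Cfsg.Statements.S2214
import Cfsg.Agent.Lib.Chev.All
import Cfsg.Agent.Lib.Chev.Functorial
-- import your own Cfsg.Agent.* helpers here

set_option autoImplicit false
open Cfsg

namespace Cfsg.Agent.S2214

/-- Let k be an algebraically closed field of prime characteristic p, G the adjoint Chevalley group of type G₂, B₂, D₄, F₄, E₆, E₇ or E₈ over k (the matrix group generated by the root elements x_s(t), t ∈ k, acting on the Lie algebra), q = p^a with a ≥ 1, and K a subgroup of G containing every root element x_s(t) with t^q = t and consisting of matrices all of whose entries c satisfy c^q = c. Then the centralizer of K in G is trivial, and the normalizer of K in G is exactly the set of elements of G all of whose entries c satisfy c^q = c. -/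
theorem result {k : Type*} [Field k] [IsAlgClosed k] (p : ℕ) [Fact p.Prime] [CharP k p] (D : Cfsg.Lie.ChevalleyDatum) (hD : D ∈ [Cfsg.Lie.chevG2, Cfsg.Lie.chevB2, Cfsg.Lie.chevD4, Cfsg.Lie.chevF4, Cfsg.Lie.chevE6, Cfsg.Lie.chevE7, Cfsg.Lie.chevE8]) (a : ℕ) (ha : 1 ≤ a) (K : Subgroup (GL D.Idx k)) (hKG : K ≤ D.group k)
    (hLK : Subgroup.closure {g : GL D.Idx k | ∃ (s : ℕ) (t : k), t ^ (p ^ a) = t ∧ (g : Matrix D.Idx D.Idx k) = D.x k s t} ≤ K)
    (hKfix : ∀ g ∈ K, ∀ i j : D.Idx, ((g : Matrix D.Idx D.Idx k) i j) ^ (p ^ a) = (g : Matrix D.Idx D.Idx k) i j) :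
    D.group k ⊓ Subgroup.centralizer (K : Set (GL D.Idx k)) = ⊥ ∧
    ∀ g : GL D.Idx k, g ∈ D.group k → (g ∈ Subgroup.normalizer (K : Set (GL D.Idx k)) ↔ ∀ i j : D.Idx, ((g : Matrix D.Idx D.Idx k) i j) ^ (p ^ a) = (g : Matrix D.Idx D.Idx k) i j) := by
  obtain ⟨T, C, h⟩ := CfsgLib.Chev.exists_cert hD
  classical
  set σ := iterateFrobenius k p a with hσ
  have hfix : ∀ g : GL D.Idx k, CfsgLib.Chev.mapGL D σ g = g ↔
      ∀ i j : D.Idx, ((g : Matrix D.Idx D.Idx k) i j) ^ (p ^ a) =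
        (g : Matrix D.Idx D.Idx k) i j := fun g => by
    rw [CfsgLib.Chev.mapGL_eq_self_iff]
    simp [hσ, iterateFrobenius_def]
  have hL : CfsgLib.Chev.fixGen D T σ ≤ K := by
    refine le_trans ?_ hLK
    refine Subgroup.closure_mono ?_
    rintro _ ⟨r, t, -, ht, rfl⟩
    exact ⟨r, t, by simpa [hσ, iterateFrobenius_def] using ht, h.coe_X r t⟩
  have hcent : ∀ g ∈ D.group k, (∀ x ∈ K, x * g = g * x) → g = 1 := fun g hg hc =>
    h.eq_one_of_commute hg fun r hr =>
      hc _ (hL (CfsgLib.Chev.X_mem_fixGen D hr (map_one σ)))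
  refine ⟨(Subgroup.eq_bot_iff_forall _).2 fun g hg => ?_, fun g hg => ⟨fun hn => ?_, fun e => ?_⟩⟩
  · obtain ⟨hg, hc⟩ := Subgroup.mem_inf.1 hg
    exact hcent g hg fun x hx => Subgroup.mem_centralizer_iff.1 hc x hx
  · rw [← hfix]
    have hKσ : ∀ x ∈ K, CfsgLib.Chev.mapGL D σ x = x := fun x hx => (hfix x).2 (hKfix x hx)
    have h1 : g⁻¹ * CfsgLib.Chev.mapGL D σ g = 1 := by
      refine hcent _ (mul_mem (inv_mem hg) (h.map_mem_group σ hg)) fun x hx => ?_
      have hgx : g * x * g⁻¹ ∈ K := (Subgroup.mem_normalizer_iff.1 hn x).1 hx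
      have h2 := hKσ _ hgx
      rw [map_mul, map_mul, map_inv, hKσ x hx] at h2
      rw [mul_inv_eq_iff_eq_mul] at h2
      rw [mul_assoc g⁻¹, h2]
      group
    exact (inv_mul_eq_one.1 h1).symm
  · have hKσ : ∀ x ∈ K, CfsgLib.Chev.mapGL D σ x = x := fun x hx => (hfix x).2 (hKfix x hx)
    have hge := (hfix g).2 e
    refine Subgroup.mem_normalizer_iff.2 fun x => ⟨fun hx =>
      h.fixed_normalizes hL hKG hKσ hg hge hx, fun hx => ?_⟩
    have := h.fixed_normalizes hL hKG hKσ (inv_mem hg) (by rw [map_inv, hge]) hx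
    simpa [mul_assoc] using this

end Cfsg.Agent.S2214
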