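import Cfsg.Statements.S2220
-- import your own Cfsg.Agent.* helpers here
import Cfsg.Agent.S2219
import Cfsg.Agent.Lib.NineSelfCent.Main
import Cfsg.Agent.Lib.NineOneClass.Main
import Cfsg.Agent.Lib.NineOneClass.Cyclic

set_option linter.style.haveILetI false

set_option autoImplicit false
open Cfsg

namespace Cfsg.Agent.S2220

/-- Let G be a non-abelian finite simple group of order 9·2ᵃ·qᵇ for a prime q other than 2 and 3, and suppose a Sylow 3-subgroup R of G is strongly self-centralizing: C_G(k) = R for every nonidentity k ∈ R. Then G is isomorphic to the alternating group of degree 6, to PSL(2,8) or to PSL(2,17). -/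
theorem result {G : Type*} [Group G] [Finite G] [IsSimpleGroup G] (hG : ¬ IsMulCommutative G)
    (q a b : ℕ) (hq : q.Prime) (hq2 : q ≠ 2) (hq3 : q ≠ 3) (hcard : Nat.card G = 9 * 2 ^ a * q ^ b)
    (R : Sylow 3 G) (hR : ∀ k ∈ (R : Subgroup G), k ≠ 1 → Subgroup.centralizer ({k} : Set G) = R) :
    Nonempty (G ≃* ↥(alternatingGroup (Fin 6))) ∨
      (∃ (F : Type) (_ : Field F) (_ : Fintype F), Fintype.card F = 8 ∧
        Nonempty (G ≃* Matrix.ProjectiveSpecialLinearGroup (Fin 2) F)) ∨
      Nonempty (G ≃* Matrix.ProjectiveSpecialLinearGroup (Fin 2) (ZMod 17)) := by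
  classical
  haveI : Fact (Nat.Prime 3) := ⟨Nat.prime_three⟩
  have h9 : Nat.card (R : Subgroup G) = 9 := by
    rw [R.card_eq_multiplicity]
    have h3 : ¬ 3 ∣ 2 ^ a * q ^ b := fun h => (Nat.prime_three.dvd_mul.mp h).elim
      (fun h => absurd (Nat.prime_three.dvd_of_dvd_pow h) (by norm_num))
      (fun h => hq3 ((Nat.prime_dvd_prime_iff_eq Nat.prime_three hq).mp
        (Nat.prime_three.dvd_of_dvd_pow h)).symm)
    have hpos : 2 ^ a * q ^ b ≠ 0 := by
      intro e; exact h3 (e ▸ dvd_zero 3)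
    rw [hcard, mul_assoc, show (9 : ℕ) = 3 ^ 2 from rfl, Nat.factorization_mul (by norm_num) hpos,
      Finsupp.add_apply, Nat.Prime.factorization_pow Nat.prime_three, Finsupp.single_eq_same,
      Nat.factorization_eq_zero_of_not_dvd h3]
  by_cases hcyc : ∃ z : G, Subgroup.zpowers z = (R : Subgroup G)
  · obtain ⟨z, hz⟩ := hcyc
    exact Or.inr (Cfsg.Agent.S2219.result hG q a b hq hq2 hq3 hcard
      (CfsgLib.NineOneClass.three_classes R h9 hz hR))
  · have hexp : ∀ u ∈ (R : Subgroup G), u ^ 3 = 1 := by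
      intro u hu
      have hd : orderOf u ∣ 3 ^ 2 := by
        have := Subgroup.orderOf_dvd_natCard (R : Subgroup G) hu
        rwa [h9, show (9 : ℕ) = 3 ^ 2 from rfl] at this
      obtain ⟨i, hi, e⟩ := (Nat.dvd_prime_pow Nat.prime_three).mp hd
      rcases (show i ≤ 1 ∨ i = 2 by omega) with h | h
      · rw [← orderOf_dvd_iff_pow_eq_one, e]
        exact (pow_dvd_pow 3 h).trans (by norm_num)
      · refine absurd ⟨u, Subgroup.eq_of_le_of_card_ge (Subgroup.zpowers_le.mpr hu) ?_⟩ hcyc
        rw [h9, Nat.card_zpowers, e, h]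
        norm_num
    have hcomm : ∀ u ∈ (R : Subgroup G), ∀ v ∈ (R : Subgroup G), u * v = v * u := by
      intro u hu v hv
      exact congrArg Subtype.val (IsPGroup.commutative_of_card_eq_prime_sq (p := 3)
        (G := (R : Subgroup G)) (by rw [h9]; rfl) ⟨u, hu⟩ ⟨v, hv⟩)
    have hP : CfsgLib.NineSelfCent.Hyp R (R : Subgroup G) := ⟨rfl, hcomm, hexp, h9, hR⟩
    by_cases hcl : ∃ x y : G, orderOf x = 3 ∧ orderOf y = 3 ∧ ∀ g : G, g * x * g⁻¹ ≠ y
    · exact Or.inl (CfsgLib.NineSelfCent.iso_alternating_six hP hcl)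
    · exfalso
      push Not at hcl
      obtain ⟨⟨k, hk⟩, hk1⟩ : ∃ k : (R : Subgroup G), k ≠ 1 := by
        haveI : Nontrivial (R : Subgroup G) := Finite.one_lt_card_iff_nontrivial.mp (by omega)
        exact exists_ne 1
      have hk1' : k ≠ 1 := fun e => hk1 (Subtype.ext e)
      refine CfsgLib.NineOneClass.false_of_one_class (k := k) hP hG hq hq2 hq3 hcard hk hk1' ?_
      intro u hu hu1
      exact isConj_iff.mpr (hcl k u
        (CfsgLib.NineSelfCent.orderOf_eq_three (hexp k hk) hk1')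
        (CfsgLib.NineSelfCent.orderOf_eq_three (hexp u hu) hu1))

end Cfsg.Agent.S2220
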