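import Cfsg.Statements.S2221
import Cfsg.Agent.Lib.AltTwoDecomp.Model

open CfsgLib.AltTwoDecomp

set_option autoImplicit false
open Cfsg

namespace Cfsg.Agent.S2221

theorem decomp_iff {G : Type*} [Group G] (P : Subgroup G) :
    (∃ S₁ S₂ : Subgroup G, S₁ ≠ ⊥ ∧ S₂ ≠ ⊥ ∧ Cfsg.IsInternalDirectProduct S₁ S₂ P) ↔ Decomp P := by
  constructor
  · rintro ⟨A, B, hA, hB, hAP, hBP, hc, hi, hs⟩
    refine ⟨A.subgroupOf P, B.subgroupOf P, ?_, ?_, ?_, ?_, ?_⟩
    · rw [Ne, Subgroup.subgroupOf_eq_bot]
      exact fun h => hA (h.eq_bot_of_le hAP)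
    · rw [Ne, Subgroup.subgroupOf_eq_bot]
      exact fun h => hB (h.eq_bot_of_le hBP)
    · exact fun a ha b hb => Subtype.ext (hc _ ha _ hb)
    · exact (Subgroup.eq_bot_iff_forall _).mpr fun x hx =>
        Subtype.ext (Subgroup.mem_bot.mp (hi ▸ Subgroup.mem_inf.mpr (Subgroup.mem_inf.mp hx)))
    · rw [← Subgroup.subgroupOf_sup hAP hBP, hs, Subgroup.subgroupOf_self]
  · rintro ⟨A, B, hA, hB, hc, hi, hs⟩
    refine ⟨A.map P.subtype, B.map P.subtype, ?_, ?_, Subgroup.map_subtype_le A,
      Subgroup.map_subtype_le B, ?_, ?_, ?_⟩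
    · rwa [Ne, Subgroup.map_eq_bot_iff_of_injective _ P.subtype_injective]
    · rwa [Ne, Subgroup.map_eq_bot_iff_of_injective _ P.subtype_injective]
    · rintro _ ⟨a, ha, rfl⟩ _ ⟨b, hb, rfl⟩
      exact congrArg Subtype.val (hc a ha b hb)
    · rw [← Subgroup.map_inf _ _ _ P.subtype_injective, hi, Subgroup.map_bot]
    · rw [← Subgroup.map_sup, hs, ← MonoidHom.range_eq_map, Subgroup.range_subtype]

theorem no_four : ∀ n : ℕ, 4 ≤ n → n ≤ 5 → ∀ g : alternatingGroup (Fin n), g ^ 4 = 1 → g ^ 2 = 1 := by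
  intro n h4 h5
  have h : n = 4 ∨ n = 5 := by omega
  rcases h with rfl | rfl <;>
  · intro g hg
    have := (by decide +kernel : ∀ σ : Equiv.Perm (Fin _), Equiv.Perm.sign σ = 1 → σ ^ 4 = 1 → σ ^ 2 = 1)
      g.1 g.2 (congrArg Subtype.val hg)
    exact Subtype.ext this

theorem small (n : ℕ) (h4 : 4 ≤ n) (h5 : n ≤ 5) (P : Sylow 2 (alternatingGroup (Fin n))) :
    Decomp (P : Subgroup (alternatingGroup (Fin n))) := by
  haveI := Fact.mk Nat.prime_two
  have hv : padicValNat 2 (Nat.factorial n) = 3 := by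
    have := val_split n
    have h : n = 4 ∨ n = 5 := by omega
    rcases h with rfl | rfl <;> norm_num at this ⊢ <;> omega
  have hcard : Nat.card (P : Subgroup (alternatingGroup (Fin n))) = 4 := by
    have h2 := alt_val n (by omega)
    rw [P.card_eq_multiplicity, show (Nat.card (alternatingGroup (Fin n))).factorization 2 = 2 by omega]
    rfl
  have hexp : ∀ x : (P : Subgroup (alternatingGroup (Fin n))), x * x = 1 := by
    intro x
    have h : x ^ 4 = 1 := hcard ▸ pow_card_eq_one'
    have := no_four n h4 h5 x (congrArg Subtype.val h)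
    rw [pow_two] at this
    exact Subtype.ext this
  generalize hG : (P : Subgroup (alternatingGroup (Fin n))) = G at hcard hexp ⊢
  haveI : Nontrivial G := Finite.one_lt_card_iff_nontrivial.mp (by omega)
  obtain ⟨x, hx⟩ := exists_ne (1 : G)
  have hxc : Nat.card (Subgroup.zpowers x) = 2 := by
    rw [Nat.card_zpowers]
    exact orderOf_eq_prime (by rw [pow_two]; exact hexp x) hx
  obtain ⟨y, hy⟩ : ∃ y : G, y ∉ Subgroup.zpowers x := by
    by_contra h
    push Not at h
    have := (Subgroup.eq_top_iff' _).mpr h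
    rw [this, Subgroup.card_top] at hxc
    omega
  have hy1 : y ≠ 1 := fun h => hy (h ▸ one_mem _)
  have hyc : Nat.card (Subgroup.zpowers y) = 2 := by
    rw [Nat.card_zpowers]
    exact orderOf_eq_prime (by rw [pow_two]; exact hexp y) hy1
  have hcomm : ∀ a b : G, a * b = b * a := by
    intro a b
    have e : (a * b)⁻¹ = a * b := inv_eq_of_mul_eq_one_right (hexp _)
    rw [mul_inv_rev, inv_eq_of_mul_eq_one_right (hexp a), inv_eq_of_mul_eq_one_right (hexp b)] at e
    exact e.symm
  have hinf : Subgroup.zpowers x ⊓ Subgroup.zpowers y = ⊥ := by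
    refine Subgroup.eq_bot_of_card_le _ ?_
    by_contra hlt
    have hle : Nat.card ↥(Subgroup.zpowers x ⊓ Subgroup.zpowers y) ≤ Nat.card (Subgroup.zpowers y) :=
      Subgroup.card_le_of_le inf_le_right
    have := Subgroup.eq_of_le_of_card_ge (inf_le_right : Subgroup.zpowers x ⊓ Subgroup.zpowers y ≤ _) (by omega)
    exact hy (this.ge.trans inf_le_left (Subgroup.mem_zpowers y))
  refine ⟨_, _, ?_, ?_, fun a _ b _ => hcomm a b, hinf, ?_⟩
  · rwa [Ne, Subgroup.zpowers_eq_bot]
  · rwa [Ne, Subgroup.zpowers_eq_bot]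
  · have hdvd := Subgroup.card_subgroup_dvd_card (Subgroup.zpowers x ⊔ Subgroup.zpowers y)
    refine Subgroup.eq_top_of_le_card _ ?_
    have hlt : Subgroup.zpowers x < Subgroup.zpowers x ⊔ Subgroup.zpowers y :=
      lt_of_le_of_ne le_sup_left fun e => hy (e ▸ Subgroup.mem_sup_right (Subgroup.mem_zpowers y))
    have h2 : Nat.card (Subgroup.zpowers x) < Nat.card ↥(Subgroup.zpowers x ⊔ Subgroup.zpowers y) :=
      lt_of_not_ge fun hle => hlt.ne (Subgroup.eq_of_le_of_card_ge hlt.le hle)
    have h3 := Subgroup.card_dvd_of_le hlt.le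
    rw [hcard] at hdvd ⊢
    rw [hxc] at h2 h3
    have := Nat.le_of_dvd (by norm_num) hdvd
    generalize Nat.card ↥(Subgroup.zpowers x ⊔ Subgroup.zpowers y) = c at *
    interval_cases c <;> simp_all

theorem pow_iff {m : ℕ} : (∀ r : ℕ, 4 * m ≠ 2 ^ r) ↔ m.bitIndices.length ≠ 1 := by
  constructor
  · intro h hl
    obtain ⟨i, hi⟩ := List.length_eq_one_iff.mp hl
    have := Nat.sum_map_two_pow_bitIndices m
    rw [hi] at this
    simp at this
    exact h (i + 2) (by rw [pow_add, this]; ring)
  · intro h r hr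
    apply h
    obtain ⟨i, rfl⟩ : ∃ i, r = i + 2 := by
      refine ⟨r - 2, ?_⟩
      rcases r with _ | _ | r <;> simp at hr ⊢ <;> omega
    have : m = 2 ^ i := by rw [pow_add] at hr; omega
    rw [this, Nat.bitIndices_two_pow]
    rfl


/-- Direct decomposability of the Sylow 2-subgroups of the alternating groups. Let n ≥ 4 and let P be a Sylow 2-subgroup of the alternating group of degree n. Then P is the internal direct product of two nontrivial subgroups if and only if n = 4, n = 5, or n ≡ 2, 3 (mod 4) with 4⌊n/4⌋ not a power of 2. In the remaining cases (n ≡ 0, 1 (mod 4) with n ≥ 8, or n ≡ 2, 3 (mod 4) with 4⌊n/4⌋ a power of 2) P is directly indecomposable. -/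
theorem result (n : ℕ) (hn : 4 ≤ n)
    (P : Sylow 2 (alternatingGroup (Fin n))) :
    (∃ S₁ S₂ : Subgroup (alternatingGroup (Fin n)), S₁ ≠ ⊥ ∧ S₂ ≠ ⊥ ∧
        Cfsg.IsInternalDirectProduct S₁ S₂ (P : Subgroup (alternatingGroup (Fin n)))) ↔
      (n = 4 ∨ n = 5 ∨ ((n % 4 = 2 ∨ n % 4 = 3) ∧ ∀ r : ℕ, 4 * (n / 4) ≠ 2 ^ r)) := by
  haveI := Fact.mk Nat.prime_two
  rw [decomp_iff]
  have hm : n / 4 ≠ 0 := by omega
  have hne : (n / 4).bitIndices.length ≠ 0 := fun h => by
    have := Nat.sum_map_two_pow_bitIndices (n / 4)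
    rw [List.length_eq_zero_iff.mp h] at this
    simp at this
    omega
  choose z hz hzc using fun j : Bits (n / 4) => exists_block (j : ℕ)
  have hnt : (n / 4).bitIndices.length ≠ 1 → Nontrivial (Bits (n / 4)) := fun h => by
    rw [← Fintype.one_lt_card_iff_nontrivial, card_bits]; omega
  have hsub : (n / 4).bitIndices.length = 1 → Subsingleton (Bits (n / 4)) := fun h => by
    rw [← Fintype.card_le_one_iff_subsingleton, card_bits]; omega
  have hPp : IsPGroup 2 (P : Subgroup (alternatingGroup (Fin n))) := P.2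
  rcases Nat.lt_or_ge (n % 4) 2 with hr | hr
  · obtain ⟨e⟩ := sylow_low hn (by omega) P
    constructor
    · intro hD
      by_contra hcon
      push Not at hcon
      have hD' := decomp_congr e.symm hD
      by_cases hl : (n / 4).bitIndices.length = 1
      · haveI := hsub hl
        obtain ⟨j₀⟩ : Nonempty (Bits (n / 4)) := Fintype.card_pos_iff.mp (by rw [card_bits]; omega)
        have hj : 1 ≤ (j₀ : ℕ) := by
          by_contra h0
          push Not at h0
          have h1 := sum_bits (n / 4)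
          rw [Fintype.sum_subsingleton _ j₀, show (j₀ : ℕ) = 0 by omega] at h1
          omega
        refine not_decomp_of_center (hPp.of_injective e.toMonoidHom e.injective)
          ⟨Pi.mulSingle j₀ (z j₀), (psign_single j₀ _).trans (hz j₀).even⟩ (fun x hx => ?_) hD'
        have h1 : ∀ u, bsigns (n / 4) j₀ u = 1 → u * (x : ∀ j, Blocks (n / 4) j) j₀ =
            (x : ∀ j, Blocks (n / 4) j) j₀ * u := by
          intro u hu
          have := congrFun (congrArg Subtype.val
            (hx ⟨Pi.mulSingle j₀ u, (psign_single j₀ u).trans hu⟩)) j₀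
          simpa using this
        rcases hzc j₀ hj _ h1 with h | h
        · exact Or.inl (Subtype.ext (funext fun l => Subsingleton.elim j₀ l ▸ h))
        · refine Or.inr (Subtype.ext (funext fun l => Subsingleton.elim j₀ l ▸ ?_))
          rw [h]; exact (Pi.mulSingle_eq_same (M := fun j : Bits (n / 4) => Blocks (n / 4) j) j₀ (z j₀)).symm
      · haveI := hnt hl
        exact not_decomp_ker hz hD'
    · rintro (rfl | rfl | ⟨h, -⟩)
      · exact small 4 le_rfl (by norm_num) P
      · exact small 5 (by norm_num) le_rfl P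
      · omega
  · obtain ⟨e⟩ := sylow_high hn hr P
    constructor
    · intro hD
      refine Or.inr (Or.inr ⟨by omega, pow_iff.mpr fun hl => ?_⟩)
      haveI := hsub hl
      obtain ⟨j₀⟩ : Nonempty (Bits (n / 4)) := Fintype.card_pos_iff.mp (by rw [card_bits]; omega)
      refine not_decomp_of_center (hPp.of_injective e.toMonoidHom e.injective)
        (Pi.mulSingle j₀ (z j₀)) (fun x hx => ?_) (decomp_congr e.symm hD)
      have h1 : ∀ u, u * x j₀ = x j₀ * u := fun u => by
        simpa using congrFun (hx (Pi.mulSingle (M := fun j : Bits (n / 4) => Blocks (n / 4) j) j₀ u)) j₀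
      rcases (hz j₀).center _ h1 with h | h
      · exact Or.inl (funext fun l => Subsingleton.elim j₀ l ▸ h)
      · refine Or.inr (funext fun l => Subsingleton.elim j₀ l ▸ ?_)
        rw [h]; exact (Pi.mulSingle_eq_same (M := fun j : Bits (n / 4) => Blocks (n / 4) j) j₀ (z j₀)).symm
    · intro h
      have hl : ∀ r : ℕ, 4 * (n / 4) ≠ 2 ^ r := by
        rcases h with rfl | rfl | ⟨-, h⟩
        · omega
        · omega
        · exact h
      haveI := hnt (pow_iff.mp hl)
      refine decomp_congr e (decomp_pi fun j => ?_)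
      exact ⟨z j, (hz j).ne⟩

end Cfsg.Agent.S2221
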