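import Cfsg.Statements.S2222
import Cfsg.Agent.Lib.SylowTwoSym.Basic

set_option autoImplicit false
open Cfsg

namespace Cfsg.Agent.S2222

theorem four_facts : (∀ x : Equiv.Perm (Fin 5), Equiv.Perm.sign x = 1 → x ^ 4 = 1 → x * x = 1) ∧
    (∀ k j : Fin 5, ∃ i, i ≠ k ∧ i ≠ j) ∧
    (∀ k : Fin 5,
      ((Finset.univ : Finset (Equiv.Perm (Fin 5))).filter
        fun x => Equiv.Perm.sign x = 1 ∧ x k = k).card = 12) := by
  refine ⟨?_, ?_, ?_⟩ <;> decide +kernel

set_option synthInstance.maxSize 2000 in
theorem klein_facts : ∀ s : Equiv.Perm (Fin 5), Equiv.Perm.sign s = 1 → s * s = 1 → s ≠ 1 →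
    ∀ t : Equiv.Perm (Fin 5), Equiv.Perm.sign t = 1 → t * t = 1 → t ≠ 1 → s ≠ t → s * t = t * s →
      ∃ k : Fin 5, s k = k ∧ t k = k ∧
        ∀ j : Fin 5, j ≠ k → ∀ i : Fin 5, i ≠ k → i = j ∨ i = s j ∨ i = t j ∨ i = s (t j) := by
  decide +kernel

theorem five (H S : Subgroup (alternatingGroup (Fin 5))) (hSH : S ≤ H)
    (hSc : Nat.card S = 2 ^ (Nat.card (alternatingGroup (Fin 5))).factorization 2)
    (z : alternatingGroup (Fin 5))
    (hz : z ∈ Subgroup.normalizer (S : Set (alternatingGroup (Fin 5)))) :
    H.map (MulAut.conj z).toMonoidHom = H := by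
  classical
  obtain ⟨h4', hthird, hstab⟩ := four_facts
  have h4 : ∀ x : alternatingGroup (Fin 5), x ^ 4 = 1 → x * x = 1 := fun x hx =>
    Subtype.ext (h4' x.1 x.2 (congrArg Subtype.val hx))
  have hcardA : Nat.card (alternatingGroup (Fin 5)) = 60 := by
    rw [nat_card_alternatingGroup, Nat.card_fin]; rfl
  have hS4 : Nat.card S = 4 := by
    rw [hSc, hcardA, Nat.factorization_def _ Nat.prime_two, show (60 : ℕ) = 2 ^ 2 * 15 from rfl,
      padicValNat.mul (by norm_num) (by norm_num), padicValNat.prime_pow,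
      padicValNat.eq_zero_of_not_dvd (by norm_num)]
    rfl
  have hsq : ∀ x ∈ S, x * x = 1 := fun x hx => h4 x (by
    have := pow_card_eq_one' (x := (⟨x, hx⟩ : S))
    rw [hS4] at this
    exact congrArg Subtype.val this)
  let _ : Fintype S := Fintype.ofFinite _
  obtain ⟨⟨s, hs⟩, hs1⟩ : ∃ s : S, s ≠ 1 :=
    by
      have : Nontrivial S := Finite.one_lt_card_iff_nontrivial.1 (by rw [hS4]; norm_num)
      exact exists_ne 1
  obtain ⟨t, -, ht⟩ := Finset.exists_mem_notMem_of_card_lt_card
    (s := ({1, ⟨s, hs⟩} : Finset S)) (t := Finset.univ)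
    (lt_of_le_of_lt Finset.card_le_two (by
      rw [Finset.card_univ, ← Nat.card_eq_fintype_card, hS4]; norm_num))
  obtain ⟨t, htS⟩ := t
  simp only [Finset.mem_insert, Finset.mem_singleton, not_or] at ht
  have hcomm : s * t = t * s := by
    have h := hsq _ (S.mul_mem hs htS)
    have h1 : s⁻¹ = s := inv_eq_of_mul_eq_one_right (hsq _ hs)
    have h2 : t⁻¹ = t := inv_eq_of_mul_eq_one_right (hsq _ htS)
    rw [← inv_eq_of_mul_eq_one_right h, mul_inv_rev, h1, h2]
  have hne : (s ≠ 1) ∧ (t ≠ 1) ∧ s ≠ t :=
    ⟨fun h => hs1 (Subtype.ext h), fun h => ht.1 (Subtype.ext h),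
      fun h => ht.2 (Subtype.ext h.symm)⟩
  obtain ⟨k, hsk, htk, htrans⟩ := klein_facts s.1 s.2 (congrArg Subtype.val (hsq _ hs))
    (fun h => hne.1 (Subtype.ext h)) t.1 t.2 (congrArg Subtype.val (hsq _ htS))
    (fun h => hne.2.1 (Subtype.ext h)) (fun h => hne.2.2 (Subtype.ext h))
    (congrArg Subtype.val hcomm)
  have hall : ∀ x ∈ S, x.1 k = k := by
    have hSset : ({1, s, t, s * t} : Finset (alternatingGroup (Fin 5))) =
        (Finset.univ.filter fun x => x ∈ S) := by
      refine Finset.eq_of_subset_of_card_le ?_ ?_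
      · intro x hx
        simp only [Finset.mem_insert, Finset.mem_singleton] at hx
        rcases hx with rfl | rfl | rfl | rfl <;>
          simp [hs, htS, S.one_mem, S.mul_mem hs htS]
      · have e1 : (Finset.univ.filter fun x => x ∈ S).card = 4 := by
          rw [← hS4, Nat.card_eq_fintype_card, Fintype.card_subtype]
        have hst1 : s * t ≠ 1 := fun h => hne.2.2 (by
          rw [← inv_eq_of_mul_eq_one_right (hsq _ hs), inv_eq_of_mul_eq_one_right h])
        rw [e1, Finset.card_insert_of_notMem, Finset.card_insert_of_notMem,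
          Finset.card_insert_of_notMem, Finset.card_singleton]
        · simp only [Finset.mem_singleton]
          exact fun h => hne.1 (mul_eq_right.1 h.symm)
        · simp only [Finset.mem_insert, Finset.mem_singleton, not_or]
          exact ⟨hne.2.2, fun h => hne.2.1 (mul_eq_left.1 h.symm)⟩
        · simp only [Finset.mem_insert, Finset.mem_singleton, not_or]
          exact ⟨Ne.symm hne.1, Ne.symm hne.2.1, Ne.symm hst1⟩
    intro x hx
    have : x ∈ ({1, s, t, s * t} : Finset (alternatingGroup (Fin 5))) := by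
      rw [hSset]; simp [hx]
    simp only [Finset.mem_insert, Finset.mem_singleton] at this
    rcases this with rfl | rfl | rfl | rfl
    · rfl
    · exact hsk
    · exact htk
    · show s.1 (t.1 k) = k
      rw [htk, hsk]
  -- the stabiliser of `k`
  let St : Subgroup (alternatingGroup (Fin 5)) :=
    { carrier := {x | x.1 k = k}
      one_mem' := rfl
      mul_mem' := fun {a b} ha hb => show a.1 (b.1 k) = k by rw [hb, ha]
      inv_mem' := fun {a} ha => show a.1⁻¹ k = k from Equiv.Perm.inv_eq_iff_eq.2 ha.symm }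
  have hSt : Nat.card St = 12 := by
    rw [← hstab k, ← Fintype.card_subtype, ← Nat.card_eq_fintype_card]
    exact Nat.card_congr
      { toFun := fun x => ⟨x.1.1, x.1.2, x.2⟩
        invFun := fun x => ⟨⟨x.1, x.2.1⟩, x.2.2⟩
        left_inv := fun _ => rfl
        right_inv := fun _ => rfl }
  have hzk : z.1 k = k := by
    by_contra hzk
    have hcon : ∀ x ∈ S, x.1 (z.1 k) = z.1 k := by
      intro x hx
      have hy : z⁻¹ * x * z ∈ S := by
        rw [Subgroup.mem_normalizer_iff.1 hz]; simpa [mul_assoc] using hx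
      have h := congrArg z.1 (hall _ hy)
      rw [show (z⁻¹ * x * z).1 k = z.1⁻¹ (x.1 (z.1 k)) from rfl,
        show z.1 (z.1⁻¹ (x.1 (z.1 k))) = x.1 (z.1 k) from z.1.apply_symm_apply _] at h
      exact h
    obtain ⟨i, hi, hi'⟩ := hthird k (z.1 k)
    rcases htrans (z.1 k) hzk i hi with h | h | h | h
    · exact hi' h
    · exact hi' (h.trans (hcon s hs))
    · exact hi' (h.trans (hcon t htS))
    · exact hi' (by rw [h, hcon t htS, hcon s hs])
  by_cases hH : H ≤ St
  · have hd : Nat.card H ∣ 12 := hSt ▸ Subgroup.card_dvd_of_le hH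
    have hd' : 4 ∣ Nat.card H := hS4 ▸ Subgroup.card_dvd_of_le hSH
    have hcases : Nat.card H = 4 ∨ Nat.card H = 12 := by
      obtain ⟨c, hc⟩ := hd'
      have : c ∣ 3 := Nat.dvd_of_mul_dvd_mul_left (by norm_num : 0 < 4) (by rwa [← hc])
      rcases (Nat.dvd_prime Nat.prime_three).1 this with rfl | rfl <;> omega
    have hcard : Nat.card (H.map (MulAut.conj z).toMonoidHom) = Nat.card H :=
      Subgroup.card_map_of_injective (MulAut.conj z).injective
    refine Subgroup.eq_of_le_of_card_ge ?_ hcard.ge
    rcases hcases with h | h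
    · have e : S = H := Subgroup.eq_of_le_of_card_ge hSH (by omega)
      subst e
      rintro _ ⟨a, ha, rfl⟩
      exact (Subgroup.mem_normalizer_iff.1 hz a).1 ha
    · have e : H = St := Subgroup.eq_of_le_of_card_ge hH (by omega)
      subst e
      rintro _ ⟨a, ha, rfl⟩
      exact St.mul_mem (St.mul_mem (show z ∈ St from hzk) ha) (St.inv_mem (show z ∈ St from hzk))
  · have hHtop : H = ⊤ := by
      obtain ⟨h, hh, hhk⟩ := SetLike.not_le_iff_exists.1 hH
      have hhk' : h.1 k ≠ k := hhk
      have horb : MulAction.orbit H k = Set.univ := by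
        refine Set.eq_univ_of_forall fun i => ?_
        by_cases hi : i = k
        · subst hi; exact MulAction.mem_orbit_self _
        · rcases htrans (h.1 k) hhk' i hi with e | e | e | e
          · exact ⟨⟨h, hh⟩, e.symm⟩
          · exact ⟨⟨s * h, H.mul_mem (hSH hs) hh⟩, e.symm⟩
          · exact ⟨⟨t * h, H.mul_mem (hSH htS) hh⟩, e.symm⟩
          · exact ⟨⟨s * (t * h), H.mul_mem (hSH hs) (H.mul_mem (hSH htS) hh)⟩, e.symm⟩
      have h5 : 5 ∣ Nat.card H := by
        have := MulAction.index_stabilizer H k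
        rw [horb, Set.ncard_univ, Nat.card_fin] at this
        have h5 := Subgroup.index_dvd_card (MulAction.stabilizer H k)
        rwa [this] at h5
      have h20 : 20 ∣ Nat.card H :=
        Nat.Coprime.mul_dvd_of_dvd_of_dvd (by norm_num : Nat.Coprime 4 5)
          (hS4 ▸ Subgroup.card_dvd_of_le hSH) h5
      by_contra hne
      have hidx : H.index ≤ 3 := by
        have h1 := H.card_mul_index
        rw [hcardA] at h1
        have : 20 ≤ Nat.card H := Nat.le_of_dvd Nat.card_pos h20
        nlinarith
      have : IsSimpleGroup (alternatingGroup (Fin 5)) :=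
        alternatingGroup.isSimpleGroup (by simp)
      have hcore : H.normalCore = ⊥ := by
        rcases IsSimpleGroup.eq_bot_or_eq_top_of_normal H.normalCore inferInstance with h | h
        · exact h
        · exact absurd (top_le_iff.1 (h ▸ H.normalCore_le)) hne
      have hinj : Function.Injective
          (MulAction.toPermHom (alternatingGroup (Fin 5)) (alternatingGroup (Fin 5) ⧸ H)) := by
        rw [← MonoidHom.ker_eq_bot_iff, ← Subgroup.normalCore_eq_ker, hcore]
      have := Nat.card_le_card_of_injective _ hinj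
      rw [hcardA, Nat.card_perm, ← Subgroup.index_eq_card] at this
      have := Nat.factorial_le hidx
      simp [Nat.factorial] at this
      omega
    rw [hHtop]
    exact Subgroup.map_top_of_surjective _ (MulAut.conj z).surjective

/-- In the alternating group of degree n ≥ 5 every subgroup H of odd index is pronormal: for every element g, the subgroups H and gHg⁻¹ are conjugate by an element of the subgroup they generate. -/
theorem result (n : ℕ) (hn : 5 ≤ n)
    (H : Subgroup (alternatingGroup (Fin n))) (hH : Odd H.index) : Cfsg.IsPronormal H := by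
  obtain ⟨S₀⟩ : Nonempty (Sylow 2 H) := inferInstance
  set S : Subgroup (alternatingGroup (Fin n)) := (S₀ : Subgroup H).map H.subtype with hS
  have hSH : S ≤ H := Subgroup.map_subtype_le _
  have hSc : Nat.card S = 2 ^ (Nat.card (alternatingGroup (Fin n))).factorization 2 := by
    rw [hS, Subgroup.card_map_of_injective H.subtype_injective, S₀.card_eq_multiplicity,
      ← H.card_mul_index, Nat.factorization_mul Nat.card_pos.ne' Subgroup.index_ne_zero_of_finite]
    have : H.index.factorization 2 = 0 :=
      Nat.factorization_eq_zero_of_not_dvd (by rintro ⟨k, hk⟩; exact (Nat.not_even_iff_odd.2 hH) ⟨k, by omega⟩)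
    simp [this]
  intro g
  set K := H ⊔ H.map (MulAut.conj g).toMonoidHom with hK
  set T : Subgroup (alternatingGroup (Fin n)) := S.map (MulAut.conj g).toMonoidHom with hT
  have hTc : Nat.card T = Nat.card S :=
    Subgroup.card_map_of_injective (MulAut.conj g).injective
  have hSK : S ≤ K := hSH.trans le_sup_left
  have hTK : T ≤ K := (Subgroup.map_mono hSH).trans le_sup_right
  have hKf : (Nat.card K).factorization 2 =
      (Nat.card (alternatingGroup (Fin n))).factorization 2 := by
    refine le_antisymm ((Nat.factorization_le_iff_dvd Nat.card_pos.ne' Nat.card_pos.ne').2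
      (Subgroup.card_subgroup_dvd_card K) 2) ?_
    refine (Nat.prime_two.pow_dvd_iff_le_factorization Nat.card_pos.ne').1 ?_
    rw [← hSc]
    exact Subgroup.card_dvd_of_le hSK
  have mk : ∀ U : Subgroup (alternatingGroup (Fin n)), U ≤ K → Nat.card U = Nat.card S →
      ∃ P : Sylow 2 K, (P : Subgroup K) = U.subgroupOf K := by
    intro U hU hUc
    refine ⟨Sylow.ofCard (U.subgroupOf K) ?_, rfl⟩
    rw [Nat.card_congr (Subgroup.subgroupOfEquivOfLe hU).toEquiv, hUc, hSc, hKf]
  obtain ⟨P, hP⟩ := mk S hSK rfl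
  obtain ⟨P', hP'⟩ := mk T hTK hTc
  obtain ⟨x, hx⟩ := MulAction.exists_smul_eq K P P'
  refine ⟨x, x.2, ?_⟩
  have hxS : S.map (MulAut.conj (x : alternatingGroup (Fin n))).toMonoidHom = T := by
    have h1 : (P : Subgroup K).map (MulAut.conj x).toMonoidHom = P' := by
      rw [← hx, Sylow.coe_subgroup_smul]; rfl
    have h2 := congrArg (Subgroup.map K.subtype) h1
    rw [hP, hP', Subgroup.map_map, Subgroup.subgroupOf_map_subtype, inf_eq_left.2 hTK] at h2
    rw [← h2, show K.subtype.comp (MulAut.conj x).toMonoidHom =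
      (MulAut.conj (x : alternatingGroup (Fin n))).toMonoidHom.comp K.subtype from rfl,
      ← Subgroup.map_map, Subgroup.subgroupOf_map_subtype, inf_eq_left.2 hSK]
  set z := (x : alternatingGroup (Fin n))⁻¹ * g with hz
  have hzS : S.map (MulAut.conj z).toMonoidHom = S := by
    have hc : ∀ a b : alternatingGroup (Fin n), (MulAut.conj (a * b)).toMonoidHom =
        (MulAut.conj a).toMonoidHom.comp (MulAut.conj b).toMonoidHom := by
      intro a b; ext1 y; simp [mul_assoc]
    rw [hz, hc, ← Subgroup.map_map, ← hT, ← hxS, Subgroup.map_map, ← hc, inv_mul_cancel]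
    convert Subgroup.map_id S
    ext1 y; simp
  have hnorm : z ∈ Subgroup.normalizer (S : Set (alternatingGroup (Fin n))) := by
    refine Subgroup.mem_normalizer_iff.2 fun a => ⟨fun ha => ?_, fun ha => ?_⟩
    · rw [← hzS]; exact Subgroup.mem_map_of_mem _ ha
    · rw [← hzS] at ha
      obtain ⟨b, hb, hba⟩ := ha
      have : b = a := by simpa using hba
      exact this ▸ hb
  have hzH : H.map (MulAut.conj z).toMonoidHom = H := by
    by_cases hn6 : 6 ≤ n
    · have hzmem : z ∈ H := by
        have hzS' := CfsgLib.SylowTwoSym.selfNorm_alternating n hn6 (Sylow.ofCard S hSc) z hnorm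
        exact hSH hzS'
      refine le_antisymm ?_ fun a ha => ⟨z⁻¹ * a * z, H.mul_mem (H.mul_mem (H.inv_mem hzmem) ha) hzmem,
        by simp [mul_assoc]⟩
      rintro _ ⟨a, ha, rfl⟩
      exact H.mul_mem (H.mul_mem hzmem ha) (H.inv_mem hzmem)
    · obtain rfl : n = 5 := by omega
      exact five H S hSH hSc z hnorm
  calc H.map (MulAut.conj g).toMonoidHom
      = (H.map (MulAut.conj z).toMonoidHom).map
          (MulAut.conj (x : alternatingGroup (Fin n))).toMonoidHom := by
        rw [Subgroup.map_map]; congr 1; ext1 y; simp [hz, mul_assoc]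
    _ = _ := by rw [hzH]

end Cfsg.Agent.S2222
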