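import Cfsg.Statements.S2225
import Cfsg.Agent.Lib.Pronormal.Main

set_option autoImplicit false
open Cfsg

namespace Cfsg.Agent.S2225

/-- Let F be a finite field and d = 2^w ≥ 2 a power of 2 such that PSL_d(F) is simple. Then every subgroup H of PSL_d(F) of odd index is pronormal: for every g, H and gHg⁻¹ are conjugate by an element of the subgroup they generate. -/
theorem result {F : Type*} [Field F] [Fintype F]
    (w : ℕ) (hw : 1 ≤ w) (hs : IsSimpleGroup (Matrix.ProjectiveSpecialLinearGroup (Fin (2 ^ w)) F))
    (H : Subgroup (Matrix.ProjectiveSpecialLinearGroup (Fin (2 ^ w)) F)) (hH : Odd H.index) : Cfsg.IsPronormal H := by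
  exact CfsgLib.Pronormal.odd_index_pronormal_of_surjective (QuotientGroup.mk'_surjective _)
    (fun K hK => CfsgLib.Pronormal.SL_two_pow w hw K hK) H hH

end Cfsg.Agent.S2225
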