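import Cfsg.Statements.S2228
import Cfsg.Agent.Lib.J3Type.Entry
import Cfsg.Agent.Lib.J3Type.Seventeen
-- import your own Cfsg.Agent.* helpers here

set_option autoImplicit false
open Cfsg

namespace Cfsg.Agent.S2228

theorem finish {G : Type*} [Group G] [Finite G] {p k : ℕ} [Fact p.Prime] (P : Sylow p G) (hP : Nat.card P = p)
    (hC : Nat.card (Subgroup.centralizer ((P : Subgroup G) : Set G)) = p)
    (hN : Nat.card (Subgroup.normalizer ((P : Subgroup G) : Set G)) = p * k) :
    Subgroup.centralizer ((P : Subgroup G) : Set G) = P ∧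
      ∃ h : ((P : Subgroup G).subgroupOf (Subgroup.normalizer ((P : Subgroup G) : Set G))).Normal,
        IsCyclic (↥(Subgroup.normalizer ((P : Subgroup G) : Set G)) ⧸ (P : Subgroup G).subgroupOf _) ∧
        Nat.card (↥(Subgroup.normalizer ((P : Subgroup G) : Set G)) ⧸ (P : Subgroup G).subgroupOf _) = k := by
  haveI : IsCyclic (P : Subgroup G) := isCyclic_of_prime_card hP
  have hle : (P : Subgroup G) ≤ Subgroup.centralizer ((P : Subgroup G) : Set G) := by
    intro a ha
    rw [Subgroup.mem_centralizer_iff]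
    intro b hb
    letI : CommGroup (P : Subgroup G) := IsCyclic.commGroup
    exact congrArg Subtype.val (mul_comm (⟨b, hb⟩ : (P : Subgroup G)) ⟨a, ha⟩)
  have heq : Subgroup.centralizer ((P : Subgroup G) : Set G) = P :=
    (Subgroup.eq_of_le_of_card_ge hle (by rw [hC, show Nat.card (P : Subgroup G) = p from hP])).symm
  obtain ⟨hn, hcyc⟩ := CfsgLib.J3Type.quotient_cyclic P hP
  revert hn
  rw [heq]
  intro hn hcyc
  refine ⟨rfl, hn, hcyc, ?_⟩
  have h := Subgroup.card_eq_card_quotient_mul_card_subgroup
    ((P : Subgroup G).subgroupOf (Subgroup.normalizer ((P : Subgroup G) : Set G)))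
  rw [hN, Nat.card_congr (Subgroup.subgroupOfEquivOfLe Subgroup.le_normalizer).toEquiv,
    show Nat.card (P : Subgroup G) = p from hP, mul_comm p k] at h
  exact (Nat.eq_of_mul_eq_mul_right (Fact.out : p.Prime).pos h).symm

/-- Let G be a finite simple group in which all involutions are conjugate and the centralizer of an involution has a normal extraspecial subgroup of order 32 complemented by a subgroup isomorphic to the alternating group of degree 5 (a group of J₃-type). Then a Sylow 19-subgroup of G is self-centralizing with normalizer-quotient cyclic of order 9, and a Sylow 17-subgroup is self-centralizing with normalizer-quotient cyclic of order 8. -/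
theorem result {G : Type*} [Group G] [Finite G] [IsSimpleGroup G]
    (hone : ∀ x y : G, orderOf x = 2 → orderOf y = 2 → IsConj x y)
    (t : G) (ht : orderOf t = 2) (E A : Subgroup ↥(Subgroup.centralizer ({t} : Set G))) [E.Normal]
    (hE : Cfsg.IsExtraspecial 2 ↥E) (hE32 : Nat.card ↥E = 32) (hEA : E.IsComplement' A)
    (eA : ↥A ≃* ↥(alternatingGroup (Fin 5))) :
    (∀ X : Sylow 19 G, Subgroup.centralizer ((X : Subgroup G) : Set G) = X ∧
        ∃ h : ((X : Subgroup G).subgroupOf (Subgroup.normalizer ((X : Subgroup G) : Set G))).Normal,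
          IsCyclic (↥(Subgroup.normalizer ((X : Subgroup G) : Set G)) ⧸ (X : Subgroup G).subgroupOf _) ∧
          Nat.card (↥(Subgroup.normalizer ((X : Subgroup G) : Set G)) ⧸ (X : Subgroup G).subgroupOf _) = 9) ∧
    (∀ Y : Sylow 17 G, Subgroup.centralizer ((Y : Subgroup G) : Set G) = Y ∧
        ∃ h : ((Y : Subgroup G).subgroupOf (Subgroup.normalizer ((Y : Subgroup G) : Set G))).Normal,
          IsCyclic (↥(Subgroup.normalizer ((Y : Subgroup G) : Set G)) ⧸ (Y : Subgroup G).subgroupOf _) ∧
          Nat.card (↥(Subgroup.normalizer ((Y : Subgroup G) : Set G)) ⧸ (Y : Subgroup G).subgroupOf _) = 8) := by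
  haveI : Fact (Nat.Prime 17) := ⟨by norm_num⟩
  haveI : Fact (Nat.Prime 19) := ⟨by norm_num⟩
  obtain ⟨Q, K, C, D, -, -⟩ := CfsgLib.J3Type.exists_data hone t ht E hE32 hE (hEA.symm.QuotientMulEquiv.trans eA)
  obtain ⟨x, y, w, s, F⟩ := D.exists_Five
  have hs : IsSimpleGroup G := inferInstance
  have hc := D.card_eq hs
  refine ⟨fun X => ?_, fun Y => ?_⟩
  · obtain ⟨h1, h2⟩ := CfsgLib.J3Type.nineteen F hs hc X
    exact finish X (CfsgLib.J3Type.nineteen_first F hs hc X).1 h1 (by rw [h2])
  · obtain ⟨h1, h2⟩ := CfsgLib.J3Type.seventeen F hs hc Y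
    exact finish Y (CfsgLib.J3Type.seventeen_first F hs hc Y).1 h1 (by rw [h2])

end Cfsg.Agent.S2228
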