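import Cfsg.Statements.S2231
import Mathlib
import Cfsg.Agent.Lib.Qd.Upper
import Cfsg.Agent.Lib.SL2.Unipotent

set_option autoImplicit false
open Cfsg

namespace Cfsg.Agent.S2231

/-- Let p be an odd prime and K a finite field of characteristic p. Then Qd(p) (the natural semidirect product of an elementary abelian group of order p² by SL₂(p)) is not involved in the projective special linear group PSL₂(K). -/
theorem result {p : ℕ} [Fact p.Prime] (hp : p ≠ 2) {K : Type*} [Field K] [Fintype K] [CharP K p] : ¬ Cfsg.Involves ↥(Cfsg.qd p) (Matrix.ProjectiveSpecialLinearGroup (Fin 2) K) := by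
  classical
  -- p-subgroups of the target are commutative
  have hab : ∀ P : Subgroup (Matrix.ProjectiveSpecialLinearGroup (Fin 2) K), IsPGroup p P →
      ∀ x ∈ P, ∀ y ∈ P, x * y = y * x := by
    intro P hP x hx y hy
    obtain ⟨Q, hQ⟩ := hP.exists_le_sylow
    let S : Sylow p (Matrix.SpecialLinearGroup (Fin 2) K) := default
    let T := S.mapSurjective
      (QuotientGroup.mk'_surjective (Subgroup.center (Matrix.SpecialLinearGroup (Fin 2) K)))
    obtain ⟨g, hg⟩ := CfsgLib.SL2.exists_conj_upperSL p S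
    obtain ⟨h, hh⟩ := MulAction.exists_smul_eq (Matrix.ProjectiveSpecialLinearGroup (Fin 2) K) T Q
    have hQc : ∀ z ∈ (Q : Subgroup (Matrix.ProjectiveSpecialLinearGroup (Fin 2) K)), ∃ b : Multiplicative K,
        z = h * QuotientGroup.mk' _ (g * CfsgLib.SL2.upperHom b * g⁻¹) * h⁻¹ := by
      intro z hz
      rw [← hh] at hz
      obtain ⟨w, hw, rfl⟩ := hz
      obtain ⟨s, hs, rfl⟩ := hw
      rw [SetLike.mem_coe, hg] at hs
      obtain ⟨u, ⟨b, rfl⟩, rfl⟩ := hs
      exact ⟨b, rfl⟩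
    obtain ⟨b, rfl⟩ := hQc x (hQ hx)
    obtain ⟨c, rfl⟩ := hQc y (hQ hy)
    have hUV : QuotientGroup.mk' (Subgroup.center (Matrix.SpecialLinearGroup (Fin 2) K))
          (g * CfsgLib.SL2.upperHom b * g⁻¹) * QuotientGroup.mk' _ (g * CfsgLib.SL2.upperHom c * g⁻¹) =
        QuotientGroup.mk' (Subgroup.center (Matrix.SpecialLinearGroup (Fin 2) K))
          (g * CfsgLib.SL2.upperHom c * g⁻¹) * QuotientGroup.mk' _ (g * CfsgLib.SL2.upperHom b * g⁻¹) := by
      rw [← map_mul, ← map_mul]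
      congr 1
      calc g * CfsgLib.SL2.upperHom b * g⁻¹ * (g * CfsgLib.SL2.upperHom c * g⁻¹)
          = g * (CfsgLib.SL2.upperHom b * CfsgLib.SL2.upperHom c) * g⁻¹ := by group
        _ = g * (CfsgLib.SL2.upperHom c * CfsgLib.SL2.upperHom b) * g⁻¹ := by
          rw [← map_mul, ← map_mul, mul_comm]
        _ = g * CfsgLib.SL2.upperHom c * g⁻¹ * (g * CfsgLib.SL2.upperHom b * g⁻¹) := by group
    generalize QuotientGroup.mk' (Subgroup.center (Matrix.SpecialLinearGroup (Fin 2) K))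
      (g * CfsgLib.SL2.upperHom b * g⁻¹) = U at hUV ⊢
    generalize QuotientGroup.mk' (Subgroup.center (Matrix.SpecialLinearGroup (Fin 2) K))
      (g * CfsgLib.SL2.upperHom c * g⁻¹) = V at hUV ⊢
    calc h * U * h⁻¹ * (h * V * h⁻¹) = h * (U * V) * h⁻¹ := by group
      _ = h * (V * U) * h⁻¹ := by rw [hUV]
      _ = h * V * h⁻¹ * (h * U * h⁻¹) := by group
  rintro ⟨H, R, hR, ⟨e⟩⟩
  let π : H →* ↥(Cfsg.qd p) := e.toMonoidHom.comp (QuotientGroup.mk' (R.subgroupOf H))
  have hπ : Function.Surjective π := e.surjective.comp (QuotientGroup.mk'_surjective _)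
  obtain ⟨T, hT⟩ := CfsgLib.Qd.exists_sylow_upper (p := p)
  let S : Sylow p H := default
  obtain ⟨h, hh⟩ := MulAction.exists_smul_eq (↥(Cfsg.qd p)) (S.mapSurjective hπ) T
  have hS : ∀ a ∈ (S : Subgroup H), ∀ b ∈ (S : Subgroup H), a * b = b * a := fun a ha b hb =>
    Subtype.ext (hab ((S : Subgroup H).map H.subtype) (S.2.map H.subtype) _ ⟨a, ha, rfl⟩ _ ⟨b, hb, rfl⟩)
  have hTc : ∀ x ∈ (T : Subgroup ↥(Cfsg.qd p)), ∀ y ∈ (T : Subgroup ↥(Cfsg.qd p)), x * y = y * x := by
    intro x hx y hy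
    rw [← hh] at hx hy
    obtain ⟨x', hx', rfl⟩ := hx
    obtain ⟨y', hy', rfl⟩ := hy
    obtain ⟨a, ha, rfl⟩ := hx'
    obtain ⟨b, hb, rfl⟩ := hy'
    show MulAut.conj h (π a) * MulAut.conj h (π b) = MulAut.conj h (π b) * MulAut.conj h (π a)
    rw [← map_mul, ← map_mul, ← map_mul, ← map_mul, hS a ha b hb]
  have hc : Subgroup.center ↥(CfsgLib.Qd.upper p) = ⊤ := eq_top_iff.mpr fun x _ =>
    Subgroup.mem_center_iff.mpr fun y =>
      Subtype.ext (hTc _ (hT.symm ▸ y.2) _ (hT.symm ▸ x.2))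
  have h1 := CfsgLib.Qd.card_center_upper (p := p)
  rw [hc, Subgroup.card_top, CfsgLib.Qd.card_upper] at h1
  have h2 := (Fact.out : p.Prime).two_le
  have h3 := Nat.pow_lt_pow_right (a := p) (m := 1) (n := 3) (by omega) (by norm_num)
  rw [pow_one] at h3
  omega

end Cfsg.Agent.S2231
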