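import Cfsg.Statements.S2232
import Cfsg.Agent.Lib.Classical.UnitaryThreeSylow
import Cfsg.Agent.Lib.Qd.Upper
-- import your own Cfsg.Agent.* helpers here

set_option autoImplicit false
set_option maxHeartbeats 1600000
open Cfsg

namespace Cfsg.Agent.S2232


/-- Let p be an odd prime, q a power of p and K a finite field with q² elements. Then Qd(p) (the natural semidirect product of an elementary abelian group of order p² by SL₂(p)) is not involved in the projective special unitary group PSU₃(q) realised over K. -/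
theorem result {p : ℕ} [Fact p.Prime] (hp : p ≠ 2) {K : Type*} [Field K] [Fintype K] [CharP K p] (n : ℕ) (hn : 1 ≤ n) (hK : Fintype.card K = (p ^ n) ^ 2) : ¬ Cfsg.Involves ↥(Cfsg.qd p) (Cfsg.PSU 3 K (p ^ n)) := by
  classical
  obtain ⟨U⟩ := CfsgLib.ClassicalAut.Unitary.exists_conj (F := K) (p := p) (f := n) rfl
    (by rw [Nat.card_eq_fintype_card, hK])
  rintro ⟨K', R, hR, ⟨e⟩⟩
  let π : K' →* ↥(Cfsg.qd p) := e.toMonoidHom.comp (QuotientGroup.mk' (R.subgroupOf K'))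
  have hπ : Function.Surjective π := e.surjective.comp (QuotientGroup.mk'_surjective _)
  haveI htn : (CfsgLib.Qd.transl p).Normal := by
    refine ⟨fun x hx g => ?_⟩
    obtain ⟨a, v, rfl⟩ := CfsgLib.Qd.el_surj g
    obtain ⟨w, rfl⟩ := CfsgLib.Qd.mem_transl.mp hx
    exact CfsgLib.Qd.mem_transl.mpr ⟨_, (CfsgLib.Qd.conj_el_one a v w).symm⟩
  set Q := (CfsgLib.Qd.transl p).comap π with hQ
  haveI : Q.Normal := htn.comap π
  let P0 : Sylow p Q := default
  set P1 := (P0 : Subgroup Q).map Q.subtype with hP1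
  set N := Subgroup.normalizer (P1 : Set K') with hN
  have hsup : N ⊔ Q = ⊤ := Sylow.normalizer_sup_eq_top P0
  have hQT : Q.map π = CfsgLib.Qd.transl p := Subgroup.map_comap_eq_self_of_surjective hπ _
  -- the Sylow subgroup of `Q` covers the translations
  have hcov : P1.map π = CfsgLib.Qd.transl p := by
    let ρ : Q →* CfsgLib.Qd.transl p := π.subgroupComap (CfsgLib.Qd.transl p)
    have hρ : Function.Surjective ρ := by
      rintro ⟨y, hy⟩
      obtain ⟨x, rfl⟩ := hπ y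
      exact ⟨⟨x, hy⟩, rfl⟩
    have h1 : (P0 : Subgroup Q).map ρ = ⊤ :=
      ((P0.mapSurjective hρ).is_maximal' (CfsgLib.Qd.isPGroup_transl.to_subgroup ⊤) le_top).symm
    refine le_antisymm ?_ fun y hy => ?_
    · rintro _ ⟨_, ⟨x, -, rfl⟩, rfl⟩
      exact x.2
    · obtain ⟨x, hx, hxy⟩ : (⟨y, hy⟩ : CfsgLib.Qd.transl p) ∈ (P0 : Subgroup Q).map ρ := h1 ▸ Subgroup.mem_top _
      exact ⟨_, ⟨x, hx, rfl⟩, congrArg Subtype.val hxy⟩
  have hNtop : N.map π = ⊤ := by
    have h := congrArg (Subgroup.map π) hsup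
    rw [Subgroup.map_sup, hQT, Subgroup.map_top_of_surjective π hπ] at h
    rwa [sup_eq_left.mpr (hcov ▸ Subgroup.map_mono Subgroup.le_normalizer)] at h
  obtain ⟨x, hxP, hx1⟩ : ∃ x ∈ P1, x ≠ 1 := by
    by_contra hc
    push Not at hc
    have h := CfsgLib.Qd.el_inj (p := p) (g := 1) (h := 1) (v := ![1, 0]) (w := 0) (by
      obtain ⟨x, hx, hxe⟩ : CfsgLib.Qd.el (p := p) 1 ![1, 0] ∈ P1.map π :=
        hcov ▸ CfsgLib.Qd.mem_transl.mpr ⟨_, rfl⟩
      rw [← hxe, hc x hx, map_one, CfsgLib.Qd.el_one])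
    exact one_ne_zero (congrFun h.2 0)
  have hP1p : IsPGroup p (P1.map K'.subtype) := (P0.2.map _).map _
  obtain ⟨P, hP⟩ := hP1p.exists_le_sylow
  have hin : ∀ t ∈ N, ∀ i : ℕ, t ^ p ^ i = 1 → (t : Cfsg.PSU 3 K (p ^ n)) ∈ (P : Subgroup _) := by
    intro t ht i hti
    refine CfsgLib.Classical.UThreeSylow.sylow_isolated U hp rfl P (x := (x : Cfsg.PSU 3 K (p ^ n)))
      (hP ⟨x, hxP, rfl⟩) (fun h => hx1 (Subtype.ext h)) (congrArg Subtype.val hti) ?_
    exact hP ⟨t * x * t⁻¹, (Subgroup.mem_normalizer_iff.mp ht x).mp hxP, rfl⟩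
  -- the elements of prime power order of the normaliser form a normal subgroup
  let D0 : Subgroup N := ((P : Subgroup (Cfsg.PSU 3 K (p ^ n))).comap K'.subtype).comap N.subtype
  have hD0 : ∀ t ∈ D0, ∃ i : ℕ, t ^ p ^ i = 1 := by
    intro t ht
    obtain ⟨i, hi⟩ := P.2 ⟨_, ht⟩
    exact ⟨i, Subtype.ext (Subtype.ext (by simpa using congrArg Subtype.val hi))⟩
  haveI : D0.Normal := by
    refine ⟨fun t ht g => ?_⟩
    obtain ⟨i, hi⟩ := hD0 t ht
    exact hin _ (g * t * g⁻¹).2 i (congrArg Subtype.val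
      (show (g * t * g⁻¹) ^ p ^ i = 1 by rw [conj_pow, hi, mul_one, mul_inv_cancel]))
  have hπN : Function.Surjective (π.comp N.subtype) := by
    intro y
    obtain ⟨a, ha, rfl⟩ : y ∈ N.map π := hNtop ▸ Subgroup.mem_top y
    exact ⟨⟨a, ha⟩, rfl⟩
  haveI : (D0.map (π.comp N.subtype)).Normal := Subgroup.Normal.map inferInstance _ hπN
  refine CfsgLib.Qd.not_mem_of_normal hp (D := D0.map (π.comp N.subtype)) ?_ 0 ?_
  · rintro _ ⟨t, ht, rfl⟩
    obtain ⟨i, hi⟩ := hD0 t ht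
    refine ⟨i, ?_⟩
    rw [← map_pow, hi, map_one]
    exact one_mem _
  · let S : Sylow p N := default
    obtain ⟨T, hT⟩ : ∃ T : Sylow p ↥(Cfsg.qd p), CfsgLib.Qd.el (p := p) (CfsgLib.SL2.up (1 : ZMod p)) 0 ∈
        (T : Subgroup ↥(Cfsg.qd p)) := by
      obtain ⟨T, hT⟩ := CfsgLib.Qd.exists_sylow_upper (p := p)
      exact ⟨T, hT ▸ CfsgLib.Qd.mem_upper.mpr ⟨1, 0, rfl⟩⟩
    obtain ⟨w, hw⟩ := MulAction.exists_smul_eq ↥(Cfsg.qd p) (S.mapSurjective hπN) T
    have hS : ((S : Subgroup N)).map (π.comp N.subtype) ≤ D0.map (π.comp N.subtype) := by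
      refine Subgroup.map_mono fun t ht => ?_
      obtain ⟨i, hi⟩ := S.2 ⟨t, ht⟩
      exact hin _ t.2 i (congrArg Subtype.val (congrArg Subtype.val hi))
    rw [← hw, Sylow.coe_subgroup_smul, Subgroup.mem_pointwise_smul_iff_inv_smul_mem] at hT
    have h2 := ‹(D0.map (π.comp N.subtype)).Normal›.conj_mem _ (hS hT) w
    simpa [mul_assoc] using h2

end Cfsg.Agent.S2232
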