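import Cfsg.Statements.S2241
import Cfsg.Agent.Lib.Suzuki.Tori
import Cfsg.Agent.Lib.Suzuki.Symp
-- import your own Cfsg.Agent.* helpers here

set_option autoImplicit false
open Cfsg

namespace Cfsg.Agent.S2241

open CfsgLib.Suzuki MulAction

/-- Real 2-elements of the Suzuki group: with q = 2^(2m+1), m ≥ 1, and the group realised as the stabiliser in SL₄ of the Suzuki–Tits ovoid, a non-identity element of a Sylow 2-subgroup is conjugate to its inverse if and only if it is an involution; in particular no element of order 4 is conjugate to its inverse. -/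
theorem result {F : Type*} [Field F] [Fintype F] {m : ℕ} (hm : 1 ≤ m) (hF : Fintype.card F = 2 ^ (2 * m + 1)) (P : Sylow 2 ↥(Cfsg.Sz F m)) (g : ↥(Cfsg.Sz F m)) (hg : g ∈ (P : Subgroup ↥(Cfsg.Sz F m))) (h1 : g ≠ 1) :
    IsConj g g⁻¹ ↔ orderOf g = 2 := by
  haveI := charP_two_of_card hF
  haveI : Param F m := ⟨hm, hF⟩
  obtain ⟨k, hk⟩ := IsPGroup.iff_orderOf.mp P.isPGroup' ⟨g, hg⟩
  rw [Subgroup.orderOf_mk] at hk
  constructor
  swap
  · intro h2
    rw [inv_eq_of_mul_eq_one_right (a := g) (b := g) (by rw [← sq, ← h2, pow_orderOf_eq_one])]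
  intro h
  obtain ⟨c₀, hc₀⟩ := exists_conj_mem_grpU hk
  obtain ⟨a, b, hu⟩ := hc₀
  have hu1 : gT (m := m) a b ≠ 1 := fun e => h1 (by
    rw [← hu, mul_inv_eq_one] at e
    exact mul_eq_left.mp e)
  obtain ⟨y, hy⟩ := isConj_iff.mp h
  obtain ⟨x, hx⟩ : ∃ x : Gp F m, x * gT a b * x⁻¹ = (gT a b)⁻¹ :=
    ⟨c₀ * y * c₀⁻¹, by
      rw [← hu]
      calc c₀ * y * c₀⁻¹ * (c₀ * g * c₀⁻¹) * (c₀ * y * c₀⁻¹)⁻¹ = c₀ * (y * g * y⁻¹) * c₀⁻¹ := by group
        _ = c₀ * g⁻¹ * c₀⁻¹ := by rw [hy]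
        _ = _ := by group⟩
  rw [← CfsgLib.Ree.orderOf_conj' c₀ g, hu]
  by_cases ha : a = 0
  · refine orderOf_eq_prime ?_ hu1
    rw [sq, gT_sq, ha, map_zero, zero_mul, gT_zero]
  exfalso
  have hxi : x⁻¹ • pinf F m = pinf F m := gT_fix hu1 (by
    rw [show gT (m := m) a b = x⁻¹ * (gT a b)⁻¹ * x by rw [← hx]; group, mul_smul, mul_smul,
      smul_inv_smul, gT_inv, gT_smul_pinf])
  rw [inv_smul_eq_iff] at hxi
  obtain ⟨c, d, t, rfl⟩ := exists_eq_gT_mul_gH hxi.symm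
  rw [show gT c d * gH t * gT (m := m) a b * (gT c d * gH t)⁻¹ =
    gT c d * (gH t * gT a b * (gH t)⁻¹) * (gT c d)⁻¹ by group, gH_conj_gT, gT_conj_gT, gT_inv] at hx
  obtain ⟨f1, f2⟩ := gT_inj hx
  have ht : t = 1 := Units.ext (sg_injective (by
    rw [(mul_eq_right₀ ha).1 f1, Units.val_one, map_one]))
  subst ht
  have h2 : (2 : F) = 0 := two_eq_zero
  rw [Units.val_one, map_one, one_pow, one_mul, one_mul, one_mul, add_assoc, add_left_cancel_iff] at f2
  set w : F := c / a with hw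
  have hsa : sg F m a ≠ 0 := (map_ne_zero (sg F m)).2 ha
  have e1 : sg F m w + w = 1 := by
    rw [hw, map_div₀]
    field_simp
    linear_combination f2
  have e2 := congrArg (sg F m) e1
  rw [map_add, map_one, sg_sg hF] at e2
  have e3 : w * (w + 1) = 0 := by linear_combination e2 - e1 + w * h2
  rcases mul_eq_zero.mp e3 with h0 | h0
  · rw [h0, map_zero, add_zero] at e1
    exact zero_ne_one e1
  · rw [CharTwo.add_eq_zero] at h0
    rw [h0, map_one, CharTwo.add_self_eq_zero] at e1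
    exact zero_ne_one e1

end Cfsg.Agent.S2241
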