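import Cfsg.Statements.S2244
import Cfsg.Agent.Lib.Chev.WeakClosed
import Cfsg.Agent.Lib.Chev.DataDerived
import Cfsg.Agent.Lib.Chev.All
-- import your own Cfsg.Agent.* helpers here

set_option autoImplicit false
open Cfsg

namespace Cfsg.Agent.S2244

/-- Weakly closed unipotent subgroups of Chevalley groups: let G be the Chevalley group of type G₂, B₂, D₄, F₄, E₆, E₇ or E₈ over a finite field F (the matrix group generated by the root elements), with |F| ≠ 2, and |F| ≠ 3 as well for the types G₂, B₂, D₄, F₄. Let U be the subgroup generated by the positive root subgroups. If X ≤ U is weakly closed in U with respect to G (every G-conjugate of X lying in U equals X), then X is the unipotent radical U_J of a standard parabolic subgroup for some set J of fundamental roots. -/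
theorem result {F : Type*} [Field F] [Fintype F] (D : Cfsg.Lie.ChevalleyDatum) (hD : D ∈ [Cfsg.Lie.chevG2, Cfsg.Lie.chevB2, Cfsg.Lie.chevD4, Cfsg.Lie.chevF4, Cfsg.Lie.chevE6, Cfsg.Lie.chevE7, Cfsg.Lie.chevE8])
    (h2 : Fintype.card F ≠ 2) (h3 : D ∈ [Cfsg.Lie.chevG2, Cfsg.Lie.chevB2, Cfsg.Lie.chevD4, Cfsg.Lie.chevF4] → Fintype.card F ≠ 3)
    (X : Subgroup (GL D.Idx F)) (hXU : X ≤ D.posUnipotent F)
    (hwc : ∀ g ∈ D.group F, X.map (MulAut.conj g).toMonoidHom ≤ D.posUnipotent F → X.map (MulAut.conj g).toMonoidHom = X) :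
    ∃ J : Set ℕ, (∀ j ∈ J, j < D.rank) ∧ X = D.unipotentRadical F J := by
  classical
  have hcard : 2 ≤ Fintype.card F := Fintype.one_lt_card
  obtain ⟨n, hp, hn⟩ := FiniteField.card F (ringChar F)
  have main : ∀ {T : CfsgLib.Chev.Tab} {C : CfsgLib.Chev.Tab.Cover}
      (_ : CfsgLib.Chev.Cert D T C) (multi : Bool) (L : List (ℕ × ℕ × ℕ)),
      T.chkKill multi L [] = true → T.chkWCSep multi = true →
      (multi = true → 4 ≤ Fintype.card F) →
      ∃ J : Set ℕ, (∀ j ∈ J, j < D.rank) ∧ X = D.unipotentRadical F J := by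
    intro T C h multi L h1 h2' h4
    refine ⟨_, ?_, h.weaklyClosed_eq_radical h1 h2' (by omega) h4
      ⟨ringChar F, hp, IsPGroup.of_card (n := n * T.half) ?_⟩ hXU hwc⟩
    · rintro j ⟨hj, -⟩
      rwa [h.rank_eq]
    · rw [h.card_posUnipotent, hn, pow_mul]
  simp only [List.mem_cons, List.not_mem_nil, or_false] at hD
  rcases hD with rfl | rfl | rfl | rfl | rfl | rfl | rfl
  · exact main CfsgLib.Chev.certG2 true CfsgLib.Chev.derivedPairsG2 (by decide +kernel)
      (by decide +kernel) fun _ => by have := h3 (by simp); omega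
  · exact main CfsgLib.Chev.certB2 true CfsgLib.Chev.derivedPairsB2 (by decide +kernel)
      (by decide +kernel) fun _ => by have := h3 (by simp); omega
  · exact main CfsgLib.Chev.certD4 true CfsgLib.Chev.derivedPairsD4 (by decide +kernel)
      (by decide +kernel) fun _ => by have := h3 (by simp); omega
  · exact main CfsgLib.Chev.certF4 true CfsgLib.Chev.derivedPairsF4 (by decide +kernel)
      (by decide +kernel) fun _ => by have := h3 (by simp); omega
  · exact main CfsgLib.Chev.certE6 false CfsgLib.Chev.derivedPairsE6 (by decide +kernel)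
      (by decide +kernel) (by simp)
  · exact main CfsgLib.Chev.certE7 false CfsgLib.Chev.derivedPairsE7 (by decide +kernel)
      (by decide +kernel) (by simp)
  · exact main CfsgLib.Chev.certE8 false CfsgLib.Chev.derivedPairsE8 (by decide +kernel)
      (by decide +kernel) (by simp)

end Cfsg.Agent.S2244
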