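import Cfsg.Statements.S2245
import Cfsg.Agent.Lib.Perm.TwoOvergroups

set_option autoImplicit false
open Cfsg
open scoped Pointwise

namespace Cfsg.Agent.S2245

/-- For n ≥ 5 with n ≠ 6, a Sylow 2-subgroup of the alternating group A_n lies in exactly one maximal subgroup of A_n if and only if n = 2^k + 1 for some k ≥ 2; the same holds for the symmetric group S_n. -/
theorem result (n : ℕ) (hn : 5 ≤ n) (h6 : n ≠ 6) :
    ((∀ R : Sylow 2 ↥(alternatingGroup (Fin n)), (∃! M : Subgroup ↥(alternatingGroup (Fin n)), IsCoatom M ∧ (R : Subgroup ↥(alternatingGroup (Fin n))) ≤ M) ↔ ∃ k : ℕ, 2 ≤ k ∧ n = 2 ^ k + 1) ∧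
    (∀ R : Sylow 2 (Equiv.Perm (Fin n)), (∃! M : Subgroup (Equiv.Perm (Fin n)), IsCoatom M ∧ (R : Subgroup (Equiv.Perm (Fin n))) ≤ M) ↔ ∃ k : ℕ, 2 ≤ k ∧ n = 2 ^ k + 1)) := by
  have hc : Fintype.card (Fin n) = n := Fintype.card_fin n
  have B2 : CfsgLib.TwoOvergroups.Big (MonoidHom.id (Equiv.Perm (Fin n))) := by
    refine ⟨Function.injective_id, ?_, fun X h1 h2 h3 => ?_⟩
    · rw [MonoidHom.range_eq_top.mpr Function.surjective_id]; exact le_top
    · rw [Subgroup.comap_id]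
      exact Equiv.Perm.isCoatom_stabilizer h1 h2 (by rwa [Nat.card_eq_fintype_card])
  have B1 : CfsgLib.TwoOvergroups.Big (alternatingGroup (Fin n)).subtype := by
    refine ⟨Subgroup.subtype_injective _, ?_, fun X h1 h2 h3 => ?_⟩
    · rw [Subgroup.range_subtype]
    · have he : (MulAction.stabilizer (Equiv.Perm (Fin n)) X).comap (alternatingGroup (Fin n)).subtype
          = MulAction.stabilizer (alternatingGroup (Fin n)) X := by
        ext g; rfl
      rw [he]
      exact alternatingGroup.isCoatom_stabilizer h1 h2 (by rwa [Nat.card_eq_fintype_card])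
  refine ⟨fun R => ⟨fun h => ?_, fun h => ?_⟩, fun R => ⟨fun h => ?_, fun h => ?_⟩⟩
  · obtain ⟨k, hk, he⟩ := CfsgLib.TwoOvergroups.exists_eq_of_unique B1 (by rwa [hc]) R h
    exact ⟨k, hk, hc ▸ he⟩
  · obtain ⟨k, hk, he⟩ := h
    exact CfsgLib.TwoOvergroups.unique_of_eq B1 hk (by rw [hc]; exact he) R
  · obtain ⟨k, hk, he⟩ := CfsgLib.TwoOvergroups.exists_eq_of_unique B2 (by rwa [hc]) R h
    exact ⟨k, hk, hc ▸ he⟩
  · obtain ⟨k, hk, he⟩ := h
    exact CfsgLib.TwoOvergroups.unique_of_eq B2 hk (by rw [hc]; exact he) R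

end Cfsg.Agent.S2245
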