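import Cfsg.Statements.S2254
import Cfsg.Agent.Lib.Perm.NilpotentSecondModel

set_option autoImplicit false
open Cfsg
open CfsgLib.PermNilpotentSecond CfsgLib.PermNilpotentBound

namespace Cfsg.Agent.S2254

/-- Let n ≡ 3 (mod 4). Then every nilpotent subgroup of the symmetric group on n letters has order at most 3 times the order of a Sylow 2-subgroup of the symmetric group on n − 3 letters; the bound is attained by a nilpotent subgroup isomorphic to the direct product of such a Sylow 2-subgroup with a cyclic group of order 3; and any two nilpotent subgroups attaining the bound are conjugate. -/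
theorem result  (n : ℕ) (hn : n % 4 = 3)
    (P : Sylow 2 (Equiv.Perm (Fin (n - 3)))) :
    (∀ N : Subgroup (Equiv.Perm (Fin n)), Group.IsNilpotent N → Nat.card N ≤ 3 * Nat.card P) ∧
    (∃ M : Subgroup (Equiv.Perm (Fin n)), Group.IsNilpotent M ∧ Nat.card M = 3 * Nat.card P ∧
      Nonempty (M ≃* (↥(P : Subgroup (Equiv.Perm (Fin (n - 3)))) × Multiplicative (ZMod 3)))) ∧
    (∀ N₁ N₂ : Subgroup (Equiv.Perm (Fin n)), Group.IsNilpotent N₁ → Group.IsNilpotent N₂ →
      Nat.card N₁ = 3 * Nat.card P → Nat.card N₂ = 3 * Nat.card P →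
      ∃ g : Equiv.Perm (Fin n), N₂ = N₁.map (MulAut.conj g).toMonoidHom) := by
  have hv := twoVal_sub_three hn
  have hP : Nat.card P = 2 ^ twoVal (n - 3) := card_sylow_perm P
  obtain ⟨hMn, hMc, hMi⟩ := model (splitThree (show 3 ≤ n by omega))
    (P : Subgroup (Equiv.Perm (Fin (n - 3)))) P.isPGroup'
  refine ⟨fun N hN => ?_, ⟨_, hMn, hMc, hMi⟩, fun N₁ N₂ h₁ h₂ c₁ c₂ => ?_⟩
  · rcases sym_bound hn N hN with h | ⟨e, X, hle⟩
    · rw [hP]; exact h.le
    · rw [hP, ← card_std e X]
      exact Subgroup.card_le_of_le hle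
  · have key : ∀ N : Subgroup (Equiv.Perm (Fin n)), Group.IsNilpotent N → Nat.card N = 3 * Nat.card P →
        ∃ (e : Fin (n - 3) ⊕ Fin 3 ≃ Fin n) (X : Sylow 2 (Equiv.Perm (Fin (n - 3)))), N = std e X := by
      intro N hN hc
      rcases sym_bound hn N hN with h | ⟨e, X, hle⟩
      · rw [hc, hP] at h; exact absurd h (lt_irrefl _)
      · exact ⟨e, X, Subgroup.eq_of_le_of_card_ge hle (by rw [card_std, hc, hP])⟩
    obtain ⟨e, X, rfl⟩ := key N₁ h₁ c₁
    obtain ⟨e', X', rfl⟩ := key N₂ h₂ c₂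
    exact std_conj e e' X X'

end Cfsg.Agent.S2254
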