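import Cfsg.Statements.S2255
import Cfsg.Agent.Lib.Perm.NilpotentSecondModel

set_option autoImplicit false
open Cfsg
open CfsgLib.PermNilpotentSecond CfsgLib.PermNilpotentBound

namespace Cfsg.Agent.S2255

/-- Let n be a natural number not congruent to 3 modulo 4, with n ∉ {5, 6, 9}. Then every nilpotent subgroup of the alternating group on n letters has order at most the order of a Sylow 2-subgroup of the alternating group (so the nilpotent subgroups of largest order are exactly the Sylow 2-subgroups). -/
theorem result  (n : ℕ) (hn : n % 4 ≠ 3)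
    (h5 : n ≠ 5) (h6 : n ≠ 6) (h9 : n ≠ 9)
    (N : Subgroup (alternatingGroup (Fin n))) (hN : Group.IsNilpotent N)
    (P : Sylow 2 (alternatingGroup (Fin n))) :
    Nat.card N ≤ Nat.card P := by
  rcases Nat.lt_or_ge n 2 with h2 | h2
  · have : Subsingleton (Fin n) := Fin.subsingleton_iff_le_one.2 (by omega)
    rw [Nat.card_unique (α := N)]
    exact Nat.one_le_iff_ne_zero.2 Nat.card_pos.ne'
  · have hN' : Group.IsNilpotent (N.map (alternatingGroup (Fin n)).subtype) :=
      Group.nilpotent_of_mulEquiv
        (Subgroup.equivMapOfInjective N _ (alternatingGroup (Fin n)).subtype_injective)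
    have h := alt_bound hn h2 h5 h6 h9 _ hN' (Subgroup.map_subtype_le N)
    rw [Subgroup.card_subtype, ← card_sylow_alt h2 P] at h
    omega

end Cfsg.Agent.S2255
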