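import Cfsg.Statements.S2256
import Cfsg.Agent.Lib.Perm.NilpotentSecondModel

set_option autoImplicit false
open Cfsg
open CfsgLib.PermNilpotentSecond CfsgLib.PermNilpotentBound

namespace Cfsg.Agent.S2256

/-- Let n ≡ 3 (mod 4) with n ≥ 7. Then every nilpotent subgroup of the alternating group on n letters has order at most 3 times the order of a Sylow 2-subgroup of the alternating group on n − 3 letters; the bound is attained by a nilpotent subgroup isomorphic to the direct product of such a Sylow 2-subgroup with a cyclic group of order 3; and any two nilpotent subgroups of the alternating group attaining the bound are conjugate in it. -/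
theorem result  (n : ℕ) (hn : n % 4 = 3) (h7 : 7 ≤ n)
    (P : Sylow 2 (alternatingGroup (Fin (n - 3)))) :
    (∀ N : Subgroup (alternatingGroup (Fin n)), Group.IsNilpotent N → Nat.card N ≤ 3 * Nat.card P) ∧
    (∃ M : Subgroup (alternatingGroup (Fin n)), Group.IsNilpotent M ∧ Nat.card M = 3 * Nat.card P ∧
      Nonempty (M ≃* (↥(P : Subgroup (alternatingGroup (Fin (n - 3)))) × Multiplicative (ZMod 3)))) ∧
    (∀ N₁ N₂ : Subgroup (alternatingGroup (Fin n)), Group.IsNilpotent N₁ → Group.IsNilpotent N₂ →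
      Nat.card N₁ = 3 * Nat.card P → Nat.card N₂ = 3 * Nat.card P →
      ∃ g : alternatingGroup (Fin n), N₂ = N₁.map (MulAut.conj g).toMonoidHom) := by
  have hm : 2 ≤ n - 3 := by omega
  have hP := card_sylow_alt hm P
  let Y := (P : Subgroup (alternatingGroup (Fin (n - 3)))).map (alternatingGroup (Fin (n - 3))).subtype
  let iY : Y ≃* (P : Subgroup (alternatingGroup (Fin (n - 3)))) :=
    (Subgroup.equivMapOfInjective _ _ (alternatingGroup (Fin (n - 3))).subtype_injective).symm
  obtain ⟨hMn, hMc, ⟨hMi⟩⟩ := model (splitThree (show 3 ≤ n by omega)) Y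
    (P.isPGroup'.of_equiv iY.symm)
  have hMA : (Y.prod (alternatingGroup (Fin 3))).map (emb (splitThree (show 3 ≤ n by omega))) ≤
      alternatingGroup (Fin n) := by
    rintro - ⟨⟨a, b⟩, ⟨⟨a', -, rfl⟩, hb⟩, rfl⟩
    apply Equiv.Perm.mem_alternatingGroup.2
    rw [sign_emb]
    show Equiv.Perm.sign (a' : Equiv.Perm (Fin (n - 3))) * Equiv.Perm.sign b = 1
    rw [Equiv.Perm.mem_alternatingGroup.1 a'.2, Equiv.Perm.mem_alternatingGroup.1 hb, one_mul]
  have hlift : ∀ N : Subgroup (alternatingGroup (Fin n)), Group.IsNilpotent N →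
      Nat.card N < 3 * Nat.card P ∨ ∃ (e : Fin (n - 3) ⊕ Fin 3 ≃ Fin n)
        (X : Sylow 2 (Equiv.Perm (Fin (n - 3)))),
        N.map (alternatingGroup (Fin n)).subtype ≤ std e X ⊓ alternatingGroup (Fin n) ∧
        Nat.card (std e X ⊓ alternatingGroup (Fin n) : Subgroup (Equiv.Perm (Fin n))) = 3 * Nat.card P := by
    intro N hN
    have hN' : Group.IsNilpotent (N.map (alternatingGroup (Fin n)).subtype) :=
      Group.nilpotent_of_mulEquiv
        (Subgroup.equivMapOfInjective N _ (alternatingGroup (Fin n)).subtype_injective)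
    rcases alt_bound_three hn h7 _ hN' (Subgroup.map_subtype_le N) with h | ⟨e, X, hle⟩
    · left
      rw [Subgroup.card_subtype, ← hP] at h
      omega
    · refine Or.inr ⟨e, X, hle, ?_⟩
      obtain ⟨o, ho, hos⟩ := exists_odd hm X
      have h := half (std e X) (emb e (o, 1)) ⟨(o, 1), ⟨ho, one_mem _⟩, rfl⟩
        (by rw [sign_emb, hos, map_one, mul_one])
      rw [card_std, ← hP] at h
      omega
  refine ⟨fun N hN => ?_, ⟨_, ?_, ?_, ⟨(Subgroup.subgroupOfEquivOfLe hMA).trans
    (hMi.trans (MulEquiv.prodCongr iY (MulEquiv.refl _)))⟩⟩, fun N₁ N₂ h₁ h₂ c₁ c₂ => ?_⟩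
  · rcases hlift N hN with h | ⟨e, X, hle, hc⟩
    · exact h.le
    · rw [← hc, ← Subgroup.card_subtype]
      exact Subgroup.card_le_of_le hle
  · exact Group.nilpotent_of_mulEquiv (Subgroup.subgroupOfEquivOfLe hMA).symm
  · rw [Nat.card_congr (Subgroup.subgroupOfEquivOfLe hMA).toEquiv, hMc, Nat.card_congr iY.toEquiv]
  · have key : ∀ N : Subgroup (alternatingGroup (Fin n)), Group.IsNilpotent N → Nat.card N = 3 * Nat.card P →
        ∃ (e : Fin (n - 3) ⊕ Fin 3 ≃ Fin n) (X : Sylow 2 (Equiv.Perm (Fin (n - 3)))),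
          N.map (alternatingGroup (Fin n)).subtype = std e X ⊓ alternatingGroup (Fin n) := by
      intro N hN hc
      rcases hlift N hN with h | ⟨e, X, hle, hc'⟩
      · rw [hc] at h; exact absurd h (lt_irrefl _)
      · exact ⟨e, X, Subgroup.eq_of_le_of_card_ge hle (by rw [hc', Subgroup.card_subtype, hc])⟩
    obtain ⟨e, X, e₁⟩ := key N₁ h₁ c₁
    obtain ⟨e', X', e₂⟩ := key N₂ h₂ c₂
    obtain ⟨g, hg, hgeq⟩ := std_inf_conj hm e e' X X'
    refine ⟨⟨g, hg⟩, Subgroup.map_injective (alternatingGroup (Fin n)).subtype_injective ?_⟩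
    rw [e₂, hgeq, ← e₁, Subgroup.map_map, Subgroup.map_map]
    rfl

end Cfsg.Agent.S2256
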