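import Mathlib
import Cfsg.Statements.S2257
import Cfsg.Agent.Lib.SL2.SolubilizerCount

set_option autoImplicit false
open Cfsg CfsgLib.SL2 CfsgLib.SL2.Solubilizer
open scoped MatrixGroups

namespace Cfsg.Agent.S2257

/-- Let G = PSL_2(F) with F a field of order q = 2^p, p prime, and for x ∈ G call the solubilizer of x the set of y ∈ G such that x and y generate a solvable subgroup. Then the solubilizer of an involution has 3q(q − 1) elements; that of a non-identity element of order dividing q − 1 has 2q(q − 1) elements; and that of a non-identity element of order dividing q + 1 has 2(q + 1) elements. -/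
theorem result (p : ℕ) (hp : p.Prime) {F : Type*} [Field F] [Fintype F]
    (hF : Fintype.card F = 2 ^ p) (x : Matrix.ProjectiveSpecialLinearGroup (Fin 2) F) :
    (orderOf x = 2 → Nat.card {y : Matrix.ProjectiveSpecialLinearGroup (Fin 2) F // Group.IsSolvable ↥(Subgroup.closure ({x, y} : Set (Matrix.ProjectiveSpecialLinearGroup (Fin 2) F)))} = 3 * 2 ^ p * (2 ^ p - 1)) ∧
    (x ≠ 1 → orderOf x ∣ 2 ^ p - 1 → Nat.card {y : Matrix.ProjectiveSpecialLinearGroup (Fin 2) F // Group.IsSolvable ↥(Subgroup.closure ({x, y} : Set (Matrix.ProjectiveSpecialLinearGroup (Fin 2) F)))} = 2 * 2 ^ p * (2 ^ p - 1)) ∧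
    (x ≠ 1 → orderOf x ∣ 2 ^ p + 1 → Nat.card {y : Matrix.ProjectiveSpecialLinearGroup (Fin 2) F // Group.IsSolvable ↥(Subgroup.closure ({x, y} : Set (Matrix.ProjectiveSpecialLinearGroup (Fin 2) F)))} = 2 * (2 ^ p + 1)) := by
  haveI : CharP F 2 := by
    haveI : Fact (Nat.Prime 2) := ⟨by norm_num⟩
    exact charP_of_card_eq_prime_pow (f := p) hF
  haveI : Fact (Nat.Prime 2) := ⟨by norm_num⟩
  have hq : Nat.card F = 2 ^ p := by rw [Nat.card_eq_fintype_card, hF]
  have h : Small 2 p F := ⟨hq, hp, Or.inl rfl⟩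
  have hd := two_card_eq_one h rfl
  rw [← hq]
  have hsq : x ≠ 1 → ∀ k, Odd k → orderOf x ∣ k → x * x ≠ 1 := fun hx1 k hk hxd e => hx1 (orderOf_eq_one_iff.1
    (Nat.eq_one_of_dvd_coprimes (Nat.coprime_two_left.2 hk) (orderOf_dvd_of_pow_eq_one (by rw [pow_two, e])) hxd))
  have heven : Even (Nat.card F) := by rw [hq, Nat.even_pow]; exact ⟨even_two, hp.ne_zero⟩
  refine ⟨fun hx => card_solv_up1_two h rfl hx, fun hx1 hxd => ?_, fun hx1 hxd => ?_⟩
  · have := card_solv_pred h hx1 (hsq hx1 _ (Nat.Even.sub_odd Nat.card_pos heven odd_one) hxd) hxd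
    rw [hd, one_mul] at this
    exact this
  · have := card_solv_succ h hx1 (hsq hx1 _ heven.add_one hxd) hxd
    rw [hd, one_mul] at this
    exact this

end Cfsg.Agent.S2257
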