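import Mathlib
import Cfsg.Statements.S2258
import Cfsg.Agent.Lib.SL2.SolubilizerCount

set_option autoImplicit false
open Cfsg CfsgLib.SL2 CfsgLib.SL2.Solubilizer
open scoped MatrixGroups

namespace Cfsg.Agent.S2258

/-- Let G = PSL_2(F) with F a field of order q = 3^p, p an odd prime, and for x ∈ G call the solubilizer of x the set of y ∈ G such that x and y generate a solvable subgroup. Then the solubilizer of an involution has q(q + 1) elements; that of an element of order 3 has q(q + 5)/2 elements; that of an element of order neither 1 nor 2 dividing q − 1 has q(q − 1) elements; and that of an element of order neither 1 nor 2 dividing q + 1 has q + 1 elements. -/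
theorem result (p : ℕ) (hp : p.Prime) (hodd : Odd p) {F : Type*} [Field F] [Fintype F]
    (hF : Fintype.card F = 3 ^ p) (x : Matrix.ProjectiveSpecialLinearGroup (Fin 2) F) :
    (orderOf x = 2 → Nat.card {y : Matrix.ProjectiveSpecialLinearGroup (Fin 2) F // Group.IsSolvable ↥(Subgroup.closure ({x, y} : Set (Matrix.ProjectiveSpecialLinearGroup (Fin 2) F)))} = 3 ^ p * (3 ^ p + 1)) ∧
    (orderOf x = 3 → 2 * Nat.card {y : Matrix.ProjectiveSpecialLinearGroup (Fin 2) F // Group.IsSolvable ↥(Subgroup.closure ({x, y} : Set (Matrix.ProjectiveSpecialLinearGroup (Fin 2) F)))} = 3 ^ p * (3 ^ p + 5)) ∧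
    (x ≠ 1 → orderOf x ≠ 2 → orderOf x ∣ 3 ^ p - 1 → Nat.card {y : Matrix.ProjectiveSpecialLinearGroup (Fin 2) F // Group.IsSolvable ↥(Subgroup.closure ({x, y} : Set (Matrix.ProjectiveSpecialLinearGroup (Fin 2) F)))} = 3 ^ p * (3 ^ p - 1)) ∧
    (x ≠ 1 → orderOf x ≠ 2 → orderOf x ∣ 3 ^ p + 1 → Nat.card {y : Matrix.ProjectiveSpecialLinearGroup (Fin 2) F // Group.IsSolvable ↥(Subgroup.closure ({x, y} : Set (Matrix.ProjectiveSpecialLinearGroup (Fin 2) F)))} = 3 ^ p + 1) := by
  haveI : CharP F 3 := by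
    haveI : Fact (Nat.Prime 3) := ⟨by norm_num⟩
    exact charP_of_card_eq_prime_pow (f := p) hF
  haveI : Fact (Nat.Prime 3) := ⟨by norm_num⟩
  have hq : Nat.card F = 3 ^ p := by rw [Nat.card_eq_fintype_card, hF]
  have h : Small 3 p F := ⟨hq, hp, Or.inr ⟨rfl, hodd⟩⟩
  have hd := three_card_eq_two h rfl
  rw [← hq]
  refine ⟨fun hx => card_solv_rot h rfl hx, fun hx => card_solv_up1_three h rfl hx, fun hx1 hx2 hxd => ?_, fun hx1 hx2 hxd => ?_⟩ <;>
    have hxx : x * x ≠ 1 := fun e => hx2 (orderOf_eq_prime (by rw [pow_two, e]) hx1)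
  · have := card_solv_pred h hx1 hxx hxd
    rw [hd, mul_assoc 2] at this
    exact Nat.eq_of_mul_eq_mul_left two_pos this
  · have := card_solv_succ h hx1 hxx hxd
    rw [hd] at this
    exact Nat.eq_of_mul_eq_mul_left two_pos this

end Cfsg.Agent.S2258
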