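import Cfsg.Statements.S2261
import Cfsg.Agent.Lib.Singer.Basic

set_option autoImplicit false
open Cfsg

namespace Cfsg.Agent.S2261

open Matrix

variable {F : Type*} [Field F] [Finite F] {d : ℕ}

/-- Units of `R` mapped to `PGL_d` through `φ`. -/
noncomputable def toPGL {R : Type*} [CommRing R] [Algebra F R]
    (φ : R →ₐ[F] Matrix (Fin d) (Fin d) F) :
    Rˣ →* GL (Fin d) F ⧸ Subgroup.center (GL (Fin d) F) :=
  (QuotientGroup.mk' _).comp (Units.map φ.toRingHom.toMonoidHom)

omit [Finite F] in
lemma central_iff [Nonempty (Fin d)] (g : GL (Fin d) F) :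
    g ∈ Subgroup.center (GL (Fin d) F) ↔ ∃ r : F, (g : Matrix (Fin d) (Fin d) F) = scalar _ r := by
  rw [Matrix.GeneralLinearGroup.center_eq_range_scalar]
  constructor
  · rintro ⟨r, rfl⟩; exact ⟨r, rfl⟩
  · rintro ⟨r, hr⟩
    have hr0 : r ≠ 0 := fun h => by
      have := (g.isUnit.map (Matrix.detMonoidHom)).ne_zero
      simp [hr, h] at this
    exact ⟨Units.mk0 r hr0, Units.ext (by simp [hr])⟩

omit [Finite F] in
lemma card_ker_ge {R : Type*} [CommRing R] [Finite R] [Algebra F R] [Nontrivial R]
    [Nonempty (Fin d)] (φ : R →ₐ[F] Matrix (Fin d) (Fin d) F) :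
    Nat.card F - 1 ≤ Nat.card (toPGL φ).ker := by
  rw [← Nat.card_units]
  refine Nat.card_le_card_of_injective
    (fun r => ⟨Units.map (algebraMap F R).toMonoidHom r, ?_⟩) ?_
  · rw [MonoidHom.mem_ker, toPGL, MonoidHom.comp_apply, QuotientGroup.mk'_apply,
      QuotientGroup.eq_one_iff, central_iff]
    exact ⟨r, by simp [Matrix.algebraMap_eq_diagonal]⟩
  · intro a b hab
    refine Units.ext ((algebraMap F R).injective ?_)
    simpa using congrArg (fun x => ((x : (toPGL φ).ker) : Rˣ).val) hab

/-- Let F be a finite field with q elements and d ≥ 1. Then every element of PGL_d(F) = GL_d(F)/Z has order at most (q^d − 1)/(q − 1), and some element (the image of a Singer cycle) has exactly this order. -/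
theorem result {F : Type*} [Field F] [Fintype F] (d : ℕ) (hd : 1 ≤ d) :
    (∀ g : (GL (Fin d) F ⧸ Subgroup.center (GL (Fin d) F)), (Fintype.card F - 1) * orderOf g ≤ Fintype.card F ^ d - 1) ∧
    (∃ g : (GL (Fin d) F ⧸ Subgroup.center (GL (Fin d) F)), (Fintype.card F - 1) * orderOf g = Fintype.card F ^ d - 1) := by
  classical
  have : Nonempty (Fin d) := Fin.pos_iff_nonempty.1 hd
  have hF : Nat.card F = Fintype.card F := Nat.card_eq_fintype_card
  refine ⟨fun g => ?_, ?_⟩
  · obtain ⟨g, rfl⟩ := QuotientGroup.mk'_surjective _ g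
    set A : Matrix (Fin d) (Fin d) F := (g : Matrix (Fin d) (Fin d) F)
    set p := minpoly F A
    have hp : p.Monic := minpoly.monic (Matrix.isIntegral A)
    have hdeg : p.natDegree ≤ d := by
      refine (Polynomial.natDegree_le_of_dvd (Matrix.minpoly_dvd_charpoly A)
        A.charpoly_monic.ne_zero).trans ?_
      rw [Matrix.charpoly_natDegree_eq_dim, Fintype.card_fin]
    have hnt : Nontrivial (AdjoinRoot p) :=
      AdjoinRoot.nontrivial p (by
        rw [Polynomial.degree_eq_natDegree hp.ne_zero]
        exact_mod_cast (minpoly.natDegree_pos (Matrix.isIntegral A)).ne')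
    have : Module.Finite F (AdjoinRoot p) := (AdjoinRoot.powerBasis' hp).finite
    have : Finite (AdjoinRoot p) := Module.finite_of_finite F
    have hcard : Nat.card (AdjoinRoot p) ≤ Fintype.card F ^ d := by
      rw [Module.natCard_eq_pow_finrank (K := F), (AdjoinRoot.powerBasis' hp).finrank,
        AdjoinRoot.powerBasis'_dim, hF]
      exact Nat.pow_le_pow_right Fintype.card_pos hdeg
    let φ : AdjoinRoot p →ₐ[F] Matrix (Fin d) (Fin d) F :=
      Ideal.Quotient.liftₐ _ (Polynomial.aeval A) (fun a ha => by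
        obtain ⟨c, rfl⟩ := Ideal.mem_span_singleton.1 ha
        rw [map_mul, minpoly.aeval, zero_mul])
    have hroot : φ (AdjoinRoot.root p) = A := by
      exact Polynomial.aeval_X A
    have hu : IsUnit (AdjoinRoot.root p) := by
      have hpow : A ^ orderOf g = 1 := by
        rw [← Units.val_pow_eq_pow_val, pow_orderOf_eq_one]; rfl
      refine IsUnit.of_pow_eq_one (n := orderOf g) ?_ (orderOf_pos g).ne'
      have : p ∣ Polynomial.X ^ orderOf g - 1 := minpoly.dvd F A (by simp [hpow])
      simpa [sub_eq_zero] using AdjoinRoot.mk_eq_zero.2 this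
    have himg : toPGL φ hu.unit = QuotientGroup.mk' _ g := by
      show QuotientGroup.mk' _ (Units.map _ hu.unit) = _
      congr 1
      exact Units.ext hroot
    rw [← himg]
    have h1 : orderOf (toPGL φ hu.unit) ≤ Nat.card (toPGL φ).range := by
      rw [← Nat.card_zpowers]
      exact Nat.card_le_card_of_injective
        (Subgroup.inclusion (Subgroup.zpowers_le.2 (MonoidHom.mem_range.2 ⟨_, rfl⟩)))
        (Subgroup.inclusion_injective _)
    have h2 : Nat.card (toPGL φ).ker * Nat.card (toPGL φ).range = Nat.card (AdjoinRoot p)ˣ := by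
      rw [← Subgroup.index_ker, Subgroup.card_mul_index]
    have h3 : Nat.card (AdjoinRoot p)ˣ < Nat.card (AdjoinRoot p) := by
      exact lt_of_le_of_lt (Nat.card_le_card_of_injective
        (fun v : (AdjoinRoot p)ˣ => (⟨(v : AdjoinRoot p), v.ne_zero⟩ : {x : AdjoinRoot p // x ≠ 0}))
        fun a b hab => Units.ext (congrArg Subtype.val hab))
        (Finite.card_subtype_lt (x := (0 : AdjoinRoot p)) fun h => h rfl)
    have h4 := card_ker_ge φ
    rw [hF] at h4
    have h5 := Nat.mul_le_mul h4 h1
    omega
  · obtain ⟨K, _, _, _, φ, hφ, hc⟩ :=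
      CfsgLib.Singer.exists_fieldExt_embedding (F := F) d hd
    obtain ⟨u, hu⟩ := IsCyclic.exists_generator (α := Kˣ)
    refine ⟨toPGL φ u, ?_⟩
    have hr : (toPGL φ).range = Subgroup.zpowers (toPGL φ u) := by
      rw [← MonoidHom.map_zpowers, MonoidHom.range_eq_map]
      congr 1
      exact (Subgroup.eq_top_iff' _ |>.2 hu).symm
    have hker : Nat.card (toPGL φ).ker = Fintype.card F - 1 := by
      refine le_antisymm ?_ (hF ▸ card_ker_ge φ)
      rw [← hF, ← Nat.card_units]
      have hmem : ∀ x : (toPGL φ).ker, ∃ r : Fˣ, algebraMap F K r = (x : Kˣ) := by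
        intro x
        have hx : QuotientGroup.mk' (Subgroup.center (GL (Fin d) F))
            (Units.map φ.toRingHom.toMonoidHom (x : Kˣ)) = 1 := x.2
        rw [QuotientGroup.mk'_apply, QuotientGroup.eq_one_iff, central_iff] at hx
        obtain ⟨r, hr⟩ := hx
        have e : algebraMap F K r = (x : Kˣ) := hφ (by
          rw [AlgHom.commutes, Matrix.algebraMap_eq_diagonal]
          exact hr.symm)
        have : r ≠ 0 := fun h => by subst h; simp at e; exact (x : Kˣ).ne_zero e.symm
        exact ⟨Units.mk0 r this, e⟩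
      choose r hr using hmem
      refine Nat.card_le_card_of_injective r fun a b hab => ?_
      exact Subtype.ext (Units.ext (by rw [← hr, ← hr, hab]))
    have h2 : Nat.card (toPGL φ).ker * Nat.card (toPGL φ).range = Nat.card Kˣ := by
      rw [← Subgroup.index_ker, Subgroup.card_mul_index]
    rw [hker, hr, Nat.card_zpowers, Nat.card_units, hc, hF] at h2
    exact h2

end Cfsg.Agent.S2261
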