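import Cfsg.Statements.S2262
import Cfsg.Agent.Lib.ElemOrder.Twist
import Cfsg.Agent.S2261

set_option autoImplicit false
open Cfsg

namespace Cfsg.Agent.S2262

open Matrix CfsgLib.AutPSL CfsgLib.ElemOrder
open scoped MatrixGroups

variable {F : Type*} [Field F] [Fintype F]

/-- `G = (q - 1) / (Q - 1)` for `q = Q ^ m`. -/
private theorem q_sub_one (Q m : ℕ) :
    Q ^ m - 1 = (Q - 1) * ∑ i ∈ Finset.range m, Q ^ i := (geom_mul m).symm

private theorem geom_sq {Q : ℕ} (hQ : 2 ≤ Q) (k : ℕ) :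
    (k + 3) * ∑ i ∈ Finset.range (k + 3), Q ^ i ≤ ∑ i ∈ Finset.range (k + 3), (Q ^ 2) ^ i := by
  induction k with
  | zero =>
    simp only [Finset.sum_range_succ, Finset.sum_range_zero]
    obtain ⟨r, rfl⟩ : ∃ r, Q = r + 2 := ⟨Q - 2, by omega⟩
    ring_nf
    nlinarith
  | succ k ih =>
    rw [Finset.sum_range_succ, Finset.sum_range_succ _ (k + 3)]
    have hG := geom_le_pow hQ (k + 3)
    have h2 : k + 5 ≤ Q ^ (k + 3) := by
      have := Nat.lt_two_pow_self (n := k + 1)
      calc k + 5 ≤ 2 ^ (k + 1) * 4 := by omega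
        _ = 2 ^ (k + 3) := by ring
        _ ≤ _ := Nat.pow_le_pow_left hQ _
    have h3 : (Q ^ 2) ^ (k + 3) = Q ^ (k + 3) * Q ^ (k + 3) := by
      rw [← pow_mul, ← pow_add]; congr 1; omega
    rw [h3]
    have h4 := Nat.mul_le_mul_right (Q ^ (k + 3)) h2
    nlinarith

/-- The numerical bound for semilinear elements. -/
private theorem linear_num {Q m d N : ℕ} (hQ : 2 ≤ Q) (hm : 1 ≤ m) (hd : 2 ≤ d)
    (hex : ¬ (Q = 2 ∧ m = 2 ∧ d = 2)) (hN : (Q - 1) * N ≤ Q ^ d - 1) :
    (Q ^ m - 1) * (m * N) ≤ (Q ^ m) ^ d - 1 := by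
  have key : m * (∑ i ∈ Finset.range m, Q ^ i) ≤ ∑ i ∈ Finset.range m, (Q ^ d) ^ i := by
    rcases (show m = 1 ∨ m = 2 ∨ ∃ k, m = k + 3 by
      rcases lt_or_ge m 3 with h | h
      · omega
      · exact Or.inr (Or.inr ⟨m - 3, by omega⟩)) with rfl | rfl | ⟨k, rfl⟩
    · simp
    · simp only [Finset.sum_range_succ, Finset.sum_range_zero, pow_zero, pow_one, zero_add]
      rcases (show 3 ≤ d ∨ d = 2 by omega) with h | rfl
      · have : Q ^ 3 ≤ Q ^ d := Nat.pow_le_pow_right (by omega) h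
        have : 4 * Q ≤ Q ^ 3 := by
          obtain ⟨r, rfl⟩ : ∃ r, Q = r + 2 := ⟨Q - 2, by omega⟩
          ring_nf; nlinarith
        omega
      · have hQ3 : 3 ≤ Q := by
          by_contra h
          exact hex ⟨by omega, rfl, rfl⟩
        nlinarith
    · refine (geom_sq hQ k).trans (Finset.sum_le_sum fun i _ => Nat.pow_le_pow_left ?_ _)
      exact Nat.pow_le_pow_right (by omega) hd
  rw [q_sub_one Q m, ← pow_mul, mul_comm m d, pow_mul, q_sub_one (Q ^ d) m]
  calc (Q - 1) * (∑ i ∈ Finset.range m, Q ^ i) * (m * N)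
      = ((Q - 1) * N) * (m * ∑ i ∈ Finset.range m, Q ^ i) := by ring
    _ ≤ _ := Nat.mul_le_mul hN key

/-- The numerical bound for elements outside the semilinear group. -/
private theorem graph_num {Q m d N c E : ℕ} (hc : 0 < c) (hm : 1 ≤ m)
    (hQ : 2 ≤ Q) (hN : (Q - 1) * N < Q ^ E)
    (h : c * (∑ i ∈ Finset.range m, Q ^ i) * Q ^ E ≤ (Q ^ m) ^ d) :
    (Q ^ m - 1) * (c * N) ≤ (Q ^ m) ^ d - 1 := by
  have hG : 0 < ∑ i ∈ Finset.range m, Q ^ i :=
    Finset.sum_pos (fun i _ => pow_pos (by omega) _) ⟨0, Finset.mem_range.2 hm⟩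
  have h1 : (Q ^ m - 1) * (c * N) < (Q ^ m) ^ d := by
    rw [q_sub_one Q m]
    calc (Q - 1) * (∑ i ∈ Finset.range m, Q ^ i) * (c * N)
        = c * (∑ i ∈ Finset.range m, Q ^ i) * ((Q - 1) * N) := by ring
      _ < c * (∑ i ∈ Finset.range m, Q ^ i) * Q ^ E :=
          Nat.mul_lt_mul_of_pos_left hN (Nat.mul_pos hc hG)
      _ ≤ _ := h
  omega

private theorem odd_num {Q m d B : ℕ} (hQ : 2 ≤ Q) (hd : 3 ≤ d) (hB : B = (d + 1) / 2)
    (h : 4 ≤ d ∧ m = 1 ∨ 3 ≤ m) :
    2 * m * (∑ i ∈ Finset.range m, Q ^ i) * Q ^ (B + 1) ≤ (Q ^ m) ^ d := by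
  rcases h with ⟨hd4, rfl⟩ | hm
  · simp only [Finset.sum_range_succ, Finset.sum_range_zero, pow_zero, zero_add, mul_one, pow_one]
    calc 2 * Q ^ (B + 1) ≤ Q * Q ^ (B + 1) := Nat.mul_le_mul_right _ hQ
      _ ≤ _ := by rw [← pow_succ']; exact Nat.pow_le_pow_right (by omega) (by omega)
  · have h1 : 2 * m ≤ Q ^ m := (two_mul_le_two_pow m).trans (Nat.pow_le_pow_left hQ _)
    have h2 := geom_le_pow hQ m
    calc _ ≤ Q ^ m * Q ^ m * Q ^ (B + 1) := Nat.mul_le_mul_right _ (Nat.mul_le_mul h1 h2)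
      _ ≤ _ := by
        rw [← pow_add, ← pow_add, ← pow_mul]
        refine Nat.pow_le_pow_right (by omega) ?_
        obtain ⟨e, rfl⟩ : ∃ e, d = e + 3 := ⟨d - 3, by omega⟩
        obtain ⟨k, rfl⟩ : ∃ k, m = k + 3 := ⟨m - 3, by omega⟩
        have : 0 ≤ k * e := Nat.zero_le _
        rw [show (k + 3) * (e + 3) = k * e + 3 * k + 3 * e + 9 by ring]
        omega

private theorem even_num {Q m d : ℕ} (hQ : 2 ≤ Q) (hd : 3 ≤ d)
    (h : m = 2 ∧ ¬ (d = 3 ∧ Q = 2) ∨ 4 ≤ m) :
    m * (∑ i ∈ Finset.range m, Q ^ i) * Q ^ (d + 1) ≤ (Q ^ m) ^ d := by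
  rcases h with ⟨rfl, hex⟩ | hm
  · simp only [Finset.sum_range_succ, Finset.sum_range_zero, pow_zero, zero_add, pow_one]
    have h2 : 2 * (1 + Q) ≤ Q ^ (d - 1) := by
      rcases (show d = 3 ∨ 4 ≤ d by omega) with rfl | h4
      · have : 3 ≤ Q := by
          by_contra h
          exact hex ⟨rfl, by omega⟩
        norm_num
        nlinarith
      · refine le_trans ?_ (Nat.pow_le_pow_right (by omega) (show 3 ≤ d - 1 by omega))
        obtain ⟨r, rfl⟩ : ∃ r, Q = r + 2 := ⟨Q - 2, by omega⟩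
        ring_nf; nlinarith
    calc _ ≤ Q ^ (d - 1) * Q ^ (d + 1) := Nat.mul_le_mul_right _ h2
      _ = _ := by rw [← pow_add, ← pow_mul]; congr 1; omega
  · have h1 : m ≤ Q ^ m := (le_trans (by omega) (two_mul_le_two_pow m)).trans (Nat.pow_le_pow_left hQ _)
    have h2 := geom_le_pow hQ m
    calc _ ≤ Q ^ m * Q ^ m * Q ^ (d + 1) := Nat.mul_le_mul_right _ (Nat.mul_le_mul h1 h2)
      _ ≤ _ := by
        rw [← pow_add, ← pow_add, ← pow_mul]
        refine Nat.pow_le_pow_right (by omega) ?_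
        obtain ⟨e, rfl⟩ : ∃ e, d = e + 3 := ⟨d - 3, by omega⟩
        obtain ⟨k, rfl⟩ : ∃ k, m = k + 4 := ⟨m - 4, by omega⟩
        rw [show (k + 4) * (e + 3) = k * e + 3 * k + 4 * e + 12 by ring]
        omega

variable {d : ℕ}

/-- Semilinear elements. -/
theorem semilinear_bound (hd : 2 ≤ d) (h24 : ¬ (d = 2 ∧ Fintype.card F = 4))
    (g : GL (Fin d) F) (σ : F ≃+* F) :
    (Fintype.card F - 1) * orderOf (delta g * fieldAut σ : MulAut PSL(d, F)) ≤
      Fintype.card F ^ d - 1 := by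
  classical
  obtain ⟨p, f, hp, hc, -, -⟩ := exists_prime_pow (F := F)
  obtain ⟨s, i, hs, hq, -, hfrob⟩ := exists_frob p σ
  have : Nonempty (Fin d) := Fin.pos_iff_nonempty.1 (by omega)
  set m := orderOf σ
  have : Finite (F ≃+* F) := Finite.of_injective _ DFunLike.coe_injective
  have hm : 1 ≤ m := orderOf_pos σ
  set h := twistProd (mapGL σ) g m
  have hfix : (mapGL σ)^[m] g = g := by rw [iterate_mapGL, pow_orderOf_eq_one, mapGL_one]
  have hconj := charpoly_eq_of_isConj (isConj_iterate_twistProd (mapGL σ) g hfix i)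
  rw [iterate_mapGL, mapGL_coe] at hconj
  obtain ⟨N, hN0, ⟨r, hN⟩, hb⟩ := linear_exponent p hs (σ ^ i).toRingHom hfrob
    (h : Matrix (Fin d) (Fin d) F) (det_gl_ne_zero h) m hq hconj
  rw [Fintype.card_fin] at hb
  have hord : orderOf (delta g * fieldAut σ : MulAut PSL(d, F)) ≤ m * N := by
    refine orderOf_le_of_pow_eq_one (Nat.mul_pos hm hN0) ?_
    rw [pow_mul, pow_delta_mul _ _ (fun x => fieldAut_mul_delta σ x), ← map_pow, pow_orderOf_eq_one,
      map_one, mul_one, delta_eq_one_of_pow_scalar _ hN]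
  have hQ : 2 ≤ p ^ s := hp.out.two_le.trans (Nat.le_self_pow (by omega) p)
  rw [hq] at h24 ⊢
  refine (Nat.mul_le_mul_left _ hord).trans (linear_num hQ hm hd ?_ hb)
  rintro ⟨h1, h2, h3⟩
  exact h24 ⟨h3, by rw [h1, h2]; norm_num⟩

/-- Elements involving inverse-transpose. -/
theorem graph_bound (hd : 3 ≤ d) (h32 : ¬ (d = 3 ∧ Fintype.card F = 2))
    (g : GL (Fin d) F) (σ : F ≃+* F) :
    (Fintype.card F - 1) * orderOf (delta g * fieldAut σ * graphAut : MulAut PSL(d, F)) ≤
      Fintype.card F ^ d - 1 := by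
  classical
  obtain ⟨p, f, hp, hc, -, -⟩ := exists_prime_pow (F := F)
  obtain ⟨s, i, hs, hq, hcop, hfrob⟩ := exists_frob p σ
  have : Nonempty (Fin d) := Fin.pos_iff_nonempty.1 (by omega)
  set m := orderOf σ with hmdef
  have : Finite (F ≃+* F) := Finite.of_injective _ DFunLike.coe_injective
  have hm : 1 ≤ m := orderOf_pos σ
  have hQ : 2 ≤ p ^ s := hp.out.two_le.trans (Nat.le_self_pow (by omega) p)
  rw [mul_assoc]
  set T : MulAut PSL(d, F) := fieldAut σ * graphAut
  have hT : ∀ j, Even j → σ ^ j = 1 → T ^ j = 1 := fun j hj hσ => by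
    obtain ⟨u, rfl⟩ := hj
    rw [(Commute.mul_pow (graphAut_mul_fieldAut σ).symm _), ← map_pow, hσ, map_one, one_mul,
      ← two_mul, pow_mul, sq, graphAut_mul_self, one_pow]
  have hbd : ∀ c N r, 0 < c → 0 < N → Even c → σ ^ c = 1 →
      ((twistProd (graphTwist σ) g c : GL (Fin d) F) : Matrix (Fin d) (Fin d) F) ^ N = scalar (Fin d) r →
      orderOf (delta g * T) ≤ c * N := fun c N r hc hN hev hσ h => by
    refine orderOf_le_of_pow_eq_one (Nat.mul_pos hc hN) ?_
    rw [pow_mul, pow_delta_mul _ _ (graph_mul_delta σ), hT c hev hσ, mul_one,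
      delta_eq_one_of_pow_scalar _ h]
  rcases Nat.even_or_odd m with hev | hodd
  · -- the twisted case
    have hi : Odd i := by
      rcases Nat.even_or_odd i with he | ho
      · exact absurd (Nat.dvd_gcd hev.two_dvd he.two_dvd) (by rw [hcop.gcd_eq_one]; norm_num)
      · exact ho
    set h := twistProd (graphTwist σ) g m
    have hfix : (graphTwist σ)^[m] g = g := by
      rw [iterate_graphTwist, if_pos hev, pow_orderOf_eq_one, mapGL_one]
    have hconj := isConj_iterate_twistProd (graphTwist σ) g hfix i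
    rw [iterate_graphTwist, if_neg (Nat.not_even_iff_odd.2 hi)] at hconj
    have hch := charpoly_eq_of_isConj (contraHom.map_isConj hconj)
    change (contra (mapGL (σ ^ i) (contra h)) : Matrix (Fin d) (Fin d) F).charpoly =
      (contra h : Matrix (Fin d) (Fin d) F).charpoly at hch
    rw [← contra_mapGL, contra_contra, mapGL_coe, charpoly_contra] at hch
    by_cases hex : m = 2 ∧ d = 3 ∧ p ^ s = 2
    · obtain ⟨hm2, hd3, hQ2⟩ := hex
      have hp2 : p = 2 := by
        have : p ∣ 2 := hQ2 ▸ dvd_pow_self p (by omega)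
        exact (Nat.prime_dvd_prime_iff_eq hp.out Nat.prime_two).1 this
      subst hp2
      obtain ⟨N, hN0, ⟨r, hN⟩, hb⟩ := twisted_exponent_three (by rw [hq, hm2, hQ2]; norm_num)
        (σ ^ i).toRingHom (by intro x; rw [← hQ2]; exact hfrob x) (h : Matrix (Fin d) (Fin d) F)
        (det_gl_ne_zero h) (by simp [hd3]) hch
      have := hbd m N r hm hN0 hev (pow_orderOf_eq_one σ) hN
      rw [hq, hQ2, hm2]
      subst hd3
      rw [hm2] at this
      norm_num
      omega
    · obtain ⟨N, hN0, hN, hb⟩ := twisted_exponent p hs (σ ^ i).toRingHom hfrob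
        (h : Matrix (Fin d) (Fin d) F) (det_gl_ne_zero h) hch
      rw [Fintype.card_fin] at hb
      have hle := hbd m N 1 hm hN0 hev (pow_orderOf_eq_one σ) (by rw [map_one]; exact hN)
      rw [hq]
      refine (Nat.mul_le_mul_left _ hle).trans (graph_num hm hm hQ hb (even_num hQ hd ?_))
      obtain ⟨u, hu⟩ := hev
      rcases (show m = 2 ∨ 4 ≤ m by omega) with h2 | h4
      · exact Or.inl ⟨h2, fun hh => hex ⟨h2, hh⟩⟩
      · exact Or.inr h4
  · -- the self-reciprocal case
    set h := twistProd (graphTwist σ) g (m + m)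
    have hev : Even (m + m) := ⟨m, rfl⟩
    have hσ2 : σ ^ (m + m) = 1 := by rw [pow_add, pow_orderOf_eq_one, one_mul]
    have hfix : (graphTwist σ)^[m + m] g = g := by
      rw [iterate_graphTwist, if_pos hev, hσ2, mapGL_one]
    have hinv : ((h : Matrix (Fin d) (Fin d) F)⁻¹).charpoly = (h : Matrix (Fin d) (Fin d) F).charpoly := by
      have hconj := isConj_iterate_twistProd (graphTwist σ) g hfix m
      rw [iterate_graphTwist, if_neg (Nat.not_even_iff_odd.2 hodd), pow_orderOf_eq_one,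
        mapGL_one] at hconj
      rw [← charpoly_contra]
      exact charpoly_eq_of_isConj hconj
    obtain ⟨i', hi', hfrob'⟩ : ∃ i', Even i' ∧ ∀ x : F, (σ ^ i') x = x ^ p ^ s := by
      rcases Nat.even_or_odd i with he | ho
      · exact ⟨i, he, hfrob⟩
      · exact ⟨i + m, ho.add_odd hodd, fun x => by
          rw [pow_add, pow_orderOf_eq_one, mul_one, hfrob]⟩
    have hconj := charpoly_eq_of_isConj (isConj_iterate_twistProd (graphTwist σ) g hfix i')
    rw [iterate_graphTwist, if_pos hi', mapGL_coe] at hconj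
    have hdet : (h : Matrix (Fin d) (Fin d) F).det = 1 := by
      show ((twistProd (graphTwist σ) g (m + m) : GL (Fin d) F) : Matrix (Fin d) (Fin d) F).det = 1
      rw [twistProd_add, iterate_graphTwist, if_neg (Nat.not_even_iff_odd.2 hodd),
        pow_orderOf_eq_one, mapGL_one, Units.val_mul, Matrix.det_mul, det_contra,
        mul_inv_cancel₀ (det_gl_ne_zero _)]
    rw [hq] at h32 ⊢
    by_cases hex : m = 1 ∧ d = 3
    · obtain ⟨hm1, hd3⟩ := hex
      rw [hm1, pow_one] at h32 ⊢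
      have hQ3 : 3 ≤ p ^ s := by
        by_contra hh
        exact h32 ⟨hd3, by omega⟩
      obtain ⟨N, hN0, hN, hb⟩ := selfrec_exponent_three p hs (σ ^ i').toRingHom hfrob'
        (h : Matrix (Fin d) (Fin d) F) (det_gl_ne_zero h) hQ3 (by simp [hd3]) hconj hinv hdet
      have hle := hbd (m + m) N 1 (by omega) hN0 hev hσ2 (by rw [map_one]; exact hN)
      rw [hm1] at hle
      calc (p ^ s - 1) * orderOf (delta g * T) ≤ (p ^ s - 1) * ((1 + 1) * N) :=
            Nat.mul_le_mul_left _ hle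
        _ = 2 * (p ^ s - 1) * N := by ring
        _ ≤ (p ^ s) ^ 3 - 1 := hb
        _ = _ := by rw [hd3]
    · obtain ⟨N, hN0, hN, hb⟩ := selfrec_exponent p hs (σ ^ i').toRingHom hfrob'
        (h : Matrix (Fin d) (Fin d) F) (det_gl_ne_zero h) hconj hinv hdet (B := (d + 1) / 2)
        (by simp; omega)
      obtain ⟨r, hr⟩ : ∃ r, (h : Matrix (Fin d) (Fin d) F) ^ N = scalar (Fin d) r := by
        rcases hN with hN | hN
        · exact ⟨1, by rw [map_one]; exact hN⟩
        · exact ⟨_, hN⟩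
      have hle := hbd (m + m) N r (by omega) hN0 hev hσ2 hr
      refine (Nat.mul_le_mul_left _ hle).trans (graph_num (by omega) hm hQ hb ?_)
      rw [← two_mul]
      refine odd_num hQ hd rfl ?_
      obtain ⟨u, hu⟩ := hodd
      omega

/-- Let F be a finite field with q elements and d ≥ 2, with q ≥ 4 when d = 2, and (d, q) ∉ {(2, 4), (3, 2)}. Then every automorphism of the simple group PSL_d(F) has order at most (q^d − 1)/(q − 1) as an element of the automorphism group, and some automorphism has exactly this order. -/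
theorem result {F : Type*} [Field F] [Fintype F] (d : ℕ) (hd : 2 ≤ d)
    (h2 : d = 2 → 4 ≤ Fintype.card F) (h24 : ¬ (d = 2 ∧ Fintype.card F = 4)) (h32 : ¬ (d = 3 ∧ Fintype.card F = 2)) :
    (∀ φ : MulAut (Matrix.ProjectiveSpecialLinearGroup (Fin d) F),
      (Fintype.card F - 1) * orderOf φ ≤ Fintype.card F ^ d - 1) ∧
    (∃ φ : MulAut (Matrix.ProjectiveSpecialLinearGroup (Fin d) F),
      (Fintype.card F - 1) * orderOf φ = Fintype.card F ^ d - 1) := by
  classical
  obtain ⟨p, f, hp, hc, -, -⟩ := exists_prime_pow (F := F)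
  refine ⟨fun φ => ?_, ?_⟩
  · rcases (show d = 2 ∨ 3 ≤ d by omega) with rfl | hd3
    · obtain ⟨g, σ, rfl⟩ := exists_normal_form_two p φ
      exact semilinear_bound le_rfl h24 g σ
    · obtain ⟨g, σ, e, rfl⟩ := exists_normal_form p hd φ
      rcases graphPow_eq_or (n := d) (F := F) e with he | he <;> rw [he]
      · rw [mul_one]; exact semilinear_bound hd h24 g σ
      · exact graph_bound hd3 h32 g σ
  · obtain ⟨x, hx⟩ := (Cfsg.Agent.S2261.result (F := F) d (by omega)).2
    refine ⟨deltaP x, ?_⟩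
    exact (congrArg ((Fintype.card F - 1) * ·)
      (orderOf_injective deltaP (deltaP_injective p hd) x)).trans hx

end Cfsg.Agent.S2262
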