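import Cfsg.Statements.S2263
import Cfsg.Agent.Lib.Classical.UnitaryMaxOrder

set_option autoImplicit false
open Cfsg

namespace Cfsg.Agent.S2263

open Matrix CfsgLib.Classical.UnitaryMaxOrder
open CfsgLib.ElemOrder.Unit (AA)

theorem exists_two {F : Type*} [Field F] [Fintype F] {c q : ℕ} [hc : Fact c.Prime] [CharP F c]
    (hF : Fintype.card F = q ^ 2) : ∃ U : GL (Fin 2) F, U ∈ Cfsg.GU 2 F q ∧ orderOf U = c := by
  classical
  have hd : (!![(1 : F), 1; 0, 1]).det ≠ 0 := by simp [Matrix.det_fin_two]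
  obtain ⟨N, hN⟩ : ∃ N : Matrix (Fin 2) (Fin 2) F, N = !![(1 : F), 1; 0, 1] - 1 := ⟨_, rfl⟩
  have hN2 : N ^ 2 = 0 := by
    rw [hN, pow_two]; ext i j; fin_cases i <;> fin_cases j <;> simp [Matrix.mul_apply, Fin.sum_univ_two]
  obtain ⟨U, hU, hUo⟩ := exists_unipotent hF (Matrix.GeneralLinearGroup.mkOfDetNeZero _ hd) ⟨2, hN ▸ hN2⟩
  refine ⟨U, hU, hUo.trans (orderOf_eq_prime (Units.ext ?_) fun h => ?_)⟩
  · rw [Units.val_pow_eq_pow_val, Units.val_one]
    show (!![(1 : F), 1; 0, 1]) ^ c = 1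
    rw [show !![(1 : F), 1; 0, 1] = 1 + N by rw [hN]; abel, add_pow_char_of_commute (R := Matrix (Fin 2) (Fin 2) F) c (Commute.one_left N), one_pow,
      pow_eq_zero_of_le hc.out.two_le hN2, add_zero]
  · have h' : !![(1 : F), 1; 0, 1] = 1 := congrArg Units.val h
    have := congrFun₂ h' 0 1
    simp at this

theorem exists_three {F : Type*} [Field F] [Fintype F] {q : ℕ} [CharP F 2]
    (hF : Fintype.card F = q ^ 2) : ∃ U : GL (Fin 3) F, U ∈ Cfsg.GU 3 F q ∧ orderOf U = 2 ^ 2 := by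
  classical
  have h2 : (2 : F) = 0 := CharTwo.two_eq_zero
  have hd : (!![(1 : F), 1, 0; 0, 1, 1; 0, 0, 1]).det ≠ 0 := by simp [Matrix.det_fin_three]
  obtain ⟨N, hN⟩ : ∃ N : Matrix (Fin 3) (Fin 3) F, N = !![(1 : F), 1, 0; 0, 1, 1; 0, 0, 1] - 1 := ⟨_, rfl⟩
  have hN2 : N ^ 2 = !![(0 : F), 0, 1; 0, 0, 0; 0, 0, 0] := by
    rw [hN, pow_two]; ext i j; fin_cases i <;> fin_cases j <;> simp [Matrix.mul_apply, Fin.sum_univ_three]
  have hN4 : N ^ 4 = 0 := by
    rw [show 4 = 2 + 2 from rfl, pow_add, hN2]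
    ext i j; fin_cases i <;> fin_cases j <;> simp [Matrix.mul_apply, Fin.sum_univ_three]
  obtain ⟨U, hU, hUo⟩ := exists_unipotent hF (Matrix.GeneralLinearGroup.mkOfDetNeZero _ hd) ⟨4, hN ▸ hN4⟩
  have e : !![(1 : F), 1, 0; 0, 1, 1; 0, 0, 1] = 1 + N := by rw [hN]; abel
  have : Fact (Nat.Prime 2) := ⟨Nat.prime_two⟩
  refine ⟨U, hU, hUo.trans (orderOf_eq_prime_pow (fun h => ?_) (Units.ext ?_))⟩
  · have h' : (!![(1 : F), 1, 0; 0, 1, 1; 0, 0, 1]) ^ 2 ^ 1 = 1 := by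
      have := congrArg Units.val h
      rwa [Units.val_pow_eq_pow_val, Units.val_one] at this
    rw [e, pow_one, add_pow_char_of_commute _ (Commute.one_left N), one_pow, add_eq_left, hN2] at h'
    simpa using congrFun (congrFun h' 0) 2
  · rw [Units.val_pow_eq_pow_val, Units.val_one]
    show (!![(1 : F), 1, 0; 0, 1, 1; 0, 0, 1]) ^ 2 ^ 2 = 1
    rw [e, add_pow_char_pow_of_commute _ _ (Commute.one_left N), one_pow, show 2 ^ 2 = 4 from rfl, hN4, add_zero]

/-- Let q = p^f with p prime and f ≥ 1, F a field with q² elements, d ≥ 3 with (d, q) ≠ (3, 2), and PGU_d(q) the general unitary group of the standard Hermitian form modulo its centre. Then the largest order of an element of PGU_d(q) is: q^(d−1) − 1 if d is odd and f ≥ 2; (p^(d−2) + 1)p if d is odd and f = 1; q^(d−1) + 1 if d is even and q > 2; 4(2^(d−3) + 1) if d is even and q = 2. -/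
theorem result {F : Type*} [Field F] [Fintype F] (p f d : ℕ) (hp : p.Prime) (hf : 1 ≤ f) (q : ℕ) (hq : q = p ^ f)
    (hF : Fintype.card F = q ^ 2) (hd : 3 ≤ d) (h32 : ¬ (d = 3 ∧ q = 2)) :
    (Odd d → 2 ≤ f → (∀ g : (↥(Cfsg.GU d F q) ⧸ Subgroup.center ↥(Cfsg.GU d F q)), orderOf g ≤ q ^ (d - 1) - 1) ∧ ∃ g : (↥(Cfsg.GU d F q) ⧸ Subgroup.center ↥(Cfsg.GU d F q)), orderOf g = q ^ (d - 1) - 1) ∧
    (Odd d → f = 1 → (∀ g : (↥(Cfsg.GU d F q) ⧸ Subgroup.center ↥(Cfsg.GU d F q)), orderOf g ≤ (p ^ (d - 2) + 1) * p) ∧ ∃ g : (↥(Cfsg.GU d F q) ⧸ Subgroup.center ↥(Cfsg.GU d F q)), orderOf g = (p ^ (d - 2) + 1) * p) ∧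
    (Even d → 2 < q → (∀ g : (↥(Cfsg.GU d F q) ⧸ Subgroup.center ↥(Cfsg.GU d F q)), orderOf g ≤ q ^ (d - 1) + 1) ∧ ∃ g : (↥(Cfsg.GU d F q) ⧸ Subgroup.center ↥(Cfsg.GU d F q)), orderOf g = q ^ (d - 1) + 1) ∧
    (Even d → q = 2 → (∀ g : (↥(Cfsg.GU d F q) ⧸ Subgroup.center ↥(Cfsg.GU d F q)), orderOf g ≤ 4 * (2 ^ (d - 3) + 1)) ∧ ∃ g : (↥(Cfsg.GU d F q) ⧸ Subgroup.center ↥(Cfsg.GU d F q)), orderOf g = 4 * (2 ^ (d - 3) + 1)) := by
  classical
  have := Fact.mk hp
  obtain ⟨c, hc⟩ := CharP.exists F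
  obtain ⟨e, hce, he⟩ := FiniteField.card F c
  have hcp : c = p := by
    have h : c ∣ p := by
      refine hce.dvd_of_dvd_pow (n := f * 2) ?_
      rw [pow_mul, ← hq, ← hF, he]
      exact dvd_pow_self _ e.2.ne'
    exact (Nat.prime_dvd_prime_iff_eq hce hp).1 h
  subst hcp
  have hq2 : 2 ≤ q := hq ▸ le_trans hp.two_le (Nat.le_self_pow (by omega) c)
  have hcq : c ≤ q := hq ▸ Nat.le_self_pow (by omega) c
  have h32' : ¬ (d = 3 ∧ q = 2) := h32
  have qpos : ∀ m, 1 ≤ q ^ m := fun m => Nat.one_le_pow _ _ (by omega)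
  have key : ∀ (T a j : ℕ), (q ^ (d - 1) - 1 ≤ T) → (AA q (d - 1) ≤ T) → (AA q (d - 2) * c ≤ T) →
      (c = 2 → AA q (d - 3) * 4 ≤ T) → 1 ≤ a → a < d → T ≤ AA q a * c ^ j →
      (∃ U : GL (Fin (d - a)) F, U ∈ Cfsg.GU (d - a) F q ∧ orderOf U = c ^ j) →
      (∀ g : (↥(Cfsg.GU d F q) ⧸ Subgroup.center ↥(Cfsg.GU d F q)), orderOf g ≤ T) ∧
        ∃ g : (↥(Cfsg.GU d F q) ⧸ Subgroup.center ↥(Cfsg.GU d F q)), orderOf g = T := by
    intro T a j t1 t2 t3 t4 ha had hT hU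
    obtain ⟨U, hU1, hU2⟩ := hU
    have hle := fun g => order_le (p := c) hF hq hf hd h32' t1 t2 t3 t4 g
    obtain ⟨x, hx⟩ := exists_order (p := c) (d := d) hF hq hf ha (show 1 ≤ d - a by omega) (by omega) U hU1 hU2
    exact ⟨hle, x, le_antisymm (hle x) (hT.trans hx)⟩
  have one : ∀ a, ∃ U : GL (Fin (d - a)) F, U ∈ Cfsg.GU (d - a) F q ∧ orderOf U = c ^ 0 :=
    fun a => ⟨1, Subgroup.one_mem _, by rw [orderOf_one, pow_zero]⟩
  refine ⟨fun hod hf2 => ?_, fun hod hf1 => ?_, fun hev hq3 => ?_, fun hev hq2' => ?_⟩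
  · obtain ⟨i, rfl⟩ : ∃ i, d = i + 3 := ⟨d - 3, by omega⟩
    have hi : Even i := by simpa [Nat.odd_add, parity_simps] using hod
    have hc2 : c * c ≤ q := by rw [hq, ← pow_two]; exact Nat.pow_le_pow_right hp.one_lt.le hf2
    have e1 : i + 3 - 1 = i + 2 := rfl
    have h1 := qpos i
    refine key _ (i + 2) 0 le_rfl ?_ ?_ (fun h => ?_) (by omega) (by omega) ?_ (one _)
    · rw [e1, AA, if_pos (hi.add (by decide))]
    · rw [e1, show i + 3 - 2 = i + 1 from rfl, AA, if_neg (by simpa [parity_simps] using hi), pow_succ, pow_succ q (i + 1), pow_succ]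
      have : (q ^ i * q + 1) * c + 1 ≤ q ^ i * q * q := by
        nlinarith [Nat.mul_le_mul h1 hq2, hp.two_le, Nat.mul_le_mul_left (q ^ i * q) (show c + 2 ≤ q by nlinarith [hp.two_le])]
      omega
    · subst h
      rw [e1, show i + 3 - 3 = i from rfl, AA, if_pos hi, pow_succ q (i + 1), pow_succ]
      have : q ^ i * 4 ≤ q ^ i * (q * q) := Nat.mul_le_mul_left _ (by nlinarith)
      rw [mul_assoc (q ^ i)]
      omega
    · rw [pow_zero, mul_one, e1, AA, if_pos (hi.add (by decide))]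
  · obtain ⟨i, rfl⟩ : ∃ i, d = i + 3 := ⟨d - 3, by omega⟩
    have hi : Even i := by simpa [Nat.odd_add, parity_simps] using hod
    obtain rfl : q = c := by rw [hq, hf1, pow_one]
    have e2 : i + 3 - 2 = i + 1 := rfl
    have hA : AA q (i + 1) = q ^ (i + 1) + 1 := if_neg (by simpa [parity_simps] using hi)
    have hi1 : q ^ (i + 2) = q ^ (i + 1) * q := pow_succ _ _
    refine key _ (i + 1) 1 ?_ ?_ (by rw [e2, hA]) (fun h => ?_) (by omega) (by omega) (by rw [hA, e2, pow_one]) ?_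
    · rw [show i + 3 - 1 = i + 2 from rfl, e2, hi1, add_mul, one_mul]; omega
    · rw [show i + 3 - 1 = i + 2 from rfl, e2, AA, if_pos (hi.add (by decide)), hi1, add_mul, one_mul]; omega
    · subst h
      rw [e2, show i + 3 - 3 = i from rfl, AA, if_pos hi, pow_succ]
      omega
    · rw [show i + 3 - (i + 1) = 2 by omega, pow_one]
      exact exists_two hF
  · obtain ⟨i, rfl⟩ : ∃ i, d = i + 4 := by
      have : d ≠ 3 := fun h => by rw [h] at hev; exact absurd hev (by decide)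
      exact ⟨d - 4, by omega⟩
    have hi : Even i := by simpa [parity_simps] using hev
    have e1 : i + 4 - 1 = i + 3 := rfl
    have hA : AA q (i + 3) = q ^ (i + 3) + 1 := if_neg (by simpa [parity_simps] using hi)
    have h1 := qpos i
    refine key _ (i + 3) 0 ?_ ?_ ?_ (fun h => ?_) (by omega) (by omega) ?_ (one _)
    · omega
    · rw [e1, hA]
    · rw [e1, show i + 4 - 2 = i + 2 from rfl, AA, if_pos (hi.add (by decide)), pow_succ q (i + 2)]
      have := Nat.mul_le_mul (Nat.sub_le (q ^ (i + 2)) 1) hcq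
      omega
    · subst h
      have h4 : 4 ≤ q := by
        rw [hq] at hq3 ⊢
        have : 2 ≤ f := by
          by_contra hh
          rw [show f = 1 by omega, pow_one] at hq3
          omega
        exact le_trans (by norm_num) (Nat.pow_le_pow_right (show 1 ≤ 2 by omega) this)
      rw [e1, show i + 4 - 3 = i + 1 from rfl, AA, if_neg (by simpa [parity_simps] using hi), pow_succ q (i + 2), pow_succ q (i + 1)]
      have : q ^ (i + 1) * 16 ≤ q ^ (i + 1) * (q * q) := Nat.mul_le_mul_left _ (Nat.mul_le_mul h4 h4)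
      have := qpos (i + 1)
      rw [mul_assoc]
      omega
    · rw [pow_zero, mul_one, e1, hA]
  · obtain ⟨i, rfl⟩ : ∃ i, d = i + 4 := by
      have : d ≠ 3 := fun h => by rw [h] at hev; exact absurd hev (by decide)
      exact ⟨d - 4, by omega⟩
    have hi : Even i := by simpa [parity_simps] using hev
    subst hq2'
    obtain rfl : c = 2 := le_antisymm hcq hp.two_le
    have hA : AA 2 (i + 1) = 2 ^ (i + 1) + 1 := if_neg (by simpa [parity_simps] using hi)
    have h1 := Nat.one_le_pow i 2 two_pos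
    refine key _ (i + 1) 2 ?_ ?_ ?_ (fun _ => ?_) (by omega) (by omega) ?_ ?_
    · simp only [show i + 4 - 1 = i + 3 from rfl, show i + 4 - 3 = i + 1 from rfl, pow_succ]; omega
    · rw [show i + 4 - 1 = i + 3 from rfl, AA, if_neg (by simpa [parity_simps] using hi)]
      simp only [show i + 4 - 3 = i + 1 from rfl, pow_succ]; omega
    · rw [show i + 4 - 2 = i + 2 from rfl, AA, if_pos (hi.add (by decide))]
      simp only [show i + 4 - 3 = i + 1 from rfl, pow_succ]; omega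
    · rw [show i + 4 - 3 = i + 1 from rfl, hA]; omega
    · rw [show i + 4 - 3 = i + 1 from rfl, hA]; norm_num; omega
    · rw [show i + 4 - (i + 1) = 3 by omega]
      exact exists_three hF

end Cfsg.Agent.S2263
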