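import Cfsg.Statements.S2264
import Cfsg.Agent.Lib.ElemOrder.Quotient

set_option autoImplicit false
open Cfsg

namespace Cfsg.Agent.S2264

open Matrix

/-- Let F be a finite field with q elements and m ≥ 2. Then every element g of PSp_2m(F) satisfies (q − 1)·|g| ≤ q^(m+1), i.e. has order at most q^(m+1)/(q − 1). -/
theorem result {F : Type*} [Field F] [Fintype F] (m : ℕ) (hm : 2 ≤ m) (g : Cfsg.PSp m F) :
    (Fintype.card F - 1) * orderOf g ≤ Fintype.card F ^ (m + 1) := by
  classical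
  obtain ⟨p, s, hp, hc, hs, hq⟩ := CfsgLib.ElemOrder.exists_prime_pow (F := F)
  obtain ⟨g, rfl⟩ := QuotientGroup.mk_surjective g
  have hd : (g : Matrix (Fin m ⊕ Fin m) (Fin m ⊕ Fin m) F).det = 1 := SymplecticGroup.det_eq_one g.2
  set M := (g : Matrix (Fin m ⊕ Fin m) (Fin m ⊕ Fin m) F)
  have hM : IsUnit M.det := by rw [hd]; exact isUnit_one
  have hinv : (M⁻¹).charpoly = M.charpoly := by
    have hJ : IsUnit (Matrix.J (Fin m) F).det := Matrix.isUnit_det_J _ _
    have h : M * Matrix.J (Fin m) F * Mᵀ = Matrix.J (Fin m) F := g.2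
    have hMJ : M⁻¹ * Matrix.J (Fin m) F = Matrix.J (Fin m) F * Mᵀ := by
      nth_rw 1 [← h]
      rw [Matrix.mul_assoc M, Matrix.nonsing_inv_mul_cancel_left _ _ hM]
    obtain ⟨U, hU⟩ := (Matrix.isUnit_iff_isUnit_det _).2 hJ
    rw [← Matrix.charpoly_transpose M, ← Matrix.charpoly_units_conj U Mᵀ]
    congr 1
    rw [hU, ← hMJ, Matrix.mul_assoc, Matrix.mul_nonsing_inv _ hJ, Matrix.mul_one]
  obtain ⟨N, hN0, hN, hb⟩ := CfsgLib.ElemOrder.selfrec_exponent p hs (RingHom.id F)
    (CfsgLib.ElemOrder.id_frob hq) M (by rw [hd]; exact one_ne_zero) (by simp) hinv hd (B := m)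
    (by simp; omega)
  rw [hq]
  have hle := CfsgLib.ElemOrder.orderOf_mk_center_le
    (Matrix.symplecticGroup (Fin m) F).subtype Subtype.val_injective g hN0 hN
  exact (Nat.mul_le_mul_left _ hle).trans hb.le

end Cfsg.Agent.S2264
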