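import Cfsg.Statements.S2265
import Cfsg.Agent.Lib.ElemOrder.Quotient
import Cfsg.Agent.Lib.Classical.OrthPrimeReal

set_option autoImplicit false
open Cfsg

namespace Cfsg.Agent.S2265

open Matrix CfsgLib.ElemOrder CfsgLib.Classical.OrthPrimeReal

variable {F : Type*} [Field F] [Fintype F] {ι : Type} [Fintype ι] [DecidableEq ι]

theorem omega_bound (Q : QuadraticForm F (ι → F)) (hQ : CfsgLib.Orth.Nondeg Q) {m : ℕ}
    (hd : Fintype.card ι ≤ 2 * m ∨ (Odd (Fintype.card F) ∧ 3 ≤ m ∧ Fintype.card ι = 2 * m + 1))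
    (g : Cfsg.POmega F ⇑Q) :
    (Fintype.card F - 1) * orderOf g ≤ Fintype.card F ^ (m + 1) := by
  classical
  obtain ⟨p, s, hp, hc, hs, hq⟩ := exists_prime_pow (F := F)
  obtain ⟨g, rfl⟩ := QuotientGroup.mk_surjective g
  let toGL : Cfsg.Omega F ⇑Q →* GL ι F :=
    (Cfsg.isometryGroup F ⇑Q).subtype.comp (Cfsg.Omega F ⇑Q).subtype
  have hinj : Function.Injective ((Units.coeHom (Matrix ι ι F)).comp toGL) :=
    Units.val_injective.comp ((Cfsg.isometryGroup F ⇑Q).subtype_injective.comp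
      (Cfsg.Omega F ⇑Q).subtype_injective)
  set A : GL ι F := toGL g with hA
  have hdet : (A : Matrix ι ι F).det = 1 := by
    have : (Matrix.GeneralLinearGroup.det.comp (Cfsg.isometryGroup F ⇑Q).subtype) g = 1 :=
      Abelianization.commutator_subset_ker _ g.2
    exact congrArg Units.val this
  have hinv : ((A : Matrix ι ι F)⁻¹).charpoly = (A : Matrix ι ι F).charpoly := by
    rw [← Matrix.coe_units_inv, charpoly_inv_tw, tw_charpoly Q hQ A g.1.2]
  have hM : (A : Matrix ι ι F).det ≠ 0 := by rw [hdet]; exact one_ne_zero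
  obtain ⟨N, hN0, hN, hb⟩ : ∃ N, 0 < N ∧
      ((A : Matrix ι ι F) ^ N = 1 ∨ (A : Matrix ι ι F) ^ N = scalar ι (-1)) ∧
      (p ^ s - 1) * N < (p ^ s) ^ (m + 1) := by
    rcases hd with hd | ⟨hodd, hm, hd⟩
    · exact selfrec_exponent p hs (RingHom.id F) (id_frob hq) _ hM (by simp) hinv hdet hd
    · refine selfrec_exponent_odd p hs (RingHom.id F) (id_frob hq) _ hM ?_ (by simp) hinv hdet hm hd
      rcases hp.out.eq_two_or_odd with h | h
      · exfalso
        rw [hq, h] at hodd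
        exact (Nat.not_even_iff_odd.2 hodd) (Nat.even_pow.2 ⟨even_two, by omega⟩)
      · have := hp.out.two_le; omega
  rw [hq]
  exact (Nat.mul_le_mul_left _ (orderOf_mk_center_le _ hinj g hN0 hN)).trans hb.le

/-- Let F be a finite field with q elements. Every element g of PΩ_(2m+1)(F) (m ≥ 3, q odd), of PΩ⁺_2m(F) (m ≥ 4), or of PΩ⁻_2m(F) (m ≥ 4, the form having an anisotropic binary part) satisfies (q − 1)·|g| ≤ q^(m+1), i.e. has order at most q^(m+1)/(q − 1). -/
theorem result {F : Type*} [Field F] [Fintype F] (m : ℕ) :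
    (3 ≤ m → Odd (Fintype.card F) → ∀ g : Cfsg.POmega F (Cfsg.quadFormOdd m F),
      (Fintype.card F - 1) * orderOf g ≤ Fintype.card F ^ (m + 1)) ∧
    (4 ≤ m → ∀ g : Cfsg.POmega F (Cfsg.quadFormPlus m F),
      (Fintype.card F - 1) * orderOf g ≤ Fintype.card F ^ (m + 1)) ∧
    (4 ≤ m → ∀ a b : F, (∀ z₁ z₂ : F, z₁ ^ 2 + a * z₁ * z₂ + b * z₂ ^ 2 = 0 → z₁ = 0 ∧ z₂ = 0) →
      ∀ g : Cfsg.POmega F (Cfsg.quadFormMinus (m - 1) F a b),
      (Fintype.card F - 1) * orderOf g ≤ Fintype.card F ^ (m + 1)) := by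
  classical
  refine ⟨fun hm hodd g => ?_, fun _ g => ?_, fun hm a b hab g => ?_⟩
  · have h2 : (2 : F) ≠ 0 := Ring.two_ne_zero (fun h => by
      have : CharP F 2 := ringChar.of_eq h
      exact (Nat.not_even_iff_odd.2 hodd) (even_iff_two_dvd.2
        ((FiniteField.even_card_iff_char_two (F := F)).1 h |> Nat.dvd_of_mod_eq_zero)))
    obtain ⟨Q, hQ, hnd⟩ := CfsgLib.Orth.exists_quadForm_odd h2 m
    revert g; rw [← hQ]
    exact omega_bound Q hnd (Or.inr ⟨hodd, hm, by simp; omega⟩)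
  · obtain ⟨Q, hQ, hnd⟩ := CfsgLib.Orth.exists_quadForm_plus (F := F) m
    revert g; rw [← hQ]
    exact omega_bound Q hnd (Or.inl (by simp; omega))
  · obtain ⟨Q, hQ, hnd⟩ := CfsgLib.Orth.exists_quadForm_minus (m - 1) hab
    revert g; rw [← hQ]
    exact omega_bound Q hnd (Or.inl (by simp; omega))

end Cfsg.Agent.S2265
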