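import Cfsg.Statements.S2268
import Mathlib
import Cfsg.Agent.Lib.Coprime.Action

set_option autoImplicit false
set_option linter.style.haveILetI false
open Cfsg

namespace Cfsg.Agent.S2268

/-- Let G be a finite group with an abelian Sylow p-subgroup P and let Q ≤ P. Then N_G(Q) = (N_G(Q) ∩ N_G(P))·C_G(Q), so that N_G(Q)/C_G(Q) is a homomorphic image of the subgroup (N_G(Q) ∩ N_G(P))/C_G(P) of N_G(P)/C_G(P); in particular the order of N_G(Q)/C_G(Q) divides the order of N_G(P)/C_G(P). -/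
theorem result {G : Type*} [Group G] [Finite G] {p : ℕ} [Fact p.Prime]
    (P : Sylow p G) (hP : IsMulCommutative (P : Subgroup G)) (Q : Subgroup G) (hQ : Q ≤ (P : Subgroup G)) :
    Subgroup.normalizer (Q : Set G) =
      (Subgroup.normalizer (Q : Set G) ⊓ Subgroup.normalizer ((P : Subgroup G) : Set G)) ⊔ Subgroup.centralizer (Q : Set G) ∧
    ((Subgroup.centralizer (Q : Set G)).subgroupOf (Subgroup.normalizer (Q : Set G))).index ∣ ((Subgroup.centralizer ((P : Subgroup G) : Set G)).subgroupOf (Subgroup.normalizer ((P : Subgroup G) : Set G))).index := by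
  haveI := hP
  set N := Subgroup.normalizer (Q : Set G)
  set C := Subgroup.centralizer (Q : Set G) with hC
  set R := Subgroup.normalizer ((P : Subgroup G) : Set G)
  set C' := Subgroup.centralizer ((P : Subgroup G) : Set G) with hC'
  have hPC : (P : Subgroup G) ≤ C := fun x hx => Subgroup.mem_centralizer_iff.mpr fun y hy =>
    congrArg Subtype.val (mul_comm' (⟨y, hQ hy⟩ : (P : Subgroup G)) ⟨x, hx⟩)
  have hCN : C ≤ N := Subgroup.centralizer_le_normalizer _
  have heq : N = (N ⊓ R) ⊔ C := by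
    refine le_antisymm (fun n hn => ?_) (sup_le inf_le_left hCN)
    have hnC : ((n • P : Sylow p G) : Subgroup G) ≤ C := by
      rintro _ ⟨x, hx, rfl⟩
      refine Subgroup.mem_centralizer_iff.mpr fun y hy => ?_
      have h1 : n⁻¹ * y * n⁻¹⁻¹ ∈ Q :=
        (Subgroup.mem_normalizer_iff.mp (inv_mem hn) y).mp hy
      have h2 := Subgroup.mem_centralizer_iff.mp (hPC hx) _ h1
      show y * (n * x * n⁻¹) = n * x * n⁻¹ * y
      calc y * (n * x * n⁻¹) = n * (n⁻¹ * y * n⁻¹⁻¹ * x) * n⁻¹ := by group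
        _ = n * (x * (n⁻¹ * y * n⁻¹⁻¹)) * n⁻¹ := by rw [h2]
        _ = n * x * n⁻¹ * y := by group
    obtain ⟨⟨c, hc⟩, hce⟩ := MulAction.exists_smul_eq C ((n • P).subtype hnC) (P.subtype hPC)
    rw [Sylow.smul_subtype] at hce
    have h1 : c • (n • P) = P := Sylow.subtype_injective hce
    rw [← mul_smul] at h1
    have h2 : c * n ∈ R := Sylow.smul_eq_iff_mem_normalizer.mp h1
    have h3 : c * n ∈ N ⊓ R := ⟨mul_mem (hCN hc) hn, h2⟩
    rw [show n = c⁻¹ * (c * n) by group]
    exact mul_mem (Subgroup.mem_sup_right (inv_mem hc)) (Subgroup.mem_sup_left h3)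
  refine ⟨heq, ?_⟩
  show C.relIndex N ∣ C'.relIndex R
  have hN : (N ⊓ R) ≤ Subgroup.normalizer (C : Set G) :=
    inf_le_left.trans (CfsgLib.Coprime.le_normalizer_centralizer le_rfl)
  rw [heq, sup_comm, CfsgLib.Coprime.relIndex_sup_of_le_normalizer hN]
  have hC'le : C' ≤ N ⊓ R := le_inf
    ((Subgroup.centralizer_le (fun x hx => hQ hx)).trans hCN) (Subgroup.centralizer_le_normalizer _)
  have h1 : C.relIndex (N ⊓ R) ∣ C'.relIndex (N ⊓ R) :=
    Subgroup.relIndex_dvd_of_le_left (N ⊓ R) (Subgroup.centralizer_le (fun x hx => hQ hx))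
  refine h1.trans (Dvd.intro ((N ⊓ R).relIndex R) ?_)
  exact Subgroup.relIndex_mul_relIndex C' (N ⊓ R) R hC'le inf_le_right

end Cfsg.Agent.S2268
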