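import Cfsg.Statements.S2269
import Cfsg.Agent.Lib.Perm.AlternatingSylowAbelian
-- import your own Cfsg.Agent.* helpers here

set_option autoImplicit false
open Cfsg

namespace Cfsg.Agent.S2269

open CfsgLib.Perm.AltAbelian

set_option maxRecDepth 4000 in
lemma autzAux_no_four : ∀ g : alternatingGroup (Fin 5), g ^ 4 = 1 → g ^ 2 = 1 := by decide

lemma autzAux_klein {p : ℕ} [Fact p.Prime] (hp : p = 2)
    (P : Sylow p (alternatingGroup (Fin 5)))
    (hP : IsMulCommutative (P : Subgroup (alternatingGroup (Fin 5)))) :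
    ((Subgroup.centralizer ((P : Subgroup (alternatingGroup (Fin 5))) : Set (alternatingGroup (Fin 5)))).subgroupOf
      (Subgroup.normalizer ((P : Subgroup (alternatingGroup (Fin 5))) : Set (alternatingGroup (Fin 5))))).index = 3 ∧
    IsKleinFour (P : Subgroup (alternatingGroup (Fin 5))) := by
  classical
  subst hp
  have hA5 : Nat.card (alternatingGroup (Fin 5)) = 60 := by
    rw [nat_card_alternatingGroup, Nat.card_eq_fintype_card, Fintype.card_fin]
    decide
  set H : Subgroup (alternatingGroup (Fin 5)) := (P : Subgroup (alternatingGroup (Fin 5)))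
  have hcard : Nat.card H = 4 := by
    obtain ⟨e, he⟩ := (P.isPGroup').exists_card_eq
    have h1 := H.card_mul_index
    have h2 : ¬ 2 ∣ H.index := P.not_dvd_index
    have he' : Nat.card H = 2 ^ e := he
    rw [he', hA5] at h1
    rw [he']
    have h3 : e ≤ 5 := by
      by_contra h
      have : 2 ^ 6 ≤ 2 ^ e := Nat.pow_le_pow_right (by norm_num) (by omega)
      rcases Nat.eq_zero_or_pos H.index with h0 | h0
      · rw [h0] at h1; omega
      · nlinarith
    interval_cases e <;> omega
  have hexp : ∀ x : H, x ^ 2 = 1 := by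
    intro x
    apply Subtype.ext
    rw [SubmonoidClass.coe_pow]
    apply autzAux_no_four
    rw [← SubmonoidClass.coe_pow, show x ^ 4 = 1 by rw [← hcard]; exact pow_card_eq_one']
    rfl
  have : Fact (Nat.Prime 2) := ⟨Nat.prime_two⟩
  have hK : IsKleinFour H := by
    refine ⟨hcard, ?_⟩
    refine ((Nat.dvd_prime Nat.prime_two).1 (Monoid.exponent_dvd_of_forall_pow_eq_one hexp)).resolve_left ?_
    intro h
    have := Monoid.exp_eq_one_iff.1 h
    rw [Nat.card_unique] at hcard
    omega
  refine ⟨?_, hK⟩
  have hHC : H ≤ Subgroup.centralizer (H : Set (alternatingGroup (Fin 5))) := fun a ha b hb =>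
    congrArg Subtype.val (hP.is_comm.comm ⟨b, hb⟩ ⟨a, ha⟩)
  have hker := Subgroup.normalizerMonoidHom_ker H
  have hdvd := Subgroup.card_dvd_of_injective _
    (QuotientGroup.kerLift_injective (Subgroup.normalizerMonoidHom H))
  rw [hker, ← Subgroup.index] at hdvd
  have haut : Nat.card (MulAut H) ∣ 6 := by
    let ψ : MulAut H →* Equiv.Perm {x : H // x ≠ 1} :=
      { toFun := fun a =>
          Equiv.Perm.subtypePerm (MulEquiv.toEquiv a : Equiv.Perm H) fun x => by
            simp [MulEquiv.map_eq_one_iff]
        map_one' := by ext x; rfl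
        map_mul' := fun a b => by ext x; rfl }
    have hψ : Function.Injective ψ := by
      intro a b h
      refine MulEquiv.ext fun x => ?_
      by_cases hx : x = 1
      · simp [hx]
      · exact congrArg Subtype.val
          (congrArg (fun e : Equiv.Perm {x : H // x ≠ 1} => e ⟨x, hx⟩) h)
    have := Subgroup.card_dvd_of_injective ψ hψ
    rwa [Nat.card_perm, Nat.card_eq_fintype_card (α := {x : H // x ≠ 1}), Fintype.card_subtype_compl,
      Fintype.card_subtype_eq, ← Nat.card_eq_fintype_card, hcard] at this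
  have h6 := hdvd.trans haut
  have h15 : ((Subgroup.centralizer (H : Set (alternatingGroup (Fin 5)))).subgroupOf
      (Subgroup.normalizer (H : Set (alternatingGroup (Fin 5))))).index ∣ 15 := by
    have h1 := Subgroup.relIndex_dvd_of_le_left
      (Subgroup.normalizer (H : Set (alternatingGroup (Fin 5)))) hHC
    have h2 := Subgroup.relIndex_dvd_index_of_le (Subgroup.le_normalizer (H := H))
    have h3 : H.index = 15 := by
      have := H.card_mul_index
      rw [hcard, hA5] at this
      omega
    rw [← h3]
    exact h1.trans h2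
  have hne : ((Subgroup.centralizer (H : Set (alternatingGroup (Fin 5)))).subgroupOf
      (Subgroup.normalizer (H : Set (alternatingGroup (Fin 5))))).index ≠ 1 := by
    intro h
    have hle : Subgroup.normalizer (H : Set (alternatingGroup (Fin 5))) ≤
        Subgroup.centralizer (H : Set (alternatingGroup (Fin 5))) := Subgroup.relIndex_eq_one.1 h
    have hc := MonoidHom.ker_transferSylow_isComplement' P hle
    have hmul := hc.card_mul
    rw [hA5] at hmul
    have hfac : Nat.card (MonoidHom.transferSylow P hle).ker = 15 := by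
      rw [show Nat.card P = 4 from hcard] at hmul
      omega
    rcases IsSimpleGroup.eq_bot_or_eq_top_of_normal (MonoidHom.transferSylow P hle).ker
      inferInstance with h' | h'
    · rw [h', Subgroup.card_bot] at hfac; omega
    · rw [h', Subgroup.card_top, hA5] at hfac; omega
  have hle := Nat.le_of_dvd (by norm_num) h6
  rcases Nat.eq_zero_or_pos ((Subgroup.centralizer (H : Set (alternatingGroup (Fin 5)))).subgroupOf
      (Subgroup.normalizer (H : Set (alternatingGroup (Fin 5))))).index with h0 | h0
  · rw [h0] at h15; omega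
  · generalize ((Subgroup.centralizer (H : Set (alternatingGroup (Fin 5)))).subgroupOf
      (Subgroup.normalizer (H : Set (alternatingGroup (Fin 5))))).index = i at h6 h15 hne hle h0 ⊢
    interval_cases i <;> omega

/-- The negation of all blocks, possibly composed with an exchange of two blocks. -/
lemma autzAux_inverter {p : ℕ} [Fact p.Prime] (hp : p ≠ 2) (k : ℕ) (hk : 2 ≤ k) :
    ∃ u : Equiv.Perm (Fin k × ZMod p), Equiv.Perm.sign u = 1 ∧
      ∃ π : Fin k → Fin k, (∀ i, π (π i) = i) ∧
        ∀ f : Multiplicative (Fin k → ZMod p),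
          u * blockShift p k f * u⁻¹ = blockShift p k (Multiplicative.ofAdd fun i => -f.toAdd (π i)) := by
  classical
  have main : ∀ (π : Equiv.Perm (Fin k)), (∀ i, π (π i) = i) →
      ∀ f : Multiplicative (Fin k → ZMod p),
      (π.prodCongr (Equiv.neg (ZMod p))) * blockShift p k f * (π.prodCongr (Equiv.neg (ZMod p)))⁻¹
        = blockShift p k (Multiplicative.ofAdd fun i => -f.toAdd (π i)) := by
    intro π hπ f
    rw [mul_inv_eq_iff_eq_mul]
    refine Equiv.ext fun ⟨i, x⟩ => ?_
    simp [blockShift, Equiv.Perm.mul_apply, hπ, add_comm]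
  by_cases h : Equiv.Perm.sign ((Equiv.refl (Fin k)).prodCongr (Equiv.neg (ZMod p))) = 1
  · exact ⟨_, h, id, fun i => rfl, main (Equiv.refl _) fun i => rfl⟩
  · let i₀ : Fin k := ⟨0, by omega⟩
    let i₁ : Fin k := ⟨1, by omega⟩
    let sw : Equiv.Perm (Fin k) := Equiv.swap i₀ i₁
    refine ⟨sw.prodCongr (Equiv.neg (ZMod p)), ?_, sw, fun i => Equiv.swap_apply_self _ _ i,
      main sw fun i => Equiv.swap_apply_self _ _ i⟩
    have hsplit : sw.prodCongr (Equiv.neg (ZMod p))
        = (sw.prodCongr (Equiv.refl (ZMod p))).trans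
            ((Equiv.refl (Fin k)).prodCongr (Equiv.neg (ZMod p))) := Equiv.ext fun ⟨i, x⟩ => rfl
    have hsign : Equiv.Perm.sign (sw.prodCongr (Equiv.refl (ZMod p))) = -1 := by
      have hne : i₀ ≠ i₁ := by simp [i₀, i₁, Fin.ext_iff]
      have : sw.prodCongr (Equiv.refl (ZMod p)) = Equiv.prodCongrLeft (fun _ : ZMod p => sw) :=
        Equiv.ext fun ⟨i, x⟩ => rfl
      rw [this, Equiv.Perm.sign_prodCongrLeft, Finset.prod_const, Finset.card_univ, ZMod.card,
        Equiv.Perm.sign_swap hne, ((Fact.out : p.Prime).eq_two_or_odd'.resolve_left hp).neg_one_pow]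
    rw [hsplit, Equiv.Perm.sign_trans, hsign,
      (Int.units_eq_one_or _).resolve_left h, Int.units_mul_self]

lemma autzAux_odd {p : ℕ} [hp : Fact p.Prime] (hp2 : p ≠ 2) {n : ℕ} (hn : 5 ≤ n)
    (hlt : n < p ^ 2) (P : Sylow p (alternatingGroup (Fin n))) :
    2 ∣ ((Subgroup.centralizer ((P : Subgroup (alternatingGroup (Fin n))) : Set (alternatingGroup (Fin n)))).subgroupOf (Subgroup.normalizer ((P : Subgroup (alternatingGroup (Fin n))) : Set (alternatingGroup (Fin n))))).index ∨ IsCyclic (P : Subgroup (alternatingGroup (Fin n))) := by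
  classical
  have hodd := hp.out.eq_two_or_odd'.resolve_left hp2
  set k := n / p with hk
  have hv : (Nat.card (alternatingGroup (Fin n))).factorization p = k := by
    have h2 : 2 * Nat.card (alternatingGroup (Fin n)) = n.factorial := by
      haveI : Nontrivial (Fin n) := Fin.nontrivial_iff_two_le.2 (by omega)
      rw [Nat.card_eq_fintype_card, two_mul_card_alternatingGroup, Fintype.card_perm,
        Fintype.card_fin]
    have h3 : (n.factorial).factorization p = k := by
      rw [Nat.factorization_def _ hp.out, padicValNat_factorial (b := 2)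
        (Nat.log_lt_of_lt_pow (by omega) hlt)]
      simp [k]
    rw [← h2, Nat.factorization_mul two_ne_zero (Nat.card_pos.ne'), Finsupp.add_apply,
      Nat.prime_two.factorization, Finsupp.single_eq_of_ne (Ne.symm hp2.symm), zero_add] at h3
    exact h3
  have hPcard : Nat.card (P : Subgroup (alternatingGroup (Fin n))) = p ^ k := by
    have := P.card_eq_multiplicity
    rwa [hv] at this
  by_cases hk2 : 2 ≤ k
  swap
  · right
    rcases (show k = 0 ∨ k = 1 by omega) with h | h <;> rw [h] at hPcard
    · have := (Nat.card_eq_one_iff_unique.1 hPcard).1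
      infer_instance
    · exact isCyclic_of_prime_card (p := p) (by simpa using hPcard)
  left
  obtain ⟨e⟩ := Function.Embedding.nonempty_of_card_le (α := Fin k × ZMod p) (β := Fin n)
    (by simpa using Nat.div_mul_le_self n p)
  let ψ : Multiplicative (Fin k → ZMod p) →* alternatingGroup (Fin n) :=
    ((Equiv.Perm.viaEmbeddingHom e).comp (blockShift p k)).codRestrict _ fun f => by
      rw [Equiv.Perm.mem_alternatingGroup]
      refine sign_eq_one_of_pow_eq_one hodd ?_
      rw [← map_pow, show f ^ p = 1 from Multiplicative.toAdd.injective (by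
        rw [toAdd_pow, toAdd_one]
        funext i
        simp), map_one]
  have hψ : Function.Injective ψ := fun f g hfg => blockShift_injective k
    (Equiv.Perm.viaEmbeddingHom_injective e (congrArg Subtype.val hfg))
  have hcard : Nat.card ψ.range = p ^ k := by
    rw [← Nat.card_congr (MonoidHom.ofInjective hψ).toEquiv,
      Nat.card_congr Multiplicative.toAdd, Nat.card_fun, Nat.card_fin, Nat.card_zmod]
  obtain ⟨Q, hQ⟩ := (IsPGroup.of_card hcard).exists_le_sylow
  have heq : ψ.range = (Q : Subgroup (alternatingGroup (Fin n))) := by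
    refine Subgroup.eq_of_le_of_card_ge hQ (le_of_eq ?_)
    rw [hcard, Sylow.card_eq_multiplicity, hv]
  obtain ⟨g, hg⟩ := MulAction.exists_smul_eq (alternatingGroup (Fin n)) Q P
  let φ : Multiplicative (Fin k → ZMod p) →* alternatingGroup (Fin n) :=
    (MulAut.conj g).toMonoidHom.comp ψ
  have hφ : φ.range = (P : Subgroup (alternatingGroup (Fin n))) := by
    rw [← hg, Sylow.coe_subgroup_smul, MonoidHom.range_comp, heq]
    rfl
  have hφi : Function.Injective φ := (MulAut.conj g).injective.comp hψ
  obtain ⟨u, hu, π, hπ, hconj⟩ := autzAux_inverter (p := p) hp2 k hk2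
  let u₀ : alternatingGroup (Fin n) := ⟨Equiv.Perm.viaEmbeddingHom e u,
    Equiv.Perm.mem_alternatingGroup.2 ((sign_viaEmbedding u e).trans hu)⟩
  let v : alternatingGroup (Fin n) := g * u₀ * g⁻¹
  let T : Multiplicative (Fin k → ZMod p) → Multiplicative (Fin k → ZMod p) :=
    fun f => Multiplicative.ofAdd fun i => -f.toAdd (π i)
  have hT : ∀ f, T (T f) = f := fun f => by
    simp [T, hπ]
  have hu₀ : ∀ f, u₀ * ψ f * u₀⁻¹ = ψ (T f) := by
    intro f
    apply Subtype.ext
    show Equiv.Perm.viaEmbeddingHom e u * Equiv.Perm.viaEmbeddingHom e (blockShift p k f) *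
      (Equiv.Perm.viaEmbeddingHom e u)⁻¹ = Equiv.Perm.viaEmbeddingHom e (blockShift p k (T f))
    rw [← map_inv, ← map_mul, ← map_mul, hconj]
  have hv' : ∀ f, v * φ f * v⁻¹ = φ (T f) := by
    intro f
    show g * u₀ * g⁻¹ * (g * ψ f * g⁻¹) * (g * u₀ * g⁻¹)⁻¹ = g * ψ (T f) * g⁻¹
    rw [← hu₀]
    group
  have hvN : v ∈ Subgroup.normalizer ((P : Subgroup (alternatingGroup (Fin n))) : Set (alternatingGroup (Fin n))) := by
    rw [Subgroup.mem_normalizer_iff]
    intro x
    rw [← hφ]
    constructor
    · rintro ⟨f, rfl⟩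
      exact ⟨T f, (hv' f).symm⟩
    · rintro ⟨f, hf⟩
      refine ⟨T f, ?_⟩
      have h1 := hv' (T f)
      rw [hT, hf, mul_left_inj, mul_right_inj] at h1
      exact h1
  have hnot : v ∉ Subgroup.centralizer ((P : Subgroup (alternatingGroup (Fin n))) : Set (alternatingGroup (Fin n))) := by
    intro hc
    let f₁ : Multiplicative (Fin k → ZMod p) := Multiplicative.ofAdd fun _ => 1
    have h1 : φ f₁ * v = v * φ f₁ := hc _ (hφ ▸ ⟨f₁, rfl⟩)
    have h2 : φ (T f₁) = φ f₁ := by
      rw [← hv', ← h1, mul_inv_cancel_right]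
    have h3 := congrArg (fun f => f.toAdd (⟨0, by omega⟩ : Fin k)) (hφi h2)
    simp only [T, f₁, toAdd_ofAdd] at h3
    have h4 : (2 : ZMod p) = 0 := by linear_combination -h3
    have h5 : ((2 : ℕ) : ZMod p) = 0 := by exact_mod_cast h4
    rw [ZMod.natCast_eq_zero_iff] at h5
    exact hp2 ((Nat.prime_dvd_prime_iff_eq hp.out Nat.prime_two).1 h5)
  have hsq : v * v ∈ Subgroup.centralizer ((P : Subgroup (alternatingGroup (Fin n))) : Set (alternatingGroup (Fin n))) := by
    intro x hx
    rw [← hφ] at hx
    obtain ⟨f, rfl⟩ := hx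
    have : v * v * φ f * (v * v)⁻¹ = φ f := by
      calc v * v * φ f * (v * v)⁻¹ = v * (v * φ f * v⁻¹) * v⁻¹ := by group
        _ = φ f := by rw [hv', hv', hT]
    rw [mul_inv_eq_iff_eq_mul] at this
    exact this.symm
  rw [Subgroup.index_eq_card]
  set C := (Subgroup.centralizer ((P : Subgroup (alternatingGroup (Fin n))) : Set (alternatingGroup (Fin n)))).subgroupOf
    (Subgroup.normalizer ((P : Subgroup (alternatingGroup (Fin n))) : Set (alternatingGroup (Fin n))))
  have hord : orderOf (QuotientGroup.mk' C ⟨v, hvN⟩) = 2 := by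
    have : Fact (Nat.Prime 2) := ⟨Nat.prime_two⟩
    refine orderOf_eq_prime ?_ ?_
    · rw [← map_pow, sq]
      exact (QuotientGroup.eq_one_iff _).2 hsq
    · intro h
      exact hnot ((QuotientGroup.eq_one_iff (N := C) _).1 h)
  rw [← hord]
  exact orderOf_dvd_natCard _

/-- Let n ≥ 5 and let P be an abelian Sylow p-subgroup of the alternating group A_n. Then N(P)/C(P) (taken in A_n) has even order, or P is cyclic, except when n = 5 and p = 2, where P is a four-group and N(P)/C(P) has order 3. -/
theorem result (n : ℕ) (hn : 5 ≤ n) {p : ℕ} [Fact p.Prime]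
    (P : Sylow p (alternatingGroup (Fin n))) (hP : IsMulCommutative (P : Subgroup (alternatingGroup (Fin n)))) :
    (¬ (n = 5 ∧ p = 2) → 2 ∣ ((Subgroup.centralizer ((P : Subgroup (alternatingGroup (Fin n))) : Set (alternatingGroup (Fin n)))).subgroupOf (Subgroup.normalizer ((P : Subgroup (alternatingGroup (Fin n))) : Set (alternatingGroup (Fin n))))).index ∨ IsCyclic (P : Subgroup (alternatingGroup (Fin n)))) ∧
    ((n = 5 ∧ p = 2) → ((Subgroup.centralizer ((P : Subgroup (alternatingGroup (Fin n))) : Set (alternatingGroup (Fin n)))).subgroupOf (Subgroup.normalizer ((P : Subgroup (alternatingGroup (Fin n))) : Set (alternatingGroup (Fin n))))).index = 3 ∧ IsKleinFour (P : Subgroup (alternatingGroup (Fin n)))) := by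
  refine ⟨fun hne => ?_, fun ⟨h5, h2⟩ => ?_⟩
  · by_cases hp2 : p = 2
    · subst hp2
      exfalso
      have h6 : 6 ≤ n := by
        by_contra h
        exact hne ⟨by omega, rfl⟩
      have := (CfsgLib.Perm.AltAbelian.sylow_isMulCommutative_iff h6 P).1 hP
      omega
    · apply autzAux_odd hp2 hn _ P
      have h3 : 3 ≤ p := by
        have := (Fact.out : p.Prime).two_le
        omega
      rcases (show n = 5 ∨ 6 ≤ n by omega) with h | h
      · nlinarith
      · exact (CfsgLib.Perm.AltAbelian.sylow_isMulCommutative_iff h P).1 hP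
  · subst h5
    exact autzAux_klein h2 P hP

end Cfsg.Agent.S2269
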