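import Cfsg.Statements.S2270
import Mathlib
-- import your own Cfsg.Agent.* helpers here

set_option autoImplicit false
open Cfsg

namespace Cfsg.Agent.S2270

/-- An abelian permutation group is inverted by some permutation. -/
theorem exists_inverting {α : Type*} (A : Subgroup (Equiv.Perm α)) (hA : ∀ a ∈ A, ∀ b ∈ A, a * b = b * a) :
    ∃ x : Equiv.Perm α, x * x = 1 ∧ ∀ a ∈ A, x * a * x⁻¹ = a⁻¹ := by
  classical
  let root : α → α := fun y => (Quotient.mk (MulAction.orbitRel A α) y).out
  have hroot : ∀ y, ∃ a : A, a • root y = y := fun y => by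
    have h : y ∈ MulAction.orbit A (root y) :=
      MulAction.orbitRel_apply.mp (Quotient.exact (Quotient.out_eq (Quotient.mk (MulAction.orbitRel A α) y)).symm)
    exact h
  choose c hc using hroot
  let f : α → α := fun y => (c y)⁻¹ • root y
  have key : ∀ (y : α) (a : A), a • root y = y → f y = a⁻¹ • root y := by
    intro y a h
    have h1 : c y • root y = a • root y := by rw [hc y, h]
    have hAc : ∀ u v : A, u * v = v * u := fun u v => Subtype.ext (hA u u.2 v v.2)
    show (c y)⁻¹ • root y = a⁻¹ • root y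
    have h2 : (c y * a) • ((c y)⁻¹ • root y) = (c y * a) • (a⁻¹ • root y) := by
      rw [smul_smul, smul_smul, hAc (c y) a, mul_inv_cancel_right, hAc a (c y), mul_inv_cancel_right, h1]
    exact MulAction.injective _ h2
  have hsame : ∀ (y : α) (a : A), root (a • y) = root y := fun y a => by
    show (Quotient.mk (MulAction.orbitRel A α) (a • y)).out = _
    rw [Quotient.sound (a := a • y) (b := y) (MulAction.orbitRel_apply.mpr (MulAction.mem_orbit y a))]
  have hf : ∀ (y : α) (a : A), f (a • y) = a⁻¹ • f y := fun y a => by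
    rw [key (a • y) (a * c y) (by rw [hsame, mul_smul, hc]), hsame, smul_smul]
    congr 1
    rw [mul_inv_rev]
    exact Subtype.ext (hA _ (inv_mem (c y).2) _ (inv_mem a.2))
  have hff : Function.Involutive f := fun y => by
    show f ((c y)⁻¹ • root y) = y
    have hr : root (root y) = root y := by
      conv_rhs => rw [← hc y, hsame]
    rw [hf, inv_inv, key (root y) 1 (by rw [one_smul]; exact hr), inv_one, one_smul, hr, hc]
  refine ⟨hff.toPerm f, Equiv.ext fun y => hff y, fun a ha => Equiv.ext fun y => ?_⟩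
  show f (a (f y)) = a⁻¹ y
  rw [show a (f y) = (⟨a, ha⟩ : A) • f y from rfl, hf, hff]
  rfl

/-- Let n ≥ 3, p an odd prime, and P an abelian Sylow p-subgroup of the symmetric group S_n (with p dividing n!, so that P ≠ 1). Then N(P)/C(P) has even order. -/
theorem result (n : ℕ) (hn : 3 ≤ n) {p : ℕ} [Fact p.Prime] (hp : p ≠ 2) (hpn : p ≤ n)
    (P : Sylow p (Equiv.Perm (Fin n))) (hP : IsMulCommutative (P : Subgroup (Equiv.Perm (Fin n)))) :
    2 ∣ ((Subgroup.centralizer ((P : Subgroup (Equiv.Perm (Fin n))) : Set (Equiv.Perm (Fin n)))).subgroupOf (Subgroup.normalizer ((P : Subgroup (Equiv.Perm (Fin n))) : Set (Equiv.Perm (Fin n))))).index := by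
  classical
  have hp' : p.Prime := Fact.out
  obtain ⟨x, hx2, hx⟩ := exists_inverting (P : Subgroup (Equiv.Perm (Fin n))) fun a ha b hb =>
    congrArg Subtype.val (hP.is_comm.comm (⟨a, ha⟩ : (P : Subgroup (Equiv.Perm (Fin n)))) ⟨b, hb⟩)
  set N := Subgroup.normalizer ((P : Subgroup (Equiv.Perm (Fin n))) : Set (Equiv.Perm (Fin n)))
  set C := Subgroup.centralizer ((P : Subgroup (Equiv.Perm (Fin n))) : Set (Equiv.Perm (Fin n)))
  have hxi : x⁻¹ = x := inv_eq_of_mul_eq_one_left hx2
  have hxN : x ∈ N := Subgroup.mem_normalizer_iff.mpr fun a =>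
    ⟨fun ha => by rw [hx a ha]; exact inv_mem ha, fun ha => by
      have := hx _ ha
      rw [show x * (x * a * x⁻¹) * x⁻¹ = (x * x) * a * (x * x)⁻¹ by group, hx2, one_mul, inv_one, mul_one] at this
      rw [this]; exact inv_mem ha⟩
  have hCn : (C.subgroupOf N).Normal := ⟨fun c hc g => by
    rw [Subgroup.mem_subgroupOf, Subgroup.mem_centralizer_iff] at hc ⊢
    intro a ha
    have hga : (g : Equiv.Perm (Fin n))⁻¹ * a * g ∈ (P : Subgroup (Equiv.Perm (Fin n))) := by
      have := (Subgroup.mem_normalizer_iff.mp (inv_mem g.2) a).mp ha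
      rwa [inv_inv] at this
    have h := hc _ hga
    show a * ((g : Equiv.Perm (Fin n)) * c * (g : Equiv.Perm (Fin n))⁻¹) = (g : Equiv.Perm (Fin n)) * c * (g : Equiv.Perm (Fin n))⁻¹ * a
    calc a * ((g : Equiv.Perm (Fin n)) * c * (g : Equiv.Perm (Fin n))⁻¹)
        = (g : Equiv.Perm (Fin n)) * ((g : Equiv.Perm (Fin n))⁻¹ * a * g * c) * (g : Equiv.Perm (Fin n))⁻¹ := by group
      _ = (g : Equiv.Perm (Fin n)) * (c * ((g : Equiv.Perm (Fin n))⁻¹ * a * g)) * (g : Equiv.Perm (Fin n))⁻¹ := by rw [h]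
      _ = (g : Equiv.Perm (Fin n)) * c * (g : Equiv.Perm (Fin n))⁻¹ * a := by group⟩
  let q : N ⧸ C.subgroupOf N := QuotientGroup.mk ⟨x, hxN⟩
  have hd : p ∣ Nat.card (Equiv.Perm (Fin n)) := by
    rw [Nat.card_perm, Nat.card_fin]; exact Nat.dvd_factorial hp'.pos hpn
  obtain ⟨a, ha⟩ := exists_prime_orderOf_dvd_card' (G := (P : Subgroup (Equiv.Perm (Fin n)))) p
    (P.dvd_card_of_dvd_card hd)
  have hq : orderOf q = 2 := by
    refine orderOf_eq_prime ?_ fun e => ?_
    · rw [pow_two, ← QuotientGroup.mk_mul]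
      exact (congrArg _ (Subtype.ext hx2 : (⟨x, hxN⟩ : N) * ⟨x, hxN⟩ = 1)).trans (QuotientGroup.mk_one _)
    · have h := Subgroup.mem_centralizer_iff.mp (Subgroup.mem_subgroupOf.mp ((QuotientGroup.eq_one_iff _).mp e)) (a : Equiv.Perm (Fin n)) a.2
      have h2 := hx a a.2
      rw [show x * (a : Equiv.Perm (Fin n)) = a * x from h.symm, mul_inv_cancel_right] at h2
      have h3 : a ^ 2 = 1 := Subtype.ext (by
        show (a : Equiv.Perm (Fin n)) ^ 2 = 1
        rw [pow_two]; nth_rewrite 1 [h2]; exact inv_mul_cancel _)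
      have h4 := orderOf_dvd_of_pow_eq_one h3
      rw [ha] at h4
      exact hp ((Nat.prime_dvd_prime_iff_eq hp' Nat.prime_two).mp h4)
  rw [Subgroup.index_eq_card, ← hq]
  exact orderOf_dvd_natCard q

end Cfsg.Agent.S2270
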