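import Mathlib
import Cfsg.Statements.S2271

set_option autoImplicit false
open Cfsg

namespace Cfsg.Agent.S2271

open Equiv Equiv.Perm

variable {n : ℕ}

/-- The number of agreements. -/
def N (A X : Perm (Fin n)) : ℕ := (Finset.univ.filter fun x => X x = A x).card

/-- A quadruple around an arc. -/
def Quad (A : Perm (Fin n)) (u v s t : Fin n) : Prop :=
  A u = s ∧ A s ≠ v ∧ A t ≠ u ∧ u ≠ v ∧ u ≠ s ∧ u ≠ t ∧ v ≠ s ∧ v ≠ t ∧ s ≠ t

theorem exists_ne_three (hn : 5 ≤ n) (a b c : Fin n) : ∃ x, x ≠ a ∧ x ≠ b ∧ x ≠ c := by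
  have : ({a, b, c} : Finset (Fin n)).card < (Finset.univ : Finset (Fin n)).card := by
    have := Finset.card_le_three (a := a) (b := b) (c := c)
    rw [Finset.card_univ, Fintype.card_fin]; omega
  obtain ⟨x, -, hx⟩ := Finset.exists_mem_notMem_of_card_lt_card this
  simp only [Finset.mem_insert, Finset.mem_singleton, not_or] at hx
  exact ⟨x, hx.1, hx.2.1, hx.2.2⟩

theorem exists_ne_four (hn : 5 ≤ n) (a b c d : Fin n) : ∃ x, x ≠ a ∧ x ≠ b ∧ x ≠ c ∧ x ≠ d := by
  have : ({a, b, c, d} : Finset (Fin n)).card < (Finset.univ : Finset (Fin n)).card := by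
    have := Finset.card_le_four (a := a) (b := b) (c := c) (d := d)
    rw [Finset.card_univ, Fintype.card_fin]; omega
  obtain ⟨x, -, hx⟩ := Finset.exists_mem_notMem_of_card_lt_card this
  simp only [Finset.mem_insert, Finset.mem_singleton, not_or] at hx
  exact ⟨x, hx.1, hx.2.1, hx.2.2.1, hx.2.2.2⟩

theorem exists_quad (hn : 5 ≤ n) {A : Perm (Fin n)} (hA : A ≠ 1) : ∃ u v s t, Quad A u v s t := by
  obtain ⟨u, hu⟩ : ∃ u, A u ≠ u := by
    by_contra h; push Not at h
    exact hA (Equiv.ext h)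
  obtain ⟨v, hv1, hv2, hv3⟩ := exists_ne_three hn u (A u) (A (A u))
  obtain ⟨t, ht1, ht2, ht3, ht4⟩ := exists_ne_four hn u (A u) v (A⁻¹ u)
  exact ⟨u, v, A u, t, rfl, hv3.symm, fun e => ht4 (by rw [← e]; simp), hv1.symm, Ne.symm hu,
    ht1.symm, hv2, ht3.symm, ht2.symm⟩

theorem emb_four (a b c d : Fin n) (h1 : a ≠ b) (h2 : a ≠ c) (h3 : a ≠ d) (h4 : b ≠ c) (h5 : b ≠ d)
    (h6 : c ≠ d) : ∃ e : Fin 4 ↪ Fin n, e 0 = a ∧ e 1 = b ∧ e 2 = c ∧ e 3 = d :=
  ⟨⟨![a, b, c, d], fun i j h => by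
    fin_cases i <;> fin_cases j <;>
      simp [h1, h2, h3, h4, h5, h6, h1.symm, h2.symm, h3.symm, h4.symm, h5.symm, h6.symm] at h ⊢⟩,
    rfl, rfl, rfl, rfl⟩

theorem diff {A B : Perm (Fin n)} {u v s t : Fin n} (hA : Quad A u v s t) (hB : Quad B u v s t) :
    N A (swap u v * B * (swap u v)⁻¹) + N A (swap s t * B * (swap s t)⁻¹) <
      N A B + N A ((swap u v * swap s t) * B * (swap u v * swap s t)⁻¹) := by
  obtain ⟨hAu, hAs, hAt, huv, hus, hut, hvs, hvt, hst⟩ := hA
  obtain ⟨hBu, hBs, hBt, -, -, -, -, -, -⟩ := hB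
  set τ := swap u v with hτ
  set ρ := swap s t with hρ
  have hτu : τ u = v := swap_apply_left u v
  have hτv : τ v = u := swap_apply_right u v
  have hρs : ρ s = t := swap_apply_left s t
  have hρt : ρ t = s := swap_apply_right s t
  have hτo : ∀ x, x ≠ u → x ≠ v → τ x = x := fun x h1 h2 => swap_apply_of_ne_of_ne h1 h2
  have hρo : ∀ x, x ≠ s → x ≠ t → ρ x = x := fun x h1 h2 => swap_apply_of_ne_of_ne h1 h2
  have hcomm : ∀ x, ρ (τ x) = τ (ρ x) := by
    intro x
    by_cases h1 : x = u ∨ x = v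
    · rcases h1 with rfl | rfl
      · rw [hτu, hρo v hvs hvt, hρo _ hus hut, hτu]
      · rw [hτv, hρo u hus hut, hρo _ hvs hvt, hτv]
    push Not at h1
    rw [hτo x h1.1 h1.2]
    by_cases h2 : x = s ∨ x = t
    · rcases h2 with rfl | rfl
      · rw [hρs, hτo t hut.symm hvt.symm]
      · rw [hρt, hτo s hus.symm hvs.symm]
    push Not at h2
    rw [hρo x h2.1 h2.2, hτo x h1.1 h1.2]
  have hinj : ∀ {x y}, B x = B y → x = y := fun h => B.injective h
  let I : Fin n → Fin n → ℤ := fun p q => if p = q then 1 else 0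
  let D : Fin n → Fin n → ℤ := fun x y =>
    I (B x) y + I (B (ρ (τ x))) (ρ (τ y)) - I (B (τ x)) (τ y) - I (B (ρ x)) (ρ y)
  have hN : ∀ g : Perm (Fin n), (N A (g * B * g⁻¹) : ℤ) = ∑ x, I (B (g⁻¹ x)) (g⁻¹ (A x)) := by
    intro g
    simp only [I]
    rw [N, Finset.sum_boole]
    congr 2
    refine Finset.filter_congr fun x _ => ?_
    rw [Perm.mul_apply, Perm.mul_apply, Perm.eq_inv_iff_eq]
  have hsum : ((N A B : ℤ) + N A ((τ * ρ) * B * (τ * ρ)⁻¹)) -
      (N A (τ * B * τ⁻¹) + N A (ρ * B * ρ⁻¹)) = ∑ x, D x (A x) := by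
    have h1 := hN 1
    rw [one_mul, inv_one, mul_one] at h1
    rw [h1, hN, hN, hN]
    simp only [D, Finset.sum_sub_distrib, Finset.sum_add_distrib, _root_.mul_inv_rev, hτ, hρ, swap_inv,
      Perm.mul_apply, Perm.one_apply]
    abel
  have h0 : ∀ x y, (x = u ∨ x = v) → (y = s ∨ y = t) ∨ ρ y = y := fun x y _ => by
    by_cases h : y = s ∨ y = t
    · exact Or.inl h
    · push Not at h; exact Or.inr (hρo y h.1 h.2)
  have hzero1 : ∀ x y, τ x = x → τ y = y → D x y = 0 := by
    intro x y hx hy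
    simp only [D, I, hx, hy]; ring
  have hzero2 : ∀ x y, ρ x = x → ρ y = y → D x y = 0 := by
    intro x y hx hy
    simp only [D, I, hcomm, hx, hy]; ring
  have hpos : ∀ x, 0 ≤ D x (A x) := by
    intro x
    by_cases h1 : x = u ∨ x = v
    · rcases h0 x (A x) h1 with h2 | h2
      swap
      · exact (hzero2 x _ (by rcases h1 with rfl | rfl; exacts [hρo _ hus hut, hρo _ hvs hvt]) h2).ge
      rcases h1 with e | e <;> subst e
      · rw [hAu]
        simp only [D, I, hτu, hρo _ hvs hvt, hρo _ hus hut, hτo s hus.symm hvs.symm, hρs]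
        rw [if_pos hBu, if_neg (fun e : B v = s => huv (hinj (hBu.trans e.symm))),
          if_neg (fun e : B x = t => hst (hBu.symm.trans e))]
        split_ifs <;> norm_num
      · rcases h2 with e | e
        · exact absurd (A.injective (hAu.trans e.symm)) huv
        · rw [e]
          simp only [D, I, hτv, hρo _ hvs hvt, hρo _ hus hut, hτo t hut.symm hvt.symm, hρt]
          rw [if_pos hBu, if_neg (fun e : B u = t => hst (hBu.symm.trans e)),
            if_neg (fun e : B x = s => huv (hinj (hBu.trans e.symm)))]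
          split_ifs <;> norm_num
    push Not at h1
    by_cases h3 : A x = u ∨ A x = v
    swap
    · push Not at h3
      exact (hzero1 x _ (hτo x h1.1 h1.2) (hτo _ h3.1 h3.2)).ge
    by_cases h2 : x = s ∨ x = t
    swap
    · push Not at h2
      refine (hzero2 x _ (hρo x h2.1 h2.2) ?_).ge
      rcases h3 with e | e <;> rw [e]
      exacts [hρo _ hus hut, hρo _ hvs hvt]
    rcases h2 with e | e <;> subst e
    · rcases h3 with e | e
      · rw [e]
        simp only [D, I, hτo _ hus.symm hvs.symm, hτu, hρs, hρo _ hvs hvt, hρo _ hus hut]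
        rw [if_neg hBs, if_neg hBt]
        split_ifs <;> norm_num
      · exact absurd e hAs
    · rcases h3 with e | e
      · exact absurd e hAt
      · rw [e]
        simp only [D, I, hτo _ hut.symm hvt.symm, hτv, hρt, hρo _ hvs hvt, hρo _ hus hut]
        rw [if_neg hBt, if_neg hBs]
        split_ifs <;> norm_num
  have hDu : 1 ≤ D u (A u) := by
    rw [hAu]
    simp only [D, I, hτu, hρo _ hvs hvt, hρo _ hus hut, hτo s hus.symm hvs.symm, hρs]
    rw [if_pos hBu, if_neg (fun e : B v = s => huv (hinj (hBu.trans e.symm))),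
      if_neg (fun e : B u = t => hst (hBu.symm.trans e))]
    split_ifs <;> norm_num
  have hS : 1 ≤ ∑ x, D x (A x) :=
    hDu.trans (Finset.single_le_sum (fun x _ => hpos x) (Finset.mem_univ u))
  omega

theorem exists_odd_of_sq {b : Perm (Fin n)} (hb : b ≠ 1) (h : ∀ p, b (b p) = p) :
    ∃ τ : Perm (Fin n), sign τ = -1 ∧ Commute τ b := by
  obtain ⟨p, hp⟩ : ∃ p, b p ≠ p := by
    by_contra h'; push Not at h'
    exact hb (Equiv.ext h')
  refine ⟨swap p (b p), sign_swap (Ne.symm hp), ?_⟩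
  show swap p (b p) * b = b * swap p (b p)
  rw [mul_swap_eq_swap_mul b p (b p), h p, swap_comm]

theorem average (hn : 5 ≤ n) {A b : Perm (Fin n)} (hA : A ≠ 1) (hb : b ≠ 1)
    (hA' : ¬ ∃ τ : Perm (Fin n), sign τ = -1 ∧ Commute τ A)
    (hb' : ¬ ∃ τ : Perm (Fin n), sign τ = -1 ∧ Commute τ b) (c : ℕ)
    (hc : ∀ h ∈ alternatingGroup (Fin n), N A (h * b * h⁻¹) = c) : False := by
  classical
  haveI h3 : MulAction.IsMultiplyPretransitive (alternatingGroup (Fin n)) (Fin n) 3 := by
    haveI := alternatingGroup.isMultiplyPretransitive (α := Fin n)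
    exact MulAction.isMultiplyPretransitive_of_le (n := Nat.card (Fin n) - 2)
      (by rw [Nat.card_fin]; omega) (Nat.sub_le _ _)
  haveI h2 : MulAction.IsMultiplyPretransitive (alternatingGroup (Fin n)) (Fin n) 2 :=
    MulAction.isMultiplyPretransitive_of_le (n := 3) (by omega) (by rw [Nat.card_fin]; omega)
  haveI := MulAction.isPretransitive_of_is_two_pretransitive (G := alternatingGroup (Fin n)) (α := Fin n)
  have hp : ∀ B : Perm (Fin n), B ≠ 1 → ¬ (∃ τ : Perm (Fin n), sign τ = -1 ∧ Commute τ B) →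
      ∃ p, B p ≠ p ∧ B (B p) ≠ p ∧ B (B p) ≠ B p := by
    intro B hB hB'
    obtain ⟨p, hp⟩ : ∃ p, B (B p) ≠ p := by
      by_contra h; push Not at h
      exact hB' (exists_odd_of_sq hB h)
    have hp1 : B p ≠ p := fun e => hp (by rw [e, e])
    exact ⟨p, hp1, hp, fun e => hp1 (B.injective e)⟩
  -- two agreements
  have htwo : 2 ≤ c := by
    obtain ⟨p, p1, p2, p3⟩ := hp b hb hb'
    obtain ⟨x, x1, x2, x3⟩ := hp A hA hA'
    let e : Fin 3 ↪ Fin n := ⟨![p, b p, b (b p)], by
      intro i j h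
      fin_cases i <;> fin_cases j <;> simp_all [eq_comm]⟩
    let e' : Fin 3 ↪ Fin n := ⟨![x, A x, A (A x)], by
      intro i j h
      fin_cases i <;> fin_cases j <;> simp_all [eq_comm]⟩
    obtain ⟨h, hh⟩ := MulAction.exists_smul_eq (alternatingGroup (Fin n)) e e'
    have hh0 : (h : Perm (Fin n)) p = x := congrArg (fun f : Fin 3 ↪ Fin n => f 0) hh
    have hh1 : (h : Perm (Fin n)) (b p) = A x := congrArg (fun f : Fin 3 ↪ Fin n => f 1) hh
    have hh2 : (h : Perm (Fin n)) (b (b p)) = A (A x) := congrArg (fun f : Fin 3 ↪ Fin n => f 2) hh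
    rw [← hc h h.2, N]
    calc 2 = ({x, A x} : Finset (Fin n)).card := (Finset.card_pair x1.symm).symm
      _ ≤ _ := Finset.card_le_card fun y hy => by
        simp only [Finset.mem_insert, Finset.mem_singleton] at hy
        refine Finset.mem_filter.mpr ⟨Finset.mem_univ _, ?_⟩
        rcases hy with rfl | rfl
        · rw [Perm.mul_apply, Perm.mul_apply, (Perm.inv_eq_iff_eq.mpr hh0.symm), hh1]
        · rw [Perm.mul_apply, Perm.mul_apply, (Perm.inv_eq_iff_eq.mpr hh1.symm), hh2]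
  let C : Fin n → Fin n → ℕ := fun x y =>
    (Finset.univ.filter fun h : alternatingGroup (Fin n) => ((h : Perm (Fin n)) * b * (h : Perm (Fin n))⁻¹) x = y).card
  have hC : ∀ (g : alternatingGroup (Fin n)) x y, C (g • x) (g • y) = C x y := by
    intro g x y
    refine (Finset.card_equiv (Equiv.mulLeft g) fun h => ?_).symm
    rw [Finset.mem_filter, Finset.mem_filter]
    simp [Finset.mem_filter, Finset.mem_univ, true_and, Equiv.coe_mulLeft, Subgroup.coe_mul,
      Subgroup.smul_def, Perm.smul_def, _root_.mul_inv_rev, Perm.mul_apply, Perm.coe_inv, Equiv.symm_apply_apply,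
      EmbeddingLike.apply_eq_iff_eq]
  obtain ⟨x₀, y₀, hxy⟩ : ∃ x₀ y₀ : Fin n, x₀ ≠ y₀ := ⟨⟨0, by omega⟩, ⟨1, by omega⟩, by simp [Fin.ext_iff]⟩
  have hCd : ∀ x, C x x = C x₀ x₀ := by
    intro x
    obtain ⟨g, hg⟩ := MulAction.exists_smul_eq (alternatingGroup (Fin n)) x₀ x
    rw [← hg, hC]
  have hCo : ∀ x y, x ≠ y → C x y = C x₀ y₀ := by
    intro x y h
    obtain ⟨g, hg1, hg2⟩ := MulAction.is_two_pretransitive_iff.mp h2 hxy h
    rw [← hg1, ← hg2, hC]
  set G := Fintype.card (alternatingGroup (Fin n)) with hG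
  have hrow : G = C x₀ x₀ + (n - 1) * C x₀ y₀ := by
    rw [hG, ← Finset.card_univ, Finset.card_eq_sum_card_fiberwise
      (f := fun h : alternatingGroup (Fin n) => ((h : Perm (Fin n)) * b * (h : Perm (Fin n))⁻¹) x₀) (t := Finset.univ)
      (fun _ _ => Finset.mem_univ _)]
    show ∑ y, C x₀ y = _
    rw [← Finset.add_sum_erase _ _ (Finset.mem_univ x₀),
      Finset.sum_congr rfl fun y hy => hCo x₀ y (Finset.ne_of_mem_erase hy).symm,
      Finset.sum_const, Finset.card_erase_of_mem (Finset.mem_univ x₀), Finset.card_univ,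
      Fintype.card_fin, smul_eq_mul]
  have hfixA : (Finset.univ.filter fun x => A x = x).card ≤ 1 := by
    rw [Finset.card_le_one]
    intro p hp' q hq'
    simp only [Finset.mem_filter, Finset.mem_univ, true_and] at hp' hq'
    by_contra hpq
    refine hA' ⟨swap p q, sign_swap hpq, ?_⟩
    show swap p q * A = A * swap p q
    rw [mul_swap_eq_swap_mul A p q, hp', hq']
  have htot : ∑ x, C x (A x) = G * c := by
    calc ∑ x, C x (A x) = ∑ h : alternatingGroup (Fin n), N A ((h : Perm (Fin n)) * b * (h : Perm (Fin n))⁻¹) := by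
          simp only [C, N, Finset.card_filter]; exact Finset.sum_comm
      _ = G * c := by rw [Finset.sum_congr rfl fun (h : alternatingGroup (Fin n)) _ => hc h h.2, Finset.sum_const, smul_eq_mul, Finset.card_univ]
  have hle : ∑ x, C x (A x) ≤ C x₀ x₀ + n * C x₀ y₀ := by
    calc ∑ x, C x (A x) ≤ ∑ x, ((if A x = x then C x₀ x₀ else 0) + C x₀ y₀) := Finset.sum_le_sum fun x _ => by
          split_ifs with h
          · rw [h, hCd]; exact Nat.le_add_right _ _
          · rw [hCo x (A x) (Ne.symm h), zero_add]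
      _ ≤ _ := by
          rw [Finset.sum_add_distrib, Finset.sum_const, Finset.card_univ, Fintype.card_fin, smul_eq_mul,
            ← Finset.sum_filter, Finset.sum_const, smul_eq_mul]
          exact Nat.add_le_add_right ((Nat.mul_le_mul_right _ hfixA).trans (one_mul _).le) _
  have hG0 : 0 < G := Fintype.card_pos
  rw [htot] at hle
  have h4 : G * 2 ≤ G * c := Nat.mul_le_mul_left G htwo
  obtain ⟨m, rfl⟩ : ∃ m, n = m + 2 := ⟨n - 2, by omega⟩
  rw [show m + 2 - 1 = m + 1 by omega] at hrow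
  nlinarith

/-- Let n ≥ 5 and let a, b be non-identity permutations in the symmetric group S_n. Then the number of fixed points is not constant on the set of products a′b′ with a′ conjugate to a and b′ conjugate to b under the alternating group: there are even permutations g₁, h₁, g₂, h₂ such that (g₁ a g₁⁻¹)(h₁ b h₁⁻¹) and (g₂ a g₂⁻¹)(h₂ b h₂⁻¹) have different numbers of fixed points. -/
theorem result (n : ℕ) (hn : 5 ≤ n) (a b : Equiv.Perm (Fin n)) (ha : a ≠ 1) (hb : b ≠ 1) :
    ∃ g₁ h₁ g₂ h₂ : Equiv.Perm (Fin n), g₁ ∈ alternatingGroup (Fin n) ∧ h₁ ∈ alternatingGroup (Fin n) ∧ g₂ ∈ alternatingGroup (Fin n) ∧ h₂ ∈ alternatingGroup (Fin n) ∧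
      Nat.card (Function.fixedPoints ⇑(g₁ * a * g₁⁻¹ * (h₁ * b * h₁⁻¹))) ≠
        Nat.card (Function.fixedPoints ⇑(g₂ * a * g₂⁻¹ * (h₂ * b * h₂⁻¹))) := by
  classical
  by_contra hno
  push Not at hno
  have hfix : ∀ X : Perm (Fin n), Nat.card (Function.fixedPoints ⇑(a * X)) = N a⁻¹ X := by
    intro X
    rw [N, Nat.card_coe_set_eq, Set.ncard_eq_toFinset_card']
    congr 1
    ext x
    simp only [Set.mem_toFinset, Finset.mem_filter, Finset.mem_univ, true_and, Function.mem_fixedPoints,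
      Function.IsFixedPt, Perm.mul_apply]
    exact Perm.eq_inv_iff_eq.symm
  set A := a⁻¹ with hA
  have hA1 : A ≠ 1 := fun h => ha (inv_eq_one.mp h)
  have hc : ∀ h ∈ alternatingGroup (Fin n), N A (h * b * h⁻¹) = N A b := by
    intro h hh
    have := hno 1 h 1 1 (one_mem _) hh (one_mem _) (one_mem _)
    simp only [one_mul, inv_one, mul_one, hfix] at this
    exact this
  by_cases hodd : (∃ τ : Perm (Fin n), sign τ = -1 ∧ Commute τ A) ∨ ∃ τ : Perm (Fin n), sign τ = -1 ∧ Commute τ b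
  · -- constant on the whole symmetric group
    have hall : ∀ h : Perm (Fin n), N A (h * b * h⁻¹) = N A b := by
      intro h
      rcases Int.units_eq_one_or (sign h) with hs | hs
      · exact hc h hs
      rcases hodd with ⟨τ, hτ, hτA⟩ | ⟨τ, hτ, hτb⟩
      · rw [← hc (τ * h) (by rw [Perm.mem_alternatingGroup, map_mul, hτ, hs]; rfl), N, N]
        refine Finset.card_equiv τ fun x => ?_
        rw [Finset.mem_filter, Finset.mem_filter]
        simp [Finset.mem_filter, Finset.mem_univ, true_and, _root_.mul_inv_rev, Perm.mul_apply,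
          Perm.coe_inv, Equiv.symm_apply_apply]
        rw [show A (τ x) = τ (A x) from (Equiv.congr_fun hτA.eq x).symm, EmbeddingLike.apply_eq_iff_eq]
      · rw [← hc (h * τ) (by rw [Perm.mem_alternatingGroup, map_mul, hτ, hs]; rfl)]
        congr 1
        rw [_root_.mul_inv_rev, show h * τ * b * (τ⁻¹ * h⁻¹) = h * (τ * b * τ⁻¹) * h⁻¹ by group, hτb.eq,
          mul_inv_cancel_right]
    obtain ⟨u, v, s, t, hq⟩ := exists_quad hn hA1
    obtain ⟨u', v', s', t', hq'⟩ := exists_quad hn hb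
    obtain ⟨hqu, hqs, hqt, q1, q2, q3, q4, q5, q6⟩ := hq
    obtain ⟨hqu', hqs', hqt', r1, r2, r3, r4, r5, r6⟩ := hq'
    haveI := Equiv.Perm.isMultiplyPretransitive (Fin n) 4
    obtain ⟨e, e0, e1, e2, e3⟩ := emb_four u' v' s' t' r1 r2 r3 r4 r5 r6
    obtain ⟨e', f0, f1, f2, f3⟩ := emb_four u v s t q1 q2 q3 q4 q5 q6
    obtain ⟨h, hh⟩ := MulAction.exists_smul_eq (Perm (Fin n)) e e'
    have hh' : ∀ i, h (e i) = e' i := fun i => congrArg (fun f : Fin 4 ↪ Fin n => f i) hh
    have h0 : h u' = u := by rw [← e0, hh', f0]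
    have h1 : h v' = v := by rw [← e1, hh', f1]
    have h2 : h s' = s := by rw [← e2, hh', f2]
    have h3 : h t' = t := by rw [← e3, hh', f3]
    have hB : Quad (h * b * h⁻¹) u v s t := by
      refine ⟨?_, ?_, ?_, q1, q2, q3, q4, q5, q6⟩
      · rw [← h0, Perm.mul_apply, Perm.mul_apply, Perm.coe_inv, Equiv.symm_apply_apply, hqu', h2]
      · rw [← h2, ← h1, Perm.mul_apply, Perm.mul_apply, Perm.coe_inv, Equiv.symm_apply_apply]
        exact fun e => hqs' (h.injective e)
      · rw [← h3, ← h0, Perm.mul_apply, Perm.mul_apply, Perm.coe_inv, Equiv.symm_apply_apply]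
        exact fun e => hqt' (h.injective e)
    have hd := diff (A := A) ⟨hqu, hqs, hqt, q1, q2, q3, q4, q5, q6⟩ hB
    have key : ∀ g : Perm (Fin n), N A (g * (h * b * h⁻¹) * g⁻¹) = N A b := fun g => by
      rw [show g * (h * b * h⁻¹) * g⁻¹ = (g * h) * b * (g * h)⁻¹ by group, hall]
    rw [key, key, key, hall h] at hd
    omega
  · push Not at hodd
    exact average hn hA1 hb (fun ⟨τ, h1, h2⟩ => hodd.1 τ h1 h2) (fun ⟨τ, h1, h2⟩ => hodd.2 τ h1 h2) _ hc

end Cfsg.Agent.S2271
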