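import Mathlib
import Cfsg.Agent.Lib.Classical.ClassTrace

set_option autoImplicit false

namespace Cfsg.Agent.S2272

/-- Let F be a finite field and d ≥ 3, and let a, b be non-identity elements of PSL_d(F). Then the product of the conjugacy classes of a and b is not a single conjugacy class: there are conjugates a′ of a and b′ of b such that a′b′ is not conjugate to ab. -/
theorem result {F : Type*} [Field F] [Fintype F] (d : ℕ) (hd : 3 ≤ d)
    (a b : Matrix.ProjectiveSpecialLinearGroup (Fin d) F) (ha : a ≠ 1) (hb : b ≠ 1) :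
    ∃ g h : Matrix.ProjectiveSpecialLinearGroup (Fin d) F, ¬ IsConj (a * b) (g * a * g⁻¹ * (h * b * h⁻¹)) := by
  obtain ⟨A, rfl⟩ := QuotientGroup.mk_surjective a
  obtain ⟨B, rfl⟩ := QuotientGroup.mk_surjective b
  have hns : ∀ C : Matrix.SpecialLinearGroup (Fin d) F,
      (QuotientGroup.mk C : Matrix.ProjectiveSpecialLinearGroup (Fin d) F) ≠ 1 →
      ∃ u, ∀ c : F, Matrix.toLin' (C : Matrix (Fin d) (Fin d) F) u ≠ c • u := by
    intro C hC
    by_contra hc
    push Not at hc
    refine hC ((QuotientGroup.eq_one_iff C).2 (Subgroup.mem_center_iff.2 fun D => ?_))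
    apply Subtype.ext
    show (D : Matrix (Fin d) (Fin d) F) * C = C * D
    refine Matrix.toLin'.injective ?_
    rw [Matrix.toLin'_mul, Matrix.toLin'_mul]
    refine LinearMap.ext fun x => ?_
    obtain ⟨c, hcA⟩ := (Matrix.toLin' (C : Matrix (Fin d) (Fin d) F)).exists_eq_smul_id_of_forall_notLinearIndependent (by
        intro v hli
        obtain ⟨k, hk⟩ := hc v
        by_cases hv : v = 0
        · exact hli.ne_zero 0 (by simp [hv])
        have h1 := LinearIndependent.pair_iff.1 hli k (-1) (by rw [neg_one_smul, hk, add_neg_cancel])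
        exact one_ne_zero (neg_eq_zero.1 h1.2))
    simp [hcA]
  have hdim : 3 ≤ Module.finrank F (Fin d → F) := by rwa [Module.finrank_fin_fun]
  have hlift : ∀ t : F, ∃ H : Matrix.SpecialLinearGroup (Fin d) F,
      Matrix.trace ((A * (H * B * H⁻¹) : Matrix.SpecialLinearGroup (Fin d) F) :
        Matrix (Fin d) (Fin d) F) = t := by
    intro t
    obtain ⟨g, hg, htr⟩ := CfsgLib.ClassTrace.exists_values hdim _ _ (hns A ha) (hns B hb) t
    refine ⟨⟨LinearMap.toMatrix' g.toLinearMap, by rw [LinearMap.det_toMatrix']; exact hg⟩, ?_⟩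
    set H : Matrix.SpecialLinearGroup (Fin d) F :=
      ⟨LinearMap.toMatrix' g.toLinearMap, by rw [LinearMap.det_toMatrix']; exact hg⟩
    have hH : Matrix.toLin' (H : Matrix (Fin d) (Fin d) F) = g.toLinearMap :=
      Matrix.toLin'_toMatrix' _
    have hHi : Matrix.toLin' ((H⁻¹ : Matrix.SpecialLinearGroup (Fin d) F) : Matrix (Fin d) (Fin d) F) =
        g.symm.toLinearMap := by
      refine LinearMap.ext fun x => g.injective ?_
      have h1 : (Matrix.toLin' (H : Matrix (Fin d) (Fin d) F) ∘ₗ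
          Matrix.toLin' ((H⁻¹ : Matrix.SpecialLinearGroup (Fin d) F) : Matrix (Fin d) (Fin d) F)) x = x := by
        rw [← Matrix.toLin'_mul, ← Matrix.SpecialLinearGroup.coe_mul, mul_inv_cancel]
        simp
      rw [hH] at h1
      simpa using h1
    rw [Matrix.SpecialLinearGroup.coe_mul, Matrix.SpecialLinearGroup.coe_mul,
      Matrix.SpecialLinearGroup.coe_mul, ← Matrix.trace_toLin'_eq, Matrix.toLin'_mul,
      Matrix.toLin'_mul, Matrix.toLin'_mul, hH, hHi]
    exact htr
  obtain ⟨t, ht⟩ : ∃ t : F, (t = 0) ↔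
      Matrix.trace ((A * B : Matrix.SpecialLinearGroup (Fin d) F) : Matrix (Fin d) (Fin d) F) ≠ 0 := by
    by_cases h : Matrix.trace ((A * B : Matrix.SpecialLinearGroup (Fin d) F) : Matrix (Fin d) (Fin d) F) = 0
    · exact ⟨1, iff_of_false one_ne_zero (not_not.2 h)⟩
    · exact ⟨0, iff_of_true rfl h⟩
  obtain ⟨H, hH⟩ := hlift t
  refine ⟨1, QuotientGroup.mk H, fun hconj => ?_⟩
  rw [one_mul, inv_one, mul_one] at hconj
  obtain ⟨c, hc⟩ := isConj_iff.1 hconj
  obtain ⟨C, rfl⟩ := QuotientGroup.mk_surjective c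
  rw [← QuotientGroup.mk_mul, ← QuotientGroup.mk_inv, ← QuotientGroup.mk_inv, ← QuotientGroup.mk_mul,
    ← QuotientGroup.mk_mul, ← QuotientGroup.mk_mul, ← QuotientGroup.mk_mul, ← QuotientGroup.mk_mul,
    QuotientGroup.eq] at hc
  obtain ⟨r, hr, hr'⟩ := Matrix.SpecialLinearGroup.mem_center_iff.1 hc
  have e : ((A * (H * B * H⁻¹) : Matrix.SpecialLinearGroup (Fin d) F) : Matrix (Fin d) (Fin d) F) =
      ((C * (A * B) * C⁻¹ : Matrix.SpecialLinearGroup (Fin d) F) : Matrix (Fin d) (Fin d) F) *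
        Matrix.scalar (Fin d) r := by
    rw [hr', ← Matrix.SpecialLinearGroup.coe_mul, mul_inv_cancel_left]
  have h2 := congrArg Matrix.trace e
  rw [hH, show Matrix.scalar (Fin d) r = r • (1 : Matrix (Fin d) (Fin d) F) from by
      simp [Matrix.smul_one_eq_diagonal], mul_smul_comm, mul_one, Matrix.trace_smul,
    Matrix.SpecialLinearGroup.coe_mul, Matrix.trace_mul_comm, ← Matrix.SpecialLinearGroup.coe_mul,
    inv_mul_cancel_left, smul_eq_mul] at h2
  have hr0 : r ≠ 0 := fun e0 => by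
    rw [e0, zero_pow (by rw [Fintype.card_fin]; omega)] at hr
    exact zero_ne_one hr
  by_cases ht0 : t = 0
  · exact ht.1 ht0 ((mul_eq_zero.1 (h2.symm.trans ht0)).resolve_left hr0)
  · exact ht0 (by rw [h2, (not_not.1 (fun hne => ht0 (ht.2 hne))), mul_zero])

end Cfsg.Agent.S2272
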