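import Cfsg.Statements.S2276
import Cfsg.Agent.Lib.AltPPair.Main

set_option autoImplicit false
open Cfsg

namespace Cfsg.Agent.S2276

/-- Let n ≥ 5, p ≥ 3 a prime, and u, w non-identity elements of p-power order in the alternating group A_n. Then there is g ∈ A_n such that u·(g w g⁻¹) does not have p-power order and ⟨u, g w g⁻¹⟩ is not solvable. -/
theorem result (n : ℕ) (hn : 5 ≤ n) (p : ℕ) (hp : p.Prime) (hp3 : 3 ≤ p) (u w : alternatingGroup (Fin n)) (hu : u ≠ 1) (hw : w ≠ 1)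
    (hu' : ∃ k : ℕ, orderOf u = p ^ k) (hw' : ∃ k : ℕ, orderOf w = p ^ k) :
    ∃ g : alternatingGroup (Fin n), (¬ ∃ k : ℕ, orderOf (u * (g * w * g⁻¹)) = p ^ k) ∧
      ¬ Group.IsSolvable ↥(Subgroup.closure ({u, g * w * g⁻¹} : Set (alternatingGroup (Fin n)))) := by
  haveI : Fact p.Prime := ⟨hp⟩
  obtain ⟨i, hi⟩ := hu'
  obtain ⟨j, hj⟩ := hw'
  have hu0 : (u : Equiv.Perm (Fin n)) ^ (p ^ i) = 1 := by
    rw [← hi, ← SubgroupClass.coe_pow, pow_orderOf_eq_one]; rfl
  have hw0 : (w : Equiv.Perm (Fin n)) ^ (p ^ j) = 1 := by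
    rw [← hj, ← SubgroupClass.coe_pow, pow_orderOf_eq_one]; rfl
  obtain ⟨σ, hσ, hP, hS⟩ := CfsgLib.AltPPair.exists_conj_nonsolvable hp3 (by simpa using hn)
    (u : Equiv.Perm (Fin n)) (w : Equiv.Perm (Fin n)) i j hu0 hw0
    (fun h => hu (Subtype.ext h)) (fun h => hw (Subtype.ext h)) 1
  refine ⟨⟨σ, Equiv.Perm.mem_alternatingGroup.2 hσ⟩, ?_, ?_⟩
  · rintro ⟨k, hk⟩
    apply hP k
    have := congrArg Subtype.val (hk ▸ pow_orderOf_eq_one
      (u * ((⟨σ, Equiv.Perm.mem_alternatingGroup.2 hσ⟩ : alternatingGroup (Fin n)) * w *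
        (⟨σ, Equiv.Perm.mem_alternatingGroup.2 hσ⟩ : alternatingGroup (Fin n))⁻¹)))
    simpa using this
  · intro hs
    apply hS
    set H := Subgroup.closure ({u, (⟨σ, Equiv.Perm.mem_alternatingGroup.2 hσ⟩ :
      alternatingGroup (Fin n)) * w * (⟨σ, Equiv.Perm.mem_alternatingGroup.2 hσ⟩ :
      alternatingGroup (Fin n))⁻¹} : Set (alternatingGroup (Fin n))) with hH
    have e : H.map (alternatingGroup (Fin n)).subtype = Subgroup.closure
        ({(u : Equiv.Perm (Fin n)), σ * (w : Equiv.Perm (Fin n)) * σ⁻¹} :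
          Set (Equiv.Perm (Fin n))) := by
      rw [hH, MonoidHom.map_closure, Set.image_pair]; rfl
    have e' := (H.equivMapOfInjective _ (alternatingGroup (Fin n)).subtype_injective).trans
      (MulEquiv.subgroupCongr e)
    exact Group.isSolvable_of_surjective (f := e'.toMonoidHom) e'.surjective

end Cfsg.Agent.S2276
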