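import Cfsg.Statements.S2277
import Mathlib
import Cfsg.Agent.Lib.Coprime.PairFixed

set_option autoImplicit false
set_option linter.style.haveILetI false
open Cfsg

namespace Cfsg.Agent.S2277

open CfsgLib in
/-- The product decomposition of an invariant subgroup. -/
theorem pair_product {G : Type*} [Group G] [Finite G] (p : ℕ) [Fact p.Prime] (P : Sylow p G)
    {N K : Subgroup G} (hN : (Nat.card N).Coprime p) (hKN : K ≤ N)
    (hPK : (P : Subgroup G) ≤ Subgroup.normalizer (K : Set G)) {c d : G} (hc : c ∈ (P : Subgroup G))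
    (hd : d ∈ (P : Subgroup G)) {x : G} (hx : x ∈ K)
    (h : IsPGroup p ↥(Subgroup.closure ({x * c * x⁻¹, d} : Set G))) :
    ∃ y ∈ K, ∃ w ∈ K, y * d = d * y ∧ w * c = c * w ∧ x = y * w := by
  have hcopKP : (Nat.card K).Coprime (Nat.card P) := by
    obtain ⟨n, hn⟩ := IsPGroup.iff_card.mp P.2
    rw [hn]
    exact ((hN.coprime_dvd_left (Subgroup.card_dvd_of_le hKN))).pow_right n
  have hd0 : K ⊓ (P : Subgroup G) = ⊥ := Coprime.inf_eq_bot_of_coprime_card hcopKP
  set X := Subgroup.closure ({x * c * x⁻¹, d} : Set G)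
  have hX : X ≤ K ⊔ (P : Subgroup G) := by
    rw [Subgroup.closure_le]
    rintro _ (rfl | rfl)
    · exact mul_mem (mul_mem (Subgroup.mem_sup_left hx) (Subgroup.mem_sup_right hc))
        (inv_mem (Subgroup.mem_sup_left hx))
    · exact Subgroup.mem_sup_right hd
  let PS : Sylow p ↥(K ⊔ (P : Subgroup G)) := P.subtype le_sup_right
  obtain ⟨S, hS⟩ := (h.comap_of_injective (K ⊔ (P : Subgroup G)).subtype
    (Subgroup.subtype_injective _)).exists_le_sylow
  obtain ⟨⟨g, hg⟩, hgS⟩ := MulAction.exists_smul_eq ↥(K ⊔ (P : Subgroup G)) PS S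
  obtain ⟨y, hy, q, hq, rfl⟩ : ∃ y ∈ K, ∃ q ∈ (P : Subgroup G), g = y * q := by
    rw [← SetLike.mem_coe, Subgroup.coe_mul_of_right_le_normalizer_left K _ hPK, Set.mem_mul] at hg
    obtain ⟨y, hy, q, hq, rfl⟩ := hg
    exact ⟨y, hy, q, hq, rfl⟩
  have hconj : ∀ a ∈ X, y⁻¹ * a * y ∈ (P : Subgroup G) := by
    intro a ha
    have h1 : (⟨a, hX ha⟩ : ↥(K ⊔ (P : Subgroup G))) ∈ (S : Subgroup ↥(K ⊔ (P : Subgroup G))) :=
      hS (show (⟨a, hX ha⟩ : ↥(K ⊔ (P : Subgroup G))).1 ∈ X from ha)
    rw [← hgS, Sylow.coe_subgroup_smul, Coprime.mem_conj_smul_iff] at h1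
    have h2 : (y * q)⁻¹ * a * (y * q) ∈ (P : Subgroup G) := h1
    have h3 := mul_mem (mul_mem hq h2) (inv_mem hq)
    rwa [show q * ((y * q)⁻¹ * a * (y * q)) * q⁻¹ = y⁻¹ * a * y by group] at h3
  have key : ∀ a ∈ (P : Subgroup G), ∀ u ∈ K, u * a * u⁻¹ ∈ (P : Subgroup G) → u * a = a * u := by
    intro a ha u hu hua
    have h1 : u * a * u⁻¹ * a⁻¹ ∈ K ⊓ (P : Subgroup G) := ⟨by
      rw [show u * a * u⁻¹ * a⁻¹ = u * (a * u⁻¹ * a⁻¹) by group]
      exact mul_mem hu ((Subgroup.mem_normalizer_iff.mp (hPK ha) _).mp (inv_mem hu)),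
      mul_mem hua ((P : Subgroup G).inv_mem ha)⟩
    rw [hd0, Subgroup.mem_bot] at h1
    exact mul_inv_eq_iff_eq_mul.mp (mul_inv_eq_one.mp h1)
  have h4 : y⁻¹ * d = d * y⁻¹ := key d hd y⁻¹ (inv_mem hy) (by
    rw [inv_inv]; exact hconj d (Subgroup.subset_closure (Or.inr rfl)))
  refine ⟨y, hy, y⁻¹ * x, mul_mem (inv_mem hy) hx, ((Commute.inv_left_iff).mp h4).eq, ?_,
    (mul_inv_cancel_left y x).symm⟩
  refine key c hc _ (mul_mem (inv_mem hy) hx) ?_
  rw [show y⁻¹ * x * c * (y⁻¹ * x)⁻¹ = y⁻¹ * (x * c * x⁻¹) * y by group]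
  exact hconj _ (Subgroup.subset_closure (Or.inl rfl))

open CfsgLib in
/-- The action of a normalising subgroup on the abelianisation. -/
noncomputable def abHom {G : Type*} [Group G] (P K : Subgroup G)
    (hPK : P ≤ Subgroup.normalizer (K : Set G)) : ↥P →* Monoid.End (Abelianization K) where
  toFun g := (MulEquiv.abelianizationCongr
    (K.normalizerMonoidHom ⟨g.1, hPK g.2⟩)).toMonoidHom
  map_one' := by
    apply Abelianization.hom_ext
    ext x
    show Abelianization.of ((K.normalizerMonoidHom ⟨(1 : G), _⟩) x) = Abelianization.of x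
    congr 1
    exact Subtype.ext (by show 1 * (x : G) * 1⁻¹ = x; group)
  map_mul' g h := by
    apply Abelianization.hom_ext
    ext x
    show Abelianization.of ((K.normalizerMonoidHom ⟨(g.1 * h.1), _⟩) x) =
      Abelianization.of ((K.normalizerMonoidHom ⟨g.1, _⟩) ((K.normalizerMonoidHom ⟨h.1, _⟩) x))
    congr 1
    exact Subtype.ext (by
      show g.1 * h.1 * (x : G) * (g.1 * h.1)⁻¹ = g.1 * (h.1 * (x : G) * h.1⁻¹) * g.1⁻¹
      group)

/-- Let p ≥ 3 be prime and G a finite group with a Sylow p-subgroup P and a normal p-complement N (N normal, of order prime to p, with NP = G). Suppose P is generated by a subset C and also by a subset D, and that ⟨x c x⁻¹, d⟩ is a p-group for all x ∈ N, c ∈ C, d ∈ D. Then P centralizes N, so that G = N × P. -/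
theorem result {G : Type*} [Group G] [Finite G] (p : ℕ) [Fact p.Prime] (hp3 : 3 ≤ p) (P : Sylow p G)
    (N : Subgroup G) [N.Normal] (hN : (Nat.card N).Coprime p) (hNP : N ⊔ (P : Subgroup G) = ⊤)
    (C D : Set G) (hC : Subgroup.closure C = (P : Subgroup G)) (hD : Subgroup.closure D = (P : Subgroup G))
    (h : ∀ x ∈ N, ∀ c ∈ C, ∀ d ∈ D, IsPGroup p ↥(Subgroup.closure ({x * c * x⁻¹, d} : Set G))) :
    ⁅(P : Subgroup G), N⁆ = ⊥ := by
  have hcopN : (Nat.card N).Coprime p := hN
  have hCP : C ⊆ ((P : Subgroup G) : Set G) := hC ▸ Subgroup.subset_closure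
  have hDP : D ⊆ ((P : Subgroup G) : Set G) := hD ▸ Subgroup.subset_closure
  have hsolvP : Group.IsSolvable (P : Subgroup G) := by
    haveI : Group.IsNilpotent (P : Subgroup G) := P.2.isNilpotent
    infer_instance
  obtain ⟨nP, hnP⟩ := IsPGroup.iff_card.mp P.2
  suffices ∀ K : Subgroup G, K ≤ N → (P : Subgroup G) ≤ Subgroup.normalizer (K : Set G) →
      K ≤ Subgroup.centralizer ((P : Subgroup G) : Set G) by
    refine Subgroup.commutator_eq_bot_iff_le_centralizer.mpr fun g hg x hx => ?_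
    exact (this N le_rfl (by rw [Subgroup.normalizer_eq_top]; exact le_top) hx g hg).symm
  intro K
  induction K using WellFoundedLT.induction with
  | ind K IH =>
  intro hKN hPK
  have hcop : (Nat.card (P : Subgroup G)).Coprime (Nat.card K) := by
    rw [hnP]
    exact ((hcopN.coprime_dvd_left (Subgroup.card_dvd_of_le hKN)).symm).pow_left nP
  by_cases hsyl : ∀ q : ℕ, q.Prime → ∀ S : Sylow q K,
      (S : Subgroup K).map K.subtype ≠ K
  · set Y := K ⊓ Subgroup.centralizer ((P : Subgroup G) : Set G) with hY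
    have hdvd : Nat.card K ∣ Nat.card Y := by
      rw [← Nat.factorization_le_iff_dvd Nat.card_pos.ne' Nat.card_pos.ne']
      intro q
      by_cases hq : q.Prime
      swap
      · rw [Nat.factorization_eq_zero_of_not_prime _ hq]; exact zero_le'
      haveI := Fact.mk hq
      obtain ⟨S, hS⟩ := CfsgLib.Coprime.exists_invariant_sylow hPK hcop (Or.inl hsolvP) q
      have hle := Subgroup.map_subtype_le (S : Subgroup K)
      have h1 := IH _ (lt_of_le_of_ne hle (hsyl q hq S)) (hle.trans hKN) hS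
      have h2 : q ^ (Nat.card K).factorization q ∣ Nat.card Y := by
        rw [← S.card_eq_multiplicity, ← Subgroup.card_map_of_injective K.subtype_injective]
        exact Subgroup.card_dvd_of_le (le_inf hle h1)
      exact (hq.pow_dvd_iff_le_factorization Nat.card_pos.ne').mp h2
    have hYK : Y = K := Subgroup.eq_of_le_of_card_ge inf_le_left (Nat.le_of_dvd Nat.card_pos hdvd)
    exact hYK ▸ inf_le_right
  push Not at hsyl
  obtain ⟨q, hq, S, hS⟩ := hsyl
  haveI := Fact.mk hq
  have hKq : IsPGroup q K := hS ▸ S.2.map K.subtype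
  haveI : Group.IsNilpotent K := hKq.isNilpotent
  by_cases hK1 : K = ⊥
  · rw [hK1]; exact bot_le
  have hlt : ⁅K, K⁆ < K :=
    CfsgLib.Coprime.commutator_lt_of_isNilpotent (X := K) le_rfl le_rfl Subgroup.le_normalizer hK1
  have hKN' := CfsgLib.Coprime.le_normalizer_commutator hPK hPK
  have h' := IH _ hlt (hlt.le.trans hKN) hKN'
  letI : DistribMulAction ↥(P : Subgroup G) (Additive (Abelianization K)) :=
    { smul := fun g v => Additive.ofMul (abHom (P : Subgroup G) K hPK g v.toMul)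
      one_smul := fun v => by
        show Additive.ofMul (abHom (P : Subgroup G) K hPK 1 v.toMul) = v
        rw [map_one]; rfl
      mul_smul := fun g h v => by
        show Additive.ofMul (abHom (P : Subgroup G) K hPK (g * h) v.toMul) = _
        rw [map_mul]; rfl
      smul_zero := fun g => congrArg Additive.ofMul (map_one (abHom (P : Subgroup G) K hPK g))
      smul_add := fun g v w =>
        congrArg Additive.ofMul (map_mul (abHom (P : Subgroup G) K hPK g) v.toMul w.toMul) }
  have hcard : (Nat.card (Additive (Abelianization K))).Coprime p :=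
    (hcopN.coprime_dvd_left (Subgroup.card_dvd_of_le hKN)).coprime_dvd_left
      (Subgroup.card_quotient_dvd_card _)
  have hgen : ∀ T : Set G, T ⊆ ((P : Subgroup G) : Set G) → Subgroup.closure T = (P : Subgroup G) →
      Subgroup.closure ((P : Subgroup G).subtype ⁻¹' T) = ⊤ := fun T hT hTP => by
    apply Subgroup.map_injective (P : Subgroup G).subtype_injective
    rw [MonoidHom.map_closure, Set.image_preimage_eq_of_subset (by simpa using hT), hTP,
      ← MonoidHom.range_eq_map, Subgroup.range_subtype]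
  have htriv := CfsgLib.PairFixed.smul_eq_self (P := ↥(P : Subgroup G)) (p := p) P.2 hp3
    ((P : Subgroup G).subtype ⁻¹' C) ((P : Subgroup G).subtype ⁻¹' D) (hgen C hCP hC) (hgen D hDP hD)
    _ (Additive (Abelianization K)) rfl hcard (fun c hc d hd v => by
      obtain ⟨x, rfl⟩ : ∃ x : K, Additive.ofMul (Abelianization.of x) = v :=
        QuotientGroup.mk_surjective v.toMul
      obtain ⟨y, hy, w, hw, hyd, hwc, hxe⟩ :=
        pair_product p P hcopN hKN hPK c.2 d.2 x.2 (h _ (hKN x.2) _ hc _ hd)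
      refine ⟨Additive.ofMul (Abelianization.of ⟨y, hy⟩), Additive.ofMul (Abelianization.of ⟨w, hw⟩),
        ?_, ?_, ?_⟩
      · show Additive.ofMul (Abelianization.of (K.normalizerMonoidHom ⟨d.1, _⟩ ⟨y, hy⟩)) = _
        congr 2
        refine Subtype.ext ?_
        show d.1 * y * d.1⁻¹ = y
        rw [← show y * d.1 = d.1 * y from hyd, mul_inv_cancel_right]
      · show Additive.ofMul (Abelianization.of (K.normalizerMonoidHom ⟨c.1, _⟩ ⟨w, hw⟩)) = _
        congr 2
        refine Subtype.ext ?_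
        show c.1 * w * c.1⁻¹ = w
        rw [← show w * c.1 = c.1 * w from hwc, mul_inv_cancel_right]
      · rw [← ofMul_mul, ← map_mul, show (⟨y, hy⟩ * ⟨w, hw⟩ : K) = x from Subtype.ext hxe.symm])
  intro x hx
  obtain ⟨c, ⟨-, hcP⟩, hxc⟩ := CfsgLib.Coprime.exists_centralizer_mem_coset hPK hcop (Or.inl hsolvP)
    hlt.le hKN' hx (fun g hg => by
      have h1 := congrArg Additive.toMul (htriv ⟨g, hg⟩ (Additive.ofMul (Abelianization.of ⟨x, hx⟩)))
      have h2 : Abelianization.of (K.normalizerMonoidHom ⟨g, hPK hg⟩ ⟨x, hx⟩) =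
          Abelianization.of (⟨x, hx⟩ : K) := h1
      have h3 : (⟨x, hx⟩ : K)⁻¹ * (K.normalizerMonoidHom ⟨g, hPK hg⟩ ⟨x, hx⟩) ∈
          commutator K := QuotientGroup.eq.mp h2.symm
      rw [← Subgroup.map_subtype_commutator]
      exact ⟨_, h3, rfl⟩)
  have h5 := mul_mem hcP (Subgroup.inv_mem _ (h' hxc))
  rwa [show c * (x⁻¹ * c)⁻¹ = x by group] at h5

end Cfsg.Agent.S2277
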