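import Cfsg.Statements.S2279
import Cfsg.Agent.Lib.RegGen.Two

set_option autoImplicit false
open Cfsg

namespace Cfsg.Agent.S2279

/-- Let F be a finite field with q elements and n ≥ 4. Then SL_n(F) is generated by two regular unipotent elements (elements u with u − 1 nilpotent and (u − 1)^(n−1) ≠ 0); if q is prime, the two can be taken conjugate in SL_n(F). -/
theorem result {F : Type*} [Field F] [Fintype F] (n : ℕ) (hn : 4 ≤ n) :
    (∃ u v : Matrix.SpecialLinearGroup (Fin n) F, (IsNilpotent ((u : Matrix (Fin n) (Fin n) F) - 1) ∧ ((u : Matrix (Fin n) (Fin n) F) - 1) ^ (n - 1) ≠ 0) ∧ (IsNilpotent ((v : Matrix (Fin n) (Fin n) F) - 1) ∧ ((v : Matrix (Fin n) (Fin n) F) - 1) ^ (n - 1) ≠ 0) ∧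
      Subgroup.closure ({u, v} : Set (Matrix.SpecialLinearGroup (Fin n) F)) = ⊤) ∧
    ((Fintype.card F).Prime → ∃ u g : Matrix.SpecialLinearGroup (Fin n) F, (IsNilpotent ((u : Matrix (Fin n) (Fin n) F) - 1) ∧ ((u : Matrix (Fin n) (Fin n) F) - 1) ^ (n - 1) ≠ 0) ∧
      Subgroup.closure ({u, g * u * g⁻¹} : Set (Matrix.SpecialLinearGroup (Fin n) F)) = ⊤) := by
  obtain ⟨g, hg⟩ := CfsgLib.RegGen.two_conjugates_generate (F := F) hn
  have h1 : IsNilpotent ((CfsgLib.RegGen.regU F n : Matrix (Fin n) (Fin n) F) - 1) ∧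
      ((CfsgLib.RegGen.regU F n : Matrix (Fin n) (Fin n) F) - 1) ^ (n - 1) ≠ 0 := by
    rw [CfsgLib.RegGen.regU_sub_one]
    exact ⟨CfsgLib.RegGen.supDiag_nilpotent, CfsgLib.RegGen.supDiag_pow_ne_zero (by omega)⟩
  set u := CfsgLib.RegGen.regU F n with hu
  have hc : ∀ m : ℕ, (((g * u * g⁻¹ : Matrix.SpecialLinearGroup (Fin n) F) : Matrix (Fin n) (Fin n) F) - 1) ^ m =
      (g : Matrix (Fin n) (Fin n) F) * ((u : Matrix (Fin n) (Fin n) F) - 1) ^ m *
        ((g⁻¹ : Matrix.SpecialLinearGroup (Fin n) F) : Matrix (Fin n) (Fin n) F) := by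
    intro m
    have e1 : (g : Matrix (Fin n) (Fin n) F) * ((g⁻¹ : Matrix.SpecialLinearGroup (Fin n) F) : Matrix (Fin n) (Fin n) F) = 1 := by
      rw [← Matrix.SpecialLinearGroup.coe_mul, mul_inv_cancel, Matrix.SpecialLinearGroup.coe_one]
    have e2 : ((g⁻¹ : Matrix.SpecialLinearGroup (Fin n) F) : Matrix (Fin n) (Fin n) F) * (g : Matrix (Fin n) (Fin n) F) = 1 := by
      rw [← Matrix.SpecialLinearGroup.coe_mul, inv_mul_cancel, Matrix.SpecialLinearGroup.coe_one]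
    induction m with
    | zero => rw [pow_zero, pow_zero, Matrix.mul_one, e1]
    | succ m ih =>
      rw [pow_succ, ih, pow_succ, Matrix.SpecialLinearGroup.coe_mul, Matrix.SpecialLinearGroup.coe_mul]
      conv_lhs => arg 2; rw [← e1]
      rw [← Matrix.sub_mul]
      conv_lhs => arg 2; arg 1; arg 2; rw [← Matrix.mul_one (g : Matrix (Fin n) (Fin n) F)]
      rw [← Matrix.mul_sub]
      simp only [Matrix.mul_assoc]
      rw [← Matrix.mul_assoc ((g⁻¹ : Matrix.SpecialLinearGroup (Fin n) F) : Matrix (Fin n) (Fin n) F), e2, Matrix.one_mul]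
  refine ⟨⟨u, g * u * g⁻¹, h1, ⟨?_, ?_⟩, hg⟩, fun _ => ⟨u, g, h1, hg⟩⟩
  · obtain ⟨k, hk⟩ := h1.1
    exact ⟨k, by rw [hc, hk, Matrix.mul_zero, Matrix.zero_mul]⟩
  · intro h
    apply h1.2
    rw [hc] at h
    have := congrArg (fun X => ((g⁻¹ : Matrix.SpecialLinearGroup (Fin n) F) : Matrix (Fin n) (Fin n) F) * X * (g : Matrix (Fin n) (Fin n) F)) h
    simp only [← Matrix.mul_assoc, Matrix.mul_zero, Matrix.zero_mul] at this
    have e : ((g⁻¹ : Matrix.SpecialLinearGroup (Fin n) F) : Matrix (Fin n) (Fin n) F) * (g : Matrix (Fin n) (Fin n) F) = 1 := by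
      rw [← Matrix.SpecialLinearGroup.coe_mul, inv_mul_cancel, Matrix.SpecialLinearGroup.coe_one]
    rwa [e, Matrix.one_mul, Matrix.mul_assoc, e, Matrix.mul_one] at this

end Cfsg.Agent.S2279
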