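import Cfsg.Statements.S2282
import Cfsg.Agent.Lib.Classical.UnitaryRegSmall

set_option autoImplicit false
open Cfsg

namespace Cfsg.Agent.S2282

/-- Let F be a field with q² elements, n ≥ 3 odd with (n, q) ≠ (3, 2), and SU_n(q) the special unitary group of the standard Hermitian form Σ u_i v_i^q. Then SU_n(q) is generated by three conjugate regular unipotent elements: there are u ∈ SU_n(q) with u − 1 nilpotent and (u − 1)^(n−1) ≠ 0, and g, h ∈ SU_n(q), such that u, g u g⁻¹ and h u h⁻¹ generate SU_n(q). -/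
theorem result {F : Type*} [Field F] [Fintype F] (q : ℕ) (hF : Fintype.card F = q ^ 2) (n : ℕ) (hn : 3 ≤ n) (hodd : Odd n) (h32 : ¬ (n = 3 ∧ q = 2)) :
    ∃ u g h : ↥(Cfsg.SU n F q), (IsNilpotent (((u : Matrix.SpecialLinearGroup (Fin n) F) : Matrix (Fin n) (Fin n) F) - 1) ∧ (((u : Matrix.SpecialLinearGroup (Fin n) F) : Matrix (Fin n) (Fin n) F) - 1) ^ (n - 1) ≠ 0) ∧
      Subgroup.closure ({u, g * u * g⁻¹, h * u * h⁻¹} : Set ↥(Cfsg.SU n F q)) = ⊤ := by
  obtain ⟨p, hp⟩ := CharP.exists F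
  obtain ⟨e, hpp, hcard⟩ := FiniteField.card F p
  have := Fact.mk hpp
  obtain ⟨f, -, hf⟩ := (Nat.dvd_prime_pow hpp).1
    (show q ∣ p ^ (e : ℕ) by rw [← hcard, hF]; exact dvd_pow_self q two_ne_zero)
  obtain ⟨K⟩ := CfsgLib.ClassicalAut.Unitary.exists_conj (F := F) hf
    (by rw [Nat.card_eq_fintype_card, hF])
  obtain ⟨k, rfl⟩ := hodd
  obtain ⟨B⟩ := CfsgLib.Classical.URegGen.exists_hb K k
  rcases Nat.lt_or_ge k 2 with hk | hk
  · obtain rfl : k = 1 := by omega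
    obtain ⟨u, g, h1, h2⟩ := CfsgLib.Classical.URegGen.two_gen_all K B (by
      have := K.two_le
      by_contra hq
      exact h32 ⟨rfl, by omega⟩)
    refine ⟨u, g, g, h1, ?_⟩
    rwa [show ({g * u * g⁻¹, g * u * g⁻¹} : Set _) = {g * u * g⁻¹} from Set.insert_eq_of_mem rfl]
  · exact CfsgLib.Classical.URegGen.three_gen B K hk rfl

end Cfsg.Agent.S2282
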