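import Cfsg.Statements.S2402
import Cfsg.Agent.Lib.Classical.Transvection

set_option autoImplicit false
set_option linter.style.haveILetI false
open Cfsg

namespace Cfsg.Agent.S2402

open Matrix
open scoped commutatorElement
open Fin.CommRing

theorem cyclic_gen {K : Type*} [Field K] (n : ℕ) (hn : 1 ≤ n)
    (H : Subgroup (SpecialLinearGroup (Fin (n + 1)) K)) (w : SpecialLinearGroup (Fin (n + 1)) K)
    (hwH : w ∈ H) (ε : Fin (n + 1) → K) (hε : ∀ i, ε i ≠ 0)
    (hW : ∀ (v : Fin (n + 1) → K) i, (w • v) i = ε i * v (i + 1))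
    (h01 : ∀ (h : (0 : Fin (n + 1)) ≠ 1) (c : K), SpecialLinearGroup.transvection h c ∈ H) : H = ⊤ := by
  classical
  haveI : Nontrivial (Fin (n + 1)) := Fin.nontrivial_iff_two_le.mpr (by omega)
  let P : Fin (n + 1) → Fin (n + 1) → Prop := fun i j =>
    ∀ hij : i ≠ j, ∀ c : K, SpecialLinearGroup.transvection hij c ∈ H
  have hback : ∀ i j, i ≠ j → P (i + 1) (j + 1) → P i j := by
    intro i j _ h hij d
    have hne : i + 1 ≠ j + 1 := fun e => hij (add_right_cancel e)
    have e : w * SpecialLinearGroup.transvection hne (d * ε j / ε i) =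
        SpecialLinearGroup.transvection hij d * w := by
      refine CfsgLib.Classical.SL_ext_smul fun v => funext fun k => ?_
      simp only [mul_smul, hW, CfsgLib.Classical.transvection_smul_apply]
      by_cases hk : k = i
      · subst hk
        simp only [if_true]
        field_simp [hε k]
      · have : k + 1 ≠ i + 1 := fun e => hk (add_right_cancel e)
        simp [hk]
    rw [show SpecialLinearGroup.transvection hij d =
      w * SpecialLinearGroup.transvection hne (d * ε j / ε i) * w⁻¹ from by rw [e, mul_inv_cancel_right]]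
    exact H.mul_mem (H.mul_mem hwH (h hne _)) (H.inv_mem hwH)
  have hne1 : ∀ i : Fin (n + 1), i ≠ i + 1 := fun i e => by
    have : (0 : Fin (n + 1)) = 1 := by simpa using e
    simp at this
  have hcons : ∀ i, P i (i + 1) := by
    have hk : ∀ k : ℕ, P (-(k : Fin (n + 1))) (-(k : Fin (n + 1)) + 1) := by
      intro k
      induction k with
      | zero => rw [Nat.cast_zero, neg_zero, zero_add]; exact h01
      | succ k ih =>
        refine hback _ _ (hne1 _) ?_
        have : -((k + 1 : ℕ) : Fin (n + 1)) + 1 = -(k : Fin (n + 1)) := by push_cast; ring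
        rwa [this]
    intro i
    have := hk (-i).val
    rwa [Fin.cast_val_eq_self, neg_neg] at this
  have hall : ∀ m : ℕ, ∀ i j : Fin (n + 1), j = i + (m : Fin (n + 1)) → m ≤ n → P i j := by
    intro m
    induction m with
    | zero => intro i j hj _ hij; simp at hj; exact absurd hj.symm hij
    | succ m ih =>
      intro i j hj hm hij c
      rcases Nat.eq_zero_or_pos m with rfl | hm0
      · simp at hj; subst hj; exact hcons i hij c
      · let k := i + (m : Fin (n + 1))
        have hik : i ≠ k := fun e => by
          have h0 : ((m : ℕ) : Fin (n + 1)) = 0 := by simpa [k] using e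
          have := congrArg Fin.val h0
          rw [Fin.val_natCast, Nat.mod_eq_of_lt (by omega)] at this
          simp at this; omega
        have hj' : j = k + 1 := by rw [hj]; push_cast; simp only [k]; ring
        have hkj : k ≠ j := hj' ▸ hne1 k
        rw [← CfsgLib.Classical.commutator_transvection hij hik hkj c, commutatorElement_def]
        have h1 := ih i k rfl (by omega) hik c
        have h2 : SpecialLinearGroup.transvection hkj (1 : K) ∈ H := by
          subst hj'; exact hcons k hkj 1
        exact H.mul_mem (H.mul_mem (H.mul_mem h1 h2) (H.inv_mem h1)) (H.inv_mem h2)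
  refine CfsgLib.Classical.eq_top_of_transvection_mem H fun i j hij c => ?_
  exact hall (j - i).val i j (by rw [Fin.cast_val_eq_self]; ring) (Nat.lt_succ_iff.mp (j - i).2) hij c

theorem squares_span {K : Type*} [Field K] [Fintype K] (S : AddSubgroup K) (h : ∀ z, z ^ 2 ∈ S) (x : K) : x ∈ S := by
  obtain ⟨p, hp⟩ := CharP.exists K
  haveI : Fact p.Prime := ⟨CharP.char_is_prime K p⟩
  by_cases h2 : (2 : K) = 0
  · haveI : CharP K 2 := CharTwo.of_one_ne_zero_of_two_eq_zero one_ne_zero h2
    obtain ⟨z, hz⟩ := (Finite.injective_iff_surjective.mp (frobenius_inj K 2)) x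
    rw [frobenius_def] at hz
    exact hz ▸ h z
  · have e : x = ((x + 1) / 2) ^ 2 - ((x - 1) / 2) ^ 2 := by field_simp; ring
    rw [e]
    exact S.sub_mem (h _) (h _)

/-- Explicit two-element generation of `PSL_{n+1}(K)` for a finite field `K` with more than three elements: let `k` generate the multiplicative group of `K`, `h = diag(k, k⁻¹, 1, …, 1)`, `x = 1 + E₁₂` (the elementary transvection) and `w` the monomial matrix with entries `1` in positions `(i, i+1)` and `(−1)^n` in position `(n+1, 1)`. Then `h` and `x·w` generate `SL_{n+1}(K)` modulo its centre: the subgroup they generate together with the centre is everything. -/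
theorem result {K : Type*} [Field K] [Fintype K] (hK : 3 < Fintype.card K) (n : ℕ) (hn : 1 ≤ n)
    (k : Kˣ) (hk : ∀ u : Kˣ, u ∈ Subgroup.zpowers k)
    (h x w : Matrix.SpecialLinearGroup (Fin (n + 1)) K)
    (hh : (h : Matrix (Fin (n + 1)) (Fin (n + 1)) K) =
      Matrix.diagonal (fun i => if i.val = 0 then (k : K) else if i.val = 1 then ((k⁻¹ : Kˣ) : K) else 1))
    (hx : (x : Matrix (Fin (n + 1)) (Fin (n + 1)) K) = Matrix.transvection (0 : Fin (n + 1)) (1 : Fin (n + 1)) 1)
    (hw : (w : Matrix (Fin (n + 1)) (Fin (n + 1)) K) =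
      Matrix.of (fun i j => if j.val = i.val + 1 then 1 else if i.val = n ∧ j.val = 0 then (-1) ^ n else 0)) :
    Subgroup.closure ({h, x * w} : Set (Matrix.SpecialLinearGroup (Fin (n + 1)) K)) ⊔
      Subgroup.center (Matrix.SpecialLinearGroup (Fin (n + 1)) K) = ⊤ := by
  classical
  haveI : Nontrivial (Fin (n + 1)) := Fin.nontrivial_iff_two_le.mpr (by omega)
  set H := Subgroup.closure ({h, x * w} : Set (Matrix.SpecialLinearGroup (Fin (n + 1)) K))
  have hhH : h ∈ H := Subgroup.subset_closure (by simp)
  have hyH : x * w ∈ H := Subgroup.subset_closure (by simp)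
  suffices hT : H = ⊤ by rw [hT, top_sup_eq]
  set d : Fin (n + 1) → K := fun i => if i.val = 0 then (k : K) else if i.val = 1 then ((k⁻¹ : Kˣ) : K) else 1 with hd
  have hk0 : (k : K) ≠ 0 := k.ne_zero
  have hd0 : ∀ i, d i ≠ 0 := fun i => by simp only [d]; split_ifs <;> simp
  have hk2 : (k : K) ^ 2 ≠ 1 := by
    intro h2
    have h2' : k ^ 2 = 1 := Units.ext (by simpa using h2)
    have hc : Nat.card Kˣ ∣ 2 := by
      rw [← orderOf_eq_card_of_forall_mem_zpowers hk]; exact orderOf_dvd_of_pow_eq_one h2'
    rw [Nat.card_units, Nat.card_eq_fintype_card] at hc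
    have := Nat.le_of_dvd (by omega) hc
    omega
  have hH : ∀ (v : Fin (n + 1) → K) i, (h • v) i = d i * v i := by
    intro v i
    rw [Matrix.SpecialLinearGroup.smul_def, hh]
    simp [Matrix.mulVec_diagonal, d]
  let ε : Fin (n + 1) → K := fun i => if i.val = n then (-1) ^ n else 1
  have hε : ∀ i, ε i ≠ 0 := fun i => by simp only [ε]; split_ifs <;> simp
  have hW : ∀ (v : Fin (n + 1) → K) i, (w • v) i = ε i * v (i + 1) := by
    intro v i
    rw [Matrix.SpecialLinearGroup.smul_def, hw]
    show ∑ j, _ * v j = _
    rw [Finset.sum_eq_single (i + 1)]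
    · congr 1
      by_cases hi : i.val = n
      · have e : i = Fin.last n := Fin.ext hi
        simp [ε, e]
      · have hlt : i < Fin.last n := Fin.lt_last_iff_ne_last.mpr (fun e => hi (by simp [e]))
        simp [ε, hi, Fin.val_add_one_of_lt hlt]
    · intro j _ hj
      rw [Matrix.of_apply, if_neg, if_neg, zero_mul]
      · rintro ⟨h1, h2⟩
        exact hj (by rw [show i = Fin.last n from Fin.ext h1, Fin.last_add_one]; exact Fin.ext h2)
      · intro h1
        have hlt : i < Fin.last n := by rw [Fin.lt_def, Fin.val_last]; omega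
        exact hj (Fin.ext (by rw [Fin.val_add_one_of_lt hlt, h1]))
    · simp
  have hD : ∀ (v : Fin (n + 1) → K) i, ((w * h * w⁻¹) • v) i = d (i + 1) * v i := by
    intro v i
    have e := hW (w⁻¹ • v) i
    rw [smul_inv_smul] at e
    rw [mul_smul, mul_smul, hW, hH, e]
    ring
  have hne : (0 : Fin (n + 1)) ≠ 1 := by
    intro e
    simp at e
  have hv1 : ((1 : Fin (n + 1)) : ℕ) = 1 := by rw [Fin.val_one', Nat.mod_eq_of_lt (by omega)]
  have hd00 : d 0 = k := by simp [d]
  have hd01 : d 1 = (k : K)⁻¹ := by simp [d, hv1, Units.val_inv_eq_inv_val]; omega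
  have hxT : x = SpecialLinearGroup.transvection hne (1 : K) := Subtype.ext hx
  have hxv : ∀ (c : K) (v : Fin (n + 1) → K) l,
      (SpecialLinearGroup.transvection hne c • v) l = v l + if l = 0 then c * v 1 else 0 :=
    fun c v l => CfsgLib.Classical.transvection_smul_apply hne c v l
  have hd2 : d (1 + 1) ≠ (k : K)⁻¹ := by
    rcases Nat.lt_or_ge n 2 with h2 | h2
    · obtain rfl : n = 1 := by omega
      intro e
      apply hk2
      have e' : d (1 + 1) = k := by simp [d, show ((1 : Fin 2) + 1) = 0 from rfl]
      rw [e'] at e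
      field_simp at e
      exact e
    · have e : ((1 + 1 : Fin (n + 1)) : ℕ) = 2 := by
        rw [Fin.val_add, hv1, Nat.mod_eq_of_lt (by omega)]
      intro e'
      simp only [d, e] at e'
      norm_num at e'
      have h1 : (k : K) = 1 := by simpa [eq_comm (a := (1 : K))] using e'
      exact hk2 (by rw [h1]; norm_num)
  set a : K := ((k : K) ^ 2 - 1) * (d (1 + 1) - d (0 + 1)) / d (1 + 1) with ha
  have ha0 : a ≠ 0 := by
    rw [ha, zero_add, hd01]
    exact div_ne_zero (mul_ne_zero (sub_ne_zero.mpr hk2) (sub_ne_zero.mpr hd2)) (hd0 _)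
  have haH : SpecialLinearGroup.transvection hne a ∈ H := by
    set z := x * w * h * (x * w)⁻¹ with hz
    have hzH : z ∈ H := H.mul_mem (H.mul_mem hyH hhH) (H.inv_mem hyH)
    have e : h * z = SpecialLinearGroup.transvection hne a * z * h := by
      obtain ⟨D, hDv, hz'⟩ : ∃ D : Matrix.SpecialLinearGroup (Fin (n + 1)) K,
          (∀ (v : Fin (n + 1) → K) i, (D • v) i = d (i + 1) * v i) ∧ z = x * D * x⁻¹ :=
        ⟨_, hD, by rw [hz]; group⟩
      rw [hz', hxT, SpecialLinearGroup.transvection_inv]
      refine CfsgLib.Classical.SL_ext_smul fun v => funext fun l => ?_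
      simp only [mul_smul, hH, hxv, hDv]
      by_cases hl : l = 0
      · subst hl
        simp only [if_true, if_neg hne.symm, hd00, hd01, ha]
        have := hd0 (1 + 1)
        rw [zero_add, hd01]
        field_simp
        ring
      · simp [hl, hne.symm]
        ring
    rw [show SpecialLinearGroup.transvection hne a = h * z * h⁻¹ * z⁻¹ from by rw [e]; group]
    exact H.mul_mem (H.mul_mem (H.mul_mem hhH hzH) (H.inv_mem hhH)) (H.inv_mem hzH)
  let S : AddSubgroup K :=
    { carrier := {c | SpecialLinearGroup.transvection hne (c * a) ∈ H}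
      zero_mem' := by simp
      add_mem' := fun {c c'} hc hc' => by
        simp only [Set.mem_setOf_eq, add_mul, SpecialLinearGroup.transvection_add] at hc hc' ⊢
        exact H.mul_mem hc hc'
      neg_mem' := fun {c} hc => by
        simp only [Set.mem_setOf_eq, neg_mul, ← SpecialLinearGroup.transvection_inv] at hc ⊢
        exact H.inv_mem hc }
  have hstep : ∀ c ∈ S, (k : K) ^ 2 * c ∈ S := by
    intro c hc
    show SpecialLinearGroup.transvection hne ((k : K) ^ 2 * c * a) ∈ H
    have e : h * SpecialLinearGroup.transvection hne (c * a) =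
        SpecialLinearGroup.transvection hne ((k : K) ^ 2 * c * a) * h := by
      refine CfsgLib.Classical.SL_ext_smul fun v => funext fun l => ?_
      simp only [mul_smul _ _ v, hH, hxv]
      by_cases hl : l = 0
      · subst hl
        simp only [if_true, hd00, hd01]
        field_simp
      · simp [hl]
    rw [show SpecialLinearGroup.transvection hne ((k : K) ^ 2 * c * a) =
      h * SpecialLinearGroup.transvection hne (c * a) * h⁻¹ from by rw [e, mul_inv_cancel_right]]
    exact H.mul_mem (H.mul_mem hhH hc) (H.inv_mem hhH)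
  have hpow : ∀ m : ℕ, ((k : K) ^ m) ^ 2 ∈ S := by
    intro m
    induction m with
    | zero => show SpecialLinearGroup.transvection hne _ ∈ H; simpa using haH
    | succ m ih =>
      rw [show ((k : K) ^ (m + 1)) ^ 2 = (k : K) ^ 2 * ((k : K) ^ m) ^ 2 by ring]
      exact hstep _ ih
  have hall : ∀ c, c ∈ S := squares_span S fun z => by
    by_cases hz : z = 0
    · rw [hz, zero_pow two_ne_zero]; exact S.zero_mem
    · obtain ⟨m, hm⟩ := mem_powers_iff_mem_zpowers.mpr (hk (Units.mk0 z hz))
      rw [show z = (k : K) ^ m by rw [← Units.val_pow_eq_pow_val, show k ^ m = _ from hm]; rfl]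
      exact hpow m
  have h01 : ∀ (h' : (0 : Fin (n + 1)) ≠ 1) (c : K), SpecialLinearGroup.transvection h' c ∈ H := by
    intro h' c
    have := hall (c / a)
    change SpecialLinearGroup.transvection hne (c / a * a) ∈ H at this
    rwa [div_mul_cancel₀ c ha0] at this
  have hwH : w ∈ H := by
    have hxH : x ∈ H := hxT ▸ h01 hne 1
    simpa using H.mul_mem (H.inv_mem hxH) hyH
  exact cyclic_gen n hn H w hwH ε hε hW h01

end Cfsg.Agent.S2402
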