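import Cfsg.Statements.S2290
import Cfsg.Agent.Lib.SLPres.NGen
import Cfsg.Agent.S2286
import Cfsg.Agent.S2402
import Cfsg.Agent.Lib.RegGen.Two
import Cfsg.Agent.S2278
-- import your own Cfsg.Agent.* helpers here

set_option autoImplicit false
open Cfsg

namespace Cfsg.Agent.S2290

open CfsgLib.SLPres
open scoped MatrixGroups

theorem center_isCyclic {F : Type*} [Field F] [Finite F] {n : ℕ} (hn : 1 ≤ n) :
    IsCyclic (Subgroup.center (Matrix.SpecialLinearGroup (Fin n) F)) := by
  haveI : Nonempty (Fin n) := ⟨⟨0, hn⟩⟩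
  haveI : NeZero (Fintype.card (Fin n)) := ⟨by rw [Fintype.card_fin]; omega⟩
  exact (Matrix.SpecialLinearGroup.center_equiv_rootsOfUnity'
    (Classical.arbitrary (Fin n))).isCyclic.mpr inferInstance

theorem image_gen {F : Type*} [Field F] {n : ℕ} (a b : Matrix.SpecialLinearGroup (Fin n) F)
    (h : Subgroup.closure ({a, b} : Set (Matrix.SpecialLinearGroup (Fin n) F)) ⊔
      Subgroup.center (Matrix.SpecialLinearGroup (Fin n) F) = ⊤) :
    Subgroup.closure ({QuotientGroup.mk' (Subgroup.center (Matrix.SpecialLinearGroup (Fin n) F)) a,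
      QuotientGroup.mk' (Subgroup.center (Matrix.SpecialLinearGroup (Fin n) F)) b} :
      Set (Matrix.ProjectiveSpecialLinearGroup (Fin n) F)) = ⊤ := by
  have hmap := congrArg (Subgroup.map (QuotientGroup.mk' (Subgroup.center (Matrix.SpecialLinearGroup (Fin n) F)))) h
  rw [Subgroup.map_sup, MonoidHom.map_closure, Subgroup.map_top_of_surjective _ (QuotientGroup.mk'_surjective _),
    (Subgroup.map_eq_bot_iff _).mpr (le_of_eq (QuotientGroup.ker_mk' _).symm), sup_bot_eq, Set.image_pair] at hmap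
  exact hmap


/-- For every finite field F with q elements and n ≥ 2, with q ≥ 4 when n = 2, the simple group PSL_n(F) has a presentation with 2 generators and at most 80 relations. -/
theorem result {F : Type*} [Field F] [Fintype F] (n : ℕ) (hn : 2 ≤ n) (h2 : n = 2 → 4 ≤ Fintype.card F) :
    ∃ rels : Finset (FreeGroup (Fin 2)), rels.card ≤ 80 ∧ Nonempty (PresentedGroup (↑rels : Set (FreeGroup (Fin 2))) ≃* Matrix.ProjectiveSpecialLinearGroup (Fin n) F) := by
  have hPSL : ∀ (k r : ℕ), Presents SL(n, F) k r →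
      Presents (Matrix.ProjectiveSpecialLinearGroup (Fin n) F) k (r + 1) := by
    intro k r h
    haveI := center_isCyclic (F := F) (show 1 ≤ n by omega)
    exact h.quotient _
  obtain ⟨k, r, hr, hP⟩ : ∃ k r, r + 2 ≤ 80 ∧ Presents (Matrix.ProjectiveSpecialLinearGroup (Fin n) F) k r := by
    rcases (show n = 2 ∨ n = 3 ∨ 4 ≤ n by omega) with rfl | rfl | h
    · exact ⟨3, 9, by omega, presents_of_presented (S2286.result (F := F)).2.1⟩
    · exact ⟨4, 15, by omega, hPSL 4 14 (presents_of_presented three_presentation)⟩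
    · exact ⟨9, 68, by omega, hPSL 9 67 (n_presents h)⟩
  obtain ⟨a, b, hab⟩ : ∃ a b : Matrix.SpecialLinearGroup (Fin n) F,
      Subgroup.closure ({a, b} : Set (Matrix.SpecialLinearGroup (Fin n) F)) ⊔
        Subgroup.center (Matrix.SpecialLinearGroup (Fin n) F) = ⊤ := by
    rcases (show n = 2 ∨ n = 3 ∨ 4 ≤ n by omega) with rfl | rfl | h
    · obtain ⟨g, hg⟩ := IsCyclic.exists_generator (α := Fˣ)
      have h4 : 3 < Fintype.card F := h2 rfl
      let hM : Matrix.SpecialLinearGroup (Fin (1 + 1)) F := ⟨Matrix.diagonal (fun i => if i.val = 0 then (g : F)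
        else if i.val = 1 then ((g⁻¹ : Fˣ) : F) else 1), by simp [Fin.prod_univ_two]⟩
      let xM : Matrix.SpecialLinearGroup (Fin (1 + 1)) F :=
        Matrix.SpecialLinearGroup.transvection (show (0 : Fin (1 + 1)) ≠ 1 by decide) 1
      let wM : Matrix.SpecialLinearGroup (Fin (1 + 1)) F :=
        ⟨Matrix.of (fun i j => if j.val = i.val + 1 then 1 else if i.val = 1 ∧ j.val = 0 then (-1) ^ 1 else 0),
          by simp [Matrix.det_fin_two]⟩
      refine ⟨hM, xM * wM, S2402.result h4 1 le_rfl g hg hM xM wM rfl ?_ rfl⟩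
      simp [xM, Matrix.SpecialLinearGroup.transvection_coe, Matrix.transvection]
    · obtain ⟨u, g, -, -, hug⟩ := S2278.result (F := F)
      exact ⟨u, g * u * g⁻¹, by rw [hug, top_sup_eq]⟩
    · obtain ⟨g, hg⟩ := CfsgLib.RegGen.two_conjugates_generate (F := F) h
      exact ⟨_, _, by rw [hg, top_sup_eq]⟩
  obtain ⟨rels, hc, he⟩ := hP.two_generators (image_gen a b hab)
  exact ⟨rels, hc.trans hr, he⟩

end Cfsg.Agent.S2290
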