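import Cfsg.Statements.S2291
import Cfsg.Agent.Lib.SUPres.Six
import Cfsg.Agent.Lib.Classical.UnitaryRegSmall
import Cfsg.Agent.Lib.Classical.TwoGen.UnitaryCases

set_option autoImplicit false
open Cfsg

namespace Cfsg.Agent.S2291

/-- Let F be a field with q² elements and n ≥ 3 with (n, q) ≠ (3, 2). Then the simple group PSU_n(q) (for the standard Hermitian form) has a presentation with 2 generators and at most 80 relations. -/
theorem result {F : Type*} [Field F] [Fintype F] (q n : ℕ) (hF : Fintype.card F = q ^ 2) (hn : 3 ≤ n) (h32 : ¬ (n = 3 ∧ q = 2)) :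
    ∃ rels : Finset (FreeGroup (Fin 2)), rels.card ≤ 80 ∧ Nonempty (PresentedGroup (↑rels : Set (FreeGroup (Fin 2))) ≃* Cfsg.PSU n F q) := by
  obtain ⟨K⟩ := CfsgLib.SUPres.exists_conj_of_card hF
  have hqt : ∀ {a b : Cfsg.SU n F q}, Subgroup.closure ({a, b} : Set (Cfsg.SU n F q)) = ⊤ →
      Subgroup.closure ({QuotientGroup.mk' (Subgroup.center (Cfsg.SU n F q)) a,
        QuotientGroup.mk' (Subgroup.center (Cfsg.SU n F q)) b} : Set (Cfsg.PSU n F q)) = ⊤ := fun h => by
    have h2 := congrArg (Subgroup.map (QuotientGroup.mk' (Subgroup.center (Cfsg.SU n F q)))) h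
    rwa [MonoidHom.map_closure, Subgroup.map_top_of_surjective _ (QuotientGroup.mk'_surjective _),
      Set.image_pair] at h2
  rcases (show n = 3 ∨ 4 ≤ n by omega) with rfl | hn4
  · have hq : 3 ≤ q := by have := K.two_le; omega
    obtain ⟨B⟩ := CfsgLib.Classical.URegGen.exists_hb K 1
    obtain ⟨u, g, -, h⟩ := CfsgLib.Classical.URegGen.two_gen_all K B hq
    obtain ⟨r, hr, e⟩ := (CfsgLib.SUPres.psu_three_presents hq hF).two_generators (hqt h)
    exact ⟨r, hr.trans (by norm_num), e⟩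
  · obtain ⟨N, rfl⟩ : ∃ N, n = N + 2 := ⟨n - 2, by omega⟩
    obtain ⟨a, b, h⟩ := CfsgLib.TwoGen.Unit.two_gen (F := F) (q := q) (show 2 ≤ N by omega) K
    obtain ⟨r, hr, e⟩ := (CfsgLib.SUPres.psu_six hF hn4).two_generators (hqt h)
    exact ⟨r, hr.trans (by norm_num), e⟩

end Cfsg.Agent.S2291
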