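import Cfsg.Statements.S2292
import Cfsg.Agent.Lib.SpPres.Quot
import Cfsg.Agent.Lib.Classical.TwoGen.Symplectic
-- import your own Cfsg.Agent.* helpers here

set_option autoImplicit false
open Cfsg

namespace Cfsg.Agent.S2292

/-- Let F be a finite field with q elements and m ≥ 2 with (m, q) ≠ (2, 2). Then the simple group PSp_2m(F) has a presentation with 2 generators and at most 80 relations. -/
theorem result {F : Type*} [Field F] [Fintype F] (m : ℕ) (hm : 2 ≤ m) (h22 : ¬ (m = 2 ∧ Fintype.card F = 2)) :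
    ∃ rels : Finset (FreeGroup (Fin 2)), rels.card ≤ 80 ∧ Nonempty (PresentedGroup (↑rels : Set (FreeGroup (Fin 2))) ≃* Cfsg.PSp m F) := by
  haveI : ∀ k, Finite (Matrix.symplecticGroup (Fin k) F) := fun k =>
    Finite.of_injective (fun A => A.1) Subtype.val_injective
  obtain ⟨k, r, hr, hP⟩ : ∃ k r, r + 3 ≤ 80 ∧
      CfsgLib.SLPres.Presents (Matrix.symplecticGroup (Fin m) F) k r := by
    rcases (show m = 2 ∨ m = 3 ∨ 4 ≤ m by omega) with rfl | rfl | h
    · exact ⟨_, _, by norm_num, CfsgLib.SpPres.sp_four⟩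
    · exact ⟨_, _, by norm_num, CfsgLib.SpPres.sp_six⟩
    · exact ⟨_, _, by norm_num, CfsgLib.SpPres.sp_ten h⟩
  obtain ⟨a, b, hab⟩ := CfsgLib.TwoGen.two_gen (F := F) (n := m) hm (fun h => by
    have h1 : 1 < Fintype.card F := Fintype.one_lt_card
    have : Fintype.card F ≠ 2 := fun e => h22 ⟨h, e⟩
    omega)
  have hgen : Subgroup.closure ({QuotientGroup.mk' _ a, QuotientGroup.mk' _ b} : Set (Cfsg.PSp m F)) = ⊤ := by
    have h' := MonoidHom.map_closure (QuotientGroup.mk' (Subgroup.center (Matrix.symplecticGroup (Fin m) F)))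
      ({a, b} : Set _)
    rw [hab, Subgroup.map_top_of_surjective _ (QuotientGroup.mk'_surjective _), Set.image_pair] at h'
    exact h'.symm
  obtain ⟨rels, hc, e, -⟩ := (CfsgLib.SpPres.psp_presents (show 0 < m by omega) hP).pair hgen
  exact ⟨rels, hc.trans (by omega), ⟨e⟩⟩

end Cfsg.Agent.S2292
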