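import Cfsg.Statements.S2298
import Cfsg.Agent.Lib.RankOne.GLTwo
-- import your own Cfsg.Agent.* helpers here

set_option autoImplicit false
open Cfsg

namespace Cfsg.Agent.S2298

/-- Over a finite field F with q elements, every irreducible complex character of GL₂ has degree 1, q − 1, q or q + 1; and when q ≥ 3 (so that these four numbers are distinct) there are exactly q − 1 irreducible characters of degree 1, exactly q − 1 of degree q, exactly (q − 1)(q − 2)/2 of degree q + 1 and exactly q(q − 1)/2 of degree q − 1. -/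
theorem result {F : Type*} [Field F] [Fintype F] :
    (∀ χ : Matrix.GeneralLinearGroup (Fin 2) F → ℂ, Cfsg.IsIrrCharacter (Matrix.GeneralLinearGroup (Fin 2) F) χ →
      χ 1 = 1 ∨ χ 1 = (Fintype.card F : ℂ) - 1 ∨ χ 1 = (Fintype.card F : ℂ) ∨ χ 1 = (Fintype.card F : ℂ) + 1) ∧
    (3 ≤ Fintype.card F →
      Nat.card {χ : Cfsg.IrrCharacter (Matrix.GeneralLinearGroup (Fin 2) F) // (χ : Matrix.GeneralLinearGroup (Fin 2) F → ℂ) 1 = 1} = Fintype.card F - 1 ∧
      Nat.card {χ : Cfsg.IrrCharacter (Matrix.GeneralLinearGroup (Fin 2) F) // (χ : Matrix.GeneralLinearGroup (Fin 2) F → ℂ) 1 = (Fintype.card F : ℂ)} = Fintype.card F - 1 ∧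
      Nat.card {χ : Cfsg.IrrCharacter (Matrix.GeneralLinearGroup (Fin 2) F) // (χ : Matrix.GeneralLinearGroup (Fin 2) F → ℂ) 1 = (Fintype.card F : ℂ) + 1} = (Fintype.card F - 1) * (Fintype.card F - 2) / 2 ∧
      Nat.card {χ : Cfsg.IrrCharacter (Matrix.GeneralLinearGroup (Fin 2) F) // (χ : Matrix.GeneralLinearGroup (Fin 2) F → ℂ) 1 = (Fintype.card F : ℂ) - 1} = Fintype.card F * (Fintype.card F - 1) / 2) := by
  classical
  open CfsgLib.RankOne CfsgLib.RankOne.GLTwo in
  refine ⟨fun χ hχ => ?_, fun hq => ?_⟩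
  · rcases GLTwo.degree_cases hχ with ⟨_, _, h⟩ | ⟨_, _, h⟩ | ⟨_, _, _, _, h⟩ | ⟨_, h⟩
    · exact Or.inl h
    · exact Or.inr (Or.inr (Or.inl h))
    · exact Or.inr (Or.inr (Or.inr h))
    · exact Or.inr (Or.inl h)
  open CfsgLib.RankOne CfsgLib.RankOne.GLTwo in
  have key := GLTwo.cusp_count (F := F)
  have hq2 : (Fintype.card F : ℂ) - 1 ≠ 1 := fun e => by
    have h2 : (Fintype.card F : ℂ) = 2 := by linear_combination e
    have : Fintype.card F = 2 := by exact_mod_cast h2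
    omega
  have h01 : (Fintype.card F : ℂ) ≠ 0 := Nat.cast_ne_zero.2 Fintype.card_ne_zero
  have h1 := CfsgLib.RankOne.GLTwo.card_ne_one (F := F)
  refine ⟨?_, ?_, ?_, ?_⟩
  · refine ((Nat.card_eq_of_bijective (fun α : MulChar F ℂ =>
      (⟨⟨_, CfsgLib.RankOne.GLTwo.isIrr_lin α⟩, by simp [CfsgLib.RankOne.GLTwo.lin]⟩ :
        {χ : Cfsg.IrrCharacter (Matrix.GeneralLinearGroup (Fin 2) F) //
          (χ : Matrix.GeneralLinearGroup (Fin 2) F → ℂ) 1 = 1})) ⟨?_, ?_⟩).symm).trans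
      CfsgLib.RankOne.GLTwo.card_mulChar
    · exact fun α β e => CfsgLib.RankOne.GLTwo.lin_injective (congrArg (fun x => (x.1.1 : Matrix.GeneralLinearGroup (Fin 2) F → ℂ)) e)
    · rintro ⟨χ, hd⟩
      rcases CfsgLib.RankOne.GLTwo.degree_cases χ.2 with ⟨α, e, -⟩ | ⟨_, _, h⟩ | ⟨_, _, _, _, h⟩ | ⟨_, h⟩
      · exact ⟨α, Subtype.ext (Subtype.ext e.symm)⟩
      all_goals rw [hd] at h
      · exact absurd h.symm h1
      · exact absurd (by linear_combination -h) h01
      · exact absurd h.symm hq2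
  · refine ((Nat.card_eq_of_bijective (fun α : MulChar F ℂ =>
      (⟨⟨_, CfsgLib.RankOne.GLTwo.isIrr_stb α⟩, CfsgLib.RankOne.GLTwo.stb_one α⟩ :
        {χ : Cfsg.IrrCharacter (Matrix.GeneralLinearGroup (Fin 2) F) //
          (χ : Matrix.GeneralLinearGroup (Fin 2) F → ℂ) 1 = (Fintype.card F : ℂ)})) ⟨?_, ?_⟩).symm).trans
      CfsgLib.RankOne.GLTwo.card_mulChar
    · intro α β e
      have e' : CfsgLib.RankOne.GLTwo.stb α = CfsgLib.RankOne.GLTwo.stb β :=
        congrArg (fun x => (x.1.1 : Matrix.GeneralLinearGroup (Fin 2) F → ℂ)) e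
      have := CfsgLib.RankOne.GLTwo.inner_stb α β
      rw [← e', CfsgLib.Char.classInner_irr_self (CfsgLib.RankOne.GLTwo.isIrr_stb α)] at this
      by_contra hne
      rw [if_neg hne] at this
      exact one_ne_zero this
    · rintro ⟨χ, hd⟩
      rcases CfsgLib.RankOne.GLTwo.degree_cases χ.2 with ⟨_, _, h⟩ | ⟨α, e, -⟩ | ⟨_, _, _, _, h⟩ | ⟨_, h⟩
      rotate_left
      · exact ⟨α, Subtype.ext (Subtype.ext e.symm)⟩
      all_goals rw [hd] at h
      all_goals first
        | exact absurd h h1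
        | exact absurd h (by simp)
        | exact absurd (show (1 : ℂ) = 0 by linear_combination h) one_ne_zero
  · have hP : Nat.card {χ : Cfsg.IrrCharacter (Matrix.GeneralLinearGroup (Fin 2) F) //
        (χ : Matrix.GeneralLinearGroup (Fin 2) F → ℂ) 1 = (Fintype.card F : ℂ) + 1} =
        Nat.card (CfsgLib.RankOne.GLTwo.Pairs F) := by
      refine (Nat.card_eq_of_bijective (fun z : CfsgLib.RankOne.GLTwo.Pairs F =>
        (⟨CfsgLib.RankOne.GLTwo.known (.inr z), CfsgLib.RankOne.GLTwo.psPair_one z.1⟩ :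
          {χ : Cfsg.IrrCharacter (Matrix.GeneralLinearGroup (Fin 2) F) //
            (χ : Matrix.GeneralLinearGroup (Fin 2) F → ℂ) 1 = (Fintype.card F : ℂ) + 1})) ⟨?_, ?_⟩).symm
      · exact fun z w e => Sum.inr.inj (CfsgLib.RankOne.GLTwo.known_injective (congrArg Subtype.val e))
      · rintro ⟨χ, hd⟩
        rcases CfsgLib.RankOne.GLTwo.degree_cases χ.2 with ⟨_, _, h⟩ | ⟨_, _, h⟩ | ⟨α, β, hne, e, -⟩ | ⟨_, h⟩
        rotate_left; rotate_left
        · exact ⟨⟨s(α, β), fun hh => hne (Sym2.mk_isDiag_iff.1 hh)⟩, Subtype.ext (Subtype.ext e.symm)⟩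
        all_goals rw [hd] at h
        · exact absurd (show (2 : ℂ) = 0 by linear_combination h) two_ne_zero
        · exact absurd h (by simp [h01])
        · exact absurd h (by simp)
    have : Fintype (MulChar F ℂ) := Fintype.ofFinite _
    rw [hP, Nat.card_eq_fintype_card, Sym2.card_subtype_not_diag, ← Nat.card_eq_fintype_card,
      CfsgLib.RankOne.GLTwo.card_mulChar, Nat.choose_two_right]
    congr 2
  · have hC : Nat.card {χ : Cfsg.IrrCharacter (Matrix.GeneralLinearGroup (Fin 2) F) //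
        (χ : Matrix.GeneralLinearGroup (Fin 2) F → ℂ) 1 = (Fintype.card F : ℂ) - 1} =
        Nat.card {χ : Cfsg.IrrCharacter (Matrix.GeneralLinearGroup (Fin 2) F) //
          CfsgLib.RankOne.GLTwo.Cusp (χ : Matrix.GeneralLinearGroup (Fin 2) F → ℂ)} := by
      refine Nat.card_congr (Equiv.subtypeEquivRight fun χ => ⟨fun hd => ?_, fun hc => (key.2 _ χ.2 hc).2.1⟩)
      rcases CfsgLib.RankOne.GLTwo.degree_cases χ.2 with ⟨_, _, h⟩ | ⟨_, _, h⟩ | ⟨_, _, _, _, h⟩ | ⟨hc, _⟩
      rotate_left; rotate_left; rotate_left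
      · exact hc
      all_goals rw [hd] at h
      · exact absurd h hq2
      · exact absurd h (by simp)
      · exact absurd (show (2 : ℂ) = 0 by linear_combination -h) two_ne_zero
    rw [hC]
    have h2 : ((2 * Nat.card {χ : Cfsg.IrrCharacter (Matrix.GeneralLinearGroup (Fin 2) F) //
        CfsgLib.RankOne.GLTwo.Cusp (χ : Matrix.GeneralLinearGroup (Fin 2) F → ℂ)} : ℕ) : ℂ) =
        ((Fintype.card F * (Fintype.card F - 1) : ℕ) : ℂ) := by
      push_cast [Nat.cast_sub Fintype.card_pos]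
      exact key.1
    rw [← Nat.cast_inj.1 h2, Nat.mul_div_cancel_left _ two_pos]

end Cfsg.Agent.S2298
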