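import Cfsg.Statements.S2299
import Cfsg.Agent.Lib.RankOne.SLDegree
-- import your own Cfsg.Agent.* helpers here

set_option autoImplicit false
open Cfsg

namespace Cfsg.Agent.S2299

/-- Over a finite field F with q elements, q odd, every irreducible complex character of SL₂ has degree 1, q, q + 1, q − 1, (q + 1)/2 or (q − 1)/2; and when q ≥ 5 (so that these six numbers are distinct) there are exactly one irreducible character of degree 1, one of degree q, (q − 3)/2 of degree q + 1, (q − 1)/2 of degree q − 1, two of degree (q + 1)/2 and two of degree (q − 1)/2. -/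
theorem result {F : Type*} [Field F] [Fintype F] (hodd : Odd (Fintype.card F)) :
    (∀ χ : Matrix.SpecialLinearGroup (Fin 2) F → ℂ, Cfsg.IsIrrCharacter (Matrix.SpecialLinearGroup (Fin 2) F) χ →
      χ 1 = 1 ∨ χ 1 = (Fintype.card F : ℂ) ∨ χ 1 = (Fintype.card F : ℂ) + 1 ∨ χ 1 = (Fintype.card F : ℂ) - 1 ∨
        χ 1 = (((Fintype.card F + 1) / 2 : ℕ) : ℂ) ∨ χ 1 = (((Fintype.card F - 1) / 2 : ℕ) : ℂ)) ∧
    (5 ≤ Fintype.card F →
      Nat.card {χ : Cfsg.IrrCharacter (Matrix.SpecialLinearGroup (Fin 2) F) // (χ : Matrix.SpecialLinearGroup (Fin 2) F → ℂ) 1 = 1} = 1 ∧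
      Nat.card {χ : Cfsg.IrrCharacter (Matrix.SpecialLinearGroup (Fin 2) F) // (χ : Matrix.SpecialLinearGroup (Fin 2) F → ℂ) 1 = (Fintype.card F : ℂ)} = 1 ∧
      Nat.card {χ : Cfsg.IrrCharacter (Matrix.SpecialLinearGroup (Fin 2) F) // (χ : Matrix.SpecialLinearGroup (Fin 2) F → ℂ) 1 = (Fintype.card F : ℂ) + 1} = (Fintype.card F - 3) / 2 ∧
      Nat.card {χ : Cfsg.IrrCharacter (Matrix.SpecialLinearGroup (Fin 2) F) // (χ : Matrix.SpecialLinearGroup (Fin 2) F → ℂ) 1 = (Fintype.card F : ℂ) - 1} = (Fintype.card F - 1) / 2 ∧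
      Nat.card {χ : Cfsg.IrrCharacter (Matrix.SpecialLinearGroup (Fin 2) F) // (χ : Matrix.SpecialLinearGroup (Fin 2) F → ℂ) 1 = (((Fintype.card F + 1) / 2 : ℕ) : ℂ)} = 2 ∧
      Nat.card {χ : Cfsg.IrrCharacter (Matrix.SpecialLinearGroup (Fin 2) F) // (χ : Matrix.SpecialLinearGroup (Fin 2) F → ℂ) 1 = (((Fintype.card F - 1) / 2 : ℕ) : ℂ)} = 2) := by
  classical
  obtain ⟨c1, c2⟩ := CfsgLib.RankOne.SLTwo.half_cast hodd
  rw [c1, c2]
  refine ⟨fun χ hχ => ?_, fun hq => ?_⟩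
  · rcases CfsgLib.RankOne.SLTwo.degree_cases hχ with ⟨-, h⟩ | ⟨-, h⟩ | ⟨-, h⟩ | ⟨-, h⟩ | ⟨-, h⟩ | ⟨-, -, h⟩ <;>
      simp only [h, true_or, or_true]
  have h2 := CfsgLib.RankOne.SLTwo.ringChar_of_odd hodd
  have h4 : 4 ≤ Fintype.card F := by omega
  obtain ⟨hA, hB⟩ := CfsgLib.RankOne.SLTwo.card_cusp_odd (F := F) h2
  have hp := CfsgLib.RankOne.SLTwo.two_mul_card_psSet (F := F)
  rw [CfsgLib.RankOne.SLTwo.nquad_odd h2] at hp
  refine ⟨CfsgLib.RankOne.SLTwo.card_degree_one h4, CfsgLib.RankOne.SLTwo.card_degree_card, ?_, ?_, ?_, ?_⟩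
  · rw [CfsgLib.RankOne.SLTwo.card_degree_succ]
    have : 2 * Nat.card (CfsgLib.RankOne.SLTwo.psSet F) + 3 = Fintype.card F := by
      have : ((2 * Nat.card (CfsgLib.RankOne.SLTwo.psSet F) + 3 : ℕ) : ℂ) = (Fintype.card F : ℂ) := by
        push_cast at hp ⊢; linear_combination hp
      exact_mod_cast this
    omega
  · rw [CfsgLib.RankOne.SLTwo.card_degree_pred h4]
    have e := hA
    set n := Nat.card {χ : Cfsg.IrrCharacter (Matrix.SpecialLinearGroup (Fin 2) F) //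
      CfsgLib.RankOne.SLTwo.Cusp (χ : Matrix.SpecialLinearGroup (Fin 2) F → ℂ) ∧
        (χ : Matrix.SpecialLinearGroup (Fin 2) F → ℂ) 1 = (Fintype.card F : ℂ) - 1}
    have : 2 * n + 1 = Fintype.card F := by
      have : ((2 * n + 1 : ℕ) : ℂ) = (Fintype.card F : ℂ) := by
        push_cast; linear_combination e
      exact_mod_cast this
    omega
  · rw [CfsgLib.RankOne.SLTwo.card_degree_half h4, CfsgLib.RankOne.SLTwo.card_half h2]
  · rw [CfsgLib.RankOne.SLTwo.card_degree_half_pred h4, hB]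


end Cfsg.Agent.S2299
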