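import Cfsg.Statements.S2301
import Mathlib
import Cfsg.Agent.Lib.SL2.UnipotentClasses

set_option autoImplicit false
set_option linter.style.haveILetI false
open Cfsg

namespace Cfsg.Agent.S2301

/-- Subgroup-free shorthand: an upper unitriangular element equals `upperHom` of its corner. -/
theorem eq_upperHom {F : Type*} [Field F] (g : Matrix.SpecialLinearGroup (Fin 2) F)
    (h0 : (g : Matrix (Fin 2) (Fin 2) F) 0 0 = 1) (h1 : (g : Matrix (Fin 2) (Fin 2) F) 1 1 = 1)
    (h2 : (g : Matrix (Fin 2) (Fin 2) F) 1 0 = 0) :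
    g = CfsgLib.SL2.upperHom (Multiplicative.ofAdd ((g : Matrix (Fin 2) (Fin 2) F) 0 1)) := by
  apply Subtype.ext
  rw [CfsgLib.SL2.upperHom_coe, toAdd_ofAdd]
  ext i j
  fin_cases i <;> fin_cases j <;> simp [h0, h1, h2]

/-- Over a finite field with q elements of odd characteristic p, the elements of order p of SL₂ (the non-identity unipotent elements) fall into exactly two conjugacy classes, each of size (q² − 1)/2; two upper unitriangular matrices with non-zero off-diagonal entries b and b′ are conjugate exactly when bb′ is a square. -/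
theorem result {F : Type*} [Field F] [Fintype F] (p : ℕ) [Fact p.Prime] [CharP F p] (hp : p ≠ 2) :
    Nat.card {C : ConjClasses (Matrix.SpecialLinearGroup (Fin 2) F) // ∃ g : Matrix.SpecialLinearGroup (Fin 2) F, orderOf g = p ∧ ConjClasses.mk g = C} = 2 ∧
    (∀ g : Matrix.SpecialLinearGroup (Fin 2) F, orderOf g = p → Nat.card (ConjClasses.mk g).carrier = (Fintype.card F ^ 2 - 1) / 2) ∧
    ∀ g h : Matrix.SpecialLinearGroup (Fin 2) F, (g : Matrix (Fin 2) (Fin 2) F) 0 0 = 1 → (g : Matrix (Fin 2) (Fin 2) F) 1 1 = 1 → (g : Matrix (Fin 2) (Fin 2) F) 1 0 = 0 → (g : Matrix (Fin 2) (Fin 2) F) 0 1 ≠ 0 →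
      (h : Matrix (Fin 2) (Fin 2) F) 0 0 = 1 → (h : Matrix (Fin 2) (Fin 2) F) 1 1 = 1 → (h : Matrix (Fin 2) (Fin 2) F) 1 0 = 0 → (h : Matrix (Fin 2) (Fin 2) F) 0 1 ≠ 0 →
      (IsConj g h ↔ IsSquare ((g : Matrix (Fin 2) (Fin 2) F) 0 1 * (h : Matrix (Fin 2) (Fin 2) F) 0 1)) := by
  classical
  have hchar : ringChar F ≠ 2 := by rw [ringChar.eq F p]; exact hp
  have h2 : (2 : F) ≠ 0 := Ring.two_ne_zero hchar
  have key : ∀ g : Matrix.SpecialLinearGroup (Fin 2) F, orderOf g = p →
      ∃ t : F, t ≠ 0 ∧ IsConj g (CfsgLib.SL2.upperHom (Multiplicative.ofAdd t)) := fun g hg =>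
    CfsgLib.SL2.exists_isConj_upperHom (CfsgLib.SL2.unip_facts_SL p g hg).2
      (CfsgLib.SL2.unip_facts_SL p g hg).1
  refine ⟨?_, fun g hg => ?_, fun g h a b c d a' b' c' d' => ?_⟩
  · obtain ⟨ν, hν0, hν, hdich⟩ := CfsgLib.SL2.exists_nonsquare_dichotomy (F := F) hchar
    set u1 := CfsgLib.SL2.upperHom (Multiplicative.ofAdd (1 : F))
    set uν := CfsgLib.SL2.upperHom (Multiplicative.ofAdd ν)
    have hset : {C : ConjClasses (Matrix.SpecialLinearGroup (Fin 2) F) |
        ∃ g, orderOf g = p ∧ ConjClasses.mk g = C} = {ConjClasses.mk u1, ConjClasses.mk uν} := by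
      ext C
      constructor
      · rintro ⟨g, hg, rfl⟩
        obtain ⟨t, ht, hgt⟩ := key g hg
        rcases hdich t ht with hs | hs
        · exact Or.inl (ConjClasses.mk_eq_mk_iff_isConj.mpr (hgt.trans
            ((CfsgLib.SL2.isConj_upperHom_iff ht one_ne_zero).mpr (by rwa [mul_one]))))
        · exact Or.inr (ConjClasses.mk_eq_mk_iff_isConj.mpr (hgt.trans
            ((CfsgLib.SL2.isConj_upperHom_iff ht hν0).mpr hs)))
      · rintro (rfl | rfl)
        · exact ⟨u1, CfsgLib.SL2.orderOf_upperHom p one_ne_zero, rfl⟩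
        · exact ⟨uν, CfsgLib.SL2.orderOf_upperHom p hν0, rfl⟩
    show Nat.card ↥({C : ConjClasses (Matrix.SpecialLinearGroup (Fin 2) F) |
        ∃ g, orderOf g = p ∧ ConjClasses.mk g = C}) = 2
    rw [Nat.card_coe_set_eq, hset, Set.ncard_pair]
    intro e
    have := (CfsgLib.SL2.isConj_upperHom_iff one_ne_zero hν0).mp
      (ConjClasses.mk_eq_mk_iff_isConj.mp e)
    rw [one_mul] at this
    exact hν this
  · obtain ⟨t, ht, hgt⟩ := key g hg
    rw [ConjClasses.mk_eq_mk_iff_isConj.mpr hgt]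
    exact CfsgLib.SL2.card_carrier_upperHom h2 ht
  · rw [eq_upperHom g a b c, eq_upperHom h a' b' c', CfsgLib.SL2.isConj_upperHom_iff d d']
    simp only [CfsgLib.SL2.upperHom_coe, toAdd_ofAdd]
    simp

end Cfsg.Agent.S2301
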