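import Cfsg.Statements.S2302
import Mathlib
import Cfsg.Agent.Lib.SL2.UnipotentClasses

set_option autoImplicit false
set_option linter.style.haveILetI false
open Cfsg

namespace Cfsg.Agent.S2302

/-- Over a finite field with q elements of characteristic 2, the involutions of SL₂ (the non-identity unipotent elements) form a single conjugacy class, of size q² − 1. -/
theorem result {F : Type*} [Field F] [Fintype F] [CharP F 2] (g h : Matrix.SpecialLinearGroup (Fin 2) F) (hg : orderOf g = 2) (hh : orderOf h = 2) :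
    IsConj g h ∧ Nat.card (ConjClasses.mk g).carrier = Fintype.card F ^ 2 - 1 := by
  classical
  haveI : Fact (Nat.Prime 2) := ⟨Nat.prime_two⟩
  have hchar : ringChar F = 2 := ringChar.eq F 2
  have h2 : (2 : F) = 0 := CharTwo.two_eq_zero
  have key : ∀ x : Matrix.SpecialLinearGroup (Fin 2) F, orderOf x = 2 →
      ∀ y : Matrix.SpecialLinearGroup (Fin 2) F, orderOf y = 2 → IsConj x y := by
    intro x hx y hy
    obtain ⟨a, b⟩ := CfsgLib.SL2.unip_facts_SL 2 x hx
    obtain ⟨c, d⟩ := CfsgLib.SL2.unip_facts_SL 2 y hy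
    obtain ⟨k, hk⟩ := CfsgLib.SL2.isConj_of_trace b d (a.trans c.symm) (Or.inr hchar)
    exact isConj_iff.mpr ⟨k, hk⟩
  refine ⟨key g hg h hh, ?_⟩
  let f : {x : Matrix.SpecialLinearGroup (Fin 2) F //
      (x : Matrix (Fin 2) (Fin 2) F) 0 0 = (x : Matrix (Fin 2) (Fin 2) F) 1 1} → F × F :=
    fun x => ((x.1 : Matrix (Fin 2) (Fin 2) F) 0 1, (x.1 : Matrix (Fin 2) (Fin 2) F) 1 0)
  have hsq : Function.Bijective fun a : F => a * a :=
    Finite.injective_iff_bijective.mp fun a b hab =>
      CharTwo.add_eq_zero.mp (eq_zero_of_pow_eq_zero (n := 2) (by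
        linear_combination (hab : a * a = b * b) + (b * b + a * b) * h2))
  have hdetx : ∀ x : Matrix.SpecialLinearGroup (Fin 2) F,
      (x : Matrix (Fin 2) (Fin 2) F) 0 0 = (x : Matrix (Fin 2) (Fin 2) F) 1 1 →
      (x : Matrix (Fin 2) (Fin 2) F) 0 0 * (x : Matrix (Fin 2) (Fin 2) F) 0 0 =
        1 + (x : Matrix (Fin 2) (Fin 2) F) 0 1 * (x : Matrix (Fin 2) (Fin 2) F) 1 0 := by
    intro x hx
    have := x.det_coe
    rw [Matrix.det_fin_two, ← hx] at this
    linear_combination this
  have hf : Function.Bijective f := by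
    refine ⟨fun x y hxy => ?_, fun z => ?_⟩
    · have h01 := congrArg Prod.fst hxy
      have h10 := congrArg Prod.snd hxy
      simp only [f] at h01 h10
      have h00 := hsq.1 ((hdetx x.1 x.2).trans (by rw [h01, h10]; exact (hdetx y.1 y.2).symm))
      refine Subtype.ext (Subtype.ext ?_)
      ext i j
      fin_cases i <;> fin_cases j
      · exact h00
      · exact h01
      · exact h10
      · exact x.2.symm.trans (h00.trans y.2)
    · obtain ⟨a, ha⟩ := hsq.2 (1 + z.1 * z.2)
      have ha' : a * a = 1 + z.1 * z.2 := ha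
      exact ⟨⟨⟨!![a, z.1; z.2, a], by
        rw [Matrix.det_fin_two_of]; linear_combination ha'⟩, rfl⟩, rfl⟩
  have hiff : ∀ x : Matrix.SpecialLinearGroup (Fin 2) F,
      x ∈ (ConjClasses.mk g).carrier ↔
        (x : Matrix (Fin 2) (Fin 2) F) 0 0 = (x : Matrix (Fin 2) (Fin 2) F) 1 1 ∧ x ≠ 1 := by
    intro x
    rw [ConjClasses.mem_carrier_iff_mk_eq, ConjClasses.mk_eq_mk_iff_isConj]
    constructor
    · intro hx
      obtain ⟨c, hc⟩ := isConj_iff.mp hx
      have ho : orderOf x = 2 := by
        refine Eq.trans ?_ hg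
        rw [← hc]
        exact (orderOf_injective (MulAut.conj c).toMonoidHom (MulAut.conj c).injective x).symm
      refine ⟨?_, fun e => by rw [e, orderOf_one] at ho; omega⟩
      have := (CfsgLib.SL2.unip_facts_SL 2 x ho).1
      rw [Matrix.trace_fin_two, h2] at this
      exact CharTwo.add_eq_zero.mp this
    · rintro ⟨hx, hx1⟩
      refine key x (orderOf_eq_prime ((pow_two _).trans (Subtype.ext ?_)) hx1) g hg
      rw [Matrix.SpecialLinearGroup.coe_mul, Matrix.SpecialLinearGroup.coe_one]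
      have hd := hdetx x hx
      ext i j
      fin_cases i <;> fin_cases j <;> simp [Matrix.mul_apply, ← hx]
      · linear_combination hd + ((x : Matrix (Fin 2) (Fin 2) F) 0 1 * (x : Matrix (Fin 2) (Fin 2) F) 1 0) * h2
      · linear_combination ((x : Matrix (Fin 2) (Fin 2) F) 0 0 * (x : Matrix (Fin 2) (Fin 2) F) 0 1) * h2
      · linear_combination ((x : Matrix (Fin 2) (Fin 2) F) 0 0 * (x : Matrix (Fin 2) (Fin 2) F) 1 0) * h2
      · linear_combination hd + ((x : Matrix (Fin 2) (Fin 2) F) 0 1 * (x : Matrix (Fin 2) (Fin 2) F) 1 0) * h2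
  rw [Nat.card_coe_set_eq, show (ConjClasses.mk g).carrier =
    {x : Matrix.SpecialLinearGroup (Fin 2) F |
      (x : Matrix (Fin 2) (Fin 2) F) 0 0 = (x : Matrix (Fin 2) (Fin 2) F) 1 1} \ {1} from
    Set.ext fun x => by simpa using hiff x, Set.ncard_diff_singleton_of_mem (by simp),
    ← Nat.card_coe_set_eq]
  have hcard : Nat.card {x : Matrix.SpecialLinearGroup (Fin 2) F //
      (x : Matrix (Fin 2) (Fin 2) F) 0 0 = (x : Matrix (Fin 2) (Fin 2) F) 1 1} =
        Fintype.card F ^ 2 := by
    rw [Nat.card_eq_of_bijective f hf, Nat.card_prod, Nat.card_eq_fintype_card, pow_two]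
  exact congrArg (· - 1) hcard

end Cfsg.Agent.S2302
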