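import Cfsg.Statements.S2303
import Cfsg.Agent.Lib.RankOne.GLTwo
-- import your own Cfsg.Agent.* helpers here

set_option autoImplicit false
open Cfsg

namespace Cfsg.Agent.S2303

/-- Over a finite field with q elements: a diagonal element of GL₂ with two distinct diagonal entries has centralizer of order (q − 1)² (so q(q + 1) conjugates), and an element of GL₂ with no eigenvector in F² has centralizer of order q² − 1 (so q(q − 1) conjugates). -/
theorem result {F : Type*} [Field F] [Fintype F] (g : Matrix.GeneralLinearGroup (Fin 2) F) :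
    ((g : Matrix (Fin 2) (Fin 2) F) 0 1 = 0 → (g : Matrix (Fin 2) (Fin 2) F) 1 0 = 0 → (g : Matrix (Fin 2) (Fin 2) F) 0 0 ≠ (g : Matrix (Fin 2) (Fin 2) F) 1 1 →
      Nat.card (Subgroup.centralizer ({g} : Set (Matrix.GeneralLinearGroup (Fin 2) F))) = (Fintype.card F - 1) ^ 2) ∧
    ((∀ (c : F) (v : Fin 2 → F), v ≠ 0 → (g : Matrix (Fin 2) (Fin 2) F).mulVec v ≠ c • v) →
      Nat.card (Subgroup.centralizer ({g} : Set (Matrix.GeneralLinearGroup (Fin 2) F))) = Fintype.card F ^ 2 - 1) := by
  classical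
  open CfsgLib.SL2 in
  have hcent : ∀ (hns : CfsgLib.SL2.NonScalar (g : Matrix (Fin 2) (Fin 2) F)),
      Nat.card (Subgroup.centralizer ({g} : Set (Matrix.GeneralLinearGroup (Fin 2) F))) =
        Nat.card {p : F × F // (p.1 • (1 : Matrix (Fin 2) (Fin 2) F) + p.2 • (g : Matrix (Fin 2) (Fin 2) F)).det ≠ 0} := by
    intro hns
    refine (Nat.card_eq_of_bijective (fun p => (⟨((Matrix.isUnit_iff_isUnit_det _).2 (isUnit_iff_ne_zero.2 p.2)).unit,
      Subgroup.mem_centralizer_singleton_iff.2 (Units.ext ?_)⟩ :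
        Subgroup.centralizer ({g} : Set (Matrix.GeneralLinearGroup (Fin 2) F)))) ⟨?_, ?_⟩).symm
    · simp [add_mul, mul_add]
    · intro p q e
      have e' := congrArg (fun x : Subgroup.centralizer ({g} : Set (Matrix.GeneralLinearGroup (Fin 2) F)) =>
        ((x : Matrix.GeneralLinearGroup (Fin 2) F) : Matrix (Fin 2) (Fin 2) F)) e
      obtain ⟨h1, h2⟩ := CfsgLib.SL2.smul_one_add_smul_inj hns e'
      exact Subtype.ext (Prod.ext h1 h2)
    · rintro ⟨x, hx⟩
      obtain ⟨a, b, hab⟩ := CfsgLib.SL2.exists_eq_of_commute hns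
        (congrArg Units.val (Subgroup.mem_centralizer_singleton_iff.1 hx))
      refine ⟨⟨(a, b), ?_⟩, Subtype.ext (Units.ext hab.symm)⟩
      rw [← hab]
      exact ((Matrix.isUnit_iff_isUnit_det _).1 x.isUnit).ne_zero
  refine ⟨fun h01 h10 hne => ?_, fun hg => ?_⟩
  · rw [hcent ((CfsgLib.SL2.nonScalar_iff _).2 (Or.inr (Or.inr hne)))]
    set a := (g : Matrix (Fin 2) (Fin 2) F) 0 0 with ha
    set d := (g : Matrix (Fin 2) (Fin 2) F) 1 1 with hd
    have hdet : ∀ p : F × F, (p.1 • (1 : Matrix (Fin 2) (Fin 2) F) + p.2 • (g : Matrix (Fin 2) (Fin 2) F)).det =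
        (p.1 + p.2 * a) * (p.1 + p.2 * d) := fun p => by
      rw [Matrix.det_fin_two]; simp [h01, h10, ← ha, ← hd]
    have hsub : a - d ≠ 0 := sub_ne_zero.2 hne
    rw [← Fintype.card_units, pow_two, ← Fintype.card_prod, ← Nat.card_eq_fintype_card]
    refine Nat.card_eq_of_bijective
      (fun p => (Units.mk0 (p.1.1 + p.1.2 * a) ?_, Units.mk0 (p.1.1 + p.1.2 * d) ?_)) ⟨?_, ?_⟩
    · exact left_ne_zero_of_mul (hdet p.1 ▸ p.2)
    · exact right_ne_zero_of_mul (hdet p.1 ▸ p.2)
    · intro p q e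
      have e1 := congrArg (fun z : Fˣ × Fˣ => (z.1 : F)) e
      have e2 := congrArg (fun z : Fˣ × Fˣ => (z.2 : F)) e
      simp only [Units.val_mk0] at e1 e2
      have hb : p.1.2 = q.1.2 := mul_right_cancel₀ hsub (by linear_combination e1 - e2)
      exact Subtype.ext (Prod.ext (by rw [hb] at e1; linear_combination e1) hb)
    · rintro ⟨s, t⟩
      refine ⟨⟨((s : F) - ((s : F) - t) / (a - d) * a, ((s : F) - t) / (a - d)), ?_⟩, ?_⟩
      · rw [hdet, show (s : F) - ((s : F) - t) / (a - d) * a + ((s : F) - t) / (a - d) * a = s by ring,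
          show (s : F) - ((s : F) - t) / (a - d) * a + ((s : F) - t) / (a - d) * d = t by
            field_simp; ring]
        exact mul_ne_zero s.ne_zero t.ne_zero
      · refine Prod.ext (Units.ext ?_) (Units.ext ?_) <;> simp only [Units.val_mk0]
        · ring
        · field_simp; ring
  · have hns : CfsgLib.SL2.NonScalar (g : Matrix (Fin 2) (Fin 2) F) := fun c e =>
      hg c ![1, 0] (by simp) (by rw [e, Matrix.smul_mulVec, Matrix.one_mulVec])
    rw [hcent hns]
    have hdet : ∀ p : F × F, (p.1 • (1 : Matrix (Fin 2) (Fin 2) F) + p.2 • (g : Matrix (Fin 2) (Fin 2) F)).det = 0 ↔ p = 0 := by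
      refine fun p => ⟨fun h => ?_, fun h => by simp [h]⟩
      obtain ⟨v, hv, hv0⟩ := Matrix.exists_mulVec_eq_zero_iff.2 h
      rw [Matrix.add_mulVec, Matrix.smul_mulVec, Matrix.smul_mulVec, Matrix.one_mulVec] at hv0
      by_cases hb : p.2 = 0
      · rw [hb, zero_smul, add_zero, smul_eq_zero] at hv0
        exact Prod.ext (hv0.resolve_right hv) hb
      · exfalso
        refine hg (-(p.1 / p.2)) v hv ?_
        have hp : p.2 • (g : Matrix (Fin 2) (Fin 2) F).mulVec v = p.2 • ((-(p.1 / p.2)) • v) := by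
          rw [smul_smul, mul_neg, mul_div_cancel₀ _ hb, neg_smul, eq_neg_iff_add_eq_zero, add_comm, hv0]
        exact (smul_right_injective _ hb) hp
    simp only [ne_eq, hdet]
    rw [Nat.card_eq_fintype_card, Fintype.card_subtype_compl, Fintype.card_subtype_eq, Fintype.card_prod, sq]

end Cfsg.Agent.S2303
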