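import Cfsg.Statements.S2307
import Cfsg.Agent.Lib.RankOne.SLDegree
-- import your own Cfsg.Agent.* helpers here

set_option autoImplicit false
open Cfsg

namespace Cfsg.Agent.S2307

/-- Over a finite field F with q elements, q odd, let α be the multiplicative character of F of order 2. The character of SL₂ induced from the linear character b ↦ α(b₁₁) of the upper triangular subgroup is the sum of two distinct irreducible characters, each of degree (q + 1)/2, which are conjugate under GL₂: some fixed element of GL₂ conjugates the one into the other. -/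
theorem result {F : Type*} [Field F] [Fintype F] [DecidableEq F] (hodd : Odd (Fintype.card F)) (α : MulChar F ℂ)
    (hα : α ^ 2 = 1) (hα1 : α ≠ 1) :
    ∃ χ₁ χ₂ : Matrix.SpecialLinearGroup (Fin 2) F → ℂ, Cfsg.IsIrrCharacter (Matrix.SpecialLinearGroup (Fin 2) F) χ₁ ∧ Cfsg.IsIrrCharacter (Matrix.SpecialLinearGroup (Fin 2) F) χ₂ ∧ χ₁ ≠ χ₂ ∧
      Cfsg.indFun ((Cfsg.upperTriangularGL 2 F).comap Matrix.SpecialLinearGroup.toGL) (fun b => α (((b : Matrix.SpecialLinearGroup (Fin 2) F) : Matrix (Fin 2) (Fin 2) F) 0 0)) = χ₁ + χ₂ ∧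
      χ₁ 1 = (((Fintype.card F + 1) / 2 : ℕ) : ℂ) ∧ χ₂ 1 = (((Fintype.card F + 1) / 2 : ℕ) : ℂ) ∧
      ∃ x : Matrix.GeneralLinearGroup (Fin 2) F, ∀ g h : Matrix.SpecialLinearGroup (Fin 2) F,
        Matrix.SpecialLinearGroup.toGL h = x * Matrix.SpecialLinearGroup.toGL g * x⁻¹ → χ₂ h = χ₁ g := by
  classical
  obtain ⟨ν, hν0, hν, -⟩ := CfsgLib.SL2.exists_nonsquare_dichotomy (CfsgLib.RankOne.SLTwo.ringChar_ne_two hα hα1)
  obtain ⟨χ₁, χ₂, i1, i2, hne, he, d1, d2, htw, -, -⟩ := CfsgLib.RankOne.SLTwo.halves hα hα1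
  refine ⟨χ₁, χ₂, i1, i2, hne, he, by rw [(CfsgLib.RankOne.SLTwo.half_cast hodd).1]; exact d1,
    by rw [(CfsgLib.RankOne.SLTwo.half_cast hodd).1]; exact d2,
    CfsgLib.RankOne.GLTwo.tri (Units.mk0 ν hν0)⁻¹ 1 0, fun g h e => ?_⟩
  rw [htw (Units.mk0 ν hν0) hν]
  congr 1
  rw [eq_mul_inv_iff_mul_eq] at e
  have e' := congrArg (fun x : Matrix.GeneralLinearGroup (Fin 2) F => (x : Matrix (Fin 2) (Fin 2) F)) e
  have h00 := congrFun (congrFun e' 0) 0
  have h01 := congrFun (congrFun e' 0) 1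
  have h10 := congrFun (congrFun e' 1) 0
  have h11 := congrFun (congrFun e' 1) 1
  simp [CfsgLib.RankOne.GLTwo.tri_coe, Matrix.mul_apply, Fin.sum_univ_two] at h00 h01 h10 h11
  refine Subtype.ext ?_
  rw [CfsgLib.RankOne.SLTwo.twist_coe]
  ext i j
  fin_cases i <;> fin_cases j <;> simp
  · field_simp at h00; first | exact h00 | linear_combination h00
  · field_simp at h01; first | exact h01 | linear_combination h01 | linear_combination -h01
  · field_simp at h10 ⊢; first | exact h10 | linear_combination h10 | linear_combination -h10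
  · first | exact h11 | linear_combination h11


end Cfsg.Agent.S2307
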