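import Cfsg.Statements.S2308
import Cfsg.Agent.Lib.RankOne.GLTwo
-- import your own Cfsg.Agent.* helpers here

set_option autoImplicit false
open Cfsg

namespace Cfsg.Agent.S2308

/-- Values of the permutation character of GL₂ over a finite field F with q elements on the cosets of its upper triangular subgroup (equivalently, the number of lines of F² that an element maps to themselves): q + 1 at a scalar matrix, 2 at a diagonal matrix with two different diagonal entries, 0 at an element with no eigenvector in F², and 1 at an upper triangular matrix with equal diagonal entries and non-zero upper right entry. -/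
theorem result {F : Type*} [Field F] [Fintype F] (g : Matrix.GeneralLinearGroup (Fin 2) F) :
    ((∃ a : F, (g : Matrix (Fin 2) (Fin 2) F) = a • (1 : Matrix (Fin 2) (Fin 2) F)) → Cfsg.fixedPointCharacter (Cfsg.upperTriangularGL 2 F) g = Fintype.card F + 1) ∧
    ((g : Matrix (Fin 2) (Fin 2) F) 0 1 = 0 → (g : Matrix (Fin 2) (Fin 2) F) 1 0 = 0 → (g : Matrix (Fin 2) (Fin 2) F) 0 0 ≠ (g : Matrix (Fin 2) (Fin 2) F) 1 1 →
      Cfsg.fixedPointCharacter (Cfsg.upperTriangularGL 2 F) g = 2) ∧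
    ((∀ (c : F) (v : Fin 2 → F), v ≠ 0 → (g : Matrix (Fin 2) (Fin 2) F).mulVec v ≠ c • v) → Cfsg.fixedPointCharacter (Cfsg.upperTriangularGL 2 F) g = 0) ∧
    ((g : Matrix (Fin 2) (Fin 2) F) 1 0 = 0 → (g : Matrix (Fin 2) (Fin 2) F) 0 0 = (g : Matrix (Fin 2) (Fin 2) F) 1 1 → (g : Matrix (Fin 2) (Fin 2) F) 0 1 ≠ 0 →
      Cfsg.fixedPointCharacter (Cfsg.upperTriangularGL 2 F) g = 1) := by
  classical
  have hval : ∀ x : Matrix.GeneralLinearGroup (Fin 2) F,
      Cfsg.fixedPointCharacter (Cfsg.upperTriangularGL 2 F) x = CfsgLib.RankOne.GLTwo.ps 1 1 x := by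
    intro x
    have h := congrFun (CfsgLib.Char.perm_eq_indFun
      ((Matrix.GeneralLinearGroup (Fin 2) F) ⧸ Cfsg.upperTriangularGL 2 F)
      (QuotientGroup.mk 1)) x
    rw [MulAction.stabilizer_quotient] at h
    have hone : (fun _ => (1 : ℂ)) = CfsgLib.RankOne.GLTwo.lam (F := F) 1 1 := by
      funext b
      have hb := CfsgLib.RankOne.GLTwo.mem_bor.1 b.2
      have hdet := ((Matrix.isUnit_iff_isUnit_det _).1 (b : Matrix.GeneralLinearGroup (Fin 2) F).isUnit).ne_zero
      rw [Matrix.det_fin_two, hb, mul_zero, sub_zero, mul_ne_zero_iff] at hdet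
      simp [CfsgLib.RankOne.GLTwo.lam, MulChar.one_apply (isUnit_iff_ne_zero.2 hdet.1), MulChar.one_apply (isUnit_iff_ne_zero.2 hdet.2)]
    rw [hone] at h
    exact h
  simp only [hval]
  refine ⟨fun ⟨a, ha⟩ => ?_, fun h01 h10 hne => ?_, fun hg => CfsgLib.RankOne.GLTwo.ps_anisotropic 1 1 g hg,
    fun h10 he hne => ?_⟩
  all_goals
    have hdet := ((Matrix.isUnit_iff_isUnit_det _).1 g.isUnit).ne_zero
    rw [CfsgLib.RankOne.GLTwo.ps_apply]
  · have e01 : (g : Matrix (Fin 2) (Fin 2) F) 0 1 = 0 := by rw [ha]; simp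
    have e10 : (g : Matrix (Fin 2) (Fin 2) F) 1 0 = 0 := by rw [ha]; simp
    have e00 : (g : Matrix (Fin 2) (Fin 2) F) 0 0 = (g : Matrix (Fin 2) (Fin 2) F) 1 1 := by rw [ha]; simp
    rw [Matrix.det_fin_two, e10, mul_zero, sub_zero, mul_ne_zero_iff] at hdet
    simp [e01, e10, e00, MulChar.one_apply (isUnit_iff_ne_zero.2 hdet.2), add_comm]
  · rw [Matrix.det_fin_two, h10, mul_zero, sub_zero, mul_ne_zero_iff] at hdet
    simp [h01, h10, sub_eq_zero, hne, MulChar.one_apply (isUnit_iff_ne_zero.2 hdet.1), MulChar.one_apply (isUnit_iff_ne_zero.2 hdet.2)]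
    norm_num
  · rw [Matrix.det_fin_two, h10, mul_zero, sub_zero, mul_ne_zero_iff] at hdet
    simp [h10, he, hne, MulChar.one_apply (isUnit_iff_ne_zero.2 hdet.2)]

end Cfsg.Agent.S2308
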