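import Cfsg.Statements.S2309
import Cfsg.Agent.Lib.RankOne.GLTwo
-- import your own Cfsg.Agent.* helpers here

set_option autoImplicit false
open Cfsg

namespace Cfsg.Agent.S2309

/-- Over a finite field F with q elements: every irreducible complex character of GL₂ of degree q − 1 vanishes at every diagonal matrix with two distinct entries, and every irreducible complex character of degree q + 1 vanishes at every element with no eigenvector in F². -/
theorem result {F : Type*} [Field F] [Fintype F] (χ : Matrix.GeneralLinearGroup (Fin 2) F → ℂ) (hχ : Cfsg.IsIrrCharacter (Matrix.GeneralLinearGroup (Fin 2) F) χ) (g : Matrix.GeneralLinearGroup (Fin 2) F) :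
    (χ 1 = (Fintype.card F : ℂ) - 1 → (g : Matrix (Fin 2) (Fin 2) F) 0 1 = 0 → (g : Matrix (Fin 2) (Fin 2) F) 1 0 = 0 → (g : Matrix (Fin 2) (Fin 2) F) 0 0 ≠ (g : Matrix (Fin 2) (Fin 2) F) 1 1 → χ g = 0) ∧
    (χ 1 = (Fintype.card F : ℂ) + 1 → (∀ (c : F) (v : Fin 2 → F), v ≠ 0 → (g : Matrix (Fin 2) (Fin 2) F).mulVec v ≠ c • v) → χ g = 0) := by
  classical
  refine ⟨fun hd h01 h10 hne => ?_, fun hd hg => ?_⟩
  · rcases CfsgLib.RankOne.GLTwo.degree_cases hχ with ⟨α, -, h⟩ | ⟨_, _, h⟩ | ⟨_, _, _, _, h⟩ | ⟨hc, _⟩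
    rotate_left; rotate_left; rotate_left
    · exact hc.split (CfsgLib.Char.isClassFunction_of_isCharacter (CfsgLib.Char.isCharacter_of_isIrr hχ)) g h01 h10 hne
    all_goals rw [hd] at h
    · exfalso
      have h2 : (Fintype.card F : ℂ) = 2 := by linear_combination h
      have hq : Fintype.card F = 2 := by exact_mod_cast h2
      have hdet := ((Matrix.isUnit_iff_isUnit_det _).1 g.isUnit).ne_zero
      rw [Matrix.det_fin_two, h01, h10, mul_zero, sub_zero, mul_ne_zero_iff] at hdet
      refine hne ?_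
      have : Fintype.card Fˣ = 1 := by rw [Fintype.card_units, hq]
      exact congrArg Units.val ((Fintype.card_le_one_iff.1 this.le) (Units.mk0 _ hdet.1) (Units.mk0 _ hdet.2))
    · exact absurd h (by simp)
    · exact absurd (show (2 : ℂ) = 0 by linear_combination -h) two_ne_zero
  · rcases CfsgLib.RankOne.GLTwo.degree_cases hχ with ⟨_, _, h⟩ | ⟨_, _, h⟩ | ⟨α, β, -, rfl, -⟩ | ⟨_, h⟩
    rotate_left; rotate_left
    · exact CfsgLib.RankOne.GLTwo.ps_anisotropic α β g hg
    all_goals rw [hd] at h
    · exact absurd (show (2 : ℂ) = 0 by linear_combination h) two_ne_zero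
    · exact absurd (show (Fintype.card F : ℂ) = 0 by linear_combination h) (Nat.cast_ne_zero.2 Fintype.card_ne_zero)
    · exact absurd h (by simp)

end Cfsg.Agent.S2309
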