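import Cfsg.Statements.S2310
import Cfsg.Agent.Lib.RankOne.GLTwo
-- import your own Cfsg.Agent.* helpers here

set_option autoImplicit false
open Cfsg

namespace Cfsg.Agent.S2310

/-- Over a finite field F with q ≥ 3 elements, let u be the upper unitriangular matrix of GL₂ with off-diagonal entry 1. An irreducible complex character χ of GL₂ takes at u the value 1 if χ has degree 1 or q + 1, the value −1 if χ has degree q − 1, and the value 0 if χ has degree q. -/
theorem result {F : Type*} [Field F] [Fintype F] (hq : 3 ≤ Fintype.card F) (χ : Matrix.GeneralLinearGroup (Fin 2) F → ℂ) (hχ : Cfsg.IsIrrCharacter (Matrix.GeneralLinearGroup (Fin 2) F) χ)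
    (u : Matrix.GeneralLinearGroup (Fin 2) F) (hu : (u : Matrix (Fin 2) (Fin 2) F) = !![1, 1; 0, 1]) :
    (χ 1 = 1 → χ u = 1) ∧ (χ 1 = (Fintype.card F : ℂ) + 1 → χ u = 1) ∧
    (χ 1 = (Fintype.card F : ℂ) - 1 → χ u = -1) ∧ (χ 1 = (Fintype.card F : ℂ) → χ u = 0) := by
  classical
  have hu' : u = CfsgLib.RankOne.GLTwo.tri 1 1 1 := Units.ext (by
    rw [hu, CfsgLib.RankOne.GLTwo.tri_coe, Units.val_one])
  have hu'' : u = CfsgLib.RankOne.GLTwo.uGL (1 : F) := Units.ext (by
    rw [hu, CfsgLib.RankOne.GLTwo.uGL_coe])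
  have hps : ∀ α β : MulChar F ℂ, CfsgLib.RankOne.GLTwo.ps α β u = 1 := fun α β => by
    rw [hu', CfsgLib.RankOne.GLTwo.ps_tri]; simp
  have h01 : (Fintype.card F : ℂ) ≠ 0 := Nat.cast_ne_zero.2 Fintype.card_ne_zero
  have h1 := CfsgLib.RankOne.GLTwo.card_ne_one (F := F)
  have hq2 : (Fintype.card F : ℂ) - 1 ≠ 1 := fun e => by
    have h2 : (Fintype.card F : ℂ) = 2 := by linear_combination e
    have : Fintype.card F = 2 := by exact_mod_cast h2
    omega
  have h2 : (2 : ℂ) ≠ 0 := two_ne_zero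
  rcases CfsgLib.RankOne.GLTwo.degree_cases hχ with ⟨α, rfl, h⟩ | ⟨α, rfl, h⟩ | ⟨α, β, -, rfl, h⟩ | ⟨hc, h⟩
  · refine ⟨fun _ => ?_, fun e => ?_, fun e => ?_, fun e => ?_⟩
    · rw [hu', CfsgLib.RankOne.GLTwo.lin, CfsgLib.RankOne.GLTwo.tri_coe]; simp
    all_goals rw [h] at e
    · exact absurd (show (Fintype.card F : ℂ) = 0 by linear_combination -e) h01
    · exact absurd e.symm hq2
    · exact absurd e.symm h1
  · refine ⟨fun e => ?_, fun e => ?_, fun e => ?_, fun _ => ?_⟩
    rotate_left; rotate_left; rotate_left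
    · rw [CfsgLib.RankOne.GLTwo.stb, Pi.sub_apply, hps, hu', CfsgLib.RankOne.GLTwo.lin,
        CfsgLib.RankOne.GLTwo.tri_coe]; simp
    all_goals rw [h] at e
    · exact absurd e h1
    · exact absurd (show (1 : ℂ) = 0 by linear_combination -e) one_ne_zero
    · exact absurd (show (1 : ℂ) = 0 by linear_combination e) one_ne_zero
  · refine ⟨fun e => ?_, fun _ => hps α β, fun e => ?_, fun e => ?_⟩
    all_goals rw [h] at e
    · exact absurd (show (Fintype.card F : ℂ) = 0 by linear_combination e) h01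
    · exact absurd (show (2 : ℂ) = 0 by linear_combination e) h2
    · exact absurd (show (1 : ℂ) = 0 by linear_combination e) one_ne_zero
  · refine ⟨fun e => ?_, fun e => ?_, fun _ => ?_, fun e => ?_⟩
    rotate_left; rotate_left
    · rw [hu'']; exact (CfsgLib.RankOne.GLTwo.cusp_count.2 χ hχ hc).2.2 1 one_ne_zero
    all_goals rw [h] at e
    · exact absurd (show (1 : ℂ) = 0 by linear_combination -e) one_ne_zero
    · exact absurd e hq2
    · exact absurd (show (2 : ℂ) = 0 by linear_combination -e) h2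

end Cfsg.Agent.S2310
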