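import Cfsg.Statements.S2315
import Cfsg.Agent.Lib.Classical.NilpotentCount
import Cfsg.Agent.Lib.Unipotent.Order
-- import your own Cfsg.Agent.* helpers here

set_option autoImplicit false
open Cfsg

namespace Cfsg.Agent.S2315

/-- Steinberg's count of unipotent elements for the general linear group: over a finite field with q elements of characteristic p, the number of elements of GL_n of p-power order (the unipotent matrices) is q^(n(n−1)). -/
theorem result {F : Type*} [Field F] [Fintype F] (p : ℕ) [Fact p.Prime] [CharP F p] (n : ℕ) :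
    Nat.card {g : Matrix.GeneralLinearGroup (Fin n) F // ∃ k : ℕ, orderOf g = p ^ k} = Fintype.card F ^ (n * (n - 1)) := by
  classical
  have hval : ∀ g : {g : Matrix.GeneralLinearGroup (Fin n) F // ∃ k : ℕ, orderOf g = p ^ k},
      IsNilpotent ((g.1 : Matrix (Fin n) (Fin n) F) - 1) := fun g => by
    obtain ⟨j, hj⟩ := g.2
    exact CfsgLib.Unipotent.isNilpotent_of_orderOf p hj
  rw [← CfsgLib.NilCount.nilCard_eq]
  refine Nat.card_eq_of_bijective (fun g => ⟨(g.1 : Matrix (Fin n) (Fin n) F) - 1, hval g⟩) ⟨?_, ?_⟩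
  · intro g g' e
    exact Subtype.ext (Units.ext (sub_left_inj.1 (congrArg Subtype.val e)))
  · rintro ⟨N, hN⟩
    have hu : IsUnit (1 + N) := hN.isUnit_one_add
    refine ⟨⟨hu.unit, ?_⟩, Subtype.ext ?_⟩
    · have h1 : hu.unit ^ p ^ n = 1 := by
        rw [CfsgLib.Unipotent.pow_eq_one_iff p, IsUnit.unit_spec, add_sub_cancel_left]
        exact pow_eq_zero_of_le (Nat.lt_pow_self (Fact.out : p.Prime).one_lt).le
          (CfsgLib.Unipotent.pow_card_eq_zero hN)
      obtain ⟨j, -, hj⟩ := (Nat.dvd_prime_pow Fact.out).1 (orderOf_dvd_of_pow_eq_one h1)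
      exact ⟨j, hj⟩
    · show ((hu.unit : Matrix.GeneralLinearGroup (Fin n) F) : Matrix (Fin n) (Fin n) F) - 1 = N
      rw [IsUnit.unit_spec, add_sub_cancel_left]

end Cfsg.Agent.S2315
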