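import Cfsg.Statements.S2316
import Cfsg.Agent.Lib.Classical.SympCount
-- import your own Cfsg.Agent.* helpers here

set_option autoImplicit false
open Cfsg

namespace Cfsg.Agent.S2316

/-- Steinberg's count of unipotent elements for the symplectic group: over a finite field with q elements of characteristic p, the number of elements of Sp_{2m} of p-power order is q^(2m²). -/
theorem result {F : Type*} [Field F] [Fintype F] (p : ℕ) [Fact p.Prime] [CharP F p] (m : ℕ) :
    Nat.card {g : ↥(Matrix.symplecticGroup (Fin m) F) // ∃ k : ℕ, orderOf g = p ^ k} = Fintype.card F ^ (2 * m ^ 2) := by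
  classical
  open Polynomial CfsgLib.SympCount in
  rw [← Nat.card_eq_fintype_card, ← cntNil_group]
  refine Nat.card_congr ((Equiv.subtypeSubtypeEquivSubtypeExists _ _).trans
    (Matrix.toLin'.toEquiv.subtypeEquiv fun A => ?_))
  show _ ↔ CfsgLib.SympCount.Cond 1 0 (-1) (CfsgLib.SympCount.stdForm F m) (Matrix.toLin' A) ∧
    IsNilpotent (Polynomial.aeval (Matrix.toLin' A) (Polynomial.X - 1 : Polynomial F))
  rw [CfsgLib.SympCount.cond_toLin', one_smul, zero_smul, add_zero, neg_one_smul, ← sub_eq_add_neg,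
    sub_eq_zero, map_sub, map_one, Polynomial.aeval_X]
  have hpow : ∀ k, A ^ p ^ k = 1 ↔ (A - 1) ^ p ^ k = 0 := fun k => by
    rcases Nat.eq_zero_or_pos m with hm | hm
    · subst hm
      exact ⟨fun _ => Subsingleton.elim _ _, fun _ => Subsingleton.elim _ _⟩
    · have : Nonempty (Fin m ⊕ Fin m) := ⟨.inl ⟨0, hm⟩⟩
      rw [sub_pow_char_pow_of_commute p k (Commute.one_right A), one_pow, sub_eq_zero]
  have hnil : IsNilpotent (Matrix.toLin' A - 1) ↔ IsNilpotent (A - 1) := by
    rw [← IsNilpotent.map_iff (r := A - 1) (f := Matrix.toLinAlgEquiv') Matrix.toLinAlgEquiv'.injective,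
      map_sub, map_one]
    rfl
  rw [hnil]
  constructor
  · rintro ⟨hA, k, hk⟩
    refine ⟨SymplecticGroup.mem_iff'.1 hA, p ^ k, (hpow k).1 ?_⟩
    have := pow_orderOf_eq_one (⟨A, hA⟩ : ↥(Matrix.symplecticGroup (Fin m) F))
    rw [hk] at this
    exact congrArg Subtype.val this
  · rintro ⟨hA, j, hj⟩
    refine ⟨SymplecticGroup.mem_iff'.2 hA, ?_⟩
    have h1 : (⟨A, SymplecticGroup.mem_iff'.2 hA⟩ : ↥(Matrix.symplecticGroup (Fin m) F)) ^ p ^ j = 1 :=
      Subtype.ext ((hpow j).2 (pow_eq_zero_of_le (Nat.lt_pow_self (Fact.out : p.Prime).one_lt).le hj))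
    obtain ⟨i, -, hi⟩ := (Nat.dvd_prime_pow Fact.out).1 (orderOf_dvd_of_pow_eq_one h1)
    exact ⟨i, hi⟩

end Cfsg.Agent.S2316
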