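import Cfsg.Statements.S2317
import Cfsg.Agent.Lib.Classical.NilpotentClasses
import Cfsg.Agent.Lib.Unipotent.Order
-- import your own Cfsg.Agent.* helpers here

set_option autoImplicit false
open Cfsg

namespace Cfsg.Agent.S2317

/-- Over a finite field of characteristic p, the conjugacy classes of GL_n consisting of elements of p-power order (the unipotent classes) are as many as the partitions of n. -/
theorem result {F : Type*} [Field F] [Fintype F] (p : ℕ) [Fact p.Prime] [CharP F p] (n : ℕ) :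
    Nat.card {C : ConjClasses (Matrix.GeneralLinearGroup (Fin n) F) //
      ∃ g : Matrix.GeneralLinearGroup (Fin n) F, (∃ k : ℕ, orderOf g = p ^ k) ∧ ConjClasses.mk g = C} =
      Fintype.card (Nat.Partition n) := by
  classical
  -- chain lengths of a partition, and a model for it
  let lens : (P : Nat.Partition n) → Fin P.parts.toList.length → ℕ := fun P i => P.parts.toList.get i
  have hmap : ∀ P, Finset.univ.val.map (lens P) = P.parts := fun P => by
    rw [Fin.univ_val_map, List.ofFn_get, Multiset.coe_toList]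
  have hsum : ∀ P, ∑ i, lens P i = n := fun P => by
    rw [Finset.sum_eq_multiset_sum, hmap, P.parts_sum]
  choose f hf hC using fun P => CfsgLib.NilClasses.exists_model (F := F) (lens P) (hsum P)
  have hu : ∀ P, IsUnit (1 + LinearMap.toMatrix' (f P)) := fun P =>
    IsNilpotent.isUnit_one_add ((hf P).map LinearMap.toMatrixAlgEquiv')
  have hord : ∀ P, ∃ k : ℕ, orderOf (hu P).unit = p ^ k := fun P => by
    have h1 : (hu P).unit ^ p ^ n = 1 := by
      rw [CfsgLib.Unipotent.pow_eq_one_iff p, IsUnit.unit_spec, add_sub_cancel_left]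
      exact pow_eq_zero_of_le (Nat.lt_pow_self (Fact.out : p.Prime).one_lt).le
        (CfsgLib.Unipotent.pow_card_eq_zero ((hf P).map LinearMap.toMatrixAlgEquiv'))
    obtain ⟨j, -, hj⟩ := (Nat.dvd_prime_pow Fact.out).1 (orderOf_dvd_of_pow_eq_one h1)
    exact ⟨j, hj⟩
  rw [← Nat.card_eq_fintype_card]
  refine (Nat.card_eq_of_bijective (fun P => (⟨ConjClasses.mk (hu P).unit, (hu P).unit, hord P, rfl⟩ :
    {C : ConjClasses (Matrix.GeneralLinearGroup (Fin n) F) //
      ∃ g : Matrix.GeneralLinearGroup (Fin n) F, (∃ k : ℕ, orderOf g = p ^ k) ∧ ConjClasses.mk g = C}))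
    ⟨?_, ?_⟩).symm
  · intro P Q e
    obtain ⟨c, hc⟩ := isConj_iff.1 (ConjClasses.mk_eq_mk_iff_isConj.1 (congrArg Subtype.val e))
    have hrel : LinearMap.toMatrix' (f Q) = (c : Matrix (Fin n) (Fin n) F) * LinearMap.toMatrix' (f P) *
        ((c⁻¹ : Matrix.GeneralLinearGroup (Fin n) F) : Matrix (Fin n) (Fin n) F) := by
      have h1 := congrArg Units.val hc
      rw [Units.val_mul, Units.val_mul, IsUnit.unit_spec, IsUnit.unit_spec, mul_add, add_mul,
        mul_one, Units.mul_inv, add_right_inj] at h1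
      exact h1.symm
    have hrk : ∀ (R : Nat.Partition n) (k : ℕ),
        (LinearMap.toMatrix' (f R) ^ k).rank = (R.parts.map fun x => x - k).sum := by
      intro R k
      obtain ⟨C⟩ := hC R
      rw [show LinearMap.toMatrix' (f R) ^ k = LinearMap.toMatrix' (f R ^ k) from
          (map_pow LinearMap.toMatrixAlgEquiv' (f R) k).symm, Matrix.rank, ← Matrix.toLin'_apply',
        Matrix.toLin'_toMatrix', C.finrank_range_pow]
      conv_rhs => rw [← hmap R]
      rw [Multiset.map_map, Finset.sum_eq_multiset_sum]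
      rfl
    refine Nat.Partition.ext (CfsgLib.NilClasses.multiset_eq_of_sums (fun x hx => P.parts_pos hx)
      (fun x hx => Q.parts_pos hx) fun k => ?_)
    rw [← hrk, ← hrk, hrel, Units.conj_pow,
      Matrix.rank_mul_eq_left_of_isUnit_det _ _ ((Matrix.isUnit_iff_isUnit_det _).1 (c⁻¹).isUnit),
      Matrix.rank_mul_eq_right_of_isUnit_det _ _ ((Matrix.isUnit_iff_isUnit_det _).1 c.isUnit)]
  · rintro ⟨C, g, ⟨j, hj⟩, rfl⟩
    have hnil := CfsgLib.Unipotent.isNilpotent_of_orderOf p hj
    set N := (g : Matrix (Fin n) (Fin n) F) - 1 with hN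
    have hnil' : IsNilpotent (Matrix.toLin' N) := hnil.map Matrix.toLinAlgEquiv'
    obtain ⟨ι, hι, μ, hμ, ⟨D⟩⟩ :=
      CfsgLib.NilClasses.exists_chains n (Matrix.toLin' N) (Module.finrank_fin_fun F) hnil'
    have hμn : ∑ i, μ i = n := by
      have h1 := Module.finrank_eq_card_basis D.b
      rw [Module.finrank_fin_fun, Fintype.card_sigma] at h1
      simpa using h1.symm
    let P : Nat.Partition n := ⟨Finset.univ.val.map μ, by
      intro i hi
      obtain ⟨a, -, rfl⟩ := Multiset.mem_map.1 hi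
      exact hμ a, by rw [← Finset.sum_eq_multiset_sum, hμn]⟩
    obtain ⟨C⟩ := hC P
    obtain ⟨e, he⟩ := CfsgLib.NilClasses.exists_intertwine C D (hmap P)
    refine ⟨P, Subtype.ext (ConjClasses.mk_eq_mk_iff_isConj.2 (isConj_iff.2 ?_))⟩
    let c : Matrix.GeneralLinearGroup (Fin n) F :=
      ⟨LinearMap.toMatrix' (e : (Fin n → F) →ₗ[F] (Fin n → F)),
        LinearMap.toMatrix' (e.symm : (Fin n → F) →ₗ[F] (Fin n → F)),
        by rw [← LinearMap.toMatrix'_comp, ← LinearMap.toMatrix'_id]; congr 1; ext; simp,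
        by rw [← LinearMap.toMatrix'_comp, ← LinearMap.toMatrix'_id]; congr 1; ext; simp⟩
    refine ⟨c, mul_inv_eq_iff_eq_mul.2 (Units.ext ?_)⟩
    have hkey : LinearMap.toMatrix' (e : (Fin n → F) →ₗ[F] (Fin n → F)) * LinearMap.toMatrix' (f P) =
        N * LinearMap.toMatrix' (e : (Fin n → F) →ₗ[F] (Fin n → F)) := by
      rw [← LinearMap.toMatrix'_comp, show (e : (Fin n → F) →ₗ[F] (Fin n → F)) ∘ₗ f P =
        Matrix.toLin' N ∘ₗ (e : (Fin n → F) →ₗ[F] (Fin n → F)) from LinearMap.ext he,
        LinearMap.toMatrix'_comp, LinearMap.toMatrix'_toLin']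
    rw [Units.val_mul, Units.val_mul, IsUnit.unit_spec, mul_add, mul_one,
      show (c : Matrix (Fin n) (Fin n) F) = LinearMap.toMatrix' (e : (Fin n → F) →ₗ[F] (Fin n → F)) from rfl,
      hkey, hN, sub_mul, one_mul, add_sub_cancel]

end Cfsg.Agent.S2317
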