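import Cfsg.Statements.S2320
import Cfsg.Agent.Lib.RankOne.GLTwo
-- import your own Cfsg.Agent.* helpers here

set_option autoImplicit false
open Cfsg

namespace Cfsg.Agent.S2320

/-- Over a finite field F with q elements, every irreducible complex character of GL₂ of degree q takes a value of absolute value 1 at every diagonal matrix with two different diagonal entries and at every element with no eigenvector in F². -/
theorem result {F : Type*} [Field F] [Fintype F] (χ : Matrix.GeneralLinearGroup (Fin 2) F → ℂ) (hχ : Cfsg.IsIrrCharacter (Matrix.GeneralLinearGroup (Fin 2) F) χ) (hdeg : χ 1 = (Fintype.card F : ℂ)) (g : Matrix.GeneralLinearGroup (Fin 2) F) :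
    ((g : Matrix (Fin 2) (Fin 2) F) 0 1 = 0 → (g : Matrix (Fin 2) (Fin 2) F) 1 0 = 0 → (g : Matrix (Fin 2) (Fin 2) F) 0 0 ≠ (g : Matrix (Fin 2) (Fin 2) F) 1 1 → ‖χ g‖ = 1) ∧
    ((∀ (c : F) (v : Fin 2 → F), v ≠ 0 → (g : Matrix (Fin 2) (Fin 2) F).mulVec v ≠ c • v) → ‖χ g‖ = 1) := by
  classical
  rcases CfsgLib.RankOne.GLTwo.degree_cases hχ with ⟨_, _, h⟩ | ⟨α, rfl, -⟩ | ⟨_, _, _, _, h⟩ | ⟨_, h⟩
  rotate_left
  · have hdet := (Matrix.isUnit_iff_isUnit_det _).1 g.isUnit
    have hnorm : ∀ x : F, IsUnit x → ‖α x‖ = 1 := fun x hx => by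
      obtain ⟨y, rfl⟩ := hx
      exact Complex.norm_eq_one_of_pow_eq_one
        (by rw [← map_pow, ← Units.val_pow_eq_pow_val, pow_card_eq_one, Units.val_one, map_one]) Fintype.card_ne_zero
    refine ⟨fun h01 h10 hne => ?_, fun hg => ?_⟩
    · rw [CfsgLib.RankOne.GLTwo.stb, Pi.sub_apply, CfsgLib.RankOne.GLTwo.ps_apply,
        CfsgLib.RankOne.GLTwo.lin, Matrix.det_fin_two, h01, h10]
      simp only [if_true, mul_zero, zero_add, sub_zero, add_zero, mul_eq_zero, sub_eq_zero, hne, or_false,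
        Finset.sum_ite_eq', Finset.mem_univ, map_mul]
      rw [mul_comm (α ((g : Matrix (Fin 2) (Fin 2) F) 1 1)), add_sub_cancel_right, ← map_mul]
      rw [Matrix.det_fin_two, h01, zero_mul, sub_zero] at hdet
      exact hnorm _ hdet
    · rw [CfsgLib.RankOne.GLTwo.stb, Pi.sub_apply, CfsgLib.RankOne.GLTwo.ps_anisotropic α α g hg,
        zero_sub, norm_neg]
      exact hnorm _ hdet
  all_goals rw [hdeg] at h
  all_goals first
    | exact absurd h (CfsgLib.RankOne.GLTwo.card_ne_one (F := F))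
    | exact absurd h (by simp)
    | exact absurd (show (1 : ℂ) = 0 by linear_combination h) one_ne_zero

end Cfsg.Agent.S2320
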