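import Cfsg.Statements.S2322
import Cfsg.Agent.Lib.RankOne.SLDegree
-- import your own Cfsg.Agent.* helpers here

set_option autoImplicit false
open Cfsg

namespace Cfsg.Agent.S2322

/-- Over a finite field F with q elements, q odd: every irreducible complex character of SL₂ of degree q − 1 or (q − 1)/2 vanishes at every diagonal matrix whose diagonal entry a has a² ≠ 1, and every irreducible complex character of degree q + 1 or (q + 1)/2 vanishes at every element with no eigenvector in F². -/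
theorem result {F : Type*} [Field F] [Fintype F] (hodd : Odd (Fintype.card F)) (χ : Matrix.SpecialLinearGroup (Fin 2) F → ℂ) (hχ : Cfsg.IsIrrCharacter (Matrix.SpecialLinearGroup (Fin 2) F) χ) (g : Matrix.SpecialLinearGroup (Fin 2) F) :
    ((χ 1 = (Fintype.card F : ℂ) - 1 ∨ χ 1 = (((Fintype.card F - 1) / 2 : ℕ) : ℂ)) →
      (g : Matrix (Fin 2) (Fin 2) F) 0 1 = 0 → (g : Matrix (Fin 2) (Fin 2) F) 1 0 = 0 → (g : Matrix (Fin 2) (Fin 2) F) 0 0 ^ 2 ≠ 1 → χ g = 0) ∧
    ((χ 1 = (Fintype.card F : ℂ) + 1 ∨ χ 1 = (((Fintype.card F + 1) / 2 : ℕ) : ℂ)) →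
      (∀ (c : F) (v : Fin 2 → F), v ≠ 0 → (g : Matrix (Fin 2) (Fin 2) F).mulVec v ≠ c • v) → χ g = 0) := by
  classical
  have h2 := CfsgLib.RankOne.SLTwo.ringChar_of_odd hodd
  obtain ⟨c1, c2⟩ := CfsgLib.RankOne.SLTwo.half_cast hodd
  rw [c1, c2]
  refine ⟨fun hd h01 h10 hne => ?_, fun hd hg => ?_⟩
  · obtain ⟨a, b, rfl⟩ := CfsgLib.RankOne.SLTwo.exists_tri h10
    simp [CfsgLib.RankOne.SLTwo.tri_coe] at h01 hne
    subst h01
    have h4 : 4 ≤ Fintype.card F := by
      by_contra hlt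
      have : Fintype.card F = 3 := by
        have := Fintype.one_lt_card (α := F)
        obtain ⟨k, hk⟩ := hodd
        omega
      have := FiniteField.pow_card_sub_one_eq_one (a : F) a.ne_zero
      rw [‹Fintype.card F = 3›] at this
      exact absurd this (by simp [hne.1, hne.2])
    have hc : CfsgLib.RankOne.SLTwo.Cusp χ := hd.elim (CfsgLib.RankOne.SLTwo.kind_of_degree_pred h4 hχ)
      (CfsgLib.RankOne.SLTwo.kind_of_degree_half_pred h4 hχ)
    exact hc.split (CfsgLib.Char.isClassFunction_of_isCharacter (CfsgLib.Char.isCharacter_of_isIrr hχ)) a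
      (by simpa using hne)
  · have hirr : ∀ c : F, c * c - (g : Matrix (Fin 2) (Fin 2) F).trace * c + 1 ≠ 0 := by
      intro c hc
      have hdet := g.det_coe
      rw [Matrix.det_fin_two] at hdet
      rw [Matrix.trace_fin_two] at hc
      by_cases h01 : (g : Matrix (Fin 2) (Fin 2) F) 0 1 = 0
      · exact hg ((g : Matrix (Fin 2) (Fin 2) F) 1 1) ![0, 1] (by simp) (by
          ext i; fin_cases i <;> simp [h01])
      · refine hg c ![(g : Matrix (Fin 2) (Fin 2) F) 0 1, c - (g : Matrix (Fin 2) (Fin 2) F) 0 0]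
          (fun e => h01 (by simpa using congrFun e 0)) ?_
        ext i
        fin_cases i
        · simp [Matrix.mulVec, dotProduct, Fin.sum_univ_two]; ring
        · simp [Matrix.mulVec, dotProduct, Fin.sum_univ_two]
          linear_combination -hc - hdet
    have hns : CfsgLib.SL2.NonScalar (g : Matrix (Fin 2) (Fin 2) F) := by
      intro c hc
      exact hg c ![1, 0] (by simp) (by rw [hc]; ext i; fin_cases i <;> simp)
    have hcl := CfsgLib.Char.isClassFunction_of_isCharacter (CfsgLib.Char.isCharacter_of_isIrr hχ)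
    have hnorm : ∀ e : CfsgLib.RankOne.SLTwo.Half χ, χ g = 0 := by
      intro hh
      obtain ⟨η, hη2, hη1, -⟩ := id hh
      obtain ⟨ν, hν0, hν, -⟩ := CfsgLib.SL2.exists_nonsquare_dichotomy (F := F) h2
      have hs := ((hh.facts hχ).2.2 (Units.mk0 ν hν0) hν).2 η hη2 hη1 g
      rw [CfsgLib.RankOne.SLTwo.ps_anisotropic η g hg] at hs
      have ht : ((CfsgLib.RankOne.SLTwo.twist (Units.mk0 ν hν0) g : Matrix.SpecialLinearGroup (Fin 2) F) :
          Matrix (Fin 2) (Fin 2) F).trace = (g : Matrix (Fin 2) (Fin 2) F).trace := by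
        rw [CfsgLib.RankOne.SLTwo.twist_coe, Matrix.trace_fin_two, Matrix.trace_fin_two]; simp
      have h4' : (g : Matrix (Fin 2) (Fin 2) F).trace * (g : Matrix (Fin 2) (Fin 2) F).trace ≠ 4 := fun e =>
        hirr ((g : Matrix (Fin 2) (Fin 2) F).trace / 2) (by
          have := Ring.two_ne_zero h2
          field_simp
          linear_combination -e)
      obtain ⟨k, hk⟩ := CfsgLib.SL2.isConj_of_trace hns
        (CfsgLib.SL2.nonScalar_of_trace _ (by rw [ht]; exact h4')) ht.symm (Or.inl h4')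
      rw [← hk, hcl g k] at hs
      linear_combination (1 / 2 : ℂ) * hs
    rcases CfsgLib.RankOne.SLTwo.degree_cases hχ with
      ⟨-, e⟩ | ⟨-, e⟩ | ⟨⟨α, -, rfl⟩, -⟩ | ⟨hh, -⟩ | ⟨hc, e⟩ | ⟨-, -, e⟩
    · rcases hd with hd | hd <;> rw [hd] at e <;> have := congrArg Complex.re e <;> simp at this
      have := Fintype.one_lt_card (α := F)
      have : (2 : ℝ) ≤ Fintype.card F := by exact_mod_cast this
      linarith
    · rcases hd with hd | hd <;> rw [hd] at e <;> have := congrArg Complex.re e <;> simp at this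
      have := Fintype.one_lt_card (α := F)
      have : (2 : ℝ) ≤ Fintype.card F := by exact_mod_cast this
      linarith
    · exact CfsgLib.RankOne.SLTwo.ps_anisotropic α g hg
    · exact hnorm hh
    · have h3 : Fintype.card F = 3 := by
        rcases hd with hd | hd <;> rw [hd] at e
        · exact absurd (show (2 : ℂ) = 0 by linear_combination e) two_ne_zero
        · have : (Fintype.card F : ℂ) = 3 := by linear_combination -2 * e
          exact_mod_cast this
      have hcol := CfsgLib.Char.column_orthogonality g g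
      rw [if_pos (IsConj.refl g)] at hcol
      have hcard : Nat.card (Subgroup.centralizer ({g} : Set (Matrix.SpecialLinearGroup (Fin 2) F))) = 4 := by
        rw [(CfsgLib.SL2.cent_nonsplit hirr).2, Nat.card_eq_fintype_card, h3]
      rw [hcard] at hcol
      have : Finite (Cfsg.IrrCharacter (Matrix.SpecialLinearGroup (Fin 2) F)) := CfsgLib.Char.finite_irrCharacter
      have : Fintype (Cfsg.IrrCharacter (Matrix.SpecialLinearGroup (Fin 2) F)) := Fintype.ofFinite _
      have hB := (CfsgLib.RankOne.SLTwo.card_cusp_odd (F := F) h2).2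
      obtain ⟨x, y, hxy, -⟩ := Nat.card_eq_two_iff.1 hB
      obtain ⟨⟨μ, iμ⟩, cμ, dμ⟩ := x
      obtain ⟨⟨μ', iμ'⟩, cμ', dμ'⟩ := y
      have hμne : μ ≠ μ' := fun e => hxy (Subtype.ext (Subtype.ext e))
      rw [h3] at dμ dμ'
      norm_num at dμ dμ'
      have hlin : ∀ ξ : Matrix.SpecialLinearGroup (Fin 2) F → ℂ,
          Cfsg.IsIrrCharacter (Matrix.SpecialLinearGroup (Fin 2) F) ξ → ξ 1 = 1 → Complex.normSq (ξ g) = 1 := by
        intro ξ hξ h1
        rw [Complex.normSq_eq_norm_sq,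
          ← CfsgLib.Char.linearHom_apply (CfsgLib.Char.isCharacter_of_isIrr hξ) h1 g,
          Complex.norm_eq_one_of_pow_eq_one (n := orderOf g) (by
            rw [← Units.val_pow_eq_pow_val, ← map_pow, pow_orderOf_eq_one, map_one, Units.val_one])
            (orderOf_pos g).ne', one_pow]
      let w : Cfsg.IrrCharacter (Matrix.SpecialLinearGroup (Fin 2) F) → ℝ := fun ξ =>
        Complex.normSq ((ξ : Matrix.SpecialLinearGroup (Fin 2) F → ℂ) g)
      have htot : ∑ ξ, w ξ = 4 := by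
        have h' : ((∑ ξ, w ξ : ℝ) : ℂ) = 4 := by
          refine Eq.trans ?_ (hcol.trans (by norm_num))
          push_cast
          exact Finset.sum_congr (Finset.ext fun _ => by simp) fun ξ _ => (Complex.mul_conj _).symm
        exact_mod_cast h'
      let T : Cfsg.IrrCharacter (Matrix.SpecialLinearGroup (Fin 2) F) :=
        ⟨CfsgLib.RankOne.SLTwo.triv, CfsgLib.RankOne.SLTwo.isIrr_triv⟩
      let S : Cfsg.IrrCharacter (Matrix.SpecialLinearGroup (Fin 2) F) :=
        ⟨CfsgLib.RankOne.SLTwo.stb, CfsgLib.RankOne.SLTwo.isIrr_stb⟩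
      have hne : ∀ a b : Matrix.SpecialLinearGroup (Fin 2) F → ℂ, a 1 ≠ b 1 → a ≠ b := fun a b h e => h (e ▸ rfl)
      have hd2 : χ 1 = 2 := by rw [e, h3]; norm_num
      have dS : (CfsgLib.RankOne.SLTwo.stb : Matrix.SpecialLinearGroup (Fin 2) F → ℂ) 1 = 3 := by
        rw [CfsgLib.RankOne.SLTwo.stb_one, h3]; norm_num
      have n1 : T ≠ S := fun h => hne CfsgLib.RankOne.SLTwo.triv CfsgLib.RankOne.SLTwo.stb (by rw [dS]; simp [CfsgLib.RankOne.SLTwo.triv]) (congrArg Subtype.val h)
      have hTc : ¬ CfsgLib.RankOne.SLTwo.Cusp (CfsgLib.RankOne.SLTwo.triv : Matrix.SpecialLinearGroup (Fin 2) F → ℂ) := fun h => by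
        have := h 1
        simp [CfsgLib.RankOne.SLTwo.inner_triv_ps] at this
      have n2 : T ≠ ⟨μ, iμ⟩ := fun h => hTc (by rw [show CfsgLib.RankOne.SLTwo.triv = μ from congrArg Subtype.val h]; exact cμ)
      have n3 : T ≠ ⟨μ', iμ'⟩ := fun h => hTc (by rw [show CfsgLib.RankOne.SLTwo.triv = μ' from congrArg Subtype.val h]; exact cμ')
      have n4 : S ≠ ⟨μ, iμ⟩ := fun h => hne CfsgLib.RankOne.SLTwo.stb μ (by rw [dS, dμ]; norm_num) (congrArg Subtype.val h)
      have n5 : S ≠ ⟨μ', iμ'⟩ := fun h => hne CfsgLib.RankOne.SLTwo.stb μ' (by rw [dS, dμ']; norm_num) (congrArg Subtype.val h)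
      have n6 : (⟨μ, iμ⟩ : Cfsg.IrrCharacter (Matrix.SpecialLinearGroup (Fin 2) F)) ≠ ⟨μ', iμ'⟩ :=
        fun h => hμne (congrArg Subtype.val h)
      have hle := Finset.sum_le_univ_sum_of_nonneg (f := w)
        (s := {⟨χ, hχ⟩, T, S, ⟨μ, iμ⟩, ⟨μ', iμ'⟩}) fun ξ => Complex.normSq_nonneg _
      have m1 : (⟨χ, hχ⟩ : Cfsg.IrrCharacter (Matrix.SpecialLinearGroup (Fin 2) F)) ≠ T :=
        fun h => hne χ CfsgLib.RankOne.SLTwo.triv (by rw [hd2]; simp [CfsgLib.RankOne.SLTwo.triv]) (congrArg Subtype.val h)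
      have m2 : (⟨χ, hχ⟩ : Cfsg.IrrCharacter (Matrix.SpecialLinearGroup (Fin 2) F)) ≠ S :=
        fun h => hne χ CfsgLib.RankOne.SLTwo.stb (by rw [hd2, dS]; norm_num) (congrArg Subtype.val h)
      have m3 : (⟨χ, hχ⟩ : Cfsg.IrrCharacter (Matrix.SpecialLinearGroup (Fin 2) F)) ≠ ⟨μ, iμ⟩ :=
        fun h => hne χ μ (by rw [hd2, dμ]; norm_num) (congrArg Subtype.val h)
      have m4 : (⟨χ, hχ⟩ : Cfsg.IrrCharacter (Matrix.SpecialLinearGroup (Fin 2) F)) ≠ ⟨μ', iμ'⟩ :=
        fun h => hne χ μ' (by rw [hd2, dμ']; norm_num) (congrArg Subtype.val h)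
      rw [htot, Finset.sum_insert (by simp [m1, m2, m3, m4]), Finset.sum_insert (by simp [n1, n2, n3]),
        Finset.sum_insert (by simp [n4, n5]), Finset.sum_pair n6] at hle
      have wS : w S = 1 := by
        show Complex.normSq (CfsgLib.RankOne.SLTwo.stb g) = 1
        rw [CfsgLib.RankOne.SLTwo.stb, Pi.sub_apply, CfsgLib.RankOne.SLTwo.ps_anisotropic 1 g hg]
        simp [CfsgLib.RankOne.SLTwo.triv]
      have wT : w T = 1 := Complex.normSq_one
      rw [wS, wT, show w ⟨μ, iμ⟩ = 1 from hlin μ iμ dμ, show w ⟨μ', iμ'⟩ = 1 from hlin μ' iμ' dμ'] at hle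
      exact Complex.normSq_eq_zero.1 (le_antisymm
        (show Complex.normSq (χ g) ≤ 0 by
          have : w ⟨χ, hχ⟩ = Complex.normSq (χ g) := rfl
          linarith) (Complex.normSq_nonneg _))
    · rcases hd with hd | hd <;> rw [hd] at e <;> have := congrArg Complex.re e <;> simp at this
      all_goals
        have := Fintype.one_lt_card (α := F)
        have : (2 : ℝ) ≤ Fintype.card F := by exact_mod_cast this
        linarith

end Cfsg.Agent.S2322
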