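import Cfsg.Statements.S2323
import Cfsg.Agent.Lib.RankOne.SLDegree
-- import your own Cfsg.Agent.* helpers here

set_option autoImplicit false
open Cfsg

namespace Cfsg.Agent.S2323

/-- Over a finite field F with q ≥ 4 elements, let u be the upper unitriangular matrix of SL₂ with off-diagonal entry 1. An irreducible complex character of SL₂ takes at u the value 1 if its degree is q + 1 and the value −1 if its degree is q − 1. -/
theorem result {F : Type*} [Field F] [Fintype F] (hq : 4 ≤ Fintype.card F) (χ : Matrix.SpecialLinearGroup (Fin 2) F → ℂ) (hχ : Cfsg.IsIrrCharacter (Matrix.SpecialLinearGroup (Fin 2) F) χ)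
    (u : Matrix.SpecialLinearGroup (Fin 2) F) (hu : (u : Matrix (Fin 2) (Fin 2) F) = !![1, 1; 0, 1]) :
    (χ 1 = (Fintype.card F : ℂ) + 1 → χ u = 1) ∧ (χ 1 = (Fintype.card F : ℂ) - 1 → χ u = -1) := by
  classical
  obtain rfl := CfsgLib.RankOne.SLTwo.eq_uSL hu
  refine ⟨fun h => ?_, fun h => ?_⟩
  · obtain ⟨α, -, rfl⟩ := CfsgLib.RankOne.SLTwo.kind_of_degree_succ hχ h
    exact CfsgLib.RankOne.SLTwo.ps_uSL α one_ne_zero
  · have hc := CfsgLib.RankOne.SLTwo.kind_of_degree_pred hq hχ h
    rcases hc.shape hχ with ⟨-, hall⟩ | ⟨-, hd, -⟩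
    · rw [CfsgLib.RankOne.ures_expand CfsgLib.RankOne.SLTwo.uSL χ 1,
        ← Finset.add_sum_erase _ _ (Finset.mem_univ (0 : F)), hc.ures_zero' hχ, zero_mul, zero_add,
        Finset.sum_congr rfl (g := fun a => CfsgLib.RankOne.psi F (1 * a)) fun a ha => by
          rw [hall a (Finset.ne_of_mem_erase ha), one_mul, mul_comm],
        Finset.sum_erase_eq_sub (Finset.mem_univ _), CfsgLib.RankOne.psi_sum, if_neg one_ne_zero,
        mul_zero, AddChar.map_zero_eq_one, zero_sub]
    · exact absurd (show (Fintype.card F : ℂ) - 1 = 0 by rw [hd] at h; linear_combination -2 * h)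
        CfsgLib.RankOne.GLTwo.card_sub_one_ne


end Cfsg.Agent.S2323
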