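import Cfsg.Statements.S2324
import Cfsg.Agent.Lib.RankOne.SLDegree
-- import your own Cfsg.Agent.* helpers here

set_option autoImplicit false
open Cfsg

namespace Cfsg.Agent.S2324

/-- Over a finite field F with q elements, q odd and q ≥ 5, let u be the upper unitriangular matrix of SL₂ with off-diagonal entry 1 and let δ = (−1)^((q−1)/2). Every irreducible complex character χ of SL₂ of degree (q + 1)/2 satisfies (2χ(u) − 1)² = δq, and every irreducible complex character χ of degree (q − 1)/2 satisfies (2χ(u) + 1)² = δq; that is, χ(u) = (1 ± √(δq))/2 in the first case and χ(u) = (−1 ± √(δq))/2 in the second. Moreover two different irreducible characters of degree (q + 1)/2 take the two different values (their values at u add up to 1), and likewise for degree (q − 1)/2 (values adding up to −1). -/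
theorem result {F : Type*} [Field F] [Fintype F] (hodd : Odd (Fintype.card F)) (hq : 5 ≤ Fintype.card F)
    (u : Matrix.SpecialLinearGroup (Fin 2) F) (hu : (u : Matrix (Fin 2) (Fin 2) F) = !![1, 1; 0, 1]) :
    (∀ χ : Matrix.SpecialLinearGroup (Fin 2) F → ℂ, Cfsg.IsIrrCharacter (Matrix.SpecialLinearGroup (Fin 2) F) χ → χ 1 = (((Fintype.card F + 1) / 2 : ℕ) : ℂ) → (2 * χ u - 1) ^ 2 = (-1 : ℂ) ^ ((Fintype.card F - 1) / 2) * (Fintype.card F : ℂ)) ∧
    (∀ χ : Matrix.SpecialLinearGroup (Fin 2) F → ℂ, Cfsg.IsIrrCharacter (Matrix.SpecialLinearGroup (Fin 2) F) χ → χ 1 = (((Fintype.card F - 1) / 2 : ℕ) : ℂ) → (2 * χ u + 1) ^ 2 = (-1 : ℂ) ^ ((Fintype.card F - 1) / 2) * (Fintype.card F : ℂ)) ∧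
    (∀ χ₁ χ₂ : Matrix.SpecialLinearGroup (Fin 2) F → ℂ, Cfsg.IsIrrCharacter (Matrix.SpecialLinearGroup (Fin 2) F) χ₁ → Cfsg.IsIrrCharacter (Matrix.SpecialLinearGroup (Fin 2) F) χ₂ → χ₁ ≠ χ₂ →
      χ₁ 1 = (((Fintype.card F + 1) / 2 : ℕ) : ℂ) → χ₂ 1 = (((Fintype.card F + 1) / 2 : ℕ) : ℂ) → χ₁ u + χ₂ u = 1) ∧
    (∀ χ₁ χ₂ : Matrix.SpecialLinearGroup (Fin 2) F → ℂ, Cfsg.IsIrrCharacter (Matrix.SpecialLinearGroup (Fin 2) F) χ₁ → Cfsg.IsIrrCharacter (Matrix.SpecialLinearGroup (Fin 2) F) χ₂ → χ₁ ≠ χ₂ →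
      χ₁ 1 = (((Fintype.card F - 1) / 2 : ℕ) : ℂ) → χ₂ 1 = (((Fintype.card F - 1) / 2 : ℕ) : ℂ) → χ₁ u + χ₂ u = -1) := by
  classical
  obtain rfl := CfsgLib.RankOne.SLTwo.eq_uSL hu
  obtain ⟨c1, c2⟩ := CfsgLib.RankOne.SLTwo.half_cast hodd
  rw [c1, c2]
  have h4 : 4 ≤ Fintype.card F := by omega
  have h2 := CfsgLib.RankOne.SLTwo.ringChar_of_odd hodd
  obtain ⟨ν, hν0, hν, hd⟩ := CfsgLib.SL2.exists_nonsquare_dichotomy (F := F) h2
  have hhalf : ∀ χ : Matrix.SpecialLinearGroup (Fin 2) F → ℂ,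
      Cfsg.IsIrrCharacter (Matrix.SpecialLinearGroup (Fin 2) F) χ →
      CfsgLib.RankOne.SLTwo.Half χ →
      CfsgLib.RankOne.ures CfsgLib.RankOne.SLTwo.uSL χ 1 + CfsgLib.RankOne.ures CfsgLib.RankOne.SLTwo.uSL χ ν = 1 := by
    intro χ hχ hh
    obtain ⟨η, hη2, hη1, -⟩ := id hh
    have hν' : ¬ IsSquare (((Units.mk0 ν hν0)⁻¹ : Fˣ) : F) := fun hs => hν (by simpa using hs.inv)
    have hs := ((hh.facts hχ).2.2 _ hν').2 η hη2 hη1
    have : CfsgLib.RankOne.ures CfsgLib.RankOne.SLTwo.uSL (fun g => χ g + χ (CfsgLib.RankOne.SLTwo.twist (Units.mk0 ν hν0)⁻¹ g)) 1 = 1 := by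
      rw [show (fun g => χ g + χ (CfsgLib.RankOne.SLTwo.twist (Units.mk0 ν hν0)⁻¹ g)) = CfsgLib.RankOne.SLTwo.ps η from funext hs]
      exact CfsgLib.RankOne.SLTwo.ures_ps_ne η one_ne_zero
    rw [show (fun g => χ g + χ (CfsgLib.RankOne.SLTwo.twist (Units.mk0 ν hν0)⁻¹ g)) =
      χ + fun g => χ (CfsgLib.RankOne.SLTwo.twist (Units.mk0 ν hν0)⁻¹ g) from rfl,
      CfsgLib.RankOne.ures_add, CfsgLib.RankOne.SLTwo.ures_twist, inv_inv, mul_one] at this
    exact this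
  have hcusp : ∀ χ : Matrix.SpecialLinearGroup (Fin 2) F → ℂ,
      Cfsg.IsIrrCharacter (Matrix.SpecialLinearGroup (Fin 2) F) χ →
      χ 1 = ((Fintype.card F : ℂ) - 1) / 2 →
      CfsgLib.RankOne.ures CfsgLib.RankOne.SLTwo.uSL χ 1 + CfsgLib.RankOne.ures CfsgLib.RankOne.SLTwo.uSL χ ν = 1 ∧
        CfsgLib.RankOne.ures CfsgLib.RankOne.SLTwo.uSL χ 0 = 0 := by
    intro χ hχ he
    have hc := CfsgLib.RankOne.SLTwo.kind_of_degree_half_pred h4 hχ he
    refine ⟨?_, hc.ures_zero' hχ⟩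
    rcases hc.shape hχ with ⟨e, -⟩ | ⟨-, -, h⟩
    · exact absurd (show (Fintype.card F : ℂ) - 1 = 0 by rw [he] at e; linear_combination -2 * e)
        CfsgLib.RankOne.GLTwo.card_sub_one_ne
    · exact h (Units.mk0 ν hν0) hν
  have hν'' : ¬ IsSquare (((Units.mk0 ν hν0 : Fˣ)) : F) := hν
  refine ⟨fun χ hχ he => ?_, fun χ hχ he => ?_, fun χ₁ χ₂ i1 i2 hne e1 e2 => ?_, fun χ₁ χ₂ i1 i2 hne e1 e2 => ?_⟩
  · have hh := CfsgLib.RankOne.SLTwo.kind_of_degree_half h4 hχ he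
    have := CfsgLib.RankOne.SLTwo.value_root hχ hν0 hν hd (hhalf χ hχ hh)
    rw [(hh.facts hχ).2.1] at this
    linear_combination this
  · obtain ⟨hs, h0⟩ := hcusp χ hχ he
    have := CfsgLib.RankOne.SLTwo.value_root hχ hν0 hν hd hs
    rw [h0] at this
    linear_combination this
  · have hh := CfsgLib.RankOne.SLTwo.kind_of_degree_half h4 i1 e1
    have hh2 := CfsgLib.RankOne.SLTwo.kind_of_degree_half h4 i2 e2
    obtain ⟨η, hη2, hη1, -⟩ := id hh
    obtain ⟨μ₁, μ₂, j1, j2, jne, he, -⟩ := CfsgLib.RankOne.SLTwo.halves hη2 hη1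
    have hor : ∀ χ, Cfsg.IsIrrCharacter (Matrix.SpecialLinearGroup (Fin 2) F) χ →
        CfsgLib.RankOne.SLTwo.Half χ → χ = μ₁ ∨ χ = μ₂ := by
      intro χ hχ hx
      obtain ⟨η', a2, a1, hi⟩ := hx
      rw [← CfsgLib.RankOne.SLTwo.quad_unique hη2 hη1 a2 a1, he, CfsgLib.Char.classInner_add_right] at hi
      by_contra hc
      push Not at hc
      rw [CfsgLib.Char.classInner_irr_ne hχ j1 hc.1, CfsgLib.Char.classInner_irr_ne hχ j2 hc.2, add_zero] at hi
      exact hi rfl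
    have key : χ₁ (CfsgLib.RankOne.SLTwo.uSL 1) + χ₂ (CfsgLib.RankOne.SLTwo.uSL 1) =
        CfsgLib.RankOne.SLTwo.ps η (CfsgLib.RankOne.SLTwo.uSL 1) := by
      rw [he, Pi.add_apply]
      rcases hor χ₁ i1 hh with rfl | rfl <;> rcases hor χ₂ i2 hh2 with rfl | rfl
      · exact absurd rfl hne
      · rfl
      · exact add_comm _ _
      · exact absurd rfl hne
    rw [key, CfsgLib.RankOne.SLTwo.ps_uSL η one_ne_zero]
  · obtain ⟨s1, z1⟩ := hcusp χ₁ i1 e1
    have hc := CfsgLib.RankOne.SLTwo.kind_of_degree_half_pred h4 i1 e1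
    let tw := fun g => χ₁ (CfsgLib.RankOne.SLTwo.twist (Units.mk0 ν hν0)⁻¹ g)
    have itw : Cfsg.IsIrrCharacter (Matrix.SpecialLinearGroup (Fin 2) F) tw :=
      CfsgLib.RankOne.SLTwo.isIrr_twist i1 _
    have etw : tw 1 = ((Fintype.card F : ℂ) - 1) / 2 := by simp [tw, e1]
    have ctw : CfsgLib.RankOne.SLTwo.Cusp tw := fun α => by
      rw [CfsgLib.RankOne.SLTwo.inner_twist_ps]; exact hc α
    have utw : ∀ a : F, CfsgLib.RankOne.ures CfsgLib.RankOne.SLTwo.uSL tw a =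
        CfsgLib.RankOne.ures CfsgLib.RankOne.SLTwo.uSL χ₁ (ν * a) := fun a => by
      simp only [tw, CfsgLib.RankOne.SLTwo.ures_twist, inv_inv, Units.val_mk0]
    have htw : tw ≠ χ₁ := by
      intro e
      obtain ⟨m, hm⟩ := CfsgLib.RankOne.exists_nat_ures CfsgLib.RankOne.SLTwo.uSL
        (CfsgLib.Char.isCharacter_of_isIrr i1) 1
      have h := utw 1
      rw [e, mul_one] at h
      rw [← h, hm] at s1
      have : m + m = 1 := by exact_mod_cast s1
      omega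
    have h2card := (CfsgLib.RankOne.SLTwo.card_cusp_odd (F := F) h2).2
    have htwo : χ₂ = tw := by
      by_contra h3
      let T := {χ : Cfsg.IrrCharacter (Matrix.SpecialLinearGroup (Fin 2) F) //
        CfsgLib.RankOne.SLTwo.Cusp (χ : Matrix.SpecialLinearGroup (Fin 2) F → ℂ) ∧
          (χ : Matrix.SpecialLinearGroup (Fin 2) F → ℂ) 1 = ((Fintype.card F : ℂ) - 1) / 2}
      let v : Fin 3 → T := ![⟨⟨χ₁, i1⟩, hc, e1⟩,
        ⟨⟨χ₂, i2⟩, CfsgLib.RankOne.SLTwo.kind_of_degree_half_pred h4 i2 e2, e2⟩, ⟨⟨tw, itw⟩, ctw, etw⟩]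
      have hv : Function.Injective v := by
        intro a b e
        have e' := congrArg (fun x : T => (x.1 : Matrix.SpecialLinearGroup (Fin 2) F → ℂ)) e
        fin_cases a <;> fin_cases b <;> simp [v] at e' ⊢ <;>
          first
            | exact hne e' | exact hne e'.symm | exact h3 e' | exact h3 e'.symm
            | exact htw e' | exact htw e'.symm
      have : Finite T := Nat.finite_of_card_ne_zero (h2card.trans_ne two_ne_zero)
      have := Nat.card_le_card_of_injective v hv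
      rw [show Nat.card T = 2 from h2card, Nat.card_eq_fintype_card, Fintype.card_fin] at this
      omega
    obtain ⟨s2, z2⟩ := hcusp χ₂ i2 e2
    have hcl := CfsgLib.Char.isClassFunction_of_isCharacter (CfsgLib.Char.isCharacter_of_isIrr i1)
    have hcl2 := CfsgLib.Char.isClassFunction_of_isCharacter (CfsgLib.Char.isCharacter_of_isIrr i2)
    have hν1 : CfsgLib.RankOne.ures CfsgLib.RankOne.SLTwo.uSL χ₂ 1 =
        CfsgLib.RankOne.ures CfsgLib.RankOne.SLTwo.uSL χ₁ ν := by rw [htwo, utw, mul_one]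
    rw [CfsgLib.RankOne.SLTwo.expand_odd hcl hν0 hν hd 1, CfsgLib.RankOne.SLTwo.expand_odd hcl2 hν0 hν hd 1,
      if_neg one_ne_zero, z1, z2, s1, s2, hν1]
    have hν2 : CfsgLib.RankOne.ures CfsgLib.RankOne.SLTwo.uSL χ₂ ν =
        CfsgLib.RankOne.ures CfsgLib.RankOne.SLTwo.uSL χ₁ 1 := by linear_combination s2 - s1 - hν1
    rw [hν2]
    ring


end Cfsg.Agent.S2324
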