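import Cfsg.Statements.S2329
import Mathlib
import Cfsg.Agent.Lib.SL2.UnipotentClasses

set_option autoImplicit false
set_option linter.style.haveILetI false
open Cfsg

namespace Cfsg.Agent.S2329

/-- Over a finite field of characteristic p, any two elements of order p of GL₂ are conjugate: there is a single conjugacy class of non-identity unipotent elements. -/
theorem result {F : Type*} [Field F] [Fintype F] (p : ℕ) [Fact p.Prime] [CharP F p] (g h : Matrix.GeneralLinearGroup (Fin 2) F)
    (hg : orderOf g = p) (hh : orderOf h = p) : IsConj g h := by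
  have key : ∀ x : Matrix.GeneralLinearGroup (Fin 2) F, orderOf x = p →
      (x : Matrix (Fin 2) (Fin 2) F).trace = 2 ∧ (x : Matrix (Fin 2) (Fin 2) F).det = 1 ∧
      CfsgLib.SL2.NonScalar (x : Matrix (Fin 2) (Fin 2) F) := by
    intro x hx
    obtain ⟨a, b, c⟩ := CfsgLib.SL2.unip_facts p (x : Matrix (Fin 2) (Fin 2) F)
      (by rw [← Units.val_pow_eq_pow_val, ← hx, pow_orderOf_eq_one, Units.val_one])
    refine ⟨a, b, c fun e => ?_⟩
    rw [Units.val_eq_one.mp e, orderOf_one] at hx
    exact (Fact.out : p.Prime).ne_one hx.symm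
  obtain ⟨g1, g2, g3⟩ := key g hg
  obtain ⟨h1, h2, h3⟩ := key h hh
  obtain ⟨P, hP, hPg⟩ := CfsgLib.SL2.exists_conj_of_trace_det g3 h3 (g1.trans h1.symm)
    (g2.trans h2.symm)
  exact isConj_iff.mpr ⟨Matrix.GeneralLinearGroup.mkOfDetNeZero P hP,
    mul_inv_eq_iff_eq_mul.mpr (Units.ext hPg)⟩

end Cfsg.Agent.S2329
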