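import Cfsg.Statements.S2330
import Cfsg.Agent.Lib.SL2.Conj

set_option autoImplicit false
open Cfsg

namespace Cfsg.Agent.S2330

/-- Over a finite field with q elements, the general linear group GL₂ has exactly q² − 1 conjugacy classes. -/
theorem result {F : Type*} [Field F] [Fintype F] :
    Nat.card (ConjClasses (Matrix.GeneralLinearGroup (Fin 2) F)) = Fintype.card F ^ 2 - 1 := by
  classical
  set G := Matrix.GeneralLinearGroup (Fin 2) F
  let inv : G → Fˣ ⊕ (F × Fˣ) := fun g =>
    if h : ∃ c : Fˣ, (g : Matrix (Fin 2) (Fin 2) F) = (c : F) • 1 then Sum.inl h.choose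
    else Sum.inr ((g : Matrix (Fin 2) (Fin 2) F).trace, Matrix.GeneralLinearGroup.det g)
  have hns : ∀ g : G, (¬ ∃ c : Fˣ, (g : Matrix (Fin 2) (Fin 2) F) = (c : F) • 1) →
      CfsgLib.SL2.NonScalar (g : Matrix (Fin 2) (Fin 2) F) := by
    intro g hg c hc
    refine hg ⟨Units.mk0 c ?_, hc⟩
    intro h0
    have hd : IsUnit (g : Matrix (Fin 2) (Fin 2) F).det := (Matrix.isUnit_iff_isUnit_det _).mp g.isUnit
    rw [hc, h0, zero_smul] at hd
    exact hd.ne_zero (by simp)
  have hscal : ∀ c d : Fˣ, (c : F) • (1 : Matrix (Fin 2) (Fin 2) F) = (d : F) • 1 → c = d := by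
    intro c d h
    exact Units.ext (by simpa using congrFun (congrFun h 0) 0)
  have hinv : ∀ (a : G) (c : Fˣ), (a : Matrix (Fin 2) (Fin 2) F) = (c : F) • 1 → inv a = Sum.inl c := by
    intro a c hc
    have h : ∃ c : Fˣ, (a : Matrix (Fin 2) (Fin 2) F) = (c : F) • 1 := ⟨c, hc⟩
    simp only [inv, dif_pos h]
    rw [hscal _ _ (h.choose_spec.symm.trans hc)]
  have hconjscal : ∀ (k a : G) (c : Fˣ), (a : Matrix (Fin 2) (Fin 2) F) = (c : F) • 1 →
      ((k * a * k⁻¹ : G) : Matrix (Fin 2) (Fin 2) F) = (c : F) • 1 := by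
    intro k a c hc
    rw [Units.val_mul, Units.val_mul, hc, Matrix.mul_smul, Matrix.smul_mul, Matrix.mul_one,
      ← Units.val_mul, mul_inv_cancel, Units.val_one]
  let f : ConjClasses G → Fˣ ⊕ (F × Fˣ) := Quotient.lift inv (by
    intro a b hab
    obtain ⟨k, rfl⟩ := isConj_iff.mp hab
    by_cases h : ∃ c : Fˣ, (a : Matrix (Fin 2) (Fin 2) F) = (c : F) • 1
    · obtain ⟨c, hc⟩ := h
      rw [hinv a c hc, hinv _ c (hconjscal k a c hc)]
    · have h' : ¬ ∃ c : Fˣ, ((k * a * k⁻¹ : G) : Matrix (Fin 2) (Fin 2) F) = (c : F) • 1 := by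
        rintro ⟨c, hc⟩
        apply h
        refine ⟨c, ?_⟩
        have := hconjscal k⁻¹ (k * a * k⁻¹) c hc
        rwa [show k⁻¹ * (k * a * k⁻¹) * k⁻¹⁻¹ = a by rw [inv_inv k, mul_assoc k⁻¹, inv_mul_cancel_right (k * a) k, inv_mul_cancel_left k a]] at this
      simp only [inv, dif_neg h, dif_neg h']
      congr 1
      refine Prod.ext ?_ ?_
      · show _ = ((k * a * k⁻¹ : G) : Matrix (Fin 2) (Fin 2) F).trace
        rw [Units.val_mul, Units.val_mul, Matrix.trace_units_conj]
      · show Matrix.GeneralLinearGroup.det a = Matrix.GeneralLinearGroup.det (k * a * k⁻¹)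
        rw [map_mul, map_mul, map_inv, mul_comm (Matrix.GeneralLinearGroup.det k), mul_inv_cancel_right])
  have hf : Function.Bijective f := by
    constructor
    · intro x y
      refine Quotient.inductionOn₂ x y fun a b h => ?_
      have h' : inv a = inv b := h
      refine Quotient.sound ?_
      show IsConj a b
      by_cases ha : ∃ c : Fˣ, (a : Matrix (Fin 2) (Fin 2) F) = (c : F) • 1
      · by_cases hb : ∃ c : Fˣ, (b : Matrix (Fin 2) (Fin 2) F) = (c : F) • 1
        · obtain ⟨c, hc⟩ := ha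
          obtain ⟨d, hd⟩ := hb
          rw [hinv a c hc, hinv b d hd, Sum.inl.injEq] at h'
          have : a = b := Units.ext (by rw [hc, hd, h'])
          rw [this]
        · simp only [inv, dif_pos ha, dif_neg hb, reduceCtorEq] at h'
      · by_cases hb : ∃ c : Fˣ, (b : Matrix (Fin 2) (Fin 2) F) = (c : F) • 1
        · simp only [inv, dif_neg ha, dif_pos hb, reduceCtorEq] at h'
        · simp only [inv, dif_neg ha, dif_neg hb, Sum.inr.injEq, Prod.mk.injEq] at h'
          obtain ⟨ht, hd⟩ := h'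
          obtain ⟨P, hP, hPa⟩ := CfsgLib.SL2.exists_conj_of_trace_det (hns a ha) (hns b hb) ht
            (congrArg Units.val hd)
          refine isConj_iff.mpr ⟨Matrix.GeneralLinearGroup.mk'' P (isUnit_iff_ne_zero.mpr hP), ?_⟩
          rw [mul_inv_eq_iff_eq_mul]
          apply Units.ext
          rw [Units.val_mul, Units.val_mul]
          exact hPa
    · rintro (c | ⟨t, d⟩)
      · exact ⟨ConjClasses.mk (Matrix.GeneralLinearGroup.scalar (Fin 2) c), hinv _ c (by simp [Matrix.smul_one_eq_diagonal])⟩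
      · have hdet : IsUnit (!![(0 : F), -(d : F); 1, t]).det := by
          rw [Matrix.det_fin_two_of]
          simp
        refine ⟨ConjClasses.mk (Matrix.GeneralLinearGroup.mk'' _ hdet), ?_⟩
        have hn : ¬ ∃ c : Fˣ, ((Matrix.GeneralLinearGroup.mk'' _ hdet : G) : Matrix (Fin 2) (Fin 2) F) = (c : F) • 1 := by
          rintro ⟨c, hc⟩
          have h : (!![(0 : F), -(d : F); 1, t]) 1 0 = ((c : F) • (1 : Matrix (Fin 2) (Fin 2) F)) 1 0 :=
            congrFun (congrFun hc 1) 0
          simp at h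
        show inv _ = _
        simp only [inv, dif_neg hn, Sum.inr.injEq, Prod.mk.injEq]
        refine ⟨?_, Units.ext ?_⟩
        · show (!![(0 : F), -(d : F); 1, t]).trace = t
          rw [Matrix.trace_fin_two_of]; ring
        · show (!![(0 : F), -(d : F); 1, t]).det = d
          rw [Matrix.det_fin_two_of]; ring
  rw [Nat.card_eq_of_bijective f hf, Nat.card_sum, Nat.card_prod, Nat.card_units, Nat.card_eq_fintype_card]
  have h1 : 1 < Fintype.card F := Fintype.one_lt_card
  obtain ⟨m, hm⟩ : ∃ m, Fintype.card F = m + 1 := ⟨Fintype.card F - 1, by omega⟩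
  rw [hm, Nat.add_sub_cancel, show (m + 1) ^ 2 = m + (m + 1) * m + 1 by ring, Nat.add_sub_cancel]

end Cfsg.Agent.S2330
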