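import Cfsg.Statements.S2332
import Cfsg.Agent.Lib.SLMinDegree.Main

set_option autoImplicit false
open Cfsg

namespace Cfsg.Agent.S2332

/-- Smallest degree of a non-linear irreducible complex representation of SL_n over a finite field with q elements, for n ≥ 3 and (n, q) not one of (3, 2), (3, 4), (4, 2), (4, 3): every irreducible complex representation of SL_n(F) of degree at least 2 has degree at least (q^n − q)/(q − 1), and there is an irreducible complex representation of exactly that degree. -/
theorem result {F : Type*} [Field F] [Fintype F] [DecidableEq F] (n : ℕ) (hn : 3 ≤ n)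
    (hex : (n, Fintype.card F) ≠ (3, 2) ∧ (n, Fintype.card F) ≠ (3, 4) ∧ (n, Fintype.card F) ≠ (4, 2) ∧ (n, Fintype.card F) ≠ (4, 3)) :
    (∀ (k : ℕ) (ρ : Representation ℂ (Matrix.SpecialLinearGroup (Fin n) F) (Fin k → ℂ)), ρ.IsIrreducible → 2 ≤ k → (Fintype.card F ^ n - Fintype.card F) / (Fintype.card F - 1) ≤ k) ∧
    (∃ ρ : Representation ℂ (Matrix.SpecialLinearGroup (Fin n) F) (Fin ((Fintype.card F ^ n - Fintype.card F) / (Fintype.card F - 1)) → ℂ), ρ.IsIrreducible) := by
  obtain ⟨m, rfl⟩ : ∃ m, n = m + 1 := ⟨n - 1, by omega⟩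
  have hq : 1 < Fintype.card F := Fintype.one_lt_card
  have hdeg : (Fintype.card F ^ (m + 1) - Fintype.card F) / (Fintype.card F - 1) =
      Fintype.card F * CfsgLib.SLMinDegree.pts (Fintype.card F) m := by
    refine Nat.div_eq_of_eq_mul_left (by omega) ?_
    rw [mul_assoc, mul_comm _ (Fintype.card F - 1), CfsgLib.SLMinDegree.sub_one_mul_pts hq.le,
      pow_succ', Nat.mul_sub, mul_one]
  obtain ⟨hA, hB, hC, hD⟩ := hex
  simp only [ne_eq, Prod.mk.injEq] at hA hB hC hD
  refine ⟨fun k ρ hρ hk => ?_, ?_⟩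
  · rw [hdeg]
    have h1 : ρ.character 1 = (k : ℂ) := by
      rw [Representation.char_one, Module.finrank_fin_fun]
    have h := CfsgLib.SLMinDegree.bound (F := F) (m + 1) hn (by omega) (by omega) ρ.character
      ⟨k, ρ, hρ, rfl⟩ (fun e => by
        have := congrFun e 1
        rw [h1, Nat.cast_eq_one] at this
        omega) k h1
    simpa using h
  · rw [hdeg]
    obtain ⟨χ, ⟨d, ρ, hρ, he⟩, hd⟩ := CfsgLib.SLMinDegree.exists_minimal (F := F) (m := m) (by omega)
    have : d = Fintype.card F * CfsgLib.SLMinDegree.pts (Fintype.card F) m := by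
      rw [← he, Representation.char_one, Module.finrank_fin_fun] at hd
      exact_mod_cast hd
    subst this
    exact ⟨ρ, hρ⟩

end Cfsg.Agent.S2332
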