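import Cfsg.Statements.S2333
import Cfsg.Agent.Lib.SpEvenMinDegree.Main

set_option autoImplicit false
open Cfsg

namespace Cfsg.Agent.S2333

/-- For a finite field F of even order q and n ≥ 2 with (n, q) ≠ (2, 2), every irreducible complex representation of the symplectic group Sp_{2n}(F) of degree at least 2 has degree at least (q^n − 1)(q^n − q)/(2(q + 1)). -/
theorem result {F : Type*} [Field F] [Fintype F] [DecidableEq F] (n : ℕ) (hn : 2 ≤ n) (heven : Even (Fintype.card F)) (hex : (n, Fintype.card F) ≠ (2, 2)) :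
    (∀ (k : ℕ) (ρ : Representation ℂ (Matrix.symplecticGroup (Fin n) F) (Fin k → ℂ)), ρ.IsIrreducible → 2 ≤ k → (Fintype.card F ^ n - 1) * (Fintype.card F ^ n - Fintype.card F) / (2 * (Fintype.card F + 1)) ≤ k) := by
  intro k ρ hρ hk
  have hnt : ∃ g, ρ g ≠ 1 := by
    by_contra hc
    push Not at hc
    let v : Fin k → ℂ := Pi.single ⟨0, by omega⟩ 1
    let W : Subrepresentation ρ := ⟨Submodule.span ℂ {v}, fun g x hx => by rw [hc g]; exact hx⟩
    have := hρ
    have hW : Module.finrank ℂ W.toSubmodule = 1 := finrank_span_singleton (by simp [v])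
    rcases IsSimpleOrder.eq_bot_or_eq_top W with h | h
    · rw [h, show (⊥ : Subrepresentation ρ).toSubmodule = ⊥ from rfl, finrank_bot] at hW
      omega
    · rw [h, show (⊤ : Subrepresentation ρ).toSubmodule = ⊤ from rfl, finrank_top, Module.finrank_fin_fun] at hW
      omega
  have h := CfsgLib.SpEvenMinDegree.degree_bound ρ hn heven hex hnt
  rw [Module.finrank_fin_fun] at h
  exact Nat.div_le_of_le_mul h

end Cfsg.Agent.S2333
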