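import Cfsg.Statements.S2335
import Cfsg.Agent.Lib.SUMinDegree.Main

set_option autoImplicit false
open Cfsg

namespace Cfsg.Agent.S2335

/-- For even n ≥ 4 and a finite field F with q² elements, (n, q) not (4, 2) or (4, 3), every irreducible complex representation of the special unitary group SU_n(q) (the determinant-one isometries of the standard Hermitian form over F) of degree at least 2 has degree at least (q^n − 1)/(q + 1). -/
theorem result {F : Type*} [Field F] [Fintype F] [DecidableEq F] (n q : ℕ) (hn : 4 ≤ n) (heven : Even n) (hF : Fintype.card F = q ^ 2) (hex : (n, q) ≠ (4, 2) ∧ (n, q) ≠ (4, 3)) :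
    (∀ (k : ℕ) (ρ : Representation ℂ (Cfsg.SU n F q) (Fin k → ℂ)), ρ.IsIrreducible → 2 ≤ k → (q ^ n - 1) / (q + 1) ≤ k) := by
  intro k ρ hρ hk
  obtain ⟨p, hp⟩ := CharP.exists F
  obtain ⟨e, hpp, hcard⟩ := FiniteField.card F p
  have := Fact.mk hpp
  obtain ⟨f, -, hf⟩ := (Nat.dvd_prime_pow hpp).1
    (show q ∣ p ^ (e : ℕ) by rw [← hcard, hF]; exact dvd_pow_self q two_ne_zero)
  obtain ⟨K⟩ := CfsgLib.ClassicalAut.Unitary.exists_conj (F := F) hf
    (by rw [Nat.card_eq_fintype_card, hF])
  obtain ⟨m, rfl⟩ := heven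
  have h := CfsgLib.SUMinDegree.degree_bound K (by omega) (fun h => by omega) (m := m) (by omega) ρ hρ hk
  rwa [show m + m - 2 * m = 0 by omega, pow_zero] at h

end Cfsg.Agent.S2335
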