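import Cfsg.Statements.S2336
import Cfsg.Agent.Lib.SLMinDegree.Perm

set_option autoImplicit false
open Cfsg CfsgLib.SLMinDegree CfsgLib.Char

namespace Cfsg.Agent.S2336

/-- Let F be a finite field with q elements and n ≥ 3. The permutation character of SL_n(F) on the non-zero vectors of F^n (the function sending a matrix to the number of non-zero vectors it fixes) is the sum of the principal character and q − 1 pairwise distinct irreducible complex characters. -/
theorem result {F : Type*} [Field F] [Fintype F] [DecidableEq F] (n : ℕ) (hn : 3 ≤ n) :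
    ∃ χ : Fin (Fintype.card F - 1) → (Matrix.SpecialLinearGroup (Fin n) F → ℂ),
      (∀ i, Cfsg.IsIrrCharacter (Matrix.SpecialLinearGroup (Fin n) F) (χ i)) ∧ Function.Injective χ ∧
      ∀ g : Matrix.SpecialLinearGroup (Fin n) F,
        (Nat.card {v : Fin n → F // v ≠ 0 ∧ (g : Matrix (Fin n) (Fin n) F).mulVec v = v} : ℂ) = 1 + ∑ i, χ i g := by
  classical
  obtain ⟨m, rfl⟩ : ∃ m, n = m + 1 := ⟨n - 1, by omega⟩
  have hm : 2 ≤ m := by omega
  have : Fintype (Fˣ →* ℂˣ) := by
    have := finite_hom (F := F)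
    exact Fintype.ofFinite _
  obtain ⟨hirr, hirr1⟩ := piChar_spec (F := F) hm
  let e : Fin (Fintype.card F - 1) ≃ (Fˣ →* ℂˣ) := (Fintype.equivFinOfCardEq (by
    rw [← Nat.card_eq_fintype_card, card_hom_units, Nat.card_units, Nat.card_eq_fintype_card])).symm
  let χ' : (Fˣ →* ℂˣ) → Matrix.SpecialLinearGroup (Fin (m + 1)) F → ℂ := fun μ =>
    if μ = 1 then piChar μ - (fun _ => 1) else piChar μ
  have hirr' : ∀ μ, IsIrrCharacter _ (χ' μ) := fun μ => by
    simp only [χ']
    split_ifs with h
    · subst h; exact hirr1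
    · exact hirr μ h
  let π := indFun (QG m F) fun _ => (1 : ℂ)
  have hsum : π = (fun _ => 1) + ∑ μ, χ' μ := by
    show indFun (QG m F) (fun _ => (1 : ℂ)) = _
    rw [← sum_piChar hm]
    have : ∀ μ : Fˣ →* ℂˣ, (piChar μ : Matrix.SpecialLinearGroup (Fin (m + 1)) F → ℂ) =
        χ' μ + (if μ = 1 then (fun _ => (1 : ℂ)) else (0 : Matrix.SpecialLinearGroup (Fin (m + 1)) F → ℂ)) := fun μ => by
      simp only [χ']
      split_ifs with h <;> simp
    rw [Finset.sum_congr rfl fun μ _ => this μ, Finset.sum_add_distrib, Finset.sum_ite_eq',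
      if_pos (Finset.mem_univ _)]
    exact add_comm _ _
  have hone : classInner π (fun _ => 1) = 1 := by
    show classInner (indFun (QG m F) _) _ = 1
    rw [frobenius_reciprocity _ _ (isClassFunction_of_isCharacter isCharacter_one)]
    simp [classInner]
  have hnorm : classInner (∑ μ, χ' μ) (∑ μ, χ' μ) = ((Fintype.card F - 1 : ℕ) : ℂ) := by
    rw [eq_sub_of_add_eq' hsum.symm, classInner_sub_left, classInner_sub_right, classInner_sub_right,
      norm_perm hm, ← classInner_conj_symm π, hone, map_one, classInner_irr_self isIrrCharacter_one,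
      Nat.cast_sub Fintype.card_pos, Nat.cast_one]
    ring
  have hinj : Function.Injective χ' := by
    rw [classInner_sum_left, Finset.sum_congr rfl fun μ _ => classInner_sum_right _ (χ' μ) χ'] at hnorm
    have hij : ∀ μ ν, classInner (χ' μ) (χ' ν) = ((if χ' μ = χ' ν then 1 else 0 : ℕ) : ℂ) := fun μ ν => by
      split_ifs with h
      · rw [h, classInner_irr_self (hirr' ν), Nat.cast_one]
      · rw [classInner_irr_ne (hirr' μ) (hirr' ν) h, Nat.cast_zero]
    simp only [hij, ← Nat.cast_sum, Nat.cast_inj] at hnorm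
    intro μ ν h
    by_contra hne
    have h2 : ∑ _μ : Fˣ →* ℂˣ, 1 < ∑ μ, ∑ ν, if χ' μ = χ' ν then 1 else 0 := by
      refine Finset.sum_lt_sum (fun a _ => ?_) ⟨μ, Finset.mem_univ _, ?_⟩
      · exact le_trans (by simp) (Finset.single_le_sum (fun b _ => Nat.zero_le _) (Finset.mem_univ a))
      · refine lt_of_lt_of_le (show 1 < 2 by decide) (le_trans (le_of_eq ?_)
          (Finset.sum_le_sum_of_subset (Finset.subset_univ {μ, ν})))
        rw [Finset.sum_pair hne, if_pos rfl, if_pos h]
    rw [hnorm, Finset.sum_const, Finset.card_univ, ← Nat.card_eq_fintype_card, card_hom_units,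
      Nat.card_units, Nat.card_eq_fintype_card, smul_eq_mul, mul_one] at h2
    omega
  refine ⟨fun i => χ' (e i), fun i => hirr' _, hinj.comp e.injective, fun g => ?_⟩
  rw [show ∑ i, χ' (e i) g = (∑ μ, χ' μ) g by
    rw [Finset.sum_apply]; exact Fintype.sum_equiv e _ _ fun i => rfl]
  have hg : (π g : ℂ) = 1 + (∑ μ, χ' μ) g := by rw [hsum]; rfl
  rw [← hg]
  let X := MulAction.orbit (Matrix.SpecialLinearGroup (Fin (m + 1)) F) (e0 : Fin (m + 1) → F)
  have hstab : MulAction.stabilizer (Matrix.SpecialLinearGroup (Fin (m + 1)) F)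
      (⟨e0, MulAction.mem_orbit_self _⟩ : X) = QG m F := by
    ext x
    rw [MulAction.mem_stabilizer_iff, QG, MulAction.mem_stabilizer_iff, Subtype.ext_iff]
    rfl
  have hperm := congrFun (perm_eq_indFun X (G := Matrix.SpecialLinearGroup (Fin (m + 1)) F)
    ⟨e0, MulAction.mem_orbit_self _⟩) g
  show _ = indFun (QG m F) _ g
  rw [hstab] at hperm
  rw [← hperm, Nat.cast_inj]
  refine Nat.card_congr
    { toFun := fun v => ⟨⟨v.1, exists_smul_e0 hm v.2.1⟩, Subtype.ext v.2.2⟩
      invFun := fun v => ⟨v.1.1, fun h => ?_, congrArg Subtype.val v.2⟩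
      left_inv := fun v => rfl
      right_inv := fun v => rfl }
  obtain ⟨x, hx⟩ := v.1.2
  have h0 : x • (e0 : Fin (m + 1) → F) = 0 := hx.trans h
  rw [smul_eq_zero_iff_eq] at h0
  exact e0_ne h0

end Cfsg.Agent.S2336
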