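import Cfsg.Statements.S2337
import Cfsg.Agent.Lib.Suzuki.MinDeg
import Cfsg.Agent.Lib.Suzuki.LieEquiv
-- import your own Cfsg.Agent.* helpers here

set_option autoImplicit false
open Cfsg

namespace Cfsg.Agent.S2337

open CfsgLib.Suzuki

/-- For the Suzuki group Sz(q), q = 2^(2m+1) with m ≥ 1 (realised inside Sp₄ over the field with q elements), every irreducible complex representation of degree at least 2 has degree at least 2^m·(q − 1). -/
theorem result {F : Type*} [Field F] [Fintype F] (m : ℕ) (hm : 1 ≤ m) (hF : Fintype.card F = 2 ^ (2 * m + 1)) :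
    (∀ (k : ℕ) (ρ : Representation ℂ (Cfsg.Lie.Sz F (2 ^ (m + 1))) (Fin k → ℂ)), ρ.IsIrreducible → 2 ≤ k → 2 ^ m * (2 ^ (2 * m + 1) - 1) ≤ k) := by
  intro k ρ hirr hk
  haveI := charP_two_of_card hF
  haveI : Param F m := ⟨hm, hF⟩
  let ρ' : Gp F m →* Module.End ℂ (Fin k → ℂ) := MonoidHom.comp ρ (lieEquiv F m).toMonoidHom
  suffices hb : ρ' (gT 0 1) ≠ 1 by
    have h := MinDeg.degree_bound ρ' hb
    rwa [Module.finrank_fin_fun, hF] at h
  intro hb
  have hS := isSimpleGroup_gp (F := F) (m := m)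
  have htriv : ∀ g, ρ g = 1 := by
    intro g
    obtain ⟨g, rfl⟩ := (lieEquiv F m).surjective g
    rcases (ρ'.normal_ker).eq_bot_or_eq_top with h | h
    · have : gT (m := m) (0 : F) 1 ∈ ρ'.ker := MonoidHom.mem_ker.2 hb
      rw [h, Subgroup.mem_bot, ← gT_zero] at this
      exact absurd (gT_inj this).2 one_ne_zero
    · exact MonoidHom.mem_ker.1 (show g ∈ ρ'.ker from h ▸ Subgroup.mem_top g)
  let e0 : Fin k → ℂ := Pi.single ⟨0, by omega⟩ 1
  let σ : Subrepresentation ρ :=
    ⟨Submodule.span ℂ {e0}, fun g v hv => by rw [htriv g]; exact hv⟩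
  have he0 : e0 ≠ 0 := fun h => one_ne_zero (α := ℂ) (by simpa [e0] using congrFun h ⟨0, by omega⟩)
  rcases hirr.eq_bot_or_eq_top σ with h | h
  · have h' : Submodule.span ℂ {e0} = ⊥ := congrArg Subrepresentation.toSubmodule h
    exact he0 (Submodule.span_singleton_eq_bot.1 h')
  · have h' : Submodule.span ℂ {e0} = ⊤ := congrArg Subrepresentation.toSubmodule h
    have := finrank_span_singleton (K := ℂ) he0
    rw [h', finrank_top, Module.finrank_fin_fun] at this
    omega

end Cfsg.Agent.S2337
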