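import Cfsg.Statements.S2343
import Cfsg.Agent.Lib.Ree.MinDegree

set_option autoImplicit false
open Cfsg

namespace Cfsg.Agent.S2343

/-- For the Ree group ²G₂(q), q = 3^(2m+1) with m ≥ 1 (realised over the field with q elements), every irreducible complex representation of degree at least 2 has degree at least q² − q + 1. -/
theorem result {K : Type*} [Field K] [Fintype K] (m : ℕ) (hm : 1 ≤ m) (hK : Fintype.card K = 3 ^ (2 * m + 1)) :
    (∀ (k : ℕ) (ρ : Representation ℂ (Cfsg.Lie.twistedG2 K (3 ^ m)) (Fin k → ℂ)), ρ.IsIrreducible → 2 ≤ k → (3 ^ (2 * m + 1)) ^ 2 - 3 ^ (2 * m + 1) + 1 ≤ k) := by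
  haveI := CfsgLib.Chev.charThree_G2 hK
  obtain ⟨f, hf, hK'⟩ := CfsgLib.Chev.setupG2 hK
  have he : 3 ≤ 3 ^ m := Nat.le_self_pow (by omega) 3
  rw [← CfsgLib.Chev.fix_eq_twistedG2 f hf hK']
  intro k ρ hirr hk
  have h := CfsgLib.Ree.min_degree f hf hK' he
    ((CfsgLib.Chev.endoG2 f).simple_of_eq rfl (CfsgLib.Chev.std_fixG2 f hf hK') Fintype.one_lt_card
      (CfsgLib.Chev.hcardG2 f hf hK') CfsgLib.Chev.chkLinkTwG2
      (CfsgLib.Chev.perfectTwG2 f hf hK' he) (by simp [CfsgLib.Chev.dataTwG2])).1 k ρ hirr hk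
  rw [hK] at h
  exact h

end Cfsg.Agent.S2343
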