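import Cfsg.Statements.S2345
import Cfsg.Agent.Lib.OrthMinDegree.Plus

set_option autoImplicit false
open Cfsg

namespace Cfsg.Agent.S2345

/-- For a finite field F with q > 3 elements and n ≥ 4, every irreducible complex representation of degree at least 2 of Ω⁺_{2n}(F) (the commutator subgroup of the isometry group of the hyperbolic quadratic form x₁y₁ + ⋯ + x_ny_n) has degree at least (q^n − 1)(q^{n−1} + q)/(q² − 1). -/
theorem result {F : Type*} [Field F] [Fintype F] (n : ℕ) (hn : 4 ≤ n) (h3 : 3 < Fintype.card F) :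
    (∀ (k : ℕ) (ρ : Representation ℂ (Cfsg.Omega F (Cfsg.quadFormPlus n F)) (Fin k → ℂ)), ρ.IsIrreducible → 2 ≤ k → (Fintype.card F ^ n - 1) * (Fintype.card F ^ (n - 1) + Fintype.card F) / (Fintype.card F ^ 2 - 1) ≤ k) := by
  classical
  intro k ρ hρ hk
  obtain ⟨i, rfl⟩ : ∃ i, n = i + 3 := ⟨n - 3, by omega⟩
  obtain ⟨Q, hQ, hB⟩ := CfsgLib.Orth.exists_quadForm_plus (F := F) (i + 3)
  have hm := CfsgLib.OrthMinDegree.plus_minB (F := F) h3 i Q hQ hB
  unfold CfsgLib.OrthMinDegree.MinB CfsgLib.OrthMinDegree.OG at hm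
  rw [hQ] at hm
  have h1 : ρ.character 1 = (k : ℂ) := by
    rw [Representation.char_one, Module.finrank_fin_fun]
  have hb := hm ρ.character ⟨k, ρ, hρ, rfl⟩ (fun e => by
    have := congrFun e 1
    rw [h1, Nat.cast_eq_one] at this
    omega) k h1
  refine (Nat.div_le_of_le_mul ?_).trans hb
  refine le_of_eq ?_
  have hq : 2 ≤ Fintype.card F := by omega
  have hf := CfsgLib.OrthMinDegree.kP_formula hq i
  have e1 : 1 ≤ Fintype.card F ^ 2 := Nat.one_le_pow _ _ (by omega)
  have e2 : 1 ≤ Fintype.card F ^ (i + 3) := Nat.one_le_pow _ _ (by omega)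
  rw [show i + 3 - 1 = i + 2 from rfl]
  zify [e1, e2]
  linear_combination -hf

end Cfsg.Agent.S2345
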