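import Cfsg.Statements.S2346
import Cfsg.Agent.Lib.OrthMinDegree.ThirtyTwo

set_option autoImplicit false
open Cfsg

namespace Cfsg.Agent.S2346

/-- For a finite field F with q elements, n ≥ 4, and a, b ∈ F with z₁² + a z₁z₂ + b z₂² anisotropic, every irreducible complex representation of degree at least 2 of Ω⁻_{2n}(F) (the commutator subgroup of the isometry group of x₁y₁ + ⋯ + x_{n−1}y_{n−1} + z₁² + a z₁z₂ + b z₂²) has degree at least (q^n + 1)(q^{n−1} − q)/(q² − 1). -/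
theorem result {F : Type*} [Field F] [Fintype F] (n : ℕ) (hn : 4 ≤ n) (a b : F) (hab : ∀ z₁ z₂ : F, z₁ ^ 2 + a * z₁ * z₂ + b * z₂ ^ 2 = 0 → z₁ = 0 ∧ z₂ = 0) :
    (∀ (k : ℕ) (ρ : Representation ℂ (Cfsg.Omega F (Cfsg.quadFormMinus (n - 1) F a b)) (Fin k → ℂ)), ρ.IsIrreducible → 2 ≤ k → (Fintype.card F ^ n + 1) * (Fintype.card F ^ (n - 1) - Fintype.card F) / (Fintype.card F ^ 2 - 1) ≤ k) := by
  classical
  intro k ρ hρ hk
  obtain ⟨i, rfl⟩ : ∃ i, n = i + 4 := ⟨n - 4, by omega⟩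
  obtain ⟨Q, hQ, hB⟩ := CfsgLib.Orth.exists_quadForm_minus (F := F) (i + 1 + 2) hab
  have hm := CfsgLib.OrthMinDegree.minus_minB hab (CfsgLib.OrthMinDegree.noThirtyTwo hab) (i + 1) Q hQ hB
  unfold CfsgLib.OrthMinDegree.MinB CfsgLib.OrthMinDegree.OG at hm
  rw [hQ] at hm
  have h1 : ρ.character 1 = (k : ℂ) := by
    rw [Representation.char_one, Module.finrank_fin_fun]
  have hb := hm ρ.character ⟨k, ρ, hρ, rfl⟩ (fun e => by
    have := congrFun e 1
    rw [h1, Nat.cast_eq_one] at this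
    omega) k h1
  refine (Nat.div_le_of_le_mul ?_).trans hb
  refine le_of_eq ?_
  have hq : 2 ≤ Fintype.card F := Fintype.one_lt_card
  have hf := CfsgLib.OrthMinDegree.kM_formula hq (i + 1)
  rw [show i + 1 + 3 = i + 4 from rfl, show i + 1 + 2 = i + 3 from rfl] at hf
  have e1 : 1 ≤ Fintype.card F ^ 2 := Nat.one_le_pow _ _ (by omega)
  have e2 : Fintype.card F ≤ Fintype.card F ^ (i + 3) := Nat.le_self_pow (by omega) _
  rw [show i + 4 - 1 = i + 3 from rfl, CfsgLib.OrthMinDegree.bM]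
  zify [e1, e2]
  linear_combination -hf

end Cfsg.Agent.S2346
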