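import Cfsg.Statements.S2347
import Cfsg.Agent.Lib.SpMinDegree.Main

set_option autoImplicit false
open Cfsg

namespace Cfsg.Agent.S2347

/-- Smallest degree of a non-linear irreducible complex representation of the symplectic group Sp_{2n} over a finite field of odd order q, n ≥ 2: every irreducible complex representation of degree at least 2 has degree at least (q^n − 1)/2, and there is an irreducible complex representation of exactly that degree (a Weil representation). -/
theorem result {F : Type*} [Field F] [Fintype F] [DecidableEq F] (n : ℕ) (hn : 2 ≤ n) (hodd : Odd (Fintype.card F)) :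
    (∀ (k : ℕ) (ρ : Representation ℂ (Matrix.symplecticGroup (Fin n) F) (Fin k → ℂ)), ρ.IsIrreducible → 2 ≤ k → (Fintype.card F ^ n - 1) / 2 ≤ k) ∧
    (∃ ρ : Representation ℂ (Matrix.symplecticGroup (Fin n) F) (Fin ((Fintype.card F ^ n - 1) / 2) → ℂ), ρ.IsIrreducible) := by
  refine ⟨fun k ρ hρ hk => ?_, ?_⟩
  · have h1 : ρ.character 1 = (k : ℂ) := by
      rw [Representation.char_one, Module.finrank_fin_fun]
    exact CfsgLib.SpMinDegree.degree_ge (CfsgLib.SpMinDegree.two_ne_zero_of_odd hodd) (by omega)
      (χ := ρ.character) ⟨k, ρ, hρ, rfl⟩ (fun e => by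
        have := congrFun e 1
        rw [h1, Nat.cast_eq_one] at this
        omega) h1
  · obtain ⟨χ, ⟨d, ρ, hρ, he⟩, hd⟩ := CfsgLib.SpMinDegree.exists_odd_weil (F := F) hn hodd
    have : d = (Fintype.card F ^ n - 1) / 2 := by
      rw [← he, Representation.char_one, Module.finrank_fin_fun] at hd
      exact_mod_cast hd
    subst this
    exact ⟨ρ, hρ⟩

end Cfsg.Agent.S2347
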