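import Cfsg.Statements.S2354
import Cfsg.Agent.Lib.Laws.Core

set_option autoImplicit false
open Cfsg

namespace Cfsg.Agent.S2354

open CfsgLib.Laws Matrix

/-- Entries of an element with non-zero middle block. -/
def szWord (F : Type*) [Field F] : Matrix (Fin 4) (Fin 4) F :=
  !![1, 0, 1, 1; 1, 1, 1, 0; 0, 1, 1, 1; 1, 1, 0, 1]

/-- Its inverse. -/
def szWordInv (F : Type*) [Field F] : Matrix (Fin 4) (Fin 4) F :=
  !![1, 1, 0, 1; 0, 1, 1, 1; 1, 1, 1, 0; 1, 0, 1, 1]

/-- A non-trivial law holds in only finitely many Suzuki groups: for every non-trivial element w of the free group on countably many generators there is N such that for q = 2^(2m+1) with m ≥ N some substitution of elements of the Suzuki group over the field with q elements into w is not the identity. -/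
theorem result (w : FreeGroup ℕ) (hw : w ≠ 1) :
    ∃ N : ℕ, ∀ (F : Type*) [Field F] [Fintype F] (m : ℕ), 1 ≤ m → N ≤ m →
      Fintype.card F = 2 ^ (2 * m + 1) →
      ∃ f : ℕ → ↥(Cfsg.Lie.Sz F (2 ^ (m + 1))), FreeGroup.lift f w ≠ 1 := by
  refine ⟨4 * wlen w.toWord + 2, fun F _ _ m hm hNm hcard => ?_⟩
  classical
  set e := 2 ^ (m + 1) with he
  have he4 : 4 ≤ e := by
    calc 4 = 2 ^ 2 := rfl
      _ ≤ e := Nat.pow_le_pow_right (by norm_num) (by omega)
  have hee : e * e = 2 * Fintype.card F := by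
    rw [hcard, he, ← pow_add, ← pow_succ']; congr 1; omega
  have hchar : ringChar F = 2 := by
    obtain ⟨n, hp, hn⟩ := FiniteField.card F (ringChar F)
    refine (Nat.prime_dvd_prime_iff_eq hp Nat.prime_two).1 (hp.dvd_of_dvd_pow
      (n := 2 * m + 1) ?_)
    rw [← hcard, hn]; exact dvd_pow_self _ (PNat.ne_zero n)
  have : CharP F 2 := hchar ▸ inferInstance
  have h2 : (2 : F) = 0 := CharP.cast_eq_zero F 2
  have hneg : ∀ x : F, -x = x := fun x => by linear_combination (-x) * h2
  -- torus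
  have hq : ∀ t : F, t ^ (e * e) = t ^ 2 := fun t => by
    rw [hee, pow_mul, FiniteField.pow_card]
  let z : F → F := fun t => t ^ (e - 1)
  have hz : ∀ t : F, t * z t = t ^ e := fun t => by
    simp only [z]; rw [← pow_succ']; congr 1; omega
  have hz2 : ∀ t : F, t ≠ 0 → t * (z t)⁻¹ = z t ^ e := fun t ht => by
    have h1 : (z t) ^ e * z t = t := by
      simp only [z]
      rw [← pow_mul, ← pow_add]
      have h4 : (e - 1) * e + (e - 1) = e * e - 1 := by
        have : 1 ≤ e := by omega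
        obtain ⟨k, hk⟩ := Nat.exists_eq_add_of_le this
        rw [hk]; simp [Nat.add_mul, Nat.mul_add]; omega
      rw [h4]
      refine mul_left_cancel₀ ht ?_
      rw [← pow_succ', show e * e - 1 + 1 = e * e by
        have : 1 ≤ e * e := by nlinarith
        omega, hq]
      ring
    have hz0 : z t ≠ 0 := pow_ne_zero _ ht
    rw [← div_eq_mul_inv, div_eq_iff hz0, h1]
  let D0 : F → Matrix (Fin 4) (Fin 4) F := fun t =>
    Matrix.diagonal ![t, z t, (z t)⁻¹, t⁻¹]
  have hD0 : ∀ t, t ≠ 0 → (D0 t).det ≠ 0 := fun t ht => by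
    simp [D0, z, Matrix.det_diagonal, Fin.prod_univ_four, ht]
  let d0 : F → GL (Fin 4) F := fun t =>
    if ht : t = 0 then 1 else Matrix.GeneralLinearGroup.mkOfDetNeZero (D0 t) (hD0 t ht)
  have hd0 : ∀ t, d0 t ∈ Cfsg.Lie.Sz F e := by
    intro t
    by_cases ht : t = 0
    · simp [d0, ht]
    refine Subgroup.subset_closure ⟨?_, ?_⟩
    · intro u v
      simp only [d0, dif_neg ht, Units.coeHom_apply]
      show Cfsg.Lie.altForm4 (D0 t *ᵥ u) (D0 t *ᵥ v) = _
      have hz0 : z t ≠ 0 := pow_ne_zero _ ht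
      simp [Cfsg.Lie.altForm4, D0, Matrix.mulVec_diagonal]
      field_simp
    · simp only [d0, dif_neg ht]
      show Cfsg.Lie.star4 (D0 t) = (D0 t).map fun x => x ^ e
      have h0 : (0 : F) ^ e = 0 := zero_pow (by omega)
      have hz0 : z t ≠ 0 := pow_ne_zero _ ht
      ext p r
      fin_cases p <;> fin_cases r <;>
        simp [Cfsg.Lie.star4, Cfsg.Lie.pairOf, D0, h0, hz, hz2 t ht, inv_pow]
      · rw [← hz2 t ht, mul_inv, inv_inv, mul_comm]
      · rw [← hz t, mul_inv, mul_comm]
  -- the fixed element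
  have hprod : szWord F * szWordInv F = 1 := by
    ext p r
    fin_cases p <;> fin_cases r <;>
      simp [szWord, szWordInv, Matrix.mul_apply, Fin.sum_univ_four, one_add_one_eq_two, h2] <;>
      linear_combination h2
  let m0 : GL (Fin 4) F :=
    ⟨szWord F, szWordInv F, hprod, mul_eq_one_comm.1 hprod⟩
  have hm0 : m0 ∈ Cfsg.Lie.Sz F e := by
    refine Subgroup.subset_closure ⟨?_, ?_⟩
    · intro u v
      show Cfsg.Lie.altForm4 (szWord F *ᵥ u) (szWord F *ᵥ v) = _
      simp [Cfsg.Lie.altForm4, szWord, Matrix.mulVec, dotProduct, Fin.sum_univ_four]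
      grind
    · show Cfsg.Lie.star4 (szWord F) = (szWord F).map fun x => x ^ e
      have h0 : (0 : F) ^ e = 0 := zero_pow (by omega)
      ext p r
      fin_cases p <;> fin_cases r <;>
        simp [Cfsg.Lie.star4, Cfsg.Lie.pairOf, szWord, h0, hneg]
  let ρ : Cfsg.Lie.Sz F e →* Matrix (Fin 4) (Fin 4) F :=
    (Units.coeHom _).comp (Cfsg.Lie.Sz F e).subtype
  let T : Finset F := Finset.univ.erase 0
  have D : Data ρ ⟨m0, hm0⟩ T (fun t => ⟨d0 t, hd0 t⟩) (e - 1)
      ![e, 2 * (e - 1), 0, e - 2] 1 2 := by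
    refine ⟨by omega, rfl, rfl, fun r hr => ?_, fun r hr => ?_, ?_,
      fun t ht => Finset.ne_of_mem_erase ht, ?_⟩
    · fin_cases r <;> simp_all <;> omega
    · fin_cases r <;> simp_all <;> omega
    · intro r hr c hc
      rw [show ρ ⟨m0, hm0⟩ = szWord F from rfl, show ρ (⟨m0, hm0⟩ : Cfsg.Lie.Sz F e)⁻¹ =
        szWordInv F from rfl]
      rcases hr with rfl | rfl <;> rcases hc with rfl | rfl <;> simp [szWord, szWordInv]
    · intro t ht
      have ht0 : t ≠ 0 := Finset.ne_of_mem_erase ht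
      have hρ : ρ ⟨d0 t, hd0 t⟩ = D0 t := by
        show (d0 t).val = D0 t
        simp only [d0, dif_neg ht0]
        rfl
      rw [hρ]
      simp only [D0, ← Matrix.diagonal_smul]
      congr 1
      funext r
      fin_cases r <;> simp [z]
      · rw [← pow_succ]; congr 1; omega
      · rw [← pow_add]; congr 1; omega
      · exact mul_inv_cancel₀ (pow_ne_zero _ ht0)
      · rw [show e - 1 = e - 2 + 1 by omega, pow_succ, mul_assoc, mul_inv_cancel₀ ht0, mul_one]
  obtain ⟨t, -, hne⟩ := D.exists_value_ne_one w hw (by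
    rw [Finset.card_erase_of_mem (Finset.mem_univ _), Finset.card_univ]
    have h1 : 2 * (4 * wlen w.toWord + 1) ≤ e := by
      have : m + 1 < 2 ^ (m + 1) := Nat.lt_two_pow_self
      have h3 : 2 * m ≤ e := by
        rw [he, pow_succ']
        have : m < 2 ^ m := Nat.lt_two_pow_self
        omega
      omega
    have h5 : 2 * (4 * wlen w.toWord + 1) * e ≤ e * e := Nat.mul_le_mul_right _ h1
    have h6 : 4 * (e - 1) * wlen w.toWord ≤ 4 * e * wlen w.toWord :=
      Nat.mul_le_mul_right _ (Nat.mul_le_mul_left _ (Nat.sub_le _ _))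
    nlinarith [Nat.sub_add_cancel (show 1 ≤ Fintype.card F from Fintype.card_pos)])
  exact ⟨_, hne⟩

end Cfsg.Agent.S2354
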