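import Cfsg.Statements.S2355
import Cfsg.Agent.Lib.Laws.Families

set_option autoImplicit false
open Cfsg

namespace Cfsg.Agent.S2355

open CfsgLib.Laws

/-- A non-trivial law is satisfied by only finitely many finite simple groups that are alternating or classical, up to isomorphism: for every non-trivial element w of the free group on countably many generators there is a bound N such that every alternating group of degree ≥ 5 and every simple classical group (linear, symplectic, unitary or orthogonal, in this problem's sense) in which w is a law has order at most N. -/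
theorem result (w : FreeGroup ℕ) (hw : w ≠ 1) :
    ∃ N : ℕ, ∀ (G : Type*) [Group G] [Finite G],
      (Cfsg.IsAlternating G ∨ Cfsg.IsPSL G ∨ Cfsg.IsPSp G ∨ Cfsg.IsPSU G ∨ Cfsg.IsPOmegaOdd G ∨
          Cfsg.IsPOmegaPlus G ∨ Cfsg.IsPOmegaMinus G) →
      (∀ f : ℕ → G, FreeGroup.lift f w = 1) → Nat.card G ≤ N := by
  have hw' := padWord_ne_one hw
  obtain ⟨NA, hA⟩ := fails_alternating w hw
  obtain ⟨NP, hP⟩ := fails_commutator_perm (padWord w) hw'
  obtain ⟨NG, hG⟩ := fails_commutator_GL.{0} (padWord w) hw'
  set C := 4 * wlen (padWord w).toWord + 3 with hC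
  set N0 := NP + NG + 4 with hN0
  set B := NG + C * C + 1 with hB
  refine ⟨NA.factorial + B ^ ((2 * N0 + 3) * (2 * N0 + 3)), fun G _ _ hcases hlaw => ?_⟩
  have trans : ∀ {X : Type} [Group X], (e : G ≃* X) → Fails w X → False := by
    intro X _ e hX
    obtain ⟨f, hf⟩ := hX.of_injective e.symm.toMonoidHom e.symm.injective
    exact hf (hlaw f)
  have hB1 : 1 ≤ B := by omega
  rcases hcases with ⟨n, -, ⟨e⟩⟩ | ⟨F, iF, iFt, n, hn, -, ⟨e⟩⟩ | ⟨F, iF, iFt, m, hm, -, ⟨e⟩⟩ |
      ⟨F, iF, iFt, n, q, hq, hn, -, ⟨e⟩⟩ | ⟨F, iF, iFt, m, hm, -, ⟨e⟩⟩ |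
      ⟨F, iF, iFt, m, hm, ⟨e⟩⟩ | ⟨F, iF, iFt, m, a, b, hm, -, ⟨e⟩⟩
  · -- alternating
    by_cases h : NA ≤ n
    · exact (trans e (hA n h)).elim
    · refine le_trans ?_ (Nat.le_add_right _ _)
      rw [Nat.card_congr e.toEquiv]
      refine le_trans (Nat.card_le_card_of_injective Subtype.val Subtype.val_injective) ?_
      rw [Nat.card_eq_fintype_card, Fintype.card_perm, Fintype.card_fin]
      exact Nat.factorial_le (by omega)
  all_goals refine le_trans ?_ (Nat.le_add_left _ _)
  all_goals rw [Nat.card_congr e.toEquiv]
  · -- PSL
    by_cases h : NG ≤ n ∨ NG ≤ Fintype.card F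
    · exact (trans e ((hG F n hn h).quot_center (commToSL n) (commToSL_injective n))).elim
    · push Not at h
      refine le_trans (card_quot_le _) (card_le_of_embed Subtype.val Subtype.val_injective ?_ ?_ hB1)
      · rw [Fintype.card_fin]; omega
      · omega
  · -- PSp
    by_cases h : NG ≤ m ∨ NG ≤ Fintype.card F
    · refine (trans e ?_).elim
      exact ((hG F m (by omega) h).of_commutator.of_injective _ (glToSp_injective m)).quot_center
        (MonoidHom.id _) Function.injective_id
    · push Not at h
      refine le_trans (card_quot_le _) (card_le_of_embed Subtype.val Subtype.val_injective ?_ ?_ hB1)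
      · rw [Fintype.card_sum, Fintype.card_fin]; omega
      · omega
  · -- PSU
    by_cases h : NP ≤ n ∨ C ≤ q
    · refine (trans e ?_).elim
      have : Fails (padWord w) (Cfsg.SU n F q) := by
        rcases h with h | h
        · exact fails_SU_perm (padWord w) n q (hP n h)
        · exact fails_SU_of_SU2 (padWord w) (by omega) (fails_SU2 (padWord w) hw' hq h)
      exact this.quot_center (MonoidHom.id _) Function.injective_id
    · push Not at h
      refine le_trans (card_quot_le _) (card_le_of_embed
        (fun g : Cfsg.SU n F q => g.1.1)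
        (fun x y hxy => Subtype.ext (Subtype.ext hxy)) ?_ ?_ hB1)
      · rw [Fintype.card_fin]; omega
      · rw [hq, pow_two]
        have : q * q ≤ C * C := Nat.mul_le_mul h.2.le h.2.le
        omega
  · -- odd orthogonal
    by_cases h : NG ≤ m ∨ NG ≤ Fintype.card F
    · refine (trans e ?_).elim
      exact ((hG F m (by omega) h).commutator_map _ (glToOdd_injective m)).quot_center
        (MonoidHom.id _) Function.injective_id
    · push Not at h
      refine le_trans (card_quot_le _) (card_le_of_embed (fun g => g.1.1.1)
        (fun x y hxy => Subtype.ext (Subtype.ext (Units.ext hxy))) ?_ ?_ hB1)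
      · simp only [Fintype.card_sum, Fintype.card_fin, Fintype.card_unit]; omega
      · omega
  · -- plus
    by_cases h : NG ≤ m ∨ NG ≤ Fintype.card F
    · refine (trans e ?_).elim
      exact ((hG F m (by omega) h).commutator_map _ (glToPlus_injective m)).quot_center
        (MonoidHom.id _) Function.injective_id
    · push Not at h
      refine le_trans (card_quot_le _) (card_le_of_embed (fun g => g.1.1.1)
        (fun x y hxy => Subtype.ext (Subtype.ext (Units.ext hxy))) ?_ ?_ hB1)
      · simp only [Fintype.card_sum, Fintype.card_fin]; omega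
      · omega
  · -- minus
    by_cases h : NG ≤ m - 1 ∨ NG ≤ Fintype.card F
    · refine (trans e ?_).elim
      exact ((hG F (m - 1) (by omega) h).commutator_map _
        (glToMinus_injective (m - 1) a b)).quot_center (MonoidHom.id _) Function.injective_id
    · push Not at h
      refine le_trans (card_quot_le _) (card_le_of_embed (fun g => g.1.1.1)
        (fun x y hxy => Subtype.ext (Subtype.ext (Units.ext hxy))) ?_ ?_ hB1)
      · simp only [Fintype.card_sum, Fintype.card_fin]; omega
      · omega

end Cfsg.Agent.S2355
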