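import Cfsg.Statements.S2356
import Cfsg.Agent.Lib.Classical.UnitaryThreeInvol

set_option autoImplicit false
set_option linter.style.haveILetI false
open Cfsg

namespace Cfsg.Agent.S2356

open Matrix CfsgLib.Classical.Herm CfsgLib.Classical.SU3Invol
open CfsgLib.ClassicalAut (Unitary.Conj Unitary.herm_apply)

variable {F : Type*} [Field F] [Finite F] {q : ℕ} (K : Unitary.Conj F q)

/-- The involutions commuting with `t`, other than `t`. -/
abbrev Nb (t : SU 3 F q) : Type _ := {x : SU 3 F q // x ≠ 1 ∧ x * x = 1 ∧ x ≠ t ∧ Commute t x}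

open scoped Classical in
include K in
theorem card_norm_fibre {c : F} (hc : K.bar c = c) :
    Nat.card {b : F // b * K.bar b = c} = if c = 0 then 1 else q + 1 := by
  split_ifs with h
  · subst h
    rw [Nat.card_eq_one_iff_unique]
    refine ⟨⟨fun x y => ?_⟩, ⟨⟨0, by simp⟩⟩⟩
    have hz : ∀ b : F, b * K.bar b = 0 → b = 0 := fun b hb => by
      rcases mul_eq_zero.mp hb with h | h
      · exact h
      · exact (map_eq_zero K.bar).mp h
    exact Subtype.ext ((hz _ x.2).trans (hz _ y.2).symm)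
  · obtain ⟨z, hz⟩ := K.exists_norm c hc
    have hz0 : z ≠ 0 := fun e => h (by rw [← hz, e, zero_mul])
    have hzb : K.bar z ≠ 0 := (map_ne_zero K.bar).2 hz0
    rw [← card_norm_one K]
    refine Nat.card_congr ((Equiv.mulLeft₀ z⁻¹ (inv_ne_zero hz0)).subtypeEquiv fun b => ?_)
    show b * K.bar b = c ↔ z⁻¹ * b * K.bar (z⁻¹ * b) = 1
    rw [map_mul, map_inv₀, ← hz]
    field_simp

include K in
theorem card_pairs (hq : 3 ≤ q) (h2 : (2 : F) ≠ 0) :
    Nat.card {ab : F × F // K.bar ab.1 = ab.1 ∧ ab.1 * ab.1 + ab.2 * K.bar ab.2 = 1} = q * (q - 1) := by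
  classical
  have := Fintype.ofFinite F
  set W := {a : F // K.bar a = a}
  have e : {ab : F × F // K.bar ab.1 = ab.1 ∧ ab.1 * ab.1 + ab.2 * K.bar ab.2 = 1} ≃
      (Σ a : W, {b : F // b * K.bar b = 1 - a.1 * a.1}) :=
    { toFun := fun x => ⟨⟨x.1.1, x.2.1⟩, ⟨x.1.2, by linear_combination x.2.2⟩⟩
      invFun := fun y => ⟨(y.1.1, y.2.1), y.1.2, by linear_combination y.2.2⟩
      left_inv := fun _ => rfl
      right_inv := fun _ => rfl }
  rw [Nat.card_congr e, Nat.card_sigma]
  have hf : ∀ a : W, Nat.card {b : F // b * K.bar b = 1 - a.1 * a.1} =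
      if a = (⟨1, map_one _⟩ : W) ∨ a = (⟨-1, by simp⟩ : W) then 1 else q + 1 := by
    intro a
    rw [card_norm_fibre K (by rw [map_sub, map_one, map_mul, a.2])]
    refine if_congr ?_ rfl rfl
    rw [sub_eq_zero, eq_comm, mul_self_eq_one_iff, Subtype.ext_iff, Subtype.ext_iff]
  simp only [hf]
  have hW : Fintype.card W = q := by
    rw [← Nat.card_eq_fintype_card]
    have h1 := card_fixed K
    rw [Nat.card_eq_fintype_card, Fintype.card_subtype] at h1 ⊢
    have h3 : (Finset.univ.filter fun c : F => K.bar c = c) =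
        insert 0 (Finset.univ.filter fun c : F => K.bar c = c ∧ c ≠ 0) := by
      ext c
      by_cases hc : c = 0 <;> simp [hc]
    rw [h3, Finset.card_insert_of_notMem (by simp), h1]
    omega
  have hne : (⟨1, map_one _⟩ : W) ≠ ⟨-1, by simp⟩ := fun h => h2 (by
    have := congrArg Subtype.val h
    linear_combination this)
  rw [Finset.sum_ite, Finset.sum_const, Finset.sum_const, smul_eq_mul, smul_eq_mul]
  have h1 : (Finset.univ.filter fun a : W => a = ⟨1, map_one _⟩ ∨ a = ⟨-1, by simp⟩).card = 2 := by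
    rw [Finset.filter_or, Finset.filter_eq', Finset.filter_eq', if_pos (Finset.mem_univ _),
      if_pos (Finset.mem_univ _), Finset.card_union_of_disjoint (Finset.disjoint_singleton.mpr hne),
      Finset.card_singleton, Finset.card_singleton]
  have h3 := Finset.card_filter_add_card_filter_not (s := (Finset.univ : Finset W))
    (fun a : W => a = ⟨1, map_one _⟩ ∨ a = ⟨-1, by simp⟩)
  rw [h1, Finset.card_univ, hW] at h3
  rw [h1, show (Finset.univ.filter fun a : W => ¬ (a = ⟨1, map_one _⟩ ∨ a = ⟨-1, by simp⟩)).card = q - 2 by omega]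
  obtain ⟨k, rfl⟩ : ∃ k, q = k + 2 := ⟨q - 2, by omega⟩
  simp only [Nat.add_sub_cancel, show k + 2 - 1 = k + 1 by omega]
  ring

include K in
theorem card_nb_dElt (hq : 3 ≤ q) (h2 : (2 : F) ≠ 0) : Nat.card (Nb (dElt K)) = q * (q - 1) := by
  classical
  rw [← card_pairs K hq h2]
  have hadj : ∀ x : SU 3 F q, x * x = 1 → ∀ i j, mat x j i = K.bar (mat x i j) := by
    intro x hx i j
    have hM : mat x * mat x = 1 := congrArg mat hx
    have h : hermForm 3 F q (mat x *ᵥ Pi.single i 1) (Pi.single j 1) =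
        hermForm 3 F q (Pi.single i 1) (mat x *ᵥ Pi.single j 1) := by
      have h := x.2 (Pi.single i 1) (mat x *ᵥ Pi.single j 1)
      change hermForm 3 F q (mat x *ᵥ Pi.single i 1) (mat x *ᵥ (mat x *ᵥ Pi.single j 1)) = _ at h
      rwa [mulVec_mulVec, hM, one_mulVec] at h
    rw [h_single K, h_swap K (mat x *ᵥ Pi.single j 1), h_single K] at h
    simpa [mulVec_single_one] using h
  have hform : ∀ x : Nb (dElt K), ∃ a b : F, K.bar a = a ∧ a * a + b * K.bar b = 1 ∧
      mat x.1 = blkMat (-1) !![a, b; K.bar b, -a] := by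
    rintro ⟨x, hx, hx2, hxd, hc⟩
    obtain ⟨a, b, c, hm, hq1⟩ := comm_form K h2 hx hx2 hxd hc.eq
    have e1 := hadj x hx2 1 1
    have e2 := hadj x hx2 1 2
    rw [hm] at e1 e2
    simp [blkMat] at e1 e2
    exact ⟨a, b, e1.symm, by rw [← e2]; exact hq1, by rw [← e2]; exact hm⟩
  choose fa fb hfa hfq hfm using hform
  refine Nat.card_congr (Equiv.ofBijective
    (fun x => ⟨(fa x, fb x), hfa x, hfq x⟩) ⟨?_, ?_⟩)
  · intro x y h
    have h' := congrArg Subtype.val h
    simp only [Prod.mk.injEq] at h'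
    exact Subtype.ext (mat_ext (by rw [hfm, hfm, h'.1, h'.2]))
  · rintro ⟨⟨a, b⟩, ha, hab⟩
    simp only at ha hab
    let M : Matrix (Fin 2) (Fin 2) F := !![a, b; K.bar b, -a]
    have hdet : M.det = -1 := by
      simp [M, det_fin_two]; linear_combination -hab
    have hd0 : M.det ≠ 0 := by rw [hdet]; simp
    have hmem : GeneralLinearGroup.mkOfDetNeZero M hd0 ∈ GU 2 F q := by
      intro u v
      show hermForm 2 F q (M *ᵥ u) (M *ᵥ v) = _
      rw [Unitary.herm_apply K, Unitary.herm_apply K]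
      simp [M, Matrix.mulVec, dotProduct, Fin.sum_univ_two, ha, K.bar_bar]
      linear_combination (u 0 * K.bar (v 0) + u 1 * K.bar (v 1)) * hab
    let y := blk K ⟨_, hmem⟩
    have hym : mat y = blkMat (-1) M := by
      show blkMat M.det⁻¹ M = _
      rw [hdet, inv_neg, inv_one]
    have hy2 : y * y = 1 := mat_ext (by
      show mat y * mat y = 1
      rw [hym, blk_mul]
      ext i j
      fin_cases i <;> fin_cases j <;> simp [blkMat, M, Matrix.mul_apply, Fin.sum_univ_two]
      · linear_combination hab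
      · ring
      · ring
      · linear_combination hab)
    have hy1 : y ≠ 1 := fun h => by
      have e := congrFun (congrFun (congrArg mat h) 0) 0
      rw [hym] at e
      simp [blkMat, mat] at e
      exact h2 (by linear_combination -e)
    have hyd : y ≠ dElt K := fun h => by
      have e := congrFun (congrFun (congrArg mat h) 0) 0
      rw [hym] at e
      simp [blkMat, mat, dElt] at e
      exact h2 (by linear_combination -e)
    refine ⟨⟨y, hy1, hy2, hyd, blk_comm K _⟩, Subtype.ext ?_⟩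
    have h := hfm ⟨y, hy1, hy2, hyd, blk_comm K _⟩
    rw [hym] at h
    have e1 := congrFun (congrFun h 1) 1
    have e2 := congrFun (congrFun h 1) 2
    simp [blkMat, M] at e1 e2
    exact Prod.ext e1.symm e2.symm

include K in
theorem card_nb (hq : 3 ≤ q) (h2 : (2 : F) ≠ 0) {t : SU 3 F q} (ht : t ≠ 1) (ht2 : t * t = 1) :
    Nat.card (Nb t) = q * (q - 1) := by
  obtain ⟨g, rfl⟩ := exists_conj_dElt K h2 ht ht2
  rw [← card_nb_dElt K hq h2]
  refine Nat.card_congr (Equiv.symm ((MulAut.conj g).toEquiv.subtypeEquiv fun x => ?_))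
  set φ := MulAut.conj g
  show _ ↔ φ x ≠ 1 ∧ φ x * φ x = 1 ∧ φ x ≠ φ (dElt K) ∧ Commute (φ (dElt K)) (φ x)
  constructor
  · rintro ⟨h1, h2', h3, h4⟩
    exact ⟨fun h => h1 (φ.injective (h.trans (map_one φ).symm)), by rw [← map_mul, h2', map_one],
      fun h => h3 (φ.injective h), h4.map φ⟩
  · rintro ⟨h1, h2', h3, h4⟩
    exact ⟨fun h => h1 (by rw [h, map_one]), φ.injective (by rw [map_mul, map_one, h2']),
      fun h => h3 (by rw [h]), φ.injective (by rw [map_mul, map_mul]; exact h4.eq)⟩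

/-- `t` reflects in the line of the unit vector `u`. -/
def IsR (t : SU 3 F q) (u : Fin 3 → F) : Prop :=
  hermForm 3 F q u u = 1 ∧ ∀ w, mat t *ᵥ w = -w + (2 * hermForm 3 F q w u) • u

include K in
theorem isR_dElt : IsR (dElt K) (Pi.single 0 1) := by
  refine ⟨by rw [h_single K]; simp, fun w => ?_⟩
  rw [h_single K]
  ext i
  fin_cases i <;> simp [mat, dElt, Matrix.mulVec_diagonal]
  ring

include K in
theorem isR_conj {t : SU 3 F q} {u : Fin 3 → F} (h : IsR t u) (g : SU 3 F q) :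
    IsR (g * t * g⁻¹) (mat g *ᵥ u) := by
  refine ⟨(g.2 u u).trans h.1, fun w => ?_⟩
  have e : mat g * mat g⁻¹ = 1 := congrArg mat (mul_inv_cancel g)
  show (mat g * mat t * mat g⁻¹) *ᵥ w = _
  rw [← mulVec_mulVec, ← mulVec_mulVec, h.2, mulVec_add, mulVec_neg, mulVec_smul, mulVec_mulVec,
    e, one_mulVec]
  congr 2
  have h2 := g.2 (mat g⁻¹ *ᵥ w) u
  change hermForm 3 F q (mat g *ᵥ (mat g⁻¹ *ᵥ w)) (mat g *ᵥ u) = _ at h2
  rw [mulVec_mulVec, e, one_mulVec] at h2
  rw [h2]

include K in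
theorem exists_isR (h2 : (2 : F) ≠ 0) {t : SU 3 F q} (ht : t ≠ 1) (ht2 : t * t = 1) :
    ∃ u, IsR t u := by
  obtain ⟨g, rfl⟩ := exists_conj_dElt K h2 ht ht2
  exact ⟨_, isR_conj K (isR_dElt K) g⟩

include K in
theorem commute_of_orth {s t : SU 3 F q} {u v : Fin 3 → F} (hs : IsR s u) (ht : IsR t v)
    (h : hermForm 3 F q u v = 0) : Commute s t := by
  refine mat_ext (Matrix.ext_of_mulVec_single fun i => ?_)
  show (mat s * mat t) *ᵥ _ = (mat t * mat s) *ᵥ _
  set w : Fin 3 → F := Pi.single i 1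
  rw [← mulVec_mulVec, ← mulVec_mulVec, ht.2, hs.2, hs.2 w, ht.2]
  simp only [h_add_left K, h_smul_left K, h, h_eq_zero_symm K h]
  rw [show -(w : Fin 3 → F) = (-1 : F) • w from (neg_one_smul F w).symm, h_smul_left K, h_smul_left K]
  module

include K in
theorem exists_R (h2 : (2 : F) ≠ 0) {u : Fin 3 → F} (hu : hermForm 3 F q u u = 1) :
    ∃ y : SU 3 F q, y ≠ 1 ∧ y * y = 1 ∧ IsR y u := by
  obtain ⟨g, -, hg⟩ := exists_move K (n := 3) (k := 0) (u := Pi.single 0 1) (v := u)
    (fun i hi => absurd hi (Nat.not_lt_zero _)) (fun i hi => absurd hi (Nat.not_lt_zero _))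
    (by rw [h_single K]; simp) hu
  set G := ((g : GL (Fin 3) F) : Matrix (Fin 3) (Fin 3) F)
  set G' := (((g⁻¹ : GU 3 F q) : GL (Fin 3) F) : Matrix (Fin 3) (Fin 3) F)
  have hGG' : G * G' = 1 := Units.mul_inv (g : GL (Fin 3) F)
  have hG'G : G' * G = 1 := Units.inv_mul (g : GL (Fin 3) F)
  have hGh : ∀ u v, hermForm 3 F q (G *ᵥ u) (G *ᵥ v) = hermForm 3 F q u v := g.2
  have hG'h : ∀ u v, hermForm 3 F q (G' *ᵥ u) (G' *ᵥ v) = hermForm 3 F q u v := (g⁻¹).2
  let y : SU 3 F q := ⟨⟨G * mat (dElt K) * G', by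
      rw [det_mul, det_mul, show (mat (dElt K)).det = 1 from (dElt K).1.2, mul_one, ← det_mul,
        hGG', det_one]⟩,
    fun a b => by
      show hermForm 3 F q ((G * mat (dElt K) * G') *ᵥ a) ((G * mat (dElt K) * G') *ᵥ b) = _
      rw [← mulVec_mulVec, ← mulVec_mulVec, ← mulVec_mulVec, ← mulVec_mulVec, hGh]
      exact ((dElt K).2 _ _).trans (hG'h _ _)⟩
  have hd : mat (dElt K) * mat (dElt K) = 1 := congrArg mat (dElt_mul_self K)
  refine ⟨y, fun h => dElt_ne_one K h2 (mat_ext ?_), mat_ext ?_, hu, fun w => ?_⟩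
  · have e : G * mat (dElt K) * G' = 1 := congrArg mat h
    calc mat (dElt K) = G' * (G * mat (dElt K) * G') * G := by
          rw [show G' * (G * mat (dElt K) * G') * G = G' * G * mat (dElt K) * (G' * G) by
            simp only [Matrix.mul_assoc], hG'G, Matrix.one_mul, Matrix.mul_one]
      _ = 1 := by rw [e, Matrix.mul_one, hG'G]
  · show G * mat (dElt K) * G' * (G * mat (dElt K) * G') = 1
    rw [show G * mat (dElt K) * G' * (G * mat (dElt K) * G') =
      G * (mat (dElt K) * (G' * G) * mat (dElt K)) * G' by simp only [Matrix.mul_assoc],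
      hG'G, Matrix.mul_one, hd, Matrix.mul_one, hGG']
  · show (G * mat (dElt K) * G') *ᵥ w = _
    rw [← mulVec_mulVec, ← mulVec_mulVec, (isR_dElt K).2, mulVec_add, mulVec_neg, mulVec_smul,
      mulVec_mulVec, hGG', one_mulVec, hg]
    congr 2
    have e := hGh (G' *ᵥ w) (Pi.single 0 1)
    rw [mulVec_mulVec, hGG', one_mulVec, hg] at e
    rw [e]

include K in
theorem eq_of_parallel {s t : SU 3 F q} {u v : Fin 3 → F} (hs : IsR s u) (ht : IsR t v) {c : F}
    (huv : u = c • v) : s = t := by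
  have hc : c * K.bar c = 1 := by
    have h := hs.1
    rw [huv, h_smul_left K, h_smul_right K, ht.1, mul_one] at h
    exact h
  refine mat_ext (Matrix.ext_of_mulVec_single fun i => ?_)
  rw [hs.2, ht.2, huv, h_smul_right K, smul_smul]
  congr 2
  linear_combination (2 * hermForm 3 F q (Pi.single i 1) v) * hc

include K in
theorem orth_of_commute (h2 : (2 : F) ≠ 0) {s t : SU 3 F q} {u v : Fin 3 → F} (hs : IsR s u)
    (ht : IsR t v) (hst : s ≠ t) (h : Commute s t) : hermForm 3 F q u v = 0 := by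
  by_contra hne
  have hvu : hermForm 3 F q v u ≠ 0 := fun e => hne (h_eq_zero_symm K e)
  have htv : mat t *ᵥ v = v := by rw [ht.2, ht.1]; module
  have e : mat t *ᵥ (mat s *ᵥ v) = mat s *ᵥ v := by
    rw [mulVec_mulVec, show mat t * mat s = mat s * mat t from (congrArg mat h.eq).symm,
      ← mulVec_mulVec, htv]
  rw [ht.2] at e
  set l := hermForm 3 F q (mat s *ᵥ v) v
  have hsv : mat s *ᵥ v = l • v := by
    refine (smul_right_inj h2).mp ?_
    rw [neg_add_eq_iff_eq_add] at e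
    rw [smul_smul, two_smul]
    exact e.symm
  rw [hs.2, neg_add_eq_iff_eq_add] at hsv
  refine hst (eq_of_parallel K hs ht (c := (2 * hermForm 3 F q v u)⁻¹ * (1 + l)) ?_)
  rw [← smul_smul, add_smul, one_smul, ← hsv, smul_smul, inv_mul_cancel₀ (mul_ne_zero h2 hvu),
    one_smul]

include K in
/-- Two non-commuting involutions have at most one common neighbour. -/
theorem common_unique (h2 : (2 : F) ≠ 0) {t x y z : SU 3 F q} (ht : t ≠ 1) (ht2 : t * t = 1)
    (hx : x ≠ 1) (hx2 : x * x = 1) (hnc : ¬ Commute t x) (hy : y ≠ 1) (hy2 : y * y = 1)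
    (hz : z ≠ 1) (hz2 : z * z = 1) (hyt : Commute t y) (hyx : Commute y x) (hzt : Commute t z)
    (hzx : Commute z x) : y = z := by
  obtain ⟨a, ha⟩ := exists_isR K h2 ht ht2
  obtain ⟨b, hb⟩ := exists_isR K h2 hx hx2
  obtain ⟨u, hu⟩ := exists_isR K h2 hy hy2
  obtain ⟨u', hu'⟩ := exists_isR K h2 hz hz2
  have o1 := orth_of_commute K h2 ha hu (fun h => hnc (h ▸ hyx)) hyt
  have o2 := orth_of_commute K h2 hb hu (fun h => hnc (h ▸ hyt)) hyx.symm
  have o3 := orth_of_commute K h2 ha hu' (fun h => hnc (h ▸ hzx)) hzt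
  have o4 := orth_of_commute K h2 hb hu' (fun h => hnc (h ▸ hzt)) hzx.symm
  obtain ⟨g, -, hg⟩ := exists_move K (n := 3) (k := 0) (u := u) (v := Pi.single 0 1)
    (fun i hi => absurd hi (Nat.not_lt_zero _)) (fun i hi => absurd hi (Nat.not_lt_zero _)) hu.1
    (by rw [h_single K]; simp)
  set G := ((g : GL (Fin 3) F) : Matrix (Fin 3) (Fin 3) F)
  set G' := (((g⁻¹ : GU 3 F q) : GL (Fin 3) F) : Matrix (Fin 3) (Fin 3) F)
  have hG'G : G' * G = 1 := Units.inv_mul (g : GL (Fin 3) F)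
  have hGh : ∀ u v, hermForm 3 F q (G *ᵥ u) (G *ᵥ v) = hermForm 3 F q u v := g.2
  set a' := G *ᵥ a
  set b' := G *ᵥ b
  set w := G *ᵥ u'
  have back : ∀ x : Fin 3 → F, G' *ᵥ (G *ᵥ x) = x := fun x => by rw [mulVec_mulVec, hG'G, one_mulVec]
  have za : a' 0 = 0 := by
    have h := hGh a u
    rw [hg, h_single K, o1] at h
    exact h
  have zb : b' 0 = 0 := by
    have h := hGh b u
    rw [hg, h_single K, o2] at h
    exact h
  have p1 := hGh a u'
  rw [o3, Unitary.herm_apply K, Fin.sum_univ_three] at p1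
  change a' 0 * K.bar (w 0) + a' 1 * K.bar (w 1) + a' 2 * K.bar (w 2) = 0 at p1
  have p2 := hGh b u'
  rw [o4, Unitary.herm_apply K, Fin.sum_univ_three] at p2
  change b' 0 * K.bar (w 0) + b' 1 * K.bar (w 1) + b' 2 * K.bar (w 2) = 0 at p2
  rw [za, zero_mul, zero_add] at p1
  rw [zb, zero_mul, zero_add] at p2
  have hD : a' 1 * b' 2 - a' 2 * b' 1 ≠ 0 := by
    intro hD
    have hb1 : hermForm 3 F q b' b' = 1 := by rw [hGh, hb.1]
    rw [Unitary.herm_apply K, Fin.sum_univ_three, zb, zero_mul, zero_add] at hb1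
    set c := a' 1 * K.bar (b' 1) + a' 2 * K.bar (b' 2)
    have hac : a' = c • b' := by
      ext i
      fin_cases i <;> simp [za, zb, c]
      · linear_combination (-a' 1) * hb1 + K.bar (b' 2) * hD
      · linear_combination (-a' 2) * hb1 - K.bar (b' 1) * hD
    have : t = x := eq_of_parallel K ha hb (c := c) (by
      rw [← back a, show G *ᵥ a = c • b' from hac, mulVec_smul, back])
    exact hnc (this ▸ Commute.refl t)
  have w1 : K.bar (w 1) = 0 := (mul_eq_zero.mp (show (a' 1 * b' 2 - a' 2 * b' 1) * K.bar (w 1) = 0 by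
    linear_combination b' 2 * p1 - a' 2 * p2)).resolve_left hD
  have w2 : K.bar (w 2) = 0 := (mul_eq_zero.mp (show (a' 1 * b' 2 - a' 2 * b' 1) * K.bar (w 2) = 0 by
    linear_combination a' 1 * p2 - b' 1 * p1)).resolve_left hD
  have hw : w = w 0 • Pi.single 0 1 := by
    ext i
    fin_cases i <;> simp [(map_eq_zero K.bar).mp w1, (map_eq_zero K.bar).mp w2]
  exact (eq_of_parallel K hu' hu (c := w 0) (by
    rw [← back u', show G *ᵥ u' = w 0 • Pi.single 0 1 from hw, ← hg, mulVec_smul, back])).symm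

include K in
/-- Orthogonal unit vectors linking two given unit vectors. -/
theorem exists_link (hq : 3 ≤ q) (h2 : (2 : F) ≠ 0) {u w : Fin 3 → F}
    (hu : hermForm 3 F q u u = 1) (hw : hermForm 3 F q w w = 1) :
    ∃ a b, hermForm 3 F q a a = 1 ∧ hermForm 3 F q b b = 1 ∧ hermForm 3 F q a u = 0 ∧
      hermForm 3 F q a b = 0 ∧ hermForm 3 F q b w = 0 := by
  classical
  -- a unit vector orthogonal to `u` whose span with `w` is non-degenerate
  obtain ⟨g, -, hg⟩ := exists_move K (n := 3) (k := 0) (u := u) (v := Pi.single 0 1)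
    (fun i hi => absurd hi (Nat.not_lt_zero _)) (fun i hi => absurd hi (Nat.not_lt_zero _)) hu
    (by rw [h_single K]; simp)
  set G := ((g : GL (Fin 3) F) : Matrix (Fin 3) (Fin 3) F)
  set G' := (((g⁻¹ : GU 3 F q) : GL (Fin 3) F) : Matrix (Fin 3) (Fin 3) F)
  have hGG' : G * G' = 1 := Units.mul_inv (g : GL (Fin 3) F)
  have hGh : ∀ u v, hermForm 3 F q (G *ᵥ u) (G *ᵥ v) = hermForm 3 F q u v := g.2
  set w' := G *ᵥ w
  obtain ⟨a', ha1, ha0, haw⟩ : ∃ a' : Fin 3 → F, hermForm 3 F q a' a' = 1 ∧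
      hermForm 3 F q a' (Pi.single 0 1) = 0 ∧
      hermForm 3 F q a' w' * K.bar (hermForm 3 F q a' w') ≠ 1 := by
    have hW : ∀ a' : Fin 3 → F, a' 0 = 0 → hermForm 3 F q a' w' =
        a' 1 * K.bar (w' 1) + a' 2 * K.bar (w' 2) := fun a' h => by
      rw [Unitary.herm_apply K, Fin.sum_univ_three, h, zero_mul, zero_add]
    by_cases c1 : w' 1 * K.bar (w' 1) ≠ 1
    · refine ⟨Pi.single 1 1, by rw [h_single K]; simp, by rw [h_single K]; simp, ?_⟩
      rw [hW _ (by simp)]
      simp [K.bar_bar]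
      rwa [mul_comm]
    by_cases c2 : w' 2 * K.bar (w' 2) ≠ 1
    · refine ⟨Pi.single 2 1, by rw [h_single K]; simp, by rw [h_single K]; simp, ?_⟩
      rw [hW _ (by simp)]
      simp [K.bar_bar]
      rwa [mul_comm]
    push Not at c1 c2
    obtain ⟨α, hα⟩ := K.exists_norm 2 (map_ofNat _ 2)
    obtain ⟨β, hβ⟩ := K.exists_norm (-1) (by rw [map_neg, map_one])
    set X := α * K.bar (w' 1) * (K.bar β * w' 2) with hX
    have hX0 : X ≠ 0 := by
      refine mul_ne_zero (mul_ne_zero ?_ ?_) (mul_ne_zero ?_ ?_)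
      · intro h; rw [h, zero_mul] at hα; exact h2 hα.symm
      · exact right_ne_zero_of_mul_eq_one c1
      · intro h; rw [h, mul_zero] at hβ; simp at hβ
      · exact left_ne_zero_of_mul_eq_one c2
    obtain ⟨ζ, hζ, hζX⟩ : ∃ ζ : F, ζ * K.bar ζ = 1 ∧ X * K.bar ζ + K.bar X * ζ ≠ 0 := by
      by_cases hX1 : X + K.bar X ≠ 0
      · exact ⟨1, by simp, by simpa using hX1⟩
      push Not at hX1
      obtain ⟨ζ, hζ, hne⟩ : ∃ ζ : F, ζ * K.bar ζ = 1 ∧ K.bar ζ ≠ ζ := by
        by_contra hall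
        push Not at hall
        have hle : Nat.card {a : F // a * K.bar a = 1} ≤ 2 := by
          have := Fintype.ofFinite F
          rw [Nat.card_eq_fintype_card, Fintype.card_subtype]
          refine (Finset.card_le_card (t := {1, -1}) fun a ha => ?_).trans Finset.card_le_two
          have ha' := (Finset.mem_filter.mp ha).2
          rw [hall a ha'] at ha'
          simpa using mul_self_eq_one_iff.mp ha'
        rw [card_norm_one K] at hle
        omega
      refine ⟨ζ, hζ, fun h => hne ?_⟩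
      exact sub_eq_zero.mp ((mul_eq_zero.mp (show X * (K.bar ζ - ζ) = 0 by
        linear_combination h - ζ * hX1)).resolve_left hX0)
    refine ⟨![0, α, ζ * β], ?_, by rw [h_single K]; simp, ?_⟩
    · rw [Unitary.herm_apply K, Fin.sum_univ_three]
      simp [map_mul]
      linear_combination hα + (ζ * K.bar ζ) * hβ - hζ
    · rw [hW _ (by simp)]
      simp [map_mul, map_add, K.bar_bar]
      intro h
      refine hζX ?_
      rw [hX]
      simp only [map_mul, K.bar_bar]
      linear_combination h - (w' 1 * K.bar (w' 1)) * hα - 2 * c1 -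
        (w' 2 * K.bar (w' 2) * (ζ * K.bar ζ)) * hβ + (ζ * K.bar ζ) * c2 + hζ
  have haG : hermForm 3 F q (G' *ᵥ a') u = hermForm 3 F q a' (Pi.single 0 1) := by
    rw [← hGh, mulVec_mulVec, hGG', one_mulVec, hg]
  have haG1 : hermForm 3 F q (G' *ᵥ a') (G' *ᵥ a') = 1 := by
    rw [← hGh, mulVec_mulVec, hGG', one_mulVec, ha1]
  set a := G' *ᵥ a'
  have haw2 : hermForm 3 F q a w * K.bar (hermForm 3 F q a w) ≠ 1 := by
    rw [← hGh, mulVec_mulVec, hGG', one_mulVec]; exact haw
  -- the vector orthogonal to both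
  obtain ⟨g₂, -, hg₂⟩ := exists_move K (n := 3) (k := 0) (u := a) (v := Pi.single 0 1)
    (fun i hi => absurd hi (Nat.not_lt_zero _)) (fun i hi => absurd hi (Nat.not_lt_zero _)) haG1
    (by rw [h_single K]; simp)
  set H2 := ((g₂ : GL (Fin 3) F) : Matrix (Fin 3) (Fin 3) F)
  set H2' := (((g₂⁻¹ : GU 3 F q) : GL (Fin 3) F) : Matrix (Fin 3) (Fin 3) F)
  have hHH' : H2 * H2' = 1 := Units.mul_inv (g₂ : GL (Fin 3) F)
  have hHh : ∀ u v, hermForm 3 F q (H2 *ᵥ u) (H2 *ᵥ v) = hermForm 3 F q u v := g₂.2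
  have hback : ∀ x, H2 *ᵥ (H2' *ᵥ x) = x := fun x => by rw [mulVec_mulVec, hHH', one_mulVec]
  set v := H2 *ᵥ w
  have hv : hermForm 3 F q v v = 1 := by rw [hHh, hw]
  have hv0 : hermForm 3 F q a w = K.bar (v 0) := by
    rw [← hHh, hg₂, h_single_left K]
  set b₀ : Fin 3 → F := ![0, -K.bar (v 2), K.bar (v 1)]
  have hb0 : hermForm 3 F q b₀ b₀ ≠ 0 := by
    rw [hv0, K.bar_bar] at haw2
    rw [Unitary.herm_apply K, Fin.sum_univ_three] at hv
    rw [Unitary.herm_apply K, Fin.sum_univ_three]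
    simp [b₀, K.bar_bar]
    intro h
    exact haw2 (by linear_combination hv - h)
  have hb0v : hermForm 3 F q b₀ v = 0 := by
    rw [Unitary.herm_apply K, Fin.sum_univ_three]
    simp [b₀]
    ring
  have hb00 : hermForm 3 F q (Pi.single 0 1) b₀ = 0 := by
    rw [h_single_left K]; simp [b₀]
  obtain ⟨c, hc⟩ := K.exists_norm (hermForm 3 F q b₀ b₀)⁻¹ (by rw [map_inv₀, bar_self K])
  refine ⟨a, H2' *ᵥ (c • b₀), haG1, ?_, by rw [haG]; exact ha0, ?_, ?_⟩
  · rw [← hHh, hback, h_smul_left K, h_smul_right K, ← mul_assoc, hc,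
      inv_mul_cancel₀ hb0]
  · rw [← hHh, hback, hg₂, h_smul_right K, hb00, mul_zero]
  · rw [← hHh, hback, h_smul_left K, hb0v, mul_zero]


/-- Let q be odd, F the field with q² elements, S = SU_3(F) (determinant-one isometries of the standard Hermitian form) and t an involution of S. Then: exactly q(q−1) involutions other than t commute with t; exactly q(q−2)(q²−1) involutions do not commute with t but commute with some involution commuting with t; exactly (q+1)(q²−1) involutions x do not commute with t and admit no involution commuting with both t and x; and every involution can be reached from t in at most three steps, each step going to an involution that commutes with the previous one (the commuting involution graph is connected of diameter 3). -/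
theorem result {F : Type*} [Field F] [Fintype F] {q : ℕ} (hq : Odd q)
    (hF : Fintype.card F = q ^ 2) (t : ↥(Cfsg.SU 3 F q)) (ht : t ≠ 1) (ht2 : t * t = 1) :
    Nat.card {x : ↥(Cfsg.SU 3 F q) // x ≠ 1 ∧ x * x = 1 ∧ x ≠ t ∧ Commute t x} = q * (q - 1) ∧
    Nat.card {x : ↥(Cfsg.SU 3 F q) // x ≠ 1 ∧ x * x = 1 ∧ ¬ Commute t x ∧
        ∃ y : ↥(Cfsg.SU 3 F q), y ≠ 1 ∧ y * y = 1 ∧ Commute t y ∧ Commute y x} = q * (q - 2) * (q ^ 2 - 1) ∧
    Nat.card {x : ↥(Cfsg.SU 3 F q) // x ≠ 1 ∧ x * x = 1 ∧ ¬ Commute t x ∧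
        ∀ y : ↥(Cfsg.SU 3 F q), y ≠ 1 → y * y = 1 → ¬ (Commute t y ∧ Commute y x)} = (q + 1) * (q ^ 2 - 1) ∧
    ∀ x : ↥(Cfsg.SU 3 F q), x ≠ 1 → x * x = 1 →
      ∃ y z : ↥(Cfsg.SU 3 F q), y ≠ 1 ∧ y * y = 1 ∧ z ≠ 1 ∧ z * z = 1 ∧
        Commute t y ∧ Commute y z ∧ Commute z x := by
  classical
  haveI : Finite F := Finite.of_fintype F
  obtain ⟨K⟩ := exists_conj_of_card (F := F) (q := q) hF
  have h2 : (2 : F) ≠ 0 := Ring.two_ne_zero fun h => by
    have := FiniteField.even_card_iff_char_two.mp h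
    have := Nat.odd_iff.mp (hF ▸ hq.pow (n := 2) : Odd (Fintype.card F))
    omega
  have hq3 : 3 ≤ q := by
    have := K.two_le
    have := Nat.odd_iff.mp hq
    omega
  have hN : Nat.card (Nb t) = q * (q - 1) := card_nb K hq3 h2 ht ht2
  let P2 := {x : ↥(Cfsg.SU 3 F q) // x ≠ 1 ∧ x * x = 1 ∧ ¬ Commute t x ∧
    ∃ y : ↥(Cfsg.SU 3 F q), y ≠ 1 ∧ y * y = 1 ∧ Commute t y ∧ Commute y x}
  let Sg := Σ y : Nb t, {z : Nb y.1 // ¬ Commute t z.1}
  have hsecond : Nat.card P2 = q * (q - 2) * (q ^ 2 - 1) := by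
    have e : Nat.card Sg = Nat.card P2 := by
      refine Nat.card_congr (Equiv.ofBijective
        (fun s => ⟨s.2.1.1, s.2.1.2.1, s.2.1.2.2.1, s.2.2, s.1.1, s.1.2.1, s.1.2.2.1, s.1.2.2.2.2,
          s.2.1.2.2.2.2⟩) ⟨?_, ?_⟩)
      · rintro ⟨⟨y, hy, hy2, hyt, hyc⟩, ⟨⟨x, hx, hx2, hxy, hxc⟩, hnc⟩⟩
          ⟨⟨y', hy', hy2', hyt', hyc'⟩, ⟨⟨x', hx', hx2', hxy', hxc'⟩, hnc'⟩⟩ h
        have hxx : x = x' := congrArg Subtype.val h
        subst hxx
        have hyy : y = y' := common_unique K h2 ht ht2 hx hx2 hnc hy hy2 hy' hy2' hyc hxc hyc' hxc'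
        subst hyy
        rfl
      · rintro ⟨x, hx, hx2, hnc, y, hy, hy2, hty, hyx⟩
        exact ⟨⟨⟨y, hy, hy2, fun h => hnc (h ▸ hyx), hty⟩,
          ⟨⟨x, hx, hx2, fun h => hnc (h ▸ hty), hyx⟩, hnc⟩⟩, rfl⟩
    rw [← e, Nat.card_sigma]
    have hfib : ∀ y : Nb t, Nat.card {z : Nb y.1 // ¬ Commute t z.1} = q * (q - 1) - 2 := by
      rintro ⟨y, hy, hy2, hyt, hyc⟩
      have hy' := card_nb K hq3 h2 hy hy2
      have := Fintype.ofFinite (Nb y)
      obtain ⟨a1, a2, a3, a4, a5, a6⟩ := third_spec ht ht2 hy hy2 hyt hyc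
      have hz1 : (⟨t, ht, ht2, Ne.symm hyt, hyc.symm⟩ : Nb y) ≠ ⟨t * y, a1, a2, a4, a6⟩ :=
        fun h => a3 (congrArg Subtype.val h).symm
      have hset : (Finset.univ.filter fun z : Nb y => Commute t z.1) =
          {⟨t, ht, ht2, Ne.symm hyt, hyc.symm⟩, ⟨t * y, a1, a2, a4, a6⟩} := by
        ext ⟨z, hz, hz2, hzy, hzc⟩
        simp only [Finset.mem_filter, Finset.mem_univ, true_and, Finset.mem_insert,
          Finset.mem_singleton, Subtype.mk.injEq]
        constructor
        · intro hzt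
          by_cases hzt' : z = t
          · exact Or.inl hzt'
          · exact Or.inr (third K h2 ht ht2 hy hy2 hyt hyc hz hz2 hzt' hzt hzy hzc)
        · rintro (rfl | rfl)
          · exact Commute.refl _
          · exact a5
      have h3 := Finset.card_filter_add_card_filter_not (s := (Finset.univ : Finset (Nb y)))
        (fun z : Nb y => Commute t z.1)
      rw [hset, Finset.card_pair hz1, Finset.card_univ, ← Nat.card_eq_fintype_card, hy'] at h3
      rw [Nat.card_eq_fintype_card, Fintype.card_subtype]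
      convert (Nat.eq_sub_of_add_eq' h3) using 3
    simp only [hfib, Finset.sum_const, Finset.card_univ, smul_eq_mul, ← Nat.card_eq_fintype_card,
      hN]
    obtain ⟨k, rfl⟩ : ∃ k, q = k + 2 := ⟨q - 2, by omega⟩
    rw [show (k + 2) * (k + 2 - 1) - 2 = k * (k + 3) by
        rw [show k + 2 - 1 = k + 1 by omega]; apply Nat.sub_eq_of_eq_add; ring,
      show (k + 2) ^ 2 - 1 = (k + 1) * (k + 3) by apply Nat.sub_eq_of_eq_add; ring,
      show k + 2 - 1 = k + 1 by omega, Nat.add_sub_cancel]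
    ring
  refine ⟨hN, hsecond, ?_, ?_⟩
  · let I := {x : ↥(Cfsg.SU 3 F q) // x ≠ 1 ∧ x * x = 1}
    have := Fintype.ofFinite ↥(Cfsg.SU 3 F q)
    have hI := card_invol K h2
    rw [Nat.card_eq_fintype_card, Fintype.card_subtype] at hI
    change Nat.card P2 = _ at hsecond
    rw [Nat.card_eq_fintype_card, Fintype.card_subtype] at hsecond hN ⊢
    set S := Finset.univ.filter fun x : ↥(Cfsg.SU 3 F q) => x ≠ 1 ∧ x * x = 1 with hS
    have p1 := Finset.card_filter_add_card_filter_not (s := S)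
      (fun x : ↥(Cfsg.SU 3 F q) => Commute t x)
    have p2 := Finset.card_filter_add_card_filter_not
      (s := S.filter fun x => ¬ Commute t x)
      (fun x : ↥(Cfsg.SU 3 F q) => ∃ y, y ≠ 1 ∧ y * y = 1 ∧ Commute t y ∧ Commute y x)
    have c1 : (S.filter fun x => Commute t x).card = q * (q - 1) + 1 := by
      rw [← hN, ← Finset.card_insert_of_notMem (s := Finset.univ.filter
        fun x : ↥(Cfsg.SU 3 F q) => x ≠ 1 ∧ x * x = 1 ∧ x ≠ t ∧ Commute t x) (a := t) (by simp)]
      congr 1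
      ext x
      by_cases hxt : x = t
      · simp [hS, hxt, ht, ht2]
      · simp [hS, hxt, and_assoc]
    simp only [hS, Finset.filter_filter, and_assoc] at p1 p2 c1
    rw [c1, hI] at p1
    rw [hsecond] at p2
    push Not at p2
    obtain ⟨k, rfl⟩ : ∃ k, q = k + 2 := ⟨q - 2, by omega⟩
    rw [show (k + 2) ^ 2 - (k + 2) = (k + 1) * (k + 2) by apply Nat.sub_eq_of_eq_add; ring,
      show k + 2 - 1 = k + 1 by omega] at p1
    rw [show (k + 2) ^ 2 - 1 = (k + 1) * (k + 3) by apply Nat.sub_eq_of_eq_add; ring,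
      Nat.add_sub_cancel] at p2
    rw [show (k + 2) ^ 2 - 1 = (k + 1) * (k + 3) by apply Nat.sub_eq_of_eq_add; ring]
    simp only [not_and] at *
    nlinarith
  · intro x hx hx2
    obtain ⟨u, hu⟩ := exists_isR K h2 ht ht2
    obtain ⟨w, hw⟩ := exists_isR K h2 hx hx2
    obtain ⟨a, b, ha, hb, hau, hab, hbw⟩ := exists_link K hq3 h2 hu.1 hw.1
    obtain ⟨y, hy, hy2, hyR⟩ := exists_R K h2 ha
    obtain ⟨z, hz, hz2, hzR⟩ := exists_R K h2 hb
    exact ⟨y, z, hy, hy2, hz, hz2, (commute_of_orth K hyR hu hau).symm,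
      commute_of_orth K hyR hzR hab, commute_of_orth K hzR hw hbw⟩

end Cfsg.Agent.S2356
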