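import Cfsg.Statements.S2360
import Cfsg.Agent.Lib.Classical.UnitaryThreeInvol

set_option autoImplicit false
set_option linter.style.haveILetI false
open Cfsg

namespace Cfsg.Agent.S2360

/-- Let q be odd, F the field with q² elements and S = SU_3(F) (determinant-one isometries of the standard Hermitian form). Then all involutions of S are conjugate; there are exactly q²(q²−q+1) of them; the centralizer of an involution has order q(q+1)(q²−1), the order of the full unitary group of degree 2; and for two distinct commuting involutions t and x there is exactly one further involution commuting with both. -/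
theorem result {F : Type*} [Field F] [Fintype F] {q : ℕ} (hq : Odd q)
    (hF : Fintype.card F = q ^ 2) (t : ↥(Cfsg.SU 3 F q)) (ht : t ≠ 1) (ht2 : t * t = 1) :
    (∀ x : ↥(Cfsg.SU 3 F q), x ≠ 1 → x * x = 1 → ∃ g : ↥(Cfsg.SU 3 F q), g * t * g⁻¹ = x) ∧
    Nat.card {x : ↥(Cfsg.SU 3 F q) // x ≠ 1 ∧ x * x = 1} = q ^ 2 * (q ^ 2 - q + 1) ∧
    Nat.card ↥(Subgroup.centralizer ({t} : Set ↥(Cfsg.SU 3 F q))) = q * (q + 1) * (q ^ 2 - 1) ∧
    ∀ x : ↥(Cfsg.SU 3 F q), x ≠ 1 → x * x = 1 → x ≠ t → Commute t x →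
      Nat.card {y : ↥(Cfsg.SU 3 F q) // y ≠ 1 ∧ y * y = 1 ∧ y ≠ t ∧ y ≠ x ∧ Commute t y ∧ Commute x y} = 1 := by
  classical
  haveI : Finite F := Finite.of_fintype F
  obtain ⟨K⟩ := CfsgLib.Classical.Herm.exists_conj_of_card (F := F) (q := q) hF
  have h2 : (2 : F) ≠ 0 := Ring.two_ne_zero fun h => by
    have := FiniteField.even_card_iff_char_two.mp h
    have := Nat.odd_iff.mp (hF ▸ hq.pow (n := 2) : Odd (Fintype.card F))
    omega
  refine ⟨fun x hx hx2 => ?_, CfsgLib.Classical.SU3Invol.card_invol K h2,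
    CfsgLib.Classical.SU3Invol.card_centralizer_of K h2 ht ht2, fun x hx hx2 hxt hc => ?_⟩
  · obtain ⟨g, hg⟩ := CfsgLib.Classical.SU3Invol.exists_conj_dElt K h2 ht ht2
    obtain ⟨g', hg'⟩ := CfsgLib.Classical.SU3Invol.exists_conj_dElt K h2 hx hx2
    exact ⟨g' * g⁻¹, by rw [← hg, ← hg']; group⟩
  · obtain ⟨a1, a2, a3, a4, a5, a6⟩ :=
      CfsgLib.Classical.SU3Invol.third_spec ht ht2 hx hx2 hxt hc
    rw [Nat.card_eq_one_iff_unique]
    refine ⟨⟨fun y z => Subtype.ext ?_⟩, ⟨⟨t * x, a1, a2, a3, a4, a5, a6⟩⟩⟩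
    rw [CfsgLib.Classical.SU3Invol.third K h2 ht ht2 hx hx2 hxt hc y.2.1 y.2.2.1 y.2.2.2.1
        y.2.2.2.2.2.1 y.2.2.2.2.1 y.2.2.2.2.2.2,
      CfsgLib.Classical.SU3Invol.third K h2 ht ht2 hx hx2 hxt hc z.2.1 z.2.2.1 z.2.2.2.1
        z.2.2.2.2.2.1 z.2.2.2.2.1 z.2.2.2.2.2.2]

end Cfsg.Agent.S2360
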