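import Cfsg.Statements.S2363
import Cfsg.Agent.Lib.LieOrderBound.Cases

set_option autoImplicit false
open Cfsg

namespace Cfsg.Agent.S2363

/-- Let G be a finite simple group of Lie type in characteristic p and let p^k be the exact power of p dividing the order of G. Then the order of G is less than p^(3k); and unless G is isomorphic to PSL(2, F) for the field F with p^k elements, the cube of the order of G is less than p^(8k) (that is, the order is below p^(8k/3)). -/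
theorem result {G : Type*} [Group G] [Finite G] (p : ℕ) (hp : p.Prime) (hG : Cfsg.IsLieTypeChar p G) :
    Nat.card G < p ^ (3 * (Nat.card G).factorization p) ∧
      ((¬ ∃ (F : Type) (_ : Field F) (_ : Fintype F), Fintype.card F = p ^ (Nat.card G).factorization p ∧
          Nonempty (G ≃* Matrix.ProjectiveSpecialLinearGroup (Fin 2) F)) →
        Nat.card G ^ 3 < p ^ (8 * (Nat.card G).factorization p)) := by
  obtain ⟨hb, hb'⟩ : Nat.card G < p ^ (3 * (Nat.card G).factorization p) ∧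
      (CfsgLib.LieOrderBound.Bound p (Nat.card G) ∨
        ∃ (F : Type) (_ : Field F) (_ : Fintype F), Fintype.card F = p ^ (Nat.card G).factorization p ∧
          Nonempty (G ≃* Matrix.ProjectiveSpecialLinearGroup (Fin 2) F)) := by
    have key : CfsgLib.LieOrderBound.Bound p (Nat.card G) → Nat.card G < p ^ (3 * (Nat.card G).factorization p) ∧
        (CfsgLib.LieOrderBound.Bound p (Nat.card G) ∨
          ∃ (F : Type) (_ : Field F) (_ : Fintype F), Fintype.card F = p ^ (Nat.card G).factorization p ∧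
            Nonempty (G ≃* Matrix.ProjectiveSpecialLinearGroup (Fin 2) F)) := fun h => ⟨h.1, Or.inl h⟩
    rcases hG with ⟨F, _, _, _, n, hn, -, ⟨e⟩⟩ | ⟨F, _, _, _, m, hm, -, ⟨e⟩⟩ |
      ⟨F, _, _, _, n, q, hF, hn, -, ⟨e⟩⟩ | ⟨F, _, _, _, m, hm, hodd, ⟨e⟩⟩ | ⟨F, _, _, _, m, hm, ⟨e⟩⟩ |
      ⟨F, _, _, _, m, a, b, hm, hab, ⟨e⟩⟩ |
      ⟨F, _, _, _, (⟨-, ⟨e⟩⟩ | ⟨⟨e⟩⟩ | ⟨⟨e⟩⟩ | ⟨⟨e⟩⟩ | ⟨⟨e⟩⟩)⟩ |
      ⟨K, _, _, _, q, hq, (⟨hK, ⟨e⟩⟩ | ⟨hK, ⟨e⟩⟩)⟩ |
      ⟨rfl, F, _, _, m, hm, hF, ⟨e⟩⟩ | ⟨rfl, K, _, _, m, -, hK, ⟨e⟩⟩ | ⟨rfl, K, _, _, m, -, hK, ⟨e⟩⟩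
    · obtain ⟨h3, hlt, hex⟩ := CfsgLib.LieOrderBound.psl (p := p) (F := F) n hn
      rw [← Nat.card_congr e.toEquiv] at h3 hlt hex
      refine ⟨hlt, ?_⟩
      by_cases hn3 : 3 ≤ n
      · exact Or.inl (h3 hn3)
      · obtain rfl : n = 2 := by omega
        exact Or.inr ⟨F, inferInstance, inferInstance, hex rfl, ⟨e⟩⟩
    all_goals
      refine key ?_
      rw [Nat.card_congr e.toEquiv]
    exacts [CfsgLib.LieOrderBound.psp m hm, CfsgLib.LieOrderBound.psu hF n hn,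
      CfsgLib.LieOrderBound.pomega_odd hodd m hm, CfsgLib.LieOrderBound.pomega_plus m hm,
      CfsgLib.LieOrderBound.pomega_minus m hm a b hab, CfsgLib.LieOrderBound.chev_g2,
      CfsgLib.LieOrderBound.chev_f4, CfsgLib.LieOrderBound.chev_e6, CfsgLib.LieOrderBound.chev_e7,
      CfsgLib.LieOrderBound.chev_e8, CfsgLib.LieOrderBound.twisted_e6 hq hK,
      CfsgLib.LieOrderBound.twisted_d4 hq hK, CfsgLib.LieOrderBound.suzuki hm hF,
      CfsgLib.LieOrderBound.twisted_f4 hK, CfsgLib.LieOrderBound.twisted_g2 hK]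
  exact ⟨hb, fun hne => hb'.elim (fun h => h.2) (fun h => absurd h hne)⟩

end Cfsg.Agent.S2363
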