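import Cfsg.Statements.S2364
import Cfsg.Agent.Lib.Classical.Card

set_option autoImplicit false
open Cfsg

namespace Cfsg.Agent.S2364

open CfsgLib Module

/-- A finite order endomorphism is killed by the order of the general linear group. -/
theorem pow_card_GL {F : Type*} [Field F] [Fintype F] {U : Type*} [AddCommGroup U] [Module F U] [FiniteDimensional F U]
    (e : Module.End F U) {o : ℕ} (ho : o ≠ 0) (he : e ^ o = 1) :
    e ^ Nat.card (GL (Fin (finrank F U)) F) = 1 := by
  obtain ⟨u, hu⟩ := IsUnit.of_pow_eq_one he ho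
  have hc : Nat.card (Module.End F U)ˣ = Nat.card (GL (Fin (finrank F U)) F) :=
    Nat.card_congr (Units.mapEquiv (algEquivMatrix (Module.finBasis F U)).toMulEquiv).toEquiv
  have hfin : Finite (Module.End F U) := Module.finite_of_finite F
  rw [← hu, ← hc, ← Units.val_pow_eq_pow_val, pow_card_eq_one', Units.val_one]

variable {F : Type*} [Field F] [Fintype F]

/-- Prime divisors of smaller general linear groups. -/
theorem dvd_card_SL {m r : ℕ} (hm : 2 ≤ m) (hr : r.Prime) {j : ℕ} (hj : j ≤ m)
    (h : r ∣ Nat.card (GL (Fin j) F)) : r ∣ Nat.card (Matrix.SpecialLinearGroup (Fin m) F) := by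
  set q := Fintype.card F with hq
  rw [Classical.card_GL_fin] at h
  have hsl := Classical.sub_one_mul_card_SL (F := F) (n := m) (by omega)
  rw [← hq] at h hsl
  obtain ⟨i, -, hi⟩ := (Prime.dvd_finsetProd_iff hr.prime _).mp h
  rw [show q ^ j - q ^ (i : ℕ) = q ^ (i : ℕ) * (q ^ (j - i) - 1) by
    rw [Nat.mul_sub, mul_one, ← pow_add, Nat.add_sub_cancel' i.2.le]] at hi
  have hprod : r ∣ ∏ i : Fin m, (q ^ m - q ^ (i : ℕ)) := by
    rcases hr.dvd_mul.mp hi with h1 | h1
    · refine dvd_trans ?_ (Finset.dvd_prod_of_mem _ (Finset.mem_univ (⟨1, by omega⟩ : Fin m)))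
      have h2 := hr.dvd_of_dvd_pow h1
      exact Nat.dvd_sub (h2.trans (dvd_pow_self q (by omega))) (by simpa using h2)
    · have he : 1 ≤ j - i := by have := i.2; omega
      refine dvd_trans ?_ (Finset.dvd_prod_of_mem _ (Finset.mem_univ (⟨m - (j - i), by omega⟩ : Fin m)))
      show r ∣ q ^ m - q ^ (m - (j - i))
      rw [show q ^ m - q ^ (m - (j - i)) = q ^ (m - (j - i)) * (q ^ (j - i) - 1) by
        rw [Nat.mul_sub, mul_one, ← pow_add, show m - (j - i) + (j - i) = m by omega]]
      exact h1.mul_left _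
  by_cases hr1 : r ∣ q - 1
  · have h2 : (q - 1) * (q - 1) ∣ ∏ i : Fin m, (q ^ m - q ^ (i : ℕ)) := by
      refine dvd_trans ?_ (Finset.prod_dvd_prod_of_subset {(⟨m - 1, by omega⟩ : Fin m), ⟨m - 2, by omega⟩} _ _
        (Finset.subset_univ _))
      rw [Finset.prod_pair (by simp [Fin.ext_iff]; omega)]
      refine mul_dvd_mul ?_ ?_
      · show q - 1 ∣ q ^ m - q ^ (m - 1)
        refine ⟨q ^ (m - 1), ?_⟩
        rw [Nat.sub_mul, one_mul, ← pow_succ', Nat.sub_add_cancel (by omega : 1 ≤ m)]
      · show q - 1 ∣ q ^ m - q ^ (m - 2)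
        rw [show q ^ m - q ^ (m - 2) = q ^ (m - 2) * (q ^ 2 - 1) by
          rw [Nat.mul_sub, mul_one, ← pow_add, show m - 2 + 2 = m by omega]]
        exact (Nat.sub_one_dvd_pow_sub_one q 2).mul_left _
    rw [← hsl] at h2
    have h0 : 0 < q - 1 := by have := Fintype.one_lt_card (α := F); omega
    exact hr1.trans (Nat.dvd_of_mul_dvd_mul_left h0 h2)
  · exact (hr.dvd_mul.mp (hsl ▸ hprod)).resolve_left hr1

/-- An endomorphism preserving a subspace is unipotent on both layers after raising to a suitable power. -/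
theorem layer {V : Type*} [AddCommGroup V] [Module F V] [FiniteDimensional F V] (f : Module.End F V)
    {o : ℕ} (ho : o ≠ 0) (hf : f ^ o = 1) (A : Submodule F V) (hA : ∀ v ∈ A, f v ∈ A) {M : ℕ}
    (hMA : Nat.card (GL (Fin (finrank F A)) F) ∣ M) :
    (∀ v ∈ A, (f ^ M) v = v) ∧
      (Nat.card (GL (Fin (finrank F (V ⧸ A))) F) ∣ M → ∀ v, (f ^ M) v - v ∈ A) := by
  constructor
  · set e : Module.End F A := LinearMap.restrict f hA with he
    have hpow : ∀ (k : ℕ) (x : A), ((e ^ k) x : V) = (f ^ k) x := fun k => by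
      induction k with
      | zero => intro x; rfl
      | succ k ih => intro x; rw [pow_succ', pow_succ', Module.End.mul_apply, Module.End.mul_apply, ← ih]; rfl
    have h1 := pow_card_GL e ho (LinearMap.ext fun x => Subtype.ext (by rw [hpow, hf]; rfl))
    obtain ⟨c, rfl⟩ := hMA
    intro v hv
    have h2 := hpow (Nat.card (GL (Fin (finrank F A)) F) * c) ⟨v, hv⟩
    rw [pow_mul, h1, one_pow] at h2
    exact h2.symm
  · intro hM v
    set e : Module.End F (V ⧸ A) := Submodule.mapQ A A f (fun x hx => hA x hx) with he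
    have hpow : ∀ (k : ℕ) (x : V), (e ^ k) (Submodule.Quotient.mk x) = Submodule.Quotient.mk ((f ^ k) x) := fun k => by
      induction k with
      | zero => intro x; rfl
      | succ k ih => intro x; rw [pow_succ', pow_succ', Module.End.mul_apply, Module.End.mul_apply, ih]; rfl
    have h1 := pow_card_GL e ho (LinearMap.ext fun x => by
      obtain ⟨x, rfl⟩ := Submodule.Quotient.mk_surjective A x
      rw [hpow, hf]; rfl)
    obtain ⟨c, rfl⟩ := hM
    rw [← Submodule.Quotient.eq, ← hpow, pow_mul, h1, one_pow]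
    rfl

/-- An endomorphism of finite order commuting with a nonzero nilpotent one becomes unipotent. -/
theorem main_linear {n : ℕ} (hn : 4 ≤ n) {V : Type*} [AddCommGroup V] [Module F V] [FiniteDimensional F V]
    (hV : finrank F V = n) (f N : Module.End F V) {o : ℕ} (ho : o ≠ 0) (hf : f ^ o = 1) (hfN : f * N = N * f)
    (hN0 : N ≠ 0) (hNil : IsNilpotent N) :
    (f ^ (∏ j ∈ Finset.range (n - 1), Nat.card (GL (Fin j) F)) - 1) ^ 3 = 0 := by
  set M := ∏ j ∈ Finset.range (n - 1), Nat.card (GL (Fin j) F)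
  have hdvd : ∀ j, j ≤ n - 2 → Nat.card (GL (Fin j) F) ∣ M := fun j hj =>
    Finset.dvd_prod_of_mem _ (Finset.mem_range.mpr (by omega))
  have hcomm : ∀ k v, f ((N ^ k) v) = (N ^ k) (f v) := fun k v => by
    rw [← Module.End.mul_apply, ← Module.End.mul_apply]
    exact LinearMap.congr_fun ((show Commute f N from hfN).pow_right k).eq v
  have hker : ∀ k, ∀ v ∈ LinearMap.ker (N ^ k), f v ∈ LinearMap.ker (N ^ k) := fun k v hv => by
    rw [LinearMap.mem_ker] at hv ⊢
    rw [← hcomm, hv, map_zero]
  set g := f ^ M - 1 with hg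
  suffices h : ∀ v, g (g (g v)) = 0 by
    refine LinearMap.ext fun v => ?_
    rw [pow_succ, pow_succ, pow_one, Module.End.mul_apply, Module.End.mul_apply]
    exact h v
  have hgv : ∀ v, g v = (f ^ M) v - v := fun v => rfl
  have two : ∀ A : Submodule F V, (∀ v ∈ A, f v ∈ A) → finrank F A ≤ n - 2 → 2 ≤ finrank F A →
      ∀ v, g (g (g v)) = 0 := by
    intro A hA h1 h2 v
    obtain ⟨l1, l2⟩ := layer f ho hf A hA (hdvd _ h1)
    have hq := A.finrank_quotient_add_finrank
    have l3 := l2 (hdvd _ (by omega)) v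
    have : g (g v) = 0 := by rw [hgv (g v), hgv v, l1 _ l3, sub_self]
    rw [this, map_zero]
  set K := LinearMap.ker N with hK
  have hKf : ∀ v ∈ K, f v ∈ K := fun v hv => by
    have h := hker 1 v
    rw [pow_one] at h
    exact h hv
  have hK1 : 1 ≤ finrank F K := by
    by_contra h
    have hbot : K = ⊥ := Submodule.finrank_eq_zero.mp (by omega)
    have hinj : Function.Injective N := LinearMap.ker_eq_bot.mp hbot
    obtain ⟨k, hk⟩ := hNil
    have hinjk : Function.Injective (N ^ k) := by
      rw [Module.End.coe_pow]; exact hinj.iterate k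
    haveI : Nontrivial V := Module.nontrivial_of_finrank_pos (R := F) (by omega)
    obtain ⟨v, hv⟩ := exists_ne (0 : V)
    exact hv (hinjk (by rw [hk]; simp))
  have hKn : finrank F K ≤ n - 1 := by
    by_contra h
    have hle := Submodule.finrank_le K
    exact hN0 (LinearMap.ker_eq_top.mp (Submodule.eq_top_of_finrank_eq (le_antisymm hle (le_of_eq_of_le hV (by omega : n ≤ finrank F K)))))
  by_cases h2 : 2 ≤ finrank F K ∧ finrank F K ≤ n - 2
  · exact two K hKf h2.2 h2.1
  by_cases h1 : finrank F K = 1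
  · refine two (LinearMap.ker (N ^ 2)) (hker 2) ?_ ?_
    · have hle : finrank F (LinearMap.ker (N ^ 2)) ≤ 2 := by
        have h3 := LinearMap.finrank_range_add_finrank_ker (N ∘ₗ (LinearMap.ker (N ^ 2)).subtype)
        have h4 : LinearMap.range (N ∘ₗ (LinearMap.ker (N ^ 2)).subtype) ≤ K := by
          rintro _ ⟨⟨v, hv⟩, rfl⟩
          rw [LinearMap.mem_ker, pow_two, Module.End.mul_apply] at hv
          exact hv
        have h5 : finrank F (LinearMap.ker (N ∘ₗ (LinearMap.ker (N ^ 2)).subtype)) ≤ finrank F K :=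
          LinearMap.finrank_le_finrank_of_injective (f := (LinearMap.ker (N ^ 2)).subtype.restrict (q := K) fun x hx => hx)
            (fun a b hab => Subtype.ext (Subtype.ext (congrArg (fun z : K => (z : V)) hab :)))
        have := Submodule.finrank_mono h4
        omega
      omega
    · by_contra hlt
      have hle : K ≤ LinearMap.ker (N ^ 2) := fun v hv => by
        rw [LinearMap.mem_ker, pow_two, Module.End.mul_apply, LinearMap.mem_ker.mp hv, map_zero]
      have heq := Submodule.eq_of_le_of_finrank_le hle (by omega)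
      have stab : ∀ k v, (N ^ k) v = 0 → v ∈ K := by
        intro k
        induction k with
        | zero => intro v hv; rw [pow_zero, Module.End.one_apply] at hv; simp [hv]
        | succ k ih =>
          intro v hv
          rw [pow_succ, Module.End.mul_apply] at hv
          have h6 : v ∈ LinearMap.ker (N ^ 2) := by
            rw [LinearMap.mem_ker, pow_two, Module.End.mul_apply]
            exact LinearMap.mem_ker.mp (ih _ hv)
          rwa [heq]
      obtain ⟨k, hk⟩ := hNil
      refine hN0 (LinearMap.ker_eq_top.mp (eq_top_iff.mpr fun v _ => stab k v (by rw [hk]; rfl)))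
  -- the kernel is a hyperplane
  set B := LinearMap.range N with hB
  have hBdim : finrank F B = 1 := by
    have := LinearMap.finrank_range_add_finrank_ker N
    rw [← hB, ← hK] at this
    omega
  have hBK : B ≤ K := by
    rintro _ ⟨v, rfl⟩
    by_contra hne
    -- otherwise `N` is injective on its range
    have hdis : B ⊓ K = ⊥ := by
      by_contra h0
      have hp : 1 ≤ finrank F (B ⊓ K : Submodule F V) := Submodule.one_le_finrank_iff.mpr h0
      have := Submodule.eq_of_le_of_finrank_le (inf_le_left : B ⊓ K ≤ B) (by omega)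
      exact hne ((inf_eq_left.mp this) ⟨v, rfl⟩)
    have hnz : ∀ k, ∀ w ∈ B, (N ^ k) w = 0 → w = 0 := by
      intro k
      induction k with
      | zero => intro w _ hw; simpa using hw
      | succ k ih =>
        intro w hw h
        rw [pow_succ, Module.End.mul_apply] at h
        have := ih (N w) ⟨w, rfl⟩ h
        have h7 : w ∈ B ⊓ K := ⟨hw, this⟩
        rw [hdis] at h7
        simpa using h7
    obtain ⟨k, hk⟩ := hNil
    exact hne (show N v ∈ K by rw [hnz k (N v) ⟨v, rfl⟩ (by rw [hk]; rfl)]; exact K.zero_mem)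
  have hBf : ∀ v ∈ B, f v ∈ B := by
    rintro _ ⟨v, rfl⟩
    exact ⟨f v, (LinearMap.congr_fun hfN v).symm⟩
  intro v
  -- the middle layer
  obtain ⟨lB, -⟩ := layer f ho hf B hBf (hdvd _ (by omega))
  set eK : Module.End F K := LinearMap.restrict f hKf with heK
  have hpK : ∀ (k : ℕ) (x : K), ((eK ^ k) x : V) = (f ^ k) x := fun k => by
    induction k with
    | zero => intro x; rfl
    | succ k ih => intro x; rw [pow_succ', pow_succ', Module.End.mul_apply, Module.End.mul_apply, ← ih]; rfl
  have hBK' : finrank F (B.comap K.subtype) = 1 := by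
    rw [(Submodule.comapSubtypeEquivOfLe hBK).finrank_eq, hBdim]
  obtain ⟨-, lK⟩ := layer eK ho (LinearMap.ext fun x => Subtype.ext (by rw [hpK, hf]; rfl)) (B.comap K.subtype)
    (fun x hx => hBf _ hx) (M := M) (hdvd _ (by omega))
  have hq1 := (B.comap K.subtype).finrank_quotient_add_finrank
  have hq2 := K.finrank_quotient_add_finrank
  have lK' := lK (hdvd _ (by omega))
  -- the top layer
  set eV : Module.End F (V ⧸ K) := Submodule.mapQ K K f (fun x hx => hKf x hx) with heV
  have hpV : ∀ (k : ℕ) (x : V), (eV ^ k) (Submodule.Quotient.mk x) = Submodule.Quotient.mk ((f ^ k) x) := fun k => by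
    induction k with
    | zero => intro x; rfl
    | succ k ih => intro x; rw [pow_succ', pow_succ', Module.End.mul_apply, Module.End.mul_apply, ih]; rfl
  have h1 := pow_card_GL eV ho (LinearMap.ext fun x => by
    obtain ⟨x, rfl⟩ := Submodule.Quotient.mk_surjective K x
    rw [hpV, hf]; rfl)
  have hgK : g v ∈ K := by
    rw [hgv, ← Submodule.Quotient.eq, ← hpV]
    obtain ⟨c, hc⟩ := hdvd (finrank F (V ⧸ K)) (by omega)
    rw [hc, pow_mul, h1, one_pow]; rfl
  have hgB : g (g v) ∈ B := by
    have h3 := lK' ⟨g v, hgK⟩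
    rw [hgv (g v), ← hpK M ⟨g v, hgK⟩]
    exact h3
  rw [hgv (g (g v)), lB _ hgB, sub_self]

/-- Let F be a finite field of characteristic p, n ≥ 4, and let a, b be commuting elements of PSL(n, F) with a of order p. Then every prime divisor of the order of b divides the order of SL(n − 2, F). -/
theorem result {F : Type*} [Field F] [Fintype F] (p : ℕ) [Fact p.Prime] [CharP F p] (n : ℕ) (hn : 4 ≤ n)
    (a b : Matrix.ProjectiveSpecialLinearGroup (Fin n) F) (ha : orderOf a = p) (hab : Commute a b) :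
    (orderOf b).primeFactors ⊆ (Nat.card (Matrix.SpecialLinearGroup (Fin (n - 2)) F)).primeFactors := by
  classical
  intro r hr
  obtain ⟨hrp, hrd, -⟩ := Nat.mem_primeFactors.mp hr
  refine Nat.mem_primeFactors.mpr ⟨hrp, ?_, Nat.card_pos.ne'⟩
  haveI := Fact.mk hrp
  have hm : 2 ≤ n - 2 := by omega
  have hpq : p ∣ Nat.card (GL (Fin 2) F) := by
    rw [Classical.card_GL_fin, Fin.prod_univ_two]
    obtain ⟨k, hk⟩ := FiniteField.card F p
    refine dvd_mul_of_dvd_right ?_ _
    rw [Fin.val_one, pow_one, hk.2]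
    have := dvd_pow_self p k.ne_zero
    exact Nat.dvd_sub (this.trans (dvd_pow_self _ two_ne_zero)) this
  by_cases hrp' : r = p
  · rw [hrp']; exact dvd_card_SL hm Fact.out hm hpq
  set π := QuotientGroup.mk' (Subgroup.center (Matrix.SpecialLinearGroup (Fin n) F))
  -- lifts of prime power order
  have lift : ∀ (s : ℕ) (_ : s.Prime) (x : Matrix.ProjectiveSpecialLinearGroup (Fin n) F), orderOf x = s →
      ∃ (A : Matrix.SpecialLinearGroup (Fin n) F) (i m : ℕ), A ^ s ^ i = 1 ∧ π A = x ^ m ∧ π A ≠ 1 := by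
    intro s hs x hx
    obtain ⟨X, hX⟩ := QuotientGroup.mk'_surjective _ x
    obtain ⟨i, m, hm', he⟩ := Nat.exists_eq_pow_mul_and_not_dvd (orderOf_pos X).ne' s hs.ne_one
    refine ⟨X ^ m, i, m, by rw [← pow_mul, mul_comm, ← he, pow_orderOf_eq_one], by rw [map_pow]; exact congrArg (· ^ m) hX, ?_⟩
    rw [map_pow, hX]
    intro h1
    exact hm' (hx ▸ orderOf_dvd_of_pow_eq_one h1)
  obtain ⟨d, hd⟩ := hrd
  have hd0 : d ≠ 0 := fun h => (orderOf_pos b).ne' (by rw [hd, h, mul_zero])
  have hb0 : orderOf (b ^ d) = r := by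
    rw [orderOf_pow' _ hd0, hd, Nat.gcd_mul_left_left, Nat.mul_div_cancel _ (Nat.pos_of_ne_zero hd0)]
  obtain ⟨u, i, m₁, hu, hua, hu1⟩ := lift p Fact.out a ha
  obtain ⟨g, j, m₂, hg, hgb, hg1⟩ := lift r hrp _ hb0
  have hc : Commute u g := by
    set z := u * g * u⁻¹ * g⁻¹ with hz
    have hzc : z ∈ Subgroup.center (Matrix.SpecialLinearGroup (Fin n) F) := by
      rw [← QuotientGroup.eq_one_iff]
      show π z = 1
      rw [hz, map_mul, map_mul, map_mul, map_inv, map_inv, hua, hgb, ← pow_mul, mul_inv_eq_one, mul_inv_eq_iff_eq_mul]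
      exact (hab.pow_pow m₁ (d * m₂)).eq
    have hzz : ∀ y, Commute z y := fun y => (Subgroup.mem_center_iff.mp hzc y).symm
    have hzr : z ^ r ^ j = 1 := by
      have h1 : (u * g * u⁻¹) ^ r ^ j = 1 := by rw [conj_pow, hg, mul_one, mul_inv_cancel]
      rw [show u * g * u⁻¹ = z * g by rw [hz]; group, (hzz g).mul_pow, hg, mul_one] at h1
      exact h1
    have hzp : z ^ p ^ i = 1 := by
      have h1 : (g * u⁻¹ * g⁻¹) ^ p ^ i = 1 := by rw [conj_pow, inv_pow, hu, inv_one, mul_one, mul_inv_cancel]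
      rw [show g * u⁻¹ * g⁻¹ = u⁻¹ * z by rw [hz]; group, (hzz u⁻¹).symm.mul_pow, inv_pow, hu, inv_one, one_mul] at h1
      exact h1
    have hz1 : z = 1 := orderOf_eq_one_iff.mp (Nat.eq_one_of_dvd_coprimes
      ((Nat.coprime_primes hrp Fact.out).mpr hrp' |>.pow j i) (orderOf_dvd_of_pow_eq_one hzr)
      (orderOf_dvd_of_pow_eq_one hzp))
    rw [hz, mul_inv_eq_one, mul_inv_eq_iff_eq_mul] at hz1
    exact hz1
  -- the linear maps
  let τ : Matrix.SpecialLinearGroup (Fin n) F →* Module.End F (Fin n → F) :=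
    { toFun := fun A => Matrix.toLin' (A : Matrix (Fin n) (Fin n) F)
      map_one' := by rw [Matrix.SpecialLinearGroup.coe_one, Matrix.toLin'_one]; rfl
      map_mul' := fun A B => by rw [Matrix.SpecialLinearGroup.coe_mul, Matrix.toLin'_mul]; rfl }
  have hτ : Function.Injective τ := fun A B h => Subtype.ext (Matrix.toLin'.injective h)
  haveI : CharP (Module.End F (Fin n → F)) p := by
    haveI : Nonempty (Fin n) := ⟨⟨0, by omega⟩⟩
    exact charP_of_injective_algebraMap (algebraMap F (Module.End F (Fin n → F))).injective p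
  set N := τ u - 1 with hN
  have hNil : IsNilpotent N := ⟨p ^ i, by
    rw [hN, sub_pow_char_pow_of_commute _ _ (Commute.one_right _), one_pow, ← map_pow, hu, map_one, sub_self]⟩
  have hN0 : N ≠ 0 := fun h => hu1 (by
    rw [hN, sub_eq_zero, ← map_one τ] at h
    rw [hτ h, map_one])
  have hfN : τ g * N = N * τ g := by
    rw [hN, mul_sub, sub_mul, mul_one, one_mul, ← map_mul, ← map_mul, hc.eq]
  have hmain := main_linear hn (by simp) (τ g) N (pow_ne_zero j hrp.ne_zero)
    (by rw [← map_pow, hg, map_one]) hfN hN0 hNil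
  set M := ∏ j ∈ Finset.range (n - 1), Nat.card (GL (Fin j) F)
  have hgM : g ^ (M * p ^ 2) = 1 := hτ (by
    rw [map_one, ← sub_eq_zero, map_pow, pow_mul]
    have hp3 : 3 ≤ p ^ 2 := by
      have := (Fact.out : p.Prime).two_le
      calc 3 ≤ 2 ^ 2 := by norm_num
        _ ≤ p ^ 2 := Nat.pow_le_pow_left this 2
    have h2 := pow_eq_zero_of_le hp3 hmain
    rw [sub_pow_char_pow_of_commute _ _ (Commute.one_right _), one_pow] at h2
    exact h2)
  have hg0 : g ≠ 1 := fun h => hg1 (by rw [h, map_one])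
  obtain ⟨k, -, hk⟩ := (Nat.dvd_prime_pow hrp).mp (orderOf_dvd_of_pow_eq_one hg)
  have hk0 : k ≠ 0 := fun h => hg0 (orderOf_eq_one_iff.mp (by rw [hk, h, pow_zero]))
  have hrM : r ∣ M := by
    have h1 : r ∣ M * p ^ 2 := (dvd_pow_self r hk0).trans (hk ▸ orderOf_dvd_of_pow_eq_one hgM)
    exact (hrp.dvd_mul.mp h1).resolve_right fun h => hrp' ((Nat.prime_dvd_prime_iff_eq hrp Fact.out).mp (hrp.dvd_of_dvd_pow h))
  obtain ⟨e, he, hre⟩ := (Prime.dvd_finsetProd_iff hrp.prime _).mp hrM
  exact dvd_card_SL hm hrp (by have := Finset.mem_range.mp he; omega) hre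

end Cfsg.Agent.S2364
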