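import Cfsg.Statements.S2367
import Mathlib
-- import your own Cfsg.Agent.* helpers here

set_option autoImplicit false
open Cfsg

namespace Cfsg.Agent.S2367

open Nat in
theorem of_bound {N p : ℕ} (hp : p.Prime) (hodd : p ≠ 2) (h3 : N.factorization p = 3) (hN : N ≠ 0)
    (hdvd : N ∣ (Nat.factorial 71) ^ 64)
    (hchk : ∀ q < 72, q ≤ 2 ∨ (∃ d ∈ List.range q, 2 ≤ d ∧ d ∣ q) ∨ ¬ q ^ 3 ∣ N ∨ q ^ 4 ∣ N ∨ ∃ e ∈ List.range 64, 2 ^ e ∣ N ∧ q ^ 3 < 2 ^ e) :
    p ^ 3 < 2 ^ N.factorization 2 := by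
  have h3' : p ^ 3 ∣ N := (hp.pow_dvd_iff_le_factorization hN).mpr h3.ge
  have hle : p ≤ 71 := hp.dvd_factorial.mp (hp.dvd_of_dvd_pow ((dvd_pow_self p (by norm_num)).trans (h3'.trans hdvd)))
  have h2 := hp.two_le
  rcases hchk p (by omega) with h | ⟨d, hd, hd2, hdp⟩ | h | h | ⟨e, -, he, hlt⟩
  · omega
  · have := (hp.eq_one_or_self_of_dvd d hdp); have := List.mem_range.mp hd; omega
  · exact absurd h3' h
  · have := (hp.pow_dvd_iff_le_factorization hN).mp h; omega
  · exact hlt.trans_le (Nat.pow_le_pow_right (by norm_num) ((Nat.prime_two.pow_dvd_iff_le_factorization hN).mp he))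

theorem two_pow_bound {p : ℕ} (hp : 5 ≤ p) : 2 * p ^ 3 < 2 ^ (2 * p) := by
  induction p, hp using Nat.le_induction with
  | base => norm_num
  | succ p hp ih =>
    rw [show 2 * (p + 1) = 2 * p + 2 by ring, pow_add]
    have : (p + 1) ^ 3 ≤ 4 * p ^ 3 := by nlinarith [Nat.mul_le_mul hp (Nat.mul_le_mul hp hp)]
    omega

theorem alt_case {n p : ℕ} (hn : 5 ≤ n) (hp : p.Prime) (hodd : p ≠ 2)
    (h3 : (n.factorial / 2).factorization p = 3) : p ^ 3 < 2 ^ (n.factorial / 2).factorization 2 := by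
  have : Fact p.Prime := ⟨hp⟩
  have h2d : 2 ∣ n.factorial := Nat.dvd_factorial (by norm_num) (by omega)
  rw [Nat.factorization_div h2d, Finsupp.tsub_apply, Nat.prime_two.factorization] at h3 ⊢
  rw [Finsupp.single_eq_of_ne hodd, Nat.sub_zero] at h3
  rw [Finsupp.single_eq_same]
  have hleg : ∀ {q : ℕ}, q.Prime → ∀ b, Nat.log q n < b → n.factorial.factorization q = ∑ i ∈ Finset.Ico 1 b, n / q ^ i :=
    fun {q} hq b hb => Nat.factorization_factorial hq hb
  have hb2 : Nat.log 2 n < n := Nat.log_lt_self 2 (by omega)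
  have hbp : Nat.log p n < n := Nat.log_lt_self p (by omega)
  have hp5 : 5 ≤ p := by
    by_contra h
    have hp3 : p = 3 := by
      have := hp.two_le
      have : p ≠ 4 := fun e => by rw [e] at hp; norm_num at hp
      omega
    subst hp3
    have hlt : n < 9 := by
      by_contra h9
      push Not at h9
      have h1 : (9 : ℕ).factorial.factorization 3 ≤ n.factorial.factorization 3 :=
        (Nat.factorization_le_iff_dvd (Nat.factorial_ne_zero _) (Nat.factorial_ne_zero _)).mpr (Nat.factorial_dvd_factorial h9) 3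
      rw [Nat.factorization_factorial Nat.prime_three (b := 3) (by norm_num [Nat.log_lt_iff_lt_pow])] at h1
      rw [show (Finset.Ico 1 3) = {1, 2} by decide] at h1
      norm_num at h1
      omega
    rw [Nat.factorization_factorial Nat.prime_three (b := 2)
      (Nat.log_lt_of_lt_pow (by omega) (by omega))] at h3
    simp at h3
    omega
  have h3p : 3 * p ≤ n := by
    by_contra h
    push Not at h
    have : n.factorial.factorization p < 3 := by
      rw [Nat.factorization_factorial hp (b := 2) (Nat.log_lt_of_lt_pow (by omega) (by nlinarith))]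
      simp only [show Finset.Ico 1 2 = {1} by decide, Finset.sum_singleton, pow_one]
      exact Nat.div_lt_of_lt_mul (by linarith)
    omega
  have hsum : n / 2 + n / 4 ≤ n.factorial.factorization 2 := by
    rw [hleg Nat.prime_two n hb2]
    refine le_trans (le_of_eq ?_) (Finset.sum_le_sum_of_subset (show ({1, 2} : Finset ℕ) ⊆ Finset.Ico 1 n by
      intro x hx; simp at hx ⊢; omega))
    simp
  have hb := two_pow_bound hp5
  have hmono : 2 ^ (2 * p) ≤ 2 ^ (n.factorial.factorization 2) := Nat.pow_le_pow_right (by norm_num) (by omega)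
  have hpow : 2 ^ (n.factorial.factorization 2) = 2 * 2 ^ (n.factorial.factorization 2 - 1) := by
    rw [← pow_succ', Nat.sub_add_cancel (by omega)]
  omega

/-- Let G be an alternating group of degree at least 5 or a simple group with the order of one of the 26 sporadic groups, and let p be an odd prime such that p³ is the exact power of p dividing the order of G. Then p³ is less than the 2-part of the order of G. -/
theorem result {G : Type*} [Group G] [Finite G] (hG : Cfsg.IsAlternating G ∨ Cfsg.IsSporadic G)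
    (p : ℕ) (hp : p.Prime) (hodd : p ≠ 2) (h3 : (Nat.card G).factorization p = 3) :
    p ^ 3 < 2 ^ (Nat.card G).factorization 2 := by
  rcases hG with ⟨n, hn, ⟨e⟩⟩ | hG
  · have : Nontrivial (Fin n) := Fin.nontrivial_iff_two_le.mpr (by omega)
    have hc : Nat.card G = n.factorial / 2 := by
      rw [Nat.card_congr e.toEquiv, nat_card_alternatingGroup, Nat.card_fin]
    rw [hc] at h3 ⊢
    exact alt_case hn hp hodd h3
  · rcases hG with ⟨-, hc⟩ | ⟨-, hc⟩ | ⟨-, hc⟩ | ⟨-, hc⟩ | ⟨-, hc⟩ | ⟨-, hc⟩ | ⟨-, hc⟩ | ⟨-, hc⟩ | ⟨-, hc⟩ | ⟨-, hc⟩ | ⟨-, hc⟩ | ⟨-, hc⟩ | ⟨-, hc⟩ | ⟨-, hc⟩ | ⟨-, hc⟩ | ⟨-, hc⟩ | ⟨-, hc⟩ | ⟨-, hc⟩ | ⟨-, hc⟩ | ⟨-, hc⟩ | ⟨-, hc⟩ | ⟨-, hc⟩ | ⟨-, hc⟩ | ⟨-, hc⟩ | ⟨-, hc⟩ | ⟨-, hc⟩ <;>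
    · rw [hc] at h3 ⊢
      exact of_bound hp hodd h3 (by norm_num) (by decide +kernel) (by decide +kernel)

end Cfsg.Agent.S2367
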