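import Cfsg.Statements.S2368
import Cfsg.Agent.Lib.Unipotent.Order

set_option autoImplicit false
set_option linter.style.haveILetI false
open Cfsg

namespace Cfsg.Agent.S2368

open CfsgLib

/-- Let F be a finite field of characteristic p and m ≥ 1. Every element of GL(m, F) of p-power order has order less than p·m, and GL(m, F) has an element of p-power order at least m; so the largest order of a p-element of GL(m, F) is the least power of p that is at least m. -/
theorem result {F : Type*} [Field F] [Fintype F] (p : ℕ) [Fact p.Prime] [CharP F p] (m : ℕ) (hm : 1 ≤ m) :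
    (∀ g : Matrix.GeneralLinearGroup (Fin m) F, (∃ j : ℕ, orderOf g = p ^ j) → orderOf g < p * m) ∧
      ∃ g : Matrix.GeneralLinearGroup (Fin m) F, (∃ j : ℕ, orderOf g = p ^ j) ∧ m ≤ orderOf g := by
  have hp := (Fact.out : p.Prime)
  constructor
  · rintro g ⟨j, hj⟩
    have hle := (Unipotent.orderOf_le p g (Unipotent.isNilpotent_of_orderOf p hj)).1
    rcases Nat.eq_zero_or_pos (Nat.clog p m) with h0 | h0
    · rw [h0, pow_zero] at hle
      exact lt_of_le_of_lt hle (lt_of_lt_of_le hp.one_lt (Nat.le_mul_of_pos_right p hm))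
    · have h2 : p ^ (Nat.clog p m - 1) < m :=
        (Nat.lt_clog_iff_pow_lt hp.one_lt).mp (by omega)
      refine lt_of_le_of_lt hle ?_
      rw [show Nat.clog p m = (Nat.clog p m - 1) + 1 by omega, pow_succ']
      exact Nat.mul_lt_mul_of_pos_left h2 hp.pos
  · have hN : IsNilpotent (Unipotent.shift F m) := ⟨m, Unipotent.shift_pow_card⟩
    obtain ⟨u, hu⟩ := hN.isUnit_one_add
    have h1 : ((u : Matrix (Fin m) (Fin m) F) - 1) = Unipotent.shift F m := by
      rw [hu, add_sub_cancel_left]
    refine ⟨u, ⟨Nat.clog p m, ?_⟩, ?_⟩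
    · exact (Unipotent.orderOf_le p u (h1 ▸ hN)).2 (h1 ▸ Unipotent.shift_pow_pred_ne_zero hm)
    · rw [(Unipotent.orderOf_le p u (h1 ▸ hN)).2 (h1 ▸ Unipotent.shift_pow_pred_ne_zero hm)]
      exact Nat.le_pow_clog hp.one_lt m

end Cfsg.Agent.S2368
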