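import Cfsg.Statements.S2369
import Cfsg.Agent.S2179
import Cfsg.Agent.Lib.Chev.InvolF4Classes
import Cfsg.Agent.Lib.Chev.ParabolicOrder
import Cfsg.Agent.Lib.Chev.OrderData
-- import your own Cfsg.Agent.* helpers here

set_option autoImplicit false
open Cfsg

namespace Cfsg.Agent.S2369

open CfsgLib.Chev

set_option maxRecDepth 100000

/-- The roots of the radical of the parabolic subgroup of `J`. -/
def radList (J : List ℕ) : List ℕ :=
  (List.range 48).filter fun r : ℕ => decide (24 ≤ r) && !((List.range 4).all fun i : ℕ =>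
    decide (i ∈ J) || decide ((Cfsg.Lie.chevF4.coroot.getD r #[]).getD i 0 = 0))

theorem radList_iff (J : List ℕ) (r : ℕ) :
    r ∈ radList J ↔ r ∈ radSet Cfsg.Lie.chevF4 tabF4 {i | i ∈ J} := by
  have hn : tabF4.n = 48 := by decide +kernel
  have hh : tabF4.half = 24 := by decide +kernel
  have h1 : Cfsg.Lie.chevF4.nroots = 48 := by decide +kernel
  have h2 : Cfsg.Lie.chevF4.rank = 4 := by decide +kernel
  unfold radList
  rw [List.mem_filter, List.mem_range, Bool.and_eq_true, Bool.not_eq_true', ← Bool.not_eq_true,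
    List.all_eq_true]
  simp only [List.mem_range, Bool.or_eq_true, decide_eq_true_eq]
  show _ ↔ r ∈ posSet tabF4 ∧ ¬ Cfsg.Lie.chevF4.InRootSub {i | i ∈ J} r
  unfold posSet Cfsg.Lie.ChevalleyDatum.InRootSub
  simp only [Set.mem_ofPred_eq, hn, hh, h1, h2, or_iff_not_imp_left]
  tauto

variable {F : Type*} [Field F] [Fintype F]

/-- The order of the parabolic subgroup of a pair of nodes. -/
theorem card_par (J : List ℕ) (L : List ℕ)
    (hJ : ((tabF4.stabWords (radList J) (transversal levelsF4 4)).all fun w =>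
      w.all fun i => decide (i ∈ J)) = true)
    (hL : (tabF4.stabWords (radList J) (transversal levelsF4 4)).map (fun w => tabF4.negCount w) = L) :
    Nat.card (Cfsg.Lie.chevF4.parabolicSubgroup F {i | i ∈ J}) =
      Fintype.card F ^ 24 * (Fintype.card F - 1) ^ 4 * (L.map (Fintype.card F ^ ·)).sum := by
  have hl : tabF4.l = 4 := by decide +kernel
  simp only [List.all_eq_true, decide_eq_true_eq] at hJ
  rw [certF4.card_parabolic chkLevelsF4 (radList_iff J) (by rw [hl]; exact hJ), card_diagonalF4,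
    show tabF4.half = 24 from by decide +kernel, hl, ← hL, List.map_map]
  rfl

variable [CharP F 2]

/-- The prime divisors of the orders of the two centralizers. -/
theorem prime_dvd (i : Fin 2) {g : GL Cfsg.Lie.chevF4.Idx F}
    (hg : g ∈ Cfsg.Lie.chevF4.group F) (hc : Commute g (InvF4.rep i)) {p : ℕ} (hp : p.Prime)
    (hpg : p ∣ orderOf g) : p ∣ Fintype.card F * (Fintype.card F ^ 4 - 1) := by
  have hn : ∀ r ∈ [39, 44, 45, 47], r < tabF4.n := by decide +kernel
  have hval : ∀ r t, (X Cfsg.Lie.chevF4 r t : Matrix _ _ F) = Cfsg.Lie.chevF4.x F r t :=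
    fun r t => certF4.coe_X r t
  have key := Cfsg.Agent.S2179.result (F := F)
    (X Cfsg.Lie.chevF4 47 1 * X Cfsg.Lie.chevF4 44 1)
    (X Cfsg.Lie.chevF4 39 1 * X Cfsg.Lie.chevF4 45 1)
    (by rw [Units.val_mul, hval, hval]) (by rw [Units.val_mul, hval, hval])
  have hX : ∀ (J : List ℕ) (r : ℕ), (r < 48 ∧ (24 ≤ r ∨ ∀ i < 4, i ∉ J →
      (Cfsg.Lie.chevF4.coroot.getD r #[]).getD i 0 = 0)) →
      Cfsg.Lie.chevF4.rootSubgroup F r ≤ Cfsg.Lie.chevF4.parabolicSubgroup F {i | i ∈ J} := by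
    intro J r hr
    rw [certF4.parabolic_eq, certF4.rootSubgroup_eq]
    refine le_sup_of_le_right (gen_mono _ ?_)
    intro a ha
    rw [Set.mem_singleton_iff] at ha
    subst ha
    have h1 : Cfsg.Lie.chevF4.nroots = 48 := by decide +kernel
    have h2 : Cfsg.Lie.chevF4.rank = 4 := by decide +kernel
    show a ∈ posSet tabF4 ∨ Cfsg.Lie.chevF4.InRootSub {i | i ∈ J} a
    rcases hr.2 with h | h
    · exact Or.inl ⟨by simpa [show tabF4.half = 24 from by decide +kernel] using h,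
        by simpa [show tabF4.n = 48 from by decide +kernel] using hr.1⟩
    · exact Or.inr ⟨by rw [h1]; exact hr.1, by rw [h2]; exact h⟩
  have hq : ∀ (J : List ℕ), g ∈ Cfsg.Lie.chevF4.parabolicSubgroup F {i | i ∈ J} →
      p ∣ Nat.card (Cfsg.Lie.chevF4.parabolicSubgroup F {i | i ∈ J}) := fun J hJ =>
    hpg.trans (Subgroup.orderOf_coe ⟨g, hJ⟩ ▸ orderOf_dvd_natCard _)
  set q := Fintype.card F with hqdef
  have h1q : 1 ≤ q := Fintype.card_pos
  have hfac : q ^ 4 - 1 = (q - 1) * ((1 + q) * (1 + q ^ 2)) := by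
    obtain ⟨k, hk⟩ := Nat.exists_eq_add_of_le h1q
    rw [hk, show 1 + k - 1 = k by omega]
    refine Nat.sub_eq_of_eq_add ?_
    ring
  have hfin : ∀ s : ℕ, p ∣ q ^ 24 * (q - 1) ^ 4 * s → (p ∣ s → p ∣ (1 + q) ∨ p ∣ (1 + q ^ 2)) →
      p ∣ q * (q ^ 4 - 1) := by
    intro s hs h
    rcases (Nat.Prime.dvd_mul hp).1 hs with h' | h'
    · rcases (Nat.Prime.dvd_mul hp).1 h' with h'' | h''
      · exact dvd_mul_of_dvd_left (hp.dvd_of_dvd_pow h'') _
      · rw [hfac]; exact dvd_mul_of_dvd_right (dvd_mul_of_dvd_left (hp.dvd_of_dvd_pow h'') _) _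
    · rw [hfac]
      refine dvd_mul_of_dvd_right (dvd_mul_of_dvd_right ?_ _) _
      rcases h h' with h | h
      · exact dvd_mul_of_dvd_left h _
      · exact dvd_mul_of_dvd_right h _
  have hmem : g ∈ Cfsg.Lie.chevF4.group F ⊓ Subgroup.centralizer {InvF4.rep (K := F) i} :=
    ⟨hg, Subgroup.mem_centralizer_singleton_iff.2 hc.eq⟩
  fin_cases i
  · have e : InvF4.rep (K := F) 0 = X Cfsg.Lie.chevF4 47 (1 : F) * X Cfsg.Lie.chevF4 44 1 := by
      rw [show InvF4.rep (K := F) 0 = X Cfsg.Lie.chevF4 44 (1 : F) * X Cfsg.Lie.chevF4 47 1 by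
        simp [InvF4.rep, InvF4.twF4Reps, oneProd]]
      exact (certF4.commute_of_evenComm (hn 44 (by simp)) (hn 47 (by simp)) (by omega)
        (by decide +kernel) (by decide +kernel) 1 1).eq
    rw [Fin.zero_eta, e, key.1] at hmem
    have hle : g ∈ Cfsg.Lie.chevF4.parabolicSubgroup F {i | i ∈ [1, 2]} := by
      refine (sup_le (sup_le (le_sup_left.trans le_sup_left) (hX _ 20 ?_)) (hX _ 22 ?_)) hmem
      all_goals decide +kernel
    have h := hq _ hle
    rw [card_par [1, 2] [0, 1, 1, 2, 2, 3, 3, 4] (by decide +kernel) ?_] at h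
    swap
    · decide +kernel
    refine hfin _ h fun hs => ?_
    rw [show (([0, 1, 1, 2, 2, 3, 3, 4] : List ℕ).map (q ^ ·)).sum = (1 + q) * ((1 + q) * (1 + q ^ 2))
      by simp; ring] at hs
    rcases (Nat.Prime.dvd_mul hp).1 hs with h | h
    · exact Or.inl h
    · exact (Nat.Prime.dvd_mul hp).1 h
  · have e : InvF4.rep (K := F) 1 = X Cfsg.Lie.chevF4 39 (1 : F) * X Cfsg.Lie.chevF4 45 1 := by
      simp [InvF4.rep, InvF4.twF4Reps, oneProd]
    rw [Fin.mk_one, e, key.2] at hmem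
    have hle : g ∈ Cfsg.Lie.chevF4.parabolicSubgroup F {i | i ∈ [0, 3]} := by
      refine (sup_le (sup_le (sup_le (sup_le (hX _ 33 ?_) (hX _ 14 ?_)) (hX _ 24 ?_)) (hX _ 23 ?_))
        ((Subgroup.closure_le _).2 ?_)) hmem
      rotate_right
      · rintro x ⟨r, c, hr, -, ex⟩
        rw [certF4.isPosRoot_iff] at hr
        obtain rfl : x = X Cfsg.Lie.chevF4 r c := certF4.coe_eq_iff.1 ex
        exact Subgroup.mem_sup_left (certF4.X_mem_borel hr.1 hr.2 c)
      all_goals decide +kernel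
    have h := hq _ hle
    rw [card_par [0, 3] [0, 1, 1, 2] (by decide +kernel) ?_] at h
    swap
    · decide +kernel
    refine hfin _ h fun hs => ?_
    rw [show (([0, 1, 1, 2] : List ℕ).map (q ^ ·)).sum = (1 + q) * (1 + q) by simp; ring] at hs
    exact Or.inl (((Nat.Prime.dvd_mul hp).1 hs).elim id id)

/-- Let q = 2^(2m+1) with m ≥ 1 and let a, b be commuting elements of the large Ree group ²F₄(q) with a an involution. Then every prime divisor of the order of b divides q(q⁴ − 1). -/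
theorem result {K : Type*} [Field K] [Fintype K] (m : ℕ) (hm : 1 ≤ m) (hK : Fintype.card K = 2 ^ (2 * m + 1))
    (a b : ↥(Cfsg.Lie.twistedF4 K (2 ^ m))) (ha : orderOf a = 2) (hab : Commute a b) :
    (orderOf b).primeFactors ⊆ (2 ^ (2 * m + 1) * ((2 ^ (2 * m + 1)) ^ 4 - 1)).primeFactors := by
  haveI := charTwo_F4 hK
  obtain ⟨f, hf, hK'⟩ := setupF4 hK
  have hfix := fix_eq_twistedF4 f hf hK'
  let a' : ↥(endoF4 f).fix := ⟨a, by rw [hfix]; exact a.2⟩
  have ha' : orderOf a' = 2 := by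
    rw [← ha, ← Subgroup.orderOf_coe a, ← Subgroup.orderOf_coe a']
  obtain ⟨i, x, hx⟩ := InvF4.exists_conj_rep f hf hK' ha'
  have hle : Cfsg.Lie.twistedF4 K (2 ^ m) ≤ Cfsg.Lie.chevF4.group K := by
    refine (Subgroup.closure_le _).2 ?_
    rintro g ⟨w, -, e⟩
    rw [certF4.wordMat_eq_prod] at e
    rw [Units.ext e]
    refine list_prod_mem fun y hy => ?_
    obtain ⟨q, -, rfl⟩ := List.mem_map.1 hy
    rcases lt_or_ge q.1 tabF4.n with hr | hr
    · exact certF4.X_mem_group hr q.2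
    · rw [show X Cfsg.Lie.chevF4 q.1 q.2 = 1 from Units.ext (by
        rw [certF4.coe_X, x_of_le certF4.agrees hr, Units.val_one])]
      exact one_mem _
  have hxT : (x : GL Cfsg.Lie.chevF4.Idx K) ∈ Cfsg.Lie.chevF4.group K := hle (by rw [← hfix]; exact x.2)
  have hord : orderOf ((x : GL Cfsg.Lie.chevF4.Idx K) * (b : GL Cfsg.Lie.chevF4.Idx K) *
      (x : GL Cfsg.Lie.chevF4.Idx K)⁻¹) = orderOf b := by
    rw [← MulAut.conj_apply, MulEquiv.orderOf_eq, Subgroup.orderOf_coe]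
  intro p hp
  rw [Nat.mem_primeFactors] at hp
  have hq : 1 < 2 ^ (2 * m + 1) := Nat.one_lt_two_pow (by omega)
  refine Nat.mem_primeFactors.2 ⟨hp.1, ?_, Nat.mul_ne_zero (by omega)
    (Nat.sub_ne_zero_of_lt (Nat.one_lt_pow (by norm_num) hq))⟩
  have hc : Commute ((x : GL Cfsg.Lie.chevF4.Idx K) * (b : GL Cfsg.Lie.chevF4.Idx K) *
      (x : GL Cfsg.Lie.chevF4.Idx K)⁻¹) (InvF4.rep i) := by
    have h1 : (x : GL Cfsg.Lie.chevF4.Idx K) * (a : GL Cfsg.Lie.chevF4.Idx K) *
        (x : GL Cfsg.Lie.chevF4.Idx K)⁻¹ = InvF4.rep i := congrArg Subtype.val hx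
    rw [← h1]
    exact ((hab.symm.map (Cfsg.Lie.twistedF4 K (2 ^ m)).subtype).map
      (MulAut.conj (x : GL Cfsg.Lie.chevF4.Idx K)).toMonoidHom)
  have h := prime_dvd i (mul_mem (mul_mem hxT (hle b.2)) (inv_mem hxT)) hc hp.1
    (by rw [hord]; exact hp.2.1)
  rwa [hK] at h

end Cfsg.Agent.S2369
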