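import Cfsg.Statements.S2370
import Cfsg.Agent.Lib.Chev.All
import Cfsg.Agent.Lib.Chev.Height
import Cfsg.Agent.S2326
-- import your own Cfsg.Agent.* helpers here

set_option autoImplicit false
open Cfsg

namespace Cfsg.Agent.S2370

/-- Let q = 2^(2m+1) with m ≥ 1. Every element of 2-power order of the large Ree group ²F₄(q) has order at most 32. -/
theorem result {K : Type*} [Field K] [Fintype K] (m : ℕ) (hm : 1 ≤ m) (hK : Fintype.card K = 2 ^ (2 * m + 1))
    (x : ↥(Cfsg.Lie.twistedF4 K (2 ^ m))) (hx : ∃ j : ℕ, orderOf x = 2 ^ j) : orderOf x ≤ 32 := by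
  classical
  obtain ⟨j, hj⟩ := hx
  have : Fact (Nat.Prime 2) := ⟨Nat.prime_two⟩
  have : CharP K 2 := by
    obtain ⟨p, hp⟩ := CharP.exists K
    obtain ⟨n, hpp, hn⟩ := FiniteField.card K p
    have : p ∣ 2 ^ (2 * m + 1) := hK ▸ hn ▸ dvd_pow_self p n.ne_zero
    obtain rfl : p = 2 := (Nat.prime_dvd_prime_iff_eq hpp Nat.prime_two).1 (hpp.dvd_of_dvd_pow this)
    exact hp
  have hle : Cfsg.Lie.twistedF4 K (2 ^ m) ≤ Cfsg.Lie.chevF4.group K := by
    refine (Subgroup.closure_le _).2 ?_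
    rintro g ⟨w, -, e⟩
    rw [CfsgLib.Chev.certF4.wordMat_eq_prod] at e
    rw [Units.ext e]
    refine list_prod_mem fun y hy => ?_
    obtain ⟨q, -, rfl⟩ := List.mem_map.1 hy
    rcases lt_or_ge q.1 CfsgLib.Chev.tabF4.n with hr | hr
    · exact CfsgLib.Chev.certF4.X_mem_group hr q.2
    · rw [show CfsgLib.Chev.X Cfsg.Lie.chevF4 q.1 q.2 = 1 from Units.ext (by
        rw [CfsgLib.Chev.certF4.coe_X, CfsgLib.Chev.x_of_le CfsgLib.Chev.certF4.agrees hr,
          Units.val_one])]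
      exact one_mem _
  set y : ↥(Cfsg.Lie.chevF4.group K) := Subgroup.inclusion hle x with hy
  have hoy : orderOf y = 2 ^ j := by
    rw [hy, orderOf_injective _ (Subgroup.inclusion_injective hle), hj]
  obtain ⟨P, hP⟩ := Cfsg.Agent.S2326.result (F := K) 2 Cfsg.Lie.chevF4 (by simp)
  have hpy : IsPGroup 2 ↥(Subgroup.zpowers y) :=
    IsPGroup.of_card (n := j) (by rw [Nat.card_zpowers, hoy])
  obtain ⟨Q, hQ⟩ := hpy.exists_le_sylow
  obtain ⟨g, hg⟩ := MulAction.exists_smul_eq ↥(Cfsg.Lie.chevF4.group K) Q P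
  have hmem : g * y * g⁻¹ ∈ (P : Subgroup ↥(Cfsg.Lie.chevF4.group K)) := by
    rw [← hg]
    exact ⟨y, hQ (Subgroup.mem_zpowers y), rfl⟩
  rw [hP, Subgroup.mem_subgroupOf] at hmem
  have h32 : (g * y * g⁻¹) ^ 32 = 1 := Subtype.ext (by
    rw [SubmonoidClass.coe_pow]
    exact CfsgLib.Chev.pow_eq_one_of_mem_posUnipotentF4 hmem)
  rw [conj_pow, conj_eq_one_iff] at h32
  have hd : orderOf y ∣ 32 := orderOf_dvd_of_pow_eq_one h32
  rw [hy, orderOf_injective _ (Subgroup.inclusion_injective hle)] at hd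
  exact Nat.le_of_dvd (by omega) hd

end Cfsg.Agent.S2370
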