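import Cfsg.Statements.S2374
import Cfsg.Agent.Lib.Chev.CycTorus.MainE7
-- import your own Cfsg.Agent.* helpers here

set_option autoImplicit false
open Cfsg

namespace Cfsg.Agent.S2374

/-- The group E₇(q) (the simple Chevalley group of type E₇) contains a cyclic subgroup of order (q⁴ − q² + 1)(q³ + 1)/gcd(2, q − 1) which is its own centralizer. -/
theorem result {F : Type*} [Field F] [Fintype F] (q : ℕ) (hF : Fintype.card F = q) :
    ∃ H : Subgroup ↥(Cfsg.Lie.chevE7.group F), IsCyclic ↥H ∧ Nat.card ↥H = (q ^ 4 - q ^ 2 + 1) * (q ^ 3 + 1) / Nat.gcd 2 (q - 1) ∧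
      Subgroup.centralizer (H : Set ↥(Cfsg.Lie.chevE7.group F)) = H := by
  subst hF
  obtain ⟨H, hH, hcard, hcent⟩ := CfsgLib.Chev.CycTorus.exists_torus_E7 (F := F)
  refine ⟨H, hH, ?_, hcent⟩
  have hq : 2 ≤ Fintype.card F := Fintype.one_lt_card
  have h4 : Fintype.card F ^ 2 ≤ Fintype.card F ^ 4 := Nat.pow_le_pow_right (by omega) (by norm_num)
  have e : (CfsgLib.Chev.CycTorus.valE7 (Fintype.card F)).natAbs =
      (Fintype.card F ^ 4 - Fintype.card F ^ 2 + 1) * (Fintype.card F ^ 3 + 1) := by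
    refine Int.natCast_inj.1 ?_
    rw [Int.natAbs_of_nonneg (CfsgLib.Chev.CycTorus.valE7_pos (by exact_mod_cast hq)).le]
    push_cast [Nat.cast_sub h4, CfsgLib.Chev.CycTorus.valE7]
    ring
  rw [← e, ← hcard, Nat.mul_div_cancel _ (Nat.gcd_pos_of_pos_left _ (by norm_num))]

end Cfsg.Agent.S2374
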