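import Cfsg.Statements.S2379
import Mathlib
import Cfsg.Agent.Lib.Classical.SylowLargePrime

set_option autoImplicit false
open Cfsg

namespace Cfsg.Agent.S2379

/-- Sylow subgroups of `SL_n(q)` for large primes. Let `F` be a field with `q` elements and `r` a prime with `r > n` and `r ∤ q` (so `r` does not divide the order `n!` of the Weyl group). Let `d` be the multiplicative order of `q` modulo `r`, `a` the number of integers `i` with `2 ≤ i ≤ n` divisible by `d` (the degrees of the Weyl group are `2, …, n`), and `m` the `r`-part of the value at `q` of the `d`-th cyclotomic polynomial. Then every Sylow `r`-subgroup of `SL_n(q)` is a direct product of `a` cyclic groups of order `m`. -/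
theorem result {F : Type*} [Field F] [Fintype F] {q : ℕ} (hq : Fintype.card F = q) (n : ℕ)
    (r : ℕ) [Fact r.Prime] (hrn : n < r) (hrq : ¬ r ∣ q) (P : Sylow r (Matrix.SpecialLinearGroup (Fin n) F)) :
    Nonempty (↥(P : Subgroup (Matrix.SpecialLinearGroup (Fin n) F)) ≃*
      (Fin ((Finset.Icc 2 n).filter (fun i => orderOf (q : ZMod r) ∣ i)).card →
        Multiplicative (ZMod (r ^ padicValNat r ((Polynomial.cyclotomic (orderOf (q : ZMod r)) ℤ).eval (q : ℤ)).natAbs)))) := by
  classical
  have hq2 : 2 ≤ q := hq ▸ Fintype.one_lt_card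
  rw [CfsgLib.Classical.SylowLargePrime.padicValNat_cyclotomic hq2 hrq]
  rcases n with _ | m
  · rw [show (Finset.Icc 2 0 : Finset ℕ) = ∅ from rfl, Finset.filter_empty, Finset.card_empty]
    have hs : Subsingleton (Matrix.SpecialLinearGroup (Fin 0) F) :=
      ⟨fun a b => Subtype.ext (Matrix.ext fun i => i.elim0)⟩
    have : Unique (↥(P : Subgroup (Matrix.SpecialLinearGroup (Fin 0) F))) :=
      ⟨⟨1⟩, fun a => Subsingleton.elim a 1⟩
    exact ⟨MulEquiv.ofUnique⟩
  have hd0 := CfsgLib.Classical.SylowLargePrime.order_pos (r := r) hrq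
  rcases Nat.lt_or_ge (orderOf (q : ZMod r)) 2 with hd | hd
  · have h1 : orderOf (q : ZMod r) = 1 := by omega
    rw [h1, pow_one, show ((Finset.Icc 2 (m + 1)).filter (fun i => 1 ∣ i)).card = m by simp]
    exact CfsgLib.Classical.SylowLargePrime.SL_sylow_of_one hq hrn hrq h1 P
  · rw [CfsgLib.Classical.SylowLargePrime.filter_Icc_card hd]
    exact CfsgLib.Classical.SylowLargePrime.SL_sylow_of_two_le hq hrn hrq hd (by omega) P

end Cfsg.Agent.S2379
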