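import Cfsg.Statements.S2382
import Cfsg.Agent.Lib.Chev.WeightCount
import Cfsg.Agent.Lib.Chev.OrderData
import Cfsg.Agent.Lib.Chev.All

set_option autoImplicit false
open Cfsg

namespace Cfsg.Agent.S2382

/-- Steinberg's count of semisimple classes for the three types whose simply connected and adjoint groups coincide: in the Chevalley group of type G₂, F₄ or E₈ over a field with `q` elements of characteristic `p`, the conjugacy classes of elements of order prime to `p` number exactly `q^l`, `l = 2, 4, 8` the rank. -/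
theorem result {F : Type*} [Field F] [Fintype F] {q : ℕ} (hq : Fintype.card F = q) (p : ℕ) [Fact p.Prime] [CharP F p]
    (D : Cfsg.Lie.ChevalleyDatum) (hD : D ∈ [Cfsg.Lie.chevG2, Cfsg.Lie.chevF4, Cfsg.Lie.chevE8]) :
    Nat.card {c : ConjClasses ↥(D.group F) // ∃ g : ↥(D.group F), ConjClasses.mk g = c ∧ (orderOf g).Coprime p} = q ^ D.rank := by
  have hone : ∀ (L : List ℕ), (∀ x ∈ L, x = 1) → ∀ i < L.length, (Fintype.card F - 1).Coprime (L.getD i 0) := by
    intro L hL i hi
    rw [List.getD_eq_getElem _ _ hi, hL _ (List.getElem_mem hi)]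
    exact Nat.coprime_one_right _
  simp only [List.mem_cons, List.not_mem_nil, or_false] at hD
  rcases hD with rfl | rfl | rfl
  · exact CfsgLib.Chev.certG2.card_regClass (CfsgLib.Chev.certG2.torusHom_injective (CfsgLib.Chev.matOf _ CfsgLib.Chev.snfUG2) (CfsgLib.Chev.matOf _ CfsgLib.Chev.snfUiG2) (CfsgLib.Chev.matOf _ CfsgLib.Chev.snfVG2)
      (fun i => [1, 1].getD i.1 0) (by decide +kernel) (by decide +kernel) fun i => hone [1, 1] (by decide) _ i.2) hq p
  · exact CfsgLib.Chev.certF4.card_regClass (CfsgLib.Chev.certF4.torusHom_injective (CfsgLib.Chev.matOf _ CfsgLib.Chev.snfUF4) (CfsgLib.Chev.matOf _ CfsgLib.Chev.snfUiF4) (CfsgLib.Chev.matOf _ CfsgLib.Chev.snfVF4)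
      (fun i => [1, 1, 1, 1].getD i.1 0) (by decide +kernel) (by decide +kernel) fun i => hone [1, 1, 1, 1] (by decide) _ i.2) hq p
  · exact CfsgLib.Chev.certE8.card_regClass (CfsgLib.Chev.certE8.torusHom_injective (CfsgLib.Chev.matOf _ CfsgLib.Chev.snfUE8) (CfsgLib.Chev.matOf _ CfsgLib.Chev.snfUiE8) (CfsgLib.Chev.matOf _ CfsgLib.Chev.snfVE8)
      (fun i => [1, 1, 1, 1, 1, 1, 1, 1].getD i.1 0) (by decide +kernel) (by decide +kernel) fun i => hone [1, 1, 1, 1, 1, 1, 1, 1] (by decide) _ i.2) hq p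

end Cfsg.Agent.S2382
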