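import Cfsg.Statements.S2383
import Cfsg.Agent.Lib.Chev.WeightCount
import Cfsg.Agent.Lib.Chev.OrderData
import Cfsg.Agent.Lib.Chev.All

set_option autoImplicit false
open Cfsg

namespace Cfsg.Agent.S2383

/-- Steinberg's count of semisimple classes in characteristic 2 for the types B₂, D₄, E₇, where the finite simply connected group has trivial centre and so coincides with the Chevalley group: for the Chevalley group of type B₂, D₄ or E₇ over a field with `q` elements of characteristic 2, the conjugacy classes of elements of odd order number exactly `q^l`, `l` the rank. -/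
theorem result {F : Type*} [Field F] [Fintype F] {q : ℕ} (hq : Fintype.card F = q) [CharP F 2]
    (D : Cfsg.Lie.ChevalleyDatum) (hD : D ∈ [Cfsg.Lie.chevB2, Cfsg.Lie.chevD4, Cfsg.Lie.chevE7]) :
    Nat.card {c : ConjClasses ↥(D.group F) // ∃ g : ↥(D.group F), ConjClasses.mk g = c ∧ Odd (orderOf g)} = q ^ D.rank := by
  haveI : Fact (Nat.Prime 2) := ⟨Nat.prime_two⟩
  have hodd : Odd (Fintype.card F - 1) := by
    obtain ⟨m, -, hm⟩ := FiniteField.card F 2
    rw [hm]
    exact Nat.Even.sub_odd (Nat.one_le_two_pow) ((Nat.even_pow' m.pos.ne').2 even_two) odd_one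
  have hpow : ∀ (L : List ℕ), (∀ x ∈ L, x = 1 ∨ x = 2) → ∀ i < L.length,
      (Fintype.card F - 1).Coprime (L.getD i 0) := by
    intro L hL i hi
    rw [List.getD_eq_getElem _ _ hi]
    rcases hL _ (List.getElem_mem hi) with e | e <;> rw [e]
    · exact Nat.coprime_one_right _
    · exact Nat.coprime_two_right.2 hodd
  rw [Nat.card_congr (Equiv.subtypeEquivRight fun c => exists_congr fun g =>
    and_congr_right fun _ => Nat.coprime_two_right.symm)]
  simp only [List.mem_cons, List.not_mem_nil, or_false] at hD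
  rcases hD with rfl | rfl | rfl
  · exact CfsgLib.Chev.certB2.card_regClass (CfsgLib.Chev.certB2.torusHom_injective (CfsgLib.Chev.matOf _ CfsgLib.Chev.snfUB2) (CfsgLib.Chev.matOf _ CfsgLib.Chev.snfUiB2) (CfsgLib.Chev.matOf _ CfsgLib.Chev.snfVB2)
      (fun i => [1, 2].getD i.1 0) (by decide +kernel) (by decide +kernel) fun i => hpow [1, 2] (by decide) _ i.2) hq 2
  · exact CfsgLib.Chev.certD4.card_regClass (CfsgLib.Chev.certD4.torusHom_injective (CfsgLib.Chev.matOf _ CfsgLib.Chev.snfUD4) (CfsgLib.Chev.matOf _ CfsgLib.Chev.snfUiD4) (CfsgLib.Chev.matOf _ CfsgLib.Chev.snfVD4)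
      (fun i => [1, 1, 2, 2].getD i.1 0) (by decide +kernel) (by decide +kernel) fun i => hpow [1, 1, 2, 2] (by decide) _ i.2) hq 2
  · exact CfsgLib.Chev.certE7.card_regClass (CfsgLib.Chev.certE7.torusHom_injective (CfsgLib.Chev.matOf _ CfsgLib.Chev.snfUE7) (CfsgLib.Chev.matOf _ CfsgLib.Chev.snfUiE7) (CfsgLib.Chev.matOf _ CfsgLib.Chev.snfVE7)
      (fun i => [1, 1, 1, 1, 1, 1, 2].getD i.1 0) (by decide +kernel) (by decide +kernel) fun i => hpow [1, 1, 1, 1, 1, 1, 2] (by decide) _ i.2) hq 2

end Cfsg.Agent.S2383
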