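import Cfsg.Statements.S2391
-- import your own Cfsg.Agent.* helpers here

set_option autoImplicit false
open Cfsg

namespace Cfsg.Agent.S2391

variable {F : Type*} [Field F] [Fintype F] {n : ℕ}
  (U : Subgroup (Matrix.SpecialLinearGroup (Fin n) F))

/-- Vectors fixed by `U` modulo `W`. -/
noncomputable def step (W : Submodule F (Fin n → F)) : Submodule F (Fin n → F) :=
  ⨅ u : ↥U, W.comap (Matrix.mulVecLin ((u : Matrix.SpecialLinearGroup (Fin n) F) : Matrix (Fin n) (Fin n) F) - LinearMap.id)

theorem mem_step {W : Submodule F (Fin n → F)} {v : Fin n → F} :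
    v ∈ step U W ↔ ∀ u ∈ U, (u : Matrix (Fin n) (Fin n) F).mulVec v - v ∈ W := by
  simp [step, Submodule.mem_iInf]

/-- The iterated fixed spaces. -/
noncomputable def chain : ℕ → Submodule F (Fin n → F)
  | 0 => ⊥
  | i + 1 => step U (chain i)

theorem chain_le_succ : ∀ i, chain U i ≤ chain U (i + 1)
  | 0 => bot_le
  | i + 1 => fun v hv => by
      rw [chain, mem_step] at hv ⊢
      exact fun u hu => chain_le_succ i (hv u hu)

theorem chain_invariant (g : Matrix.SpecialLinearGroup (Fin n) F)
    (hg : ∀ u, u ∈ U → g⁻¹ * u * g ∈ U) :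
    ∀ i, ∀ v ∈ chain U i, (g : Matrix (Fin n) (Fin n) F).mulVec v ∈ chain U i
  | 0 => fun v hv => by simp [chain] at hv ⊢; simp [hv]
  | i + 1 => fun v hv => by
      rw [chain, mem_step] at hv ⊢
      intro u hu
      have h := chain_invariant g hg i _ (hv _ (hg u hu))
      rw [Matrix.mulVec_sub, Matrix.mulVec_mulVec, ← Matrix.SpecialLinearGroup.coe_mul,
        show g * (g⁻¹ * u * g) = u * g by group, Matrix.SpecialLinearGroup.coe_mul,
        ← Matrix.mulVec_mulVec] at h
      exact h

theorem chain_strict (p : ℕ) [Fact p.Prime] [CharP F p] (hU : IsPGroup p ↥U) (i : ℕ)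
    (h : chain U i ≠ ⊤) : chain U i < chain U (i + 1) := by
  classical
  refine lt_of_le_of_ne (chain_le_succ U i) fun heq => ?_
  set W := chain U i with hW
  have hinv : ∀ u : ↥U, W ≤ W.comap (Matrix.mulVecLin
      ((u : Matrix.SpecialLinearGroup (Fin n) F) : Matrix (Fin n) (Fin n) F)) := fun u v hv =>
    chain_invariant U u (fun w hw => U.mul_mem (U.mul_mem (U.inv_mem u.2) hw) u.2) i v hv
  let _ : MulAction ↥U ((Fin n → F) ⧸ W) :=
    { smul := fun u => Submodule.mapQ W W _ (hinv u)
      one_smul := fun x => by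
        induction x using Submodule.Quotient.induction_on with
        | H v => show Submodule.mapQ W W _ (hinv 1) (Submodule.Quotient.mk v) = _; simp
      mul_smul := fun a b x => by
        induction x using Submodule.Quotient.induction_on with
        | H v =>
          show Submodule.mapQ W W _ (hinv (a * b)) (Submodule.Quotient.mk v) =
            Submodule.mapQ W W _ (hinv a) (Submodule.mapQ W W _ (hinv b) (Submodule.Quotient.mk v))
          simp [Matrix.mulVec_mulVec] }
  have : Nontrivial ((Fin n → F) ⧸ W) := Submodule.Quotient.nontrivial_iff.2 h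
  have hp : p ∣ Nat.card ((Fin n → F) ⧸ W) := by
    rw [Module.natCard_eq_pow_finrank (K := F)]
    have hcF : p ∣ Nat.card F := by
      obtain ⟨e, -, he⟩ := FiniteField.card F p
      rw [Nat.card_eq_fintype_card, he]
      exact dvd_pow_self p e.ne_zero
    exact dvd_pow hcF (Module.finrank_pos (R := F) (M := (Fin n → F) ⧸ W)).ne'
  have h0 : (0 : (Fin n → F) ⧸ W) ∈ MulAction.fixedPoints ↥U ((Fin n → F) ⧸ W) := fun u =>
    map_zero (Submodule.mapQ W W _ (hinv u))
  obtain ⟨b, hb, hb0⟩ := hU.exists_fixed_point_of_prime_dvd_card_of_fixed_point _ hp h0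
  induction b using Submodule.Quotient.induction_on with
  | H v =>
    refine hb0 ((Submodule.Quotient.mk_eq_zero W).2 ?_).symm
    rw [show W = chain U (i + 1) from heq, chain, mem_step]
    intro u hu
    have := hb ⟨u, hu⟩
    exact (Submodule.Quotient.eq W).1 this

theorem chain_top_or_le (p : ℕ) [Fact p.Prime] [CharP F p] (hU : IsPGroup p ↥U) :
    ∀ m, chain U m = ⊤ ∨ m ≤ Module.finrank F ↥(chain U m)
  | 0 => Or.inr (Nat.zero_le _)
  | m + 1 => by
      rcases eq_or_ne (chain U m) ⊤ with h | h
      · exact Or.inl (top_le_iff.1 (h ▸ chain_le_succ U m))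
      · have h1 := Submodule.finrank_lt_finrank_of_lt (chain_strict U p hU m h)
        rcases chain_top_or_le p hU m with h2 | h2
        · exact absurd h2 h
        · exact Or.inr (by omega)

/-- The Borel–Tits property of `SL_n(q)` in flag form: for a field `F` of characteristic `p` with finitely many elements and a non-trivial `p`-subgroup `U` of `SL_n(F)`, there is a flag `0 = V₀ < V₁ < ⋯ < V_{k+1} = F^n` with at least one proper non-zero member such that every element of the normaliser of `U` maps each `V_i` onto itself and every element of `U` acts trivially on each quotient `V_{i+1}/V_i` (so the normaliser lies in the parabolic subgroup of the flag and `U` in its unipotent radical). -/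
theorem result {F : Type*} [Field F] [Fintype F] (p : ℕ) [Fact p.Prime] [CharP F p] (n : ℕ)
    (U : Subgroup (Matrix.SpecialLinearGroup (Fin n) F)) (hU : IsPGroup p ↥U) (hne : U ≠ ⊥) :
    ∃ (k : ℕ) (V : Fin (k + 2) → Submodule F (Fin n → F)), 1 ≤ k ∧ StrictMono V ∧ V 0 = ⊥ ∧ V (Fin.last (k + 1)) = ⊤ ∧
      (∀ g ∈ Subgroup.normalizer (U : Set (Matrix.SpecialLinearGroup (Fin n) F)), ∀ i, (V i).map (Matrix.mulVecLin (g : Matrix (Fin n) (Fin n) F)) = V i) ∧
      (∀ u ∈ U, ∀ i : Fin (k + 1), ∀ v ∈ V i.succ, (u : Matrix (Fin n) (Fin n) F).mulVec v - v ∈ V (Fin.castSucc i)) := by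
  classical
  have hex : ∃ m, chain U m = ⊤ := by
    refine ⟨n + 1, (chain_top_or_le U p hU (n + 1)).resolve_right fun h => ?_⟩
    have := (h.trans (Submodule.finrank_le _)).trans_eq (Module.finrank_fin_fun F)
    omega
  have hfix : chain U 1 ≠ ⊤ := by
    intro h
    refine hne ((Subgroup.eq_bot_iff_forall U).2 fun u hu => ?_)
    refine Subtype.ext ?_
    refine Matrix.toLin'.injective (LinearMap.ext fun v => ?_)
    have hv : v ∈ chain U 1 := h ▸ Submodule.mem_top
    have := (mem_step U).1 hv u hu
    simp only [chain, Submodule.mem_bot, sub_eq_zero] at this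
    simp [Matrix.toLin'_apply, this]
  obtain ⟨k, hk⟩ : ∃ k, Nat.find hex = k + 2 := by
    have h1 : ¬ Nat.find hex ≤ 1 := fun hle => hfix (top_le_iff.1 (by
      have h2 := Nat.find_spec hex
      interval_cases hN : Nat.find hex
      · exact h2 ▸ chain_le_succ U 0
      · exact h2.ge))
    exact ⟨Nat.find hex - 2, by omega⟩
  have hlt : ∀ i, i < Nat.find hex → chain U i < chain U (i + 1) := fun i hi =>
    chain_strict U p hU i (Nat.find_min hex hi)
  refine ⟨k + 1, fun i => chain U i, by omega, ?_, rfl, ?_, ?_, ?_⟩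
  · refine Fin.strictMono_iff_lt_succ.2 fun i => ?_
    simpa using hlt i (by omega)
  · simpa [← hk] using Nat.find_spec hex
  · intro g hg i
    refine le_antisymm (Submodule.map_le_iff_le_comap.2 fun v hv => ?_) fun v hv => ?_
    · exact chain_invariant U g (fun u hu => (Subgroup.mem_normalizer_iff''.1 hg u).1 hu) i v hv
    · refine ⟨((g⁻¹ : Matrix.SpecialLinearGroup (Fin n) F) : Matrix (Fin n) (Fin n) F).mulVec v,
        chain_invariant U g⁻¹ (fun u hu => ?_) i v hv, ?_⟩
      · rw [inv_inv]; exact (Subgroup.mem_normalizer_iff.1 hg u).1 hu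
      · rw [Matrix.mulVecLin_apply, Matrix.mulVec_mulVec, ← Matrix.SpecialLinearGroup.coe_mul,
          mul_inv_cancel, Matrix.SpecialLinearGroup.coe_one, Matrix.one_mulVec]
  · intro u hu i v hv
    exact (mem_step U).1 hv u hu

end Cfsg.Agent.S2391
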