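import Cfsg.Statements.S2400
import Cfsg.Agent.Lib.Chev.StTwo
-- import your own Cfsg.Agent.* helpers here

set_option autoImplicit false
open Cfsg

namespace Cfsg.Agent.S2400

/-- Over a finite field `K`, the group presented by Steinberg's relators (R1)–(R3) (the universal Chevalley group) of type E₆ or E₇, or of type B₂ or D₄ with `K` of more than two elements, has trivial Schur multiplier: every finite stem extension of it is an isomorphism (Schur multiplier described through stem extensions as in the definitions). Types G₂, F₄ and E₈ are not covered here. -/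
theorem result {K : Type*} [Field K] [Fintype K] (e : Cfsg.Lie.ChevalleyDatum × ℕ)
    (he : e ∈ [(Cfsg.Lie.chevE6, 0), (Cfsg.Lie.chevE7, 0), (Cfsg.Lie.chevB2, 2), (Cfsg.Lie.chevD4, 2)]) (hK : Fintype.card K ≠ e.2) :
    Cfsg.HasCyclicSchurMultiplier (e.1.SteinbergGroup K) 1 := by
  classical
  obtain ⟨D, k⟩ := e
  simp only [List.mem_cons, List.not_mem_nil, or_false, Prod.mk.injEq] at he
  have hD : D ∈ [Cfsg.Lie.chevB2, Cfsg.Lie.chevD4, Cfsg.Lie.chevF4, Cfsg.Lie.chevE6,
      Cfsg.Lie.chevE7, Cfsg.Lie.chevE8] := by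
    rcases he with ⟨rfl, -⟩ | ⟨rfl, -⟩ | ⟨rfl, -⟩ | ⟨rfl, -⟩ <;> simp
  have hq : Fintype.card K ≠ 2 ∨ D ∈ [Cfsg.Lie.chevE6, Cfsg.Lie.chevE7, Cfsg.Lie.chevE8] := by
    rcases he with ⟨rfl, -⟩ | ⟨rfl, -⟩ | ⟨rfl, rfl⟩ | ⟨rfl, rfl⟩
    · exact Or.inr (by simp)
    · exact Or.inr (by simp)
    · exact Or.inl hK
    · exact Or.inl hK
  have hperf : commutator (D.SteinbergCover K) = ⊤ := by
    refine CfsgLib.Chev.perfect_cover hD fun hB => hq.resolve_right fun hE => ?_
    subst hB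
    have key : ∀ D ∈ [Cfsg.Lie.chevE6, Cfsg.Lie.chevE7, Cfsg.Lie.chevE8],
        D.nroots ≠ Cfsg.Lie.chevB2.nroots := by decide +kernel
    exact key _ hE rfl
  obtain ⟨T, C, h, hnb, hl⟩ := CfsgLib.Chev.rel_finite (K := K) hD hq
  obtain ⟨eq, -⟩ := CfsgLib.Chev.cover_equiv_steinberg (K := K) (D := D)
    (List.mem_cons_of_mem _ hD)
  exact h.hasSchurMultiplier_steinberg hnb hperf hl eq

end Cfsg.Agent.S2400
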