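import Cfsg.Statements.S2403
import Cfsg.Agent.Lib.Classical.Transvection

set_option autoImplicit false
set_option linter.style.haveILetI false
open Cfsg

namespace Cfsg.Agent.S2403

open Matrix
open scoped commutatorElement
open Fin.CommRing

theorem small_field {K : Type*} [Field K] [Fintype K] (hK : Fintype.card K ≤ 3) {c : K} (hc : c ≠ 0)
    (d : K) : d = 0 ∨ d = c ∨ d = -c := by
  classical
  by_contra h
  push Not at h
  obtain ⟨h0, h1, h2⟩ := h
  by_cases hcc : c = -c
  · -- characteristic two
    have hd : d ≠ d + c := fun e => hc (by simpa using e)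
    have hz : d + c ≠ 0 := fun e => h2 (eq_neg_of_add_eq_zero_left e)
    have hcd : d + c ≠ c := fun e => h0 (by simpa using e)
    have : ({0, c, d, d + c} : Finset K).card ≤ Fintype.card K := Finset.card_le_univ _
    rw [Finset.card_insert_of_notMem (by simp [hc.symm, h0.symm, hz.symm]),
      Finset.card_insert_of_notMem (by simp [h1.symm, hcd.symm]), Finset.card_pair hd] at this
    omega
  · have : ({0, c, -c, d} : Finset K).card ≤ Fintype.card K := Finset.card_le_univ _
    rw [Finset.card_insert_of_notMem (by simp [hc, hc.symm, h0.symm]),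
      Finset.card_insert_of_notMem (by simp [hcc, h1.symm]), Finset.card_pair h2.symm] at this
    omega

theorem all_of_one {K : Type*} [Field K] [Fintype K] (hK : Fintype.card K ≤ 3) {ι : Type*} [Fintype ι]
    [DecidableEq ι] {H : Subgroup (SpecialLinearGroup ι K)} {i j : ι} {hij : i ≠ j} {c : K} (hc : c ≠ 0)
    (h : SpecialLinearGroup.transvection hij c ∈ H) (d : K) : SpecialLinearGroup.transvection hij d ∈ H := by
  rcases small_field hK hc d with rfl | rfl | rfl
  · simp
  · exact h
  · rw [← SpecialLinearGroup.transvection_inv]; exact H.inv_mem h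

/-- Explicit two-element generation of `PSL_{n+1}(K)` over the fields with two or three elements: with `x = 1 + E₁₂` and `w` the monomial matrix with entries `1` in positions `(i, i+1)` and `(−1)^n` in position `(n+1, 1)`, the elements `x` and `w` generate `SL_{n+1}(K)` modulo its centre. -/
theorem result {K : Type*} [Field K] [Fintype K] (hK : Fintype.card K ≤ 3) (n : ℕ) (hn : 1 ≤ n)
    (x w : Matrix.SpecialLinearGroup (Fin (n + 1)) K)
    (hx : (x : Matrix (Fin (n + 1)) (Fin (n + 1)) K) = Matrix.transvection (0 : Fin (n + 1)) (1 : Fin (n + 1)) 1)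
    (hw : (w : Matrix (Fin (n + 1)) (Fin (n + 1)) K) =
      Matrix.of (fun i j => if j.val = i.val + 1 then 1 else if i.val = n ∧ j.val = 0 then (-1) ^ n else 0)) :
    Subgroup.closure ({x, w} : Set (Matrix.SpecialLinearGroup (Fin (n + 1)) K)) ⊔
      Subgroup.center (Matrix.SpecialLinearGroup (Fin (n + 1)) K) = ⊤ := by
  classical
  haveI : Nontrivial (Fin (n + 1)) := Fin.nontrivial_iff_two_le.mpr (by omega)
  set H := Subgroup.closure ({x, w} : Set (Matrix.SpecialLinearGroup (Fin (n + 1)) K))
  have hxH : x ∈ H := Subgroup.subset_closure (by simp)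
  have hwH : w ∈ H := Subgroup.subset_closure (by simp)
  suffices h : H = ⊤ by rw [h, top_sup_eq]
  let P : Fin (n + 1) → Fin (n + 1) → Prop := fun i j =>
    ∀ hij : i ≠ j, ∀ c : K, SpecialLinearGroup.transvection hij c ∈ H
  have h01 : P 0 1 := by
    intro hij c
    refine all_of_one hK one_ne_zero ?_ c
    have : SpecialLinearGroup.transvection hij (1 : K) = x := Subtype.ext hx.symm
    rw [this]; exact hxH
  let ε : Fin (n + 1) → K := fun i => if i.val = n then (-1) ^ n else 1
  have hε : ∀ i, ε i ≠ 0 := fun i => by simp only [ε]; split_ifs <;> simp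
  have hW : ∀ (v : Fin (n + 1) → K) i, (w • v) i = ε i * v (i + 1) := by
    intro v i
    rw [Matrix.SpecialLinearGroup.smul_def, hw]
    show ∑ j, _ * v j = _
    rw [Finset.sum_eq_single (i + 1)]
    · congr 1
      by_cases hi : i.val = n
      · have e : i = Fin.last n := Fin.ext hi
        simp [ε, e]
      · have hlt : i < Fin.last n := Fin.lt_last_iff_ne_last.mpr (fun e => hi (by simp [e]))
        simp [ε, hi, Fin.val_add_one_of_lt hlt]
    · intro j _ hj
      rw [Matrix.of_apply, if_neg, if_neg, zero_mul]
      · rintro ⟨h1, h2⟩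
        exact hj (by rw [show i = Fin.last n from Fin.ext h1, Fin.last_add_one]; exact Fin.ext h2)
      · intro h1
        have hlt : i < Fin.last n := by rw [Fin.lt_def, Fin.val_last]; omega
        exact hj (Fin.ext (by rw [Fin.val_add_one_of_lt hlt, h1]))
    · simp
  have hback : ∀ i j, i ≠ j → P (i + 1) (j + 1) → P i j := by
    intro i j _ h hij d
    have hne : i + 1 ≠ j + 1 := fun e => hij (add_right_cancel e)
    have e : w * SpecialLinearGroup.transvection hne (1 : K) =
        SpecialLinearGroup.transvection hij (ε i / ε j) * w := by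
      refine CfsgLib.Classical.SL_ext_smul fun v => funext fun k => ?_
      simp only [mul_smul, hW, CfsgLib.Classical.transvection_smul_apply]
      by_cases hk : k = i
      · subst hk
        simp only [if_true]
        field_simp [hε j]
      · have : k + 1 ≠ i + 1 := fun e => hk (add_right_cancel e)
        simp [hk]
    refine all_of_one hK (div_ne_zero (hε i) (hε j)) ?_ d
    rw [show SpecialLinearGroup.transvection hij (ε i / ε j) =
      w * SpecialLinearGroup.transvection hne (1 : K) * w⁻¹ from by rw [e, mul_inv_cancel_right]]
    exact H.mul_mem (H.mul_mem hwH (h hne 1)) (H.inv_mem hwH)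
  have hne1 : ∀ i : Fin (n + 1), i ≠ i + 1 := fun i e => by
    have : (0 : Fin (n + 1)) = 1 := by simpa using e
    simp at this
  have hcons : ∀ i, P i (i + 1) := by
    have hk : ∀ k : ℕ, P (-(k : Fin (n + 1))) (-(k : Fin (n + 1)) + 1) := by
      intro k
      induction k with
      | zero => simpa using h01
      | succ k ih =>
        refine hback _ _ (hne1 _) ?_
        have : -((k + 1 : ℕ) : Fin (n + 1)) + 1 = -(k : Fin (n + 1)) := by push_cast; ring
        rwa [this]
    intro i
    have := hk (-i).val
    rwa [Fin.cast_val_eq_self, neg_neg] at this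
  have hall : ∀ m : ℕ, ∀ i j : Fin (n + 1), j = i + (m : Fin (n + 1)) → m ≤ n → P i j := by
    intro m
    induction m with
    | zero => intro i j hj _ hij; simp at hj; exact absurd hj.symm hij
    | succ m ih =>
      intro i j hj hm hij c
      rcases Nat.eq_zero_or_pos m with rfl | hm0
      · simp at hj; subst hj; exact hcons i hij c
      · let k := i + (m : Fin (n + 1))
        have hik : i ≠ k := fun e => by
          have h0 : ((m : ℕ) : Fin (n + 1)) = 0 := by simpa [k] using e
          have := congrArg Fin.val h0
          rw [Fin.val_natCast, Nat.mod_eq_of_lt (by omega)] at this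
          simp at this; omega
        have hj' : j = k + 1 := by rw [hj]; push_cast; simp only [k]; ring
        have hkj : k ≠ j := hj' ▸ hne1 k
        rw [← CfsgLib.Classical.commutator_transvection hij hik hkj c, commutatorElement_def]
        have h1 := ih i k rfl (by omega) hik c
        have h2 : SpecialLinearGroup.transvection hkj (1 : K) ∈ H := by
          subst hj'; exact hcons k hkj 1
        exact H.mul_mem (H.mul_mem (H.mul_mem h1 h2) (H.inv_mem h1)) (H.inv_mem h2)
  refine CfsgLib.Classical.eq_top_of_transvection_mem H fun i j hij c => ?_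
  exact hall (j - i).val i j (by rw [Fin.cast_val_eq_self]; ring) (Nat.lt_succ_iff.mp (j - i).2) hij c

end Cfsg.Agent.S2403
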