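import Cfsg.Statements.S2404
import Cfsg.Agent.Lib.Chev.WeightCount
import Cfsg.Agent.Lib.Chev.OrderData
import Cfsg.Agent.Lib.Chev.All

set_option autoImplicit false
open Cfsg

namespace Cfsg.Agent.S2404

/-- Steinberg's count of semisimple classes for type E₆ when the finite simply connected group has trivial centre: over a field with `q` elements of characteristic `p` with `q ≢ 1 (mod 3)`, the simply connected group E₆(q) coincides with the Chevalley group, and the conjugacy classes of elements of order prime to `p` in the Chevalley group of type E₆ number exactly `q^6`. -/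
theorem result {F : Type*} [Field F] [Fintype F] {q : ℕ} (hq : Fintype.card F = q) (hq3 : q % 3 ≠ 1) (p : ℕ) [Fact p.Prime] [CharP F p] :
    Nat.card {c : ConjClasses ↥(Cfsg.Lie.chevE6.group F) // ∃ g : ↥(Cfsg.Lie.chevE6.group F), ConjClasses.mk g = c ∧ (orderOf g).Coprime p} = q ^ 6 := by
  have hco : (Fintype.card F - 1).Coprime 3 := by
    rw [Nat.coprime_comm, (Nat.prime_three.coprime_iff_not_dvd), hq]
    have := Fintype.one_lt_card (α := F)
    omega
  have hpow : ∀ (L : List ℕ), (∀ x ∈ L, x = 1 ∨ x = 3) → ∀ i < L.length,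
      (Fintype.card F - 1).Coprime (L.getD i 0) := by
    intro L hL i hi
    rw [List.getD_eq_getElem _ _ hi]
    rcases hL _ (List.getElem_mem hi) with e | e <;> rw [e]
    · exact Nat.coprime_one_right _
    · exact hco
  exact CfsgLib.Chev.certE6.card_regClass (CfsgLib.Chev.certE6.torusHom_injective (CfsgLib.Chev.matOf _ CfsgLib.Chev.snfUE6) (CfsgLib.Chev.matOf _ CfsgLib.Chev.snfUiE6) (CfsgLib.Chev.matOf _ CfsgLib.Chev.snfVE6)
      (fun i => [1, 1, 1, 1, 1, 3].getD i.1 0) (by decide +kernel) (by decide +kernel) fun i => hpow [1, 1, 1, 1, 1, 3] (by decide) _ i.2) hq p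

end Cfsg.Agent.S2404
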