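import Cfsg.Statements.S2409
import Cfsg.Agent.Lib.Chev.TwistG2TwoGen
-- import your own Cfsg.Agent.* helpers here

set_option autoImplicit false
open Cfsg

namespace Cfsg.Agent.S2409

/-- The small Ree group ²G₂(3^(2m+1)) with `m ≥ 1` is generated by two of its elements. -/
theorem result {K : Type*} [Field K] [Fintype K] {m : ℕ} (hm : 1 ≤ m) (hK : Fintype.card K = 3 ^ (2 * m + 1)) :
    ∃ a b : ↥(Cfsg.Lie.twistedG2 K (3 ^ m)), Subgroup.closure ({a, b} : Set ↥(Cfsg.Lie.twistedG2 K (3 ^ m))) = ⊤ := by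
  have := CfsgLib.Chev.charThree_G2 hK
  obtain ⟨f, hf, hK'⟩ := CfsgLib.Chev.setupG2 hK
  obtain ⟨a, b, ha, hb, hc⟩ := CfsgLib.Chev.two_generatedG2 f hf hK'
    (Nat.le_self_pow (by omega) 3)
  rw [CfsgLib.Chev.fix_eq_twistedG2 f hf hK'] at ha hb hc
  refine ⟨⟨a, ha⟩, ⟨b, hb⟩, Subgroup.map_injective (f := (Cfsg.Lie.twistedG2 K (3 ^ m)).subtype) Subtype.val_injective ?_⟩
  rw [MonoidHom.map_closure, Set.image_pair, ← MonoidHom.range_eq_map, Subgroup.range_subtype]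
  exact hc

end Cfsg.Agent.S2409
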