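import Cfsg.Statements.S2410
import Cfsg.Agent.Lib.Suzuki.Structure
import Cfsg.Agent.Lib.Suzuki.SylowAut
import Cfsg.Agent.Lib.Suzuki.Symp
-- import your own Cfsg.Agent.* helpers here

set_option autoImplicit false
open Cfsg

namespace Cfsg.Agent.S2410

open CfsgLib.Suzuki MulAction

/-- The Suzuki group over the field with `2^(2m+1)` elements, `m ≥ 1` (realised as the stabiliser in `SL₄` of the Suzuki–Tits ovoid), is generated by two of its elements. -/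
theorem result {F : Type*} [Field F] [Fintype F] {m : ℕ} (hm : 1 ≤ m) (hF : Fintype.card F = 2 ^ (2 * m + 1)) :
    ∃ a b : ↥(Cfsg.Sz F m), Subgroup.closure ({a, b} : Set ↥(Cfsg.Sz F m)) = ⊤ := by
  haveI := charP_two_of_card hF
  haveI : Param F m := ⟨hm, hF⟩
  obtain ⟨t₀, ht₀⟩ := IsCyclic.exists_generator (α := Fˣ)
  set K : Subgroup (Gp F m) := Subgroup.closure {gH t₀, gT 1 0 * gW F m}
  refine ⟨gH t₀, gT 1 0 * gW F m, ?_⟩
  show K = ⊤
  have hH : ∀ t, gH (m := m) t ∈ K := fun t => by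
    obtain ⟨i, rfl⟩ := Subgroup.mem_zpowers_iff.mp (ht₀ t)
    rw [map_zpow]
    exact Subgroup.zpow_mem _ (Subgroup.subset_closure (Set.mem_insert _ _)) i
  have hb : gT 1 0 * gW F m ∈ K := Subgroup.subset_closure (Set.mem_insert_of_mem _ rfl)
  obtain ⟨t, ht⟩ := exists_unit_ne_one (F := F) (m := m)
  obtain ⟨a₀, b₀, ha₀, hmem⟩ : ∃ a b, a ≠ 0 ∧ gT (m := m) a b ∈ K := by
    have h1 : gT 1 0 * (gH t)⁻¹ * (gT 1 0)⁻¹ * gH (m := m) t ∈ K := by
      rw [← gW_conj_gH, show gT 1 0 * (gW F m * gH t * (gW F m)⁻¹) * (gT (m := m) (1 : F) 0)⁻¹ =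
        gT 1 0 * gW F m * gH t * (gT 1 0 * gW F m)⁻¹ by group]
      exact mul_mem (mul_mem (mul_mem hb (hH t)) (inv_mem hb)) (hH t)
    rw [show gT 1 0 * (gH t)⁻¹ * (gT (m := m) (1 : F) 0)⁻¹ * gH t =
      gT 1 0 * ((gH t)⁻¹ * (gT 1 0)⁻¹ * ((gH t)⁻¹)⁻¹) by group, gT_inv, ← map_inv, gH_conj_gT,
      gT_mul] at h1
    refine ⟨_, _, fun h => ?_, h1⟩
    rw [mul_one, CharTwo.add_eq_zero] at h
    refine ht (inv_eq_one.mp (Units.ext (sg_injective (F := F) (m := m) ?_)))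
    rw [Units.val_one, map_one, ← h]
  have hA : ∀ a : F, ∃ b, gT (m := m) a b ∈ K := fun a => by
    by_cases ha : a = 0
    · exact ⟨0, by rw [ha, gT_zero]; exact one_mem _⟩
    obtain ⟨s, hs⟩ := sg_surjective (F := F) (m := m) hF (a / a₀)
    have hs0 : s ≠ 0 := fun e => div_ne_zero ha ha₀ (by rw [← hs, e, map_zero])
    have h2 := mul_mem (mul_mem (hH (Units.mk0 s hs0)) hmem) (inv_mem (hH (Units.mk0 s hs0)))
    rw [gH_conj_gT, Units.val_mk0, hs, div_mul_cancel₀ a ha₀] at h2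
    exact ⟨_, h2⟩
  have hU : grpU F m ≤ K := by
    rintro _ ⟨a, b, rfl⟩
    obtain ⟨b', hb'⟩ := hA a
    obtain ⟨k, hk⟩ := CfsgLib.Suzuki.SylowAut.norm_surjective' (F := F) (m := m) (b + b')
    obtain ⟨c, hc⟩ := hA k
    have h2 := mul_mem (mul_mem hc hc) hb'
    rw [gT_sq, gT_mul, hk, map_zero, zero_mul, add_zero, zero_add, add_assoc, CharTwo.add_self_eq_zero,
      add_zero] at h2
    exact h2
  rw [eq_top_iff, ← closure_eq_top]
  refine sup_le (sup_le hU ?_) (Subgroup.zpowers_le.mpr ?_)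
  · rintro _ ⟨t, rfl⟩; exact hH t
  · have h3 := mul_mem (inv_mem (hU (gT_mem (1 : F) 0))) hb
    rwa [inv_mul_cancel_left] at h3

end Cfsg.Agent.S2410
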