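import Cfsg.Statements.S2412
import Cfsg.Agent.Lib.Classical.TwoGen.UnitaryCases
import Cfsg.Agent.Lib.Classical.UnitaryRegSmall

set_option autoImplicit false
open Cfsg

namespace Cfsg.Agent.S2412

/-- The projective special unitary group `PSU_n(q)` with `n ≥ 3`, realised over the field with `q²` elements, `(n, q) ≠ (3, 2)`, is generated by two of its elements. -/
theorem result {F : Type*} [Field F] [Fintype F] {q : ℕ} (hq : IsPrimePow q) (hF : Fintype.card F = q ^ 2) (n : ℕ) (hn : 3 ≤ n) (h32 : n = 3 → q ≠ 2) :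
    ∃ a b : Cfsg.PSU n F q, Subgroup.closure ({a, b} : Set (Cfsg.PSU n F q)) = ⊤ := by
  obtain ⟨p, hp⟩ := CharP.exists F
  obtain ⟨e, hpp, hcard⟩ := FiniteField.card F p
  have := Fact.mk hpp
  obtain ⟨f, -, hf⟩ := (Nat.dvd_prime_pow hpp).1
    (show q ∣ p ^ (e : ℕ) by rw [← hcard, hF]; exact dvd_pow_self q two_ne_zero)
  obtain ⟨K⟩ := CfsgLib.ClassicalAut.Unitary.exists_conj (F := F) hf
    (by rw [Nat.card_eq_fintype_card, hF])
  have key : ∃ a b : Cfsg.SU n F q, Subgroup.closure ({a, b} : Set _) = ⊤ := by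
    rcases Nat.lt_or_ge n 4 with h4 | h4
    · obtain rfl : n = 3 := by omega
      obtain ⟨B⟩ := CfsgLib.Classical.URegGen.exists_hb K 1
      obtain ⟨u, g, -, h⟩ := CfsgLib.Classical.URegGen.two_gen_all K B (by
        have := K.two_le
        have := h32 rfl
        omega)
      exact ⟨u, _, h⟩
    · obtain ⟨N, rfl⟩ : ∃ N, n = N + 2 := ⟨n - 2, by omega⟩
      exact CfsgLib.TwoGen.Unit.two_gen (by omega) K
  obtain ⟨a, b, h⟩ := key
  refine ⟨QuotientGroup.mk' _ a, QuotientGroup.mk' _ b, ?_⟩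
  rw [← Set.image_pair, ← MonoidHom.map_closure, h,
    Subgroup.map_top_of_surjective _ (QuotientGroup.mk'_surjective _)]

end Cfsg.Agent.S2412
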