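import Cfsg.Statements.S2413
import Cfsg.Agent.Lib.Classical.TwoGen.OrthApply
import Cfsg.Agent.S2411
import Cfsg.Agent.S0301

set_option autoImplicit false
open Cfsg

namespace Cfsg.Agent.S2413

/-- The simple orthogonal group `PΩ_{2m+1}(q)` (commutator subgroup of the orthogonal group of `x₀² + Σ x_i y_i` modulo its centre) with `m ≥ 2` and `q` odd is generated by two of its elements. -/
theorem result {F : Type*} [Field F] [Fintype F] (hodd : Odd (Fintype.card F)) (m : ℕ) (hm : 2 ≤ m) :
    ∃ a b : Cfsg.POmega F (Cfsg.quadFormOdd m F), Subgroup.closure ({a, b} : Set (Cfsg.POmega F (Cfsg.quadFormOdd m F))) = ⊤ := by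
  rcases Nat.lt_or_ge m 3 with h3 | h3
  · obtain rfl : m = 2 := by omega
    have h2 : 2 < Fintype.card F := by
      have := Fintype.one_lt_card (α := F)
      obtain ⟨k, hk⟩ := hodd
      omega
    obtain ⟨a, b, h⟩ := Cfsg.Agent.S2411.result (F := F) 2 le_rfl (fun _ => h2)
    obtain ⟨e⟩ := Cfsg.Agent.S0301.result (F := F) hodd
    refine ⟨e.symm a, e.symm b, ?_⟩
    rw [show ({e.symm a, e.symm b} : Set _) = e.symm.toMonoidHom '' {a, b} from (Set.image_pair _ _ _).symm,
      ← MonoidHom.map_closure, h, Subgroup.map_top_of_surjective _ e.symm.surjective]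
  · obtain ⟨N, rfl⟩ : ∃ N, m = N + 3 := ⟨m - 3, by omega⟩
    have h2 : (2 : F) ≠ 0 := by
      intro h
      have : CharP F 2 := CharTwo.of_one_ne_zero_of_two_eq_zero one_ne_zero h
      have : ringChar F = 2 := ringChar.eq F 2
      have := FiniteField.even_card_of_char_two this
      rw [Nat.odd_iff] at hodd
      omega
    obtain ⟨Q, hQ, hB⟩ := CfsgLib.Orth.exists_quadForm_odd h2 (N + 3)
    obtain ⟨Φ⟩ := CfsgLib.TwoGen.Ort.frame_odd hQ
    have := CfsgLib.TwoGen.Ort.pomega_two hB (by
      rw [Module.finrank_fintype_fun_eq_card]; simp; omega) (CfsgLib.TwoGen.Ort.two_gen_frame Φ hB)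
    rw [hQ] at this
    exact this

end Cfsg.Agent.S2413
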