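import Cfsg.Statements.S2414
import Cfsg.Agent.Lib.Classical.TwoGen.OrthApply

set_option autoImplicit false
open Cfsg

namespace Cfsg.Agent.S2414

/-- The simple orthogonal group `PΩ⁺_{2m}(q)` (commutator subgroup of the orthogonal group of `Σ x_i y_i` modulo its centre) with `m ≥ 4` is generated by two of its elements. -/
theorem result {F : Type*} [Field F] [Fintype F] (m : ℕ) (hm : 4 ≤ m) :
    ∃ a b : Cfsg.POmega F (Cfsg.quadFormPlus m F), Subgroup.closure ({a, b} : Set (Cfsg.POmega F (Cfsg.quadFormPlus m F))) = ⊤ := by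
  obtain ⟨Q, hQ, hB⟩ := CfsgLib.Orth.exists_quadForm_plus (F := F) m
  have hn : 5 ≤ Module.finrank F (Fin m ⊕ Fin m → F) := by
    rw [Module.finrank_fintype_fun_eq_card]; simp; omega
  have key : ∃ a b : Cfsg.POmega F ⇑Q, Subgroup.closure ({a, b} : Set (Cfsg.POmega F ⇑Q)) = ⊤ := by
    rcases Nat.lt_or_ge (Fintype.card F) 4 with h4 | h4
    · exact CfsgLib.TwoGen.Ort.pomega_two hB hn
        (CfsgLib.TwoGen.Ort.two_gen_plus_std hm (by omega) hB hQ)
    · obtain ⟨N, rfl⟩ : ∃ N, m = N + 4 := ⟨m - 4, by omega⟩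
      obtain ⟨c, h0, h1, h2⟩ := CfsgLib.TwoGen.Ort.exists_scalar h4
      obtain ⟨Φ⟩ := CfsgLib.TwoGen.Ort.frame_plus h0 h1 h2 hQ
      exact CfsgLib.TwoGen.Ort.pomega_two hB hn (CfsgLib.TwoGen.Ort.two_gen_frame Φ hB)
  rw [hQ] at key
  exact key

end Cfsg.Agent.S2414
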