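import Cfsg.Statements.S2416
import Cfsg.Agent.Lib.Chev.All
import Cfsg.Agent.Lib.Chev.ShortGen
-- import your own Cfsg.Agent.* helpers here

set_option autoImplicit false
open scoped MatrixGroups
open Cfsg

namespace Cfsg.Agent.S2416

/-- A Chevalley group of type G₂, B₂, D₄, F₄, E₆, E₇ or E₈ over a finite field lies in (indeed equals) the subgroup generated by its monomial subgroup `N` and a single fundamental root subgroup `X_p`, where `p` is a short fundamental root if there are two root lengths (any fundamental root otherwise), provided the characteristic is not 2 for types B₂, F₄ and not 3 for type G₂ (and the field has more than two elements for B₂, G₂). -/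
theorem result {K : Type*} [Field K] [Finite K] (D : Cfsg.Lie.ChevalleyDatum) (hD : D ∈ [Cfsg.Lie.chevG2, Cfsg.Lie.chevB2, Cfsg.Lie.chevD4, Cfsg.Lie.chevF4, Cfsg.Lie.chevE6, Cfsg.Lie.chevE7, Cfsg.Lie.chevE8])
    (hK : D ∈ [Cfsg.Lie.chevB2, Cfsg.Lie.chevG2] → ∃ x : K, x ≠ 0 ∧ x ≠ 1)
    (h2 : D ∈ [Cfsg.Lie.chevB2, Cfsg.Lie.chevF4] → ringChar K ≠ 2) (h3 : D = Cfsg.Lie.chevG2 → ringChar K ≠ 3)
    (i : ℕ) (hi : i < D.rank) (hshort : D.isLong (D.simple i) = false) :
    D.group K ≤ D.monomialSubgroup K ⊔ D.rootSubgroup K (D.simple i) := by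
  have h2' : ∀ m : ℤ, m.natAbs = 2 → ringChar K ≠ 2 → (m : K) ≠ 0 := fun m hm hc => by
    rcases Int.natAbs_eq m with e | e <;> rw [e, hm] <;> push_cast <;>
      simpa using Ring.two_ne_zero hc
  have h1' : ∀ m : ℤ, m.natAbs = (1 : ℤ).natAbs → (m : K) ≠ 0 := fun m hm => by
    rcases Int.natAbs_eq m with e | e <;> rw [e, hm] <;> simp
  rw [List.mem_cons, List.mem_cons, List.mem_cons, List.mem_cons, List.mem_cons, List.mem_cons,
    List.mem_singleton] at hD
  rcases hD with rfl | rfl | rfl | rfl | rfl | rfl | rfl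
  · refine CfsgLib.Chev.certG2.group_le_short CfsgLib.Chev.shortGenG2 (fun m hm => ?_)
      (lt_of_lt_of_eq hi CfsgLib.Chev.certG2.rank_eq) hshort
    have h3' : (3 : K) ≠ 0 := fun e => by
      have hd : ringChar K ∣ 3 := (ringChar.spec K 3).1 (by exact_mod_cast e)
      rcases (Nat.dvd_prime Nat.prime_three).1 hd with e1 | e1
      · exact CharP.ringChar_ne_one e1
      · exact h3 rfl e1
    rcases Int.natAbs_eq m with e | e <;> rw [e, hm] <;> simpa using h3'
  · exact CfsgLib.Chev.certB2.group_le_short CfsgLib.Chev.shortGenB2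
      (fun m hm => h2' m hm (h2 (by simp))) (lt_of_lt_of_eq hi CfsgLib.Chev.certB2.rank_eq) hshort
  · exact CfsgLib.Chev.certD4.group_le_short CfsgLib.Chev.shortGenD4 h1'
      (lt_of_lt_of_eq hi CfsgLib.Chev.certD4.rank_eq) hshort
  · exact CfsgLib.Chev.certF4.group_le_short CfsgLib.Chev.shortGenF4
      (fun m hm => h2' m hm (h2 (by simp))) (lt_of_lt_of_eq hi CfsgLib.Chev.certF4.rank_eq) hshort
  · exact CfsgLib.Chev.certE6.group_le_short CfsgLib.Chev.shortGenE6 h1'
      (lt_of_lt_of_eq hi CfsgLib.Chev.certE6.rank_eq) hshort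
  · exact CfsgLib.Chev.certE7.group_le_short CfsgLib.Chev.shortGenE7 h1'
      (lt_of_lt_of_eq hi CfsgLib.Chev.certE7.rank_eq) hshort
  · exact CfsgLib.Chev.certE8.group_le_short CfsgLib.Chev.shortGenE8 h1'
      (lt_of_lt_of_eq hi CfsgLib.Chev.certE8.rank_eq) hshort

end Cfsg.Agent.S2416
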