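import Cfsg.Statements.S2418
import Cfsg.Agent.Lib.Chev.WeylCentre
-- import your own Cfsg.Agent.* helpers here

set_option autoImplicit false
set_option maxRecDepth 100000
open Cfsg

namespace Cfsg.Agent.S2418

/-- For the Coxeter groups of types B₂, G₂, D₄, F₄, E₇, E₈ the centre has order 2 (the element acting as −1 on the root system) and is generated by a power of the Coxeter element `s₁ s₂ ⋯ s_l`; the Coxeter group of type E₆ has trivial centre. -/
theorem result (c : (Σ n : ℕ, CoxeterMatrix (Fin n)) × ℕ)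
    (hc : c ∈ [(⟨2, CoxeterMatrix.B 2⟩, 2), (⟨2, CoxeterMatrix.G₂⟩, 2), (⟨4, Cfsg.Lie.coxeterD4⟩, 2), (⟨4, CoxeterMatrix.F₄⟩, 2),
      (⟨6, CoxeterMatrix.E₆⟩, 1), (⟨7, CoxeterMatrix.E₇⟩, 2), (⟨8, CoxeterMatrix.E₈⟩, 2)]) :
    Nat.card (Subgroup.center c.1.2.Group) = c.2 ∧
      Subgroup.center c.1.2.Group ≤ Subgroup.zpowers ((List.finRange c.1.1).map c.1.2.simple).prod := by
  simp only [List.mem_cons, List.not_mem_nil, or_false] at hc
  rcases hc with rfl | rfl | rfl | rfl | rfl | rfl | rfl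
  · exact CfsgLib.Chev.certB2.wc_center_two_coxeter (CoxeterMatrix.B 2 : CoxeterMatrix (Fin 2)) (by decide +kernel) (by decide +kernel) (par := [0, 0]) (by decide +kernel)
      2 (by decide +kernel) (by decide +kernel) (by decide +kernel)
  · exact CfsgLib.Chev.certG2.wc_center_two_coxeter (CoxeterMatrix.G₂ : CoxeterMatrix (Fin 2)) (by decide +kernel) (by decide +kernel) (par := [0, 0]) (by decide +kernel)
      3 (by decide +kernel) (by decide +kernel) (by decide +kernel)
  · exact CfsgLib.Chev.certD4.wc_center_two_coxeter (Cfsg.Lie.coxeterD4 : CoxeterMatrix (Fin 4)) (by decide +kernel) (by decide +kernel) (par := [0, 0, 1, 1]) (by decide +kernel)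
      3 (by decide +kernel) (by decide +kernel) (by decide +kernel)
  · exact CfsgLib.Chev.certF4.wc_center_two_coxeter (CoxeterMatrix.F₄ : CoxeterMatrix (Fin 4)) (by decide +kernel) (by decide +kernel) (par := [0, 0, 1, 2]) (by decide +kernel)
      6 (by decide +kernel) (by decide +kernel) (by decide +kernel)
  · exact CfsgLib.Chev.certE6.wc_center_one_coxeter (CoxeterMatrix.E₆ : CoxeterMatrix (Fin 6)) (by decide +kernel) (by decide +kernel) (par := [0, 3, 0, 2, 3, 4]) (by decide +kernel)
      (([0, 1, 2, 0, 3, 1, 2, 0, 3, 2, 4, 3, 1, 2, 0, 3, 2, 4, 3, 1, 5, 4, 3, 1, 2, 0, 3, 2, 4, 3, 1, 5, 4, 3, 2, 0] : List (Fin 6))) (by decide +kernel) (by decide +kernel)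
  · exact CfsgLib.Chev.certE7.wc_center_two_coxeter (CoxeterMatrix.E₇ : CoxeterMatrix (Fin 7)) (by decide +kernel) (by decide +kernel) (par := [0, 3, 0, 2, 3, 4, 5]) (by decide +kernel)
      9 (by decide +kernel) (by decide +kernel) (by decide +kernel)
  · exact CfsgLib.Chev.certE8.wc_center_two_coxeter (CoxeterMatrix.E₈ : CoxeterMatrix (Fin 8)) (by decide +kernel) (by decide +kernel) (par := [0, 3, 0, 2, 3, 4, 5, 6]) (by decide +kernel)
      15 (by decide +kernel) (by decide +kernel) (by decide +kernel)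

end Cfsg.Agent.S2418
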