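import Cfsg.Statements.S2419
import Cfsg.Agent.Lib.Chev.WeylCentre
-- import your own Cfsg.Agent.* helpers here

set_option autoImplicit false
set_option maxRecDepth 100000
open Cfsg

namespace Cfsg.Agent.S2419

/-- The Coxeter groups of types B₂, G₂, E₆, E₇, E₈ are generated by the Coxeter element `s₁ s₂ ⋯ s_l` together with one suitable reflection (a conjugate of a simple reflection); for types D₄ and F₄ the Coxeter element together with two suitable reflections suffices. -/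
theorem result (c : (Σ n : ℕ, CoxeterMatrix (Fin n)) × ℕ)
    (hc : c ∈ [(⟨2, CoxeterMatrix.B 2⟩, 1), (⟨2, CoxeterMatrix.G₂⟩, 1), (⟨4, Cfsg.Lie.coxeterD4⟩, 2), (⟨4, CoxeterMatrix.F₄⟩, 2),
      (⟨6, CoxeterMatrix.E₆⟩, 1), (⟨7, CoxeterMatrix.E₇⟩, 1), (⟨8, CoxeterMatrix.E₈⟩, 1)]) :
    ∃ T : Finset c.1.2.Group, T.card = c.2 ∧ (∀ t ∈ T, ∃ (g : c.1.2.Group) (i : Fin c.1.1), t = g * c.1.2.simple i * g⁻¹) ∧
      Subgroup.closure (({((List.finRange c.1.1).map c.1.2.simple).prod} : Set c.1.2.Group) ∪ ↑T) = ⊤ := by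
  simp only [List.mem_cons, List.not_mem_nil, or_false] at hc
  rcases hc with rfl | rfl | rfl | rfl | rfl | rfl | rfl
  · exact CfsgLib.Chev.certB2.wc_gen_one (CoxeterMatrix.B 2 : CoxeterMatrix (Fin 2)) (by decide +kernel) ⟨0, by decide⟩
      [([1], [2, 0])] (by decide +kernel)
  · exact CfsgLib.Chev.certG2.wc_gen_one (CoxeterMatrix.G₂ : CoxeterMatrix (Fin 2)) (by decide +kernel) ⟨0, by decide⟩
      [([1], [2, 0])] (by decide +kernel)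
  · exact CfsgLib.Chev.certD4.wc_gen_two (Cfsg.Lie.coxeterD4 : CoxeterMatrix (Fin 4)) (by decide +kernel) ⟨0, by decide⟩ ⟨2, by decide⟩ (by decide)
      [([1], [0, 2, 1]), ([2, 1, 0, 1, 2], [0, 3, 1]), ([3, 2, 1, 0, 1, 2, 3], [0, 4, 1]), ([3], [6, 5, 6])] (by decide +kernel)
  · exact CfsgLib.Chev.certF4.wc_gen_two (CoxeterMatrix.F₄ : CoxeterMatrix (Fin 4)) (by decide +kernel) ⟨0, by decide⟩ ⟨2, by decide⟩ (by decide)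
      [([1], [0, 2, 1]), ([3], [0, 3, 1])] (by decide +kernel)
  · exact CfsgLib.Chev.certE6.wc_gen_one (CoxeterMatrix.E₆ : CoxeterMatrix (Fin 6)) (by decide +kernel) ⟨0, by decide⟩
      [([2], [0, 2, 1]), ([3, 1, 3], [0, 3, 1]), ([4, 3, 2, 0, 2, 3, 4], [0, 4, 1]), ([5, 4, 2, 3, 1, 3, 2, 4, 5], [0, 5, 1]), ([3], [0, 6, 1]), ([4], [0, 7, 1]), ([1], [7, 4, 7]), ([5], [0, 8, 1])] (by decide +kernel)
  · exact CfsgLib.Chev.certE7.wc_gen_one (CoxeterMatrix.E₇ : CoxeterMatrix (Fin 7)) (by decide +kernel) ⟨1, by decide⟩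
      [([3, 2, 0, 2, 3], [0, 2, 1]), ([4, 2, 3, 1, 3, 2, 4], [0, 3, 1]), ([5, 3, 4, 1, 3, 2, 0, 2, 3, 1, 4, 3, 5], [0, 4, 1]), ([4, 3, 2, 3, 4], [4, 2, 4]), ([6, 4, 5, 2, 3, 4, 1, 3, 2, 0, 2, 3, 1, 4, 3, 2, 5, 4, 6], [0, 5, 1]), ([5, 4, 3, 1, 3, 4, 5], [5, 3, 5]), ([5, 3, 4, 2, 3, 1, 3, 2, 4, 3, 5], [0, 7, 1]), ([6, 5, 4, 3, 2, 0, 2, 3, 4, 5, 6], [7, 4, 7]), ([4, 5, 3, 4, 2, 3, 1, 3, 2, 4, 3, 5, 4], [8, 6, 8]), ([6, 4, 5, 3, 4, 1, 3, 2, 0, 2, 3, 1, 4, 3, 5, 4, 6], [0, 9, 1]), ([0], [9, 5, 9]), ([3, 2, 3], [9, 8, 9]), ([5, 6, 4, 5, 3, 4, 1, 3, 2, 0, 2, 3, 1, 4, 3, 5, 4, 6, 5], [10, 8, 10]), ([4], [11, 9, 11]), ([5, 4, 3, 2, 3, 4, 5], [0, 12, 1]), ([2], [12, 7, 12]), ([6, 5, 4, 3, 2, 3, 4, 5, 6], [13, 10, 13]), ([5], [15, 12, 15]), ([3], [18, 14, 18]), ([6], [19, 17, 19])] (by decide +kernel)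
  · exact CfsgLib.Chev.certE8.wc_gen_one (CoxeterMatrix.E₈ : CoxeterMatrix (Fin 8)) (by decide +kernel) ⟨0, by decide⟩
      [([2], [0, 2, 1]), ([3, 1, 3], [0, 3, 1]), ([2, 0, 2], [3, 2, 3]), ([4, 3, 2, 0, 2, 3, 4], [0, 4, 1]), ([5, 4, 2, 3, 1, 3, 2, 4, 5], [0, 6, 1]), ([4, 3, 2, 3, 4], [6, 2, 6]), ([4, 3, 4], [6, 5, 6]), ([6, 5, 3, 4, 1, 3, 2, 0, 2, 3, 1, 4, 3, 5, 6], [0, 7, 1]), ([3, 4, 2, 3, 1, 3, 2, 4, 3], [8, 4, 8]), ([4, 5, 3, 4, 2, 3, 1, 3, 2, 4, 3, 5, 4], [9, 7, 9]), ([7, 6, 4, 5, 2, 3, 4, 1, 3, 2, 0, 2, 3, 1, 4, 3, 2, 5, 4, 6, 7], [0, 10, 1]), ([6, 5, 3, 4, 2, 3, 1, 3, 2, 4, 3, 5, 6], [10, 2, 10]), ([5, 3, 4, 2, 3, 1, 3, 2, 4, 3, 5], [0, 13, 1]), ([7, 6, 4, 5, 3, 4, 1, 3, 2, 0, 2, 3, 1, 4, 3, 5, 4, 6, 7], [13, 3, 13]), ([6, 4, 5, 3, 4, 1, 3, 2, 0, 2, 3, 1, 4, 3, 5, 4, 6], [0, 15, 1]), ([5, 4,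 3, 2, 3, 4, 5], [15, 4, 15]), ([3], [15, 7, 15]), ([5], [15, 11, 15]), ([4], [15, 12, 15]), ([6], [15, 14, 15]), ([7], [17, 16, 17]), ([1], [18, 7, 18])] (by decide +kernel)

end Cfsg.Agent.S2419
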