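import Cfsg.Statements.S2427
import Mathlib
-- import your own Cfsg.Agent.* helpers here

set_option autoImplicit false
open Cfsg

namespace Cfsg.Agent.S2427

open scoped commutatorElement

set_option maxHeartbeats 1000000

abbrev S := Matrix.SpecialLinearGroup (Fin 2) (ZMod 3)

/-- The elements of order dividing four. -/
def qEight : Subgroup S where
  carrier := {g | g ^ 4 = 1}
  one_mem' := one_pow 4
  mul_mem' {a b} := (show ∀ a b : S, a ^ 4 = 1 → b ^ 4 = 1 → (a * b) ^ 4 = 1 by decide +kernel) a b
  inv_mem' {a} h := by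
    show a⁻¹ ^ 4 = 1
    rw [inv_pow, show a ^ 4 = 1 from h, inv_one]

instance : DecidablePred (· ∈ qEight) := fun g => inferInstanceAs (Decidable (g ^ 4 = 1))

theorem commutator_eq : commutator S = qEight := by
  refine le_antisymm ?_ fun g hg => ?_
  · rw [commutator_def, Subgroup.commutator_le]
    intro a _ b _
    exact (show ∀ a b : S, ⁅a, b⁆ ^ 4 = 1 by decide +kernel) a b
  · obtain ⟨a, b, rfl⟩ := (show ∀ g : S, g ^ 4 = 1 → ∃ a b : S, g = ⁅a, b⁆ by decide +kernel) g hg
    exact Subgroup.commutator_mem_commutator (Subgroup.mem_top a) (Subgroup.mem_top b)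

theorem card_qEight : Nat.card qEight = 8 := by
  rw [Nat.card_eq_fintype_card]; decide +kernel

theorem card_S : Nat.card S = 24 := by
  rw [Nat.card_eq_fintype_card]; decide +kernel

theorem card_center : Nat.card (Subgroup.center S) = 2 := by
  have : Subgroup.center S = Subgroup.zpowers (-1 : S) := by
    ext g
    rw [Subgroup.mem_center_iff]
    constructor
    · intro h
      rcases (show ∀ g : S, (∀ x, x * g = g * x) → g = 1 ∨ g = -1 by decide +kernel) g h with rfl | rfl
      · exact one_mem _
      · exact Subgroup.mem_zpowers _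
    · rintro ⟨k, rfl⟩
      intro x
      exact (Commute.zpow_right ((show ∀ x : S, x * (-1) = (-1) * x by decide +kernel) x) k)
  rw [this, Nat.card_zpowers]
  exact orderOf_eq_prime (by decide +kernel) (by decide +kernel)

/-- The first generator. -/
def qA : S := ⟨!![0, -1; 1, 0], by decide +kernel⟩

/-- The second generator. -/
def qX : S := ⟨!![1, 1; 1, -1], by decide +kernel⟩

/-- The map from the quaternion group. -/
def qMap : QuaternionGroup 2 → S
  | .a i => qA ^ i.val
  | .xa i => qX * qA ^ i.val

theorem qMap_mem : ∀ x, qMap x ∈ qEight := by decide +kernel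

theorem qMap_mul : ∀ x y, qMap (x * y) = qMap x * qMap y := by decide +kernel

theorem qMap_inj : ∀ x y, qMap x = qMap y → x = y := by decide +kernel

theorem quaternion_equiv : Nonempty (qEight ≃* QuaternionGroup 2) := by
  let f : QuaternionGroup 2 →* qEight :=
    MonoidHom.mk' (fun x => ⟨qMap x, qMap_mem x⟩) fun x y => Subtype.ext (qMap_mul x y)
  have hinj : Function.Injective f := fun x y e => qMap_inj x y (congrArg Subtype.val e)
  refine ⟨(MulEquiv.ofBijective f ((Nat.bijective_iff_injective_and_card f).2 ⟨hinj, ?_⟩)).symm⟩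
  rw [card_qEight, Nat.card_eq_fintype_card, QuaternionGroup.card]

theorem normal_cases (N : Subgroup S) (hN : N.Normal) :
    N = ⊥ ∨ N = ⊤ ∨ N = Subgroup.center S ∨ N = qEight := by
  by_cases hc : N ≤ Subgroup.center S
  · have h2 := Subgroup.card_dvd_of_le hc
    rw [card_center, Nat.dvd_prime Nat.prime_two] at h2
    rcases h2 with h | h
    · exact Or.inl (Subgroup.eq_bot_of_card_eq N h)
    · exact Or.inr (Or.inr (Or.inl (Subgroup.eq_of_le_of_card_ge hc (by rw [h, card_center]))))
  obtain ⟨g, hg, hgc⟩ := SetLike.not_le_iff_exists.1 hc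
  have hconj : ∀ a, a * g * a⁻¹ ∈ N := hN.conj_mem g hg
  have hQ : qEight ≤ N := by
    intro h hh
    rw [Subgroup.mem_center_iff] at hgc
    push Not at hgc
    by_cases h4 : g ^ 4 = 1
    · obtain ⟨a, b, rfl⟩ := (show ∀ g : S, g ^ 4 = 1 → (∃ x, x * g ≠ g * x) → ∀ h : S, h ^ 4 = 1 →
        ∃ a b : S, h = (a * g * a⁻¹) * (b * g * b⁻¹) by decide +kernel) g h4 hgc h hh
      exact mul_mem (hconj a) (hconj b)
    · obtain ⟨a, b, rfl⟩ := (show ∀ g : S, g ^ 4 ≠ 1 → ∀ h : S, h ^ 4 = 1 →
        ∃ a b : S, h = ⁅a, g⁆ * ⁅b, g⁆ by decide +kernel) g h4 h hh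
      exact mul_mem (mul_mem (hconj a) (inv_mem hg)) (mul_mem (hconj b) (inv_mem hg))
  have h1 := Subgroup.card_dvd_of_le hQ
  have h2 := Subgroup.card_subgroup_dvd_card N
  rw [card_qEight] at h1
  rw [card_S] at h2
  have : Nat.card N = 8 ∨ Nat.card N = 24 := by
    obtain ⟨k, hk⟩ := h1
    have := Nat.le_of_dvd (by norm_num) h2
    have : 0 < Nat.card N := Nat.card_pos
    have hk3 : k ≤ 3 := by omega
    rw [hk] at h2
    interval_cases k <;> omega
  rcases this with h | h
  · exact Or.inr (Or.inr (Or.inr (Subgroup.eq_of_le_of_card_ge hQ (by rw [h, card_qEight])).symm))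
  · exact Or.inr (Or.inl (Subgroup.eq_top_of_card_eq N (by rw [h, card_S])))


/-- The group SL₂ over the field with 3 elements has order 24 and centre of order 2; its commutator subgroup has order 8, is isomorphic to the quaternion group of order 8 and is complemented by every Sylow 3-subgroup (so the group is a semidirect product of a quaternion group of order 8 by a cyclic group of order 3); and its only normal subgroups besides the trivial subgroup and the whole group are the centre and the commutator subgroup. -/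
theorem result :
    Nat.card (Matrix.SpecialLinearGroup (Fin 2) (ZMod 3)) = 24 ∧
    Nat.card (Subgroup.center (Matrix.SpecialLinearGroup (Fin 2) (ZMod 3))) = 2 ∧
    Nat.card (commutator (Matrix.SpecialLinearGroup (Fin 2) (ZMod 3))) = 8 ∧
    Nonempty (commutator (Matrix.SpecialLinearGroup (Fin 2) (ZMod 3)) ≃* QuaternionGroup 2) ∧
    (∀ P : Sylow 3 (Matrix.SpecialLinearGroup (Fin 2) (ZMod 3)),
      Subgroup.IsComplement' (commutator (Matrix.SpecialLinearGroup (Fin 2) (ZMod 3)))
        (P : Subgroup (Matrix.SpecialLinearGroup (Fin 2) (ZMod 3)))) ∧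
    ∀ N : Subgroup (Matrix.SpecialLinearGroup (Fin 2) (ZMod 3)), N.Normal →
      N = ⊥ ∨ N = ⊤ ∨ N = Subgroup.center (Matrix.SpecialLinearGroup (Fin 2) (ZMod 3)) ∨
        N = commutator (Matrix.SpecialLinearGroup (Fin 2) (ZMod 3)) := by
  refine ⟨card_S, card_center, by rw [commutator_eq, card_qEight], by rw [commutator_eq]; exact quaternion_equiv,
    fun P => ?_, fun N hN => by rw [commutator_eq]; exact normal_cases N hN⟩
  have hP : Nat.card (P : Subgroup S) = 3 := by
    have : Fact (Nat.Prime 3) := ⟨Nat.prime_three⟩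
    rw [P.card_eq_multiplicity, card_S, show (24 : ℕ) = 3 * 8 by norm_num, Nat.factorization_mul (by norm_num) (by norm_num),
      Finsupp.add_apply, Nat.Prime.factorization_self Nat.prime_three, Nat.factorization_eq_zero_of_not_dvd (by norm_num)]
    rfl
  refine Subgroup.isComplement'_of_coprime ?_ ?_
  · rw [commutator_eq, card_qEight, hP, card_S]
  · rw [commutator_eq, card_qEight, hP]; norm_num


end Cfsg.Agent.S2427
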