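import Cfsg.Statements.S2428
import Cfsg.Agent.Lib.RankOne.SLTwo
-- import your own Cfsg.Agent.* helpers here

set_option autoImplicit false
open Cfsg

namespace Cfsg.Agent.S2428

/-- Let F be a finite field with q elements, q odd, and let d be a diagonal element of SL₂ over F whose diagonal entry a has a² ≠ 1 (such d exist exactly when q > 3). Then the centraliser of d is precisely the diagonal subgroup T; the normaliser of T has order 2(q − 1) and exactly (q + 5)/2 conjugacy classes; and every element of that normaliser outside T has square equal to −1. -/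
theorem result {F : Type*} [Field F] [Fintype F] (hodd : Odd (Fintype.card F))
    (d : Matrix.SpecialLinearGroup (Fin 2) F) (hd01 : (d : Matrix (Fin 2) (Fin 2) F) 0 1 = 0) (hd10 : (d : Matrix (Fin 2) (Fin 2) F) 1 0 = 0) (hda : (d : Matrix (Fin 2) (Fin 2) F) 0 0 ^ 2 ≠ 1) :
    (∀ g : Matrix.SpecialLinearGroup (Fin 2) F, g ∈ Subgroup.centralizer ({d} : Set (Matrix.SpecialLinearGroup (Fin 2) F)) ↔ ((g : Matrix (Fin 2) (Fin 2) F) 0 1 = 0 ∧ (g : Matrix (Fin 2) (Fin 2) F) 1 0 = 0)) ∧
    Nat.card (Subgroup.normalizer ((Subgroup.centralizer ({d} : Set (Matrix.SpecialLinearGroup (Fin 2) F))) : Set (Matrix.SpecialLinearGroup (Fin 2) F))) = 2 * (Fintype.card F - 1) ∧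
    Nat.card (ConjClasses (Subgroup.normalizer ((Subgroup.centralizer ({d} : Set (Matrix.SpecialLinearGroup (Fin 2) F))) : Set (Matrix.SpecialLinearGroup (Fin 2) F)))) = (Fintype.card F + 5) / 2 ∧
    ∀ g : Matrix.SpecialLinearGroup (Fin 2) F, g ∈ Subgroup.normalizer ((Subgroup.centralizer ({d} : Set (Matrix.SpecialLinearGroup (Fin 2) F))) : Set (Matrix.SpecialLinearGroup (Fin 2) F)) →
      g ∉ Subgroup.centralizer ({d} : Set (Matrix.SpecialLinearGroup (Fin 2) F)) → ((g * g) : Matrix (Fin 2) (Fin 2) F) = -1 := by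
  classical
  open CfsgLib.RankOne.SLTwo in
  obtain ⟨a₀, b₀, rfl⟩ := exists_tri hd10
  simp [CfsgLib.RankOne.SLTwo.tri_coe] at hd01 hda
  subst hd01
  open CfsgLib.RankOne.SLTwo in
  have hda' : (a₀ : F) - ((a₀⁻¹ : Fˣ) : F) ≠ 0 := fun e => by
    rw [sub_eq_zero] at e
    have : (a₀ : F) * a₀ = 1 := by nth_rw 1 [e]; exact a₀.inv_mul
    rcases mul_self_eq_one_iff.1 this with h | h
    · exact hda.1 (Units.ext h)
    · exact hda.2 (Units.ext h)
  have h2 : (2 : F) ≠ 0 := Ring.two_ne_zero fun e => by
    have := FiniteField.even_card_of_char_two e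
    obtain ⟨k, hk⟩ := hodd
    omega
  set d := CfsgLib.RankOne.SLTwo.tri a₀ (0 : F) with hddef
  set T := Subgroup.centralizer ({d} : Set (Matrix.SpecialLinearGroup (Fin 2) F)) with hT
  have hTmem : ∀ g, g ∈ T ↔ ((g : Matrix (Fin 2) (Fin 2) F) 0 1 = 0 ∧ (g : Matrix (Fin 2) (Fin 2) F) 1 0 = 0) := by
    intro g
    rw [hT, Subgroup.mem_centralizer_singleton_iff, Matrix.SpecialLinearGroup.ext_iff]
    simp only [hddef, Matrix.SpecialLinearGroup.coe_mul, CfsgLib.RankOne.SLTwo.tri_coe, Fin.forall_fin_two,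
      Matrix.mul_apply, Fin.sum_univ_two, Matrix.of_apply, Matrix.cons_val', Matrix.cons_val_zero,
      Matrix.cons_val_one, Matrix.cons_val_fin_one, mul_zero, zero_mul, add_zero, zero_add]
    constructor
    · rintro ⟨⟨-, h01⟩, h10, -⟩
      constructor
      · exact (mul_eq_zero.1 (show (g : Matrix (Fin 2) (Fin 2) F) 0 1 * ((a₀ : F) - ((a₀⁻¹ : Fˣ) : F)) = 0 by
          first | linear_combination h01 | linear_combination -h01)).resolve_right hda'
      · exact (mul_eq_zero.1 (show (g : Matrix (Fin 2) (Fin 2) F) 1 0 * ((a₀ : F) - ((a₀⁻¹ : Fˣ) : F)) = 0 by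
          first | linear_combination h10 | linear_combination -h10)).resolve_right hda'
    · rintro ⟨h01, h10⟩
      refine ⟨⟨by ring, by rw [h01]; ring⟩, by rw [h10]; ring, by ring⟩
  let w : Matrix.SpecialLinearGroup (Fin 2) F := ⟨!![0, 1; -1, 0], by rw [Matrix.det_fin_two_of]; ring⟩
  let el : Fˣ × Bool → Matrix.SpecialLinearGroup (Fin 2) F := fun p =>
    if p.2 then CfsgLib.RankOne.SLTwo.tri p.1 0 * w else CfsgLib.RankOne.SLTwo.tri p.1 0
  have helf : ∀ a : Fˣ, ((el (a, false) : Matrix.SpecialLinearGroup (Fin 2) F) : Matrix (Fin 2) (Fin 2) F) =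
      !![(a : F), 0; 0, ((a⁻¹ : Fˣ) : F)] := fun a => rfl
  have helt : ∀ a : Fˣ, ((el (a, true) : Matrix.SpecialLinearGroup (Fin 2) F) : Matrix (Fin 2) (Fin 2) F) =
      !![0, (a : F); -((a⁻¹ : Fˣ) : F), 0] := fun a => by
    show (((CfsgLib.RankOne.SLTwo.tri a 0 * w : Matrix.SpecialLinearGroup (Fin 2) F)) : Matrix (Fin 2) (Fin 2) F) = _
    rw [Matrix.SpecialLinearGroup.coe_mul, CfsgLib.RankOne.SLTwo.tri_coe]
    show _ * !![(0 : F), 1; -1, 0] = _
    rw [Matrix.mul_fin_two]
    ext i j
    fin_cases i <;> fin_cases j <;> simp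
  set N := Subgroup.normalizer ((T : Subgroup (Matrix.SpecialLinearGroup (Fin 2) F)) : Set (Matrix.SpecialLinearGroup (Fin 2) F)) with hN
  have hNmem : ∀ g, g ∈ N ↔ ∃ p, el p = g := by
    intro g
    constructor
    · intro hg
      have h1 := (Subgroup.mem_normalizer_iff.1 hg d).1 (Subgroup.mem_centralizer_singleton_iff.2 rfl)
      rw [hTmem] at h1
      obtain ⟨e01, e10⟩ := h1
      have hdet := g.det_coe
      rw [Matrix.det_fin_two] at hdet
      rw [Matrix.SpecialLinearGroup.coe_mul, Matrix.SpecialLinearGroup.coe_mul, Matrix.SpecialLinearGroup.coe_inv,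
        Matrix.adjugate_fin_two, hddef, CfsgLib.RankOne.SLTwo.tri_coe] at e01 e10
      simp [Matrix.mul_apply, Fin.sum_univ_two] at e01 e10
      have h01 : (g : Matrix (Fin 2) (Fin 2) F) 0 0 * (g : Matrix (Fin 2) (Fin 2) F) 0 1 = 0 :=
        (mul_eq_zero.1 (show (g : Matrix (Fin 2) (Fin 2) F) 0 0 * (g : Matrix (Fin 2) (Fin 2) F) 0 1 *
          ((a₀ : F) - ((a₀⁻¹ : Fˣ) : F)) = 0 by rw [Units.val_inv_eq_inv_val]; linear_combination -e01)).resolve_right hda'
      have h10 : (g : Matrix (Fin 2) (Fin 2) F) 1 0 * (g : Matrix (Fin 2) (Fin 2) F) 1 1 = 0 :=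
        (mul_eq_zero.1 (show (g : Matrix (Fin 2) (Fin 2) F) 1 0 * (g : Matrix (Fin 2) (Fin 2) F) 1 1 *
          ((a₀ : F) - ((a₀⁻¹ : Fˣ) : F)) = 0 by rw [Units.val_inv_eq_inv_val]; linear_combination e10)).resolve_right hda'
      rcases mul_eq_zero.1 h01 with h00 | h01
      · have hp : -((g : Matrix (Fin 2) (Fin 2) F) 0 1) * (g : Matrix (Fin 2) (Fin 2) F) 1 0 = 1 := by
          rw [h00] at hdet; linear_combination hdet
        have h11 := (mul_eq_zero.1 h10).resolve_left fun e => by simp [e] at hp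
        refine ⟨(⟨(g : Matrix (Fin 2) (Fin 2) F) 0 1, -((g : Matrix (Fin 2) (Fin 2) F) 1 0), by linear_combination hp, by linear_combination hp⟩, true),
          Subtype.ext ?_⟩
        rw [helt]
        ext i j
        fin_cases i <;> fin_cases j <;> simp [h00, h11]
      · have hp : (g : Matrix (Fin 2) (Fin 2) F) 0 0 * (g : Matrix (Fin 2) (Fin 2) F) 1 1 = 1 := by
          rw [h01] at hdet; linear_combination hdet
        have h10' := (mul_eq_zero.1 h10).resolve_right fun e => by simp [e] at hp
        refine ⟨(⟨_, _, hp, by rw [mul_comm]; exact hp⟩, false), Subtype.ext ?_⟩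
        rw [helf]
        ext i j
        fin_cases i <;> fin_cases j <;> simp [h01, h10']
    · rintro ⟨⟨a, b⟩, rfl⟩
      have hfin : ∀ h ∈ T, el (a, b) * h * (el (a, b))⁻¹ ∈ T := by
        intro h hh
        rw [hTmem] at hh ⊢
        rw [Matrix.SpecialLinearGroup.coe_mul, Matrix.SpecialLinearGroup.coe_mul, Matrix.SpecialLinearGroup.coe_inv,
          Matrix.adjugate_fin_two]
        cases b <;> simp [helt, helf, Matrix.mul_apply, Matrix.vecMul, dotProduct, Fin.sum_univ_two, hh.1, hh.2]
      rw [hN, Subgroup.mem_normalizer_iff]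
      refine fun h => ⟨hfin h, fun hh => ?_⟩
      let cj : T → T := fun x => ⟨_, hfin x x.2⟩
      obtain ⟨y, hy⟩ := (Finite.injective_iff_surjective.1
        (show Function.Injective cj from fun x y e => Subtype.ext (by simpa [cj] using congrArg Subtype.val e))) ⟨_, hh⟩
      have := congrArg Subtype.val hy
      simp [cj] at this
      rw [← this]
      exact y.2
  let f : Fˣ × Bool → N := fun p => ⟨el p, (hNmem _).2 ⟨p, rfl⟩⟩
  have hf : Function.Bijective f := by
    refine ⟨?_, fun g => ?_⟩
    · rintro ⟨a, x⟩ ⟨b, y⟩ e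
      have e' := congrArg (fun g : N => ((g : Matrix.SpecialLinearGroup (Fin 2) F) : Matrix (Fin 2) (Fin 2) F)) e
      have h1 := congrFun (congrFun e' 0) 0
      have h2 := congrFun (congrFun e' 0) 1
      cases x <;> cases y <;> simp [f, helt, helf] at h1 h2 <;> simp [Units.ext_iff, h1, h2]
    · obtain ⟨p, hp⟩ := (hNmem g).1 g.2
      exact ⟨p, Subtype.ext hp⟩
  have hcardN : Nat.card N = 2 * (Fintype.card F - 1) := by
    rw [← Nat.card_eq_of_bijective f hf, Nat.card_prod, Nat.card_eq_fintype_card (α := Bool), Fintype.card_bool,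
      Nat.card_units, Nat.card_eq_fintype_card, mul_comm]
  refine ⟨hTmem, hcardN, ?_, fun g hg hgT => ?_⟩
  · have hsq : ∀ u : Fˣ, u * u = 1 ↔ u = 1 ∨ u = -1 := fun u => by
      rw [Units.ext_iff, Units.ext_iff, Units.ext_iff]; simp [mul_self_eq_one_iff]
    have hone : Nat.card {u : Fˣ // u * u = 1} = 2 := by
      rw [show {u : Fˣ // u * u = 1} = ↥({u : Fˣ | u * u = 1} : Set Fˣ) from rfl, Nat.card_coe_set_eq,
        show {u : Fˣ | u * u = 1} = {1, -1} from Set.ext fun u => by simp [hsq],
        Set.ncard_pair fun e => h2 (by have := congrArg Units.val e; simp at this; linear_combination this)]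
    have hcomm : ∀ p q, Commute (f p) (f q) ↔ (match p.2, q.2 with
        | false, false => True
        | false, true => p.1 * p.1 = 1
        | true, false => q.1 * q.1 = 1
        | true, true => (p.1 * q.1⁻¹) * (p.1 * q.1⁻¹) = 1) := by
      rintro ⟨a, x⟩ ⟨b, y⟩
      rw [commute_iff_eq, Subtype.ext_iff, Matrix.SpecialLinearGroup.ext_iff]
      simp only [f, Subgroup.coe_mul, Matrix.SpecialLinearGroup.coe_mul]
      have ha := a.ne_zero
      have hb := b.ne_zero
      cases x <;> cases y <;> simp [helt, helf, Fin.forall_fin_two, Matrix.mul_apply, Fin.sum_univ_two, Units.ext_iff]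
      · exact ⟨mul_comm _ _, mul_comm _ _⟩
      · constructor
        · rintro ⟨h, -⟩
          field_simp at h
          first | linear_combination h | exact mul_left_cancel₀ hb (by linear_combination h)
        · intro h
          rw [inv_eq_of_mul_eq_one_right h]
          exact ⟨mul_comm _ _, mul_comm _ _⟩
      · constructor
        · rintro ⟨h, -⟩
          field_simp at h
          first | linear_combination h | linear_combination -h | exact mul_left_cancel₀ ha (by linear_combination -h) | exact mul_left_cancel₀ ha (by linear_combination h)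
        · intro h
          rw [inv_eq_of_mul_eq_one_right h]
          exact ⟨mul_comm _ _, mul_comm _ _⟩
      · constructor
        · rintro ⟨h, h'⟩
          field_simp at h ⊢
          first | linear_combination h | linear_combination -h
        · intro h
          have hinv : ((a : F) * (b : F)⁻¹)⁻¹ = (a : F) * (b : F)⁻¹ := inv_eq_of_mul_eq_one_right h
          rw [mul_inv, inv_inv] at hinv
          exact ⟨by first | linear_combination hinv | linear_combination -hinv,
            by first | linear_combination hinv | linear_combination -hinv⟩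
    have hpairs := card_comm_eq_card_conjClasses_mul_card N
    have e : Nat.card {p : N × N // Commute p.1 p.2} =
        Nat.card {p : (Fˣ × Bool) × (Fˣ × Bool) // Commute (f p.1) (f p.2)} :=
      (Nat.card_congr (Equiv.subtypeEquiv ((Equiv.ofBijective f hf).prodCongr (Equiv.ofBijective f hf)) fun p => Iff.rfl)).symm
    rw [e, Nat.card_eq_fintype_card, Fintype.card_subtype, Finset.card_filter] at hpairs
    have hA : ∑ a : Fˣ, (if a * a = 1 then 1 else 0) = 2 := by
      rw [← hone, Nat.card_eq_fintype_card, Fintype.card_subtype, Finset.card_filter]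
    have hB : ∀ a : Fˣ, ∑ b : Fˣ, (if a * b⁻¹ * (a * b⁻¹) = 1 then 1 else 0) = 2 := fun a => by
      rw [← hA]
      exact Fintype.sum_equiv ((Equiv.inv Fˣ).trans (Equiv.mulLeft a)) _ _ fun b => rfl
    let ind : (Fˣ × Bool) → (Fˣ × Bool) → ℕ := fun p q => match p.2, q.2 with
      | false, false => 1
      | false, true => if p.1 * p.1 = 1 then 1 else 0
      | true, false => if q.1 * q.1 = 1 then 1 else 0
      | true, true => if p.1 * q.1⁻¹ * (p.1 * q.1⁻¹) = 1 then 1 else 0
    rw [Finset.sum_congr rfl (g := fun p : (Fˣ × Bool) × (Fˣ × Bool) => ind p.1 p.2) fun p _ => by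
      obtain ⟨⟨a, x⟩, b, y⟩ := p
      have hc := hcomm (a, x) (b, y)
      cases x <;> cases y <;> first
        | exact if_pos (hc.2 trivial)
        | exact if_congr hc rfl rfl] at hpairs
    simp only [ind, Fintype.sum_prod_type, Fintype.sum_bool, Finset.sum_add_distrib] at hpairs
    rw [Finset.sum_comm (f := fun x x_1 : Fˣ => if x * x = 1 then 1 else 0)] at hpairs
    simp only [hB, hA, Finset.sum_const, Finset.card_univ, smul_eq_mul, mul_one, Fintype.card_units] at hpairs
    rw [hcardN] at hpairs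
    obtain ⟨k, hk⟩ := hodd
    rw [hk] at hpairs ⊢
    have hpos : 0 < k := by
      have := Fintype.one_lt_card (α := F)
      omega
    have hk' : 2 * k + 1 - 1 = 2 * k := by omega
    rw [hk'] at hpairs
    have : Nat.card (ConjClasses N) = k + 3 := Nat.eq_of_mul_eq_mul_right (by omega : 0 < 2 * (2 * k)) (by rw [← hpairs]; ring)
    omega
  · obtain ⟨⟨a, b⟩, rfl⟩ := (hNmem g).1 hg
    cases b
    · exact absurd ((hTmem _).2 ⟨by simp [helf], by simp [helf]⟩) hgT
    · ext i j
      fin_cases i <;> fin_cases j <;> simp [helt, Matrix.mul_apply, Fin.sum_univ_two]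


end Cfsg.Agent.S2428
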