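import Cfsg.Statements.S2429
import Cfsg.Agent.Lib.SL2.Facts
import Cfsg.Agent.Lib.Classical.QuaternionClasses

set_option autoImplicit false
open Cfsg

namespace Cfsg.Agent.S2429

/-- Let F be a finite field with q elements, q odd. Then SL₂ over F contains a cyclic subgroup T′ of order q + 1 (a non-split torus) with the following properties: T′ is its own centraliser, and indeed the centraliser of each element of T′ other than 1 and −1 is exactly T′; every element of SL₂ having no eigenvector in F² is conjugate to an element of T′; the normaliser of T′ has order 2(q + 1) and exactly (q + 7)/2 conjugacy classes; and every element of that normaliser outside T′ has square −1. -/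
theorem result {F : Type*} [Field F] [Fintype F] (hodd : Odd (Fintype.card F)) :
    ∃ T' : Subgroup (Matrix.SpecialLinearGroup (Fin 2) F), IsCyclic T' ∧ Nat.card T' = Fintype.card F + 1 ∧
      Subgroup.centralizer ((T' : Set (Matrix.SpecialLinearGroup (Fin 2) F))) = T' ∧
      (∀ g : Matrix.SpecialLinearGroup (Fin 2) F, g ∈ T' → (g : Matrix (Fin 2) (Fin 2) F) ≠ 1 → (g : Matrix (Fin 2) (Fin 2) F) ≠ -1 → Subgroup.centralizer ({g} : Set (Matrix.SpecialLinearGroup (Fin 2) F)) = T') ∧
      (∀ g : Matrix.SpecialLinearGroup (Fin 2) F, (∀ (c : F) (v : Fin 2 → F), v ≠ 0 → (g : Matrix (Fin 2) (Fin 2) F).mulVec v ≠ c • v) → ∃ h : Matrix.SpecialLinearGroup (Fin 2) F, h * g * h⁻¹ ∈ T') ∧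
      Nat.card (Subgroup.normalizer (T' : Set (Matrix.SpecialLinearGroup (Fin 2) F))) = 2 * (Fintype.card F + 1) ∧
      Nat.card (ConjClasses (Subgroup.normalizer (T' : Set (Matrix.SpecialLinearGroup (Fin 2) F)))) = (Fintype.card F + 7) / 2 ∧
      ∀ g : Matrix.SpecialLinearGroup (Fin 2) F, g ∈ Subgroup.normalizer (T' : Set (Matrix.SpecialLinearGroup (Fin 2) F)) → g ∉ T' → ((g * g) : Matrix (Fin 2) (Fin 2) F) = -1 := by
  classical
  set G := Matrix.SpecialLinearGroup (Fin 2) F
  set q := Fintype.card F with hq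
  have hF : Nat.card F = q := Nat.card_eq_fintype_card
  have h20 : (2 : F) ≠ 0 := CfsgLib.SL2.odd_card_two_ne_zero (by rw [hF]; exact hodd)
  obtain ⟨g₀, hreg, hcyc, hcard⟩ := CfsgLib.SL2.exists_regular_nonsplit (F := F)
  have hc2 : ∀ g : G, g ∈ CfsgLib.SL2.cent g₀ → (g : Matrix (Fin 2) (Fin 2) F) ≠ 1 →
      (g : Matrix (Fin 2) (Fin 2) F) ≠ -1 → CfsgLib.SL2.NonScalar (g : Matrix (Fin 2) (Fin 2) F) := by
    intro g _ h1 h2
    by_contra hn
    exact (CfsgLib.SL2.eq_one_or_neg_one_of_not_nonScalar g hn).elim h1 h2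
  obtain ⟨w, hw⟩ := CfsgLib.SL2.exists_inverting hreg
  refine ⟨CfsgLib.SL2.cent g₀, hcyc, by rw [hcard, hF], ?_, fun g hg h1 h2 => ?_, fun g hg => ?_, ?_, ?_, fun g hg hgn => ?_⟩
  · refine le_antisymm (fun y hy => ?_) (fun y hy => ?_)
    · exact CfsgLib.SL2.mem_cent_iff.mpr (Subgroup.mem_centralizer_iff.mp hy g₀ (CfsgLib.SL2.self_mem_cent g₀))
    · rw [Subgroup.mem_centralizer_iff]
      intro z hz
      exact CfsgLib.SL2.cent_comm hreg.nonScalar hz hy
  · exact CfsgLib.SL2.cent_eq_of_mem hreg.nonScalar (hc2 g hg h1 h2) hg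
  · have hirr : ∀ c : F, c * c - (g : Matrix (Fin 2) (Fin 2) F).trace * c + 1 ≠ 0 := by
      intro c hc
      have hdet : ((g : Matrix (Fin 2) (Fin 2) F) - c • 1).det = 0 := by
        have e := CfsgLib.SL2.det_smul_add_smul_SL g (-c) 1
        rw [neg_smul, one_smul, neg_add_eq_sub] at e
        rw [e]
        linear_combination hc
      obtain ⟨v, hv, hvz⟩ := Matrix.exists_mulVec_eq_zero_iff.mpr hdet
      apply hg c v hv
      rwa [Matrix.sub_mulVec, Matrix.smul_mulVec, Matrix.one_mulVec, sub_eq_zero] at hvz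
    obtain ⟨hgc, hgcard⟩ := CfsgLib.SL2.cent_nonsplit hirr
    have hgreg : CfsgLib.SL2.Regular g := by
      intro h
      refine hirr ((g : Matrix (Fin 2) (Fin 2) F).trace / 2) ?_
      field_simp
      linear_combination -h
    exact CfsgLib.SL2.exists_conj_mem_cent hreg hgreg (by rw [hcard, ← hgcard]; exact CfsgLib.SL2.orderOf_dvd_card_cent g)
  · rw [CfsgLib.SL2.card_normalizer_cent hreg, hcard, hF]
  · obtain ⟨a, ha⟩ := hcyc.exists_ofOrder_eq_natCard
    obtain ⟨n, hn⟩ : ∃ n, q + 1 = 2 * n := by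
      obtain ⟨k, hk⟩ := hodd
      exact ⟨k + 1, by omega⟩
    have : NeZero n := ⟨by omega⟩
    rw [hcard, hF, hn, ← Subgroup.orderOf_coe] at ha
    have hw2 : w * w = -1 := by
      rw [← CfsgLib.SL2.coe_eq_neg_one_iff, Matrix.SpecialLinearGroup.coe_mul]
      exact CfsgLib.SL2.mul_self_of_inverting hreg hw
    have hwN : w ∈ Subgroup.normalizer (CfsgLib.SL2.cent g₀ : Set G) :=
      (CfsgLib.SL2.mem_normalizer_cent_iff hreg).mpr (Or.inr hw)
    have hwnot : w ∉ CfsgLib.SL2.cent g₀ := by
      intro h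
      apply hreg.ne_inv
      rw [← hw, (CfsgLib.SL2.mem_cent_iff.mp h).symm, mul_inv_cancel_right]
    have han : (a : G) ^ n = -1 := by
      refine CfsgLib.SL2.eq_neg_one_of_mul_self h20 ?_ ?_
      · rw [← pow_add, ← two_mul, ← ha, pow_orderOf_eq_one]
      · intro h
        have h' := Nat.le_of_dvd (Nat.pos_of_ne_zero (NeZero.ne n)) (orderOf_dvd_of_pow_eq_one h)
        have := Nat.pos_of_ne_zero (NeZero.ne n)
        omega
    have hq3 : 3 ≤ q := by
      have := Fintype.one_lt_card (α := F)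
      rw [← hq] at this
      obtain ⟨k, hk⟩ := hodd
      omega
    have hans : CfsgLib.SL2.NonScalar ((a : G) : Matrix (Fin 2) (Fin 2) F) := by
      by_contra hn'
      rcases CfsgLib.SL2.eq_one_or_eq_neg_one_of_mem_center _
        ((CfsgLib.SL2.mem_center_iff_not_nonScalar _).mpr hn') with h | h
      · rw [h, orderOf_one] at ha; omega
      · rw [h, CfsgLib.SL2.orderOf_neg_one h20] at ha; omega
    have hareg : CfsgLib.SL2.Regular (a : G) := by
      by_contra hr
      have e := CfsgLib.SL2.card_cent_unipotent hans hr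
      rw [CfsgLib.SL2.cent_eq_of_mem hreg.nonScalar hans a.2, hcard, hF,
        show Nat.gcd 2 (q - 1) = 2 from Nat.gcd_eq_left (by obtain ⟨k, hk⟩ := hodd; omega)] at e
      omega
    have hwa : w * a * w⁻¹ = (a : G)⁻¹ := by
      have hm : w * a * w⁻¹ ∈ CfsgLib.SL2.cent (a : G) := by
        rw [CfsgLib.SL2.cent_eq_of_mem hreg.nonScalar hans a.2]
        exact (Subgroup.mem_normalizer_iff.mp hwN a).mp a.2
      rcases CfsgLib.SL2.eq_or_eq_inv_of_trace hareg hm (CfsgLib.SL2.trace_conj w a) with h | h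
      · exfalso
        apply hwnot
        rw [← CfsgLib.SL2.cent_eq_of_mem hreg.nonScalar hans a.2]
        exact CfsgLib.SL2.mem_cent_iff.mpr (mul_inv_eq_iff_eq_mul.mp h).symm
      · exact h
    obtain ⟨f, hf, hfr⟩ := CfsgLib.Classical.exists_quaternion_hom ha (hw2.trans han.symm) hwa
      (fun h => hwnot (Subgroup.zpowers_le.mpr a.2 h))
    have hrange : f.range = Subgroup.normalizer (CfsgLib.SL2.cent g₀ : Set G) := by
      refine Subgroup.eq_of_le_of_card_ge ?_ ?_
      · rw [hfr, Subgroup.closure_le]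
        rintro z (rfl | rfl)
        · exact Subgroup.le_normalizer a.2
        · exact hwN
      · rw [CfsgLib.SL2.card_normalizer_cent hreg, hcard, hF, ← Nat.card_congr (MonoidHom.ofInjective hf).toEquiv,
          Nat.card_eq_fintype_card, QuaternionGroup.card]
        omega
    let e : QuaternionGroup n ≃* Subgroup.normalizer (CfsgLib.SL2.cent g₀ : Set G) :=
      (MonoidHom.ofInjective hf).trans (MulEquiv.subgroupCongr hrange)
    rw [← Nat.card_eq_of_bijective (ConjClasses.map e.toMonoidHom)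
      ⟨?_, ConjClasses.map_surjective e.surjective⟩, CfsgLib.Classical.card_conjClasses_quaternion]
    · omega
    · intro x y h
      revert h
      refine Quotient.inductionOn₂ x y fun x y h => ?_
      have hh : IsConj (e x) (e y) := ConjClasses.mk_eq_mk_iff_isConj.mp h
      obtain ⟨c, hc⟩ := isConj_iff.mp hh
      exact ConjClasses.mk_eq_mk_iff_isConj.mpr (isConj_iff.mpr ⟨e.symm c, e.injective (by simpa using hc)⟩)
  · refine CfsgLib.SL2.mul_self_of_inverting hreg ?_
    rcases (CfsgLib.SL2.mem_normalizer_cent_iff hreg).mp hg with h | h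
    · exact absurd (CfsgLib.SL2.mem_cent_iff.mpr (mul_inv_eq_iff_eq_mul.mp h).symm) hgn
    · exact h

end Cfsg.Agent.S2429
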