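import Cfsg.Statements.S2430
import Cfsg.Agent.Lib.SL2.Facts

set_option autoImplicit false
open Cfsg

namespace Cfsg.Agent.S2430

/-- Let F be a finite field with q elements, q odd, ℓ an odd prime, and P a Sylow ℓ-subgroup of SL₂ over F. If ℓ divides q − 1, the centraliser of P is cyclic of order q − 1 (a split torus) and the normaliser of P has order 2(q − 1); if ℓ divides q + 1, the centraliser of P is cyclic of order q + 1 (a non-split torus) and the normaliser of P has order 2(q + 1). -/
theorem result {F : Type*} [Field F] [Fintype F] (hodd : Odd (Fintype.card F)) (ℓ : ℕ) [Fact ℓ.Prime] (hℓ : ℓ ≠ 2)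
    (P : Sylow ℓ (Matrix.SpecialLinearGroup (Fin 2) F)) :
    (ℓ ∣ Fintype.card F - 1 →
      Nat.card (Subgroup.centralizer ((P : Subgroup (Matrix.SpecialLinearGroup (Fin 2) F)) : Set (Matrix.SpecialLinearGroup (Fin 2) F))) = Fintype.card F - 1 ∧
      IsCyclic (Subgroup.centralizer ((P : Subgroup (Matrix.SpecialLinearGroup (Fin 2) F)) : Set (Matrix.SpecialLinearGroup (Fin 2) F))) ∧
      Nat.card (Subgroup.normalizer ((P : Subgroup (Matrix.SpecialLinearGroup (Fin 2) F)) : Set (Matrix.SpecialLinearGroup (Fin 2) F))) = 2 * (Fintype.card F - 1)) ∧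
    (ℓ ∣ Fintype.card F + 1 →
      Nat.card (Subgroup.centralizer ((P : Subgroup (Matrix.SpecialLinearGroup (Fin 2) F)) : Set (Matrix.SpecialLinearGroup (Fin 2) F))) = Fintype.card F + 1 ∧
      IsCyclic (Subgroup.centralizer ((P : Subgroup (Matrix.SpecialLinearGroup (Fin 2) F)) : Set (Matrix.SpecialLinearGroup (Fin 2) F))) ∧
      Nat.card (Subgroup.normalizer ((P : Subgroup (Matrix.SpecialLinearGroup (Fin 2) F)) : Set (Matrix.SpecialLinearGroup (Fin 2) F))) = 2 * (Fintype.card F + 1)) := by
  classical
  set G := Matrix.SpecialLinearGroup (Fin 2) F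
  set q := Fintype.card F with hq
  have hF : Nat.card F = q := Nat.card_eq_fintype_card
  have h20 : (2 : F) ≠ 0 := CfsgLib.SL2.odd_card_two_ne_zero (by rw [hF]; exact hodd)
  have hl := (Fact.out : ℓ.Prime)
  have hl3 : 3 ≤ ℓ := by have := hl.two_le; omega
  have main : ∀ N : ℕ, (N = q - 1 ∨ N = q + 1) → ℓ ∣ N →
      Nat.card (Subgroup.centralizer ((P : Subgroup G) : Set G)) = N ∧
      IsCyclic (Subgroup.centralizer ((P : Subgroup G) : Set G)) ∧
      Nat.card (Subgroup.normalizer ((P : Subgroup G) : Set G)) = 2 * N := by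
    intro N hN hdvd
    have hnot : ∀ M : ℕ, (M = q - 1 ∨ M = q + 1) → ℓ ∣ M → M = N := by
      intro M hM hd
      by_contra hne
      have h2 : ℓ ∣ 2 := by
        rcases hN with rfl | rfl <;> rcases hM with rfl | rfl
        · exact absurd rfl hne
        · have := Nat.dvd_sub hd hdvd
          rwa [show q + 1 - (q - 1) = 2 by have := hodd.pos; omega] at this
        · have := Nat.dvd_sub hdvd hd
          rwa [show q + 1 - (q - 1) = 2 by have := hodd.pos; omega] at this
        · exact absurd rfl hne
      have := Nat.le_of_dvd two_pos h2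
      omega
    obtain ⟨k, -, hk⟩ := FiniteField.card F (ringChar F)
    have : Fact (ringChar F).Prime := ⟨CharP.char_is_prime F (ringChar F)⟩
    have hlp : ℓ ≠ ringChar F := by
      intro h
      have h1 : ℓ ∣ q := by rw [h, hq, hk]; exact dvd_pow_self _ k.pos.ne'
      have h2 : ℓ ∣ 1 := by
        rcases hN with rfl | rfl
        · have := Nat.dvd_sub h1 hdvd
          rwa [show q - (q - 1) = 1 by have := hodd.pos; omega] at this
        · have := Nat.dvd_sub hdvd h1
          rwa [show q + 1 - q = 1 by omega] at this
      exact hl.not_dvd_one h2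
    have hdG : ℓ ∣ Nat.card G := by
      rw [CfsgLib.SL2.card_SL_two', hF]
      rcases hN with rfl | rfl
      · exact (Dvd.dvd.mul_right hdvd _).mul_left _
      · exact (Dvd.dvd.mul_left hdvd _).mul_left _
    have : Nontrivial (P : Subgroup G) := by
      rw [← Finite.one_lt_card_iff_nontrivial]
      exact lt_of_lt_of_le hl.one_lt (Nat.le_of_dvd Nat.card_pos (P.dvd_card_of_dvd_card hdG))
    have : Nontrivial (Subgroup.center (P : Subgroup G)) := P.isPGroup'.center_nontrivial
    have hd : ℓ ∣ Nat.card (Subgroup.center (P : Subgroup G)) := by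
      rcases (P.isPGroup'.to_subgroup (Subgroup.center (P : Subgroup G))).card_eq_or_dvd with h | h
      · exact absurd h Finite.one_lt_card.ne'
      · exact h
    obtain ⟨z, hz⟩ := exists_prime_orderOf_dvd_card' ℓ hd
    set x : G := ((z : (P : Subgroup G)) : G) with hxdef
    have hxP : x ∈ (P : Subgroup G) := (z : (P : Subgroup G)).2
    have hx : orderOf x = ℓ := by
      rw [hxdef, Subgroup.orderOf_coe, Subgroup.orderOf_coe, hz]
    have hreg : CfsgLib.SL2.Regular x := by
      by_contra hreg
      have h := orderOf_dvd_of_pow_eq_one (CfsgLib.SL2.pow_two_mul_char_of_not_regular hreg (ringChar F))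
      rw [hx] at h
      rcases (Nat.Prime.dvd_mul hl).mp h with h | h
      · have := Nat.le_of_dvd two_pos h
        omega
      · exact hlp ((Nat.prime_dvd_prime_iff_eq hl Fact.out).mp h)
    obtain ⟨hcyc, hcard⟩ := CfsgLib.SL2.cent_regular hreg
    have hcardN : Nat.card (CfsgLib.SL2.cent x) = N := by
      refine hnot _ ?_ (hx ▸ CfsgLib.SL2.orderOf_dvd_card_cent x)
      rwa [hF] at hcard
    have hle : (P : Subgroup G) ≤ CfsgLib.SL2.cent x := by
      intro y hy
      rw [CfsgLib.SL2.mem_cent_iff]
      exact (congrArg Subtype.val (Subgroup.mem_center_iff.mp z.2 ⟨y, hy⟩)).symm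
    have hC : Subgroup.centralizer ((P : Subgroup G) : Set G) = CfsgLib.SL2.cent x := by
      refine le_antisymm (fun y hy => ?_) (fun y hy => ?_)
      · rw [CfsgLib.SL2.mem_cent_iff]
        exact Subgroup.mem_centralizer_iff.mp hy x hxP
      · rw [Subgroup.mem_centralizer_iff]
        intro w hw
        exact CfsgLib.SL2.cent_comm hreg.nonScalar (hle hw) hy
    have hNorm : Subgroup.normalizer ((P : Subgroup G) : Set G) =
        Subgroup.normalizer (CfsgLib.SL2.cent x : Set G) := by
      ext h
      rw [CfsgLib.SL2.mem_normalizer_cent_iff hreg]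
      constructor
      · intro hh
        exact CfsgLib.SL2.eq_or_eq_inv_of_trace hreg
          (hle ((Subgroup.mem_normalizer_iff.mp hh x).mp hxP)) (CfsgLib.SL2.trace_conj h x)
      · intro hh
        have hhN := (CfsgLib.SL2.mem_normalizer_cent_iff hreg).mpr hh
        rw [Subgroup.mem_normalizer_iff_map_conj_eq]
        -- the unique subgroup of its order in a cyclic group
        have hmle : (P : Subgroup G).map (MulAut.conj h).toMonoidHom ≤ CfsgLib.SL2.cent x := by
          rintro _ ⟨y, hy, rfl⟩
          exact (Subgroup.mem_normalizer_iff.mp hhN y).mp (hle hy)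
        have hcardeq : Nat.card ((P : Subgroup G).map (MulAut.conj h).toMonoidHom) = Nat.card (P : Subgroup G) :=
          (Nat.card_congr ((P : Subgroup G).equivMapOfInjective _ (MulAut.conj h).injective).toEquiv).symm
        have key : ((P : Subgroup G).map (MulAut.conj h).toMonoidHom).subgroupOf (CfsgLib.SL2.cent x) =
            (P : Subgroup G).subgroupOf (CfsgLib.SL2.cent x) := by
          have := Fintype.ofFinite (CfsgLib.SL2.cent x)
          set d := Nat.card (P : Subgroup G) with hd'
          have hall : ∀ H : Subgroup (CfsgLib.SL2.cent x), Nat.card H = d →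
              (H : Set (CfsgLib.SL2.cent x)).toFinset = Finset.univ.filter (fun y => y ^ d = 1) := by
            intro H hH
            apply Finset.eq_of_subset_of_card_le
            · intro y hy
              rw [Set.mem_toFinset] at hy
              rw [Finset.mem_filter]
              refine ⟨Finset.mem_univ _, ?_⟩
              rw [← hH]
              exact congrArg Subtype.val (pow_card_eq_one' (x := (⟨y, hy⟩ : H)))
            · rw [Set.toFinset_card, ← Nat.card_eq_fintype_card]
              refine (IsCyclic.card_pow_eq_one_le (α := CfsgLib.SL2.cent x) Nat.card_pos).trans ?_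
              exact hH.ge
          apply SetLike.coe_injective
          apply Set.toFinset_inj.mp
          rw [hall _ (by rw [Nat.card_congr (Subgroup.subgroupOfEquivOfLe hmle).toEquiv, hcardeq]),
            hall _ (Nat.card_congr (Subgroup.subgroupOfEquivOfLe hle).toEquiv)]
        have key' := Subgroup.subgroupOf_inj.mp key
        rwa [inf_eq_left.mpr hmle, inf_eq_left.mpr hle] at key'
    rw [hC, hNorm, CfsgLib.SL2.card_normalizer_cent hreg, hcardN]
    exact ⟨rfl, hcyc, rfl⟩
  exact ⟨main _ (Or.inl rfl), main _ (Or.inr rfl)⟩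

end Cfsg.Agent.S2430
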