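import Cfsg.Statements.S2434
import Cfsg.Agent.Lib.RankOne.SLTorusChar

-- import your own Cfsg.Agent.* helpers here

set_option autoImplicit false
open Cfsg

namespace Cfsg.Agent.S2434

/-- Let F be a finite field with q elements, q odd, and C a cyclic subgroup of order q + 1 of SL₂ over F (a non-split torus; it contains the centre). For every homomorphism θ from C to the non-zero complex numbers with θ² ≠ 1 there is an irreducible complex character χ of degree q − 1 such that χ(c) = −θ(c) − θ(c)⁻¹ for every non-central c in C, χ(zg) = θ(z)χ(g) for central z in C, χ vanishes at diagonal elements with entry a, a² ≠ 1, and χ takes the value −1 at every upper unitriangular element other than 1. Conversely every irreducible character of degree q − 1 has, for some such θ, the values −θ(c) − θ(c)⁻¹ at the non-central elements c of C (for q ≥ 5 these are exactly the cuspidal characters of degree q − 1). -/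
theorem result {F : Type*} [Field F] [Fintype F] (hodd : Odd (Fintype.card F))
    (C : Subgroup (Matrix.SpecialLinearGroup (Fin 2) F)) (hC : IsCyclic C) (hcard : Nat.card C = Fintype.card F + 1) :
    (∀ θ : C →* ℂˣ, (∃ c : C, θ c ^ 2 ≠ 1) →
      ∃ χ : Matrix.SpecialLinearGroup (Fin 2) F → ℂ, Cfsg.IsIrrCharacter (Matrix.SpecialLinearGroup (Fin 2) F) χ ∧ χ 1 = (Fintype.card F : ℂ) - 1 ∧
        (∀ c : C, (c : Matrix.SpecialLinearGroup (Fin 2) F) ∉ Subgroup.center (Matrix.SpecialLinearGroup (Fin 2) F) → χ c = -((θ c).val + (θ c)⁻¹.val)) ∧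
        (∀ c : C, (c : Matrix.SpecialLinearGroup (Fin 2) F) ∈ Subgroup.center (Matrix.SpecialLinearGroup (Fin 2) F) → ∀ g : Matrix.SpecialLinearGroup (Fin 2) F, χ ((c : Matrix.SpecialLinearGroup (Fin 2) F) * g) = (θ c).val * χ g) ∧
        (∀ g : Matrix.SpecialLinearGroup (Fin 2) F, (g : Matrix (Fin 2) (Fin 2) F) 0 1 = 0 → (g : Matrix (Fin 2) (Fin 2) F) 1 0 = 0 → (g : Matrix (Fin 2) (Fin 2) F) 0 0 ^ 2 ≠ 1 → χ g = 0) ∧
        (∀ g : Matrix.SpecialLinearGroup (Fin 2) F, (g : Matrix (Fin 2) (Fin 2) F) 1 0 = 0 → (g : Matrix (Fin 2) (Fin 2) F) 0 0 = 1 → (g : Matrix (Fin 2) (Fin 2) F) 1 1 = 1 → (g : Matrix (Fin 2) (Fin 2) F) 0 1 ≠ 0 → χ g = -1)) ∧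
    (∀ χ : Matrix.SpecialLinearGroup (Fin 2) F → ℂ, Cfsg.IsIrrCharacter (Matrix.SpecialLinearGroup (Fin 2) F) χ → χ 1 = (Fintype.card F : ℂ) - 1 →
      ∃ θ : C →* ℂˣ, (∃ c : C, θ c ^ 2 ≠ 1) ∧
        ∀ c : C, (c : Matrix.SpecialLinearGroup (Fin 2) F) ∉ Subgroup.center (Matrix.SpecialLinearGroup (Fin 2) F) → χ c = -((θ c).val + (θ c)⁻¹.val)) := by
  classical
  haveI := Fintype.ofFinite C
  have h2 := CfsgLib.RankOne.SLTwo.ringChar_of_odd hodd
  have hT : CfsgLib.RankOne.SLTwo.Torus C := ⟨h2, hC, hcard⟩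
  refine ⟨fun θ hθ => ?_, fun χ hχ hd => ?_⟩
  · obtain ⟨χ, hχ, hc, hd, hv, hz⟩ := hT.exists_cusp θ hθ
    have hcl := CfsgLib.Char.isClassFunction_of_isCharacter (CfsgLib.Char.isCharacter_of_isIrr hχ)
    refine ⟨χ, hχ, hd, fun c hc' => hv c hc', fun c hc' g => ?_, fun g h01 h10 h00 => ?_, fun g h10 h00 h11 h01 => ?_⟩
    · rcases (CfsgLib.RankOne.SLTwo.mem_center_iff' _).1 hc' with h | h
      · rw [h, one_mul, show c = 1 from Subtype.ext h, map_one, Units.val_one, one_mul]
      · exact hz c h g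
    · obtain ⟨a, b, rfl⟩ := CfsgLib.RankOne.SLTwo.exists_tri h10
      have hb : b = 0 := by simpa [CfsgLib.RankOne.SLTwo.tri_coe] using h01
      subst hb
      exact hc.split hcl a (by simpa [CfsgLib.RankOne.SLTwo.tri_coe] using h00)
    · have hg : g = CfsgLib.RankOne.SLTwo.uSL ((g : Matrix (Fin 2) (Fin 2) F) 0 1) :=
        CfsgLib.RankOne.SLTwo.eq_uSL (by ext i j; fin_cases i <;> fin_cases j <;> simp [h10, h00, h11])
      rw [hg]
      rcases hc.shape hχ with ⟨-, hall⟩ | ⟨-, e, -⟩
      · rw [CfsgLib.RankOne.ures_expand CfsgLib.RankOne.SLTwo.uSL χ,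
          ← Finset.add_sum_erase _ _ (Finset.mem_univ (0 : F)), hc.ures_zero' hχ, zero_mul, zero_add,
          Finset.sum_congr rfl (g := fun a => CfsgLib.RankOne.psi F ((g : Matrix (Fin 2) (Fin 2) F) 0 1 * a)) fun a ha => by
            rw [hall a (Finset.ne_of_mem_erase ha), one_mul, mul_comm],
          Finset.sum_erase_eq_sub (Finset.mem_univ _), CfsgLib.RankOne.psi_sum, if_neg h01,
          mul_zero, AddChar.map_zero_eq_one, zero_sub]
      · exact absurd (show (Fintype.card F : ℂ) - 1 = 0 by rw [hd] at e; linear_combination 2 * e)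
          CfsgLib.RankOne.GLTwo.card_sub_one_ne
  · rcases CfsgLib.RankOne.SLTwo.trichotomy hχ with h | h | ⟨α, -, h⟩ | h | h
    · rw [h] at hd
      have h3 : (Fintype.card F : ℂ) = 2 := by simp [CfsgLib.RankOne.SLTwo.triv] at hd; linear_combination -hd
      have h3' : Fintype.card F = 2 := by exact_mod_cast h3
      rw [h3'] at hodd
      exact absurd hodd (by decide)
    · rw [h, CfsgLib.RankOne.SLTwo.stb_one] at hd
      exact absurd (show (1 : ℂ) = 0 by linear_combination hd) one_ne_zero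
    · rw [h, CfsgLib.RankOne.SLTwo.ps_one] at hd
      exact absurd (show (2 : ℂ) = 0 by linear_combination hd) two_ne_zero
    · obtain ⟨h1, -, h3⟩ := h.facts hχ
      have hq3 : Fintype.card F = 3 := by
        have : (Fintype.card F : ℂ) = 3 := by rw [h1] at hd; linear_combination -2 * hd
        exact_mod_cast this
      obtain ⟨c₀, hgen, hc₀z, ho⟩ := hT.exists_noncentral
      obtain ⟨ν, hν0, hν, -⟩ := CfsgLib.SL2.exists_nonsquare_dichotomy (F := F) h2
      have hord : orderOf c₀ ∣ 4 := by rw [ho, hq3]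
      have hgi : (Units.mk0 Complex.I Complex.I_ne_zero) ^ (orderOf c₀) = 1 := by
        rw [ho, hq3]
        apply Units.ext
        simp [Units.val_pow_eq_pow_val]
      refine ⟨monoidHomOfForallMemZpowers hgen (g' := Units.mk0 Complex.I Complex.I_ne_zero) (orderOf_dvd_of_pow_eq_one hgi), ⟨c₀, ?_⟩, fun c hc => ?_⟩
      · intro e
        rw [monoidHomOfForallMemZpowers_apply_gen] at e
        have := congrArg Units.val e
        simp [Units.val_pow_eq_pow_val] at this
        norm_num at this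
      · obtain ⟨han, -⟩ := hT.aniso c.2 hc
        obtain ⟨η, hη2, hη1, -⟩ := h
        have hs := (h3 (Units.mk0 ν hν0) hν).2 η hη2 hη1 c
        rw [CfsgLib.RankOne.SLTwo.ps_anisotropic η _ han] at hs
        have htr : ((CfsgLib.RankOne.SLTwo.twist (Units.mk0 ν hν0) (c : Matrix.SpecialLinearGroup (Fin 2) F) : Matrix.SpecialLinearGroup (Fin 2) F) : Matrix (Fin 2) (Fin 2) F).trace = ((c : Matrix.SpecialLinearGroup (Fin 2) F) : Matrix (Fin 2) (Fin 2) F).trace := by
          rw [CfsgLib.RankOne.SLTwo.twist_coe]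
          simp [Matrix.trace_fin_two]
        have hreg := han.regular h2
        obtain ⟨k, hk⟩ := CfsgLib.SL2.isConj_of_trace
          (CfsgLib.SL2.nonScalar_of_trace _ (by rw [htr]; exact hreg)) hreg.nonScalar htr (Or.inl (by rw [htr]; exact hreg))
        have hcl := CfsgLib.Char.isClassFunction_of_isCharacter (CfsgLib.Char.isCharacter_of_isIrr hχ)
        have heq : χ (CfsgLib.RankOne.SLTwo.twist (Units.mk0 ν hν0) (c : Matrix.SpecialLinearGroup (Fin 2) F)) = χ c := by
          conv_rhs => rw [← hk, hcl]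
        rw [heq] at hs
        have hχc : χ c = 0 := by linear_combination hs / 2
        rw [hχc]
        obtain ⟨n, rfl⟩ := hgen c
        rw [map_zpow, monoidHomOfForallMemZpowers_apply_gen]
        rcases Int.even_or_odd' n with ⟨m, rfl | rfl⟩
        · exfalso
          apply hc
          have h4 : c₀ ^ 2 * c₀ ^ 2 = 1 := by
            rw [← pow_add, show 2 + 2 = Fintype.card F + 1 by omega, ← ho, pow_orderOf_eq_one]
          show ((c₀ ^ (2 * m) : C) : Matrix.SpecialLinearGroup (Fin 2) F) ∈ _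
          rw [zpow_mul, zpow_two, SubgroupClass.coe_zpow]
          refine Subgroup.zpow_mem _ ?_ m
          rw [← sq]
          refine (CfsgLib.RankOne.SLTwo.mem_center_iff' _).2 (Or.inr ?_)
          refine CfsgLib.SL2.eq_neg_one_of_mul_self (Ring.two_ne_zero h2) (congrArg Subtype.val h4 :) ?_
          intro e
          have := orderOf_dvd_of_pow_eq_one (show c₀ ^ 2 = 1 from Subtype.ext e)
          rw [ho, hq3] at this
          norm_num at this
        · rw [Units.val_inv_eq_inv_val, Units.val_zpow_eq_zpow_val, Units.val_mk0, zpow_add₀ Complex.I_ne_zero,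
            zpow_mul, zpow_two, Complex.I_mul_I, zpow_one]
          rcases Int.even_or_odd m with h | h
          · rw [h.neg_one_zpow]; simp
          · rw [h.neg_one_zpow]; simp
    · obtain ⟨θ, hθ, hv, -⟩ := h.torus_full hT hχ hd
      exact ⟨θ, hθ, hv⟩

end Cfsg.Agent.S2434
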