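import Cfsg.Statements.S2435
import Cfsg.Agent.Lib.RankOne.SLTorusChar

-- import your own Cfsg.Agent.* helpers here

set_option autoImplicit false
open Cfsg

namespace Cfsg.Agent.S2435

/-- Let F be a finite field with q elements, q odd and q ≥ 5, and χ an irreducible complex character of SL₂ over F. If χ has degree (q + 1)/2, then at a diagonal element with entry a, a² ≠ 1, χ takes the value 1 when a is a square in F and −1 otherwise. If χ has degree (q − 1)/2, then at an element g with no eigenvector in F² (so g has order dividing q + 1), χ takes the value −1 when g raised to the power (q + 1)/2 is the identity and the value 1 otherwise. -/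
theorem result {F : Type*} [Field F] [Fintype F] (hodd : Odd (Fintype.card F)) (hq : 5 ≤ Fintype.card F)
    (χ : Matrix.SpecialLinearGroup (Fin 2) F → ℂ) (hχ : Cfsg.IsIrrCharacter (Matrix.SpecialLinearGroup (Fin 2) F) χ) (g : Matrix.SpecialLinearGroup (Fin 2) F) :
    (χ 1 = (((Fintype.card F + 1) / 2 : ℕ) : ℂ) → (g : Matrix (Fin 2) (Fin 2) F) 0 1 = 0 → (g : Matrix (Fin 2) (Fin 2) F) 1 0 = 0 → (g : Matrix (Fin 2) (Fin 2) F) 0 0 ^ 2 ≠ 1 →
      (IsSquare ((g : Matrix (Fin 2) (Fin 2) F) 0 0) → χ g = 1) ∧ (¬ IsSquare ((g : Matrix (Fin 2) (Fin 2) F) 0 0) → χ g = -1)) ∧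
    (χ 1 = (((Fintype.card F - 1) / 2 : ℕ) : ℂ) → (∀ (c : F) (v : Fin 2 → F), v ≠ 0 → (g : Matrix (Fin 2) (Fin 2) F).mulVec v ≠ c • v) →
      (((g ^ ((Fintype.card F + 1) / 2)) : Matrix (Fin 2) (Fin 2) F) = 1 → χ g = -1) ∧ (((g ^ ((Fintype.card F + 1) / 2)) : Matrix (Fin 2) (Fin 2) F) ≠ 1 → χ g = 1)) := by
  classical
  have h2 := CfsgLib.RankOne.SLTwo.ringChar_of_odd hodd
  obtain ⟨hp, hm⟩ := CfsgLib.RankOne.SLTwo.half_cast (F := F) hodd
  have hcl := CfsgLib.Char.isClassFunction_of_isCharacter (CfsgLib.Char.isCharacter_of_isIrr hχ)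
  refine ⟨fun h h01 h10 h00 => ?_, fun h hg => ?_⟩
  · rw [hp] at h
    have hh := CfsgLib.RankOne.SLTwo.kind_of_degree_half (by omega) hχ h
    obtain ⟨-, -, h3⟩ := hh.facts hχ
    obtain ⟨η, hη2, hη1, -⟩ := hh
    obtain ⟨ν, hν0, hν, -⟩ := CfsgLib.SL2.exists_nonsquare_dichotomy (F := F) h2
    obtain ⟨a, b, rfl⟩ := CfsgLib.RankOne.SLTwo.exists_tri h10
    have hb : b = 0 := by simpa [CfsgLib.RankOne.SLTwo.tri_coe] using h01
    subst hb
    have ha : (a : F) ^ 2 ≠ 1 := by simpa [CfsgLib.RankOne.SLTwo.tri_coe] using h00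
    have hs := (h3 (Units.mk0 ν hν0) hν).2 η hη2 hη1 (CfsgLib.RankOne.SLTwo.tri a 0)
    have htw : CfsgLib.RankOne.SLTwo.twist (Units.mk0 ν hν0) (CfsgLib.RankOne.SLTwo.tri a 0) = CfsgLib.RankOne.SLTwo.tri a 0 := by
      refine Subtype.ext ?_
      rw [CfsgLib.RankOne.SLTwo.twist_coe]
      simp [CfsgLib.RankOne.SLTwo.tri_coe]
    have hinv : η ((a⁻¹ : Fˣ) : F) = η (a : F) := by
      rw [Units.val_inv_eq_inv_val, ← MulChar.inv_apply', inv_eq_of_mul_eq_one_right (by rw [← sq]; exact hη2)]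
    rw [htw, CfsgLib.RankOne.SLTwo.ps_split η a ha, hinv] at hs
    have hval : χ (CfsgLib.RankOne.SLTwo.tri a 0) = η (a : F) := by linear_combination hs / 2
    have hη : η = CfsgLib.RankOne.SLTwo.qc F := CfsgLib.RankOne.SLTwo.quad_unique hη2 hη1
      (((quadraticChar_isQuadratic F).comp _).sq_eq_one) (CfsgLib.RankOne.SLTwo.qc_ne_one h2)
    rw [hval, hη, CfsgLib.RankOne.SLTwo.qc_apply a.ne_zero]
    have e00 : ((CfsgLib.RankOne.SLTwo.tri a 0 : Matrix.SpecialLinearGroup (Fin 2) F) : Matrix (Fin 2) (Fin 2) F) 0 0 = (a : F) := by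
      simp [CfsgLib.RankOne.SLTwo.tri_coe]
    rw [e00]
    exact ⟨fun hsq => by rw [if_pos hsq], fun hsq => by rw [if_neg hsq]⟩
  · rw [hm] at h
    have hh := CfsgLib.RankOne.SLTwo.kind_of_degree_half_pred (by omega) hχ h
    obtain ⟨c₁, -, hcyc, hcard⟩ := CfsgLib.SL2.exists_regular_nonsplit (F := F)
    rw [Nat.card_eq_fintype_card (α := F)] at hcard
    have hT : CfsgLib.RankOne.SLTwo.Torus (CfsgLib.SL2.cent c₁) := ⟨h2, hcyc, hcard⟩
    haveI := Fintype.ofFinite (CfsgLib.SL2.cent c₁)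
    obtain ⟨θ, hθ1, hθ2, hv⟩ := hh.torus_half hT hχ h
    obtain ⟨x, hx, hxz⟩ := hT.exists_conj (g := g) hg
    have hval : χ g = -(θ ⟨_, hx⟩ : ℂ) := by rw [← hcl g x]; exact hv ⟨_, hx⟩ hxz
    obtain ⟨c, hgen, -, ho⟩ := hT.exists_noncentral
    have hqc := hT.quad_apply hθ2 hθ1 hgen
    obtain ⟨n, hn⟩ := hgen ⟨_, hx⟩
    obtain ⟨m, hm'⟩ : ∃ m, Fintype.card F + 1 = 2 * m := by
      obtain ⟨k, hk⟩ := hodd
      exact ⟨k + 1, by omega⟩
    have hiff : g ^ ((Fintype.card F + 1) / 2) = 1 ↔ Even n := by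
      have hd : (Fintype.card F + 1) / 2 = m := by omega
      rw [hd]
      have hconj : g ^ m = 1 ↔ (x * g * x⁻¹) ^ m = 1 := by
        rw [conj_pow, mul_inv_eq_one, mul_eq_left]
      rw [hconj, show x * g * x⁻¹ = ((c ^ n : CfsgLib.SL2.cent c₁) : Matrix.SpecialLinearGroup (Fin 2) F) from congrArg Subtype.val hn.symm]
      rw [← SubmonoidClass.coe_pow, OneMemClass.coe_eq_one, ← zpow_natCast, ← zpow_mul, ← orderOf_dvd_iff_zpow_eq_one, ho, hm', even_iff_two_dvd]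
      push_cast
      exact mul_dvd_mul_iff_right (Int.natCast_ne_zero.2 (by omega))
    have hθn : (θ ⟨_, hx⟩ : ℂ) = (-1) ^ n := by
      rw [← hn, map_zpow, Units.val_zpow_eq_zpow_val, hqc]
    have hcoe : ((g ^ ((Fintype.card F + 1) / 2)) : Matrix (Fin 2) (Fin 2) F) = ((g ^ ((Fintype.card F + 1) / 2) : Matrix.SpecialLinearGroup (Fin 2) F) : Matrix (Fin 2) (Fin 2) F) := by
      simp
    constructor
    · intro h1
      have : g ^ ((Fintype.card F + 1) / 2) = 1 := (CfsgLib.SL2.coe_eq_one_iff _).1 (by rw [← hcoe]; exact h1)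
      rw [hval, hθn, (hiff.1 this).neg_one_zpow]
    · intro h1
      have : ¬ g ^ ((Fintype.card F + 1) / 2) = 1 := fun e => h1 (by rw [hcoe, e]; rfl)
      rw [hval, hθn, (Int.not_even_iff_odd.1 (mt hiff.2 this)).neg_one_zpow, neg_neg]

end Cfsg.Agent.S2435
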