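import Cfsg.Statements.S2436
import Cfsg.Agent.Lib.McKaySL2.Group
import Cfsg.Agent.Lib.McKaySL2.Borel
import Cfsg.Agent.Lib.McKaySL2.Torus
import Cfsg.Agent.Lib.McKaySL2.Two

set_option autoImplicit false
open Cfsg

namespace Cfsg.Agent.S2436

/-- Let F be a finite field with q elements, q odd, ℓ any prime and S a Sylow ℓ-subgroup of SL₂ over F with normaliser N. Then SL₂ and N have the same number of irreducible complex characters of degree not divisible by ℓ (the McKay equality holds for SL₂ over F at every prime). -/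
theorem result {F : Type*} [Field F] [Fintype F] (hodd : Odd (Fintype.card F)) (ℓ : ℕ) [Fact ℓ.Prime] (S : Sylow ℓ (Matrix.SpecialLinearGroup (Fin 2) F)) :
    Nat.card {χ : Cfsg.IrrCharacter (Matrix.SpecialLinearGroup (Fin 2) F) // ¬ ℓ ∣ Cfsg.charDegree (χ : Matrix.SpecialLinearGroup (Fin 2) F → ℂ)} =
      Nat.card {ψ : Cfsg.IrrCharacter (Subgroup.normalizer ((S : Subgroup (Matrix.SpecialLinearGroup (Fin 2) F)) : Set (Matrix.SpecialLinearGroup (Fin 2) F))) //
        ¬ ℓ ∣ Cfsg.charDegree (ψ : Subgroup.normalizer ((S : Subgroup (Matrix.SpecialLinearGroup (Fin 2) F)) : Set (Matrix.SpecialLinearGroup (Fin 2) F)) → ℂ)} := by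
  classical
  change CfsgLib.McKaySL2.pCount ℓ (Matrix.SpecialLinearGroup (Fin 2) F) =
    CfsgLib.McKaySL2.pCount ℓ (Subgroup.normalizer ((S : Subgroup (Matrix.SpecialLinearGroup (Fin 2) F)) : Set (Matrix.SpecialLinearGroup (Fin 2) F)))
  obtain ⟨p, hp⟩ := CharP.exists F
  haveI := hp
  obtain ⟨n, hpp, hn⟩ := FiniteField.card F p
  haveI : Fact p.Prime := ⟨hpp⟩
  have hp2 : p ≠ 2 := fun h => by
    rw [hn, h] at hodd
    exact Nat.not_odd_iff_even.2 (Nat.even_pow.2 ⟨even_two, n.pos.ne'⟩) hodd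
  have h2c : ringChar F ≠ 2 := by rw [ringChar.eq F p]; exact hp2
  have hq3 : 3 ≤ Fintype.card F := by
    have := (Fintype.one_lt_card : 1 < Fintype.card F)
    obtain ⟨k, hk⟩ := hodd
    omega
  by_cases hl : ℓ = p
  · subst hl
    rw [CfsgLib.McKaySL2.pCount_sylow_char ℓ h2c S]
    rcases eq_or_lt_of_le hq3 with h | h
    · have h3 : ℓ = 3 := by
        have hd : ℓ ∣ 3 := by rw [h, hn]; exact dvd_pow_self ℓ n.pos.ne'
        exact (Nat.prime_dvd_prime_iff_eq hpp Nat.prime_three).1 hd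
      subst h3
      rw [(CfsgLib.McKaySL2.pCount_three h.symm h2c).2, ← h]
    · exact CfsgLib.McKaySL2.pCount_char ℓ h h2c
  by_cases hl2 : ℓ = 2
  · subst hl2
    rw [CfsgLib.McKaySL2.pCount_two_sylow (by rwa [Nat.card_eq_fintype_card]) S]
    rcases eq_or_lt_of_le hq3 with h | h
    · exact (CfsgLib.McKaySL2.pCount_three h.symm h2c).1
    · exact CfsgLib.McKaySL2.pCount_two_group h h2c
  by_cases hd : ℓ ∣ Nat.card (Matrix.SpecialLinearGroup (Fin 2) F)
  · obtain ⟨c, hc, hlc, h2d, h⟩ := CfsgLib.McKaySL2.pCount_sylow_torus p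
      (Ring.two_ne_zero h2c) hl2 hl S hd
    rw [h]
    rw [Nat.card_eq_fintype_card] at hc
    refine CfsgLib.McKaySL2.pCount_torus hl2 h2c hc hlc ?_
    by_contra h4
    have hq : Fintype.card F = 3 := by omega
    have := (Fact.out : ℓ.Prime).two_le
    rw [hq] at hc
    rcases hc with rfl | rfl
    · have := Nat.le_of_dvd (by norm_num) hlc; omega
    · have := Nat.le_of_dvd (by norm_num) hlc
      interval_cases ℓ <;> first | omega | exact absurd (Fact.out : Nat.Prime 4) (by decide)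
  · have hbot : (S : Subgroup (Matrix.SpecialLinearGroup (Fin 2) F)) = ⊥ := by
      rw [← Subgroup.card_eq_one, Sylow.card_eq_multiplicity,
        Nat.factorization_eq_zero_of_not_dvd hd, pow_zero]
    have hN : Subgroup.normalizer ((S : Subgroup (Matrix.SpecialLinearGroup (Fin 2) F)) : Set (Matrix.SpecialLinearGroup (Fin 2) F)) = ⊤ := by
      rw [hbot, Subgroup.normalizer_eq_top]
    exact (CfsgLib.McKaySL2.pCount_congr ((MulEquiv.subgroupCongr hN).trans Subgroup.topEquiv) ℓ).symm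

end Cfsg.Agent.S2436
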