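import Cfsg.Statements.S2437
import Cfsg.Agent.Lib.RankOne.SLTwo
-- import your own Cfsg.Agent.* helpers here

set_option autoImplicit false
open Cfsg

namespace Cfsg.Agent.S2437

/-- Over a finite field F with q elements, q odd, the upper triangular subgroup of SL₂ (a Borel subgroup, of order q(q − 1)) has exactly q + 3 conjugacy classes. -/
theorem result {F : Type*} [Field F] [Fintype F] (hodd : Odd (Fintype.card F)) :
    Nat.card (ConjClasses ((Cfsg.upperTriangularGL 2 F).comap Matrix.SpecialLinearGroup.toGL)) = Fintype.card F + 3 := by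
  classical
  open CfsgLib.RankOne.SLTwo in
  have h2c : ringChar F ≠ 2 := fun e => by
    have := FiniteField.even_card_of_char_two e
    obtain ⟨k, hk⟩ := hodd
    omega
  open CfsgLib.RankOne.SLTwo in
  have h2 : (2 : F) ≠ 0 := Ring.two_ne_zero h2c
  obtain ⟨ν, hν0, hν, hd⟩ := CfsgLib.SL2.exists_nonsquare_dichotomy (F := F) h2c
  open CfsgLib.RankOne.SLTwo in
  let el : Fˣ → F → Bor F := fun a b => ⟨tri a b, tri_mem a b⟩
  open CfsgLib.RankOne.SLTwo in
  have hel : ∀ g : Bor F, ∃ a b, g = el a b := fun g => by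
    obtain ⟨a, b, e⟩ := exists_tri (mem_bor.1 g.2)
    exact ⟨a, b, Subtype.ext e⟩
  open CfsgLib.RankOne.SLTwo in
  have hconj : ∀ (s : Fˣ) (c : F) (a : Fˣ) (b : F), el s c * el a b * (el s c)⁻¹ =
      el a ((s : F) * (s : F) * b + (s : F) * c * (((a⁻¹ : Fˣ) : F) - a)) := by
    intro s c a b
    rw [mul_inv_eq_iff_eq_mul]
    refine Subtype.ext (Subtype.ext ?_)
    simp only [el, Subgroup.coe_mul, Matrix.SpecialLinearGroup.coe_mul, tri_coe, Matrix.mul_fin_two]
    ext i j
    fin_cases i <;> fin_cases j <;> simp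
    · ring
    · field_simp; ring
    · ring
  open CfsgLib.RankOne.SLTwo in
  have heq : ∀ a b a' b', el a b = el a' b' → a = a' ∧ b = b' := by
    intro a b a' b' e
    have e' := congrArg (fun g : Bor F => ((g : Matrix.SpecialLinearGroup (Fin 2) F) : Matrix (Fin 2) (Fin 2) F)) e
    have h1 := congrFun (congrFun e' 0) 0
    have h2 := congrFun (congrFun e' 0) 1
    simp [el, tri_coe] at h1 h2
    exact ⟨Units.ext h1, h2⟩
  open CfsgLib.RankOne.SLTwo in
  have hiff : ∀ a b a' b', IsConj (el a b) (el a' b') ↔ a = a' ∧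
      ∃ (s : Fˣ) (c : F), (s : F) * (s : F) * b + (s : F) * c * (((a⁻¹ : Fˣ) : F) - a) = b' := by
    intro a b a' b'
    rw [isConj_iff]
    constructor
    · rintro ⟨g, hg⟩
      obtain ⟨s, c, rfl⟩ := hel g
      rw [hconj] at hg
      exact ⟨(heq _ _ _ _ hg).1, s, c, (heq _ _ _ _ hg).2⟩
    · rintro ⟨rfl, s, c, e⟩
      exact ⟨el s c, by rw [hconj, e]⟩
  open CfsgLib.RankOne.SLTwo in
  let kd : Fin 3 → F := ![0, 1, ν]
  let sg : Bool → Fˣ := fun s => if s then 1 else -1
  let f : {a : Fˣ // (a : F) * a ≠ 1} ⊕ Bool × Fin 3 → ConjClasses (CfsgLib.RankOne.SLTwo.Bor F) := fun p =>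
    match p with
    | .inl a => ConjClasses.mk (el a.1 0)
    | .inr p => ConjClasses.mk (el (sg p.1) (kd p.2))
  have hsg : ∀ s, (sg s : F) * sg s = 1 := fun s => by cases s <;> simp [sg]
  have hd0 : ∀ s, (((sg s)⁻¹ : Fˣ) : F) - sg s = 0 := fun s => by cases s <;> simp [sg]
  have hinj : Function.Injective f := by
    rintro (a | ⟨s, k⟩) (a' | ⟨s', k'⟩) e <;> simp only [f] at e <;>
      obtain ⟨h, x, c, hx⟩ := (hiff _ _ _ _).1 (ConjClasses.mk_eq_mk_iff_isConj.1 e)
    · rw [Subtype.ext h]
    · exact absurd (h ▸ hsg s' : (a.1 : F) * a.1 = 1) a.2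
    · exact absurd (h ▸ hsg s : (a'.1 : F) * a'.1 = 1) a'.2
    · have hs : s = s' := by
        have h2' : (-1 : Fˣ) ≠ 1 := fun e => h2 (by
          have := congrArg Units.val e
          simp at this
          linear_combination -this)
        cases s <;> cases s' <;> first | rfl | exact absurd h h2' | exact absurd h.symm h2'
      subst hs
      rw [hd0, mul_zero, add_zero] at hx
      have hk : k = k' := by
        fin_cases k <;> fin_cases k' <;> simp [kd] at hx ⊢
        · exact hν0 hx.symm
        · exact hν ⟨x, hx.symm⟩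
        · exact hν0 hx
        · refine hν ⟨((x⁻¹ : Fˣ) : F), ?_⟩
          have := x.ne_zero
          simp
          field_simp
          linear_combination hx
      rw [hk]
  have hsurj : Function.Surjective f := by
    intro C
    induction C using ConjClasses.mk_surjective.forall.2 with
    | _ g =>
      obtain ⟨a, b, rfl⟩ := hel g
      by_cases ha : (a : F) * a = 1
      · obtain ⟨s, rfl⟩ : ∃ s, sg s = a := by
          rcases mul_self_eq_one_iff.1 ha with h | h
          · exact ⟨true, Units.ext (by simpa [sg] using h.symm)⟩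
          · exact ⟨false, Units.ext (by simpa [sg] using h.symm)⟩
        by_cases hb : b = 0
        · subst hb; exact ⟨.inr (s, 0), rfl⟩
        rcases hd b hb with ⟨r, hr⟩ | ⟨r, hr⟩
        · refine ⟨.inr (s, 1), ConjClasses.mk_eq_mk_iff_isConj.2 ((hiff _ _ _ _).2
            ⟨rfl, Units.mk0 r (fun e => hb (by rw [hr, e, mul_zero])), 0, ?_⟩)⟩
          simp [kd, hr]
        · have hr0 : r ≠ 0 := fun e => mul_ne_zero hb hν0 (by rw [hr, e, mul_zero])
          refine ⟨.inr (s, 2), ConjClasses.mk_eq_mk_iff_isConj.2 ((hiff _ _ _ _).2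
            ⟨rfl, Units.mk0 (r / ν) (div_ne_zero hr0 hν0), 0, ?_⟩)⟩
          simp [kd]
          field_simp
          linear_combination -hr
      · refine ⟨.inl ⟨a, ha⟩, ConjClasses.mk_eq_mk_iff_isConj.2 ((hiff _ _ _ _).2
          ⟨rfl, 1, b / (((a⁻¹ : Fˣ) : F) - a), ?_⟩)⟩
        have : ((a⁻¹ : Fˣ) : F) - a ≠ 0 := fun e => ha (by
          rw [sub_eq_zero] at e
          nth_rw 1 [← e]
          exact a.inv_mul)
        simp only [Units.val_one, one_mul, mul_zero, zero_add]
        exact div_mul_cancel₀ _ this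
  rw [← Nat.card_eq_of_bijective f ⟨hinj, hsurj⟩, Nat.card_sum, Nat.card_eq_fintype_card,
    Nat.card_eq_fintype_card, Fintype.card_prod, Fintype.card_bool, Fintype.card_fin, Fintype.card_subtype]
  have hc : (Finset.univ.filter fun a : Fˣ => (a : F) * a ≠ 1) = ({1, -1} : Finset Fˣ)ᶜ := by
    ext a
    simp only [Finset.mem_filter, Finset.mem_univ, true_and, Finset.mem_compl, Finset.mem_insert,
      Finset.mem_singleton, ne_eq, mul_self_eq_one_iff]
    rw [Units.ext_iff, Units.ext_iff, Units.val_one, Units.val_neg, Units.val_one]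
  have hne : (1 : Fˣ) ≠ -1 := fun e => h2 (by
    have := congrArg Units.val e
    simp at this
    linear_combination this)
  rw [hc, Finset.card_compl, Finset.card_pair hne, Fintype.card_units]
  obtain ⟨k, hk⟩ := hodd
  have := Fintype.one_lt_card (α := F)
  omega


end Cfsg.Agent.S2437
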