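import Cfsg.Statements.S2438
import Cfsg.Agent.Lib.RankOne.SLDegree

-- import your own Cfsg.Agent.* helpers here

set_option autoImplicit false
open Cfsg

namespace Cfsg.Agent.S2438

/-- Let F be a finite field with q elements, q odd, q ≥ 5, U the upper unitriangular subgroup of SL₂ over F, and χ an irreducible complex character. The sum of the values of χ over U equals 2q, q, 0, q, 0 according as the degree of χ is q + 1, q, q − 1, (q + 1)/2, (q − 1)/2; so among these five degrees the sum vanishes exactly for the degrees q − 1 and (q − 1)/2, i.e. the irreducible characters of those two degrees are the ones whose restriction to U does not contain the trivial character (the cuspidal characters), while those of degree q + 1, q and (q + 1)/2 are not cuspidal. -/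
theorem result {F : Type*} [Field F] [Fintype F] [DecidableEq F] (hodd : Odd (Fintype.card F)) (hq : 5 ≤ Fintype.card F)
    (χ : Matrix.SpecialLinearGroup (Fin 2) F → ℂ) (hχ : Cfsg.IsIrrCharacter (Matrix.SpecialLinearGroup (Fin 2) F) χ) :
    (χ 1 = (Fintype.card F : ℂ) + 1 →
      (∑ g : Matrix.SpecialLinearGroup (Fin 2) F, if (g : Matrix (Fin 2) (Fin 2) F) 1 0 = 0 ∧ (g : Matrix (Fin 2) (Fin 2) F) 0 0 = 1 ∧ (g : Matrix (Fin 2) (Fin 2) F) 1 1 = 1 then χ g else 0) = 2 * (Fintype.card F : ℂ)) ∧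
    (χ 1 = (Fintype.card F : ℂ) →
      (∑ g : Matrix.SpecialLinearGroup (Fin 2) F, if (g : Matrix (Fin 2) (Fin 2) F) 1 0 = 0 ∧ (g : Matrix (Fin 2) (Fin 2) F) 0 0 = 1 ∧ (g : Matrix (Fin 2) (Fin 2) F) 1 1 = 1 then χ g else 0) = (Fintype.card F : ℂ)) ∧
    (χ 1 = (Fintype.card F : ℂ) - 1 →
      (∑ g : Matrix.SpecialLinearGroup (Fin 2) F, if (g : Matrix (Fin 2) (Fin 2) F) 1 0 = 0 ∧ (g : Matrix (Fin 2) (Fin 2) F) 0 0 = 1 ∧ (g : Matrix (Fin 2) (Fin 2) F) 1 1 = 1 then χ g else 0) = 0) ∧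
    (χ 1 = (((Fintype.card F + 1) / 2 : ℕ) : ℂ) →
      (∑ g : Matrix.SpecialLinearGroup (Fin 2) F, if (g : Matrix (Fin 2) (Fin 2) F) 1 0 = 0 ∧ (g : Matrix (Fin 2) (Fin 2) F) 0 0 = 1 ∧ (g : Matrix (Fin 2) (Fin 2) F) 1 1 = 1 then χ g else 0) = (Fintype.card F : ℂ)) ∧
    (χ 1 = (((Fintype.card F - 1) / 2 : ℕ) : ℂ) →
      (∑ g : Matrix.SpecialLinearGroup (Fin 2) F, if (g : Matrix (Fin 2) (Fin 2) F) 1 0 = 0 ∧ (g : Matrix (Fin 2) (Fin 2) F) 0 0 = 1 ∧ (g : Matrix (Fin 2) (Fin 2) F) 1 1 = 1 then χ g else 0) = 0) := by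
  obtain ⟨hp, hm⟩ := CfsgLib.RankOne.SLTwo.half_cast (F := F) hodd
  have hc := CfsgLib.Char.isClassFunction_of_isCharacter (CfsgLib.Char.isCharacter_of_isIrr hχ)
  have hq0 : (Fintype.card F : ℂ) ≠ 0 := Nat.cast_ne_zero.2 Fintype.card_ne_zero
  have key : (∑ g : Matrix.SpecialLinearGroup (Fin 2) F, if (g : Matrix (Fin 2) (Fin 2) F) 1 0 = 0 ∧ (g : Matrix (Fin 2) (Fin 2) F) 0 0 = 1 ∧ (g : Matrix (Fin 2) (Fin 2) F) 1 1 = 1 then χ g else 0) =
      (Fintype.card F : ℂ) * CfsgLib.RankOne.ures CfsgLib.RankOne.SLTwo.uSL χ 0 := by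
    rw [CfsgLib.RankOne.ures_zero, ← mul_assoc, mul_inv_cancel₀ hq0, one_mul, ← Finset.sum_filter]
    symm
    refine Finset.sum_bij (fun c _ => CfsgLib.RankOne.SLTwo.uSL c) ?_ ?_ ?_ fun _ _ => rfl
    · intro c _
      simp [CfsgLib.RankOne.SLTwo.uSL_coe]
    · intro a _ b _ e
      have := congrArg (fun g : Matrix.SpecialLinearGroup (Fin 2) F => (g : Matrix (Fin 2) (Fin 2) F) 0 1) e
      simpa [CfsgLib.RankOne.SLTwo.uSL_coe] using this
    · intro g hg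
      obtain ⟨h10, h00, h11⟩ := (Finset.mem_filter.1 hg).2
      refine ⟨(g : Matrix (Fin 2) (Fin 2) F) 0 1, Finset.mem_univ _, (CfsgLib.RankOne.SLTwo.eq_uSL ?_).symm⟩
      ext i j
      fin_cases i <;> fin_cases j <;> simp [h10, h00, h11]
  rw [key]
  refine ⟨fun h => ?_, fun h => ?_, fun h => ?_, fun h => ?_, fun h => ?_⟩
  · obtain ⟨α, -, rfl⟩ := CfsgLib.RankOne.SLTwo.kind_of_degree_succ hχ h
    rw [CfsgLib.RankOne.SLTwo.ures_ps_zero]; ring
  · obtain rfl := CfsgLib.RankOne.SLTwo.kind_of_degree_card hχ h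
    have h1 : CfsgLib.RankOne.ures CfsgLib.RankOne.SLTwo.uSL (CfsgLib.RankOne.SLTwo.triv (F := F)) 0 = 1 := by
      rw [CfsgLib.RankOne.ures_zero]
      simp [CfsgLib.RankOne.SLTwo.triv, hq0]
    have h2 := CfsgLib.RankOne.ures_add CfsgLib.RankOne.SLTwo.uSL (CfsgLib.RankOne.SLTwo.stb (F := F)) CfsgLib.RankOne.SLTwo.triv 0
    rw [CfsgLib.RankOne.SLTwo.stb, sub_add_cancel, CfsgLib.RankOne.SLTwo.ures_ps_zero, h1] at h2
    rw [CfsgLib.RankOne.SLTwo.stb]
    linear_combination -(Fintype.card F : ℂ) * h2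
  · rw [(CfsgLib.RankOne.SLTwo.kind_of_degree_pred (by omega) hχ h).ures_zero' hχ, mul_zero]
  · rw [hp] at h
    rw [((CfsgLib.RankOne.SLTwo.kind_of_degree_half (by omega) hχ h).facts hχ).2.1, mul_one]
  · rw [hm] at h
    rw [(CfsgLib.RankOne.SLTwo.kind_of_degree_half_pred (by omega) hχ h).ures_zero' hχ, mul_zero]

end Cfsg.Agent.S2438
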