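import Cfsg.Statements.S2446
import Cfsg.Agent.Lib.SUComm.Main
import Cfsg.Agent.Lib.OreLevi.FactorFour
-- import your own Cfsg.Agent.* helpers here

set_option autoImplicit false
open Cfsg CfsgLib.SUComm

namespace Cfsg.Agent.S2446

/-- In the special unitary group SU(n,q), n ≥ 3, realised over the field F with q² elements as the determinant-one isometries of the standard Hermitian form, and with (n,q) ≠ (3,2), every element is a commutator a·b·a⁻¹·b⁻¹ of two elements of SU(n,q). -/
theorem result {F : Type*} [Field F] [Fintype F] (n q : ℕ) (hn : 3 ≤ n) (hF : Fintype.card F = q ^ 2) (hex : ¬ (n = 3 ∧ q = 2)) :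
    ∀ g : Cfsg.SU n F q, ∃ a b : Cfsg.SU n F q, g = a * b * a⁻¹ * b⁻¹ := by
  obtain ⟨J, rfl⟩ := exists_cj q hF
  refine exists_commutator J ?_ hn hex
  intro hq m hm k A hdet hns hr
  obtain ⟨s, z, P, h1, h2, h3, h4, h5⟩ := CfsgLib.OreLevi.exists_comm_factor_four (by rw [Nat.card_eq_fintype_card, J.card, hq]; norm_num) (σ := J.σ)
    (fun x => by rw [J.σ_eq, hq]) hm hdet hns hr
  exact fac_of_units J h1 h2 h3 h4 h5

end Cfsg.Agent.S2446
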