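import Cfsg.Statements.S2447
import Cfsg.Agent.Lib.OrthReversal.OddDim
import Cfsg.Agent.Lib.PrimeGraphOdd.OrthTools

set_option autoImplicit false
open Cfsg

namespace Cfsg.Agent.S2447

/-- Let F be a finite field of odd order and n ≥ 3, and let Ω(2n+1,F) be the commutator subgroup of the orthogonal group of the non-singular quadratic form x₀² + Σ xᵢyᵢ in dimension 2n+1. Then every element of Ω(2n+1,F) is a commutator a·b·a⁻¹·b⁻¹ of two elements of Ω(2n+1,F). -/
theorem result {F : Type*} [Field F] [Fintype F] (hodd : Odd (Fintype.card F)) (n : ℕ) (hn : 3 ≤ n) :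
    ∀ g : Cfsg.Omega F (Cfsg.quadFormOdd n F), ∃ a b : Cfsg.Omega F (Cfsg.quadFormOdd n F), g = a * b * a⁻¹ * b⁻¹ := by
  have h2 : (2 : F) ≠ 0 := fun h => by
    have hc : ringChar F ≠ 2 := fun e => by
      have := FiniteField.even_card_of_char_two e
      rw [Nat.odd_iff] at hodd; omega
    exact Ring.two_ne_zero hc h
  obtain ⟨Q, hQ, hB⟩ := CfsgLib.Orth.exists_quadForm_odd (F := F) h2 n
  have S : CfsgLib.OrthReversal.OddSetting Q n ((-1 : F) ^ n) :=
    ⟨hB, h2, CfsgLib.PrimeGraphOdd.finrank_space, hn, pow_ne_zero _ (neg_ne_zero.2 one_ne_zero),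
      fun w r m hr hm => CfsgLib.PrimeGraphOdd.neg_refl_mem_omega_iff hB hQ h2 (by omega) hm hr⟩
  rw [← hQ]
  rintro ⟨g, hg⟩
  obtain ⟨x, hx, y, hy, e⟩ := CfsgLib.OrthReversal.omComm_of_mem S hg
  exact ⟨⟨x, hx⟩, ⟨y, hy⟩, Subtype.ext e⟩

end Cfsg.Agent.S2447
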