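import Cfsg.Statements.S2448
import Cfsg.Agent.Lib.OreLevi.OrthPlusGlue
import Cfsg.Agent.Lib.OreLevi.OrthLarge
import Cfsg.Agent.Lib.OreSmall.Final
import Cfsg.Agent.Lib.OreSmallThree.Main

set_option autoImplicit false
open Cfsg

namespace Cfsg.Agent.S2448

/-- Let F be a finite field and n ≥ 4, and let Ω⁺(2n,F) be the commutator subgroup of the orthogonal group of the quadratic form Σ xᵢyᵢ (n hyperbolic planes). Then every element of Ω⁺(2n,F) is a commutator a·b·a⁻¹·b⁻¹ of two elements of Ω⁺(2n,F). -/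
theorem result {F : Type*} [Field F] [Fintype F] (n : ℕ) (hn : 4 ≤ n) : ∀ g : Cfsg.Omega F (Cfsg.quadFormPlus n F), ∃ a b : Cfsg.Omega F (Cfsg.quadFormPlus n F), g = a * b * a⁻¹ * b⁻¹ := by
  intro g
  refine CfsgLib.OreLevi.OrthPlus.isComm_omega_plus hn (fun A hA hns => ?_) g
  by_cases hq : 4 ≤ Nat.card F
  · obtain ⟨s, z, h, hs, hz, ht, -⟩ := CfsgLib.OreLevi.OrthPlus.exists_fac hq (by omega) A hA hns
    exact ⟨s, z, h, hs, hz, ht⟩
  have hcard : Nat.card F = 2 ∨ Nat.card F = 3 := by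
    have := Finite.one_lt_card (α := F)
    omega
  rcases hcard with h2 | h3
  · obtain ⟨s, z, h, hs, hz, ht, -⟩ := CfsgLib.OreSmall.exists_fac_two h2 hn A hA
    exact ⟨s, z, h, hs, hz, ht⟩
  · obtain ⟨s, z, h, hs, hz, ht, -⟩ := CfsgLib.OreSmallThree.exists_fac_three h3 hn A hA hns
    exact ⟨s, z, h, hs, hz, ht⟩

end Cfsg.Agent.S2448
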