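import Cfsg.Statements.S2449
import Cfsg.Agent.Lib.OreLevi.OrthMinusOne
import Cfsg.Agent.Lib.OreSmall.Final
import Cfsg.Agent.Lib.OreSmallThree.Main
import Cfsg.Agent.Lib.OreSmallTwo.Dim3
import Cfsg.Agent.Lib.OreSmallThree.Dim3

set_option autoImplicit false
open Cfsg

namespace Cfsg.Agent.S2449

/-- Let F be a finite field and n ≥ 4, and let Ω⁻(2n,F) be the commutator subgroup of the orthogonal group of the quadratic form given by n − 1 hyperbolic planes plus an anisotropic binary form z₁² + a z₁z₂ + b z₂². Then every element of Ω⁻(2n,F) is a commutator a·b·a⁻¹·b⁻¹ of two elements of Ω⁻(2n,F). -/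
theorem result {F : Type*} [Field F] [Fintype F] (n : ℕ) (hn : 4 ≤ n) (a b : F)
    (hab : ∀ z₁ z₂ : F, z₁ ^ 2 + a * z₁ * z₂ + b * z₂ ^ 2 = 0 → z₁ = 0 ∧ z₂ = 0) :
    ∀ g : Cfsg.Omega F (Cfsg.quadFormMinus (n - 1) F a b), ∃ x y : Cfsg.Omega F (Cfsg.quadFormMinus (n - 1) F a b), g = x * y * x⁻¹ * y⁻¹ := by
  intro g
  by_cases hq : 4 ≤ Nat.card F
  · exact CfsgLib.OreLevi.OrthMinus.isComm_omega_minus (by omega) hab
      (CfsgLib.OreLevi.OrthMinus.hone_large hq (by omega))
      (fun A hA hns => CfsgLib.OreLevi.OrthMinus.hfac_large hq (by omega) A hA hns) g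
  have hcard : Nat.card F = 2 ∨ Nat.card F = 3 := by
    have := Finite.one_lt_card (α := F)
    omega
  rcases hcard with h2 | h3
  · refine CfsgLib.OreLevi.OrthMinus.isComm_omega_minus (by omega) hab
      (CfsgLib.OreLevi.OrthMinus.hone_two h2 (by omega)) (fun A hA hns => ?_) g
    obtain rfl | h5 : n = 4 ∨ 5 ≤ n := by omega
    · exact CfsgLib.OreSmallTwo.facOK_two_three h2 A hA hns
    · obtain ⟨s, z, h, hs, hz, ht, hu⟩ := CfsgLib.OreSmall.exists_fac_two h2 (show 4 ≤ n - 1 by omega) A hA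
      have hF : ∀ c : F, c = 0 ∨ c = 1 := fun c => by
        obtain rfl | hc := eq_or_ne c 0
        · exact Or.inl rfl
        · haveI := Fintype.ofFinite F
          have := FiniteField.pow_card_sub_one_eq_one c hc
          rw [← Nat.card_eq_fintype_card, h2, pow_one] at this
          exact Or.inr this
      exact Or.inl ⟨s, z, h, hs, hz, ht, !![0, 1; 1, 1], CfsgLib.OreLevi.OrthMinus.wcomm_rot hF hab,
        CfsgLib.OreLevi.OrthMinus.rot_free hF hu⟩
  · refine CfsgLib.OreLevi.OrthMinus.isComm_omega_minus (by omega) hab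
      (CfsgLib.OreLevi.OrthMinus.hone_three ?_ (by omega)) (fun A hA hns => ?_) g
    · haveI := Fintype.ofFinite F
      have := FiniteField.cast_card_eq_zero F
      rw [← Nat.card_eq_fintype_card, h3] at this
      exact_mod_cast this
    · obtain rfl | h5 : n = 4 ∨ 5 ≤ n := by omega
      · exact CfsgLib.OreSmallThree.facOK_three h3 A hA hns
      · obtain ⟨s, z, h, hs, hz, ht, hfix⟩ := CfsgLib.OreSmallThree.exists_fac_three h3
          (show 4 ≤ n - 1 by omega) A hA hns
        exact Or.inl ⟨s, z, h, hs, hz, ht, 1, CfsgLib.OreLevi.OrthMinus.WComm.one,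
          fun l e => hfix l (by rwa [Matrix.one_mul] at e)⟩

end Cfsg.Agent.S2449
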