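import Cfsg.Statements.S2456
import Cfsg.Agent.Lib.SL2.ClassProduct

set_option autoImplicit false
open Cfsg

namespace Cfsg.Agent.S2456

/-- A strong covering result in the direction of Thompson's conjecture (non-identity elements) for PSL(2,q), q even: let F be a finite field of characteristic 2 with q ≥ 4 elements and let x ∈ PSL(2,F) have order greater than 2 and not dividing q + 1. Then every non-identity element of PSL(2,F) is a product of two conjugates of x. -/
theorem result {F : Type*} [Field F] [Fintype F] [CharP F 2] (h4 : 4 ≤ Fintype.card F)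
    (x : Matrix.ProjectiveSpecialLinearGroup (Fin 2) F) (hx2 : 2 < orderOf x) (hxq : ¬ orderOf x ∣ Fintype.card F + 1) : ∀ g : Matrix.ProjectiveSpecialLinearGroup (Fin 2) F, g ≠ 1 → ∃ u v : Matrix.ProjectiveSpecialLinearGroup (Fin 2) F, g = (u * x * u⁻¹) * (v * x * v⁻¹) := by
  haveI : Fact (Nat.Prime 2) := ⟨Nat.prime_two⟩
  refine fun g hg => CfsgLib.SL2.exists_product_conj 2 x hx2 (fun h => ?_)
    (fun _ => by rw [Nat.card_eq_fintype_card]; exact hxq) g hg
  have h4' : 4 ≤ Nat.card F := by rwa [Nat.card_eq_fintype_card]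
  have hm : orderOf x ∈ Set.range (orderOf : Matrix.ProjectiveSpecialLinearGroup (Fin 2) F → ℕ) :=
    ⟨x, rfl⟩
  rw [CfsgLib.SL2.spectrum_PSL 2 h4'] at hm
  obtain ⟨m, -, hm2⟩ := FiniteField.card F 2
  have hev : 2 ∣ Nat.card F := by
    rw [Nat.card_eq_fintype_card, hm2]; exact dvd_pow_self 2 m.pos.ne'
  have hg1 : Nat.gcd 2 (Nat.card F - 1) = 1 := by
    rcases (Nat.dvd_prime Nat.prime_two).1 (Nat.gcd_dvd_left 2 (Nat.card F - 1)) with e | e
    · exact e
    · have := Nat.gcd_dvd_right 2 (Nat.card F - 1)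
      rw [e] at this
      omega
  rw [Set.mem_setOf_eq, hg1, Nat.div_one, Nat.div_one] at hm
  rcases hm with hm | hm | hm
  · have := Nat.le_of_dvd (by norm_num) hm
    omega
  · have := h.trans hm
    omega
  · have := h.trans hm
    omega

end Cfsg.Agent.S2456
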