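import Cfsg.Statements.S2463
import Cfsg.Agent.Lib.ClassSquare.LargeRee.Big
import Cfsg.Agent.Lib.ClassSquare.LargeRee.Eight
import Cfsg.Agent.Lib.ClassSquare.TitsSq.Main

set_option autoImplicit false
set_option maxRecDepth 100000
open Cfsg

namespace Cfsg.Agent.S2463

theorem transport {M N : Type*} [Group M] [Group N] (e : M ≃* N)
    (h : ∃ x : N, Odd (orderOf x) ∧ ∀ g, g ≠ 1 → ∃ u v, g = (u * x * u⁻¹) * (v * x * v⁻¹)) :
    ∃ x : M, Odd (orderOf x) ∧ ∀ g : M, g ≠ 1 → ∃ u v : M, g = (u * x * u⁻¹) * (v * x * v⁻¹) := by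
  obtain ⟨x, hx, hc⟩ := h
  refine ⟨e.symm x, ?_, fun g hg => ?_⟩
  · rwa [MulEquiv.orderOf_eq]
  · obtain ⟨u, v, huv⟩ := hc (e g) fun h0 => hg (e.map_eq_one_iff.1 h0)
    refine ⟨e.symm u, e.symm v, e.injective ?_⟩
    simpa using huv

open Cfsg.Lie CfsgLib.Chev in
theorem large {K : Type} [Field K] [Fintype K] {m : ℕ} (hm : 1 ≤ m)
    (hK : Fintype.card K = 2 ^ (2 * m + 1)) :
    ∃ x : ↥(twistedF4 K (2 ^ m)), Odd (orderOf x) ∧
      ∀ g, g ≠ 1 → ∃ u v, g = (u * x * u⁻¹) * (v * x * v⁻¹) := by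
  haveI := charTwo_F4 hK
  obtain ⟨f, hf, hK'⟩ := setupF4 hK
  rw [← fix_eq_twistedF4 f hf hK']
  rcases Nat.lt_or_ge m 2 with h | h
  · exact CfsgLib.ClassSquare.LargeRee.square_eight f hf hK' (by rw [show m = 1 by omega]; rfl)
  · exact CfsgLib.ClassSquare.LargeRee.square_big f hf hK' m rfl h

/-- A form of Thompson's conjecture for the simple groups of type ²F₄ (covering the non-identity elements) with a semisimple class: if M is a large Ree group ²F₄(2^(2m+1)) with m ≥ 1, or the Tits group, then there is an element x of M of odd order such that every non-identity element of M is a product of two conjugates of x. -/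
theorem result {M : Type*} [Group M] [Finite M] (hM : Cfsg.Lie.Iso2F4 M ∨ Cfsg.Lie.IsoTits M) :
    ∃ x : M, Odd (orderOf x) ∧ ∀ g : M, g ≠ 1 → ∃ u v : M, g = (u * x * u⁻¹) * (v * x * v⁻¹) := by
  rcases hM with ⟨K, _, _, m, hm, hK, ⟨e⟩⟩ | h
  · exact transport e (large hm hK)
  · obtain ⟨e⟩ := (h : Nonempty (M ≃* Cfsg.Lie.TitsGroup))
    exact transport (M := M) (N := Cfsg.Lie.TitsGroup) e CfsgLib.ClassSquare.TitsSq.square_tits

end Cfsg.Agent.S2463
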