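import Cfsg.Statements.S2466
import Mathlib
-- import your own Cfsg.Agent.* helpers here

set_option autoImplicit false
open Cfsg

namespace Cfsg.Agent.S2466

/-- Adjacency of odd primes in the prime graph of the alternating groups: let r ≠ s be odd primes at most n. The alternating group of degree n has an element of order r·s if and only if r + s ≤ n. -/
theorem result (n r s : ℕ) (hr : r.Prime) (hs : s.Prime) (hr2 : r ≠ 2) (hs2 : s ≠ 2) (hrs : r ≠ s) (hrn : r ≤ n) (hsn : s ≤ n) :
    (r * s ∈ Set.range (orderOf : alternatingGroup (Fin n) → ℕ)) ↔ r + s ≤ n := by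
  classical
  constructor
  · rintro ⟨x, hx⟩
    have hord : (x : Equiv.Perm (Fin n)).cycleType.lcm = r * s := by
      rw [Equiv.Perm.lcm_cycleType, Subgroup.orderOf_coe, hx]
    have hsum : (x : Equiv.Perm (Fin n)).cycleType.sum ≤ n := by
      rw [Equiv.Perm.sum_cycleType]
      exact (Finset.card_le_univ _).trans (by simp)
    have hex : ∀ p : ℕ, p.Prime → p ∣ r * s → ∃ b ∈ (x : Equiv.Perm (Fin n)).cycleType, p ∣ b := by
      intro p hp hd
      rw [← hord] at hd
      by_contra hc
      push Not at hc
      have : ∀ m : Multiset ℕ, (∀ b ∈ m, ¬ p ∣ b) → ¬ p ∣ m.lcm := by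
        intro m
        induction m using Multiset.induction with
        | empty => intro _; simpa using hp.ne_one
        | cons a m ih =>
          intro h h'
          rw [Multiset.lcm_cons] at h'
          rcases (Nat.Prime.dvd_mul hp).1 (h'.trans (Nat.lcm_dvd_mul a m.lcm)) with e | e
          · exact h a (Multiset.mem_cons_self _ _) e
          · exact ih (fun b hb => h b (Multiset.mem_cons_of_mem hb)) e
      exact this _ hc hd
    obtain ⟨b, hb, hrb⟩ := hex r hr (dvd_mul_right r s)
    obtain ⟨b', hb', hsb⟩ := hex s hs (dvd_mul_left s r)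
    have hbpos := Equiv.Perm.two_le_of_mem_cycleType hb
    have hb'pos := Equiv.Perm.two_le_of_mem_cycleType hb'
    by_cases hbb : b = b'
    · subst hbb
      have h1 : r * s ≤ b := Nat.le_of_dvd (by omega)
        (((Nat.coprime_primes hr hs).2 hrs).mul_dvd_of_dvd_of_dvd hrb hsb)
      have h2 := Multiset.le_sum_of_mem hb
      have := hr.two_le
      have := hs.two_le
      nlinarith
    · obtain ⟨m, hm⟩ := Multiset.exists_cons_of_mem hb
      rw [hm] at hb' hsum
      have hb'' := (Multiset.mem_cons.1 hb').resolve_left (Ne.symm hbb)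
      have := Multiset.le_sum_of_mem hb''
      rw [Multiset.sum_cons] at hsum
      have := Nat.le_of_dvd (by omega) hrb
      have := Nat.le_of_dvd (by omega) hsb
      omega
  · intro h
    obtain ⟨σ, hσ⟩ : ∃ σ : Equiv.Perm (Fin n), σ.cycleType = {r, s} :=
      (Equiv.Perm.exists_with_cycleType_iff (α := Fin n) (m := {r, s})).2 ⟨by simpa using h, fun a ha => by
        simp at ha; rcases ha with rfl | rfl
        exacts [hr.two_le, hs.two_le]⟩
    refine ⟨⟨σ, ?_⟩, ?_⟩
    · rw [Equiv.Perm.mem_alternatingGroup, Equiv.Perm.sign_of_cycleType, hσ]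
      simp [Even.neg_one_pow, (hr.odd_of_ne_two hr2).add_odd (hs.odd_of_ne_two hs2), Nat.even_add]
    · rw [← Subgroup.orderOf_coe, ← Equiv.Perm.lcm_cycleType]
      show σ.cycleType.lcm = r * s
      rw [hσ]
      simp
      exact ((Nat.coprime_primes hr hs).2 hrs).lcm_eq_mul


end Cfsg.Agent.S2466
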