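import Cfsg.Statements.S2467
import Mathlib
-- import your own Cfsg.Agent.* helpers here

set_option autoImplicit false
open Cfsg

namespace Cfsg.Agent.S2467

/-- Adjacency of 2 and an odd prime in the prime graph of the alternating groups: let r be an odd prime at most n, with n ≥ 4. The alternating group of degree n has an element of order 2r if and only if r + 4 ≤ n. -/
theorem result (n r : ℕ) (hn : 4 ≤ n) (hr : r.Prime) (hr2 : r ≠ 2) (hrn : r ≤ n) :
    (2 * r ∈ Set.range (orderOf : alternatingGroup (Fin n) → ℕ)) ↔ r + 4 ≤ n := by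
  classical
  have hodd := hr.odd_of_ne_two hr2
  constructor
  · rintro ⟨x, hx⟩
    have hord : (x : Equiv.Perm (Fin n)).cycleType.lcm = 2 * r := by
      rw [Equiv.Perm.lcm_cycleType, Subgroup.orderOf_coe, hx]
    have hsum : (x : Equiv.Perm (Fin n)).cycleType.sum ≤ n := by
      rw [Equiv.Perm.sum_cycleType]
      exact (Finset.card_le_univ _).trans (by simp)
    have hex : ∀ p : ℕ, p.Prime → p ∣ 2 * r → ∃ b ∈ (x : Equiv.Perm (Fin n)).cycleType, p ∣ b := by
      intro p hp hd
      rw [← hord] at hd
      by_contra hc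
      push Not at hc
      have : ∀ m : Multiset ℕ, (∀ b ∈ m, ¬ p ∣ b) → ¬ p ∣ m.lcm := by
        intro m
        induction m using Multiset.induction with
        | empty => intro _; simpa using hp.ne_one
        | cons a m ih =>
          intro h h'
          rw [Multiset.lcm_cons] at h'
          rcases (Nat.Prime.dvd_mul hp).1 (h'.trans (Nat.lcm_dvd_mul a m.lcm)) with e | e
          · exact h a (Multiset.mem_cons_self _ _) e
          · exact ih (fun b hb => h b (Multiset.mem_cons_of_mem hb)) e
      exact this _ hc hd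
    have hsign : Even ((x : Equiv.Perm (Fin n)).cycleType.sum + Multiset.card (x : Equiv.Perm (Fin n)).cycleType) := by
      have h := x.2
      rw [Equiv.Perm.mem_alternatingGroup, Equiv.Perm.sign_of_cycleType] at h
      rw [← Nat.not_odd_iff_even]
      intro ho
      rw [ho.neg_one_pow] at h
      exact absurd h (by decide)
    have hle : ∀ b ∈ (x : Equiv.Perm (Fin n)).cycleType, 2 ≤ b := fun b hb =>
      Equiv.Perm.two_le_of_mem_cycleType hb
    have hpar : ∀ m : Multiset ℕ, (∀ b ∈ m, ¬ 2 ∣ b) → Even (m.sum + Multiset.card m) := by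
      intro m
      induction m using Multiset.induction with
      | empty => simp
      | cons a m ih =>
        intro h
        have h1 := ih fun b hb => h b (Multiset.mem_cons_of_mem hb)
        have h2 : a % 2 = 1 := by have := h a (Multiset.mem_cons_self _ _); omega
        rw [Multiset.sum_cons, Multiset.card_cons]
        rw [Nat.even_iff] at h1 ⊢
        omega
    obtain ⟨b, hb, h2b⟩ := hex 2 Nat.prime_two (dvd_mul_right 2 r)
    obtain ⟨m, hm⟩ := Multiset.exists_cons_of_mem hb
    rw [hm] at hsum hsign hle hex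
    rw [Multiset.sum_cons] at hsum
    rw [Multiset.sum_cons, Multiset.card_cons] at hsign
    obtain ⟨b', hb', h2b'⟩ : ∃ b' ∈ m, 2 ∣ b' := by
      by_contra hc
      push Not at hc
      have h1 := hpar m hc
      rw [Nat.even_iff] at h1 hsign
      omega
    obtain ⟨m', rfl⟩ := Multiset.exists_cons_of_mem hb'
    rw [Multiset.sum_cons] at hsum
    have hb2 := hle b (Multiset.mem_cons_self _ _)
    have hb2' := hle b' (Multiset.mem_cons_of_mem (Multiset.mem_cons_self _ _))
    obtain ⟨d, hd, hrd⟩ := hex r hr (dvd_mul_left r 2)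
    have hcop : (2 : ℕ).Coprime r := (Nat.coprime_primes Nat.prime_two hr).2 (Ne.symm hr2)
    have := hr.two_le
    rcases Multiset.mem_cons.1 hd with rfl | hd
    · have := Nat.le_of_dvd (by omega) (hcop.mul_dvd_of_dvd_of_dvd h2b hrd)
      have := Nat.lt_of_le_of_ne hr.two_le (Ne.symm hr2)
      omega
    rcases Multiset.mem_cons.1 hd with rfl | hd
    · have := Nat.le_of_dvd (by omega) (hcop.mul_dvd_of_dvd_of_dvd h2b' hrd)
      have := Nat.lt_of_le_of_ne hr.two_le (Ne.symm hr2)
      omega
    have := Multiset.le_sum_of_mem hd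
    have := Nat.le_of_dvd (by have := hle d (Multiset.mem_cons_of_mem (Multiset.mem_cons_of_mem hd)); omega) hrd
    omega
  · intro h
    obtain ⟨σ, hσ⟩ : ∃ σ : Equiv.Perm (Fin n), σ.cycleType = {r, 2, 2} :=
      (Equiv.Perm.exists_with_cycleType_iff (α := Fin n) (m := {r, 2, 2})).2 ⟨by simpa using h, fun a ha => by
        simp at ha
        have := hr.two_le
        omega⟩
    refine ⟨⟨σ, ?_⟩, ?_⟩
    · rw [Equiv.Perm.mem_alternatingGroup, Equiv.Perm.sign_of_cycleType, hσ]
      refine Even.neg_one_pow ?_
      simp [Nat.even_iff]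
      rw [Nat.odd_iff] at hodd
      omega
    · rw [← Subgroup.orderOf_coe, ← Equiv.Perm.lcm_cycleType]
      show σ.cycleType.lcm = 2 * r
      rw [hσ]
      simp
      show Nat.lcm r 2 = 2 * r
      rw [Nat.lcm_comm]
      exact ((Nat.coprime_primes Nat.prime_two hr).2 (Ne.symm hr2)).lcm_eq_mul


end Cfsg.Agent.S2467
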