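import Cfsg.Statements.S2470
import Cfsg.Agent.S2364

set_option autoImplicit false
open Cfsg

namespace Cfsg.Agent.S2470

open CfsgLib Module

variable {F : Type*} [Field F]

/-- The natural action on column vectors. -/
noncomputable def toEnd (n : ℕ) : Matrix.SpecialLinearGroup (Fin n) F →* Module.End F (Fin n → F) where
  toFun A := Matrix.toLin' (A : Matrix (Fin n) (Fin n) F)
  map_one' := by rw [Matrix.SpecialLinearGroup.coe_one, Matrix.toLin'_one]; rfl
  map_mul' A B := by rw [Matrix.SpecialLinearGroup.coe_mul, Matrix.toLin'_mul]; rfl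

theorem toEnd_injective (n : ℕ) : Function.Injective (toEnd (F := F) n) := fun _ _ h =>
  Subtype.ext (Matrix.toLin'.injective h)

theorem mem_center_of_scalar {n : ℕ} {A : Matrix.SpecialLinearGroup (Fin n) F} {c : F}
    (h : toEnd n A = c • (1 : Module.End F (Fin n → F))) :
    A ∈ Subgroup.center (Matrix.SpecialLinearGroup (Fin n) F) := by
  have hA : (A : Matrix (Fin n) (Fin n) F) = Matrix.scalar (Fin n) c := by
    apply Matrix.toLin'.injective
    show toEnd n A = _
    rw [h]
    refine LinearMap.ext fun x => funext fun i => ?_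
    simp [Matrix.toLin'_apply, Matrix.mulVec_diagonal]
  refine Subgroup.mem_center_iff.mpr fun B => Subtype.ext ?_
  rw [Matrix.SpecialLinearGroup.coe_mul, Matrix.SpecialLinearGroup.coe_mul, hA]
  exact (Matrix.scalar_commute c (fun r => mul_comm c r) (B : Matrix (Fin n) (Fin n) F)).symm

/-- A nontrivial unipotent commuting with an `r`-element of `SL_n`, `n ≤ 3`, makes the latter central up to a power of `p`. -/
theorem small [Fintype F] {p r n : ℕ} [Fact p.Prime] [CharP F p] (hr : r.Prime) (hn : n = 2 ∨ n = 3)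
    (hex : n = 3 → r ∣ Fintype.card F - 1 → r = 3 ∧ ¬ 9 ∣ Fintype.card F - 1)
    (u g : Matrix.SpecialLinearGroup (Fin n) F) {i j : ℕ} (hu : u ^ p ^ i = 1) (hu1 : u ≠ 1)
    (hg : g ^ r ^ j = 1) (hc : Commute u g) :
    g ^ p ^ 2 ∈ Subgroup.center (Matrix.SpecialLinearGroup (Fin n) F) := by
  classical
  haveI : NeZero n := ⟨by omega⟩
  haveI : CharP (Module.End F (Fin n → F)) p := by
    exact charP_of_injective_algebraMap (algebraMap F (Module.End F (Fin n → F))).injective p
  set f := toEnd n g with hf
  set N1 := toEnd n u - 1 with hN1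
  have hNil : IsNilpotent N1 := ⟨p ^ i, by
    rw [hN1, sub_pow_char_pow_of_commute _ _ (Commute.one_right _), one_pow, ← map_pow, hu, map_one, sub_self]⟩
  have hN10 : N1 ≠ 0 := fun h => hu1 (toEnd_injective n (by rwa [hN1, sub_eq_zero, ← map_one (toEnd n)] at h))
  have hfN1 : Commute f N1 := by
    show f * N1 = N1 * f
    rw [hN1, mul_sub, sub_mul, mul_one, one_mul, hf, ← map_mul, ← map_mul, hc.eq]
  obtain ⟨N, hN0, hN2, hfN⟩ : ∃ N : Module.End F (Fin n → F), N ≠ 0 ∧ N * N = 0 ∧ Commute f N := by
    have hex' : ∃ k, N1 ^ k = 0 := hNil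
    have h1 : 2 ≤ Nat.find hex' := by
      by_contra h
      have hs := Nat.find_spec hex'
      interval_cases hk : Nat.find hex'
      · rw [pow_zero] at hs
        exact one_ne_zero hs
      · exact hN10 (by rwa [pow_one] at hs)
    refine ⟨N1 ^ (Nat.find hex' - 1), Nat.find_min hex' (by omega), ?_, hfN1.pow_right _⟩
    rw [← pow_add]
    exact pow_eq_zero_of_le (by omega) (Nat.find_spec hex')
  set K := LinearMap.ker N with hK
  set B := LinearMap.range N with hB
  have hBK : B ≤ K := by
    rintro _ ⟨v, rfl⟩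
    rw [hK, LinearMap.mem_ker, ← Module.End.mul_apply, hN2]; rfl
  have hdim := LinearMap.finrank_range_add_finrank_ker N
  rw [Module.finrank_fin_fun, ← hB, ← hK] at hdim
  have hB1 : finrank F B = 1 := by
    have h1 := Submodule.finrank_mono hBK
    have h2 : 0 < finrank F B := by
      rw [Nat.pos_iff_ne_zero]
      intro h0
      exact hN0 (LinearMap.range_eq_bot.mp (Submodule.finrank_eq_zero.mp h0))
    omega
  obtain ⟨v, hv⟩ : ∃ v, v ∉ K := by
    by_contra h
    push Not at h
    exact hN0 (LinearMap.ker_eq_top.mp (eq_top_iff.mpr fun x _ => h x))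
  set w := N v with hw
  have hw0 : w ≠ 0 := hv
  have hspanB : B = F ∙ w := (Submodule.eq_of_le_of_finrank_le ((Submodule.span_singleton_le_iff_mem _ _).mpr (LinearMap.mem_range_self N v))
    (by rw [hB1, finrank_span_singleton hw0])).symm
  have hfN' : ∀ x, f (N x) = N (f x) := fun x => by
    rw [← Module.End.mul_apply, ← Module.End.mul_apply, hfN.eq]
  obtain ⟨a, ha⟩ : ∃ a : F, a • w = f w := by
    rw [← Submodule.mem_span_singleton, ← hspanB, hw, hfN']
    exact ⟨f v, rfl⟩
  have hKmem : ∀ x, f x - a • x ∈ K := fun x => by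
    rw [hK, LinearMap.mem_ker, map_sub, map_smul, ← hfN']
    have hx : N x ∈ B := ⟨x, rfl⟩
    rw [hspanB, Submodule.mem_span_singleton] at hx
    obtain ⟨t, ht⟩ := hx
    rw [← ht, map_smul, ← ha, smul_comm, sub_self]
  have hBa : ∀ x ∈ B, f x = a • x := fun x hx => by
    rw [hspanB, Submodule.mem_span_singleton] at hx
    obtain ⟨t, rfl⟩ := hx
    rw [map_smul, ← ha, smul_comm]
  set T := f - a • (1 : Module.End F (Fin n → F)) with hT
  have hTx : ∀ x, T x = f x - a • x := fun x => rfl
  have hTB : ∀ x ∈ B, T x = 0 := fun x hx => by rw [hTx, hBa x hx, sub_self]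
  -- it suffices that `T` is nilpotent
  suffices hT3 : ∀ x, T (T (T x)) = 0 by
    have hp3 : 3 ≤ p ^ 2 := by
      calc 3 ≤ 2 ^ 2 := by norm_num
        _ ≤ p ^ 2 := Nat.pow_le_pow_left (Fact.out : p.Prime).two_le 2
    have h3 : T ^ 3 = 0 := LinearMap.ext fun x => by
      rw [pow_succ, pow_succ, pow_one, Module.End.mul_apply, Module.End.mul_apply]; exact hT3 x
    have h4 := pow_eq_zero_of_le hp3 h3
    rw [hT, sub_pow_char_pow_of_commute _ _ ((Commute.one_right f).smul_right a), smul_pow, one_pow, sub_eq_zero,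
      hf, ← map_pow] at h4
    exact mem_center_of_scalar h4
  intro x
  rcases hn with rfl | rfl
  · have hKB : K = B := (Submodule.eq_of_le_of_finrank_le hBK (by omega)).symm
    rw [hTB (T x) (hKB ▸ hKmem x), map_zero]
  -- three dimensions: find the middle eigenvalue
  obtain ⟨k, hk, hkB⟩ : ∃ k ∈ K, k ∉ B := by
    by_contra h
    push Not at h
    have := Submodule.finrank_mono (show K ≤ B from h)
    omega
  have hfk : f k ∈ K := by
    rw [hK, LinearMap.mem_ker, ← hfN', LinearMap.mem_ker.mp hk, map_zero]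
  have hKspan : K = Submodule.span F {k, w} := by
    refine (Submodule.eq_of_le_of_finrank_le (Submodule.span_le.mpr ?_) ?_).symm
    · rintro z (rfl | rfl)
      · exact hk
      · exact hBK ⟨v, rfl⟩
    · have hli : LinearIndependent F ![k, w] := LinearIndependent.pair_iff.mpr fun s t hst => by
        have hs : s = 0 := by
          by_contra hs
          refine hkB ?_
          have : k = (-(t / s)) • w := by
            apply smul_right_injective _ hs
            simp only [smul_smul]
            rw [mul_neg, mul_div_cancel₀ _ hs, neg_smul]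
            exact eq_neg_of_add_eq_zero_left hst
          rw [this, hspanB]
          exact Submodule.smul_mem _ _ (Submodule.mem_span_singleton_self w)
        refine ⟨hs, ?_⟩
        rw [hs, zero_smul, zero_add, smul_eq_zero] at hst
        exact hst.resolve_right hw0
      have := finrank_span_eq_card hli
      rw [Matrix.range_cons, Matrix.range_cons, Matrix.range_empty, Set.union_empty, Set.singleton_union,
        Fintype.card_fin] at this
      omega
  obtain ⟨b, c, hbc⟩ : ∃ b c : F, b • k + c • w = f k := Submodule.mem_span_pair.mp (hKspan ▸ hfk)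
  have hab : b = a := by
    have hpa : ∀ m : ℕ, (f ^ m) w = a ^ m • w := fun m => by
      induction m with
      | zero => simp
      | succ m ih => rw [pow_succ', Module.End.mul_apply, ih, map_smul, ← ha, smul_smul, pow_succ]
    have hpb : ∀ m : ℕ, ∃ d : F, (f ^ m) k = b ^ m • k + d • w := fun m => by
      induction m with
      | zero => exact ⟨0, by simp⟩
      | succ m ih =>
        obtain ⟨d, hd⟩ := ih
        refine ⟨b ^ m * c + d * a, ?_⟩
        rw [pow_succ', Module.End.mul_apply, hd, map_add, map_smul, map_smul, ← ha, ← hbc, smul_add, smul_smul,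
          smul_smul, smul_smul, add_assoc, ← add_smul, pow_succ]
    have hfo : f ^ r ^ j = 1 := by rw [hf, ← map_pow, hg, map_one]
    have haj : a ^ r ^ j = 1 := by
      have := hpa (r ^ j)
      rw [hfo, Module.End.one_apply] at this
      exact (smul_left_injective F hw0 (this.symm.trans (one_smul F w).symm))
    have hbj : b ^ r ^ j = 1 := by
      obtain ⟨d, hd⟩ := hpb (r ^ j)
      rw [hfo, Module.End.one_apply] at hd
      by_contra hne
      refine hkB ?_
      have h2 : (1 - b ^ r ^ j) • k = d • w := by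
        rw [sub_smul, one_smul, sub_eq_iff_eq_add']
        exact hd
      have : k = ((1 - b ^ r ^ j)⁻¹ * d) • w := by
        rw [← smul_smul, ← h2, inv_smul_smul₀ (sub_ne_zero.mpr (Ne.symm hne))]
      rw [this, hspanB]
      exact Submodule.smul_mem _ _ (Submodule.mem_span_singleton_self w)
    have hord : ∀ x : F, x ^ r ^ j = 1 → ¬ r ∣ Fintype.card F - 1 → x = 1 := fun x hx hdv => by
      have hx0 : x ≠ 0 := by rintro rfl; rw [zero_pow (pow_ne_zero _ hr.ne_zero)] at hx; exact zero_ne_one hx
      exact orderOf_eq_one_iff.mp (Nat.eq_one_of_dvd_coprimes ((hr.coprime_iff_not_dvd.mpr hdv).pow_left j)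
        (orderOf_dvd_of_pow_eq_one hx) (orderOf_dvd_of_pow_eq_one (FiniteField.pow_card_sub_one_eq_one x hx0)))
    by_cases hdv : r ∣ Fintype.card F - 1
    swap
    · rw [hord a haj hdv, hord b hbj hdv]
    obtain ⟨rfl, h9⟩ := hex rfl hdv
    have hcube : ∀ x : F, x ^ 3 ^ j = 1 → x ^ 3 = 1 := fun x hx => by
      have hx0 : x ≠ 0 := by rintro rfl; rw [zero_pow (pow_ne_zero _ hr.ne_zero)] at hx; exact zero_ne_one hx
      obtain ⟨e, -, he⟩ := (Nat.dvd_prime_pow Nat.prime_three).mp (orderOf_dvd_of_pow_eq_one hx)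
      refine orderOf_dvd_iff_pow_eq_one.mp ?_
      rcases e with _ | _ | e
      · simp [he]
      · simp [he]
      · exact absurd ((pow_dvd_pow 3 (by omega : 2 ≤ e + 1 + 1)).trans
          (he ▸ orderOf_dvd_of_pow_eq_one (FiniteField.pow_card_sub_one_eq_one x hx0))) h9
    -- the determinant
    have hli : LinearIndependent F ![v, k, w] := by
      rw [Fintype.linearIndependent_iff]
      intro t ht
      simp only [Fin.sum_univ_three, Matrix.cons_val_zero, Matrix.cons_val_one, Matrix.cons_val_two,
        Matrix.tail_cons, Matrix.head_cons] at ht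
      have h0 : t 0 = 0 := by
        have := congrArg N ht
        rw [map_add, map_add, map_smul, map_smul, map_smul, LinearMap.mem_ker.mp hk,
          LinearMap.mem_ker.mp (hBK ⟨v, rfl⟩ : w ∈ K), ← hw, smul_zero, smul_zero, add_zero, add_zero, map_zero,
          smul_eq_zero] at this
        exact this.resolve_right hw0
      have h1 : t 1 = 0 := by
        by_contra h1
        refine hkB ?_
        rw [h0, zero_smul, zero_add] at ht
        have : k = (-((t 1)⁻¹ * t 2)) • w := by
          rw [neg_smul, ← smul_smul, ← smul_neg, ← eq_neg_of_add_eq_zero_left ht, inv_smul_smul₀ h1]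
        rw [this, hspanB]
        exact Submodule.smul_mem _ _ (Submodule.mem_span_singleton_self w)
      rw [h0, h1, zero_smul, zero_smul, zero_add, zero_add, smul_eq_zero] at ht
      intro m
      fin_cases m
      exacts [h0, h1, ht.resolve_right hw0]
    let Bs := basisOfLinearIndependentOfCardEqFinrank hli (by simp)
    have hBs : (Bs : Fin 3 → Fin 3 → F) = ![v, k, w] := coe_basisOfLinearIndependentOfCardEqFinrank hli _
    obtain ⟨x1, x2, hfv⟩ : ∃ x1 x2 : F, x1 • k + x2 • w = f v - a • v :=
      Submodule.mem_span_pair.mp (hKspan ▸ hKmem v)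
    have hmat : LinearMap.toMatrix Bs Bs f = !![a, 0, 0; x1, b, 0; x2, c, a] := by
      ext s t
      rw [LinearMap.toMatrix_apply]
      have key : f (Bs t) = ∑ m, (!![a, 0, 0; x1, b, 0; x2, c, a] : Matrix (Fin 3) (Fin 3) F) m t • Bs m := by
        rw [hBs]
        fin_cases t
        · simp [Fin.sum_univ_three]
          linear_combination (norm := module) -hfv
        · simp [Fin.sum_univ_three]
          exact hbc.symm
        · simp [Fin.sum_univ_three]
          exact ha.symm
      rw [key, Bs.repr_sum_self]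
    have hdet : a * b * a = 1 := by
      have h1 : LinearMap.det f = 1 := by
        rw [hf]; show LinearMap.det (Matrix.toLin' (g : Matrix (Fin 3) (Fin 3) F)) = 1
        rw [LinearMap.det_toLin', g.2]
      rw [← LinearMap.det_toMatrix Bs, hmat, Matrix.det_fin_three] at h1
      simpa using h1
    have ha3 := hcube a haj
    calc b = (a * b * a) * a := by linear_combination -b * ha3
      _ = a := by rw [hdet, one_mul]
  subst hab
  have hTK : ∀ z ∈ K, T z ∈ B := fun z hz => by
    rw [hKspan, Submodule.mem_span_pair] at hz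
    obtain ⟨s, t, rfl⟩ := hz
    rw [map_add, map_smul, map_smul, hTB w ⟨v, rfl⟩, smul_zero, add_zero, hTx k, ← hbc, add_sub_cancel_left, hspanB]
    exact Submodule.smul_mem _ _ (Submodule.smul_mem _ _ (Submodule.mem_span_singleton_self w))
  exact hTB _ (hTK _ (hKmem x))

theorem dvd_pow_sub_one_iff {r q e : ℕ} [Fact r.Prime] (hq : 1 ≤ q) :
    r ∣ q ^ e - 1 ↔ orderOf ((q : ℕ) : ZMod r) ∣ e := by
  rw [orderOf_dvd_iff_pow_eq_one, ← ZMod.natCast_eq_zero_iff, Nat.cast_sub (Nat.one_le_pow _ _ hq),
    Nat.cast_pow, Nat.cast_one, sub_eq_zero]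

/-- Adjacency of an odd prime and the characteristic in the prime graph of PSL(n,q): let F be a finite field of characteristic p with q elements, n ≥ 2 with PSL(n,F) simple, and let r ≠ p be an odd prime dividing the order of PSL(n,F), with k the multiplicative order of q modulo r. Then PSL(n,F) has NO element of order r·p if and only if either k > n − 2, or n = 3, r = 3 and 3 divides q − 1 exactly once. -/
theorem result {F : Type*} [Field F] [Fintype F] (p : ℕ) [Fact p.Prime] [CharP F p] (n : ℕ) (hn : 2 ≤ n) (hsmall : n = 2 → 4 ≤ Fintype.card F)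
    (r : ℕ) (hr : r.Prime) (hr2 : r ≠ 2) (hrp : r ≠ p) (hrG : r ∣ Nat.card (Matrix.ProjectiveSpecialLinearGroup (Fin n) F))
    (k : ℕ) (hk : k = orderOf ((Fintype.card F : ℕ) : ZMod r)) :
    (r * p ∉ Set.range (orderOf : Matrix.ProjectiveSpecialLinearGroup (Fin n) F → ℕ)) ↔
      (n - 2 < k ∨ (n = 3 ∧ r = 3 ∧ 3 ∣ Fintype.card F - 1 ∧ ¬ 9 ∣ Fintype.card F - 1)) := by
  classical
  haveI := Fact.mk hr
  set q := Fintype.card F with hq
  have hq2 : 2 ≤ q := Fintype.one_lt_card
  have hkdvd : ∀ e, r ∣ q ^ e - 1 ↔ k ∣ e := fun e => by rw [hk]; exact dvd_pow_sub_one_iff (by omega)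
  obtain ⟨f₀, hf₀⟩ := FiniteField.card F p
  have hrq : ¬ r ∣ q := fun h => hrp ((Nat.prime_dvd_prime_iff_eq hr Fact.out).mp
    (hr.dvd_of_dvd_pow (show r ∣ p ^ (f₀ : ℕ) by rw [← hf₀.2]; exact h)))
  have hk0 : 0 < k := by
    refine Nat.pos_of_ne_zero fun h => ?_
    rw [hk, orderOf_eq_zero_iff] at h
    have hne : ((q : ℕ) : ZMod r) ≠ 0 := by rwa [Ne, ZMod.natCast_eq_zero_iff]
    exact h (isOfFinOrder_iff_pow_eq_one.mpr ⟨r - 1, by have := hr.two_le; omega, ZMod.pow_card_sub_one_eq_one hne⟩)
  set π := QuotientGroup.mk' (Subgroup.center (Matrix.SpecialLinearGroup (Fin n) F))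
  have hπ1 : ∀ A, π A = 1 ↔ A ∈ Subgroup.center (Matrix.SpecialLinearGroup (Fin n) F) := fun A =>
    QuotientGroup.eq_one_iff A
  constructor
  · -- no such element forces the conditions
    intro hno
    by_contra hcon
    push Not at hcon
    obtain ⟨hkn, hex⟩ := hcon
    apply hno
    obtain ⟨n', rfl⟩ : ∃ n', n = n' + 2 := ⟨n - 2, by omega⟩
    rw [Nat.add_sub_cancel] at hkn
    -- the semisimple block
    obtain ⟨Y, s, hdet, hs0, hYc, hcent⟩ : ∃ (Y : Matrix (Fin n') (Fin n') F) (s : F), Y.det * (s * s) = 1 ∧ s ≠ 0 ∧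
        ¬ Y = s • (1 : Matrix (Fin n') (Fin n') F) ∧ ∃ c : F, Y ^ r = c • (1 : Matrix (Fin n') (Fin n') F) ∧ s ^ r = c := by
      rcases Nat.lt_or_ge n' 2 with h1 | h2
      · obtain rfl : n' = 1 := by omega
        have hk1 : k = 1 := by omega
        have hr1 : r ∣ q - 1 := by have := (hkdvd 1).mpr (by rw [hk1]); rwa [pow_one] at this
        have hgen : ∀ d, d ∣ q - 1 → ∃ c : F, orderOf c = d := fun d hd => by
          obtain ⟨gen, hgen⟩ := IsCyclic.exists_generator (α := Fˣ)
          have ho : orderOf gen = q - 1 := by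
            rw [orderOf_eq_card_of_forall_mem_zpowers hgen, Nat.card_units, Nat.card_eq_fintype_card]
          refine ⟨((gen ^ ((q - 1) / d) : Fˣ) : F), ?_⟩
          rw [orderOf_units, orderOf_pow' _ (Nat.div_pos (Nat.le_of_dvd (by omega) hd) (Nat.pos_of_dvd_of_pos hd (by omega))).ne',
            ho, Nat.gcd_eq_right (Nat.div_dvd_of_dvd hd), Nat.div_div_self hd (by omega)]
        obtain ⟨c, hc9, hc0, hc3⟩ : ∃ c : F, c ^ 3 ≠ 1 ∧ c ≠ 0 ∧ (c⁻¹ * c⁻¹) ^ r = c ^ r := by
          by_cases hr3 : r = 3
          · have h9 := hex rfl hr3 (hr3 ▸ hr1)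
            obtain ⟨c, hc⟩ := hgen 9 h9
            refine ⟨c, fun h => ?_, ?_, ?_⟩
            · have := orderOf_dvd_of_pow_eq_one h; rw [hc] at this; norm_num at this
            · rintro rfl; simp at hc
            · have h9' : c ^ 9 = 1 := by rw [← hc]; exact pow_orderOf_eq_one c
              have hc0 : c ≠ 0 := by rintro rfl; simp at h9'
              rw [hr3, ← mul_inv, inv_pow]
              refine inv_eq_of_mul_eq_one_left ?_
              linear_combination h9'
          · obtain ⟨c, hc⟩ := hgen r hr1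
            refine ⟨c, fun h => hr3 ?_, ?_, ?_⟩
            · have := orderOf_dvd_of_pow_eq_one h; rw [hc] at this
              exact (Nat.prime_dvd_prime_iff_eq hr Nat.prime_three).mp this
            · rintro rfl
              have hcr : (0 : F) ^ r = 1 := by rw [← hc]; exact pow_orderOf_eq_one 0
              rw [zero_pow hr.ne_zero] at hcr; exact zero_ne_one hcr
            · have hcr : c ^ r = 1 := by rw [← hc]; exact pow_orderOf_eq_one c
              rw [mul_pow, inv_pow, hcr, inv_one, one_mul]
        refine ⟨(c⁻¹ * c⁻¹) • 1, c, ?_, hc0, ?_, c ^ r, ?_, rfl⟩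
        · rw [Matrix.det_smul, Matrix.det_one, Fintype.card_fin, pow_one, mul_one]; field_simp
        · intro h
          have h' := congrFun (congrFun h 0) 0
          simp at h'
          apply hc9
          field_simp at h'
          linear_combination -h'
        · rw [smul_pow, one_pow, hc3]
      · have hdvd : r ∣ Nat.card (Matrix.SpecialLinearGroup (Fin n') F) := by
          refine Cfsg.Agent.S2364.dvd_card_SL h2 hr (j := k) hkn ?_
          rw [Classical.card_GL_fin]
          refine dvd_trans ?_ (Finset.dvd_prod_of_mem _ (Finset.mem_univ (⟨0, hk0⟩ : Fin k)))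
          simpa using (hkdvd k).mpr dvd_rfl
        obtain ⟨X, hX⟩ := exists_prime_orderOf_dvd_card' (G := Matrix.SpecialLinearGroup (Fin n') F) r hdvd
        refine ⟨X.1, 1, by simp [X.2], one_ne_zero, fun h => ?_, 1, ?_, one_pow r⟩
        · have : X = 1 := Subtype.ext (by rw [h, one_smul]; rfl)
          rw [this, orderOf_one] at hX
          exact hr.ne_one hX.symm
        · rw [one_smul, ← Matrix.SpecialLinearGroup.coe_pow, ← hX, pow_orderOf_eq_one]; rfl
    obtain ⟨c, hYr, hsr⟩ := hcent
    let e : Fin n' ⊕ Fin 2 ≃ Fin (n' + 2) := finSumFinEquiv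
    let J : F → Matrix (Fin 2) (Fin 2) F := fun x => !![1, x; 0, 1]
    let mk : Matrix (Fin n') (Fin n') F → Matrix (Fin 2) (Fin 2) F → Matrix (Fin (n' + 2)) (Fin (n' + 2)) F :=
      fun P Q => (Matrix.fromBlocks P 0 0 Q).submatrix e.symm e.symm
    have hmkmul : ∀ P Q P' Q', mk P Q * mk P' Q' = mk (P * P') (Q * Q') := fun P Q P' Q' => by
      simp only [mk]
      rw [Matrix.submatrix_mul_equiv, Matrix.fromBlocks_multiply]
      simp
    have hmkdet : ∀ P Q, (mk P Q).det = P.det * Q.det := fun P Q => by
      simp only [mk]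
      rw [Matrix.det_submatrix_equiv_self, Matrix.det_fromBlocks_zero₂₁]
    let A : Matrix.SpecialLinearGroup (Fin (n' + 2)) F := ⟨mk Y (s • 1), by
      rw [hmkdet, Matrix.det_smul, Matrix.det_one, Fintype.card_fin, mul_one, sq, hdet]⟩
    let U : Matrix.SpecialLinearGroup (Fin (n' + 2)) F := ⟨mk 1 (J 1), by
      rw [hmkdet, Matrix.det_one, one_mul]; simp [J, Matrix.det_fin_two]⟩
    have hcomm : Commute A U := Subtype.ext (by
      show mk Y (s • 1) * mk 1 (J 1) = mk 1 (J 1) * mk Y (s • 1)
      rw [hmkmul, hmkmul, mul_one, one_mul, Matrix.smul_mul, Matrix.mul_smul, one_mul, mul_one])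
    have hpow : ∀ P Q m, mk P Q ^ m = mk (P ^ m) (Q ^ m) := fun P Q m => by
      induction m with
      | zero =>
        simp only [pow_zero, mk]
        rw [Matrix.fromBlocks_one, Matrix.submatrix_one_equiv]
      | succ m ih => rw [pow_succ, ih, hmkmul, pow_succ, pow_succ]
    have hJ : ∀ m : ℕ, J 1 ^ m = J (m : F) := fun m => by
      induction m with
      | zero => simp [J, Matrix.one_fin_two]
      | succ m ih => rw [pow_succ, ih]; simp [J, add_comm]
    have hscal : ∀ {B : Matrix.SpecialLinearGroup (Fin (n' + 2)) F} {x : F}, (B : Matrix _ _ F) = mk (x • 1) (x • 1) →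
        π B = 1 := fun {B x} h => by
      rw [hπ1]
      refine mem_center_of_scalar (c := x) ?_
      show Matrix.toLin' (B : Matrix (Fin (n' + 2)) (Fin (n' + 2)) F) = _
      rw [h]
      simp only [mk]
      rw [show (Matrix.fromBlocks (x • (1 : Matrix (Fin n') (Fin n') F)) 0 0 (x • (1 : Matrix (Fin 2) (Fin 2) F))).submatrix e.symm e.symm =
          x • (1 : Matrix (Fin (n' + 2)) (Fin (n' + 2)) F) by
        ext a b
        obtain ⟨a, rfl⟩ := e.surjective a
        obtain ⟨b, rfl⟩ := e.surjective b
        rcases a with a | a <;> rcases b with b | b <;> simp [Matrix.one_apply],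
        map_smul, Matrix.toLin'_one]
      rfl
    have hoA : orderOf (π A) = r := by
      refine orderOf_eq_prime ?_ ?_
      · rw [← map_pow]
        refine hscal (x := c) ?_
        rw [Matrix.SpecialLinearGroup.coe_pow]
        show mk Y (s • 1) ^ r = _
        rw [hpow, hYr, smul_pow, one_pow, hsr]
      · rw [Ne, hπ1, Matrix.SpecialLinearGroup.mem_center_iff]
        rintro ⟨x, -, hx⟩
        have hx' : ∀ i j : Fin n' ⊕ Fin 2, Matrix.fromBlocks Y 0 0 (s • (1 : Matrix (Fin 2) (Fin 2) F)) i j = if i = j then x else 0 := fun i j => by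
          have h := congrFun (congrFun hx (e i)) (e j)
          simp [A, mk, Matrix.scalar_apply, Matrix.diagonal_apply] at h
          exact h.symm
        have hs : s = x := by have := hx' (.inr 0) (.inr 0); simpa using this
        refine hYc (Matrix.ext fun i j => ?_)
        have := hx' (.inl i) (.inl j)
        simp only [Matrix.fromBlocks_apply₁₁, Sum.inl.injEq] at this
        rw [this, hs]
        simp [Matrix.one_apply]
    have hoU : orderOf (π U) = p := by
      refine orderOf_eq_prime ?_ ?_
      · rw [← map_pow]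
        refine hscal (x := 1) ?_
        rw [Matrix.SpecialLinearGroup.coe_pow]
        show mk 1 (J 1) ^ p = _
        rw [hpow, hJ, CharP.cast_eq_zero, one_pow, one_smul, one_smul]
        simp [J, Matrix.one_fin_two]
      · rw [Ne, hπ1, Matrix.SpecialLinearGroup.mem_center_iff]
        rintro ⟨x, -, hx⟩
        have := congrFun (congrFun hx (e (.inr 0))) (e (.inr 1))
        simp [U, mk, J] at this
    exact ⟨π (A * U), by
      rw [map_mul, (hcomm.map π).orderOf_mul_eq_mul_orderOf_of_coprime, hoA, hoU]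
      rw [hoA, hoU]
      exact (Nat.coprime_primes hr Fact.out).mpr hrp⟩
  · -- the conditions exclude such an element
    rintro hcase ⟨x, hx⟩
    have ha : orderOf (x ^ r) = p := by
      rw [orderOf_pow' _ hr.ne_zero, hx, Nat.gcd_mul_right_left, Nat.mul_div_cancel_left _ hr.pos]
    have hb : orderOf (x ^ p) = r := by
      rw [orderOf_pow' _ (Fact.out : p.Prime).ne_zero, hx, Nat.gcd_mul_left_left, Nat.mul_div_cancel _ (Fact.out : p.Prime).pos]
    rcases Nat.lt_or_ge n 4 with hn4 | hn4
    swap
    · have h := Cfsg.Agent.S2364.result p n hn4 (x ^ r) (x ^ p) ha ((Commute.refl x).pow_pow r p)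
        (Nat.mem_primeFactors.mpr ⟨hr, by rw [hb], by rw [hb]; exact hr.ne_zero⟩)
      have h' : r ∣ Nat.card (GL (Fin (n - 2)) F) := by
        have : Nonempty (Fin (n - 2)) := ⟨⟨0, by omega⟩⟩
        rw [Classical.card_GL_eq_mul_card_SL]
        exact (Nat.mem_primeFactors.mp h).2.1.mul_left _
      rw [Classical.card_GL_fin] at h'
      obtain ⟨i, -, hi⟩ := (Prime.dvd_finsetProd_iff hr.prime _).mp h'
      rw [show Fintype.card F ^ (n - 2) - Fintype.card F ^ (i : ℕ) = q ^ (i : ℕ) * (q ^ (n - 2 - i) - 1) by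
        rw [Nat.mul_sub, mul_one, ← pow_add, Nat.add_sub_cancel' i.2.le]] at hi
      have h1 := (hr.dvd_mul.mp hi).resolve_left fun h => hrq (hr.dvd_of_dvd_pow h)
      have h2 := Nat.le_of_dvd (by omega) ((hkdvd _).mp h1)
      omega
    · have hn23 : n = 2 ∨ n = 3 := by omega
      have lift : ∀ (s : ℕ) (_ : s.Prime) (y : Matrix.ProjectiveSpecialLinearGroup (Fin n) F), orderOf y = s →
          ∃ (A : Matrix.SpecialLinearGroup (Fin n) F) (i m : ℕ), A ^ s ^ i = 1 ∧ π A = y ^ m ∧ π A ≠ 1 := by
        intro s hs y hy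
        obtain ⟨X, hX⟩ := QuotientGroup.mk'_surjective _ y
        obtain ⟨i, m, hm', he⟩ := Nat.exists_eq_pow_mul_and_not_dvd (orderOf_pos X).ne' s hs.ne_one
        refine ⟨X ^ m, i, m, by rw [← pow_mul, mul_comm, ← he, pow_orderOf_eq_one], by rw [map_pow]; exact congrArg (· ^ m) hX, ?_⟩
        rw [map_pow, hX]
        intro h1
        exact hm' (hy ▸ orderOf_dvd_of_pow_eq_one h1)
      obtain ⟨u, i, m₁, hu, hua, hu1⟩ := lift p Fact.out _ ha
      obtain ⟨g, j, m₂, hg, hgb, hg1⟩ := lift r hr _ hb
      have hc : Commute u g := by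
        set z := u * g * u⁻¹ * g⁻¹ with hz
        have hzc : z ∈ Subgroup.center (Matrix.SpecialLinearGroup (Fin n) F) := by
          rw [← hπ1, hz, map_mul, map_mul, map_mul, map_inv, map_inv, hua, hgb, mul_inv_eq_one, mul_inv_eq_iff_eq_mul]
          exact (((Commute.refl x).pow_pow r p).pow_pow m₁ m₂).eq
        have hzz : ∀ y, Commute z y := fun y => (Subgroup.mem_center_iff.mp hzc y).symm
        have hzr : z ^ r ^ j = 1 := by
          have h1 : (u * g * u⁻¹) ^ r ^ j = 1 := by rw [conj_pow, hg, mul_one, mul_inv_cancel]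
          rw [show u * g * u⁻¹ = z * g by rw [hz]; group, (hzz g).mul_pow, hg, mul_one] at h1
          exact h1
        have hzp : z ^ p ^ i = 1 := by
          have h1 : (g * u⁻¹ * g⁻¹) ^ p ^ i = 1 := by rw [conj_pow, inv_pow, hu, inv_one, mul_one, mul_inv_cancel]
          rw [show g * u⁻¹ * g⁻¹ = u⁻¹ * z by rw [hz]; group, (hzz u⁻¹).symm.mul_pow, inv_pow, hu, inv_one, one_mul] at h1
          exact h1
        have hz1 : z = 1 := orderOf_eq_one_iff.mp (Nat.eq_one_of_dvd_coprimes
          ((Nat.coprime_primes hr Fact.out).mpr hrp |>.pow j i) (orderOf_dvd_of_pow_eq_one hzr)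
          (orderOf_dvd_of_pow_eq_one hzp))
        rw [hz, mul_inv_eq_one, mul_inv_eq_iff_eq_mul] at hz1
        exact hz1
      have hcen := small hr hn23 (fun h3 hdv => by
        rcases hcase with h | ⟨-, h, -, h'⟩
        · have := Nat.le_of_dvd one_pos ((hkdvd 1).mp (by rwa [pow_one]))
          omega
        · exact ⟨h, h'⟩) u g hu (fun h => hu1 (by rw [h, map_one])) hg hc
      rw [← hπ1, map_pow] at hcen
      refine hg1 (orderOf_eq_one_iff.mp (Nat.eq_one_of_dvd_coprimes
        ((Nat.coprime_primes hr Fact.out).mpr hrp |>.pow j 2) ?_ (orderOf_dvd_of_pow_eq_one hcen)))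
      exact orderOf_dvd_of_pow_eq_one (by rw [← map_pow, hg, map_one])

end Cfsg.Agent.S2470
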