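import Cfsg.Statements.S2471
import Cfsg.Agent.Lib.SL2.ClassProduct

set_option autoImplicit false
open Cfsg

namespace Cfsg.Agent.S2471

/-- In PSL(2,q) with q odd, the characteristic p is isolated from 2 in the prime graph: for F a finite field of odd characteristic p with at least 5 elements, PSL(2,F) has no element of order 2p. -/
theorem result {F : Type*} [Field F] [Fintype F] (p : ℕ) [Fact p.Prime] [CharP F p] (hp : p ≠ 2) (h5 : 5 ≤ Fintype.card F) (g : Matrix.ProjectiveSpecialLinearGroup (Fin 2) F) :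
    orderOf g ≠ 2 * p := by
  intro h
  have h4' : 4 ≤ Nat.card F := by rw [Nat.card_eq_fintype_card]; omega
  have hm : orderOf g ∈ Set.range (orderOf : Matrix.ProjectiveSpecialLinearGroup (Fin 2) F → ℕ) :=
    ⟨g, rfl⟩
  rw [CfsgLib.SL2.spectrum_PSL p h4', Set.mem_setOf_eq, h] at hm
  have hpp := (Fact.out : p.Prime)
  obtain ⟨m, -, hm2⟩ := FiniteField.card F p
  have hdvd : p ∣ Nat.card F := by
    rw [Nat.card_eq_fintype_card, hm2]; exact dvd_pow_self p m.pos.ne'
  rcases hm with hm | hm | hm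
  · have := Nat.le_of_dvd hpp.pos hm
    have := hpp.pos
    omega
  all_goals
    have h1 : p ∣ (_ : ℕ) := dvd_trans (Dvd.intro_left 2 rfl) (hm.trans (Nat.div_dvd_of_dvd ?_))
  · have h2 := Nat.dvd_sub hdvd h1
    rw [Nat.sub_sub_self (by omega)] at h2
    exact hpp.not_dvd_one h2
  · exact Nat.gcd_dvd_right 2 _
  · have h2 := Nat.dvd_sub h1 hdvd
    rw [Nat.add_sub_cancel_left] at h2
    exact hpp.not_dvd_one h2
  · have := Nat.gcd_dvd_right 2 (Nat.card F - 1)
    rcases (Nat.dvd_prime Nat.prime_two).1 (Nat.gcd_dvd_left 2 (Nat.card F - 1)) with e | e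
    · rw [e]; exact one_dvd _
    · rw [e] at this ⊢; omega

end Cfsg.Agent.S2471
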