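import Cfsg.Statements.S2477
import Cfsg.Agent.Lib.Spectrum.Alternating

set_option autoImplicit false
set_option linter.style.haveILetI false
open Cfsg

namespace Cfsg.Agent.S2477

open CfsgLib.AltSpectrum Equiv

/-- The set of element orders of the alternating group of degree 10 is {1, 2, 3, 4, 5, 6, 7, 8, 9, 10, 12, 15, 21}. -/
theorem result : Set.range (orderOf : alternatingGroup (Fin 10) → ℕ) = {1, 2, 3, 4, 5, 6, 7, 8, 9, 10, 12, 15, 21} := by
  refine Set.Subset.antisymm ?_ ?_
  · rintro _ ⟨g, rfl⟩
    simpa using orderOf_ten g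
  · intro n hn
    simp only [Set.mem_insert_iff, Set.mem_singleton_iff] at hn
    rcases hn with rfl | rfl | rfl | rfl | rfl | rfl | rfl | rfl | rfl | rfl | rfl | rfl | rfl
    · exact ⟨1, orderOf_one⟩
    · exact mem_range 2 (c[(0 : Fin 10), 1] * c[2, 3]) (by decide +kernel) (by decide +kernel) (by omega) (by decide +kernel)
    · exact mem_range 3 (c[(0 : Fin 10), 1, 2]) (by decide +kernel) (by decide +kernel) (by omega) (by decide +kernel)
    · exact mem_range 4 (c[(0 : Fin 10), 1, 2, 3] * c[4, 5]) (by decide +kernel) (by decide +kernel) (by omega) (by decide +kernel)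
    · exact mem_range 5 (c[(0 : Fin 10), 1, 2, 3, 4]) (by decide +kernel) (by decide +kernel) (by omega) (by decide +kernel)
    · exact mem_range 6 (c[(0 : Fin 10), 1, 2] * (c[3, 4] * c[5, 6])) (by decide +kernel) (by decide +kernel) (by omega) (by decide +kernel)
    · exact mem_range 7 (c[(0 : Fin 10), 1, 2, 3, 4, 5, 6]) (by decide +kernel) (by decide +kernel) (by omega) (by decide +kernel)
    · exact mem_range 8 (c[(0 : Fin 10), 1, 2, 3, 4, 5, 6, 7] * c[8, 9]) (by decide +kernel) (by decide +kernel) (by omega) (by decide +kernel)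
    · exact mem_range 9 (c[(0 : Fin 10), 1, 2, 3, 4, 5, 6, 7, 8]) (by decide +kernel) (by decide +kernel) (by omega) (by decide +kernel)
    · exact mem_range 10 (c[(0 : Fin 10), 1, 2, 3, 4] * (c[5, 6] * c[7, 8])) (by decide +kernel) (by decide +kernel) (by omega) (by decide +kernel)
    · exact mem_range 12 (c[(0 : Fin 10), 1, 2, 3] * (c[4, 5] * c[6, 7, 8])) (by decide +kernel) (by decide +kernel) (by omega) (by decide +kernel)
    · exact mem_range 15 (c[(0 : Fin 10), 1, 2, 3, 4] * c[5, 6, 7]) (by decide +kernel) (by decide +kernel) (by omega) (by decide +kernel)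
    · exact mem_range 21 (c[(0 : Fin 10), 1, 2, 3, 4, 5, 6] * c[7, 8, 9]) (by decide +kernel) (by decide +kernel) (by omega) (by decide +kernel)

end Cfsg.Agent.S2477
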