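import Cfsg.Statements.S2479
import Cfsg.Agent.Lib.Classical.SLClassBound.Bound

set_option autoImplicit false
open Cfsg

namespace Cfsg.Agent.S2479

/-- The number of conjugacy classes of SL(n,q): for F a finite field with q elements, the number k of conjugacy classes of SL(n,F) satisfies q^(n−1) < k and k ≤ (5/2)·q^(n−1) for n ≥ 2, and k ≤ q^(n−1) + 3q^(n−2) for n ≥ 3. -/
theorem result {F : Type*} [Field F] [Fintype F] (n : ℕ) (hn : 2 ≤ n) :
    Fintype.card F ^ (n - 1) < Nat.card (ConjClasses (Matrix.SpecialLinearGroup (Fin n) F)) ∧ 2 * Nat.card (ConjClasses (Matrix.SpecialLinearGroup (Fin n) F)) ≤ 5 * Fintype.card F ^ (n - 1) ∧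
      (3 ≤ n → Nat.card (ConjClasses (Matrix.SpecialLinearGroup (Fin n) F)) ≤ Fintype.card F ^ (n - 1) + 3 * Fintype.card F ^ (n - 2)) := by
  classical
  obtain ⟨p, hchar⟩ := CharP.exists F
  haveI : Fact p.Prime := ⟨CharP.char_is_prime F p⟩
  have hq : 2 ≤ Fintype.card F := Fintype.one_lt_card
  obtain ⟨h2, h3⟩ := CfsgLib.Classical.SLClassBound.card_sl_bounds (F := F) n hn
  refine ⟨?_, ?_, h3⟩
  · have hss := CfsgLib.Classical.SemisimpleCount.card_sl (F := F) (p := p) rfl n (by omega)
    rw [← hss]
    let i : Fin n := ⟨0, by omega⟩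
    let j : Fin n := ⟨1, by omega⟩
    have hij : i ≠ j := by simp [i, j, Fin.ext_iff]
    let T : Matrix.SpecialLinearGroup (Fin n) F :=
      ⟨Matrix.transvection i j 1, Matrix.det_transvection_of_ne i j hij 1⟩
    refine Finite.card_subtype_lt (x := ConjClasses.mk T) ?_
    rintro ⟨g, hg, hc⟩
    obtain ⟨c, hcT⟩ := isConj_iff.mp (ConjClasses.mk_eq_mk_iff_isConj.mp hg)
    have ho : orderOf T = orderOf g := by
      rw [← hcT, ← MulAut.conj_apply, MulEquiv.orderOf_eq]
    have hTp : ∀ k : ℕ, (T : Matrix (Fin n) (Fin n) F) ^ k = Matrix.transvection i j (k : F) := fun k => by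
      induction k with
      | zero => simp
      | succ k ih =>
        rw [pow_succ, ih]
        show Matrix.transvection i j (k : F) * Matrix.transvection i j 1 = _
        rw [Matrix.transvection_mul_transvection_same _ _ hij, Nat.cast_succ]
    have hp : orderOf T = p := orderOf_eq_prime (Subtype.ext (by
      rw [Matrix.SpecialLinearGroup.coe_pow, hTp, CharP.cast_eq_zero, Matrix.transvection_zero]
      rfl)) fun h => by
      have h1 := congrFun (congrFun (congrArg Subtype.val h) i) j
      simp [T, Matrix.transvection, hij] at h1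
    rw [← ho, hp, Nat.coprime_self] at hc
    exact (Fact.out : p.Prime).ne_one hc
  · rcases (show n = 2 ∨ 3 ≤ n by omega) with rfl | hn3
    · have h := h2 rfl
      show 2 * _ ≤ 5 * Fintype.card F ^ 1
      rw [pow_one]
      rcases (show Fintype.card F = 2 ∨ 3 ≤ Fintype.card F by omega) with e | e
      · simp [e] at h ⊢; omega
      · rw [min_eq_left (by omega)] at h; omega
    · obtain ⟨m, rfl⟩ : ∃ m, n = m + 2 := ⟨n - 2, by omega⟩
      have h := h3 hn3
      rw [show m + 2 - 1 = m + 1 by omega, pow_succ] at h ⊢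
      rw [Nat.add_sub_cancel] at h
      have := Nat.mul_le_mul_left (Fintype.card F ^ m) hq
      nlinarith

end Cfsg.Agent.S2479
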