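import Cfsg.Statements.S2480
import Cfsg.Agent.Lib.Classical.SLClassBound.Projective

set_option autoImplicit false
open Cfsg

namespace Cfsg.Agent.S2480

/-- The number of conjugacy classes of PSL(n,q): for F a finite field with q elements, n ≥ 2 and d = gcd(n, q − 1), the number k of conjugacy classes of PSL(n,F) satisfies q^(n−1) ≤ d·k ≤ q^(n−1) + 5q^(n−2). -/
theorem result {F : Type*} [Field F] [Fintype F] (n : ℕ) (hn : 2 ≤ n) :
    Fintype.card F ^ (n - 1) ≤ Nat.gcd n (Fintype.card F - 1) * Nat.card (ConjClasses (Matrix.ProjectiveSpecialLinearGroup (Fin n) F)) ∧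
      Nat.gcd n (Fintype.card F - 1) * Nat.card (ConjClasses (Matrix.ProjectiveSpecialLinearGroup (Fin n) F)) ≤ Fintype.card F ^ (n - 1) + 5 * Fintype.card F ^ (n - 2) := by
  classical
  refine ⟨?_, CfsgLib.Classical.SLClassBound.card_psl_le n hn⟩
  obtain ⟨p, hchar⟩ := CharP.exists F
  haveI : Fact p.Prime := ⟨CharP.char_is_prime F p⟩
  haveI : NeZero n := ⟨by omega⟩
  letI := Fintype.ofFinite (Subgroup.center (Matrix.SpecialLinearGroup (Fin n) F))
  have hZ : Nat.card (Subgroup.center (Matrix.SpecialLinearGroup (Fin n) F)) = Nat.gcd n (Fintype.card F - 1) := by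
    rw [CfsgLib.Classical.card_center_SL, Fintype.card_fin, Nat.card_eq_fintype_card]
  rw [← hZ, CfsgLib.Classical.SLClassBound.card_classes_quotient_center]
  refine le_trans ?_ (Finset.single_le_sum (fun _ _ => Nat.zero_le _) (Finset.mem_univ 1))
  rw [← CfsgLib.Classical.SemisimpleCount.card_sl (F := F) (p := p) rfl n (by omega)]
  refine (Nat.card_le_card_of_injective _ Subtype.val_injective).trans (le_of_eq ?_)
  refine (Nat.card_congr (Equiv.subtypeUnivEquiv fun c => ?_)).symm
  obtain ⟨g, rfl⟩ := ConjClasses.exists_rep c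
  rw [CfsgLib.Classical.SLClassBound.centralMul_mk, OneMemClass.coe_one, one_mul]

end Cfsg.Agent.S2480
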