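import Cfsg.Statements.S2481
import Cfsg.Agent.Lib.Classical.SUClassBound.Tuples

set_option autoImplicit false
open Cfsg

namespace Cfsg.Agent.S2481

/-- The number of conjugacy classes of SU(n,q): for n ≥ 2, q a prime power and F the field with q² elements, the number k of conjugacy classes of SU(n,q) (the determinant-one isometries of the standard Hermitian form on F^n) satisfies q^(n−1) ≤ k ≤ 8.26·q^(n−1). -/
theorem result {F : Type*} [Field F] [Fintype F] (n q : ℕ) (hn : 2 ≤ n) (hF : Fintype.card F = q ^ 2) :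
    q ^ (n - 1) ≤ Nat.card (ConjClasses (Cfsg.SU n F q)) ∧ 100 * Nat.card (ConjClasses (Cfsg.SU n F q)) ≤ 826 * q ^ (n - 1) := by
  classical
  obtain ⟨p, hchar⟩ := CharP.exists F
  haveI : Fact p.Prime := ⟨CharP.char_is_prime F p⟩
  obtain ⟨F₀, _, _, hF₀⟩ := CfsgLib.Classical.UnitaryConj.exists_field_of_card_sq hF
  obtain ⟨a, b, hab⟩ := CfsgLib.Classical.RestrictScalars.exists_ab (F := F₀)
  obtain ⟨fr⟩ := CfsgLib.Classical.RestrictScalars.exists_Frame hF₀ hF a b hab
  haveI : NeZero n := ⟨by omega⟩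
  refine ⟨?_, CfsgLib.Classical.SUClassBound.card_su_bound fr hF₀ hF hn⟩
  rw [← CfsgLib.Classical.UnitarySemisimple.card_su (p := p) hF (by omega)]
  exact Finite.card_subtype_le _

end Cfsg.Agent.S2481
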