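import Mathlib
import Cfsg.Statements.S2486
import Cfsg.Agent.Lib.SLBlocks.Unique

set_option autoImplicit false
open Cfsg

namespace Cfsg.Agent.S2486

open CfsgLib Matrix
open scoped MatrixGroups Pointwise

instance : Fact (Nat.Prime 2) := ⟨Nat.prime_two⟩

variable {n : ℕ}

local notation "U₀" => (AutPSL.unitri : Subgroup SL(n, ZMod 2))

theorem conj_transvection {σ : Equiv.Perm (Fin n)} {w : SL(n, ZMod 2)}
    (hw : ∀ i j, (w : Matrix (Fin n) (Fin n) (ZMod 2)) i j = if i = σ j then 1 else 0)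
    {i j : Fin n} (h : i ≠ j) :
    w * Matrix.SpecialLinearGroup.transvection h (1 : ZMod 2) * w⁻¹ =
      Matrix.SpecialLinearGroup.transvection (σ.injective.ne h) (1 : ZMod 2) := by
  rw [mul_inv_eq_iff_eq_mul]
  refine Subtype.ext ?_
  rw [Matrix.SpecialLinearGroup.coe_mul, Matrix.SpecialLinearGroup.coe_mul,
    Matrix.SpecialLinearGroup.transvection_coe, Matrix.SpecialLinearGroup.transvection_coe,
    Matrix.mul_add, Matrix.add_mul, Matrix.one_mul, Matrix.mul_one]
  congr 1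
  ext a b
  rcases eq_or_ne a (σ i) with rfl | ha
  · rcases eq_or_ne b j with rfl | hb
    · simp [hw]
    · rw [Matrix.mul_single_apply_of_ne _ _ _ _ _ hb, Matrix.single_mul_apply_same, hw,
        if_neg fun e => hb (σ.injective e).symm, mul_zero]
  · rw [Matrix.single_mul_apply_of_ne _ _ _ _ _ ha]
    rcases eq_or_ne b j with rfl | hb
    · rw [Matrix.mul_single_apply_same, hw, if_neg ha, zero_mul]
    · rw [Matrix.mul_single_apply_of_ne _ _ _ _ _ hb]

theorem transvection_ne_one {i j : Fin n} (h : i ≠ j) :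
    Matrix.SpecialLinearGroup.transvection h (1 : ZMod 2) ≠ 1 := fun e => by
  have := congrArg (fun x : SL(n, ZMod 2) => (x : Matrix (Fin n) (Fin n) (ZMod 2)) i j) e
  simp [Matrix.SpecialLinearGroup.transvection_coe, h] at this

theorem decompose (g : SL(n, ZMod 2)) : ∃ (σ : Equiv.Perm (Fin n)) (u₁ u₂ w : SL(n, ZMod 2)),
    u₁ ∈ U₀ ∧ u₂ ∈ U₀ ∧ g = u₁ * w * u₂ ∧
      ∀ i j, (w : Matrix (Fin n) (Fin n) (ZMod 2)) i j = if i = σ j then 1 else 0 := by
  obtain ⟨σ, u₁, u₂, w, s, h1, h2, hg, hs, hw⟩ := SLBlocks.exists_bruhat_SL g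
  have hone : ∀ x : ZMod 2, x ≠ 0 → x = 1 := by decide
  exact ⟨σ, u₁, u₂, w, h1, h2, hg, fun i j => by rw [hw, hone _ (hs i)]⟩

theorem conj_smul_eq (u : SL(n, ZMod 2)) (hu : u ∈ U₀) : MulAut.conj u • U₀ = U₀ := by
  ext x
  rw [Subgroup.mem_pointwise_smul_iff_inv_smul_mem, ← map_inv, MulAut.smul_def, MulAut.conj_apply,
    inv_inv]
  exact ⟨fun h => by simpa [mul_assoc] using mul_mem (mul_mem hu h) (inv_mem hu),
    fun h => mul_mem (mul_mem (inv_mem hu) h) hu⟩

/-- Unitriangular groups over the field with two elements are self-normalizing. -/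
theorem self_normalizing {g : SL(n, ZMod 2)} (hg : MulAut.conj g • U₀ = U₀) : g ∈ U₀ := by
  obtain ⟨σ, u₁, u₂, w, h1, h2, rfl, hw⟩ := decompose g
  rw [map_mul, map_mul, mul_smul, mul_smul, conj_smul_eq u₂ h2] at hg
  have hw' : MulAut.conj w • U₀ = U₀ := by
    rw [← smul_left_cancel_iff (MulAut.conj u₁), hg, conj_smul_eq u₁ h1]
  have hmono : StrictMono σ := fun i j hij => by
    rcases lt_trichotomy (σ i) (σ j) with h | h | h
    · exact h
    · exact absurd (σ.injective h) hij.ne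
    · exfalso
      have hm : Matrix.SpecialLinearGroup.transvection (σ.injective.ne hij.ne) (1 : ZMod 2) ∈ U₀ := by
        rw [← conj_transvection hw hij.ne, ← hw']
        exact ⟨_, AutPSL.transvection_mem_unitri hij 1, rfl⟩
      have := hm (σ i) (σ j) h.le
      rw [if_neg (σ.injective.ne hij.ne), Matrix.SpecialLinearGroup.transvection_coe, Matrix.add_apply,
        Matrix.one_apply_ne (σ.injective.ne hij.ne), Matrix.single_apply_same, zero_add] at this
      exact one_ne_zero this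
  have hσ : ∀ i, σ i = i := fun i => le_antisymm (hmono.le_id i) (hmono.id_le i)
  have hw1 : w = 1 := Subtype.ext (Matrix.ext fun i j => by
    rw [hw, hσ, Matrix.SpecialLinearGroup.coe_one, Matrix.one_apply])
  rw [hw1, mul_one]
  exact mul_mem h1 h2

/-- The Sylow subgroups opposite to the unitriangular group form one orbit under it. -/
theorem opposite {g g' : SL(n, ZMod 2)} (hg : U₀ ⊓ MulAut.conj g • U₀ = ⊥)
    (hg' : U₀ ⊓ MulAut.conj g' • U₀ = ⊥) :
    ∃ u ∈ U₀, MulAut.conj g' • U₀ = MulAut.conj u • MulAut.conj g • U₀ := by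
  have key : ∀ g : SL(n, ZMod 2), U₀ ⊓ MulAut.conj g • U₀ = ⊥ → ∃ u w : SL(n, ZMod 2), u ∈ U₀ ∧
      MulAut.conj g • U₀ = MulAut.conj u • MulAut.conj w • U₀ ∧
      ∀ i j, (w : Matrix (Fin n) (Fin n) (ZMod 2)) i j = if i = Fin.rev j then 1 else 0 := by
    intro g hg
    obtain ⟨σ, u₁, u₂, w, h1, h2, rfl, hw⟩ := decompose g
    rw [map_mul, map_mul, mul_smul, mul_smul, conj_smul_eq u₂ h2] at hg
    have hmono : StrictMono fun i => (σ i).rev := fun i j hij => by
      refine Fin.rev_lt_rev.mpr ?_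
      rcases lt_trichotomy (σ i) (σ j) with h | h | h
      · exfalso
        set T := Matrix.SpecialLinearGroup.transvection (σ.injective.ne hij.ne) (1 : ZMod 2)
        have hmem : T ∈ MulAut.conj w • U₀ := by
          have h5 : T = MulAut.conj w • Matrix.SpecialLinearGroup.transvection hij.ne (1 : ZMod 2) :=
            (conj_transvection hw hij.ne).symm
          rw [h5]
          exact Subgroup.smul_mem_pointwise_smul _ _ _ (AutPSL.transvection_mem_unitri hij 1)
        have hT : T ∈ U₀ := AutPSL.transvection_mem_unitri h 1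
        have hx : u₁ * T * u₁⁻¹ ∈ U₀ ⊓ MulAut.conj u₁ • MulAut.conj w • U₀ :=
          ⟨Subgroup.mul_mem _ (Subgroup.mul_mem _ h1 hT) (Subgroup.inv_mem _ h1), ⟨T, hmem, rfl⟩⟩
        rw [hg, Subgroup.mem_bot, conj_eq_one_iff] at hx
        exact transvection_ne_one _ hx
      · exact absurd (σ.injective h) hij.ne
      · exact h
    have hσ : ∀ i, σ i = i.rev := fun i => by
      have h : (σ i).rev = i := le_antisymm (hmono.le_id i) (hmono.id_le i)
      rw [← Fin.rev_rev (σ i), h]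
    refine ⟨u₁, w, h1, ?_, fun i j => by rw [hw, hσ]⟩
    rw [map_mul, map_mul, mul_smul, mul_smul, conj_smul_eq u₂ h2]
  obtain ⟨u, w, hu, he, hw⟩ := key g hg
  obtain ⟨u', w', hu', he', hw'⟩ := key g' hg'
  have : w' = w := Subtype.ext (Matrix.ext fun i j => by rw [hw, hw'])
  subst this
  exact ⟨u' * u⁻¹, mul_mem hu' (inv_mem hu), by
    rw [he, he', smul_smul (MulAut.conj (u' * u⁻¹)), ← map_mul, inv_mul_cancel_right]⟩

theorem exists_conj_U (P : Sylow 2 SL(n, ZMod 2)) :
    ∃ a : SL(n, ZMod 2), (P : Subgroup SL(n, ZMod 2)) = MulAut.conj a • U₀ := by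
  obtain ⟨a, ha⟩ := MulAction.exists_smul_eq SL(n, ZMod 2)
    (Sylow.ofCard U₀ (AutPSL.card_unitri_eq_pow 2)) P
  exact ⟨a, by rw [← ha]; rfl⟩

theorem opposite_sylow (P Q Q' : Sylow 2 SL(n, ZMod 2))
    (h : (P : Subgroup SL(n, ZMod 2)) ⊓ Q = ⊥) (h' : (P : Subgroup SL(n, ZMod 2)) ⊓ Q' = ⊥) :
    ∃ u ∈ P, (Q' : Subgroup SL(n, ZMod 2)) = MulAut.conj u • (Q : Subgroup SL(n, ZMod 2)) := by
  obtain ⟨a, hP⟩ := exists_conj_U P
  obtain ⟨b, hQ⟩ := exists_conj_U Q
  obtain ⟨c, hQ'⟩ := exists_conj_U Q'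
  have hb : ∀ {b : SL(n, ZMod 2)}, MulAut.conj a • U₀ ⊓ MulAut.conj b • U₀ = ⊥ →
      U₀ ⊓ MulAut.conj (a⁻¹ * b) • U₀ = ⊥ := fun {b} hb => by
    have := congrArg (MulAut.conj a⁻¹ • ·) hb
    simp only [Subgroup.smul_inf, Subgroup.smul_bot, smul_smul, ← map_mul, inv_mul_cancel, map_one,
      one_smul] at this
    exact this
  rw [hP, hQ] at h
  rw [hP, hQ'] at h'
  obtain ⟨u, hu, he⟩ := opposite (hb h) (hb h')
  refine ⟨a * u * a⁻¹, ?_, ?_⟩
  · show _ ∈ (P : Subgroup SL(n, ZMod 2))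
    rw [hP]; exact ⟨u, hu, rfl⟩
  · have := congrArg (MulAut.conj a • ·) he
    simp only [smul_smul, ← map_mul, mul_inv_cancel_left] at this
    rw [hQ, hQ', this, smul_smul, ← map_mul]
    congr 2
    group

theorem normalizer_sylow (Q : Sylow 2 SL(n, ZMod 2)) {g : SL(n, ZMod 2)}
    (h : MulAut.conj g • (Q : Subgroup SL(n, ZMod 2)) = Q) : g ∈ Q := by
  obtain ⟨a, hQ⟩ := exists_conj_U Q
  rw [hQ] at h
  have h2 : MulAut.conj (a⁻¹ * g * a) • U₀ = U₀ := by
    rw [map_mul, map_mul, mul_smul, mul_smul, h, smul_smul, ← map_mul, inv_mul_cancel, map_one, one_smul]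
  show g ∈ (Q : Subgroup SL(n, ZMod 2))
  rw [hQ]
  exact ⟨_, self_normalizing h2, by
    show a * (a⁻¹ * g * a) * a⁻¹ = g
    group⟩

/-- Let G have a normal subgroup N of index 2 isomorphic to SL_n(2), n ≥ 4, with trivial centralizer. Then any two Sylow 2-subgroups of G meet nontrivially. -/
theorem result {G : Type*} [Group G] [Finite G] {n : ℕ} (hn : 4 ≤ n) (N : Subgroup G) [N.Normal]
    (e : N ≃* Matrix.SpecialLinearGroup (Fin n) (ZMod 2)) (hidx : N.index = 2)
    (hC : Subgroup.centralizer (N : Set G) = ⊥)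
    (H : Sylow 2 G) (x : G) :
    (H : Subgroup G) ⊓ MulAut.conj x • (H : Subgroup G) ≠ ⊥ := by
  classical
  intro hbot
  -- every Sylow subgroup of `G` gives one of `SL_n(2)`
  have hcard : ∀ K : Sylow 2 G, Nat.card ((K : Subgroup G) ⊓ N : Subgroup G) * 2 = Nat.card (K : Subgroup G) ∧
      ∃ S : Sylow 2 SL(n, ZMod 2), ∀ g : N, (g : G) ∈ (K : Subgroup G) ↔ e g ∈ S := by
    intro K
    have hnot : ¬ (K : Subgroup G) ≤ N := fun hle =>
      K.not_dvd_index (by have := Subgroup.index_dvd_of_le hle; rwa [hidx] at this)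
    have hi : (N.subgroupOf (K : Subgroup G)).index = 2 := by
      have h1 : N.relIndex (K : Subgroup G) ∣ N.index := Subgroup.relIndex_dvd_index_of_normal _ _
      rw [hidx] at h1
      rcases (Nat.dvd_prime Nat.prime_two).mp h1 with h | h
      · exact absurd (Subgroup.relIndex_eq_one.mp h) hnot
      · exact h
    have hK := Subgroup.card_mul_index (N.subgroupOf (K : Subgroup G))
    rw [hi] at hK
    have hsame : ((K : Subgroup G) ⊓ N).subgroupOf (K : Subgroup G) = N.subgroupOf (K : Subgroup G) := by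
      rw [Subgroup.inf_subgroupOf_left]
    have h2 : Nat.card ((K : Subgroup G) ⊓ N : Subgroup G) * 2 = Nat.card (K : Subgroup G) := by
      rw [← Nat.card_congr (Subgroup.subgroupOfEquivOfLe (H := (K : Subgroup G) ⊓ N) inf_le_left).toEquiv, hsame]
      exact hK
    refine ⟨h2, ?_⟩
    let T : Subgroup SL(n, ZMod 2) := ((K : Subgroup G).subgroupOf N).map e.toMonoidHom
    have hT : Nat.card T = 2 ^ (Nat.card SL(n, ZMod 2)).factorization 2 := by
      have h3 : Nat.card T = Nat.card ((K : Subgroup G) ⊓ N : Subgroup G) := by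
        rw [Subgroup.card_map_of_injective e.injective, ← Subgroup.inf_subgroupOf_right,
          Nat.card_congr (Subgroup.subgroupOfEquivOfLe inf_le_right).toEquiv]
      have h4 := N.card_mul_index
      rw [hidx, Nat.card_congr e.toEquiv] at h4
      rw [K.card_eq_multiplicity, ← h4, Nat.factorization_mul Nat.card_pos.ne' two_ne_zero,
        Finsupp.add_apply, Nat.prime_two.factorization_self, pow_succ, ← h3] at h2
      omega
    refine ⟨Sylow.ofCard T hT, fun g => ?_⟩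
    show _ ↔ e g ∈ T
    constructor
    · exact fun hg => ⟨g, hg, rfl⟩
    · rintro ⟨g', hg', he⟩
      rwa [← e.injective he]
  obtain ⟨hH2, P, hP⟩ := hcard H
  obtain ⟨hX2, Q, hQ⟩ := hcard (x • H)
  have hxH : ((x • H : Sylow 2 G) : Subgroup G) = MulAut.conj x • (H : Subgroup G) := rfl
  obtain ⟨h, hhH, hhN⟩ : ∃ h ∈ (H : Subgroup G), h ∉ N :=
    Set.not_subset.mp fun hle => H.not_dvd_index (by
      have := Subgroup.index_dvd_of_le (H := (H : Subgroup G)) (K := N) hle; rwa [hidx] at this)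
  obtain ⟨-, Q', hQ'⟩ := hcard (h • x • H)
  have meet : ∀ (K : Sylow 2 G) (R : Sylow 2 SL(n, ZMod 2)), (∀ g : N, (g : G) ∈ (K : Subgroup G) ↔ e g ∈ R) →
      ((H : Subgroup G) ⊓ (K : Subgroup G) = ⊥) → (P : Subgroup SL(n, ZMod 2)) ⊓ R = ⊥ := by
    intro K R hR hb
    rw [Subgroup.eq_bot_iff_forall] at hb ⊢
    intro y hy
    have := hb (e.symm y : G) ⟨(hP _).mpr (by rw [e.apply_symm_apply]; exact hy.1),
      (hR _).mpr (by rw [e.apply_symm_apply]; exact hy.2)⟩
    have h1 : e.symm y = 1 := Subtype.ext this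
    simpa using congrArg e h1
  have hb1 : (H : Subgroup G) ⊓ ((x • H : Sylow 2 G) : Subgroup G) = ⊥ := hbot
  have hb2 : (H : Subgroup G) ⊓ ((h • x • H : Sylow 2 G) : Subgroup G) = ⊥ := by
    rw [Subgroup.eq_bot_iff_forall] at hb1 ⊢
    rintro _ ⟨hy, z, hz, rfl⟩
    have hzH : z ∈ (H : Subgroup G) := by
      have := H.mul_mem (H.mul_mem (H.inv_mem hhH) hy) hhH
      simpa [mul_assoc] using this
    have := hb1 z ⟨hzH, hz⟩
    simp [this]
  obtain ⟨u, hu, he⟩ := opposite_sylow P Q Q' (meet _ Q hQ hb1) (meet _ Q' hQ' hb2)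
  set v : N := e.symm u with hv
  have hvH : (v : G) ∈ (H : Subgroup G) := (hP v).mpr (by rw [hv, e.apply_symm_apply]; exact hu)
  set y := (v : G)⁻¹ * h with hy
  have hyN : y ∉ N := fun hh => hhN (by
    have := N.mul_mem v.2 hh
    rwa [hy, mul_inv_cancel_left] at this)
  -- `y` normalizes the intersection of the second Sylow subgroup with `N`
  have hfix : ∀ g : N, (g : G) ∈ ((x • H : Sylow 2 G) : Subgroup G) →
      y * g * y⁻¹ ∈ ((x • H : Sylow 2 G) : Subgroup G) := by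
    intro g hg
    let g' : N := ⟨h * g * h⁻¹, Subgroup.Normal.conj_mem inferInstance _ g.2 _⟩
    have h1 : e g' ∈ Q' := (hQ' g').mp ⟨g, hg, rfl⟩
    rw [← SetLike.mem_coe] at h1
    have h2 : e g' ∈ MulAut.conj u • (Q : Subgroup SL(n, ZMod 2)) := he ▸ h1
    rw [Subgroup.mem_pointwise_smul_iff_inv_smul_mem] at h2
    have h3 : e (v⁻¹ * g' * v) ∈ Q := by
      rw [map_mul, map_mul, map_inv, hv, e.apply_symm_apply]
      have : (MulAut.conj u)⁻¹ • e g' = u⁻¹ * e g' * u := by simp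
      rw [this] at h2
      exact h2
    have h4 := (hQ _).mpr h3
    have e2 : y * (g : G) * y⁻¹ = ((v⁻¹ * g' * v : N) : G) := by
      simp only [hy, g', Subgroup.coe_mul, Subgroup.coe_inv]; group
    rw [e2]
    exact h4
  set K := (x • H : Sylow 2 G) with hK
  have hyM : y ∈ Subgroup.normalizer (((K : Subgroup G) ⊓ N : Subgroup G) : Set G) := by
    refine Subgroup.mem_normalizer_fintype ?_
    rintro g ⟨hg1, hg2⟩
    exact ⟨hfix ⟨g, hg2⟩ hg1, Subgroup.Normal.conj_mem inferInstance _ hg2 _⟩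
  -- the normalizer is no bigger than the Sylow subgroup
  set M := Subgroup.normalizer (((K : Subgroup G) ⊓ N : Subgroup G) : Set G) with hM
  have hKM : (K : Subgroup G) ≤ M := by
    intro k hk
    rw [hM, Subgroup.mem_normalizer_iff]
    intro g
    refine ⟨fun ⟨h1, h2⟩ => ⟨K.mul_mem (K.mul_mem hk h1) (K.inv_mem hk),
      Subgroup.Normal.conj_mem inferInstance _ h2 _⟩, fun ⟨h1, h2⟩ => ?_⟩
    have h3 := K.mul_mem (K.mul_mem (K.inv_mem hk) h1) hk
    have h4 := Subgroup.Normal.conj_mem ‹N.Normal› _ h2 k⁻¹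
    refine ⟨show g ∈ (K : Subgroup G) from ?_, show g ∈ N from ?_⟩
    · simpa [mul_assoc] using h3
    · simpa [mul_assoc] using h4
  have hMN : M ⊓ N ≤ (K : Subgroup G) ⊓ N := by
    rintro g ⟨hgM, hgN⟩
    refine ⟨(hQ ⟨g, hgN⟩).mpr (normalizer_sylow Q ?_), hgN⟩
    refine Subgroup.eq_of_le_of_card_ge ?_ ?_
    · rintro _ ⟨z, hz, rfl⟩
      obtain ⟨z', rfl⟩ := e.surjective z
      have h1 := ((Subgroup.mem_normalizer_iff.mp hgM (z' : G)).mp ⟨(hQ z').mpr hz, z'.2⟩).1
      have h2 := (hQ (⟨g, hgN⟩ * z' * ⟨g, hgN⟩⁻¹)).mp h1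
      show e ⟨g, hgN⟩ * e z' * (e ⟨g, hgN⟩)⁻¹ ∈ (Q : Subgroup SL(n, ZMod 2))
      rwa [← map_inv, ← map_mul, ← map_mul]
    · exact le_of_eq (Subgroup.card_map_of_injective (MulAut.conj (e ⟨g, hgN⟩)).injective).symm
  have hMK : M ≤ (K : Subgroup G) := by
    have h1 : Nat.card M ≤ Nat.card (K : Subgroup G) := by
      have hd : N.relIndex M ∣ N.index := Subgroup.relIndex_dvd_index_of_normal _ _
      have hle : N.relIndex M ≤ 2 := Nat.le_of_dvd two_pos (hidx ▸ hd)
      have hm := Subgroup.card_mul_index (N.subgroupOf M)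
      have hc : Nat.card (N.subgroupOf M) ≤ Nat.card ((K : Subgroup G) ⊓ N : Subgroup G) := by
        rw [← Subgroup.inf_subgroupOf_left, Nat.card_congr (Subgroup.subgroupOfEquivOfLe inf_le_left).toEquiv]
        exact Nat.card_le_card_of_injective _ (Subgroup.inclusion_injective hMN)
      rw [← hm, ← hX2]
      exact Nat.mul_le_mul hc hle
    exact le_of_eq (Subgroup.eq_of_le_of_card_ge hKM h1).symm
  have hy1 : y ∈ (H : Subgroup G) := H.mul_mem (H.inv_mem hvH) hhH
  have : y = 1 := by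
    have := (Subgroup.eq_bot_iff_forall _).mp hb1 y ⟨hy1, hMK hyM⟩
    exact this
  exact hyN (this ▸ N.one_mem)

end Cfsg.Agent.S2486
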