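import Mathlib
import Cfsg.Statements.S2487

set_option autoImplicit false
open scoped Pointwise
open Cfsg Matrix

namespace Cfsg.Agent.S2487

variable {F : Type*} [Field F] {m : ℕ}

local notation "Vm" => (Fin m ⊕ Fin m → F)

/-- The polar form of the hyperbolic form. -/
def bf (x y : Fin m ⊕ Fin m → F) : F :=
  ∑ i : Fin m, (x (.inl i) * y (.inr i) + x (.inr i) * y (.inl i))

theorem bf_eq (x y : Vm) :
    quadFormPlus m F (x + y) = quadFormPlus m F x + quadFormPlus m F y + bf x y := by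
  simp only [quadFormPlus, bf, Pi.add_apply, ← Finset.sum_add_distrib]
  exact Finset.sum_congr rfl fun i _ => by ring

theorem bf_comm (x y : Vm) : bf x y = bf y x := by
  simp only [bf]
  exact Finset.sum_congr rfl fun i _ => by ring

theorem quadFormPlus_smul (c : F) (x : Vm) : quadFormPlus m F (c • x) = c * c * quadFormPlus m F x := by
  simp only [quadFormPlus, Pi.smul_apply, smul_eq_mul, Finset.mul_sum]
  exact Finset.sum_congr rfl fun i _ => by ring

theorem bf_add_left (x y z : Vm) : bf (x + y) z = bf x z + bf y z := by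
  simp only [bf, Pi.add_apply, ← Finset.sum_add_distrib]
  exact Finset.sum_congr rfl fun i _ => by ring

theorem bf_smul_left (c : F) (x z : Vm) : bf (c • x) z = c * bf x z := by
  simp only [bf, Pi.smul_apply, smul_eq_mul, Finset.mul_sum]
  exact Finset.sum_congr rfl fun i _ => by ring

/-- `bf` with the second vector fixed, as a functional. -/
def bfl (y : Fin m ⊕ Fin m → F) : (Fin m ⊕ Fin m → F) →ₗ[F] F where
  toFun x := bf x y
  map_add' x x' := bf_add_left x x' y
  map_smul' c x := bf_smul_left c x y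

theorem exists_bf_one {y : Vm} (hy : y ≠ 0) : ∃ x : Vm, bf x y = 1 := by
  obtain ⟨j, hj⟩ : ∃ j, y j ≠ 0 := Function.ne_iff.mp hy
  refine ⟨(y j)⁻¹ • Pi.single j.swap 1, ?_⟩
  rw [bf_smul_left]
  have : bf (Pi.single j.swap 1 : Vm) y = y j := by
    rcases j with i | i <;> simp [bf, Pi.single_apply]
  rw [this, inv_mul_cancel₀ hj]

theorem mem_iso {g : GL (Fin m ⊕ Fin m) F} :
    g ∈ isometryGroup F (quadFormPlus m F) ↔
      ∀ x : Vm, quadFormPlus m F ((g : Matrix _ _ F) *ᵥ x) = quadFormPlus m F x :=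
  ⟨fun h x => h x x, fun h x _ => h x⟩

/-- An element of the isometry group from an involutive isometry. -/
theorem exists_element (L : Vm →ₗ[F] Vm) (h2 : ∀ x, L (L x) = x)
    (hQ : ∀ x, quadFormPlus m F (L x) = quadFormPlus m F x) :
    ∃ g : isometryGroup F (quadFormPlus m F),
      ∀ x, ((g : GL (Fin m ⊕ Fin m) F) : Matrix _ _ F) *ᵥ x = L x := by
  have hm : LinearMap.toMatrix' L * LinearMap.toMatrix' L = 1 := by
    rw [← LinearMap.toMatrix'_comp, show L ∘ₗ L = LinearMap.id from LinearMap.ext h2, LinearMap.toMatrix'_id]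
  refine ⟨⟨⟨LinearMap.toMatrix' L, LinearMap.toMatrix' L, hm, hm⟩, mem_iso.mpr fun x => ?_⟩, fun x => ?_⟩
  · show quadFormPlus m F (LinearMap.toMatrix' L *ᵥ x) = _
    rw [LinearMap.toMatrix'_mulVec, hQ]
  · exact LinearMap.toMatrix'_mulVec L x

variable (htwo : ∀ a : F, a = 0 ∨ a = 1) (hchar : (1 : F) + 1 = 0)
include htwo hchar

omit htwo in
theorem add_self' (x : Vm) : x + x = 0 := by
  rw [← two_smul F x, ← one_add_one_eq_two, hchar, zero_smul]

/-- A nontrivial isometry fixing fewer than `2m - 1` given vectors. -/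
theorem exists_fix {ι : Type} [Fintype ι] (w : ι → Vm) (hι : Fintype.card ι + 2 ≤ 2 * m) :
    ∃ g : isometryGroup F (quadFormPlus m F), g ≠ 1 ∧
      ∀ j, ((g : GL (Fin m ⊕ Fin m) F) : Matrix _ _ F) *ᵥ w j = w j := by
  let T : Vm →ₗ[F] (ι → F) := LinearMap.pi fun j => bfl (w j)
  have hdim : 1 < Module.finrank F (LinearMap.ker T) := by
    have h1 := LinearMap.finrank_range_add_finrank_ker T
    have h2 := Submodule.finrank_le (LinearMap.range T)
    rw [Module.finrank_pi] at h2
    rw [Module.finrank_pi, Fintype.card_sum, Fintype.card_fin] at h1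
    omega
  have hker : ∀ v ∈ LinearMap.ker T, ∀ j, bf (w j) v = 0 := fun v hv j => by
    rw [bf_comm]; exact congrFun (LinearMap.mem_ker.mp hv) j
  have hnz : ∀ (g : isometryGroup F (quadFormPlus m F)) (x : Vm),
      ((g : GL (Fin m ⊕ Fin m) F) : Matrix _ _ F) *ᵥ x ≠ x → g ≠ 1 := by
    rintro g x h rfl
    exact h (by simp)
  by_cases hns : ∃ v ∈ LinearMap.ker T, quadFormPlus m F v ≠ 0
  · obtain ⟨v, hv, hq⟩ := hns
    have hq1 : quadFormPlus m F v = 1 := (htwo _).resolve_left hq
    have hv0 : v ≠ 0 := by rintro rfl; exact hq (by simp [quadFormPlus])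
    have hvv : bf v v = 0 := by
      have := bf_eq v v
      rw [add_self' hchar, hq1, hchar, zero_add] at this
      rw [← this]; simp [quadFormPlus]
    let L : Vm →ₗ[F] Vm := LinearMap.id + (bfl v).smulRight v
    have hL : ∀ x, L x = x + bf x v • v := fun x => rfl
    obtain ⟨g, hg⟩ := exists_element L (fun x => by
        rw [hL, hL x, bf_add_left, bf_smul_left, hvv, mul_zero, add_zero, add_assoc, add_self' hchar, add_zero])
      (fun x => by
        rw [hL, bf_eq, quadFormPlus_smul, hq1, bf_comm x (_ • v), bf_smul_left, bf_comm v x, mul_one,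
          add_assoc, ← mul_two, ← one_add_one_eq_two, hchar, mul_zero, add_zero])
    obtain ⟨x, hx⟩ := exists_bf_one hv0
    refine ⟨g, hnz g x ?_, fun j => ?_⟩
    · rw [hg, hL, hx, one_smul]
      simpa using hv0
    · rw [hg, hL, hker v hv j, zero_smul, add_zero]
  · push Not at hns
    obtain ⟨a, ha⟩ := exists_linearIndependent_of_le_finrank (R := F) (M := LinearMap.ker T) (n := 2) hdim
    set u : Vm := (a 0 : Vm) with hu
    set v : Vm := (a 1 : Vm) with hv
    have hqu : quadFormPlus m F u = 0 := hns _ (a 0).2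
    have hqv : quadFormPlus m F v = 0 := hns _ (a 1).2
    have huv : bf u v = 0 := by
      have h := hns _ (Submodule.add_mem _ (a 0).2 (a 1).2)
      rwa [bf_eq, ← hu, ← hv, hqu, hqv, zero_add, zero_add] at h
    have hvu : bf v u = 0 := by rw [bf_comm]; exact huv
    have hself : ∀ z : Vm, quadFormPlus m F z = 0 → bf z z = 0 := fun z hz => by
      have := bf_eq z z
      rw [add_self' hchar, hz, zero_add, zero_add] at this
      rw [← this]; simp [quadFormPlus]
    let L : Vm →ₗ[F] Vm := LinearMap.id + (bfl u).smulRight v + (bfl v).smulRight u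
    have hL : ∀ x, L x = x + bf x u • v + bf x v • u := fun x => rfl
    obtain ⟨g, hg⟩ := exists_element L (fun x => by
        rw [hL, hL x]
        simp only [bf_add_left, bf_smul_left, huv, hvu, hself u hqu, hself v hqv, mul_zero, add_zero]
        have e1 := add_self' hchar (bf x u • v)
        have e2 := add_self' hchar (bf x v • u)
        linear_combination (norm := abel) e1 + e2)
      (fun x => by
        rw [hL]
        simp only [bf_eq, quadFormPlus_smul, bf_add_left, hqu, hqv, mul_zero, add_zero]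
        rw [bf_comm x (_ • v), bf_comm x (_ • u), bf_smul_left, bf_smul_left, bf_smul_left,
          bf_comm v (_ • u), bf_smul_left, huv, bf_comm u x, bf_comm v x, mul_zero, mul_zero, add_zero]
        linear_combination (bf x u * bf x v) * hchar)
    have hu0 : u ≠ 0 := fun h => (ha.ne_zero 0) (Subtype.ext h)
    obtain ⟨x, hx⟩ := exists_bf_one hu0
    refine ⟨g, hnz g x ?_, fun j => ?_⟩
    · rw [hg, hL, hx, one_smul, add_assoc]
      intro h
      rw [add_eq_left] at h
      have := (Fintype.linearIndependent_iff.mp ha) ![bf x v, 1] (Subtype.ext (by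
        simpa [Fin.sum_univ_two, ← hu, ← hv, add_comm] using h)) 1
      simp at this
    · rw [hg, hL, hker u (a 0).2 j, hker v (a 1).2 j, zero_smul, zero_smul, add_zero, add_zero]

/-- An isometry fixing a totally singular subspace of codimension one in a maximal one has order dividing 8. -/
theorem pow_eight {ℓ : Fin m} (g : isometryGroup F (quadFormPlus m F))
    (hg : ∀ i, i ≠ ℓ → ((g : GL (Fin m ⊕ Fin m) F) : Matrix (Fin m ⊕ Fin m) (Fin m ⊕ Fin m) F) *ᵥ
      (Pi.single (Sum.inl i : Fin m ⊕ Fin m) (1 : F)) = Pi.single (Sum.inl i : Fin m ⊕ Fin m) (1 : F)) :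
    g ^ 8 = 1 := by
  set A : Vm →ₗ[F] Vm := Matrix.mulVecLin ((g : GL (Fin m ⊕ Fin m) F) : Matrix _ _ F) with hA
  have hQ : ∀ x, quadFormPlus m F (A x) = quadFormPlus m F x := mem_iso.mp g.2
  have hfix : ∀ i, i ≠ ℓ → A (Pi.single (.inl i) 1) = Pi.single (.inl i) 1 := hg
  have hr : ∀ (x : Vm) (i : Fin m), i ≠ ℓ → A x (.inr i) = x (.inr i) := by
    intro x i hi
    have key : ∀ z : Vm, bf z (Pi.single (.inl i) 1) = z (.inr i) := fun z => by simp [bf, Pi.single_apply]
    have h := hQ (x + Pi.single (.inl i) 1)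
    rw [map_add, hfix i hi, bf_eq, bf_eq, hQ, key, key] at h
    exact add_left_cancel h
  -- the subspace orthogonal to the fixed one
  let e : Vm := Pi.single (.inl ℓ) 1
  let f : Vm := Pi.single (.inr ℓ) 1
  have hsplit : ∀ x : Vm, (∀ i, i ≠ ℓ → x (.inr i) = 0) →
      x = x (.inl ℓ) • e + x (.inr ℓ) • f + ∑ i ∈ Finset.univ.erase ℓ, x (.inl i) • (Pi.single (.inl i) 1 : Vm) := by
    intro x hx
    ext j
    rcases j with i | i
    · rcases eq_or_ne i ℓ with rfl | hi <;> simp [e, f, Pi.single_apply, *]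
    · rcases eq_or_ne i ℓ with rfl | hi <;> simp [e, f, Pi.single_apply, *]
  have hpair : ∀ x : Vm, (∀ i, i ≠ ℓ → x (.inr i) = 0) → ∀ t : Fin m → F,
      A x = x (.inl ℓ) • A e + x (.inr ℓ) • A f + ∑ i ∈ Finset.univ.erase ℓ, x (.inl i) • (Pi.single (.inl i) 1 : Vm) := by
    intro x hx _
    conv_lhs => rw [hsplit x hx]
    rw [map_add, map_add, map_smul, map_smul, map_sum]
    congr 1
    exact Finset.sum_congr rfl fun i hi => by rw [map_smul, hfix i (Finset.ne_of_mem_erase hi)]
  have hperp : ∀ x : Vm, (∀ i, i ≠ ℓ → x (.inr i) = 0) → quadFormPlus m F x = x (.inl ℓ) * x (.inr ℓ) := by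
    intro x hx
    exact Finset.sum_eq_single ℓ (fun i _ hi => by rw [hx i hi, mul_zero]) (by simp)
  have he : ∀ i, i ≠ ℓ → e (.inr i) = 0 := fun i _ => by simp [e]
  have hf : ∀ i, i ≠ ℓ → f (.inr i) = 0 := fun i hi => by simp [f, hi]
  have hef : ∀ i, i ≠ ℓ → (e + f) (.inr i) = 0 := fun i hi => by simp [he i hi, hf i hi]
  have hAperp : ∀ x : Vm, (∀ i, i ≠ ℓ → x (.inr i) = 0) → ∀ i, i ≠ ℓ → A x (.inr i) = 0 :=
    fun x hx i hi => by rw [hr x i hi, hx i hi]
  -- the square acts trivially on the plane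
  have h1 : A e (.inl ℓ) * A e (.inr ℓ) = 0 := by
    rw [← hperp _ (hAperp e he), hQ, hperp e he]; simp [e]
  have h2 : A f (.inl ℓ) * A f (.inr ℓ) = 0 := by
    rw [← hperp _ (hAperp f hf), hQ, hperp f hf]; simp [f]
  have h3 : (A e (.inl ℓ) + A f (.inl ℓ)) * (A e (.inr ℓ) + A f (.inr ℓ)) = 1 := by
    have := hperp _ (hAperp _ hef)
    rw [hQ, hperp _ hef, map_add] at this
    simp only [Pi.add_apply] at this
    rw [← this]; simp [e, f]
  have hsq : ∀ x : Vm, (∀ i, i ≠ ℓ → x (.inr i) = 0) →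
      A (A x) (.inl ℓ) = x (.inl ℓ) ∧ A (A x) (.inr ℓ) = x (.inr ℓ) := by
    intro x hx
    have c1 : ∀ z : Vm, (∀ i, i ≠ ℓ → z (.inr i) = 0) →
        A z (.inl ℓ) = z (.inl ℓ) * A e (.inl ℓ) + z (.inr ℓ) * A f (.inl ℓ) ∧
        A z (.inr ℓ) = z (.inl ℓ) * A e (.inr ℓ) + z (.inr ℓ) * A f (.inr ℓ) := by
      intro z hz
      rw [hpair z hz 0]
      constructor <;> simp [Finset.sum_apply, Pi.single_apply]
    obtain ⟨p1, p2⟩ := c1 x hx
    obtain ⟨q1, q2⟩ := c1 (A x) (hAperp x hx)
    rw [q1, q2, p1, p2]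
    rcases htwo (A e (.inl ℓ)) with a1 | a1 <;> rcases htwo (A e (.inr ℓ)) with a2 | a2 <;>
      rcases htwo (A f (.inl ℓ)) with a3 | a3 <;> rcases htwo (A f (.inr ℓ)) with a4 | a4 <;>
      simp [a1, a2, a3, a4, hchar] at h1 h2 h3 ⊢
  set B : Vm → Vm := fun x => A (A x) with hB
  have hBadd : ∀ x y, B (x + y) = B x + B y := fun x y => by simp [hB]
  have hBfix : ∀ x : Vm, x (.inl ℓ) = 0 → (∀ i, x (.inr i) = 0) → B x = x := by
    intro x hx1 hx2
    have hA' : A x = x := by
      rw [hpair x (fun i _ => hx2 i) 0, hx1, hx2 ℓ]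
      conv_rhs => rw [hsplit x (fun i _ => hx2 i), hx1, hx2 ℓ]
      simp
    simp [hB, hA']
  have h4 : ∀ x, B (B (B (B x))) = x := by
    intro x
    set y := B x + x with hy
    have hyp : ∀ i, i ≠ ℓ → y (.inr i) = 0 := fun i hi => by
      simp only [hy, hB, Pi.add_apply, hr _ i hi]
      linear_combination (x (.inr i)) * hchar
    set z := B y + y with hz
    have hz1 : z (.inl ℓ) = 0 := by
      simp only [hz, hB, Pi.add_apply, (hsq y hyp).1]
      linear_combination (y (.inl ℓ)) * hchar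
    have hz2 : ∀ i, z (.inr i) = 0 := fun i => by
      rcases eq_or_ne i ℓ with rfl | hi
      · simp only [hz, hB, Pi.add_apply, (hsq y hyp).2]
        linear_combination (y (.inr i)) * hchar
      · simp only [hz, hB, Pi.add_apply, hr _ i hi, hyp i hi, add_zero]
    have ez := hBfix z hz1 hz2
    have ex : B x = x + y := by rw [hy, ← add_assoc, add_comm x, add_assoc, add_self' hchar, add_zero]
    have ey : B y = y + z := by rw [hz, ← add_assoc, add_comm y, add_assoc, add_self' hchar, add_zero]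
    have e2 : B (B x) = x + z := by
      rw [ex, hBadd, ex, ey, ← add_assoc, add_assoc x, add_self' hchar, add_zero]
    rw [e2, hBadd, hBadd, e2, ez, ez, add_assoc, add_self' hchar, add_zero]
  refine Subtype.ext (Units.ext (Matrix.ext_iff_mulVec.mpr fun x => ?_))
  have : (((g ^ 8 : isometryGroup F (quadFormPlus m F)) : GL (Fin m ⊕ Fin m) F) : Matrix _ _ F) *ᵥ x =
      B (B (B (B x))) := by
    simp [hB, hA, pow_succ, Matrix.mulVec_mulVec, mul_assoc]
  rw [this, h4]; simp

omit htwo hchar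

/-- Let m ≥ 4 and let G be the full isometry group of the hyperbolic quadratic form x₁y₁ + ⋯ + x_m y_m on the 2m-dimensional space over the field with 2 elements (the orthogonal group O⁺(2m,2), which contains Ω⁺(2m,2) with index 2). Then any two Sylow 2-subgroups of G have a non-trivial intersection: for a Sylow 2-subgroup H and every x ∈ G, H ∩ H^x ≠ 1. -/
theorem result {F : Type*} [Field F] [Fintype F] (hF : Fintype.card F = 2) {m : ℕ} (hm : 4 ≤ m)
    (H : Sylow 2 (Cfsg.isometryGroup F (Cfsg.quadFormPlus m F)))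
    (x : Cfsg.isometryGroup F (Cfsg.quadFormPlus m F)) :
    (H : Subgroup (Cfsg.isometryGroup F (Cfsg.quadFormPlus m F))) ⊓ MulAut.conj x • (H : Subgroup _) ≠ ⊥ := by
  classical
  obtain ⟨htwo, hchar⟩ : (∀ a : F, a = 0 ∨ a = 1) ∧ (1 : F) + 1 = 0 := by
    have huniv : ({0, 1} : Finset F) = Finset.univ :=
      Finset.eq_univ_of_card _ (by rw [Finset.card_pair zero_ne_one, hF])
    have h2 : ∀ a : F, a = 0 ∨ a = 1 := fun a => by
      have := huniv ▸ Finset.mem_univ a
      simpa using this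
    exact ⟨h2, (h2 _).resolve_right fun h => one_ne_zero (add_eq_left.mp h)⟩
  let ℓ : Fin m := ⟨0, by omega⟩
  let act : (Cfsg.isometryGroup F (Cfsg.quadFormPlus m F)) → (Fin m ⊕ Fin m → F) → (Fin m ⊕ Fin m → F) :=
    fun g v => ((g : GL (Fin m ⊕ Fin m) F) : Matrix _ _ F) *ᵥ v
  have act_mul : ∀ (a b : (Cfsg.isometryGroup F (Cfsg.quadFormPlus m F))) v, act (a * b) v = act a (act b v) := fun a b v => by
    simp [act, Matrix.mulVec_mulVec]
  have act_one : ∀ v, act 1 v = v := fun v => by simp [act]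
  let P : Subgroup (Cfsg.isometryGroup F (Cfsg.quadFormPlus m F)) :=
    { carrier := {g | ∀ i, i ≠ ℓ → act g (Pi.single (.inl i) 1) = Pi.single (.inl i) 1}
      mul_mem' := fun {a b} ha hb i hi => by rw [act_mul, hb i hi, ha i hi]
      one_mem' := fun i _ => act_one _
      inv_mem' := fun {a} ha i hi => by
        conv_lhs => rw [← ha i hi]
        rw [← act_mul, inv_mul_cancel, act_one] }
  have hP : IsPGroup 2 P := fun g => ⟨3, Subtype.ext (by
    rw [SubmonoidClass.coe_pow]; exact pow_eight htwo hchar g.1 g.2)⟩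
  obtain ⟨S, hS⟩ := hP.exists_le_sylow
  have hall : ∀ K : Sylow 2 (Cfsg.isometryGroup F (Cfsg.quadFormPlus m F)), ∃ a : (Cfsg.isometryGroup F (Cfsg.quadFormPlus m F)), ∀ g : (Cfsg.isometryGroup F (Cfsg.quadFormPlus m F)),
      (∀ i, i ≠ ℓ → act g (act a (Pi.single (.inl i) 1)) = act a (Pi.single (.inl i) 1)) → g ∈ (K : Subgroup (Cfsg.isometryGroup F (Cfsg.quadFormPlus m F))) := by
    intro K
    obtain ⟨a, ha⟩ := MulAction.exists_smul_eq (Cfsg.isometryGroup F (Cfsg.quadFormPlus m F)) S K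
    refine ⟨a, fun g hg => ?_⟩
    have hmem : a⁻¹ * g * a ∈ P := fun i hi => by
      rw [act_mul, act_mul, hg i hi, ← act_mul, inv_mul_cancel, act_one]
    rw [← ha]
    exact ⟨_, hS hmem, by simp [mul_assoc]⟩
  obtain ⟨a, hA⟩ := hall H
  obtain ⟨b, hB⟩ := hall (x • H)
  let w : {i : Fin m // i ≠ ℓ} ⊕ {i : Fin m // i ≠ ℓ} → (Fin m ⊕ Fin m → F) :=
    Sum.elim (fun i => act a (Pi.single (.inl i.1) 1)) (fun i => act b (Pi.single (.inl i.1) 1))
  obtain ⟨g, hg1, hg⟩ := exists_fix htwo hchar w (by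
    have : Fintype.card {i : Fin m // i ≠ ℓ} = m - 1 := by
      simp [Fintype.card_subtype_compl]
    rw [Fintype.card_sum, this]; omega)
  intro hbot
  refine hg1 ((Subgroup.eq_bot_iff_forall _).mp hbot g ⟨hA g fun i hi => hg (.inl ⟨i, hi⟩), ?_⟩)
  exact hB g fun i hi => hg (.inr ⟨i, hi⟩)

end Cfsg.Agent.S2487
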