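import Cfsg.Statements.S2488
import Cfsg.Agent.Lib.SmallDegree.A6Involutions

-- import your own Cfsg.Agent.* helpers here

set_option autoImplicit false
open scoped Pointwise
set_option maxHeartbeats 400000
set_option linter.style.haveILetI false
open Cfsg
open scoped Pointwise

namespace Cfsg.Agent.S2488

/-- Let G be a finite group with a normal subgroup N of index 4 isomorphic to the alternating group of degree 6 and with trivial centralizer in G (so G is the full automorphism group of A₆). Then any two Sylow 2-subgroups of G have a non-trivial intersection: for a Sylow 2-subgroup H and every x ∈ G, H ∩ H^x ≠ 1. -/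
theorem result {G : Type*} [Group G] [Finite G] (N : Subgroup G) [N.Normal]
    (e : N ≃* alternatingGroup (Fin 6)) (hidx : N.index = 4)
    (hC : Subgroup.centralizer (N : Set G) = ⊥)
    (H : Sylow 2 G) (x : G) :
    (H : Subgroup G) ⊓ MulAut.conj x • (H : Subgroup G) ≠ ⊥ := by
  classical
  intro hbot
  haveI : Fact (Nat.Prime 2) := ⟨Nat.prime_two⟩
  have hNc : Nat.card N = 360 := by
    rw [Nat.card_congr e.toEquiv, nat_card_alternatingGroup]; simp [Nat.factorial]
  have hG : Nat.card G = 1440 := by rw [← N.card_mul_index, hNc, hidx]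
  let φ : N →* Equiv.Perm (Fin 6) := (alternatingGroup (Fin 6)).subtype.comp e.toMonoidHom
  have hφ : Function.Injective φ := Subtype.coe_injective.comp e.injective
  have hsgn : ∀ n, Equiv.Perm.sign (φ n) = 1 := fun n => Equiv.Perm.mem_alternatingGroup.1 (e n).2
  -- coordinates sending a given involution to the fixed one
  have hcoord : ∀ z : N, orderOf z = 2 → ∃ ψ : N →* Equiv.Perm (Fin 6), Function.Injective ψ ∧
      ψ z = CfsgLib.A6Involutions.iz ∧ (∀ n, Equiv.Perm.sign (ψ n) = 1) ∧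
      ∀ y : Equiv.Perm (Fin 6), Equiv.Perm.sign y = 1 → ∃ n, ψ n = y := by
    intro z hz
    have h2 : φ z * φ z = 1 := by
      rw [← map_mul, ← pow_two, ← hz, pow_orderOf_eq_one, map_one]
    have h1 : φ z ≠ 1 := fun h => by
      rw [← map_one φ] at h
      rw [hφ h, orderOf_one] at hz
      omega
    obtain ⟨g, hg⟩ := CfsgLib.A6Involutions.exists_conj _ h2 h1 (hsgn z)
    refine ⟨(MulAut.conj g).toMonoidHom.comp φ, (MulAut.conj g).injective.comp hφ, hg, fun n => ?_, fun y hy => ?_⟩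
    · show Equiv.Perm.sign (g * φ n * g⁻¹) = 1
      simp [hsgn n]
    · have hm : g⁻¹ * y * g ∈ alternatingGroup (Fin 6) := Equiv.Perm.mem_alternatingGroup.2 (by simp [hy])
      refine ⟨e.symm ⟨_, hm⟩, ?_⟩
      show g * φ (e.symm ⟨_, hm⟩) * g⁻¹ = y
      rw [show φ (e.symm ⟨_, hm⟩) = g⁻¹ * y * g by simp [φ]]
      group
  -- the number of involutions of `N`
  obtain ⟨z₀, hz₀⟩ := exists_prime_orderOf_dvd_card' (G := N) 2 (by rw [hNc]; norm_num)
  have hinv : Nat.card {n : N // orderOf n = 2} = 45 := by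
    obtain ⟨ψ, hψ, -, hs, hsur⟩ := hcoord z₀ hz₀
    rw [← CfsgLib.A6Involutions.card_involutions, ← Fintype.card_subtype, ← Nat.card_eq_fintype_card]
    have key : ∀ n : N, orderOf n = 2 ↔ ψ n * ψ n = 1 ∧ ψ n ≠ 1 := fun n => by
      rw [orderOf_eq_prime_iff, pow_two, ← map_mul, map_eq_one_iff ψ hψ, ne_eq, ne_eq, map_eq_one_iff ψ hψ]
    refine Nat.card_congr (Equiv.ofBijective (fun n => ⟨ψ n.1, ((key n.1).1 n.2).1, ((key n.1).1 n.2).2, hs n.1⟩) ⟨?_, ?_⟩)
    · intro a b h
      exact Subtype.ext (hψ (congrArg Subtype.val h))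
    · rintro ⟨y, hy1, hy2, hy3⟩
      obtain ⟨n, rfl⟩ := hsur y hy3
      exact ⟨⟨n, (key n).2 ⟨hy1, hy2⟩⟩, rfl⟩
  -- centralizers of involutions are Sylow 2-subgroups
  have hcent : ∀ z : N, orderOf z = 2 → Nat.card (Subgroup.centralizer ({(z : G)} : Set G)) = 32 := by
    intro z hz
    obtain ⟨ψ, hψ, hψz, hs, hsur⟩ := hcoord z hz
    have hCN : Nat.card ((Subgroup.centralizer ({(z : G)} : Set G)).subgroupOf N) = 8 := by
      rw [← CfsgLib.A6Involutions.card_centralizer, ← Fintype.card_subtype, ← Nat.card_eq_fintype_card]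
      have key : ∀ n : N, n ∈ (Subgroup.centralizer ({(z : G)} : Set G)).subgroupOf N ↔
          ψ n * CfsgLib.A6Involutions.iz = CfsgLib.A6Involutions.iz * ψ n := fun n => by
        rw [Subgroup.mem_subgroupOf, Subgroup.mem_centralizer_singleton_iff, ← hψz, ← map_mul, ← map_mul,
          hψ.eq_iff, Subtype.ext_iff]
        exact Iff.rfl
      refine Nat.card_congr (Equiv.ofBijective (fun n => ⟨ψ n.1, (key n.1).1 n.2, hs n.1⟩) ⟨?_, ?_⟩)
      · intro a b h
        exact Subtype.ext (hψ (congrArg Subtype.val h))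
      · rintro ⟨y, hy1, hy2⟩
        obtain ⟨n, rfl⟩ := hsur y hy2
        exact ⟨⟨n, (key n).2 hy1⟩, rfl⟩
    set C := Subgroup.centralizer ({(z : G)} : Set G) with hC'
    have h1 := (C.subgroupOf N).card_mul_index
    rw [hCN, hNc] at h1
    have hle : C.index ≤ 45 := by
      rw [← hinv, Subgroup.index_eq_card]
      let f : G ⧸ C → {n : N // orderOf n = 2} := fun q =>
        ⟨MulAut.conjNormal (H := N) q.out z, by rw [MulEquiv.orderOf_eq, hz]⟩
      refine Nat.card_le_card_of_injective f fun q q' h => ?_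
      have h' : q.out * (z : G) * q.out⁻¹ = q'.out * (z : G) * q'.out⁻¹ := by
        have := congrArg (fun n : {n : N // orderOf n = 2} => ((n : N) : G)) h
        simpa only [f, MulAut.conjNormal_apply] using this
      rw [← q.out_eq, ← q'.out_eq]
      refine QuotientGroup.eq.2 ?_
      show _ ∈ Subgroup.centralizer ({(z : G)} : Set G)
      rw [Subgroup.mem_centralizer_singleton_iff]
      calc q.out⁻¹ * q'.out * (z : G) = q.out⁻¹ * (q'.out * (z : G) * q'.out⁻¹) * q'.out := by group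
        _ = q.out⁻¹ * (q.out * (z : G) * q.out⁻¹) * q'.out := by rw [h']
        _ = _ := by group
    have hge : (C.subgroupOf N).index ≤ C.index := by
      exact Subgroup.relIndex_le_of_le_right le_top (by rw [Subgroup.relIndex_top_right]; exact Subgroup.index_ne_zero_of_finite)
        |>.trans_eq (Subgroup.relIndex_top_right C)
    have h2 := C.card_mul_index
    rw [hG] at h2
    rw [show C.index = 45 by omega] at h2
    omega
  have hH : Nat.card (H : Subgroup G) = 32 := by
    rw [H.card_eq_multiplicity, hG, show 1440 = 2 ^ 5 * 45 by norm_num, Nat.factorization_mul (by norm_num) (by norm_num),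
      Nat.prime_two.factorization_pow]
    simp [Nat.factorization_eq_zero_of_not_dvd]
  let S : Sylow 2 G := Sylow.ofCard (Subgroup.centralizer ({(z₀ : G)} : Set G)) (by
    rw [hcent z₀ hz₀, hG, show 1440 = 2 ^ 5 * 45 by norm_num, Nat.factorization_mul (by norm_num) (by norm_num),
      Nat.prime_two.factorization_pow]
    simp [Nat.factorization_eq_zero_of_not_dvd])
  obtain ⟨c, hc⟩ := MulAction.exists_smul_eq G S H
  let z : N := ⟨c * z₀ * c⁻¹, ‹N.Normal›.conj_mem _ z₀.2 _⟩
  have hz : orderOf z = 2 := by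
    rw [← Subgroup.orderOf_coe]
    show orderOf (c * (z₀ : G) * c⁻¹) = 2
    rw [← MulAut.conj_apply, MulEquiv.orderOf_eq, Subgroup.orderOf_coe, hz₀]
  have hmemH : ∀ g : G, g ∈ (H : Subgroup G) ↔ g * z = (z : G) * g := fun g => by
    rw [← hc, Sylow.coe_subgroup_smul, Subgroup.mem_pointwise_smul_iff_inv_smul_mem]
    show (MulAut.conj c)⁻¹ g ∈ Subgroup.centralizer ({(z₀ : G)} : Set G) ↔ _
    rw [Subgroup.mem_centralizer_singleton_iff, MulAut.inv_apply, MulAut.conj_symm_apply]
    show _ ↔ g * (c * z₀ * c⁻¹) = c * z₀ * c⁻¹ * g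
    constructor <;> intro h
    · calc g * (c * z₀ * c⁻¹) = c * (c⁻¹ * g * c * z₀) * c⁻¹ := by group
        _ = c * (z₀ * (c⁻¹ * g * c)) * c⁻¹ := by rw [h]
        _ = _ := by group
    · calc c⁻¹ * g * c * z₀ = c⁻¹ * (g * (c * z₀ * c⁻¹)) * c := by group
        _ = c⁻¹ * (c * z₀ * c⁻¹ * g) * c := by rw [h]
        _ = _ := by group
  let w : N := ⟨x * z * x⁻¹, ‹N.Normal›.conj_mem _ z.2 _⟩
  obtain ⟨ψ, hψ, hψz, hs, hsur⟩ := hcoord z hz
  let act : ↥(H : Subgroup G) → N := fun h => ⟨(h : G) * w * (h : G)⁻¹, ‹N.Normal›.conj_mem _ w.2 _⟩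
  have hinj : Function.Injective act := by
    intro a b hab
    have h1 : (a : G) * w * (a : G)⁻¹ = (b : G) * w * (b : G)⁻¹ := congrArg Subtype.val hab
    have hk : (b : G)⁻¹ * a ∈ (H : Subgroup G) ⊓ MulAut.conj x • (H : Subgroup G) := by
      refine ⟨Subgroup.mul_mem _ (Subgroup.inv_mem _ b.2) a.2, ?_⟩
      show (b : G)⁻¹ * a ∈ MulAut.conj x • (H : Subgroup G)
      rw [Subgroup.mem_pointwise_smul_iff_inv_smul_mem]
      show (MulAut.conj x)⁻¹ ((b : G)⁻¹ * a) ∈ (H : Subgroup G)
      rw [hmemH, MulAut.inv_apply, MulAut.conj_symm_apply]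
      have h2 : ((b : G)⁻¹ * a) * (x * z * x⁻¹) = (x * z * x⁻¹) * ((b : G)⁻¹ * a) := by
        calc ((b : G)⁻¹ * a) * (x * z * x⁻¹) = (b : G)⁻¹ * ((a : G) * w * (a : G)⁻¹) * a := by
              show _ = (b : G)⁻¹ * ((a : G) * (x * z * x⁻¹) * (a : G)⁻¹) * a
              group
          _ = (b : G)⁻¹ * ((b : G) * w * (b : G)⁻¹) * a := by rw [h1]
          _ = _ := by
              show (b : G)⁻¹ * ((b : G) * (x * z * x⁻¹) * (b : G)⁻¹) * a = _
              group
      calc x⁻¹ * ((b : G)⁻¹ * a) * x * z = x⁻¹ * (((b : G)⁻¹ * a) * (x * z * x⁻¹)) * x := by group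
        _ = x⁻¹ * ((x * z * x⁻¹) * ((b : G)⁻¹ * a)) * x := by rw [h2]
        _ = _ := by group
    rw [hbot, Subgroup.mem_bot, inv_mul_eq_one] at hk
    exact Subtype.ext hk.symm
  -- the orbit lies in one class of the invariant
  have hrel : ∀ h : (H : Subgroup G), ∃ k : MulAut N, k z = z ∧ k w = act h := fun h => by
    refine ⟨MulAut.conjNormal (h : G), Subtype.ext ?_, Subtype.ext ?_⟩
    · rw [MulAut.conjNormal_apply, (hmemH _).1 h.2, mul_inv_cancel_right]
    · rw [MulAut.conjNormal_apply]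
  obtain ⟨⟨a, b, c', d⟩, habcd⟩ : ∃ t, t = CfsgLib.A6Involutions.sig CfsgLib.A6Involutions.iz (ψ w) := ⟨_, rfl⟩
  have hw2 : orderOf w = 2 := by
    rw [← Subgroup.orderOf_coe]
    show orderOf (x * (z : G) * x⁻¹) = 2
    rw [← MulAut.conj_apply, MulEquiv.orderOf_eq, Subgroup.orderOf_coe, hz]
  have hin : ∀ h : (H : Subgroup G), ψ (act h) ∈ (Finset.univ.filter fun y : Equiv.Perm (Fin 6) =>
      y * y = 1 ∧ y ≠ 1 ∧ Equiv.Perm.sign y = 1 ∧
        CfsgLib.A6Involutions.sig CfsgLib.A6Involutions.iz y = (a, b, c', d)) := fun h => by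
    obtain ⟨k, hkz, hkw⟩ := hrel h
    have ho : orderOf (act h) = 2 := by rw [← hkw, MulEquiv.orderOf_eq, hw2]
    rw [Finset.mem_filter]
    refine ⟨Finset.mem_univ _, ?_, ?_, hs _, ?_⟩
    · rw [← map_mul, ← pow_two, ← ho, pow_orderOf_eq_one, map_one]
    · rw [ne_eq, map_eq_one_iff ψ hψ]
      intro h1; rw [h1, orderOf_one] at ho; omega
    · rw [habcd, ← hψz]
      simp only [CfsgLib.A6Involutions.sig, ← map_mul, map_eq_one_iff ψ hψ, ← hkw]
      conv_lhs => rw [← hkz]
      simp only [← map_mul, map_eq_one_iff k k.injective]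
  haveI : Fintype ↥(H : Subgroup G) := Fintype.ofFinite _
  have hle := Finset.card_le_card_of_injOn (s := (Finset.univ : Finset (H : Subgroup G))) (fun h => ψ (act h))
    (fun h _ => hin h) (fun h _ h' _ e' => hinj (hψ e'))
  rw [Finset.card_univ, ← Nat.card_eq_fintype_card, hH] at hle
  have := CfsgLib.A6Involutions.card_sig_le a b c' d
  omega

end Cfsg.Agent.S2488
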