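import Cfsg.Statements.S2493
import Cfsg.Agent.Lib.SpinAlt.Cover
-- import your own Cfsg.Agent.* helpers here

set_option autoImplicit false
open Cfsg

namespace Cfsg.Agent.S2493

/-- Let n ≥ 5 and let G be a finite perfect group whose centre has order 2 with G/Z(G) isomorphic to the alternating group of degree n (the double cover of the alternating group). Then every element of G is a commutator. -/
theorem result {G : Type*} [Group G] [Finite G] (hperf : commutator G = ⊤) {n : ℕ} (hn : 5 ≤ n)
    (hZ : Nat.card (Subgroup.center G) = 2) (e : G ⧸ Subgroup.center G ≃* alternatingGroup (Fin n))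
    (g : G) :
    ∃ a b : G, a * b * a⁻¹ * b⁻¹ = g := by
  let π : G →* Equiv.Perm (Fin n) :=
    (alternatingGroup (Fin n)).subtype.comp (e.toMonoidHom.comp (QuotientGroup.mk' (Subgroup.center G)))
  have hker : π.ker = Subgroup.center G := by
    ext g
    rw [MonoidHom.mem_ker]
    show ((e (QuotientGroup.mk g) : alternatingGroup (Fin n)) : Equiv.Perm (Fin n)) = 1 ↔ _
    rw [OneMemClass.coe_eq_one, map_eq_one_iff e e.injective, QuotientGroup.eq_one_iff]
  have hπ : CfsgLib.SpinAlt.Cover π := by
    refine ⟨by rw [Fintype.card_fin]; exact hn, ?_, hker.le, by rw [hker]; exact hZ, hperf⟩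
    ext s
    constructor
    · rintro ⟨g, rfl⟩
      exact (e _).2
    · intro hs
      obtain ⟨g, hg⟩ := QuotientGroup.mk_surjective (e.symm ⟨s, hs⟩)
      refine ⟨g, ?_⟩
      show ((e (QuotientGroup.mk g) : alternatingGroup (Fin n)) : Equiv.Perm (Fin n)) = s
      rw [hg, MulEquiv.apply_symm_apply]
  exact hπ.exists_commutator g

end Cfsg.Agent.S2493
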