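import Cfsg.Statements.S2500
import Cfsg.Agent.Lib.TwoCover.Linear
import Cfsg.Agent.Lib.TwoCover.SympTwo
import Cfsg.Agent.Lib.TwoCover.GTwo
import Cfsg.Agent.Lib.TwoCover.UFour
import Cfsg.Agent.Lib.TwoCover.UThree
import Cfsg.Agent.Lib.TwoCover.SympThree

set_option autoImplicit false
open Cfsg

namespace Cfsg.Agent.S2500

/-- The infinite families of simple groups with normal covering number 2. For a finite field F: each of PSL_2(F) (|F| ≥ 4), PSL_3(F), PSL_4(F), PSU_4 over F (|F| = q²), PSU_3 over F when |F| = q² with q a power of 3, PSp_{2m}(F) for |F| even, m ≥ 2 and (m, |F|) ≠ (2, 2), PSp_6(F) for |F| a power of 3, and G_2(F) (automorphisms of the split octonions) for |F| = 2^a ≥ 4 is the union of the conjugates of two proper subgroups: there are proper subgroups H, K such that every element is conjugate into H or into K. -/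
theorem result {F : Type} [Field F] [Fintype F] :
    (4 ≤ Fintype.card F → (∃ H K : Subgroup (Matrix.ProjectiveSpecialLinearGroup (Fin 2) F), H ≠ ⊤ ∧ K ≠ ⊤ ∧ ∀ g : (Matrix.ProjectiveSpecialLinearGroup (Fin 2) F), ∃ x : (Matrix.ProjectiveSpecialLinearGroup (Fin 2) F), x * g * x⁻¹ ∈ H ∨ x * g * x⁻¹ ∈ K)) ∧
    (∃ H K : Subgroup (Matrix.ProjectiveSpecialLinearGroup (Fin 3) F), H ≠ ⊤ ∧ K ≠ ⊤ ∧ ∀ g : (Matrix.ProjectiveSpecialLinearGroup (Fin 3) F), ∃ x : (Matrix.ProjectiveSpecialLinearGroup (Fin 3) F), x * g * x⁻¹ ∈ H ∨ x * g * x⁻¹ ∈ K) ∧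
    (∃ H K : Subgroup (Matrix.ProjectiveSpecialLinearGroup (Fin 4) F), H ≠ ⊤ ∧ K ≠ ⊤ ∧ ∀ g : (Matrix.ProjectiveSpecialLinearGroup (Fin 4) F), ∃ x : (Matrix.ProjectiveSpecialLinearGroup (Fin 4) F), x * g * x⁻¹ ∈ H ∨ x * g * x⁻¹ ∈ K) ∧
    (∀ q : ℕ, Fintype.card F = q ^ 2 → (∃ H K : Subgroup (Cfsg.PSU 4 F q), H ≠ ⊤ ∧ K ≠ ⊤ ∧ ∀ g : (Cfsg.PSU 4 F q), ∃ x : (Cfsg.PSU 4 F q), x * g * x⁻¹ ∈ H ∨ x * g * x⁻¹ ∈ K)) ∧
    (∀ q a : ℕ, Fintype.card F = q ^ 2 → 1 ≤ a → q = 3 ^ a → (∃ H K : Subgroup (Cfsg.PSU 3 F q), H ≠ ⊤ ∧ K ≠ ⊤ ∧ ∀ g : (Cfsg.PSU 3 F q), ∃ x : (Cfsg.PSU 3 F q), x * g * x⁻¹ ∈ H ∨ x * g * x⁻¹ ∈ K)) ∧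
    (∀ m : ℕ, 2 ≤ m → ¬ Odd (Fintype.card F) → ¬ (m = 2 ∧ Fintype.card F = 2) → (∃ H K : Subgroup (Cfsg.PSp m F), H ≠ ⊤ ∧ K ≠ ⊤ ∧ ∀ g : (Cfsg.PSp m F), ∃ x : (Cfsg.PSp m F), x * g * x⁻¹ ∈ H ∨ x * g * x⁻¹ ∈ K)) ∧
    (∀ a : ℕ, 1 ≤ a → Fintype.card F = 3 ^ a → (∃ H K : Subgroup (Cfsg.PSp 3 F), H ≠ ⊤ ∧ K ≠ ⊤ ∧ ∀ g : (Cfsg.PSp 3 F), ∃ x : (Cfsg.PSp 3 F), x * g * x⁻¹ ∈ H ∨ x * g * x⁻¹ ∈ K)) ∧
    (∀ a : ℕ, 2 ≤ a → Fintype.card F = 2 ^ a → (∃ H K : Subgroup (Cfsg.Lie.G2 F), H ≠ ⊤ ∧ K ≠ ⊤ ∧ ∀ g : (Cfsg.Lie.G2 F), ∃ x : (Cfsg.Lie.G2 F), x * g * x⁻¹ ∈ H ∨ x * g * x⁻¹ ∈ K)) := by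
  classical
  have hchar : ∀ p k : ℕ, p.Prime → 1 ≤ k → Fintype.card F = p ^ k → CharP F p := by
    intro p k hp hk h
    obtain ⟨r, hr⟩ := CharP.exists F
    obtain ⟨c, hrp, hc⟩ := FiniteField.card F r
    have hd : p ∣ r ^ (c : ℕ) := by rw [← hc, h]; exact dvd_pow_self p (by omega)
    rwa [(Nat.prime_dvd_prime_iff_eq hp hrp).1 (hp.dvd_of_dvd_pow hd)]
  refine ⟨fun _ => CfsgLib.TwoCover.covered_psl (d := 2) (Or.inl ⟨rfl, rfl⟩),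
    CfsgLib.TwoCover.covered_psl (d := 3) (Or.inr (Or.inl ⟨rfl, rfl⟩)),
    CfsgLib.TwoCover.covered_psl (d := 2) (Or.inr (Or.inr ⟨rfl, rfl⟩)),
    fun q hq => ?_, fun q a hq ha hqa => ?_, fun m hm hodd _ => ?_, fun a ha hF => ?_,
    fun a ha hF => ?_⟩
  · obtain ⟨p, hp, hcp, -, ⟨K⟩⟩ := CfsgLib.TwoCover.exists_conj_of_card hq
    have := Fact.mk hp
    exact CfsgLib.TwoCover.covered_psu_four K p
  · obtain ⟨p, hp, hcp, -, ⟨K⟩⟩ := CfsgLib.TwoCover.exists_conj_of_card hq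
    have h3 : CharP F 3 := hchar 3 (a * 2) Nat.prime_three (by omega) (by rw [hq, hqa, ← pow_mul])
    exact CfsgLib.TwoCover.covered_psu_three K hqa
      (by rw [hqa]; exact Nat.le_self_pow (by omega) 3)
  · have h2 : (2 : F) = 0 := by
      have : ringChar F = 2 := FiniteField.even_card_iff_char_two.2
        (Nat.even_iff.1 (Nat.not_odd_iff_even.1 hodd))
      have hc : CharP F 2 := this ▸ ringChar.charP F
      exact_mod_cast CharP.cast_eq_zero F 2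
    exact CfsgLib.TwoCover.covered_psp_two h2 hm
  · have h3 : CharP F 3 := hchar 3 a Nat.prime_three ha hF
    exact CfsgLib.TwoCover.Symp.covered_psp_three
  · have h2' : CharP F 2 := hchar 2 a Nat.prime_two (by omega) hF
    refine CfsgLib.TwoCover.covered_g2 (by exact_mod_cast CharP.cast_eq_zero F 2) ?_
    by_contra h
    push Not at h
    have hsub : (Finset.univ : Finset F) ⊆ {0, 1} := fun k _ => by
      rcases eq_or_ne k 0 with rfl | hk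
      · simp
      · simp [h k hk]
    have hle := (Finset.card_le_card hsub).trans Finset.card_le_two
    rw [Finset.card_univ, hF] at hle
    have : 2 ^ 2 ≤ 2 ^ a := Nat.pow_le_pow_right (by norm_num) ha
    omega

end Cfsg.Agent.S2500
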