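import Cfsg.Statements.S2504
import Cfsg.Agent.Lib.Perm.AbelianOrderBound
-- import your own Cfsg.Agent.* helpers here

set_option autoImplicit false
open Cfsg

namespace Cfsg.Agent.S2504

open CfsgLib.PermAbelianBound

/-- A commutative group acting faithfully by even permutations. -/
lemma abAltAux_exists {n : ℕ} {β : Type*} [Fintype β] [DecidableEq β] (e : β ≃ Fin n)
    {B : Type*} [CommGroup B] (f : B →* Equiv.Perm β) (hf : Function.Injective f)
    (hs : ∀ b, Equiv.Perm.sign (f b) = 1) :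
    ∃ A : Subgroup (alternatingGroup (Fin n)), IsMulCommutative A ∧ Nat.card A = Nat.card B := by
  let g : B →* alternatingGroup (Fin n) :=
    (e.permCongrHom.toMonoidHom.comp f).codRestrict _ fun b => by
      rw [Equiv.Perm.mem_alternatingGroup]
      show Equiv.Perm.sign (e.permCongr (f b)) = 1
      rw [Equiv.Perm.sign_permCongr, hs]
  have hg : Function.Injective g := fun a b h =>
    hf (e.permCongrHom.injective (congrArg Subtype.val h))
  refine ⟨g.range, ⟨⟨?_⟩⟩, (Nat.card_congr (MonoidHom.ofInjective hg).toEquiv).symm⟩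
  rintro ⟨_, a, rfl⟩ ⟨_, b, rfl⟩
  apply Subtype.ext
  show g a * g b = g b * g a
  rw [← map_mul, ← map_mul, mul_comm]

/-- Translations in each of `k` blocks of three points. -/
def abAltAux_blocks (k : ℕ) : (Fin k → Multiplicative (ZMod 3)) →* Equiv.Perm (Fin k × ZMod 3) where
  toFun v :=
    { toFun := fun z => (z.1, z.2 + Multiplicative.toAdd (v z.1))
      invFun := fun z => (z.1, z.2 - Multiplicative.toAdd (v z.1))
      left_inv := fun z => Prod.ext rfl (add_sub_cancel_right _ _)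
      right_inv := fun z => Prod.ext rfl (sub_add_cancel _ _) }
  map_one' := Equiv.ext fun z => Prod.ext rfl (add_zero _)
  map_mul' v w := Equiv.ext fun z => by
    refine Prod.ext rfl ?_
    show z.2 + Multiplicative.toAdd (v z.1 * w z.1)
      = z.2 + Multiplicative.toAdd (w z.1) + Multiplicative.toAdd (v z.1)
    rw [toAdd_mul, add_comm (Multiplicative.toAdd (v z.1)), add_assoc]

lemma abAltAux_blocks_inj (k : ℕ) : Function.Injective (abAltAux_blocks k) := by
  intro v w h
  funext i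
  have := congrArg (fun e : Equiv.Perm (Fin k × ZMod 3) => (e (i, 0)).2) h
  simp only [abAltAux_blocks, MonoidHom.coe_mk, OneHom.coe_mk, Equiv.coe_fn_mk] at this
  exact Multiplicative.toAdd.injective (add_left_cancel this)

lemma abAltAux_units_cube : ∀ u : ℤˣ, u ^ 3 = 1 → u = 1 := by decide

lemma abAltAux_blocks_sign (k : ℕ) (v : Fin k → Multiplicative (ZMod 3)) :
    Equiv.Perm.sign (abAltAux_blocks k v) = 1 := by
  apply abAltAux_units_cube
  rw [← map_pow, ← map_pow]
  have : v ^ 3 = 1 := by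
    funext i
    show v i ^ 3 = 1
    generalize v i = x
    revert x
    decide
  rw [this, map_one, map_one]

/-- The Klein four group acting regularly. -/
def abAltAux_four : (Multiplicative (ZMod 2 × ZMod 2)) →* Equiv.Perm (Multiplicative (ZMod 2 × ZMod 2)) :=
  MulAction.toPermHom _ _

lemma abAltAux_four_sign : ∀ x, Equiv.Perm.sign (abAltAux_four x) = 1 := by decide

lemma abAltAux_four_inj : Function.Injective abAltAux_four := by decide

/-- Gluing two even actions. -/
lemma abAltAux_sum {β γ B C : Type*} [Fintype β] [DecidableEq β] [Fintype γ] [DecidableEq γ]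
    [CommGroup B] [CommGroup C] (f : B →* Equiv.Perm β) (g : C →* Equiv.Perm γ)
    (hf : Function.Injective f) (hg : Function.Injective g)
    (hfs : ∀ b, Equiv.Perm.sign (f b) = 1) (hgs : ∀ c, Equiv.Perm.sign (g c) = 1) :
    ∃ h : B × C →* Equiv.Perm (β ⊕ γ), Function.Injective h ∧ ∀ x, Equiv.Perm.sign (h x) = 1 := by
  refine ⟨(Equiv.Perm.sumCongrHom β γ).comp (f.prodMap g), ?_, fun x => ?_⟩
  · intro a b h
    have h' := Equiv.Perm.sumCongrHom_injective h
    exact Prod.ext (hf (congrArg Prod.fst h')) (hg (congrArg Prod.snd h'))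
  · show Equiv.Perm.sign (Equiv.sumCongr (f x.1) (g x.2)) = 1
    rw [Equiv.Perm.sign_sumCongr, hfs, hgs, one_mul]

lemma abAltAux_bound {n : ℕ} (A : Subgroup (alternatingGroup (Fin n))) (hA : IsMulCommutative A) :
    ∃ B : Subgroup (Equiv.Perm (Fin n)), (∀ a ∈ B, ∀ b ∈ B, a * b = b * a) ∧
      (∀ a ∈ B, Equiv.Perm.sign a = 1) ∧ Nat.card B = Nat.card A := by
  refine ⟨A.map (alternatingGroup (Fin n)).subtype, ?_, ?_,
    Subgroup.card_map_of_injective (Subgroup.subtype_injective _)⟩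
  · rintro _ ⟨a, ha, rfl⟩ _ ⟨b, hb, rfl⟩
    rw [← map_mul, ← map_mul]
    congr 1
    exact congrArg Subtype.val (hA.is_comm.comm ⟨a, ha⟩ ⟨b, hb⟩)
  · rintro _ ⟨a, _, rfl⟩
    exact Equiv.Perm.mem_alternatingGroup.1 a.2

/-- The largest order of an abelian subgroup of the alternating group of degree n is 3^k when n = 3k, 4·3^(k−1) when n = 3k + 1, and 16·3^(k−2) when n = 3k + 2, for every k ≥ 2 (so for all degrees n ≥ 6). -/
theorem result (k : ℕ) (hk : 2 ≤ k) :
    IsGreatest {c : ℕ | ∃ A : Subgroup (alternatingGroup (Fin (3 * k))), IsMulCommutative A ∧ Nat.card A = c} (3 ^ k) ∧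
    IsGreatest {c : ℕ | ∃ A : Subgroup (alternatingGroup (Fin (3 * k + 1))), IsMulCommutative A ∧ Nat.card A = c}
      (4 * 3 ^ (k - 1)) ∧
    IsGreatest {c : ℕ | ∃ A : Subgroup (alternatingGroup (Fin (3 * k + 2))), IsMulCommutative A ∧ Nat.card A = c}
      (16 * 3 ^ (k - 2)) := by
  classical
  have hblock : ∀ j : ℕ, Nat.card (Fin j → Multiplicative (ZMod 3)) = 3 ^ j := fun j => by
    simp
  have hfour : Nat.card (Multiplicative (ZMod 2 × ZMod 2)) = 4 := by simp
  obtain ⟨i, rfl⟩ : ∃ i, k = i + 2 := ⟨k - 2, by omega⟩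
  refine ⟨⟨?_, ?_⟩, ⟨?_, ?_⟩, ⟨?_, ?_⟩⟩
  · obtain ⟨A, hA, hc⟩ := abAltAux_exists (n := 3 * (i + 2))
      (Fintype.equivFinOfCardEq (by simp; ring))
      (abAltAux_blocks (i + 2)) (abAltAux_blocks_inj _) (abAltAux_blocks_sign _)
    exact ⟨A, hA, by rw [hc, hblock]⟩
  · rintro c ⟨A, hA, rfl⟩
    obtain ⟨B, hB, -, hc⟩ := abAltAux_bound A hA
    rw [← hc, ← maxOrd_zero_mod]
    exact card_le_maxOrd _ (Fintype.card_fin _) B hB
  · obtain ⟨h, hi, hs⟩ := abAltAux_sum (abAltAux_blocks (i + 1)) abAltAux_four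
      (abAltAux_blocks_inj _) abAltAux_four_inj (abAltAux_blocks_sign _) abAltAux_four_sign
    obtain ⟨A, hA, hc⟩ := abAltAux_exists (n := 3 * (i + 2) + 1)
      (Fintype.equivFinOfCardEq (by simp; ring)) h hi hs
    refine ⟨A, hA, ?_⟩
    rw [hc, Nat.card_prod, hblock, hfour, show i + 2 - 1 = i + 1 by omega, mul_comm]
  · rintro c ⟨A, hA, rfl⟩
    obtain ⟨B, hB, -, hc⟩ := abAltAux_bound A hA
    rw [← hc, ← maxOrd_one_mod _ (by omega)]
    exact card_le_maxOrd _ (Fintype.card_fin _) B hB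
  · obtain ⟨g, gi, gs⟩ := abAltAux_sum abAltAux_four abAltAux_four
      abAltAux_four_inj abAltAux_four_inj abAltAux_four_sign abAltAux_four_sign
    obtain ⟨h, hi, hs⟩ := abAltAux_sum (abAltAux_blocks i) g
      (abAltAux_blocks_inj _) gi (abAltAux_blocks_sign _) gs
    obtain ⟨A, hA, hc⟩ := abAltAux_exists (n := 3 * (i + 2) + 2)
      (Fintype.equivFinOfCardEq (by simp; ring)) h hi hs
    refine ⟨A, hA, ?_⟩
    rw [hc, Nat.card_prod, Nat.card_prod, hblock, hfour, Nat.add_sub_cancel, mul_comm]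
  · rintro c ⟨A, hA, rfl⟩
    obtain ⟨B, hB, hBs, hc⟩ := abAltAux_bound A hA
    rw [← hc, Nat.add_sub_cancel]
    exact card_le_altBound (i + 2) (Fintype.card_fin _) B hB hBs

end Cfsg.Agent.S2504
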