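import Cfsg.Statements.S2505
import Mathlib


set_option autoImplicit false
set_option linter.style.haveILetI false
open Cfsg

namespace Cfsg.Agent.S2505

/-- The largest product of positive integers with given sum. -/
def best : ℕ → ℕ
  | 0 => 1
  | 1 => 1
  | 2 => 2
  | 3 => 3
  | 4 => 4
  | n + 5 => 3 * best (n + 2)

theorem best_add_three {n : ℕ} (hn : 2 ≤ n) : best (n + 3) = 3 * best n := by
  obtain ⟨m, rfl⟩ := Nat.exists_eq_add_of_le' hn
  rw [show m + 2 + 3 = m + 5 from rfl, best]

theorem best_supermul : ∀ a b : ℕ, best a * best b ≤ best (a + b) := by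
  have key : ∀ (s a b : ℕ), a + b = s → best a * best b ≤ best s := by
    intro s
    induction s using Nat.strong_induction_on with
    | _ s ih =>
      intro a b hs
      by_cases ha : 5 ≤ a
      · obtain ⟨m, rfl⟩ := Nat.exists_eq_add_of_le' ha
        rw [show m + 5 = (m + 2) + 3 from rfl, best_add_three (by omega)]
        have := ih (m + 2 + b) (by omega) (m + 2) b rfl
        rw [show s = m + 2 + b + 3 by omega, best_add_three (by omega), mul_assoc]
        exact Nat.mul_le_mul_left 3 this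
      by_cases hb : 5 ≤ b
      · obtain ⟨m, rfl⟩ := Nat.exists_eq_add_of_le' hb
        rw [show m + 5 = (m + 2) + 3 from rfl, best_add_three (by omega)]
        have := ih (a + (m + 2)) (by omega) a (m + 2) rfl
        rw [show s = a + (m + 2) + 3 by omega, best_add_three (by omega), mul_left_comm]
        exact Nat.mul_le_mul_left 3 this
      subst hs
      interval_cases a <;> interval_cases b <;> simp [best]
  exact fun a b => key _ a b rfl

theorem le_best (a : ℕ) : a ≤ best a := by
  induction a using Nat.strong_induction_on with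
  | _ a ih =>
    by_cases ha : 5 ≤ a
    · obtain ⟨m, rfl⟩ := Nat.exists_eq_add_of_le' ha
      rw [show m + 5 = (m + 2) + 3 from rfl, best_add_three (by omega)]
      have := ih (m + 2) (by omega)
      omega
    · interval_cases a <;> simp [best]

theorem best_three : ∀ k : ℕ, best (3 * k) = 3 ^ k ∧ best (3 * k + 2) = 2 * 3 ^ k ∧ best (3 * k + 4) = 4 * 3 ^ k
  | 0 => ⟨rfl, rfl, rfl⟩
  | 1 => ⟨rfl, rfl, rfl⟩
  | k + 2 => by
    obtain ⟨h1, h2, h3⟩ := best_three (k + 1)
    refine ⟨?_, ?_, ?_⟩
    · rw [show 3 * (k + 2) = 3 * (k + 1) + 3 by ring, best_add_three (by omega), h1]; ring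
    · rw [show 3 * (k + 2) + 2 = 3 * (k + 1) + 2 + 3 by ring, best_add_three (by omega), h2]; ring
    · rw [show 3 * (k + 2) + 4 = 3 * (k + 1) + 4 + 3 by ring, best_add_three (by omega), h3]; ring

theorem prod_le_best {ι : Type*} (s : Finset ι) (f : ι → ℕ) : ∏ i ∈ s, f i ≤ best (∑ i ∈ s, f i) := by
  classical
  induction s using Finset.induction_on with
  | empty => simp [best]
  | insert i s hi ih =>
    rw [Finset.prod_insert hi, Finset.sum_insert hi]
    exact (Nat.mul_le_mul (le_best _) ih).trans (best_supermul _ _)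

theorem card_le_best {Ω : Type*} [Finite Ω] (A : Subgroup (Equiv.Perm Ω)) (hA : IsMulCommutative A) :
    Nat.card A ≤ best (Nat.card Ω) := by
  classical
  haveI : Fintype Ω := Fintype.ofFinite Ω
  let O := Quotient (MulAction.orbitRel A Ω)
  haveI : Fintype O := Fintype.ofFinite O
  let φ : A → (o : O) → MulAction.orbit A o.out := fun a o => ⟨a • o.out, MulAction.mem_orbit _ a⟩
  have hφ : Function.Injective φ := by
    intro a b h
    refine Subtype.ext (Equiv.ext fun x => ?_)
    let o : O := Quotient.mk'' x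
    obtain ⟨c, hc⟩ : x ∈ MulAction.orbit A o.out :=
      MulAction.orbitRel_apply.mp (Quotient.exact' o.out_eq.symm)
    have h1 : a • o.out = b • o.out := congrArg Subtype.val (congrFun h o)
    show a • x = b • x
    rw [← hc]
    show a • c • o.out = b • c • o.out
    rw [smul_smul, smul_smul, hA.is_comm.comm a c, hA.is_comm.comm b c, ← smul_smul, h1, smul_smul]
  have hcard : Nat.card Ω = ∑ o : O, Nat.card (MulAction.orbit A o.out) := by
    rw [Nat.card_congr (MulAction.selfEquivSigmaOrbits A Ω), Nat.card_sigma]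
  calc Nat.card A ≤ Nat.card ((o : O) → MulAction.orbit A o.out) := Nat.card_le_card_of_injective φ hφ
    _ = ∏ o : O, Nat.card (MulAction.orbit A o.out) := Nat.card_pi
    _ ≤ _ := by rw [hcard]; exact prod_le_best _ _

/-- An abelian group acting regularly on each block. -/
theorem exists_abelian {ι : Type*} [Fintype ι] (d : ι → ℕ) (hd : ∀ i, d i ≠ 0) {n : ℕ}
    (hn : ∑ i, d i = n) :
    ∃ A : Subgroup (Equiv.Perm (Fin n)), IsMulCommutative A ∧ Nat.card A = ∏ i, d i := by
  classical
  haveI : ∀ i, NeZero (d i) := fun i => ⟨hd i⟩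
  let M := (i : ι) → Multiplicative (ZMod (d i))
  let Ω := Σ i, Multiplicative (ZMod (d i))
  let act : M →* Equiv.Perm Ω :=
    { toFun := fun m => Equiv.sigmaCongrRight fun i => Equiv.mulLeft (m i)
      map_one' := Equiv.ext fun ⟨i, x⟩ => by simp [M]
      map_mul' := fun u v => Equiv.ext fun ⟨i, x⟩ => by simp [M, mul_assoc] }
  have hact : Function.Injective act := fun u v h => funext fun i => by
    have := Equiv.congr_fun h ⟨i, 1⟩
    simp [act, Equiv.sigmaCongrRight] at this
    exact eq_of_heq (Sigma.mk.inj_iff.mp this).2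
  let e : Ω ≃ Fin n := Finite.equivFinOfCardEq (by rw [Nat.card_sigma]; simp [hn])
  let f : M →* Equiv.Perm (Fin n) := e.permCongrHom.toMonoidHom.comp act
  have hf : Function.Injective f := e.permCongrHom.injective.comp hact
  refine ⟨f.range, ⟨⟨?_⟩⟩, ?_⟩
  · rintro ⟨_, u, rfl⟩ ⟨_, v, rfl⟩
    exact Subtype.ext (by show f u * f v = f v * f u; rw [← map_mul, mul_comm, map_mul])
  · rw [← Nat.card_congr (MonoidHom.ofInjective hf).toEquiv, Nat.card_pi]
    simp


/-- The largest order of an abelian subgroup of the symmetric group of degree n is 3^k when n = 3k, 4·3^(k−1) when n = 3k + 1, and 2·3^k when n = 3k + 2, for every k ≥ 1. -/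
theorem result (k : ℕ) (hk : 1 ≤ k) :
    IsGreatest {c : ℕ | ∃ A : Subgroup (Equiv.Perm (Fin (3 * k))), IsMulCommutative A ∧ Nat.card A = c} (3 ^ k) ∧
    IsGreatest {c : ℕ | ∃ A : Subgroup (Equiv.Perm (Fin (3 * k + 1))), IsMulCommutative A ∧ Nat.card A = c}
      (4 * 3 ^ (k - 1)) ∧
    IsGreatest {c : ℕ | ∃ A : Subgroup (Equiv.Perm (Fin (3 * k + 2))), IsMulCommutative A ∧ Nat.card A = c}
      (2 * 3 ^ k) := by
  obtain ⟨m, rfl⟩ := Nat.exists_eq_add_of_le' hk
  obtain ⟨h1, h2, -⟩ := best_three (m + 1)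
  obtain ⟨-, -, h3⟩ := best_three m
  refine ⟨⟨exists_abelian (fun _ : Fin (m + 1) => 3) (by simp) (by simp [mul_comm]) |> fun ⟨A, hA, hc⟩ => ⟨A, hA, hc.trans (by simp)⟩, ?_⟩,
    ⟨exists_abelian (Fin.cons 4 fun _ : Fin m => 3) (Fin.cases (by simp) (by simp)) (by simp [Fin.sum_univ_succ]; omega) |> fun ⟨A, hA, hc⟩ => ⟨A, hA, hc.trans (by simp [Fin.prod_univ_succ])⟩, ?_⟩,
    ⟨exists_abelian (Fin.cons 2 fun _ : Fin (m + 1) => 3) (Fin.cases (by simp) (by simp)) (by simp [Fin.sum_univ_succ]; omega) |> fun ⟨A, hA, hc⟩ => ⟨A, hA, hc.trans (by simp [Fin.prod_univ_succ])⟩, ?_⟩⟩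
  · rintro c ⟨A, hA, rfl⟩
    have := card_le_best A hA
    rwa [Nat.card_fin, h1] at this
  · rintro c ⟨A, hA, rfl⟩
    have := card_le_best A hA
    rw [Nat.card_fin] at this
    rw [Nat.add_sub_cancel, ← h3]
    exact this.trans (le_of_eq (congrArg best (by ring)))
  · rintro c ⟨A, hA, rfl⟩
    have := card_le_best A hA
    rwa [Nat.card_fin, h2] at this
end Cfsg.Agent.S2505
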