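import Cfsg.Statements.S2506
import Cfsg.Agent.S2505
-- import your own Cfsg.Agent.* helpers here

set_option autoImplicit false
open scoped Pointwise
open Cfsg

namespace Cfsg.Agent.S2506

open Equiv

section Numbers

/-- The largest product of parts different from two. -/
def gb : ℕ → ℕ
  | 0 => 1
  | 1 => 1
  | 2 => 1
  | 3 => 3
  | 4 => 4
  | 5 => 5
  | 6 => 9
  | 7 => 12
  | 8 => 16
  | n + 9 => 3 * gb (n + 6)

theorem gb_add_three {n : ℕ} (hn : 6 ≤ n) : gb (n + 3) = 3 * gb n := by
  obtain ⟨m, rfl⟩ := Nat.exists_eq_add_of_le' hn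
  rw [show m + 6 + 3 = m + 9 from rfl, gb]

theorem gb_mul : ∀ a b : ℕ, gb a * gb b ≤ gb (a + b) := by
  have key : ∀ s a b : ℕ, a + b = s → gb a * gb b ≤ gb s := by
    intro s
    induction s using Nat.strong_induction_on with
    | _ s ih =>
      intro a b hs
      by_cases ha : 9 ≤ a
      · obtain ⟨m, rfl⟩ := Nat.exists_eq_add_of_le' ha
        rw [show m + 9 = (m + 6) + 3 from rfl, gb_add_three (n := m + 6) (by omega), show s = m + 6 + b + 3 by omega,
          gb_add_three (n := m + 6 + b) (by omega), mul_assoc]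
        exact Nat.mul_le_mul_left 3 (ih (m + 6 + b) (by omega) (m + 6) b rfl)
      by_cases hb : 9 ≤ b
      · obtain ⟨m, rfl⟩ := Nat.exists_eq_add_of_le' hb
        rw [show m + 9 = (m + 6) + 3 from rfl, gb_add_three (n := m + 6) (by omega), show s = a + (m + 6) + 3 by omega,
          gb_add_three (n := a + (m + 6)) (by omega), mul_left_comm]
        exact Nat.mul_le_mul_left 3 (ih (a + (m + 6)) (by omega) a (m + 6) rfl)
      subst hs
      interval_cases a <;> interval_cases b <;> simp [gb]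
  exact fun a b => key _ a b rfl

theorem gb_pos : ∀ n, 0 < gb n := by
  intro n
  induction n using Nat.strong_induction_on with
  | _ n ih =>
    by_cases h : 9 ≤ n
    · obtain ⟨m, rfl⟩ := Nat.exists_eq_add_of_le' h
      have := ih (m + 6) (by omega)
      rw [gb]; omega
    · interval_cases n <;> simp [gb]

theorem lt_gb : ∀ a, 6 ≤ a → a < gb a := by
  intro a
  induction a using Nat.strong_induction_on with
  | _ a ih =>
    intro ha
    by_cases h : 9 ≤ a
    · obtain ⟨m, rfl⟩ := Nat.exists_eq_add_of_le' h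
      have := ih (m + 6) (by omega) (by omega)
      rw [gb]; omega
    · interval_cases a <;> simp [gb]

/-- The sums at which only threes and fours are optimal. -/
def Rigid (n : ℕ) : Prop := n = 3 ∨ n = 4 ∨ 6 ≤ n

theorem gb_step (a m : ℕ) (ha : 1 ≤ a) (ha2 : a ≠ 2) : a * gb m ≤ gb (a + m) ∧
    (Rigid (a + m) → a * gb m = gb (a + m) → (a = 3 ∨ a = 4) ∧ (m = 0 ∨ Rigid m)) := by
  by_cases h6 : 6 ≤ a
  · have h := (Nat.mul_lt_mul_of_pos_right (lt_gb a h6) (gb_pos m)).trans_le (gb_mul a m)
    exact ⟨h.le, fun _ e => absurd e h.ne⟩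
  induction m using Nat.strong_induction_on with
  | _ m ih =>
    by_cases hm : 9 ≤ m
    · obtain ⟨r, rfl⟩ := Nat.exists_eq_add_of_le' hm
      obtain ⟨h1, h2⟩ := ih (r + 6) (by omega)
      rw [show a + (r + 9) = a + (r + 6) + 3 by omega, gb_add_three (n := a + (r + 6)) (by omega), show r + 9 = r + 6 + 3 from rfl, gb_add_three (n := r + 6) (by omega), mul_left_comm]
      refine ⟨Nat.mul_le_mul_left 3 h1, fun _ e => ⟨(h2 (Or.inr (Or.inr (by omega))) (by omega)).1,
        Or.inr (Or.inr (Or.inr (by omega)))⟩⟩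
    · have h5 : a ≤ 5 := by omega
      interval_cases a <;> interval_cases m <;> simp [gb, Rigid] at *

theorem gb_prod {ι : Type*} (s : Finset ι) (f : ι → ℕ) (h1 : ∀ i ∈ s, 1 ≤ f i) (h2 : ∀ i ∈ s, f i ≠ 2) :
    ∏ i ∈ s, f i ≤ gb (∑ i ∈ s, f i) ∧ (Rigid (∑ i ∈ s, f i) → ∏ i ∈ s, f i = gb (∑ i ∈ s, f i) →
      ∀ i ∈ s, f i = 3 ∨ f i = 4) := by
  classical
  induction s using Finset.induction_on with
  | empty => simp [gb, Rigid]
  | insert i s hi ih =>
    obtain ⟨ih1, ih2⟩ := ih (fun j hj => h1 j (Finset.mem_insert_of_mem hj))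
      (fun j hj => h2 j (Finset.mem_insert_of_mem hj))
    obtain ⟨g1, g2⟩ := gb_step (f i) (∑ j ∈ s, f j) (h1 i (Finset.mem_insert_self ..)) (h2 i (Finset.mem_insert_self ..))
    rw [Finset.prod_insert hi, Finset.sum_insert hi]
    have hle := Nat.mul_le_mul_left (f i) ih1
    refine ⟨hle.trans g1, fun hR he => ?_⟩
    have e1 : f i * gb (∑ j ∈ s, f j) = gb (f i + ∑ j ∈ s, f j) := le_antisymm g1 (by omega)
    obtain ⟨hfi, hrest⟩ := g2 hR e1
    intro j hj
    rcases Finset.mem_insert.mp hj with rfl | hj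
    · exact hfi
    rcases hrest with h0 | hR'
    · have := Finset.single_le_sum (f := f) (fun _ _ => Nat.zero_le _) hj
      have := h1 j (Finset.mem_insert_of_mem hj)
      omega
    · refine ih2 hR' (Nat.eq_of_mul_eq_mul_left (show 0 < f i by omega) ?_) j hj
      omega

theorem gb_pow (x y : ℕ) : 3 ^ x * 4 ^ y ≤ gb (3 * x + 4 * y) := by
  have h := (gb_prod (Finset.univ : Finset (Fin x ⊕ Fin y)) (Sum.elim (fun _ => 3) fun _ => 4)
    (by rintro (i | i) - <;> simp) (by rintro (i | i) - <;> simp)).1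
  simpa [Fintype.prod_sum_type, Fintype.sum_sum_type, mul_comm] using h

theorem gb_attained : ∀ n, Rigid n → ∃ x y, 3 * x + 4 * y = n ∧ 3 ^ x * 4 ^ y = gb n := by
  intro n
  induction n using Nat.strong_induction_on with
  | _ n ih =>
    intro hn
    by_cases h : 9 ≤ n
    · obtain ⟨m, rfl⟩ := Nat.exists_eq_add_of_le' h
      obtain ⟨x, y, e1, e2⟩ := ih (m + 6) (by omega) (Or.inr (Or.inr (by omega)))
      exact ⟨x + 1, y, by omega, by rw [gb, ← e2]; ring⟩
    · rcases hn with rfl | rfl | hn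
      · exact ⟨1, 0, rfl, rfl⟩
      · exact ⟨0, 1, rfl, rfl⟩
      · interval_cases n
        · exact ⟨2, 0, rfl, rfl⟩
        · exact ⟨1, 1, rfl, rfl⟩
        · exact ⟨0, 2, rfl, rfl⟩

theorem best_lt_two_gb : ∀ n, 3 ≤ n → S2505.best n < 2 * gb n := by
  intro n
  induction n using Nat.strong_induction_on with
  | _ n ih =>
    intro hn
    by_cases h : 9 ≤ n
    · obtain ⟨m, rfl⟩ := Nat.exists_eq_add_of_le' h
      have := ih (m + 6) (by omega) (by omega)
      rw [gb, show m + 9 = m + 6 + 3 from rfl, S2505.best_add_three (by omega)]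
      omega
    · interval_cases n <;> simp [gb, S2505.best]

end Numbers

section Perms

variable {Ω : Type*}

/-- Permutations agreeing on each orbit with a member. -/
def glue [Finite Ω] (A : Subgroup (Perm Ω)) : Subgroup (Perm Ω) where
  carrier := {σ | ∀ x, ∃ a ∈ A, ∀ c ∈ A, σ (c x) = a (c x)}
  one_mem' := fun _ => ⟨1, one_mem A, fun _ _ => rfl⟩
  mul_mem' := fun {σ τ} hσ hτ x => by
    obtain ⟨a, ha, hA⟩ := hσ x
    obtain ⟨b, hb, hB⟩ := hτ x
    refine ⟨a * b, mul_mem ha hb, fun c hc => ?_⟩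
    rw [Perm.mul_apply, hB c hc]
    exact hA (b * c) (mul_mem hb hc)
  inv_mem' := fun {σ} hσ x => by
    obtain ⟨a, ha, hA⟩ := hσ x
    refine ⟨a⁻¹, inv_mem ha, fun c hc => ?_⟩
    rw [Perm.inv_def, Equiv.symm_apply_eq]
    have := hA (a⁻¹ * c) (mul_mem (inv_mem ha) hc)
    rw [Perm.mul_apply] at this
    rw [this]
    simp

theorem le_glue [Finite Ω] (A : Subgroup (Perm Ω)) : A ≤ glue A := fun σ hσ _ => ⟨σ, hσ, fun _ _ => rfl⟩

theorem glue_comm [Finite Ω] {A : Subgroup (Perm Ω)} (hA : ∀ a ∈ A, ∀ b ∈ A, a * b = b * a) :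
    ∀ σ ∈ glue A, ∀ τ ∈ glue A, σ * τ = τ * σ := by
  intro σ hσ τ hτ
  ext x
  obtain ⟨a, ha, hσa⟩ := hσ x
  obtain ⟨b, hb, hτb⟩ := hτ x
  have e1 := hτb 1 (one_mem A)
  have e2 := hσa 1 (one_mem A)
  simp only [Perm.coe_one, id_eq] at e1 e2
  rw [Perm.mul_apply, Perm.mul_apply, e1, e2, hσa b hb, hτb a ha, ← Perm.mul_apply, ← Perm.mul_apply,
    hA a ha b hb]

variable [Fintype Ω] [DecidableEq Ω]

/-- The orbit relation. -/
def osetoid (A : Subgroup (Perm Ω)) : Setoid Ω := MulAction.orbitRel A Ω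

theorem osetoid_iff {A : Subgroup (Perm Ω)} {x y : Ω} :
    Quotient.mk (osetoid A) x = Quotient.mk (osetoid A) y ↔ ∃ a ∈ A, a y = x := by
  rw [Quotient.eq]
  exact ⟨fun h => by obtain ⟨a, rfl⟩ := MulAction.orbitRel_apply.mp h; exact ⟨a.1, a.2, rfl⟩,
    fun ⟨a, ha, h⟩ => MulAction.orbitRel_apply.mpr ⟨⟨a, ha⟩, h⟩⟩

theorem cls_apply {A : Subgroup (Perm Ω)} {a : Perm Ω} (ha : a ∈ A) (x : Ω) :
    Quotient.mk (osetoid A) (a x) = Quotient.mk (osetoid A) x := osetoid_iff.mpr ⟨a, ha, rfl⟩

noncomputable instance (A : Subgroup (Perm Ω)) : Fintype (Quotient (osetoid A)) := Fintype.ofFinite _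

/-- The size of an orbit. -/
noncomputable def osize (A : Subgroup (Perm Ω)) (o : Quotient (osetoid A)) : ℕ :=
  Nat.card {x : Ω // Quotient.mk (osetoid A) x = o}

/-- The maximal abelian groups of even permutations. -/
structure Top (A : Subgroup (Perm Ω)) : Prop where
  comm : ∀ a ∈ A, ∀ b ∈ A, a * b = b * a
  even : ∀ a ∈ A, Perm.sign a = 1
  closed : glue A ≤ A

theorem top_of_max {A : Subgroup (Perm Ω)} (hc : ∀ a ∈ A, ∀ b ∈ A, a * b = b * a)
    (he : ∀ a ∈ A, Perm.sign a = 1) (hn : 3 ≤ Nat.card Ω) (hg : gb (Nat.card Ω) ≤ Nat.card A)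
    (hmax : ∀ C : Subgroup (Perm Ω), (∀ a ∈ C, ∀ b ∈ C, a * b = b * a) → (∀ a ∈ C, Perm.sign a = 1) →
      Nat.card C ≤ Nat.card A) : Top A := by
  refine ⟨hc, he, ?_⟩
  have heven : ∀ σ ∈ glue A, Perm.sign σ = 1 := by
    by_contra h
    push Not at h
    obtain ⟨τ, hτ, hτ1⟩ := h
    have hτ' : Perm.sign τ = -1 := (Int.units_eq_one_or _).resolve_left hτ1
    let f : A × Bool → glue A := fun x => ⟨(x.1 : Perm Ω) * bif x.2 then τ else 1,
      mul_mem (le_glue A x.1.2) (by cases x.2 <;> simp [hτ, one_mem])⟩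
    have hf : Function.Injective f := by
      rintro ⟨⟨a, ha⟩, s⟩ ⟨⟨b, hb⟩, t⟩ e
      have e' := congrArg Subtype.val e
      have hs := congrArg Perm.sign e'
      cases s <;> cases t <;> simp [f, he a ha, he b hb, hτ'] at hs e' ⊢ <;> exact e'
    have h1 := Nat.card_le_card_of_injective f hf
    rw [Nat.card_prod, Nat.card_eq_fintype_card (α := Bool), Fintype.card_bool] at h1
    have h2 := S2505.card_le_best (glue A) ⟨⟨fun x y => Subtype.ext (glue_comm hc _ x.2 _ y.2)⟩⟩
    have h3 := best_lt_two_gb _ hn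
    omega
  exact (Subgroup.eq_of_le_of_card_ge (le_glue A) (hmax _ (glue_comm hc) heven)).ge

namespace Top

variable {A : Subgroup (Perm Ω)} (T : Top A)
include T

theorem fix_orbit {a : Perm Ω} (ha : a ∈ A) {x y : Ω} (h : a x = x)
    (hy : Quotient.mk (osetoid A) y = Quotient.mk (osetoid A) x) : a y = y := by
  obtain ⟨c, hc, rfl⟩ := osetoid_iff.mp hy
  rw [← Perm.mul_apply, T.comm a ha c hc, Perm.mul_apply, h]

theorem card_eq : Nat.card A = ∏ o : Quotient (osetoid A), osize A o := by
  classical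
  unfold osize
  rw [← Nat.card_pi]
  refine Nat.card_congr (Equiv.ofBijective
    (fun a o => ⟨(a : Perm Ω) o.out, (cls_apply a.2 _).trans o.out_eq⟩) ⟨?_, ?_⟩)
  · intro a b h
    refine Subtype.ext (Equiv.ext fun x => ?_)
    have h1 : (a : Perm Ω) (Quotient.mk (osetoid A) x).out = (b : Perm Ω) (Quotient.mk (osetoid A) x).out :=
      congrArg Subtype.val (congrFun h _)
    have h2 := T.fix_orbit (mul_mem (inv_mem b.2) a.2) (x := (Quotient.mk (osetoid A) x).out) (y := x)
      (by rw [Perm.mul_apply, h1, Perm.inv_def, Equiv.symm_apply_apply]) (Quotient.out_eq _).symm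
    rw [Perm.mul_apply, Perm.inv_def, Equiv.symm_apply_eq] at h2
    exact h2
  · intro f
    choose a ha hfa using fun o => osetoid_iff.mp ((f o).2.trans o.out_eq.symm)
    have hinj : Function.Injective fun x => a (Quotient.mk (osetoid A) x) x := by
      intro x y e
      simp only at e
      have hxy : Quotient.mk (osetoid A) x = Quotient.mk (osetoid A) y := by
        rw [← cls_apply (ha (Quotient.mk (osetoid A) x)) x, e, cls_apply (ha _)]
      rw [hxy] at e
      exact (a _).injective e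
    let σ : Perm Ω := Equiv.ofBijective _ ⟨hinj, Finite.injective_iff_surjective.mp hinj⟩
    have hσ : σ ∈ glue A := fun x => ⟨a (Quotient.mk (osetoid A) x), ha _, fun c hc => by
      show a (Quotient.mk (osetoid A) (c x)) (c x) = _
      rw [cls_apply hc]⟩
    refine ⟨⟨σ, T.closed hσ⟩, funext fun o => Subtype.ext ?_⟩
    show a (Quotient.mk (osetoid A) o.out) o.out = _
    rw [Quotient.out_eq]
    exact hfa o

theorem sum_eq : ∑ o : Quotient (osetoid A), osize A o = Nat.card Ω := by
  unfold osize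
  rw [← Nat.card_sigma, Nat.card_congr (Equiv.sigmaFiberEquiv _)]

theorem osize_ne_two (o : Quotient (osetoid A)) : osize A o ≠ 2 := by
  classical
  intro h
  rw [osize] at h
  obtain ⟨⟨x, hx⟩, ⟨y, hy⟩, hne, huniv⟩ := Nat.card_eq_two_iff.mp h
  have hxy : x ≠ y := fun e => hne (Subtype.ext e)
  have hcl : ∀ z, Quotient.mk (osetoid A) z = o → z = x ∨ z = y := fun z hz => by
    have : (⟨z, hz⟩ : {x : Ω // Quotient.mk (osetoid A) x = o}) ∈
        ({⟨x, hx⟩, ⟨y, hy⟩} : Set {x : Ω // Quotient.mk (osetoid A) x = o}) := by rw [huniv]; trivial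
    simpa [Subtype.ext_iff] using this
  obtain ⟨b, hb, hbx⟩ := osetoid_iff.mp (hy.trans hx.symm)
  have hby : b y = x := by
    rcases hcl (b y) ((cls_apply hb y).trans hy) with e | e
    · exact e
    · exact absurd (b.injective (e.trans hbx.symm)) hxy.symm
  have hσ : Equiv.swap x y ∈ glue A := by
    intro z
    by_cases hz : Quotient.mk (osetoid A) z = o
    · refine ⟨b, hb, fun c hc => ?_⟩
      rcases hcl (c z) ((cls_apply hc z).trans hz) with e | e <;> simp [e, hbx, hby]
    · refine ⟨1, one_mem A, fun c hc => ?_⟩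
      rw [Equiv.swap_apply_of_ne_of_ne]
      · rfl
      · exact fun e => hz (by rw [← cls_apply hc z, e, hx])
      · exact fun e => hz (by rw [← cls_apply hc z, e, hy])
  have := T.even _ (T.closed hσ)
  rw [Perm.sign_swap hxy] at this
  exact absurd this (by decide)

/-- An element moved to one orbit. -/
theorem exists_local {a : Perm Ω} (ha : a ∈ A) (o : Quotient (osetoid A)) :
    ∃ a' ∈ A, (∀ y, Quotient.mk (osetoid A) y = o → a' y = a y) ∧
      ∀ y, Quotient.mk (osetoid A) y ≠ o → a' y = y := by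
  classical
  have hinj : Function.Injective fun x => if Quotient.mk (osetoid A) x = o then a x else x := by
    intro x y e
    simp only at e
    by_cases hx : Quotient.mk (osetoid A) x = o <;> by_cases hy : Quotient.mk (osetoid A) y = o
    · rw [if_pos hx, if_pos hy] at e; exact a.injective e
    · rw [if_pos hx, if_neg hy] at e
      exact absurd (by rw [← e, cls_apply ha, hx]) hy
    · rw [if_neg hx, if_pos hy] at e
      exact absurd (by rw [e, cls_apply ha, hy]) hx
    · rwa [if_neg hx, if_neg hy] at e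
  let σ : Perm Ω := Equiv.ofBijective _ ⟨hinj, Finite.injective_iff_surjective.mp hinj⟩
  have hσ : σ ∈ glue A := fun x => by
    by_cases hx : Quotient.mk (osetoid A) x = o
    · exact ⟨a, ha, fun c hc => if_pos ((cls_apply hc x).trans hx)⟩
    · exact ⟨1, one_mem A, fun c hc => if_neg fun e => hx (by rw [← cls_apply hc x, e])⟩
  exact ⟨σ, T.closed hσ, fun y hy => if_pos hy, fun y hy => if_neg hy⟩

end Top

theorem small_unique {W : Type*} [Fintype W] [DecidableEq W] (hW : Fintype.card W = 3 ∨ Fintype.card W = 4)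
    (p q : Perm W) (hp : Perm.sign p = 1) (hq : Perm.sign q = 1) (fp : ∀ x, p x = x → ∀ y, p y = y)
    (fq : ∀ x, q x = x → ∀ y, q y = y) {z : W} (hz : p z = q z) : p = q := by
  have h3 : ∀ p q : Perm (Fin 3), Perm.sign p = 1 → Perm.sign q = 1 → (∀ x, p x = x → ∀ y, p y = y) →
      (∀ x, q x = x → ∀ y, q y = y) → ∀ z, p z = q z → p = q := by decide +kernel
  have h4 : ∀ p q : Perm (Fin 4), Perm.sign p = 1 → Perm.sign q = 1 → (∀ x, p x = x → ∀ y, p y = y) →
      (∀ x, q x = x → ∀ y, q y = y) → ∀ z, p z = q z → p = q := by decide +kernel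
  have hd : ∀ (d : ℕ), Fintype.card W = d → (∀ p q : Perm (Fin d), Perm.sign p = 1 → Perm.sign q = 1 →
      (∀ x, p x = x → ∀ y, p y = y) → (∀ x, q x = x → ∀ y, q y = y) → ∀ z, p z = q z → p = q) → p = q := by
    intro d hc H
    obtain ⟨e⟩ := Fintype.truncEquivFinOfCardEq hc |>.nonempty
    apply e.permCongr.injective
    refine H _ _ (by rw [Perm.sign_permCongr, hp]) (by rw [Perm.sign_permCongr, hq]) ?_ ?_ (e z) ?_
    · intro x hx y
      rw [Equiv.permCongr_apply] at hx ⊢
      rw [fp _ (e.injective (by rw [hx, Equiv.apply_symm_apply])), Equiv.apply_symm_apply]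
    · intro x hx y
      rw [Equiv.permCongr_apply] at hx ⊢
      rw [fq _ (e.injective (by rw [hx, Equiv.apply_symm_apply])), Equiv.apply_symm_apply]
    · simp [hz]
  rcases hW with h | h
  · exact hd 3 h h3
  · exact hd 4 h h4

/-- Two such groups with a map of orbits onto orbits. -/
theorem Top.conj_mem {A B : Subgroup (Perm Ω)} (TA : Top A) (TB : Top B) (τ : Perm Ω)
    (hτ : ∀ x y, Quotient.mk (osetoid A) x = Quotient.mk (osetoid A) y ↔
      Quotient.mk (osetoid B) (τ x) = Quotient.mk (osetoid B) (τ y))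
    (hsize : ∀ o, osize B o = 3 ∨ osize B o = 4) {a : Perm Ω} (ha : a ∈ A) : τ * a * τ⁻¹ ∈ B := by
  classical
  apply TB.closed
  intro z
  obtain ⟨x, rfl⟩ := τ.surjective z
  have hax : Quotient.mk (osetoid B) (τ (a x)) = Quotient.mk (osetoid B) (τ x) := (hτ _ _).mp (cls_apply ha x)
  obtain ⟨b, hb, hbx⟩ := osetoid_iff.mp hax
  refine ⟨b, hb, fun c hc => ?_⟩
  obtain ⟨a', ha', ha1, ha2⟩ := TA.exists_local ha (Quotient.mk (osetoid A) x)
  obtain ⟨b', hb', hb1, hb2⟩ := TB.exists_local hb (Quotient.mk (osetoid B) (τ x))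
  obtain ⟨y, hy⟩ := τ.surjective (c (τ x))
  have hyo : Quotient.mk (osetoid A) y = Quotient.mk (osetoid A) x := (hτ _ _).mpr (by rw [hy, cls_apply hc])
  rw [← hy, Perm.mul_apply, Perm.mul_apply, Perm.inv_def, Equiv.symm_apply_apply, ← ha1 y hyo,
    ← hb1 (τ y) ((hτ _ _).mp hyo)]
  -- both local elements live on one small orbit
  let P : Ω → Prop := fun w => Quotient.mk (osetoid B) w = Quotient.mk (osetoid B) (τ x)
  set σ := τ * a' * τ⁻¹ with hσ
  have hσ2 : ∀ w, ¬ P w → σ w = w := by
    intro w hw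
    obtain ⟨u, rfl⟩ := τ.surjective w
    have hu : Quotient.mk (osetoid A) u ≠ Quotient.mk (osetoid A) x := fun e => hw ((hτ _ _).mp e)
    simp [hσ, ha2 u hu]
  have hσP : ∀ w, P w ↔ P (σ w) := by
    intro w
    obtain ⟨u, rfl⟩ := τ.surjective w
    have : Quotient.mk (osetoid B) (σ (τ u)) = Quotient.mk (osetoid B) (τ u) := by
      simpa [hσ] using (hτ _ _).mp (cls_apply ha' u)
    simp only [P, this]
  have hbP : ∀ w, P w ↔ P (b' w) := fun w => by simp only [P, cls_apply hb' w]
  have hp :  Perm.ofSubtype (σ.subtypePerm fun w => (hσP w).symm) = σ :=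
    Perm.ofSubtype_subtypePerm _ fun w hw => by
      by_contra hP
      exact hw (hσ2 w hP)
  have hq :  Perm.ofSubtype (b'.subtypePerm fun w => (hbP w).symm) = b' :=
    Perm.ofSubtype_subtypePerm _ fun w hw => by
      by_contra hP
      exact hw (hb2 w hP)
  have key := small_unique (W := {w // P w}) (by
      have := hsize (Quotient.mk (osetoid B) (τ x))
      rwa [osize, Nat.card_eq_fintype_card] at this)
    (σ.subtypePerm fun w => (hσP w).symm) (b'.subtypePerm fun w => (hbP w).symm)
    (by rw [← Perm.sign_ofSubtype, hp, hσ]; simp [TA.even a' ha'])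
    (by rw [← Perm.sign_ofSubtype, hq]; exact TB.even b' hb')
    (fun u hu v => by
      obtain ⟨u', hu'⟩ := τ.surjective u.1
      obtain ⟨v', hv'⟩ := τ.surjective v.1
      have h1 : a' u' = u' := τ.injective (by
        have := congrArg Subtype.val hu
        simpa [hσ, ← hu'] using this)
      have h2 : Quotient.mk (osetoid A) v' = Quotient.mk (osetoid A) u' := (hτ _ _).mpr (by
        rw [hv', hu']; exact v.2.trans u.2.symm)
      apply Subtype.ext
      simp [hσ, ← hv', TA.fix_orbit ha' h1 h2])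
    (fun u hu v => Subtype.ext (TB.fix_orbit hb' (congrArg Subtype.val hu) (v.2.trans u.2.symm)))
    (z := ⟨τ x, rfl⟩) (Subtype.ext (by
      show σ (τ x) = b' (τ x)
      rw [hb1 _ rfl, hbx, hσ]
      simp [ha1 x rfl]))
  have := congrArg Subtype.val (Equiv.congr_fun key ⟨τ y, (hτ _ _).mp hyo⟩)
  simpa [hσ] using this

end Perms

/-- Even abelian groups with blocks of size three and four. -/
theorem exists_blocks (x y : ℕ) :
    ∃ C : Subgroup (alternatingGroup (Fin (3 * x + 4 * y))), IsMulCommutative C ∧ Nat.card C = 3 ^ x * 4 ^ y := by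
  classical
  let V := Multiplicative (ZMod 2 × ZMod 2)
  let T := Multiplicative (ZMod 3)
  let Ω := (Fin x × T) ⊕ (Fin y × V)
  let M := (Fin x → T) × (Fin y → V)
  let act : M →* Perm Ω :=
    { toFun := fun m => Equiv.sumCongr (Equiv.prodCongrRight fun i => Equiv.mulLeft (m.1 i))
        (Equiv.prodCongrRight fun i => Equiv.mulLeft (m.2 i))
      map_one' := Equiv.ext fun w => by rcases w with ⟨i, t⟩ | ⟨i, t⟩ <;> simp
      map_mul' := fun u v => Equiv.ext fun w => by rcases w with ⟨i, t⟩ | ⟨i, t⟩ <;> simp [M, mul_assoc] }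
  have hs : ∀ m, Perm.sign (act m) = 1 := by
    intro m
    have hT : ∀ t : T, Perm.sign (Equiv.mulLeft t) = 1 := by decide
    have hV : ∀ t : V, Perm.sign (Equiv.mulLeft t) = 1 := by decide
    show Perm.sign (Equiv.sumCongr _ _) = 1
    rw [Perm.sign_sumCongr, Perm.sign_prodCongrRight, Perm.sign_prodCongrRight]
    simp [hT, hV]
  have hinj : Function.Injective act := fun u v h => Prod.ext
    (funext fun i => by
      have h1 : (Sum.inl (i, u.1 i * 1) : Ω) = Sum.inl (i, v.1 i * 1) := Equiv.congr_fun h (Sum.inl (i, 1))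
      simpa using congrArg Prod.snd (Sum.inl.inj h1))
    (funext fun i => by
      have h1 : (Sum.inr (i, u.2 i * 1) : Ω) = Sum.inr (i, v.2 i * 1) := Equiv.congr_fun h (Sum.inr (i, 1))
      simpa using congrArg Prod.snd (Sum.inr.inj h1))
  let e : Ω ≃ Fin (3 * x + 4 * y) := Fintype.equivFinOfCardEq (by simp [Ω, T, V, mul_comm])
  let f : M →* alternatingGroup (Fin (3 * x + 4 * y)) := (e.permCongrHom.toMonoidHom.comp act).codRestrict _
    fun m => by
      rw [Perm.mem_alternatingGroup]
      show Perm.sign (e.permCongr (act m)) = 1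
      rw [Perm.sign_permCongr, hs]
  have hf : Function.Injective f := fun u v h => hinj (e.permCongrHom.injective (congrArg Subtype.val h))
  refine ⟨f.range, ⟨⟨?_⟩⟩, ?_⟩
  · rintro ⟨_, u, rfl⟩ ⟨_, v, rfl⟩
    exact Subtype.ext ((map_mul f u v).symm.trans ((congrArg f (mul_comm u v)).trans (map_mul f v u)))
  · rw [← Nat.card_congr (MonoidHom.ofInjective hf).toEquiv, Nat.card_prod, Nat.card_pi, Nat.card_pi]
    simp [T, V]

/-- A largest abelian subgroup, described by its orbits. -/
theorem analyse {n : ℕ} (hn : 3 ≤ n) (A : Subgroup (alternatingGroup (Fin n))) (hA : IsMulCommutative A)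
    (hmax : ∀ C : Subgroup (alternatingGroup (Fin n)), IsMulCommutative C → Nat.card C ≤ Nat.card A) :
    (n = 5 ∧ Nat.card A = 5) ∨
      (n ≠ 5 ∧ Top (A.map (alternatingGroup (Fin n)).subtype) ∧
        ∀ d, Nat.card {o : Quotient (osetoid (A.map (alternatingGroup (Fin n)).subtype)) //
          osize (A.map (alternatingGroup (Fin n)).subtype) o = d} =
          if d = 3 then (n - 4 * (n % 3)) / 3 else if d = 4 then n % 3 else 0) := by
  classical
  set A' := A.map (alternatingGroup (Fin n)).subtype with hA'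
  have hcard : Nat.card A' = Nat.card A := Subgroup.card_map_of_injective Subtype.val_injective
  have hcomm : ∀ a ∈ A', ∀ b ∈ A', a * b = b * a := by
    rintro _ ⟨a, ha, rfl⟩ _ ⟨b, hb, rfl⟩
    have := congrArg Subtype.val (hA.is_comm.comm ⟨a, ha⟩ ⟨b, hb⟩)
    exact congrArg Subtype.val this
  have heven : ∀ a ∈ A', Perm.sign a = 1 := by
    rintro _ ⟨a, -, rfl⟩
    exact a.2
  have hlow : gb n ≤ Nat.card A := by
    by_cases h5 : n = 5
    · subst h5
      let g : alternatingGroup (Fin 5) := ⟨finRotate 5, Perm.mem_alternatingGroup.mpr (by decide)⟩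
      have hg : orderOf g = 5 :=
        orderOf_eq_prime (hp := ⟨by norm_num⟩) (by decide) (by decide)
      have := hmax (Subgroup.zpowers g) inferInstance
      rwa [Nat.card_zpowers, hg] at this
    · obtain ⟨x, y, e1, e2⟩ := gb_attained n (by unfold Rigid; omega)
      subst e1
      obtain ⟨C, hC, hCc⟩ := exists_blocks x y
      rw [← e2, ← hCc]
      exact hmax C hC
  have T : Top A' := top_of_max hcomm heven (by rw [Nat.card_fin]; exact hn) (by rw [Nat.card_fin, hcard]; exact hlow)
    fun C hC hCe => by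
      have hle : C ≤ alternatingGroup (Fin n) := fun c hc => Perm.mem_alternatingGroup.mpr (hCe c hc)
      rw [hcard, ← Nat.card_congr (Subgroup.subgroupOfEquivOfLe hle).toEquiv]
      refine hmax _ ⟨⟨fun u v => Subtype.ext (Subtype.ext ?_)⟩⟩
      exact hC _ u.2 _ v.2
  have hsum : ∑ o : Quotient (osetoid A'), osize A' o = n := by rw [T.sum_eq, Nat.card_fin]
  have hpos : ∀ o : Quotient (osetoid A'), 1 ≤ osize A' o := fun o => by
    haveI : Nonempty {x // Quotient.mk (osetoid A') x = o} := ⟨⟨o.out, o.out_eq⟩⟩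
    exact Nat.card_pos
  obtain ⟨hb, hrig⟩ := gb_prod Finset.univ (osize A') (fun o _ => hpos o) (fun o _ => T.osize_ne_two o)
  rw [hsum, ← T.card_eq, hcard] at hb hrig
  have heq : Nat.card A = gb n := le_antisymm hb hlow
  by_cases h5 : n = 5
  · subst h5
    exact Or.inl ⟨rfl, heq⟩
  refine Or.inr ⟨h5, T, ?_⟩
  have hall := hrig (by unfold Rigid; omega) heq
  set x := (Finset.univ.filter fun o => osize A' o = 3).card with hx
  set y := (Finset.univ.filter fun o => ¬ osize A' o = 3).card with hy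
  have h4 : ∀ o ∈ Finset.univ.filter (fun o => ¬ osize A' o = 3), osize A' o = 4 := fun o ho =>
    (hall o (Finset.mem_univ o)).resolve_left (Finset.mem_filter.mp ho).2
  have h3 : ∀ o ∈ Finset.univ.filter (fun o => osize A' o = 3), osize A' o = 3 :=
    fun o ho => (Finset.mem_filter.mp ho).2
  have hxy : 3 * x + 4 * y = n := by
    rw [← hsum, ← Finset.sum_filter_add_sum_filter_not Finset.univ (fun o => osize A' o = 3),
      Finset.sum_congr rfl h3, Finset.sum_congr rfl h4, Finset.sum_const, Finset.sum_const]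
    simp [← hx, ← hy, mul_comm]
  have hp : 3 ^ x * 4 ^ y = gb n := by
    rw [← heq, ← hcard, T.card_eq, ← Finset.prod_filter_mul_prod_filter_not Finset.univ (fun o => osize A' o = 3),
      Finset.prod_congr rfl h3, Finset.prod_congr rfl h4, Finset.prod_const, Finset.prod_const]
  have hy2 : y ≤ 2 := by
    by_contra hlt
    obtain ⟨r, hr⟩ := Nat.exists_eq_add_of_le (show 3 ≤ y by omega)
    have := gb_pow (x + 4) r
    rw [show 3 * (x + 4) + 4 * r = n by omega, ← hp, hr] at this
    have hpos : 0 < 3 ^ x * 4 ^ r := by positivity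
    ring_nf at this hpos
    omega
  intro d
  rw [Nat.card_eq_fintype_card, Fintype.card_subtype]
  split_ifs with hd3 hd4
  · subst hd3; rw [← hx, show n % 3 = y by omega, ← hxy, Nat.add_sub_cancel]; omega
  · subst hd4
    have e : (Finset.univ.filter fun o => osize A' o = 4) = Finset.univ.filter fun o => ¬ osize A' o = 3 := by
      ext o
      have := hall o (Finset.mem_univ o)
      simp; omega
    rw [e, ← hy]; omega
  · rw [Finset.card_eq_zero, Finset.filter_eq_empty_iff]
    intro o _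
    have := hall o (Finset.mem_univ o)
    omega


/-- In the alternating group of any degree, any two abelian subgroups of the largest possible order (among abelian subgroups) are conjugate. -/
theorem result (n : ℕ)
    (A B : Subgroup (alternatingGroup (Fin n))) (hA : IsMulCommutative A) (hB : IsMulCommutative B)
    (hAmax : ∀ C : Subgroup (alternatingGroup (Fin n)), IsMulCommutative C → Nat.card C ≤ Nat.card A)
    (hBmax : ∀ C : Subgroup (alternatingGroup (Fin n)), IsMulCommutative C → Nat.card C ≤ Nat.card B) :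
    ∃ g : alternatingGroup (Fin n), B = MulAut.conj g • A := by
  classical
  by_cases hn : 3 ≤ n
  swap
  · haveI : Subsingleton (alternatingGroup (Fin n)) := by
      have : n = 0 ∨ n = 1 ∨ n = 2 := by omega
      rcases this with rfl | rfl | rfl <;> exact ⟨by decide⟩
    exact ⟨1, Subgroup.ext fun g => by simp [Subsingleton.elim g 1, one_mem]⟩
  rcases analyse hn A hA hAmax with ⟨rfl, hA5⟩ | ⟨hn5, TA, hcA⟩
  · rcases analyse hn B hB hBmax with ⟨-, hB5⟩ | ⟨h55, -, -⟩
    · haveI := Fact.mk (show (5).Prime by norm_num)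
      obtain ⟨P, hAP⟩ := (IsPGroup.of_card (n := 1) (by rw [hA5]; norm_num) : IsPGroup 5 A).exists_le_sylow
      obtain ⟨Q, hBQ⟩ := (IsPGroup.of_card (n := 1) (by rw [hB5]; norm_num) : IsPGroup 5 B).exists_le_sylow
      have hc : ∀ R : Sylow 5 (alternatingGroup (Fin 5)), Nat.card R ≤ 5 := fun R => by
        obtain ⟨k, hk⟩ := R.2.exists_card_eq
        have hd := Subgroup.card_subgroup_dvd_card (R : Subgroup (alternatingGroup (Fin 5)))
        rw [show Nat.card (alternatingGroup (Fin 5)) = 60 by rw [Nat.card_eq_fintype_card]; rfl] at hd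
        rw [hk] at hd ⊢
        rcases Nat.lt_or_ge k 2 with h | h
        · interval_cases k <;> norm_num
        · exact absurd ((pow_dvd_pow 5 h).trans hd) (by norm_num)
      have eA := Subgroup.eq_of_le_of_card_ge hAP (by rw [hA5]; exact hc P)
      have eB := Subgroup.eq_of_le_of_card_ge hBQ (by rw [hB5]; exact hc Q)
      obtain ⟨g, hg⟩ := MulAction.exists_smul_eq (alternatingGroup (Fin 5)) P Q
      exact ⟨g, by rw [eA, eB, ← hg]; rfl⟩
    · exact absurd rfl h55
  rcases analyse hn B hB hBmax with ⟨h, -⟩ | ⟨-, TB, hcB⟩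
  · exact absurd h hn5
  set A' := A.map (alternatingGroup (Fin n)).subtype
  set B' := B.map (alternatingGroup (Fin n)).subtype
  have hfib : ∀ d, Nonempty ({o // osize A' o = d} ≃ {o // osize B' o = d}) := fun d =>
    ⟨Classical.choice (Finite.card_eq.mp ((hcA d).trans (hcB d).symm))⟩
  let e : Quotient (osetoid A') ≃ Quotient (osetoid B') := Equiv.ofFiberEquiv fun d => Classical.choice (hfib d)
  have he : ∀ o, osize B' (e o) = osize A' o := fun o => Equiv.ofFiberEquiv_map _ o
  let τ : Perm (Fin n) := Equiv.ofFiberEquiv (f := fun x => e (Quotient.mk (osetoid A') x))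
    (g := fun x => Quotient.mk (osetoid B') x) fun o => Classical.choice (Finite.card_eq.mp (by
      have h : osize B' o = osize A' (e.symm o) := by rw [← he, e.apply_symm_apply]
      refine Eq.trans ?_ h.symm
      exact Nat.card_congr (Equiv.subtypeEquivRight fun x => by rw [← e.eq_symm_apply])))
  have hτ0 : ∀ x, Quotient.mk (osetoid B') (τ x) = e (Quotient.mk (osetoid A') x) :=
    fun x => Equiv.ofFiberEquiv_map _ x
  have hsize : ∀ o, osize B' o = 3 ∨ osize B' o = 4 := fun o => by
    by_contra h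
    push Not at h
    have h0 := hcB (osize B' o)
    rw [if_neg h.1, if_neg h.2] at h0
    haveI : Nonempty {o' // osize B' o' = osize B' o} := ⟨⟨o, rfl⟩⟩
    exact absurd h0 Nat.card_pos.ne'
  obtain ⟨τ', hτ', hτe⟩ : ∃ τ' : Perm (Fin n), (∀ x, Quotient.mk (osetoid B') (τ' x) = e (Quotient.mk (osetoid A') x)) ∧
      Perm.sign τ' = 1 := by
    rcases Int.units_eq_one_or (Perm.sign τ) with h | h
    · exact ⟨τ, hτ0, h⟩
    let o : Quotient (osetoid A') := Quotient.mk _ ⟨0, by omega⟩
    have hgt : 1 < Nat.card {x // Quotient.mk (osetoid A') x = o} := by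
      show 1 < osize A' o
      rw [← he]
      rcases hsize (e o) with h | h <;> omega
    haveI := Finite.one_lt_card_iff_nontrivial.mp hgt
    obtain ⟨⟨u, hu⟩, ⟨v, hv⟩, huv⟩ := exists_pair_ne {x // Quotient.mk (osetoid A') x = o}
    have hne : u ≠ v := fun e => huv (Subtype.ext e)
    refine ⟨τ * swap u v, fun x => ?_, by rw [map_mul, h, Perm.sign_swap hne]; decide⟩
    rw [Perm.mul_apply, hτ0]
    congr 1
    rcases eq_or_ne x u with rfl | hxu
    · rw [swap_apply_left, hu, hv]
    rcases eq_or_ne x v with rfl | hxv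
    · rw [swap_apply_right, hu, hv]
    rw [swap_apply_of_ne_of_ne hxu hxv]
  refine ⟨⟨τ', Perm.mem_alternatingGroup.mpr hτe⟩, (Subgroup.eq_of_le_of_card_ge ?_ ?_).symm⟩
  · rintro _ ⟨a, ha, rfl⟩
    have h := TA.conj_mem TB τ' (fun x y => by rw [hτ', hτ', e.injective.eq_iff]) hsize
      (a := (a : Perm (Fin n))) ⟨a, ha, rfl⟩
    obtain ⟨b, hb, hbe⟩ := h
    show MulAut.conj (⟨τ', Perm.mem_alternatingGroup.mpr hτe⟩ : alternatingGroup (Fin n)) a ∈ B
    rwa [show MulAut.conj (⟨τ', Perm.mem_alternatingGroup.mpr hτe⟩ : alternatingGroup (Fin n)) a = b from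
      Subtype.ext (by simpa using hbe.symm)]
  · rw [← Nat.card_congr (Subgroup.equivSMul _ A).toEquiv]
    exact hAmax B hB

end Cfsg.Agent.S2506
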