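import Cfsg.Statements.S2510
import Cfsg.Agent.Lib.Singer.Conj

set_option autoImplicit false
open Cfsg

namespace Cfsg.Agent.S2510

open Matrix Polynomial CfsgLib.Singer

variable {F : Type*} [Field F] {n : ℕ}

local notation "SL" => Matrix.SpecialLinearGroup (Fin n) F
local notation "PS" => Matrix.ProjectiveSpecialLinearGroup (Fin n) F

/-- The projection. -/
abbrev proj : SL →* PS := QuotientGroup.mk' (Subgroup.center SL)

lemma proj_eq_one_iff (g : SL) :
    proj g = 1 ↔ ∃ c : F, (g : Matrix (Fin n) (Fin n) F) = scalar (Fin n) c := by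
  rw [QuotientGroup.mk'_apply, QuotientGroup.eq_one_iff, Matrix.SpecialLinearGroup.mem_center_iff]
  constructor
  · rintro ⟨c, -, hc⟩; exact ⟨c, hc.symm⟩
  · rintro ⟨c, hc⟩
    refine ⟨c, ?_, hc.symm⟩
    have := g.2
    rw [hc, Matrix.scalar_apply, Matrix.det_diagonal, Finset.prod_const, Finset.card_univ] at this
    exact this

lemma orderOf_conj_eq (a b : SL) (h : GL (Fin n) F)
    (hab : (h : Matrix (Fin n) (Fin n) F) * a.1 = b.1 * h) : orderOf (proj a) = orderOf (proj b) := by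
  refine orderOf_eq_orderOf_iff.2 fun k => ?_
  rw [← map_pow, ← map_pow, proj_eq_one_iff, proj_eq_one_iff]
  have hk : (h : Matrix (Fin n) (Fin n) F) * (a ^ k).1 = (b ^ k).1 * h := by
    induction k with
    | zero => simp
    | succ k ih =>
      rw [pow_succ, pow_succ]
      show _ * ((a ^ k).1 * a.1) = ((b ^ k).1 * b.1) * _
      rw [← Matrix.mul_assoc, ih, Matrix.mul_assoc, hab, Matrix.mul_assoc]
  constructor <;> rintro ⟨c, hc⟩ <;> refine ⟨c, ?_⟩ <;> rw [hc] at hk
  · refine h.isUnit.mul_left_injective ?_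
    simp only [← hk]
    exact ((Matrix.scalar_commute c (fun r => Commute.all c r) h.1).symm.eq)
  · refine h.isUnit.mul_right_injective ?_
    simp only [hk]
    exact (Matrix.scalar_commute c (fun r => Commute.all c r) h.1).eq

/-- A nontrivial idempotent commuting with `g` gives an element of order `o * r`. -/
lemma exists_mul_prime (r : ℕ) (hr : r.Prime) (hrn : ¬ r ∣ n) (ζ : F) (hζ : orderOf ζ = r)
    (g : SL) (E : Matrix (Fin n) (Fin n) F) (hE : IsIdempotentElem E) (hE0 : E ≠ 0) (hE1 : E ≠ 1)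
    (hgE : Commute (g : Matrix (Fin n) (Fin n) F) E) (hro : ¬ r ∣ orderOf (proj g)) :
    ∃ y : PS, orderOf y = orderOf (proj g) * r := by
  set W : Matrix (Fin n) (Fin n) F := 1 + (ζ - 1) • E with hW
  have hWk : ∀ k, W ^ k = 1 + (ζ ^ k - 1) • E := by
    intro k
    induction k with
    | zero => simp
    | succ k ih =>
      rw [pow_succ, ih, hW, mul_add, add_mul, add_mul, one_mul, one_mul, mul_one, smul_mul_smul_comm,
        hE.eq, add_assoc, ← add_smul, ← add_smul]
      congr 2; ring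
  have hWr : W ^ r = 1 := by rw [hWk, ← hζ, pow_orderOf_eq_one]; simp
  have hdr : W.det ^ r = 1 := by rw [← Matrix.det_pow, hWr, Matrix.det_one]
  have hd0 : W.det ≠ 0 := fun h => by simp [h, hr.ne_zero] at hdr
  let t : SL := ⟨W.det⁻¹ • W ^ n, by
    rw [Matrix.det_smul, Matrix.det_pow, Fintype.card_fin, inv_pow,
      inv_mul_cancel₀ (pow_ne_zero _ hd0)]⟩
  have htne : proj t ≠ 1 := by
    rw [Ne, proj_eq_one_iff]
    rintro ⟨c, hc⟩
    have hζn : ζ ^ n - 1 ≠ 0 := sub_ne_zero.2 fun h => hrn (hζ ▸ orderOf_dvd_of_pow_eq_one h)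
    have hc' : W.det⁻¹ • W ^ n = scalar (Fin n) c := hc
    have hscal : ∀ a : F, scalar (Fin n) a = a • (1 : Matrix (Fin n) (Fin n) F) := fun a =>
      (Matrix.smul_one_eq_diagonal a).symm
    have h2 : E = ((ζ ^ n - 1)⁻¹ * (W.det * c - 1)) • (1 : Matrix (Fin n) (Fin n) F) := by
      have h1 : W ^ n = (W.det * c) • (1 : Matrix (Fin n) (Fin n) F) := by
        rw [← smul_smul, ← hscal, ← hc', smul_smul, mul_inv_cancel₀ hd0, one_smul]
      rw [hWk, ← eq_sub_iff_add_eq'] at h1
      have := congrArg ((ζ ^ n - 1)⁻¹ • ·) h1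
      simp only [smul_smul, inv_mul_cancel₀ hζn, one_smul] at this
      rw [this, mul_sub, mul_one, smul_sub, sub_smul, smul_smul]
    set b := (ζ ^ n - 1)⁻¹ * (W.det * c - 1)
    have hb := hE.eq
    rw [h2, smul_mul_smul_comm, mul_one] at hb
    have hbb : b * b = b := by
      rcases isEmpty_or_nonempty (Fin n) with he | ⟨⟨i⟩⟩
      · exact absurd (Subsingleton.elim E 0) hE0
      · simpa using congrFun (congrFun hb i) i
    by_cases hb0 : b = 0
    · exact hE0 (by rw [h2, hb0, zero_smul])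
    · exact hE1 (by rw [h2, mul_left_cancel₀ hb0 (hbb.trans (mul_one b).symm), one_smul])
  have : Fact r.Prime := ⟨hr⟩
  have hot : orderOf (proj t) = r := by
    refine orderOf_eq_prime ?_ htne
    rw [← map_pow]
    refine (congrArg proj (Subtype.ext ?_)).trans (map_one proj)
    rw [Matrix.SpecialLinearGroup.coe_pow]
    show (W.det⁻¹ • W ^ n) ^ r = 1
    rw [_root_.smul_pow, ← pow_mul, mul_comm, pow_mul, hWr, one_pow, inv_pow, hdr, inv_one, one_smul]
  refine ⟨proj g * proj t, ?_⟩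
  rw [Commute.orderOf_mul_eq_mul_orderOf_of_coprime, hot]
  · refine Commute.map (show Commute g t from Subtype.ext ?_) proj
    show (g : Matrix (Fin n) (Fin n) F) * (W.det⁻¹ • W ^ n) = (W.det⁻¹ • W ^ n) * g
    have hcW : Commute (g : Matrix (Fin n) (Fin n) F) W :=
      (Commute.one_right _).add_right (hgE.smul_right _)
    exact ((hcW.pow_right n).smul_right _).eq
  · rw [hot, Nat.coprime_comm, hr.coprime_iff_not_dvd]; exact hro

/-- Divisors of `lcm`s, prime power by prime power. -/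
lemma pow_dvd_lcm {p b a c : ℕ} (hp : p.Prime) (h : p ^ b ∣ Nat.lcm a c) :
    p ^ b ∣ a ∨ p ^ b ∣ c := by
  rcases eq_or_ne a 0 with rfl | ha
  · exact Or.inl (dvd_zero _)
  rcases eq_or_ne c 0 with rfl | hc
  · exact Or.inr (dvd_zero _)
  rw [hp.pow_dvd_iff_le_factorization (Nat.lcm_ne_zero ha hc), Nat.factorization_lcm ha hc,
    Finsupp.sup_apply] at h
  rcases le_sup_iff.1 h with h | h
  · exact Or.inl ((hp.pow_dvd_iff_le_factorization ha).2 h)
  · exact Or.inr ((hp.pow_dvd_iff_le_factorization hc).2 h)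

variable [Finite F]

/-- The norm-one Singer torus in `PSL`, as a cyclic group. -/
theorem exists_singer (p : ℕ) (hp : p.Prime) [CharP F p] :
    ∃ M : ℕ, (∀ k, k ∣ M → ∃ z : PS, orderOf z = k) ∧
      ∀ g : SL, (∃ E : Matrix (Fin n) (Fin n) F, IsIdempotentElem E ∧ E ≠ 0 ∧ E ≠ 1 ∧
        Commute (g : Matrix (Fin n) (Fin n) F) E) ∨
        ordCompl[p] (orderOf (proj g)) ∣ M := by
  classical
  rcases Nat.eq_zero_or_pos n with rfl | hn
  · refine ⟨1, fun k hk => ⟨1, by simp [Nat.dvd_one.1 hk]⟩, fun g => Or.inr ?_⟩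
    rw [Subsingleton.elim (proj g) 1, orderOf_one]; simp
  obtain ⟨L, _, _, _, ψ, hψ, hL⟩ := exists_fieldExt_embedding (F := F) n hn
  let C : Subgroup Lˣ := ((Matrix.detMonoidHom.comp ψ.toRingHom.toMonoidHom).comp (Units.coeHom L)).ker
  let θ : C →* SL :=
    { toFun := fun u => ⟨ψ ((u : Lˣ) : L), u.2⟩
      map_one' := Subtype.ext (by simp)
      map_mul' := fun a b => Subtype.ext (map_mul ψ ((a : Lˣ) : L) ((b : Lˣ) : L)) }
  let T : Subgroup PS := (proj.comp θ).range
  refine ⟨Nat.card T, fun k hk => ?_, fun g => ?_⟩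
  · have : IsCyclic T := isCyclic_of_surjective (proj.comp θ).rangeRestrict
      (MonoidHom.rangeRestrict_surjective _)
    obtain ⟨v, hv⟩ := IsCyclic.exists_generator (α := T)
    have hvo : orderOf v = Nat.card T := orderOf_eq_card_of_forall_mem_zpowers hv
    obtain ⟨z, hz⟩ := exists_orderOf_eq_of_dvd v (orderOf_pos v) (hvo ▸ hk)
    exact ⟨z, by rw [Subgroup.orderOf_coe]; exact hz⟩
  set A : Matrix (Fin n) (Fin n) F := (g : Matrix (Fin n) (Fin n) F) with hA
  set o := orderOf g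
  have ho : o ≠ 0 := (orderOf_pos g).ne'
  set s : SL := g ^ ordProj[p] o with hs
  set S : Matrix (Fin n) (Fin n) F := (s : Matrix (Fin n) (Fin n) F) with hS
  have hcomm : Commute A S := by
    rw [hS, hs, Matrix.SpecialLinearGroup.coe_pow]; exact (Commute.refl A).pow_right _
  have hSN : S ^ ordCompl[p] o = 1 := by
    rw [hS, ← Matrix.SpecialLinearGroup.coe_pow, hs, ← pow_mul, Nat.ordProj_mul_ordCompl_eq_self,
      pow_orderOf_eq_one, Matrix.SpecialLinearGroup.coe_one]
  have hN0 : ((ordCompl[p] o : ℕ) : F) ≠ 0 := by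
    rw [Ne, CharP.cast_eq_zero_iff F p]; exact Nat.not_dvd_ordCompl hp ho
  set m := minpoly F S with hm
  have hdvd : m ∣ X ^ ordCompl[p] o - 1 := minpoly.dvd F S (by simp [hSN])
  have hsq : Squarefree m :=
    (X_pow_sub_one_separable_iff.2 hN0).squarefree.squarefree_of_dvd hdvd
  have hm0 : m ≠ 0 := minpoly.ne_zero (Matrix.isIntegral S)
  have hnt : Nonempty (Fin n) := Fin.pos_iff_nonempty.1 hn
  by_cases hirr : Irreducible m
  · right
    have := Fact.mk hirr
    have : Module.Finite F (AdjoinRoot m) := (AdjoinRoot.powerBasis hm0).finite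
    have : Finite (AdjoinRoot m) := Module.finite_of_finite F
    let φ : AdjoinRoot m →ₐ[F] Matrix (Fin n) (Fin n) F :=
      Ideal.Quotient.liftₐ _ (Polynomial.aeval S) (fun a ha => by
        obtain ⟨c, rfl⟩ := Ideal.mem_span_singleton.1 ha
        rw [map_mul, minpoly.aeval, zero_mul])
    have hroot : φ (AdjoinRoot.root m) = S := Polynomial.aeval_X S
    have hLn : Module.finrank F L = n := by
      have h := Module.natCard_eq_pow_finrank (K := F) (V := L)
      rw [hL] at h
      exact (Nat.pow_right_injective Finite.one_lt_card h).symm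
    obtain ⟨ι⟩ : Nonempty (AdjoinRoot m →ₐ[F] L) :=
      FiniteField.nonempty_algHom_of_finrank_dvd (by rw [hLn]; exact ⟨_, (finrank_mul_via φ).symm⟩)
    obtain ⟨h, hh⟩ := exists_conj φ (ψ.comp ι)
    have hu0 : ι (AdjoinRoot.root m) ≠ 0 := by
      intro h0
      have h1 := hh (AdjoinRoot.root m)
      rw [hroot, AlgHom.comp_apply, h0, map_zero, zero_mul] at h1
      have h2 := congrArg Matrix.det h1
      rw [Matrix.det_mul, hS, s.2, mul_one, Matrix.det_zero] at h2
      exact (Matrix.GeneralLinearGroup.det h).ne_zero (by simpa using h2)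
    let u : C := ⟨Units.mk0 _ hu0, by
      have h1 := congrArg Matrix.det (hh (AdjoinRoot.root m))
      rw [hroot, Matrix.det_mul, Matrix.det_mul, hS, s.2, mul_one] at h1
      show (ψ (ι (AdjoinRoot.root m))).det = 1
      exact mul_right_cancel₀ (Matrix.GeneralLinearGroup.det h).ne_zero
        (by simpa using h1.symm)⟩
    have heq : orderOf (proj s) = orderOf (proj (θ u)) := orderOf_conj_eq s (θ u) h (by
      have h1 := hh (AdjoinRoot.root m)
      rw [hroot] at h1
      exact h1)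
    have hmemT : proj (θ u) ∈ T := ⟨u, rfl⟩
    have hdiv : orderOf (proj s) ∣ Nat.card T := by
      rw [heq, ← Subgroup.orderOf_mk (proj (θ u)) hmemT]; exact orderOf_dvd_natCard _
    refine dvd_trans (dvd_of_eq ?_) hdiv
    rw [hs, map_pow, orderOf_pow]
    have hox : orderOf (proj g) ∣ o := orderOf_map_dvd _ g
    set x := orderOf (proj g)
    have hx0 : x ≠ 0 := (orderOf_pos _).ne'
    have hgcd : Nat.gcd x (ordProj[p] o) = ordProj[p] x := by
      refine Nat.dvd_antisymm ?_ (Nat.dvd_gcd (Nat.ordProj_dvd x p)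
        (Nat.ordProj_dvd_ordProj_of_dvd ho hox p))
      obtain ⟨j, -, hj⟩ := (Nat.dvd_prime_pow hp).1 (Nat.gcd_dvd_right x (ordProj[p] o))
      rw [hj]
      exact Nat.pow_dvd_pow p ((hp.pow_dvd_iff_le_factorization hx0).1
        (hj ▸ Nat.gcd_dvd_left x _))
    rw [hgcd]
  · left
    have hnu : ¬ IsUnit m := minpoly.not_isUnit F S
    obtain ⟨h₁, h₂, he, h1u, h2u⟩ : ∃ h₁ h₂, m = h₁ * h₂ ∧ ¬ IsUnit h₁ ∧ ¬ IsUnit h₂ := by
      by_contra hcon
      refine hirr ⟨hnu, fun a b hab => ?_⟩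
      by_contra hab'
      rw [not_or] at hab'
      exact hcon ⟨a, b, hab, hab'.1, hab'.2⟩
    have hcop : IsCoprime h₁ h₂ := IsRelPrime.isCoprime fun d d1 d2 => hsq d (he ▸ mul_dvd_mul d1 d2)
    obtain ⟨a, b, hab⟩ := hcop
    refine ⟨aeval S (a * h₁), ?_, ?_, ?_, ?_⟩
    · have : aeval S (a * h₁) * aeval S (b * h₂) = 0 := by
        rw [← map_mul, show a * h₁ * (b * h₂) = m * (a * b) by rw [he]; ring, map_mul,
          minpoly.aeval, zero_mul]
      have hb' : aeval S (b * h₂) = 1 - aeval S (a * h₁) := by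
        rw [eq_sub_iff_add_eq', ← map_add, hab, map_one]
      rw [hb', mul_sub, mul_one, sub_eq_zero] at this
      exact this.symm
    · intro h0
      have h1 : m ∣ a * h₁ := minpoly.dvd F S h0
      refine h2u (isUnit_of_dvd_one ?_)
      have := dvd_add (dvd_trans (Dvd.intro_left h₁ he.symm) h1) (Dvd.intro_left b rfl)
      rwa [hab] at this
    · intro h1
      have h0 : m ∣ b * h₂ := by
        refine minpoly.dvd F S ?_
        have h3 : aeval S (a * h₁) + aeval S (b * h₂) = 1 := by rw [← map_add, hab, map_one]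
        rw [h1] at h3; simpa using h3
      refine h1u (isUnit_of_dvd_one ?_)
      have := dvd_add (Dvd.intro_left a rfl) (dvd_trans (Dvd.intro h₂ he.symm) h0)
      rwa [hab] at this
    · have hmem : aeval S (a * h₁) ∈ Algebra.adjoin F ({S} : Set (Matrix (Fin n) (Fin n) F)) :=
        aeval_mem_adjoin_singleton F S
      revert hmem
      generalize aeval S (a * h₁) = e
      intro hmem
      induction hmem using Algebra.adjoin_induction with
      | mem x hx => rw [Set.mem_singleton_iff.1 hx]; exact hcomm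
      | algebraMap r => exact (Algebra.commutes r A).symm
      | add x y _ _ hx hy => exact hx.add_right hy
      | mul x y _ _ hx hy => exact hx.mul_right hy

/-- The bound on orders of unipotent elements. -/
theorem pow_pred_lt (p : ℕ) (hp : p.Prime) [CharP F p] (x : PS) {c : ℕ} (hc : 1 ≤ c)
    (hx : p ^ c ∣ orderOf x) : p ^ (c - 1) < n := by
  have := Fact.mk hp
  by_contra hle
  push Not at hle
  obtain ⟨g, rfl⟩ := QuotientGroup.mk'_surjective _ x
  rcases Nat.eq_zero_or_pos n with rfl | hn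
  · rw [Subsingleton.elim g 1, map_one, orderOf_one, Nat.dvd_one] at hx
    have h1 := Nat.le_self_pow (show c ≠ 0 by omega) p
    have h2 := hp.two_le
    omega
  have hnt : Nonempty (Fin n) := Fin.pos_iff_nonempty.1 hn
  have hox : orderOf (proj g) ∣ orderOf g := orderOf_map_dvd _ g
  set o := orderOf g
  have ho : o ≠ 0 := (orderOf_pos g).ne'
  set u : SL := g ^ ordCompl[p] o with hu
  set U : Matrix (Fin n) (Fin n) F := (u : Matrix (Fin n) (Fin n) F) with hU
  have hUP : U ^ (p ^ o.factorization p) = 1 := by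
    rw [hU, ← Matrix.SpecialLinearGroup.coe_pow, hu, ← pow_mul, mul_comm,
      Nat.ordProj_mul_ordCompl_eq_self, pow_orderOf_eq_one, Matrix.SpecialLinearGroup.coe_one]
  have hnil : IsNilpotent (U - 1) := ⟨p ^ o.factorization p, by
    rw [sub_pow_char_pow_of_commute _ _ (Commute.one_right U), hUP, one_pow, sub_self]⟩
  have hzero : (U - 1) ^ p ^ (c - 1) = 0 :=
    pow_eq_zero_of_le hle (pow_card_eq_zero_of_isNilpotent hnil)
  rw [sub_pow_char_pow_of_commute _ _ (Commute.one_right U), one_pow, sub_eq_zero] at hzero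
  have hu1 : u ^ p ^ (c - 1) = 1 := Subtype.ext (by
    rw [Matrix.SpecialLinearGroup.coe_pow]; exact hzero)
  have h1 : orderOf (proj g) ∣ ordCompl[p] o * p ^ (c - 1) := orderOf_dvd_of_pow_eq_one (by
    rw [← map_pow, pow_mul, ← hu, hu1, map_one])
  have h2 : p ^ c ∣ p ^ (c - 1) := Nat.Coprime.dvd_of_dvd_mul_left
    (Nat.Coprime.pow_left _ (Nat.coprime_ordCompl hp ho)) (hx.trans h1)
  rw [Nat.pow_dvd_pow_iff_le_right hp.one_lt] at h2
  omega

omit [Finite F] in
/-- An element of order `p ^ c * r` when a block of size `p ^ (c-1) + 1 < n` fits. -/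
theorem exists_pr (p : ℕ) (hp : p.Prime) [CharP F p] (r : ℕ) (hr : r.Prime) (hrn : ¬ r ∣ n)
    (hrp : r ≠ p) (ζ : F) (hζ : orderOf ζ = r) {c : ℕ} (hn : 2 ≤ n)
    (hcn : c = 0 ∨ p ^ (c - 1) + 1 < n) : ∃ y : PS, orderOf y = p ^ c * r := by
  classical
  have := Fact.mk hp
  let E : Matrix (Fin n) (Fin n) F := Matrix.single ⟨n - 1, by omega⟩ ⟨n - 1, by omega⟩ 1
  have hEi : IsIdempotentElem E := by
    show E * E = E
    simp [E]
  have hE0 : E ≠ 0 := fun h => by
    have := congrFun (congrFun h ⟨n - 1, by omega⟩) ⟨n - 1, by omega⟩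
    simp [E] at this
  have hE1 : E ≠ 1 := fun h => by
    have := congrFun (congrFun h ⟨0, by omega⟩) ⟨0, by omega⟩
    rw [Matrix.one_apply_eq] at this
    simp [E, show n - 1 ≠ 0 by omega] at this
  rcases hcn with rfl | hcn
  · obtain ⟨y, hy⟩ := exists_mul_prime r hr hrn ζ hζ (1 : SL) E hEi hE0 hE1 (Commute.one_left E)
      (by simp [hr.one_lt.ne'])
    exact ⟨y, by simpa using hy⟩
  rcases Nat.eq_zero_or_pos c with rfl | hc
  · obtain ⟨y, hy⟩ := exists_mul_prime r hr hrn ζ hζ (1 : SL) E hEi hE0 hE1 (Commute.one_left E)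
      (by simp [hr.one_lt.ne'])
    exact ⟨y, by simpa using hy⟩
  have hnt : Nonempty (Fin n) := ⟨⟨0, by omega⟩⟩
  set j := p ^ (c - 1) with hj
  -- the shift on the first `j + 1` coordinates
  let N : Matrix (Fin n) (Fin n) F :=
    Matrix.of fun a b => if (a : ℕ) + 1 = b ∧ (b : ℕ) ≤ j then 1 else 0
  have hNpow : ∀ (k : ℕ) (a b : Fin n),
      (N ^ k) a b = if (a : ℕ) + k = b ∧ ((b : ℕ) ≤ j ∨ k = 0) then 1 else 0 := by
    intro k
    induction k with
    | zero => intro a b; simp [Matrix.one_apply, Fin.ext_iff]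
    | succ k ih =>
      intro a b
      rw [pow_succ, Matrix.mul_apply]
      simp only [ih]
      by_cases hb : (a : ℕ) + (k + 1) = b ∧ (b : ℕ) ≤ j
      · rw [if_pos ⟨hb.1, Or.inl hb.2⟩, Finset.sum_eq_single (⟨(a : ℕ) + k, by omega⟩ : Fin n)]
        · rw [if_pos ⟨rfl, Or.inl (show (a : ℕ) + k ≤ j by omega)⟩, one_mul]
          simp only [N, Matrix.of_apply]
          rw [if_pos ⟨by omega, hb.2⟩]
        · intro x _ hx
          rw [if_neg fun h => hx (Fin.ext h.1.symm), zero_mul]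
        · simp
      · rw [if_neg (fun h => hb ⟨h.1, h.2.resolve_right (by omega)⟩)]
        refine Finset.sum_eq_zero fun x _ => ?_
        simp only [N, Matrix.of_apply]
        by_cases hx : (a : ℕ) + k = x ∧ ((x : ℕ) ≤ j ∨ k = 0)
        · rw [if_pos hx, one_mul, if_neg fun h => hb ⟨by omega, h.2⟩]
        · rw [if_neg hx, zero_mul]
  have hNzero : N ^ p ^ c = 0 := by
    have hlt : j < p ^ c := Nat.pow_lt_pow_right hp.one_lt (by omega)
    ext a b
    rw [hNpow, Matrix.zero_apply, if_neg]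
    rintro ⟨h1, h2 | h2⟩ <;> omega
  have hupow : ∀ k, (1 + N) ^ p ^ k = 1 + N ^ p ^ k := fun k => by
    rw [add_pow_char_pow_of_commute _ _ (Commute.one_left N), one_pow]
  have hdet : (1 + N).det = 1 := by
    have h1 : (1 + N).det ^ p ^ c = 1 := by
      rw [← Matrix.det_pow, hupow, hNzero, add_zero, Matrix.det_one]
    have h2 : ((1 + N).det - 1) ^ p ^ c = 0 := by
      rw [sub_pow_char_pow, h1, one_pow, sub_self]
    exact sub_eq_zero.1 (pow_eq_zero_iff (pow_ne_zero _ hp.ne_zero) |>.1 h2)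
  let u : SL := ⟨1 + N, hdet⟩
  have hou : orderOf (proj u) = p ^ c := by
    obtain ⟨c', rfl⟩ := Nat.exists_eq_add_of_le' hc
    refine orderOf_eq_prime_pow (fun h => ?_) ?_
    · rw [← map_pow, proj_eq_one_iff] at h
      obtain ⟨a, ha⟩ := h
      rw [Matrix.SpecialLinearGroup.coe_pow] at ha
      have := congrFun (congrFun (show (1 + N) ^ p ^ c' = scalar (Fin n) a from ha) ⟨0, by omega⟩)
        ⟨j, by omega⟩
      have hj0 : 0 < j := pow_pos hp.pos _
      have hne : (⟨0, by omega⟩ : Fin n) ≠ ⟨j, by omega⟩ := fun h => by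
        simp [Fin.ext_iff] at h; omega
      rw [hupow, Matrix.add_apply, Matrix.one_apply_ne hne, hNpow, Matrix.scalar_apply,
        Matrix.diagonal_apply_ne _ hne, if_pos ⟨by simp [hj], Or.inl le_rfl⟩] at this
      simp at this
    · rw [← map_pow]
      refine (congrArg proj (Subtype.ext ?_)).trans (map_one proj)
      rw [Matrix.SpecialLinearGroup.coe_pow]
      show (1 + N) ^ p ^ (c' + 1) = 1
      rw [hupow, hNzero, add_zero]
  have hcomm : Commute (1 + N) E := by
    refine (Commute.one_left E).add_left ?_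
    have hE : E = Matrix.single ⟨n - 1, by omega⟩ ⟨n - 1, by omega⟩ 1 := rfl
    show N * E = E * N
    ext a b
    rw [Matrix.mul_apply, Matrix.mul_apply]
    refine (Finset.sum_eq_zero fun x _ => ?_).trans (Finset.sum_eq_zero fun x _ => ?_).symm
    · simp only [N, hE, Matrix.of_apply, Matrix.single_apply]
      split_ifs with h1 h2 <;> simp_all [Fin.ext_iff] <;> omega
    · simp only [N, hE, Matrix.of_apply, Matrix.single_apply]
      split_ifs with h1 h2 <;> simp_all [Fin.ext_iff] <;> omega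
  obtain ⟨y, hy⟩ := exists_mul_prime r hr hrn ζ hζ u E hEi hE0 hE1 hcomm (by
    rw [hou]
    exact fun h => hrp ((Nat.prime_dvd_prime_iff_eq hr hp).1 (hr.dvd_of_dvd_pow h)))
  exact ⟨y, by rw [hy, hou]⟩


/-- Let F be a finite field with q = p^a elements, n ≥ 2 (with q ≥ 4 when n = 2), L = PSL(n, F), and let r be a prime dividing q − 1 and not dividing n. Then for every m the direct product L × L × L × (ℤ/r)^m has the same set of element orders as L × L × L; and if n − 1 ≠ p^j for every j ≥ 0 (so never when n = 2, since 1 = p^0), then already L × L × (ℤ/r)^m has the same set of element orders as L × L. -/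
theorem result {F : Type*} [Field F] [Fintype F] (p a n r m : ℕ) (hp : p.Prime) (ha : 1 ≤ a) (hF : Fintype.card F = p ^ a)
    (hn : 2 ≤ n) (hn2 : n = 2 → 4 ≤ Fintype.card F) (hr : r.Prime) (hrq : r ∣ Fintype.card F - 1) (hrn : ¬ r ∣ n) :
    Set.range (orderOf : Matrix.ProjectiveSpecialLinearGroup (Fin n) F × Matrix.ProjectiveSpecialLinearGroup (Fin n) F × Matrix.ProjectiveSpecialLinearGroup (Fin n) F × Multiplicative (Fin m → ZMod r) → ℕ) =
      Set.range (orderOf : Matrix.ProjectiveSpecialLinearGroup (Fin n) F × Matrix.ProjectiveSpecialLinearGroup (Fin n) F × Matrix.ProjectiveSpecialLinearGroup (Fin n) F → ℕ) ∧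
    ((¬ ∃ j : ℕ, n - 1 = p ^ j) →
      Set.range (orderOf : Matrix.ProjectiveSpecialLinearGroup (Fin n) F × Matrix.ProjectiveSpecialLinearGroup (Fin n) F × Multiplicative (Fin m → ZMod r) → ℕ) =
        Set.range (orderOf : Matrix.ProjectiveSpecialLinearGroup (Fin n) F × Matrix.ProjectiveSpecialLinearGroup (Fin n) F → ℕ)) := by
  classical
  have : Fact p.Prime := ⟨hp⟩
  have : CharP F p := by
    obtain ⟨e, hq', he⟩ := FiniteField.card F (ringChar F)
    have h1 : ringChar F = p := (Nat.prime_dvd_prime_iff_eq hq' hp).1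
      (hq'.dvd_of_dvd_pow (n := a) (by rw [← hF, he]; exact dvd_pow_self _ e.ne_zero))
    exact h1 ▸ inferInstance
  obtain ⟨ζ, hζ⟩ : ∃ ζ : F, orderOf ζ = r := by
    have := Fact.mk hr
    obtain ⟨z, hz⟩ := exists_prime_orderOf_dvd_card' (G := Fˣ) r
      (by rw [Nat.card_units, Nat.card_eq_fintype_card]; exact hrq)
    exact ⟨z, by rw [orderOf_units]; exact hz⟩
  have hrp : r ≠ p := by
    rintro rfl
    have h1 : r ∣ Fintype.card F := hF ▸ dvd_pow_self r (by omega)
    have h2 := Nat.dvd_sub h1 hrq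
    rw [Nat.sub_sub_self Fintype.card_pos, Nat.dvd_one] at h2
    exact hr.ne_one h2
  obtain ⟨M, hM, hdich⟩ := exists_singer (F := F) (n := n) p hp
  have hdich' : ∀ x : Matrix.ProjectiveSpecialLinearGroup (Fin n) F, ¬ r ∣ orderOf x →
      (∃ y : Matrix.ProjectiveSpecialLinearGroup (Fin n) F, orderOf y = orderOf x * r) ∨
        ordCompl[p] (orderOf x) ∣ M := by
    intro x hx
    obtain ⟨g, rfl⟩ := QuotientGroup.mk'_surjective _ x
    rcases hdich g with ⟨E, h1, h2, h3, h4⟩ | h
    · exact Or.inl (exists_mul_prime r hr hrn ζ hζ g E h1 h2 h3 h4 hx)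
    · exact Or.inr h
  have hv : ∀ v : Multiplicative (Fin m → ZMod r), orderOf v = 1 ∨ orderOf v = r := fun v =>
    (Nat.dvd_prime hr).1 (orderOf_dvd_of_pow_eq_one (by
      apply Multiplicative.toAdd.injective
      funext i; simp [toAdd_pow]))
  -- the prime to `p` part of a least common multiple
  have hcompl : ∀ N, N ≠ 0 → (∀ s b, s.Prime → s ^ b ∣ N → ∃ o, s ^ b ∣ o ∧
      ordCompl[p] o ∣ M) → ordCompl[p] N ∣ M := by
    intro N hN hN'
    refine (Nat.dvd_iff_prime_pow_dvd_dvd _ _).2 fun s b hs hsb => ?_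
    rcases Nat.eq_zero_or_pos b with rfl | hb
    · simp
    have hsp : s ≠ p := by
      rintro rfl
      exact Nat.not_dvd_ordCompl hp hN ((dvd_pow_self _ hb.ne').trans hsb)
    obtain ⟨o, ho, hoM⟩ := hN' s b hs (hsb.trans (Nat.ordCompl_dvd N p))
    refine (Nat.Coprime.dvd_of_dvd_mul_left ?_ (n := ordCompl[p] o) (m := ordProj[p] o) ?_).trans hoM
    · exact Nat.Coprime.pow _ _ ((Nat.coprime_primes hs hp).2 hsp)
    · rwa [Nat.ordProj_mul_ordCompl_eq_self]
  have hfinal : ∀ N : ℕ, N ≠ 0 → ¬ r ∣ N →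
      Nat.lcm (ordProj[p] N) (Nat.lcm (ordCompl[p] N) r) = Nat.lcm N r ∧
      Nat.lcm (ordProj[p] N * r) (ordCompl[p] N) = Nat.lcm N r := by
    intro N hN _
    have hco : Nat.lcm (ordProj[p] N) (ordCompl[p] N) = N := by
      rw [Nat.Coprime.lcm_eq_mul (Nat.Coprime.pow_left _ (Nat.coprime_ordCompl hp hN)),
        Nat.ordProj_mul_ordCompl_eq_self]
    have hpr : ordProj[p] N * r = Nat.lcm (ordProj[p] N) r :=
      (Nat.Coprime.lcm_eq_mul (Nat.Coprime.pow_left _ ((Nat.coprime_primes hp hr).2 hrp.symm))).symm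
    constructor
    · rw [← Nat.lcm_assoc, hco]
    · rw [hpr, Nat.lcm_assoc, Nat.lcm_comm r, ← Nat.lcm_assoc, hco]
  constructor
  · refine Set.Subset.antisymm ?_ ?_
    · rintro _ ⟨⟨x₁, x₂, x₃, v⟩, rfl⟩
      simp only [Prod.orderOf]
      set N := Nat.lcm (orderOf x₁) (Nat.lcm (orderOf x₂) (orderOf x₃)) with hN
      have hN0 : N ≠ 0 := Nat.lcm_ne_zero (orderOf_pos _).ne'
        (Nat.lcm_ne_zero (orderOf_pos _).ne' (orderOf_pos _).ne')
      have hgoal : Nat.lcm (orderOf x₁) (Nat.lcm (orderOf x₂) (Nat.lcm (orderOf x₃) (orderOf v))) =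
          Nat.lcm N (orderOf v) := by rw [hN, Nat.lcm_assoc, Nat.lcm_assoc]
      rw [hgoal]
      by_cases hkeep : orderOf v = 1 ∨ r ∣ N
      · refine ⟨(x₁, x₂, x₃), ?_⟩
        simp only [Prod.orderOf, ← hN]
        rcases hkeep with h | h
        · rw [h, Nat.lcm_one_right]
        · rcases hv v with h' | h'
          · rw [h', Nat.lcm_one_right]
          · rw [h', Nat.lcm_eq_left h]
      rw [not_or] at hkeep
      have hvr : orderOf v = r := (hv v).resolve_left hkeep.1
      rw [hvr]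
      have hd₁ : ¬ r ∣ orderOf x₁ := fun h => hkeep.2 (h.trans (Nat.dvd_lcm_left _ _))
      have hd₂ : ¬ r ∣ orderOf x₂ := fun h =>
        hkeep.2 (h.trans ((Nat.dvd_lcm_left _ _).trans (Nat.dvd_lcm_right _ _)))
      have hd₃ : ¬ r ∣ orderOf x₃ := fun h =>
        hkeep.2 (h.trans ((Nat.dvd_lcm_right _ _).trans (Nat.dvd_lcm_right _ _)))
      have hmulr : ∀ o, ¬ r ∣ o → o * r = Nat.lcm o r := fun o ho =>
        (Nat.Coprime.lcm_eq_mul ((hr.coprime_iff_not_dvd.2 ho).symm)).symm
      rcases hdich' x₁ hd₁ with ⟨y, hy⟩ | e₁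
      · refine ⟨(y, x₂, x₃), ?_⟩
        simp only [Prod.orderOf, hy, hmulr _ hd₁, hN]
        ac_rfl
      rcases hdich' x₂ hd₂ with ⟨y, hy⟩ | e₂
      · refine ⟨(x₁, y, x₃), ?_⟩
        simp only [Prod.orderOf, hy, hmulr _ hd₂, hN]
        ac_rfl
      rcases hdich' x₃ hd₃ with ⟨y, hy⟩ | e₃
      · refine ⟨(x₁, x₂, y), ?_⟩
        simp only [Prod.orderOf, hy, hmulr _ hd₃, hN]
        ac_rfl
      have hcov : ∀ s b, s.Prime → s ^ b ∣ N → s ^ b ∣ orderOf x₁ ∨ s ^ b ∣ orderOf x₂ ∨
          s ^ b ∣ orderOf x₃ := fun s b hs h => by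
        rcases pow_dvd_lcm hs h with h | h
        · exact Or.inl h
        · exact Or.inr (pow_dvd_lcm hs h)
      obtain ⟨u, hu⟩ : ∃ u : Matrix.ProjectiveSpecialLinearGroup (Fin n) F,
          orderOf u = ordProj[p] N := by
        rcases hcov p _ hp (Nat.ordProj_dvd N p) with h | h | h
        · exact exists_orderOf_eq_of_dvd _ (orderOf_pos x₁) h
        · exact exists_orderOf_eq_of_dvd _ (orderOf_pos x₂) h
        · exact exists_orderOf_eq_of_dvd _ (orderOf_pos x₃) h
      obtain ⟨z, hz⟩ := hM _ (hcompl N hN0 fun s b hs h => by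
        rcases hcov s b hs h with h | h | h
        · exact ⟨_, h, e₁⟩
        · exact ⟨_, h, e₂⟩
        · exact ⟨_, h, e₃⟩)
      obtain ⟨t, ht⟩ := exists_pr (F := F) (n := n) p hp r hr hrn hrp ζ hζ (c := 0) hn (Or.inl rfl)
      rw [pow_zero, one_mul] at ht
      refine ⟨(u, z, t), ?_⟩
      simp only [Prod.orderOf, hu, hz, ht]
      exact (hfinal N hN0 hkeep.2).1
    · rintro _ ⟨⟨x₁, x₂, x₃⟩, rfl⟩
      refine ⟨(x₁, x₂, x₃, 1), ?_⟩
      simp only [Prod.orderOf, orderOf_one, Nat.lcm_one_right]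
  · intro hnp
    refine Set.Subset.antisymm ?_ ?_
    · rintro _ ⟨⟨x₁, x₂, v⟩, rfl⟩
      simp only [Prod.orderOf]
      set N := Nat.lcm (orderOf x₁) (orderOf x₂) with hN
      have hN0 : N ≠ 0 := Nat.lcm_ne_zero (orderOf_pos _).ne' (orderOf_pos _).ne'
      rw [show Nat.lcm (orderOf x₁) (Nat.lcm (orderOf x₂) (orderOf v)) = Nat.lcm N (orderOf v) by
        rw [hN, Nat.lcm_assoc]]
      by_cases hkeep : orderOf v = 1 ∨ r ∣ N
      · refine ⟨(x₁, x₂), ?_⟩
        simp only [Prod.orderOf, ← hN]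
        rcases hkeep with h | h
        · rw [h, Nat.lcm_one_right]
        · rcases hv v with h' | h'
          · rw [h', Nat.lcm_one_right]
          · rw [h', Nat.lcm_eq_left h]
      rw [not_or] at hkeep
      have hvr : orderOf v = r := (hv v).resolve_left hkeep.1
      rw [hvr]
      have hd₁ : ¬ r ∣ orderOf x₁ := fun h => hkeep.2 (h.trans (Nat.dvd_lcm_left _ _))
      have hd₂ : ¬ r ∣ orderOf x₂ := fun h => hkeep.2 (h.trans (Nat.dvd_lcm_right _ _))
      have hmulr : ∀ o, ¬ r ∣ o → o * r = Nat.lcm o r := fun o ho =>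
        (Nat.Coprime.lcm_eq_mul ((hr.coprime_iff_not_dvd.2 ho).symm)).symm
      rcases hdich' x₁ hd₁ with ⟨y, hy⟩ | e₁
      · refine ⟨(y, x₂), ?_⟩
        simp only [Prod.orderOf, hy, hmulr _ hd₁, hN]
        ac_rfl
      rcases hdich' x₂ hd₂ with ⟨y, hy⟩ | e₂
      · refine ⟨(x₁, y), ?_⟩
        simp only [Prod.orderOf, hy, hmulr _ hd₂, hN]
        ac_rfl
      set c := N.factorization p with hc
      have hcn : c = 0 ∨ p ^ (c - 1) + 1 < n := by
        rcases Nat.eq_zero_or_pos c with h | h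
        · exact Or.inl h
        right
        have hlt : p ^ (c - 1) < n := by
          rcases pow_dvd_lcm hp (show p ^ c ∣ N from Nat.ordProj_dvd N p) with h' | h'
          · exact pow_pred_lt p hp x₁ h h'
          · exact pow_pred_lt p hp x₂ h h'
        have : p ^ (c - 1) ≠ n - 1 := fun h' => hnp ⟨c - 1, h'.symm⟩
        omega
      obtain ⟨y, hy⟩ := exists_pr (F := F) (n := n) p hp r hr hrn hrp ζ hζ hn hcn
      obtain ⟨z, hz⟩ := hM _ (hcompl N hN0 fun s b hs h => by
        rcases pow_dvd_lcm hs h with h | h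
        · exact ⟨_, h, e₁⟩
        · exact ⟨_, h, e₂⟩)
      refine ⟨(y, z), ?_⟩
      simp only [Prod.orderOf, hy, hz]
      exact (hfinal N hN0 hkeep.2).2
    · rintro _ ⟨⟨x₁, x₂⟩, rfl⟩
      refine ⟨(x₁, x₂, 1), ?_⟩
      simp only [Prod.orderOf, orderOf_one, Nat.lcm_one_right]

end Cfsg.Agent.S2510
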