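import Cfsg.Statements.S2511
import Cfsg.Agent.Lib.FormRep.Unitary

set_option autoImplicit false
open Cfsg

namespace Cfsg.Agent.S2511

/-- Let F be a finite field with q² elements, q = p^a, n ≥ 3 with (n, q) ≠ (3, 2), L = PSU(n, q) realised over F, and let r be a prime dividing q + 1 and not dividing n. Then for every m the direct product L × L × L × (ℤ/r)^m has the same set of element orders as L × L × L; and if n − 1 is not a power of p, then already L × L × (ℤ/r)^m has the same set of element orders as L × L. -/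
theorem result {F : Type*} [Field F] [Fintype F] (p a n q r m : ℕ) (hp : p.Prime) (ha : 1 ≤ a) (hq : q = p ^ a) (hF : Fintype.card F = q ^ 2)
    (hn : 3 ≤ n) (hn3 : ¬ (n = 3 ∧ q = 2)) (hr : r.Prime) (hrq : r ∣ q + 1) (hrn : ¬ r ∣ n) :
    Set.range (orderOf : Cfsg.PSU n F q × Cfsg.PSU n F q × Cfsg.PSU n F q × Multiplicative (Fin m → ZMod r) → ℕ) = Set.range (orderOf : Cfsg.PSU n F q × Cfsg.PSU n F q × Cfsg.PSU n F q → ℕ) ∧
    ((¬ ∃ j : ℕ, n - 1 = p ^ j) →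
      Set.range (orderOf : Cfsg.PSU n F q × Cfsg.PSU n F q × Multiplicative (Fin m → ZMod r) → ℕ) = Set.range (orderOf : Cfsg.PSU n F q × Cfsg.PSU n F q → ℕ)) := by
  classical
  have : Fact p.Prime := ⟨hp⟩
  have : CharP F p := by
    obtain ⟨e, hq', he⟩ := FiniteField.card F (ringChar F)
    have h1 : ringChar F = p := (Nat.prime_dvd_prime_iff_eq hq' hp).1
      (hq'.dvd_of_dvd_pow (n := a * 2) (by
        rw [pow_mul, ← hq, ← hF, he]; exact dvd_pow_self _ e.ne_zero))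
    exact h1 ▸ inferInstance
  obtain ⟨σ, hσp⟩ := CfsgLib.FormRep.exists_powEquiv (F := F) F p hp a
  have hσq : ∀ c, σ c = c ^ q := fun c => by rw [hq]; exact hσp c
  have hσ : ∀ c, σ (σ c) = c := fun c => by
    rw [hσq, hσq, ← pow_mul, ← sq, ← hF, FiniteField.pow_card]
  obtain ⟨ζ, hζ⟩ : ∃ ζ : F, orderOf ζ = r := by
    have := Fact.mk hr
    obtain ⟨z, hz⟩ := exists_prime_orderOf_dvd_card' (G := Fˣ) r (by
      rw [Nat.card_units, Nat.card_eq_fintype_card, hF]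
      exact hrq.trans ⟨q - 1, by rw [← Nat.sq_sub_sq q 1, one_pow]⟩)
    exact ⟨z, by rw [orderOf_units]; exact hz⟩
  have hrp : r ≠ p := by
    rintro rfl
    have h1 : r ∣ q := hq ▸ dvd_pow_self r (by omega)
    exact hr.not_dvd_one ((Nat.dvd_add_right h1).1 hrq)
  have hne : σ ≠ RingEquiv.refl F := by
    intro h
    obtain ⟨u, hu⟩ := IsCyclic.exists_generator (α := Fˣ)
    have h1 : (u : F) ^ q = u := by rw [← hσq, h]; rfl
    have h2 : q ≥ 2 := by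
      rw [hq]; exact le_trans hp.two_le (Nat.le_self_pow (by omega) p)
    have h3 : u ^ (q - 1) = 1 := by
      refine Units.ext (mul_right_cancel₀ u.ne_zero ?_)
      rw [Units.val_pow_eq_pow_val, ← pow_succ, Nat.sub_add_cancel (by omega), h1, Units.val_one,
        one_mul]
    have h4 := Nat.le_of_dvd (by omega) (orderOf_dvd_of_pow_eq_one h3)
    rw [orderOf_eq_card_of_forall_mem_zpowers hu, Nat.card_units, Nat.card_eq_fintype_card, hF] at h4
    have : 2 * q ≤ q ^ 2 := by rw [sq]; exact Nat.mul_le_mul_right q h2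
    omega
  have : Nonempty (Fin n) := ⟨⟨0, by omega⟩⟩
  set W := CfsgLib.FormRep.Unitary.model hn hF σ hσq hσ with hW
  have hζσ : σ ζ * ζ = 1 := by
    rw [hσq, ← pow_succ]; exact orderOf_dvd_iff_pow_eq_one.1 (hζ ▸ hrq)
  obtain ⟨N, hN, hcov⟩ := CfsgLib.FormRep.Unitary.exists_torus hn hF σ hσq hσ hne p a hp hq
  have hmul : ∀ (g : SU n F q) (E : Matrix (Fin n) (Fin n) F), IsIdempotentElem E → E ≠ 0 →
      E ≠ 1 → (CfsgLib.FormRep.adjU σ hσ (Fin n)).ad E = E → Commute (W.toMat g) E →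
      ¬ r ∣ orderOf (CfsgLib.FormRep.Model.proj g) →
      ∃ y : PSU n F q, orderOf y = orderOf (CfsgLib.FormRep.Model.proj g) * r :=
    fun g E h1 h2 h3 h4 h5 h6 => W.exists_mul_prime r hr ζ hζ hζσ
      (CfsgLib.FormRep.Unitary.fix_det σ hσ r hr hrn) g E h1 h2 h3 h4 h5 h6
  have hdich : ∀ x : PSU n F q, ¬ r ∣ orderOf x →
      (∃ y : PSU n F q, orderOf y = Nat.lcm (orderOf x) r) ∨ ordCompl[p] (orderOf x) ∣ N := by
    intro x hx
    obtain ⟨g, rfl⟩ := QuotientGroup.mk'_surjective _ x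
    rcases hcov g with ⟨E, h1, h2, h3, h4, h5⟩ | h
    · obtain ⟨y, hy⟩ := hmul g E h1 h2 h3 h4 h5 hx
      exact Or.inl ⟨y, hy.trans (Nat.Coprime.lcm_eq_mul (hr.coprime_iff_not_dvd.2 hx).symm).symm⟩
    · exact Or.inr h
  have hpr : ∀ c, (c = 0 ∨ p ^ (c - 1) + 1 < n) →
      ∃ y : PSU n F q, orderOf y = Nat.lcm (p ^ c) r := by
    intro c hc
    obtain ⟨g, E, h1, h2, h3, h4, h5, h6⟩ :=
      CfsgLib.FormRep.Unitary.exists_block hn hF σ hσq hσ hne p hp hc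
    have hd : ¬ r ∣ p ^ c := fun h => hrp ((Nat.prime_dvd_prime_iff_eq hr hp).1 (hr.dvd_of_dvd_pow h))
    obtain ⟨y, hy⟩ := hmul g E h1 h2 h3 h4 h5 (h6.symm ▸ hd)
    exact ⟨y, by rw [hy, h6, Nat.Coprime.lcm_eq_mul (hr.coprime_iff_not_dvd.2 hd).symm]⟩
  have hne0 : ∀ x : PSU n F q, orderOf x ≠ 0 := fun x => (orderOf_pos x).ne'
  refine ⟨CfsgLib.FormRep.range_absorb_three r (CfsgLib.FormRep.orderOf_multiplicative_pi hr) ?_,
    fun hnp => CfsgLib.FormRep.range_absorb_two r (CfsgLib.FormRep.orderOf_multiplicative_pi hr) ?_⟩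
  · intro x₁ x₂ x₃ hN'
    set o₁ := orderOf x₁ with ho₁
    set o₂ := orderOf x₂ with ho₂
    set o₃ := orderOf x₃ with ho₃
    rcases hdich x₁ (fun h => hN' (h.trans (Nat.dvd_lcm_left _ _))) with ⟨y, hy⟩ | e₁
    · exact ⟨y, x₂, x₃, by rw [hy, ← ho₁, ← ho₂, ← ho₃]; ac_rfl⟩
    rcases hdich x₂ (fun h => hN' (h.trans ((Nat.dvd_lcm_left _ _).trans (Nat.dvd_lcm_right _ _))))
      with ⟨y, hy⟩ | e₂
    · exact ⟨x₁, y, x₃, by rw [hy, ← ho₁, ← ho₂, ← ho₃]; ac_rfl⟩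
    rcases hdich x₃ (fun h => hN' (h.trans ((Nat.dvd_lcm_right _ _).trans (Nat.dvd_lcm_right _ _))))
      with ⟨y, hy⟩ | e₃
    · exact ⟨x₁, x₂, y, by rw [hy, ← ho₁, ← ho₂, ← ho₃]; ac_rfl⟩
    set T := Nat.lcm o₁ (Nat.lcm o₂ o₃) with hT
    have h23 : Nat.lcm o₂ o₃ ≠ 0 := Nat.lcm_ne_zero (hne0 _) (hne0 _)
    have hT0 : T ≠ 0 := Nat.lcm_ne_zero (hne0 _) h23
    obtain ⟨u, hu⟩ : ∃ u : PSU n F q, orderOf u = ordProj[p] T := by
      rcases CfsgLib.FormRep.pow_dvd_lcm hp (Nat.ordProj_dvd T p) with h | h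
      · exact CfsgLib.FormRep.exists_order_of_dvd _ (orderOf_pos x₁) h
      · rcases CfsgLib.FormRep.pow_dvd_lcm hp h with h | h
        · exact CfsgLib.FormRep.exists_order_of_dvd _ (orderOf_pos x₂) h
        · exact CfsgLib.FormRep.exists_order_of_dvd _ (orderOf_pos x₃) h
    obtain ⟨z, hz⟩ := hN _ ((CfsgLib.FormRep.ordCompl_dvd_lcm hp (hne0 x₁) h23).trans
      (Nat.lcm_dvd e₁ ((CfsgLib.FormRep.ordCompl_dvd_lcm hp (hne0 x₂) (hne0 x₃)).trans
        (Nat.lcm_dvd e₂ e₃))))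
    obtain ⟨t, ht⟩ := hpr 0 (Or.inl rfl)
    refine ⟨u, z, t, ?_⟩
    rw [hu, hz, ht, pow_zero, Nat.lcm_one_left, ← Nat.lcm_assoc,
      CfsgLib.FormRep.lcm_ordProj_ordCompl hp hT0]
  · intro x₁ x₂ hN'
    set o₁ := orderOf x₁ with ho₁
    set o₂ := orderOf x₂ with ho₂
    rcases hdich x₁ (fun h => hN' (h.trans (Nat.dvd_lcm_left _ _))) with ⟨y, hy⟩ | e₁
    · exact ⟨y, x₂, by rw [hy, ← ho₁, ← ho₂]; ac_rfl⟩
    rcases hdich x₂ (fun h => hN' (h.trans (Nat.dvd_lcm_right _ _))) with ⟨y, hy⟩ | e₂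
    · exact ⟨x₁, y, by rw [hy, ← ho₁, ← ho₂]; ac_rfl⟩
    set T := Nat.lcm o₁ o₂ with hT
    have hT0 : T ≠ 0 := Nat.lcm_ne_zero (hne0 _) (hne0 _)
    have hcn : T.factorization p = 0 ∨ p ^ (T.factorization p - 1) + 1 < n := by
      rcases Nat.eq_zero_or_pos (T.factorization p) with h | h
      · exact Or.inl h
      right
      have hlt : p ^ (T.factorization p - 1) < n := by
        rw [← Fintype.card_fin n]
        rcases CfsgLib.FormRep.pow_dvd_lcm hp (Nat.ordProj_dvd T p) with h' | h'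
        · exact W.pow_pred_lt p hp x₁ h h'
        · exact W.pow_pred_lt p hp x₂ h h'
      have : p ^ (T.factorization p - 1) ≠ n - 1 := fun h' => hnp ⟨_, h'.symm⟩
      omega
    obtain ⟨y, hy⟩ := hpr _ hcn
    obtain ⟨z, hz⟩ := hN _ ((CfsgLib.FormRep.ordCompl_dvd_lcm hp (hne0 x₁) (hne0 x₂)).trans
      (Nat.lcm_dvd e₁ e₂))
    refine ⟨y, z, ?_⟩
    rw [hy, hz, Nat.lcm_assoc, Nat.lcm_comm r, ← Nat.lcm_assoc,
      CfsgLib.FormRep.lcm_ordProj_ordCompl hp hT0]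

end Cfsg.Agent.S2511
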