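import Cfsg.Statements.S2512
import Cfsg.Agent.Lib.FormRep.Symplectic

set_option autoImplicit false
open Cfsg

namespace Cfsg.Agent.S2512

/-- Let F be a finite field of odd order q = p^a, n ≥ 2 (with q ≥ 3 automatic), and L = PSp(2n, F). Then for every m the direct product L × L × L × (ℤ/2)^m has the same set of element orders as L × L × L; and if 2n − 1 is not a power of p, then already L × L × (ℤ/2)^m has the same set of element orders as L × L. -/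
theorem result {F : Type*} [Field F] [Fintype F] (p a n m : ℕ) (hp : p.Prime) (ha : 1 ≤ a) (hF : Fintype.card F = p ^ a) (hodd : Odd (Fintype.card F))
    (hn : 2 ≤ n) :
    Set.range (orderOf : Cfsg.PSp n F × Cfsg.PSp n F × Cfsg.PSp n F × Multiplicative (Fin m → ZMod 2) → ℕ) = Set.range (orderOf : Cfsg.PSp n F × Cfsg.PSp n F × Cfsg.PSp n F → ℕ) ∧
    ((¬ ∃ j : ℕ, 2 * n - 1 = p ^ j) →
      Set.range (orderOf : Cfsg.PSp n F × Cfsg.PSp n F × Multiplicative (Fin m → ZMod 2) → ℕ) = Set.range (orderOf : Cfsg.PSp n F × Cfsg.PSp n F → ℕ)) := by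
  classical
  have : Fact p.Prime := ⟨hp⟩
  have : CharP F p := by
    obtain ⟨e, hq', he⟩ := FiniteField.card F (ringChar F)
    have h1 : ringChar F = p := (Nat.prime_dvd_prime_iff_eq hq' hp).1
      (hq'.dvd_of_dvd_pow (n := a) (by rw [← hF, he]; exact dvd_pow_self _ e.ne_zero))
    exact h1 ▸ inferInstance
  have hp2 : p ≠ 2 := by
    rintro rfl
    rw [hF, Nat.odd_pow_iff (by omega)] at hodd
    exact absurd hodd (by decide)
  have h2 : (2 : F) ≠ 0 := by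
    intro h
    have h' : ((2 : ℕ) : F) = 0 := by exact_mod_cast h
    rw [CharP.cast_eq_zero_iff F p] at h'
    exact hp2 ((Nat.prime_dvd_prime_iff_eq hp Nat.prime_two).1 h')
  have hn1 : 1 ≤ n := by omega
  have : Nonempty (Fin n ⊕ Fin n) := ⟨.inl ⟨0, hn1⟩⟩
  have hneg : (-1 : F) ≠ 1 := fun h => h2 (by linear_combination -h)
  have hord : orderOf (-1 : F) = 2 := orderOf_eq_prime (by ring) hneg
  set W := CfsgLib.FormRep.Symplectic.model F n with hW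
  have hmul : ∀ (g : Matrix.symplecticGroup (Fin n) F)
      (E : Matrix (Fin n ⊕ Fin n) (Fin n ⊕ Fin n) F), IsIdempotentElem E → E ≠ 0 →
      E ≠ 1 → (CfsgLib.FormRep.adjS F (Fin n)).ad E = E → Commute (W.toMat g) E →
      ¬ 2 ∣ orderOf (CfsgLib.FormRep.Model.proj g) →
      ∃ y : PSp n F, orderOf y = orderOf (CfsgLib.FormRep.Model.proj g) * 2 :=
    fun g E h1 h2 h3 h4 h5 h6 => W.exists_mul_prime 2 Nat.prime_two (-1) hord
      (by show (RingEquiv.refl F) (-1) * (-1) = 1; simp)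
      CfsgLib.FormRep.Symplectic.fix_det g E h1 h2 h3 h4 h5 h6
  obtain ⟨M₁, M₂, hM₁, hM₂, hev, hcov⟩ :=
    CfsgLib.FormRep.Symplectic.exists_tori hn1 p hp hF h2
  obtain ⟨Na, Nb, hNa, hNb, h2a, hcov⟩ : ∃ Na Nb : ℕ,
      (∀ k, k ∣ Na → ∃ z : PSp n F, orderOf z = k) ∧
      (∀ k, k ∣ Nb → ∃ z : PSp n F, orderOf z = k) ∧ 2 ∣ Na ∧
      ∀ g : Matrix.symplecticGroup (Fin n) F,
        (∃ E, IsIdempotentElem E ∧ E ≠ 0 ∧ E ≠ 1 ∧ (CfsgLib.FormRep.adjS F (Fin n)).ad E = E ∧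
          Commute (W.toMat g) E) ∨
        ordCompl[p] (orderOf (CfsgLib.FormRep.Model.proj g)) ∣ Na ∨
        ordCompl[p] (orderOf (CfsgLib.FormRep.Model.proj g)) ∣ Nb := by
    rcases hev with h | h
    · exact ⟨M₁, M₂, hM₁, hM₂, h, hcov⟩
    · exact ⟨M₂, M₁, hM₂, hM₁, h, fun g => (hcov g).imp_right Or.symm⟩
  have hcop : ∀ {o : ℕ}, ¬ 2 ∣ o → o * 2 = Nat.lcm o 2 := fun h =>
    (Nat.Coprime.lcm_eq_mul (Nat.coprime_comm.1 (Nat.prime_two.coprime_iff_not_dvd.2 h))).symm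
  have hne0 : ∀ x : PSp n F, orderOf x ≠ 0 := fun x => (orderOf_pos x).ne'
  have hdich : ∀ x : PSp n F, ¬ 2 ∣ orderOf x →
      (∃ y : PSp n F, orderOf y = Nat.lcm (orderOf x) 2) ∨
      ((ordCompl[p] (orderOf x) ∣ Na ∨ ordCompl[p] (orderOf x) ∣ Nb) ∧
        ∀ c, 1 ≤ c → p ^ c ∣ orderOf x → ordCompl[p] (orderOf x) ≠ 1 →
          ∃ y : PSp n F, orderOf y = Nat.lcm (Nat.lcm (ordCompl[p] (orderOf x)) (p ^ c)) 2) := by
    intro x hx
    obtain ⟨g, rfl⟩ := QuotientGroup.mk'_surjective _ x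
    by_cases hE : ∃ E, IsIdempotentElem E ∧ E ≠ 0 ∧ E ≠ 1 ∧
        (CfsgLib.FormRep.adjS F (Fin n)).ad E = E ∧ Commute (W.toMat g) E
    · obtain ⟨E, h1, h2, h3, h4, h5⟩ := hE
      obtain ⟨y, hy⟩ := hmul g E h1 h2 h3 h4 h5 hx
      exact Or.inl ⟨y, hy.trans (hcop hx)⟩
    · exact Or.inr ⟨(hcov g).resolve_left hE, fun c hc hpc ho1 =>
        CfsgLib.FormRep.Symplectic.exists_block_shape p hp hF h2 g hc hpc
          (fun h => hx (h.trans (Nat.ordCompl_dvd _ p))) ho1 hE hmul⟩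
  refine ⟨CfsgLib.FormRep.range_absorb_three 2
      (CfsgLib.FormRep.orderOf_multiplicative_pi Nat.prime_two) ?_,
    fun hnp => CfsgLib.FormRep.range_absorb_two 2
      (CfsgLib.FormRep.orderOf_multiplicative_pi Nat.prime_two) ?_⟩
  · intro x₁ x₂ x₃ hN'
    set o₁ := orderOf x₁ with ho₁
    set o₂ := orderOf x₂ with ho₂
    set o₃ := orderOf x₃ with ho₃
    have hd₁ : o₁ ∣ Nat.lcm o₁ (Nat.lcm o₂ o₃) := Nat.dvd_lcm_left _ _
    have hd₂ : o₂ ∣ Nat.lcm o₁ (Nat.lcm o₂ o₃) :=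
      (Nat.dvd_lcm_left _ _).trans (Nat.dvd_lcm_right _ _)
    have hd₃ : o₃ ∣ Nat.lcm o₁ (Nat.lcm o₂ o₃) :=
      (Nat.dvd_lcm_right _ _).trans (Nat.dvd_lcm_right _ _)
    rcases hdich x₁ (fun h => hN' (h.trans hd₁)) with ⟨y, hy⟩ | ⟨e₁, -⟩
    · exact ⟨y, x₂, x₃, by rw [hy, ← ho₁, ← ho₂, ← ho₃]; ac_rfl⟩
    rcases hdich x₂ (fun h => hN' (h.trans hd₂)) with ⟨y, hy⟩ | ⟨e₂, -⟩
    · exact ⟨x₁, y, x₃, by rw [hy, ← ho₁, ← ho₂, ← ho₃]; ac_rfl⟩
    rcases hdich x₃ (fun h => hN' (h.trans hd₃)) with ⟨y, hy⟩ | ⟨e₃, -⟩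
    · exact ⟨x₁, x₂, y, by rw [hy, ← ho₁, ← ho₂, ← ho₃]; ac_rfl⟩
    set T := Nat.lcm o₁ (Nat.lcm o₂ o₃) with hT
    have h23 : Nat.lcm o₂ o₃ ≠ 0 := Nat.lcm_ne_zero (hne0 _) (hne0 _)
    have hT0 : T ≠ 0 := Nat.lcm_ne_zero (hne0 _) h23
    set T' := ordCompl[p] T with hT'
    set A := Nat.gcd T' Na
    set B := Nat.gcd T' Nb
    have hsplit : ∀ o, o ≠ 0 → o ∣ T → (ordCompl[p] o ∣ Na ∨ ordCompl[p] o ∣ Nb) →
        ordCompl[p] o ∣ Nat.lcm A B := by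
      intro o ho hoT h
      have h1 : ordCompl[p] o ∣ T' := by
        rw [hT']
        refine Nat.Coprime.dvd_of_dvd_mul_left (m := ordProj[p] T) ?_ ?_
        · exact (Nat.Coprime.pow_left _ (Nat.coprime_ordCompl hp ho)).symm
        · rw [Nat.ordProj_mul_ordCompl_eq_self]; exact (Nat.ordCompl_dvd o p).trans hoT
      rcases h with h | h
      · exact (Nat.dvd_gcd h1 h).trans (Nat.dvd_lcm_left _ _)
      · exact (Nat.dvd_gcd h1 h).trans (Nat.dvd_lcm_right _ _)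
    have hAB : Nat.lcm A B = T' := Nat.dvd_antisymm
      (Nat.lcm_dvd (Nat.gcd_dvd_left _ _) (Nat.gcd_dvd_left _ _))
      ((CfsgLib.FormRep.ordCompl_dvd_lcm hp (hne0 x₁) h23).trans (Nat.lcm_dvd
        (hsplit o₁ (hne0 x₁) hd₁ e₁)
        ((CfsgLib.FormRep.ordCompl_dvd_lcm hp (hne0 x₂) (hne0 x₃)).trans (Nat.lcm_dvd
          (hsplit o₂ (hne0 x₂) hd₂ e₂) (hsplit o₃ (hne0 x₃) hd₃ e₃)))))
    obtain ⟨u, hu⟩ : ∃ u : PSp n F, orderOf u = ordProj[p] T := by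
      rcases CfsgLib.FormRep.pow_dvd_lcm hp (Nat.ordProj_dvd T p) with h | h
      · exact CfsgLib.FormRep.exists_order_of_dvd _ (orderOf_pos x₁) h
      · rcases CfsgLib.FormRep.pow_dvd_lcm hp h with h | h
        · exact CfsgLib.FormRep.exists_order_of_dvd _ (orderOf_pos x₂) h
        · exact CfsgLib.FormRep.exists_order_of_dvd _ (orderOf_pos x₃) h
    obtain ⟨za, hza⟩ := hNa (Nat.lcm A 2) (Nat.lcm_dvd (Nat.gcd_dvd_right _ _) h2a)
    obtain ⟨zb, hzb⟩ := hNb B (Nat.gcd_dvd_right _ _)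
    refine ⟨u, za, zb, ?_⟩
    rw [hu, hza, hzb]
    conv_rhs => rw [← CfsgLib.FormRep.lcm_ordProj_ordCompl hp hT0, ← hT', ← hAB]
    ac_rfl
  · intro x₁ x₂ hN'
    set o₁ := orderOf x₁ with ho₁
    set o₂ := orderOf x₂ with ho₂
    rcases hdich x₁ (fun h => hN' (h.trans (Nat.dvd_lcm_left _ _))) with ⟨y, hy⟩ | ⟨e₁, b₁⟩
    · exact ⟨y, x₂, by rw [hy, ← ho₁, ← ho₂]; ac_rfl⟩
    rcases hdich x₂ (fun h => hN' (h.trans (Nat.dvd_lcm_right _ _))) with ⟨y, hy⟩ | ⟨e₂, b₂⟩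
    · exact ⟨x₁, y, by rw [hy, ← ho₁, ← ho₂]; ac_rfl⟩
    set T := Nat.lcm o₁ o₂ with hT
    have hT0 : T ≠ 0 := Nat.lcm_ne_zero (hne0 _) (hne0 _)
    have hcl : ordCompl[p] T ∣ Nat.lcm (ordCompl[p] o₁) (ordCompl[p] o₂) :=
      CfsgLib.FormRep.ordCompl_dvd_lcm hp (hne0 x₁) (hne0 x₂)
    set P := ordProj[p] T with hP
    have hPor : P ∣ o₁ ∨ P ∣ o₂ := CfsgLib.FormRep.pow_dvd_lcm hp (Nat.ordProj_dvd T p)
    have hfact : ∀ N, ordCompl[p] o₁ ∣ N → ordCompl[p] o₂ ∣ N → ordCompl[p] T ∣ N :=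
      fun N h1 h2 => hcl.trans (Nat.lcm_dvd h1 h2)
    have hT2 : Nat.lcm T 2 = Nat.lcm P (Nat.lcm (ordCompl[p] T) 2) := by
      rw [← Nat.lcm_assoc, hP, CfsgLib.FormRep.lcm_ordProj_ordCompl hp hT0]
    rcases Nat.eq_zero_or_pos (T.factorization p) with hc0 | hc
    · have hP1 : P = 1 := by rw [hP, hc0, pow_zero]
      have hTT : ordCompl[p] T = T := by
        rw [hc0, pow_zero, Nat.div_one]
      have hsplit : ∀ o, o ∣ T → o ≠ 0 → ordCompl[p] o = o := by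
        intro o ho ho0
        have : o.factorization p = 0 :=
          Nat.le_zero.1 (hc0 ▸ (Nat.factorization_le_iff_dvd ho0 hT0).2 ho p)
        rw [this, pow_zero, Nat.div_one]
      rw [hsplit o₁ (Nat.dvd_lcm_left _ _) (hne0 x₁)] at e₁
      rw [hsplit o₂ (Nat.dvd_lcm_right _ _) (hne0 x₂)] at e₂
      rcases e₁ with ea₁ | eb₁
      · obtain ⟨z, hz⟩ := hNa (Nat.lcm o₁ 2) (Nat.lcm_dvd ea₁ h2a)
        exact ⟨z, x₂, by rw [hz, hT, ← ho₂]; ac_rfl⟩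
      rcases e₂ with ea₂ | eb₂
      · obtain ⟨z, hz⟩ := hNa (Nat.lcm o₂ 2) (Nat.lcm_dvd ea₂ h2a)
        exact ⟨x₁, z, by rw [hz, hT, ← ho₁]; ac_rfl⟩
      obtain ⟨z, hz⟩ := hNb T (Nat.lcm_dvd eb₁ eb₂)
      obtain ⟨t, ht⟩ := hNa 2 h2a
      exact ⟨z, t, by rw [hz, ht]⟩
    -- `p` divides `T`
    have hsame : ∀ (N : ℕ), (∀ k, k ∣ N → ∃ z : PSp n F, orderOf z = k) →
        ordCompl[p] T ∣ N → ∃ y₁ y₂ : PSp n F, Nat.lcm (orderOf y₁) (orderOf y₂) = Nat.lcm T 2 := by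
      intro N hN hd
      obtain ⟨z, hz⟩ := hN _ hd
      have hlt : p ^ (T.factorization p - 1) + 1 < 2 * n := by
        have hlt : p ^ (T.factorization p - 1) < Fintype.card (Fin n ⊕ Fin n) := by
          rcases hPor with h' | h'
          · exact W.pow_pred_lt p hp x₁ hc h'
          · exact W.pow_pred_lt p hp x₂ hc h'
        rw [Fintype.card_sum, Fintype.card_fin] at hlt
        have : p ^ (T.factorization p - 1) ≠ 2 * n - 1 := fun h' => hnp ⟨_, h'.symm⟩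
        omega
      obtain ⟨j', hj'⟩ := (hp.odd_of_ne_two hp2).pow (n := T.factorization p - 1)
      set e := n - (j' + 1) with he
      have : Nonempty (Fin e) := ⟨⟨0, by omega⟩⟩
      obtain ⟨Df, -⟩ := CfsgLib.FormRep.Symplectic.exists_hyperDat (F := F) (Fin e → F)
        (∑ i, LinearMap.proj i) (fun v hv => CfsgLib.FormRep.Dat.sum_proj_nondeg v hv)
      obtain ⟨y, E, h1, h2', h3, h4, h5, hy⟩ := CfsgLib.FormRep.Symplectic.exists_block (n := n) Df 1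
        (by rw [map_one, mul_one]) p hp h2 hc (by
          rw [Module.finrank_prod, Module.finrank_fintype_fun_eq_card, Fintype.card_fin]; omega)
      rw [orderOf_one, Nat.lcm_one_left] at hy
      have hodd' : ¬ 2 ∣ orderOf (CfsgLib.FormRep.Model.proj y) := by
        rw [hy]; exact fun h => hp2 ((Nat.prime_dvd_prime_iff_eq Nat.prime_two hp).1
          (Nat.prime_two.dvd_of_dvd_pow h)).symm
      obtain ⟨w, hw⟩ := hmul y E h1 h2' h3 h4 h5 hodd'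
      refine ⟨w, z, ?_⟩
      rw [hw, hcop hodd', hy, hz, hT2, hP]
      ac_rfl
    have hodd₁ : ∀ o, o ∣ T → ¬ 2 ∣ ordCompl[p] o := fun o ho h =>
      hN' ((h.trans (Nat.ordCompl_dvd o p)).trans ho)
    -- one element in each class
    have hmixed : ∀ xa xb : PSp n F, ordCompl[p] (orderOf xa) ∣ Na →
        Nat.lcm (orderOf xa) (orderOf xb) = T →
        ordCompl[p] T ∣ Nat.lcm (ordCompl[p] (orderOf xa)) (ordCompl[p] (orderOf xb)) →
        (P ∣ orderOf xb ∨ (P ∣ orderOf xa ∧ ∃ y : PSp n F, orderOf y =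
          Nat.lcm (Nat.lcm (ordCompl[p] (orderOf xa)) P) 2)) →
        ∃ y₁ y₂ : PSp n F, Nat.lcm (orderOf y₁) (orderOf y₂) = Nat.lcm T 2 := by
      intro xa xb ha hab hcl' h
      have hxbT : orderOf xb ∣ T := hab ▸ Nat.dvd_lcm_right _ _
      have hxaT : ordCompl[p] (orderOf xa) ∣ T :=
        (Nat.ordCompl_dvd _ p).trans (hab ▸ Nat.dvd_lcm_left _ _)
      rcases h with hb | ⟨-, y, hy⟩
      · obtain ⟨z, hz⟩ := hNa (Nat.lcm (ordCompl[p] (orderOf xa)) 2) (Nat.lcm_dvd ha h2a)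
        refine ⟨z, xb, ?_⟩
        rw [hz]
        refine Nat.dvd_antisymm (Nat.lcm_dvd (Nat.lcm_dvd (hxaT.trans (Nat.dvd_lcm_left _ _))
          (Nat.dvd_lcm_right _ _)) (hxbT.trans (Nat.dvd_lcm_left _ _))) ?_
        rw [hT2]
        refine Nat.lcm_dvd (hb.trans (Nat.dvd_lcm_right _ _)) (Nat.lcm_dvd (hcl'.trans
          (Nat.lcm_dvd ?_ ?_)) ((Nat.dvd_lcm_right _ _).trans (Nat.dvd_lcm_left _ _)))
        · exact (Nat.dvd_lcm_left _ _).trans (Nat.dvd_lcm_left _ _)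
        · exact (Nat.ordCompl_dvd _ p).trans (Nat.dvd_lcm_right _ _)
      · refine ⟨y, xb, ?_⟩
        rw [hy]
        refine Nat.dvd_antisymm (Nat.lcm_dvd (Nat.lcm_dvd (Nat.lcm_dvd
          (hxaT.trans (Nat.dvd_lcm_left _ _))
          ((Nat.ordProj_dvd T p).trans (Nat.dvd_lcm_left _ _))) (Nat.dvd_lcm_right _ _))
          (hxbT.trans (Nat.dvd_lcm_left _ _))) ?_
        rw [hT2]
        refine Nat.lcm_dvd ((Nat.dvd_lcm_right _ _).trans ((Nat.dvd_lcm_left _ _).trans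
          (Nat.dvd_lcm_left _ _))) (Nat.lcm_dvd (hcl'.trans (Nat.lcm_dvd ?_ ?_))
            ((Nat.dvd_lcm_right _ _).trans (Nat.dvd_lcm_left _ _)))
        · exact (Nat.dvd_lcm_left _ _).trans ((Nat.dvd_lcm_left _ _).trans (Nat.dvd_lcm_left _ _))
        · exact (Nat.ordCompl_dvd _ p).trans (Nat.dvd_lcm_right _ _)
    by_cases hsa : ordCompl[p] o₁ ∣ Na ∧ ordCompl[p] o₂ ∣ Na
    · exact hsame Na hNa (hfact _ hsa.1 hsa.2)
    by_cases hsb : ordCompl[p] o₁ ∣ Nb ∧ ordCompl[p] o₂ ∣ Nb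
    · exact hsame Nb hNb (hfact _ hsb.1 hsb.2)
    rcases e₁ with ha | hb
    · have hb : ordCompl[p] o₂ ∣ Nb := e₂.resolve_left fun h => hsa ⟨ha, h⟩
      refine hmixed x₁ x₂ ha rfl hcl (hPor.symm.imp_right fun h => ⟨h, b₁ _ hc h fun h1 => ?_⟩)
      exact hsb ⟨h1 ▸ one_dvd _, hb⟩
    · have ha : ordCompl[p] o₂ ∣ Na := e₂.resolve_right fun h => hsb ⟨hb, h⟩
      refine hmixed x₂ x₁ ha (Nat.lcm_comm _ _) (by rw [Nat.lcm_comm]; exact hcl)
        (hPor.imp_right fun h => ⟨h, b₂ _ hc h fun h1 => ?_⟩)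
      exact hsb ⟨hb, h1 ▸ one_dvd _⟩

end Cfsg.Agent.S2512
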