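import Cfsg.Statements.S2513
import Cfsg.Agent.Lib.Singer.Basic

set_option autoImplicit false
open Cfsg

namespace Cfsg.Agent.S2513

open Matrix

/-- Abstract form: the element orders of powers stabilise at `k₀`. -/
theorem range_pi {G : Type*} [Group G] [Finite G] (k₀ k : ℕ) (hk : k₀ ≤ k)
    (H : ∀ f : Fin k → G, ∃ h : Fin k₀ → G, orderOf h = orderOf f) :
    Set.range (orderOf : (Fin k → G) → ℕ) = Set.range (orderOf : (Fin k₀ → G) → ℕ) := by
  refine Set.Subset.antisymm ?_ ?_
  · rintro _ ⟨f, rfl⟩; exact H f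
  · rintro _ ⟨h, rfl⟩
    let φ : (Fin k₀ → G) →* (Fin k → G) :=
      { toFun := fun h i => if hi : (i : ℕ) < k₀ then h ⟨i, hi⟩ else 1
        map_one' := by funext i; simp
        map_mul' := fun a b => by funext i; by_cases hi : (i : ℕ) < k₀ <;> simp [hi] }
    have hφ : Function.Injective φ := fun a b hab => funext fun j => by
      have := congrFun hab (Fin.castLE hk j)
      simpa [φ, j.2] using this
    exact ⟨φ h, orderOf_injective φ hφ h⟩

theorem exists_tuple {F : Type*} [Field F] [Finite F] (hF : Nat.card F = 2) {n : ℕ} (hn : 1 ≤ n)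
    {k : ℕ} (f : Fin k → GL (Fin n) F) :
    ∃ h : Fin ((n + 3) / 2) → GL (Fin n) F, orderOf h = orderOf f := by
  classical
  set N := orderOf f with hN
  have hN0 : 0 < N := orderOf_pos f
  have hfi : ∀ i, orderOf (f i) ∣ N := fun i =>
    orderOf_dvd_of_pow_eq_one (by rw [← Pi.pow_apply, hN, pow_orderOf_eq_one]; rfl)
  have hex : ∀ p, p.Prime → ∀ b, p ^ b ∣ N → ∃ x : GL (Fin n) F, orderOf x = p ^ b := by
    intro p hp b hb
    by_cases hb0 : b = 0
    · exact ⟨1, by simp [hb0]⟩
    by_contra hno
    have hall : ∀ i, orderOf (f i) ∣ N / p := by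
      intro i
      have hnd : ¬ p ^ b ∣ orderOf (f i) := fun h =>
        hno (CfsgLib.Singer.exists_orderOf_eq_of_dvd (f i) (orderOf_pos _) h)
      have hpN : p ∣ N := (dvd_pow_self p hb0).trans hb
      refine (Nat.factorization_le_iff_dvd (orderOf_pos _).ne'
        (Nat.div_pos (Nat.le_of_dvd hN0 hpN) hp.pos).ne').1 fun r => ?_
      have hle := (Nat.factorization_le_iff_dvd (orderOf_pos _).ne' hN0.ne').2 (hfi i) r
      rw [Nat.factorization_div hpN, Finsupp.tsub_apply, hp.factorization]
      by_cases hr : r = p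
      · subst hr
        rw [Finsupp.single_eq_same]
        have h1 : (orderOf (f i)).factorization r < b := by
          by_contra hle'
          exact hnd ((hp.pow_dvd_iff_le_factorization (orderOf_pos _).ne').2 (not_lt.1 hle'))
        have h2 : b ≤ N.factorization r := (hp.pow_dvd_iff_le_factorization hN0.ne').1 hb
        omega
      · rw [Finsupp.single_eq_of_ne hr]; simpa using hle
    have : f ^ (N / p) = 1 := funext fun i => orderOf_dvd_iff_pow_eq_one.1 (hall i)
    have h1 := Nat.le_of_dvd (Nat.div_pos (Nat.le_of_dvd hN0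
      ((dvd_pow_self p hb0).trans hb)) hp.pos) (orderOf_dvd_of_pow_eq_one this)
    have h2 : N / p < N := Nat.div_lt_self hN0 hp.one_lt
    omega
  -- the element carrying the `2`-part
  obtain ⟨x₀, hx₀⟩ := hex 2 Nat.prime_two (N.factorization 2) (Nat.ordProj_dvd N 2)
  -- elements carrying `gcd (N, 2 ^ d - 1)`
  have hd : ∀ d, 1 ≤ d → d ≤ n → ∃ x : GL (Fin n) F, orderOf x = Nat.gcd N (2 ^ d - 1) := by
    intro d hd hdn
    obtain ⟨g, hg⟩ := CfsgLib.Singer.exists_orderOf_eq (F := F) hd hdn
    exact CfsgLib.Singer.exists_orderOf_eq_of_dvd g (orderOf_pos _)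
      (by rw [hg, hF]; exact Nat.gcd_dvd_right _ _)
  choose x hx using hd
  let h : Fin ((n + 3) / 2) → GL (Fin n) F := fun j =>
    if hj : (j : ℕ) = 0 then x₀ else x (n / 2 + j) (by omega) (by have := j.2; omega)
  refine ⟨h, Nat.dvd_antisymm (orderOf_dvd_of_pow_eq_one (funext fun j => ?_)) ?_⟩
  · rw [Pi.pow_apply, Pi.one_apply, ← orderOf_dvd_iff_pow_eq_one]
    by_cases hj : (j : ℕ) = 0
    · simp only [h, dif_pos hj, hx₀]; exact Nat.ordProj_dvd N 2
    · simp only [h, dif_neg hj, hx]; exact Nat.gcd_dvd_left _ _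
  · have hj : ∀ j, orderOf (h j) ∣ orderOf h := fun j =>
      orderOf_dvd_of_pow_eq_one (by rw [← Pi.pow_apply, pow_orderOf_eq_one]; rfl)
    refine (Nat.dvd_iff_prime_pow_dvd_dvd _ N).2 fun p b hp hb => ?_
    rcases Nat.eq_zero_or_pos b with rfl | hb0
    · simp
    by_cases hp2 : p = 2
    · subst hp2
      refine dvd_trans ?_ (hj ⟨0, by omega⟩)
      simp only [h, dif_pos, hx₀]
      exact Nat.pow_dvd_pow _ ((hp.pow_dvd_iff_le_factorization hN0.ne').1 hb)
    · obtain ⟨b, rfl⟩ := Nat.exists_eq_add_of_le' hb0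
      obtain ⟨y, hy⟩ := hex p hp (b + 1) hb
      have hpF : (p : F) ≠ 0 := by
        let _ : Fintype F := Fintype.ofFinite F
        obtain ⟨c, hc⟩ := CharP.exists F
        have hcp : c.Prime := CharP.char_is_prime F c
        obtain ⟨e, _, he⟩ := FiniteField.card F c
        rw [← Nat.card_eq_fintype_card, hF] at he
        have hc2 : c = 2 := (Nat.prime_dvd_prime_iff_eq hcp Nat.prime_two).1
          (he ▸ dvd_pow_self c e.ne_zero)
        intro h0
        rw [CharP.cast_eq_zero_iff F c, hc2, Nat.prime_dvd_prime_iff_eq Nat.prime_two hp] at h0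
        exact hp2 h0.symm
      obtain ⟨d₀, hd1, hdn, hdvd⟩ := CfsgLib.Singer.exists_dvd_pow_sub_one hp hpF hy
      rw [hF] at hdvd
      -- move `d₀` into `(n/2, n]`
      set d := d₀ * (n / d₀)
      have h1 : d ≤ n := Nat.mul_div_le n d₀
      have h2 : n < d + d₀ := by
        have := Nat.lt_div_mul_add (a := n) (b := d₀) hd1
        simp only [d, Nat.mul_comm d₀]; omega
      have h3 : d₀ ≤ d :=
        Nat.le_mul_of_pos_right _ (Nat.div_pos hdn hd1)
      refine dvd_trans ?_ (hj ⟨d - n / 2, by omega⟩)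
      simp only [h]
      rw [dif_neg (by omega), hx]
      refine Nat.dvd_gcd hb (hdvd.trans ?_)
      have : n / 2 + (d - n / 2) = d := by omega
      rw [this]
      exact Nat.pow_sub_one_dvd_pow_sub_one 2 (dvd_mul_right d₀ _)

/-- Let F be the field with two elements, n ≥ 2, L = PSL(n, F) and k₀ = ⌊(n + 3)/2⌋. Then for every k ≥ k₀ the direct product of k copies of L has the same set of element orders as the direct product of k₀ copies of L. -/
theorem result {F : Type*} [Field F] [Fintype F] (hF : Fintype.card F = 2) (n k : ℕ) (hn : 2 ≤ n) (hk : (n + 3) / 2 ≤ k) :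
    Set.range (orderOf : (Fin k → Matrix.ProjectiveSpecialLinearGroup (Fin n) F) → ℕ) = Set.range (orderOf : (Fin ((n + 3) / 2) → Matrix.ProjectiveSpecialLinearGroup (Fin n) F) → ℕ) := by
  have hFn : Nat.card F = 2 := by rw [Nat.card_eq_fintype_card, hF]
  have hunit : ∀ u : Fˣ, u = 1 := fun u => by
    have : Nat.card Fˣ = 1 := by rw [Nat.card_units, hFn]
    exact (Nat.card_eq_one_iff_unique.1 this).1.elim u 1
  -- `SL = GL` and the centre is trivial
  let ψ : GL (Fin n) F →* Matrix.SpecialLinearGroup (Fin n) F :=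
    { toFun := fun g => ⟨(g : Matrix (Fin n) (Fin n) F), by
        have := congrArg Units.val (hunit (Matrix.GeneralLinearGroup.det g)); simpa using this⟩
      map_one' := rfl
      map_mul' := fun _ _ => rfl }
  let π := QuotientGroup.mk' (Subgroup.center (Matrix.SpecialLinearGroup (Fin n) F))
  have hb : Function.Bijective (π.comp ψ) := by
    have hψ : Function.Bijective ψ :=
      ⟨fun a b h => Units.ext (congrArg Subtype.val h),
        fun a => ⟨Matrix.SpecialLinearGroup.toGL a, rfl⟩⟩
    suffices hπ : Function.Injective π from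
      (Function.Bijective.comp (g := π) ⟨hπ, QuotientGroup.mk'_surjective _⟩ hψ : _)
    rw [← MonoidHom.ker_eq_bot_iff, QuotientGroup.ker_mk', Subgroup.eq_bot_iff_forall]
    intro x hx
    obtain ⟨r, hr, hrx⟩ := Matrix.SpecialLinearGroup.mem_center_iff.1 hx
    have hne : r ≠ 0 := by
      rintro rfl; simp [zero_pow (show n ≠ 0 by omega)] at hr
    have : r = 1 := by simpa using congrArg Units.val (hunit (Units.mk0 r hne))
    subst this
    exact Subtype.ext (by simpa using hrx.symm)
  let e := MulEquiv.ofBijective (π.comp ψ) hb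
  refine range_pi _ k hk fun f => ?_
  obtain ⟨h, hh⟩ := exists_tuple hFn (by omega : 1 ≤ n) (fun i => e.symm (f i))
  refine ⟨fun j => e (h j), ?_⟩
  calc orderOf (fun j => e (h j)) = orderOf h :=
        MulEquiv.orderOf_eq (MulEquiv.piCongrRight fun _ => e) h
    _ = orderOf (fun i => e.symm (f i)) := hh
    _ = orderOf f := MulEquiv.orderOf_eq (MulEquiv.piCongrRight fun _ => e.symm) f

end Cfsg.Agent.S2513
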