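import Cfsg.Statements.S2514
import Mathlib

set_option autoImplicit false
set_option linter.style.haveILetI false
open Cfsg

namespace Cfsg.Agent.S2514

theorem exists_order {T : Type*} [Group T] [Finite T] (g : T) (n : ℕ) (hn : n ∣ orderOf g) :
    ∃ g' : T, orderOf g' = n :=
  ⟨g ^ (orderOf g / n), orderOf_pow_orderOf_div (orderOf_pos g).ne' hn⟩

theorem exists_max {T : Type*} [Group T] [Finite T] (g : T) : ∃ m : ℕ,
    (m ∈ Set.range (orderOf : T → ℕ) ∧ ∀ m' ∈ Set.range (orderOf : T → ℕ), m ∣ m' → m' = m) ∧ orderOf g ∣ m := by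
  classical
  haveI := Fintype.ofFinite T
  obtain ⟨y, hy, hm⟩ := (Finset.univ.filter fun y : T => orderOf g ∣ orderOf y).exists_max_image orderOf
    ⟨g, by simp⟩
  simp only [Finset.mem_filter, Finset.mem_univ, true_and] at hy hm
  refine ⟨orderOf y, ⟨⟨y, rfl⟩, ?_⟩, hy⟩
  rintro _ ⟨y', rfl⟩ hd
  exact le_antisymm (hm y' (hy.trans hd)) (Nat.le_of_dvd (orderOf_pos y') hd)


/-- For a finite group X write μ(X) for the set of element orders of X that are maximal under divisibility. Let G and H be finite groups and k ≥ 1 such that μ(H) ⊆ μ(G) and μ(G) has fewer than k elements outside μ(H). Then the direct product of k copies of G has the same set of element orders as the direct product of k − 1 copies of G with H. -/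
theorem result {G H : Type*} [Group G] [Finite G] [Group H] [Finite H] (k : ℕ) (hk : 1 ≤ k)
    (hsub : {n : ℕ | n ∈ Set.range (orderOf : H → ℕ) ∧ ∀ m ∈ Set.range (orderOf : H → ℕ), n ∣ m → m = n} ⊆ {n : ℕ | n ∈ Set.range (orderOf : G → ℕ) ∧ ∀ m ∈ Set.range (orderOf : G → ℕ), n ∣ m → m = n})
    (hfew : ({n : ℕ | n ∈ Set.range (orderOf : G → ℕ) ∧ ∀ m ∈ Set.range (orderOf : G → ℕ), n ∣ m → m = n} \ {n : ℕ | n ∈ Set.range (orderOf : H → ℕ) ∧ ∀ m ∈ Set.range (orderOf : H → ℕ), n ∣ m → m = n}).ncard < k) :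
    Set.range (orderOf : (Fin k → G) → ℕ) = Set.range (orderOf : (Fin (k - 1) → G) × H → ℕ) := by
  classical
  obtain ⟨k, rfl⟩ : ∃ j, k = j + 1 := ⟨k - 1, by omega⟩
  have hpi : ∀ {ι : Type} [Finite ι] (x : ι → G) (n : ℕ), orderOf x ∣ n ↔ ∀ i, orderOf (x i) ∣ n := by
    intro ι _ x n
    simp only [orderOf_dvd_iff_pow_eq_one, funext_iff, Pi.pow_apply, Pi.one_apply]
  show _ = Set.range (orderOf : (Fin k → G) × H → ℕ)
  ext n
  constructor
  · rintro ⟨x, rfl⟩
    choose m hm hxm using fun i => exists_max (x i)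
    by_cases hex : ∃ i, m i ∈ Set.range (orderOf : H → ℕ) ∧ ∀ m' ∈ Set.range (orderOf : H → ℕ), m i ∣ m' → m' = m i
    · obtain ⟨i, ⟨y, hy⟩, -⟩ := hex
      obtain ⟨h, hh⟩ := exists_order y (orderOf (x i)) (hy ▸ hxm i)
      refine ⟨(fun j => x (i.succAbove j), h), ?_⟩
      rw [Prod.orderOf]
      refine Nat.dvd_antisymm (Nat.lcm_dvd ?_ ?_) ((hpi x _).mpr fun j => ?_)
      · exact (hpi _ _).mpr fun j => (hpi x _).mp dvd_rfl _
      · rw [hh]; exact (hpi x _).mp dvd_rfl i
      · rcases eq_or_ne j i with rfl | hji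
        · rw [← hh]; exact Nat.dvd_lcm_right _ _
        · obtain ⟨j', rfl⟩ := Fin.exists_succAbove_eq hji
          exact ((hpi _ _).mp (dvd_rfl) j').trans (Nat.dvd_lcm_left _ _)
    · push Not at hex
      -- two coordinates below the same missing maximal order
      obtain ⟨i, j, hij, hmij⟩ : ∃ i j, i ≠ j ∧ m i = m j := by
        by_contra hcon
        push Not at hcon
        have hinj : Function.Injective m := fun i j e => by
          by_contra hne
          exact hcon i j hne e
        have hsub : Set.range m ⊆ {n : ℕ | n ∈ Set.range (orderOf : G → ℕ) ∧ ∀ m ∈ Set.range (orderOf : G → ℕ), n ∣ m → m = n} \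
            {n : ℕ | n ∈ Set.range (orderOf : H → ℕ) ∧ ∀ m ∈ Set.range (orderOf : H → ℕ), n ∣ m → m = n} := by
          rintro _ ⟨i, rfl⟩
          refine ⟨hm i, fun hH => ?_⟩
          obtain ⟨m', h1, h2, h3⟩ := hex i hH.1
          exact h3 (hH.2 m' h1 h2)
        have hfin : ({n : ℕ | n ∈ Set.range (orderOf : G → ℕ) ∧ ∀ m ∈ Set.range (orderOf : G → ℕ), n ∣ m → m = n}).Finite :=
          (Set.finite_range _).subset fun n hn => hn.1
        have := Set.ncard_le_ncard hsub (hfin.subset Set.sdiff_subset)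
        rw [Set.ncard_range_of_injective hinj, Nat.card_fin] at this
        omega
      obtain ⟨y, hy⟩ := (hm i).1
      obtain ⟨g, hg⟩ := exists_order y (Nat.lcm (orderOf (x i)) (orderOf (x j)))
        (hy ▸ Nat.lcm_dvd (hxm i) (hmij ▸ hxm j))
      obtain ⟨j', hj'⟩ := Fin.exists_succAbove_eq (Ne.symm hij)
      refine ⟨(fun l => if l = j' then g else x (i.succAbove l), 1), ?_⟩
      rw [Prod.orderOf, orderOf_one, Nat.lcm_one_right]
      refine Nat.dvd_antisymm ((hpi _ _).mpr fun l => ?_) ((hpi x _).mpr fun l => ?_)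
      · show orderOf (if l = j' then g else x (i.succAbove l)) ∣ _
        split_ifs
        · rw [hg]; exact Nat.lcm_dvd ((hpi x _).mp dvd_rfl i) ((hpi x _).mp dvd_rfl j)
        · exact (hpi x _).mp dvd_rfl _
      · have hgd : orderOf g ∣ orderOf (fun l => if l = j' then g else x (i.succAbove l)) := by
          have := (hpi (fun l => if l = j' then g else x (i.succAbove l)) _).mp dvd_rfl j'
          simpa using this
        rcases eq_or_ne l i with rfl | hli
        · exact (Nat.dvd_lcm_left _ _).trans (hg ▸ hgd)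
        rcases eq_or_ne l j with rfl | hlj
        · exact (Nat.dvd_lcm_right _ _).trans (hg ▸ hgd)
        obtain ⟨l', rfl⟩ := Fin.exists_succAbove_eq hli
        have := (hpi (fun l => if l = j' then g else x (i.succAbove l)) _).mp dvd_rfl l'
        rwa [if_neg (fun e => hlj (by rw [e, hj']))] at this
  · rintro ⟨⟨x, h⟩, rfl⟩
    obtain ⟨m, hm, hd⟩ := exists_max h
    obtain ⟨⟨y, hy⟩, -⟩ := hsub hm
    obtain ⟨g, hg⟩ := exists_order y (orderOf h) (hy ▸ hd)
    refine ⟨Fin.snoc x g, ?_⟩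
    rw [Prod.orderOf]
    refine Nat.dvd_antisymm ((hpi _ _).mpr fun l => ?_) (Nat.lcm_dvd ((hpi x _).mpr fun l => ?_) ?_)
    · refine Fin.lastCases ?_ (fun l' => ?_) l
      · rw [Fin.snoc_last, hg]; exact Nat.dvd_lcm_right _ _
      · rw [Fin.snoc_castSucc]; exact ((hpi x _).mp dvd_rfl l').trans (Nat.dvd_lcm_left _ _)
    · have := (hpi (Fin.snoc x g : Fin (k + 1) → G) _).mp dvd_rfl l.castSucc
      rwa [Fin.snoc_castSucc] at this
    · have := (hpi (Fin.snoc x g : Fin (k + 1) → G) _).mp dvd_rfl (Fin.last k)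
      rwa [Fin.snoc_last, hg] at this

end Cfsg.Agent.S2514
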