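import Cfsg.Statements.S2515
import Cfsg.Agent.Lib.SL2.TwistTensor

set_option autoImplicit false
open Cfsg

namespace Cfsg.Agent.S2515

/-- Let q = 3^α with α ≥ 3 odd. There is a finite group H having a non-trivial normal 3-subgroup and whose element orders maximal under divisibility are exactly 6, 9, q − 1 and (q + 1)/2. -/
theorem result (α : ℕ) (hα : 3 ≤ α) (hodd : Odd α) :
    ∃ (H : Type) (_ : Group H) (_ : Fintype H), (∃ P : Subgroup H, P.Normal ∧ P ≠ ⊥ ∧ IsPGroup 3 ↥P) ∧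
      {n : ℕ | n ∈ Set.range (orderOf : H → ℕ) ∧ ∀ m ∈ Set.range (orderOf : H → ℕ), n ∣ m → m = n} = ({6, 9, 3 ^ α - 1, (3 ^ α + 1) / 2} : Set ℕ) := by
  classical
  haveI : Fact (Nat.Prime 3) := ⟨Nat.prime_three⟩
  haveI : Finite (GaloisField 3 α) := Nat.finite_of_card_ne_zero (by
    rw [GaloisField.card 3 α (by omega)]; positivity)
  let H := CfsgLib.SL2.Twist.Grp (GaloisField 3 α)
  haveI : Finite H := Finite.of_equiv _ SemidirectProduct.equivProd.symm
  have hc : Nat.card (GaloisField 3 α) = 3 ^ α := GaloisField.card 3 α (by omega)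
  have h27 : 27 ≤ 3 ^ α := by
    calc 27 = 3 ^ 3 := by norm_num
      _ ≤ 3 ^ α := Nat.pow_le_pow_right (by norm_num) hα
  have h8 : 3 ^ α % 8 = 3 := by
    obtain ⟨k, rfl⟩ := hodd
    rw [pow_succ, pow_mul, Nat.mul_mod, Nat.pow_mod]
    norm_num
  have h3 : 3 ^ α % 3 = 0 := Nat.mod_eq_zero_of_dvd (dvd_pow_self 3 (by omega))
  set q := 3 ^ α with hq
  refine ⟨H, inferInstance, Fintype.ofFinite H, ?_, ?_⟩
  · refine ⟨(SemidirectProduct.inl : _ →* H).range, ?_, ?_, fun g => ?_⟩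
    · rw [SemidirectProduct.range_inl_eq_ker_rightHom]
      infer_instance
    · intro h
      have h1 : (SemidirectProduct.inl (Multiplicative.ofAdd (1 : Matrix (Fin 2) (Fin 2) (GaloisField 3 α))) : H) ∈
          (SemidirectProduct.inl : _ →* H).range := ⟨_, rfl⟩
      rw [h, Subgroup.mem_bot, ← map_one (SemidirectProduct.inl : _ →* H),
        SemidirectProduct.inl_inj] at h1
      exact one_ne_zero (Multiplicative.ofAdd.injective h1)
    · obtain ⟨v, hv⟩ := g.2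
      refine ⟨1, Subtype.ext ?_⟩
      show (g : H) ^ 3 ^ 1 = 1
      rw [pow_one, ← hv, ← map_pow, CfsgLib.SL2.Twist.cube_eq_one, map_one]
  -- the four orders occur
  have hgcd : Nat.gcd 2 (q - 1) = 2 := Nat.gcd_eq_left (by omega)
  have hspec := CfsgLib.SL2.spectrum_PSL (F := GaloisField 3 α) 3 (by rw [hc]; omega)
  rw [hc, hgcd] at hspec
  obtain ⟨a, ha⟩ : ∃ a : Matrix.ProjectiveSpecialLinearGroup (Fin 2) (GaloisField 3 α), orderOf a = 3 :=
    hspec.ge (Or.inl dvd_rfl)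
  obtain ⟨b, hb⟩ : ∃ b : Matrix.ProjectiveSpecialLinearGroup (Fin 2) (GaloisField 3 α), orderOf b = (q - 1) / 2 :=
    hspec.ge (Or.inr (Or.inl dvd_rfl))
  obtain ⟨c, hc'⟩ : ∃ c : Matrix.ProjectiveSpecialLinearGroup (Fin 2) (GaloisField 3 α), orderOf c = (q + 1) / 2 :=
    hspec.ge (Or.inr (Or.inr dvd_rfl))
  let z : Multiplicative (ZMod 2) := Multiplicative.ofAdd 1
  have hz : orderOf z = 2 := orderOf_eq_prime (by decide) (by decide)
  have o6 : 6 ∈ Set.range (orderOf : H → ℕ) :=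
    ⟨SemidirectProduct.inr (a, z), by rw [CfsgLib.SL2.Twist.orderOf_inr, ha, hz]; rfl⟩
  have o9 : 9 ∈ Set.range (orderOf : H → ℕ) := CfsgLib.SL2.Twist.exists_nine
  have oq : q - 1 ∈ Set.range (orderOf : H → ℕ) := by
    refine ⟨SemidirectProduct.inr (b, z), ?_⟩
    rw [CfsgLib.SL2.Twist.orderOf_inr, hb, hz, Nat.Coprime.lcm_eq_mul]
    · omega
    · rw [Nat.coprime_two_right, Nat.odd_iff]
      omega
  have oq' : (q + 1) / 2 ∈ Set.range (orderOf : H → ℕ) :=
    ⟨SemidirectProduct.inr (c, 1), by rw [CfsgLib.SL2.Twist.orderOf_inr, hc', orderOf_one, Nat.lcm_one_right]⟩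
  have hmem : ∀ n ∈ ({6, 9, q - 1, (q + 1) / 2} : Set ℕ), n ∈ Set.range (orderOf : H → ℕ) := by
    rintro n (rfl | rfl | rfl | rfl) <;> assumption
  have hcover : ∀ m ∈ Set.range (orderOf : H → ℕ), ∃ k ∈ ({6, 9, q - 1, (q + 1) / 2} : Set ℕ), m ∣ k := by
    rintro m ⟨x, rfl⟩
    have := CfsgLib.SL2.Twist.orderOf_cases (by rw [hc]; exact h8) x
    rw [hc] at this
    rcases this with h | h | h | h
    · exact ⟨6, Or.inl rfl, h⟩
    · exact ⟨9, Or.inr (Or.inl rfl), h⟩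
    · exact ⟨_, Or.inr (Or.inr (Or.inl rfl)), h⟩
    · exact ⟨_, Or.inr (Or.inr (Or.inr rfl)), h⟩
  have hanti : ∀ n ∈ ({6, 9, q - 1, (q + 1) / 2} : Set ℕ), ∀ k ∈ ({6, 9, q - 1, (q + 1) / 2} : Set ℕ),
      n ∣ k → n = k := by
    intro n hn k hk hdvd
    have hkey : ¬ (q + 1) / 2 ∣ q - 1 := by
      rintro ⟨d, hd⟩
      rcases d with _ | _ | d
      · omega
      · omega
      · rw [Nat.mul_add, Nat.mul_add, mul_one] at hd
        omega
    rcases hn with rfl | rfl | rfl | rfl <;> rcases hk with rfl | rfl | rfl | rfl <;>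
      first
      | rfl
      | exact absurd hdvd hkey
      | (exfalso; omega)
      | (exfalso; have := Nat.le_of_dvd (by omega) hdvd; omega)
  ext n
  constructor
  · rintro ⟨hn, hmax⟩
    obtain ⟨k, hk, hdvd⟩ := hcover n hn
    exact (hmax k (hmem k hk) hdvd) ▸ hk
  · intro hn
    refine ⟨hmem n hn, fun m hm hdvd => ?_⟩
    obtain ⟨k, hk, hmk⟩ := hcover m hm
    exact Nat.dvd_antisymm (hanti n hn k hk (hdvd.trans hmk) ▸ hmk) hdvd

end Cfsg.Agent.S2515
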