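import Cfsg.Statements.S2516
-- import your own Cfsg.Agent.* helpers here

set_option autoImplicit false
open Cfsg

namespace Cfsg.Agent.S2516

/-- Let F be a field of characteristic p > 0, V a non-zero finite-dimensional F-vector space, G a finite group and ρ a representation of G on V; form the semidirect product V ⋊ G. For g ∈ G of order k, the coset Vg contains an element of order pk if and only if the minimal polynomial of ρ(g) does not divide 1 + X + ⋯ + X^(k−1). -/
theorem result {F : Type*} [Field F] (p : ℕ) [Fact p.Prime] [CharP F p] {V : Type*} [AddCommGroup V] [Module F V] [FiniteDimensional F V] [Nontrivial V]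
    {G : Type*} [Group G] [Finite G] (ρ : Representation F G V) (g : G) :
    (∃ x : Multiplicative V ⋊[(MulAutMultiplicative V).symm.toMonoidHom.comp
        ((DistribMulAction.toAddAut ((V →ₗ[F] V)ˣ) V).comp ρ.asGroupHom)] G,
        x.right = g ∧ orderOf x = p * orderOf g) ↔
      ¬ (minpoly F (ρ g) ∣ ∑ i ∈ Finset.range (orderOf g), (Polynomial.X : Polynomial F) ^ i) := by
  classical
  let f : Polynomial F := ∑ i ∈ Finset.range (orderOf g), (Polynomial.X : Polynomial F) ^ i
  have hn : 0 < orderOf g := orderOf_pos g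
  have key : ∀ x : Multiplicative V ⋊[(MulAutMultiplicative V).symm.toMonoidHom.comp
      ((DistribMulAction.toAddAut ((V →ₗ[F] V)ˣ) V).comp ρ.asGroupHom)] G, x.right = g →
      ∀ k, x ^ k = ⟨Multiplicative.ofAdd (∑ i ∈ Finset.range k, ρ (g ^ i) x.left.toAdd), g ^ k⟩ := by
    intro x hx k
    induction k with
    | zero =>
      rw [pow_zero, Finset.sum_range_zero, ofAdd_zero, pow_zero]
      rfl
    | succ k ih =>
      rw [pow_succ, ih]
      refine SemidirectProduct.ext ?_ ?_
      · show Multiplicative.ofAdd _ * Multiplicative.ofAdd (ρ (g ^ k) x.left.toAdd) = _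
        rw [Finset.sum_range_succ, ofAdd_add]
      · rw [SemidirectProduct.mul_right, hx, pow_succ]
  have hS : ∀ v : V, ∑ i ∈ Finset.range (orderOf g), ρ (g ^ i) v = Polynomial.aeval (ρ g) f v := by
    intro v
    simp only [f, map_sum, map_pow, Polynomial.aeval_X, LinearMap.coe_sum, Finset.sum_apply]
  constructor
  · rintro ⟨x, hx, ho⟩ hdvd
    have h0 : Polynomial.aeval (ρ g) f = 0 := minpoly.dvd_iff.1 hdvd
    have h1 : x ^ orderOf g = 1 := by
      rw [key x hx, hS, h0, pow_orderOf_eq_one]
      ext <;> simp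
    have := Nat.le_of_dvd hn (orderOf_dvd_of_pow_eq_one h1)
    rw [ho] at this
    nlinarith [(Fact.out : p.Prime).two_le]
  · intro hdvd
    have h0 : Polynomial.aeval (ρ g) f ≠ 0 := fun e => hdvd (minpoly.dvd_iff.2 e)
    obtain ⟨v, hv⟩ : ∃ v, Polynomial.aeval (ρ g) f v ≠ 0 := by
      by_contra hc
      push Not at hc
      exact h0 (LinearMap.ext hc)
    refine ⟨⟨Multiplicative.ofAdd v, g⟩, rfl, ?_⟩
    set x : Multiplicative V ⋊[(MulAutMultiplicative V).symm.toMonoidHom.comp
      ((DistribMulAction.toAddAut ((V →ₗ[F] V)ˣ) V).comp ρ.asGroupHom)] G := ⟨Multiplicative.ofAdd v, g⟩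
    have h1 : x ^ orderOf g ≠ 1 := by
      rw [key x rfl, pow_orderOf_eq_one]
      intro e
      apply hv
      rw [← hS]
      exact congrArg (fun y => Multiplicative.toAdd y.left) e
    have h2 : (x ^ orderOf g) ^ p = 1 := by
      have e : x ^ orderOf g = SemidirectProduct.inl (Multiplicative.ofAdd
          (∑ i ∈ Finset.range (orderOf g), ρ (g ^ i) v)) := by
        rw [key x rfl, pow_orderOf_eq_one]; rfl
      rw [e, ← map_pow, ← ofAdd_nsmul, ← Nat.cast_smul_eq_nsmul F, CharP.cast_eq_zero, zero_smul,
        ofAdd_zero, map_one]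
    have h3 : orderOf g ∣ orderOf x := by
      have := orderOf_map_dvd SemidirectProduct.rightHom x
      exact this
    have hx : x ^ (orderOf g * p) = 1 := by rw [pow_mul, h2]
    obtain ⟨c, hc⟩ := h3
    have h4 : c ∣ p := Nat.dvd_of_mul_dvd_mul_left hn (hc ▸ orderOf_dvd_of_pow_eq_one hx)
    rcases (Nat.dvd_prime Fact.out).1 h4 with rfl | rfl
    · exact absurd (by rw [← (hc.trans (mul_one _))]; exact pow_orderOf_eq_one x) h1
    · rw [hc, mul_comm]

end Cfsg.Agent.S2516
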