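import Cfsg.Statements.S2517
import Cfsg.Agent.Lib.Spectrum.OmegaNine.Reduce
import Cfsg.Agent.Lib.Spectrum.OmegaNine.Semidirect
import Cfsg.Agent.Lib.PrimeGraphOdd.OrthTools

set_option autoImplicit false
open Cfsg

namespace Cfsg.Agent.S2517

/-- Let F be a finite field of odd order q, let Ω₉ be the simple orthogonal group PΩ(9, F), and let Ω₈⁻ be the commutator subgroup of the isometry group of a minus-type non-singular quadratic form on V = F⁸ (the simple group PΩ⁻(8, F), acting on its natural module V). Then Ω₉ and the semidirect product V ⋊ Ω₈⁻ have exactly the same set of element orders. -/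
theorem result {F : Type*} [Field F] [Fintype F] (hF : Odd (Fintype.card F)) (a b : F)
    (hab : ∀ z₁ z₂ : F, z₁ ^ 2 + a * z₁ * z₂ + b * z₂ ^ 2 = 0 → z₁ = 0 ∧ z₂ = 0) :
    Set.range (orderOf : Cfsg.POmega F (Cfsg.quadFormOdd 4 F) → ℕ) =
      Set.range (orderOf :
        (Multiplicative (((Fin 3 ⊕ Fin 3) ⊕ Fin 2) → F)) ⋊[
          (MulAutMultiplicative (((Fin 3 ⊕ Fin 3) ⊕ Fin 2) → F)).symm.toMonoidHom.comp
           ((DistribMulAction.toAddAut (LinearMap.GeneralLinearGroup F (((Fin 3 ⊕ Fin 3) ⊕ Fin 2) → F))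
              (((Fin 3 ⊕ Fin 3) ⊕ Fin 2) → F)).comp
            (Matrix.GeneralLinearGroup.toLin.toMonoidHom.comp
              ((Cfsg.isometryGroup F (Cfsg.quadFormMinus 3 F a b)).subtype.comp
                (Cfsg.Omega F (Cfsg.quadFormMinus 3 F a b)).subtype)))]
          ↥(Cfsg.Omega F (Cfsg.quadFormMinus 3 F a b)) → ℕ) := by
  obtain ⟨p, hpc⟩ := CharP.exists F
  haveI : Fact p.Prime := ⟨CharP.char_is_prime F p⟩
  have h2 : (2 : F) ≠ 0 := fun e => by
    have h := FiniteField.cast_card_eq_zero F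
    obtain ⟨c, hc⟩ := hF
    rw [hc, Nat.cast_add, Nat.cast_mul, Nat.cast_ofNat, e, zero_mul, zero_add, Nat.cast_one] at h
    exact one_ne_zero h
  obtain ⟨Q, hQ, hB⟩ := CfsgLib.Orth.exists_quadForm_odd (F := F) h2 4
  obtain ⟨Q₈, hQ₈, hB₈⟩ := CfsgLib.Orth.exists_quadForm_minus (F := F) 3 hab
  have hR : CfsgLib.Orth.Nondeg (CfsgLib.Spectrum.OmegaNine.lineForm (1 : F)) :=
    CfsgLib.Spectrum.OmegaNine.lineForm_nondeg h2 one_ne_zero
  obtain ⟨l, hl, Φ, hΦ⟩ := CfsgLib.Classical.OrthModels.classify_odd _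
    (CfsgLib.Orth.bilin_nondeg (CfsgLib.Orth.osum_nondeg hB₈ hR)) (m := 4) (by simp)
  have hΦ' : ∀ x, Q (Φ x) = l⁻¹ * CfsgLib.Orth.osum Q₈ (CfsgLib.Spectrum.OmegaNine.lineForm 1) x := fun x => by
    rw [hQ, ← hΦ x, inv_mul_cancel_left₀ hl]
  obtain ⟨w, hw, e, hinj, hwe, hext⟩ :=
    CfsgLib.Spectrum.OmegaNine.exists_good hB hB₈ h2 (inv_ne_zero hl) Φ hΦ'
  rw [← hQ₈, ← hQ]
  ext n
  rw [CfsgLib.PrimeGraphOdd.mem_range_iff hB h2 (by norm_num) n]
  constructor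
  · rintro ⟨g, hg, rfl⟩
    exact CfsgLib.Spectrum.OmegaNine.range_of_spec (p := p) (fun _ _ => rfl)
      (CfsgLib.Spectrum.OmegaNine.spec_of_omega (p := p) hF h2 hab hB hQ₈ hB₈ hw hg)
  · intro hn
    obtain ⟨k, hk, hkn⟩ :=
      (CfsgLib.Spectrum.OmegaNine.mem_range_semidirect (p := p) (fun _ _ => rfl) n).1 hn
    obtain ⟨h, hh, hfix, ho, hi⟩ := hext k hk
    rcases hkn with rfl | ⟨⟨v, hv⟩, rfl⟩
    · exact ⟨h, hh, ho⟩
    · rw [← ho]
      refine CfsgLib.Spectrum.OmegaNine.exists_times_p (p := p) hB h2 (by simp; decide) (by simp) hh hfix hw.1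
        (hwe v) ?_
      rw [Finset.sum_congr rfl fun i _ => (hi i v).symm, ← map_sum, ho]
      exact fun e0 => hv ((map_eq_zero_iff e hinj).1 e0)

end Cfsg.Agent.S2517
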