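import Cfsg.Statements.S2518
import Cfsg.Agent.Lib.Chev.GTwoThree.Graph
import Cfsg.Agent.Lib.Chev.GTwoThree.PSLThirteen

set_option autoImplicit false
open Cfsg

namespace Cfsg.Agent.S2518

/-- Let F₃ be the field with 3 elements and F₁₃ the field with 13 elements. The Chevalley group G₂(F₃) and PSL(2, F₁₃) have the same prime graph: the same prime divisors of their orders, and for distinct primes r, s an element of order rs in one iff in the other. -/
theorem result {F : Type*} [Field F] [Fintype F] (hF : Fintype.card F = 3) {E : Type*} [Field E] [Fintype E] (hE : Fintype.card E = 13) :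
    ((∀ r : ℕ, r.Prime → (r ∣ Nat.card ↥(Cfsg.Lie.chevG2.group F) ↔ r ∣ Nat.card (Matrix.ProjectiveSpecialLinearGroup (Fin 2) E))) ∧
      (∀ r s : ℕ, r.Prime → s.Prime → r ≠ s → ((∃ x : ↥(Cfsg.Lie.chevG2.group F), orderOf x = r * s) ↔ (∃ y : (Matrix.ProjectiveSpecialLinearGroup (Fin 2) E), orderOf y = r * s)))) := by
  classical
  have hA := CfsgLib.GTwoThree.card_three hF
  have hB := CfsgLib.GTwoThree.card_psl_thirteen hE
  obtain ⟨h6, h13, h7⟩ := CfsgLib.GTwoThree.g2_orders hF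
  obtain ⟨g6, hall⟩ := CfsgLib.GTwoThree.orders_psl_thirteen hE
  have cases4 : ∀ r : ℕ, r.Prime → ∀ n : ℕ, n = 4245696 ∨ n = 1092 → r ∣ n → r = 2 ∨ r = 3 ∨ r = 7 ∨ r = 13 := by
    intro r hr n hn hd
    rcases hn with rfl | rfl
    · have h2 : r ∣ 2 ^ 6 * 3 ^ 6 * 7 * 13 := by norm_num; exact hd
      rcases (Nat.Prime.dvd_mul hr).1 h2 with h2 | h2
      · rcases (Nat.Prime.dvd_mul hr).1 h2 with h2 | h2
        · rcases (Nat.Prime.dvd_mul hr).1 h2 with h2 | h2
          · exact Or.inl ((Nat.prime_dvd_prime_iff_eq hr Nat.prime_two).1 (hr.dvd_of_dvd_pow h2))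
          · exact Or.inr (Or.inl ((Nat.prime_dvd_prime_iff_eq hr Nat.prime_three).1 (hr.dvd_of_dvd_pow h2)))
        · exact Or.inr (Or.inr (Or.inl ((Nat.prime_dvd_prime_iff_eq hr (by norm_num)).1 h2)))
      · exact Or.inr (Or.inr (Or.inr ((Nat.prime_dvd_prime_iff_eq hr (by norm_num)).1 h2)))
    · have h2 : r ∣ 2 ^ 2 * 3 * 7 * 13 := by norm_num; exact hd
      rcases (Nat.Prime.dvd_mul hr).1 h2 with h2 | h2
      · rcases (Nat.Prime.dvd_mul hr).1 h2 with h2 | h2
        · rcases (Nat.Prime.dvd_mul hr).1 h2 with h2 | h2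
          · exact Or.inl ((Nat.prime_dvd_prime_iff_eq hr Nat.prime_two).1 (hr.dvd_of_dvd_pow h2))
          · exact Or.inr (Or.inl ((Nat.prime_dvd_prime_iff_eq hr Nat.prime_three).1 h2))
        · exact Or.inr (Or.inr (Or.inl ((Nat.prime_dvd_prime_iff_eq hr (by norm_num)).1 h2)))
      · exact Or.inr (Or.inr (Or.inr ((Nat.prime_dvd_prime_iff_eq hr (by norm_num)).1 h2)))
  refine ⟨fun r hr => ?_, fun r s hr hs hne => ?_⟩
  · rw [hA, hB]
    constructor <;> intro hd
    · rcases cases4 r hr _ (Or.inl rfl) hd with rfl | rfl | rfl | rfl <;> norm_num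
    · rcases cases4 r hr _ (Or.inr rfl) hd with rfl | rfl | rfl | rfl <;> norm_num
  · constructor
    · rintro ⟨x, hx⟩
      have hd : r * s ∣ 4245696 := hA ▸ hx ▸ orderOf_dvd_natCard x
      have hr7 : r ≠ 7 := fun e => h7 s hs (fun e' => hne (e.trans e'.symm)) ⟨x, e ▸ hx⟩
      have hr13 : r ≠ 13 := fun e => h13 s hs (fun e' => hne (e.trans e'.symm)) ⟨x, e ▸ hx⟩
      have hs7 : s ≠ 7 := fun e => h7 r hr (fun e' => hne (e'.trans e.symm)) ⟨x, by rw [hx, e, mul_comm]⟩
      have hs13 : s ≠ 13 := fun e => h13 r hr (fun e' => hne (e'.trans e.symm)) ⟨x, by rw [hx, e, mul_comm]⟩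
      have h1 := cases4 r hr _ (Or.inl rfl) (dvd_trans (dvd_mul_right r s) hd)
      have h2 := cases4 s hs _ (Or.inl rfl) (dvd_trans (dvd_mul_left s r) hd)
      obtain ⟨y, hy⟩ := g6
      exact ⟨y, by rcases h1 with rfl | rfl | rfl | rfl <;> rcases h2 with rfl | rfl | rfl | rfl <;> omega⟩
    · rintro ⟨y, hy⟩
      have hn : ∀ n : ℕ, n.Prime → r * s ≠ n := fun n hn e => (Nat.not_prime_mul hr.one_lt.ne' hs.one_lt.ne') (e ▸ hn)
      have hle : 1 < r * s := lt_of_lt_of_le hr.one_lt (Nat.le_mul_of_pos_right r hs.pos)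
      obtain ⟨x, hx⟩ := h6
      refine ⟨x, ?_⟩
      rw [hx]
      rcases hall y with h | h | h <;> rw [hy] at h
      · exact absurd h (hn 13 (by norm_num))
      · have := Nat.le_of_dvd (by norm_num) h
        have h2 := hn 2 Nat.prime_two
        have h3 := hn 3 Nat.prime_three
        interval_cases hh : r * s <;> omega
      · rcases (Nat.dvd_prime (by norm_num : Nat.Prime 7)).1 h with h' | h'
        · omega
        · exact absurd h' (hn 7 (by norm_num))

end Cfsg.Agent.S2518
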