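import Cfsg.Statements.S2519
import Cfsg.Agent.Lib.GTwoSpec.Antichain

set_option autoImplicit false
open Cfsg

namespace Cfsg.Agent.S2519

/-- Let F be a finite field of odd order q = p^a ≥ 5. The element orders of the Chevalley group G₂(F) that are maximal under divisibility are exactly p(q + 1), p(q − 1), q² − 1, q² + q + 1, q² − q + 1, together with p² when p is 3 or 5. -/
theorem result {F : Type*} [Field F] [Fintype F] (p a : ℕ) (hp : p.Prime) (hp2 : p ≠ 2) (ha : 1 ≤ a) (hF : Fintype.card F = p ^ a) (hq5 : 5 ≤ Fintype.card F) :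
    {n : ℕ | n ∈ Set.range (orderOf : ↥(Cfsg.Lie.chevG2.group F) → ℕ) ∧ ∀ m ∈ Set.range (orderOf : ↥(Cfsg.Lie.chevG2.group F) → ℕ), n ∣ m → m = n} =
      ({p * (p ^ a + 1), p * (p ^ a - 1), p ^ (2 * a) - 1, p ^ (2 * a) + p ^ a + 1, p ^ (2 * a) - p ^ a + 1} : Set ℕ) ∪
        (if p = 3 ∨ p = 5 then ({p ^ 2} : Set ℕ) else ∅) := by
  have : Fact p.Prime := ⟨hp⟩
  have : CharP F p := charP_of_card_eq_prime_pow hF
  have hq : 3 ≤ Fintype.card F := by omega
  have hq' : 5 ≤ p ^ a := hF ▸ hq5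
  have e : CfsgLib.GTwoSpec.targets p (p ^ a) =
      ({p * (p ^ a + 1), p * (p ^ a - 1), p ^ (2 * a) - 1, p ^ (2 * a) + p ^ a + 1,
        p ^ (2 * a) - p ^ a + 1} : Set ℕ) ∪ (if p = 3 ∨ p = 5 then ({p ^ 2} : Set ℕ) else ∅) := by
    rw [CfsgLib.GTwoSpec.targets, if_neg hp2, Set.union_empty, ← pow_mul, mul_comm a 2]
  have key : ∀ T ∈ CfsgLib.GTwoSpec.targets p (p ^ a), ∀ T' ∈ CfsgLib.GTwoSpec.targets p (p ^ a),
      T ∣ T' → T = T' :=
    CfsgLib.GTwoSpec.antichain hp hp2 (dvd_pow_self p (by omega)) hq'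
  rw [← e]
  have hsub := CfsgLib.GTwoSpec.targets_subset (F := F) p a ha hF hq
  ext n
  constructor
  · rintro ⟨hn, hmax⟩
    obtain ⟨T, hT, hd⟩ := CfsgLib.GTwoSpec.exists_target_dvd p a ha hF hq hn
    rw [← hmax T (hsub hT) hd]
    exact hT
  · intro hn
    refine ⟨hsub hn, fun m hm hd => ?_⟩
    obtain ⟨T, hT, hdT⟩ := CfsgLib.GTwoSpec.exists_target_dvd p a ha hF hq hm
    have := key n hn T hT (hd.trans hdT)
    exact Nat.dvd_antisymm (this ▸ hdT) hd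

end Cfsg.Agent.S2519
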