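import Cfsg.Statements.S2521
import Mathlib

set_option autoImplicit false
set_option linter.style.haveILetI false
open Cfsg

namespace Cfsg.Agent.S2521

/-- Let B be a finite group that is the semidirect product of a nilpotent normal subgroup U by an abelian subgroup T (U ∩ T = 1, UT = B), and let t ∈ T have centralizer exactly T. Then every element of the coset tU is conjugate to t in B: for each u ∈ U there is b ∈ B with b t b⁻¹ = t u. -/
theorem result {B : Type*} [Group B] [Finite B] (U T : Subgroup B) [U.Normal] (hU : Group.IsNilpotent ↥U) (hT : IsMulCommutative ↥T)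
    (hcompl : Subgroup.IsComplement' U T) (t : B) (ht : t ∈ T) (hreg : Subgroup.centralizer ({t} : Set B) = T) (u : B) (hu : u ∈ U) :
    ∃ b : B, b * t * b⁻¹ = t * u := by
  classical
  haveI := Fintype.ofFinite U
  have hmem : ∀ b : U, t⁻¹ * ((b : B) * t * (b : B)⁻¹) ∈ U := fun b => by
    have h1 := Subgroup.Normal.conj_mem (inferInstance : U.Normal) (b : B) b.2 t⁻¹
    rw [inv_inv] at h1
    simpa [mul_assoc] using mul_mem h1 (inv_mem b.2)
  have hdisj : U ⊓ T = ⊥ := disjoint_iff.mp hcompl.disjoint
  have hinj : Function.Injective fun b : U => (⟨_, hmem b⟩ : U) := by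
    intro a b h
    have h1 : (a : B) * t * (a : B)⁻¹ = (b : B) * t * (b : B)⁻¹ :=
      mul_left_cancel (congrArg Subtype.val h)
    have h2 : (b : B)⁻¹ * a ∈ U ⊓ T := by
      refine ⟨mul_mem (U.inv_mem b.2) a.2, ?_⟩
      rw [← hreg]
      refine Subgroup.mem_centralizer_singleton_iff.mpr ?_
      calc (b : B)⁻¹ * a * t = (b : B)⁻¹ * ((a : B) * t * (a : B)⁻¹) * a := by group
        _ = (b : B)⁻¹ * ((b : B) * t * (b : B)⁻¹) * a := by rw [h1]
        _ = t * ((b : B)⁻¹ * a) := by group
    rw [hdisj, Subgroup.mem_bot] at h2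
    exact Subtype.ext (inv_mul_eq_one.mp h2).symm
  obtain ⟨b, hb⟩ := Finite.surjective_of_injective hinj ⟨u, hu⟩
  exact ⟨b, by
    have h1 := congrArg (fun v : U => t * (v : B)) hb
    simpa [mul_assoc] using h1⟩

end Cfsg.Agent.S2521
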