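import Cfsg.Statements.S2522
import Cfsg.Agent.Lib.RegUnipotent.Transvection

set_option autoImplicit false
open Cfsg

namespace Cfsg.Agent.S2522

/-- Let K be a field with at least four elements (finite or infinite), n ≥ 3, and J ∈ GL(n, K) the regular unipotent matrix (ones on the diagonal and the superdiagonal, zeros elsewhere). Then every non-scalar g ∈ GL(n, K) with det g = 1 is a product of two GL(n, K)-conjugates of J. -/
theorem result {K : Type*} [Field K] (hK : 4 ≤ Cardinal.mk K) (n : ℕ) (hn : 3 ≤ n) (J g : GL (Fin n) K)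
    (hJ : ∀ i j : Fin n, (J : Matrix (Fin n) (Fin n) K) i j = if i = j then 1 else if j.val = i.val + 1 then 1 else 0)
    (hg : ¬ ∃ c : K, (g : Matrix (Fin n) (Fin n) K) = c • (1 : Matrix (Fin n) (Fin n) K))
    (hdet : (g : Matrix (Fin n) (Fin n) K).det = 1) :
    ∃ x y : GL (Fin n) K, g = (x * J * x⁻¹) * (y * J * y⁻¹) := by
  obtain ⟨m, rfl⟩ : ∃ m, n = m + 3 := ⟨n - 3, by omega⟩
  have hJ' : (J : Matrix (Fin (m + 3)) (Fin (m + 3)) K) = CfsgLib.RegUnipotent.jordan (m + 3) :=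
    Matrix.ext hJ
  obtain ⟨P, L, U, hP, hL, hU, hgP⟩ :=
    CfsgLib.RegUnipotent.exists_factor hK (g : Matrix (Fin (m + 3)) (Fin (m + 3)) K) hdet
      (fun l hl => hg ⟨l, hl⟩)
  obtain ⟨a, ha, hLa⟩ := CfsgLib.RegUnipotent.exists_conj hL
  obtain ⟨b, hb, hUb⟩ := CfsgLib.RegUnipotent.upperReg_conj_jordan hU
  let P' : GL (Fin (m + 3)) K := Matrix.GeneralLinearGroup.mkOfDetNeZero P hP
  let a' : GL (Fin (m + 3)) K := Matrix.GeneralLinearGroup.mkOfDetNeZero a ha
  let b' : GL (Fin (m + 3)) K := Matrix.GeneralLinearGroup.mkOfDetNeZero b hb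
  have eL : ((a' * J * a'⁻¹ : GL (Fin (m + 3)) K) : Matrix (Fin (m + 3)) (Fin (m + 3)) K) = L := by
    rw [Units.val_mul, Units.val_mul, hJ', show (a' : Matrix (Fin (m + 3)) (Fin (m + 3)) K) = a from rfl,
      ← hLa, mul_assoc]
    exact (congrArg (L * ·) a'.mul_inv).trans (mul_one L)
  have eU : ((b' * J * b'⁻¹ : GL (Fin (m + 3)) K) : Matrix (Fin (m + 3)) (Fin (m + 3)) K) = U := by
    rw [Units.val_mul, Units.val_mul, hJ', show (b' : Matrix (Fin (m + 3)) (Fin (m + 3)) K) = b from rfl,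
      ← hUb, mul_assoc]
    exact (congrArg (U * ·) b'.mul_inv).trans (mul_one U)
  refine ⟨P' * a', P' * b', ?_⟩
  have e : g * P' = P' * ((a' * J * a'⁻¹) * (b' * J * b'⁻¹)) := by
    apply Units.ext
    rw [Units.val_mul, Units.val_mul, Units.val_mul _ (b' * J * b'⁻¹), eL, eU]
    exact hgP
  calc g = g * P' * P'⁻¹ := (mul_inv_cancel_right g P').symm
    _ = _ := by rw [e]; group

end Cfsg.Agent.S2522
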