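import Cfsg.Statements.S2525
import Cfsg.Agent.Lib.Chev.F4Graph.Cases
import Cfsg.Agent.Lib.Chev.F4Graph.Levi
-- import your own Cfsg.Agent.* helpers here

set_option autoImplicit false
open Cfsg

namespace Cfsg.Agent.S2525

open Cfsg.Lie CfsgLib.Chev CfsgLib.Chev.F4Graph

/-- The possible orders of the field cardinality modulo a prime dividing the group order. -/
theorem order_cases {F : Type*} [Field F] [Fintype F] {n : ℕ} (hn : 1 ≤ n)
    (hF : Fintype.card F = 2 ^ n) {r : ℕ} (hr : r.Prime)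
    (hrG : r ∣ Nat.card ↥(chevF4.group F)) :
    (r = 2 ↔ orderOf (Fintype.card F : ZMod r) = 0) ∧
      orderOf (Fintype.card F : ZMod r) ∈ ({0, 1, 2, 3, 4, 6, 8, 12} : Finset ℕ) := by
  have : Fact r.Prime := ⟨hr⟩
  by_cases h2 : r = 2
  · subst h2
    have h0 : orderOf (Fintype.card F : ZMod 2) = 0 := by
      rw [show (Fintype.card F : ZMod 2) = 0 by
        rw [ZMod.natCast_eq_zero_iff, hF]; exact dvd_pow_self 2 (by omega)]
      exact orderOf_eq_zero_iff'.2 fun k hk => by simp [hk.ne']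
    simp [h0]
  · set q := Fintype.card F with hq
    have hrq : ¬ r ∣ q := fun h => h2
      ((Nat.prime_dvd_prime_iff_eq hr Nat.prime_two).1 (hr.dvd_of_dvd_pow (hF ▸ h)))
    have hq0 : (q : ZMod r) ≠ 0 := fun h => hrq ((ZMod.natCast_eq_zero_iff _ _).1 h)
    have hpos : 0 < orderOf (q : ZMod r) :=
      Nat.pos_of_dvd_of_pos (ZMod.orderOf_dvd_card_sub_one hq0) (by have := hr.two_le; omega)
    have hd : ∀ d, r ∣ q ^ d - 1 → orderOf (q : ZMod r) ∣ d := fun d hd => by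
      rw [orderOf_dvd_iff_pow_eq_one]
      rwa [← ZMod.natCast_eq_zero_iff, Nat.cast_sub (Nat.one_le_pow _ _ Fintype.card_pos),
        Nat.cast_pow, Nat.cast_one, sub_eq_zero] at hd
    have hor : orderOf (q : ZMod r) ∣ 8 ∨ orderOf (q : ZMod r) ∣ 12 := by
      rw [card_groupF4, ← hq] at hrG
      simp only [hr.dvd_mul] at hrG
      rcases hrG with h | (((h | h) | h) | h)
      · exact absurd (hr.dvd_of_dvd_pow h) hrq
      · exact Or.inr ((hd _ h).trans (by norm_num))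
      · exact Or.inr ((hd _ h).trans (by norm_num))
      · exact Or.inl (hd _ h)
      · exact Or.inr (hd _ h)
    refine ⟨iff_of_false h2 hpos.ne', ?_⟩
    rcases hor with h | h <;>
      have hle := Nat.le_of_dvd (by norm_num) h <;>
      interval_cases orderOf (q : ZMod r) <;> simp_all

/-- The table of adjacencies. -/
def Apart (k l : ℕ) : Prop :=
  ((k = 8 ∨ k = 12) ∧ l ≠ k) ∨ ((l = 8 ∨ l = 12) ∧ k ≠ l) ∨
    ((k = 3 ∧ l = 4) ∨ (k = 3 ∧ l = 6) ∨ (k = 4 ∧ l = 6)) ∨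
    ((l = 3 ∧ k = 4) ∨ (l = 3 ∧ k = 6) ∨ (l = 4 ∧ k = 6))

theorem apart_table : ∀ k ∈ ({0, 1, 2, 3, 4, 6, 8, 12} : Finset ℕ),
    ∀ l ∈ ({0, 1, 2, 3, 4, 6, 8, 12} : Finset ℕ), ¬ (k = 0 ∧ l = 0) →
    (Apart k l ↔ ((k = 0 ∧ l ∈ ({8, 12} : Finset ℕ)) ∨ (l = 0 ∧ k ∈ ({8, 12} : Finset ℕ)) ∨
      (k ≠ 0 ∧ l ≠ 0 ∧
        ((k < l ∧ (l ∈ ({8, 12} : Finset ℕ) ∨ (l = 6 ∧ k ∈ ({3, 4} : Finset ℕ)) ∨ (l = 4 ∧ k = 3))) ∨
         (l < k ∧ (k ∈ ({8, 12} : Finset ℕ) ∨ (k = 6 ∧ l ∈ ({3, 4} : Finset ℕ)) ∨ (k = 4 ∧ l = 3))))))) := by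
  unfold Apart
  decide

theorem exists_order_mul_iff {F : Type*} [Field F] [Fintype F] {r s : ℕ} (hr : r.Prime)
    (hs : s.Prime) (hrs : r ≠ s) :
    (∃ x : ↥(chevF4.group F), orderOf x = r * s) ↔
      ∃ x ∈ chevF4.group F, ∃ y ∈ chevF4.group F, orderOf x = r ∧ orderOf y = s ∧ Commute x y := by
  constructor
  · rintro ⟨x, hx⟩
    refine ⟨(x : GL chevF4.Idx F) ^ s, pow_mem x.2 s, (x : GL chevF4.Idx F) ^ r, pow_mem x.2 r,
      ?_, ?_, Commute.pow_pow_self _ _ _⟩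
    · rw [orderOf_pow' _ hs.ne_zero, Subgroup.orderOf_coe, hx, Nat.gcd_eq_right (dvd_mul_left _ _),
        Nat.mul_div_cancel _ hs.pos]
    · rw [orderOf_pow' _ hr.ne_zero, Subgroup.orderOf_coe, hx, Nat.gcd_eq_right (dvd_mul_right _ _),
        Nat.mul_div_cancel_left _ hr.pos]
  · rintro ⟨x, hx, y, hy, hxo, hyo, hc⟩
    refine ⟨⟨x * y, mul_mem hx hy⟩, ?_⟩
    rw [← Subgroup.orderOf_coe, Subgroup.coe_mk, hc.orderOf_mul_eq_mul_orderOf_of_coprime
      (by rw [hxo, hyo]; exact (Nat.coprime_primes hr hs).2 hrs), hxo, hyo]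


/-- Let F be a finite field with q = 2^n elements and G = F₄(F). For an odd prime r let e(r, q) be the multiplicative order of q modulo r. Two distinct primes r, s dividing the order of G are non-adjacent in the prime graph of G (no element of order rs) if and only if, up to swapping r and s, either r = 2 and e(s, q) ∈ {8, 12}, or r, s are both odd with k = e(r, q) < l = e(s, q) and one of: l ∈ {8, 12}; l = 6 and k ∈ {3, 4}; l = 4 and k = 3. -/
theorem result {F : Type*} [Field F] [Fintype F] (n : ℕ) (hn : 1 ≤ n) (hF : Fintype.card F = 2 ^ n)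
    (r s : ℕ) (hr : r.Prime) (hs : s.Prime) (hrs : r ≠ s) (hrG : r ∣ Nat.card ↥(Cfsg.Lie.chevF4.group F)) (hsG : s ∣ Nat.card ↥(Cfsg.Lie.chevF4.group F)) :
    (¬ ∃ x : ↥(Cfsg.Lie.chevF4.group F), orderOf x = r * s) ↔
      ((r = 2 ∧ orderOf ((Fintype.card F : ℕ) : ZMod s) ∈ ({8, 12} : Finset ℕ)) ∨ (s = 2 ∧ orderOf ((Fintype.card F : ℕ) : ZMod r) ∈ ({8, 12} : Finset ℕ)) ∨
       (r ≠ 2 ∧ s ≠ 2 ∧
         ((orderOf ((Fintype.card F : ℕ) : ZMod r) < orderOf ((Fintype.card F : ℕ) : ZMod s) ∧ (orderOf ((Fintype.card F : ℕ) : ZMod s) ∈ ({8, 12} : Finset ℕ) ∨ (orderOf ((Fintype.card F : ℕ) : ZMod s) = 6 ∧ orderOf ((Fintype.card F : ℕ) : ZMod r) ∈ ({3, 4} : Finset ℕ)) ∨ (orderOf ((Fintype.card F : ℕ) : ZMod s) = 4 ∧ orderOf ((Fintype.card F : ℕ) : ZMod r) = 3))) ∨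
          (orderOf ((Fintype.card F : ℕ) : ZMod s) < orderOf ((Fintype.card F : ℕ) : ZMod r) ∧ (orderOf ((Fintype.card F : ℕ) : ZMod r) ∈ ({8, 12} : Finset ℕ) ∨ (orderOf ((Fintype.card F : ℕ) : ZMod r) = 6 ∧ orderOf ((Fintype.card F : ℕ) : ZMod s) ∈ ({3, 4} : Finset ℕ)) ∨ (orderOf ((Fintype.card F : ℕ) : ZMod r) = 4 ∧ orderOf ((Fintype.card F : ℕ) : ZMod s) = 3)))))) := by
  rw [exists_order_mul_iff hr hs hrs]
  have h20 : (Fintype.card F : ZMod 2) = 0 := by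
    rw [ZMod.natCast_eq_zero_iff, hF]; exact dvd_pow_self 2 (by omega)
  have := CfsgLib.Chev.F4Graph.charP_two hn hF
  obtain ⟨hr2, hrE⟩ := order_cases hn hF hr hrG
  obtain ⟨hs2, hsE⟩ := order_cases hn hF hs hsG
  set q := Fintype.card F with hq
  have h00 : ¬ (orderOf (q : ZMod r) = 0 ∧ orderOf (q : ZMod s) = 0) := fun h =>
    hrs ((hr2.2 h.1).trans (hs2.2 h.2).symm)
  have hlow : ∀ t : ℕ, (t = 2 ↔ orderOf (q : ZMod t) = 0) → orderOf (q : ZMod t) ≤ 2 →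
      (q : ZMod t) = 0 ∨ (q : ZMod t) ^ 2 = 1 := fun t ht2 hle => by
    interval_cases h : orderOf (q : ZMod t)
    · obtain rfl := ht2.2 rfl
      exact Or.inl h20
    · exact Or.inr (by rw [orderOf_eq_one_iff.1 h, one_pow])
    · exact Or.inr (h ▸ pow_orderOf_eq_one _)
  have key : (¬ ∃ x ∈ chevF4.group F, ∃ y ∈ chevF4.group F,
      orderOf x = r ∧ orderOf y = s ∧ Commute x y) ↔
        Apart (orderOf (q : ZMod r)) (orderOf (q : ZMod s)) := by
    constructor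
    · intro h
      by_contra hA
      refine h ?_
      simp only [Finset.mem_insert, Finset.mem_singleton] at hrE hsE
      simp only [Apart] at hA
      have swap : (∃ x ∈ chevF4.group F, ∃ y ∈ chevF4.group F,
          orderOf x = s ∧ orderOf y = r ∧ Commute x y) →
          ∃ x ∈ chevF4.group F, ∃ y ∈ chevF4.group F, orderOf x = r ∧ orderOf y = s ∧ Commute x y :=
        fun ⟨x, hx, y, hy, hxo, hyo, hc⟩ => ⟨y, hy, x, hx, hyo, hxo, hc.symm⟩
      have hmid : ∀ t : ℕ, (t = 2 ↔ orderOf (q : ZMod t) = 0) → orderOf (q : ZMod t) ≠ 8 →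
          orderOf (q : ZMod t) ≠ 12 →
          orderOf (q : ZMod t) ∈ ({0, 1, 2, 3, 4, 6, 8, 12} : Finset ℕ) →
          (q : ZMod t) = 0 ∨ (q : ZMod t) ^ 2 = 1 ∨
            orderOf (q : ZMod t) ∈ ({3, 4, 6} : Finset ℕ) := fun t ht2 h8 h12 hE => by
        simp only [Finset.mem_insert, Finset.mem_singleton] at hE ⊢
        by_cases hle : orderOf (q : ZMod t) ≤ 2
        · exact (hlow t ht2 hle).elim Or.inl fun e => Or.inr (Or.inl e)
        · exact Or.inr (Or.inr (by omega))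
      have hE' : orderOf (q : ZMod r) ∈ ({0, 1, 2, 3, 4, 6, 8, 12} : Finset ℕ) ∧
          orderOf (q : ZMod s) ∈ ({0, 1, 2, 3, 4, 6, 8, 12} : Finset ℕ) := by
        simp only [Finset.mem_insert, Finset.mem_singleton]; exact ⟨hrE, hsE⟩
      by_cases h1 : orderOf (q : ZMod r) ≤ 2
      · exact exists_commute_low hr hs (hlow r hr2 h1)
          (hmid s hs2 (by omega) (by omega) hE'.2)
      by_cases h2 : orderOf (q : ZMod s) ≤ 2
      · exact swap (exists_commute_low hs hr (hlow s hs2 h2)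
          (hmid r hr2 (by omega) (by omega) hE'.1))
      have heq : orderOf (q : ZMod s) = orderOf (q : ZMod r) := by omega
      by_cases h3 : orderOf (q : ZMod r) = 8 ∨ orderOf (q : ZMod r) = 12
      · exact exists_commute_large hr hs hrG rfl heq h3
      · exact exists_commute_small (d := orderOf (q : ZMod r)) hr hs hrG rfl heq (by omega)
    · rintro hA ⟨x, hx, y, hy, hxo, hyo, hc⟩
      rcases hA with ⟨hk, hne⟩ | ⟨hl, hne⟩ | hkl | hlk
      · exact hne (large_eq hr hs h20 rfl hk hx hy hxo hyo hc.symm).2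
      · exact hne (large_eq hs hr h20 rfl hl hy hx hyo hxo hc).2
      · exact small_not_commute hr hs rfl rfl hkl hx hy hxo hyo hc
      · exact small_not_commute hs hr rfl rfl hlk hy hx hyo hxo hc.symm
  rw [key]
  have hr2' : r ≠ 2 ↔ orderOf (q : ZMod r) ≠ 0 := not_congr hr2
  have hs2' : s ≠ 2 ↔ orderOf (q : ZMod s) ≠ 0 := not_congr hs2
  rw [hr2, hs2, hr2', hs2']
  exact apart_table _ hrE _ hsE h00

end Cfsg.Agent.S2525
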