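import Mathlib
import Cfsg.Statements.S2531

set_option autoImplicit false
open Cfsg

namespace Cfsg.Agent.S2531

open Projectivization

variable {F : Type*} [Field F] [Finite F] {n : ℕ}

/-- A nonzero additive subgroup has order zero in `F`. -/
theorem card_eq_zero (H : AddSubgroup (Fin n → F)) {x : Fin n → F} (hx : x ∈ H) (hx0 : x ≠ 0) :
    (Nat.card H : F) = 0 := by
  obtain ⟨p, hp⟩ := CharP.exists F
  haveI : Fact p.Prime := ⟨CharP.char_is_prime F p⟩
  rw [CharP.cast_eq_zero_iff F p]
  have h1 : addOrderOf x = p := by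
    refine addOrderOf_eq_prime ?_ hx0
    funext i
    simp [CharP.cast_eq_zero F p]
  rw [← h1, ← AddSubgroup.addOrderOf_mk x hx]
  exact addOrderOf_dvd_natCard _

theorem card_units_cast : (Nat.card Fˣ : F) = -1 := by
  haveI := Fintype.ofFinite F
  rw [Nat.card_units, Nat.card_eq_fintype_card, Nat.cast_sub Fintype.card_pos, FiniteField.cast_card_eq_zero]
  simp

open scoped Classical in
/-- Points and nonzero vectors over them. -/
theorem cast_card_points [Fintype (Fin n → F)] (X : Finset (Projectivization F (Fin n → F))) :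
    ((Finset.univ.filter fun v : Fin n → F => ∃ h : v ≠ 0, mk F v h ∈ X).card : F) = -(X.card : F) := by
  have hfib : ∀ x : Projectivization F (Fin n → F),
      (Finset.univ.filter fun v : Fin n → F => ∃ h : v ≠ 0, mk F v h = x).card = Nat.card Fˣ := by
    intro x
    haveI := Fintype.ofFinite Fˣ
    rw [Nat.card_eq_fintype_card, ← Finset.card_univ]
    refine (Finset.card_bij (fun (c : Fˣ) _ => c • x.rep) (fun c _ => ?_) (fun c _ d _ h => ?_) ?_).symm
    · have hne : c • x.rep ≠ 0 := fun e => x.rep_nonzero (by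
        rwa [smul_eq_zero_iff_eq] at e)
      refine Finset.mem_filter.mpr ⟨Finset.mem_univ _, hne, ?_⟩
      conv_rhs => rw [← x.mk_rep]
      exact (mk_eq_mk_iff' F _ _ hne x.rep_nonzero).mpr ⟨c, rfl⟩
    · exact Units.ext (smul_left_injective F x.rep_nonzero h)
    · intro v hv
      obtain ⟨-, h, hv⟩ := Finset.mem_filter.mp hv
      rw [← x.mk_rep] at hv
      obtain ⟨c, hc⟩ := (mk_eq_mk_iff F _ _ h x.rep_nonzero).mp hv
      exact ⟨c, Finset.mem_univ _, hc⟩
  have h : (Finset.univ.filter fun v : Fin n → F => ∃ h : v ≠ 0, mk F v h ∈ X) =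
      X.biUnion fun x => Finset.univ.filter fun v : Fin n → F => ∃ h : v ≠ 0, mk F v h = x := by
    ext v
    simp
  rw [h, Finset.card_biUnion, Finset.sum_congr rfl fun x _ => hfib x, Finset.sum_const, smul_eq_mul,
    Nat.cast_mul, card_units_cast, mul_neg_one]
  intro x _ y _ hxy
  refine Finset.disjoint_filter.mpr fun v _ => ?_
  rintro ⟨_, rfl⟩ ⟨_, hy⟩
  exact hxy hy

/-- A projective semilinear group of degree at least three has no sharply two-transitive subset. -/
theorem result {F : Type*} [Field F] [Finite F]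
    (n : ℕ) (hn : 3 ≤ n) (S : Set (Equiv.Perm (Projectivization F (Fin n → F))))
    (hS : ∀ s ∈ S, ∃ (σ : F ≃+* F) (f : (Fin n → F) →ₛₗ[(σ : F →+* F)] (Fin n → F)) (hf : Function.Injective f),
      ∀ x, s x = Projectivization.map f hf x) :
    ¬ (∀ a b c d : Projectivization F (Fin n → F), a ≠ b → c ≠ d →
        ∃! s, s ∈ S ∧ s a = c ∧ s b = d) := by
  classical
  intro hsharp
  haveI := Fintype.ofFinite F
  haveI := Fintype.ofFinite (Projectivization F (Fin n → F))
  let i0 : Fin n := ⟨0, by omega⟩
  let i1 : Fin n := ⟨1, by omega⟩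
  let i2 : Fin n := ⟨2, by omega⟩
  have h01 : i0 ≠ i1 := by simp [i0, i1, Fin.ext_iff]
  have h02 : i0 ≠ i2 := by simp [i0, i2, Fin.ext_iff]
  have h12 : i1 ≠ i2 := by simp [i1, i2, Fin.ext_iff]
  let e0 : Fin n → F := Pi.single i0 1
  have he0 : e0 ≠ 0 := fun h => one_ne_zero (α := F) (by simpa [e0] using congrFun h i0)
  let a := mk F e0 he0
  have hmk : ∀ (v : Fin n → F) (h : v ≠ 0), mk F v h = a ↔ ∃ c : F, c • e0 = v := fun v h =>
    mk_eq_mk_iff' F v e0 h he0
  -- the sets of vectors
  let W : AddSubgroup (Fin n → F) :=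
    { carrier := {v | ∀ i, i ≠ i1 → i ≠ i2 → v i = 0}
      zero_mem' := fun _ _ _ => rfl
      add_mem' := fun {u v} hu hv i h1 h2 => by simp [hu i h1 h2, hv i h1 h2]
      neg_mem' := fun {u} hu i h1 h2 => by simp [hu i h1 h2] }
  have hW : ∀ v, v ∈ W ↔ ∀ i, i ≠ i1 → i ≠ i2 → v i = 0 := fun v => Iff.rfl
  let B : Finset (Projectivization F (Fin n → F)) :=
    Finset.univ.filter fun x => x ≠ a ∧ x.rep i0 ≠ 0
  let L : Finset (Projectivization F (Fin n → F)) := Finset.univ.filter fun x => x.rep ∈ W
  have hrepW : ∀ (v : Fin n → F) (h : v ≠ 0), (mk F v h).rep ∈ W ↔ v ∈ W := by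
    intro v h
    obtain ⟨c, hc⟩ := exists_smul_eq_mk_rep F v h
    rw [← hc, hW, hW]
    refine forall₃_congr fun i _ _ => ?_
    simp [Units.smul_def]
  have hrep0 : ∀ (v : Fin n → F) (h : v ≠ 0), (mk F v h).rep i0 ≠ 0 ↔ v i0 ≠ 0 := by
    intro v h
    obtain ⟨c, hc⟩ := exists_smul_eq_mk_rep F v h
    rw [← hc]
    simp [Units.smul_def]
  have hLa : ∀ x ∈ L, x ≠ a := by
    intro x hx e
    rw [Finset.mem_filter] at hx
    rw [e, hrepW, hW] at hx
    simpa [e0] using hx.2 i0 h01 h02
  -- their cardinalities in `F`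
  have hL : (L.card : F) = 1 := by
    have h := cast_card_points L
    have e : (Finset.univ.filter fun v : Fin n → F => ∃ h : v ≠ 0, mk F v h ∈ L) =
        (Finset.univ.filter fun v : Fin n → F => v ∈ W).erase 0 := by
      ext v
      simp only [Finset.mem_filter, Finset.mem_univ, true_and, Finset.mem_erase, L]
      exact ⟨fun ⟨h, hv⟩ => ⟨h, (hrepW v h).mp hv⟩, fun ⟨h, hv⟩ => ⟨h, (hrepW v h).mpr hv⟩⟩
    rw [e, Finset.card_erase_of_mem (by simp [W.zero_mem]), Nat.cast_sub (Finset.card_pos.mpr ⟨0, by simp [W.zero_mem]⟩),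
      show (Finset.univ.filter fun v : Fin n → F => v ∈ W).card = Nat.card W by
        rw [Nat.card_eq_fintype_card, Fintype.card_subtype],
      card_eq_zero W (x := Pi.single i1 1) (by
        rw [hW]; intro i h1 _; simp [h1]) (fun h => one_ne_zero (α := F) (by simpa using congrFun h i1))] at h
    simp only [Nat.cast_one, zero_sub] at h
    exact (neg_injective h).symm
  let K : AddSubgroup (Fin n → F) :=
    { carrier := {v | v i0 = 0}
      zero_mem' := rfl
      add_mem' := fun {u v} (hu : u i0 = 0) (hv : v i0 = 0) => by show (u + v) i0 = 0; simp [hu, hv]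
      neg_mem' := fun {u} (hu : u i0 = 0) => by show (-u) i0 = 0; simp [hu] }
  have hB : (B.card : F) = -1 := by
    have h := cast_card_points B
    have e : (Finset.univ.filter fun v : Fin n → F => ∃ h : v ≠ 0, mk F v h ∈ B) =
        Finset.univ \ ((Finset.univ.filter fun v : Fin n → F => v ∈ K) ∪
          (Finset.univ : Finset Fˣ).image (fun c => c • e0)) := by
      ext v
      simp only [Finset.mem_filter, Finset.mem_univ, true_and, Finset.mem_sdiff, Finset.mem_union,
        Finset.mem_image, not_or, B]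
      constructor
      · rintro ⟨h, h1, h2⟩
        exact ⟨(hrep0 v h).mp h2, fun ⟨c, hc⟩ => h1 ((hmk v h).mpr ⟨c, hc⟩)⟩
      · rintro ⟨h1, h2⟩
        have hv0 : v ≠ 0 := fun e => h1 (by show v i0 = 0; rw [e]; rfl)
        refine ⟨hv0, fun e => ?_, (hrep0 v hv0).mpr h1⟩
        obtain ⟨c, hc⟩ := (hmk v hv0).mp e
        refine h2 ⟨Units.mk0 c ?_, hc⟩
        rintro rfl
        exact hv0 (by rw [← hc, zero_smul])
    have hd : Disjoint (Finset.univ.filter fun v : Fin n → F => v ∈ K)
        ((Finset.univ : Finset Fˣ).image fun c => c • e0) := by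
      rw [Finset.disjoint_left]
      intro v hv hv'
      obtain ⟨c, -, rfl⟩ := Finset.mem_image.mp hv'
      have h0 : (c • e0) i0 = 0 := (Finset.mem_filter.mp hv).2
      simp [e0, Units.smul_def] at h0
    rw [e, Finset.card_sdiff_of_subset (Finset.subset_univ _), Nat.cast_sub (Finset.card_le_card (Finset.subset_univ _)),
      Finset.card_union_of_disjoint hd,
      Finset.card_image_of_injective (f := fun c : Fˣ => c • e0) _ (fun c d h => Units.ext (smul_left_injective F he0 h)),
      show (Finset.univ.filter fun v : Fin n → F => v ∈ K).card = Nat.card K by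
        rw [Nat.card_eq_fintype_card, Fintype.card_subtype],
      Nat.cast_add, card_eq_zero K (x := Pi.single i1 1) (by show (Pi.single i1 (1 : F) : Fin n → F) i0 = 0; simp [h01])
        (fun h => one_ne_zero (α := F) (by simpa using congrFun h i1)),
      Finset.card_univ, Finset.card_univ, ← Nat.card_eq_fintype_card (α := Fˣ), card_units_cast,
      Fintype.card_fun, Fintype.card_fin, Nat.cast_pow, FiniteField.cast_card_eq_zero, zero_pow (by omega)] at h
    linear_combination h
  -- the double count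
  let Sa : Finset (Equiv.Perm (Projectivization F (Fin n → F))) := Finset.univ.filter fun s => s ∈ S ∧ s a = a
  have hone : ∀ l ∈ L, ∀ b ∈ B, (Sa.filter fun s => s l = b).card = 1 := by
    intro l hl b hb
    obtain ⟨s, hs, huniq⟩ := hsharp a l a b (hLa l hl).symm (Finset.mem_filter.mp hb).2.1.symm
    rw [Finset.card_eq_one]
    refine ⟨s, Finset.eq_singleton_iff_unique_mem.mpr ⟨by simp [Sa, hs.1, hs.2.1, hs.2.2], fun t ht => ?_⟩⟩
    simp only [Sa, Finset.mem_filter, Finset.mem_univ, true_and] at ht
    exact huniq t ⟨ht.1.1, ht.1.2, ht.2⟩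
  have hcount : ∑ s ∈ Sa, (L.filter fun l => s l ∈ B).card = L.card * B.card := by
    calc ∑ s ∈ Sa, (L.filter fun l => s l ∈ B).card
        = ∑ l ∈ L, (Sa.filter fun s => s l ∈ B).card := by
          simp only [Finset.card_filter]; exact Finset.sum_comm
      _ = ∑ l ∈ L, ∑ b ∈ B, (Sa.filter fun s => s l = b).card := by
          refine Finset.sum_congr rfl fun l _ => ?_
          rw [← Finset.card_biUnion (fun b _ b' _ h => Finset.disjoint_filter.mpr fun s _ e e' => h (e.symm.trans e'))]
          congr 1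
          ext s; simp [and_comm]
      _ = L.card * B.card := by
          rw [Finset.sum_congr rfl fun l hl => Finset.sum_congr rfl fun b hb => hone l hl b hb]
          simp
  have hzero : ∀ s ∈ Sa, ((L.filter fun l => s l ∈ B).card : F) = 0 := by
    intro s hs
    obtain ⟨-, hsS, hsa⟩ := Finset.mem_filter.mp hs
    obtain ⟨σ, f, hf, hsf⟩ := hS s hsS
    let φ : W →+ F :=
      { toFun := fun v => f v i0
        map_zero' := by simp
        map_add' := fun u v => by simp }
    have h := cast_card_points (L.filter fun l => s l ∈ B)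
    have e : (Finset.univ.filter fun v : Fin n → F => ∃ h : v ≠ 0, mk F v h ∈ L.filter fun l => s l ∈ B) =
        (Finset.univ.filter fun v : Fin n → F => v ∈ W) \
          (Finset.univ.filter fun v : Fin n → F => v ∈ φ.ker.map W.subtype) := by
      ext v
      simp only [Finset.mem_filter, Finset.mem_univ, true_and, Finset.mem_sdiff, L, B]
      constructor
      · rintro ⟨h, hW', -, h0⟩
        refine ⟨(hrepW v h).mp hW', ?_⟩
        rintro ⟨u, hu, rfl⟩
        rw [hsf, map_mk, hrep0] at h0
        exact h0 hu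
      · rintro ⟨hvW, hvK⟩
        have h0 : f v i0 ≠ 0 := fun e => hvK ⟨⟨v, hvW⟩, e, rfl⟩
        have hv0 : v ≠ 0 := fun e => h0 (by rw [e, map_zero]; rfl)
        refine ⟨hv0, (hrepW v hv0).mpr hvW, fun e => ?_, ?_⟩
        · rw [← hsa, s.injective.eq_iff] at e
          exact hLa _ (Finset.mem_filter.mpr ⟨Finset.mem_univ _, (hrepW v hv0).mpr hvW⟩) e
        · rw [hsf, map_mk, hrep0]
          exact h0
    have hsub : (Finset.univ.filter fun v : Fin n → F => v ∈ φ.ker.map W.subtype) ⊆
        Finset.univ.filter fun v : Fin n → F => v ∈ W := fun v hv => by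
      rw [Finset.mem_filter] at hv ⊢
      obtain ⟨u, -, rfl⟩ := hv.2
      exact ⟨Finset.mem_univ _, u.2⟩
    obtain ⟨x, hxW, hxK, hx0⟩ : ∃ x, ∃ hx : x ∈ W, φ ⟨x, hx⟩ = 0 ∧ x ≠ 0 := by
      by_contra hno
      push Not at hno
      have hinj : Function.Injective φ := (injective_iff_map_eq_zero φ).mpr fun u hu =>
        Subtype.ext (hno u.1 u.2 hu)
      let ψ : F × F → W := fun c => ⟨Pi.single i1 c.1 + Pi.single i2 c.2, fun i h1 h2 => by simp [h1, h2]⟩
      have hψ : Function.Injective ψ := fun c d h => by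
        have h' := congrArg Subtype.val h
        exact Prod.ext (by simpa [ψ, h12] using congrFun h' i1)
          (by simpa [ψ, h12.symm] using congrFun h' i2)
      have := Fintype.card_le_of_injective _ (hinj.comp hψ)
      rw [Fintype.card_prod] at this
      have h2 := Fintype.one_lt_card (α := F)
      nlinarith
    rw [e, Finset.card_sdiff_of_subset hsub, Nat.cast_sub (Finset.card_le_card hsub),
      show (Finset.univ.filter fun v : Fin n → F => v ∈ W).card = Nat.card W by
        rw [Nat.card_eq_fintype_card, Fintype.card_subtype],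
      show (Finset.univ.filter fun v : Fin n → F => v ∈ φ.ker.map W.subtype).card = Nat.card (φ.ker.map W.subtype) by
        rw [Nat.card_eq_fintype_card, Fintype.card_subtype],
      card_eq_zero W hxW hx0, card_eq_zero (φ.ker.map W.subtype) ⟨⟨x, hxW⟩, hxK, rfl⟩ hx0, sub_zero] at h
    exact neg_eq_zero.mp h.symm
  have := congrArg (Nat.cast (R := F)) hcount
  rw [Nat.cast_sum, Finset.sum_eq_zero hzero, Nat.cast_mul, hL, hB] at this
  simp at this

end Cfsg.Agent.S2531
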