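import Cfsg.Statements.S2532
import Mathlib

set_option autoImplicit false
set_option linter.style.haveILetI false
open Cfsg

namespace Cfsg.Agent.S2532

/-- Permute the first coordinate. -/
def fstPermHom (α β : Type*) : Equiv.Perm α →* Equiv.Perm (α × β) where
  toFun σ := Equiv.prodCongr σ (Equiv.refl β)
  map_one' := Equiv.ext fun _ => rfl
  map_mul' _ _ := Equiv.ext fun _ => rfl

/-- There is a function `f` of two natural-number arguments such that, whenever `m ≥ f(n, r)`, every subgroup of order `n` of the alternating group of degree `m` centralizes some subgroup of that alternating group isomorphic to the alternating group of degree `r`. -/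
theorem result :
    ∃ f : ℕ → ℕ → ℕ, ∀ (m r : ℕ) (H : Subgroup ↥(alternatingGroup (Fin m))), f (Nat.card H) r ≤ m →
      ∃ K : Subgroup ↥(alternatingGroup (Fin m)), Nonempty (↥K ≃* ↥(alternatingGroup (Fin r))) ∧
        K ≤ Subgroup.centralizer (H : Set ↥(alternatingGroup (Fin m))) := by
  classical
  refine ⟨fun c r => c * (r * 2 ^ c) + 1, fun m r H hm => ?_⟩
  have hH : 0 < Nat.card H := Nat.card_pos
  set Q := MulAction.orbitRel.Quotient H (Fin m)
  have hQ : r * 2 ^ Nat.card H ≤ Nat.card Q := by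
    have h1 : m = Nat.card (Σ q : Q, q.orbit) :=
      (Nat.card_fin m).symm.trans (Nat.card_congr (MulAction.selfEquivSigmaOrbits' H (Fin m)))
    have h2 : ∀ q : Q, Nat.card q.orbit ≤ Nat.card H := fun q => by
      rw [MulAction.orbitRel.Quotient.orbit_eq_orbit_out q Quotient.out_eq']
      exact Nat.card_le_card_of_surjective
        (fun h : H => (⟨h • q.out, MulAction.mem_orbit _ h⟩ : MulAction.orbit H q.out))
        (fun y => by obtain ⟨h, hh⟩ := y.2; exact ⟨h, Subtype.ext hh⟩)
    rw [Nat.card_sigma] at h1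
    have h3 : ∑ q : Q, Nat.card q.orbit ≤ Nat.card Q * Nat.card H := by
      refine (Finset.sum_le_sum fun q _ => h2 q).trans ?_
      simp [Nat.card_eq_fintype_card]
    by_contra hc
    have hm' : Nat.card H * (r * 2 ^ Nat.card H) + 1 ≤ m := hm
    have : Nat.card Q * Nat.card H < Nat.card H * (r * 2 ^ Nat.card H) := by
      rw [mul_comm (Nat.card H)]
      exact Nat.mul_lt_mul_of_pos_right (not_le.mp hc) hH
    omega
  let st : Q → Subgroup H := fun q => MulAction.stabilizer H q.out
  have hsub : Fintype.card (Subgroup H) ≤ 2 ^ Nat.card H := by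
    rw [Nat.card_eq_fintype_card, ← Fintype.card_set]
    exact Fintype.card_le_of_injective _ SetLike.coe_injective
  obtain ⟨S, hS⟩ := Fintype.exists_le_card_fiber_of_mul_le_card (f := st) (n := r)
    (by rw [mul_comm]; exact (Nat.mul_le_mul_left r hsub).trans (hQ.trans_eq Nat.card_eq_fintype_card))
  obtain ⟨ι⟩ : Nonempty (Fin r ↪ {q : Q // st q = S}) := Function.Embedding.nonempty_of_card_le (by
    rw [Fintype.card_fin, Fintype.card_subtype]; exact hS)
  let x : Fin r → Fin m := fun i => (ι i).1.out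
  have hx : ∀ i, MulAction.stabilizer H (x i) = S := fun i => (ι i).2
  let e : Fin r × (H ⧸ S) → Fin m := fun z => Quotient.liftOn' z.2 (fun h : H => h • x z.1)
    (fun a b hab => by
      rw [QuotientGroup.leftRel_apply, ← hx z.1, MulAction.mem_stabilizer_iff, mul_smul] at hab
      exact (inv_smul_eq_iff.mp hab).symm)
  have he : ∀ (i : Fin r) (h : H), e (i, (QuotientGroup.mk h : H ⧸ S)) = h • x i := fun _ _ => rfl
  have hinj : Function.Injective e := by
    rintro ⟨i, a⟩ ⟨j, b⟩ hab
    obtain ⟨a, rfl⟩ := QuotientGroup.mk_surjective a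
    obtain ⟨b, rfl⟩ := QuotientGroup.mk_surjective b
    rw [he, he] at hab
    have hij : i = j := ι.injective (Subtype.ext (by
      have h0 : Quotient.mk'' (x i) = (Quotient.mk'' (x j) : Q) :=
        Quotient.sound' ⟨a⁻¹ * b, by
          show (a⁻¹ * b) • x j = x i
          rw [mul_smul, ← hab, inv_smul_smul]⟩
      rwa [show Quotient.mk'' (x i) = ((ι i).1 : Q) from Quotient.out_eq' _,
        show Quotient.mk'' (x j) = ((ι j).1 : Q) from Quotient.out_eq' _] at h0))
    subst hij
    refine Prod.ext rfl (QuotientGroup.eq.mpr ?_)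
    rw [← hx i, MulAction.mem_stabilizer_iff, mul_smul, ← hab, inv_smul_smul]
  let E : Fin r × (H ⧸ S) ↪ Fin m := ⟨e, hinj⟩
  let φ : Equiv.Perm (Fin r) →* Equiv.Perm (Fin m) :=
    (Equiv.Perm.viaEmbeddingHom E).comp (fstPermHom (Fin r) (H ⧸ S))
  have hφ : Function.Injective φ := (Equiv.Perm.viaEmbeddingHom_injective E).comp fun σ τ h =>
    Equiv.ext fun i => congrArg Prod.fst
      (DFunLike.congr_fun h (i, ((1 : H) : H ⧸ S)))
  have hsign : ∀ σ : alternatingGroup (Fin r), φ σ ∈ alternatingGroup (Fin m) := fun σ => by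
    rw [Equiv.Perm.mem_alternatingGroup]
    show Equiv.Perm.sign (Equiv.Perm.viaEmbedding (fstPermHom (Fin r) (H ⧸ S) σ) E) = 1
    unfold Equiv.Perm.viaEmbedding
    rw [Equiv.Perm.sign_extendDomain,
      show fstPermHom (Fin r) (H ⧸ S) σ =
        Equiv.prodCongrLeft (fun _ => (σ : Equiv.Perm (Fin r))) from Equiv.ext fun _ => rfl,
      Equiv.Perm.sign_prodCongrLeft, Finset.prod_const, Equiv.Perm.mem_alternatingGroup.mp σ.2,
      one_pow]
  let φ' : alternatingGroup (Fin r) →* alternatingGroup (Fin m) :=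
    (φ.comp (alternatingGroup (Fin r)).subtype).codRestrict (alternatingGroup (Fin m)) hsign
  refine ⟨φ'.range, ⟨(MonoidHom.ofInjective (f := φ') fun a b h => Subtype.ext
    (hφ (congrArg Subtype.val h))).symm⟩, ?_⟩
  rintro _ ⟨σ, rfl⟩
  rw [Subgroup.mem_centralizer_iff]
  intro h hh
  refine Subtype.ext (Equiv.ext fun y => ?_)
  show (h : Equiv.Perm (Fin m)) (φ σ y) = φ σ ((h : Equiv.Perm (Fin m)) y)
  have hmove : ∀ (z : Fin r × (H ⧸ S)), (h : Equiv.Perm (Fin m)) (e z) =
      e (z.1, (⟨h, hh⟩ : H) • z.2) := by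
    rintro ⟨i, a⟩
    obtain ⟨a, rfl⟩ := QuotientGroup.mk_surjective a
    show (⟨h, hh⟩ : H) • (a • x i) = ((⟨h, hh⟩ : H) * a) • x i
    rw [mul_smul]
  by_cases hy : y ∈ Set.range E
  · obtain ⟨z, rfl⟩ := hy
    show (h : Equiv.Perm (Fin m)) (Equiv.Perm.viaEmbedding _ E (E z)) =
      Equiv.Perm.viaEmbedding _ E ((h : Equiv.Perm (Fin m)) (e z))
    rw [Equiv.Perm.viaEmbedding_apply, hmove]
    show (h : Equiv.Perm (Fin m)) (e _) = Equiv.Perm.viaEmbedding _ E (E _)
    rw [Equiv.Perm.viaEmbedding_apply, hmove]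
    rfl
  · have hy' : (h : Equiv.Perm (Fin m)) y ∉ Set.range E := by
      rintro ⟨z, hz⟩
      apply hy
      refine ⟨(z.1, (⟨h, hh⟩ : H)⁻¹ • z.2), ?_⟩
      apply (h : Equiv.Perm (Fin m)).injective
      show (h : Equiv.Perm (Fin m)) (e _) = _
      rw [hmove, smul_inv_smul]
      exact hz
    show (h : Equiv.Perm (Fin m)) (Equiv.Perm.viaEmbedding _ E y) =
      Equiv.Perm.viaEmbedding _ E ((h : Equiv.Perm (Fin m)) y)
    rw [Equiv.Perm.viaEmbedding_apply_of_notMem _ _ _ hy,
      Equiv.Perm.viaEmbedding_apply_of_notMem _ _ _ hy']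

end Cfsg.Agent.S2532
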