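import Cfsg.Statements.S2533
import Mathlib

set_option autoImplicit false
open Cfsg

namespace Cfsg.Agent.S2533

open Matrix

variable (p : ℕ) [hp : Fact p.Prime]

/-- Three dimensional vectors. -/
abbrev V := Multiplicative (Fin 3 → ZMod p)

/-- The group of order two. -/
abbrev C := Multiplicative (ZMod 2)

theorem c_cases : ∀ e : C, e = 1 ∨ e = Multiplicative.ofAdd 1 := by decide

/-- Inversion. -/
def act : C →* MulAut (V p) :=
  MonoidHom.mk' (fun e => if e = 1 then 1 else MulEquiv.inv (V p)) fun a b => by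
    rcases c_cases a with rfl | rfl <;> rcases c_cases b with rfl | rfl <;>
      ext v <;> simp <;> rfl

variable {p} {m : ℕ}

/-- The shift. -/
def J (m : ℕ) : Matrix (Fin m) (Fin m) (ZMod p) :=
  Matrix.of fun i j => if (j : ℕ) = i + 1 then 1 else 0

/-- The three arrows. -/
def T (m : ℕ) (v : Fin 3 → ZMod p) : Matrix (Fin m) (Fin m) (ZMod p) :=
  v 0 • 1 + v 1 • J m + v 2 • (J m)ᵀ

theorem T_add (v w : Fin 3 → ZMod p) : T m (v + w) = T m v + T m w := by
  simp only [T, Pi.add_apply, add_smul]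
  abel

/-- Blocks as square matrices. -/
noncomputable def toSq (m : ℕ) :
    Matrix (Fin m ⊕ Fin m) (Fin m ⊕ Fin m) (ZMod p) ≃ₐ[ZMod p]
      Matrix (Fin (m + m)) (Fin (m + m)) (ZMod p) :=
  Matrix.reindexAlgEquiv (ZMod p) (ZMod p) finSumFinEquiv

/-- The unipotent elements. -/
noncomputable def U (m : ℕ) (v : Fin 3 → ZMod p) : Matrix.SpecialLinearGroup (Fin (m + m)) (ZMod p) :=
  ⟨toSq m (fromBlocks 1 0 (T m v) 1), by
    rw [toSq, det_reindexAlgEquiv, det_fromBlocks_zero₁₂, det_one, one_mul]⟩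

theorem U_add (v w : Fin 3 → ZMod p) : U m (v + w) = U m v * U m w := by
  refine Subtype.ext ?_
  rw [Matrix.SpecialLinearGroup.coe_mul]
  show toSq m (fromBlocks 1 0 (T m (v + w)) 1) =
    toSq m (fromBlocks 1 0 (T m v) 1) * toSq m (fromBlocks 1 0 (T m w) 1)
  rw [← map_mul, fromBlocks_multiply]
  congr 1
  simp [T_add]

/-- The unipotent part. -/
noncomputable def f1 (m : ℕ) : V p →* Matrix.SpecialLinearGroup (Fin (m + m)) (ZMod p) :=
  MonoidHom.mk' (fun v => U m (Multiplicative.toAdd v)) fun v w => U_add _ _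

/-- The diagonal sign matrix. -/
noncomputable def S (hm : Even m) : Matrix.SpecialLinearGroup (Fin (m + m)) (ZMod p) :=
  ⟨toSq m (fromBlocks 1 0 0 (-1)), by
    rw [toSq, det_reindexAlgEquiv, det_fromBlocks_zero₁₂, det_one, one_mul, det_neg, det_one,
      mul_one, Fintype.card_fin, hm.neg_one_pow]⟩

theorem S_mul_S (hm : Even m) : S (p := p) hm * S hm = 1 := by
  refine Subtype.ext ?_
  rw [Matrix.SpecialLinearGroup.coe_mul, Matrix.SpecialLinearGroup.coe_one]
  show toSq m (fromBlocks 1 0 0 (-1)) * toSq m (fromBlocks 1 0 0 (-1)) = 1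
  rw [← map_mul, fromBlocks_multiply]
  simp

/-- The part of order two. -/
noncomputable def f2 (hm : Even m) : C →* Matrix.SpecialLinearGroup (Fin (m + m)) (ZMod p) :=
  MonoidHom.mk' (fun e => if e = 1 then 1 else S hm) fun a b => by
    have h11 : (Multiplicative.ofAdd (1 : ZMod 2)) * Multiplicative.ofAdd 1 = 1 := by decide
    have hne : (Multiplicative.ofAdd (1 : ZMod 2)) ≠ 1 := by decide
    rcases c_cases a with rfl | rfl <;> rcases c_cases b with rfl | rfl <;>
      simp [h11, hne, S_mul_S]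

theorem compat (hm : Even m) (e : C) :
    (f1 m).comp (act p e).toMonoidHom = (MulAut.conj (f2 hm e)).toMonoidHom.comp (f1 (p := p) m) := by
  refine MonoidHom.ext fun v => ?_
  rcases c_cases e with rfl | rfl
  · simp
  · have hne : (Multiplicative.ofAdd (1 : ZMod 2)) ≠ 1 := by decide
    have hS : (S (p := p) hm)⁻¹ = S hm := inv_eq_of_mul_eq_one_right (S_mul_S hm)
    simp only [act, f2, MonoidHom.comp_apply, MulEquiv.coe_toMonoidHom, MonoidHom.mk'_apply,
      if_neg hne, MulAut.conj_apply, hS]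
    show U m (-(Multiplicative.toAdd v)) = S hm * U m (Multiplicative.toAdd v) * S hm
    refine Subtype.ext ?_
    rw [Matrix.SpecialLinearGroup.coe_mul, Matrix.SpecialLinearGroup.coe_mul]
    show toSq m (fromBlocks 1 0 (T m (-(Multiplicative.toAdd v))) 1) =
      toSq m (fromBlocks 1 0 0 (-1)) * toSq m (fromBlocks 1 0 (T m (Multiplicative.toAdd v)) 1) *
        toSq m (fromBlocks 1 0 0 (-1))
    rw [← map_mul, ← map_mul, fromBlocks_multiply, fromBlocks_multiply]
    congr 1
    simp [T]
    abel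

theorem J_mul (a : Matrix (Fin m) (Fin m) (ZMod p)) (i j : Fin m) :
    (J (p := p) m * a) i j = if h : (i : ℕ) + 1 < m then a ⟨i + 1, h⟩ j else 0 := by
  rw [Matrix.mul_apply]
  split_ifs with h
  · rw [Finset.sum_eq_single ⟨i + 1, h⟩]
    · simp [J]
    · intro k _ hk
      simp [J, show (k : ℕ) ≠ i + 1 from fun e => hk (Fin.ext e)]
    · simp
  · exact Finset.sum_eq_zero fun k _ => by
      simp [J, show (k : ℕ) ≠ i + 1 by omega]

theorem mul_J (a : Matrix (Fin m) (Fin m) (ZMod p)) (i j : Fin m) :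
    (a * J (p := p) m) i j = if h : 0 < (j : ℕ) then a i ⟨j - 1, by omega⟩ else 0 := by
  rw [Matrix.mul_apply]
  split_ifs with h
  · rw [Finset.sum_eq_single ⟨j - 1, by omega⟩]
    · simp [J]; omega
    · intro k _ hk
      simp [J, show (j : ℕ) ≠ k + 1 from fun e => hk (Fin.ext (by simp; omega))]
    · simp
  · exact Finset.sum_eq_zero fun k _ => by
      simp [J, show (j : ℕ) ≠ k + 1 by omega]

/-- The shift and its transpose generate the full matrix algebra. -/
theorem eq_scalar (hm : 0 < m) (a : Matrix (Fin m) (Fin m) (ZMod p)) (h1 : a * J (p := p) m = J (p := p) m * a)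
    (h2 : a * (J (p := p) m)ᵀ = (J (p := p) m)ᵀ * a) : a = a ⟨0, hm⟩ ⟨0, hm⟩ • 1 := by
  have h2' : aᵀ * J m = J m * aᵀ := by
    have := congrArg Matrix.transpose h2
    simpa using this.symm
  have key : ∀ b : Matrix (Fin m) (Fin m) (ZMod p), b * J m = J m * b →
      ∀ i : ℕ, ∀ (hi : i + 1 < m), b ⟨i + 1, hi⟩ ⟨0, hm⟩ = 0 := by
    intro b hb i hi
    have := congrFun (congrFun hb ⟨i, by omega⟩) ⟨0, hm⟩
    rw [J_mul, mul_J, dif_pos hi, dif_neg (by simp)] at this
    exact this.symm
  have main : ∀ i : ℕ, ∀ (hi : i < m) (j : Fin m),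
      a ⟨i, hi⟩ j = if i = (j : ℕ) then a ⟨0, hm⟩ ⟨0, hm⟩ else 0 := by
    intro i
    induction i with
    | zero =>
      intro hi j
      rcases Nat.eq_zero_or_pos (j : ℕ) with hj | hj
      · rw [if_pos hj.symm]
        exact congrArg _ (Fin.ext hj)
      · rw [if_neg (by omega)]
        have := key aᵀ h2' (j - 1) (by omega)
        rw [Matrix.transpose_apply] at this
        convert this using 2
        exact Fin.ext (by simp; omega)
    | succ i ih =>
      intro hi j
      have := congrFun (congrFun h1 ⟨i, by omega⟩) j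
      rw [J_mul, mul_J, dif_pos hi] at this
      rw [← this]
      split_ifs with h0 h h
      · rw [ih, if_pos (by simp; omega)]
      · rw [ih, if_neg (by simp; omega)]
      · omega
      · rfl
  ext i j
  rw [main i i.2 j]
  by_cases h : i = j
  · simp [h]
  · simp [Matrix.one_apply_ne h, show (i : ℕ) ≠ j from fun e => h (Fin.ext e)]

/-- The representation. -/
noncomputable def rep (hm : Even m) :
    V p ⋊[act p] C →* Matrix.SpecialLinearGroup (Fin (m + m)) (ZMod p) :=
  SemidirectProduct.lift (f1 m) (f2 hm) (compat hm)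

theorem rep_coe (hm : Even m) (x : V p ⋊[act p] C) :
    (rep hm x : Matrix (Fin (m + m)) (Fin (m + m)) (ZMod p)) =
      toSq m (fromBlocks 1 0 (T m (Multiplicative.toAdd x.left))
        (if x.right = 1 then 1 else -1)) := by
  show ((f1 m x.left * f2 hm x.right : Matrix.SpecialLinearGroup _ _) :
    Matrix (Fin (m + m)) (Fin (m + m)) (ZMod p)) = _
  rcases c_cases x.right with h | h
  · rw [h, map_one, mul_one, if_pos rfl]
    rfl
  · have hne : (Multiplicative.ofAdd (1 : ZMod 2)) ≠ 1 := by decide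
    rw [h, Matrix.SpecialLinearGroup.coe_mul, if_neg hne]
    simp only [f2, MonoidHom.mk'_apply, if_neg hne]
    show toSq m (fromBlocks 1 0 (T m (Multiplicative.toAdd x.left)) 1) *
      toSq m (fromBlocks 1 0 0 (-1)) = _
    rw [← map_mul, fromBlocks_multiply]
    congr 1
    simp

theorem rep_scalar_free (hp2 : p ≠ 2) (hm : Even m) (hm2 : 2 ≤ m) (x : V p ⋊[act p] C)
    (hx : rep hm x ∈ Subgroup.center (Matrix.SpecialLinearGroup (Fin (m + m)) (ZMod p))) : x = 1 := by
  obtain ⟨r, -, hr⟩ := Matrix.SpecialLinearGroup.mem_center_iff.mp hx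
  rw [rep_coe] at hr
  have hr' : toSq m (algebraMap (ZMod p) _ r) = toSq m (fromBlocks 1 0 (T m (Multiplicative.toAdd x.left))
      (if x.right = 1 then 1 else -1)) := by
    rw [← hr, AlgEquiv.commutes]
    rfl
  have h := (toSq m).injective hr'
  rw [Matrix.algebraMap_eq_diagonal] at h
  have h00 := congrFun (congrFun h (.inl ⟨0, by omega⟩)) (.inl ⟨0, by omega⟩)
  have h11 := congrFun (congrFun h (.inr ⟨0, by omega⟩)) (.inr ⟨0, by omega⟩)
  have hv : ∀ i j : Fin m, T m (Multiplicative.toAdd x.left) i j = 0 := fun i j => by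
    simpa using (congrFun (congrFun h (.inr i)) (.inl j)).symm
  have hone : (1 : ZMod p) ≠ -1 := by
    intro e
    have h2 : ((2 : ℕ) : ZMod p) = 0 := by
      rw [Nat.cast_ofNat, ← one_add_one_eq_two]; linear_combination e
    rw [CharP.cast_eq_zero_iff (ZMod p) p] at h2
    exact hp2 ((Nat.prime_dvd_prime_iff_eq hp.out Nat.prime_two).mp h2)
  have hright : x.right = 1 := by
    by_contra hne
    simp [hne] at h00 h11
    exact hone (h00.symm.trans h11)
  have e0 := hv ⟨0, by omega⟩ ⟨0, by omega⟩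
  have e1 := hv ⟨0, by omega⟩ ⟨1, by omega⟩
  have e2 := hv ⟨1, by omega⟩ ⟨0, by omega⟩
  simp [T, J, Matrix.one_apply] at e0 e1 e2
  refine SemidirectProduct.ext ?_ hright
  refine Multiplicative.toAdd.injective (funext fun i => ?_)
  fin_cases i <;> assumption

theorem centralizer_trivial (hp2 : p ≠ 2) (hm : Even m) (hm2 : 2 ≤ m)
    (G : Matrix.SpecialLinearGroup (Fin (m + m)) (ZMod p))
    (hG : ∀ x : V p ⋊[act p] C, ∃ r : ZMod p,
      (G : Matrix (Fin (m + m)) (Fin (m + m)) (ZMod p)) * rep hm x =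
        r • ((rep hm x : Matrix (Fin (m + m)) (Fin (m + m)) (ZMod p)) * G)) :
    G ∈ Subgroup.center (Matrix.SpecialLinearGroup (Fin (m + m)) (ZMod p)) := by
  obtain ⟨M, hM⟩ := (toSq m).surjective (G : Matrix (Fin (m + m)) (Fin (m + m)) (ZMod p))
  have hG' : ∀ x : V p ⋊[act p] C, ∃ r : ZMod p,
      M * fromBlocks 1 0 (T m (Multiplicative.toAdd x.left)) (if x.right = 1 then 1 else -1) =
        r • (fromBlocks 1 0 (T m (Multiplicative.toAdd x.left))
          (if x.right = 1 then 1 else -1) * M) := fun x => by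
    obtain ⟨r, hr⟩ := hG x
    refine ⟨r, (toSq m).injective ?_⟩
    rw [map_smul, map_mul, map_mul, hM, ← rep_coe hm]
    exact hr
  have hdet : M.det = 1 := by
    have := G.2
    rw [← hM, toSq, det_reindexAlgEquiv] at this
    exact this
  -- unipotent elements commute with `M`
  have hU : ∀ v : Fin 3 → ZMod p, M * fromBlocks 1 0 (T m v) 1 = fromBlocks 1 0 (T m v) 1 * M := by
    intro v
    obtain ⟨r, hr⟩ := hG' (SemidirectProduct.inl (Multiplicative.ofAdd v))
    simp at hr
    set U : Matrix (Fin m ⊕ Fin m) (Fin m ⊕ Fin m) (ZMod p) := fromBlocks 1 0 (T m v) 1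
    have hk : ∀ k : ℕ, M * U ^ k = r ^ k • (U ^ k * M) := by
      intro k
      induction k with
      | zero => simp
      | succ k ih =>
        rw [pow_succ, ← mul_assoc, ih, smul_mul_assoc, mul_assoc, hr, mul_smul_comm, smul_smul,
          ← mul_assoc, pow_succ r]
    have hUk : ∀ k : ℕ, U ^ k = fromBlocks 1 0 ((k : ZMod p) • T m v) 1 := by
      intro k
      induction k with
      | zero => simp
      | succ k ih =>
        rw [pow_succ, ih, fromBlocks_multiply]
        congr 1 <;> simp [add_smul, add_comm]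
    have h1 := hk p
    rw [hUk, CharP.cast_eq_zero, zero_smul, fromBlocks_one, mul_one, one_mul, ZMod.pow_card] at h1
    have hr1 : r = 1 := by
      by_contra hne
      have : M = 0 := by
        ext i j
        have h2 := congrFun (congrFun h1 i) j
        rw [Matrix.smul_apply, smul_eq_mul] at h2
        have h3 : (r - 1) * M i j = 0 := by linear_combination -h2
        simpa [sub_eq_zero, hne] using h3
      rw [this] at hdet
      have : Nonempty (Fin m ⊕ Fin m) := ⟨.inl ⟨0, by omega⟩⟩
      rw [Matrix.det_zero] at hdet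
      exact zero_ne_one hdet
    rw [hr, hr1, one_smul]
  obtain ⟨a, b, c, d, rfl⟩ : ∃ a b c d, M = fromBlocks a b c d :=
    ⟨_, _, _, _, (fromBlocks_toBlocks M).symm⟩
  have hbl : ∀ v, b * T m v = 0 ∧ d * T m v = T m v * a := by
    intro v
    have h := hU v
    rw [fromBlocks_multiply, fromBlocks_multiply, fromBlocks_inj] at h
    obtain ⟨h1, -, h3, -⟩ := h
    simp only [mul_one, one_mul, zero_mul, add_zero, add_eq_left] at h1
    refine ⟨h1, ?_⟩
    simp only [mul_one, one_mul] at h3
    rw [add_comm c, add_left_inj] at h3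
    exact h3
  have hb : b = 0 := by simpa [T] using (hbl ![1, 0, 0]).1
  have hd : d = a := by simpa [T] using (hbl ![1, 0, 0]).2
  have hJ1 : a * J m = J m * a := by
    have := (hbl ![0, 1, 0]).2
    rw [hd] at this
    simpa [T] using this
  have hJ2 : a * (J m)ᵀ = (J m)ᵀ * a := by
    have := (hbl ![0, 0, 1]).2
    rw [hd] at this
    simpa [T] using this
  have ha := eq_scalar (by omega) a hJ1 hJ2
  set l := a ⟨0, by omega⟩ ⟨0, by omega⟩ with hl
  have hl0 : l ≠ 0 := by
    intro h0
    rw [hb, det_fromBlocks_zero₁₂, ha, h0, zero_smul] at hdet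
    have : Nonempty (Fin m) := ⟨⟨0, by omega⟩⟩
    rw [Matrix.det_zero, zero_mul] at hdet
    exact zero_ne_one hdet
  -- the involution
  obtain ⟨r, hr⟩ := hG' (SemidirectProduct.inr (Multiplicative.ofAdd 1))
  have hne : (Multiplicative.ofAdd (1 : ZMod 2)) ≠ 1 := by decide
  simp [hne, T, fromBlocks_multiply, fromBlocks_smul] at hr
  obtain ⟨hr1, -, hr3, -⟩ := hr
  have h1 : r = 1 := by
    have := congrFun (congrFun hr1 ⟨0, by omega⟩) ⟨0, by omega⟩
    rw [Matrix.smul_apply, smul_eq_mul, ← hl] at this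
    exact mul_right_cancel₀ hl0 (by rw [← this, one_mul])
  rw [h1] at hr3
  have hc : c = 0 := by
    ext i j
    have := congrFun (congrFun hr3 i) j
    simp at this
    have h2 : (2 : ZMod p) ≠ 0 := by
      intro e
      have h2 : ((2 : ℕ) : ZMod p) = 0 := by simpa using e
      rw [CharP.cast_eq_zero_iff (ZMod p) p] at h2
      exact hp2 ((Nat.prime_dvd_prime_iff_eq hp.out Nat.prime_two).mp h2)
    have h3 : (2 : ZMod p) * c i j = 0 := by linear_combination this
    simpa [h2] using h3
  rw [Subgroup.mem_center_iff]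
  intro g
  refine Subtype.ext ?_
  rw [Matrix.SpecialLinearGroup.coe_mul, Matrix.SpecialLinearGroup.coe_mul, ← hM, hb, hc, hd, ha,
    show fromBlocks (l • (1 : Matrix (Fin m) (Fin m) (ZMod p))) 0 0 (l • 1) = l • 1 by
      rw [← fromBlocks_one, fromBlocks_smul, smul_zero],
    map_smul, map_one, mul_smul_comm, smul_mul_assoc, mul_one, one_mul]

/-- For every odd prime `p` there is a finite group `H` of order `2p³` which, for infinitely many `n`, embeds in the projective special linear group `PSL(n, p)` as a subgroup with trivial centralizer. -/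
theorem result
    (p : ℕ) [Fact p.Prime] (hp : p ≠ 2) :
    ∃ (H : Type) (_ : Group H) (_ : Finite H), Nat.card H = 2 * p ^ 3 ∧
      ∀ N : ℕ, ∃ n, N ≤ n ∧ ∃ φ : H →* Matrix.ProjectiveSpecialLinearGroup (Fin n) (ZMod p),
        Function.Injective φ ∧ Subgroup.centralizer (φ.range : Set (Matrix.ProjectiveSpecialLinearGroup (Fin n) (ZMod p))) = ⊥ := by
  refine ⟨V p ⋊[act p] C, inferInstance, Finite.of_equiv _ SemidirectProduct.equivProd.symm,
    ?_, fun N => ?_⟩
  · rw [SemidirectProduct.card, Nat.card_congr Multiplicative.toAdd, Nat.card_fun,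
      Nat.card_congr Multiplicative.toAdd, Nat.card_zmod, Nat.card_zmod, Nat.card_fin, mul_comm]
  obtain ⟨m, hm, hm2, hmN⟩ : ∃ m, Even m ∧ 2 ≤ m ∧ N ≤ m :=
    ⟨2 * (N + 1), even_two_mul _, by omega, by omega⟩
  refine ⟨m + m, by omega, (QuotientGroup.mk' _).comp (rep hm), ?_, ?_⟩
  · refine (injective_iff_map_eq_one _).mpr fun x hx => rep_scalar_free hp hm hm2 x ?_
    exact (QuotientGroup.eq_one_iff _).mp hx
  · refine (Subgroup.eq_bot_iff_forall _).mpr fun g hg => ?_
    obtain ⟨G, rfl⟩ := QuotientGroup.mk'_surjective _ g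
    refine (QuotientGroup.eq_one_iff G).mpr (centralizer_trivial hp hm hm2 G fun x => ?_)
    have h := Subgroup.mem_centralizer_iff.mp hg _ ⟨x, rfl⟩
    rw [MonoidHom.comp_apply, ← map_mul, ← map_mul, QuotientGroup.mk'_eq_mk'] at h
    obtain ⟨z, hz, hzeq⟩ := h
    obtain ⟨r, -, hr⟩ := Matrix.SpecialLinearGroup.mem_center_iff.mp hz
    refine ⟨r, ?_⟩
    have := congrArg Subtype.val hzeq
    simp only [Matrix.SpecialLinearGroup.coe_mul, ← hr] at this
    rw [← this, Matrix.scalar_apply, ← Matrix.smul_one_eq_diagonal, mul_smul_comm, mul_one]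

end Cfsg.Agent.S2533
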