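import Cfsg.Statements.S2534
import Cfsg.Agent.Lib.SymHall.Models

set_option autoImplicit false
open Cfsg

namespace Cfsg.Agent.S2534

open CfsgLib.SymHall Equiv

/-- No conjugate of a Hall subgroup contains `U`. -/
theorem not_dPi_of_sub {n : ℕ} {π : Set ℕ} (hg : Generic π n) (U : Subgroup (Perm (Fin n)))
    (hUA : U ≤ alternatingGroup (Fin n))
    (hU : ∀ p : ℕ, p.Prime → p ∣ Nat.card U → p ∈ π)
    (hno : ∀ M : Subgroup (Perm (Fin n)), IsModel π M → ¬ U ≤ M) :
    ¬ Cfsg.IsDPiGroup π ↥(alternatingGroup (Fin n)) := by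
  intro hD
  obtain ⟨H, hH⟩ := ePi_of_dPi' hD
  obtain ⟨M, hM, rfl⟩ := alt_model hg hH
  have hU' : Cfsg.IsPiSubgroup π (U.subgroupOf (alternatingGroup (Fin n))) := fun p hp hd =>
    hU p hp (by rwa [Nat.card_congr (Subgroup.subgroupOfEquivOfLe hUA).toEquiv] at hd)
  obtain ⟨K, hUK, hK⟩ := exists_maximal_ge hU'
  obtain ⟨g, rfl⟩ := hD _ _ (hall_maximal hH) hK
  refine hno (M.map (MulAut.conj (g : Perm (Fin n))).toMonoidHom) ?_ ?_
  · rcases hM with ⟨h, hn, f, hf, rfl⟩ | ⟨hn, h23, f, hf, rfl⟩ | ⟨hn, h23, f, hf, rfl⟩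
    · exact Or.inl ⟨h, hn, fun x => f ((g : Perm (Fin n))⁻¹ x), by
        rw [← hf]; exact Nat.card_congr ((g : Perm (Fin n))⁻¹.subtypeEquiv fun x => Iff.rfl),
        map_conj_fixFun f _⟩
    · exact Or.inr (Or.inl ⟨hn, h23, fun x => f ((g : Perm (Fin n))⁻¹ x), by
        rw [← hf]; exact Nat.card_congr ((g : Perm (Fin n))⁻¹.subtypeEquiv fun x => Iff.rfl),
        map_conj_fixFun f _⟩)
    · exact Or.inr (Or.inr ⟨hn, h23, fun x => f ((g : Perm (Fin n))⁻¹ x), by
        rw [← hf]; exact Nat.card_congr ((g : Perm (Fin n))⁻¹.subtypeEquiv fun x => Iff.rfl),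
        map_conj_partFun f _⟩)
  · intro u hu
    have h1 := hUK (Subgroup.mem_subgroupOf.mpr (show ((⟨u, hUA hu⟩ : alternatingGroup (Fin n)) : Perm (Fin n)) ∈ U from hu))
    rw [Subgroup.mem_map_equiv, MulAut.conj_symm_apply, Subgroup.mem_subgroupOf] at h1
    rw [Subgroup.mem_map_equiv, MulAut.conj_symm_apply]
    exact h1

/-- The element of order three on six letters. -/
def rot7 : Perm (Fin 7) := swap 0 2 * swap 2 4 * (swap 1 3 * swap 3 5)

/-- A double transposition. -/
def flip7 : Perm (Fin 7) := swap 0 1 * swap 2 3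

/-- The element of order three on six letters. -/
def rot8 : Perm (Fin 8) := swap 0 2 * swap 2 4 * (swap 1 3 * swap 3 5)

/-- A double transposition. -/
def flip8 : Perm (Fin 8) := swap 0 1 * swap 2 3

/-- The partition into pairs of seven letters. -/
def pair7 (i : Fin 7) : Fin 4 := ⟨i.val / 2, by omega⟩

/-- The partition into pairs of eight letters. -/
def pair8 (i : Fin 8) : Fin 4 := ⟨i.val / 2, by omega⟩

theorem no_triple : ∀ f : Fin 7 → Bool, (Finset.univ.filter fun x => f x = true).card = 3 →
    ¬ ((∀ x, f (rot7 x) = f x) ∧ ∀ x, f (flip7 x) = f x) := by decide +kernel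

theorem no_bipartition : ∀ f : Fin 8 → Bool, (Finset.univ.filter fun x => f x = true).card = 4 →
    ¬ ((∀ x y, f (rot8 x) = f (rot8 y) ↔ f x = f y) ∧
      ∀ x y, f (flip8 x) = f (flip8 y) ↔ f x = f y) := by decide +kernel

theorem small_prime {m p : ℕ} (hm : m = 2 ^ 6 * 3 ^ 1 ∨ m = 2 ^ 7 * 3 ^ 1) (hp : p.Prime) (hd : p ∣ m) :
    p = 2 ∨ p = 3 := by
  rcases hm with rfl | rfl <;>
  · rcases hp.dvd_mul.mp hd with h | h
    · exact Or.inl ((Nat.prime_dvd_prime_iff_eq hp Nat.prime_two).mp (hp.dvd_of_dvd_pow h))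
    · exact Or.inr ((Nat.prime_dvd_prime_iff_eq hp Nat.prime_three).mp (hp.dvd_of_dvd_pow h))

/-- For `n ≥ 5` and a set of primes `π`, the alternating group of degree `n` satisfies the full Sylow analogue for `π` (its maximal `π`-subgroups are pairwise conjugate; for a finite group this says Hall `π`-subgroups exist, are all conjugate, and contain every `π`-subgroup up to conjugacy) if and only if either at most one prime of `π` divides its order or every prime dividing its order lies in `π`. -/
theorem result (n : ℕ) (hn : 5 ≤ n) (π : Set ℕ) :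
    Cfsg.IsDPiGroup π ↥(alternatingGroup (Fin n)) ↔
      ((∀ r s : ℕ, r.Prime → s.Prime → r ∈ π → s ∈ π → r ∣ Nat.card ↥(alternatingGroup (Fin n)) → s ∣ Nat.card ↥(alternatingGroup (Fin n)) → r = s) ∨
        ∀ r : ℕ, r.Prime → r ∣ Nat.card ↥(alternatingGroup (Fin n)) → r ∈ π) := by
  constructor
  · intro hD
    by_contra hcon
    push Not at hcon
    obtain ⟨⟨r, s, hr, hs, hrπ, hsπ, hrd, hsd, hrs⟩, t, ht, htd, htπ⟩ := hcon
    have hg : Generic π n := ⟨⟨r, s, hr, hs, hrs, hrπ, hsπ, le_of_dvd_card_alt hr hrd,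
      le_of_dvd_card_alt hs hsd⟩, t, ht, le_of_dvd_card_alt ht htd, htπ⟩
    obtain ⟨H, hH⟩ := ePi_of_dPi' hD
    obtain ⟨M, hM, -⟩ := alt_model hg hH
    rcases (model_exists_iff hg).mp ⟨M, hM⟩ with ⟨hp, hπ⟩ | ⟨rfl | rfl, h23⟩
    · let f2 : Fin n → Bool := fun x => decide ((x : ℕ) < 2)
      have hf2 : Nat.card {x // f2 x = true} = 2 := by
        rw [Nat.card_congr (show {x // f2 x = true} ≃ Fin 2 from
          { toFun := fun x => ⟨x.1, of_decide_eq_true x.2⟩
            invFun := fun i => ⟨⟨i, by omega⟩, decide_eq_true i.2⟩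
            left_inv := fun x => rfl
            right_inv := fun i => rfl }), Nat.card_fin]
      refine not_dPi_of_sub hg (alternatingGroup (Fin n) ⊓ fixFun f2) inf_le_left (fun q hq hd => ?_)
        (fun M hM hle => ?_) hD
      · have h1 := hd.trans (Subgroup.card_dvd_of_le inf_le_right)
        rw [card_fixFun_bool hf2, Nat.card_fin] at h1
        have hqn : q < n := by
          rcases hq.dvd_mul.mp h1 with h | h <;>
          · have := hq.dvd_factorial.mp h
            omega
        exact (hπ q hq hqn.le).mpr hqn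
      · rcases hM with ⟨-, -, f, hf, rfl⟩ | ⟨h7, h23, -⟩ | ⟨h8, -, -⟩
        · obtain ⟨huniq, ⟨x, hx⟩⟩ := Nat.card_eq_one_iff_unique.mp hf
          have hmove : ∀ u : Perm (Fin n), u ∈ alternatingGroup (Fin n) ⊓ fixFun f2 → u x = x :=
            fun u hu => by
              have h1 : f (u x) = true := (hle hu x).trans hx
              exact congrArg Subtype.val (huniq.elim ⟨u x, h1⟩ ⟨x, hx⟩)
          let a : Fin n := ⟨0, by omega⟩
          let b : Fin n := ⟨1, by omega⟩
          have hab : a ≠ b := by simp [a, b, Fin.ext_iff]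
          by_cases hx2 : (x : ℕ) < 2
          · let c : Fin n := ⟨2, by omega⟩
            let d : Fin n := ⟨3, by omega⟩
            have h1 := hmove (swap a b * swap c d) ⟨Perm.mem_alternatingGroup.mpr
              (sign_swap_mul_swap hab (by simp [c, d, Fin.ext_iff])),
              mul_mem (swap_mem_fixFun (by simp [f2, a, b])) (swap_mem_fixFun (by simp [f2, c, d]))⟩
            rw [Perm.mul_apply, swap_apply_of_ne_of_ne (a := c) (b := d)
              (by simp [c, Fin.ext_iff]; omega) (by simp [d, Fin.ext_iff]; omega)] at h1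
            have h2 : x = a ∨ x = b := by
              simp only [Fin.ext_iff, a, b]; omega
            rcases h2 with rfl | rfl
            · rw [swap_apply_left] at h1; exact hab h1.symm
            · rw [swap_apply_right] at h1; exact hab h1
          · let c : Fin n := if (x : ℕ) = 2 then ⟨3, by omega⟩ else ⟨2, by omega⟩
            have hc : 2 ≤ (c : ℕ) ∧ c ≠ x := by
              by_cases h : (x : ℕ) = 2 <;> simp [c, h, Fin.ext_iff] <;> omega
            have h1 := hmove (swap a b * swap x c) ⟨Perm.mem_alternatingGroup.mpr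
              (sign_swap_mul_swap hab hc.2.symm),
              mul_mem (swap_mem_fixFun (by simp [f2, a, b]))
                (swap_mem_fixFun (by simp [f2]; omega))⟩
            rw [Perm.mul_apply, swap_apply_left, swap_apply_of_ne_of_ne
              (by simp [a, Fin.ext_iff]; omega) (by simp [b, Fin.ext_iff]; omega)] at h1
            exact hc.2 h1
        · rw [Nat.card_fin] at h7
          subst h7
          have := (h23 5 (by norm_num) (by norm_num)).mp ((hπ 5 (by norm_num) (by norm_num)).mpr (by norm_num))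
          omega
        · rw [Nat.card_fin] at h8
          exact absurd (h8 ▸ hp) (by norm_num)
    · refine not_dPi_of_sub hg (alternatingGroup (Fin 7) ⊓ partFun pair7) inf_le_left
        (fun q hq hd => ?_) (fun M hM hle => ?_) hD
      · have h1 := (hd.trans (Subgroup.card_dvd_of_le inf_le_right)).trans
          (card_partFun_dvd pair7 (by decide))
        rw [card_fixFun] at h1
        simp only [Nat.card_eq_fintype_card] at h1
        have h2 : q = 2 ∨ q = 3 := small_prime (Or.inl (by decide +kernel)) hq h1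
        exact (h23 q hq (by omega)).mpr h2
      · rcases hM with ⟨⟨-, hπ⟩, -⟩ | ⟨-, -, f, hf, rfl⟩ | ⟨h8, -⟩
        · rw [Nat.card_fin] at hπ
          have := (h23 5 (by norm_num) (by norm_num)).mp ((hπ 5 (by norm_num) (by norm_num)).mpr (by norm_num))
          omega
        · refine no_triple f ?_ ⟨hle ⟨?_, ?_⟩, hle ⟨?_, ?_⟩⟩
          · rw [← Fintype.card_subtype, ← Nat.card_eq_fintype_card, hf]
          · exact Perm.mem_alternatingGroup.mpr (by decide)
          · exact mem_partFun.mpr (by decide)
          · exact Perm.mem_alternatingGroup.mpr (by decide)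
          · exact mem_partFun.mpr (by decide)
        · simp at h8
    · refine not_dPi_of_sub hg (alternatingGroup (Fin 8) ⊓ partFun pair8) inf_le_left
        (fun q hq hd => ?_) (fun M hM hle => ?_) hD
      · have h1 := (hd.trans (Subgroup.card_dvd_of_le inf_le_right)).trans
          (card_partFun_dvd pair8 (by decide))
        rw [card_fixFun] at h1
        simp only [Nat.card_eq_fintype_card] at h1
        have h2 : q = 2 ∨ q = 3 := small_prime (Or.inr (by decide +kernel)) hq h1
        exact (h23 q hq (by omega)).mpr h2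
      · rcases hM with ⟨⟨hp, -⟩, -⟩ | ⟨h7, -⟩ | ⟨-, -, f, hf, rfl⟩
        · rw [Nat.card_fin] at hp
          exact absurd hp (by norm_num)
        · simp at h7
        · refine no_bipartition f ?_ ⟨hle ⟨?_, ?_⟩, hle ⟨?_, ?_⟩⟩
          · rw [← Fintype.card_subtype, ← Nat.card_eq_fintype_card, hf]
          · exact Perm.mem_alternatingGroup.mpr (by decide)
          · exact mem_partFun.mpr (by decide)
          · exact Perm.mem_alternatingGroup.mpr (by decide)
          · exact mem_partFun.mpr (by decide)
  · rintro (h | h)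
    · exact (one_prime h).2.1
    · exact (all_primes h).2.1

end Cfsg.Agent.S2534
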