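import Cfsg.Statements.S2535
import Cfsg.Agent.Lib.SymHall.Models

set_option autoImplicit false
open Cfsg

namespace Cfsg.Agent.S2535

open CfsgLib.SymHall


/-- For every `n` and every set of primes `π`, the following are equivalent for the symmetric group `S` of degree `n` and its alternating subgroup `A`: `S` has a Hall `π`-subgroup; `S` has a Hall `π`-subgroup and all of them are conjugate; `A` has a Hall `π`-subgroup; `A` has a Hall `π`-subgroup and all of them are conjugate. -/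
theorem result (n : ℕ) (π : Set ℕ) :
    (Cfsg.IsEPiGroup π (Equiv.Perm (Fin n)) ↔ Cfsg.IsCPiGroup π (Equiv.Perm (Fin n))) ∧
    (Cfsg.IsEPiGroup π (Equiv.Perm (Fin n)) ↔ Cfsg.IsEPiGroup π ↥(alternatingGroup (Fin n))) ∧
    (Cfsg.IsEPiGroup π ↥(alternatingGroup (Fin n)) ↔ Cfsg.IsCPiGroup π ↥(alternatingGroup (Fin n))) := by
  have hSA : IsEPiGroup π (Equiv.Perm (Fin n)) → IsEPiGroup π ↥(alternatingGroup (Fin n)) :=
    fun ⟨H, hH⟩ => ⟨_, CfsgLib.OddConseq.piHall_inf_normal hH (alternatingGroup (Fin n))⟩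
  rcases trichotomy π n with h | h | hg
  · have hS := all_primes (X := Equiv.Perm (Fin n)) fun p hp hd => h p hp ((dvd_card_perm_iff hp).mp hd)
    have hA := all_primes (X := alternatingGroup (Fin n)) fun p hp hd => h p hp (le_of_dvd_card_alt hp hd)
    exact ⟨⟨fun hE => isCPi_of_dPi hE hS.2.1, fun hC => hC.1⟩, ⟨hSA, fun _ => ⟨_, hS.1⟩⟩,
      ⟨fun hE => isCPi_of_dPi hE hA.2.1, fun hC => hC.1⟩⟩
  · have hS := one_prime (X := Equiv.Perm (Fin n)) fun r s hr hs hrπ hsπ hrd hsd =>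
      h r s hr hs hrπ hsπ ((dvd_card_perm_iff hr).mp hrd) ((dvd_card_perm_iff hs).mp hsd)
    have hA := one_prime (X := alternatingGroup (Fin n)) fun r s hr hs hrπ hsπ hrd hsd =>
      h r s hr hs hrπ hsπ (le_of_dvd_card_alt hr hrd) (le_of_dvd_card_alt hs hsd)
    exact ⟨⟨fun hE => isCPi_of_dPi hE hS.2.1, fun hC => hC.1⟩, ⟨hSA, fun _ => hS.1⟩,
      ⟨fun hE => isCPi_of_dPi hE hA.2.1, fun hC => hC.1⟩⟩
  · refine ⟨⟨fun hE => ⟨hE, ?_⟩, fun hC => hC.1⟩, ⟨hSA, ?_⟩, ⟨fun hE => ⟨hE, ?_⟩, fun hC => hC.1⟩⟩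
    · intro H K hH hK
      obtain ⟨M, hM, rfl⟩ := hall_is_model hg le_top (isPiHallOf_top.mpr hH)
      obtain ⟨M', hM', rfl⟩ := hall_is_model hg le_top (isPiHallOf_top.mpr hK)
      obtain ⟨g, -, he⟩ := model_conj hM hM'
      exact ⟨g, by rw [inf_top_eq, inf_top_eq, he]⟩
    · rintro ⟨H, hH⟩
      obtain ⟨M, hM, -⟩ := alt_model hg hH
      exact ⟨M, model_hall hM⟩
    · intro H K hH hK
      obtain ⟨M, hM, rfl⟩ := alt_model hg hH
      obtain ⟨M', hM', rfl⟩ := alt_model hg hK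
      obtain ⟨g, hgA, rfl⟩ := model_conj hM hM'
      refine ⟨⟨g, hgA⟩, ?_⟩
      ext x
      rw [Subgroup.mem_subgroupOf, Subgroup.mem_map_equiv, Subgroup.mem_map_equiv, Subgroup.mem_subgroupOf,
        MulAut.conj_symm_apply, MulAut.conj_symm_apply]
      rfl

end Cfsg.Agent.S2535
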