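import Cfsg.Statements.S2537
import Cfsg.Agent.Lib.SL2.Tri
import Cfsg.Agent.Lib.SL2.Overgroups
import Cfsg.Agent.Lib.Hall.Basic
import Cfsg.Agent.Lib.OrderType.Count
-- import your own Cfsg.Agent.* helpers here

set_option autoImplicit false
open Cfsg

namespace Cfsg.Agent.S2537

variable {F : Type*} [Field F] [Fintype F] {p : ℕ} [Fact p.Prime] [CharP F p]

local notation "PSL" => Matrix.ProjectiveSpecialLinearGroup (Fin 2) F

theorem card_facts (hp : 5 ≤ p) {q : ℕ} (hq : Fintype.card F = q) :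
    2 * Nat.card PSL = q * ((q - 1) * (q + 1)) ∧ Odd q ∧ ¬ 3 ∣ q ∧ 5 ≤ q ∧
      (q - 1) * (q + 1) = q ^ 2 - 1 ∧ ∃ k, 0 < k ∧ q = p ^ k := by
  obtain ⟨k, hpp, hk⟩ := FiniteField.card F p
  rw [hq] at hk
  have hodd : Odd q := hk ▸ (hpp.odd_of_ne_two (by omega)).pow
  have h3 : ¬ 3 ∣ q := fun h => by
    rw [hk] at h
    exact absurd ((Nat.prime_dvd_prime_iff_eq Nat.prime_three hpp).mp
      (Nat.prime_three.dvd_of_dvd_pow h)) (by omega)
  have h5 : 5 ≤ q := by
    rw [hk]
    exact hp.trans (Nat.le_self_pow k.pos.ne' p)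
  refine ⟨?_, hodd, h3, h5, ?_, k, k.pos, hk⟩
  · have h := CfsgLib.SL2.card_PSL (F := F)
    rw [Nat.card_eq_fintype_card (α := F), hq] at h
    obtain ⟨m, hm⟩ := hodd
    rw [show Nat.gcd 2 (q - 1) = 2 from Nat.gcd_eq_left ⟨m, by omega⟩] at h
    exact h
  · rw [mul_comm, ← Nat.sq_sub_sq, one_pow]

theorem hall_iff (hp : 5 ≤ p) {q : ℕ} (hq : Fintype.card F = q) (H : Subgroup PSL) :
    Cfsg.IsPiHall ({2, 3} : Set ℕ) H ↔
      (∀ r : ℕ, r.Prime → r ∣ Nat.card H → r = 2 ∨ r = 3) ∧
      (Nat.card H).factorization 2 + 1 = (q ^ 2 - 1).factorization 2 ∧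
      (Nat.card H).factorization 3 = (q ^ 2 - 1).factorization 3 := by
  obtain ⟨hG, hodd, h3, h5, hE, -⟩ := card_facts (F := F) hp hq
  have hmul := H.card_mul_index
  have hH0 : Nat.card H ≠ 0 := Nat.card_pos.ne'
  have hI0 : H.index ≠ 0 := Subgroup.index_ne_zero_of_finite
  have hE0 : q ^ 2 - 1 ≠ 0 := by
    have : 2 ≤ q ^ 2 := by nlinarith
    omega
  rw [hE, ← hmul] at hG
  have hfac := congrArg Nat.factorization hG
  rw [Nat.factorization_mul two_ne_zero (mul_ne_zero hH0 hI0), Nat.factorization_mul hH0 hI0,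
    Nat.factorization_mul (by omega) hE0] at hfac
  have e2 := DFunLike.congr_fun hfac 2
  have e3 := DFunLike.congr_fun hfac 3
  have q2 : q.factorization 2 = 0 := Nat.factorization_eq_zero_of_not_dvd fun h => by
    obtain ⟨m, hm⟩ := hodd; omega
  have q3 : q.factorization 3 = 0 := Nat.factorization_eq_zero_of_not_dvd h3
  have t2 : (2 : ℕ).factorization 2 = 1 := Nat.prime_two.factorization_self
  have t3 : (2 : ℕ).factorization 3 = 0 := Nat.factorization_eq_zero_of_not_dvd (by norm_num)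
  simp only [Finsupp.add_apply, q2, q3, t2, t3, zero_add] at e2 e3
  have i2 : H.index.factorization 2 = 0 ↔ ¬ 2 ∣ H.index := by
    rw [Nat.factorization_eq_zero_iff]; simp [Nat.prime_two, hI0]
  have i3 : H.index.factorization 3 = 0 ↔ ¬ 3 ∣ H.index := by
    rw [Nat.factorization_eq_zero_iff]; simp [Nat.prime_three, hI0]
  constructor
  · rintro ⟨h1, h2⟩
    have a2 := i2.mpr (h2 2 Nat.prime_two (Or.inl rfl))
    have a3 := i3.mpr (h2 3 Nat.prime_three (Or.inr rfl))
    exact ⟨fun r hr hd => h1 r hr hd, by omega, by omega⟩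
  · rintro ⟨h1, h2, h3'⟩
    refine ⟨fun r hr hd => h1 r hr hd, ?_⟩
    rintro r hr (rfl | rfl)
    · exact i2.mp (by omega)
    · exact i3.mp (by omega)

theorem hall_of_solvable (hp : 5 ≤ p) {q : ℕ} (hq : Fintype.card F = q) (D : Subgroup PSL)
    [Group.IsSolvable D] {d : ℕ} (hD : Nat.card D = d)
    (h2 : d.factorization 2 + 1 = (q ^ 2 - 1).factorization 2)
    (h3 : d.factorization 3 = (q ^ 2 - 1).factorization 3) :
    ∃ H : Subgroup PSL, Cfsg.IsPiHall ({2, 3} : Set ℕ) H := by
  have hd0 : d ≠ 0 := hD ▸ Nat.card_pos.ne'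
  have hcop : Nat.Coprime (2 ^ d.factorization 2) (3 ^ d.factorization 3) :=
    Nat.Coprime.pow _ _ (by norm_num)
  have hdiv : 2 ^ d.factorization 2 * 3 ^ d.factorization 3 ∣ d :=
    hcop.mul_dvd_of_dvd_of_dvd (Nat.ordProj_dvd d 2) (Nat.ordProj_dvd d 3)
  obtain ⟨n, hn⟩ := hdiv
  have hfac := congrArg Nat.factorization hn
  have hn0 : n ≠ 0 := fun h => hd0 (by rw [hn, h, mul_zero])
  rw [Nat.factorization_mul (by positivity) hn0, Nat.factorization_mul (by positivity) (by positivity),
    Nat.Prime.factorization_pow Nat.prime_two, Nat.Prime.factorization_pow Nat.prime_three] at hfac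
  have n2 : ¬ 2 ∣ n := fun h => by
    have := DFunLike.congr_fun hfac 2
    simp [Finsupp.single_apply] at this
    have := Nat.prime_two.factorization_pos_of_dvd hn0 h
    omega
  have n3 : ¬ 3 ∣ n := fun h => by
    have := DFunLike.congr_fun hfac 3
    simp [Finsupp.single_apply] at this
    have := Nat.prime_three.factorization_pos_of_dvd hn0 h
    omega
  obtain ⟨H, hH⟩ := CfsgLib.Hall.exists_hall (G := D) (hD.trans hn) (Nat.Coprime.mul_left
    (Nat.Coprime.pow_left _ ((Nat.prime_two.coprime_iff_not_dvd).mpr n2))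
    (Nat.Coprime.pow_left _ ((Nat.prime_three.coprime_iff_not_dvd).mpr n3)))
  have hc : Nat.card (H.map D.subtype) = 2 ^ d.factorization 2 * 3 ^ d.factorization 3 := by
    rw [Subgroup.card_map_of_injective D.subtype_injective, hH]
  refine ⟨H.map D.subtype, (hall_iff hp hq _).mpr ⟨fun r hr hd => ?_, ?_, ?_⟩⟩
  · rw [hc] at hd
    rcases hr.dvd_mul.mp hd with h | h
    · exact Or.inl ((Nat.prime_dvd_prime_iff_eq hr Nat.prime_two).mp (hr.dvd_of_dvd_pow h))
    · exact Or.inr ((Nat.prime_dvd_prime_iff_eq hr Nat.prime_three).mp (hr.dvd_of_dvd_pow h))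
  all_goals
    rw [hc, Nat.factorization_mul (by positivity) (by positivity),
      Nat.Prime.factorization_pow Nat.prime_two, Nat.Prime.factorization_pow Nat.prime_three]
    simp [Finsupp.single_apply, h2, h3]

theorem fac24 : (12 : ℕ).factorization 2 = 2 ∧ (12 : ℕ).factorization 3 = 1 ∧
    (24 : ℕ).factorization 2 = 3 ∧ (24 : ℕ).factorization 3 = 1 := by
  refine ⟨?_, ?_, ?_, ?_⟩
  all_goals
    first
    | rw [show (12 : ℕ) = 2 ^ 2 * 3 by norm_num]
    | rw [show (24 : ℕ) = 2 ^ 3 * 3 by norm_num]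
    rw [Nat.factorization_mul (by norm_num) (by norm_num), Nat.Prime.factorization_pow Nat.prime_two,
      Nat.prime_three.factorization]
    simp [Finsupp.single_apply]

theorem solve_pow {a b : ℕ} :
    (2 ^ a * 3 ^ b = 24 → a = 3 ∧ b = 1) ∧ (2 ^ a * 3 ^ b = 48 → a = 4 ∧ b = 1) := by
  constructor <;> intro h
  all_goals
    have ha : a < 6 := by
      by_contra h'
      have : 2 ^ 6 ≤ 2 ^ a * 3 ^ b :=
        (Nat.pow_le_pow_right two_pos (by omega)).trans (Nat.le_mul_of_pos_right _ (by positivity))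
      omega
    have hb : b < 4 := by
      by_contra h'
      have : 3 ^ 4 ≤ 2 ^ a * 3 ^ b :=
        (Nat.pow_le_pow_right (by norm_num) (by omega)).trans (Nat.le_mul_of_pos_left _ (by positivity))
      omega
    interval_cases a <;> interval_cases b <;> simp_all

theorem two_or_three {r : ℕ} (hr : r.Prime) (hd : r ∣ 2 ^ 4 * 3) : r = 2 ∨ r = 3 := by
  rcases hr.dvd_mul.mp hd with h | h
  · exact Or.inl ((Nat.prime_dvd_prime_iff_eq hr Nat.prime_two).mp (hr.dvd_of_dvd_pow h))
  · exact Or.inr ((Nat.prime_dvd_prime_iff_eq hr Nat.prime_three).mp h)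

theorem three_cases {n : ℕ} (h : ¬ 3 ∣ n) (h1 : 1 ≤ n) : 3 ∣ n - 1 ∨ 3 ∣ n + 1 := by omega

theorem main (hp : 5 ≤ p) {q : ℕ} (hq : Fintype.card F = q) :
    (∃ H : Subgroup PSL, Cfsg.IsPiHall ({2, 3} : Set ℕ) H) ↔
      (3 ∣ q - 1 ∧ q % 4 = 1) ∨ (3 ∣ q + 1 ∧ q % 4 = 3) ∨
        2 ^ (q ^ 2 - 1).factorization 2 * 3 ^ (q ^ 2 - 1).factorization 3 = 24 ∨
        2 ^ (q ^ 2 - 1).factorization 2 * 3 ^ (q ^ 2 - 1).factorization 3 = 48 := by
  obtain ⟨hG, hodd, h3, h5, hE, k, hk0, hqk⟩ := card_facts (F := F) hp hq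
  have hcF : Nat.card F = q := by rw [Nat.card_eq_fintype_card, hq]
  have hoddF : Odd (Nat.card F) := hcF ▸ hodd
  have hdd : CfsgLib.SL2.dd F = 2 := CfsgLib.SL2.dd_of_odd hoddF
  obtain ⟨m, hm⟩ := id hodd
  have hfE := congrArg Nat.factorization hE
  rw [Nat.factorization_mul (by omega) (by omega)] at hfE
  have f2 := DFunLike.congr_fun hfE 2
  have f3 := DFunLike.congr_fun hfE 3
  simp only [Finsupp.add_apply] at f2 f3
  have hq1 : q - 1 ≠ 0 := by omega
  have p2a : 0 < (q - 1).factorization 2 :=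
    Nat.prime_two.factorization_pos_of_dvd hq1 ⟨m, by omega⟩
  have p2b : 0 < (q + 1).factorization 2 :=
    Nat.prime_two.factorization_pos_of_dvd (by omega) ⟨m + 1, by omega⟩
  have f4 : ∀ n : ℕ, n ≠ 0 → 2 ∣ n → ((n.factorization 2 = 1) ↔ ¬ 4 ∣ n) := by
    intro n hn h2n
    have h1 := Nat.prime_two.factorization_pos_of_dvd hn h2n
    rw [show (4 : ℕ) = 2 ^ 2 by norm_num, Nat.prime_two.pow_dvd_iff_le_factorization hn]
    omega
  have f4a := f4 (q - 1) hq1 ⟨m, by omega⟩
  have f4b := f4 (q + 1) (by omega) ⟨m + 1, by omega⟩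
  have z3a : ¬ 3 ∣ q - 1 → (q - 1).factorization 3 = 0 := Nat.factorization_eq_zero_of_not_dvd
  have z3b : ¬ 3 ∣ q + 1 → (q + 1).factorization 3 = 0 := Nat.factorization_eq_zero_of_not_dvd
  obtain ⟨t12a, t12b, t24a, t24b⟩ := fac24
  constructor
  · rintro ⟨H, hH⟩
    obtain ⟨hpr, hv2, hv3⟩ := (hall_iff hp hq H).mp hH
    have hH0 : Nat.card H ≠ 0 := Nat.card_pos.ne'
    have hle : ∀ n : ℕ, n ≠ 0 → Nat.card H ∣ n → ∀ r, (Nat.card H).factorization r ≤ n.factorization r :=
      fun n hn hd r => (Nat.factorization_le_iff_dvd hH0 hn).mpr hd r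
    rcases CfsgLib.SL2.dickson p H with ⟨c, -, hc, hcase⟩ | ⟨g, hg⟩ | ⟨⟨e⟩⟩ | ⟨⟨e⟩⟩ | ⟨⟨e⟩⟩ | hsub
    · have hHo : Nat.card H ∣ 2 * orderOf c := by
        rcases hcase with ⟨-, h⟩ | ⟨⟨e⟩⟩
        · exact h ▸ dvd_mul_left _ _
        · rw [Nat.card_congr e.toEquiv, DihedralGroup.nat_card]
      have hor := CfsgLib.SL2.orderOf_dvd_torus_orders p c hc
      rw [hcF, show Nat.gcd 2 (q - 1) = 2 from Nat.gcd_eq_left ⟨m, by omega⟩] at hor
      rcases hor with h | h
      · right; left
        have hd : Nat.card H ∣ q + 1 := by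
          refine hHo.trans ?_
          rw [← Nat.mul_div_cancel' (show 2 ∣ q + 1 from ⟨m + 1, by omega⟩)]
          exact mul_dvd_mul_left 2 h
        have a := hle _ (by omega) hd 2
        have b := hle _ (by omega) hd 3
        have hm1 : (q - 1).factorization 2 = 1 := by omega
        have := f4a.mp hm1
        refine ⟨?_, by omega⟩
        by_contra hn
        have h3d : 3 ∣ q - 1 := (three_cases h3 (by omega)).resolve_right hn
        have := Nat.prime_three.factorization_pos_of_dvd hq1 h3d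
        have := z3b hn
        omega
      · left
        have hd : Nat.card H ∣ q - 1 := by
          refine hHo.trans ?_
          rw [← Nat.mul_div_cancel' (show 2 ∣ q - 1 from ⟨m, by omega⟩)]
          exact mul_dvd_mul_left 2 h
        have a := hle _ hq1 hd 2
        have b := hle _ hq1 hd 3
        have hm1 : (q + 1).factorization 2 = 1 := by omega
        have := f4b.mp hm1
        refine ⟨?_, by omega⟩
        by_contra hn
        have h3d : 3 ∣ q + 1 := (three_cases h3 (by omega)).resolve_left hn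
        have := Nat.prime_three.factorization_pos_of_dvd (by omega) h3d
        have := z3a hn
        omega
    · exfalso
      have hle' : H.map (MulAut.conj g).toMonoidHom ≤ CfsgLib.SL2.borelPSL F := by
        rintro _ ⟨h, hh, rfl⟩
        exact hg h hh
      have hB := CfsgLib.SL2.card_borelPSL (F := F)
      rw [hdd, hcF] at hB
      have hd : 2 * Nat.card H ∣ q * (q - 1) := by
        rw [← hB]
        refine mul_dvd_mul_left 2 ?_
        rw [← Subgroup.card_map_of_injective (f := (MulAut.conj g).toMonoidHom) (MulAut.conj g).injective]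
        exact Subgroup.card_dvd_of_le hle'
      have h := (Nat.factorization_le_iff_dvd (mul_ne_zero two_ne_zero hH0)
        (mul_ne_zero (by omega) hq1)).mpr hd 2
      rw [Nat.factorization_mul two_ne_zero hH0, Nat.factorization_mul (by omega) hq1,
        Finsupp.add_apply, Finsupp.add_apply, Nat.prime_two.factorization_self,
        Nat.factorization_eq_zero_of_not_dvd (show ¬ 2 ∣ q by omega)] at h
      omega
    · right; right; left
      rw [Nat.card_congr e.toEquiv, nat_card_alternatingGroup, Nat.card_fin] at hv2 hv3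
      rw [show Nat.factorial 4 / 2 = 12 from rfl] at hv2 hv3
      rw [← hv2, ← hv3, t12a, t12b]
      norm_num
    · right; right; right
      rw [Nat.card_congr e.toEquiv, Nat.card_perm, Nat.card_fin] at hv2 hv3
      rw [show Nat.factorial 4 = 24 from rfl] at hv2 hv3
      rw [← hv2, ← hv3, t24a, t24b]
      norm_num
    · exfalso
      have h5d : 5 ∣ Nat.card H := by
        rw [Nat.card_congr e.toEquiv, nat_card_alternatingGroup, Nat.card_fin]
        decide
      rcases hpr 5 Nat.prime_five h5d with h | h <;> omega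
    · exfalso
      obtain ⟨K, _, _, j, hj, hK⟩ := hsub
      rw [hcF] at hj
      have hj0 : j ≠ 0 := fun h => by rw [h, pow_zero] at hj; omega
      have hpK : p ∣ Nat.card K := by
        rw [Nat.card_eq_fintype_card]
        exact (Fact.out : p.Prime).dvd_of_dvd_pow (hj ▸ hqk ▸ dvd_pow_self p hk0.ne')
      have hGK := CfsgLib.SL2.card_PSL (F := K)
      have hpp : p ∣ Nat.card (Matrix.ProjectiveSpecialLinearGroup (Fin 2) K) := by
        have h1 : p ∣ Nat.gcd 2 (Nat.card K - 1) *
            Nat.card (Matrix.ProjectiveSpecialLinearGroup (Fin 2) K) := hGK ▸ dvd_mul_of_dvd_left hpK _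
        rcases (Fact.out : p.Prime).dvd_mul.mp h1 with h | h
        · exact absurd (Nat.le_of_dvd two_pos (h.trans (Nat.gcd_dvd_left _ _))) (by omega)
        · exact h
      have hpH : p ∣ Nat.card H := by
        rcases hK with ⟨⟨e⟩⟩ | ⟨⟨e⟩⟩
        · rwa [Nat.card_congr e.toEquiv]
        · rw [Nat.card_congr e.toEquiv]
          exact hpp.trans (Subgroup.card_dvd_of_injective Matrix.ProjectiveSpecialLinearGroup.toPGL
            Matrix.ProjectiveSpecialLinearGroup.toPGL_injective)
      rcases hpr p Fact.out hpH with h | h <;> omega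
  · rintro (⟨h31, h4⟩ | ⟨h31, h4⟩ | h | h)
    · obtain ⟨c, hc, -, hT⟩ := CfsgLib.SL2.exists_semi_pred (F := F) p (by omega)
      set T := Subgroup.normalizer (CfsgLib.SL2.torus c : Set PSL) with hTdef
      obtain ⟨e⟩ := CfsgLib.SL2.nonempty_normalizer_torus_dihedral p hc
      haveI := CfsgLib.OrderType.isSolvable_dihedral (Nat.card (CfsgLib.SL2.torus c))
      haveI : Group.IsSolvable T := solvable_of_solvable_injective (f := e.toMonoidHom) e.injective
      have hTc : Nat.card T = q - 1 := by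
        rw [hTdef, CfsgLib.SL2.card_normalizer_torus p hc, hT, hdd, hcF, Nat.mul_div_cancel' ⟨m, by omega⟩]
      have hm1 : (q + 1).factorization 2 = 1 := f4b.mpr (by omega)
      have := z3b (by omega)
      exact hall_of_solvable hp hq T hTc (by omega) (by omega)
    · obtain ⟨c, hc, -, hT⟩ := CfsgLib.SL2.exists_semi_succ (F := F) p
      set T := Subgroup.normalizer (CfsgLib.SL2.torus c : Set PSL) with hTdef
      obtain ⟨e⟩ := CfsgLib.SL2.nonempty_normalizer_torus_dihedral p hc
      haveI := CfsgLib.OrderType.isSolvable_dihedral (Nat.card (CfsgLib.SL2.torus c))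
      haveI : Group.IsSolvable T := solvable_of_solvable_injective (f := e.toMonoidHom) e.injective
      have hTc : Nat.card T = q + 1 := by
        rw [hTdef, CfsgLib.SL2.card_normalizer_torus p hc, hT, hdd, hcF, Nat.mul_div_cancel' ⟨m + 1, by omega⟩]
      have hm1 : (q - 1).factorization 2 = 1 := f4a.mpr (by omega)
      have := z3a (by omega)
      exact hall_of_solvable hp hq T hTc (by omega) (by omega)
    · obtain ⟨ha, hb⟩ := solve_pow.1 h
      obtain ⟨H, ⟨e⟩⟩ := CfsgLib.SL2.exists_alternating_four hoddF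
      refine ⟨H, (hall_iff hp hq H).mpr ?_⟩
      rw [Nat.card_congr e.toEquiv, nat_card_alternatingGroup, Nat.card_fin,
        show Nat.factorial 4 / 2 = 12 from rfl, ha, hb, t12a, t12b]
      refine ⟨fun r hr hd => ?_, rfl, rfl⟩
      exact two_or_three hr (hd.trans (by norm_num : _ ∣ 2 ^ 4 * 3))
    · obtain ⟨ha, hb⟩ := solve_pow.2 h
      have hsq : IsSquare (2 : F) := by
        rw [FiniteField.isSquare_two_iff, hq]
        have h16 : 2 ^ 4 ∣ q ^ 2 - 1 := ha ▸ Nat.ordProj_dvd _ _
        constructor <;> intro h8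
        all_goals
          have hq8 : q = 8 * (q / 8) + q % 8 := (Nat.div_add_mod q 8).symm
          rw [h8] at hq8
          generalize q / 8 = s at hq8
          rw [hq8] at h16
          have : ∃ u, (8 * s + q % 8) ^ 2 - 1 = 16 * u + 8 := by
            rw [h8]
            first
            | exact ⟨4 * s ^ 2 + 3 * s, by ring_nf; omega⟩
            | exact ⟨4 * s ^ 2 + 5 * s + 1, by ring_nf; omega⟩
          rw [h8] at this
          omega
      obtain ⟨s, hs⟩ := hsq
      obtain ⟨H, ⟨e⟩⟩ := CfsgLib.SL2.exists_perm_four_of_sq hoddF hs.symm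
      refine ⟨H, (hall_iff hp hq H).mpr ?_⟩
      rw [Nat.card_congr e.toEquiv, Nat.card_perm, Nat.card_fin,
        show Nat.factorial 4 = 24 from rfl, ha, hb, t24a, t24b]
      refine ⟨fun r hr hd => ?_, rfl, rfl⟩
      exact two_or_three hr (hd.trans (by norm_num : _ ∣ 2 ^ 4 * 3))

/-- Let `F` be a finite field with `q` elements of characteristic `p ≥ 5`, and `ε = 1` if `q ≡ 1 (mod 4)`, `ε = -1` otherwise. Then `PSL(2, F)` has a Hall `{2, 3}`-subgroup if and only if `3` divides `q − ε`, or the `{2,3}`-part of `q² − 1` is 24, or the `{2,3}`-part of `q² − 1` is 48 (the `{2,3}`-part of `m` being the largest divisor of `m` with no prime factor other than 2 and 3). -/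
theorem result {F : Type*} [Field F] [Fintype F] {p : ℕ} [Fact p.Prime] [CharP F p]
    (hp : 5 ≤ p) (q : ℕ) (hq : Fintype.card F = q) :
    (∃ H : Subgroup (Matrix.ProjectiveSpecialLinearGroup (Fin 2) F), Cfsg.IsPiHall ({2, 3} : Set ℕ) H) ↔
      (3 ∣ q - 1 ∧ q % 4 = 1) ∨ (3 ∣ q + 1 ∧ q % 4 = 3) ∨
        2 ^ (q ^ 2 - 1).factorization 2 * 3 ^ (q ^ 2 - 1).factorization 3 = 24 ∨
        2 ^ (q ^ 2 - 1).factorization 2 * 3 ^ (q ^ 2 - 1).factorization 3 = 48 := by
  exact main hp hq

end Cfsg.Agent.S2537
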