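import Cfsg.Statements.S2538
import Cfsg.Agent.Lib.SymHall.Models

set_option autoImplicit false
open Cfsg

namespace Cfsg.Agent.S2538

open CfsgLib.SymHall


/-- For every `n` and every set of primes `π`, a subgroup of the alternating group of degree `n` is a Hall `π`-subgroup of it if and only if it is the intersection with the alternating group of some Hall `π`-subgroup of the symmetric group of degree `n`. -/
theorem result (n : ℕ) (π : Set ℕ)
    (M : Subgroup ↥(alternatingGroup (Fin n))) :
    Cfsg.IsPiHall π M ↔ ∃ M₀ : Subgroup (Equiv.Perm (Fin n)), Cfsg.IsPiHall π M₀ ∧ M = M₀.subgroupOf (alternatingGroup (Fin n)) := by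
  constructor
  · intro hM
    rcases trichotomy π n with h | h | hg
    · refine ⟨⊤, (all_primes fun p hp hd => h p hp ((dvd_card_perm_iff hp).mp hd)).1, ?_⟩
      rw [Subgroup.top_subgroupOf]
      exact (all_primes fun p hp hd => h p hp (le_of_dvd_card_alt hp hd)).2.2 M hM
    · obtain ⟨M₀, hle, hM₀⟩ := (one_prime (X := Equiv.Perm (Fin n))
        fun r s hr hs hrπ hsπ hrd hsd => h r s hr hs hrπ hsπ ((dvd_card_perm_iff hr).mp hrd)
          ((dvd_card_perm_iff hs).mp hsd)).2.2
        (M.map (alternatingGroup (Fin n)).subtype) (isPiHallOf_map_alt hM).2.1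
      refine ⟨M₀, hM₀, ?_⟩
      have he := hall_eq_inf (isPiHallOf_map_alt hM) hM₀.1 hle
      rw [← Subgroup.inf_subgroupOf_right, ← he, Subgroup.subgroupOf,
        Subgroup.comap_map_eq_self_of_injective (Subgroup.subtype_injective _)]
    · obtain ⟨M₀, h₀, he⟩ := alt_model hg hM
      exact ⟨M₀, model_hall h₀, he⟩
  · rintro ⟨M₀, h₀, rfl⟩
    rw [← Subgroup.inf_subgroupOf_right]
    exact CfsgLib.OddConseq.piHall_inf_normal h₀ _

end Cfsg.Agent.S2538
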