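import Cfsg.Statements.S2540
import Cfsg.Agent.Lib.Classical.Transvection

set_option autoImplicit false
open Cfsg

namespace Cfsg.Agent.S2540

/-- Let F be a finite field and n ≥ 1, excluding the case n = 2 with #F ≤ 3. A subgroup of GL_n(F) that is normalized by every element of SL_n(F) either consists of scalar matrices or contains SL_n(F). -/
theorem result {F : Type*} [Field F] [Fintype F] (n : ℕ) (hn : 1 ≤ n) (hex : ¬ (n = 2 ∧ Fintype.card F ≤ 3)) (G : Subgroup (Matrix.GeneralLinearGroup (Fin n) F)) (hG : ∀ s : Matrix.SpecialLinearGroup (Fin n) F, ∀ g ∈ G, (Matrix.SpecialLinearGroup.toGL s) * g * (Matrix.SpecialLinearGroup.toGL s)⁻¹ ∈ G) : (∀ g ∈ G, ∃ c : F, (g : Matrix (Fin n) (Fin n) F) = c • (1 : Matrix (Fin n) (Fin n) F)) ∨ (Matrix.SpecialLinearGroup.toGL : Matrix.SpecialLinearGroup (Fin n) F →* _).range ≤ G := by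
  classical
  rcases Nat.lt_or_ge n 2 with hn1 | hn2
  · obtain rfl : n = 1 := by omega
    refine Or.inl fun g _ => ⟨(g : Matrix (Fin 1) (Fin 1) F) 0 0, ?_⟩
    ext i j
    rw [Subsingleton.elim i 0, Subsingleton.elim j 0]
    simp
  have : Nontrivial (Fin n) := Fin.nontrivial_iff_two_le.2 hn2
  have hP : 3 ≤ Fintype.card (Fin n) ∨ ∃ x : F, x ≠ 0 ∧ x ^ 2 ≠ 1 := by
    rw [Fintype.card_fin]
    by_cases h3 : 3 ≤ n
    · exact Or.inl h3
    right
    by_contra hc
    push Not at hc
    refine hex ⟨by omega, ?_⟩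
    have hsub : (Finset.univ : Finset F) ⊆ {0, 1, -1} := fun x _ => by
      rcases eq_or_ne x 0 with h | h
      · simp [h]
      · rcases sq_eq_one_iff.1 (hc x h) with e | e <;> simp [e]
    exact le_trans (Finset.card_le_card hsub) Finset.card_le_three
  let N : Subgroup (Matrix.SpecialLinearGroup (Fin n) F) := G.comap Matrix.SpecialLinearGroup.toGL
  have hNn : N.Normal := ⟨fun x hx s => by
    show Matrix.SpecialLinearGroup.toGL (s * x * s⁻¹) ∈ G
    rw [map_mul, map_mul, map_inv]
    exact hG s _ hx⟩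
  have hperf := CfsgLib.Classical.commutator_SL_eq_top (F := F) (ι := Fin n) hP
  by_cases hZ : N ≤ Subgroup.center (Matrix.SpecialLinearGroup (Fin n) F)
  · refine Or.inl fun g hg => ?_
    let c : Matrix.SpecialLinearGroup (Fin n) F → Matrix.GeneralLinearGroup (Fin n) F := fun s =>
      Matrix.SpecialLinearGroup.toGL s * g * (Matrix.SpecialLinearGroup.toGL s)⁻¹ * g⁻¹
    have hc : ∀ s, ∃ z ∈ Subgroup.center (Matrix.SpecialLinearGroup (Fin n) F),
        Matrix.SpecialLinearGroup.toGL z = c s := fun s => by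
      let z : Matrix.SpecialLinearGroup (Fin n) F := ⟨(c s : Matrix.GeneralLinearGroup (Fin n) F), by
        show Matrix.det ((c s : Matrix.GeneralLinearGroup (Fin n) F) : Matrix (Fin n) (Fin n) F) = 1
        rw [← Matrix.GeneralLinearGroup.val_det_apply, ← Units.val_one]
        congr 1
        simp only [c, map_mul, map_inv]
        rw [mul_comm (Matrix.GeneralLinearGroup.det (Matrix.SpecialLinearGroup.toGL s)) (Matrix.GeneralLinearGroup.det g)]
        group⟩
      have hz : Matrix.SpecialLinearGroup.toGL z = c s := Units.ext rfl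
      exact ⟨z, hZ (show Matrix.SpecialLinearGroup.toGL z ∈ G from hz ▸ G.mul_mem (hG s g hg) (G.inv_mem hg)), hz⟩
    have hcc : ∀ s t, Commute (c s) (Matrix.SpecialLinearGroup.toGL t) := fun s t => by
      obtain ⟨z, hz, e⟩ := hc s
      rw [← e]
      exact (Commute.map (Subgroup.mem_center_iff.1 hz t : Commute t z) Matrix.SpecialLinearGroup.toGL).symm
    let f : Matrix.SpecialLinearGroup (Fin n) F →* Matrix.GeneralLinearGroup (Fin n) F :=
      MonoidHom.mk' c fun s t => by
        have h1 : c (s * t) = Matrix.SpecialLinearGroup.toGL s * c t * (g * (Matrix.SpecialLinearGroup.toGL s)⁻¹ * g⁻¹) := by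
          simp only [c, map_mul]; group
        rw [h1, ← (hcc t s).eq, mul_assoc, show Matrix.SpecialLinearGroup.toGL s *
          (g * (Matrix.SpecialLinearGroup.toGL s)⁻¹ * g⁻¹) = c s by simp only [c]; group]
        obtain ⟨z, hz, e⟩ := hc t
        obtain ⟨z', hz', e'⟩ := hc s
        rw [← e, ← e', ← map_mul, ← map_mul, Subgroup.mem_center_iff.1 hz' z]
    have hker : f.ker = ⊤ := by
      refine top_le_iff.1 (hperf.ge.trans ?_)
      rw [commutator_def, Subgroup.commutator_le]
      intro a _ b _
      rw [MonoidHom.mem_ker, map_commutatorElement, commutatorElement_eq_one_iff_commute]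
      obtain ⟨z, -, e⟩ := hc b
      show Commute (c a) (c b)
      rw [← e]
      exact hcc a z
    obtain ⟨r, hr⟩ := Matrix.mem_range_scalar_of_commute_transvectionStruct
      (M := (g : Matrix (Fin n) (Fin n) F)) fun t => by
        let s : Matrix.SpecialLinearGroup (Fin n) F := ⟨t.toMatrix, t.det⟩
        have h1 : c s = 1 := MonoidHom.mem_ker.1 (hker ▸ Subgroup.mem_top s : s ∈ f.ker)
        have h2 : Matrix.SpecialLinearGroup.toGL s * g = g * Matrix.SpecialLinearGroup.toGL s := by
          simp only [c] at h1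
          exact mul_inv_eq_iff_eq_mul.1 (mul_inv_eq_one.1 h1)
        exact congrArg Units.val h2
    exact ⟨r, by rw [← hr, Matrix.scalar_apply, Matrix.smul_one_eq_diagonal]⟩
  · right
    have hsimp := CfsgLib.Classical.isSimpleGroup_PSL (F := F) (ι := Fin n) hP
    have hmap : N.map (QuotientGroup.mk' (Subgroup.center (Matrix.SpecialLinearGroup (Fin n) F))) = ⊤ := by
      have hnm : (N.map (QuotientGroup.mk' (Subgroup.center (Matrix.SpecialLinearGroup (Fin n) F)))).Normal :=
        Subgroup.Normal.map hNn _ (QuotientGroup.mk'_surjective _)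
      rcases hnm.eq_bot_or_eq_top with h | h
      · exfalso
        refine hZ ?_
        rwa [Subgroup.map_eq_bot_iff, QuotientGroup.ker_mk'] at h
      · exact h
    have hN : N = ⊤ := by
      have hsup : N ⊔ Subgroup.center (Matrix.SpecialLinearGroup (Fin n) F) = ⊤ := by
        have := congrArg (Subgroup.comap (QuotientGroup.mk' (Subgroup.center (Matrix.SpecialLinearGroup (Fin n) F)))) hmap
        rwa [Subgroup.comap_map_eq, QuotientGroup.ker_mk', Subgroup.comap_top] at this
      refine top_le_iff.1 (hperf.ge.trans ?_)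
      rw [commutator_def, Subgroup.commutator_le]
      intro a _ b _
      obtain ⟨a₁, ha₁, a₂, ha₂, rfl⟩ := Subgroup.mem_sup_of_normal_left.1 (hsup ▸ Subgroup.mem_top a : a ∈ N ⊔ _)
      rw [← QuotientGroup.eq_one_iff, ← QuotientGroup.mk'_apply, map_commutatorElement,
        commutatorElement_eq_one_iff_commute]
      have e : QuotientGroup.mk' N (a₁ * a₂) = QuotientGroup.mk' N a₂ := by
        rw [map_mul, (QuotientGroup.eq_one_iff a₁).2 ha₁ |> (fun h => show QuotientGroup.mk' N a₁ = 1 from h), one_mul]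
      rw [e]
      exact Commute.map (Subgroup.mem_center_iff.1 ha₂ b : Commute b a₂).symm (QuotientGroup.mk' N)
    rintro _ ⟨s, rfl⟩
    exact (hN ▸ Subgroup.mem_top s : s ∈ N)

end Cfsg.Agent.S2540
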