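import Cfsg.Statements.S2541
import Mathlib
-- import your own Cfsg.Agent.* helpers here

set_option autoImplicit false
open Cfsg

namespace Cfsg.Agent.S2541

/-- Let F be a field with 9 elements. The symmetric group S_6 is not isomorphic to PGL_2(F) (although both have index-2 subgroups isomorphic to A_6). -/
theorem result {F : Type*} [Field F] [Fintype F] (hF : Fintype.card F = 9) : ¬ Nonempty (Equiv.Perm (Fin 6) ≃* Matrix.ProjGenLinGroup (Fin 2) F) := by
  classical
  rintro ⟨e⟩
  obtain ⟨g, hg⟩ := IsCyclic.exists_generator (α := Fˣ)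
  have ho : orderOf g = 8 := by
    rw [orderOf_eq_card_of_forall_mem_zpowers hg, Nat.card_units, Nat.card_eq_fintype_card, hF]
  have h60 : ∀ σ : Equiv.Perm (Fin 6), σ ^ 60 = 1 := fun σ => by
    rw [← orderOf_dvd_iff_pow_eq_one, ← Equiv.Perm.lcm_cycleType, Multiset.lcm_dvd]
    intro b hb
    have h1 := Multiset.le_sum_of_mem hb
    have h2 : σ.cycleType.sum ≤ 6 := by
      rw [Equiv.Perm.sum_cycleType]
      exact (Finset.card_le_univ _).trans (by simp)
    have : b ≤ 6 := h1.trans h2
    have := Equiv.Perm.two_le_of_mem_cycleType hb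
    interval_cases b <;> decide
  let D : Fˣ →* GL (Fin 2) F :=
    MonoidHom.mk' (fun u => ⟨!![(u : F), 0; 0, 1], !![((u⁻¹ : Fˣ) : F), 0; 0, 1],
      by rw [Matrix.mul_fin_two, Matrix.one_fin_two]; simp,
      by rw [Matrix.mul_fin_two, Matrix.one_fin_two]; simp⟩)
      (fun a b => Units.ext (by simp [Matrix.mul_fin_two]))
  let π : GL (Fin 2) F →* Matrix.ProjGenLinGroup (Fin 2) F := QuotientGroup.mk' _
  obtain ⟨y, hy⟩ := e.surjective (π (D g))
  have key := congrArg e (h60 y)
  rw [map_pow, hy, map_one, ← map_pow, ← MonoidHom.mem_ker] at key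
  have key : D g ^ 60 ∈ Subgroup.center (GL (Fin 2) F) := by
    rw [← QuotientGroup.ker_mk' (Subgroup.center (GL (Fin 2) F))]; exact key
  rw [← map_pow, Subgroup.mem_center_iff] at key
  have h2 := key ⟨!![1, 1; 0, 1], !![1, -1; 0, 1], by rw [Matrix.mul_fin_two, Matrix.one_fin_two]; simp,
    by rw [Matrix.mul_fin_two, Matrix.one_fin_two]; simp⟩
  have h3 := congrArg (fun x : GL (Fin 2) F => (x : Matrix (Fin 2) (Fin 2) F) 0 1) h2
  simp [D, Matrix.mul_apply] at h3
  have h4 : g ^ 60 = 1 := Units.ext (by simpa using h3.symm)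
  rw [← orderOf_dvd_iff_pow_eq_one, ho] at h4
  omega


end Cfsg.Agent.S2541
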