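import Cfsg.Statements.S2544
import Cfsg.Agent.Lib.SLBlocks.Main
import Cfsg.Agent.Lib.Char.TripleAbove

set_option autoImplicit false
open Cfsg

namespace Cfsg.Agent.S2544

/-- Let F be a finite field of characteristic p and consider the projective special linear group PSL_n(F) with n ≥ 2. This group has an irreducible complex character χ whose degree equals the order of a Sylow p-subgroup (namely q^(n(n−1)/2) when #F = q) and whose restriction to any Sylow p-subgroup P is the regular character of P: χ vanishes on the non-identity elements of P. (This is the Steinberg character.) -/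
theorem result {F : Type*} [Field F] [Fintype F] (p : ℕ) [Fact p.Prime] [CharP F p] (n : ℕ) (hn : 2 ≤ n) : ∃ χ : Matrix.ProjectiveSpecialLinearGroup (Fin n) F → ℂ, Cfsg.IsIrrCharacter (Matrix.ProjectiveSpecialLinearGroup (Fin n) F) χ ∧ ∀ P : Sylow p (Matrix.ProjectiveSpecialLinearGroup (Fin n) F), χ 1 = Nat.card P ∧ ∀ x : Matrix.ProjectiveSpecialLinearGroup (Fin n) F, x ∈ P → x ≠ 1 → χ x = 0 := by
  classical
  obtain ⟨θ, h1, hz⟩ := CfsgLib.SLBlocks.exists_steinberg (F := F) p hn
  let f : Matrix.SpecialLinearGroup (Fin n) F →* Matrix.ProjectiveSpecialLinearGroup (Fin n) F :=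
    QuotientGroup.mk' _
  have hf : Function.Surjective f := QuotientGroup.mk'_surjective _
  obtain ⟨χ, hχ, hχf⟩ := CfsgLib.Char.TripleAbove.descend f hf θ.2
    (fun k hk => hz k ((QuotientGroup.eq_one_iff k).mp hk))
  refine ⟨χ, hχ, fun P => ⟨?_, fun x hx hx1 => ?_⟩⟩
  · have hv : (Nat.card (Matrix.ProjectiveSpecialLinearGroup (Fin n) F)).factorization p =
        (Nat.card (Matrix.SpecialLinearGroup (Fin n) F)).factorization p := by
      have h := Subgroup.card_eq_card_quotient_mul_card_subgroup
        (Subgroup.center (Matrix.SpecialLinearGroup (Fin n) F))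
      rw [h, Nat.factorization_mul Nat.card_pos.ne' Nat.card_pos.ne', Finsupp.add_apply,
        Nat.factorization_eq_zero_of_not_dvd (CfsgLib.SLBlocks.not_dvd_card_center hn), add_zero]
    rw [P.card_eq_multiplicity, hv, ← h1, ← hχf 1, map_one]
  · obtain ⟨g, rfl⟩ := hf x
    rw [hχf]
    refine CfsgLib.Char.defect_zero_vanish θ.2 h1 (Nat.ordProj_dvd _ _)
      (Nat.pow_succ_factorization_not_dvd Nat.card_pos.ne' (Fact.out : p.Prime)) dvd_rfl ?_
    obtain ⟨k, hk⟩ := IsPGroup.iff_orderOf.mp P.2 ⟨f g, hx⟩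
    rw [Subgroup.orderOf_mk] at hk
    refine dvd_trans ?_ (orderOf_map_dvd f g)
    rw [hk]
    exact dvd_pow_self p fun h0 => hx1 (orderOf_eq_one_iff.mp (by rw [hk, h0, pow_zero]))

end Cfsg.Agent.S2544
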