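import Cfsg.Statements.S2545
import Cfsg.Agent.Lib.SteinbergPolar.Sesq
import Cfsg.Agent.Lib.SteinbergPolar.Center
import Cfsg.Agent.Lib.Classical.SympTrans
import Cfsg.Agent.Lib.ClassicalAut.Symplectic

set_option autoImplicit false
open Cfsg

namespace Cfsg.Agent.S2545

/-- Let F be a finite field of characteristic p and consider the projective symplectic group PSp_{2m}(F) with m ≥ 1. This group has an irreducible complex character χ whose degree equals the order of a Sylow p-subgroup (namely q^(m²) when #F = q) and whose restriction to any Sylow p-subgroup P is the regular character of P: χ vanishes on the non-identity elements of P. (This is the Steinberg character.) -/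
theorem result {F : Type*} [Field F] [Fintype F] (p : ℕ) [Fact p.Prime] [CharP F p] (m : ℕ) (hm : 1 ≤ m) : ∃ χ : Cfsg.PSp m F → ℂ, Cfsg.IsIrrCharacter (Cfsg.PSp m F) χ ∧ ∀ P : Sylow p (Cfsg.PSp m F), χ 1 = Nat.card P ∧ ∀ x : Cfsg.PSp m F, x ∈ P → x ≠ 1 → χ x = 0 := by
  classical
  let _ : Finite (Matrix.symplecticGroup (Fin m) F) := inferInstance
  let M : Matrix.symplecticGroup (Fin m) F →* Matrix (Fin m ⊕ Fin m) (Fin m ⊕ Fin m) F :=
    (Matrix.symplecticGroup (Fin m) F).subtype
  let Sp := CfsgLib.ClassicalAut.Symp.space (F := F) (m := m)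
  let ρ := CfsgLib.SteinbergPolar.ofMatrix M
  have hinj : Function.Injective ρ :=
    CfsgLib.SteinbergPolar.ofMatrix_injective Subtype.val_injective
  have hinv : ∀ g a b, Sp.h (ρ g a) (ρ g b) = Sp.h a b :=
    fun g a b => CfsgLib.Classical.SympTrans.f_app g a b
  let S := CfsgLib.SteinbergPolar.sesqSetting Sp ρ hinj hinv fun T hT _ =>
    ⟨⟨LinearMap.toMatrix' T, CfsgLib.Classical.SympTrans.mem_iff_f.2 fun u v => by
      simp only [LinearMap.toMatrix'_mulVec]; exact hT u v⟩,
      fun v => LinearMap.toMatrix'_mulVec T v⟩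
  refine S.exists_steinberg p (QuotientGroup.mk' _) (QuotientGroup.mk'_surjective _)
    (fun z hz W hW => S.central_fix ?_
      (fun g => Subgroup.mem_center_iff.1 ((QuotientGroup.eq_one_iff z).1 hz) g) hW)
    (fun u hu k hk => CfsgLib.SteinbergPolar.sesq_good p Sp ρ hinj hinv hu k hk)
  intro x o _ _ hox
  refine ⟨o + x, CfsgLib.Classical.SympTrans.f_self _, ?_, fun e => ?_⟩
  · show Sp.h (o + x) x = 1
    rw [Sp.add_left, show Sp.h x x = 0 from CfsgLib.Classical.SympTrans.f_self x, add_zero]
    exact hox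
  · rw [add_eq_left] at e
    rw [e] at hox
    exact one_ne_zero (hox.symm.trans (Sp.zero_right o))

end Cfsg.Agent.S2545
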