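import Cfsg.Statements.S2546
import Cfsg.Agent.Lib.SteinbergPolar.Sesq
import Cfsg.Agent.Lib.SteinbergPolar.Center
import Cfsg.Agent.Lib.Classical.UnitaryTrans

set_option autoImplicit false
open Cfsg
open scoped Matrix

namespace Cfsg.Agent.S2546

/-- Let F be a finite field of characteristic p and consider the projective special unitary group PSU_n(q), n ≥ 2, realised over the field F with q² elements. This group has an irreducible complex character χ whose degree equals the order of a Sylow p-subgroup (namely q^(n(n−1)/2)) and whose restriction to any Sylow p-subgroup P is the regular character of P: χ vanishes on the non-identity elements of P. (This is the Steinberg character.) -/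
theorem result {F : Type*} [Field F] [Fintype F] (p : ℕ) [Fact p.Prime] [CharP F p] (n q : ℕ) (hn : 2 ≤ n) (hF : Fintype.card F = q ^ 2) : ∃ χ : Cfsg.PSU n F q → ℂ, Cfsg.IsIrrCharacter (Cfsg.PSU n F q) χ ∧ ∀ P : Sylow p (Cfsg.PSU n F q), χ 1 = Nat.card P ∧ ∀ x : Cfsg.PSU n F q, x ∈ P → x ≠ 1 → χ x = 0 := by
  classical
  obtain ⟨K⟩ := CfsgLib.Classical.Herm.exists_conj_of_card hF
  let M : Cfsg.SU n F q →* Matrix (Fin n) (Fin n) F :=
    (Cfsg.slToMat n F).comp (Cfsg.SU n F q).subtype
  let U := CfsgLib.ClassicalAut.Unitary.space (n := n) K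
  let ρ := CfsgLib.SteinbergPolar.ofMatrix M
  have hinj : Function.Injective ρ :=
    CfsgLib.SteinbergPolar.ofMatrix_injective fun g h e => Subtype.ext (Subtype.ext e)
  have hinv : ∀ g a b, U.h (ρ g a) (ρ g b) = U.h a b := fun g a b => g.2 a b
  let S := CfsgLib.SteinbergPolar.sesqSetting U ρ hinj hinv fun T hT h3 =>
    ⟨⟨⟨LinearMap.toMatrix' T, CfsgLib.SteinbergPolar.det_eq_one_of_unipotent p T h3⟩,
      fun u v => by
        show Cfsg.hermForm n F q (LinearMap.toMatrix' T *ᵥ u) (LinearMap.toMatrix' T *ᵥ v) = _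
        simp only [LinearMap.toMatrix'_mulVec]
        exact hT u v⟩, fun v => LinearMap.toMatrix'_mulVec T v⟩
  refine S.exists_steinberg p (QuotientGroup.mk' _) (QuotientGroup.mk'_surjective _)
    (fun z hz W hW => S.central_fix ?_
      (fun g => Subgroup.mem_center_iff.1 ((QuotientGroup.eq_one_iff z).1 hz) g) hW)
    (fun u hu k hk => CfsgLib.SteinbergPolar.sesq_good p U ρ hinj hinv hu k hk)
  intro x o hx ho hox
  obtain ⟨t, ht0, ht⟩ := U.skew_ne
  change U.h x x = 0 at hx
  change U.h o o = 0 at ho
  change U.h o x = 1 at hox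
  refine ⟨o + t • x, ?_, ?_, fun e => ?_⟩
  · show U.h (o + t • x) (o + t • x) = 0
    rw [U.add_left, U.add_right, U.add_right, U.smul_left, U.smul_left, U.smul_right,
      U.smul_right, hx, ho, hox, U.swap o x, hox, map_one]
    linear_combination ht
  · show U.h (o + t • x) x = 1
    rw [U.add_left, U.smul_left, hx, mul_zero, add_zero]
    exact hox
  · rw [add_eq_left, smul_eq_zero] at e
    rw [e.resolve_left ht0, U.zero_right] at hox
    exact zero_ne_one hox

end Cfsg.Agent.S2546
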