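import Cfsg.Statements.S2548
import Cfsg.Agent.Lib.SteinbergPolar.Orth
import Cfsg.Agent.Lib.Classical.OrthForms
import Cfsg.Agent.Lib.SteinbergPolar.PlusFourTwo

set_option autoImplicit false
open Cfsg

namespace Cfsg.Agent.S2548

/-- Let F be a finite field of characteristic p and consider the group PΩ⁺_{2m}(F) of the hyperbolic quadratic form Σ x_i y_i with m ≥ 1, where Ω denotes the commutator subgroup of the full isometry group. This group has an irreducible complex character χ whose degree equals the order of a Sylow p-subgroup (equal to q^(m(m−1)) when #F = q, except in the degenerate case m = 2, q = 2, where this commutator subgroup has order 18 and its Sylow 2-subgroups have order 2) and whose restriction to any Sylow p-subgroup P is the regular character of P: χ vanishes on the non-identity elements of P. (This is the Steinberg character.) -/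
theorem result {F : Type*} [Field F] [Fintype F] (p : ℕ) [Fact p.Prime] [CharP F p] (m : ℕ) (hm : 1 ≤ m) : ∃ χ : Cfsg.POmega F (Cfsg.quadFormPlus m F) → ℂ, Cfsg.IsIrrCharacter (Cfsg.POmega F (Cfsg.quadFormPlus m F)) χ ∧ ∀ P : Sylow p (Cfsg.POmega F (Cfsg.quadFormPlus m F)), χ 1 = Nat.card P ∧ ∀ x : Cfsg.POmega F (Cfsg.quadFormPlus m F), x ∈ P → x ≠ 1 → χ x = 0 := by
  classical
  by_cases hsp : m = 2 ∧ Fintype.card F = 2
  · obtain ⟨rfl, hF⟩ := hsp
    exact CfsgLib.SteinbergPolar.plus_four_two_steinberg p hF
  obtain ⟨Q, hQ, hB⟩ := CfsgLib.Orth.exists_quadForm_plus (F := F) m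
  rw [← hQ]
  have hn : Module.finrank F (Fin m ⊕ Fin m → F) = 2 * m := by
    rw [Module.finrank_pi, Fintype.card_sum, Fintype.card_fin]
    omega
  refine CfsgLib.SteinbergPolar.orth_steinberg p hB ?_ (by omega)
  by_cases hm3 : 3 ≤ m
  · exact Or.inl (by omega)
  by_cases hm2 : m = 2
  · refine Or.inr (Or.inl ?_)
    have h1 := Fintype.one_lt_card (α := F)
    have h2 : Fintype.card F ≠ 2 := fun h => hsp ⟨hm2, h⟩
    rw [Nat.card_eq_fintype_card]
    omega
  refine Or.inr (Or.inr fun x v hx hv hxv hx0 => ?_)
  by_contra hvx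
  let U : Submodule F (Fin m ⊕ Fin m → F) := Submodule.span F ({x, v} : Set _)
  have hU : ∀ w ∈ U, Q w = 0 := fun w hw => by
    obtain ⟨c, d, rfl⟩ := Submodule.mem_span_pair.1 hw
    rw [CfsgLib.Orth.q_add, CfsgLib.Orth.q_smul, CfsgLib.Orth.q_smul, CfsgLib.Orth.b_smul_left,
      CfsgLib.Orth.b_smul_right, hx, hv, hxv]
    ring
  have h2 : 2 ≤ Module.finrank F U := by
    have hlt : Submodule.span F {x} < U := lt_of_le_not_ge
      (Submodule.span_mono (Set.singleton_subset_iff.2 (Set.mem_insert _ _)))
      fun h => hvx (h (Submodule.subset_span (Set.mem_insert_of_mem _ rfl)))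
    have := Submodule.finrank_lt_finrank_of_lt hlt
    rw [finrank_span_singleton hx0] at this
    omega
  have h4 := CfsgLib.Orth.two_mul_finrank_le hB (CfsgLib.Orth.le_orth_of_singular hU)
  omega

end Cfsg.Agent.S2548
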