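import Cfsg.Statements.S2549
import Cfsg.Agent.Lib.SteinbergPolar.Orth
import Cfsg.Agent.Lib.Classical.OrthForms
import Cfsg.Agent.Lib.Classical.OrthDisc

set_option autoImplicit false
open Cfsg

namespace Cfsg.Agent.S2549

/-- Let F be a finite field of characteristic p and consider the group PΩ⁻_{2m+2}(F) of the quadratic form Σ_{i<m} x_i y_i + (z₁² + a z₁ z₂ + b z₂²) with anisotropic binary part, m ≥ 0. This group has an irreducible complex character χ whose degree equals the order of a Sylow p-subgroup (namely q^(m(m+1)) when #F = q) and whose restriction to any Sylow p-subgroup P is the regular character of P: χ vanishes on the non-identity elements of P. (This is the Steinberg character.) -/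
theorem result {F : Type*} [Field F] [Fintype F] (p : ℕ) [Fact p.Prime] [CharP F p] (m : ℕ) (a b : F) (hab : ∀ z₁ z₂ : F, z₁ ^ 2 + a * z₁ * z₂ + b * z₂ ^ 2 = 0 → z₁ = 0 ∧ z₂ = 0) : ∃ χ : Cfsg.POmega F (Cfsg.quadFormMinus m F a b) → ℂ, Cfsg.IsIrrCharacter (Cfsg.POmega F (Cfsg.quadFormMinus m F a b)) χ ∧ ∀ P : Sylow p (Cfsg.POmega F (Cfsg.quadFormMinus m F a b)), χ 1 = Nat.card P ∧ ∀ x : Cfsg.POmega F (Cfsg.quadFormMinus m F a b), x ∈ P → x ≠ 1 → χ x = 0 := by
  classical
  obtain ⟨Q, hQ, hB⟩ := CfsgLib.Orth.exists_quadForm_minus m hab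
  rw [← hQ]
  have hn : Module.finrank F ((Fin m ⊕ Fin m) ⊕ Fin 2 → F) = 2 * m + 2 := by
    rw [Module.finrank_pi, Fintype.card_sum, Fintype.card_sum, Fintype.card_fin, Fintype.card_fin]
    omega
  refine CfsgLib.SteinbergPolar.orth_steinberg p hB ?_ (by omega)
  by_cases hm2 : 2 ≤ m
  · exact Or.inl (by omega)
  refine Or.inr (Or.inr fun x v hx hv hxv hx0 => ?_)
  by_contra hvx
  let U : Submodule F ((Fin m ⊕ Fin m) ⊕ Fin 2 → F) := Submodule.span F ({x, v} : Set _)
  have hU : ∀ w ∈ U, Q w = 0 := fun w hw => by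
    obtain ⟨c, d, rfl⟩ := Submodule.mem_span_pair.1 hw
    rw [CfsgLib.Orth.q_add, CfsgLib.Orth.q_smul, CfsgLib.Orth.q_smul, CfsgLib.Orth.b_smul_left,
      CfsgLib.Orth.b_smul_right, hx, hv, hxv]
    ring
  have h2 : 2 ≤ Module.finrank F U := by
    have hlt : Submodule.span F {x} < U := lt_of_le_not_ge
      (Submodule.span_mono (Set.singleton_subset_iff.2 (Set.mem_insert _ _)))
      fun h => hvx (h (Submodule.subset_span (Set.mem_insert_of_mem _ rfl)))
    have := Submodule.finrank_lt_finrank_of_lt hlt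
    rw [finrank_span_singleton hx0] at this
    omega
  have h4 := CfsgLib.Orth.two_mul_finrank_le hB (CfsgLib.Orth.le_orth_of_singular hU)
  exact CfsgLib.Orth.minus_no_half m hab hQ hB U ⟨hU, by omega⟩

end Cfsg.Agent.S2549
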