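import Cfsg.Statements.S2550
import Cfsg.Agent.Lib.Classical.GLFourTwo
import Cfsg.Agent.Lib.Classical.PSLThreeFour

set_option autoImplicit false
open Cfsg

namespace Cfsg.Agent.S2550

/-- Let F be a field with 2 elements and K a field with 4 elements. PSL_4(F) and PSL_3(K) have the same order (20160) but are not isomorphic. -/
theorem result {F K : Type*} [Field F] [Fintype F] [Field K] [Fintype K] (hF : Fintype.card F = 2) (hK : Fintype.card K = 4) : Nat.card (Matrix.ProjectiveSpecialLinearGroup (Fin 4) F) = Nat.card (Matrix.ProjectiveSpecialLinearGroup (Fin 3) K) ∧ ¬ Nonempty (Matrix.ProjectiveSpecialLinearGroup (Fin 4) F ≃* Matrix.ProjectiveSpecialLinearGroup (Fin 3) K) := by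
  obtain ⟨e⟩ := CfsgLib.Classical.GLFourTwo.psl_equiv_alt (F := F) hF
  refine ⟨?_, fun ⟨f⟩ => ?_⟩
  · have h1 : Nat.card (Matrix.ProjectiveSpecialLinearGroup (Fin 4) F) = 20160 := by
      have := two_mul_nat_card_alternatingGroup (α := Fin 8)
      rw [Nat.card_perm, Nat.card_fin] at this
      rw [Nat.card_congr e.toEquiv]
      norm_num [Nat.factorial] at this ⊢
      omega
    have h2 := CfsgLib.Classical.card_SL_eq_gcd_mul_card_PSL (F := K) (ι := Fin 3)
    have h3 := CfsgLib.Classical.sub_one_mul_card_SL (F := K) (n := 3) (by norm_num)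
    rw [h2, Nat.card_eq_fintype_card (α := K), hK, Fin.prod_univ_three] at h3
    norm_num [Fintype.card_fin] at h3
    omega
  · let x : Equiv.Perm (Fin 8) := Equiv.swap 0 1 * Equiv.swap 1 2 * (Equiv.swap 3 4 * Equiv.swap 4 5 * Equiv.swap 5 6 * Equiv.swap 6 7)
    have hx : x ∈ alternatingGroup (Fin 8) := by
      rw [Equiv.Perm.mem_alternatingGroup]
      simp only [x, map_mul, Equiv.Perm.sign_swap (show (0 : Fin 8) ≠ 1 by decide),
        Equiv.Perm.sign_swap (show (1 : Fin 8) ≠ 2 by decide), Equiv.Perm.sign_swap (show (3 : Fin 8) ≠ 4 by decide),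
        Equiv.Perm.sign_swap (show (4 : Fin 8) ≠ 5 by decide), Equiv.Perm.sign_swap (show (5 : Fin 8) ≠ 6 by decide),
        Equiv.Perm.sign_swap (show (6 : Fin 8) ≠ 7 by decide)]
      decide
    have h15 : orderOf (⟨x, hx⟩ : alternatingGroup (Fin 8)) = 15 := by
      rw [← Subgroup.orderOf_coe]
      show orderOf x = 15
      have hd : orderOf x ∣ 15 := orderOf_dvd_of_pow_eq_one (by decide +kernel)
      have n3 : ¬ orderOf x ∣ 3 := fun h => absurd (orderOf_dvd_iff_pow_eq_one.1 h) (by decide +kernel)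
      have n5 : ¬ orderOf x ∣ 5 := fun h => absurd (orderOf_dvd_iff_pow_eq_one.1 h) (by decide +kernel)
      have hle := Nat.le_of_dvd (by norm_num) hd
      interval_cases h : orderOf x <;> omega
    refine CfsgLib.Classical.PSLThreeFour.orderOf_ne_fifteen hK ((e.symm.trans f) ⟨x, hx⟩) ?_
    rw [MulEquiv.orderOf_eq, h15]

end Cfsg.Agent.S2550
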