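import Cfsg.Statements.S2551
import Cfsg.Agent.Lib.Classical.GLFourTwo
import Cfsg.Agent.Lib.Classical.PSLThreeFour

set_option autoImplicit false
open Cfsg

namespace Cfsg.Agent.S2551

/-- Let F be the field with 2 elements. GL_4(F) (≅ A_8) has a subgroup isomorphic to the alternating group A_7, and every such subgroup acts 2-transitively on the 15 non-zero vectors of F⁴: any ordered pair of distinct non-zero vectors is carried to any other by some element of the subgroup. -/
theorem result {F : Type*} [Field F] [Fintype F] (hF : Fintype.card F = 2) : (∃ H : Subgroup (Matrix.GeneralLinearGroup (Fin 4) F), Nonempty (H ≃* alternatingGroup (Fin 7))) ∧ ∀ H : Subgroup (Matrix.GeneralLinearGroup (Fin 4) F), Nonempty (H ≃* alternatingGroup (Fin 7)) → ∀ v w v' w' : Fin 4 → F, v ≠ 0 → w ≠ 0 → v ≠ w → v' ≠ 0 → w' ≠ 0 → v' ≠ w' → ∃ g ∈ H, (g : Matrix (Fin 4) (Fin 4) F).mulVec v = v' ∧ (g : Matrix (Fin 4) (Fin 4) F).mulVec w = w' := by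
  classical
  obtain ⟨e⟩ := CfsgLib.Classical.GLFourTwo.gl_equiv_alt (F := F) hF
  constructor
  · let ι' : Fin 7 ≃ {x : Fin 8 // x ≠ 0} := finSuccAboveEquiv 0
    let φ : alternatingGroup (Fin 7) →* alternatingGroup (Fin 8) :=
      ((Equiv.Perm.extendDomainHom ι').comp (alternatingGroup (Fin 7)).subtype).codRestrict _ fun s => by
        rw [Equiv.Perm.mem_alternatingGroup]
        show Equiv.Perm.sign ((s : Equiv.Perm (Fin 7)).extendDomain ι') = 1
        rw [Equiv.Perm.sign_extendDomain]
        exact s.2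
    have hφ : Function.Injective φ := fun a b h => Subtype.ext
      (Equiv.Perm.extendDomainHom_injective ι' (congrArg Subtype.val h))
    exact ⟨(e.symm.toMonoidHom.comp φ).range, ⟨(MonoidHom.ofInjective (e.symm.injective.comp hφ)).symm⟩⟩
  rintro H ⟨eH⟩ v w v' w' hv hw hvw hv' hw' hvw'
  have hcardH : Nat.card H = 2520 := by
    have := two_mul_nat_card_alternatingGroup (α := Fin 7)
    rw [Nat.card_perm, Nat.card_fin] at this
    rw [Nat.card_congr eH.toEquiv]
    norm_num [Nat.factorial] at this ⊢
    omega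
  exact CfsgLib.Classical.GLFourTwo.two_transitive hF H hcardH v w v' w' hv hw hvw hv' hw' hvw'

end Cfsg.Agent.S2551
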