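import Cfsg.Statements.S2552
import Mathlib

set_option autoImplicit false
open Cfsg

namespace Cfsg.Agent.S2552

/-- Let F be a finite field and n ≥ 1. For every k, the special linear group SL_n(F) acts transitively on the set of k-dimensional subspaces of F^n: any two subspaces of the same dimension are carried onto each other by some matrix of determinant 1. -/
theorem result {F : Type*} [Field F] [Fintype F] (n : ℕ) (hn : 1 ≤ n) (U₁ U₂ : Submodule F (Fin n → F)) (h : Module.finrank F U₁ = Module.finrank F U₂) : ∃ g : Matrix.SpecialLinearGroup (Fin n) F, U₁.map ((Matrix.SpecialLinearGroup.toLin' g : (Fin n → F) ≃ₗ[F] (Fin n → F)) : (Fin n → F) →ₗ[F] (Fin n → F)) = U₂ := by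
  classical
  obtain ⟨C₁, hC₁⟩ := Submodule.exists_isCompl U₁
  obtain ⟨C₂, hC₂⟩ := Submodule.exists_isCompl U₂
  have hs : Module.finrank F C₁ = Module.finrank F C₂ := by
    have h1 := Submodule.finrank_add_eq_of_isCompl hC₁
    have h2 := Submodule.finrank_add_eq_of_isCompl hC₂
    omega
  obtain ⟨e₁⟩ : Nonempty (U₁ ≃ₗ[F] U₂) := FiniteDimensional.nonempty_linearEquiv_of_finrank_eq h
  obtain ⟨e₂⟩ : Nonempty (C₁ ≃ₗ[F] C₂) := FiniteDimensional.nonempty_linearEquiv_of_finrank_eq hs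
  let f : (Fin n → F) ≃ₗ[F] (Fin n → F) :=
    ((Submodule.prodEquivOfIsCompl U₁ C₁ hC₁).symm.trans (e₁.prodCongr e₂)).trans
      (Submodule.prodEquivOfIsCompl U₂ C₂ hC₂)
  let b := ((Module.finBasis F U₂).prod (Module.finBasis F C₂)).map (Submodule.prodEquivOfIsCompl U₂ C₂ hC₂)
  have : Nonempty (Fin n) := ⟨⟨0, hn⟩⟩
  obtain ⟨i₀⟩ := b.index_nonempty
  let w : Fin (Module.finrank F U₂) ⊕ Fin (Module.finrank F C₂) → F :=
    Function.update 1 i₀ (LinearMap.det (f : (Fin n → F) →ₗ[F] (Fin n → F)))⁻¹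
  let h' : (Fin n → F) →ₗ[F] (Fin n → F) := Matrix.toLin b b (Matrix.diagonal w)
  have hdet : LinearMap.det h' = (LinearMap.det (f : (Fin n → F) →ₗ[F] (Fin n → F)))⁻¹ := by
    rw [LinearMap.det_toLin, Matrix.det_diagonal]
    simp [w, Finset.prod_update_of_mem]
  have hb : ∀ x ∈ U₂, h' x ∈ U₂ := by
    intro x hx
    have hx' : (⟨x, hx⟩ : U₂) ∈ Submodule.span F (Set.range (Module.finBasis F U₂)) := by
      rw [Module.Basis.span_eq]; exact Submodule.mem_top
    suffices ∀ z : U₂, z ∈ Submodule.span F (Set.range (Module.finBasis F U₂)) → h' z ∈ U₂ from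
      this ⟨x, hx⟩ hx'
    intro z hz
    induction hz using Submodule.span_induction with
    | mem z hz =>
      obtain ⟨i, rfl⟩ := hz
      have hbi : b (Sum.inl i) = ((Module.finBasis F U₂ i : U₂) : Fin n → F) := by
        simp [b]
      rw [← hbi]
      show Matrix.toLin b b (Matrix.diagonal w) (b (Sum.inl i)) ∈ U₂
      rw [Matrix.toLin_self, Finset.sum_eq_single (Sum.inl i) (fun j _ hj => by simp [Matrix.diagonal, hj])
        (fun hh => absurd (Finset.mem_univ _) hh)]
      rw [hbi]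
      exact U₂.smul_mem _ (Module.finBasis F U₂ i).2
    | zero => simp
    | add a b _ _ ha hb =>
      rw [Submodule.coe_add, map_add]; exact U₂.add_mem ha hb
    | smul c a _ ha =>
      rw [Submodule.coe_smul, map_smul]; exact U₂.smul_mem _ ha
  have hgd : LinearMap.det (h' ∘ₗ (f : (Fin n → F) →ₗ[F] (Fin n → F))) = 1 := by
    rw [LinearMap.det_comp, hdet]
    exact inv_mul_cancel₀ (LinearEquiv.isUnit_det' f).ne_zero
  let g : Matrix.SpecialLinearGroup (Fin n) F :=
    ⟨LinearMap.toMatrix' (h' ∘ₗ (f : (Fin n → F) →ₗ[F] (Fin n → F))), by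
      rw [LinearMap.det_toMatrix']; exact hgd⟩
  refine ⟨g, ?_⟩
  apply Submodule.eq_of_le_of_finrank_eq
  · rintro _ ⟨x, hx, rfl⟩
    have hg : ((Matrix.SpecialLinearGroup.toLin' g : (Fin n → F) ≃ₗ[F] (Fin n → F)) :
        (Fin n → F) →ₗ[F] (Fin n → F)) x = h' (f x) := by
      show Matrix.toLin' (LinearMap.toMatrix' (h' ∘ₗ (f : (Fin n → F) →ₗ[F] (Fin n → F)))) x = _
      rw [Matrix.toLin'_toMatrix']; rfl
    rw [hg]
    refine hb _ ?_
    have : f x = (e₁ ⟨x, hx⟩ : U₂) := by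
      simp [f, Submodule.prodEquivOfIsCompl_symm_apply_left U₁ C₁ hC₁ ⟨x, hx⟩]
    rw [this]
    exact (e₁ ⟨x, hx⟩).2
  · rw [LinearEquiv.finrank_map_eq, h]

end Cfsg.Agent.S2552
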