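import Cfsg.Statements.S2557
import Cfsg.Agent.S2385
import Cfsg.Agent.Lib.Classical.SpEven.Main
import Cfsg.Agent.Lib.Classical.SpEven.Exists
import Cfsg.Agent.Lib.Classical.SpEven.UCount

set_option autoImplicit false
open Cfsg

namespace Cfsg.Agent.S2557

/-- The number of conjugacy classes of Sp(2n,q), q even: for F a finite field of even order q and n ≥ 1, the number k of conjugacy classes of Sp(2n,F) satisfies q^n ≤ k ≤ 15.2·q^n. -/
theorem result {F : Type*} [Field F] [Fintype F] (heven : Even (Fintype.card F)) (n : ℕ) (hn : 1 ≤ n) :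
    Fintype.card F ^ n ≤ Nat.card (ConjClasses (Matrix.symplecticGroup (Fin n) F)) ∧
      5 * Nat.card (ConjClasses (Matrix.symplecticGroup (Fin n) F)) ≤ 76 * Fintype.card F ^ n := by
  classical
  obtain ⟨p, hp⟩ := CharP.exists F
  haveI : Fact p.Prime := ⟨CharP.char_is_prime F p⟩
  refine ⟨?_, ?_⟩
  · rw [← Cfsg.Agent.S2385.result (q := Fintype.card F) rfl p n]
    exact Finite.card_subtype_le _
  · haveI : CharP F 2 := by
      refine ringChar.of_eq (FiniteField.even_card_iff_char_two.mpr (Nat.even_iff.mp heven))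
    obtain ⟨c, hc⟩ := CfsgLib.Classical.SpEven.exists_not_artinSchreier (K := F)
    exact CfsgLib.Classical.SpEven.card_conjClasses_le c
      (fun A => CfsgLib.Classical.SpEven.exists_uHas (CfsgLib.Classical.SpEven.isom_one A)
        CfsgLib.Classical.SpEven.form_self hc _ (CfsgLib.Classical.SpEven.uPart_stable _)
        (CfsgLib.Classical.SpEven.nd_uPart (CfsgLib.Classical.SpEven.isom_one A))
        fun x hx => ⟨_, by
          rw [← CfsgLib.Classical.SpEven.act_nilX]
          exact CfsgLib.Classical.SpEven.act_zero_of_mem_uPart hx⟩)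
      (fun A A' m => CfsgLib.Classical.SpEven.UHas.giso (CfsgLib.Classical.SpEven.isom_one A) CfsgLib.Classical.SpEven.form_self
        (CfsgLib.Classical.SpEven.isom_one A'))
      (fun j => inferInstance) (CfsgLib.Classical.SpEven.sum_utype_le n)

end Cfsg.Agent.S2557
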