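import Cfsg.Statements.S2558
import Cfsg.Agent.Lib.Classical.OrthForms
import Cfsg.Agent.Lib.Classical.OrthClassBound.Main
-- import your own Cfsg.Agent.* helpers here

set_option autoImplicit false
open Cfsg

namespace Cfsg.Agent.S2558

/-- The number of conjugacy classes of the full orthogonal groups O⁺(2n,q) and O⁻(2n,q), q odd, 2n ≥ 4: for F a finite field of odd order q and n ≥ 2, the number k of conjugacy classes of the isometry group of the hyperbolic quadratic form Σ xᵢyᵢ on F^{2n}, and likewise of the elliptic form Σ xᵢyᵢ + (z₁² + a z₁z₂ + b z₂²) with anisotropic binary part, satisfies q^n/2 ≤ k ≤ 9.5·q^n. -/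
theorem result {F : Type*} [Field F] [Fintype F] (hodd : Odd (Fintype.card F)) (n : ℕ) (hn : 2 ≤ n) (a b : F) (hab : ∀ z₁ z₂ : F, z₁ ^ 2 + a * z₁ * z₂ + b * z₂ ^ 2 = 0 → z₁ = 0 ∧ z₂ = 0) :
    (Fintype.card F ^ n ≤ 2 * Nat.card (ConjClasses ↥(Cfsg.isometryGroup F (Cfsg.quadFormPlus n F))) ∧
      2 * Nat.card (ConjClasses ↥(Cfsg.isometryGroup F (Cfsg.quadFormPlus n F))) ≤ 19 * Fintype.card F ^ n) ∧
    (Fintype.card F ^ n ≤ 2 * Nat.card (ConjClasses ↥(Cfsg.isometryGroup F (Cfsg.quadFormMinus (n - 1) F a b))) ∧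
      2 * Nat.card (ConjClasses ↥(Cfsg.isometryGroup F (Cfsg.quadFormMinus (n - 1) F a b))) ≤ 19 * Fintype.card F ^ n) := by
  classical
  have h2 : (2 : F) ≠ 0 := by
    refine Ring.two_ne_zero fun h => ?_
    rw [FiniteField.even_card_iff_char_two] at h
    rw [Nat.odd_iff] at hodd
    omega
  obtain ⟨m, rfl⟩ : ∃ m, n = m + 1 := ⟨n - 1, by omega⟩
  refine ⟨?_, ?_⟩
  · obtain ⟨Q, hQ, hnd⟩ := CfsgLib.Orth.exists_quadForm_plus (F := F) (m + 1)
    have hnd' : ∀ v, (∀ w, QuadraticMap.polarBilin Q v w = 0) → v = 0 := fun v hv => hnd v hv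
    rw [← hQ]
    exact ⟨CfsgLib.Classical.OrthClassBound.le_card_conjClasses hnd' h2 hn (by simp [two_mul]),
      CfsgLib.Classical.OrthClassBound.card_conjClasses_le hnd' h2 (by omega) (by simp [two_mul])⟩
  · obtain ⟨Q, hQ, hnd⟩ := CfsgLib.Orth.exists_quadForm_minus (F := F) (m + 1 - 1) hab
    have hnd' : ∀ v, (∀ w, QuadraticMap.polarBilin Q v w = 0) → v = 0 := fun v hv => hnd v hv
    rw [← hQ]
    exact ⟨CfsgLib.Classical.OrthClassBound.le_card_conjClasses hnd' h2 hn (by simp; omega),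
      CfsgLib.Classical.OrthClassBound.card_conjClasses_le hnd' h2 (by omega) (by simp; omega)⟩

end Cfsg.Agent.S2558
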