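import Cfsg.Statements.S2561
import Mathlib
import Cfsg.Prelude.Def_Classical
import Cfsg.Agent.Lib.BinForms.Basic

set_option autoImplicit false
set_option linter.style.haveILetI false
open Cfsg

namespace Cfsg.Agent.S2561

theorem main (n : ℕ) :
    Nat.card {q : CfsgLib.BinForms.Vec (n + 1) → ZMod 2 // CfsgLib.BinForms.IsForm q} = 2 ^ (2 * (n + 1)) ∧
    (∀ q : CfsgLib.BinForms.Vec (n + 1) → ZMod 2, CfsgLib.BinForms.IsForm q →
      (∃ g : CfsgLib.BinForms.Vec (n + 1) ≃ₗ[ZMod 2] CfsgLib.BinForms.Vec (n + 1), ∀ v, q v = Cfsg.quadFormPlus (n + 1) (ZMod 2) (g v)) ∨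
      (∃ g : CfsgLib.BinForms.Vec (n + 1) ≃ₗ[ZMod 2] ((Fin n ⊕ Fin n) ⊕ Fin 2 → ZMod 2), ∀ v, q v = Cfsg.quadFormMinus n (ZMod 2) 1 1 (g v))) ∧
    Nat.card {q : CfsgLib.BinForms.Vec (n + 1) → ZMod 2 // CfsgLib.BinForms.IsForm q ∧
      ∃ g : CfsgLib.BinForms.Vec (n + 1) ≃ₗ[ZMod 2] CfsgLib.BinForms.Vec (n + 1), ∀ v, q v = Cfsg.quadFormPlus (n + 1) (ZMod 2) (g v)} = 2 ^ (2 * (n + 1) - 1) + 2 ^ n ∧
    Nat.card {q : CfsgLib.BinForms.Vec (n + 1) → ZMod 2 // CfsgLib.BinForms.IsForm q ∧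
      ∃ g : CfsgLib.BinForms.Vec (n + 1) ≃ₗ[ZMod 2] ((Fin n ⊕ Fin n) ⊕ Fin 2 → ZMod 2), ∀ v, q v = Cfsg.quadFormMinus n (ZMod 2) 1 1 (g v)} = 2 ^ (2 * (n + 1) - 1) - 2 ^ n := by
  classical
  set Q := Cfsg.quadFormPlus (n + 1) (ZMod 2)
  let F : CfsgLib.BinForms.Vec (n + 1) → (CfsgLib.BinForms.Vec (n + 1) → ZMod 2) :=
    fun w v => Q v + CfsgLib.BinForms.pol v w
  have hform : ∀ w, CfsgLib.BinForms.IsForm (F w) := CfsgLib.BinForms.isForm_translate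
  have hinj : Function.Injective F := fun a b h =>
    (hform a).exists_translate.unique (fun v => rfl) (fun v => congrFun h v)
  have hsurj : ∀ q, CfsgLib.BinForms.IsForm q → ∃ w, F w = q := fun q hq => by
    obtain ⟨w, hw, -⟩ := hq.exists_translate
    exact ⟨w, funext fun v => (hw v).symm⟩
  have hplus : ∀ w, (∃ g : CfsgLib.BinForms.Vec (n + 1) ≃ₗ[ZMod 2] CfsgLib.BinForms.Vec (n + 1), ∀ v, F w v = Q (g v)) ↔ Q w = 0 :=
    fun w => CfsgLib.BinForms.isForm_plus.translate w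
  obtain ⟨w0, g0, hw0, hg0⟩ := CfsgLib.BinForms.minus_equiv n
  have hminus : ∀ w, (∃ g : CfsgLib.BinForms.Vec (n + 1) ≃ₗ[ZMod 2] ((Fin n ⊕ Fin n) ⊕ Fin 2 → ZMod 2),
      ∀ v, F w v = Cfsg.quadFormMinus n (ZMod 2) 1 1 (g v)) ↔ Q w = 1 := by
    intro w
    constructor
    · rintro ⟨g, hg⟩
      by_contra hne
      obtain ⟨h, hh⟩ := (hplus w).mpr ((by decide : ∀ a : ZMod 2, ¬ a = 1 → a = 0) _ hne)
      have : Q w0 = 0 := (hplus w0).mp ⟨(g0.trans g.symm).trans h, fun v => by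
        show Q v + CfsgLib.BinForms.pol v w0 = _
        rw [hg0 v, LinearEquiv.trans_apply, ← hh, hg, LinearEquiv.trans_apply, LinearEquiv.apply_symm_apply]⟩
      exact zero_ne_one (this.symm.trans hw0)
    · intro hw
      obtain ⟨g, hg⟩ := CfsgLib.BinForms.translate_equiv hw hw0
      exact ⟨g.trans g0, fun v => (hg v).trans (hg0 (g v))⟩
  have hcount : ∀ (P : (CfsgLib.BinForms.Vec (n + 1) → ZMod 2) → Prop) (R : CfsgLib.BinForms.Vec (n + 1) → Prop),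
      (∀ w, P (F w) ↔ R w) →
      Nat.card {q // CfsgLib.BinForms.IsForm q ∧ P q} = Nat.card {w // R w} := by
    intro P R h
    refine (Nat.card_congr (Equiv.ofBijective (fun w : {w // R w} =>
      (⟨F w.1, hform w.1, (h w.1).mpr w.2⟩ : {q // CfsgLib.BinForms.IsForm q ∧ P q})) ⟨?_, ?_⟩)).symm
    · exact fun a b e => Subtype.ext (hinj (congrArg Subtype.val e))
    · rintro ⟨q, hq, hP⟩
      obtain ⟨w, rfl⟩ := hsurj q hq
      exact ⟨⟨w, (h w).mp hP⟩, rfl⟩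
  obtain ⟨hz0, hz1⟩ := CfsgLib.BinForms.card_zero (m := n + 1) (by omega)
  refine ⟨?_, fun q hq => ?_, ?_, ?_⟩
  · rw [← Nat.card_congr (Equiv.ofBijective (fun w => (⟨F w, hform w⟩ : {q // CfsgLib.BinForms.IsForm q}))
      ⟨fun a b e => hinj (congrArg Subtype.val e), fun ⟨q, hq⟩ => by
        obtain ⟨w, rfl⟩ := hsurj q hq
        exact ⟨w, rfl⟩⟩)]
    simp [two_mul]
  · obtain ⟨w, rfl⟩ := hsurj q hq
    rcases (by decide : ∀ a : ZMod 2, a = 0 ∨ a = 1) (Q w) with h | h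
    · exact Or.inl ((hplus w).mpr h)
    · exact Or.inr ((hminus w).mpr h)
  · rw [hcount _ _ hplus, hz0]
    rfl
  · rw [hcount _ _ hminus, hz1]
    rfl

/-- Fix the non-singular alternating form on the 2m-dimensional space over the field of two elements obtained by polarizing the plus-type form Σ xᵢyᵢ (m ≥ 1). The functions q on the space with q(u + v) = q(u) + q(v) + f(u, v) (the quadratic forms polarizing to f) number 2^(2m); each is equivalent under an invertible linear map either to the plus-type form or to the minus-type form Σ xᵢyᵢ + (z₁² + z₁z₂ + z₂²); and those of plus type number 2^(2m−1) + 2^(m−1), those of minus type 2^(2m−1) − 2^(m−1). -/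
theorem result (m : ℕ) (hm : 1 ≤ m) :
    Nat.card {q : (Fin m ⊕ Fin m → ZMod 2) → ZMod 2 // (∀ u v : (Fin m ⊕ Fin m → ZMod 2), q (u + v) = q u + q v + (Cfsg.quadFormPlus m (ZMod 2) (u + v) - Cfsg.quadFormPlus m (ZMod 2) u - Cfsg.quadFormPlus m (ZMod 2) v))} = 2 ^ (2 * m) ∧
    (∀ q : (Fin m ⊕ Fin m → ZMod 2) → ZMod 2, (∀ u v : (Fin m ⊕ Fin m → ZMod 2), q (u + v) = q u + q v + (Cfsg.quadFormPlus m (ZMod 2) (u + v) - Cfsg.quadFormPlus m (ZMod 2) u - Cfsg.quadFormPlus m (ZMod 2) v)) →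
      (∃ g : (Fin m ⊕ Fin m → ZMod 2) ≃ₗ[ZMod 2] (Fin m ⊕ Fin m → ZMod 2), ∀ v, q v = Cfsg.quadFormPlus m (ZMod 2) (g v)) ∨
      (∃ g : (Fin m ⊕ Fin m → ZMod 2) ≃ₗ[ZMod 2] ((Fin (m - 1) ⊕ Fin (m - 1)) ⊕ Fin 2 → ZMod 2), ∀ v, q v = Cfsg.quadFormMinus (m - 1) (ZMod 2) 1 1 (g v))) ∧
    Nat.card {q : (Fin m ⊕ Fin m → ZMod 2) → ZMod 2 // (∀ u v : (Fin m ⊕ Fin m → ZMod 2), q (u + v) = q u + q v + (Cfsg.quadFormPlus m (ZMod 2) (u + v) - Cfsg.quadFormPlus m (ZMod 2) u - Cfsg.quadFormPlus m (ZMod 2) v)) ∧ ∃ g : (Fin m ⊕ Fin m → ZMod 2) ≃ₗ[ZMod 2] (Fin m ⊕ Fin m → ZMod 2), ∀ v, q v = Cfsg.quadFormPlus m (ZMod 2) (g v)} = 2 ^ (2 * m - 1) + 2 ^ (m - 1) ∧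
    Nat.card {q : (Fin m ⊕ Fin m → ZMod 2) → ZMod 2 // (∀ u v : (Fin m ⊕ Fin m → ZMod 2), q (u + v) = q u + q v + (Cfsg.quadFormPlus m (ZMod 2) (u + v) - Cfsg.quadFormPlus m (ZMod 2) u - Cfsg.quadFormPlus m (ZMod 2) v)) ∧ ∃ g : (Fin m ⊕ Fin m → ZMod 2) ≃ₗ[ZMod 2] ((Fin (m - 1) ⊕ Fin (m - 1)) ⊕ Fin 2 → ZMod 2), ∀ v, q v = Cfsg.quadFormMinus (m - 1) (ZMod 2) 1 1 (g v)} = 2 ^ (2 * m - 1) - 2 ^ (m - 1) := by
  obtain ⟨n, rfl⟩ : ∃ n, m = n + 1 := ⟨m - 1, by omega⟩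
  exact main n

end Cfsg.Agent.S2561
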