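import Cfsg.Statements.S2562
import Mathlib
import Cfsg.Prelude.Def_Classical
import Cfsg.Agent.Lib.BinForms.Witt

set_option autoImplicit false
set_option linter.style.haveILetI false
open Cfsg

namespace Cfsg.Agent.S2562

/-- Witt indices over the field of two elements, m ≥ 1: for the plus-type form Σ xᵢyᵢ in dimension 2m some m-dimensional subspace is totally singular and no totally singular subspace has larger dimension; for the minus-type form Σ xᵢyᵢ + (z₁² + z₁z₂ + z₂²) in dimension 2m the maximal dimension of a totally singular subspace is m − 1. -/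
theorem result (m : ℕ) (hm : 1 ≤ m) :
    (∃ U : Submodule (ZMod 2) (Fin m ⊕ Fin m → ZMod 2), (∀ u ∈ U, Cfsg.quadFormPlus m (ZMod 2) u = 0) ∧ Module.finrank (ZMod 2) ↥U = m) ∧
    (∀ U : Submodule (ZMod 2) (Fin m ⊕ Fin m → ZMod 2), (∀ u ∈ U, Cfsg.quadFormPlus m (ZMod 2) u = 0) → Module.finrank (ZMod 2) ↥U ≤ m) ∧
    (∃ U : Submodule (ZMod 2) ((Fin (m - 1) ⊕ Fin (m - 1)) ⊕ Fin 2 → ZMod 2), (∀ u ∈ U, Cfsg.quadFormMinus (m - 1) (ZMod 2) 1 1 u = 0) ∧ Module.finrank (ZMod 2) ↥U = m - 1) ∧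
    (∀ U : Submodule (ZMod 2) ((Fin (m - 1) ⊕ Fin (m - 1)) ⊕ Fin 2 → ZMod 2), (∀ u ∈ U, Cfsg.quadFormMinus (m - 1) (ZMod 2) 1 1 u = 0) → Module.finrank (ZMod 2) ↥U ≤ m - 1) := by
  obtain ⟨k, rfl⟩ : ∃ k, m = k + 1 := ⟨m - 1, by omega⟩
  refine ⟨?_, CfsgLib.BinForms.singular_le, ?_, CfsgLib.BinForms.singular_minus_le k⟩
  · refine ⟨LinearMap.ker (LinearMap.funLeft (ZMod 2) (ZMod 2) (Sum.inr : Fin (k + 1) → Fin (k + 1) ⊕ Fin (k + 1))),
      fun u hu => Finset.sum_eq_zero fun i _ => by rw [show u (.inr i) = 0 from congrFun hu i, mul_zero], ?_⟩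
    have h := LinearMap.finrank_range_add_finrank_ker
      (LinearMap.funLeft (ZMod 2) (ZMod 2) (Sum.inr : Fin (k + 1) → Fin (k + 1) ⊕ Fin (k + 1)))
    rw [LinearMap.range_eq_top.mpr (LinearMap.funLeft_surjective_of_injective _ _ _ Sum.inr_injective), finrank_top] at h
    simp at h
    omega
  · let f : (k + 1 - 1) = k := by omega
    refine ⟨LinearMap.ker (LinearMap.funLeft (ZMod 2) (ZMod 2)
        (Sum.elim (fun i => Sum.inl (Sum.inr i)) Sum.inr : Fin k ⊕ Fin 2 → (Fin k ⊕ Fin k) ⊕ Fin 2)), fun u hu => ?_, ?_⟩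
    · show (∑ i : Fin k, u (.inl (.inl i)) * u (.inl (.inr i))) + _ = 0
      rw [Finset.sum_eq_zero fun i _ => by rw [show u (.inl (.inr i)) = 0 from congrFun hu (.inl i), mul_zero],
        show u (.inr 0) = 0 from congrFun hu (.inr 0), show u (.inr 1) = 0 from congrFun hu (.inr 1)]
      simp
    · have hi : Function.Injective (Sum.elim (fun i => Sum.inl (Sum.inr i)) Sum.inr : Fin k ⊕ Fin 2 → (Fin k ⊕ Fin k) ⊕ Fin 2) :=
        Function.Injective.sumElim (Sum.inl_injective.comp Sum.inr_injective) Sum.inr_injective (fun a b => by simp)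
      have h := LinearMap.finrank_range_add_finrank_ker (LinearMap.funLeft (ZMod 2) (ZMod 2)
        (Sum.elim (fun i => Sum.inl (Sum.inr i)) Sum.inr : Fin k ⊕ Fin 2 → (Fin k ⊕ Fin k) ⊕ Fin 2))
      rw [LinearMap.range_eq_top.mpr (LinearMap.funLeft_surjective_of_injective _ _ _ hi), finrank_top] at h
      simp at h
      have e : Module.finrank (ZMod 2) (LinearMap.ker (LinearMap.funLeft (ZMod 2) (ZMod 2)
        (Sum.elim (fun i => Sum.inl (Sum.inr i)) Sum.inr : Fin k ⊕ Fin 2 → (Fin k ⊕ Fin k) ⊕ Fin 2))) = k := by omega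
      exact e

end Cfsg.Agent.S2562
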