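import Cfsg.Statements.S2565
import Cfsg.Agent.Lib.Classical.SymmOrth

set_option autoImplicit false
open Cfsg

namespace Cfsg.Agent.S2565

/-- The commutator subgroup of the full orthogonal group of the plus-type form Σ xᵢyᵢ in dimension 6 over the field of two elements (the group Ω⁺₆(2), of index 2) is isomorphic to the alternating group of degree 8. -/
theorem result :
    (Cfsg.Omega (ZMod 2) (Cfsg.quadFormPlus 3 (ZMod 2))).index = 2 ∧
    Nonempty (↥(Cfsg.Omega (ZMod 2) (Cfsg.quadFormPlus 3 (ZMod 2))) ≃* alternatingGroup (Fin 8)) := by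
  obtain ⟨e⟩ := CfsgLib.Classical.SymmOrth.plus_six
  have hA : commutator (Equiv.Perm (Fin 8)) = alternatingGroup (Fin 8) := by
    refine le_antisymm alternatingGroup.commutator_perm_le ?_
    have h := _root_.commutator_alternatingGroup_eq_top (α := Fin 8) (by simp)
    calc alternatingGroup (Fin 8)
        = (commutator ↥(alternatingGroup (Fin 8))).map (alternatingGroup (Fin 8)).subtype := by
          rw [h, ← MonoidHom.range_eq_map, Subgroup.range_subtype]
      _ ≤ commutator (Equiv.Perm (Fin 8)) := by
          rw [commutator_def, commutator_def, Subgroup.map_commutator]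
          exact Subgroup.commutator_mono le_top le_top
  have hmap : (Cfsg.Omega (ZMod 2) (Cfsg.quadFormPlus 3 (ZMod 2))).map e.toMonoidHom =
      alternatingGroup (Fin 8) := by
    rw [← hA]
    show (commutator _).map e.toMonoidHom = _
    rw [commutator_def, Subgroup.map_commutator, Subgroup.map_top_of_surjective e.toMonoidHom e.surjective,
      ← commutator_def]
  refine ⟨?_, ⟨(e.subgroupMap _).trans (MulEquiv.subgroupCongr hmap)⟩⟩
  rw [← Subgroup.index_map_equiv (Cfsg.Omega (ZMod 2) (Cfsg.quadFormPlus 3 (ZMod 2))) e]
  show ((Cfsg.Omega (ZMod 2) (Cfsg.quadFormPlus 3 (ZMod 2))).map e.toMonoidHom).index = 2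
  rw [hmap, alternatingGroup.index_eq_two]

end Cfsg.Agent.S2565
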