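import Cfsg.Statements.S2566
import Mathlib
import Cfsg.Prelude.Def_Classical
import Cfsg.Agent.Lib.Classical.PSLSmall
import Cfsg.Agent.Lib.Classical.OrthOrderStd

set_option autoImplicit false
set_option linter.style.haveILetI false
open Cfsg

namespace Cfsg.Agent.S2566

abbrev M2 := Matrix (Fin 2) (Fin 2) (ZMod 2)

def toM (x : Fin 2 ⊕ Fin 2 → ZMod 2) : M2 := !![x (.inl 0), x (.inl 1); x (.inr 1), x (.inr 0)]

def frM (X : M2) : Fin 2 ⊕ Fin 2 → ZMod 2
  | .inl i => if i = 0 then X 0 0 else X 0 1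
  | .inr i => if i = 0 then X 1 1 else X 1 0

/-- The matrix of `X ↦ g X h`. -/
def act (g h : M2) : Matrix (Fin 2 ⊕ Fin 2) (Fin 2 ⊕ Fin 2) (ZMod 2) :=
  Matrix.of fun i j => frM (g * toM (Pi.single j 1) * h) i

/-- The matrix of `X ↦ Xᵀ`. -/
def flipT : Matrix (Fin 2 ⊕ Fin 2) (Fin 2 ⊕ Fin 2) (ZMod 2) :=
  Matrix.of fun i j => frM (toM (Pi.single j 1)).transpose i

theorem toM_frM (X : M2) : toM (frM X) = X := by
  ext i j; fin_cases i <;> fin_cases j <;> rfl

theorem frM_toM (x : Fin 2 ⊕ Fin 2 → ZMod 2) : frM (toM x) = x := by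
  funext i; rcases i with i | i <;> fin_cases i <;> rfl

theorem act_mulVec (g h : M2) (x : Fin 2 ⊕ Fin 2 → ZMod 2) : (act g h).mulVec x = frM (g * toM x * h) := by
  funext i
  rcases i with i | i <;> fin_cases i <;>
    simp [act, Matrix.mulVec, dotProduct, frM, toM, Matrix.mul_apply, Fin.sum_univ_two] <;> ring

theorem flipT_mulVec (x : Fin 2 ⊕ Fin 2 → ZMod 2) : flipT.mulVec x = frM (toM x).transpose := by
  funext i
  rcases i with i | i <;> fin_cases i <;>
    simp [flipT, Matrix.mulVec, dotProduct, frM, toM, Fin.sum_univ_two]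

theorem quad_eq (x : Fin 2 ⊕ Fin 2 → ZMod 2) : Cfsg.quadFormPlus 2 (ZMod 2) x = (toM x).det := by
  simp [Cfsg.quadFormPlus, toM, Matrix.det_fin_two_of, Fin.sum_univ_two, CharTwo.sub_eq_add]

theorem act_mul (g h g' h' : M2) : act (g * g') (h' * h) = act g h * act g' h' := by
  refine Matrix.toLin'.injective (LinearMap.ext fun x => ?_)
  simp only [Matrix.toLin'_apply, ← Matrix.mulVec_mulVec, act_mulVec, toM_frM, Matrix.mul_assoc]

theorem act_one : act 1 1 = 1 := by
  refine Matrix.toLin'.injective (LinearMap.ext fun x => ?_)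
  simp [act_mulVec, frM_toM]

theorem flipT_sq : flipT * flipT = 1 := by
  refine Matrix.toLin'.injective (LinearMap.ext fun x => ?_)
  simp [← Matrix.mulVec_mulVec, flipT_mulVec, toM_frM, frM_toM]

theorem flipT_act (g : M2) : flipT * act g 1 * flipT = act 1 g.transpose := by
  refine Matrix.toLin'.injective (LinearMap.ext fun x => ?_)
  simp only [Matrix.toLin'_apply, ← Matrix.mulVec_mulVec, flipT_mulVec, act_mulVec, toM_frM,
    Matrix.mul_one, Matrix.one_mul, Matrix.transpose_mul, Matrix.transpose_transpose]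

/-- The full orthogonal group of the plus-type form x₁y₁ + x₂y₂ in dimension 4 over the field of two elements has order 72 and is isomorphic to the wreath product of the symmetric group of degree 3 by a group of order 2: it has a normal subgroup isomorphic to the direct product of two symmetric groups of degree 3, of index 2, whose two direct factors are interchanged by conjugation by some element. -/
theorem result :
    Nat.card ↥(Cfsg.isometryGroup (ZMod 2) (Cfsg.quadFormPlus 2 (ZMod 2))) = 72 ∧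
    ∃ (A B : Subgroup ↥(Cfsg.isometryGroup (ZMod 2) (Cfsg.quadFormPlus 2 (ZMod 2)))),
      Nonempty (↥A ≃* Equiv.Perm (Fin 3)) ∧ Nonempty (↥B ≃* Equiv.Perm (Fin 3)) ∧ A ⊓ B = ⊥ ∧ (∀ a ∈ A, ∀ b ∈ B, a * b = b * a) ∧
      (A ⊔ B).index = 2 ∧ ∃ g : ↥(Cfsg.isometryGroup (ZMod 2) (Cfsg.quadFormPlus 2 (ZMod 2))), A.map (MulAut.conj g).toMonoidHom = B := by
  classical
  let I := Cfsg.isometryGroup (ZMod 2) (Cfsg.quadFormPlus 2 (ZMod 2))
  let fL : Matrix.SpecialLinearGroup (Fin 2) (ZMod 2) →* Matrix (Fin 2 ⊕ Fin 2) (Fin 2 ⊕ Fin 2) (ZMod 2) :=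
    { toFun := fun g => act (g : M2) 1
      map_one' := act_one
      map_mul' := fun a b => by rw [← act_mul, Matrix.mul_one]; rfl }
  let fR : Matrix.SpecialLinearGroup (Fin 2) (ZMod 2) →* Matrix (Fin 2 ⊕ Fin 2) (Fin 2 ⊕ Fin 2) (ZMod 2) :=
    { toFun := fun g => act 1 ((g⁻¹ : Matrix.SpecialLinearGroup (Fin 2) (ZMod 2)) : M2)
      map_one' := by rw [inv_one]; exact act_one
      map_mul' := fun a b => by rw [← act_mul, Matrix.mul_one, mul_inv_rev, Matrix.SpecialLinearGroup.coe_mul] }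
  let L : Matrix.SpecialLinearGroup (Fin 2) (ZMod 2) →* I := fL.toHomUnits.codRestrict I fun g u v => by
    show Cfsg.quadFormPlus 2 (ZMod 2) ((act (g : M2) 1).mulVec u) = Cfsg.quadFormPlus 2 (ZMod 2) u
    rw [act_mulVec, quad_eq, quad_eq, toM_frM, Matrix.det_mul, Matrix.det_mul, g.det_coe, Matrix.det_one, one_mul, mul_one]
  let R : Matrix.SpecialLinearGroup (Fin 2) (ZMod 2) →* I := fR.toHomUnits.codRestrict I fun g u v => by
    show Cfsg.quadFormPlus 2 (ZMod 2) ((act 1 ((g⁻¹ : Matrix.SpecialLinearGroup (Fin 2) (ZMod 2)) : M2)).mulVec u) = Cfsg.quadFormPlus 2 (ZMod 2) u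
    rw [act_mulVec, quad_eq, quad_eq, toM_frM, Matrix.det_mul, Matrix.det_mul, Matrix.SpecialLinearGroup.det_coe, Matrix.det_one, one_mul, mul_one]
  have hLval : ∀ g, (((L g : I) : Matrix.GeneralLinearGroup (Fin 2 ⊕ Fin 2) (ZMod 2)) : Matrix (Fin 2 ⊕ Fin 2) (Fin 2 ⊕ Fin 2) (ZMod 2)) = act (g : M2) 1 := fun g => rfl
  have hRval : ∀ g, (((R g : I) : Matrix.GeneralLinearGroup (Fin 2 ⊕ Fin 2) (ZMod 2)) : Matrix (Fin 2 ⊕ Fin 2) (Fin 2 ⊕ Fin 2) (ZMod 2)) = act 1 ((g⁻¹ : Matrix.SpecialLinearGroup (Fin 2) (ZMod 2)) : M2) := fun g => rfl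
  let ev : I → M2 → M2 := fun a X => toM ((((a : Matrix.GeneralLinearGroup (Fin 2 ⊕ Fin 2) (ZMod 2)) : Matrix (Fin 2 ⊕ Fin 2) (Fin 2 ⊕ Fin 2) (ZMod 2))).mulVec (frM X))
  have eL : ∀ g X, ev (L g) X = (g : M2) * X := fun g X => by
    simp only [ev, hLval, act_mulVec, toM_frM, Matrix.mul_one]
  have eR : ∀ g X, ev (R g) X = X * ((g⁻¹ : Matrix.SpecialLinearGroup (Fin 2) (ZMod 2)) : M2) := fun g X => by
    simp only [ev, hRval, act_mulVec, toM_frM, Matrix.one_mul]
  have hLi : Function.Injective L := fun a b h => by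
    have h1 := congrArg (fun c => ev c 1) h
    simp only [eL, Matrix.mul_one] at h1
    exact Subtype.ext h1
  have hRi : Function.Injective R := fun a b h => by
    have h1 := congrArg (fun c => ev c 1) h
    simp only [eR, Matrix.one_mul] at h1
    exact inv_injective (Subtype.ext h1)
  obtain ⟨e⟩ := CfsgLib.Classical.SL_two_equiv_perm_of_card_two (F := ZMod 2) (ZMod.card 2)
  have hcard : Nat.card I = 72 := by
    obtain ⟨Q, hQ, hB⟩ := CfsgLib.Orth.exists_quadForm_plus (F := ZMod 2) 2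
    have h := CfsgLib.Orth.card_orth_plus 2 (by norm_num) hQ hB
    rw [show Nat.card (ZMod 2) = 2 by simp] at h
    show Nat.card ↥(Cfsg.isometryGroup (ZMod 2) (Cfsg.quadFormPlus 2 (ZMod 2))) = 72
    rw [← hQ]
    exact h.trans (by decide)
  have hcommLR : ∀ g h, L g * R h = R h * L g := fun g h => by
    apply Subtype.ext
    apply Units.ext
    show act (g : M2) 1 * act 1 ((h⁻¹ : Matrix.SpecialLinearGroup (Fin 2) (ZMod 2)) : M2) =
      act 1 ((h⁻¹ : Matrix.SpecialLinearGroup (Fin 2) (ZMod 2)) : M2) * act (g : M2) 1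
    rw [← act_mul, ← act_mul]; simp
  have hinf : L.range ⊓ R.range = ⊥ := by
    rw [eq_bot_iff]
    rintro _ ⟨⟨g, rfl⟩, ⟨h, hh⟩⟩
    rw [Subgroup.mem_bot]
    have h1 : ∀ X : M2, X * ((h⁻¹ : Matrix.SpecialLinearGroup (Fin 2) (ZMod 2)) : M2) = (g : M2) * X :=
      fun X => by rw [← eR, hh, eL]
    have hg1 : ((h⁻¹ : Matrix.SpecialLinearGroup (Fin 2) (ZMod 2)) : M2) = g := by simpa using h1 1
    have e01 := h1 !![0, 1; 0, 0]
    have e10 := h1 !![0, 0; 1, 0]
    rw [hg1] at e01 e10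
    have a1 := congrFun (congrFun e01 0) 0
    have a2 := congrFun (congrFun e01 0) 1
    have a3 := congrFun (congrFun e10 0) 0
    simp [Matrix.mul_apply, Fin.sum_univ_two] at a1 a2 a3
    have hdet := g.det_coe
    rw [Matrix.det_fin_two] at hdet
    have hg : g = 1 := by
      ext i j
      revert a1 a2 a3 hdet
      generalize hA : (g : M2) = A
      intro a1 a2 a3 hdet
      fin_cases i <;> fin_cases j <;> simp <;> revert a1 a2 a3 hdet <;>
        generalize A 0 0 = a <;> generalize A 0 1 = b <;> generalize A 1 0 = c <;> generalize A 1 1 = d <;>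
        revert a b c d <;> decide
    rw [hg, map_one]
  have hA6 : Nat.card L.range = 6 := by
    rw [Nat.card_congr (MonoidHom.ofInjective hLi).symm.toEquiv, Nat.card_congr e.toEquiv, Nat.card_eq_fintype_card]
    rfl
  have hB6 : Nat.card R.range = 6 := by
    rw [Nat.card_congr (MonoidHom.ofInjective hRi).symm.toEquiv, Nat.card_congr e.toEquiv, Nat.card_eq_fintype_card]
    rfl
  have hcomm : ∀ a ∈ L.range, ∀ b ∈ R.range, a * b = b * a := by
    rintro _ ⟨g, rfl⟩ _ ⟨h, rfl⟩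
    exact hcommLR g h
  refine ⟨hcard, L.range, R.range, ⟨(MonoidHom.ofInjective hLi).symm.trans e⟩,
    ⟨(MonoidHom.ofInjective hRi).symm.trans e⟩, hinf, hcomm, ?_, ?_⟩
  · let m : L.range × R.range →* I :=
      { toFun := fun x => (x.1 : I) * x.2
        map_one' := by simp
        map_mul' := fun x y => by
          simp only [Prod.fst_mul, Prod.snd_mul, Subgroup.coe_mul]
          rw [mul_assoc (x.1 : I), ← mul_assoc (y.1 : I), hcomm _ y.1.2 _ x.2.2]
          simp only [mul_assoc] }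
    have hm : Function.Injective m := (injective_iff_map_eq_one m).mpr fun x hx => by
      have hx' : (x.1 : I) = (x.2 : I)⁻¹ := eq_inv_of_mul_eq_one_left hx
      have h0 : (x.1 : I) ∈ L.range ⊓ R.range := ⟨x.1.2, hx' ▸ R.range.inv_mem x.2.2⟩
      rw [hinf, Subgroup.mem_bot] at h0
      refine Prod.ext (Subtype.ext h0) (Subtype.ext ?_)
      rw [h0, eq_comm, inv_eq_one] at hx'
      exact hx'
    have hle : L.range ⊔ R.range = m.range := by
      apply le_antisymm
      · refine sup_le (fun a ha => ⟨(⟨a, ha⟩, 1), ?_⟩) (fun b hb => ⟨(1, ⟨b, hb⟩), ?_⟩) <;> simp [m]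
      · rintro _ ⟨x, rfl⟩
        exact Subgroup.mul_mem _ (Subgroup.mem_sup_left x.1.2) (Subgroup.mem_sup_right x.2.2)
    have h := Subgroup.index_mul_card (L.range ⊔ R.range)
    rw [hle, Nat.card_congr (MonoidHom.ofInjective hm).symm.toEquiv, Nat.card_prod, hA6, hB6, hcard] at h
    rw [hle]
    omega
  · let τu : Matrix.GeneralLinearGroup (Fin 2 ⊕ Fin 2) (ZMod 2) := ⟨flipT, flipT, flipT_sq, flipT_sq⟩
    let τ : I := ⟨τu, fun u v => by
      show Cfsg.quadFormPlus 2 (ZMod 2) (flipT.mulVec u) = Cfsg.quadFormPlus 2 (ZMod 2) u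
      rw [flipT_mulVec, quad_eq, quad_eq, toM_frM, Matrix.det_transpose]⟩
    have hconj : ∀ g, τ * L g * τ⁻¹ = R (Matrix.SpecialLinearGroup.transpose g)⁻¹ := fun g => by
      apply Subtype.ext
      apply Units.ext
      show flipT * act (g : M2) 1 * flipT = act 1 ((((Matrix.SpecialLinearGroup.transpose g)⁻¹)⁻¹ : Matrix.SpecialLinearGroup (Fin 2) (ZMod 2)) : M2)
      rw [flipT_act, inv_inv]
      rfl
    refine ⟨τ, ?_⟩
    ext x
    constructor
    · rintro ⟨_, ⟨g, rfl⟩, rfl⟩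
      exact ⟨_, (hconj g).symm⟩
    · rintro ⟨h, rfl⟩
      refine ⟨L (Matrix.SpecialLinearGroup.transpose h⁻¹), ⟨_, rfl⟩, ?_⟩
      show τ * L _ * τ⁻¹ = R h
      rw [hconj]
      congr 1
      rw [inv_eq_iff_eq_inv]
      ext i j
      rfl

end Cfsg.Agent.S2566
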