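import Cfsg.Statements.S2567
import Mathlib

set_option autoImplicit false
set_option linter.style.haveILetI false
open Cfsg

namespace Cfsg.Agent.S2567

/-- Lifting elements of prime order from PGL to GL: let F be a finite field with q elements, r a prime not dividing q − 1, and x an element of order r in GL_n(F) modulo its centre (the scalar matrices). Then x has exactly one preimage in GL_n(F) of order r. -/
theorem result {F : Type*} [Field F] [Fintype F] {q n r : ℕ} (hF : Fintype.card F = q) (hr : r.Prime) (hdiv : ¬ r ∣ q - 1) (x : GL (Fin n) F ⧸ Subgroup.center (GL (Fin n) F)) (hx : orderOf x = r) : ∃! g : GL (Fin n) F, (QuotientGroup.mk g : GL (Fin n) F ⧸ Subgroup.center (GL (Fin n) F)) = x ∧ orderOf g = r := by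
  classical
  haveI : Fact r.Prime := ⟨hr⟩
  have hexp : ∀ z ∈ Subgroup.center (GL (Fin n) F), z ^ (q - 1) = 1 := by
    intro z hz
    rw [Matrix.GeneralLinearGroup.center_eq_range_scalar] at hz
    obtain ⟨c, rfl⟩ := hz
    have h1 : c ^ (q - 1) = 1 := Units.ext (by
      rw [Units.val_pow_eq_pow_val, ← hF]
      exact FiniteField.pow_card_sub_one_eq_one _ c.ne_zero)
    rw [← map_pow, h1, map_one]
  have hq : 1 ≤ q - 1 := by
    have := Fintype.one_lt_card (α := F)
    omega
  have hcop : r.Coprime (q - 1) := (Nat.Prime.coprime_iff_not_dvd hr).mpr hdiv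
  obtain ⟨j, hj⟩ : ∃ j, ∀ z ∈ Subgroup.center (GL (Fin n) F), z ^ (r * j) = z := by
    rcases Nat.lt_or_ge 1 (q - 1) with h | h
    · obtain ⟨j, -, hj⟩ := Nat.exists_mul_mod_eq_one_of_coprime hcop h
      refine ⟨j, fun z hz => ?_⟩
      rw [← Nat.div_add_mod (r * j) (q - 1), pow_add, pow_mul, hexp z hz, one_pow, hj, pow_one,
        one_mul]
    · refine ⟨0, fun z hz => ?_⟩
      have h1 := hexp z hz
      rw [show q - 1 = 1 by omega, pow_one] at h1
      rw [h1, one_pow]
  obtain ⟨g0, rfl⟩ := QuotientGroup.mk_surjective x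
  have hc : g0 ^ r ∈ Subgroup.center (GL (Fin n) F) := by
    rw [← QuotientGroup.eq_one_iff, QuotientGroup.mk_pow, ← hx, pow_orderOf_eq_one]
  have hne : ∀ g : GL (Fin n) F,
      (QuotientGroup.mk g : GL (Fin n) F ⧸ Subgroup.center (GL (Fin n) F)) = QuotientGroup.mk g0 →
      g ≠ 1 := fun g hg h => by
    subst h
    rw [QuotientGroup.mk_one] at hg
    rw [← hg, orderOf_one] at hx
    exact hr.one_lt.ne hx
  set s := (g0 ^ r) ^ j with hs
  have hsc : s ∈ Subgroup.center (GL (Fin n) F) := pow_mem hc j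
  have hmk : (QuotientGroup.mk (g0 * s⁻¹) : GL (Fin n) F ⧸ Subgroup.center (GL (Fin n) F)) =
      QuotientGroup.mk g0 := by
    rw [QuotientGroup.mk_mul, (QuotientGroup.eq_one_iff s⁻¹).mpr (inv_mem hsc), mul_one]
  have hdr : (g0 * s⁻¹) ^ r = 1 := by
    have hcomm : Commute g0 s⁻¹ := Subgroup.mem_center_iff.mp (inv_mem hsc) g0
    rw [hcomm.mul_pow, inv_pow, hs, ← pow_mul (g0 ^ r), mul_comm j r, hj _ hc, mul_inv_cancel]
  refine ⟨g0 * s⁻¹, ⟨hmk, orderOf_eq_prime hdr (hne _ hmk)⟩, ?_⟩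
  · rintro g ⟨hgx, hgo⟩
    set d := g0 * s⁻¹ with hd
    have hdc : d⁻¹ * g ∈ Subgroup.center (GL (Fin n) F) :=
      QuotientGroup.eq.mp (hmk.trans hgx.symm)
    have hcomm : Commute d (d⁻¹ * g) := Subgroup.mem_center_iff.mp hdc d
    have h2 := congrArg (· ^ r) (mul_inv_cancel_left d g)
    have hgr : g ^ r = 1 := hgo ▸ pow_orderOf_eq_one g
    rw [hcomm.mul_pow, hdr, one_mul, hgr] at h2
    have h3 := hj _ hdc
    rw [pow_mul, h2, one_pow] at h3
    exact (inv_mul_eq_one.mp h3.symm).symm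

end Cfsg.Agent.S2567
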