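import Cfsg.Statements.S2569
import Cfsg.Agent.Lib.Classical.SemisimpleDet

set_option autoImplicit false
open Cfsg

namespace Cfsg.Agent.S2569

/-- In GL_n over a finite field of characteristic p, the conjugacy class of a semisimple element (an element of order prime to p) under the special linear group is its whole GL-conjugacy class: for every such x and every invertible g there is h of determinant one with h x h⁻¹ = g x g⁻¹. -/
theorem result {F : Type*} [Field F] [Fintype F] {p : ℕ} [Fact p.Prime] [CharP F p] {n : ℕ} (x g : GL (Fin n) F) (hx : (orderOf x).Coprime p) : ∃ h : GL (Fin n) F, (h : Matrix (Fin n) (Fin n) F).det = 1 ∧ h * x * h⁻¹ = g * x * g⁻¹ := by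
  rcases Nat.eq_zero_or_pos n with rfl | hn
  · exact ⟨g, Matrix.det_isEmpty, rfl⟩
  have : Nontrivial (Fin n → F) := by
    have : Nonempty (Fin n) := Fin.pos_iff_nonempty.1 hn
    infer_instance
  have hk : ¬ p ∣ orderOf x := fun h => by
    have h1 := Nat.dvd_gcd h (dvd_refl p)
    rw [hx.gcd_eq_one, Nat.dvd_one] at h1
    exact (Fact.out : p.Prime).ne_one h1
  have hX : Module.End.IsSemisimple ((x : Matrix (Fin n) (Fin n) F).toLin') := by
    refine CfsgLib.Classical.SemisimpleDet.isSemisimple_of_pow p _ hk ?_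
    rw [← Matrix.toLin'_pow, ← Units.val_pow_eq_pow_val, pow_orderOf_eq_one, Units.val_one, Matrix.toLin'_one]
    rfl
  obtain ⟨Z, hZ, hdet⟩ := CfsgLib.Classical.SemisimpleDet.exists_commute_det _ hX
    ((g : Matrix (Fin n) (Fin n) F).det)⁻¹
  rw [← LinearMap.det_toMatrix'] at hdet
  let z : GL (Fin n) F := Matrix.GeneralLinearGroup.mkOfDetNeZero (LinearMap.toMatrix' Z)
    (by rw [hdet]; exact inv_ne_zero g.det_ne_zero)
  have hzx : z * x = x * z := Units.ext (by
    apply Matrix.toLin'.injective
    show Matrix.toLin' (LinearMap.toMatrix' Z * (x : Matrix (Fin n) (Fin n) F)) =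
      Matrix.toLin' ((x : Matrix (Fin n) (Fin n) F) * LinearMap.toMatrix' Z)
    rw [Matrix.toLin'_mul, Matrix.toLin'_mul, Matrix.toLin'_toMatrix']
    exact hZ.eq)
  refine ⟨g * z, ?_, ?_⟩
  · show ((g : Matrix (Fin n) (Fin n) F) * LinearMap.toMatrix' Z).det = 1
    rw [Matrix.det_mul, hdet, mul_inv_cancel₀ g.det_ne_zero]
  · rw [mul_assoc g z x, hzx, ← mul_assoc, mul_inv_rev, ← mul_assoc, mul_inv_cancel_right]

end Cfsg.Agent.S2569
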