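import Cfsg.Statements.S2572
import Mathlib
import Cfsg.Agent.Lib.Classical.TransvectionCentralizer

set_option autoImplicit false
set_option linter.style.haveILetI false
open Cfsg

namespace Cfsg.Agent.S2572

/-- Centraliser of a transvection in GL_n(q), n ≥ 2: if t − 1 has rank one and square zero, the centraliser of t in GL_n(q) has order q^(2n−3) (q − 1) |GL_(n−2)(q)| (a group of order q^(2n−3) extended by GL_1(q) × GL_(n−2)(q)). -/
theorem result {F : Type*} [Field F] [Fintype F] {q n : ℕ} (hF : Fintype.card F = q) (hn : 2 ≤ n) (t : GL (Fin n) F) (ht : Cfsg.IsTransvection (t : Matrix (Fin n) (Fin n) F)) : Nat.card ↥(Subgroup.centralizer ({t} : Set (GL (Fin n) F))) = q ^ (2 * n - 3) * (q - 1) * ∏ i : Fin (n - 2), (q ^ (n - 2) - q ^ (i : ℕ)) := by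
  classical
  obtain ⟨hr, hsq⟩ := ht
  set N : (Fin n → F) →ₗ[F] (Fin n → F) := ((t : Matrix (Fin n) (Fin n) F) - 1).mulVecLin with hN
  have hN2 : ∀ v, N (N v) = 0 := fun v => by
    rw [hN, Matrix.mulVecLin_apply, Matrix.mulVecLin_apply, Matrix.mulVec_mulVec, hsq,
      Matrix.zero_mulVec]
  obtain ⟨m, hm, e, he⟩ := CfsgLib.Classical.TCent.exists_coords N hr hN2
  rw [Module.finrank_fin_fun] at hm
  subst hm
  let Ψ : GL (Fin (m + 2)) F ≃ ((F × (Fin m → F) × F) ≃ₗ[F] (F × (Fin m → F) × F)) :=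
    ((Matrix.GeneralLinearGroup.toLin).trans
      (LinearMap.GeneralLinearGroup.generalLinearEquiv F (Fin (m + 2) → F))).toEquiv.trans
      { toFun := fun f => e.trans (f.trans e.symm)
        invFun := fun f => e.symm.trans (f.trans e)
        left_inv := fun f => LinearEquiv.ext fun v => by simp
        right_inv := fun f => LinearEquiv.ext fun v => by simp }
  have hΨ : ∀ g v, e (Ψ g v) = (g : Matrix (Fin (m + 2)) (Fin (m + 2)) F).mulVec (e v) := fun g v =>
    e.apply_symm_apply _
  have hsymm : ∀ x, e.symm (N x) = CfsgLib.Classical.TCent.n0 F (Fin m → F) (e.symm x) := fun x => by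
    apply e.injective
    rw [e.apply_symm_apply, ← he, e.apply_symm_apply]
  have hiff : ∀ g : GL (Fin (m + 2)) F, g ∈ Subgroup.centralizer ({t} : Set (GL (Fin (m + 2)) F)) ↔
      ∀ v, Ψ g (CfsgLib.Classical.TCent.n0 F (Fin m → F) v) =
        CfsgLib.Classical.TCent.n0 F (Fin m → F) (Ψ g v) := fun g => by
    rw [Subgroup.mem_centralizer_singleton_iff]
    have h1 : t * g = g * t ↔ ((t : Matrix (Fin (m + 2)) (Fin (m + 2)) F) - 1) *
        (g : Matrix (Fin (m + 2)) (Fin (m + 2)) F) = (g : Matrix (Fin (m + 2)) (Fin (m + 2)) F) *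
        ((t : Matrix (Fin (m + 2)) (Fin (m + 2)) F) - 1) := by
      rw [sub_mul, mul_sub, one_mul, mul_one, sub_left_inj, Units.ext_iff, Units.val_mul,
        Units.val_mul]
    rw [eq_comm, h1]
    constructor
    · intro h v
      apply e.injective
      rw [hΨ, ← he, ← he, hΨ, hN, Matrix.mulVecLin_apply, Matrix.mulVecLin_apply,
        Matrix.mulVec_mulVec, Matrix.mulVec_mulVec, h]
    · intro h
      refine Matrix.ext_of_mulVec_single fun i => ?_
      have h2 := congrArg e (h (e.symm (Pi.single i 1)))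
      rw [hΨ, ← he, ← he, hΨ, hN, Matrix.mulVecLin_apply, Matrix.mulVecLin_apply,
        e.apply_symm_apply] at h2
      rw [← Matrix.mulVec_mulVec, ← Matrix.mulVec_mulVec]
      exact h2.symm
  rw [Nat.card_congr (Ψ.subtypeEquiv hiff : _ ≃ CfsgLib.Classical.TCent.Fixers F (Fin m → F)),
    CfsgLib.Classical.TCent.card_fixers, Matrix.card_GL_field, hF,
    show m + 2 - 2 = m by omega, show 2 * (m + 2) - 3 = 2 * m + 1 by omega]

end Cfsg.Agent.S2572
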