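import Cfsg.Statements.S2573
import Mathlib

set_option autoImplicit false
set_option linter.style.haveILetI false
open Cfsg

namespace Cfsg.Agent.S2573

open Module in
/-- The kernel of a power grows at most as fast as the kernel. -/
theorem finrank_ker_pow_le {F V : Type*} [Field F] [AddCommGroup V] [Module F V]
    [FiniteDimensional F V] (f : V →ₗ[F] V) (h : finrank F (LinearMap.ker f) ≤ 1) (k : ℕ) :
    finrank F (LinearMap.ker (f ^ k)) ≤ k := by
  induction k with
  | zero => rw [pow_zero, Module.End.one_eq_id, LinearMap.ker_id]; simp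
  | succ k ih =>
    let g : LinearMap.ker (f ^ (k + 1)) →ₗ[F] LinearMap.ker (f ^ k) :=
      f.restrict fun v hv => by
        rw [LinearMap.mem_ker, ← Module.End.mul_apply, ← pow_succ]
        exact hv
    have h1 := LinearMap.finrank_range_add_finrank_ker g
    have h2 : finrank F (LinearMap.range g) ≤ k := (Submodule.finrank_le _).trans ih
    have h3 : finrank F (LinearMap.ker g) ≤ 1 := by
      refine le_trans ?_ h
      let e : LinearMap.ker g →ₗ[F] LinearMap.ker f :=
        ((Submodule.subtype _).comp (Submodule.subtype _)).codRestrict _ fun v =>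
          congrArg Subtype.val (LinearMap.mem_ker.mp v.2)
      exact LinearMap.finrank_le_finrank_of_injective (f := e) fun a b hab =>
        Subtype.ext (Subtype.ext (congrArg Subtype.val hab :))
    omega

/-- The invariant subspaces of a regular unipotent matrix form a chain: over a finite field, if u is an n × n matrix with (u − 1)^n = 0 and rank(u − 1) = n − 1, then every subspace W of F^n with u W ⊆ W is the kernel of (u − 1)^(dim W); so u has at most one invariant subspace of each dimension. -/
theorem result {F : Type*} [Field F] [Finite F] {n : ℕ} (u : Matrix (Fin n) (Fin n) F) (hnil : (u - 1) ^ n = 0) (hreg : (u - 1).rank = n - 1) (W : Submodule F (Fin n → F)) (hW : ∀ v ∈ W, u.mulVec v ∈ W) : W = LinearMap.ker (Matrix.mulVecLin ((u - 1) ^ Module.finrank F W)) := by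
  set N := Matrix.mulVecLin (u - 1) with hN
  have hker : Module.finrank F (LinearMap.ker N) ≤ 1 := by
    have h1 := LinearMap.finrank_range_add_finrank_ker N
    rw [Module.finrank_fin_fun] at h1
    have h2 : Module.finrank F (LinearMap.range N) = n - 1 := hreg
    omega
  have hpow : ∀ k, Matrix.mulVecLin ((u - 1) ^ k) = N ^ k := fun k => by
    rw [hN, ← Matrix.toLin'_apply', ← Matrix.toLin'_apply', Matrix.toLin'_pow]
  have hWN : ∀ v ∈ W, N v ∈ W := fun v hv => by
    rw [hN, Matrix.mulVecLin_apply, Matrix.sub_mulVec, Matrix.one_mulVec]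
    exact W.sub_mem (hW v hv) hv
  have hn : IsNilpotent (N.restrict hWN) := by
    refine ⟨n, LinearMap.ext fun v => Subtype.ext ?_⟩
    rw [Module.End.pow_restrict]
    show ((N ^ n) v.1) = 0
    rw [← hpow, hnil]
    simp
  have h0 : (N.restrict hWN) ^ Module.finrank F W = 0 := by
    have h1 := hn.charpoly_eq_X_pow_finrank
    have h2 := LinearMap.aeval_self_charpoly (N.restrict hWN)
    rwa [h1, map_pow, Polynomial.aeval_X] at h2
  rw [hpow]
  refine Submodule.eq_of_le_of_finrank_le (fun v hv => ?_) (finrank_ker_pow_le N hker _)
  have h1 := congrArg Subtype.val (LinearMap.congr_fun h0 ⟨v, hv⟩)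
  rw [Module.End.pow_restrict] at h1
  exact LinearMap.mem_ker.mpr h1

end Cfsg.Agent.S2573
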