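import Cfsg.Statements.S2574
import Mathlib
import Cfsg.Prelude.Def_ClassicalGeometry

set_option autoImplicit false
set_option linter.style.haveILetI false
open Cfsg

namespace Cfsg.Agent.S2574

/-- A regular unipotent element of the symplectic group has totally isotropic small invariant subspaces: over a finite field, if u ∈ Sp_2m(F) satisfies (u − 1)^(2m) = 0 and rank(u − 1) = 2m − 1, and W is a u-invariant subspace with 2 dim W ≤ 2m, then the alternating form vanishes identically on W. -/
theorem result {F : Type*} [Field F] [Finite F] {m : ℕ} (u : Matrix.symplecticGroup (Fin m) F) (hnil : ((u : Matrix (Fin m ⊕ Fin m) (Fin m ⊕ Fin m) F) - 1) ^ (2 * m) = 0) (hreg : ((u : Matrix (Fin m ⊕ Fin m) (Fin m ⊕ Fin m) F) - 1).rank = 2 * m - 1) (W : Submodule F (Fin m ⊕ Fin m → F)) (hW : ∀ v ∈ W, (u : Matrix (Fin m ⊕ Fin m) (Fin m ⊕ Fin m) F).mulVec v ∈ W) (hdim : 2 * Module.finrank F W ≤ 2 * m) : ∀ v ∈ W, ∀ w ∈ W, Cfsg.sympForm m F v w = 0 := by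
  classical
  set M := (u : Matrix (Fin m ⊕ Fin m) (Fin m ⊕ Fin m) F)
  set N : (Fin m ⊕ Fin m → F) →ₗ[F] (Fin m ⊕ Fin m → F) := (M - 1).mulVecLin with hN
  have hdimV : Module.finrank F (Fin m ⊕ Fin m → F) = 2 * m := by simp; omega
  have hNp : ∀ k, ((M - 1) ^ k).mulVecLin = N ^ k := fun k => by
    induction k with
    | zero => simp [Module.End.one_eq_id, Matrix.mulVecLin_one]
    | succ k ih => rw [pow_succ, Matrix.mulVecLin_mul, ih, pow_succ, Module.End.mul_eq_comp]
  have hN2 : N ^ (2 * m) = 0 := by rw [← hNp, hnil]; simp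
  have hker1 : Module.finrank F (LinearMap.ker N) ≤ 1 := by
    have h := LinearMap.finrank_range_add_finrank_ker N
    have hr : Module.finrank F (LinearMap.range N) = 2 * m - 1 := hreg
    omega
  have hker : ∀ k, Module.finrank F (LinearMap.ker (N ^ k)) ≤ k := by
    intro k
    induction k with
    | zero => simp [Module.End.one_eq_id]
    | succ k ih =>
      let f : LinearMap.ker (N ^ (k + 1)) →ₗ[F] LinearMap.ker (N ^ k) :=
        (N.comp (Submodule.subtype _)).codRestrict _ fun x => by
          have hx : (N ^ (k + 1)) (x : Fin m ⊕ Fin m → F) = 0 := LinearMap.mem_ker.mp x.2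
          exact LinearMap.mem_ker.mpr ((LinearMap.congr_fun (pow_succ N k) _).symm.trans hx)
      have h1 := LinearMap.finrank_range_add_finrank_ker f
      have h2 := Submodule.finrank_le (LinearMap.range f)
      let g : LinearMap.ker f →ₗ[F] LinearMap.ker N :=
        ((Submodule.subtype _).comp (Submodule.subtype _)).codRestrict _ fun x =>
          LinearMap.mem_ker.mpr (congrArg Subtype.val (LinearMap.mem_ker.mp x.2))
      have h3 := LinearMap.finrank_le_finrank_of_injective (f := g) fun a b hab =>
        Subtype.ext (Subtype.ext (congrArg Subtype.val hab :))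
      omega
  -- the range of `N ^ m` is totally isotropic
  have hB : ∀ x y, Cfsg.sympForm m F (x + N x) (y + N y) = Cfsg.sympForm m F x y := by
    intro x y
    have e : ∀ z, z + N z = M.mulVec z := fun z => by simp [hN, Matrix.sub_mulVec]
    have hu := (SymplecticGroup.mem_iff' (A := M)).mp u.2
    rw [e, e, Cfsg.sympForm, Matrix.mulVec_mulVec, Matrix.dotProduct_mulVec, Matrix.vecMul_mulVec,
      ← Matrix.dotProduct_mulVec, ← mul_assoc, hu]
    rfl
  have hbil : ∀ x y z, Cfsg.sympForm m F (x + y) z = Cfsg.sympForm m F x z + Cfsg.sympForm m F y z :=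
    fun x y z => add_dotProduct _ _ _
  have hbir : ∀ x y z, Cfsg.sympForm m F x (y + z) = Cfsg.sympForm m F x y + Cfsg.sympForm m F x z :=
    fun x y z => by simp [Cfsg.sympForm, Matrix.mulVec_add, dotProduct_add]
  have key : ∀ i d j, 2 * m ≤ i + j → 2 * m ≤ j + d → ∀ a b,
      Cfsg.sympForm m F ((N ^ i) a) ((N ^ j) b) = 0 := by
    intro i
    induction i with
    | zero =>
      intro d j h1 _ a b
      rw [show j = 2 * m + (j - 2 * m) by omega, pow_add N, hN2, zero_mul]
      simp [Cfsg.sympForm]
    | succ i ih =>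
      intro d
      induction d with
      | zero =>
        intro j _ h2 a b
        rw [show (N ^ j) = 0 by rw [show j = 2 * m + (j - 2 * m) by omega, pow_add N, hN2, zero_mul]]
        simp [Cfsg.sympForm]
      | succ d ihd =>
        intro j h1 h2 a b
        have e1 := hB ((N ^ i) a) ((N ^ j) b)
        have e2 := ihd (j + 1) (by omega) (by omega) a b
        have e3 := ih (2 * m) (j + 1) (by omega) (by omega) a b
        have p1 : N ((N ^ i) a) = (N ^ (i + 1)) a := by rw [pow_succ', Module.End.mul_apply]
        have p2 : N ((N ^ j) b) = (N ^ (j + 1)) b := by rw [pow_succ', Module.End.mul_apply]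
        rw [p1, p2, hbil, hbir, hbir, e2, e3] at e1
        linear_combination e1
  -- `W` lies in the kernel of `N ^ m`, which is the range of `N ^ m`
  have hWN : ∀ v ∈ W, N v ∈ W := fun v hv => by
    have : N v = M.mulVec v - v := by simp [hN, Matrix.sub_mulVec]
    rw [this]
    exact W.sub_mem (hW v hv) hv
  have hWk : ∀ v ∈ W, (N ^ m) v = 0 := by
    intro v hv
    have hnilW : IsNilpotent (N.restrict hWN) := ⟨2 * m, by
      rw [Module.End.pow_restrict]
      ext x i
      simp [hN2]⟩
    have h0 := hnilW.charpoly_eq_X_pow_finrank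
    have h1 : (N.restrict hWN) ^ Module.finrank F W = 0 := by
      have := LinearMap.aeval_self_charpoly (N.restrict hWN)
      rwa [h0, map_pow, Polynomial.aeval_X] at this
    have h2 : (N.restrict hWN) ^ m = 0 := by
      have hmW : Module.finrank F W + (m - Module.finrank F W) = m := by omega
      rw [← congrArg (fun j => N.restrict hWN ^ j) hmW, pow_add, h1, zero_mul]
    rw [Module.End.pow_restrict] at h2
    exact congrArg Subtype.val (LinearMap.congr_fun h2 ⟨v, hv⟩)
  have hrange : LinearMap.range (N ^ m) = LinearMap.ker (N ^ m) := by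
    refine Submodule.eq_of_le_of_finrank_le ?_ ?_
    · rintro _ ⟨a, rfl⟩
      rw [LinearMap.mem_ker, ← Module.End.mul_apply, ← pow_add, ← two_mul, hN2, LinearMap.zero_apply]
    · have h := LinearMap.finrank_range_add_finrank_ker (N ^ m)
      have := hker m
      omega
  intro v hv w hw
  obtain ⟨a, rfl⟩ : v ∈ LinearMap.range (N ^ m) := hrange ▸ LinearMap.mem_ker.mpr (hWk v hv)
  obtain ⟨b, rfl⟩ : w ∈ LinearMap.range (N ^ m) := hrange ▸ LinearMap.mem_ker.mpr (hWk w hw)
  exact key m m m (by omega) (by omega) a b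

end Cfsg.Agent.S2574
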