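import Cfsg.Statements.S2575
import Mathlib
-- import your own Cfsg.Agent.* helpers here

set_option autoImplicit false
open Cfsg

namespace Cfsg.Agent.S2575

/-- Which diagonal involutions of PGL_n(q) lie in PSL_n(q), q odd: for the diagonal matrix t with i entries −1 and n − i entries 1, some non-zero scalar multiple of t has determinant one if and only if i is even or the 2-part of q − 1 exceeds the 2-part of n (that is, −1 is an n-th power in the field exactly in the latter case). -/
theorem result {F : Type*} [Field F] [Fintype F] {q : ℕ} (hF : Fintype.card F = q) (hq : Odd q) {n : ℕ} (hn : 1 ≤ n) (i : ℕ) (hi : i ≤ n) : (∃ c : F, c ≠ 0 ∧ (c • Matrix.diagonal (fun j : Fin n => if (j : ℕ) < i then (-1 : F) else 1)).det = 1) ↔ (Even i ∨ padicValNat 2 n < padicValNat 2 (q - 1)) := by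
  classical
  subst hF
  have : NeZero n := ⟨by omega⟩
  have hdet : ∀ c : F, (c • Matrix.diagonal (fun j : Fin n => if (j : ℕ) < i then (-1 : F) else 1)).det =
      c ^ n * (-1) ^ i := by
    intro c
    rw [Matrix.det_smul, Matrix.det_diagonal, Fintype.card_fin, Finset.prod_ite, Finset.prod_const_one, mul_one,
      Finset.prod_const, Fin.card_filter_val_lt, min_eq_right hi]
  have h2 : ringChar F ≠ 2 := fun e => by
    have := FiniteField.even_card_of_char_two e
    rw [Nat.odd_iff] at hq
    omega
  have hm1 : (-1 : F) ≠ 1 := Ring.neg_one_ne_one_of_char_ne_two h2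
  rcases Nat.even_or_odd i with hev | hod
  · exact iff_of_true ⟨1, one_ne_zero, by rw [hdet, one_pow, one_mul, hev.neg_one_pow]⟩ (Or.inl hev)
  simp only [hdet, hod.neg_one_pow, mul_neg, mul_one]
  set a := padicValNat 2 n with ha
  have hna : 2 ^ a ∣ n := pow_padicValNat_dvd
  constructor
  · rintro ⟨c, hc, h⟩
    refine Or.inr ?_
    have h1 : c ^ n = -1 := by linear_combination -h
    set u : Fˣ := Units.mk0 c hc with hu
    have hun : u ^ n = -1 := Units.ext (by simpa [hu] using h1)
    by_contra hle
    push Not at hle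
    obtain ⟨k, hk⟩ := hna
    have hodd : Odd k := by
      rw [← Nat.not_even_iff_odd]
      rintro ⟨j, rfl⟩
      have hd : 2 ^ (a + 1) ∣ n := ⟨j, by rw [hk, pow_succ]; ring⟩
      have := (padicValNat_dvd_iff_le (by omega : n ≠ 0)).1 hd
      omega
    obtain ⟨b, hb⟩ : 2 ^ padicValNat 2 (Fintype.card F - 1) ∣ Fintype.card F - 1 := pow_padicValNat_dvd
    have h3 : (-1 : Fˣ) ^ b = 1 := by
      rw [← hun, ← pow_mul]
      refine orderOf_dvd_iff_pow_eq_one.1 ((orderOf_dvd_natCard u).trans ?_)
      rw [Nat.card_units, Nat.card_eq_fintype_card, hb, hk]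
      exact mul_dvd_mul (dvd_mul_of_dvd_left (pow_dvd_pow 2 hle) _) dvd_rfl
    have hbodd : Odd b := by
      rw [← Nat.not_even_iff_odd]
      rintro ⟨j, rfl⟩
      have hd : 2 ^ (padicValNat 2 (Fintype.card F - 1) + 1) ∣ Fintype.card F - 1 := ⟨j, by
        rw [pow_succ]; nth_rw 1 [hb]; ring⟩
      have hne : Fintype.card F - 1 ≠ 0 := by have := Fintype.one_lt_card (α := F); omega
      have := (padicValNat_dvd_iff_le hne).1 hd
      omega
    rw [hbodd.neg_one_pow] at h3
    exact hm1 (by simpa using congrArg Units.val h3)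
  · rintro (hev | hlt)
    · exact absurd hev (Nat.not_even_iff_odd.2 hod)
    obtain ⟨g, hg⟩ := IsCyclic.exists_generator (α := Fˣ)
    have ho : orderOf g = Fintype.card F - 1 := by
      rw [orderOf_eq_card_of_forall_mem_zpowers hg, Nat.card_units, Nat.card_eq_fintype_card]
    have hdvd : 2 ^ (a + 1) ∣ Fintype.card F - 1 := (pow_dvd_pow 2 hlt).trans pow_padicValNat_dvd
    obtain ⟨k, hk⟩ := hna
    have hodd : Odd k := by
      rw [← Nat.not_even_iff_odd]
      rintro ⟨j, rfl⟩
      have hd : 2 ^ (a + 1) ∣ n := ⟨j, by rw [hk, pow_succ]; ring⟩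
      have := (padicValNat_dvd_iff_le (by omega : n ≠ 0)).1 hd
      omega
    obtain ⟨m, hm⟩ := hdvd
    have hcard : 0 < Fintype.card F - 1 := by have := Fintype.one_lt_card (α := F); omega
    have hhalf : g ^ (2 ^ a * m) = -1 := by
      have h1 : ((g : F) ^ (2 ^ a * m)) ^ 2 = 1 := by
        rw [← pow_mul, show 2 ^ a * m * 2 = Fintype.card F - 1 by rw [hm, pow_succ]; ring]
        exact FiniteField.pow_card_sub_one_eq_one _ g.ne_zero
      rcases sq_eq_one_iff.1 h1 with h | h
      · exfalso
        have hm0 : 0 < 2 ^ a * m := Nat.pos_of_ne_zero fun e => by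
          rw [hm, pow_succ, mul_assoc, mul_comm 2 m, ← mul_assoc, e] at hcard; omega
        have := Nat.le_of_dvd hm0 (orderOf_dvd_of_pow_eq_one
          (Units.ext (by simpa using h) : g ^ (2 ^ a * m) = 1))
        rw [ho, hm, pow_succ, mul_assoc, mul_comm 2 m, ← mul_assoc] at this
        omega
      · exact Units.ext (by simpa using h)
    refine ⟨((g ^ m : Fˣ) : F), Units.ne_zero _, ?_⟩
    rw [← Units.val_pow_eq_pow_val, ← pow_mul, show m * n = 2 ^ a * m * k by rw [hk]; ring, pow_mul, hhalf,
      hodd.neg_one_pow]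
    simp


end Cfsg.Agent.S2575
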