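import Cfsg.Statements.S2576
import Mathlib
-- import your own Cfsg.Agent.* helpers here

set_option autoImplicit false
open Cfsg

namespace Cfsg.Agent.S2576

/-- Which involutions of PGL_2m(q) coming from a scalar of the quadratic extension field lie in PSL_2m(q), q odd: let μ generate the Sylow 2-subgroup of the multiplicative group of the field with q elements (μ has order the 2-part of q − 1) and let t be the block-diagonal matrix with m diagonal blocks [[0, 1], [μ, 0]] (so t² is the scalar μ and t is an involution modulo scalars). Then some non-zero scalar multiple of t has determinant one if and only if q ≡ 3 (mod 4) or the 2-part of q − 1 is less than the 2-part of 2m. -/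
theorem result {F : Type*} [Field F] [Fintype F] {q : ℕ} (hF : Fintype.card F = q) (hq : Odd q) {m : ℕ} (hm : 1 ≤ m) (μ : F) (hμ : orderOf μ = 2 ^ padicValNat 2 (q - 1)) : (∃ c : F, c ≠ 0 ∧ (c • Matrix.blockDiagonal (fun _ : Fin m => !![(0 : F), 1; μ, 0])).det = 1) ↔ (q % 4 = 3 ∨ padicValNat 2 (q - 1) < padicValNat 2 (2 * m)) := by
  classical
  subst hF
  set b := padicValNat 2 (Fintype.card F - 1) with hbdef
  have hb2 : Fintype.card F - 1 ≠ 0 := by have := Fintype.one_lt_card (α := F); omega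
  have : NeZero m := ⟨by omega⟩
  have hb1 : 1 ≤ b := (padicValNat_dvd_iff_le hb2).1 (by rw [pow_one]; obtain ⟨k, hk⟩ := hq; omega)
  have hμ0 : μ ≠ 0 := by
    rintro rfl
    have := pow_orderOf_eq_one (0 : F)
    rw [hμ, zero_pow (pow_ne_zero _ two_ne_zero)] at this
    exact zero_ne_one this
  have hdet : ∀ c : F, (c • Matrix.blockDiagonal (fun _ : Fin m => !![(0 : F), 1; μ, 0])).det =
      c ^ (2 * m) * (-μ) ^ m := by
    intro c
    rw [Matrix.det_smul, Matrix.det_blockDiagonal]
    simp [Matrix.det_fin_two, Fintype.card_prod, mul_comm]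
  simp only [hdet]
  have hF3 : Fintype.card F % 4 = 3 ↔ b = 1 := by
    have h4 : b = 1 ↔ ¬ 2 ^ 2 ∣ Fintype.card F - 1 := by rw [padicValNat_dvd_iff_le hb2]; omega
    rw [h4]
    obtain ⟨k, hk⟩ := hq
    omega
  rw [hF3, padicValNat.mul two_ne_zero (NeZero.ne m), padicValNat_self]
  have h2b : 2 ^ b ∣ Fintype.card F - 1 := pow_padicValNat_dvd
  set a := padicValNat 2 m with hadef
  obtain ⟨k, hk⟩ : 2 ^ a ∣ m := pow_padicValNat_dvd
  have hkodd : Odd k := by
    rw [← Nat.not_even_iff_odd]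
    rintro ⟨j, rfl⟩
    have hd : 2 ^ (a + 1) ∣ m := ⟨j, by rw [hk, pow_succ]; ring⟩
    have := (padicValNat_dvd_iff_le (NeZero.ne m)).1 hd
    omega
  have hm2 : 2 ^ b ∣ m ↔ b ≤ a := padicValNat_dvd_iff_le (NeZero.ne m)
  have hneg1 : μ ^ (2 ^ (b - 1)) = -1 := by
    have h1 : (μ ^ (2 ^ (b - 1))) ^ 2 = 1 := by
      rw [← pow_mul, ← pow_succ, Nat.sub_add_cancel hb1, ← hμ, pow_orderOf_eq_one]
    refine (sq_eq_one_iff.1 h1).resolve_left fun h => ?_
    have := Nat.le_of_dvd (by positivity) (hμ ▸ orderOf_dvd_of_pow_eq_one h)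
    have := Nat.pow_lt_pow_right (show 1 < 2 by norm_num) (show b - 1 < b by omega)
    omega
  constructor
  · rintro ⟨c, hc, h⟩
    by_cases hb : b = 1
    · exact Or.inl hb
    refine Or.inr ?_
    by_contra hle
    have hab : a + 1 ≤ b - 1 + 0 ∨ a + 1 = b := by omega
    obtain ⟨d, hd⟩ := h2b
    have hdodd : Odd d := by
      rw [← Nat.not_even_iff_odd]
      rintro ⟨j, rfl⟩
      have hd' : 2 ^ (b + 1) ∣ Fintype.card F - 1 := ⟨j, by rw [hd, pow_succ]; ring⟩
      have := (padicValNat_dvd_iff_le hb2).1 hd'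
      omega
    have h1 := congrArg (· ^ (2 ^ (b - (a + 1)) * d)) h
    simp only [one_pow, mul_pow, ← pow_mul] at h1
    have e1 : 2 * m * (2 ^ (b - (a + 1)) * d) = (Fintype.card F - 1) * k := by
      rw [hk, hd]
      have : 2 ^ (b - (a + 1)) * 2 ^ a * 2 = 2 ^ b := by
        rw [mul_assoc, ← pow_succ, ← pow_add]; congr 1; omega
      rw [← this]; ring
    have e2 : m * (2 ^ (b - (a + 1)) * d) = 2 ^ (b - 1) * (k * d) := by
      rw [hk]
      have : 2 ^ (b - (a + 1)) * 2 ^ a = 2 ^ (b - 1) := by rw [← pow_add]; congr 1; omega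
      rw [← this]; ring
    rw [e1, pow_mul, FiniteField.pow_card_sub_one_eq_one c hc, one_pow, one_mul, e2, pow_mul,
      (Nat.even_pow.2 ⟨even_two, by omega⟩ : Even (2 ^ (b - 1))).neg_pow, hneg1,
      (hkodd.mul hdodd).neg_one_pow] at h1
    exact Ring.neg_one_ne_one_of_char_ne_two (fun e => by
      have := FiniteField.even_card_of_char_two e
      obtain ⟨j, hj⟩ := hq
      omega) h1
  · rintro (hb | hlt)
    · refine ⟨1, one_ne_zero, ?_⟩
      rw [hb, Nat.sub_self, pow_zero, pow_one] at hneg1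
      rw [hneg1]
      simp
    · refine ⟨1, one_ne_zero, ?_⟩
      obtain ⟨j, hj⟩ := hm2.2 (by omega : b ≤ a)
      rw [one_pow, one_mul, hj, pow_mul, (Nat.even_pow.2 ⟨even_two, by omega⟩ : Even (2 ^ b)).neg_pow,
        ← hμ, pow_orderOf_eq_one, one_pow]


end Cfsg.Agent.S2576
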