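import Cfsg.Statements.S2585
-- import your own Cfsg.Agent.* helpers here

set_option autoImplicit false
open Cfsg

namespace Cfsg.Agent.S2585

/-- Over a finite field of characteristic two every element of the symplectic group is orthogonal for a suitable quadratic form: for each A in Sp_2m(F) there is a quadratic form Q on F^(2m) whose polar form is the alternating form defining Sp_2m(F) (so Q is non-degenerate) and which A preserves. Equivalently, for m ≥ 1, Sp_2m(F) is the union of the conjugates of its two orthogonal subgroups O⁺_2m(F) and O⁻_2m(F). -/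
theorem result {F : Type*} [Field F] [Fintype F] [CharP F 2] {m : ℕ} (A : Matrix.symplecticGroup (Fin m) F) : ∃ Q : QuadraticForm F (Fin m ⊕ Fin m → F), (∀ u v : Fin m ⊕ Fin m → F, QuadraticMap.polar ⇑Q u v = Cfsg.sympForm m F u v) ∧ ∀ v : Fin m ⊕ Fin m → F, Q ((A : Matrix (Fin m ⊕ Fin m) (Fin m ⊕ Fin m) F).mulVec v) = Q v := by
  classical
  have h2 : (2 : F) = 0 := CharP.cast_eq_zero F 2
  have hneg : ∀ x : F, -x = x := fun x => by linear_combination (-x) * h2
  set Q₀ : QuadraticForm F (Fin m ⊕ Fin m → F) :=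
    ∑ i : Fin m, QuadraticMap.proj (R := F) (Sum.inl i) (Sum.inr i)
  have hQ₀ : ∀ v, Q₀ v = ∑ i : Fin m, v (Sum.inl i) * v (Sum.inr i) := fun v => by
    simp [Q₀, QuadraticMap.proj_apply]
  have hpolar : ∀ u v, QuadraticMap.polar ⇑Q₀ u v = Cfsg.sympForm m F u v := by
    intro u v
    simp only [QuadraticMap.polar, hQ₀, ← Finset.sum_sub_distrib, Cfsg.sympForm, dotProduct,
      Fintype.sum_sum_type, Matrix.J, Matrix.fromBlocks_mulVec, Sum.elim_inl, Sum.elim_inr,
      Matrix.zero_mulVec, Matrix.neg_mulVec, Matrix.one_mulVec, zero_add, add_zero, Pi.neg_apply,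
      Function.comp_apply, hneg, ← Finset.sum_add_distrib, Pi.add_apply]
    exact Finset.sum_congr rfl fun i _ => by ring
  set M := (A : Matrix (Fin m ⊕ Fin m) (Fin m ⊕ Fin m) F) with hM
  have hsymp : ∀ u v, Cfsg.sympForm m F (M.mulVec u) (M.mulVec v) = Cfsg.sympForm m F u v := by
    intro u v
    have h : M.transpose * Matrix.J (Fin m) F * M = Matrix.J (Fin m) F :=
      SymplecticGroup.mem_iff'.1 A.2
    unfold Cfsg.sympForm
    rw [Matrix.mulVec_mulVec, ← Matrix.vecMul_transpose, ← Matrix.dotProduct_mulVec,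
      Matrix.mulVec_mulVec, ← Matrix.mul_assoc, h]
  -- the defect is the square of a linear form
  let D : (Fin m ⊕ Fin m → F) → F := fun v => Q₀ (M.mulVec v) - Q₀ v
  have hDadd : ∀ u v, D (u + v) = D u + D v := by
    intro u v
    have h1 := hpolar (M.mulVec u) (M.mulVec v)
    rw [hsymp, ← hpolar] at h1
    simp only [QuadraticMap.polar, ← Matrix.mulVec_add] at h1
    simp only [D]
    linear_combination h1
  have hDsmul : ∀ (c : F) v, D (c • v) = c ^ 2 * D v := fun c v => by
    simp only [D, Matrix.mulVec_smul, QuadraticMap.map_smul, smul_eq_mul]; ring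
  let sq : F ≃+* F := frobeniusEquiv F 2
  have hsq : ∀ x, sq x = x ^ 2 := fun x => rfl
  let l : (Fin m ⊕ Fin m → F) →ₗ[F] F :=
    { toFun := fun v => sq.symm (D v)
      map_add' := fun u v => by rw [hDadd, map_add]
      map_smul' := fun c v => by
        rw [hDsmul, map_mul, ← hsq, RingEquiv.symm_apply_apply]; rfl }
  have hl : ∀ v, l v ^ 2 = D v := fun v => by
    rw [← hsq]; exact sq.apply_symm_apply _
  let T : (Fin m ⊕ Fin m → F) →ₗ[F] (Fin m ⊕ Fin m → F) := Matrix.mulVecLin M - LinearMap.id
  obtain ⟨μ, hμ⟩ : l ∈ LinearMap.range T.dualMap := by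
    rw [LinearMap.range_dualMap_eq_dualAnnihilator_ker, Submodule.mem_dualAnnihilator]
    intro v hv
    have hv' : M.mulVec v = v := sub_eq_zero.1 (by simpa [T] using LinearMap.mem_ker.1 hv)
    show sq.symm (D v) = 0
    simp [D, hv']
  refine ⟨Q₀ + QuadraticMap.linMulLin μ μ, fun u v => ?_, fun v => ?_⟩
  · rw [← hpolar]
    simp only [QuadraticMap.polar, _root_.add_apply, QuadraticMap.linMulLin_apply, map_add]
    linear_combination (μ u * μ v) * h2
  · have hT : μ (M.mulVec v) = μ v + l v := by
      rw [← hμ]; simp [T, map_sub]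
    simp only [_root_.add_apply, QuadraticMap.linMulLin_apply, hT]
    have h3 := hl v
    simp only [D] at h3
    linear_combination -h3 + (μ v * l v + l v ^ 2) * h2

end Cfsg.Agent.S2585
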