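import Cfsg.Statements.S2594
import Cfsg.Agent.Lib.Classical.SympOrder
-- import your own Cfsg.Agent.* helpers here

set_option autoImplicit false
open Cfsg Matrix CfsgLib.Classical.SympTrans

namespace Cfsg.Agent.S2594

/-- Over a finite field with q elements, q even, an element t of Sp_2m(F) with rank(t − 1) = 1 (a symplectic transvection) has centraliser in Sp_2m(F) of order q^(2m−1) · |Sp_(2m−2)(q)| = q^(2m−1) · q^((m−1)²) · Π_(i=1)^(m−1) (q^(2i) − 1). -/
theorem result {F : Type*} [Field F] [Fintype F] [CharP F 2] {q : ℕ} (hF : Fintype.card F = q) {m : ℕ} (hm : 1 ≤ m) (t : Matrix.symplecticGroup (Fin m) F) (ht : ((t : Matrix (Fin m ⊕ Fin m) (Fin m ⊕ Fin m) F) - 1).rank = 1) : Nat.card ↥(Subgroup.centralizer ({t} : Set ↥(Matrix.symplecticGroup (Fin m) F))) = q ^ (2 * m - 1) * (q ^ ((m - 1) ^ 2) * ∏ i : Fin (m - 1), (q ^ (2 * ((i : ℕ) + 1)) - 1)) := by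
  classical
  subst hF
  have h2 : (2 : F) = 0 := CharTwo.two_eq_zero
  let V := Fin m ⊕ Fin m → F
  set A : Matrix (Fin m ⊕ Fin m) (Fin m ⊕ Fin m) F := t.1
  have hr : Module.finrank F (LinearMap.range (Matrix.mulVecLin (A - 1))) = 1 := ht
  obtain ⟨p, hp0, hp⟩ := finrank_eq_one_iff'.1 hr
  have hp0' : (p : V) ≠ 0 := fun e => hp0 (Subtype.ext e)
  have hφ : ∀ x : V, ∃ a : F, app t x = x + a • (p : V) := fun x => by
    obtain ⟨a, ha⟩ := hp ⟨_, LinearMap.mem_range_self _ x⟩
    refine ⟨a, ?_⟩
    have e : a • (p : V) = (A - 1) *ᵥ x := congrArg Subtype.val ha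
    rw [e, sub_mulVec, one_mulVec, add_sub_cancel]
    rfl
  choose φ hφ using hφ
  obtain ⟨y, hy⟩ : ∃ y, Cfsg.sympForm m F y p = 1 := by
    by_contra hc
    push Not at hc
    refine hp0' (eq_zero_of_f _ fun y => ?_)
    by_contra h
    exact hc ((Cfsg.sympForm m F (p : V) y)⁻¹ • -y) (by
      rw [← neg_one_smul F y, f_smul_left, f_smul_left, neg_one_mul, ← f_swap, inv_mul_cancel₀ h])
  have hlin : ∀ x, φ x = φ y * Cfsg.sympForm m F x p := by
    intro x
    have h := f_app t x y
    rw [hφ, hφ, f_add_left, f_add_right, f_add_right, f_smul_left, f_smul_right, f_smul_left,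
      f_smul_right, f_self, f_swap y (p : V), hy] at h
    linear_combination -h
  obtain ⟨a, ha⟩ : ∃ a, a * a = φ y := by
    obtain ⟨a, ha⟩ := FiniteField.isSquare_of_char_two (CharP.ringChar_of_prime_eq_zero Nat.prime_two (by exact_mod_cast h2)) (φ y)
    exact ⟨a, ha.symm⟩
  have htT : t = T (a • (p : V)) 1 := ext_app fun x => by
    rw [hφ, T_smul, app_T, hlin, ← ha, mul_one]
  set v : V := a • (p : V)
  have hv : v ≠ 0 := fun e => by
    rw [e, T_zero'] at htT
    rw [show A - 1 = 0 by rw [show A = (1 : Matrix (Fin m ⊕ Fin m) (Fin m ⊕ Fin m) F) from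
      congrArg Subtype.val htT, sub_self], Matrix.mulVecLin_zero, LinearMap.range_zero, finrank_bot] at hr
    exact zero_ne_one hr
  have hinj : ∀ u w : V, u ≠ 0 → T u (1 : F) = T w 1 → u = w := by
    intro u w hu e
    obtain ⟨x, hx⟩ : ∃ x, Cfsg.sympForm m F x u ≠ 0 := by
      by_contra hc
      push Not at hc
      exact hu (eq_zero_of_f _ fun x => by rw [f_swap, hc, neg_zero])
    have h := congrArg (fun g => app g x) e
    simp only [app_T, one_mul, add_right_inj] at h
    have hu' : u = (Cfsg.sympForm m F x w / Cfsg.sympForm m F x u) • w := by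
      rw [div_eq_inv_mul, mul_smul, ← h, inv_smul_smul₀ hx]
    set k := Cfsg.sympForm m F x w / Cfsg.sympForm m F x u
    have h' : (Cfsg.sympForm m F x u) • u = Cfsg.sympForm m F x w • w := h
    rw [hu', f_smul_right, smul_smul] at h'
    have hw : w ≠ 0 := fun e => hu (by rw [hu', e, smul_zero])
    have h'' := smul_left_injective F hw h'
    have hxw : Cfsg.sympForm m F x w ≠ 0 := fun e => hx (by rw [hu', f_smul_right, e, mul_zero])
    have hk : k * k = 1 := mul_right_cancel₀ hxw (by linear_combination h'')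
    have hk1 : k = 1 := by
      have : (k - 1) * (k - 1) = 0 := by linear_combination hk - k * h2 + h2
      exact sub_eq_zero.1 (mul_self_eq_zero.1 this)
    rw [hu', hk1, one_smul]
  letI : MulAction ↥(Matrix.symplecticGroup (Fin m) F) V :=
    { smul := fun g x => app g x, one_smul := app_one, mul_smul := app_mul }
  have hstab : MulAction.stabilizer ↥(Matrix.symplecticGroup (Fin m) F) v =
      Subgroup.centralizer {t} := by
    ext g
    rw [MulAction.mem_stabilizer_iff, Subgroup.mem_centralizer_singleton_iff]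
    have key : g * t * g⁻¹ = T (app g v) 1 := by rw [htT, conj_T]
    constructor
    · intro h
      rw [show app g v = v from h, ← htT] at key
      exact mul_inv_eq_iff_eq_mul.1 key
    · intro h
      rw [mul_inv_eq_iff_eq_mul.2 h, htT] at key
      exact (hinj v _ hv key).symm
  have horb : Nat.card (MulAction.orbit ↥(Matrix.symplecticGroup (Fin m) F) v) + 1 = Nat.card V := by
    have : MulAction.orbit ↥(Matrix.symplecticGroup (Fin m) F) v = ({0} : Set V)ᶜ := by
      ext w
      refine ⟨fun ⟨g, hg⟩ => hg ▸ app_ne_zero g hv, fun hw => ?_⟩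
      obtain ⟨g, hg⟩ := exists_app_eq hv hw
      exact ⟨g, hg⟩
    rw [Nat.card_coe_set_eq, this, ← Set.ncard_singleton (0 : V), add_comm, Set.ncard_add_ncard_compl]
  have h := MulAction.card_orbit_mul_card_stabilizer_eq_card_group ↥(Matrix.symplecticGroup (Fin m) F) v
  rw [← Nat.card_eq_fintype_card, ← Nat.card_eq_fintype_card, ← Nat.card_eq_fintype_card,
    card_symplectic, Nat.card_eq_fintype_card (α := F)] at h
  have hV : Nat.card V = Fintype.card F ^ (2 * m) := by
    rw [Nat.card_eq_fintype_card, Fintype.card_fun, Fintype.card_sum, Fintype.card_fin, two_mul]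
  rw [← hstab, Fin.prod_univ_eq_prod_range (fun i => Fintype.card F ^ (2 * (i + 1)) - 1)]
  obtain ⟨j, rfl⟩ : ∃ j, m = j + 1 := ⟨m - 1, by omega⟩
  rw [Finset.prod_range_succ] at h
  have h1 : Nat.card (MulAction.orbit ↥(Matrix.symplecticGroup (Fin (j + 1)) F) v) =
      Fintype.card F ^ (2 * (j + 1)) - 1 := by omega
  have hpos : 0 < Fintype.card F ^ (2 * (j + 1)) - 1 := by
    have := Nat.one_lt_pow (n := 2 * (j + 1)) (by omega) (Fintype.one_lt_card (α := F))
    omega
  refine Nat.eq_of_mul_eq_mul_left hpos (((congrArg (· * _) h1).symm.trans h).trans ?_)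
  rw [Nat.add_sub_cancel, show 2 * (j + 1) - 1 = 2 * j + 1 by omega,
    show (j + 1) ^ 2 = j ^ 2 + (2 * j + 1) by ring, pow_add]
  ring

end Cfsg.Agent.S2594
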