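import Cfsg.Statements.S2599
import Mathlib
-- import your own Cfsg.Agent.* helpers here

set_option autoImplicit false
open Cfsg

namespace Cfsg.Agent.S2599

/-- An irreducible invariant subspace of a semisimple isometry is non-degenerate or totally singular: let Q be a quadratic form on F^n (F finite of characteristic p) with non-degenerate polar form f, x an isometry of Q of order prime to p, and U a non-zero x-invariant subspace containing no x-invariant subspace other than 0 and U. Then U meets its f-orthogonal trivially, or Q vanishes on U, or p = 2, U is a line spanned by a non-singular vector and x fixes U pointwise. -/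
theorem result {F : Type*} [Field F] [Fintype F] {p : ℕ} [Fact p.Prime] [CharP F p] {n : ℕ} (Q : QuadraticForm F (Fin n → F)) (hQ : (QuadraticMap.polarBilin Q).Nondegenerate) (x : ↥(Cfsg.isometryGroup F ⇑Q)) (hx : (orderOf x).Coprime p) (U : Submodule F (Fin n → F)) (hU0 : U ≠ ⊥) (hUx : ∀ u ∈ U, ((x : Matrix.GeneralLinearGroup (Fin n) F) : Matrix (Fin n) (Fin n) F).mulVec u ∈ U) (hirr : ∀ W : Submodule F (Fin n → F), W ≤ U → (∀ w ∈ W, ((x : Matrix.GeneralLinearGroup (Fin n) F) : Matrix (Fin n) (Fin n) F).mulVec w ∈ W) → W = ⊥ ∨ W = U) : U ⊓ LinearMap.BilinForm.orthogonal (QuadraticMap.polarBilin Q) U = ⊥ ∨ (∀ u ∈ U, Q u = 0) ∨ (p = 2 ∧ Module.finrank F U = 1 ∧ (∃ u ∈ U, Q u ≠ 0) ∧ ∀ u ∈ U, ((x : Matrix.GeneralLinearGroup (Fin n) F) : Matrix (Fin n) (Fin n) F).mulVec u = u) := by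
  classical
  set M : Matrix (Fin n) (Fin n) F := ((x : Matrix.GeneralLinearGroup (Fin n) F) : Matrix (Fin n) (Fin n) F)
  have hQx : ∀ u, Q (M.mulVec u) = Q u := fun u => x.2 u u
  have hpol : ∀ u v, QuadraticMap.polar Q (M.mulVec u) (M.mulVec v) = QuadraticMap.polar Q u v := fun u v => by
    simp only [QuadraticMap.polar, ← Matrix.mulVec_add, hQx]
  let W := U ⊓ LinearMap.BilinForm.orthogonal (QuadraticMap.polarBilin Q) U
  have hinjM : Function.Injective M.mulVec :=
    Matrix.mulVec_injective_iff_isUnit.mpr (x : Matrix.GeneralLinearGroup (Fin n) F).isUnit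
  have hsurjU : ∀ u ∈ U, ∃ w ∈ U, M.mulVec w = u := by
    intro u hu
    let φ : U →ₗ[F] U := (Matrix.mulVecLin M).restrict (fun w hw => hUx w hw)
    have hφ : Function.Injective φ := fun a b e => Subtype.ext (hinjM (congrArg Subtype.val e))
    obtain ⟨w, hw⟩ := LinearMap.injective_iff_surjective.mp hφ ⟨u, hu⟩
    exact ⟨w, w.2, congrArg Subtype.val hw⟩
  have hWx : ∀ w ∈ W, M.mulVec w ∈ W := by
    rintro w ⟨hw1, hw2⟩
    refine ⟨hUx w hw1, LinearMap.BilinForm.mem_orthogonal_iff.mpr fun v hv => ?_⟩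
    obtain ⟨v', hv', rfl⟩ := hsurjU v hv
    have h := LinearMap.BilinForm.mem_orthogonal_iff.mp hw2 v' hv'
    show (QuadraticMap.polarBilin Q) (M.mulVec v') (M.mulVec w) = 0
    simp only [QuadraticMap.polarBilin_apply_apply, hpol]
    simpa [LinearMap.IsOrtho] using h
  rcases hirr W inf_le_left hWx with h | h
  · exact Or.inl h
  right
  have hiso : ∀ u ∈ U, ∀ v ∈ U, QuadraticMap.polar Q u v = 0 := fun u hu v hv => by
    have hv' : v ∈ W := h.symm ▸ hv
    simpa [LinearMap.IsOrtho] using LinearMap.BilinForm.mem_orthogonal_iff.mp hv'.2 u hu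
  by_cases hp2 : p = 2
  · subst hp2
    let K : Submodule F (Fin n → F) :=
      { carrier := {u | u ∈ U ∧ Q u = 0}
        zero_mem' := ⟨U.zero_mem, QuadraticMap.map_zero Q⟩
        add_mem' := fun {a b} ha hb => ⟨U.add_mem ha.1 hb.1, by
          have := hiso a ha.1 b hb.1
          rw [QuadraticMap.polar, ha.2, hb.2, sub_zero, sub_zero] at this
          exact this⟩
        smul_mem' := fun c a ha => ⟨U.smul_mem c ha.1, by rw [QuadraticMap.map_smul, ha.2, smul_zero]⟩ }
    rcases hirr K (fun u hu => hu.1) (fun u hu => ⟨hUx u hu.1, by rw [hQx]; exact hu.2⟩) with hK | hK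
    · right
      have hfix : ∀ u ∈ U, M.mulVec u = u := fun u hu => by
        have hmem : M.mulVec u - u ∈ U := U.sub_mem (hUx u hu) hu
        have h2 : Q (M.mulVec u - u) = 0 := by
          have e := hiso (M.mulVec u) (hUx u hu) (-u) (U.neg_mem hu)
          rw [QuadraticMap.polar, QuadraticMap.map_neg, hQx, ← sub_eq_add_neg] at e
          linear_combination e + CharTwo.add_self_eq_zero (Q u)
        have : M.mulVec u - u ∈ K := ⟨hmem, h2⟩
        rw [hK, Submodule.mem_bot, sub_eq_zero] at this
        exact this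
      obtain ⟨u, hu, hu0⟩ := Submodule.exists_mem_ne_zero_of_ne_bot hU0
      have hU1 : Submodule.span F {u} = U :=
        (hirr _ ((Submodule.span_singleton_le_iff_mem u U).mpr hu) (fun w hw => by
          rw [hfix w ((Submodule.span_singleton_le_iff_mem u U).mpr hu hw)]; exact hw)).resolve_left
          (fun e => hu0 ((Submodule.span_singleton_eq_bot).mp e))
      refine ⟨rfl, by rw [← hU1]; exact finrank_span_singleton hu0, ⟨u, hu, fun e => hu0 ?_⟩, hfix⟩
      have : u ∈ K := ⟨hu, e⟩
      rwa [hK, Submodule.mem_bot] at this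
    · exact Or.inl fun u hu => (hK.ge hu).2
  · left
    intro u hu
    have h := hiso u hu u hu
    rw [QuadraticMap.polar_self] at h
    have h2 : (2 : F) ≠ 0 := fun e => hp2 ((Nat.prime_dvd_prime_iff_eq Fact.out Nat.prime_two).mp
      ((CharP.cast_eq_zero_iff F p 2).mp (by exact_mod_cast e)))
    simpa [h2] using h

end Cfsg.Agent.S2599
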