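import Cfsg.Statements.S2609
import Cfsg.Agent.Lib.Classical.OrthSpinor
import Cfsg.Agent.Lib.Classical.Reflect

set_option autoImplicit false
open Cfsg

namespace Cfsg.Agent.S2609

/-- Spinor norm criterion for Ω over a finite field of odd order: let Q be a quadratic form on F^n, n ≥ 2, with non-degenerate polar form, and let g be an isometry written as a product of reflections in non-singular vectors v_1, …, v_k. Then g lies in Ω (the commutator subgroup of the orthogonal group) if and only if k is even and Q(v_1)⋯Q(v_k) is a square; in particular, for g of determinant one, whether that product is a square does not depend on the chosen factorisation (it is the spinor norm of g). -/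
theorem result {F : Type*} [Field F] [Fintype F] (h2 : (2 : F) ≠ 0) {n : ℕ} (hn : 2 ≤ n) (Q : QuadraticForm F (Fin n → F)) (hQ : (QuadraticMap.polarBilin Q).Nondegenerate) (g : ↥(Cfsg.isometryGroup F ⇑Q)) (vs : List (Fin n → F)) (hvs : ∀ v ∈ vs, Q v ≠ 0) (hg : ((g : Matrix.GeneralLinearGroup (Fin n) F) : Matrix (Fin n) (Fin n) F) = (vs.map (fun v => Cfsg.reflectionMatrix ⇑Q v)).prod) : g ∈ Cfsg.Omega F ⇑Q ↔ (Even vs.length ∧ IsSquare (vs.map (fun v => Q v)).prod) := by
  classical
  have hB : CfsgLib.Orth.Nondeg Q := fun x hx => hQ.1 x hx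
  obtain ⟨h1, -, h3⟩ := CfsgLib.Orth.omega_eq_ker_psi hB h2
    (by rw [Module.finrank_fin_fun]; exact hn) (one_ne_zero (α := F))
  obtain ⟨v₀, hv₀⟩ := CfsgLib.Orth.exists_aniso hB (by rw [Module.finrank_fin_fun]; omega)
  obtain ⟨r₀, hr₀⟩ := CfsgLib.Orth.exists_refl hB hv₀
  have key : ∀ (l : List (Fin n → F)), (∀ v ∈ l, Q v ≠ 0) → ∀ g : CfsgLib.Orth.Grp Q,
      ((g : Matrix.GeneralLinearGroup (Fin n) F) : Matrix (Fin n) (Fin n) F) = (l.map (fun v => Cfsg.reflectionMatrix ⇑Q v)).prod →
      CfsgLib.Orth.dickson hB g = (-1) ^ l.length ∧ (l.map fun v => Q v).prod ≠ 0 ∧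
      (CfsgLib.Orth.spinor Q 1 g = CfsgLib.Orth.spinor Q 1 r₀ ^ l.length ↔
        IsSquare ((l.map fun v => Q v).prod * Q v₀ ^ l.length)) := by
    intro l
    induction l with
    | nil =>
        intro _ g hg
        have e : g = 1 := Subtype.ext (Units.ext (by rw [hg, List.map_nil, List.prod_nil]; rfl))
        rw [e]
        simp
    | cons v l ih =>
        intro hl g hg
        have hv : Q v ≠ 0 := hl v (List.mem_cons_self ..)
        obtain ⟨r, hr⟩ := CfsgLib.Orth.exists_refl hB hv
        have e : ((r⁻¹ * g : CfsgLib.Orth.Grp Q) : Matrix.GeneralLinearGroup (Fin n) F).val =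
            (l.map (fun v => Cfsg.reflectionMatrix ⇑Q v)).prod := by
          rw [CfsgLib.Orth.refl_inv hr]
          show (r : Matrix.GeneralLinearGroup (Fin n) F).val * (g : Matrix.GeneralLinearGroup (Fin n) F).val = _
          rw [hg, List.map_cons, List.prod_cons, ← mul_assoc, ← (CfsgLib.Orth.refl_iff hv).1 hr]
          have := congrArg (fun x : CfsgLib.Orth.Grp Q => (x : Matrix.GeneralLinearGroup (Fin n) F).val)
            (CfsgLib.Orth.refl_mul_self hr)
          simp only [Subgroup.coe_mul, Units.val_mul, Subgroup.coe_one, Units.val_one] at this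
          rw [this, one_mul]
        obtain ⟨ih1, ih0, ih2⟩ := ih (fun w hw => hl w (List.mem_cons_of_mem _ hw)) _ e
        obtain ⟨g', rfl⟩ : ∃ g', g = r * g' := ⟨r⁻¹ * g, (mul_inv_cancel_left r g).symm⟩
        rw [inv_mul_cancel_left] at ih1 ih2
        refine ⟨by rw [map_mul, ih1, CfsgLib.Orth.dickson_refl hB hr, List.length_cons, pow_succ'],
          by rw [List.map_cons, List.prod_cons]; exact mul_ne_zero hv ih0, ?_⟩
        rw [map_mul, List.map_cons, List.prod_cons, List.length_cons, pow_succ', pow_succ',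
          show Q v * (l.map fun v => Q v).prod * (Q v₀ * Q v₀ ^ l.length) =
            Q v * Q v₀ * ((l.map fun v => Q v).prod * Q v₀ ^ l.length) by ring,
          CfsgLib.Orth.isSquare_mul_iff (mul_ne_zero hv hv₀), ← ih2, ← h3 v v₀ r r₀ hr hr₀,
          or_iff_right (mul_ne_zero ih0 (pow_ne_zero _ hv₀))]
        rcases Int.units_eq_one_or (CfsgLib.Orth.spinor Q 1 r) with a | a <;>
          rcases Int.units_eq_one_or (CfsgLib.Orth.spinor Q 1 r₀) with b | b <;>
          rcases Int.units_eq_one_or (CfsgLib.Orth.spinor Q 1 g') with c | c <;>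
          rcases Int.units_eq_one_or (CfsgLib.Orth.spinor Q 1 r₀ ^ l.length) with d | d <;>
          rw [d, a, b, c] <;> decide
  obtain ⟨k1, -, k2⟩ := key vs hvs g hg
  rw [h1, MonoidHom.mem_ker, CfsgLib.Orth.psi, MonoidHom.prod_apply, Prod.mk_eq_one, k1]
  constructor
  · rintro ⟨hlen, hsp⟩
    have hev : Even vs.length := by
      by_contra h
      rw [(Nat.not_even_iff_odd.1 h).neg_one_pow] at hlen
      exact absurd hlen (by decide)
    obtain ⟨j, hj⟩ := hev
    refine ⟨⟨j, hj⟩, ?_⟩
    rw [hsp, hj, ← two_mul, pow_mul, Int.units_sq, one_pow] at k2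
    obtain ⟨d, hd⟩ := k2.1 rfl
    exact ⟨d / Q v₀ ^ j, by field_simp; linear_combination hd⟩
  · rintro ⟨⟨j, hj⟩, d, hd⟩
    rw [hj, ← two_mul, pow_mul, Int.units_sq, one_pow] at k2 ⊢
    exact ⟨by simp, k2.2 ⟨d * Q v₀ ^ j, by rw [hd]; ring⟩⟩

end Cfsg.Agent.S2609
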