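import Cfsg.Statements.S2610
import Cfsg.Agent.Lib.Classical.OrthDisc
import Cfsg.Agent.Lib.Classical.Forms

set_option autoImplicit false
open Cfsg

namespace Cfsg.Agent.S2610

/-- For a quadratic form Q on F^n with non-degenerate polar form, F finite of odd order and n ≥ 2 even, the isometry −1 lies in Ω (the commutator subgroup of the orthogonal group) if and only if the discriminant of Q (the determinant of the Gram matrix of its polar form) is a square. -/
theorem result {F : Type*} [Field F] [Fintype F] (h2 : (2 : F) ≠ 0) {n : ℕ} (hn : 2 ≤ n) (he : Even n) (Q : QuadraticForm F (Fin n → F)) (hQ : (QuadraticMap.polarBilin Q).Nondegenerate) : (∃ g : ↥(Cfsg.isometryGroup F ⇑Q), g ∈ Cfsg.Omega F ⇑Q ∧ ((g : Matrix.GeneralLinearGroup (Fin n) F) : Matrix (Fin n) (Fin n) F) = -1) ↔ IsSquare (Matrix.of (fun i j : Fin n => QuadraticMap.polar ⇑Q (Pi.single i 1) (Pi.single j 1))).det := by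
  have hB : CfsgLib.Orth.Nondeg Q := fun x hx => hQ.1 x fun y => by
    simpa using hx y
  obtain ⟨α, hα⟩ := FiniteField.exists_nonsquare (F := F) (by
    intro h
    skip
    exact h2 (by have := CharP.cast_eq_zero F (ringChar F); rwa [h, Nat.cast_ofNat] at this))
  obtain ⟨m, rfl⟩ : ∃ m, n = m + 1 := ⟨n - 1, by omega⟩
  obtain ⟨b, hb1, hb2, hb3⟩ := CfsgLib.Forms.exists_orthogonal_basis_one h2 α hα m
    (QuadraticMap.polarBilin Q) (fun x y => by simp [QuadraticMap.polar_comm])
    (fun v hv => hQ.1 v hv) (by simp)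
  have hne : ∀ i, Q (b i) ≠ 0 := by
    intro i h
    have h' : QuadraticMap.polarBilin Q (b i) (b i) = 2 * Q (b i) := by simp
    rw [h, mul_zero] at h'
    by_cases hi : i = Fin.last m
    · subst hi
      rcases hb3 with h3 | h3 <;> rw [h3] at h'
      · exact one_ne_zero h'
      · exact hα (h' ▸ IsSquare.zero)
    · rw [hb2 i hi] at h'; exact one_ne_zero h'
  have hp : ∀ i j, i ≠ j → QuadraticMap.polar ⇑Q (b i) (b j) = 0 := fun i j hij => by
    simpa using hb1 i j hij
  rw [CfsgLib.Orth.neg_one_mem_omega_iff hB h2 (κ := Fin (m + 1)) (by simp) (by simpa using he) (by simpa using hn) b hne hp,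
    ← CfsgLib.Orth.isSquare_det_gram h2 (κ := Fin (m + 1)) (by simp) (by simpa using he) b hne hp (Pi.basisFun F (Fin (m + 1)))]
  simp [Pi.basisFun_apply]

end Cfsg.Agent.S2610
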