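import Cfsg.Statements.S2611
import Cfsg.Agent.Lib.Classical.OmegaApps

set_option autoImplicit false
open Cfsg

namespace Cfsg.Agent.S2611

/-- For the hyperbolic quadratic form Σ x_i y_i on F^(2m) (F finite, m ≥ 1, excluding m = 2 over the field of two elements) and an invertible m × m matrix A, the block-diagonal isometry diag(A, (A⁻¹)ᵀ), which stabilises the two maximal totally singular subspaces x = 0 and y = 0, lies in Ω⁺_2m(F) (the commutator subgroup of the orthogonal group) if and only if det A is a square in F. -/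
theorem result {F : Type*} [Field F] [Fintype F] {m : ℕ} (hm : 1 ≤ m) (h : Fintype.card F ≠ 2 ∨ m ≠ 2) (A : GL (Fin m) F) : (∃ g : ↥(Cfsg.isometryGroup F (Cfsg.quadFormPlus m F)), g ∈ Cfsg.Omega F (Cfsg.quadFormPlus m F) ∧ ((g : Matrix.GeneralLinearGroup (Fin m ⊕ Fin m) F) : Matrix (Fin m ⊕ Fin m) (Fin m ⊕ Fin m) F) = Matrix.fromBlocks (A : Matrix (Fin m) (Fin m) F) 0 0 ((A : Matrix (Fin m) (Fin m) F)⁻¹).transpose) ↔ IsSquare (A : Matrix (Fin m) (Fin m) F).det := by
  obtain ⟨Q, hQ, hB⟩ := CfsgLib.Orth.exists_quadForm_plus (F := F) m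
  have hn : 2 ≤ Module.finrank F (Fin m ⊕ Fin m → F) := by simp; omega
  have hex : Module.finrank F (Fin m ⊕ Fin m → F) = 4 → Nat.card F ≠ 2 := fun h4 h' => by
    rw [Nat.card_eq_fintype_card] at h'
    simp at h4
    exact h.elim (· h') (· (by omega))
  obtain ⟨lev, hlev⟩ := CfsgLib.Orth.Plus.exists_lev hQ
  obtain ⟨hd, hs⟩ := CfsgLib.Orth.Plus.lev_class hB hQ hm lev hlev A
  rw [← Matrix.coe_units_inv A, ← hQ]
  have hA : IsSquare (A : Matrix (Fin m) (Fin m) F).det ↔ lev A ∈ Cfsg.Omega F ⇑Q := by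
    rw [CfsgLib.Orth.mem_omega_iff hB hn hex]
    by_cases h2 : (2 : F) = 0
    · have : CharP F 2 := CharTwo.of_one_ne_zero_of_two_eq_zero one_ne_zero h2
      exact iff_of_true (FiniteField.isSquare_of_char_two (ringChar.eq F 2) _) ⟨hd, fun hh => absurd h2 hh⟩
    · rw [← CfsgLib.Orth.sqc_eq_one, ← hs h2]
      exact ⟨fun e => ⟨hd, fun _ => e⟩, fun e => e.2 h2⟩
  constructor
  · rintro ⟨g, hg, hgm⟩
    have e : g = lev A := Subtype.ext (Units.ext (hgm.trans (hlev A).symm))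
    exact hA.2 (e ▸ hg)
  · exact fun hsq => ⟨lev A, hA.1 hsq, hlev A⟩

end Cfsg.Agent.S2611
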