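import Cfsg.Statements.S2612
import Cfsg.Agent.Lib.Classical.OmegaApps

set_option autoImplicit false
open Cfsg

namespace Cfsg.Agent.S2612

/-- For the hyperbolic quadratic form Σ x_i y_i on F^(2m) (F finite, m ≥ 1, excluding m = 2 over the field of two elements), Ω⁺_2m(F) (the commutator subgroup of the orthogonal group) contains an element interchanging the two complementary maximal totally singular subspaces {y = 0} and {x = 0} if and only if m is even (dimension divisible by 4). -/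
theorem result {F : Type*} [Field F] [Fintype F] {m : ℕ} (hm : 1 ≤ m) (h : Fintype.card F ≠ 2 ∨ m ≠ 2) : (∃ g : ↥(Cfsg.isometryGroup F (Cfsg.quadFormPlus m F)), g ∈ Cfsg.Omega F (Cfsg.quadFormPlus m F) ∧ (∀ v : Fin m ⊕ Fin m → F, (∀ i, v (Sum.inr i) = 0) → ∀ i, (((g : Matrix.GeneralLinearGroup (Fin m ⊕ Fin m) F) : Matrix (Fin m ⊕ Fin m) (Fin m ⊕ Fin m) F).mulVec v) (Sum.inl i) = 0) ∧ (∀ v : Fin m ⊕ Fin m → F, (∀ i, v (Sum.inl i) = 0) → ∀ i, (((g : Matrix.GeneralLinearGroup (Fin m ⊕ Fin m) F) : Matrix (Fin m ⊕ Fin m) (Fin m ⊕ Fin m) F).mulVec v) (Sum.inr i) = 0)) ↔ Even m := by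
  obtain ⟨Q, hQ, hB⟩ := CfsgLib.Orth.exists_quadForm_plus (F := F) m
  have hn : 2 ≤ Module.finrank F (Fin m ⊕ Fin m → F) := by simp; omega
  have hex : Module.finrank F (Fin m ⊕ Fin m → F) = 4 → Nat.card F ≠ 2 := fun h4 h' => by
    rw [Nat.card_eq_fintype_card] at h'
    simp at h4
    exact h.elim (· h') (· (by omega))
  rw [← hQ]
  constructor
  · rintro ⟨g, hg, h1, -⟩
    have hd := ((CfsgLib.Orth.mem_omega_iff hB hn hex g).1 hg).1
    rw [CfsgLib.Orth.Plus.dickson_eq hB hQ hm g] at hd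
    have hbot : CfsgLib.Orth.Plus.U0 F m ⊓ (CfsgLib.Orth.Plus.U0 F m).map (Matrix.mulVecLin
        ((g : GL (Fin m ⊕ Fin m) F) : Matrix (Fin m ⊕ Fin m) (Fin m ⊕ Fin m) F)) = ⊥ := by
      rw [eq_bot_iff]
      rintro x ⟨hx, v, hv, rfl⟩
      have hxr := (CfsgLib.Orth.Plus.mem_U0 _).1 hx
      have hxl := h1 v ((CfsgLib.Orth.Plus.mem_U0 v).1 hv)
      rw [Submodule.mem_bot]
      funext i
      rcases i with i | i
      · exact hxl i
      · exact hxr i
    rw [hbot, finrank_bot, Nat.sub_zero] at hd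
    by_contra hc
    rw [(Nat.not_even_iff_odd.1 hc).neg_one_pow] at hd
    exact absurd hd (by decide)
  · intro hev
    obtain ⟨J, hJ, hd, hs⟩ := CfsgLib.Orth.Plus.exists_swap hB hQ hm
    refine ⟨J, (CfsgLib.Orth.mem_omega_iff hB hn hex J).2 ⟨by rw [hd, hev.neg_one_pow], fun h2 => hs h2 hev⟩,
      fun v hv i => ?_, fun v hv i => ?_⟩
    · exact (hJ v i).1.trans (hv i)
    · exact (hJ v i).2.trans (hv i)

end Cfsg.Agent.S2612
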