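import Cfsg.Statements.S2614
import Cfsg.Agent.Lib.Classical.OmegaApps

set_option autoImplicit false
open Cfsg

namespace Cfsg.Agent.S2614

/-- For the form x_0² + Σ x_j y_j on F^(2m+1), F finite with q elements, q odd, and 1 ≤ i ≤ m: the involution of determinant one negating the first i hyperbolic pairs (and fixing x_0 and the other pairs) lies in Ω_(2m+1)(q) (commutator subgroup of the orthogonal group) if and only if q^i ≡ 1 (mod 4); its (−1)-eigenspace is a hyperbolic 2i-space. -/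
theorem result {F : Type*} [Field F] [Fintype F] {q : ℕ} (hF : Fintype.card F = q) (hq : Odd q) {m : ℕ} (i : ℕ) (hi : 1 ≤ i) (him : i ≤ m) : (∃ g : ↥(Cfsg.isometryGroup F (Cfsg.quadFormOdd m F)), g ∈ Cfsg.Omega F (Cfsg.quadFormOdd m F) ∧ ((g : Matrix.GeneralLinearGroup (Unit ⊕ (Fin m ⊕ Fin m)) F) : Matrix (Unit ⊕ (Fin m ⊕ Fin m)) (Unit ⊕ (Fin m ⊕ Fin m)) F) = Matrix.diagonal (fun k : Unit ⊕ (Fin m ⊕ Fin m) => if (Sum.elim (fun _ : Unit => i) (Sum.elim (fun j : Fin m => (j : ℕ)) (fun j : Fin m => (j : ℕ))) k) < i then (-1 : F) else 1)) ↔ q ^ i % 4 = 1 := by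
  have h2 := CfsgLib.Orth.two_ne_zero_of_odd hF hq
  obtain ⟨Q, hQ, hB⟩ := CfsgLib.Orth.exists_quadForm_odd h2 m
  rw [← hQ]
  refine CfsgLib.Orth.neg_pairs_iff hB hF hq (r := m) (fun j => Sum.inr (Sum.inl j)) (fun j => Sum.inr (Sum.inr j))
    ⟨fun i => ?_, fun i => ?_, fun i j => ?_, fun i j => ?_, fun i j => ?_⟩ i hi him _
    (fun j => ⟨rfl, rfl⟩) fun k hk => ?_
  iterate 5 (simp only [hQ, CfsgLib.Orth.polar_odd]; simp [Cfsg.quadFormOdd, Pi.single_apply, eq_comm])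
  rcases k with k | k | k
  · refine ⟨if_neg (lt_irrefl i), fun j => ?_⟩
    simp only [hQ, CfsgLib.Orth.polar_odd]
    simp [Pi.single_apply]
  · exact absurd rfl (hk k).1
  · exact absurd rfl (hk k).2

end Cfsg.Agent.S2614
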