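import Cfsg.Statements.S2617
import Cfsg.Agent.Lib.Classical.OrthDisc

set_option autoImplicit false
open Cfsg

namespace Cfsg.Agent.S2617

/-- The two standard quadratic forms of even dimension 2m over a finite field are not isometric: there is no linear isomorphism carrying the elliptic form Σ_(i<m−1) x_i y_i + z₁² + z₁z₂ + ζ z₂² (t² + t + ζ without roots) to the hyperbolic form Σ_(i<m) x_i y_i (they have different Witt index). -/
theorem result {F : Type*} [Field F] [Finite F] {m : ℕ} (hm : 1 ≤ m) (ζ : F) (hζ : ∀ t : F, t ^ 2 + t + ζ ≠ 0) (g : (Fin m ⊕ Fin m → F) ≃ₗ[F] ((Fin (m - 1) ⊕ Fin (m - 1)) ⊕ Fin 2 → F)) : ¬ (∀ v : Fin m ⊕ Fin m → F, Cfsg.quadFormMinus (m - 1) F 1 ζ (g v) = Cfsg.quadFormPlus m F v) := by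
  classical
  cases nonempty_fintype F
  intro hg
  have hab : ∀ z₁ z₂ : F, z₁ ^ 2 + 1 * z₁ * z₂ + ζ * z₂ ^ 2 = 0 → z₁ = 0 ∧ z₂ = 0 := by
    intro z₁ z₂ h
    by_cases hz : z₂ = 0
    · subst hz
      have : z₁ ^ 2 = 0 := by linear_combination h
      exact ⟨pow_eq_zero_iff two_ne_zero |>.1 this, rfl⟩
    · exact absurd (by field_simp; linear_combination h) (hζ (z₁ / z₂))
  obtain ⟨Q, hQ, hB⟩ := CfsgLib.Orth.exists_quadForm_minus (m - 1) hab
  let f : (Fin m → F) →ₗ[F] (Fin m ⊕ Fin m → F) :=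
    { toFun := fun x => Sum.elim x 0
      map_add' := fun x y => funext fun j => by rcases j with j | j <;> simp
      map_smul' := fun c x => funext fun j => by rcases j with j | j <;> simp }
  have hfi : Function.Injective f := fun x y h => funext fun i => congrFun h (.inl i)
  refine CfsgLib.Orth.minus_no_half (m - 1) hab hQ hB (LinearMap.range (g.toLinearMap.comp f)) ⟨?_, ?_⟩
  · rintro x ⟨y, rfl⟩
    rw [hQ]
    refine (hg (f y)).trans ?_
    simp [f, Cfsg.quadFormPlus]
  · rw [LinearMap.finrank_range_of_inj (f := g.toLinearMap.comp f) (fun x y h => hfi (g.injective h)), Module.finrank_fin_fun,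
      Module.finrank_pi]
    simp only [Fintype.card_sum, Fintype.card_fin]
    omega

end Cfsg.Agent.S2617
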