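import Cfsg.Statements.S2619
import Mathlib

set_option autoImplicit false
set_option linter.style.haveILetI false
open Cfsg

namespace Cfsg.Agent.S2619

/-- Over a finite field of characteristic two, given an alternating bilinear form B on a finite-dimensional space, a basis (v_i) and scalars (λ_i), there is exactly one quadratic form whose polar form is B and whose value at each v_i is λ_i. -/
theorem result {F V ι : Type*} [Field F] [Finite F] [CharP F 2] [AddCommGroup V] [Module F V] [Fintype ι] (b : Module.Basis ι F V) (B : LinearMap.BilinForm F V) (hB : B.IsAlt) (c : ι → F) : ∃! Q : QuadraticForm F V, QuadraticMap.polarBilin Q = B ∧ ∀ i, Q (b i) = c i := by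
  classical
  letI : LinearOrder ι := LinearOrder.lift' (Fintype.equivFin ι) (Fintype.equivFin ι).injective
  let T : LinearMap.BilinForm F V := b.constr (S := F) fun i =>
    b.constr (S := F) fun j => if i = j then c i else if i < j then B (b i) (b j) else 0
  have hT : ∀ i j, T (b i) (b j) = if i = j then c i else if i < j then B (b i) (b j) else 0 := by
    intro i j
    simp only [T, Module.Basis.constr_basis]
  refine ⟨LinearMap.BilinMap.toQuadraticMap T, ⟨?_, fun i => ?_⟩, ?_⟩
  · rw [LinearMap.BilinMap.polarBilin_toQuadraticMap]
    refine b.ext fun i => b.ext fun j => ?_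
    rw [LinearMap.add_apply, LinearMap.add_apply, LinearMap.flip_apply, hT, hT]
    rcases lt_trichotomy i j with h | h | h
    · simp [h, h.ne, h.ne', h.not_gt]
    · subst h
      simp [hB (b i), CharTwo.add_self_eq_zero]
    · simp [h, h.ne, h.ne', h.not_gt]
      rw [← LinearMap.IsAlt.neg hB (b i) (b j), CharTwo.neg_eq]
  · rw [LinearMap.BilinMap.toQuadraticMap_apply, hT, if_pos rfl]
  · rintro Q ⟨hQ1, hQ2⟩
    have h : Q.toBilin b = T := b.ext fun i => b.ext fun j => by
      rw [QuadraticMap.toBilin_apply, hT, hQ2]
      split_ifs <;> first | rfl | exact LinearMap.congr_fun (LinearMap.congr_fun hQ1 (b i)) (b j)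
    rw [← h, QuadraticMap.toQuadraticMap_toBilin]

end Cfsg.Agent.S2619
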