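import Cfsg.Statements.S2620
import Cfsg.Agent.Lib.Classical.OrthDisc

set_option autoImplicit false
open Cfsg

namespace Cfsg.Agent.S2620

/-- Discriminant of the hyperbolic quadratic form Σ_(i<m) x_i y_i over a field with q elements, q odd, m ≥ 1: the determinant of the Gram matrix of its polar form in any basis is a square if and only if m(q − 1)/2 is even (equivalently q^m ≡ 1 (mod 4)). -/
theorem result {F : Type*} [Field F] [Fintype F] {q : ℕ} (hF : Fintype.card F = q) (hq : Odd q) {m : ℕ} (hm : 1 ≤ m) {ι : Type*} [Fintype ι] [DecidableEq ι] (b : Module.Basis ι F (Fin m ⊕ Fin m → F)) : IsSquare (Matrix.of (fun i j : ι => QuadraticMap.polar (Cfsg.quadFormPlus m F) (b i) (b j))).det ↔ Even (m * (q - 1) / 2) := by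
  classical
  have h2 : (2 : F) ≠ 0 := Ring.two_ne_zero fun e =>
    Nat.not_even_iff_odd.2 (hF ▸ hq) (Nat.even_iff.2 (FiniteField.even_card_of_char_two e))
  obtain ⟨Q, hQ, hB⟩ := CfsgLib.Orth.exists_quadForm_plus (F := F) m
  obtain ⟨e, he, hp, hprod⟩ := CfsgLib.Orth.frame_plus h2 m hQ
  have : Nonempty (Fin m ⊕ Fin m) := ⟨.inl ⟨0, hm⟩⟩
  rw [← hQ, CfsgLib.Orth.isSquare_det_gram h2 (Module.finrank_pi F).symm
    ⟨m, by simp only [Fintype.card_sum, Fintype.card_fin]⟩ e he hp b, hprod]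
  obtain ⟨h', hh⟩ := hq
  rw [hh, show m * (2 * h' + 1 - 1) / 2 = m * h' by
    rw [Nat.add_sub_cancel, ← mul_assoc, mul_comm m 2, mul_assoc, Nat.mul_div_cancel_left _ two_pos],
    Nat.even_mul]
  rcases Nat.even_or_odd m with h | h
  · rw [h.neg_one_pow]
    exact iff_of_true IsSquare.one (Or.inl h)
  · rw [h.neg_one_pow, FiniteField.isSquare_neg_one_iff, hF, hh, Nat.even_iff, Nat.even_iff]
    rw [Nat.odd_iff] at h
    omega

end Cfsg.Agent.S2620
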