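import Cfsg.Statements.S2621
import Cfsg.Agent.Lib.Classical.OrthDisc

set_option autoImplicit false
open Cfsg

namespace Cfsg.Agent.S2621

/-- Discriminant of an elliptic quadratic form Σ_(i<m−1) x_i y_i + z₁² + a z₁z₂ + c z₂² (binary part anisotropic) in dimension 2m over a field with q elements, q odd, m ≥ 1: the determinant of the Gram matrix of its polar form in any basis is a square if and only if m(q − 1)/2 is odd (equivalently q^m ≡ 3 (mod 4)). -/
theorem result {F : Type*} [Field F] [Fintype F] {q : ℕ} (hF : Fintype.card F = q) (hq : Odd q) {m : ℕ} (hm : 1 ≤ m) (a c : F) (hac : ∀ z₁ z₂ : F, z₁ ^ 2 + a * z₁ * z₂ + c * z₂ ^ 2 = 0 → z₁ = 0 ∧ z₂ = 0) {ι : Type*} [Fintype ι] [DecidableEq ι] (b : Module.Basis ι F ((Fin (m - 1) ⊕ Fin (m - 1)) ⊕ Fin 2 → F)) : IsSquare (Matrix.of (fun i j : ι => QuadraticMap.polar (Cfsg.quadFormMinus (m - 1) F a c) (b i) (b j))).det ↔ ¬ Even (m * (q - 1) / 2) := by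
  classical
  have h2 : (2 : F) ≠ 0 := Ring.two_ne_zero fun e =>
    Nat.not_even_iff_odd.2 (hF ▸ hq) (Nat.even_iff.2 (FiniteField.even_card_of_char_two e))
  obtain ⟨Q, hQ, hB⟩ := CfsgLib.Orth.exists_quadForm_minus (m - 1) hac
  obtain ⟨e, he, hp, hprod⟩ := CfsgLib.Orth.frame_minus h2 (m - 1) hac hQ
  rw [← hQ, CfsgLib.Orth.isSquare_det_gram h2 (Module.finrank_pi F).symm
    ⟨m, by simp only [Fintype.card_sum, Fintype.card_fin]; omega⟩ e he hp b, hprod]
  have hd : ¬ IsSquare (a ^ 2 - 4 * c) := by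
    rintro ⟨r, hr⟩
    exact h2 (hac (-a + r) 2 (by linear_combination -hr)).2
  have hd0 : a ^ 2 - 4 * c ≠ 0 := fun e' => hd (e' ▸ IsSquare.zero)
  have e1 : (-1 : F) ^ (m - 1) * (4 * c - a ^ 2) = (-1) ^ m * (a ^ 2 - 4 * c) := by
    obtain ⟨j, rfl⟩ : ∃ j, m = j + 1 := ⟨m - 1, by omega⟩
    rw [Nat.add_sub_cancel, pow_succ]; ring
  rw [e1, CfsgLib.Orth.isSquare_mul_iff (pow_ne_zero _ (neg_ne_zero.2 one_ne_zero))]
  simp only [hd0, hd, iff_false, false_or]
  obtain ⟨h', hh⟩ := hq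
  rw [hh, show m * (2 * h' + 1 - 1) / 2 = m * h' by
    rw [Nat.add_sub_cancel, ← mul_assoc, mul_comm m 2, mul_assoc, Nat.mul_div_cancel_left _ two_pos],
    Nat.even_mul]
  rcases Nat.even_or_odd m with h | h
  · rw [h.neg_one_pow]
    exact iff_of_false (fun h' => h' IsSquare.one) (fun h' => h' (Or.inl h))
  · rw [h.neg_one_pow, FiniteField.isSquare_neg_one_iff, hF, hh, Nat.even_iff, Nat.even_iff]
    rw [Nat.odd_iff] at h
    omega

end Cfsg.Agent.S2621
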