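import Cfsg.Statements.S2622
import Mathlib

set_option autoImplicit false
set_option linter.style.haveILetI false
open Cfsg

namespace Cfsg.Agent.S2622

open Module in
/-- Existence of an orthonormal family of full size, by induction on the dimension. -/
theorem orthonormal_char_two {F : Type*} [Field F] [Finite F] [CharP F 2] :
    ∀ (n : ℕ) {V : Type*} [AddCommGroup V] [Module F V] [FiniteDimensional F V],
      finrank F V = n → ∀ B : LinearMap.BilinForm F V, B.IsSymm → B.Nondegenerate →
        ((∃ v : V, B v v ≠ 0) ∨ n = 0) →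
          ∃ b : Fin n → V, ∀ i j, B (b i) (b j) = if i = j then 1 else 0 := by
  intro n
  induction n with
  | zero => intro V _ _ _ _ B _ _ _; exact ⟨Fin.elim0, fun i => i.elim0⟩
  | succ n ih =>
    intro V _ _ _ hV B hS hB hna
    obtain ⟨u, hu⟩ := hna.resolve_right (Nat.succ_ne_zero n)
    obtain ⟨r, hr⟩ := FiniteField.isSquare_of_char_two (ringChar.eq F 2) (B u u)
    have hr0 : r ≠ 0 := fun e => hu (by rw [hr, e, mul_zero])
    have hsymm : ∀ x y, B x y = B y x := LinearMap.BilinForm.isSymm_def.mp hS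
    have step : ∀ v : V, B v v = 1 → finrank F (B.orthogonal (F ∙ v)) = n ∧
        (B.restrict (B.orthogonal (F ∙ v))).Nondegenerate := by
      intro v hv
      have hv1 : B v v ≠ 0 := by rw [hv]; exact one_ne_zero
      have hc := LinearMap.BilinForm.isCompl_span_singleton_orthogonal hv1
      have h1 := Submodule.finrank_add_eq_of_isCompl hc
      rw [finrank_span_singleton (K := F) (v := v) (fun e => hv1 (by rw [e, map_zero])), hV] at h1
      exact ⟨by omega,
        LinearMap.BilinForm.restrict_nondegenerate_orthogonal_spanSingleton B hB hS.isRefl hv1⟩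
    have hmem : ∀ v w : V, w ∈ B.orthogonal (F ∙ v) ↔ B v w = 0 := by
      intro v w
      rw [LinearMap.BilinForm.mem_orthogonal_iff]
      refine ⟨fun h => h v (Submodule.mem_span_singleton_self v), fun h x hx => ?_⟩
      obtain ⟨c, rfl⟩ := Submodule.mem_span_singleton.mp hx
      show B (c • v) w = 0
      rw [map_smul, LinearMap.smul_apply, h, smul_zero]
    obtain ⟨v, hv, hW⟩ : ∃ v : V, B v v = 1 ∧
        ((∃ w : B.orthogonal (F ∙ v), B w w ≠ 0) ∨ n = 0) := by
      have hv : B (r⁻¹ • u) (r⁻¹ • u) = 1 := by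
        rw [map_smul, map_smul, LinearMap.smul_apply, smul_eq_mul, smul_eq_mul, hr]
        field_simp
      set v := r⁻¹ • u
      by_cases h : (∃ w : B.orthogonal (F ∙ v), B w w ≠ 0) ∨ n = 0
      · exact ⟨v, hv, h⟩
      push Not at h
      obtain ⟨halt, hn⟩ := h
      obtain ⟨hfin, hnd⟩ := step v hv
      obtain ⟨w, hw⟩ : ∃ w : B.orthogonal (F ∙ v), w ≠ 0 := by
        haveI : Nontrivial (B.orthogonal (F ∙ v)) :=
          Module.finrank_pos_iff.mp (by rw [hfin]; omega)
        exact exists_ne 0
      obtain ⟨w', hw'⟩ : ∃ w' : B.orthogonal (F ∙ v), B w w' = 1 := by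
        obtain ⟨y, hy⟩ : ∃ y : B.orthogonal (F ∙ v), B w y ≠ 0 := by
          by_contra! hc
          exact hw (hnd.1 w fun y => hc y)
        exact ⟨(B w y)⁻¹ • y, by
          rw [Submodule.coe_smul, map_smul, smul_eq_mul, inv_mul_cancel₀ hy]⟩
      have hvw : B v (w : V) = 0 := (hmem v _).mp w.2
      have hvw' : B v (w' : V) = 0 := (hmem v _).mp w'.2
      have hwv : B (w : V) v = 0 := by rw [hsymm]; exact hvw
      have hwv' : B (w' : V) v = 0 := by rw [hsymm]; exact hvw'
      refine ⟨v + w, by simp [hv, hvw, hwv, halt w], Or.inl ⟨⟨v + w', (hmem _ _).mpr ?_⟩, ?_⟩⟩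
      · simp [hv, hvw', hwv, hw', CharTwo.add_self_eq_zero]
      · simp [hv, hvw', hwv', halt w']
    obtain ⟨hfin, hnd⟩ := step v hv
    obtain ⟨b, hb⟩ := ih hfin (B.restrict (B.orthogonal (F ∙ v)))
      (LinearMap.BilinForm.isSymm_def.mpr fun x y => hsymm x y) hnd hW
    refine ⟨Fin.cons v fun i => (b i : V), fun i j => ?_⟩
    refine Fin.cases ?_ (fun i => ?_) i <;> refine Fin.cases ?_ (fun j => ?_) j
    · simp [hv]
    · simp [(hmem v _).mp (b j).2, (Fin.succ_ne_zero j).symm]
    · simp [hsymm _ v, (hmem v _).mp (b i).2]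
    · simp only [Fin.cons_succ, Fin.succ_inj]
      exact hb i j

/-- Over a finite field of characteristic two, a non-degenerate symmetric bilinear form that is not alternating (some vector v has B(v, v) ≠ 0) admits an orthonormal basis. -/
theorem result {F V : Type*} [Field F] [Finite F] [CharP F 2] [AddCommGroup V] [Module F V] [FiniteDimensional F V] {n : ℕ} (hV : Module.finrank F V = n) (B : LinearMap.BilinForm F V) (hS : B.IsSymm) (hB : B.Nondegenerate) (hna : ∃ v : V, B v v ≠ 0) : ∃ b : Module.Basis (Fin n) F V, ∀ i j, B (b i) (b j) = if i = j then 1 else 0 := by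
  obtain ⟨b, hb⟩ := orthonormal_char_two n hV B hS hB (Or.inl hna)
  have hli : LinearIndependent F b := LinearMap.BilinForm.linearIndependent_of_iIsOrtho (B := B)
    (fun i j hij => by
      show B (b i) (b j) = 0
      rw [hb, if_neg hij])
    (fun i => by
      show ¬ B (b i) (b i) = 0
      rw [hb, if_pos rfl]; exact one_ne_zero)
  haveI : Nonempty (Fin n) := by
    obtain ⟨v, hv⟩ := hna
    rcases Nat.eq_zero_or_pos n with h | h
    · subst h
      haveI := Module.finrank_zero_iff.mp hV
      exact absurd (by rw [Subsingleton.elim v 0, map_zero]) hv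
    · exact ⟨⟨0, h⟩⟩
  refine ⟨basisOfLinearIndependentOfCardEqFinrank hli (by rw [Fintype.card_fin, hV]), fun i j => ?_⟩
  rw [coe_basisOfLinearIndependentOfCardEqFinrank]
  exact hb i j

end Cfsg.Agent.S2622
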