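import Cfsg.Statements.S2624
import Mathlib
import Cfsg.Agent.Lib.Classical.DiscClass

set_option autoImplicit false
set_option linter.style.haveILetI false
open Cfsg

namespace Cfsg.Agent.S2624

/-- For a quadratic form Q on F^n with non-degenerate polar form, F finite and n ≥ 2 even, every non-zero scalar c is the multiplier of some similarity: there is an invertible linear map g with Q(g v) = c·Q(v) for all v. -/
theorem result {F : Type*} [Field F] [Fintype F] {n : ℕ} (hn : 2 ≤ n) (he : Even n) (Q : QuadraticForm F (Fin n → F)) (hQ : (QuadraticMap.polarBilin Q).Nondegenerate) (c : F) (hc : c ≠ 0) : ∃ g : (Fin n → F) ≃ₗ[F] (Fin n → F), ∀ v, Q (g v) = c * Q v := by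
  classical
  by_cases h2 : (2 : F) = 0
  · haveI : CharP F 2 := CharTwo.of_one_ne_zero_of_two_eq_zero one_ne_zero h2
    obtain ⟨s, hs⟩ := FiniteField.isSquare_of_char_two (F := F) (ringChar.eq F 2) c
    have hs0 : s ≠ 0 := fun h => hc (by rw [hs, h, mul_zero])
    exact ⟨LinearEquiv.smulOfUnit (Units.mk0 s hs0), fun v => by
      show Q (s • v) = c * Q v
      rw [QuadraticMap.map_smul, smul_eq_mul, hs]⟩
  · have hpol : QuadraticMap.polarBilin (c • Q) = c • QuadraticMap.polarBilin Q := by
      refine LinearMap.ext₂ fun u v => ?_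
      simp only [QuadraticMap.polarBilin_apply_apply, LinearMap.smul_apply, QuadraticMap.polar,
        smul_eq_mul, QuadraticMap.smul_apply]
      ring
    have hQ' : (QuadraticMap.polarBilin (c • Q)).Nondegenerate := by
      rw [hpol]
      refine ⟨fun v hv => hQ.1 v fun w => ?_, fun v hv => hQ.2 v fun w => ?_⟩
      · simpa [hc] using hv w
      · simpa [hc] using hv w
    obtain ⟨k, rfl⟩ := he
    have hsq : IsSquare ((LinearMap.toMatrix₂' F (QuadraticMap.polarBilin (c • Q))).det *
        (LinearMap.toMatrix₂' F (QuadraticMap.polarBilin Q)).det) := by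
      rw [hpol, map_smul, Matrix.det_smul, Fintype.card_fin]
      exact ⟨c ^ k * (LinearMap.toMatrix₂' F (QuadraticMap.polarBilin Q)).det, by rw [pow_add]; ring⟩
    obtain ⟨g, hg⟩ := (CfsgLib.Classical.DiscClass.exists_isometry_iff h2 (c • Q) Q hQ' hQ).mpr hsq
    exact ⟨g, fun v => by rw [hg]; rfl⟩

end Cfsg.Agent.S2624
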