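import Cfsg.Statements.S2625
import Mathlib
-- import your own Cfsg.Agent.* helpers here

set_option autoImplicit false
open Cfsg

namespace Cfsg.Agent.S2625

/-- For a quadratic form Q on F^n with non-degenerate polar form, F finite and n odd (so |F| is odd), the multiplier of any similarity is a square: if g is an invertible linear map with Q(g v) = c·Q(v) for all v then c is a square. -/
theorem result {F : Type*} [Field F] [Fintype F] {n : ℕ} (hn : Odd n) (Q : QuadraticForm F (Fin n → F)) (hQ : (QuadraticMap.polarBilin Q).Nondegenerate) (g : (Fin n → F) ≃ₗ[F] (Fin n → F)) (c : F) (hg : ∀ v, Q (g v) = c * Q v) : IsSquare c := by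
  classical
  set B := QuadraticMap.polarBilin Q with hBdef
  have hB : ∀ v w, B (g v) (g w) = c * B v w := by
    intro v w
    simp only [hBdef, QuadraticMap.polarBilin_apply_apply, QuadraticMap.polar, ← map_add, hg]
    ring
  set b := Pi.basisFun F (Fin n) with hb
  set M := LinearMap.toMatrix₂ b b B with hM
  set A := LinearMap.toMatrix b b (g : (Fin n → F) →ₗ[F] (Fin n → F)) with hA
  have key : A.transpose * M * A = c • M := by
    rw [hM, hA, ← LinearMap.toMatrix₂_compl₁₂]
    have : B.compl₁₂ (g : (Fin n → F) →ₗ[F] (Fin n → F)) (g : (Fin n → F) →ₗ[F] (Fin n → F)) = c • B :=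
      LinearMap.ext₂ fun v w => by simpa using hB v w
    rw [this, map_smul]
  have hd := congrArg Matrix.det key
  rw [Matrix.det_mul, Matrix.det_mul, Matrix.det_transpose, Matrix.det_smul, Fintype.card_fin] at hd
  have hM0 : M.det ≠ 0 := (LinearMap.separatingLeft_iff_det_ne_zero b).1 hQ.1
  have hc : c ^ n = A.det * A.det := mul_right_cancel₀ hM0 (by linear_combination -hd)
  obtain ⟨k, hk⟩ := hn
  by_cases hc0 : c = 0
  · subst hc0; exact ⟨0, (mul_zero 0).symm⟩
  refine ⟨A.det / c ^ k, ?_⟩
  field_simp
  have hc' : c ^ (2 * k + 1) = A.det * A.det := (congrArg (c ^ ·) hk).symm.trans hc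
  linear_combination hc'


end Cfsg.Agent.S2625
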