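import Cfsg.Statements.S2627
import Cfsg.Agent.Lib.Classical.OrthSum
import Cfsg.Agent.Lib.Classical.Reflect

set_option autoImplicit false
open Cfsg

namespace Cfsg.Agent.S2627

/-- For an orthogonal direct sum Q = Q₁ ⊕ Q₂ of quadratic forms with non-degenerate polar forms over a finite field, an isometry g₁ of Q₁ extended by the identity on the second summand lies in Ω(Q) (the commutator subgroup of the orthogonal group of Q) if and only if g₁ lies in Ω(Q₁). (Excluded: the field of two elements when the first summand or the whole space has dimension 4, where the commutator subgroup of O⁺₄(2) is smaller than the group usually called Ω.) -/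
theorem result {F : Type*} [Field F] [Fintype F] {k l : ℕ} (h : Fintype.card F ≠ 2 ∨ (k ≠ 4 ∧ k + l ≠ 4)) (Q₁ : QuadraticForm F (Fin k → F)) (Q₂ : QuadraticForm F (Fin l → F)) (h₁ : (QuadraticMap.polarBilin Q₁).Nondegenerate) (h₂ : (QuadraticMap.polarBilin Q₂).Nondegenerate) (g₁ : ↥(Cfsg.isometryGroup F ⇑Q₁)) : (∃ g : ↥(Cfsg.isometryGroup F (fun v : Fin k ⊕ Fin l → F => Q₁ (v ∘ Sum.inl) + Q₂ (v ∘ Sum.inr))), g ∈ Cfsg.Omega F (fun v : Fin k ⊕ Fin l → F => Q₁ (v ∘ Sum.inl) + Q₂ (v ∘ Sum.inr)) ∧ ((g : Matrix.GeneralLinearGroup (Fin k ⊕ Fin l) F) : Matrix (Fin k ⊕ Fin l) (Fin k ⊕ Fin l) F) = Matrix.fromBlocks ((g₁ : Matrix.GeneralLinearGroup (Fin k) F) : Matrix (Fin k) (Fin k) F) 0 0 1) ↔ g₁ ∈ Cfsg.Omega F ⇑Q₁ := by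
  classical
  have hB₁ : CfsgLib.Orth.Nondeg Q₁ := fun x hx => h₁.1 x hx
  have hB₂ : CfsgLib.Orth.Nondeg Q₂ := fun x hx => h₂.1 x hx
  constructor
  · rintro ⟨g, hg, hmat⟩
    refine CfsgLib.Orth.mem_omega_of_block (Q₂ := Q₂) hB₁ hB₂ (fun h4 e => ?_) ?_
    · rw [Module.finrank_fin_fun] at h4
      rw [Nat.card_eq_fintype_card] at e
      exact h.elim (fun h' => h' e) (fun h' => h'.1 h4)
    · have e : g = CfsgLib.Orth.blockHom Q₁ Q₂ (g₁, 1) := Subtype.ext (Units.ext (by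
        rw [hmat, CfsgLib.Orth.blockHom_val]; rfl))
      exact e ▸ hg
  · intro hg
    exact ⟨CfsgLib.Orth.blockHom Q₁ Q₂ (g₁, 1),
      CfsgLib.Orth.blockHom_mem_omega Q₁ Q₂ hg (one_mem _),
      (CfsgLib.Orth.blockHom_val Q₁ Q₂ g₁ 1).trans (by rfl)⟩

end Cfsg.Agent.S2627
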