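import Cfsg.Statements.S2628
import Cfsg.Agent.Lib.Classical.OmegaTests

set_option autoImplicit false
open Cfsg

namespace Cfsg.Agent.S2628

/-- For the orthogonal direct sum Q ⊕ Q of two copies of a quadratic form Q with non-degenerate polar form on F^k (F finite), every isometry g of Q acting diagonally, diag(g, g), lies in Ω(Q ⊕ Q), the commutator subgroup of the orthogonal group of Q ⊕ Q. (Excluded: k = 2 over the field of two elements, where Q ⊕ Q is the hyperbolic 4-space whose orthogonal group's commutator subgroup is smaller than the group usually called Ω.) -/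
theorem result {F : Type*} [Field F] [Fintype F] {k : ℕ} (h : Fintype.card F ≠ 2 ∨ k ≠ 2) (Q : QuadraticForm F (Fin k → F)) (hQ : (QuadraticMap.polarBilin Q).Nondegenerate) (g : ↥(Cfsg.isometryGroup F ⇑Q)) : ∃ x : ↥(Cfsg.isometryGroup F (fun v : Fin k ⊕ Fin k → F => Q (v ∘ Sum.inl) + Q (v ∘ Sum.inr))), x ∈ Cfsg.Omega F (fun v : Fin k ⊕ Fin k → F => Q (v ∘ Sum.inl) + Q (v ∘ Sum.inr)) ∧ ((x : Matrix.GeneralLinearGroup (Fin k ⊕ Fin k) F) : Matrix (Fin k ⊕ Fin k) (Fin k ⊕ Fin k) F) = Matrix.fromBlocks ((g : Matrix.GeneralLinearGroup (Fin k) F) : Matrix (Fin k) (Fin k) F) 0 0 ((g : Matrix.GeneralLinearGroup (Fin k) F) : Matrix (Fin k) (Fin k) F) := by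
  rcases Nat.eq_zero_or_pos k with rfl | hk
  · exact ⟨1, one_mem _, Subsingleton.elim _ _⟩
  let Qs : QuadraticForm F (Fin k ⊕ Fin k → F) :=
    Q.comp (LinearMap.funLeft F F (Sum.inl : Fin k → Fin k ⊕ Fin k)) +
      Q.comp (LinearMap.funLeft F F (Sum.inr : Fin k → Fin k ⊕ Fin k))
  have hB : CfsgLib.Orth.Nondeg Qs := by
    intro x hx
    have key : ∀ y, QuadraticMap.polar (⇑Qs) x y = QuadraticMap.polar (⇑Q) (x ∘ Sum.inl) (y ∘ Sum.inl) +
        QuadraticMap.polar (⇑Q) (x ∘ Sum.inr) (y ∘ Sum.inr) := fun y => by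
      show (Q ((x + y) ∘ Sum.inl) + Q ((x + y) ∘ Sum.inr)) - (Q (x ∘ Sum.inl) + Q (x ∘ Sum.inr)) -
          (Q (y ∘ Sum.inl) + Q (y ∘ Sum.inr)) =
        (Q (x ∘ Sum.inl + y ∘ Sum.inl) - Q (x ∘ Sum.inl) - Q (y ∘ Sum.inl)) +
          (Q (x ∘ Sum.inr + y ∘ Sum.inr) - Q (x ∘ Sum.inr) - Q (y ∘ Sum.inr))
      rw [show (x + y) ∘ Sum.inl = x ∘ Sum.inl + y ∘ Sum.inl from rfl,
        show (x + y) ∘ Sum.inr = x ∘ Sum.inr + y ∘ Sum.inr from rfl]
      ring
    have h1 : x ∘ Sum.inl = 0 := hQ.1 _ fun z => by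
      have := hx (Sum.elim z 0)
      rw [key, Sum.elim_comp_inl, Sum.elim_comp_inr, QuadraticMap.polar_zero_right, add_zero] at this
      exact this
    have h2 : x ∘ Sum.inr = 0 := hQ.1 _ fun z => by
      have := hx (Sum.elim 0 z)
      rw [key, Sum.elim_comp_inl, Sum.elim_comp_inr, QuadraticMap.polar_zero_right, zero_add] at this
      exact this
    funext i
    rcases i with i | i
    · exact congrFun h1 i
    · exact congrFun h2 i
  let G : Matrix (Fin k) (Fin k) F := ((g : Matrix.GeneralLinearGroup (Fin k) F) : Matrix (Fin k) (Fin k) F)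
  have hg : ∀ y, Q (G.mulVec y) = Q y := fun y => g.2 y y
  obtain ⟨a, ha⟩ := CfsgLib.Orth.exists_iso hB (Matrix.mulVecLin (Matrix.fromBlocks G 0 0 1)) fun v => by
    show Q ((Matrix.fromBlocks G 0 0 1).mulVec v ∘ Sum.inl) + Q ((Matrix.fromBlocks G 0 0 1).mulVec v ∘ Sum.inr) = _
    rw [Matrix.fromBlocks_mulVec]
    simp only [Sum.elim_comp_inl, Sum.elim_comp_inr, Matrix.zero_mulVec, Matrix.one_mulVec, add_zero, zero_add, hg]
    rfl
  obtain ⟨σ, hσ⟩ := CfsgLib.Orth.exists_iso hB (LinearMap.funLeft F F (Sum.swap : Fin k ⊕ Fin k → Fin k ⊕ Fin k))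
    fun v => add_comm _ _
  have hn : 2 ≤ Module.finrank F (Fin k ⊕ Fin k → F) := by simp; omega
  have hex : Module.finrank F (Fin k ⊕ Fin k → F) = 4 → Nat.card F ≠ 2 := fun h4 h' => by
    rw [Nat.card_eq_fintype_card] at h'
    simp at h4
    exact h.elim (· h') (· (by omega))
  refine ⟨a * (σ * a * σ), (CfsgLib.Orth.mem_omega_iff hB hn hex _).2 ⟨?_, fun _ => ?_⟩, ?_⟩
  · simp only [map_mul]
    rw [mul_comm (CfsgLib.Orth.dickson hB σ) (CfsgLib.Orth.dickson hB a), mul_assoc, Int.units_mul_self, mul_one,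
      Int.units_mul_self]
  · simp only [map_mul]
    rw [mul_comm (CfsgLib.Orth.spinor Qs 1 σ) (CfsgLib.Orth.spinor Qs 1 a), mul_assoc, Int.units_mul_self, mul_one,
      Int.units_mul_self]
  · refine Matrix.ext_iff_mulVec.2 fun v => ?_
    show CfsgLib.Orth.ap (a * (σ * a * σ)) v = _
    rw [CfsgLib.Orth.ap_mul, CfsgLib.Orth.ap_mul, CfsgLib.Orth.ap_mul, ha, hσ, ha, hσ]
    funext i
    simp only [Matrix.mulVecLin_apply, Matrix.fromBlocks_mulVec, Matrix.zero_mulVec, Matrix.one_mulVec,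
      add_zero, zero_add, G]
    rcases i with i | i
    · simp [LinearMap.funLeft_apply, Function.comp_def]
    · simp [LinearMap.funLeft_apply, Function.comp_def]

end Cfsg.Agent.S2628
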