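import Cfsg.Statements.S2629
import Cfsg.Agent.Lib.Classical.OmegaApps

set_option autoImplicit false
open Cfsg

namespace Cfsg.Agent.S2629

/-- For the hyperbolic form Σ x_i y_i on F^(2m) over a finite field of odd order (m ≥ 1), an isometry g preserves the class of the maximal totally singular subspace U₀ = {y = 0} (that is, m − dim(U₀ ∩ gU₀) is even) if and only if det g = 1: the stabiliser of each of the two classes of maximal totally singular subspaces is SO. -/
theorem result {F : Type*} [Field F] [Fintype F] (h2 : (2 : F) ≠ 0) {m : ℕ} (hm : 1 ≤ m) (g : ↥(Cfsg.isometryGroup F (Cfsg.quadFormPlus m F))) : Even (m - Module.finrank F ↥(LinearMap.ker (LinearMap.funLeft F F (Sum.inr : Fin m → Fin m ⊕ Fin m)) ⊓ (LinearMap.ker (LinearMap.funLeft F F (Sum.inr : Fin m → Fin m ⊕ Fin m))).map (Matrix.mulVecLin ((g : Matrix.GeneralLinearGroup (Fin m ⊕ Fin m) F) : Matrix (Fin m ⊕ Fin m) (Fin m ⊕ Fin m) F)))) ↔ ((g : Matrix.GeneralLinearGroup (Fin m ⊕ Fin m) F) : Matrix (Fin m ⊕ Fin m)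 (Fin m ⊕ Fin m) F).det = 1 := by
  obtain ⟨Q, hQ, hB⟩ := CfsgLib.Orth.exists_quadForm_plus (F := F) m
  revert g
  rw [← hQ]
  intro g
  have hex : Module.finrank F (Fin m ⊕ Fin m → F) = 4 → Nat.card F ≠ 2 := fun _ h' => by
    rw [Nat.card_eq_fintype_card] at h'
    have := FiniteField.cast_card_eq_zero F
    rw [h', Nat.cast_ofNat] at this
    exact h2 this
  have h := CfsgLib.Orth.Plus.dickson_eq hB hQ hm g
  refine Iff.trans ?_ ((CfsgLib.Orth.mem_special_iff_odd hB h2 hex g).symm.trans ⟨fun hh => congrArg Units.val hh, fun hh => Units.ext hh⟩)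
  rw [h]
  exact (neg_one_pow_eq_one_iff_even (by decide)).symm

end Cfsg.Agent.S2629
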