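import Cfsg.Statements.S2633
import Cfsg.Agent.Lib.Classical.OmegaApps

set_option autoImplicit false
open Cfsg

namespace Cfsg.Agent.S2633

/-- Ω is transitive on totally singular subspaces of each dimension less than half the dimension: for a quadratic form Q on F^n with non-degenerate polar form (F finite; excluding dimension 4 over the field of two elements), if U and W are subspaces of the same dimension k with 2k < n on which Q vanishes, then some element of Ω (the commutator subgroup of the orthogonal group) carries U to W. -/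
theorem result {F : Type*} [Field F] [Fintype F] {n : ℕ} (h : Fintype.card F ≠ 2 ∨ n ≠ 4) (Q : QuadraticForm F (Fin n → F)) (hQ : (QuadraticMap.polarBilin Q).Nondegenerate) (U W : Submodule F (Fin n → F)) {k : ℕ} (hk : 2 * k < n) (hU : Module.finrank F U = k) (hW : Module.finrank F W = k) (hU0 : ∀ u ∈ U, Q u = 0) (hW0 : ∀ w ∈ W, Q w = 0) : ∃ g : ↥(Cfsg.isometryGroup F ⇑Q), g ∈ Cfsg.Omega F ⇑Q ∧ U.map (Matrix.mulVecLin ((g : Matrix.GeneralLinearGroup (Fin n) F) : Matrix (Fin n) (Fin n) F)) = W := by
  have hB : CfsgLib.Orth.Nondeg Q := fun x hx => hQ.1 x fun y => by simpa using hx y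
  rcases Nat.eq_zero_or_pos k with rfl | hkpos
  · refine ⟨1, one_mem _, ?_⟩
    rw [Submodule.finrank_eq_zero.1 hU, Submodule.finrank_eq_zero.1 hW, Submodule.map_bot]
  have hn2 : 2 ≤ Module.finrank F (Fin n → F) := by rw [Module.finrank_fin_fun]; omega
  have hex : Module.finrank F (Fin n → F) = 4 → Nat.card F ≠ 2 := fun h4 h' => by
    rw [Nat.card_eq_fintype_card] at h'
    rw [Module.finrank_fin_fun] at h4
    exact h.elim (· h') (· h4)
  obtain ⟨g, hg⟩ := CfsgLib.Orth.exists_move_sub hB U W (LinearEquiv.ofFinrankEq _ _ (hU.trans hW.symm))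
    fun u => by rw [hW0 _ (SetLike.coe_mem _), hU0 _ u.2]
  exact CfsgLib.Orth.exists_omega_of_stab hB hn2 hex g hg
    (CfsgLib.Orth.singular_stab_classes hB hW0 (by rw [hW, Module.finrank_fin_fun]; exact hk)
      (fun e => by rw [e, finrank_bot] at hW; omega))

end Cfsg.Agent.S2633
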