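import Cfsg.Statements.S2634
import Cfsg.Agent.Lib.Classical.OrthSpinor

set_option autoImplicit false
open Cfsg

namespace Cfsg.Agent.S2634

/-- Over a finite field of characteristic two, Ω (the commutator subgroup of the orthogonal group of a quadratic form Q on F^n with non-degenerate polar form; excluding dimension 4 over the field of two elements) acts transitively on the non-singular 1-spaces: for u, v with Q(u) ≠ 0 and Q(v) ≠ 0 some element of Ω carries the line through u to the line through v. -/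
theorem result {F : Type*} [Field F] [Fintype F] [CharP F 2] {n : ℕ} (h : Fintype.card F ≠ 2 ∨ n ≠ 4) (Q : QuadraticForm F (Fin n → F)) (hQ : (QuadraticMap.polarBilin Q).Nondegenerate) (u v : Fin n → F) (hu : Q u ≠ 0) (hv : Q v ≠ 0) : ∃ g : ↥(Cfsg.isometryGroup F ⇑Q), g ∈ Cfsg.Omega F ⇑Q ∧ (F ∙ ((g : Matrix.GeneralLinearGroup (Fin n) F) : Matrix (Fin n) (Fin n) F).mulVec u) = F ∙ v := by
  have hB : CfsgLib.Orth.Nondeg Q := fun x hx => hQ.1 x fun y => by
    simpa using hx y
  have h2 : (2 : F) = 0 := CharTwo.two_eq_zero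
  have hex : Module.finrank F (Fin n → F) = 4 → Nat.card F ≠ 2 := fun h4 h' => by
    rw [Nat.card_eq_fintype_card] at h'
    rw [Module.finrank_fin_fun] at h4
    exact h.elim (· h') (· h4)
  have hn : 1 ≤ Module.finrank F (Fin n → F) := by
    rw [Module.finrank_fin_fun]
    by_contra hc
    have : n = 0 := by omega
    subst this
    exact hu (by rw [Subsingleton.elim u 0, QuadraticMap.map_zero])
  obtain ⟨c, hc⟩ := FiniteField.isSquare_of_char_two (ringChar.eq F 2) (Q u / Q v)
  have hc0 : c ≠ 0 := fun e => div_ne_zero hu hv (by rw [hc, e, mul_zero])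
  have hq : Q (c • v) = Q u := by rw [CfsgLib.Orth.q_smul, ← hc, div_mul_cancel₀ _ hv]
  obtain ⟨g, hg⟩ := CfsgLib.Orth.exists_conj_char_two hB h2 hex hu hq.symm
  obtain ⟨r, hr⟩ := CfsgLib.Orth.exists_refl hB hu
  have hru : CfsgLib.Orth.ap r u = u := by
    rw [hr.2, CfsgLib.Orth.b_self, h2, zero_mul, mul_zero, zero_smul, sub_zero]
  obtain ⟨a, ha, hau⟩ : ∃ a, CfsgLib.Orth.dickson hB a = 1 ∧ CfsgLib.Orth.ap a u = c • v := by
    rcases Int.units_eq_one_or (CfsgLib.Orth.dickson hB g) with hd | hd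
    · exact ⟨g, hd, hg⟩
    · exact ⟨g * r, by rw [map_mul, hd, CfsgLib.Orth.dickson_refl hB hr]; rfl,
        by rw [CfsgLib.Orth.ap_mul, hru, hg]⟩
  refine ⟨a, ?_, ?_⟩
  · rw [CfsgLib.Orth.omega_eq_ker_dickson hB h2 hn hex]; exact ha
  · show F ∙ CfsgLib.Orth.ap a u = F ∙ v
    rw [hau]
    exact Submodule.span_singleton_smul_eq (IsUnit.mk0 c hc0) v

end Cfsg.Agent.S2634
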