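import Cfsg.Statements.S2635
import Cfsg.Agent.Lib.Classical.OrthSpinor

set_option autoImplicit false
open Cfsg

namespace Cfsg.Agent.S2635

/-- Over a finite field of characteristic two, for a quadratic form Q on F^n with non-degenerate polar form, n ≥ 2, other than dimension 4 over the field of two elements, Ω (the commutator subgroup of the orthogonal group) is exactly the subgroup generated by the products of two reflections (orthogonal transvections) x ↦ x − Q(v)⁻¹ f(x, v) v, Q(v) ≠ 0: the products of an even number of reflections. -/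
theorem result {F : Type*} [Field F] [Fintype F] [CharP F 2] {n : ℕ} (hn : 2 ≤ n) (h : Fintype.card F ≠ 2 ∨ n ≠ 4) (Q : QuadraticForm F (Fin n → F)) (hQ : (QuadraticMap.polarBilin Q).Nondegenerate) : Cfsg.Omega F ⇑Q = Subgroup.closure {g : ↥(Cfsg.isometryGroup F ⇑Q) | ∃ u v : Fin n → F, Q u ≠ 0 ∧ Q v ≠ 0 ∧ ((g : Matrix.GeneralLinearGroup (Fin n) F) : Matrix (Fin n) (Fin n) F) = Cfsg.reflectionMatrix ⇑Q u * Cfsg.reflectionMatrix ⇑Q v} := by
  have hB : CfsgLib.Orth.Nondeg Q := fun x hx => hQ.1 x fun y => by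
    simpa using hx y
  have h2 : (2 : F) = 0 := CharTwo.two_eq_zero
  have hex : Module.finrank F (Fin n → F) = 4 → Nat.card F ≠ 2 := fun h4 h' => by
    rw [Nat.card_eq_fintype_card] at h'
    rw [Module.finrank_fin_fun] at h4
    exact h.elim (· h') (· h4)
  have hn1 : 1 ≤ Module.finrank F (Fin n → F) := by rw [Module.finrank_fin_fun]; omega
  rw [CfsgLib.Orth.omega_eq_ker_dickson hB h2 hn1 hex]
  set K := Subgroup.closure {g : ↥(Cfsg.isometryGroup F ⇑Q) | ∃ u v : Fin n → F, Q u ≠ 0 ∧ Q v ≠ 0 ∧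
    ((g : Matrix.GeneralLinearGroup (Fin n) F) : Matrix (Fin n) (Fin n) F) =
      Cfsg.reflectionMatrix ⇑Q u * Cfsg.reflectionMatrix ⇑Q v}
  have hpair : ∀ (u v : Fin n → F) (r s : CfsgLib.Orth.Grp Q), CfsgLib.Orth.IsRefl u r →
      CfsgLib.Orth.IsRefl v s → r * s ∈ K := fun u v r s hr hs =>
    Subgroup.subset_closure ⟨u, v, hr.1, hs.1, by
      rw [← (CfsgLib.Orth.refl_iff hr.1).1 hr, ← (CfsgLib.Orth.refl_iff hs.1).1 hs]
      rfl⟩
  have hKle : K ≤ (CfsgLib.Orth.dickson hB).ker := by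
    refine (Subgroup.closure_le _).2 ?_
    rintro g ⟨u, v, hu, hv, hg⟩
    obtain ⟨r, hr⟩ := CfsgLib.Orth.exists_refl hB hu
    obtain ⟨s, hs⟩ := CfsgLib.Orth.exists_refl hB hv
    have e : g = r * s := Subtype.ext (Units.ext (by
      rw [hg, ← (CfsgLib.Orth.refl_iff hr.1).1 hr, ← (CfsgLib.Orth.refl_iff hs.1).1 hs]
      rfl))
    rw [SetLike.mem_coe, MonoidHom.mem_ker, e, map_mul, CfsgLib.Orth.dickson_refl hB hr,
      CfsgLib.Orth.dickson_refl hB hs]
    rfl
  obtain ⟨v₀, hv₀⟩ := CfsgLib.Orth.exists_aniso hB hn1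
  obtain ⟨r₀, hr₀⟩ := CfsgLib.Orth.exists_refl hB hv₀
  have hX : ∀ g : CfsgLib.Orth.Grp Q, g ∈ K ∨ g * r₀ ∈ K := by
    intro g
    have hg : g ∈ CfsgLib.Orth.Refl Q := by rw [CfsgLib.Orth.refl_eq_top hB hex]; trivial
    have step : ∀ a : CfsgLib.Orth.Grp Q, ∀ (w : Fin n → F) (s : CfsgLib.Orth.Grp Q),
        CfsgLib.Orth.IsRefl w s → (a ∈ K ∨ a * r₀ ∈ K) → a * s ∈ K ∨ a * s * r₀ ∈ K := by
      intro a w s hs ha
      rcases ha with ha | ha
      · exact Or.inr (by rw [mul_assoc]; exact mul_mem ha (hpair _ _ _ _ hs hr₀))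
      · refine Or.inl ?_
        have h1 := mul_mem ha (hpair _ _ _ _ hr₀ hs)
        rwa [mul_assoc, ← mul_assoc r₀ r₀, CfsgLib.Orth.refl_mul_self hr₀, one_mul] at h1
    induction hg using Subgroup.closure_induction_right with
    | one => exact Or.inl (one_mem _)
    | mul_right a _ s hs ih =>
      obtain ⟨w, hs⟩ := hs
      exact step a w s hs ih
    | mul_inv_cancel a _ s hs ih =>
      obtain ⟨w, hs⟩ := hs
      rw [CfsgLib.Orth.refl_inv hs]
      exact step a w s hs ih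
  refine le_antisymm (fun g hg => (hX g).elim id fun hr => ?_) hKle
  exfalso
  have h1 : CfsgLib.Orth.dickson hB (g * r₀) = 1 := hKle hr
  rw [map_mul, MonoidHom.mem_ker.1 hg, one_mul, CfsgLib.Orth.dickson_refl hB hr₀] at h1
  exact absurd h1 (by decide)

end Cfsg.Agent.S2635
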