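import Cfsg.Statements.S2638
import Mathlib

set_option autoImplicit false
set_option linter.style.haveILetI false
open Cfsg

namespace Cfsg.Agent.S2638

open Polynomial

theorem exists_factor {F : Type*} [Field F] {n r : ℕ} (hr : r.Prime) (hrF : (r : F) ≠ 0)
    (A : Matrix (Fin n) (Fin n) F) (hA : A ^ r = 1) (hA1 : A ≠ 1) :
    ∃ f : F[X], f.Monic ∧ Irreducible f ∧ f ∣ minpoly F A ∧ f ∣ X ^ r - 1 ∧ ¬ f ∣ X - 1 := by
  classical
  set m := minpoly F A with hm
  have hdvd : m ∣ X ^ r - 1 := minpoly.dvd F A (by simp [hA])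
  have hsq : Squarefree m :=
    (X_pow_sub_one_separable_iff.2 hrF).squarefree.squarefree_of_dvd hdvd
  have hm0 : m ≠ 0 := minpoly.ne_zero (Matrix.isIntegral A)
  have hnd : ¬ m ∣ X - 1 := by
    rintro ⟨c, hc⟩
    have h1 : aeval A (X - 1 : F[X]) = 0 := by rw [hc, map_mul, minpoly.aeval, zero_mul]
    exact hA1 (by simpa [sub_eq_zero] using h1)
  obtain ⟨f, hf, hfq⟩ : ∃ f ∈ UniqueFactorizationMonoid.normalizedFactors m, ¬ f ∣ X - 1 := by
    by_contra hall
    push Not at hall
    refine hnd (hsq.isRadical (Multiset.card (UniqueFactorizationMonoid.normalizedFactors m)) _ ?_)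
    refine (UniqueFactorizationMonoid.prod_normalizedFactors hm0).symm.dvd.trans ?_
    have key : ∀ s : Multiset F[X], (∀ x ∈ s, x ∣ (X - 1 : F[X])) → s.prod ∣ (X - 1) ^ Multiset.card s := by
      intro s
      induction s using Multiset.induction with
      | empty => simp
      | cons a s ih =>
        intro h
        rw [Multiset.prod_cons, Multiset.card_cons, pow_succ']
        exact mul_dvd_mul (h a (Multiset.mem_cons_self a s))
          (ih fun x hx => h x (Multiset.mem_cons_of_mem hx))
    exact key _ hall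
  have hfi : Irreducible f := UniqueFactorizationMonoid.irreducible_of_normalized_factor f hf
  have hfm : f ∣ m := UniqueFactorizationMonoid.dvd_of_mem_normalizedFactors hf
  refine ⟨f, ?_, hfi, hfm, hfm.trans hdvd, hfq⟩
  have hne := hfi.ne_zero
  have := UniqueFactorizationMonoid.normalize_normalized_factor f hf
  rw [← this]
  exact Polynomial.monic_normalize hne

theorem degree_dvd {F : Type*} [Field F] [Finite F] {r : ℕ} (hr : r.Prime) {f : F[X]}
    (hfi : Irreducible f) (h1 : f ∣ X ^ r - 1) (h2 : ¬ f ∣ X - 1) :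
    orderOf (Nat.card F : ZMod r) ∣ f.natDegree := by
  haveI := Fact.mk hfi
  haveI := Fact.mk hr
  set α := AdjoinRoot.root f
  haveI : Module.Finite F (AdjoinRoot f) := (AdjoinRoot.powerBasis hfi.ne_zero).finite
  haveI : Finite (AdjoinRoot f) := Module.finite_of_finite F
  have hcard : Nat.card (AdjoinRoot f) = Nat.card F ^ f.natDegree := by
    rw [Module.natCard_eq_pow_finrank (K := F), (AdjoinRoot.powerBasis hfi.ne_zero).finrank,
      AdjoinRoot.powerBasis_dim]
  have hαN : α ^ r = 1 := by
    have : AdjoinRoot.mk f (X ^ r - 1) = 0 := AdjoinRoot.mk_eq_zero.2 h1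
    simpa [sub_eq_zero] using this
  have hαq : α ≠ 1 := fun h => h2 (AdjoinRoot.mk_eq_zero.1 (by simp [α] at h ⊢; simp [h]))
  have hα0 : α ≠ 0 := fun h => by simp [h, hr.ne_zero] at hαN
  have hord : orderOf (Units.mk0 α hα0) = r :=
    orderOf_eq_prime (Units.ext (by simpa using hαN)) (fun h => hαq (by simpa using congrArg Units.val h))
  have hdv : r ∣ Nat.card F ^ f.natDegree - 1 := by
    rw [← hcard, ← Nat.card_units]
    have := orderOf_dvd_natCard (Units.mk0 α hα0)
    rwa [hord] at this
  refine orderOf_dvd_of_pow_eq_one ?_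
  have h3 := (ZMod.natCast_eq_zero_iff _ r).mpr hdv
  rw [Nat.cast_sub (Nat.one_le_pow _ _ Nat.card_pos), Nat.cast_pow, Nat.cast_one, sub_eq_zero] at h3
  exact h3

/-- If an element x of GL_n(q), n ≥ 1, has prime order r and the multiplicative order of q modulo r is n (r is a primitive prime divisor of q^n − 1, so x acts irreducibly), then the centraliser of x in GL_n(q) is cyclic of order q^n − 1 (the multiplicative group of the field with q^n elements, a Singer cycle). -/
theorem result {F : Type*} [Field F] [Fintype F] {p q : ℕ} [Fact p.Prime] [CharP F p] (hF : Fintype.card F = q) {n r : ℕ} (hn : 1 ≤ n) (hr : r.Prime) (hrp : r ≠ p) (hi : orderOf (q : ZMod r) = n) (x : GL (Fin n) F) (hx : orderOf x = r) : IsCyclic ↥(Subgroup.centralizer ({x} : Set (GL (Fin n) F))) ∧ Nat.card ↥(Subgroup.centralizer ({x} : Set (GL (Fin n) F))) = q ^ n - 1 := by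
  classical
  haveI : NeZero n := ⟨by omega⟩
  have hrF : (r : F) ≠ 0 := by
    rw [Ne, CharP.cast_eq_zero_iff F p]
    exact fun h => hrp ((Nat.prime_dvd_prime_iff_eq Fact.out hr).mp h).symm
  set A : Matrix (Fin n) (Fin n) F := (x : Matrix (Fin n) (Fin n) F) with hA
  have hAr : A ^ r = 1 := by rw [hA, ← Units.val_pow_eq_pow_val, ← hx, pow_orderOf_eq_one]; rfl
  have hA1 : A ≠ 1 := fun h => by
    rw [Units.ext (show (x : Matrix (Fin n) (Fin n) F) = ((1 : GL (Fin n) F) : Matrix (Fin n) (Fin n) F) from h),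
      orderOf_one] at hx
    exact hr.one_lt.ne hx
  obtain ⟨f, hfmon, hfi, hfm, hf1, hf2⟩ := exists_factor hr hrF A hAr hA1
  have hnd : n ∣ f.natDegree := by
    have := degree_dvd hr hfi hf1 hf2
    rwa [Nat.card_eq_fintype_card, hF, hi] at this
  have hmdeg : (minpoly F A).natDegree ≤ n := by
    have h2 := Polynomial.natDegree_le_of_dvd (Matrix.minpoly_dvd_charpoly A) A.charpoly_monic.ne_zero
    rwa [Matrix.charpoly_natDegree_eq_dim, Fintype.card_fin] at h2
  have hn' : n ≤ f.natDegree := Nat.le_of_dvd hfi.natDegree_pos hnd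
  have hfA : f = minpoly F A :=
    (Polynomial.eq_of_monic_of_dvd_of_natDegree_le hfmon (minpoly.monic (Matrix.isIntegral A)) hfm
      (hmdeg.trans hn')).symm
  have hdeg : f.natDegree = n := le_antisymm (hfA ▸ hmdeg) hn'
  haveI := Fact.mk hfi
  haveI : Module.Finite F (AdjoinRoot f) := (AdjoinRoot.powerBasis hfi.ne_zero).finite
  haveI : Finite (AdjoinRoot f) := Module.finite_of_finite F
  have hfin : Module.finrank F (AdjoinRoot f) = n := by
    rw [(AdjoinRoot.powerBasis hfi.ne_zero).finrank, AdjoinRoot.powerBasis_dim, hdeg]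
  let φ : AdjoinRoot f →ₐ[F] Matrix (Fin n) (Fin n) F := Ideal.Quotient.liftₐ _ (Polynomial.aeval A) (by
    intro g hg
    obtain ⟨c, rfl⟩ := Ideal.mem_span_singleton.mp hg
    rw [map_mul, hfA, minpoly.aeval, zero_mul])
  have hφr : φ (AdjoinRoot.root f) = A := by
    show Polynomial.aeval A Polynomial.X = A
    exact Polynomial.aeval_X A
  have hφi : Function.Injective φ := φ.toRingHom.injective
  let v : Fin n → F := Pi.single 0 1
  have hv : v ≠ 0 := by simp [v]
  let E : AdjoinRoot f →ₗ[F] (Fin n → F) :=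
    { toFun := fun k => (φ k).mulVec v
      map_add' := fun a b => by simp [Matrix.add_mulVec]
      map_smul' := fun c a => by simp [Matrix.smul_mulVec] }
  have hE : Function.Injective E := by
    rw [injective_iff_map_eq_zero]
    intro k hk
    by_contra hk0
    apply hv
    calc v = (φ (k⁻¹ * k)).mulVec v := by rw [inv_mul_cancel₀ hk0, map_one, Matrix.one_mulVec]
      _ = (φ k⁻¹).mulVec (E k) := by rw [map_mul, ← Matrix.mulVec_mulVec]; rfl
      _ = 0 := by rw [hk, Matrix.mulVec_zero]
  have hEs : Function.Surjective E :=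
    (LinearMap.injective_iff_surjective_of_finrank_eq_finrank (by rw [hfin, Module.finrank_fin_fun])).mp hE
  have hcomm : ∀ B : Matrix (Fin n) (Fin n) F, B * A = A * B → ∃ k, B = φ k := by
    intro B hB
    have hall : ∀ k, Commute B (φ k) := by
      intro k
      obtain ⟨g, rfl⟩ := Ideal.Quotient.mk_surjective k
      show Commute B (Polynomial.aeval A g)
      induction g using Polynomial.induction_on' with
      | add a b ha hb => rw [map_add]; exact Commute.add_right ha hb
      | monomial i c =>
        rw [Polynomial.aeval_monomial]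
        exact Commute.mul_right (Algebra.commutes c B).symm (Commute.pow_right hB i)
    obtain ⟨k, hk⟩ := hEs (B.mulVec v)
    refine ⟨k, ?_⟩
    apply Matrix.ext_of_mulVec_single
    intro i
    obtain ⟨l, hl⟩ := hEs (Pi.single i 1)
    rw [← hl]
    show B.mulVec ((φ l).mulVec v) = (φ k).mulVec ((φ l).mulVec v)
    rw [Matrix.mulVec_mulVec, Matrix.mulVec_mulVec, (hall l).eq, ← Matrix.mulVec_mulVec, ← hk, ← map_mul,
      mul_comm, map_mul, ← Matrix.mulVec_mulVec]
    rfl
  let Ψ : (AdjoinRoot f)ˣ →* GL (Fin n) F := Units.map φ.toRingHom.toMonoidHom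
  have hΨ : Function.Injective Ψ := fun _ _ h => Units.ext (hφi (congrArg Units.val h))
  have hrange : Ψ.range = Subgroup.centralizer ({x} : Set (GL (Fin n) F)) := by
    apply le_antisymm
    · rintro _ ⟨u, rfl⟩
      rw [Subgroup.mem_centralizer_singleton_iff]
      apply Units.ext
      show φ (u : AdjoinRoot f) * A = A * φ (u : AdjoinRoot f)
      rw [← hφr, ← map_mul, ← map_mul, mul_comm]
    · intro g hg
      rw [Subgroup.mem_centralizer_singleton_iff] at hg
      obtain ⟨k, hk⟩ := hcomm (g : Matrix (Fin n) (Fin n) F) (congrArg Units.val hg)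
      have hk0 : k ≠ 0 := fun h => by rw [h, map_zero] at hk; exact g.ne_zero hk
      exact ⟨Units.mk0 k hk0, Units.ext hk.symm⟩
  rw [← hrange]
  refine ⟨isCyclic_of_surjective Ψ.rangeRestrict Ψ.rangeRestrict_surjective, ?_⟩
  rw [← Nat.card_congr (MonoidHom.ofInjective hΨ).toEquiv, Nat.card_units,
    Module.natCard_eq_pow_finrank (K := F), hfin, Nat.card_eq_fintype_card, hF]

end Cfsg.Agent.S2638
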