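import Cfsg.Statements.S2647
import Cfsg.Agent.Lib.OmegaSevenTwo.Embed
import Cfsg.Agent.Lib.Fusion.InnOfModel

set_option autoImplicit false
open Cfsg

namespace Cfsg.Agent.S2647

/-- Let q be an odd prime power with q ≡ ±3 (mod 8), F a field with q elements and S a Sylow 2-subgroup of the commutator subgroup Ω₇(q) of the orthogonal group of the form x₀² + x₁y₁ + x₂y₂ + x₃y₃ over F. Then every automorphism of S induced by N(S) is inner, S has no strongly closed subgroup other than 1 and S with respect to this group, and the 2-fusion system of Ω₇(q) on S is simple. -/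
theorem result {F : Type*} [Field F] [Fintype F] [DecidableEq F] (q : ℕ) (hF : Fintype.card F = q) (hq : q % 8 = 3 ∨ q % 8 = 5) (S : Sylow 2 ↥(Cfsg.Omega F (Cfsg.quadFormOdd 3 F))) : (Cfsg.groupFusionSystem (S : Subgroup ↥(Cfsg.Omega F (Cfsg.quadFormOdd 3 F)))).autGroup (S : Subgroup ↥(Cfsg.Omega F (Cfsg.quadFormOdd 3 F))) = Cfsg.Inn ↥(S : Subgroup ↥(Cfsg.Omega F (Cfsg.quadFormOdd 3 F))) ∧ (∀ T : Subgroup ↥(Cfsg.Omega F (Cfsg.quadFormOdd 3 F)), (Cfsg.groupFusionSystem (S : Subgroup ↥(Cfsg.Omega F (Cfsg.quadFormOdd 3 F)))).StronglyClosed T → T = ⊥ ∨ T = (S : Subgroup ↥(Cfsg.Omega F (Cfsg.quadFormOdd 3 F)))) ∧ (Cfsg.groupFusionSystem (S : Subgroup ↥(Cfsg.Omega F (Cfsg.quadFormOdd 3 F)))).IsSimple 2 := by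
  haveI : Fact (Nat.Prime 2) := ⟨Nat.prime_two⟩
  have h2 : (2 : F) ≠ 0 := fun h => by
    have hc : (q : F) = 0 := hF ▸ FiniteField.cast_card_eq_zero F
    rw [← Nat.mod_add_div q 2, show q % 2 = 1 by omega] at hc
    push_cast at hc
    rw [h, zero_mul, add_zero] at hc
    exact one_ne_zero hc
  obtain ⟨ν, hν, hpres, hK, hcard⟩ := CfsgLib.OmegaSevenTwo.exists_embed h2 hF hq
  obtain ⟨S₀, h1, ha, hC⟩ := CfsgLib.OmegaSevenTwo.exists_model h2 ν hν hpres hK hcard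
  refine ⟨CfsgLib.Fusion.autGroup_eq_inn S (CfsgLib.Fusion.pPrime_centralizes_of_model S₀ hC S), fun T hT => ?_,
    CfsgLib.Fusion.isSimple_group_of_model_pPrime S₀ h1 ha hC S⟩
  obtain ⟨c, rfl⟩ := MulAction.exists_smul_eq ↥(Cfsg.Omega F (Cfsg.quadFormOdd 3 F)) S₀ S
  exact CfsgLib.Fusion.stronglyClosed_of_model S₀ c ha hT

end Cfsg.Agent.S2647
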