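import Cfsg.Statements.S2648
import Mathlib
import Cfsg.Agent.Lib.LinearPGroup.CrossChar
import Cfsg.Agent.Lib.LinearPGroup.SympWreath

set_option autoImplicit false
open Cfsg

namespace Cfsg.Agent.S2648

/-- Let q be odd, F a field with q elements and n ≥ 1. A Sylow 2-subgroup R of the symplectic group Sp_{2n}(F) has derived length exactly k + 1, where 2^k ≤ 2n < 2^{k+1}: the (k+1)-st term of its derived series is trivial and the k-th is not. -/
theorem result {F : Type*} [Field F] [Fintype F] [DecidableEq F] (q : ℕ) (hF : Fintype.card F = q) (hq : Odd q) (n : ℕ) (hn : 1 ≤ n) (R : Sylow 2 ↥(Matrix.symplecticGroup (Fin n) F)) : derivedSeries ↥(R : Subgroup ↥(Matrix.symplecticGroup (Fin n) F)) (Nat.log 2 (2 * n) + 1) = ⊥ ∧ derivedSeries ↥(R : Subgroup ↥(Matrix.symplecticGroup (Fin n) F)) (Nat.log 2 (2 * n)) ≠ ⊥ := by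
  classical
  have h2 : ¬ 2 ∣ q := fun h => Nat.not_even_iff_odd.mpr hq (even_iff_two_dvd.mpr h)
  have he : orderOf (q : ZMod 2) = 1 := by
    rw [orderOf_eq_one_iff, show ((q : ℕ) : ZMod 2) = ((1 : ℕ) : ZMod 2) from
      (ZMod.natCast_eq_natCast_iff' q 1 2).mpr (Nat.odd_iff.mp hq), Nat.cast_one]
  constructor
  · have hM : Function.Injective ((Matrix.reindexAlgEquiv F F finSumFinEquiv).toMulEquiv.toMonoidHom.comp
        ((Matrix.symplecticGroup (Fin n) F).subtype.comp
          (R : Subgroup ↥(Matrix.symplecticGroup (Fin n) F)).subtype)) := fun x y h =>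
      Subtype.ext (Subtype.ext ((Matrix.reindexAlgEquiv F F finSumFinEquiv).injective h))
    have h := Cfsg.Agent.LinearPGroup.derivedSeries_eq_bot_cross hF h2 R.isPGroup'
      (n := n + n) (by omega) _ hM
    rwa [he, Nat.div_one, ← two_mul] at h
  · rw [mul_comm 2 n, Nat.log_mul_base one_lt_two (by omega)]
    intro hbot
    obtain ⟨H, hH, hd⟩ := Cfsg.Agent.LinearPGroup.exists_two_subgroup (F := F)
      (by rw [Nat.card_eq_fintype_card, hF]; exact hq) (Nat.log 2 n)
    obtain ⟨f, hf⟩ := Cfsg.Agent.LinearPGroup.exists_pad (F := F) (Nat.pow_log_le_self 2 (by omega : n ≠ 0))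
    obtain ⟨T, hT⟩ := (hH.map f).exists_le_sylow
    let g : H →* ↥(R : Subgroup ↥(Matrix.symplecticGroup (Fin n) F)) :=
      (T.equiv R).toMonoidHom.comp ((Subgroup.inclusion hT).comp (f.subgroupMap H))
    have hg : Function.Injective g := (T.equiv R).injective.comp ((Subgroup.inclusion_injective hT).comp
      fun u v h => Subtype.ext (hf (congrArg Subtype.val h)))
    exact hd (Cfsg.Agent.S4014.derivedSeries_eq_bot_of_injective g hg hbot)

end Cfsg.Agent.S2648
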