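import Cfsg.Statements.S2650
import Cfsg.Agent.Lib.Golay.Cocode.Nonsplit

set_option autoImplicit false
open Cfsg

namespace Cfsg.Agent.S2650

/-- A non-split extension of the Mathieu group M₂₃ by its cocode module exists. There is a finite group E with a normal subgroup N, an isomorphism φ from E/N onto M₂₃ = `Spor.M23` (the stabiliser of the extra point `none` in M₂₄ acting on the 24 points `GolayPt`), and a surjective additive homomorphism θ from the binary words on `GolayPt` onto N whose kernel consists of the words of the Golay code `golayCode` and their translates by the unit vector at `none` (so N is elementary abelian of order 2¹¹), such that θ carries the coordinate permutation w ↦ w ∘ σ⁻¹, σ = φ(gN), to conjugation by g on N — and such that N has no complement in E. -/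
theorem result :
    ∃ (E : Type) (_ : Group E) (_ : Finite E) (N : Subgroup E) (_ : N.Normal)
      (φ : E ⧸ N ≃* ↥Cfsg.Spor.M23) (θ : (Cfsg.GolayPt → ZMod 2) →+ Additive ↥N),
      Function.Surjective θ ∧
      (∀ w : Cfsg.GolayPt → ZMod 2, θ w = 0 ↔ (w ∈ Cfsg.golayCode ∨ w + Pi.single none 1 ∈ Cfsg.golayCode)) ∧
      (∀ (g : E) (w : Cfsg.GolayPt → ZMod 2),
        ((θ (w ∘ ⇑(((φ (QuotientGroup.mk g) : ↥Cfsg.Spor.M23) : Equiv.Perm Cfsg.GolayPt)⁻¹))).toMul : E)
          = g * ((θ w).toMul : E) * g⁻¹) ∧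
      ∀ H : Subgroup E, H ⊓ N = ⊥ → H ⊔ N ≠ ⊤ := by
  classical
  open CfsgLib.Golay CfsgLib.Golay.Cocode in
  refine ⟨Ext, inferInstance, inferInstance, proj.ker, inferInstance,
    QuotientGroup.quotientKerEquivOfSurjective proj proj_surjective, toKer, toKer_surjective,
    toKer_eq_zero, fun g w => ?_, fun H hHN hsup => ?_⟩
  · exact CfsgLib.Golay.Cocode.toKer_conj g w
  open CfsgLib.Golay CfsgLib.Golay.Cocode in
  have lift : ∀ π : ↥Cfsg.Spor.M23, ∃ e ∈ H, proj e = π := by
    intro π
    obtain ⟨e, he⟩ := proj_surjective π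
    have : e ∈ H ⊔ proj.ker := hsup ▸ Subgroup.mem_top e
    obtain ⟨y, hy, z, hz, rfl⟩ := Subgroup.mem_sup_of_normal_right.1 this
    exact ⟨y, hy, by rw [← he, map_mul, MonoidHom.mem_ker.1 hz, mul_one]⟩
  open CfsgLib.Golay CfsgLib.Golay.Cocode in
  obtain ⟨eu, hu, hu'⟩ := lift ⟨toPerm pU, toPerm_mem_M23 pU_ok⟩
  open CfsgLib.Golay CfsgLib.Golay.Cocode in
  obtain ⟨ev, hv, hv'⟩ := lift ⟨toPerm pV, toPerm_mem_M23 pV_ok⟩
  open CfsgLib.Golay CfsgLib.Golay.Cocode in
  apply no_relation eu ev hu' hv'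
  open CfsgLib.Golay CfsgLib.Golay.Cocode in
  have hpq : proj (eu * ev * eu) = proj (ev * eu * ev * eu * ev) := by
    have hP : validP pU = true := by decide +kernel
    have hQ : validP pV = true := by decide +kernel
    have e : mulP (mulP pU pV) pU = mulP (mulP (mulP (mulP pV pU) pV) pU) pV := by decide +kernel
    simp only [map_mul, hu', hv']
    apply Subtype.ext
    simp only [Subgroup.coe_mul]
    have h1 := validP_mulP hQ hP
    have h2 := validP_mulP h1 hQ
    have h3 := validP_mulP h2 hP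
    rw [← toPerm_mulP hP hQ, ← toPerm_mulP (validP_mulP hP hQ) hP, e, toPerm_mulP h3 hQ,
      toPerm_mulP h2 hP, toPerm_mulP h1 hQ, toPerm_mulP hQ hP]
  have hin : (eu * ev * eu)⁻¹ * (ev * eu * ev * eu * ev) ∈ H ⊓ CfsgLib.Golay.Cocode.proj.ker := by
    refine ⟨H.mul_mem (H.inv_mem (H.mul_mem (H.mul_mem hu hv) hu))
      (H.mul_mem (H.mul_mem (H.mul_mem (H.mul_mem hv hu) hv) hu) hv), ?_⟩
    show _ ∈ CfsgLib.Golay.Cocode.proj.ker
    rw [MonoidHom.mem_ker, map_mul, map_inv, hpq, inv_mul_cancel]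
  rw [hHN, Subgroup.mem_bot, inv_mul_eq_one] at hin
  exact hin

end Cfsg.Agent.S2650
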