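import Cfsg.Statements.S2653
import Cfsg.Agent.Lib.Classical.AltSection.Reduce

set_option autoImplicit false
open scoped MatrixGroups
open Cfsg

namespace Cfsg.Agent.S2653

/-- Alternating sections of finite linear groups. Let `F` be a finite field of characteristic `p` and `n` a natural number, and suppose some subgroup `H` of GL_n(F) has a normal subgroup `K` with `H ⧸ K` isomorphic to the alternating group of degree `r ≥ 9`. Then `n ≥ r - 2` when `p` divides `r`, and `n ≥ r - 1` otherwise (the smallest degree of a nontrivial projective representation of that alternating group in characteristic `p`). The same bound follows for every classical group with natural module of dimension `n` over `F`, since each is a section of a subgroup of GL_n(F). -/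
theorem result {F : Type*} [Field F] [Fintype F] (p : ℕ) [Fact p.Prime] [CharP F p]
    (n : ℕ) (r : ℕ) (H : Subgroup (GL (Fin n) F)) (K : Subgroup ↥H) [K.Normal]
    (h : Nonempty (↥H ⧸ K ≃* ↥(alternatingGroup (Fin r)))) (hr : 9 ≤ r) :
    r - 1 - (if p ∣ r then 1 else 0) ≤ n := by
  by_contra hlt
  push Not at hlt
  obtain ⟨e⟩ := h
  let k := AlgebraicClosure (ZMod p)
  letI : Algebra (ZMod p) F := ZMod.algebra F p
  haveI : Module.Finite (ZMod p) F := Module.Finite.of_finite
  haveI : Algebra.IsAlgebraic (ZMod p) F := Algebra.IsAlgebraic.of_finite (ZMod p) F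
  let ι : F →ₐ[ZMod p] k := IsAlgClosed.lift
  let ψ : H →* Module.End k (Fin n → k) :=
    (Matrix.toLinAlgEquiv' (R := k) (n := Fin n)).toRingEquiv.toMonoidHom.comp
      ((RingHom.mapMatrix ι.toRingHom).toMonoidHom.comp ((Units.coeHom _).comp H.subtype))
  have hψ : Function.Injective ψ := (Matrix.toLinAlgEquiv' (R := k) (n := Fin n)).injective.comp
    ((Matrix.map_injective ι.toRingHom.injective).comp (Units.val_injective.comp Subtype.val_injective))
  let ψ' := ψ.toHomUnits
  have hψ' : Function.Injective ψ' := fun x y hxy => hψ (congrArg Units.val hxy)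
  let eH := MonoidHom.ofInjective hψ'
  haveI : Finite ψ'.range := Finite.of_equiv _ eH.toEquiv
  let π : ψ'.range →* alternatingGroup (Fin r) :=
    e.toMonoidHom.comp ((QuotientGroup.mk' K).comp eH.symm.toMonoidHom)
  let ρ : ψ'.range →* Module.End k (Fin n → k) := (Units.coeHom _).comp ψ'.range.subtype
  have hρ : Function.Injective ρ := Units.val_injective.comp Subtype.val_injective
  refine CfsgLib.Classical.AltSection.noSection hr n k (Fin n → k) ψ'.range π ρ ?_ ?_
    (Module.finrank_fin_fun k) ?_
  · exact e.surjective.comp ((QuotientGroup.mk'_surjective K).comp eH.symm.surjective)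
  · intro g hg
    rw [show g = 1 from hρ (by rw [map_one]; exact MonoidHom.mem_ker.1 hg)]
    exact one_mem _
  · haveI : CharP k p := charP_of_injective_algebraMap (algebraMap (ZMod p) k).injective p
    refine ⟨?_, fun hr0 => ?_⟩
    all_goals rw [Module.finrank_fin_fun]
    · split_ifs at hlt <;> omega
    · rw [if_pos ((CharP.cast_eq_zero_iff k p r).1 hr0)] at hlt
      omega

end Cfsg.Agent.S2653
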