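import Cfsg.Statements.S2657
import Cfsg.Agent.Lib.Classical.AltSection.ChevSection

set_option autoImplicit false
open scoped MatrixGroups
open Cfsg
open CfsgLib.Chev CfsgLib.Chev.Cert CfsgLib.Chev.GTorus CfsgLib.Chev.SylowTorus CfsgLib.Classical.AltSection

namespace Cfsg.Agent.S2657

/-- Alternating sections of the groups of type F₄. Let `F` be a finite field of characteristic `p` and let `G` be the Chevalley group of type F₄ over `F`. If some subgroup of `G` has a quotient isomorphic to the alternating group of degree `r`, then `r` is at most 10, or 11 in characteristic 11. (Only an upper bound is asserted.) -/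
theorem result {F : Type*} [Field F] [Fintype F] (p : ℕ) [Fact p.Prime] [CharP F p]
    (r : ℕ) (H : Subgroup ↥(Cfsg.Lie.chevF4.group F)) (K : Subgroup ↥H) [K.Normal]
    (h : Nonempty (↥H ⧸ K ≃* ↥(alternatingGroup (Fin r)))) :
    r ≤ 10 + (if p = 11 then 1 else 0) := by
  by_contra hr
  obtain ⟨n, -, hn⟩ := FiniteField.card F p
  have hp : p.Prime := Fact.out
  have hq : ∀ ℓ : ℕ, ℓ.Prime → ℓ ≠ p → ¬ ℓ ∣ Fintype.card F := fun ℓ hℓ hne hd =>
    hne ((Nat.prime_dvd_prime_iff_eq hℓ hp).1 (hℓ.dvd_of_dvd_pow (hn ▸ hd)))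
  have hchk := WeylEigen.checkF4
  rw [List.all_eq_true] at hchk
  by_cases h11 : p = 11
  · rw [if_pos h11] at hr
    obtain ⟨w, hw, hok, hd⟩ := ChevSection.exists_transversal_dvd certF4
      (Mi := matOf tabF4.l [[2, 3, 2, 1], [3, 6, 4, 2], [4, 8, 6, 3], [2, 4, 3, 2]])
      (by decide +kernel) chkLevelsF4 [2, 6, 8, 12] 24 rfl (fun L _ _ => orderOK_F4) H K h
      (k := 12) (by omega)
      ![([0, 1, 2, 3, 4, 5, 6] : List (Fin 12)).formPerm, ([7, 8, 9, 10, 11] : List (Fin 12)).formPerm]
      ![7, 5] ![3, 2]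
      (([1, 3, 2, 6, 4, 5] : List (Fin 12)).formPerm * ([8, 9, 11, 10] : List (Fin 12)).formPerm) 12
      (by decide +kernel) (by decide +kernel) (by intro i; fin_cases i <;> norm_num)
      (by decide +kernel) (by decide +kernel) (by decide +kernel) (by decide +kernel)
      (by decide +kernel) (by decide +kernel) (by decide +kernel)
      (fun i => by fin_cases i <;> exact hq _ (by norm_num) (by subst h11; norm_num))
      (by decide +kernel)
    have := hchk w hw
    have h7 := hd 0
    have h5 := hd 1
    rw [WeylEigen.charF4_eq hok] at h7 h5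
    simp only [Matrix.cons_val_zero, Matrix.cons_val_one, Nat.cast_ofNat] at h7 h5
    simp [h7, h5] at this
  · rw [if_neg h11] at hr
    obtain ⟨w, hw, hok, hd⟩ := ChevSection.exists_transversal_dvd certF4
      (Mi := matOf tabF4.l [[2, 3, 2, 1], [3, 6, 4, 2], [4, 8, 6, 3], [2, 4, 3, 2]])
      (by decide +kernel) chkLevelsF4 [2, 6, 8, 12] 24 rfl (fun L _ _ => orderOK_F4) H K h
      (k := 11) (by omega)
      (fun _ : Fin 1 => ([0, 1, 2, 3, 4, 5, 6, 7, 8, 9, 10] : List (Fin 11)).formPerm)
      (fun _ => 11) (fun _ => 3)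
      (([1, 3, 9, 5, 4] : List (Fin 11)).formPerm * ([2, 6, 7, 10, 8] : List (Fin 11)).formPerm) 5
      (by decide +kernel) (by decide +kernel) (fun _ => by norm_num)
      (fun i j _ => Subsingleton.elim i j) (by decide +kernel) (by decide +kernel) (by decide +kernel)
      (by decide +kernel) (by decide +kernel) (fun _ => by norm_num)
      (fun _ => hq _ (by norm_num) (Ne.symm h11))
      (by decide +kernel)
    have := hchk w hw
    have h11' := hd 0
    rw [WeylEigen.charF4_eq hok] at h11'
    simp only [Nat.cast_ofNat] at h11'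
    simp [h11'] at this

end Cfsg.Agent.S2657
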