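import Cfsg.Statements.S2658
import Cfsg.Agent.Lib.Classical.AltSection.ChevSection
import Cfsg.Agent.Lib.Classical.AltSection.G2Eight

set_option autoImplicit false
open scoped MatrixGroups
open Cfsg
open CfsgLib.Chev CfsgLib.Chev.Cert CfsgLib.Chev.GTorus CfsgLib.Chev.SylowTorus CfsgLib.Classical.AltSection

namespace Cfsg.Agent.S2658

/-- Alternating sections of the groups of type G₂. Let `F` be a finite field of characteristic `p` and let `G` be the Chevalley group of type G₂ over `F`. If some subgroup of `G` has a quotient isomorphic to the alternating group of degree `r`, then `r` is at most 6, or 7 in characteristic 5. (Only an upper bound is asserted.) -/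
theorem result {F : Type*} [Field F] [Fintype F] (p : ℕ) [Fact p.Prime] [CharP F p]
    (r : ℕ) (H : Subgroup ↥(Cfsg.Lie.chevG2.group F)) (K : Subgroup ↥H) [K.Normal]
    (h : Nonempty (↥H ⧸ K ≃* ↥(alternatingGroup (Fin r)))) :
    r ≤ 6 + (if p = 5 then 1 else 0) := by
  by_contra hr
  obtain ⟨n, -, hn⟩ := FiniteField.card F p
  have hp : p.Prime := Fact.out
  by_cases h5 : p = 5
  · rw [if_pos h5] at hr
    subst h5
    obtain ⟨φ⟩ := h
    obtain ⟨f, hf⟩ := ChevSection.exists_embedding (k := 8) (r := r) (by omega)
    let π : ↥H →* ↥(alternatingGroup (Fin r)) := φ.toMonoidHom.comp (QuotientGroup.mk' K)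
    have hπ : Function.Surjective π := φ.surjective.comp (QuotientGroup.mk'_surjective K)
    let σ : ↥(f.range.comap π) →* ↥(alternatingGroup (Fin 8)) :=
      (MonoidHom.ofInjective hf).symm.toMonoidHom.comp (π.subgroupComap f.range)
    have hσ : Function.Surjective σ :=
      (MonoidHom.ofInjective hf).symm.surjective.comp fun v => by
        obtain ⟨u, hu⟩ := hπ v.1
        exact ⟨⟨u, by rw [Subgroup.mem_comap, hu]; exact v.2⟩, Subtype.ext hu⟩
    refine G2Eight.no_section ?_ (H.subtype.comp (f.range.comap π).subtype)
      (Subtype.val_injective.comp Subtype.val_injective) σ hσ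
    rw [hn, Nat.pow_mod]
    norm_num
  · rw [if_neg h5] at hr
    have hq : ¬ 5 ∣ Fintype.card F := fun hd =>
      h5 ((Nat.prime_dvd_prime_iff_eq (by norm_num) hp).1
        ((show Nat.Prime 5 by norm_num).dvd_of_dvd_pow (hn ▸ hd))).symm
    obtain ⟨w, hw, hok, hd⟩ := ChevSection.exists_transversal_dvd certG2
      (Mi := matOf tabG2.l [[2, 1], [3, 2]])
      (by decide +kernel) chkLevelsG2 [2, 6] 6 rfl (fun L _ _ => orderOK_G2) H K h
      (k := 7) (by omega)
      (fun _ : Fin 1 => ([0, 1, 2, 3, 4] : List (Fin 7)).formPerm)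
      (fun _ => 5) (fun _ => 2)
      (([1, 2, 4, 3] : List (Fin 7)).formPerm * Equiv.swap 5 6) 4
      (by decide +kernel) (by decide +kernel) (fun _ => by norm_num)
      (fun i j _ => Subsingleton.elim i j) (by decide +kernel) (by decide +kernel) (by decide +kernel)
      (by decide +kernel) (by decide +kernel) (fun _ => by norm_num)
      (fun _ => hq) (by decide +kernel)
    have hchk := WeylEigen.checkG2
    rw [List.all_eq_true] at hchk
    have := hchk w hw
    have h5' := hd 0
    rw [WeylEigen.charG2_eq hok] at h5'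
    simp only [Nat.cast_ofNat] at h5'
    simp [h5'] at this

end Cfsg.Agent.S2658
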