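import Cfsg.Statements.S2660
import Cfsg.Agent.Lib.Classical.AltSection.ChevSection
import Cfsg.Agent.Lib.Classical.AltSection.TriEigen
import Cfsg.Agent.Lib.Classical.AltSection.TriEight

set_option autoImplicit false
open scoped MatrixGroups
open Cfsg
open CfsgLib.Chev CfsgLib.Classical.AltSection

namespace Cfsg.Agent.S2660

/-- Alternating sections of the triality-twisted groups ³D₄. Let `q = p^a` be a prime power and `K` a field with `q³` elements, and let `G` be the twisted group ³D₄(q) realised over `K`. If some subgroup of `G` has a quotient isomorphic to the alternating group of degree `r`, then `r` is at most 6, or 7 in characteristic 5. (Only an upper bound is asserted.) -/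
theorem result {K : Type*} [Field K] [Fintype K] (p a : ℕ) [Fact p.Prime] [CharP K p]
    (ha : 1 ≤ a) (hK : Fintype.card K = (p ^ a) ^ 3) (r : ℕ) (H : Subgroup ↥(Cfsg.Lie.twistedD4 K (p ^ a))) (N : Subgroup ↥H) [N.Normal]
    (h : Nonempty (↥H ⧸ N ≃* ↥(alternatingGroup (Fin r)))) :
    r ≤ 6 + (if p = 5 then 1 else 0) := by
  by_contra hr
  have hp : p.Prime := Fact.out
  obtain ⟨φ⟩ := h
  let π : ↥H →* ↥(alternatingGroup (Fin r)) := φ.toMonoidHom.comp (QuotientGroup.mk' N)
  have hπ : Function.Surjective π := φ.surjective.comp (QuotientGroup.mk'_surjective N)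
  have hq : IsPrimePow (p ^ a) := ⟨p, a, hp.prime, ha, rfl⟩
  by_cases h5 : p = 5
  · rw [if_pos h5] at hr
    subst h5
    obtain ⟨σ, hσ⟩ := exists_frob hq hK
    let F := RingHom.eqLocusField σ (RingHom.id K)
    let : Fintype ↥F := Fintype.ofFinite ↥F
    haveI : CharP ↥F 5 := (F.subtype).charP_iff_charP 5 |>.2 inferInstance
    have h5a : 5 ≤ 5 ^ a := Nat.le_self_pow (by omega) 5
    have hF : Fintype.card ↥F = 5 ^ a := by
      rw [← Nat.card_eq_fintype_card, ← card_pow_eq_self (F := K) (q := 5 ^ a) (by omega) (dvd_card_D4 hK)]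
      exact Nat.card_congr (Equiv.subtypeEquivRight fun t => by
        show σ t = t ↔ _
        rw [hσ])
    obtain ⟨f, hf⟩ := ChevSection.exists_embedding (k := 8) (r := r) (by omega)
    let τ : ↥(f.range.comap π) →* ↥(alternatingGroup (Fin 8)) :=
      (MonoidHom.ofInjective hf).symm.toMonoidHom.comp (π.subgroupComap f.range)
    have hτ : Function.Surjective τ :=
      (MonoidHom.ofInjective hf).symm.surjective.comp fun v => by
        obtain ⟨u, hu⟩ := hπ v.1
        exact ⟨⟨u, by rw [Subgroup.mem_comap, hu]; exact v.2⟩, Subtype.ext hu⟩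
    exact TriEight.no_section hq hF hK F.subtype (by rw [Nat.pow_mod]; norm_num)
      (H.subtype.comp (f.range.comap π).subtype) (Subtype.val_injective.comp Subtype.val_injective) τ hτ
  · rw [if_neg h5] at hr
    obtain ⟨f, hf⟩ := ChevSection.exists_embedding (k := 7) (r := r) (by omega)
    let x : ↥(alternatingGroup (Fin 7)) := ⟨([0, 1, 2, 3, 4] : List (Fin 7)).formPerm,
      Equiv.Perm.mem_alternatingGroup.2 (by decide +kernel)⟩
    let y : ↥(alternatingGroup (Fin 7)) := ⟨([1, 2, 4, 3] : List (Fin 7)).formPerm * Equiv.swap 5 6,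
      Equiv.Perm.mem_alternatingGroup.2 (by decide +kernel)⟩
    haveI := Fact.mk Nat.prime_five
    obtain ⟨xs', y', ho, -, hy'⟩ := Lift.exists_lift hπ (fun _ : Unit => f x) (fun _ => 5)
      (fun _ => Nat.prime_five) (fun _ _ _ => Subsingleton.elim _ _)
      (fun _ => by
        rw [orderOf_injective f hf]
        exact orderOf_eq_prime (by decide +kernel) (by decide +kernel))
      (fun _ _ => Commute.refl _) (f y) (fun _ => 2)
      (fun _ => by
        rw [← map_inv, ← map_mul, ← map_mul, ← map_pow]
        exact congrArg f (by decide +kernel))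
      (fun _ hd => by
        rw [orderOf_injective f hf] at hd
        have : (5 : ℕ) ∣ 4 := hd.trans (orderOf_dvd_of_pow_eq_one (by decide +kernel : y ^ 4 = 1))
        omega)
    refine TriEigen.not_fused hK ?_ (x := (xs' ()).1.1) (y := y'.1.1) (xs' ()).1.2 y'.1.2 ?_ ?_
    · exact fun hd => h5 ((Nat.prime_dvd_prime_iff_eq Nat.prime_five hp).1 (Nat.prime_five.dvd_of_dvd_pow hd)).symm
    · rw [Subgroup.orderOf_coe, Subgroup.orderOf_coe, ho]
    · exact congrArg (fun u : ↥H => u.1.1) (hy' ())

end Cfsg.Agent.S2660
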