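import Cfsg.Statements.S2661
import Cfsg.Agent.Lib.Classical.AltSection.ChevSection
import Cfsg.Agent.Lib.Classical.AltSection.ReeEigen

set_option autoImplicit false
open scoped MatrixGroups
open Cfsg
open CfsgLib.Chev CfsgLib.Classical.AltSection

namespace Cfsg.Agent.S2661

/-- Alternating sections of the large Ree groups ²F₄. Let `m ≥ 1`, let `K` be a field with `2^(2m+1)` elements and let `G` be the large Ree group ²F₄(2^(2m+1)) realised over `K`. If some subgroup of `G` has a quotient isomorphic to the alternating group of degree `r`, then `r ≤ 6`. (Only an upper bound is asserted.) -/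
theorem result {K : Type*} [Field K] [Fintype K] {m : ℕ} (hm : 1 ≤ m)
    (hK : Fintype.card K = 2 ^ (2 * m + 1)) (r : ℕ) (H : Subgroup ↥(Cfsg.Lie.twistedF4 K (2 ^ m))) (N : Subgroup ↥H) [N.Normal]
    (h : Nonempty (↥H ⧸ N ≃* ↥(alternatingGroup (Fin r)))) :
    r ≤ 6 := by
  by_contra hr
  haveI := charTwo_F4 hK
  obtain ⟨φ⟩ := h
  let π : ↥H →* ↥(alternatingGroup (Fin r)) := φ.toMonoidHom.comp (QuotientGroup.mk' N)
  have hπ : Function.Surjective π := φ.surjective.comp (QuotientGroup.mk'_surjective N)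
  obtain ⟨f, hf⟩ := ChevSection.exists_embedding (k := 7) (r := r) (by omega)
  let x : ↥(alternatingGroup (Fin 7)) := ⟨([0, 1, 2, 3, 4, 5, 6] : List (Fin 7)).formPerm,
    Equiv.Perm.mem_alternatingGroup.2 (by decide +kernel)⟩
  let y : ↥(alternatingGroup (Fin 7)) :=
    ⟨([1, 2, 4] : List (Fin 7)).formPerm * ([3, 6, 5] : List (Fin 7)).formPerm,
      Equiv.Perm.mem_alternatingGroup.2 (by decide +kernel)⟩
  haveI := Fact.mk (show Nat.Prime 7 by norm_num)
  obtain ⟨xs', y', ho, -, hy'⟩ := Lift.exists_lift hπ (fun _ : Unit => f x) (fun _ => 7)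
    (fun _ => by norm_num) (fun _ _ _ => Subsingleton.elim _ _)
    (fun _ => by
      rw [orderOf_injective f hf]
      exact orderOf_eq_prime (by decide +kernel) (by decide +kernel))
    (fun _ _ => Commute.refl _) (f y) (fun _ => 2)
    (fun _ => by
      rw [← map_inv, ← map_mul, ← map_mul, ← map_pow]
      exact congrArg f (by decide +kernel))
    (fun _ hd => by
      rw [orderOf_injective f hf] at hd
      have : (7 : ℕ) ∣ 3 := hd.trans (orderOf_dvd_of_pow_eq_one (by decide +kernel : y ^ 3 = 1))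
      omega)
  refine ReeEigen.not_fused hK (x := (xs' ()).1.1) (y := y'.1.1) (xs' ()).1.2 y'.1.2 ?_ ?_
  · rw [Subgroup.orderOf_coe, Subgroup.orderOf_coe, ho]
  · exact congrArg (fun u : ↥H => u.1.1) (hy' ())

end Cfsg.Agent.S2661
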