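import Mathlib
import Cfsg.Statements.S2665

set_option autoImplicit false
open scoped MatrixGroups
open Cfsg Polynomial

namespace Cfsg.Agent.S2665

section Semilinear

variable {K : Type*} [Field K] [IsAlgClosed K] (p : ℕ) [Fact p.Prime] [CharP K p]
  {f : ℕ} (hf : 1 ≤ f)

/-- The polynomials of the recursion. -/
noncomputable def Ps (q : ℕ) (a : ℕ → K) : ℕ → K[X]
  | 0 => C (a 0) * X ^ q
  | (i + 1) => (Ps q a i) ^ q + C (a (i + 1)) * X ^ q

theorem q_ge_two (hf : 1 ≤ f) : 2 ≤ p ^ f :=
  le_trans (Fact.out : p.Prime).two_le (Nat.le_self_pow (by omega) p)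

theorem q_cast_zero (hf : 1 ≤ f) : ((p ^ f : ℕ) : K) = 0 := by
  rw [Nat.cast_pow, CharP.cast_eq_zero K p, zero_pow (by omega)]

include hf in
theorem derivative_Ps (a : ℕ → K) (i : ℕ) : derivative (Ps (p ^ f) a i) = 0 := by
  have h0 := q_cast_zero (K := K) p hf
  cases i with
  | zero => simp [Ps, derivative_X_pow, h0]
  | succ i => simp [Ps, derivative_pow, h0]

include hf in
theorem eval_zero_Ps (a : ℕ → K) (i : ℕ) : (Ps (p ^ f) a i).eval 0 = 0 := by
  have hq : (0 : K) ^ (p ^ f) = 0 := zero_pow (by have := q_ge_two p hf; omega)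
  induction i with
  | zero => simp only [Ps, eval_mul, eval_pow, eval_X, eval_C, hq, mul_zero]
  | succ i ih => simp only [Ps, eval_add, eval_mul, eval_pow, eval_X, eval_C, ih, hq, mul_zero, add_zero]

include hf in
theorem two_le_natDegree_Ps (a : ℕ → K) (i : ℕ) (h : Ps (p ^ f) a i ≠ 0) :
    2 ≤ (Ps (p ^ f) a i).natDegree := by
  by_contra hlt
  apply h
  set P := Ps (p ^ f) a i
  have hdeg : P.natDegree ≤ 1 := by omega
  have heq := Polynomial.eq_X_add_C_of_natDegree_le_one hdeg
  have hd : derivative P = 0 := derivative_Ps p hf a i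
  have he : P.eval 0 = 0 := eval_zero_Ps p hf a i
  rw [heq] at hd he
  simp at hd he
  rw [heq, hd, he]
  simp

include hf in
theorem Ps_eq_zero (a : ℕ → K) (i : ℕ) (h : Ps (p ^ f) a i = 0) : ∀ j ≤ i, a j = 0 := by
  have hq := q_ge_two p hf
  induction i with
  | zero =>
    intro j hj
    obtain rfl : j = 0 := by omega
    simpa [Ps, X_ne_zero] using h
  | succ i ih =>
    have h' : (Ps (p ^ f) a i) ^ (p ^ f) = -(C (a (i + 1)) * X ^ (p ^ f)) := by
      simpa [Ps, add_eq_zero_iff_eq_neg] using h
    have hP : Ps (p ^ f) a i = 0 := by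
      by_contra hne
      have h2 := two_le_natDegree_Ps p hf a i hne
      have h3 := congrArg natDegree h'
      rw [natDegree_pow, natDegree_neg] at h3
      have h4 : (C (a (i + 1)) * X ^ (p ^ f)).natDegree ≤ p ^ f := natDegree_C_mul_X_pow_le _ _
      nlinarith
    intro j hj
    rcases Nat.lt_or_eq_of_le hj with hlt | rfl
    · exact ih hP j (by omega)
    · rw [hP, zero_pow (by omega), eq_comm, neg_eq_zero] at h'
      simpa [X_ne_zero] using h'

variable {V : Type*} [AddCommGroup V] [Module K V] (F : V →ₛₗ[iterateFrobenius K p f] V)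

theorem F_smul (c : K) (v : V) : F (c • v) = c ^ (p ^ f) • F v := by
  rw [LinearMap.map_smulₛₗ, iterateFrobenius_def]

include hf in
/-- An injective semilinear map of a nonzero space has a nonzero fixed vector. -/
theorem exists_fixed [FiniteDimensional K V] [Nontrivial V] (hF : Function.Injective F) :
    ∃ w : V, w ≠ 0 ∧ F w = w := by
  classical
  obtain ⟨v, hv⟩ := exists_ne (0 : V)
  let e : ℕ → V := fun i => (⇑F)^[i] v
  have he_succ : ∀ i, e (i + 1) = F (e i) := fun i => Function.iterate_succ_apply' F i v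
  have he0 : ∀ i, e i ≠ 0 := by
    intro i
    induction i with
    | zero => exact hv
    | succ i ih =>
      rw [he_succ]
      exact fun h => ih (hF (h.trans (map_zero F).symm))
  -- the first dependence
  have hex : ∃ m, ¬ LinearIndependent K (fun i : Fin m => e i) := by
    refine ⟨Module.finrank K V + 1, fun h => ?_⟩
    have := h.fintype_card_le_finrank
    simp at this
  obtain ⟨k, hk⟩ : ∃ k, Nat.find hex = k + 1 := by
    refine ⟨Nat.find hex - 1, ?_⟩
    have h0 : Nat.find hex ≠ 0 := by
      intro h
      apply Nat.find_spec hex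
      rw [h]
      exact linearIndependent_empty_type
    omega
  have hdep : ¬ LinearIndependent K (fun i : Fin (k + 1) => e i) := hk ▸ Nat.find_spec hex
  have hind : LinearIndependent K (fun i : Fin k => e i) :=
    not_not.mp (Nat.find_min hex (by omega))
  have hmem : e k ∈ Submodule.span K (Set.range fun i : Fin k => e i) := by
    by_contra h
    apply hdep
    rw [linearIndependent_fin_succ']
    exact ⟨hind, h⟩
  rw [Submodule.mem_span_range_iff_exists_fun] at hmem
  obtain ⟨c, hc⟩ := hmem
  have hk0 : k ≠ 0 := by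
    rintro rfl
    exact he0 0 (by simpa using hc.symm)
  obtain ⟨l, rfl⟩ : ∃ l, k = l + 1 := ⟨k - 1, by omega⟩
  let a : ℕ → K := fun i => if h : i < l + 1 then c ⟨i, h⟩ else 0
  have ha : ∑ i ∈ Finset.range (l + 1), a i • e i = e (l + 1) := by
    rw [← hc, Finset.sum_range]
    exact Finset.sum_congr rfl fun i _ => by simp only [a, dif_pos i.isLt]
  set P := Ps (p ^ f) a l with hP
  have hP0 : P ≠ 0 := by
    intro h
    apply he0 (l + 1)
    rw [← ha]
    refine Finset.sum_eq_zero fun i hi => ?_
    rw [Ps_eq_zero p hf a l h i (by simpa using hi), zero_smul]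
  have h2 : 2 ≤ P.natDegree := two_le_natDegree_Ps p hf a l hP0
  have hdegQ : (P - X).natDegree = P.natDegree :=
    natDegree_sub_eq_left_of_natDegree_lt (by simp; omega)
  have hsep : (P - X).Separable := by
    rw [separable_def, derivative_sub, derivative_Ps p hf a l, derivative_X, zero_sub]
    exact isCoprime_one_right.neg_right
  have hcard : Multiset.card (P - X).roots = (P - X).natDegree :=
    IsAlgClosed.card_roots_eq_natDegree
  obtain ⟨y, hy, hy0⟩ : ∃ y ∈ (P - X).roots, y ≠ 0 := by
    by_contra hall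
    push Not at hall
    have hrep : (P - X).roots = Multiset.replicate (Multiset.card (P - X).roots) 0 :=
      Multiset.eq_replicate_card.mpr hall
    have hnd := nodup_roots hsep
    rw [hrep, Multiset.nodup_iff_count_le_one] at hnd
    have := hnd 0
    rw [Multiset.count_replicate_self, hcard, hdegQ] at this
    omega
  have hyev : P.eval y = y := by
    have := (mem_roots'.mp hy).2
    simpa [sub_eq_zero] using this
  let x : ℕ → K := fun i => (Ps (p ^ f) a i).eval y
  refine ⟨∑ i ∈ Finset.range (l + 1), x i • e i, ?_, ?_⟩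
  · intro h
    rw [Finset.sum_range] at h
    have := linearIndependent_iff'.mp hind Finset.univ (fun i : Fin (l + 1) => x i) h
      ⟨l, by omega⟩ (Finset.mem_univ _)
    exact hy0 (hyev.symm.trans this)
  · have hlast : x l = y := hyev
    calc F (∑ i ∈ Finset.range (l + 1), x i • e i)
        = ∑ i ∈ Finset.range (l + 1), x i ^ (p ^ f) • e (i + 1) := by
          rw [map_sum]
          exact Finset.sum_congr rfl fun i _ => by rw [F_smul, he_succ]
      _ = ∑ i ∈ Finset.range l, x i ^ (p ^ f) • e (i + 1) +
            ∑ i ∈ Finset.range (l + 1), (y ^ (p ^ f) * a i) • e i := by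
          rw [Finset.sum_range_succ, hlast, ← ha, Finset.smul_sum]
          simp [smul_smul]
      _ = ∑ i ∈ Finset.range (l + 1), x i • e i := by
          rw [Finset.sum_range_succ' (fun i => (y ^ (p ^ f) * a i) • e i),
            Finset.sum_range_succ' (fun i => x i • e i), ← add_assoc, ← Finset.sum_add_distrib]
          congr 1
          · refine Finset.sum_congr rfl fun i _ => ?_
            rw [← add_smul]
            congr 1
            simp [x, Ps]
            ring
          · congr 1
            simp [x, Ps]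
            ring

/-- The span of the fixed vectors. -/
def fixedSpan : Submodule K V := Submodule.span K {v | F v = v}

theorem fixedSpan_le_comap : fixedSpan p F ≤ (fixedSpan p F).comap F := by
  refine Submodule.span_le.mpr fun v hv => ?_
  change F v ∈ fixedSpan p F
  rw [(hv : F v = v)]
  exact Submodule.subset_span hv

theorem mem_fixedSpan_of_map (hF : Function.Injective F) {v : V}
    (hv : F v ∈ fixedSpan p F) : v ∈ fixedSpan p F := by
  have key : ∀ u ∈ fixedSpan p F, ∃ t ∈ fixedSpan p F, F t = u := by
    intro u hu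
    induction hu using Submodule.span_induction with
    | mem u hu => exact ⟨u, Submodule.subset_span hu, hu⟩
    | zero => exact ⟨0, zero_mem _, map_zero _⟩
    | add u w _ _ hu hw =>
      obtain ⟨t, ht, rfl⟩ := hu
      obtain ⟨s, hs, rfl⟩ := hw
      exact ⟨t + s, add_mem ht hs, map_add _ _ _⟩
    | smul c u _ hu =>
      obtain ⟨t, ht, rfl⟩ := hu
      have hq : 0 < p ^ f := pow_pos (Fact.out : p.Prime).pos f
      obtain ⟨d, rfl⟩ := IsAlgClosed.exists_pow_nat_eq c hq
      exact ⟨d • t, Submodule.smul_mem _ d ht, F_smul p F d t⟩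
  obtain ⟨t, ht, h⟩ := key _ hv
  exact hF h ▸ ht

include hf in
theorem exists_pow_sub (c : K) : ∃ t : K, t ^ (p ^ f) - t = c := by
  have hq := q_ge_two p hf
  have hlt : ((X : K[X]) + C c).degree < ((p ^ f : ℕ) : WithBot ℕ) := by
    rw [degree_X_add_C]; exact_mod_cast hq
  obtain ⟨t, ht⟩ := IsAlgClosed.exists_root (X ^ (p ^ f) - (X + C c)) (by
    rw [degree_sub_eq_left_of_degree_lt (by rwa [degree_X_pow]), degree_X_pow]
    exact_mod_cast (show p ^ f ≠ 0 by omega))
  exact ⟨t, by
    have h : t ^ (p ^ f) - (t + c) = 0 := by simpa [IsRoot] using ht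
    linear_combination h⟩

include hf in
theorem exists_shift {u : V} (hu : u ∈ fixedSpan p F) :
    ∃ t ∈ fixedSpan p F, F t - t = u := by
  suffices h : ∀ c : K, ∃ t ∈ fixedSpan p F, F t - t = c • u by
    obtain ⟨t, ht, h1⟩ := h 1
    exact ⟨t, ht, by rw [h1, one_smul]⟩
  induction hu using Submodule.span_induction with
  | zero => exact fun c => ⟨0, zero_mem _, by simp⟩
  | add u w _ _ hu hw =>
    intro c
    obtain ⟨t, ht, h1⟩ := hu c
    obtain ⟨s, hs, h2⟩ := hw c
    exact ⟨t + s, add_mem ht hs, by rw [smul_add, ← h1, ← h2, map_add]; abel⟩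
  | smul d u _ hu =>
    intro c
    rw [smul_smul]
    exact hu (c * d)
  | mem u hu =>
    intro c
    obtain ⟨t, ht⟩ := exists_pow_sub p hf c
    refine ⟨t • u, Submodule.smul_mem _ t (Submodule.subset_span hu), ?_⟩
    rw [F_smul, (hu : F u = u), ← sub_smul, ht]

include hf in
/-- An injective semilinear map has a spanning set of fixed vectors. -/
theorem fixedSpan_eq_top [FiniteDimensional K V] (hF : Function.Injective F) :
    fixedSpan p F = ⊤ := by
  by_contra hne
  set W := fixedSpan p F with hW
  haveI : Nontrivial (V ⧸ W) := Submodule.Quotient.nontrivial_iff.mpr hne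
  let Fb : (V ⧸ W) →ₛₗ[iterateFrobenius K p f] (V ⧸ W) :=
    W.mapQ W F (fixedSpan_le_comap p F)
  have hFb : Function.Injective Fb := by
    rw [← LinearMap.ker_eq_bot, eq_bot_iff]
    intro x hx
    obtain ⟨v, rfl⟩ := Submodule.mkQ_surjective W x
    have hv : F v ∈ W := (Submodule.Quotient.mk_eq_zero W).mp hx
    exact (Submodule.Quotient.mk_eq_zero W).mpr (mem_fixedSpan_of_map p F hF hv)
  obtain ⟨x, hx0, hx⟩ := exists_fixed p hf Fb hFb
  obtain ⟨w, rfl⟩ := Submodule.mkQ_surjective W x
  have hw : F w - w ∈ W := (Submodule.Quotient.eq W).mp hx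
  obtain ⟨t, ht, h⟩ := exists_shift p hf F (W.neg_mem hw)
  have hfix : w + t ∈ W := Submodule.subset_span (show F (w + t) = w + t by
    have h' : F t = t + -(F w - w) := by rw [← h]; abel
    rw [map_add, h']; abel)
  exact hx0 ((Submodule.Quotient.mk_eq_zero W).mpr ((W.add_mem_iff_left ht).mp hfix))

end Semilinear

theorem result {K : Type*} [Field K] [IsAlgClosed K] (p : ℕ) [Fact p.Prime] [CharP K p]
    (f : ℕ) (hf : 1 ≤ f) (n : ℕ) (g : GL (Fin n) K) :
    ∃ x : GL (Fin n) K, g = x * (Matrix.GeneralLinearGroup.map (iterateFrobenius K p f) x)⁻¹ := by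
  classical
  set σ : K →+* K := iterateFrobenius K p f with hσ
  let F : (Fin n → K) →ₛₗ[σ] (Fin n → K) :=
    { toFun := fun v => (g : Matrix (Fin n) (Fin n) K).mulVec (fun i => σ (v i))
      map_add' := fun u v => by
        rw [← Matrix.mulVec_add]; congr 1; funext i; simp
      map_smul' := fun c v => by
        rw [← Matrix.mulVec_smul]; congr 1; funext i; simp }
  have hF : Function.Injective F := by
    intro u v h
    have h' := Matrix.mulVec_injective_iff_isUnit.mpr g.isUnit h
    funext i
    exact σ.injective (congrFun h' i)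
  have hspan := fixedSpan_eq_top p hf F hF
  obtain ⟨s, hsub, hsp, hli⟩ := exists_linearIndependent K {v : Fin n → K | F v = v}
  have htop : Submodule.span K s = ⊤ := hsp.trans hspan
  let b : Module.Basis s K (Fin n → K) := Module.Basis.mk hli (by simp [htop])
  let eqv : s ≃ Fin n := b.indexEquiv (Pi.basisFun K (Fin n))
  let x0 : Matrix (Fin n) (Fin n) K := Matrix.of fun i j => (eqv.symm j : Fin n → K) i
  have hx : IsUnit x0 := by
    rw [← Matrix.linearIndependent_cols_iff_isUnit]
    exact hli.comp eqv.symm eqv.symm.injective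
  refine ⟨hx.unit, ?_⟩
  rw [eq_mul_inv_iff_mul_eq]
  apply Units.ext
  ext i j
  have hfix : F (eqv.symm j : Fin n → K) = (eqv.symm j : Fin n → K) := hsub (eqv.symm j).2
  exact congrFun hfix i

end Cfsg.Agent.S2665
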