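import Cfsg.Statements.S2694
import Cfsg.Agent.Lib.OrthAut.Standard

set_option autoImplicit false
open Cfsg

namespace Cfsg.Agent.S2694

/-- For m ≥ 3 and a finite field F of odd order, the automorphism group of the orthogonal group Ω_{2m+1}(F) (realised as PΩ of the form x₀² + Σ xᵢ yᵢ, whose centre is trivial) is generated by the automorphisms induced by the semisimilarities v ↦ g σ(v) of the form (the image of the projective semisimilarity group); there are no graph or graph-field automorphisms. -/
theorem result {F : Type*} [Field F] [Fintype F] (hodd : Odd (Fintype.card F)) {m : ℕ} (hm : 3 ≤ m) :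
    Cfsg.gammaPOmega F (Cfsg.quadFormOdd m F) = ⊤ := by
  have h2 : (2 : F) ≠ 0 := fun h => (Nat.not_even_iff_odd.2 hodd) <| Nat.even_iff.2 <|
    FiniteField.even_card_iff_char_two.1 <| by
      by_contra hc
      exact Ring.two_ne_zero hc h
  obtain ⟨Q, hQ, hB⟩ := CfsgLib.Orth.exists_quadForm_odd (F := F) h2 m
  rw [← hQ]
  exact CfsgLib.OrthAut.gamma_eq_top
    (CfsgLib.OrthAut.good_odd hm (by rwa [Nat.card_eq_fintype_card]) hB)

end Cfsg.Agent.S2694
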