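import Cfsg.Statements.S2738
import Cfsg.Agent.S0248
-- import your own Cfsg.Agent.* helpers here

set_option autoImplicit false
open Cfsg
open scoped commutatorElement

namespace Cfsg.Agent.S2738

/-- The special linear group SL(3, 4) has centre of order 3 and does not split over it: no subgroup is a complement to the centre (so SL(3, 4) is a non-split central extension of PSL(3, 4) by a group of order 3). -/
theorem result (F : Type*) [Field F] [Fintype F] (hF : Fintype.card F = 4) : Nat.card ↥(Subgroup.center (Matrix.SpecialLinearGroup (Fin 3) F)) = 3 ∧ ¬ ∃ K : Subgroup (Matrix.SpecialLinearGroup (Fin 3) F), Subgroup.IsComplement' (Subgroup.center (Matrix.SpecialLinearGroup (Fin 3) F)) K := by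
  classical
  have hperf : commutator (Matrix.SpecialLinearGroup (Fin 3) F) = ⊤ := Cfsg.Agent.S0248.result 3 le_rfl
  have hcard : Nat.card (Subgroup.center (Matrix.SpecialLinearGroup (Fin 3) F)) = 3 := by
    rw [Nat.card_congr (Matrix.SpecialLinearGroup.center_equiv_rootsOfUnity (n := Fin 3) (R := F)).toEquiv]
    have h3 : 3 ∣ Fintype.card Fˣ := by rw [Fintype.card_units, hF]
    obtain ⟨g, hg⟩ := IsCyclic.exists_generator (α := Fˣ)
    have ho : orderOf g = 3 := by
      rw [orderOf_eq_card_of_forall_mem_zpowers hg, Nat.card_units, Nat.card_eq_fintype_card, hF]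
    rw [Fintype.card_fin, max_eq_left (by norm_num : 1 ≤ 3),
      Nat.card_congr (Equiv.subtypeUnivEquiv (p := fun x : Fˣ => x ∈ rootsOfUnity 3 F) fun x => by
        rw [mem_rootsOfUnity, show 3 = Fintype.card Fˣ by rw [Fintype.card_units, hF]]
        exact pow_card_eq_one),
      Nat.card_units, Nat.card_eq_fintype_card, hF]
  refine ⟨hcard, ?_⟩
  rintro ⟨K, hK⟩
  have hle : commutator (Matrix.SpecialLinearGroup (Fin 3) F) ≤ K := by
    rw [commutator_def, Subgroup.commutator_le]
    intro x _ y _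
    obtain ⟨⟨a, k⟩, rfl⟩ := hK.2 x
    obtain ⟨⟨b, l⟩, rfl⟩ := hK.2 y
    have ha := Subgroup.mem_center_iff.1 a.2
    have hb := Subgroup.mem_center_iff.1 b.2
    have : ⁅(a : Matrix.SpecialLinearGroup (Fin 3) F) * k, (b : Matrix.SpecialLinearGroup (Fin 3) F) * l⁆ =
        ⁅(k : Matrix.SpecialLinearGroup (Fin 3) F), (l : Matrix.SpecialLinearGroup (Fin 3) F)⁆ := by
      have c1 : ∀ z, ⁅(a : Matrix.SpecialLinearGroup (Fin 3) F) * k, z⁆ = ⁅(k : Matrix.SpecialLinearGroup (Fin 3) F), z⁆ := fun z => by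
        rw [commutatorElement_def, commutatorElement_def, mul_inv_rev]
        calc (a : Matrix.SpecialLinearGroup (Fin 3) F) * k * z * ((k : Matrix.SpecialLinearGroup (Fin 3) F)⁻¹ * (a : Matrix.SpecialLinearGroup (Fin 3) F)⁻¹) * z⁻¹
            = (a : Matrix.SpecialLinearGroup (Fin 3) F) * (k * z * (k : Matrix.SpecialLinearGroup (Fin 3) F)⁻¹) * (a : Matrix.SpecialLinearGroup (Fin 3) F)⁻¹ * z⁻¹ := by group
          _ = _ := by rw [← ha]; group
      rw [c1, ← commutatorElement_inv, ← commutatorElement_inv (l : Matrix.SpecialLinearGroup (Fin 3) F), inv_inj]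
      rw [commutatorElement_def, commutatorElement_def, mul_inv_rev]
      calc (b : Matrix.SpecialLinearGroup (Fin 3) F) * l * k * ((l : Matrix.SpecialLinearGroup (Fin 3) F)⁻¹ * (b : Matrix.SpecialLinearGroup (Fin 3) F)⁻¹) * (k : Matrix.SpecialLinearGroup (Fin 3) F)⁻¹
          = (b : Matrix.SpecialLinearGroup (Fin 3) F) * (l * k * (l : Matrix.SpecialLinearGroup (Fin 3) F)⁻¹) * (b : Matrix.SpecialLinearGroup (Fin 3) F)⁻¹ * (k : Matrix.SpecialLinearGroup (Fin 3) F)⁻¹ := by group
        _ = _ := by rw [← hb]; group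
    rw [this]
    exact K.mul_mem (K.mul_mem (K.mul_mem k.2 l.2) (K.inv_mem k.2)) (K.inv_mem l.2)
  rw [hperf, top_le_iff] at hle
  have := hK.card_mul
  rw [hle, Subgroup.card_top, hcard] at this
  have := Nat.card_pos (α := Matrix.SpecialLinearGroup (Fin 3) F)
  omega


end Cfsg.Agent.S2738
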