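import Cfsg.Statements.S2751
import Cfsg.Agent.Lib.Amalgam.Goldschmidt.Graph
import Cfsg.Agent.Lib.Amalgam.Goldschmidt.Degenerate

set_option autoImplicit false
open Cfsg

namespace Cfsg.Agent.S2751

/-- Goldschmidt's bound for amalgams of index (3, 3): let M₁ and M₂ be finite subgroups of a group G such that M₁ ⊓ M₂ is a Sylow 2-subgroup of both M₁ and M₂, each quotient Mᵢ / O₂(Mᵢ) is isomorphic to the symmetric group of degree 3, and no nontrivial subgroup of M₁ ⊓ M₂ is normal in both M₁ and M₂. Then M₁ ⊓ M₂ has order at most 2^7. -/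
theorem result {G : Type*} [Group G] (M₁ M₂ : Subgroup G) [Finite M₁] [Finite M₂] (ha₁ : ∃ P : Sylow 2 M₁, (P : Subgroup M₁) = (M₁ ⊓ M₂).subgroupOf M₁) (ha₂ : ∃ P : Sylow 2 M₂, (P : Subgroup M₂) = (M₁ ⊓ M₂).subgroupOf M₂) (hb₁ : Nonempty (M₁ ⧸ Cfsg.pCore 2 M₁ ≃* Equiv.Perm (Fin 3))) (hb₂ : Nonempty (M₂ ⧸ Cfsg.pCore 2 M₂ ≃* Equiv.Perm (Fin 3))) (hc : ∀ N : Subgroup G, N ≤ M₁ ⊓ M₂ → (N.subgroupOf M₁).Normal → (N.subgroupOf M₂).Normal → N = ⊥) : Nat.card ↥(M₁ ⊓ M₂) ≤ 2 ^ 7 := by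
  have conj_normal : ∀ (M N : Subgroup G), (∀ g ∈ M, ∀ x ∈ N, g * x * g⁻¹ ∈ N) →
      (N.subgroupOf M).Normal := fun M N h => ⟨fun x hx g => h g g.2 x hx⟩
  have hc' : ∀ N : Subgroup G, N ≤ M₁ ⊓ M₂ → (∀ g ∈ M₁, ∀ x ∈ N, g * x * g⁻¹ ∈ N) →
      (∀ g ∈ M₂, ∀ x ∈ N, g * x * g⁻¹ ∈ N) → N = ⊥ := fun N hN h1 h2 =>
    hc N hN (conj_normal _ _ h1) (conj_normal _ _ h2)
  obtain ⟨L₁, c₁⟩ := CfsgLib.Goldschmidt.Local.of_sylow M₁ (M₁ ⊓ M₂) inf_le_left ha₁ hb₁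
  obtain ⟨L₂, c₂⟩ := CfsgLib.Goldschmidt.Local.of_sylow M₂ (M₁ ⊓ M₂) inf_le_right ha₂ hb₂
  exact CfsgLib.Goldschmidt.card_inter_le M₁ M₂ hb₁ hb₂ ha₁ ha₂ L₁ L₂ hc'

end Cfsg.Agent.S2751
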