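import Cfsg.Statements.S2752
import Cfsg.Agent.Lib.LocalK.Bound

set_option autoImplicit false
universe u
open Cfsg

namespace Cfsg.Agent.S2752

/-- Let M be an elementary abelian 2-subgroup of a finite group L and G a subgroup of L acting faithfully on M by conjugation (G normalizes M and meets C(M) trivially). Assume O₂(G) = 1, the symmetric group of degree 3 is not involved in G, and every non-abelian composition factor of G is a Suzuki group Sz(2^(2n+1)) or a group PSL₂(3^(2n+1)). Then every elementary abelian 2-subgroup A of G satisfies |M / C_M(A)| ≥ |A|² and |[M, A]| ≥ |A|². -/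
theorem result {L : Type u} [Group L] [Finite L] (M G : Subgroup L) (hM : Cfsg.IsElementaryAbelian 2 M) (hGM : G ≤ Subgroup.normalizer (M : Set L)) (hf : G ⊓ Subgroup.centralizer (M : Set L) = ⊥) (ha : Cfsg.pCore 2 ↥G = ⊥) (hb : ¬ Cfsg.Involves (Equiv.Perm (Fin 3)) ↥G) (hc : Cfsg.IsCompositionKGroupWith Cfsg.IsSuzukiOrPSL2OddPowerThree ↥G) (A : Subgroup L) (hA : A ≤ G) (hAe : Cfsg.IsElementaryAbelian 2 A) : Nat.card A ^ 2 * Nat.card ↥(M ⊓ Subgroup.centralizer (A : Set L)) ≤ Nat.card M ∧ Nat.card A ^ 2 ≤ Nat.card ↥⁅M, A⁆ := by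
  have he : ∀ w ∈ M, w * w = 1 := fun w hw => by rw [← pow_two]; exact hM.2 w hw
  have hae : ∀ a ∈ A, a * a = 1 := fun a ha => by rw [← pow_two]; exact hAe.2 a ha
  have hker : (MonoidHom.id G).ker = (Subgroup.centralizer (M : Set L)).subgroupOf G := by
    rw [MonoidHom.ker_id, eq_comm, Subgroup.subgroupOf_eq_bot, disjoint_iff, inf_comm, hf]
  obtain ⟨h1, h2⟩ := CfsgLib.LocalK.offender_bound he hGM (MonoidHom.id G) Function.surjective_id
    hker ⟨hb, hc⟩ ha A hA (fun a h => by rw [hae a h]; exact one_mem _)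
  have hcdA : CfsgLib.PushUp.cd A M = Nat.card A := by
    rw [CfsgLib.PushUp.cd, ← Subgroup.inf_relIndex_right,
      show Subgroup.centralizer (M : Set L) ⊓ A = ⊥ from
        le_bot_iff.mp (hf ▸ le_inf (inf_le_right.trans hA) inf_le_left),
      Subgroup.relIndex_bot_left]
  rw [hcdA] at h1 h2
  refine ⟨?_, h2⟩
  rw [inf_comm, ← CfsgLib.Coprime.relIndex_mul_card_inf (Subgroup.centralizer (A : Set L)) M]
  exact Nat.mul_le_mul_right _ h1

end Cfsg.Agent.S2752
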