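import Cfsg.Statements.S2756
import Cfsg.Agent.Lib.ZJ.RealTwo

set_option autoImplicit false
open Cfsg

namespace Cfsg.Agent.S2756

open CfsgLib

theorem hsub {G : Type*} [Group G] [Finite G] (H : Subgroup G)
    (hP : ∀ P : Sylow 2 G, (P : Subgroup G).Normal) (P : Sylow 2 H) : (P : Subgroup H).Normal := by
  obtain ⟨Q⟩ : Nonempty (Sylow 2 G) := inferInstance
  haveI := hP Q
  obtain ⟨R, hR⟩ := (P.2.map H.subtype).exists_le_sylow
  have hRQ : (R : Subgroup G) = Q := Q.3 R.2 (ZJ.normal_le_sylow Q.2 R)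
  have hle : (P : Subgroup H) ≤ (Q : Subgroup G).subgroupOf H := fun x hx =>
    hRQ.le (hR ⟨x, hx, rfl⟩)
  rw [← P.3 (Q.2.comap_of_injective H.subtype H.subtype_injective) hle]
  exact Subgroup.Normal.subgroupOf (hP Q) H


/-- For a finite group G the following are equivalent: (a) G has a normal Sylow 2-subgroup; (b) for every odd prime q dividing the order of G and every Sylow q-subgroup T, the normalizer of Z(J(T)) has a normal Sylow 2-subgroup; (c) for every odd prime q and every Sylow q-subgroup T, no nonidentity element of T is inverted by an element of the normalizer of Z(J(T)). Here J(T) is the Thompson subgroup generated by the abelian subgroups of T of largest order. Stated as the two equivalences (a) ⇔ (b) and (a) ⇔ (c). -/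
theorem result {G : Type*} [Group G] [Finite G] : ((∀ P : Sylow 2 G, (P : Subgroup G).Normal) ↔ ∀ (q : ℕ) [Fact q.Prime], q ≠ 2 → q ∣ Nat.card G → ∀ T : Sylow q G, ∀ P : Sylow 2 ↥(Subgroup.normalizer (Cfsg.centerThompsonAOf (T : Subgroup G) : Set G)), (P : Subgroup ↥(Subgroup.normalizer (Cfsg.centerThompsonAOf (T : Subgroup G) : Set G))).Normal) ∧ ((∀ P : Sylow 2 G, (P : Subgroup G).Normal) ↔ ∀ (q : ℕ) [Fact q.Prime], q ≠ 2 → ∀ T : Sylow q G, ∀ x ∈ (T : Subgroup G), x ≠ 1 → ∀ g ∈ Subgroup.normalizer (Cfsg.centerThompsonAOf (T : Subgroup G) : Set G), g * x * g⁻¹ ≠ x⁻¹) := by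
  have hmain : (∀ P : Sylow 2 G, (P : Subgroup G).Normal) ↔ ∀ (q : ℕ) [Fact q.Prime], q ≠ 2 →
      ∀ T : Sylow q G,
        ¬ ZJ.HasRealIn q (Subgroup.normalizer (Cfsg.centerThompsonAOf (T : Subgroup G) : Set G)) := by
    constructor
    · intro hP q _ hq2 T hr
      exact ZJ.not_hasRealIn_of_normal_sylow_two hq2 (fun P => by
        exact hsub ⊤ hP P) (hr.mono le_top)
    · intro h P
      refine ZJ.normal_sylow_two_of_no_real (fun q hq hq2 hr => ?_) P
      haveI : Fact q.Prime := ⟨hq⟩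
      obtain ⟨T⟩ : Nonempty (Sylow q G) := inferInstance
      refine h q hq2 T ?_
      rw [ZJ.centerThompsonAOf_eq]
      exact ZJ.hasRealIn_normalizer_zJ hq2 hr T
  refine ⟨⟨fun hP q _ _ _ T P => hsub _ hP P, fun h => hmain.mpr fun q _ hq2 T hr => ?_⟩,
    hmain.trans ⟨fun h q _ hq2 T x hx hx1 g hg hgx => ?_, fun h q _ hq2 T hr => ?_⟩⟩
  · have hq : q ∣ Nat.card G := by
      obtain ⟨x, -, g, -, hx1, ⟨k, hk⟩, -⟩ := hr
      obtain ⟨j, hj, hxo⟩ := (Nat.dvd_prime_pow (Fact.out : q.Prime)).mp (orderOf_dvd_of_pow_eq_one hk)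
      refine dvd_trans (dvd_pow_self q ?_) (hxo ▸ orderOf_dvd_natCard x)
      rintro rfl
      exact hx1 (orderOf_eq_one_iff.mp (by rw [hxo, pow_zero]))
    exact ZJ.not_hasRealIn_of_normal_sylow_two hq2 (h q hq2 hq T) hr
  · obtain ⟨k, hk⟩ := T.2 ⟨x, hx⟩
    refine h q hq2 T ⟨x, ?_, g, hg, hx1, ⟨k, congrArg Subtype.val hk⟩, hgx⟩
    rw [ZJ.centerThompsonAOf_eq]
    exact Subgroup.le_normalizer.trans (ZJ.normalizer_le_normalizer_zJ 0 _) hx
  · obtain ⟨x, hx, g, hg, hx1, hxp, hgx⟩ := hr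
    set N := Subgroup.normalizer (Cfsg.centerThompsonAOf (T : Subgroup G) : Set G)
    have hTN : (T : Subgroup G) ≤ N := by
      show (T : Subgroup G) ≤ Subgroup.normalizer (Cfsg.centerThompsonAOf (T : Subgroup G) : Set G)
      rw [ZJ.centerThompsonAOf_eq]
      exact Subgroup.le_normalizer.trans (ZJ.normalizer_le_normalizer_zJ 0 _)
    obtain ⟨S, hS⟩ := ((ZJ.isPGroup_zpowers_of_pow hxp).comap_of_injective N.subtype
      N.subtype_injective).exists_le_sylow
    obtain ⟨c, hc⟩ := MulAction.exists_smul_eq N S (T.subtype hTN)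
    have hxS : (⟨x, hx⟩ : N) ∈ (S : Subgroup N) := hS (Subgroup.mem_zpowers x)
    have h1 : c * ⟨x, hx⟩ * c⁻¹ ∈ ((c • S : Sylow q N) : Subgroup N) := by
      rw [Sylow.coe_subgroup_smul]
      exact ⟨⟨x, hx⟩, hxS, rfl⟩
    rw [hc] at h1
    have h2 : (c : G) * x * (c : G)⁻¹ ∈ (T : Subgroup G) := h1
    refine h q hq2 T _ h2 (fun e => hx1 ?_) ((c : G) * g * (c : G)⁻¹)
      (mul_mem (mul_mem c.2 hg) (inv_mem c.2)) ?_
    · calc x = (c : G)⁻¹ * ((c : G) * x * (c : G)⁻¹) * c := by group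
        _ = 1 := by rw [e]; group
    · calc (c : G) * g * (c : G)⁻¹ * ((c : G) * x * (c : G)⁻¹) * ((c : G) * g * (c : G)⁻¹)⁻¹
          = (c : G) * (g * x * g⁻¹) * (c : G)⁻¹ := by group
        _ = _ := by rw [hgx]; group

end Cfsg.Agent.S2756
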