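import Cfsg.Statements.S2759
import Cfsg.Agent.Lib.Offender.Involves
import Cfsg.Agent.Lib.Quadratic.Stable

set_option autoImplicit false
open Cfsg

open scoped commutatorElement
open CfsgLib

namespace Cfsg.Agent.S2759

/-- A 3-element and an inverting element on an elementary abelian 2-group. -/
theorem four_of_module {Q : Type*} [Group Q] [Finite Q] {M : Subgroup Q} [M.Normal]
    (hM : Cfsg.IsElementaryAbelian 2 M) {x t : Q} (ht : ∃ k, orderOf t = 2 ^ k)
    (hinv : t * x * t⁻¹ = x⁻¹) (hx3 : ∀ m ∈ M, x ^ 3 * m * (x ^ 3)⁻¹ = m)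
    (hne : ∃ m ∈ M, x * m * x⁻¹ ≠ m) : Cfsg.Involves (Equiv.Perm (Fin 4)) Q := by
  classical
  haveI : Fact (Nat.Prime 2) := ⟨Nat.prime_two⟩
  have hc : ∀ {g : Q} {m : Q}, m ∈ M → g * m * g⁻¹ ∈ M := fun hm => (inferInstance : M.Normal).conj_mem _ hm _
  have hcomm : ∀ a ∈ M, ∀ b ∈ M, a * b = b * a := fun a ha b hb =>
    congrArg Subtype.val (hM.1.1.comm ⟨a, ha⟩ ⟨b, hb⟩)
  have hsq : ∀ a ∈ M, a * a = 1 := fun a ha => by rw [← pow_two]; exact hM.2 a ha
  have hinv2 : ∀ a ∈ M, a⁻¹ = a := fun a ha => inv_eq_of_mul_eq_one_right (hsq a ha)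
  let f : M →* M := MonoidHom.mk' (fun m => ⟨(m : Q) * (x * m * x⁻¹), mul_mem m.2 (hc m.2)⟩)
    (fun a b => Subtype.ext (by
      show (a : Q) * b * (x * (a * b) * x⁻¹) = a * (x * a * x⁻¹) * (b * (x * b * x⁻¹))
      rw [mul_assoc (a : Q), mul_assoc (a : Q), ← mul_assoc (x * (a : Q) * x⁻¹),
        hcomm _ (hc a.2) _ b.2, mul_assoc (b : Q)]
      congr 2
      group))
  let M1 : Subgroup Q := f.range.map M.subtype
  have hM1 : ∀ y, y ∈ M1 ↔ ∃ m ∈ M, y = m * (x * m * x⁻¹) := fun y => by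
    simp only [M1, Subgroup.mem_map, MonoidHom.mem_range]
    constructor
    · rintro ⟨_, ⟨m, rfl⟩, rfl⟩; exact ⟨m, m.2, rfl⟩
    · rintro ⟨m, hm, rfl⟩; exact ⟨_, ⟨⟨m, hm⟩, rfl⟩, rfl⟩
  have hM1M : M1 ≤ M := Subgroup.map_subtype_le _
  have hrel : ∀ v ∈ M1, x * (x * v * x⁻¹) * x⁻¹ = v * (x * v * x⁻¹) := by
    intro v hv
    obtain ⟨m, hm, rfl⟩ := (hM1 v).mp hv
    have e : x * (x * (x * m * x⁻¹) * x⁻¹) * x⁻¹ = m := by
      have := hx3 m hm
      rw [pow_succ, pow_two] at this
      simpa [mul_assoc] using this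
    have e1 : ∀ a b : Q, x * (a * b) * x⁻¹ = (x * a * x⁻¹) * (x * b * x⁻¹) := fun a b => by group
    have hsq' : ∀ a ∈ M, ∀ b : Q, a * (a * b) = b := fun a ha b => by rw [← mul_assoc, hsq a ha, one_mul]
    rw [e1 m (x * m * x⁻¹), e1 (x * m * x⁻¹) (x * (x * m * x⁻¹) * x⁻¹), e]
    have h2 : x * (x * m * x⁻¹) * x⁻¹ ∈ M := hc (hc hm)
    have h1 : x * m * x⁻¹ ∈ M := hc hm
    generalize x * (x * m * x⁻¹) * x⁻¹ = a2 at h2 ⊢
    generalize x * m * x⁻¹ = a1 at h1 ⊢
    rw [hcomm _ h2 _ hm, mul_assoc m a1, hsq' a1 h1]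
  have htM1 : ∀ v ∈ M1, t * v * t⁻¹ ∈ M1 := by
    intro v hv
    obtain ⟨m, hm, rfl⟩ := (hM1 v).mp hv
    refine (hM1 _).mpr ⟨x⁻¹ * (t * m * t⁻¹) * x, by simpa using (hc (g := x⁻¹) (hc (g := t) hm)), ?_⟩
    have h1 : t * (m * (x * m * x⁻¹)) * t⁻¹ =
        (t * m * t⁻¹) * ((t * x * t⁻¹) * (t * m * t⁻¹) * (t * x * t⁻¹)⁻¹) := by group
    rw [h1, hinv, inv_inv]
    rw [show x * (x⁻¹ * (t * m * t⁻¹) * x) * x⁻¹ = t * m * t⁻¹ by group]
    exact hcomm _ (hc hm) _ (by simpa using (hc (g := x⁻¹) (hc (g := t) hm)))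
  have hM1ne : M1 ≠ ⊥ := by
    obtain ⟨m, hm, hne⟩ := hne
    intro hb
    have : m * (x * m * x⁻¹) ∈ M1 := (hM1 _).mpr ⟨m, hm, rfl⟩
    rw [hb, Subgroup.mem_bot] at this
    apply hne
    rw [eq_inv_of_mul_eq_one_right this, hinv2 m hm]
  have h2c : 2 ∣ Nat.card M1 := by
    haveI : Nontrivial M1 := (Subgroup.nontrivial_iff_ne_bot _).mpr hM1ne
    obtain ⟨⟨u, hu⟩, hu1⟩ := exists_ne (1 : M1)
    have : orderOf (⟨u, hu⟩ : M1) = 2 := orderOf_eq_prime (Subtype.ext (hM.2 u (hM1M hu))) hu1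
    exact this ▸ orderOf_dvd_natCard _
  have hZ : Subgroup.zpowers t ≤ Subgroup.normalizer (M1 : Set Q) := by
    refine Subgroup.zpowers_le.mpr ((Subgroup.mem_normalizer_iff_map_conj_eq).mpr ?_)
    refine Subgroup.eq_of_le_of_card_ge ?_ ?_
    · rintro _ ⟨w, hw, rfl⟩
      exact htM1 _ hw
    · exact le_of_eq (Subgroup.card_map_of_injective (MulAut.conj t).injective).symm
  let act : Subgroup.zpowers t →* MulAut M1 := M1.normalizerMonoidHom.comp (Subgroup.inclusion hZ)
  letI : MulAction (Subgroup.zpowers t) M1 := MulAction.compHom M1 act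
  have hP : IsPGroup 2 (Subgroup.zpowers t) := by
    obtain ⟨k, hk⟩ := ht
    exact IsPGroup.of_card (by rw [Nat.card_zpowers]; exact hk)
  obtain ⟨⟨v, hv⟩, hvfix, hv1⟩ := hP.exists_fixed_point_of_prime_dvd_card_of_fixed_point M1 h2c
    (a := 1) (fun g => map_one (act g))
  have hv1 : v ≠ 1 := fun h => hv1 (Subtype.ext h.symm)
  have htv : t * v * t⁻¹ = v := congrArg Subtype.val (hvfix ⟨t, Subgroup.mem_zpowers t⟩)
  have hvM := hM1M hv
  have hr := hrel v hv
  set w := x * v * x⁻¹ with hw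
  have hwM : w ∈ M := hc hvM
  have hvw : w ≠ v := fun h => hv1 (by
    rw [h, ← hw, h, hsq v hvM] at hr; exact hr)
  let V : Subgroup Q :=
    { carrier := {1, v, w, v * w}
      one_mem' := by simp
      mul_mem' := by
        have a1 := hsq v hvM; have a2 := hsq w hwM; have a3 := hcomm w hwM v hvM
        have a4 : v * (v * w) = w := by rw [← mul_assoc, a1, one_mul]
        have a5 : w * (v * w) = v := by rw [← mul_assoc, a3, mul_assoc, a2, mul_one]
        have a6 : v * w * v = w := by rw [mul_assoc, a3, a4]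
        have a7 : v * w * w = v := by rw [mul_assoc, a2, mul_one]
        have a8 : v * w * (v * w) = 1 := by rw [← mul_assoc, a6, a2]
        rintro a b (rfl | rfl | rfl | rfl) (rfl | rfl | rfl | rfl) <;>
          simp [a1, a2, a3, a4, a5, a6, a7, a8]
      inv_mem' := by
        rintro a (rfl | rfl | rfl | rfl)
        · simp
        · simp [hinv2 a hvM]
        · simp [hinv2 w hwM]
        · simp [hinv2 _ (mul_mem hvM hwM), mul_inv_rev, hinv2 v hvM, hinv2 w hwM, hcomm w hwM v hvM] }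
  have hV4 : Nat.card V = 4 := by
    have hw1 : w ≠ 1 := fun h => hv1 (by rw [hw] at h; simpa using h)
    have : Set.ncard ({1, v, w, v * w} : Set Q) = 4 := by
      rw [Set.ncard_insert_of_notMem, Set.ncard_insert_of_notMem, Set.ncard_pair]
      · intro h; exact hv1 (mul_eq_right.mp h.symm)
      · simp only [Set.mem_insert_iff, Set.mem_singleton_iff, not_or]
        exact ⟨hvw.symm, fun h => hw1 (mul_eq_left.mp h.symm)⟩
      · simp only [Set.mem_insert_iff, Set.mem_singleton_iff, not_or]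
        refine ⟨hv1.symm, hw1.symm, fun h => hvw ?_⟩
        rw [eq_inv_of_mul_eq_one_right h.symm, hinv2 v hvM]
    exact (Nat.card_coe_set_eq _).trans this
  have hmemN : ∀ g : Q, g * v * g⁻¹ ∈ V → g * w * g⁻¹ ∈ V → g ∈ Subgroup.normalizer (V : Set Q) := by
    intro g h1 h2
    refine (Subgroup.mem_normalizer_iff_map_conj_eq).mpr (Subgroup.eq_of_le_of_card_ge ?_ ?_)
    · rintro _ ⟨u, (rfl | rfl | rfl | rfl), rfl⟩
      · simp
      · exact h1
      · exact h2
      · show g * (v * w) * g⁻¹ ∈ V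
        rw [show g * (v * w) * g⁻¹ = (g * v * g⁻¹) * (g * w * g⁻¹) by group]
        exact mul_mem h1 h2
    · rw [Subgroup.card_map_of_injective (MulEquiv.injective _)]
  have hxN : x ∈ Subgroup.normalizer (V : Set Q) := hmemN x (by right; right; left; rfl)
    (by right; right; right; exact hr)
  have htw : t * w * t⁻¹ = v * w := by
    have h1 : t * w * t⁻¹ = (t * x * t⁻¹) * (t * v * t⁻¹) * (t * x * t⁻¹)⁻¹ := by rw [hw]; group
    rw [h1, hinv, htv, inv_inv]
    have e : x * (v * w) * x⁻¹ = v := by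
      rw [show x * (v * w) * x⁻¹ = (x * v * x⁻¹) * (x * w * x⁻¹) by group, ← hw, hr,
        hcomm v hvM w hwM, ← mul_assoc, hsq w hwM, one_mul]
    calc x⁻¹ * v * x = x⁻¹ * (x * (v * w) * x⁻¹) * x := by rw [e]
      _ = v * w := by group
  have htN : t ∈ Subgroup.normalizer (V : Set Q) := hmemN t (by right; left; exact htv)
    (by right; right; right; exact htw)
  refine Offender.involves_perm_four hV4 htN hxN (fun u _ => by rw [hinv, inv_inv])
    ⟨v, (by right; left; rfl), hvw⟩ ⟨3, by decide, fun u hu => hx3 u ?_⟩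
  rcases hu with rfl | rfl | rfl | rfl
  exacts [one_mem _, hvM, hwM, mul_mem hvM hwM]

/-- A section map onto `S₃` contains a 3-element inverted by a 2-element. -/
theorem exists_inverted {K : Type*} [Group K] [Finite K] (φ : K →* Equiv.Perm (Fin 3))
    (hφ : Function.Surjective φ) : ∃ x t : K, (∃ k, orderOf x = 3 ^ k) ∧ (∃ k, orderOf t = 2 ^ k) ∧
      t * x * t⁻¹ = x⁻¹ ∧ φ x ≠ 1 := by
  classical
  haveI : Fact (Nat.Prime 2) := ⟨Nat.prime_two⟩
  haveI : Fact (Nat.Prime 3) := ⟨Nat.prime_three⟩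
  let c : Equiv.Perm (Fin 3) := finRotate 3
  let s : Equiv.Perm (Fin 3) := Equiv.swap 0 1
  let Z := Subgroup.zpowers c
  have hZ3 : Nat.card Z = 3 := by
    rw [Nat.card_zpowers]; exact orderOf_eq_prime (by decide) (by decide)
  haveI : Z.Normal := Subgroup.normal_of_index_eq_two (by
    have := Z.card_mul_index
    rw [hZ3, Nat.card_eq_fintype_card (α := Equiv.Perm (Fin 3)), Fintype.card_perm,
      Fintype.card_fin] at this
    simp [Nat.factorial] at this
    omega)
  let A := Z.comap φ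
  haveI : A.Normal := (inferInstance : Z.Normal).comap φ
  let g : A →* Z := φ.subgroupComap Z
  have hg : Function.Surjective g := φ.subgroupComap_surjective_of_surjective Z hφ
  let P : Sylow 3 A := default
  set P' := (P : Subgroup A).map A.subtype with hP'
  have hPmap : P'.map φ = Z := by
    have h1 : (P : Subgroup A).map g = ⊤ := by
      have h2 := (P.mapSurjective hg).card_eq_multiplicity
      rw [hZ3, Nat.Prime.factorization_self Nat.prime_three, pow_one, Sylow.coe_mapSurjective] at h2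
      exact Subgroup.eq_top_of_card_eq _ (h2.trans hZ3.symm)
    rw [hP', Subgroup.map_map, show φ.comp A.subtype = Z.subtype.comp g from rfl,
      ← Subgroup.map_map, h1, ← MonoidHom.range_eq_map, Subgroup.range_subtype]
  set N := Subgroup.normalizer (P' : Set K) with hN
  have hfr : N ⊔ A = ⊤ := Sylow.normalizer_sup_eq_top P
  obtain ⟨n, hnN, hns⟩ : s ∈ N.map φ := by
    have h1 : s ∈ (N ⊔ A).map φ := by
      rw [hfr, Subgroup.map_top_of_surjective _ hφ]; trivial
    have h2 : A.map φ ≤ N.map φ := (Subgroup.map_comap_le _ Z).trans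
      (hPmap ▸ Subgroup.map_mono Subgroup.le_normalizer)
    rwa [Subgroup.map_sup, sup_eq_left.mpr h2] at h1
  obtain ⟨e, m, hm, hem⟩ := Nat.exists_eq_two_pow_mul_odd (orderOf_pos n).ne'
  let t := n ^ m
  have hto : orderOf t = 2 ^ e := by
    rw [orderOf_pow' _ hm.pos.ne', hem, Nat.gcd_eq_right (dvd_mul_left _ _),
      Nat.mul_div_cancel _ hm.pos]
  have hts : φ t = s := by
    rw [map_pow, hns]
    obtain ⟨k, rfl⟩ := hm
    rw [pow_succ, pow_mul, pow_two, Equiv.swap_mul_self, one_pow, one_mul]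
  have htN : t ∈ N := pow_mem hnN m
  obtain ⟨k, hkP, hkc⟩ : c ∈ P'.map φ := hPmap ▸ Subgroup.mem_zpowers c
  let T2 := Subgroup.zpowers (t ^ 2)
  have hT2 : T2 ≤ φ.ker := Subgroup.zpowers_le.mpr (MonoidHom.mem_ker.mpr (by
    rw [map_pow, hts, pow_two, Equiv.swap_mul_self]))
  have hT2N : T2 ≤ N := Subgroup.zpowers_le.mpr (pow_mem htN 2)
  have hcop : (Nat.card T2).Coprime (Nat.card P') := by
    obtain ⟨a, ha⟩ := IsPGroup.iff_card.mp (P.2.map A.subtype : IsPGroup 3 P')
    rw [ha, Nat.card_zpowers]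
    refine (Nat.Coprime.coprime_dvd_left ((orderOf_pow_dvd 2).trans hto.dvd) ?_)
    exact Nat.Coprime.pow _ _ (by norm_num)
  obtain ⟨c0, hc0, hc0N⟩ := Coprime.exists_centralizer_mem_coset hT2N hcop
    (Or.inl (Group.isSolvable_of_comm fun u v => mul_comm' u v))
    (inf_le_left : P' ⊓ φ.ker ≤ P')
    (Coprime.le_normalizer_inf_of_le hT2N Subgroup.le_normalizer_of_normal) hkP
    (fun a ha => Subgroup.mem_inf.mpr ⟨mul_mem (inv_mem hkP)
      ((Subgroup.mem_normalizer_iff.mp (hT2N ha) k).mp hkP), MonoidHom.mem_ker.mpr (by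
        simp [MonoidHom.mem_ker.mp (hT2 ha)])⟩)
  obtain ⟨hc0P, hc0c⟩ := Subgroup.mem_inf.mp hc0
  have hφc0 : φ c0 = c := by
    have := MonoidHom.mem_ker.mp (Subgroup.mem_inf.mp hc0N).2
    rw [map_mul, map_inv, hkc, inv_mul_eq_one] at this
    exact this.symm
  refine ⟨c0⁻¹ * (t * c0 * t⁻¹), t, ?_, ⟨e, hto⟩, ?_, ?_⟩
  · have hx : c0⁻¹ * (t * c0 * t⁻¹) ∈ P' :=
      mul_mem (inv_mem hc0P) ((Subgroup.mem_normalizer_iff.mp htN c0).mp hc0P)
    obtain ⟨a, ha⟩ := (IsPGroup.iff_orderOf.mp (P.2.map A.subtype : IsPGroup 3 P')) ⟨_, hx⟩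
    exact ⟨a, by rwa [← Subgroup.orderOf_coe] at ha⟩
  · have h2 : t ^ 2 * c0 = c0 * t ^ 2 := hc0c _ (Subgroup.mem_zpowers _)
    calc t * (c0⁻¹ * (t * c0 * t⁻¹)) * t⁻¹ = (t * c0⁻¹ * t⁻¹) * ((t ^ 2 * c0) * (t ^ 2)⁻¹) := by group
      _ = (t * c0⁻¹ * t⁻¹) * c0 := by rw [h2, mul_inv_cancel_right]
      _ = _ := by group
  · simp only [map_mul, map_inv, hφc0, hts]
    decide

abbrev X3 : Type := {d : Equiv.Perm (Fin 4) // d * d = 1 ∧ ∀ i, d i ≠ i}

/-- The action of `S₄` on its three double transpositions. -/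
def conj3 : Equiv.Perm (Fin 4) →* Equiv.Perm X3 :=
  MonoidHom.mk' (fun g =>
    { toFun := fun d => ⟨g * d.1 * g⁻¹, by
        constructor
        · rw [show g * d.1 * g⁻¹ * (g * d.1 * g⁻¹) = g * (d.1 * d.1) * g⁻¹ by group, d.2.1]; group
        · intro i h
          exact d.2.2 (g⁻¹ i) (g.injective (by simpa using h))⟩
      invFun := fun d => ⟨g⁻¹ * d.1 * g, by
        constructor
        · rw [show g⁻¹ * d.1 * g * (g⁻¹ * d.1 * g) = g⁻¹ * (d.1 * d.1) * g by group, d.2.1]; group
        · intro i h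
          exact d.2.2 (g i) (g⁻¹.injective (by simpa using h))⟩
      left_inv := fun d => Subtype.ext (by group)
      right_inv := fun d => Subtype.ext (by group) })
    fun a b => Equiv.ext fun d => Subtype.ext (by simp [mul_assoc])

theorem card_X3 : Fintype.card X3 = 3 := by decide +kernel

theorem conj3_surjective : Function.Surjective conj3 := by decide +kernel

theorem conj3_eq_one {g : Equiv.Perm (Fin 4)} (h : ∀ d : X3, g * d.1 = d.1 * g) : conj3 g = 1 :=
  Equiv.ext fun d => Subtype.ext (by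
    show g * d.1 * g⁻¹ = d.1
    rw [h, mul_inv_cancel_right])

theorem X3_mem_ker : ∀ d : X3, conj3 d.1 = 1 := by decide +kernel

theorem isPGroup_ker : IsPGroup 2 conj3.ker := by
  refine IsPGroup.of_card (n := 2) ?_
  have h := conj3.ker.card_mul_index
  rw [Subgroup.index_ker, MonoidHom.range_eq_top.mpr conj3_surjective, Subgroup.card_top,
    Nat.card_eq_fintype_card (α := Equiv.Perm (Fin 4)), Nat.card_eq_fintype_card (α := Equiv.Perm X3),
    Fintype.card_perm, Fintype.card_perm, card_X3, Fintype.card_fin] at h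
  simp [Nat.factorial] at h
  norm_num
  omega


/-- For a finite group G, the symmetric group of degree 4 is involved in G if and only if there is a 2-subgroup T of G such that the symmetric group of degree 3 is involved in N(T)/C(T). -/
theorem result {G : Type*} [Group G] [Finite G] : Cfsg.Involves (Equiv.Perm (Fin 4)) G ↔ ∃ T : Subgroup G, IsPGroup 2 ↥T ∧ Cfsg.Involves (Equiv.Perm (Fin 3)) (↥(Subgroup.normalizer (T : Set G)) ⧸ (Subgroup.centralizer (T : Set G)).subgroupOf (Subgroup.normalizer (T : Set G))) := by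
  classical
  haveI : Fact (Nat.Prime 2) := ⟨Nat.prime_two⟩
  constructor
  · intro h
    obtain ⟨K, ψ, hψ⟩ := Offender.exists_hom_of_involves h
    let T0 : Subgroup K := conj3.ker.comap ψ
    haveI : T0.Normal := (inferInstance : conj3.ker.Normal).comap ψ
    let g : T0 →* conj3.ker := ψ.subgroupComap conj3.ker
    have hg : Function.Surjective g := ψ.subgroupComap_surjective_of_surjective _ hψ
    let P : Sylow 2 T0 := default
    set P' := (P : Subgroup T0).map T0.subtype with hP'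
    have hPmap : P'.map ψ = conj3.ker := by
      have h1 : (P : Subgroup T0).map g = ⊤ := by
        rw [← Sylow.coe_mapSurjective (f := g) hg]
        exact ((P.mapSurjective hg).is_maximal' (isPGroup_ker.to_subgroup ⊤) le_top).symm
      rw [hP', Subgroup.map_map, show ψ.comp T0.subtype = conj3.ker.subtype.comp g from rfl,
        ← Subgroup.map_map, h1, ← MonoidHom.range_eq_map, Subgroup.range_subtype]
    set T := P'.map K.subtype with hT
    refine ⟨T, (P.2.map _).map _, ?_⟩
    set N := Subgroup.normalizer (P' : Set K) with hN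
    have hsurjN : ∀ σ, ∃ n ∈ N, conj3 (ψ n) = σ := by
      intro σ
      obtain ⟨q, rfl⟩ := conj3_surjective σ
      obtain ⟨k, rfl⟩ := hψ q
      have hk : k ∈ N ⊔ T0 := by
        have : N ⊔ T0 = ⊤ := Sylow.normalizer_sup_eq_top P
        rw [this]; trivial
      obtain ⟨n, hn, a, ha, rfl⟩ := Subgroup.mem_sup_of_normal_right.mp hk
      exact ⟨n, hn, by rw [map_mul, map_mul, show conj3 (ψ a) = 1 from ha, mul_one]⟩
    set L := Subgroup.normalizer (T : Set G) with hL
    have hNL : N.map K.subtype ≤ L := Subgroup.le_normalizer_map K.subtype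
    let q := QuotientGroup.mk' ((Subgroup.centralizer (T : Set G)).subgroupOf L)
    let i : N →* L := (Subgroup.inclusion hNL).comp (K.subtype.subgroupMap N)
    let j := (q.comp i).rangeRestrict
    let χ : N →* Equiv.Perm X3 := conj3.comp (ψ.comp N.subtype)
    have hker : j.ker ≤ χ.ker := by
      intro n hn
      rw [MonoidHom.ker_rangeRestrict, MonoidHom.mem_ker] at hn
      have hc : ((n : K) : G) ∈ Subgroup.centralizer (T : Set G) :=
        Subgroup.mem_subgroupOf.mp ((QuotientGroup.eq_one_iff (i n)).mp hn)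
      refine MonoidHom.mem_ker.mpr (conj3_eq_one fun d => ?_)
      obtain ⟨p, hp, hpd⟩ : d.1 ∈ P'.map ψ := hPmap ▸ MonoidHom.mem_ker.mpr (X3_mem_ker d)
      have h1 : p * (n : K) = (n : K) * p := Subtype.ext (hc _ ⟨p, hp, rfl⟩)
      show ψ (n : K) * d.1 = d.1 * ψ (n : K)
      rw [← hpd, ← map_mul, ← map_mul, h1]
    let χ' : (q.comp i).range →* Equiv.Perm X3 :=
      MonoidHom.liftOfSurjective j (MonoidHom.rangeRestrict_surjective _) ⟨χ, hker⟩
    have hχ' : Function.Surjective χ' := fun σ => by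
      obtain ⟨n, hn, rfl⟩ := hsurjN σ
      exact ⟨j ⟨n, hn⟩, MonoidHom.liftOfRightInverse_comp_apply j _ _ ⟨χ, hker⟩ _⟩
    let e := Equiv.permCongrHom (Fintype.equivFinOfCardEq card_X3)
    exact Offender.involves_of_hom (e.toMonoidHom.comp χ') (e.surjective.comp hχ')
  · rintro ⟨T, hT, h⟩
    set L := Subgroup.normalizer (T : Set G) with hL
    set C := (Subgroup.centralizer (T : Set G)).subgroupOf L with hC
    obtain ⟨K, ψ, hψ⟩ := Offender.exists_hom_of_involves h
    let φ := ψ.comp ((QuotientGroup.mk' C).subgroupComap K)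
    obtain ⟨x₀, t₀, ⟨a, ha⟩, ⟨b, hb⟩, hinv₀, hφx⟩ := exists_inverted φ (hψ.comp
      ((QuotientGroup.mk' C).subgroupComap_surjective_of_surjective K
        (QuotientGroup.mk'_surjective C)))
    have hx₀C : (x₀ : L) ∉ C := fun hc => hφx (by
      show ψ _ = 1
      rw [show (QuotientGroup.mk' C).subgroupComap K x₀ = 1 from
        Subtype.ext ((QuotientGroup.eq_one_iff _).mpr hc), map_one])
    have hexi : ∃ j, (x₀ : L) ^ 3 ^ j ∈ C := ⟨a, by
      rw [← Subgroup.coe_pow, ← ha, pow_orderOf_eq_one]; exact one_mem _⟩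
    obtain ⟨j, hj, hj'⟩ : ∃ j, (x₀ : L) ^ 3 ^ j ∉ C ∧ (x₀ : L) ^ 3 ^ (j + 1) ∈ C := by
      have hf := Nat.find_spec hexi
      have h0 : Nat.find hexi ≠ 0 := fun h0 => by
        rw [h0, pow_zero, pow_one] at hf
        exact hx₀C hf
      obtain ⟨j, hj⟩ := Nat.exists_eq_succ_of_ne_zero h0
      rw [hj] at hf
      exact ⟨j, Nat.find_min hexi (by omega), hf⟩
    set x : L := (x₀ : L) ^ 3 ^ j with hx
    set t : L := (t₀ : L) with ht
    have hinv : t * x * t⁻¹ = x⁻¹ := by
      rw [hx, ← conj_pow, ← inv_pow]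
      congr 1
      exact congrArg Subtype.val hinv₀
    have hxord : ∃ k, orderOf x = 3 ^ k := by
      have : orderOf x ∣ 3 ^ a := by
        rw [hx, ← ha, ← Subgroup.orderOf_coe x₀]; exact orderOf_pow_dvd _
      obtain ⟨k, -, hk⟩ := (Nat.dvd_prime_pow Nat.prime_three).mp this
      exact ⟨k, hk⟩
    set U := T.subgroupOf L with hU
    haveI : U.Normal := Subgroup.normal_in_normalizer
    have hUp : IsPGroup 2 U :=
      hT.of_equiv (Subgroup.subgroupOfEquivOfLe (Subgroup.le_normalizer : T ≤ L)).symm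
    set W := (frattini U).map U.subtype with hW
    haveI : W.Normal := PSolvable.normal_map_of_characteristic U _
    let π := QuotientGroup.mk' W
    haveI : (U.map π).Normal := Subgroup.Normal.map inferInstance π (QuotientGroup.mk'_surjective W)
    have hM := CfsgLib.Quadratic.isElementaryAbelian_map_frattini (p := 2) U hUp
    refine Offender.involves_of_injective L.subtype L.subtype_injective
      (Offender.involves_of_surjective π (QuotientGroup.mk'_surjective W)
        (four_of_module hM (x := π x) (t := π t) ?_ ?_ ?_ ?_))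
    · have : orderOf (π t) ∣ 2 ^ b := by
        refine (orderOf_map_dvd π t).trans ?_
        rw [ht, Subgroup.orderOf_coe, hb]
      obtain ⟨k, -, hk⟩ := (Nat.dvd_prime_pow Nat.prime_two).mp this
      exact ⟨k, hk⟩
    · rw [← map_inv, ← map_mul, ← map_mul, hinv, map_inv]
    · rintro _ ⟨u, hu, rfl⟩
      have h3 : x ^ 3 ∈ C := by rw [hx, ← pow_mul, ← pow_succ]; exact hj'
      have h4 : x ^ 3 * u = u * x ^ 3 := Subtype.ext ((h3 : ((x ^ 3 : L) : G) ∈
        Subgroup.centralizer (T : Set G)) u hu).symm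
      rw [← map_pow, ← map_mul, ← map_inv, ← map_mul, h4, mul_inv_cancel_right]
    · by_contra hno
      simp only [not_exists, not_and, not_not] at hno
      apply hj
      have hle : Subgroup.zpowers x ≤ Subgroup.centralizer (U : Set L) := by
        refine Coprime.le_centralizer_of_frattini Subgroup.le_normalizer_of_normal ?_ ?_
        · obtain ⟨k, hk⟩ := hxord
          obtain ⟨n, hn⟩ := IsPGroup.iff_card.mp (hUp.to_subgroup (frattini U))
          rw [Nat.card_zpowers, hk, hn]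
          exact Nat.Coprime.pow _ _ (by norm_num)
        · intro y hy u hu
          rw [← hW, ← QuotientGroup.eq_one_iff, ← QuotientGroup.mk'_apply]
          have h0 : π x * π u = π u * π x := mul_inv_eq_iff_eq_mul.mp (hno _ ⟨u, hu, rfl⟩)
          obtain ⟨k, rfl⟩ := Subgroup.mem_zpowers_iff.mp hy
          have h1 : π (x ^ k) * π u = π u * π (x ^ k) := by
            rw [map_zpow]
            exact (Commute.zpow_left h0 k).eq
          simp only [map_mul, map_inv]
          show π (x ^ k) * π u * (π (x ^ k))⁻¹ * (π u)⁻¹ = 1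
          rw [h1, mul_inv_cancel_right, mul_inv_cancel]
      intro v hv
      exact congrArg Subtype.val (hle (Subgroup.mem_zpowers x) ⟨v, Subgroup.le_normalizer hv⟩ hv)

end Cfsg.Agent.S2759
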