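import Mathlib
import Cfsg.Statements.S2959
import Cfsg.Agent.Lib.Coprime.Action
import Cfsg.Agent.Lib.Transfer.Basic
import Cfsg.Agent.Lib.Fitting.Basic

set_option autoImplicit false
set_option linter.style.haveILetI false
set_option linter.unusedVariables false
open Cfsg

open scoped commutatorElement

namespace Cfsg.Agent.S2959

/-- Let G be a finite group of characteristic p, that is C_G(O_p(G)) ≤ O_p(G), with p prime, and let L be a subgroup of G normalized by O_p(G). Then L has characteristic p: C_L(O_p(L)) ≤ O_p(L). -/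
theorem result {G : Type*} [Group G] [Finite G] {p : ℕ} [Fact p.Prime] (hG : Subgroup.centralizer (Cfsg.pCore p G : Set G) ≤ Cfsg.pCore p G) (L : Subgroup G) (hL : Cfsg.pCore p G ≤ Subgroup.normalizer (L : Set G)) : Subgroup.centralizer (Cfsg.pCore p ↥L : Set ↥L) ≤ Cfsg.pCore p ↥L := by
  haveI := CfsgLib.Fitting.pCore_normal (G := G) p
  haveI := CfsgLib.Fitting.pCore_normal (G := L) p
  set Q := Cfsg.pCore p G with hQ
  set C := Subgroup.centralizer (Cfsg.pCore p L : Set L) with hC
  refine CfsgLib.Fitting.le_pCore inferInstance ?_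
  intro c
  obtain ⟨a, m, -, -, hco, -⟩ := CfsgLib.Transfer.exists_pow_coprime_part (p := p) ((c : L) : G)
  set z := ((c : L) : G) ^ p ^ a with hz
  set Az := Subgroup.zpowers z with hAz
  obtain ⟨k, hk⟩ := IsPGroup.iff_card.mp (CfsgLib.Fitting.pCore_isPGroup (G := G) p)
  have hzL : z ∈ L := L.pow_mem (c : L).2 _
  have h1 : ⁅Q, Az⁆ ≤ ((Cfsg.pCore p L).map L.subtype) := by
    rw [Subgroup.commutator_le]
    intro q hq u hu
    have huL : u ∈ L := Subgroup.zpowers_le.mpr hzL hu
    have e1 : ⁅q, u⁆ ∈ Q := by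
      rw [commutatorElement_def, show q * u * q⁻¹ * u⁻¹ = q * (u * q⁻¹ * u⁻¹) by group]
      exact Q.mul_mem hq (Subgroup.Normal.conj_mem inferInstance _ (Q.inv_mem hq) u)
    have e2 : ⁅q, u⁆ ∈ L := L.mul_mem ((Subgroup.mem_normalizer_iff.mp (hL hq) u).mp huL) (L.inv_mem huL)
    refine ⟨⟨_, e2⟩, CfsgLib.Fitting.le_pCore (N := Q.subgroupOf L) inferInstance
      ((CfsgLib.Fitting.pCore_isPGroup p).comap_of_injective _ L.subtype_injective) e1, rfl⟩
  have h2 : ⁅⁅Q, Az⁆, Az⁆ = ⊥ := by
    rw [eq_bot_iff]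
    refine (Subgroup.commutator_mono h1 le_rfl).trans (le_of_eq ?_)
    rw [Subgroup.commutator_eq_bot_iff_le_centralizer, Subgroup.le_centralizer_iff, hAz, Subgroup.zpowers_le]
    refine Subgroup.mem_centralizer_iff.mpr ?_
    rintro _ ⟨r, hr, rfl⟩
    exact congrArg Subtype.val (Subgroup.mem_centralizer_iff.mp (C.pow_mem c.2 (p ^ a)) r hr)
  have h3 := CfsgLib.Coprime.commutator_eq_bot_of_commutator_commutator (by
    rw [Subgroup.normalizer_eq_top]; exact le_top) (by rw [hAz, Nat.card_zpowers, hk]; exact hco.pow_right k) h2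
  rw [Subgroup.commutator_eq_bot_iff_le_centralizer, Subgroup.le_centralizer_iff] at h3
  have hzQ := hG (h3 (Subgroup.mem_zpowers z))
  have h4 : z = 1 := by
    refine orderOf_eq_one_iff.mp (Nat.eq_one_of_dvd_coprimes (hco.pow_right k) dvd_rfl ?_)
    rw [← hk]
    exact Q.orderOf_dvd_natCard hzQ
  exact ⟨a, Subtype.ext (Subtype.ext (by simpa [hz] using h4))⟩

end Cfsg.Agent.S2959
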