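import Mathlib
import Cfsg.Statements.S2923
import Cfsg.Agent.S2959

set_option autoImplicit false
set_option linter.style.haveILetI false
set_option linter.unusedVariables false
open Cfsg

namespace Cfsg.Agent.S2923

theorem transport {A B : Type*} [Group A] [Group B] {p : ℕ} (e : A ≃* B)
    (h : Subgroup.centralizer (Cfsg.pCore p A : Set A) ≤ Cfsg.pCore p A) :
    Subgroup.centralizer (Cfsg.pCore p B : Set B) ≤ Cfsg.pCore p B := by
  intro b hb
  have h1 : e.symm b ∈ Subgroup.centralizer (Cfsg.pCore p A : Set A) := by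
    refine Subgroup.mem_centralizer_iff.mpr fun a ha => ?_
    have h3 : ∀ a ∈ Cfsg.pCore p A, e a ∈ Cfsg.pCore p B := by
      intro a ha
      have hle : (Cfsg.pCore p A).map e.toMonoidHom ≤ Cfsg.pCore p B := by
        rw [Cfsg.pCore, Subgroup.map_le_iff_le_comap]
        refine sSup_le fun N hN => ?_
        rw [← Subgroup.map_le_iff_le_comap]
        exact le_sSup ⟨hN.1.map _ e.surjective, hN.2.map _⟩
      exact hle ⟨a, ha, rfl⟩
    have h2 := congrArg e.symm (Subgroup.mem_centralizer_iff.mp hb (e a) (h3 a ha))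
    simpa using h2
  have hle : (Cfsg.pCore p A).map e.toMonoidHom ≤ Cfsg.pCore p B := by
    rw [Cfsg.pCore, Subgroup.map_le_iff_le_comap]
    refine sSup_le fun N hN => ?_
    rw [← Subgroup.map_le_iff_le_comap]
    exact le_sSup ⟨hN.1.map _ e.surjective, hN.2.map _⟩
  exact hle ⟨_, h h1, e.apply_symm_apply b⟩

/-- Let p be a prime and X a finite group of characteristic p, that is C_X(O_p(X)) ≤ O_p(X). Then every subnormal subgroup of X has characteristic p. -/
theorem result {X : Type*} [Group X] [Finite X] {p : ℕ} [Fact p.Prime] (hX : Subgroup.centralizer (Cfsg.pCore p X : Set X) ≤ Cfsg.pCore p X) (Y : Subgroup X) (hY : Y.IsSubnormal) : Subgroup.centralizer (Cfsg.pCore p ↥Y : Set ↥Y) ≤ Cfsg.pCore p ↥Y := by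
  induction hY with
  | top => exact transport Subgroup.topEquiv.symm hX
  | step H K hle hS hn ih =>
    haveI := hn
    exact transport (Subgroup.subgroupOfEquivOfLe hle)
      (Cfsg.Agent.S2959.result ih (H.subgroupOf K) (by rw [Subgroup.normalizer_eq_top]; exact le_top))

end Cfsg.Agent.S2923
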