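import Mathlib
import Cfsg.Statements.S2760
import Cfsg.Agent.S2923
import Cfsg.Agent.Lib.Transfer.Basic
import Cfsg.Agent.Lib.PSolvable.Core

set_option autoImplicit false
set_option linter.style.haveILetI false
set_option linter.unusedVariables false
open Cfsg

namespace Cfsg.Agent.S2760

/-- Let G be a finite group with C_G(O₂(G)) ≤ O₂(G) and H a subgroup of G such that H is normal in G, or the subgroup O²(H) generated by the elements of H of odd order is normal in G. Then C_H(O₂(H)) ≤ O₂(H). -/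
theorem result {G : Type*} [Group G] [Finite G] (hchar : Subgroup.centralizer (Cfsg.pCore 2 G : Set G) ≤ Cfsg.pCore 2 G) (H : Subgroup G) (hH : H.Normal ∨ ((Cfsg.pResidual 2 ↥H).map H.subtype).Normal) : Subgroup.centralizer (Cfsg.pCore 2 ↥H : Set ↥H) ≤ Cfsg.pCore 2 ↥H := by
  haveI : Fact (Nat.Prime 2) := ⟨Nat.prime_two⟩
  rcases hH with hH | hH
  · exact Cfsg.Agent.S2923.result hchar H hH.isSubnormal
  haveI := CfsgLib.Transfer.pResidual_normal 2 H
  haveI := CfsgLib.Fitting.pCore_normal (G := H) 2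
  set R := Cfsg.pResidual 2 H with hR
  haveI := CfsgLib.Fitting.pCore_normal (G := R) 2
  have hRc : Subgroup.centralizer (Cfsg.pCore 2 R : Set R) ≤ Cfsg.pCore 2 R :=
    Cfsg.Agent.S2923.transport (R.equivMapOfInjective H.subtype H.subtype_injective).symm
      (Cfsg.Agent.S2923.result hchar _ hH.isSubnormal)
  refine CfsgLib.Fitting.le_pCore inferInstance ?_
  intro c
  obtain ⟨a, m, -, -, hco, -⟩ := CfsgLib.Transfer.exists_pow_coprime_part (p := 2) (c : H)
  set z := (c : H) ^ 2 ^ a with hz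
  have hzR : z ∈ R := CfsgLib.Transfer.mem_pResidual_of_coprime hco
  have h1 : (⟨z, hzR⟩ : R) ∈ Cfsg.pCore 2 R := by
    refine hRc (Subgroup.mem_centralizer_iff.mpr fun r hr => Subtype.ext ?_)
    exact Subgroup.mem_centralizer_iff.mp (Subgroup.pow_mem _ c.2 _) (r : H)
      (CfsgLib.PSolvable.map_pCore_le R ⟨r, hr, rfl⟩)
  obtain ⟨k, hk⟩ := CfsgLib.Fitting.pCore_isPGroup 2 (⟨⟨z, hzR⟩, h1⟩ : Cfsg.pCore 2 R)
  have hzk : z ^ 2 ^ k = 1 := by
    have := congrArg (fun w : Cfsg.pCore 2 R => ((w : R) : H)) hk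
    simpa using this
  have h4 : z = 1 := orderOf_eq_one_iff.mp
    (Nat.eq_one_of_dvd_coprimes (hco.pow_right k) dvd_rfl (orderOf_dvd_of_pow_eq_one hzk))
  exact ⟨a, Subtype.ext (by simpa [hz] using h4)⟩

end Cfsg.Agent.S2760
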