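import Cfsg.Statements.S2763
import Cfsg.Agent.Lib.Qd.Upper

set_option autoImplicit false
open Cfsg

namespace Cfsg.Agent.S2763

/-- In the group Qd(p) (p prime; the natural semidirect product of an elementary abelian group of order p² by SL₂(p)), the normalizer of every nontrivial characteristic subgroup of a Sylow p-subgroup S equals the normalizer of S, which is a proper subgroup; in particular no such characteristic subgroup is normal. -/
theorem result {p : ℕ} [Fact p.Prime] (S : Sylow p ↥(Cfsg.qd p)) (T : Subgroup ↥(S : Subgroup ↥(Cfsg.qd p))) (hT : T ≠ ⊥) (hTc : T.Characteristic) : Subgroup.normalizer ((T.map (S : Subgroup ↥(Cfsg.qd p)).subtype : Subgroup ↥(Cfsg.qd p)) : Set ↥(Cfsg.qd p)) = Subgroup.normalizer ((S : Subgroup ↥(Cfsg.qd p)) : Set ↥(Cfsg.qd p)) ∧ Subgroup.normalizer ((S : Subgroup ↥(Cfsg.qd p)) : Set ↥(Cfsg.qd p)) ≠ ⊤ := by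
  obtain ⟨g, hg⟩ := CfsgLib.Qd.exists_equiv_upper S
  let e : CfsgLib.Qd.upper p ≃* ↥(S : Subgroup ↥(Cfsg.qd p)) :=
    ((CfsgLib.Qd.upper p).equivMapOfInjective _ (MulAut.conj g).injective).trans
      (MulEquiv.subgroupCongr hg)
  set T₀ : Subgroup ↥(Cfsg.qd p) := (T.map e.symm.toMonoidHom).map (CfsgLib.Qd.upper p).subtype
    with hT₀
  have hT₀g : T₀.map (MulAut.conj g).toMonoidHom
      = T.map (S : Subgroup ↥(Cfsg.qd p)).subtype := by
    rw [hT₀, Subgroup.map_map, Subgroup.map_map]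
    congr 1
    refine MonoidHom.ext fun x => ?_
    have h1 : ((e (e.symm x) : ↥(S : Subgroup ↥(Cfsg.qd p))) : ↥(Cfsg.qd p)) = x := by
      rw [e.apply_symm_apply]
    exact h1
  have hsub : T₀.subgroupOf (CfsgLib.Qd.upper p) = T.map e.symm.toMonoidHom :=
    Subgroup.comap_map_eq_self_of_injective (Subgroup.subtype_injective _) _
  have hchar : (T₀.subgroupOf (CfsgLib.Qd.upper p)).Characteristic := by
    rw [hsub]
    refine Subgroup.characteristic_iff_map_eq.mpr fun φ => ?_
    have h1 := Subgroup.characteristic_iff_map_eq.mp hTc ((e.symm.trans φ).trans e)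
    conv_rhs => rw [← h1]
    rw [Subgroup.map_map, Subgroup.map_map]
    congr 1
    refine MonoidHom.ext fun x => ?_
    exact (e.symm_apply_apply (φ (e.symm x))).symm
  have hT1 : T₀ ≠ ⊥ := fun h => hT (by
    rwa [hT₀, Subgroup.map_eq_bot_iff_of_injective _ (Subgroup.subtype_injective _),
      Subgroup.map_eq_bot_iff_of_injective _ e.symm.injective] at h)
  have hle : Subgroup.normalizer (CfsgLib.Qd.upper p : Set ↥(Cfsg.qd p))
      ≤ Subgroup.normalizer (T₀ : Set ↥(Cfsg.qd p)) := by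
    intro x hx
    haveI := hchar
    have key : ∀ y ∈ Subgroup.normalizer (CfsgLib.Qd.upper p : Set ↥(Cfsg.qd p)), ∀ t ∈ T₀,
        y * t * y⁻¹ ∈ T₀ := by
      intro y hy t ht
      have htU : t ∈ CfsgLib.Qd.upper p := Subgroup.map_subtype_le _ ht
      let φ : MulAut (CfsgLib.Qd.upper p) :=
        Subgroup.normalizerMonoidHom (CfsgLib.Qd.upper p) ⟨y, hy⟩
      have := (Subgroup.characteristic_iff_map_eq.mp hchar φ).le
        ⟨⟨t, htU⟩, (show (⟨t, htU⟩ : CfsgLib.Qd.upper p) ∈ T₀.subgroupOf _ from ht), rfl⟩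
      exact this
    refine Subgroup.mem_normalizer_iff.mpr fun t => ⟨key x hx t, fun ht => ?_⟩
    simpa [mul_assoc] using key x⁻¹ (inv_mem hx) _ ht
  have h := CfsgLib.Qd.normalizer_eq_of_characteristic (Subgroup.map_subtype_le _) hT1 hchar hle
  constructor
  · rw [← hT₀g, ← hg]
    have hn := fun K : Subgroup ↥(Cfsg.qd p) => Subgroup.map_equiv_normalizer_eq K (MulAut.conj g)
    rw [← hn, ← hn, h]
  · intro htop
    have h1 : (CfsgLib.Qd.el (CfsgLib.Qd.weyl (p := p)) 0) ∈
        Subgroup.normalizer (CfsgLib.Qd.upper p : Set ↥(Cfsg.qd p)) := by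
      have h2 := Subgroup.map_equiv_normalizer_eq (CfsgLib.Qd.upper p) (MulAut.conj g)
      rw [hg, htop] at h2
      have h3 : (MulAut.conj g).toMonoidHom (CfsgLib.Qd.el (CfsgLib.Qd.weyl (p := p)) 0) ∈
          (Subgroup.normalizer (CfsgLib.Qd.upper p : Set ↥(Cfsg.qd p))).map (MulAut.conj g).toMonoidHom :=
        h2.ge (Subgroup.mem_top _)
      exact (Subgroup.mem_map_iff_mem (MulAut.conj g).injective).mp h3
    rw [CfsgLib.Qd.mem_normalizer_upper, CfsgLib.Qd.pr_el] at h1
    simp [CfsgLib.Qd.weyl] at h1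

end Cfsg.Agent.S2763
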