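import Cfsg.Statements.S2764
import Cfsg.Agent.Lib.PushRankOne.Main

set_option autoImplicit false
open Cfsg

namespace Cfsg.Agent.S2764

open CfsgLib CfsgLib.PushRankOne
open scoped commutatorElement MatrixGroups

/-- Pushing up for a rank-one quotient: let G be a finite group and p a prime with C_G(O_p(G)) ≤ O_p(G), suppose G/K ≅ PSL₂(p^n) for some normal subgroup K and some n ≥ 1, that a Sylow p-subgroup S of G lies in exactly one maximal subgroup of G, and that no nontrivial characteristic subgroup of S is normal in G. Then G/O_p(G) ≅ SL₂(p^n), and every noncentral chief factor U/W of G inside O_p(G) is a natural SL₂-module over the field with p^n elements for the action of G/W. -/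
theorem result {G : Type*} [Group G] [Finite G] {p : ℕ} [Fact p.Prime] (S : Sylow p G) (hE₁ : Subgroup.centralizer (Cfsg.pCore p G : Set G) ≤ Cfsg.pCore p G) (hE₂ : ∃! M : Subgroup G, IsCoatom M ∧ (S : Subgroup G) ≤ M) (K : Subgroup G) [K.Normal] (F : Type) [Field F] [Fintype F] (n : ℕ) (hn : 1 ≤ n) (hF : Fintype.card F = p ^ n) (hE₃ : Nonempty (G ⧸ K ≃* Matrix.ProjectiveSpecialLinearGroup (Fin 2) F)) (hd : ∀ T : Subgroup ↥(S : Subgroup G), T ≠ ⊥ → T.Characteristic → ¬ (T.map (S : Subgroup G).subtype).Normal) : Nonempty (G ⧸ Cfsg.pCore p G ≃* Matrix.SpecialLinearGroup (Fin 2) F) ∧ ∀ (U W : Subgroup G) [W.Normal], U ≤ Cfsg.pCore p G → Cfsg.IsChiefFactor U W → ¬ ⁅U, (⊤ : Subgroup G)⁆ ≤ W → Cfsg.IsNaturalSL2Module F (U.map (QuotientGroup.mk' W)) (⊤ : Subgroup (G ⧸ W)) := by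
  haveI : CharP F p := SL2Module.Baumann.charP_of_card n hF
  obtain ⟨M, π, ρV, ψV, b⟩ := exists_base (F := F) S hE₁ hE₂ K n hn hF hE₃ hd
  haveI := b.Q_normal
  have last : ∀ (hV : ∀ g, ρV g = 1 ↔ g ∈ Cfsg.pCore p G) (U W : Subgroup G) [W.Normal],
      U ≤ Cfsg.pCore p G → Cfsg.IsChiefFactor U W → ¬ ⁅U, (⊤ : Subgroup G)⁆ ≤ W → U ≤ Vc S ⊔ W →
      Cfsg.IsNaturalSL2Module F (U.map (QuotientGroup.mk' W)) (⊤ : Subgroup (G ⧸ W)) := by
    intro hV U W _ hUQ hUW hne hUV
    haveI := hUW.2.1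
    refine (factor b.nat bot_le hV hUW hne hUQ hUV).resolve_right fun h => ?_
    rw [bot_sup_eq] at h
    exact hne ((Subgroup.commutator_le_left _ _).trans h)
  rcases configurations b with ⟨α, hα⟩ | ⟨α, ρY, ψY, h⟩
  · obtain ⟨-, -, -, -, hV⟩ := caseOne b hα
    obtain ⟨-, -, -, -, -, hit⟩ := caseOne_sylow b hα
    refine ⟨quotient_iso ρV b.nat.surj hV, fun U W _ hUQ hUW hne => last hV U W hUQ hUW hne ?_⟩
    exact (factor_le_iter hUW hne b.Q_normal hUQ 2).trans (sup_le_sup_right hit _)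
  · obtain ⟨hV, hY⟩ := h.kernels h.ne_two
    obtain ⟨-, -, -, -, hit⟩ := h.sylow
    refine ⟨quotient_iso ρV b.nat.surj hV, fun U W _ hUQ hUW hne => ?_⟩
    rcases factor h.nat h.hyp.V_le_Y hY hUW hne hUQ
      ((factor_le_iter hUW hne b.Q_normal hUQ 3).trans (sup_le_sup_right hit _)) with h1 | h1
    · exact h1
    · exact last hV U W hUQ hUW hne h1

end Cfsg.Agent.S2764
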