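import Cfsg.Statements.S2765
import Cfsg.Agent.Lib.PushRankOne.Main

set_option autoImplicit false
open Cfsg

namespace Cfsg.Agent.S2765

open CfsgLib CfsgLib.PushRankOne
open scoped commutatorElement MatrixGroups

/-- In the same pushing-up situation (G finite, C_G(O_p(G)) ≤ O_p(G), G/K ≅ PSL₂(p^n) with n ≥ 1, a Sylow p-subgroup S in exactly one maximal subgroup, no nontrivial characteristic subgroup of S normal in G), one of the following holds: (I) S has nilpotency class 2, exponent 4 if p = 2 and exponent p otherwise, and G has exactly one noncentral chief factor inside O_p(G); or (II) p = 3, S has class 3 and exponent 9, and G has exactly two noncentral chief factors inside O_p(G). 'Exactly one' is phrased as: some noncentral chief factor U/W inside O_p(G) with G acting hypercentrally on W and on O_p(G)/U; 'exactly two' analogously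 with a chain. -/
theorem result {G : Type*} [Group G] [Finite G] {p : ℕ} [Fact p.Prime] (S : Sylow p G) (hE₁ : Subgroup.centralizer (Cfsg.pCore p G : Set G) ≤ Cfsg.pCore p G) (hE₂ : ∃! M : Subgroup G, IsCoatom M ∧ (S : Subgroup G) ≤ M) (K : Subgroup G) [K.Normal] (F : Type) [Field F] [Fintype F] (n : ℕ) (hn : 1 ≤ n) (hF : Fintype.card F = p ^ n) (hE₃ : Nonempty (G ⧸ K ≃* Matrix.ProjectiveSpecialLinearGroup (Fin 2) F)) (hd : ∀ T : Subgroup ↥(S : Subgroup G), T ≠ ⊥ → T.Characteristic → ¬ (T.map (S : Subgroup G).subtype).Normal) : ((S : Subgroup G).lowerCentralSeries 2 = ⊥ ∧ (S : Subgroup G).lowerCentralSeries 1 ≠ ⊥ ∧ (p = 2 → Monoid.exponent ↥(S : Subgroup G) = 4) ∧ (p ≠ 2 → Monoid.exponent ↥(S : Subgroup G) = p) ∧ (∃ U W : Subgroup G, W ≤ U ∧ U ≤ (Cfsg.pCore p G) ∧ Cfsg.IsChiefFactor U W ∧ ¬ ⁅U, (⊤ : Subgroup G)⁆ ≤ W ∧ (∃ k : ℕ, Cfsg.iterCommutator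 W ⊤ k = ⊥) ∧ (∃ k : ℕ, Cfsg.iterCommutator (Cfsg.pCore p G) ⊤ k ≤ U))) ∨ (p = 3 ∧ (S : Subgroup G).lowerCentralSeries 3 = ⊥ ∧ (S : Subgroup G).lowerCentralSeries 2 ≠ ⊥ ∧ Monoid.exponent ↥(S : Subgroup G) = 9 ∧ (∃ U₁ W₁ U₂ W₂ : Subgroup G, W₁ ≤ U₁ ∧ U₁ ≤ W₂ ∧ W₂ ≤ U₂ ∧ U₂ ≤ (Cfsg.pCore p G) ∧ Cfsg.IsChiefFactor U₁ W₁ ∧ Cfsg.IsChiefFactor U₂ W₂ ∧ ¬ ⁅U₁, (⊤ : Subgroup G)⁆ ≤ W₁ ∧ ¬ ⁅U₂, (⊤ : Subgroup G)⁆ ≤ W₂ ∧ (∃ k : ℕ, Cfsg.iterCommutator W₁ ⊤ k = ⊥) ∧ (∃ k : ℕ, Cfsg.iterCommutator W₂ ⊤ k ≤ U₁) ∧ (∃ k : ℕ, Cfsg.iterCommutator (Cfsg.pCore p G) ⊤ k ≤ U₂))) := by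
  haveI : CharP F p := SL2Module.Baumann.charP_of_card n hF
  obtain ⟨M, π, ρV, ψV, b⟩ := exists_base (F := F) S hE₁ hE₂ K n hn hF hE₃ hd
  haveI := b.Q_normal
  obtain ⟨hVc, hVne⟩ := b.nat.chief bot_le
  rcases configurations b with ⟨α, hα⟩ | ⟨α, ρY, ψY, h⟩
  · obtain ⟨h1, h2, h3, h4, h5, h6⟩ := caseOne_sylow b hα
    exact Or.inl ⟨h1, h2, h3, h4, Vc S, fixMod (Vc S) ⊥, fixMod_le _ _, b.V_le_Q, hVc, hVne,
      ⟨1, h5⟩, ⟨2, h6⟩⟩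
  · obtain ⟨h1, h2, h3, h4, h5⟩ := h.sylow
    obtain ⟨hYc, hYne⟩ := h.nat.chief h.hyp.V_le_Y
    refine Or.inr ⟨h1, h2, h3, h4, Vc S, fixMod (Vc S) ⊥, Yc S α, fixMod (Yc S α) (Vc S),
      fixMod_le _ _, Natural.le_fixMod h.hyp.V_le_Y, fixMod_le _ _, h.hyp.Y_le_Q, hVc, hYc, hVne, hYne,
      ⟨1, b.Q_comm_fix⟩, ⟨1, ?_⟩, ⟨3, h5⟩⟩
    show ⁅fixMod (Yc S α) (Vc S), (⊤ : Subgroup G)⁆ ≤ Vc S
    rw [Subgroup.commutator_comm]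
    exact comm_fixMod_le _ _ _

end Cfsg.Agent.S2765
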