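import Cfsg.Statements.S2766
import Cfsg.Agent.Lib.PushRankOne.QdLocal

set_option autoImplicit false
open Cfsg

namespace Cfsg.Agent.S2766

open CfsgLib

/-- Let p ≥ 5 be prime and G a maximal p-local subgroup of a finite group H (G is the normalizer of a nontrivial p-subgroup and lies in no other such normalizer). Suppose C_G(O_p(G)) ≤ O_p(G), G/K ≅ PSL₂(p^n) for some normal K and n ≥ 1, a Sylow p-subgroup S of G lies in exactly one maximal subgroup of G, and N_H(S) is not contained in G. Then G = G₀ × E for subgroups G₀ ≅ Qd(p^n) (the natural semidirect product of the plane over the field with p^n elements by SL₂) and E an elementary abelian p-group. -/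
theorem result {H : Type*} [Group H] [Finite H] {p : ℕ} [Fact p.Prime] (hp : 5 ≤ p) (G : Subgroup H) (hloc : ∃ R : Subgroup H, IsPGroup p ↥R ∧ R ≠ ⊥ ∧ G = Subgroup.normalizer (R : Set H)) (hmax : ∀ R : Subgroup H, IsPGroup p ↥R → R ≠ ⊥ → G ≤ Subgroup.normalizer (R : Set H) → Subgroup.normalizer (R : Set H) = G) (S : Sylow p ↥G) (hE₁ : Subgroup.centralizer (Cfsg.pCore p ↥G : Set ↥G) ≤ Cfsg.pCore p ↥G) (hE₂ : ∃! M : Subgroup ↥G, IsCoatom M ∧ (S : Subgroup ↥G) ≤ M) (K : Subgroup ↥G) [K.Normal] (F : Type) [Field F] [Fintype F] (n : ℕ) (hn : 1 ≤ n) (hF : Fintype.card F = p ^ n) (hE₃ : Nonempty (↥G ⧸ K ≃* Matrix.ProjectiveSpecialLinearGroup (Fin 2) F)) (hN : ¬ Subgroup.normalizer (((S : Subgroup ↥G).map G.subtype : Subgroup H) : Set H) ≤ G) : ∃ G₀ E : Subgroup H, Cfsg.IsInternalDirectProduct G₀ E G ∧ Cfsg.IsElementaryAbelian p E ∧ Nonempty (↥G₀ ≃* ↥(Cfsg.qdOver F)) := by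
  haveI : CharP F p := CfsgLib.SL2Module.Baumann.charP_of_card n hF
  have hd : ∀ T : Subgroup ↥(S : Subgroup ↥G), T ≠ ⊥ → T.Characteristic →
      ¬ (T.map (S : Subgroup ↥G).subtype).Normal := by
    intro T hT hTc hTn
    refine hN ?_
    set R : Subgroup H := (T.map (S : Subgroup ↥G).subtype).map G.subtype with hR
    have hRp : IsPGroup p R := ((S.2.to_subgroup T).map _).map _
    have hRne : R ≠ ⊥ := by
      rw [hR, Ne, Subgroup.map_eq_bot_iff_of_injective _ G.subtype_injective,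
        Subgroup.map_eq_bot_iff_of_injective _ (S : Subgroup ↥G).subtype_injective]
      exact hT
    have hGR : G ≤ Subgroup.normalizer (R : Set H) := fun g hg =>
      Subgroup.mem_normalizer_fintype fun x hx => by
        obtain ⟨q, hq, rfl⟩ := hx
        exact ⟨⟨g, hg⟩ * q * ⟨g, hg⟩⁻¹, hTn.conj_mem q hq _, rfl⟩
    refine le_trans ?_ (hmax R hRp hRne hGR).le
    intro h hh
    have hh' : ∀ x : H, x ∈ (S : Subgroup ↥G).map G.subtype ↔ h * x * h⁻¹ ∈ (S : Subgroup ↥G).map G.subtype :=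
      Subgroup.mem_normalizer_iff.1 hh
    let e : ↥((S : Subgroup ↥G).map G.subtype) ≃* ↥((S : Subgroup ↥G).map G.subtype) :=
      { toFun := fun x => ⟨h * x * h⁻¹, (hh' x).1 x.2⟩
        invFun := fun x => ⟨h⁻¹ * x * h, (hh' _).2 (by
          rw [show h * (h⁻¹ * (x : H) * h) * h⁻¹ = x by group]; exact x.2)⟩
        left_inv := fun x => Subtype.ext (by show h⁻¹ * (h * (x : H) * h⁻¹) * h = x; group)
        right_inv := fun x => Subtype.ext (by show h * (h⁻¹ * (x : H) * h) * h⁻¹ = x; group)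
        map_mul' := fun x y => Subtype.ext (by
          show h * ((x : H) * y) * h⁻¹ = h * x * h⁻¹ * (h * y * h⁻¹); group) }
    let i := Subgroup.equivMapOfInjective (S : Subgroup ↥G) G.subtype G.subtype_injective
    let a : ↥(S : Subgroup ↥G) ≃* ↥(S : Subgroup ↥G) := i.trans (e.trans i.symm)
    refine Subgroup.mem_normalizer_fintype fun x hx => ?_
    obtain ⟨_, ⟨q, hq, rfl⟩, rfl⟩ := hx
    refine ⟨(a q : ↥G), ⟨a q, ?_, rfl⟩, ?_⟩
    · exact Subgroup.characteristic_iff_map_le.1 hTc a ⟨q, hq, rfl⟩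
    · have h1 := congrArg Subtype.val (i.apply_symm_apply (e (i q)))
      exact h1
  obtain ⟨M, π, ρV, ψV, b⟩ := PushRankOne.exists_base (F := F) S hE₁ hE₂ K n hn hF hE₃ hd
  obtain ⟨α, hα⟩ : ∃ α : MulAut (S : Subgroup ↥G), ¬ PushRankOne.act α (PushRankOne.Vc S) ≤
      Cfsg.pCore p ↥G := by
    rcases PushRankOne.configurations b with h | ⟨α, ρY, ψY, h⟩
    · exact h
    · obtain ⟨h1, -⟩ := h.sylow
      omega
  obtain ⟨V₁, E, K₀, t, d⟩ := PushRankOne.exists_qdData b hα hp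
  have hab := d.abelian b hp hmax hN
  obtain ⟨G₀, h1, h2, h3, ⟨e⟩⟩ := d.iso b hab
  refine ⟨G₀.map G.subtype, E.map G.subtype, ⟨Subgroup.map_subtype_le _, Subgroup.map_subtype_le _,
    ?_, ?_, ?_⟩, ⟨⟨⟨?_⟩⟩, ?_⟩, ⟨(Subgroup.equivMapOfInjective G₀ G.subtype G.subtype_injective).symm.trans e⟩⟩
  · rintro _ ⟨a, ha, rfl⟩ _ ⟨c, hc, rfl⟩
    rw [← map_mul, ← map_mul, h3 a ha c hc]
  · rw [← Subgroup.map_inf _ _ _ G.subtype_injective, h1, Subgroup.map_bot]
  · rw [← Subgroup.map_sup, h2, ← MonoidHom.range_eq_map, Subgroup.range_subtype]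
  · rintro ⟨_, a, ha, rfl⟩ ⟨_, c, hc, rfl⟩
    exact Subtype.ext (congrArg G.subtype (hab a ha c hc).eq)
  · rintro _ ⟨a, ha, rfl⟩
    rw [← map_pow, d.pow_p a ha, map_one]

end Cfsg.Agent.S2766
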