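import Cfsg.Statements.S2768
import Cfsg.Agent.Lib.SL2Module.Baumann

set_option autoImplicit false
open Cfsg

namespace Cfsg.Agent.S2768

open CfsgLib CfsgLib.SL2Module.Baumann
open scoped commutatorElement

/-- Let G be a finite group and p a prime with C_G(O_p(G)) ≤ O_p(G), such that a Sylow p-subgroup S lies in exactly one maximal subgroup of G and G/K ≅ PSL₂(p^n) for some normal K and n ≥ 1. Put J̃(S) = C_S(Z(J(S))), where J(S) is generated by the abelian subgroups of S of largest order. If Z(S) is not normal in G, then J̃(S) is a Sylow p-subgroup of its normal closure ⟨J̃(S)^G⟩. -/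
theorem result {G : Type*} [Group G] [Finite G] {p : ℕ} [Fact p.Prime] (S : Sylow p G) (hE₁ : Subgroup.centralizer (Cfsg.pCore p G : Set G) ≤ Cfsg.pCore p G) (hE₂ : ∃! M : Subgroup G, IsCoatom M ∧ (S : Subgroup G) ≤ M) (K : Subgroup G) [K.Normal] (F : Type) [Field F] [Fintype F] (n : ℕ) (hn : 1 ≤ n) (hF : Fintype.card F = p ^ n) (hE₃ : Nonempty (G ⧸ K ≃* Matrix.ProjectiveSpecialLinearGroup (Fin 2) F)) (hZ : ¬ ((S : Subgroup G) ⊓ Subgroup.centralizer ((S : Subgroup G) : Set G)).Normal) : ∃ P : Sylow p ↥(Subgroup.normalClosure (((S : Subgroup G) ⊓ Subgroup.centralizer (Cfsg.centerThompsonAOf (S : Subgroup G) : Set G)) : Set G)), (P : Subgroup ↥(Subgroup.normalClosure (((S : Subgroup G) ⊓ Subgroup.centralizer (Cfsg.centerThompsonAOf (S : Subgroup G) : Set G)) : Set G))) = (((S : Subgroup G) ⊓ Subgroup.centralizer (Cfsg.centerThompsonAOf (S : Subgroup G) : Set G))).subgroupOf (Subgroup.normalClosure (((S : Subgroup G) ⊓ Subgroup.centralizer (Cfsg.centerThompsonAOf (S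 : Subgroup G) : Set G)) : Set G)) := by
  haveI : CharP F p := charP_of_card n hF
  obtain ⟨M, π, st⟩ := exists_setting (F := F) S hE₁ hE₂ K hE₃
  set ZJ := Cfsg.centerThompsonAOf (S : Subgroup G) with hZJ
  set Z₀ := (S : Subgroup G) ⊓ Subgroup.centralizer ((S : Subgroup G) : Set G) with hZ₀
  set B := (S : Subgroup G) ⊓ Subgroup.centralizer (ZJ : Set G) with hB
  set N := Subgroup.normalClosure (B : Set G) with hN
  suffices h : ∀ s ∈ N, s ∈ (S : Subgroup G) → s ∈ Subgroup.centralizer (ZJ : Set G) by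
    refine ⟨(S.2.comap_of_injective N.subtype N.subtype_injective).toSylow
      (fun hd => S.not_dvd_index (hd.trans (Transfer.relIndex_dvd_index_of_normal _ N))), ?_⟩
    ext x
    exact ⟨fun hx => ⟨hx, h x x.2 hx⟩, fun hx => hx.1⟩
  by_cases hall : ∀ A, MaxAb (S : Subgroup G) A → A ≤ Cfsg.pCore p G
  · haveI : ZJ.Normal := zj_normal_of_le S hall
    exact fun s hs _ => Subgroup.normalClosure_le_normal inf_le_right hs
  push Not at hall
  obtain ⟨A₀, hA₀, hA₀Q⟩ := hall
  have hV : Subgroup.centralizer ((Subgroup.normalClosure (Z₀ : Set G) : Subgroup G) : Set G) ≤ M := by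
    by_contra hn
    exact hZ (normal_of_fixed st hn inf_le_right (Subgroup.centralizer_le Subgroup.subset_normalClosure))
  obtain ⟨-, hAQ, C, hC, hCzj, -, hdec⟩ := structure_thm st hA₀ hA₀Q hV
  haveI := hC
  have hA₀B : A₀ ≤ B := fun a ha => Subgroup.mem_inf.2 ⟨hA₀.1 ha,
    Subgroup.mem_centralizer_iff.2 fun z hz => (zj_commute hA₀ hz ha).eq⟩
  have hNC : N ≤ Subgroup.centralizer (C : Set G) := Subgroup.normalClosure_le_normal
    ((inf_le_right : B ≤ _).trans (Subgroup.centralizer_le (SetLike.coe_subset_coe.2 hCzj)))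
  intro s hsN hsS
  obtain ⟨a, ha, hx⟩ := hAQ s hsS
  have hxN : a⁻¹ * s ∈ N := mul_mem (inv_mem (Subgroup.le_normalClosure (hA₀B ha))) hsN
  refine Subgroup.mem_centralizer_iff.2 fun z hz => ?_
  have h1 : Commute z a := zj_commute hA₀ hz ha
  obtain ⟨w, c, hc, rfl, hw⟩ := hdec z hz
  have h2 : Commute (w * c) (a⁻¹ * s) :=
    (hw _ (pCore_le S hx)).mul_left (Subgroup.mem_centralizer_iff.1 (hNC hxN) c hc)
  have h3 := h1.mul_right h2
  rw [mul_inv_cancel_left] at h3
  exact h3.eq

end Cfsg.Agent.S2768
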