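import Cfsg.Statements.S2772
import Cfsg.Agent.Lib.ThompsonWielandt.DihedralQuotient

set_option autoImplicit false
open Cfsg

namespace Cfsg.Agent.S2772

/-- Sims' Theorem in local form: let H be a finite non-abelian simple group and G a maximal subgroup of H with C_G(O₂(G)) ≤ O₂(G), such that N_H(S) is not contained in G for a Sylow 2-subgroup S of G and G/O₂(G) is dihedral of order 2q for a prime q. Then G is isomorphic to the symmetric group of degree 4 or to its direct product with a group of order 2. -/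
theorem result {H : Type*} [Group H] [Finite H] [IsSimpleGroup H] (hna : ¬ IsMulCommutative H) (G : Subgroup H) (hG : IsCoatom G) (hchar : Subgroup.centralizer (Cfsg.pCore 2 ↥G : Set ↥G) ≤ Cfsg.pCore 2 ↥G) (S : Sylow 2 ↥G) (hN : ¬ Subgroup.normalizer (((S : Subgroup ↥G).map G.subtype : Subgroup H) : Set H) ≤ G) (q : ℕ) (hq : q.Prime) (hD : Nonempty (↥G ⧸ Cfsg.pCore 2 ↥G ≃* DihedralGroup q)) : Nonempty (↥G ≃* Equiv.Perm (Fin 4)) ∨ Nonempty (↥G ≃* Equiv.Perm (Fin 4) × Multiplicative (ZMod 2)) := by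
  classical
  haveI : Fact (Nat.Prime 2) := ⟨Nat.prime_two⟩
  obtain ⟨eD⟩ := hD
  set Q := Cfsg.pCore 2 ↥G with hQdef
  haveI : Q.Normal := CfsgLib.Fitting.pCore_normal 2
  have hidx : Q.index = 2 * q := by
    rw [Subgroup.index, Nat.card_congr eD.toEquiv, DihedralGroup.nat_card]
  have hGcard : Nat.card G = Nat.card Q * (2 * q) := by rw [← hidx]; exact (Subgroup.card_mul_index _).symm
  obtain ⟨k, hk⟩ := IsPGroup.iff_card.1 (CfsgLib.Fitting.pCore_isPGroup (G := ↥G) 2)
  rw [← hQdef] at hk
  set J := (S : Subgroup ↥G).map G.subtype with hJ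
  have hJG : J ≤ G := Subgroup.map_subtype_le _
  -- `G` is not normal
  have hGn : G.normalCore = ⊥ := by
    rcases (G.normalCore_normal).eq_bot_or_eq_top with h | h
    · exact h
    · exact absurd (top_le_iff.1 (h ▸ G.normalCore_le)) hG.1
  have hGne : G ≠ ⊥ := fun h => by
    have h1 : Nat.card G = 1 := by rw [h, Subgroup.card_bot]
    rw [hGcard] at h1
    have h2 : 0 < Nat.card Q := Nat.card_pos
    have h3 := hq.two_le
    nlinarith
  have hNG : Subgroup.normalizer (G : Set H) = G := by
    refine (hG.le_iff.1 Subgroup.le_normalizer).resolve_left fun h => hGne ?_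
    haveI : G.Normal := Subgroup.normalizer_eq_top_iff.1 h
    exact le_bot_iff.1 (hGn ▸ Subgroup.normal_le_normalCore.2 le_rfl)
  -- `q` is odd
  have hq2 : q ≠ 2 := by
    rintro rfl
    refine hN ?_
    have htop : (S : Subgroup ↥G) = ⊤ := by
      refine Subgroup.eq_top_of_card_eq _ ?_
      rw [Sylow.card_eq_multiplicity, hGcard, hk, show 2 ^ k * (2 * 2) = 2 ^ (k + 2) by ring,
        Nat.Prime.factorization_pow Nat.prime_two]
      simp
    rw [hJ, htop, ← MonoidHom.range_eq_map, Subgroup.range_subtype]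
    exact hNG.le
  have hScard : Nat.card S = 2 * Nat.card Q := by
    rw [Sylow.card_eq_multiplicity, hGcard, hk, show 2 ^ k * (2 * q) = 2 ^ (k + 1) * q by ring,
      Nat.factorization_mul (pow_ne_zero _ two_ne_zero) hq.ne_zero,
      Nat.Prime.factorization_pow Nat.prime_two, hq.factorization]
    simp [pow_succ, Ne.symm hq2, mul_comm]
  set Q' := Q.map G.subtype with hQ'
  have hQS : Q ≤ (S : Subgroup ↥G) := IsPGroup.le_sylow_of_normal (CfsgLib.Fitting.pCore_isPGroup 2) S
  have hJ2 : IsPGroup 2 J := S.2.map _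
  have hJcard : Nat.card J = 2 * Nat.card Q := by
    rw [hJ, Subgroup.card_map_of_injective G.subtype_injective]; exact hScard
  have hJq : J.relIndex G = q := by
    have h1 : Nat.card J * J.relIndex G = Nat.card G :=
      CfsgLib.ThompsonWielandt.relIndex_mul_card hJG
    rw [hJcard, hGcard, mul_comm 2, mul_assoc] at h1
    have := Nat.eq_of_mul_eq_mul_left Nat.card_pos h1
    omega
  have hQJ : Q' ≤ J := Subgroup.map_mono hQS
  have hQ2 : Q'.relIndex J = 2 := by
    have h1 : Nat.card Q' * Q'.relIndex J = Nat.card J :=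
      CfsgLib.ThompsonWielandt.relIndex_mul_card hQJ
    rw [hJcard, hQ', Subgroup.card_map_of_injective G.subtype_injective, mul_comm 2] at h1
    exact Nat.eq_of_mul_eq_mul_left Nat.card_pos h1
  have hJn : ¬ G ≤ Subgroup.normalizer (J : Set H) := by
    intro h
    have hn : (J.subgroupOf G).Normal := (Subgroup.normal_subgroupOf_iff_le_normalizer hJG).2 h
    have hS : J.subgroupOf G = (S : Subgroup ↥G) :=
      Subgroup.comap_map_eq_self_of_injective G.subtype_injective _
    rw [hS] at hn
    have hle := Subgroup.card_le_of_le (CfsgLib.Fitting.le_pCore (G := ↥G) hn S.2)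
    rw [← hQdef, hScard] at hle
    have : 0 < Nat.card Q := Nat.card_pos
    omega
  have hchar' : G ⊓ Subgroup.centralizer (Q' : Set H) ≤ Q' := by
    rintro x ⟨hxG, hxc⟩
    refine ⟨⟨x, hxG⟩, hchar (Subgroup.mem_centralizer_iff.2 fun y hy => Subtype.ext ?_), rfl⟩
    exact Subgroup.mem_centralizer_iff.1 hxc y ⟨y, hy, rfl⟩
  obtain ⟨g, hgJ, hgG⟩ := SetLike.not_le_iff_exists.1 hN
  have hq3 := CfsgLib.ThompsonWielandt.le_three_of_index hq hG hGn hgG hJG hJ2 hgJ hQJ
    (CfsgLib.ThompsonWielandt.le_normalizer_map Q) hQ2 hJq hJn hchar'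
  have hq' : q = 3 := by have := hq.two_le; omega
  subst hq'
  set G' := G.map (MulAut.conj g).toMonoidHom with hG'
  have hne : G' ≠ G := by
    intro h
    refine hgG (hNG ▸ CfsgLib.ThompsonWielandt.mem_normalizer_of_conj_mem fun x hx => h.le ⟨x, hx, rfl⟩)
  have hJG' : J ≤ G' := by
    intro x hx
    refine ⟨g⁻¹ * x * g, hJG ?_, show g * (g⁻¹ * x * g) * g⁻¹ = x by group⟩
    have h1 := (Subgroup.mem_normalizer_iff.1 (inv_mem hgJ) x).1 hx
    rwa [inv_inv] at h1
  have hinf : G ⊓ G' = J := by
    refine le_antisymm ?_ (le_inf hJG hJG')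
    have h := Subgroup.relIndex_mul_relIndex J (G ⊓ G') G (le_inf hJG hJG') inf_le_left
    rw [hJq] at h
    rcases Nat.prime_three.eq_one_or_self_of_dvd _ (Dvd.intro _ h) with h1 | h1
    · exact Subgroup.relIndex_eq_one.1 h1
    · exfalso
      rw [h1] at h
      have hle : G ≤ G ⊓ G' := Subgroup.relIndex_eq_one.1 (by omega)
      exact hne (Subgroup.eq_of_le_of_card_ge (hle.trans inf_le_right)
        (Subgroup.card_map_of_injective (MulAut.conj g).injective).le).symm
  have hstruct := CfsgLib.ThompsonWielandt.cubic_structure (g := g) hG hGn hne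
    (by rw [hinf]; exact hgJ) (by rw [hinf]; exact hJq) (by rw [hinf]; exact hJ2)
    (by rw [hinf]; exact fun h => hJn ((Subgroup.normal_subgroupOf_iff_le_normalizer hJG).1 h))
  have hQbig : 3 ≤ Nat.card Q := by
    by_contra hlt
    have hQc : ∀ x : ↥G, x ∈ Subgroup.centralizer (Q : Set ↥G) := by
      intro x
      rw [Subgroup.mem_centralizer_iff]
      intro y hy
      have hy2 : Nat.card Q ≤ 2 := by omega
      have h1 : x * y * x⁻¹ ∈ Q := (inferInstance : Q.Normal).conj_mem y hy x
      by_contra hne'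
      have ha : y ≠ 1 := fun h => hne' (by rw [h, one_mul, mul_one])
      have hb : x * y * x⁻¹ ≠ y := fun h => hne' (by rw [mul_inv_eq_iff_eq_mul] at h; exact h.symm)
      have hc : x * y * x⁻¹ ≠ 1 := fun h => ha (conj_eq_one_iff.1 h)
      haveI := Fintype.ofFinite Q
      have : ({⟨1, one_mem _⟩, ⟨y, hy⟩, ⟨_, h1⟩} : Finset Q).card ≤ 2 := by
        refine (Finset.card_le_univ _).trans ?_
        rw [← Nat.card_eq_fintype_card]; exact hy2
      rw [Finset.card_insert_of_notMem (by simp [Subtype.ext_iff, Ne.symm ha, Ne.symm hc]),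
        Finset.card_pair (by simp [Subtype.ext_iff, Ne.symm hb])] at this
      omega
    have htop : Q = ⊤ := top_le_iff.1 fun x _ => hchar (hQc x)
    rw [htop, Subgroup.index_top] at hidx
    omega
  rcases hstruct with ⟨⟨f⟩⟩ | ⟨⟨f⟩⟩ | h4
  · exfalso
    rw [Nat.card_congr f.toEquiv, Nat.card_perm, Nat.card_fin] at hGcard
    rw [show Nat.factorial 3 = 6 from rfl] at hGcard
    omega
  · exfalso
    rw [Nat.card_congr f.toEquiv, DihedralGroup.nat_card] at hGcard
    omega
  · exact h4

end Cfsg.Agent.S2772
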