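import Cfsg.Statements.S2779
import Cfsg.Agent.Lib.SL2.NaturalModule

set_option autoImplicit false
open Cfsg
open scoped commutatorElement
set_option linter.style.haveILetI false

namespace Cfsg.Agent.S2779

/-- Let L act on the elementary abelian p-group V (inside a finite group, by conjugation, faithfully) as SL₂(F) on its natural module, F a field with p^n elements, and let S be a Sylow p-subgroup of L. Then [V, S, S] = 1; |V| = p^(2n) and |C_V(S)| = p^n; and for every nonidentity s ∈ S and every v ∈ V outside C_V(S): C_V(s) = C_V(S) = [V, S] = [V, s] = the subgroup generated by the commutators [v, t], t ∈ S. -/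
theorem result {G : Type*} [Group G] [Finite G] {p : ℕ} [Fact p.Prime] {F : Type*} [Field F] [Fintype F] (n : ℕ) (hF : Fintype.card F = p ^ n) (V L : Subgroup G) (hnat : Cfsg.IsNaturalSL2Module F V L) (hf : L ⊓ Subgroup.centralizer (V : Set G) = ⊥) (S : Sylow p ↥L) (T : Subgroup G) (hT : T = ((S : Subgroup ↥L).map L.subtype)) : ⁅⁅V, T⁆, T⁆ = ⊥ ∧ Nat.card V = p ^ (2 * n) ∧ Nat.card ↥(V ⊓ Subgroup.centralizer ((T : Subgroup G) : Set G)) = p ^ n ∧ ∀ s ∈ T, s ≠ 1 → (V ⊓ Subgroup.centralizer ({s} : Set G)) = (V ⊓ Subgroup.centralizer ((T : Subgroup G) : Set G)) ∧ ⁅V, T⁆ = (V ⊓ Subgroup.centralizer ((T : Subgroup G) : Set G)) ∧ ⁅V, Subgroup.zpowers s⁆ = (V ⊓ Subgroup.centralizer ((T : Subgroup G) : Set G)) ∧ ∀ v ∈ V, v ∉ Subgroup.centralizer (T : Set G) → Subgroup.closure {x : G | ∃ t ∈ T, x = v * t * v⁻¹ * t⁻¹} = (V ⊓ Subgroup.centralizer ((T : Subgroup G) : Set G)) := by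
  obtain ⟨R⟩ := CfsgLib.SL2.Natural.exists_frame hF hnat hf S hT
  set W := V ⊓ Subgroup.centralizer ((T : Subgroup G) : Set G) with hW
  have hFc : Nat.card F = p ^ n := Nat.card_eq_fintype_card.trans hF
  have hVT : ⁅V, T⁆ ≤ W := by
    rw [Subgroup.commutator_le]
    intro v hv x hx
    obtain ⟨w, rfl⟩ := (R.mem_V v).mp hv
    obtain ⟨t, ht⟩ := (R.mem_T ⟨x, R.T_le hx⟩).mp hx
    rw [commutatorElement_def, R.comm w ⟨x, R.T_le hx⟩, R.mem_fix, ht, CfsgLib.SL2.up_coe]
    refine ⟨-(t * w 1), congrArg R.f ?_⟩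
    funext i
    fin_cases i <;> simp [Matrix.mulVec, dotProduct, Fin.sum_univ_two]
  refine ⟨?_, ?_, ?_, fun s hs hs1 => ?_⟩
  · rw [Subgroup.commutator_eq_bot_iff_le_centralizer]
    exact hVT.trans inf_le_right
  · rw [R.card_V, hFc, ← pow_mul, mul_comm]
  · rw [hW, R.card_fix, hFc]
  · obtain ⟨t, ht⟩ := (R.mem_T ⟨s, R.T_le hs⟩).mp hs
    have ht0 : t ≠ 0 := by
      rintro rfl
      rw [CfsgLib.SL2.up_zero, map_eq_one_iff R.ρ R.ρ.injective] at ht
      exact hs1 (congrArg Subtype.val ht)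
    have hfix : V ⊓ Subgroup.centralizer ({s} : Set G) = W := by
      apply le_antisymm
      · rintro x ⟨hxV, hxC⟩
        obtain ⟨v, rfl⟩ := (R.mem_V x).mp hxV
        have h := (R.centralizes_iff v ⟨s, R.T_le hs⟩ ht).mp (Subgroup.mem_centralizer_iff.mp hxC s rfl)
        rw [mul_eq_zero] at h
        rw [hW, R.mem_fix]
        refine ⟨v 0, congrArg R.f ?_⟩
        funext i
        fin_cases i <;> simp [h.resolve_left ht0]
      · exact inf_le_inf_left _ (Subgroup.centralizer_le (by simpa using hs))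
    have hWs : W ≤ ⁅V, Subgroup.zpowers s⁆ := by
      intro x hx
      rw [hW, R.mem_fix] at hx
      obtain ⟨a, rfl⟩ := hx
      have hmem := Subgroup.commutator_mem_commutator ((R.mem_V _).mpr ⟨![0, -a / t], rfl⟩)
        (Subgroup.mem_zpowers s)
      rw [commutatorElement_def, R.comm _ ⟨s, R.T_le hs⟩, ht, CfsgLib.SL2.up_coe] at hmem
      convert hmem using 1
      congr 1
      funext i
      fin_cases i <;> simp [Matrix.mulVec, dotProduct, Fin.sum_univ_two] <;> field_simp
    have hle : ⁅V, Subgroup.zpowers s⁆ ≤ ⁅V, T⁆ :=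
      Subgroup.commutator_mono le_rfl (by rwa [Subgroup.zpowers_le])
    refine ⟨hfix, le_antisymm hVT (hWs.trans hle), le_antisymm (hle.trans hVT) hWs, fun v hv hvC => ?_⟩
    obtain ⟨w, rfl⟩ := (R.mem_V v).mp hv
    have hw1 : w 1 ≠ 0 := by
      intro h0
      have : R.f w ∈ W := by
        rw [hW, R.mem_fix]
        refine ⟨w 0, congrArg R.f ?_⟩
        funext i
        fin_cases i <;> simp [h0]
      exact hvC this.2
    apply le_antisymm
    · refine (Subgroup.closure_le _).mpr ?_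
      rintro _ ⟨u, hu, rfl⟩
      exact hVT (Subgroup.commutator_mem_commutator hv hu)
    · intro x hx
      rw [hW, R.mem_fix] at hx
      obtain ⟨a, rfl⟩ := hx
      obtain ⟨l, hl, hlt⟩ := R.exists_up (-a / w 1)
      refine Subgroup.subset_closure ⟨(l : G), hl, ?_⟩
      rw [R.comm w l, hlt, CfsgLib.SL2.up_coe]
      congr 1
      funext i
      fin_cases i <;> simp [Matrix.mulVec, dotProduct, Fin.sum_univ_two] <;> field_simp

end Cfsg.Agent.S2779
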