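import Cfsg.Statements.S2780
import Cfsg.Agent.Lib.SL2.NaturalModule

set_option autoImplicit false
open Cfsg
open scoped commutatorElement
set_option linter.style.haveILetI false

namespace Cfsg.Agent.S2780

/-- Let L act on the elementary abelian p-group V (inside a finite group, faithfully) as SL₂(F) on its natural module, F a field with p^n elements, S a Sylow p-subgroup of L. Then: for every g ∈ L not normalizing S, V is the internal direct product of C_V(S) and C_V(gSg⁻¹); every nonidentity element of L of order prime to p acts on V without nonidentity fixed points; and C_V(S) and V/C_V(S) are irreducible for N_L(S): the only N_L(S)-invariant subgroups of C_V(S) are 1 and C_V(S), and the only N_L(S)-invariant subgroups between C_V(S) and V are those two. -/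
theorem result {G : Type*} [Group G] [Finite G] {p : ℕ} [Fact p.Prime] {F : Type*} [Field F] [Fintype F] (n : ℕ) (hF : Fintype.card F = p ^ n) (V L : Subgroup G) (hnat : Cfsg.IsNaturalSL2Module F V L) (hf : L ⊓ Subgroup.centralizer (V : Set G) = ⊥) (S : Sylow p ↥L) (T : Subgroup G) (hT : T = ((S : Subgroup ↥L).map L.subtype)) : (∀ g ∈ L, g ∉ Subgroup.normalizer (T : Set G) → Cfsg.IsInternalDirectProduct (V ⊓ Subgroup.centralizer ((T : Subgroup G) : Set G)) (V ⊓ Subgroup.centralizer ((T.map (MulAut.conj g).toMonoidHom : Subgroup G) : Set G)) V) ∧ (∀ x ∈ L, x ≠ 1 → (orderOf x).Coprime p → (V ⊓ Subgroup.centralizer ({x} : Set G)) = ⊥) ∧ (∀ U : Subgroup G, U ≤ (V ⊓ Subgroup.centralizer ((T : Subgroup G) : Set G)) → L ⊓ Subgroup.normalizer (T : Set G) ≤ Subgroup.normalizer (U : Set G) → U = ⊥ ∨ U = (V ⊓ Subgroup.centralizer ((T : Subgroup G) : Set G))) ∧ (∀ U : Subgroup G, (V ⊓ Subgroup.centralizer ((T : Subgroup G) : Set G)) ≤ U → U ≤ V → L ⊓ Subgroup.normalizer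 (T : Set G) ≤ Subgroup.normalizer (U : Set G) → U = (V ⊓ Subgroup.centralizer ((T : Subgroup G) : Set G)) ∨ U = V) := by
  obtain ⟨R⟩ := CfsgLib.SL2.Natural.exists_frame hF hnat hf S hT
  haveI := CfsgLib.SL2.Natural.charP_of_card hF
  set W := V ⊓ Subgroup.centralizer ((T : Subgroup G) : Set G) with hW
  have hcomm : ∀ a ∈ V, ∀ b ∈ V, a * b = b * a := by
    intro a ha b hb
    obtain ⟨x, rfl⟩ := (R.mem_V a).mp ha
    obtain ⟨y, rfl⟩ := (R.mem_V b).mp hb
    rw [← R.f_add, ← R.f_add, add_comm]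
  have hVnorm : ∀ g ∈ L, ∀ x ∈ V, g * x * g⁻¹ ∈ V := fun g hg x hx =>
    (Subgroup.mem_normalizer_iff.mp (hnat.1 hg) x).mp hx
  refine ⟨fun g hg hgn => ?_, fun x hx hx1 hxo => ?_, fun U hU hUn => ?_, fun U hU1 hU2 hUn => ?_⟩
  · have hc : (R.ρ ⟨g, hg⟩).1 1 0 ≠ 0 := fun h0 => hgn (R.borel_normalizes _ h0)
    have hmem : ∀ x, x ∈ V ⊓ Subgroup.centralizer ((T.map (MulAut.conj g).toMonoidHom : Subgroup G) : Set G) ↔
        ∃ a : F, R.f ![(R.ρ ⟨g, hg⟩).1 0 0 * a, (R.ρ ⟨g, hg⟩).1 1 0 * a] = x := by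
      intro x
      have hconj : ∀ a : F, g * R.f ![a, 0] * g⁻¹ =
          R.f ![(R.ρ ⟨g, hg⟩).1 0 0 * a, (R.ρ ⟨g, hg⟩).1 1 0 * a] := by
        intro a
        rw [R.conj ⟨g, hg⟩]
        congr 1
        funext i
        fin_cases i <;> simp [Matrix.mulVec, dotProduct, Fin.sum_univ_two]
      constructor
      · rintro ⟨hxV, hxC⟩
        have hy : g⁻¹ * x * g ∈ W := by
          refine ⟨by simpa using hVnorm g⁻¹ (L.inv_mem hg) x hxV, ?_⟩
          change _ ∈ Subgroup.centralizer _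
          rw [Subgroup.mem_centralizer_iff]
          intro t ht
          have h2 := Subgroup.mem_centralizer_iff.mp hxC (g * t * g⁻¹) ⟨t, ht, rfl⟩
          calc t * (g⁻¹ * x * g) = g⁻¹ * (g * t * g⁻¹ * x) * g := by group
            _ = g⁻¹ * (x * (g * t * g⁻¹)) * g := by rw [h2]
            _ = g⁻¹ * x * g * t := by group
        rw [hW, R.mem_fix] at hy
        obtain ⟨a, ha⟩ := hy
        exact ⟨a, by rw [← hconj, ha]; group⟩
      · rintro ⟨a, rfl⟩
        refine ⟨(R.mem_V _).mpr ⟨_, rfl⟩, ?_⟩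
        change _ ∈ Subgroup.centralizer _
        rw [Subgroup.mem_centralizer_iff, ← hconj]
        rintro _ ⟨t, ht, rfl⟩
        have h2 : R.f ![a, 0] ∈ W := by rw [hW, R.mem_fix]; exact ⟨a, rfl⟩
        have h3 := Subgroup.mem_centralizer_iff.mp h2.2 t ht
        change g * t * g⁻¹ * (g * R.f ![a, 0] * g⁻¹) = g * R.f ![a, 0] * g⁻¹ * (g * t * g⁻¹)
        calc g * t * g⁻¹ * (g * R.f ![a, 0] * g⁻¹) = g * (t * R.f ![a, 0]) * g⁻¹ := by group
          _ = g * (R.f ![a, 0] * t) * g⁻¹ := by rw [h3]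
          _ = _ := by group
    refine ⟨inf_le_left, inf_le_left, fun a ha b hb => hcomm a ha.1 b hb.1, ?_, ?_⟩
    · rw [Subgroup.eq_bot_iff_forall]
      rintro x ⟨h1, h2⟩
      obtain ⟨a, rfl⟩ := (R.mem_fix x).mp h1
      obtain ⟨b, hb⟩ := (hmem _).mp h2
      have h := R.f_inj hb
      have hb0 : b = 0 := by simpa [hc] using congrFun h 1
      have ha0 : a = 0 := by simpa [hb0] using (congrFun h 0).symm
      rw [ha0, show (![0, 0] : Fin 2 → F) = 0 by funext i; fin_cases i <;> rfl, R.f_zero]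
    · refine le_antisymm (sup_le inf_le_left inf_le_left) fun x hx => ?_
      obtain ⟨v, rfl⟩ := (R.mem_V x).mp hx
      have hv : v = ![v 0 - (R.ρ ⟨g, hg⟩).1 0 0 * (v 1 / (R.ρ ⟨g, hg⟩).1 1 0), 0] +
          ![(R.ρ ⟨g, hg⟩).1 0 0 * (v 1 / (R.ρ ⟨g, hg⟩).1 1 0),
            (R.ρ ⟨g, hg⟩).1 1 0 * (v 1 / (R.ρ ⟨g, hg⟩).1 1 0)] := by
        funext i
        fin_cases i <;> simp
        field_simp
      rw [hv, R.f_add]
      exact Subgroup.mul_mem_sup ((R.mem_fix _).mpr ⟨_, rfl⟩) ((hmem _).mpr ⟨_, rfl⟩)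
  · rw [Subgroup.eq_bot_iff_forall]
    rintro y ⟨hyV, hyC⟩
    obtain ⟨v, rfl⟩ := (R.mem_V y).mp hyV
    by_contra hne
    have hv0 : v ≠ 0 := fun h => hne (h ▸ R.f_zero)
    have hfix : ((R.ρ ⟨x, hx⟩ : Matrix.SpecialLinearGroup (Fin 2) F) : Matrix (Fin 2) (Fin 2) F).mulVec v = v := by
      apply R.f_inj
      rw [← R.conj, mul_inv_eq_iff_eq_mul]
      exact Subgroup.mem_centralizer_iff.mp hyC x rfl
    set M := R.ρ ⟨x, hx⟩ with hM
    have hdet : ((M : Matrix (Fin 2) (Fin 2) F) - 1).det = 0 :=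
      Matrix.exists_mulVec_eq_zero_iff.mp ⟨v, hv0, by rw [Matrix.sub_mulVec, hfix, Matrix.one_mulVec, sub_self]⟩
    have htr : (M : Matrix (Fin 2) (Fin 2) F).trace = 2 := by
      have hd := CfsgLib.SL2.det_eq M
      rw [Matrix.det_fin_two] at hdet
      simp only [Matrix.sub_apply, Matrix.one_apply_eq, ne_eq, zero_ne_one, one_ne_zero,
        not_false_eq_true, Matrix.one_apply_ne, sub_zero] at hdet
      rw [Matrix.trace_fin_two]
      linear_combination hd - hdet
    have hreg : ¬ CfsgLib.SL2.Regular M := by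
      unfold CfsgLib.SL2.Regular
      rw [htr]
      norm_num
    have hpow : (M : Matrix (Fin 2) (Fin 2) F) ^ p = 1 := by
      rcases CfsgLib.SL2.pow_char_of_not_regular hreg p with ⟨h, -⟩ | ⟨h, h'⟩
      · exact h
      · have h4 : (2 : F) = -2 := htr.symm.trans h'
        have h22 : (2 : F) * 2 = 0 := by linear_combination h4
        have h2 : (2 : F) = 0 := by simpa using h22
        rw [h, ← neg_one_smul F (1 : Matrix (Fin 2) (Fin 2) F)]
        have : (-1 : F) = 1 := by linear_combination -h2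
        rw [this, one_smul]
    have hMp : M ^ p = 1 := Subtype.ext (by rw [Matrix.SpecialLinearGroup.coe_pow, hpow]; rfl)
    rw [hM, ← map_pow, map_eq_one_iff R.ρ R.ρ.injective] at hMp
    have hxp : x ^ p = 1 := congrArg Subtype.val hMp
    exact hx1 (orderOf_eq_one_iff.mp (Nat.eq_one_of_dvd_coprimes hxo dvd_rfl (orderOf_dvd_of_pow_eq_one hxp)))
  · rw [or_iff_not_imp_left]
    intro hne
    obtain ⟨y, hy, hy1⟩ := (Subgroup.bot_or_exists_ne_one U).resolve_left hne
    obtain ⟨a, rfl⟩ := (R.mem_fix y).mp (hU hy)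
    have ha : a ≠ 0 := by
      rintro rfl
      rw [show (![0, 0] : Fin 2 → F) = 0 by funext i; fin_cases i <;> rfl, R.f_zero] at hy1
      exact hy1 rfl
    refine le_antisymm hU fun z hz => ?_
    obtain ⟨b, rfl⟩ := (R.mem_fix z).mp hz
    by_cases hb : b = 0
    · rw [hb, show (![0, 0] : Fin 2 → F) = 0 by funext i; fin_cases i <;> rfl, R.f_zero]
      exact U.one_mem
    obtain ⟨l, hl, hlf⟩ := R.exists_diag (b / a) (div_ne_zero hb ha)
    have := (Subgroup.mem_normalizer_iff.mp (hUn hl) _).mp hy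
    rw [hlf, mul_zero, div_mul_cancel₀ _ ha] at this
    exact this
  · rw [or_iff_not_imp_left]
    intro hne
    obtain ⟨y, hy, hyW⟩ : ∃ y ∈ U, y ∉ W := by
      by_contra hcon
      push Not at hcon
      exact hne (le_antisymm hcon hU1)
    obtain ⟨v, rfl⟩ := (R.mem_V y).mp (hU2 hy)
    have hv1 : v 1 ≠ 0 := by
      intro h0
      apply hyW
      rw [hW, R.mem_fix]
      refine ⟨v 0, congrArg R.f ?_⟩
      funext i
      fin_cases i <;> simp [h0]
    refine le_antisymm hU2 fun z hz => ?_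
    obtain ⟨w, rfl⟩ := (R.mem_V z).mp hz
    by_cases hw : w 1 = 0
    · refine hU1 ((R.mem_fix _).mpr ⟨w 0, congrArg R.f ?_⟩)
      funext i
      fin_cases i <;> simp [hw]
    obtain ⟨l, hl, hlf⟩ := R.exists_diag (v 1 / w 1) (div_ne_zero hv1 hw)
    have h1 : R.f ![v 1 / w 1 * v 0, (v 1 / w 1)⁻¹ * v 1] ∈ U := by
      rw [← hlf, show ![v 0, v 1] = v by funext i; fin_cases i <;> rfl]
      exact (Subgroup.mem_normalizer_iff.mp (hUn hl) _).mp hy
    have h2 : R.f ![w 0 - v 1 / w 1 * v 0, 0] ∈ U := hU1 ((R.mem_fix _).mpr ⟨_, rfl⟩)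
    have hsum : w = ![w 0 - v 1 / w 1 * v 0, 0] + ![v 1 / w 1 * v 0, (v 1 / w 1)⁻¹ * v 1] := by
      funext i
      fin_cases i <;> simp
      field_simp
    rw [hsum, R.f_add]
    exact U.mul_mem h2 h1

end Cfsg.Agent.S2780
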