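import Mathlib
import Cfsg.Statements.S2781
import Cfsg.Agent.Lib.Coprime.Trace
import Cfsg.Agent.Lib.Coprime.Action
import Cfsg.Agent.Lib.Transfer.Basic

set_option autoImplicit false
set_option linter.style.haveILetI false
set_option linter.unusedVariables false
open Cfsg

open scoped commutatorElement

namespace Cfsg.Agent.S2781

/-- Let H act faithfully by conjugation on the elementary abelian p-subgroup V of a finite group, let O^p(H) be the subgroup of H generated by its elements of order prime to p, and T a Sylow p-subgroup of O^p(H). If V is generated by the H-conjugates of C_V(T) (V is the smallest H-invariant subgroup containing C_V(T)), then V = [V, O^p(H)]·C_V(O^p(H)). -/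
theorem result {G : Type*} [Group G] [Finite G] {p : ℕ} [Fact p.Prime] (V H : Subgroup G) (hV : Cfsg.IsElementaryAbelian p V) (hHV : H ≤ Subgroup.normalizer (V : Set G)) (hf : H ⊓ Subgroup.centralizer (V : Set G) = ⊥) (R : Subgroup G) (hR : R = (Cfsg.pResidual p ↥H).map H.subtype) (S : Sylow p ↥R) (T : Subgroup G) (hT : T = ((S : Subgroup ↥R).map R.subtype)) (hgen : ∀ W : Subgroup G, H ≤ Subgroup.normalizer (W : Set G) → (V ⊓ Subgroup.centralizer ((T : Subgroup G) : Set G)) ≤ W → V ≤ W) : ⁅V, R⁆ ⊔ (V ⊓ Subgroup.centralizer ((R : Subgroup G) : Set G)) = V := by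
  haveI := hV.1
  letI : CommGroup V := { (inferInstance : Group V) with mul_comm := fun a b => mul_comm' a b }
  haveI := CfsgLib.Transfer.pResidual_normal p ↥H
  have hRH : R ≤ H := hR ▸ Subgroup.map_subtype_le _
  have hHR : H ≤ Subgroup.normalizer (R : Set G) := by
    intro h hh
    refine Subgroup.mem_normalizer_fintype fun r hr => ?_
    simp only [hR, SetLike.mem_coe, Subgroup.mem_map] at hr ⊢
    obtain ⟨x, hx, rfl⟩ := hr
    exact ⟨⟨h, hh⟩ * x * ⟨h, hh⟩⁻¹, Subgroup.Normal.conj_mem inferInstance x hx _, by simp⟩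
  have hRV : R ≤ Subgroup.normalizer (V : Set G) := hRH.trans hHV
  refine le_antisymm (sup_le (CfsgLib.Coprime.commutator_le_left_of_le_normalizer hRV) inf_le_left) ?_
  refine hgen _ (CfsgLib.Coprime.le_normalizer_sup_of_le (CfsgLib.Coprime.le_normalizer_commutator hHV hHR)
    (CfsgLib.Coprime.le_normalizer_inf_of_le hHV (CfsgLib.Coprime.le_normalizer_centralizer hHR))) ?_
  rintro v ⟨hvV, hvT⟩
  set W := ⁅V, R⁆ ⊔ (V ⊓ Subgroup.centralizer ((R : Subgroup G) : Set G)) with hW
  let f : R →* MulAut V := (Subgroup.normalizerMonoidHom V).comp (Subgroup.inclusion hRV)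
  have hfv : ∀ (r : R) (a : V), ((f r a : V) : G) = r * a * (r : G)⁻¹ := fun r a => rfl
  obtain ⟨C, hC, hCc⟩ := CfsgLib.Coprime.exists_fixed_congr_pow_index f (S : Subgroup R) (⁅V, R⁆.subgroupOf V)
    (fun r a => by
      rw [Subgroup.mem_subgroupOf, Subgroup.coe_mul, InvMemClass.coe_inv, hfv, Subgroup.commutator_comm]
      exact Subgroup.commutator_mem_commutator r.2 a.2)
    ⟨v, hvV⟩ (fun t ht => Subtype.ext <| by
      rw [hfv, show (t : G) * v = v * t from hvT t (hT ▸ ⟨t, ht, rfl⟩), mul_inv_cancel_right])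
  have hk : ¬ p ∣ (S : Subgroup R).index := S.not_dvd_index
  have hCW : (C : G) ∈ W := Subgroup.mem_sup_right ⟨C.2, fun r hr => by
    have := congrArg Subtype.val (hC ⟨r, hr⟩)
    rw [hfv, mul_inv_eq_iff_eq_mul] at this
    exact this⟩
  have hvk : v ^ (S : Subgroup R).index ∈ W := by
    have h1 := Subgroup.mem_sup_left (T := V ⊓ Subgroup.centralizer ((R : Subgroup G) : Set G)) (Subgroup.mem_subgroupOf.mp hCc)
    simp only [Subgroup.coe_mul, InvMemClass.coe_inv, SubmonoidClass.coe_pow] at h1
    have := W.mul_mem (W.inv_mem h1) hCW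
    rwa [mul_inv_rev, inv_inv, inv_mul_cancel_right] at this
  obtain ⟨j, hj⟩ := exists_pow_eq_self_of_coprime (x := v)
    (Nat.Coprime.coprime_dvd_right (orderOf_dvd_of_pow_eq_one (hV.2 v hvV)) ((Fact.out : p.Prime).coprime_iff_not_dvd.mpr hk).symm)
  exact hj ▸ W.pow_mem hvk j

end Cfsg.Agent.S2781
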