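import Cfsg.Statements.S2787
import Cfsg.Agent.Lib.Quadratic.NoAction

set_option autoImplicit false
open Cfsg

namespace Cfsg.Agent.S2787

open CfsgLib CfsgLib.Quadratic
open scoped IsMulCommutative

theorem pCore_eq_bot_of_equiv {p : ℕ} {X Y : Type*} [Group X] [Finite X] [Group Y] [Fact p.Prime]
    (e : X ≃* Y) (h : Cfsg.pCore p Y = ⊥) : Cfsg.pCore p X = ⊥ := by
  haveI : Finite Y := Finite.of_equiv X e.toEquiv
  have hn : ((Cfsg.pCore p X).map e.toMonoidHom).Normal :=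
    (Fitting.pCore_normal p).map _ e.surjective
  have hle := Fitting.le_pCore hn ((Fitting.pCore_isPGroup p).map e.toMonoidHom)
  rw [h, le_bot_iff, Subgroup.map_eq_bot_iff] at hle
  exact le_bot_iff.1 (hle.trans (le_of_eq ((MonoidHom.ker_eq_bot_iff _).2 e.injective)))

theorem exists_sqComm_of_equiv {X Y : Type*} [Group X] [Finite X] [Group Y] (e : X ≃* Y)
    (h : ∃ T : Sylow 2 Y, SqComm (T : Subgroup Y)) : ∃ T : Sylow 2 X, SqComm (T : Subgroup X) := by
  haveI : Finite Y := Finite.of_equiv X e.toEquiv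
  obtain ⟨T, hT⟩ := h
  exact ⟨T.mapSurjective (f := e.symm.toMonoidHom) e.symm.surjective, sqComm_map _ hT⟩

theorem ree_facts {X : Type*} [Group X] [Finite X] (h : Cfsg.Lie.IsoRee X) :
    (∃ T : Sylow 2 X, SqComm (T : Subgroup X)) ∧ Cfsg.pCore 3 X = ⊥ := by
  haveI : Fact (Nat.Prime 3) := ⟨Nat.prime_three⟩
  obtain ⟨K, _, _, m, hm, hK, ⟨e⟩⟩ := h
  haveI := CfsgLib.Chev.charThree_G2 hK
  obtain ⟨hs, hnc⟩ := Cfsg.Agent.S1073.result hm hK
  haveI : Finite ↥(Cfsg.Lie.twistedG2 K (3 ^ m)) := Finite.of_equiv X e.toEquiv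
  refine ⟨exists_sqComm_of_equiv e ?_, pCore_eq_bot_of_equiv e ?_⟩
  · obtain ⟨f, hf, hK'⟩ := CfsgLib.Chev.setupG2 hK
    rw [← CfsgLib.Chev.fix_eq_twistedG2 f hf hK']
    let D := CfsgLib.Ree.reeData f hf hK' (Nat.le_self_pow (by omega) 3)
    refine ⟨D.S0, fun a ha b hb ha2 _ => absurd (D.S_sq a ha) ha2⟩
  · rcases hs.eq_bot_or_eq_top_of_normal _ (Fitting.pCore_normal 3) with h0 | h0
    · exact h0
    · exfalso
      apply hnc
      have hp : IsPGroup 3 ↥(Cfsg.Lie.twistedG2 K (3 ^ m)) := by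
        intro g
        obtain ⟨k, hk⟩ := Fitting.pCore_isPGroup (G := ↥(Cfsg.Lie.twistedG2 K (3 ^ m))) 3
          ⟨g, h0 ▸ Subgroup.mem_top g⟩
        exact ⟨k, congrArg Subtype.val hk⟩
      haveI := hs.toNontrivial
      rcases hs.eq_bot_or_eq_top_of_normal (Subgroup.center _) inferInstance with hc | hc
      · exact absurd (Subgroup.nontrivial_iff_ne_bot _ |>.1 hp.center_nontrivial) (not_not.2 hc)
      · exact ⟨⟨fun a b => (Subgroup.mem_center_iff.1 (hc ▸ Subgroup.mem_top a) b).symm⟩⟩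

/-- Let p be a prime and let H act by conjugation on the elementary abelian p-subgroup V of a finite group, irreducibly (no H-invariant subgroups of V other than 1 and V) and nontrivially, and suppose H/C_H(V) is isomorphic to PSL₂(F) for a field F with p^n elements, p^n odd, or p = 3 and H/C_H(V) is isomorphic to a Ree group ²G₂(3^(2m+1)), m ≥ 1. Then no subgroup A of H acting nontrivially on V acts quadratically: [V, A, A] = 1 forces [V, A] = 1. -/
theorem result {G : Type*} [Group G] [Finite G] {p : ℕ} [Fact p.Prime] (V H : Subgroup G) (hV : Cfsg.IsElementaryAbelian p V) (hHV : H ≤ Subgroup.normalizer (V : Set G)) (hirr : ∀ U : Subgroup G, U ≤ V → H ≤ Subgroup.normalizer (U : Set G) → U = ⊥ ∨ U = V) (hnt : ¬ H ≤ Subgroup.centralizer (V : Set G)) [hn : ((Subgroup.centralizer (V : Set G)).subgroupOf H).Normal] (hq : (∃ (F : Type) (_ : Field F) (_ : Fintype F) (n : ℕ), Fintype.card F = p ^ n ∧ Odd (Fintype.card F) ∧ Nonempty (↥H ⧸ (Subgroup.centralizer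 (V : Set G)).subgroupOf H ≃* Matrix.ProjectiveSpecialLinearGroup (Fin 2) F)) ∨ (p = 3 ∧ Cfsg.Lie.IsoRee (↥H ⧸ (Subgroup.centralizer (V : Set G)).subgroupOf H))) (A : Subgroup G) (hA : A ≤ H) (hquad : ⁅⁅V, A⁆, A⁆ = ⊥) : ⁅V, A⁆ = ⊥ := by
  haveI := hV.1
  let φ : ↥H ⧸ (Subgroup.centralizer (V : Set G)).subgroupOf H →* AddMonoid.End (Additive V) :=
    QuotientGroup.lift _ (act V H hHV) fun g hg =>
      (act_eq_one_iff V H hHV g).mpr (Subgroup.mem_subgroupOf.mp hg)
  have hinj : Function.Injective φ := (injective_iff_map_eq_one _).mpr fun x hx => by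
    obtain ⟨g, rfl⟩ := QuotientGroup.mk'_surjective _ x
    exact (QuotientGroup.eq_one_iff g).mpr
      (Subgroup.mem_subgroupOf.mpr ((act_eq_one_iff V H hHV g).mp hx))
  obtain ⟨hp2, ⟨T, hT⟩, hcore⟩ : p ≠ 2 ∧ (∃ T : Sylow 2 (↥H ⧸ (Subgroup.centralizer (V : Set G)).subgroupOf H),
      SqComm (T : Subgroup (↥H ⧸ (Subgroup.centralizer (V : Set G)).subgroupOf H))) ∧
      Cfsg.pCore p (↥H ⧸ (Subgroup.centralizer (V : Set G)).subgroupOf H) = ⊥ := by
    rcases hq with ⟨F, _, _, n, hF, hodd, ⟨e⟩⟩ | ⟨rfl, hR⟩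
    · have hn0 : n ≠ 0 := fun h0 => by
        rw [h0, pow_zero] at hF; exact Fintype.one_lt_card.ne' hF
      haveI : CharP F p := charP_of_card_eq_prime_pow hF
      have hodd' : Odd (Nat.card F) := by rw [Nat.card_eq_fintype_card]; exact hodd
      refine ⟨?_, exists_sqComm_of_equiv e (exists_sqComm_psl hodd'),
        pCore_eq_bot_of_equiv e (pCore_psl_eq_bot p)⟩
      rintro rfl
      rw [hF] at hodd
      exact Nat.not_odd_iff_even.2 (Nat.even_pow.2 ⟨even_two, hn0⟩) hodd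
    · exact ⟨by norm_num, ree_facts hR⟩
  rw [Subgroup.commutator_eq_bot_iff_le_centralizer, Subgroup.le_centralizer_iff]
  intro a ha
  by_contra hac
  refine not_quadratic_of_sqComm hp2 (act_nsmul hV) φ hinj (a := QuotientGroup.mk ⟨a, hA ha⟩) ?_ ?_ T hT
  · refine act_quadratic V H hHV (a := ⟨a, hA ha⟩) (le_bot_iff.1 (le_trans ?_ hquad.le))
    exact Subgroup.commutator_mono (Subgroup.commutator_mono le_rfl (by simpa using ha))
      (by simpa using ha)
  · rw [hcore, Subgroup.mem_bot, QuotientGroup.eq_one_iff]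
    exact fun h => hac (Subgroup.mem_subgroupOf.mp h)

end Cfsg.Agent.S2787
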