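import Cfsg.Statements.S2788
import Cfsg.Agent.Lib.SL2.Conj
import Cfsg.Agent.Lib.SL2.Dickson
import Cfsg.Agent.Lib.SL2.Torus
import Cfsg.Agent.Lib.SL2.NaturalModule
import Cfsg.Agent.Lib.SL2.Facts
import Cfsg.Agent.Lib.NumberTheory.Zsigmondy
-- import your own Cfsg.Agent.* helpers here

set_option autoImplicit false
open Cfsg

namespace Cfsg.Agent.S2788

open Matrix
open scoped MatrixGroups
open CfsgLib.SL2 (up lo)

section Orbit

variable {G : Type*} [Group G] [Finite G]

/-- An element of prime power order permutes freely outside the centralizer of its subgroup of prime order. -/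
theorem free_index {p : ℕ} [Fact p.Prime] {r k : ℕ} [hr : Fact r.Prime] (hk : 0 < k) (hrp : r ≠ p)
    (V : Subgroup G) (hV : IsPGroup p V) {u : G} (hu : orderOf u = r ^ k)
    (huV : u ∈ Subgroup.normalizer (V : Set G)) (hy : ∃ v ∈ V, u ^ (r ^ (k - 1)) * v ≠ v * u ^ (r ^ (k - 1))) :
    ∃ j : ℕ, 0 < j ∧ p ^ j ≡ 1 [MOD r ^ k] ∧ p ^ j ≤ (V ⊓ Subgroup.centralizer ({u} : Set G)).relIndex V := by
  classical
  haveI := Fintype.ofFinite G
  set y := u ^ (r ^ (k - 1)) with hydef
  set C := V ⊓ Subgroup.centralizer ({y} : Set G) with hC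
  let Ω := {v : G // v ∈ V ∧ v ∉ C}
  let U := Subgroup.zpowers u
  have hmem : ∀ g ∈ U, ∀ v, v ∈ V → g * v * g⁻¹ ∈ V := by
    intro g hg
    have : U ≤ Subgroup.normalizer (V : Set G) := by
      rw [Subgroup.zpowers_le]
      exact huV
    exact fun v hv => (Subgroup.mem_normalizer_iff.mp (this hg) v).mp hv
  have hcomm : ∀ g ∈ U, g * y = y * g := by
    intro g hg
    obtain ⟨i, rfl⟩ := Subgroup.mem_zpowers_iff.mp hg
    exact (((Commute.refl u).pow_right _).zpow_left i).eq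
  have hnC : ∀ g ∈ U, ∀ v, v ∉ C → v ∈ V → g * v * g⁻¹ ∉ C := by
    intro g hg v hv hvV h
    refine hv ⟨hvV, Subgroup.mem_centralizer_singleton_iff.mpr ?_⟩
    have h2 : g * v * g⁻¹ * y = y * (g * v * g⁻¹) := Subgroup.mem_centralizer_singleton_iff.mp h.2
    have hgy := hcomm g⁻¹ (inv_mem hg)
    calc v * y = g⁻¹ * (g * v * g⁻¹ * y) * g := by
          rw [show g⁻¹ * (g * v * g⁻¹ * y) * g = v * (g⁻¹ * y) * g by group, hgy]; group
      _ = g⁻¹ * (y * (g * v * g⁻¹)) * g := by rw [h2]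
      _ = (g⁻¹ * y) * g * v := by group
      _ = y * v := by rw [hgy]; group
  letI : MulAction U Ω :=
    { smul := fun g v => ⟨(g : G) * v.1 * (g : G)⁻¹, hmem g g.2 v.1 v.2.1, hnC g g.2 v.1 v.2.2 v.2.1⟩
      one_smul := fun v => Subtype.ext (show (1 : G) * v.1 * (1 : G)⁻¹ = v.1 by group)
      mul_smul := fun g h v => Subtype.ext
        (show ((g : G) * h) * v.1 * ((g : G) * h)⁻¹ = (g : G) * ((h : G) * v.1 * (h : G)⁻¹) * (g : G)⁻¹ by group) }
  have hfree : ∀ v : Ω, MulAction.stabilizer U v = ⊥ := by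
    intro v
    rw [Subgroup.eq_bot_iff_forall]
    intro g hg
    by_contra hg1
    have hg1' : (g : G) ≠ 1 := fun e => hg1 (Subtype.ext e)
    have hcard : Nat.card (Subgroup.zpowers (g : G)) ∣ r ^ k := by
      rw [← hu, ← Nat.card_zpowers]
      exact Subgroup.card_dvd_of_le (by rw [Subgroup.zpowers_le]; exact g.2)
    obtain ⟨j, hj, hcj⟩ := (Nat.dvd_prime_pow hr.out).mp hcard
    have hy' : y ∈ Subgroup.zpowers (g : G) := by
      obtain ⟨i, hi⟩ : ∃ i : ℕ, u ^ i = (g : G) := (isOfFinOrder_of_finite u).mem_powers_iff_mem_zpowers.mpr g.2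
      have hj0 : j ≠ 0 := fun e => hg1' (by
        rw [e, pow_zero, Nat.card_zpowers, orderOf_eq_one_iff] at hcj
        exact hcj)
      rw [Nat.card_zpowers, ← hi, orderOf_pow, hu] at hcj
      have hd : (r ^ k).gcd i = r ^ (k - j) := by
        have h1 := Nat.div_mul_cancel (Nat.gcd_dvd_left (r ^ k) i)
        rw [hcj, show r ^ k = r ^ j * r ^ (k - j) by rw [← pow_add]; congr 1; omega] at h1
        rw [show r ^ k = r ^ j * r ^ (k - j) by rw [← pow_add]; congr 1; omega]
        exact Nat.eq_of_mul_eq_mul_left (pow_pos hr.out.pos j) h1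
      have he : ∃ e : ℤ, (u ^ i) ^ e = u ^ (r ^ (k - j)) := by
        refine ⟨Nat.gcdB (r ^ k) i, ?_⟩
        rw [← zpow_natCast, ← _root_.zpow_mul, ← zpow_natCast u (r ^ (k - j)), ← hd, Nat.gcd_eq_gcd_ab, _root_.zpow_add,
          _root_.zpow_mul u ((r ^ k : ℕ) : ℤ), zpow_natCast, ← hu, pow_orderOf_eq_one, _root_.one_zpow, one_mul]
      obtain ⟨e, he⟩ := he
      have : y = (u ^ (r ^ (k - j))) ^ (r ^ (j - 1)) := by
        rw [← pow_mul, ← pow_add, hydef]; congr 2; omega
      rw [this, ← he, ← hi]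
      exact pow_mem (zpow_mem (Subgroup.mem_zpowers _) e) _
    have hfix : (g : G) * v.1 * (g : G)⁻¹ = v.1 := congrArg Subtype.val (MulAction.mem_stabilizer_iff.mp hg)
    apply v.2.2
    refine ⟨v.2.1, Subgroup.mem_centralizer_singleton_iff.mpr ?_⟩
    obtain ⟨e, he⟩ := Subgroup.mem_zpowers_iff.mp hy'
    rw [← he]
    exact ((Commute.zpow_left (mul_inv_eq_iff_eq_mul.mp hfix) e).eq).symm
  have hdvd : r ^ k ∣ Nat.card Ω := by
    haveI : Fintype U := Fintype.ofFinite U
    rw [Nat.card_congr (MulAction.selfEquivSigmaOrbits U Ω), Nat.card_sigma]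
    refine Finset.dvd_sum fun o _ => ?_
    have := MulAction.index_stabilizer U (o.out)
    rw [hfree, Subgroup.index_bot, Nat.card_zpowers, hu, Set.ncard] at this
    exact dvd_of_eq (this.trans (Nat.card_coe_set_eq _).symm)
  have hCV : C ≤ V := inf_le_left
  have hsplit : Nat.card Ω + Nat.card C = Nat.card V := by
    have e1 : Nat.card Ω = Nat.card ((V : Set G) \ (C : Set G) : Set G) := rfl
    rw [e1, ← SetLike.coe_sort_coe C, ← SetLike.coe_sort_coe V]
    simp only [Nat.card_coe_set_eq]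
    exact Set.ncard_sdiff_add_ncard_of_subset (fun x hx => hCV hx)
  obtain ⟨c, hc⟩ := (hV.to_le hCV).exists_card_eq
  obtain ⟨w, hw⟩ := hV.exists_card_eq
  have hidx : C.relIndex V * Nat.card C = Nat.card V := by
    rw [mul_comm]
    have := Subgroup.relIndex_mul_relIndex ⊥ C V bot_le hCV
    rwa [Subgroup.relIndex_bot_left, Subgroup.relIndex_bot_left] at this
  have hlt : Nat.card C < Nat.card V := by
    refine lt_of_le_of_ne (Nat.le_of_dvd Nat.card_pos (Subgroup.card_dvd_of_le hCV)) fun e => ?_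
    have hCe : C = V := Subgroup.eq_of_le_of_card_ge hCV e.ge
    obtain ⟨v, hv, hne⟩ := hy
    rw [← hCe] at hv
    exact hne (Subgroup.mem_centralizer_singleton_iff.mp hv.2).symm
  rw [hc, hw] at hlt hidx hsplit
  have hcw : c < w := (Nat.pow_lt_pow_iff_right (Fact.out : p.Prime).one_lt).mp hlt
  obtain ⟨j, rfl⟩ := Nat.exists_eq_add_of_lt hcw
  have hj : C.relIndex V = p ^ (j + 1) := Nat.eq_of_mul_eq_mul_right (pow_pos (Fact.out : p.Prime).pos c)
    (by rw [hidx, ← pow_add]; congr 1; omega)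
  refine ⟨j + 1, by omega, ?_, ?_⟩
  · have h1 : r ^ k ∣ p ^ c * (p ^ (j + 1) - 1) := by
      rw [Nat.mul_sub, mul_one, ← pow_add, show c + (j + 1) = c + j + 1 by omega, ← hsplit,
        Nat.add_sub_cancel]
      exact hdvd
    have hco : Nat.Coprime (r ^ k) (p ^ c) :=
      Nat.Coprime.pow k c ((Nat.coprime_primes hr.out (Fact.out : p.Prime)).mpr hrp)
    exact ((Nat.modEq_iff_dvd' (Nat.one_le_pow _ _ (Fact.out : p.Prime).pos)).mpr (hco.dvd_of_dvd_mul_left h1)).symm
  · rw [← hj]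
    refine Subgroup.relIndex_le_of_le_left (inf_le_inf_left V ?_) Subgroup.index_ne_zero_of_finite
    intro v hv
    rw [Subgroup.mem_centralizer_singleton_iff] at hv ⊢
    exact (Commute.pow_right (show Commute v u from hv) _).eq

end Orbit

section Model

variable {F : Type*} [Field F]

theorem lo_eq_conj (s v : F) (hv : v ≠ 0) : ∃ k : SL(2, F), k * up s * k⁻¹ = lo (-(s * v ^ 2)) := by
  obtain ⟨k, hk⟩ : ∃ k : SL(2, F), (k : Matrix (Fin 2) (Fin 2) F) = !![0, -v⁻¹; v, 0] :=
    ⟨⟨!![0, -v⁻¹; v, 0], by simp [Matrix.det_fin_two_of, hv]⟩, rfl⟩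
  refine ⟨k, ?_⟩
  rw [mul_inv_eq_iff_eq_mul]
  apply Subtype.ext
  simp only [Matrix.SpecialLinearGroup.coe_mul, hk, CfsgLib.SL2.up_coe, CfsgLib.SL2.lo_coe]
  ext i j
  fin_cases i <;> fin_cases j <;> simp [Matrix.mul_apply, Fin.sum_univ_two] <;> field_simp <;> ring

/-- An element of odd order `m` is the square of a product of two conjugates of a given unipotent. -/
theorem two_conjugates [Finite F] (p : ℕ) [Fact p.Prime] [CharP F p] {z : SL(2, F)} {m : ℕ} (hzm : orderOf z = m)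
    (hodd : Odd m) (hm1 : 1 < m) (hmp : m.Coprime p) {s : F} (hs : s ≠ 0) :
    ∃ k : SL(2, F), orderOf ((up s * (k * up s * k⁻¹)) ^ 2) = m := by
  have hz : CfsgLib.SL2.Regular z := by
    by_contra h
    have h1 := orderOf_dvd_of_pow_eq_one (CfsgLib.SL2.pow_two_mul_char_of_not_regular h p)
    rw [hzm] at h1
    have := Nat.eq_one_of_dvd_coprimes (Nat.Coprime.mul_right hodd.coprime_two_right hmp) dvd_rfl h1
    omega
  set t := (z : Matrix (Fin 2) (Fin 2) F).trace with ht
  obtain ⟨l, hl⟩ := hodd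
  set w := z ^ (l + 1) with hw
  have hww : w * w = z := by
    rw [hw, ← pow_add, show l + 1 + (l + 1) = m + 1 by omega, pow_succ, ← hzm, pow_orderOf_eq_one, one_mul]
  set τ := (w : Matrix (Fin 2) (Fin 2) F).trace with hτ
  have htr : t = τ ^ 2 - 2 := by
    rw [ht, hτ, ← hww, Matrix.SpecialLinearGroup.coe_mul, CfsgLib.SL2.cayley, w.det_coe, one_smul,
      Matrix.trace_sub, Matrix.trace_smul, Matrix.trace_one]
    simp [sq]
  have hτ0 : τ ≠ 0 := by
    intro h0
    apply hz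
    show t * t = 4
    rw [htr, h0]; ring
  obtain ⟨k, hk⟩ := lo_eq_conj s (τ / s) (div_ne_zero hτ0 hs)
  let z' : SL(2, F) := ⟨-(z : Matrix (Fin 2) (Fin 2) F), by rw [Matrix.det_neg, z.det_coe]; simp⟩
  have hz't : (z' : Matrix (Fin 2) (Fin 2) F).trace = -t := Matrix.trace_neg _
  set x := up s * (k * up s * k⁻¹) with hx
  have hxt : (x : Matrix (Fin 2) (Fin 2) F).trace = -t := by
    rw [hx, hk, Matrix.SpecialLinearGroup.coe_mul, CfsgLib.SL2.up_coe, CfsgLib.SL2.lo_coe, Matrix.trace_fin_two, htr]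
    simp [Matrix.mul_apply, Fin.sum_univ_two]
    field_simp
    ring
  have h4 : -t * -t ≠ 4 := by rw [neg_mul_neg]; exact hz
  obtain ⟨g, hg⟩ := CfsgLib.SL2.isConj_of_trace (g := z') (h := x)
    (CfsgLib.SL2.nonScalar_of_trace _ (by rw [hz't]; exact h4))
    (CfsgLib.SL2.nonScalar_of_trace _ (by rw [hxt]; exact h4)) (hz't.trans hxt.symm) (Or.inl (by rw [hz't]; exact h4))
  refine ⟨k, ?_⟩
  have hsq : z' ^ 2 = z ^ 2 := by
    apply Subtype.ext
    simp only [Matrix.SpecialLinearGroup.coe_pow]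
    show (-(z : Matrix (Fin 2) (Fin 2) F)) ^ 2 = _
    rw [neg_sq]
  rw [← hx, ← hg, ← MulAut.conj_apply, ← map_pow, MulEquiv.orderOf_eq, hsq, orderOf_pow, hzm,
    show m.gcd 2 = 1 from Nat.Coprime.gcd_eq_one (show m.Coprime 2 from Odd.coprime_two_right ⟨l, hl⟩), Nat.div_one]

end Model

/-- Let H act faithfully by conjugation on the elementary abelian p-subgroup V of a finite group with H ≅ SL₂(F), F a field with p^n elements, S a Sylow p-subgroup of H, and A ≤ S a subgroup of order at least 3 acting quadratically on V ([V, A, A] = 1). Then |V/C_V(a)| ≥ p^n for every nonidentity a ∈ A. -/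
theorem result {G : Type*} [Group G] [Finite G] {p : ℕ} [Fact p.Prime] (V H : Subgroup G) (hV : Cfsg.IsElementaryAbelian p V) (hHV : H ≤ Subgroup.normalizer (V : Set G)) (hf : H ⊓ Subgroup.centralizer (V : Set G) = ⊥) {F : Type*} [Field F] [Fintype F] (n : ℕ) (hF : Fintype.card F = p ^ n) (hiso : Nonempty (↥H ≃* Matrix.SpecialLinearGroup (Fin 2) F)) (S : Sylow p ↥H) (T : Subgroup G) (hT : T = ((S : Subgroup ↥H).map H.subtype)) (A : Subgroup G) (hA : A ≤ T) (hA3 : 3 ≤ Nat.card A) (hquad : ⁅⁅V, A⁆, A⁆ = ⊥) : ∀ a ∈ A, a ≠ 1 → p ^ n ≤ ((V ⊓ Subgroup.centralizer ({a} : Set G))).relIndex V := by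
  classical
  intro a ha ha1
  have hn : n ≠ 0 := by
    rintro rfl
    have := Fintype.one_lt_card (α := F)
    rw [hF] at this
    simp at this
  haveI := CfsgLib.SL2.Natural.charP_of_card hF
  have hp := (Fact.out : p.Prime)
  obtain ⟨e⟩ := hiso
  have haH : a ∈ H := by
    have := hA ha
    rw [hT] at this
    obtain ⟨b, -, rfl⟩ := this
    exact b.2
  have hVp : IsPGroup p V := by
    intro v
    exact ⟨1, by rw [pow_one]; exact Subtype.ext (hV.2 v v.2)⟩
  have hnorm : ∀ h ∈ H, ∀ v ∈ V, h * v * h⁻¹ ∈ V := fun h hh v hv => (Subgroup.mem_normalizer_iff.mp (hHV hh) v).mp hv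
  have hnc : ∀ h ∈ H, h ≠ 1 → ∃ v ∈ V, h * v ≠ v * h := by
    intro h hh hh1
    by_contra hc
    push Not at hc
    have : h ∈ H ⊓ Subgroup.centralizer (V : Set G) :=
      ⟨hh, Subgroup.mem_centralizer_iff.mpr fun v hv => (hc v hv).symm⟩
    rw [hf, Subgroup.mem_bot] at this
    exact hh1 this
  set Ca := V ⊓ Subgroup.centralizer ({a} : Set G) with hCa
  obtain ⟨j, hj⟩ : ∃ j, Ca.relIndex V = p ^ j := by
    have hd := Subgroup.relIndex_mul_relIndex ⊥ Ca V bot_le inf_le_left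
    rw [Subgroup.relIndex_bot_left, Subgroup.relIndex_bot_left] at hd
    obtain ⟨w, hw⟩ := hVp.exists_card_eq
    obtain ⟨j, -, hj⟩ := (Nat.dvd_prime_pow hp).mp (hw ▸ Dvd.intro_left _ hd)
    exact ⟨j, hj⟩
  rw [hj]
  refine Nat.pow_le_pow_right hp.pos ?_
  have hj0 : j ≠ 0 := by
    rintro rfl
    rw [pow_zero, Subgroup.relIndex_eq_one] at hj
    obtain ⟨v, hv, hne⟩ := hnc a haH ha1
    exact hne (Subgroup.mem_centralizer_singleton_iff.mp (hj hv).2).symm
  by_cases hn1 : n = 1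
  · omega
  -- the prime power
  have hcard : Nat.card SL(2, F) = p ^ n * ((p ^ n - 1) * (p ^ n + 1)) := by
    rw [CfsgLib.SL2.card_SL_two', Nat.card_eq_fintype_card, hF]
  obtain ⟨r, k, hr, hrp, hk, hro, hord, z, hz⟩ : ∃ r k : ℕ, r.Prime ∧ r ≠ p ∧ 0 < k ∧ Odd r ∧
      (∀ j, 0 < j → p ^ j ≡ 1 [MOD r ^ k] → 2 * n ≤ j) ∧ ∃ z : SL(2, F), orderOf z = r ^ k := by
    by_cases h6 : p = 2 ∧ 2 * n = 6
    · obtain ⟨rfl, h6⟩ := h6
      obtain rfl : n = 3 := by omega
      refine ⟨3, 2, Nat.prime_three, by norm_num, by norm_num, by decide, fun j hj0 hj => ?_, ?_⟩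
      · by_contra hlt
        push Not at hlt
        interval_cases j <;> revert hj <;> decide
      · haveI := Fact.mk Nat.prime_three
        obtain ⟨y, hy⟩ := exists_prime_orderOf_dvd_card' (G := SL(2, F)) 3 (by rw [hcard]; norm_num)
        have hreg : CfsgLib.SL2.Regular y := by
          by_contra h
          have h1 := orderOf_dvd_of_pow_eq_one (CfsgLib.SL2.pow_two_mul_char_of_not_regular h 2)
          rw [hy] at h1
          norm_num at h1
        obtain ⟨hc, hcc⟩ := CfsgLib.SL2.cent_regular hreg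
        have h3 := CfsgLib.SL2.orderOf_dvd_card_cent y
        rw [Nat.card_eq_fintype_card (α := F), hF] at hcc
        obtain ⟨gg, hgg⟩ := hc.exists_ofOrder_eq_natCard
        refine ⟨gg, ?_⟩
        rw [Subgroup.orderOf_coe, hgg]
        rw [hy] at h3
        rcases hcc with h | h
        · rw [h] at h3; norm_num at h3
        · rw [h]; norm_num
    · obtain ⟨r, hr, hrd, hrprim⟩ := CfsgLib.NumberTheory.exists_primitive_prime (a := p) (n := 2 * n)
        hp.one_lt (by omega) h6 (by omega)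
      have hpp : 1 ≤ p ^ n := Nat.one_le_pow _ _ hp.pos
      have hrd' : r ∣ p ^ n + 1 := by
        have h2 : p ^ (2 * n) - 1 = (p ^ n + 1) * (p ^ n - 1) := by
          rw [← Nat.sq_sub_sq, one_pow, ← pow_mul, mul_comm]
        rw [h2] at hrd
        exact ((Nat.Prime.dvd_mul hr).mp hrd).resolve_right (hrprim n (by omega) (by omega))
      have hrp : r ≠ p := by
        rintro rfl
        have := (Nat.dvd_add_right (dvd_pow_self r hn)).mp hrd'
        exact hp.one_lt.ne' (Nat.dvd_one.mp this)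
      have hr2 : r ≠ 2 := by
        rintro rfl
        refine hrprim n (by omega) (by omega) ?_
        have := Nat.dvd_sub hrd' (dvd_refl 2)
        rwa [show p ^ n + 1 - 2 = p ^ n - 1 by omega] at this
      refine ⟨r, 1, hr, hrp, one_pos, hr.odd_of_ne_two hr2, fun j hj0 hj => ?_, ?_⟩
      · by_contra hlt
        push Not at hlt
        rw [pow_one] at hj
        exact hrprim j hj0 hlt ((Nat.modEq_iff_dvd' (Nat.one_le_pow _ _ hp.pos)).mp hj.symm)
      · haveI := Fact.mk hr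
        obtain ⟨z, hz⟩ := exists_prime_orderOf_dvd_card' (G := SL(2, F)) r
          (by rw [hcard]; exact (hrd'.mul_left _).mul_left _)
        exact ⟨z, by rw [pow_one, hz]⟩
  haveI := Fact.mk hr
  -- the unipotent
  obtain ⟨g, hg⟩ := CfsgLib.SL2.exists_conj_upperSL p (S.mapSurjective (f := e.toMonoidHom) e.surjective)
  obtain ⟨s, hs⟩ : ∃ s : F, e ⟨a, haH⟩ = g * up s * g⁻¹ := by
    have h1 : e ⟨a, haH⟩ ∈ ((S.mapSurjective (f := e.toMonoidHom) e.surjective : Sylow p SL(2, F)) : Subgroup SL(2, F)) := by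
      have := hA ha
      rw [hT] at this
      obtain ⟨b, hb, hba⟩ := this
      refine ⟨b, hb, ?_⟩
      show e b = _
      congr 1
      exact Subtype.ext hba
    rw [hg] at h1
    obtain ⟨_, ⟨s, rfl⟩, hs⟩ := h1
    exact ⟨s.toAdd, hs.symm⟩
  have hs0 : s ≠ 0 := by
    rintro rfl
    rw [CfsgLib.SL2.up_zero, mul_one, mul_inv_cancel] at hs
    exact ha1 (congrArg Subtype.val (e.map_eq_one_iff.mp hs))
  obtain ⟨c, hc⟩ := two_conjugates p hz (hro.pow) (Nat.one_lt_pow hk.ne' hr.one_lt)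
    ((Nat.coprime_primes hr hp).mpr hrp |>.pow_left k) hs0
  set h : H := e.symm (g * c * g⁻¹) with hh
  set a' : G := (h : G) * a * (h : G)⁻¹ with ha'
  have ha'H : a' ∈ H := mul_mem (mul_mem h.2 haH) (inv_mem h.2)
  set u : G := (a * a') ^ 2 with hu
  have huo : orderOf u = r ^ k := by
    have e1 : e (⟨a, haH⟩ * (h * ⟨a, haH⟩ * h⁻¹)) = g * (up s * (c * up s * c⁻¹)) * g⁻¹ := by
      rw [map_mul, map_mul, map_mul, map_inv, hh, e.apply_symm_apply, hs]; group
    have e2 : u = ((⟨a, haH⟩ * (h * ⟨a, haH⟩ * h⁻¹) : H) ^ 2 : H) := rfl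
    rw [e2, Subgroup.orderOf_coe, ← e.orderOf_eq, map_pow, e1, ← MulAut.conj_apply, ← map_pow,
      MulEquiv.orderOf_eq, hc]
  have huH : u ∈ H := pow_mem (mul_mem haH ha'H) 2
  have hy : u ^ (r ^ (k - 1)) ≠ 1 := by
    intro e1
    have h1 := orderOf_dvd_of_pow_eq_one e1
    rw [huo, Nat.pow_dvd_pow_iff_le_right hr.one_lt] at h1
    omega
  obtain ⟨j', hj'0, hj'1, hj'2⟩ := free_index hk hrp V hVp huo (hHV huH) (hnc _ (pow_mem huH _) hy)
  have h2n := hord j' hj'0 hj'1
  have hsame : (V ⊓ Subgroup.centralizer ({a'} : Set G)).relIndex V = p ^ j := by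
    have e1 : V ⊓ Subgroup.centralizer ({a'} : Set G) = Ca.map (MulAut.conj (h : G)).toMonoidHom := by
      ext x
      rw [Subgroup.mem_map_equiv, hCa, Subgroup.mem_inf, Subgroup.mem_inf, Subgroup.mem_centralizer_singleton_iff,
        Subgroup.mem_centralizer_singleton_iff, MulAut.conj_symm_apply, ha']
      constructor
      · rintro ⟨h1, h2⟩
        refine ⟨by simpa using hnorm _ (inv_mem h.2) x h1, ?_⟩
        calc (h : G)⁻¹ * x * h * a = (h : G)⁻¹ * (x * ((h : G) * a * (h : G)⁻¹)) * h := by group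
          _ = _ := by rw [h2]; group
      · rintro ⟨h1, h2⟩
        refine ⟨by simpa [mul_assoc] using hnorm _ h.2 _ h1, ?_⟩
        calc x * ((h : G) * a * (h : G)⁻¹) = h * ((h : G)⁻¹ * x * h * a) * (h : G)⁻¹ := by group
          _ = _ := by rw [h2]; group
    have e2 : V = V.map (MulAut.conj (h : G)).toMonoidHom := by
      ext x
      rw [Subgroup.mem_map_equiv, MulAut.conj_symm_apply]
      exact ⟨fun h1 => by simpa using hnorm _ (inv_mem h.2) x h1, fun h1 => by simpa [mul_assoc] using hnorm _ h.2 _ h1⟩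
    rw [e1]
    conv_lhs => arg 2; rw [e2]
    rw [Subgroup.relIndex_map_map_of_injective _ _ (MulAut.conj (h : G)).injective, hj]
  have hle : (V ⊓ Subgroup.centralizer ({u} : Set G)).relIndex V ≤ p ^ j * p ^ j := by
    refine le_trans (Subgroup.relIndex_le_of_le_left (H := Ca ⊓ (V ⊓ Subgroup.centralizer ({a'} : Set G))) ?_
      Subgroup.index_ne_zero_of_finite) ((Subgroup.relIndex_inf_le).trans (le_of_eq (by rw [hj, hsame])))
    rintro x ⟨⟨hxV, hxa⟩, -, hxa'⟩
    replace hxa := Subgroup.mem_centralizer_singleton_iff.mp hxa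
    replace hxa' := Subgroup.mem_centralizer_singleton_iff.mp hxa'
    refine ⟨hxV, Subgroup.mem_centralizer_singleton_iff.mpr ?_⟩
    exact ((Commute.mul_right (show Commute x a from hxa) (show Commute x a' from hxa')).pow_right 2).eq
  rw [← pow_add] at hle
  have := (Nat.pow_le_pow_iff_right hp.one_lt).mp (hj'2.trans hle)
  omega

end Cfsg.Agent.S2788
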