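import Cfsg.Statements.S2791
import Cfsg.Agent.Lib.Fusion.Group
import Cfsg.Agent.Lib.Fusion.Normal
import Cfsg.Agent.Lib.ZJ.RealBase

set_option autoImplicit false
open Cfsg

namespace Cfsg.Agent.S2791

/-- Let S be a Sylow p-subgroup of the finite group G and A an abelian subgroup of S that is strongly closed in S with respect to G. Then A controls strong fusion in G: for some Sylow p-subgroup T containing A, whenever a subset of T is conjugated into T by an element of G, the same elementwise conjugation is induced by an element of N_G(A). -/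
theorem result {G : Type*} [Group G] [Finite G] {p : ℕ} [Fact p.Prime] (S : Sylow p G) (A : Subgroup G) (hA : IsMulCommutative ↥A) (hsc : Cfsg.IsStronglyClosed A (S : Subgroup G)) : Cfsg.ControlsStrongFusion p A := by
  have hcl : (Cfsg.groupFusionSystem (S : Subgroup G)).StronglyClosed A := by
    refine ⟨hsc.1, fun R hR φ hφ x => ?_⟩
    obtain ⟨-, hφS, g, hg⟩ := hφ
    rw [hg x]
    exact hsc.2 x (hR x.2) g (hg x ▸ hφS x)
  have hn := CfsgLib.Fusion.isNormal_of_abelian S.2 (CfsgLib.Fusion.isSaturated_group (S := S)) hcl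
    fun x hx y hy => congrArg Subtype.val (hA.is_comm.comm ⟨x, hx⟩ ⟨y, hy⟩)
  refine ⟨S, hsc.1, fun B hB => ⟨hB, fun g hgB => ?_⟩⟩
  have hPS : Subgroup.closure B ≤ (S : Subgroup G) := (Subgroup.closure_le _).mpr hB
  have hgS : ∀ x ∈ Subgroup.closure B, g * x * g⁻¹ ∈ (S : Subgroup G) := fun x hx =>
    (Subgroup.closure_le ((S : Subgroup G).comap (MulAut.conj g).toMonoidHom)).mpr
      (fun b hb => hgB ⟨b, hb, rfl⟩) hx
  obtain ⟨f, hf, hfP, hfA⟩ := (CfsgLib.Fusion.isNormal_iff.mp hn).2 _ _
    (CfsgLib.Fusion.isMap_group_of_conj g hPS hgS)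
  obtain ⟨-, -, h, hh⟩ := CfsgLib.Fusion.isMap_group_iff.mp hf
  refine ⟨h, ?_, fun a ha => ?_⟩
  · refine CfsgLib.ZJ.mem_normalizer_of_conj_mem fun x hx => ?_
    rw [← hh x (Subgroup.mem_sup_right hx)]
    exact hfA.le (Set.mem_image_of_mem f hx)
  · rw [← hh a (Subgroup.mem_sup_left (Subgroup.subset_closure ha))]
    exact (hfP a (Subgroup.subset_closure ha)).symm

end Cfsg.Agent.S2791
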