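import Cfsg.Statements.S2792
import Cfsg.Agent.Lib.Transfer.EngelClosed

set_option autoImplicit false
open Cfsg

namespace Cfsg.Agent.S2792

/-- Let S be a Sylow p-subgroup of the finite group G and W a subgroup of S weakly closed in S with respect to G. If S ∩ G' ≠ S ∩ (N_G(W))', then there are x ∈ S, z ∈ W and a maximal subgroup W₀ of W such that the iterated commutator [x, z; p−1] (with [x, z] = x⁻¹z⁻¹xz and [x, z; i+1] = [[x, z; i], z]) lies in W₀ but not in the Frattini subgroup of W₀; in particular [x, z; p−1] ≠ 1. -/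
theorem result {G : Type*} [Group G] [Finite G] {p : ℕ} [Fact p.Prime] (S : Sylow p G) (W : Subgroup G) (hW : Cfsg.IsWeaklyClosed W (S : Subgroup G)) (h : (S : Subgroup G) ⊓ commutator G ≠ (S : Subgroup G) ⊓ ⁅Subgroup.normalizer (W : Set G), Subgroup.normalizer (W : Set G)⁆) : ∃ x ∈ (S : Subgroup G), ∃ z ∈ W, ∃ W₀ : Subgroup ↥W, IsCoatom W₀ ∧ (fun y : G => y⁻¹ * z⁻¹ * y * z)^[p - 1] x ∈ W₀.map W.subtype ∧ (fun y : G => y⁻¹ * z⁻¹ * y * z)^[p - 1] x ∉ ((frattini ↥W₀).map W₀.subtype).map W.subtype := by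
  by_contra hno
  push Not at hno
  set N := Subgroup.normalizer (W : Set G) with hN
  have hSN : (S : Subgroup G) ≤ N := by
    intro u hu
    refine Subgroup.mem_normalizer_iff.2 fun v => ?_
    have hmap := hW.2 u (by
      rintro - ⟨w, hw, rfl⟩
      exact mul_mem (mul_mem hu (hW.1 hw)) (inv_mem hu))
    constructor
    · exact fun hv => hmap.le ⟨v, hv, rfl⟩
    · intro hv
      obtain ⟨w, hw, e⟩ := hmap.ge hv
      rwa [← mul_left_cancel (mul_right_cancel (e : u * w * u⁻¹ = u * v * u⁻¹))]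
  have hres := CfsgLib.Transfer.pResidualOf_eq_of_focal_frattini S hSN
    (CfsgLib.Transfer.focal_le_of_engel S W hW fun u hu z hz W₀ hW₀ hmem => hno u hu z hz W₀ hW₀ hmem)
  refine h (le_antisymm (fun u hu => ⟨hu.1, ?_⟩) fun u hu =>
    ⟨hu.1, Subgroup.commutator_mono le_top le_top hu.2⟩)
  exact CfsgLib.Transfer.mem_commutator_of_residual_eq S hSN hres hu.1 hu.2

end Cfsg.Agent.S2792
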