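import Cfsg.Statements.S2793
import Cfsg.Agent.Lib.ZJFail.Reduce
import Cfsg.Agent.Lib.ZJFail.Conclude

set_option autoImplicit false
open Cfsg

namespace Cfsg.Agent.S2793

/-- Let p be an odd prime, S a Sylow p-subgroup of the finite group G, J(S) the subgroup generated by the abelian subgroups of S of largest order, and suppose Z(J(S)) does not control strong fusion in G. Put H = N_G(Z(J(S))). Then the group F(p) of upper triangular 3 × 3 matrices (a b c; 0 a⁻¹ d; 0 0 1) over the field with p elements is involved in H, and Z(J(S)) contains a subgroup C of order p with |N_H(C) : C_H(C)| = p − 1. -/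
theorem result {G : Type*} [Group G] [Finite G] {p : ℕ} [Fact p.Prime] (hp : p ≠ 2) (S : Sylow p G) (h : ¬ Cfsg.ControlsStrongFusion p (Cfsg.centerThompsonAOf (S : Subgroup G))) (H : Subgroup G) (hH : H = Subgroup.normalizer ((Cfsg.centerThompsonAOf (S : Subgroup G)) : Set G)) : Cfsg.Involves ↥(Cfsg.fOver (ZMod p)) ↥H ∧ ∃ C : Subgroup G, C ≤ (Cfsg.centerThompsonAOf (S : Subgroup G)) ∧ Nat.card C = p ∧ (H ⊓ Subgroup.centralizer (C : Set G)).relIndex (H ⊓ Subgroup.normalizer (C : Set G)) = p - 1 := by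
  classical
  rw [CfsgLib.ZJ.centerThompsonAOf_eq] at h hH ⊢
  subst hH
  obtain ⟨l, hl⟩ := IsCyclic.exists_ofOrder_eq_natCard (α := (ZMod p)ˣ)
  rw [Nat.card_eq_fintype_card, ZMod.card_units] at hl
  by_contra hno
  refine h ⟨S, CfsgLib.ZJ.zJ_le 0 _, fun A hA => ⟨hA, fun g hg => ?_⟩⟩
  by_contra hbad
  refine hno ?_
  have hA' : Subgroup.closure A ≤ (S : Subgroup G) := (Subgroup.closure_le _).mpr hA
  have hgA : CfsgLib.Conjugacy.cj g (Subgroup.closure A) ≤ (S : Subgroup G) := by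
    rw [CfsgLib.Conjugacy.cj, MonoidHom.map_closure, Subgroup.closure_le]
    exact hg
  obtain ⟨k, hk, Q, hQS, hkQ, u, hu, D⟩ := CfsgLib.ZJFail.exists_data hp l S hA' hgA fun hgood => by
    obtain ⟨x, hx, hxa⟩ := hgood
    exact hbad ⟨x, hx, fun a ha => hxa a (Subgroup.subset_closure ha)⟩
  have hQH : Q ≤ Subgroup.normalizer (CfsgLib.ZJ.zJ 0 (S : Subgroup G) : Set G) :=
    hQS.trans ((S : Subgroup G).le_normalizer.trans (CfsgLib.ZJ.normalizer_le_normalizer_zJ 0 _))
  exact ⟨CfsgLib.ZJFail.involves_fOver hp hl hk hQH (S.2.to_le hQS) hkQ D,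
    CfsgLib.ZJFail.exists_full_automizer hl hk le_rfl
      (fun x hx y hy => (Subgroup.mem_centralizer_iff.mp hy.2 x hx.1)) hu (S.2.to_le hQS) D⟩

end Cfsg.Agent.S2793
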