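import Cfsg.Statements.S2794
import Cfsg.Agent.Lib.Qd.Stable
import Cfsg.Agent.Lib.Qd.Facts
import Cfsg.Agent.Lib.ZJ.Complement
import Cfsg.Agent.S1969

set_option autoImplicit false
open Cfsg

namespace Cfsg.Agent.S2794

theorem controlsStrongFusion_map {X Y : Type*} [Group X] [Group Y] [Finite X] {p : ℕ}
    [Fact p.Prime] (e : X ≃* Y) {U : Subgroup X} (h : Cfsg.ControlsStrongFusion p U) :
    Cfsg.ControlsStrongFusion p (U.map e.toMonoidHom) := by
  obtain ⟨T, hUT, hT⟩ := h
  haveI : Finite Y := Finite.of_equiv X e.toEquiv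
  let T' : Sylow p Y := T.mapSurjective (f := e.toMonoidHom) e.surjective
  refine ⟨T', Subgroup.map_mono hUT, fun A hA => ⟨hA, fun g hg => ?_⟩⟩
  have hpre : e ⁻¹' A ⊆ (T : Set X) := fun a ha => by
    obtain ⟨b, hb, hbe⟩ := hA ha
    rwa [← e.injective hbe]
  obtain ⟨x, hx, hxa⟩ := (hT _ hpre).2 (e.symm g) (by
    rintro _ ⟨a, ha, rfl⟩
    obtain ⟨b, hb, hbe⟩ := hg ⟨e a, ha, rfl⟩
    have : e (e.symm g * a * (e.symm g)⁻¹) = e b := by
      rw [map_mul, map_mul, map_inv, e.apply_symm_apply]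
      exact hbe.symm
    show e.symm g * a * (e.symm g)⁻¹ ∈ (T : Subgroup X)
    rw [e.injective this]
    exact hb)
  refine ⟨e x, Subgroup.le_normalizer_map e.toMonoidHom ⟨x, hx, rfl⟩, fun a ha => ?_⟩
  have := congrArg e (hxa (e.symm a) (by show e (e.symm a) ∈ A; rwa [e.apply_symm_apply]))
  simpa [map_mul, map_inv] using this


/-- For an odd prime p and a finite group G, the group Qd(p) is not involved in G if and only if in every section K/R of G, for every Sylow p-subgroup S* of K/R, the centre of J(S*) (J generated by the abelian subgroups of largest order) controls strong fusion in K/R. -/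
theorem result {G : Type*} [Group G] [Finite G] {p : ℕ} [Fact p.Prime] (hp : p ≠ 2) : ¬ Cfsg.Involves ↥(Cfsg.qd p) G ↔ ∀ (K R : Subgroup G) [hR : (R.subgroupOf K).Normal], ∀ T : Sylow p (K ⧸ R.subgroupOf K), Cfsg.ControlsStrongFusion p (Cfsg.centerThompsonAOf (T : Subgroup (K ⧸ R.subgroupOf K))) := by
  constructor
  · intro h
    let W : ∀ (Q : Type _) [Group Q], Subgroup Q := fun Q _ => CfsgLib.ZJ.zJ 0 (⊤ : Subgroup Q)
    have hmap : ∀ {X : Type _} [Group X] (T : Subgroup X),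
        Cfsg.inducedFunctor W T = Cfsg.centerThompsonAOf T := fun {X} _ T => by
      show (CfsgLib.ZJ.zJ 0 (⊤ : Subgroup T)).map T.subtype = _
      rw [CfsgLib.ZJ.map_zJ 0 T.subtype T.subtype_injective.injOn, ← MonoidHom.range_eq_map,
        Subgroup.range_subtype, CfsgLib.ZJ.centerThompsonAOf_eq]
    have hW : Cfsg.IsCharPFunctor p W := by
      refine ⟨fun Q _ _ hQ _ hbot => ?_, fun Q R _ _ _ _ φ => ?_⟩
      · obtain ⟨z, hz, hz1, -⟩ := CfsgLib.ZJ.zJ_ne_bot (p := p) (e := 0) (Or.inl rfl)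
          (hQ.to_subgroup (⊤ : Subgroup Q)) top_ne_bot
        exact hz1 (Subgroup.mem_bot.mp (hbot ▸ hz))
      · show (CfsgLib.ZJ.zJ 0 (⊤ : Subgroup Q)).map φ.toMonoidHom = CfsgLib.ZJ.zJ 0 (⊤ : Subgroup R)
        rw [CfsgLib.ZJ.map_zJ 0 φ.toMonoidHom φ.injective.injOn,
          Subgroup.map_top_of_surjective _ φ.surjective]
    intro K R _ T
    have := Cfsg.Agent.S1969.result (G := G) (p := p) W hW (fun K R _ hc S => by
      rw [hmap, CfsgLib.ZJ.centerThompsonAOf_eq]
      haveI := CfsgLib.ZJ.zJ_characteristic hp (Or.inl rfl) S hc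
        (CfsgLib.Qd.stableAt_of_qdFree hp
          (CfsgLib.Qd.not_involves_quotient _ (CfsgLib.Qd.not_involves_subgroup K h)) _)
      infer_instance) K R T
    rwa [hmap] at this
  · rintro h ⟨K, R, hR, ⟨e⟩⟩
    obtain ⟨T, hT⟩ := CfsgLib.Qd.not_controlsStrongFusion (p := p) hp
    let T₀ : Sylow p (K ⧸ R.subgroupOf K) :=
      T.mapSurjective (f := e.symm.toMonoidHom) e.symm.surjective
    have h1 := controlsStrongFusion_map e (@h K R hR T₀)
    refine hT ?_
    rw [CfsgLib.ZJ.centerThompsonAOf_eq] at h1 ⊢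
    rw [CfsgLib.ZJ.map_zJ 0 e.toMonoidHom e.injective.injOn] at h1
    have e2 : (T₀ : Subgroup (K ⧸ R.subgroupOf K)).map e.toMonoidHom = (T : Subgroup ↥(Cfsg.qd p)) := by
      show ((T : Subgroup ↥(Cfsg.qd p)).map e.symm.toMonoidHom).map e.toMonoidHom = _
      rw [Subgroup.map_map, show e.toMonoidHom.comp e.symm.toMonoidHom = MonoidHom.id _ from
        MonoidHom.ext e.apply_symm_apply, Subgroup.map_id]
    rwa [e2] at h1

end Cfsg.Agent.S2794
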