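import Mathlib
import Cfsg.Statements.S2801
import Cfsg.Agent.Lib.PReduced.Basic

set_option autoImplicit false
set_option linter.style.haveILetI false
set_option linter.unusedVariables false
open Cfsg

namespace Cfsg.Agent.S2801

/-- Let L be a finite group and p a prime with C_L(O_p(L)) ≤ O_p(L). Then L has a unique largest p-reduced normal subgroup: some normal elementary abelian p-subgroup Y with O_p(L/C_L(Y)) = 1 contains every other such subgroup. -/
theorem result {L : Type*} [Group L] [Finite L] {p : ℕ} [Fact p.Prime] (hchar : Subgroup.centralizer (Cfsg.pCore p L : Set L) ≤ Cfsg.pCore p L) : ∃ Y : Subgroup L, (Cfsg.IsPReducedNormal p Y ∧ ∀ V : Subgroup L, Cfsg.IsPReducedNormal p V → V ≤ Y) := by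
  set 𝒮 : Set (Subgroup L) := {V | Cfsg.IsPReducedNormal p V} with h𝒮
  refine ⟨sSup 𝒮, ?_, fun V hV => le_sSup hV⟩
  haveI := CfsgLib.Fitting.pCore_normal (G := L) p
  set Y := sSup 𝒮 with hY
  have hYn : Y.Normal := Subgroup.sSup_normal _ fun V hV => hV.1
  haveI := hYn
  have hYC : Y ≤ Subgroup.centralizer (Cfsg.pCore p L : Set L) := sSup_le fun V hV =>
    Subgroup.le_centralizer_iff.mp (CfsgLib.PReduced.le_centralizer_of_isPGroup hV inferInstance
      (CfsgLib.Fitting.pCore_isPGroup p))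
  have hcomm : ∀ a ∈ Y, ∀ b ∈ Y, a * b = b * a := fun a ha b hb =>
    Subgroup.mem_centralizer_iff.mp (hYC hb) a (hchar (hYC ha))
  have hexp : ∀ a ∈ Y, a ^ p = 1 := by
    let E : Subgroup L :=
      { carrier := {a | a ∈ Y ∧ a ^ p = 1}
        one_mem' := ⟨Y.one_mem, one_pow p⟩
        mul_mem' := fun {a b} ha hb => ⟨Y.mul_mem ha.1 hb.1, by
          rw [(show Commute a b from hcomm a ha.1 b hb.1).mul_pow, ha.2, hb.2, one_mul]⟩
        inv_mem' := fun {a} ha => ⟨Y.inv_mem ha.1, by rw [inv_pow, ha.2, inv_one]⟩ }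
    have hle : Y ≤ E := sSup_le fun V hV a ha => ⟨le_sSup hV ha, hV.2.1.2 a ha⟩
    exact fun a ha => (hle ha).2
  haveI hCn : (Subgroup.centralizer (Y : Set L)).Normal := inferInstance
  refine ⟨hYn, ⟨⟨⟨fun a b => Subtype.ext (hcomm a a.2 b b.2)⟩⟩, hexp⟩, hCn, ?_⟩
  set q := QuotientGroup.mk' (Subgroup.centralizer (Y : Set L)) with hq
  haveI := CfsgLib.Fitting.pCore_normal (G := L ⧸ Subgroup.centralizer (Y : Set L)) p
  set D := (Cfsg.pCore p (L ⧸ Subgroup.centralizer (Y : Set L))).comap q with hD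
  have hDn : D.Normal := Subgroup.Normal.comap inferInstance q
  have hYD : Y ≤ Subgroup.centralizer (D : Set L) := sSup_le fun V hV =>
    Subgroup.le_centralizer_iff.mp (CfsgLib.PReduced.le_centralizer hV hDn fun d hd => by
      obtain ⟨k, hk⟩ := CfsgLib.Fitting.pCore_isPGroup p ⟨q d, hd⟩
      have e : q d ^ p ^ k = 1 := by simpa using congrArg Subtype.val hk
      rw [← map_pow] at e
      exact ⟨k, Subgroup.centralizer_le (show (V : Set L) ⊆ Y from fun a ha => le_sSup hV ha)
        ((QuotientGroup.eq_one_iff _).mp e)⟩)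
  rw [eq_bot_iff]
  intro x hx
  obtain ⟨d, rfl⟩ := QuotientGroup.mk'_surjective _ x
  exact Subgroup.mem_bot.mpr ((QuotientGroup.eq_one_iff d).mpr (Subgroup.le_centralizer_iff.mp hYD hx))

end Cfsg.Agent.S2801
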