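import Mathlib
import Cfsg.Statements.S2802
import Cfsg.Agent.Lib.PReduced.Basic
import Cfsg.Agent.Lib.Transfer.Basic

set_option autoImplicit false
set_option linter.style.haveILetI false
set_option linter.unusedVariables false
open Cfsg

open scoped commutatorElement

namespace Cfsg.Agent.S2802

/-- Let L be a finite group and p a prime with C_L(O_p(L)) ≤ O_p(L), T a Sylow p-subgroup of L and R a subgroup with T ≤ R. If X is a p-reduced normal subgroup of R (normal in R, elementary abelian, O_p(R/C_R(X)) = 1), then the normal closure of X in L is a p-reduced normal subgroup of L. -/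
theorem result {L : Type*} [Group L] [Finite L] {p : ℕ} [Fact p.Prime] (hchar : Subgroup.centralizer (Cfsg.pCore p L : Set L) ≤ Cfsg.pCore p L) (T : Sylow p L) (R : Subgroup L) (hTR : (T : Subgroup L) ≤ R) (X : Subgroup ↥R) (hX : Cfsg.IsPReducedNormal p X) : Cfsg.IsPReducedNormal p (Subgroup.normalClosure ((X.map R.subtype : Subgroup L) : Set L)) := by
  haveI := CfsgLib.Fitting.pCore_normal (G := L) p
  set X' := X.map R.subtype with hX'
  have hOT : Cfsg.pCore p L ≤ (T : Subgroup L) :=
    IsPGroup.le_sylow_of_normal (CfsgLib.Fitting.pCore_isPGroup p) T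
  have hcen : ∀ (D : Subgroup L), D.Normal → (∀ d ∈ D, d ∈ R →
      ∃ k : ℕ, d ^ p ^ k ∈ Subgroup.centralizer (X' : Set L)) →
      D ⊓ R ≤ Subgroup.centralizer (X' : Set L) := by
    intro D hD hp d hd
    have h1 := CfsgLib.PReduced.le_centralizer hX (D := D.subgroupOf R) (hD.comap R.subtype)
      (fun u hu => by
        obtain ⟨k, hk⟩ := hp u hu u.2
        refine ⟨k, Subgroup.mem_centralizer_iff.mpr fun y hy => Subtype.ext ?_⟩
        have h2 := Subgroup.mem_centralizer_iff.mp hk y ⟨y, hy, rfl⟩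
        simpa using h2)
      (show (⟨d, hd.2⟩ : R) ∈ D.subgroupOf R from hd.1)
    refine Subgroup.mem_centralizer_iff.mpr ?_
    rintro _ ⟨y, hy, rfl⟩
    exact congrArg Subtype.val (Subgroup.mem_centralizer_iff.mp h1 y hy)
  refine CfsgLib.PReduced.isPReducedNormal_normalClosure hchar T X' ?_ ?_ ?_
  · rw [Subgroup.le_centralizer_iff]
    intro d hd
    refine hcen _ inferInstance (fun a ha _ => ?_) ⟨hd, hTR (hOT hd)⟩
    obtain ⟨k, hk⟩ := CfsgLib.Fitting.pCore_isPGroup p ⟨a, ha⟩
    have e : a ^ p ^ k = 1 := by simpa using congrArg Subtype.val hk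
    exact ⟨k, e ▸ one_mem _⟩
  · rintro _ ⟨y, hy, rfl⟩
    rw [← map_pow, hX.2.1.2 y hy, map_one]
  · intro D hD hp d hd
    refine hcen D hD (fun a ha _ => ?_) ⟨hd.2, hTR hd.1⟩
    obtain ⟨k, hk⟩ := hp a ha
    exact ⟨k, Subgroup.centralizer_le (Subgroup.subset_normalClosure) hk⟩

end Cfsg.Agent.S2802
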