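import Mathlib
import Cfsg.Statements.S2803
import Cfsg.Agent.Lib.PReduced.Basic
import Cfsg.Agent.Lib.Transfer.Sylow

set_option autoImplicit false
set_option linter.style.haveILetI false
set_option linter.unusedVariables false
open Cfsg

open scoped commutatorElement

namespace Cfsg.Agent.S2803

/-- Let L be a finite group and p a prime with C_L(O_p(L)) ≤ O_p(L), T a Sylow p-subgroup, and Y the largest p-reduced normal subgroup of L. Put T_L = C_T(Y) and L_T = N_L(T_L). Then L = L_T · C_L(Y) (elementwise), T_L = O_p(L_T), and Y = Ω₁(Z(T_L)). -/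
theorem result {L : Type*} [Group L] [Finite L] {p : ℕ} [Fact p.Prime] (hchar : Subgroup.centralizer (Cfsg.pCore p L : Set L) ≤ Cfsg.pCore p L) (T : Sylow p L) (Y : Subgroup L) (hY : (Cfsg.IsPReducedNormal p Y ∧ ∀ V : Subgroup L, Cfsg.IsPReducedNormal p V → V ≤ Y)) (TL : Subgroup L) (hTL : TL = (T : Subgroup L) ⊓ Subgroup.centralizer (Y : Set L)) : (∀ g : L, ∃ a ∈ Subgroup.normalizer (TL : Set L), ∃ c ∈ Subgroup.centralizer (Y : Set L), g = a * c) ∧ (Cfsg.pCore p ↥(Subgroup.normalizer (TL : Set L))).map (Subgroup.normalizer (TL : Set L)).subtype = TL ∧ Y = Cfsg.omegaOne p (TL ⊓ Subgroup.centralizer (TL : Set L)) := by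
  obtain ⟨hY, hmax⟩ := hY
  obtain ⟨hYn, ⟨hYc, hYexp⟩, hCn, hYcore⟩ := id hY
  haveI := hYn
  set C := Subgroup.centralizer (Y : Set L) with hC
  haveI := hCn
  subst hTL
  set TL := (T : Subgroup L) ⊓ C with hTLdef
  set N := Subgroup.normalizer (TL : Set L) with hN
  -- Frattini
  have hidx : ¬ p ∣ (TL.subgroupOf C).index := fun h => by
    refine T.not_dvd_index (h.trans ?_)
    change TL.relIndex C ∣ _
    rw [hTLdef, Subgroup.inf_relIndex_right]
    exact CfsgLib.Transfer.relIndex_dvd_index_of_normal _ _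
  have hsup : N ⊔ C = ⊤ := by
    have h := Sylow.normalizer_sup_eq_top
      (((T.2.to_le inf_le_left).comap_of_injective _ C.subtype_injective).toSylow hidx)
    change Subgroup.normalizer (((TL.subgroupOf C).map C.subtype : Subgroup L) : Set L) ⊔ C = ⊤ at h
    rwa [Subgroup.map_subgroupOf_eq_of_le inf_le_right] at h
  refine ⟨fun g => ?_, ?_, ?_⟩
  · obtain ⟨a, ha, c, hc, e⟩ := Subgroup.mem_sup_of_normal_right.mp
      (show g ∈ N ⊔ C by rw [hsup]; trivial)
    exact ⟨a, ha, c, hc, e.symm⟩
  · have hTN : (T : Subgroup L) ≤ N := fun t ht => by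
      refine Subgroup.mem_normalizer_fintype fun y hy => ⟨?_, Subgroup.Normal.conj_mem inferInstance _ hy.2 t⟩
      exact Subgroup.mul_mem _ (Subgroup.mul_mem _ ht hy.1) (Subgroup.inv_mem _ ht)
    haveI := CfsgLib.Fitting.pCore_normal (G := N) p
    set P := (Cfsg.pCore p N).map N.subtype with hP
    have hPT : P ≤ (T : Subgroup L) := by
      rintro _ ⟨x, hx, rfl⟩
      exact IsPGroup.le_sylow_of_normal (CfsgLib.Fitting.pCore_isPGroup p) (T.subtype hTN) hx
    refine le_antisymm (le_inf hPT ?_) ?_
    · have hPN : N ≤ Subgroup.normalizer (P : Set L) := by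
        refine le_trans ?_ (Subgroup.le_normalizer_map N.subtype)
        rw [Subgroup.normalizer_eq_top, ← MonoidHom.range_eq_map, Subgroup.range_subtype]
      have hDn : (P ⊔ C).Normal := by
        refine Subgroup.normalizer_eq_top_iff.mp (top_le_iff.mp ?_)
        rw [← hsup]
        refine sup_le (fun u hu => ?_) (le_sup_right.trans Subgroup.le_normalizer)
        refine Subgroup.mem_normalizer_fintype fun y hy => ?_
        obtain ⟨a, ha, c, hc, rfl⟩ := Subgroup.mem_sup_of_normal_right.mp hy
        rw [show u * (a * c) * u⁻¹ = (u * a * u⁻¹) * (u * c * u⁻¹) by group]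
        exact Subgroup.mul_mem _ (Subgroup.mem_sup_left ((Subgroup.mem_normalizer_iff.mp (hPN hu) a).mp ha))
          (Subgroup.mem_sup_right (Subgroup.Normal.conj_mem inferInstance _ hc u))
      refine le_trans le_sup_left (CfsgLib.PReduced.le_centralizer hY hDn fun d hd => ?_)
      obtain ⟨a, ha, c, hc, rfl⟩ := Subgroup.mem_sup_of_normal_right.mp hd
      obtain ⟨k, hk⟩ := T.2 ⟨a, hPT ha⟩
      refine ⟨k, (QuotientGroup.eq_one_iff _).mp ?_⟩
      have e : a ^ p ^ k = 1 := by simpa using congrArg Subtype.val hk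
      rw [QuotientGroup.mk_pow, QuotientGroup.mk_mul_of_mem a hc, ← QuotientGroup.mk_pow, e,
        QuotientGroup.mk_one]
    · intro x hx
      refine ⟨⟨x, Subgroup.le_normalizer hx⟩, ?_, rfl⟩
      exact CfsgLib.Fitting.le_pCore (Subgroup.normal_in_normalizer (H := TL))
        ((T.2.to_le inf_le_left).comap_of_injective _ N.subtype_injective) hx
  · have hYp : IsPGroup p Y := fun a => ⟨1, Subtype.ext (by
      simpa using hYexp a a.2)⟩
    have hYC : Y ≤ C := by
      intro a ha
      refine Subgroup.mem_centralizer_iff.mpr fun b hb => ?_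
      exact congrArg Subtype.val (hYc.is_comm.comm (⟨b, hb⟩ : Y) ⟨a, ha⟩)
    have hYT : Y ≤ (T : Subgroup L) := IsPGroup.le_sylow_of_normal hYp T
    refine le_antisymm (show Y ≤ Cfsg.omegaOne p (TL ⊓ Subgroup.centralizer (TL : Set L)) from
      fun a ha => Subgroup.subset_closure ⟨⟨⟨hYT ha, hYC ha⟩,
        Subgroup.le_centralizer_iff.mp (inf_le_right : TL ≤ C) ha⟩, hYexp a ha⟩) ?_
    set W := Cfsg.omegaOne p (TL ⊓ Subgroup.centralizer (TL : Set L)) with hW
    have hWle : W ≤ TL ⊓ Subgroup.centralizer (TL : Set L) :=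
      (Subgroup.closure_le _).mpr fun x hx => hx.1
    have hWexp : ∀ a ∈ W, a ^ p = 1 := by
      intro a ha
      induction ha using Subgroup.closure_induction with
      | mem b hb => exact hb.2
      | one => exact one_pow p
      | mul b c hb hc ihb ihc =>
        have : Commute b c := Subgroup.mem_centralizer_iff.mp (hWle hc).2 b (hWle hb).1
        rw [this.mul_pow, ihb, ihc, one_mul]
      | inv b _ ihb => rw [inv_pow, ihb, inv_one]
    haveI := CfsgLib.Fitting.pCore_normal (G := L) p
    have hO : Cfsg.pCore p L ≤ TL :=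
      le_inf (IsPGroup.le_sylow_of_normal (CfsgLib.Fitting.pCore_isPGroup p) T)
        (CfsgLib.PReduced.le_centralizer_of_isPGroup hY inferInstance (CfsgLib.Fitting.pCore_isPGroup p))
    have hV := CfsgLib.PReduced.isPReducedNormal_normalClosure hchar T W
      (hWle.trans (inf_le_right.trans (Subgroup.centralizer_le hO))) hWexp (fun D hD hp => by
        have hDC : D ≤ C := CfsgLib.PReduced.le_centralizer hY hD fun d hd => by
          obtain ⟨k, hk⟩ := hp d hd
          refine ⟨k, Subgroup.centralizer_le (fun a ha => ?_) hk⟩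
          exact Subgroup.subset_normalClosure (Subgroup.subset_closure
            ⟨⟨⟨hYT ha, hYC ha⟩, Subgroup.le_centralizer_iff.mp (inf_le_right : TL ≤ C) ha⟩, hYexp a ha⟩)
        intro d hd
        exact Subgroup.le_centralizer_iff.mp (hWle.trans inf_le_right) ⟨hd.1, hDC hd.2⟩)
    exact le_trans (fun a ha => Subgroup.subset_normalClosure ha) (hmax _ hV)

end Cfsg.Agent.S2803
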