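import Cfsg.Statements.S2804
import Cfsg.Agent.Lib.Layer.Radical
import Cfsg.Agent.Lib.PReduced.Largest
import Cfsg.Agent.Lib.Coprime.Action
import Cfsg.Agent.Lib.Transfer.Basic

set_option autoImplicit false
open Cfsg CfsgLib

namespace Cfsg.Agent.S2804

open scoped commutatorElement

/-- Let L be a finite group and p a prime with C_L(O_p(L)) ≤ O_p(L), V a p-reduced normal subgroup of L and K a subnormal subgroup of L. Then [V, O^p(K)] is contained in K and is a p-reduced normal subgroup of K, where O^p(K) is the subgroup of K generated by its elements of order prime to p. -/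
theorem result {L : Type*} [Group L] [Finite L] {p : ℕ} [Fact p.Prime] (hchar : Subgroup.centralizer (Cfsg.pCore p L : Set L) ≤ Cfsg.pCore p L) (V : Subgroup L) (hV : Cfsg.IsPReducedNormal p V) (K : Subgroup L) (hK : K.IsSubnormal) : ⁅V, (Cfsg.pResidual p ↥K).map K.subtype⁆ ≤ K ∧ Cfsg.IsPReducedNormal p ((⁅V, (Cfsg.pResidual p ↥K).map K.subtype⁆).subgroupOf K) := by
  have hVn := hV.1
  have hel := hV.2.1
  have hVp : IsPGroup p V := PReduced.isPGroup_of_elementary hel
  haveI := hel.1
  have hVs : Group.IsSolvable V := by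
    haveI := hVp.isNilpotent
    infer_instance
  set R := (pResidual p ↥K).map K.subtype with hR
  -- each `p'`-element of `K` moves `V` into `K`
  have hgen : ∀ x ∈ K, (orderOf x).Coprime p → ⁅V, Subgroup.zpowers x⁆ ≤ K := by
    intro x hx hxp
    have hcc : ⁅⁅V, Subgroup.zpowers x⁆, Subgroup.zpowers x⁆ = ⁅V, Subgroup.zpowers x⁆ :=
      Coprime.commutator_commutator_eq Subgroup.le_normalizer_of_normal
        (PSolvable.coprime_card_of_isPGroup hVp (by rwa [Nat.card_zpowers])).symm (Or.inr hVs)
    clear hR R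
    induction hK with
    | top => exact le_top
    | step N M hNM _ hn ih =>
      rw [← hcc]
      have hMN := (Subgroup.normal_subgroupOf_iff_le_normalizer hNM).mp hn
      refine (Subgroup.commutator_mono (ih (hNM hx)) (Subgroup.zpowers_le.mpr hx)).trans
        (Subgroup.commutator_le.mpr fun m hm n hn' => ?_)
      rw [commutatorElement_def]
      exact N.mul_mem ((Subgroup.mem_normalizer_iff.mp (hMN hm) n).mp hn') (N.inv_mem hn')
  have hRK : R ≤ K := Subgroup.map_subtype_le _
  have hle : ⁅V, R⁆ ≤ K := by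
    rw [Subgroup.commutator_le]
    rintro v hv _ ⟨x, hx, rfl⟩
    revert v
    induction hx using Subgroup.closure_induction with
    | mem x hx =>
      intro v hv
      exact hgen x x.2 (by rwa [Subgroup.orderOf_coe])
        (Subgroup.commutator_mem_commutator hv (Subgroup.mem_zpowers _))
    | one => intro v _; simp
    | mul x y _ _ ihx ihy =>
      intro v hv
      have e : ⁅v, ((x * y : K) : L)⁆ = ⁅v, (x : L)⁆ * ((x : L) * ⁅v, (y : L)⁆ * (x : L)⁻¹) := by
        simp only [commutatorElement_def, Subgroup.coe_mul]; group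
      show ⁅v, ((x * y : K) : L)⁆ ∈ K
      rw [e]
      exact K.mul_mem (ihx v hv) (K.mul_mem (K.mul_mem x.2 (ihy v hv)) (K.inv_mem x.2))
    | inv x _ ih =>
      intro v hv
      have e : ⁅v, ((x⁻¹ : K) : L)⁆ = (x : L)⁻¹ * ⁅v, (x : L)⁆⁻¹ * (x : L) := by
        simp only [commutatorElement_def, Subgroup.coe_inv]; group
      show ⁅v, ((x⁻¹ : K) : L)⁆ ∈ K
      rw [e]
      exact K.mul_mem (K.mul_mem (K.inv_mem x.2) (K.inv_mem (ih v hv))) x.2
  refine ⟨hle, ?_⟩
  set W := ⁅V, R⁆ with hW
  have hWV : W ≤ V := Subgroup.commutator_le_left V R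
  have hKR : K ≤ Subgroup.normalizer (R : Set L) := by
    haveI := Transfer.pResidual_normal p ↥K
    refine (Subgroup.normal_subgroupOf_iff_le_normalizer hRK).mp ?_
    rw [hR, Subgroup.subgroupOf, Subgroup.comap_map_eq_self_of_injective K.subtype_injective]
    infer_instance
  have hKW : K ≤ Subgroup.normalizer (W : Set L) :=
    Coprime.le_normalizer_commutator Subgroup.le_normalizer_of_normal hKR
  refine PReduced.isPReducedNormal_of_forall
    ((Subgroup.normal_subgroupOf_iff_le_normalizer hle).mpr hKW)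
    ⟨⟨⟨fun a b => Subtype.ext (Subtype.ext ?_)⟩⟩, fun a ha => Subtype.ext (by
      rw [Subgroup.coe_pow, Subgroup.coe_one]; exact hel.2 _ (hWV ha))⟩ fun D hD hDp => ?_
  · have := congrArg Subtype.val (mul_comm' (⟨_, hWV a.2⟩ : V) ⟨_, hWV b.2⟩)
    simp only [Subgroup.coe_mul]
    exact this
  rw [PReduced.subgroupOf_centralizer hle] at hDp ⊢
  set D' := D.map K.subtype with hD'
  have hD'K : D' ≤ K := Subgroup.map_subtype_le _
  -- `p'`-elements of `D` centralize `V`
  have hco : ∀ x ∈ D', (orderOf x).Coprime p → x ∈ Subgroup.centralizer (V : Set L) := by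
    rintro _ ⟨x, hx, rfl⟩ hxp
    change (x : L) ∈ _
    change (orderOf (x : L)).Coprime p at hxp
    obtain ⟨k, hk⟩ := hDp x hx
    rw [Subgroup.mem_subgroupOf, Subgroup.coe_pow] at hk
    have hxW : (x : L) ∈ Subgroup.centralizer (W : Set L) :=
      Subgroup.zpowers_le.mpr hk (mem_zpowers_pow_iff.mpr (Nat.Coprime.pow_right k hxp).symm)
    have hxR : (x : L) ∈ R := Subgroup.mem_map_of_mem K.subtype
      (Transfer.mem_pResidual_of_coprime (by rwa [Subgroup.orderOf_coe] at hxp))
    set Z := Subgroup.zpowers (x : L)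
    have h2 : ⁅⁅V, Z⁆, Z⁆ = ⊥ := by
      rw [eq_bot_iff]
      refine (Subgroup.commutator_mono (Subgroup.commutator_mono le_rfl
        (Subgroup.zpowers_le.mpr hxR) : ⁅V, Z⁆ ≤ W) le_rfl).trans (le_of_eq ?_)
      rw [Subgroup.commutator_comm, Subgroup.commutator_eq_bot_iff_le_centralizer]
      exact Subgroup.zpowers_le.mpr hxW
    have h3 := Coprime.commutator_eq_bot_of_commutator_commutator (A := Z) (K := V)
      Subgroup.le_normalizer_of_normal
      (PSolvable.coprime_card_of_isPGroup hVp (by rwa [Nat.card_zpowers])).symm h2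
    rw [Subgroup.commutator_comm, Subgroup.commutator_eq_bot_iff_le_centralizer] at h3
    exact h3 (Subgroup.mem_zpowers _)
  obtain ⟨-, -, hC, hcore⟩ := hV
  haveI := hC
  set f := QuotientGroup.mk' (Subgroup.centralizer (V : Set L)) with hf
  have hp2 : IsPGroup p (D'.map f) := by
    rintro ⟨_, x, hx, rfl⟩
    obtain ⟨a, m, -, -, hc, -⟩ := Transfer.exists_pow_coprime_part (p := p) x
    refine ⟨a, Subtype.ext ?_⟩
    show f x ^ p ^ a = 1
    rw [← map_pow]
    exact (QuotientGroup.eq_one_iff _).mpr (hco _ (pow_mem hx _) hc)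
  have hsub : (D'.map f).IsSubnormal :=
    Subgroup.IsSubnormal.map (QuotientGroup.mk'_surjective _)
      (Subgroup.IsSubnormal.trans' hD.isSubnormal hK)
  have hbot := Layer.le_pCore_of_isSubnormal hsub hp2
  rw [hcore, le_bot_iff, Subgroup.map_eq_bot_iff, hf, QuotientGroup.ker_mk'] at hbot
  exact fun d hd => Subgroup.centralizer_le hWV (hbot (Subgroup.mem_map_of_mem K.subtype hd))

end Cfsg.Agent.S2804
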