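import Mathlib
import Cfsg.Statements.S2809
import Cfsg.Agent.Lib.Coprime.Action
import Cfsg.Agent.Lib.Transfer.Basic

set_option autoImplicit false
set_option linter.style.haveILetI false
set_option linter.unusedVariables false
open Cfsg

open scoped commutatorElement

namespace Cfsg.Agent.S2809

/-- Let H be a finite group, p a prime, R a p-subgroup of H with C_H(R) ≤ R, and L a subgroup of N_H(R) acting nilpotently on R (some iterated commutator [R, L, …, L] is trivial). Then L is a p-group. -/
theorem result {H : Type*} [Group H] [Finite H] {p : ℕ} [Fact p.Prime] (R : Subgroup H) (hR : IsPGroup p ↥R) (hC : Subgroup.centralizer (R : Set H) ≤ R) (L : Subgroup H) (hL : L ≤ Subgroup.normalizer (R : Set H)) (hnil : ∃ n : ℕ, Cfsg.iterCommutator R L n = ⊥) : IsPGroup p ↥L := by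
  obtain ⟨n, hn⟩ := hnil
  have hLn : ∀ i, L ≤ Subgroup.normalizer ((Cfsg.iterCommutator R L i : Subgroup H) : Set H) := by
    intro i
    induction i with
    | zero => exact hL
    | succ i ih => exact CfsgLib.Coprime.le_normalizer_commutator ih Subgroup.le_normalizer
  have hanti : Antitone (Cfsg.iterCommutator R L) := antitone_nat_of_succ_le fun i =>
    CfsgLib.Coprime.commutator_le_left_of_le_normalizer (hLn i)
  intro x
  obtain ⟨a, m, -, -, hco, -⟩ := CfsgLib.Transfer.exists_pow_coprime_part (p := p) (x : H)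
  set z := (x : H) ^ p ^ a with hz
  have hzL : Subgroup.zpowers z ≤ L := Subgroup.zpowers_le.mpr (L.pow_mem x.2 _)
  obtain ⟨k, hk⟩ := IsPGroup.iff_card.mp hR
  have h1 := CfsgLib.Coprime.commutator_eq_bot_of_chain (A := Subgroup.zpowers z) n
    (fun i => Cfsg.iterCommutator R L i.val) (by simpa using hn) (fun i j h => hanti h)
    (fun i => hzL.trans (hLn i))
    (by rw [Nat.card_zpowers]; change Nat.Coprime _ (Nat.card R); rw [hk]; exact hco.pow_right k)
    (fun i => Subgroup.commutator_mono le_rfl hzL)
  change ⁅R, Subgroup.zpowers z⁆ = ⊥ at h1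
  rw [Subgroup.commutator_eq_bot_iff_le_centralizer, Subgroup.le_centralizer_iff] at h1
  refine ⟨a, Subtype.ext ?_⟩
  have hzR : z ∈ R := hC (h1 (Subgroup.mem_zpowers z))
  have h2 : z = 1 := by
    refine orderOf_eq_one_iff.mp (Nat.eq_one_of_dvd_coprimes (hco.pow_right k) dvd_rfl ?_)
    rw [← hk]
    exact R.orderOf_dvd_natCard hzR
  simpa [hz] using h2

end Cfsg.Agent.S2809
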