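import Mathlib
import Cfsg.Statements.S2810
import Cfsg.Agent.Lib.Coprime.Action
import Cfsg.Agent.Lib.Transfer.Basic
import Cfsg.Agent.Lib.Fitting.Basic

set_option autoImplicit false
set_option linter.style.haveILetI false
set_option linter.unusedVariables false
open Cfsg

open scoped commutatorElement

namespace Cfsg.Agent.S2810

/-- Let H be a finite group of characteristic p and L a subgroup of H centralizing every factor of some H-invariant chain 1 = A₀ ≤ A₁ ≤ … ≤ Aₙ = O_p(H) of normal subgroups (that is, [A_{i+1}, L] ≤ Aᵢ for each i). Then L ≤ O_p(H). -/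
theorem result {H : Type*} [Group H] [Finite H] {p : ℕ} [Fact p.Prime] (hchar : Subgroup.centralizer (Cfsg.pCore p H : Set H) ≤ Cfsg.pCore p H) (L : Subgroup H) (n : ℕ) (A : Fin (n + 1) → Subgroup H) (h0 : A 0 = ⊥) (hn : A (Fin.last n) = Cfsg.pCore p H) (hmono : Monotone A) (hnorm : ∀ i, (A i).Normal) (hcent : ∀ i : Fin n, ⁅A i.succ, L⁆ ≤ A i.castSucc) : L ≤ Cfsg.pCore p H := by
  haveI := CfsgLib.Fitting.pCore_normal (G := H) p
  set N := Subgroup.normalClosure (L : Set H) with hN
  refine le_trans Subgroup.le_normalClosure (CfsgLib.Fitting.le_pCore (hN ▸ inferInstance) ?_)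
  have hcentN : ∀ i : Fin n, ⁅A i.succ, N⁆ ≤ A i.castSucc := by
    intro i
    haveI := hnorm i.succ
    haveI := hnorm i.castSucc
    set q := QuotientGroup.mk' (A i.castSucc) with hq
    haveI : ((A i.succ).map q).Normal := (hnorm i.succ).map q (QuotientGroup.mk'_surjective _)
    have hle : L ≤ (Subgroup.centralizer ((A i.succ).map q : Set (H ⧸ A i.castSucc))).comap q := by
      intro l hl
      rw [Subgroup.mem_comap, Subgroup.mem_centralizer_iff]
      rintro _ ⟨a, ha, rfl⟩
      rw [← commutatorElement_eq_one_iff_mul_comm, ← map_commutatorElement]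
      exact (QuotientGroup.eq_one_iff _).mpr (hcent i (Subgroup.commutator_mem_commutator ha hl))
    have hle' : N ≤ _ := Subgroup.normalClosure_le_normal hle
    rw [Subgroup.commutator_le]
    intro a ha m hm
    have h1 := Subgroup.mem_centralizer_iff.mp (Subgroup.mem_comap.mp (hle' hm)) (q a) ⟨a, ha, rfl⟩
    rw [← commutatorElement_eq_one_iff_mul_comm, ← map_commutatorElement] at h1
    exact (QuotientGroup.eq_one_iff _).mp h1
  intro x
  obtain ⟨a, m, -, -, hco, -⟩ := CfsgLib.Transfer.exists_pow_coprime_part (p := p) (x : H)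
  set z := (x : H) ^ p ^ a with hz
  have hzN : Subgroup.zpowers z ≤ N := Subgroup.zpowers_le.mpr (N.pow_mem x.2 _)
  obtain ⟨k, hk⟩ := IsPGroup.iff_card.mp (CfsgLib.Fitting.pCore_isPGroup (G := H) p)
  have hcop : (Nat.card (Subgroup.zpowers z)).Coprime (Nat.card (Cfsg.pCore p H)) := by
    rw [Nat.card_zpowers, hk]; exact hco.pow_right k
  have h1 := CfsgLib.Coprime.commutator_eq_bot_of_chain (A := Subgroup.zpowers z) n
    (fun i => A i.rev) (by simpa using h0) (fun i j h => hmono (Fin.rev_le_rev.mpr h))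
    (fun i => by haveI := hnorm i.rev; rw [Subgroup.normalizer_eq_top]; exact le_top)
    (by simp only [Fin.rev_zero, hn]; exact hcop)
    (fun i => by
      rw [Fin.rev_castSucc, Fin.rev_succ]
      exact (Subgroup.commutator_mono le_rfl hzN).trans (hcentN i.rev))
  simp only [Fin.rev_zero, hn] at h1
  rw [Subgroup.commutator_eq_bot_iff_le_centralizer, Subgroup.le_centralizer_iff] at h1
  refine ⟨a, Subtype.ext ?_⟩
  have hzR := hchar (h1 (Subgroup.mem_zpowers z))
  have h2 : z = 1 := by
    refine orderOf_eq_one_iff.mp (Nat.eq_one_of_dvd_coprimes (hco.pow_right k) dvd_rfl ?_)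
    rw [← hk]
    exact Subgroup.orderOf_dvd_natCard _ hzR
  simpa [hz] using h2

end Cfsg.Agent.S2810
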