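import Cfsg.Statements.S2812
import Cfsg.Agent.Lib.Layer.CommutatorSplit

set_option autoImplicit false
open Cfsg
open scoped commutatorElement

namespace Cfsg.Agent.S2812

/-- Let H be a subgroup of the finite group G with O_p(H) = 1, Y a p-subgroup of G normalizing H, and L a subgroup of the generalized Fitting subgroup F*(H) that is subnormal in H and normalized by Y. Then L = [L, Y]·C_L(Y) and [L, Y] = [L, Y, Y]. -/
theorem result {G : Type*} [Group G] [Finite G] {p : ℕ} [Fact p.Prime] (H : Subgroup G) (hO : Cfsg.pCore p ↥H = ⊥) (Y : Subgroup G) (hY : IsPGroup p ↥Y) (hYH : Y ≤ Subgroup.normalizer (H : Set G)) (L : Subgroup G) (hLF : L ≤ (Cfsg.generalizedFittingSubgroup ↥H).map H.subtype) (hLsn : (L.subgroupOf H).IsSubnormal) (hYL : Y ≤ Subgroup.normalizer (L : Set G)) : ⁅L, Y⁆ ⊔ (L ⊓ Subgroup.centralizer (Y : Set G)) = L ∧ ⁅L, Y⁆ = ⁅⁅L, Y⁆, Y⁆ := by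
  have hLH : L ≤ H := hLF.trans (Subgroup.map_subtype_le _)
  set L' := L.subgroupOf H with hL'
  have e : L' ≃* L := Subgroup.subgroupOfEquivOfLe hLH
  have h1 : Cfsg.generalizedFittingSubgroup L = ⊤ := by
    refine CfsgLib.Layer.CommutatorSplit.generalizedFitting_eq_top_of_equiv e ?_
    apply Subgroup.map_injective L'.subtype_injective
    rw [CfsgLib.Layer.map_generalizedFittingSubgroup hLsn, ← MonoidHom.range_eq_map,
      Subgroup.range_subtype, inf_eq_right]
    intro x hx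
    obtain ⟨y, hy, hyx⟩ := hLF hx
    rwa [← Subtype.ext hyx]
  have h2 : Cfsg.pCore p L = ⊥ := by
    rw [eq_bot_iff]
    intro x hx
    have hs : IsPGroup p ((Cfsg.pCore p L).map ((Subgroup.inclusion hLH))) :=
      (CfsgLib.Fitting.pCore_isPGroup p).map _
    have hsn : ((Cfsg.pCore p L).map (Subgroup.inclusion hLH)).IsSubnormal := by
      refine Subgroup.IsSubnormal.step _ L' ?_ hLsn ?_
      · rintro _ ⟨y, -, rfl⟩
        exact y.2
      · refine ⟨?_⟩
        rintro ⟨_, hn⟩ ⟨y, hy, rfl⟩ g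
        exact ⟨⟨(g : H), g.2⟩ * y * ⟨(g : H), g.2⟩⁻¹,
          (CfsgLib.Fitting.pCore_normal p).conj_mem y hy _, rfl⟩
    have h3 := CfsgLib.Layer.le_pCore_of_isSubnormal hsn hs (Subgroup.mem_map_of_mem _ hx)
    rw [hO, Subgroup.mem_bot] at h3
    exact Subgroup.inclusion_injective hLH (h3.trans (map_one _).symm)
  have h4 := CfsgLib.Layer.CommutatorSplit.commutator_sup_centralizer_eq h1 h2 hY hYL
  refine ⟨h4, le_antisymm ?_ (Subgroup.commutator_mono
    (CfsgLib.Coprime.commutator_le_left_of_le_normalizer hYL) le_rfl)⟩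
  rw [Subgroup.commutator_le]
  intro l hl y hy
  have hn : L ⊓ Subgroup.centralizer (Y : Set G) ≤ Subgroup.normalizer ((⁅L, Y⁆ : Subgroup G) : Set G) :=
    CfsgLib.Coprime.le_normalizer_commutator (inf_le_left.trans Subgroup.le_normalizer)
      (inf_le_right.trans (Subgroup.centralizer_le_normalizer _))
  have h5 : l ∈ ((⁅L, Y⁆ ⊔ (L ⊓ Subgroup.centralizer (Y : Set G)) : Subgroup G) : Set G) := by
    rw [h4]; exact hl
  rw [Subgroup.coe_mul_of_right_le_normalizer_left _ _ hn] at h5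
  obtain ⟨r, hr, c, hc, rfl⟩ := h5
  have e2 : ⁅r * c, y⁆ = ⁅r, y⁆ := by
    simp only [commutatorElement_def]
    have hcy : c * y = y * c := (hc.2 y hy).symm
    calc r * c * y * (r * c)⁻¹ * y⁻¹ = r * (c * y) * c⁻¹ * r⁻¹ * y⁻¹ := by group
      _ = _ := by rw [hcy]; group
  rw [e2]
  exact Subgroup.commutator_mem_commutator hr hy

end Cfsg.Agent.S2812
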