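import Mathlib
import Cfsg.Statements.S2813
import Cfsg.Agent.Lib.Coprime.Action
import Cfsg.Agent.Lib.Fitting.Basic

set_option autoImplicit false
set_option linter.style.haveILetI false
set_option linter.unusedVariables false
open Cfsg

open scoped commutatorElement

namespace Cfsg.Agent.S2813

/-- Let K be a subgroup of the finite group H with O_p(K) = 1 and Y a p-subgroup of N_H(K) with [K, Y, Y] = 1. Then [K, Y] = 1. -/
theorem result {H : Type*} [Group H] [Finite H] {p : ℕ} [Fact p.Prime] (K : Subgroup H) (hO : Cfsg.pCore p ↥K = ⊥) (Y : Subgroup H) (hY : IsPGroup p ↥Y) (hYK : Y ≤ Subgroup.normalizer (K : Set H)) (hq : ⁅⁅K, Y⁆, Y⁆ = ⊥) : ⁅K, Y⁆ = ⊥ := by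
  set W := ⁅K, Y⁆ with hW
  have hWK : W ≤ K := CfsgLib.Coprime.commutator_le_left_of_le_normalizer hYK
  have hKW : K ≤ Subgroup.normalizer (W : Set H) := by
    intro k hk
    refine Subgroup.mem_normalizer_fintype fun w hw => ?_
    induction hw using Subgroup.closure_induction with
    | mem _ hb =>
      obtain ⟨a, ha, y, hy, rfl⟩ := hb
      have e : k * ⁅a, y⁆ * k⁻¹ = ⁅k * a, y⁆ * ⁅k, y⁆⁻¹ := by simp only [commutatorElement_def]; group
      rw [e]
      exact W.mul_mem (Subgroup.commutator_mem_commutator (K.mul_mem hk ha) hy)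
        (W.inv_mem (Subgroup.commutator_mem_commutator hk hy))
    | one => simp
    | mul b c _ _ ihb ihc => rw [← conj_mul]; exact W.mul_mem ihb ihc
    | inv b _ ih => rw [← conj_inv]; exact W.inv_mem ih
  have hYW : ∀ y ∈ Y, ∀ w ∈ W, y * w = w * y := fun y hy w hw =>
    Subgroup.mem_centralizer_iff.mp (Subgroup.commutator_eq_bot_iff_le_centralizer.mp hq hw) y hy
  have hab : ∀ u ∈ W, ∀ w ∈ W, u * w = w * u := by
    intro u hu w hw
    induction hu using Subgroup.closure_induction with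
    | mem _ hb =>
      obtain ⟨a, ha, y, hy, rfl⟩ := hb
      have c1 : Commute (a * y * a⁻¹) w := by
        have h1 := (Subgroup.mem_normalizer_iff''.mp (hKW ha) w).mp hw
        have := congrArg (fun z => a * z * a⁻¹) (hYW y hy _ h1)
        change (a * y * a⁻¹) * w = w * (a * y * a⁻¹)
        calc (a * y * a⁻¹) * w = a * (y * (a⁻¹ * w * a)) * a⁻¹ := by group
          _ = a * ((a⁻¹ * w * a) * y) * a⁻¹ := this
          _ = _ := by group
      have c2 : Commute y⁻¹ w := (show Commute y w from hYW y hy w hw).inv_left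
      exact (c1.mul_left c2).eq
    | one => simp
    | mul b c _ _ ihb ihc => exact (Commute.mul_left (show Commute b w from ihb) (show Commute c w from ihc)).eq
    | inv b _ ih => exact (Commute.inv_left (show Commute b w from ih)).eq
  let Wp : Subgroup K :=
    { carrier := {w | (w : H) ∈ W ∧ ∃ n : ℕ, (w : H) ^ p ^ n = 1}
      one_mem' := ⟨W.one_mem, 0, by simp⟩
      mul_mem' := fun {a b} ha hb => ⟨W.mul_mem ha.1 hb.1, by
        obtain ⟨i, hi⟩ := ha.2
        obtain ⟨j, hj⟩ := hb.2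
        refine ⟨i + j, ?_⟩
        rw [Subgroup.coe_mul, (show Commute (a : H) b from hab _ ha.1 _ hb.1).mul_pow, pow_add, pow_mul, hi,
          one_pow, one_mul, mul_comm, pow_mul, hj, one_pow]⟩
      inv_mem' := fun {a} ha => ⟨W.inv_mem ha.1, by
        obtain ⟨i, hi⟩ := ha.2
        exact ⟨i, by rw [Subgroup.coe_inv, inv_pow, hi, inv_one]⟩⟩ }
  have hWpn : Wp.Normal := ⟨fun w hw k => ⟨(Subgroup.mem_normalizer_iff.mp (hKW k.2) _).mp hw.1, by
    obtain ⟨i, hi⟩ := hw.2
    refine ⟨i, ?_⟩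
    rw [Subgroup.coe_mul, Subgroup.coe_mul, Subgroup.coe_inv, conj_pow, hi, mul_one, mul_inv_cancel]⟩⟩
  have hWp : Wp = ⊥ := le_bot_iff.mp (hO ▸ CfsgLib.Fitting.le_pCore hWpn (fun w => by
    obtain ⟨i, hi⟩ := w.2.2
    exact ⟨i, Subtype.ext (Subtype.ext (by simpa using hi))⟩))
  rw [eq_bot_iff, hW, Subgroup.commutator_le]
  intro k hk y hy
  have hw : ⁅k, y⁆ ∈ W := Subgroup.commutator_mem_commutator hk hy
  obtain ⟨i, hi⟩ := hY ⟨y, hy⟩
  have hy' : y ^ p ^ i = 1 := by simpa using congrArg Subtype.val hi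
  have e : k * y * k⁻¹ = ⁅k, y⁆ * y := by simp only [commutatorElement_def]; group
  have h1 := congrArg (· ^ p ^ i) e
  beta_reduce at h1
  rw [conj_pow, hy', mul_one, mul_inv_cancel,
    (show Commute ⁅k, y⁆ y from (hYW y hy _ hw).symm).mul_pow, hy', mul_one] at h1
  have hmem : (⟨⁅k, y⁆, hWK hw⟩ : K) ∈ Wp := ⟨hw, i, h1.symm⟩
  rw [hWp, Subgroup.mem_bot] at hmem
  exact Subgroup.mem_bot.mpr (congrArg Subtype.val hmem)

end Cfsg.Agent.S2813
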