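import Cfsg.Statements.S2814
import Cfsg.Agent.Lib.Subnormal.Basic
import Cfsg.Agent.Lib.Transfer.Basic
import Cfsg.Agent.Lib.Coprime.Action

set_option autoImplicit false
set_option linter.style.haveILetI false
set_option linter.unusedVariables false
open Cfsg

open scoped commutatorElement

namespace Cfsg.Agent.S2814

/-- Let A be a subgroup of the finite group H and K the subnormal closure of A (intersection of the subnormal subgroups containing A). Then K is the normal closure of A inside K and N_H(A) ≤ N_H(K); K = A·O^p(K), O^p(K) being generated by the elements of K of order prime to p; and if A is a p-group, O^p(K) = [O^p(K), A]. -/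
theorem result {H : Type*} [Group H] [Finite H] {p : ℕ} [Fact p.Prime] (A : Subgroup H) (K : Subgroup H) (hK : K = Cfsg.subnormalClosure A) : (Subgroup.normalClosure ((A.subgroupOf K : Subgroup ↥K) : Set ↥K)).map K.subtype = K ∧ Subgroup.normalizer (A : Set H) ≤ Subgroup.normalizer (K : Set H) ∧ A ⊔ (Cfsg.pResidual p ↥K).map K.subtype = K ∧ (IsPGroup p ↥A → ⁅(Cfsg.pResidual p ↥K).map K.subtype, A⁆ = (Cfsg.pResidual p ↥K).map K.subtype) := by
  subst hK
  set K := Cfsg.subnormalClosure A with hKdef
  have hKsn : K.IsSubnormal := CfsgLib.Subnormal.subnormalClosure_isSubnormal A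
  have hAK : A ≤ K := CfsgLib.Subnormal.le_subnormalClosure A
  haveI := CfsgLib.Transfer.pResidual_normal p K
  haveI : Group.IsNilpotent (K ⧸ Cfsg.pResidual p K) :=
    (CfsgLib.Transfer.isPGroup_quotient_pResidual (p := p) (G := K)).isNilpotent
  have hsup : A.subgroupOf K ⊔ Cfsg.pResidual p K = ⊤ := by
    have h1 := CfsgLib.Subnormal.isSubnormal_map_subtype
      (CfsgLib.Subnormal.sup_isSubnormal_of_quotient (A.subgroupOf K) (Cfsg.pResidual p K)) hKsn
    have h2 : K ≤ (A.subgroupOf K ⊔ Cfsg.pResidual p K).map K.subtype :=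
      CfsgLib.Subnormal.subnormalClosure_le (fun a ha =>
      ⟨⟨a, hAK ha⟩, Subgroup.mem_sup_left (show (⟨a, hAK ha⟩ : K) ∈ A.subgroupOf K from ha), rfl⟩) h1
    refine top_le_iff.mp fun x _ => ?_
    obtain ⟨y, hy, e⟩ := h2 (x.2 : (x : H) ∈ K)
    exact Subtype.ext e ▸ hy
  refine ⟨?_, ?_, ?_, fun hA => ?_⟩
  · set N := Subgroup.normalClosure ((A.subgroupOf K : Subgroup K) : Set K) with hN
    have h2 : K ≤ N.map K.subtype := CfsgLib.Subnormal.subnormalClosure_le (A := A) (fun a ha =>
      ⟨⟨a, hAK ha⟩, Subgroup.subset_normalClosure (show (⟨a, hAK ha⟩ : K) ∈ A.subgroupOf K from ha), rfl⟩)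
      (CfsgLib.Subnormal.isSubnormal_map_subtype (Subgroup.normalClosure_normal.isSubnormal) hKsn)
    exact le_antisymm (by rintro _ ⟨x, -, rfl⟩; exact x.2) h2
  · intro g hg
    refine Subgroup.mem_normalizer_fintype fun x hx => ?_
    have h1 : K ≤ K.comap (MulAut.conj g).toMonoidHom := by
      refine CfsgLib.Subnormal.subnormalClosure_le (A := A) (fun a ha => ?_) (hKsn.comap _)
      exact hAK ((Subgroup.mem_normalizer_iff.mp hg a).mp ha)
    exact h1 hx
  · rw [← Subgroup.map_subgroupOf_eq_of_le hAK, ← Subgroup.map_sup, hsup, ← MonoidHom.range_eq_map,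
      Subgroup.range_subtype]
  · set R := Cfsg.pResidual p K with hR
    set A' := A.subgroupOf K with hA'
    rw [← Subgroup.map_subgroupOf_eq_of_le hAK, ← Subgroup.map_commutator]
    refine congrArg _ ?_
    set W := ⁅R, A'⁆ with hW
    have hWR : W ≤ R := Subgroup.commutator_le_left R A'
    refine le_antisymm hWR ?_
    have hRW : R ≤ Subgroup.normalizer (W : Set K) := by
      intro u hu
      refine Subgroup.mem_normalizer_fintype fun y hy => ?_
      have h : W.map (MulAut.conj u).toMonoidHom ≤ W := by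
        rw [hW, Subgroup.commutator_def, MonoidHom.map_closure, Subgroup.closure_le]
        rintro _ ⟨_, ⟨v, hv, b, hb, rfl⟩, rfl⟩
        change u * ⁅v, b⁆ * u⁻¹ ∈ ⁅R, A'⁆
        rw [show u * ⁅v, b⁆ * u⁻¹ = ⁅u * v, b⁆ * ⁅u, b⁆⁻¹ by simp only [commutatorElement_def]; group]
        exact Subgroup.mul_mem _ (Subgroup.commutator_mem_commutator (R.mul_mem hu hv) hb)
          (Subgroup.inv_mem _ (Subgroup.commutator_mem_commutator hu hb))
      exact h ⟨y, hy, rfl⟩
    have hAW : A' ≤ Subgroup.normalizer (W : Set K) :=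
      CfsgLib.Coprime.le_normalizer_commutator (by rw [Subgroup.normalizer_eq_top]; exact le_top)
        Subgroup.le_normalizer
    haveI hWn : W.Normal := Subgroup.normalizer_eq_top_iff.mp
      (top_le_iff.mp (hsup ▸ sup_le hAW hRW))
    set q := QuotientGroup.mk' W with hq
    have hcomm : ∀ r ∈ R, ∀ a ∈ A', Commute (q r) (q a) := by
      intro r hr a ha
      refine commutatorElement_eq_one_iff_commute.mp ?_
      rw [← map_commutatorElement]
      exact (QuotientGroup.eq_one_iff _).mpr (Subgroup.commutator_mem_commutator hr ha)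
    haveI hAn : (A'.map q).Normal := by
      refine Subgroup.normalizer_eq_top_iff.mp (top_le_iff.mp ?_)
      rw [← Subgroup.map_top_of_surjective q (QuotientGroup.mk'_surjective W), ← hsup, Subgroup.map_sup]
      refine sup_le Subgroup.le_normalizer ?_
      rintro _ ⟨r, hr, rfl⟩
      refine Subgroup.centralizer_le_normalizer _ (Subgroup.mem_centralizer_iff.mpr ?_)
      rintro _ ⟨a, ha, rfl⟩
      exact ((hcomm r hr a ha).eq).symm
    have hAWn : ((A' ⊔ W).map K.subtype).IsSubnormal := by
      refine CfsgLib.Subnormal.isSubnormal_map_subtype (Subgroup.Normal.isSubnormal ?_) hKsn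
      have h := hAn.comap q
      rwa [Subgroup.comap_map_eq, hq, QuotientGroup.ker_mk'] at h
    have htop : A' ⊔ W = ⊤ := by
      refine top_le_iff.mp fun x _ => ?_
      have h2 : K ≤ (A' ⊔ W).map K.subtype := CfsgLib.Subnormal.subnormalClosure_le (fun a ha =>
        ⟨⟨a, hAK ha⟩, Subgroup.mem_sup_left (show (⟨a, hAK ha⟩ : K) ∈ A' from ha), rfl⟩) hAWn
      obtain ⟨y, hy, e⟩ := h2 (x.2 : (x : H) ∈ K)
      exact Subtype.ext e ▸ hy
    have hsurj : Function.Surjective (q.comp A'.subtype) := by
      intro y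
      obtain ⟨x, rfl⟩ := QuotientGroup.mk'_surjective W y
      obtain ⟨a, ha, w, hw, e⟩ := Subgroup.mem_sup_of_normal_right.mp
        (show x ∈ A' ⊔ W by rw [htop]; trivial)
      refine ⟨⟨a, ha⟩, ?_⟩
      rw [← e]
      change q a = q (a * w)
      rw [map_mul, show q w = 1 from (QuotientGroup.eq_one_iff w).mpr hw, mul_one]
    exact CfsgLib.Transfer.pResidual_le_of_isPGroup_quotient W
      ((hA.comap_of_injective _ K.subtype_injective).of_surjective _ hsurj)

end Cfsg.Agent.S2814
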