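import Cfsg.Statements.S2815
import Cfsg.Agent.Lib.Layer.Characteristic

set_option autoImplicit false
open Cfsg CfsgLib

namespace Cfsg.Agent.S2815

open scoped commutatorElement

/-- Let H be a finite group and p a prime dividing its order with O_p(H) = 1, and suppose K = O^p(H) (generated by the elements of order prime to p) is quasisimple. Then K = F*(H); for every nontrivial p-subgroup Y of H, K = [K, Y] and K lies in the subgroup generated by the K-conjugates of Y; every normal subgroup of H not containing K has order prime to p; and H is p-irreducible. -/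
theorem result {H : Type*} [Group H] [Finite H] {p : ℕ} [Fact p.Prime] (hp : p ∣ Nat.card H) (hO : Cfsg.pCore p H = ⊥) (hq : Cfsg.IsQuasisimple ↥(Cfsg.pResidual p H)) : Cfsg.pResidual p H = Cfsg.generalizedFittingSubgroup H ∧ (∀ Y : Subgroup H, IsPGroup p ↥Y → Y ≠ ⊥ → ⁅Cfsg.pResidual p H, Y⁆ = Cfsg.pResidual p H ∧ Cfsg.pResidual p H ≤ ⨆ k : ↥(Cfsg.pResidual p H), Y.map (MulAut.conj (k : H)).toMonoidHom) ∧ (∀ C : Subgroup H, C.Normal → ¬ Cfsg.pResidual p H ≤ C → (Nat.card ↥C).Coprime p) ∧ Cfsg.IsPIrreducible p H := by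
  set R := pResidual p H with hR
  haveI := Transfer.pResidual_normal p H
  haveI := Fitting.pCore_normal (G := H) p
  have hcomp : IsComponent R := ⟨(inferInstance : R.Normal).isSubnormal, hq⟩
  have hperf : ⁅R, R⁆ = R := Layer.isPerfect_of_isComponent hcomp
  set C := Subgroup.centralizer (R : Set H) with hC
  have hcop : ∀ x : H, (orderOf x).Coprime p → x ∈ R := fun x => Transfer.mem_pResidual_of_coprime
  -- the centralizer of `R` is the centre of `R`
  have hCc : (Nat.card C).Coprime p := by
    refine ((Fact.out : p.Prime).coprime_iff_not_dvd.mpr fun hd => ?_).symm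
    obtain ⟨S⟩ := (inferInstance : Nonempty (Sylow p C))
    have hres : pResidual p C ≤ Subgroup.center C := by
      rw [pResidual, Subgroup.closure_le]
      intro x hx
      rw [SetLike.mem_coe, Subgroup.mem_center_iff]
      intro c
      exact Subtype.ext (c.2 x (hcop _ (by rw [Subgroup.orderOf_coe]; exact hx))).symm
    haveI : (S : Subgroup C).Normal := by
      rw [← Subgroup.normalizer_eq_top_iff, ← top_le_iff, ← Transfer.sylow_sup_pResidual S]
      refine sup_le Subgroup.le_normalizer (hres.trans ?_)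
      intro z hz
      rw [Subgroup.mem_normalizer_iff]
      intro y
      rw [← Subgroup.mem_center_iff.mp hz y, mul_inv_cancel_right]
    haveI : (S : Subgroup C).Characteristic := Sylow.characteristic_of_normal S inferInstance
    refine S.ne_bot_of_dvd_card hd ((Subgroup.map_eq_bot_iff_of_injective _ C.subtype_injective).mp ?_)
    exact le_bot_iff.mp ((Fitting.le_pCore inferInstance (S.2.map _)).trans hO.le)
  have hCR : C ≤ R := fun x hx => hcop x (hCc.coprime_dvd_left (C.orderOf_dvd_natCard hx))
  have hsplit : ∀ N : Subgroup H, ⁅N, R⁆ ≤ C → ⁅⁅R, N⁆, R⁆ = ⊥ → N ≤ C := by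
    intro N h1 h2
    have h3 : ⁅⁅N, R⁆, R⁆ = ⊥ := Subgroup.commutator_eq_bot_iff_le_centralizer.mpr h1
    have h4 := Subgroup.commutator_commutator_eq_bot_of_rotate h2 h3
    rw [hperf, Subgroup.commutator_comm, Subgroup.commutator_eq_bot_iff_le_centralizer] at h4
    exact h4
  have hnor : ∀ W : Subgroup H, R ≤ Subgroup.normalizer (W : Set H) → W ≤ R → ¬ R ≤ W → W ≤ C := by
    intro W hW hWR hne
    haveI := (Subgroup.normal_subgroupOf_iff_le_normalizer hWR).mpr hW
    rcases Layer.eq_top_or_le_center_of_normal hq (W.subgroupOf R) with e | e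
    · exact absurd (Subgroup.subgroupOf_eq_top.mp e) hne
    · intro w hw r hr
      exact congrArg Subtype.val
        (Subgroup.mem_center_iff.mp (e (show (⟨w, hWR hw⟩ : R) ∈ W.subgroupOf R from hw)) ⟨r, hr⟩)
  have h3 : ∀ N : Subgroup H, N.Normal → ¬ R ≤ N → (Nat.card N).Coprime p := by
    intro N hN hne
    haveI := hN
    have h1 : ⁅N, R⁆ ≤ C := hnor _ Subgroup.le_normalizer_of_normal (Subgroup.commutator_le_right N R)
      fun h => hne (h.trans (Subgroup.commutator_le_left N R))
    exact hCc.coprime_dvd_left (Subgroup.card_dvd_of_le (hsplit N h1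
      (by rw [Subgroup.commutator_comm R N]; exact Subgroup.commutator_eq_bot_iff_le_centralizer.mpr h1)))
  have hnp : ∀ (K : Subgroup H), K.Normal → IsPClosed p K → (Nat.card K).Coprime p := by
    intro K hK hcl
    refine ((Fact.out : p.Prime).coprime_iff_not_dvd.mpr fun hd => ?_).symm
    obtain ⟨S⟩ := (inferInstance : Nonempty (Sylow p K))
    haveI := hK
    haveI : (S : Subgroup K).Characteristic := Sylow.characteristic_of_normal S (hcl S)
    refine S.ne_bot_of_dvd_card hd ((Subgroup.map_eq_bot_iff_of_injective _ K.subtype_injective).mp ?_)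
    exact le_bot_iff.mp ((Fitting.le_pCore inferInstance (S.2.map _)).trans hO.le)
  refine ⟨le_antisymm (Layer.le_generalizedFitting_of_isComponent hcomp) (sup_le ?_ ?_), fun Y hY hY1 => ?_,
    h3, fun hcl => ?_, fun N hN hncl => ?_⟩
  · refine sSup_le fun L hL => ?_
    rcases eq_or_ne L R with rfl | hne
    · exact le_rfl
    · exact (Subgroup.commutator_eq_bot_iff_le_centralizer.mp
        (Layer.commutator_eq_bot_of_ne hL hcomp hne)).trans hCR
  · have := Fitting.fittingSubgroup_normal (G := H)
    haveI := this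
    refine (Subgroup.commutator_eq_bot_iff_le_centralizer.mp ?_).trans hCR
    rw [Subgroup.commutator_comm]
    exact Layer.commutator_eq_bot_of_isSolvable hcomp Layer.fittingSubgroup_isSolvable
      Subgroup.le_normalizer_of_normal
  · have hW : ⁅R, Y⁆ ≤ R := Subgroup.commutator_le_left R Y
    have hRY : ⁅R, Y⁆ = R := by
      refine le_antisymm hW (by_contra fun hne => hY1 ?_)
      have h1 := hnor _ (Subgroup.normalizer_commutator_ge_left R Y) hW hne
      have hYC : Y ≤ C := hsplit Y (by rwa [Subgroup.commutator_comm])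
        (Subgroup.commutator_eq_bot_iff_le_centralizer.mpr h1)
      exact (Subgroup.eq_bot_iff_forall Y).mpr fun y hy =>
        PSolvable.eq_one_of_mem_of_mem hY hCc hy (hYC hy)
    refine ⟨hRY, hRY.ge.trans ?_⟩
    rw [Subgroup.commutator_le]
    intro r hr y hy
    set J := ⨆ k : ↥R, Y.map (MulAut.conj (k : H)).toMonoidHom
    have h1 : r * y * r⁻¹ ∈ J := Subgroup.mem_iSup_of_mem ⟨r, hr⟩ ⟨y, hy, rfl⟩
    have h2 : y ∈ J := Subgroup.mem_iSup_of_mem 1 ⟨y, hy, by simp⟩
    rw [commutatorElement_def]
    exact J.mul_mem h1 (J.inv_mem h2)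
  · obtain ⟨S⟩ := (inferInstance : Nonempty (Sylow p H))
    exact S.ne_bot_of_dvd_card hp (le_bot_iff.mp ((Fitting.le_pCore (hcl S) S.2).trans hO.le))
  · by_contra hne
    refine hncl fun S => ?_
    have h1 : (S : Subgroup N) = ⊥ := by
      rw [Subgroup.eq_bot_iff_forall]
      intro x hx
      exact PSolvable.eq_one_of_mem_of_mem S.2 (K := ⊤) (by rw [Subgroup.card_top]; exact h3 N hN hne) hx trivial
    rw [h1]
    infer_instance

end Cfsg.Agent.S2815
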