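import Cfsg.Statements.S2816
import Cfsg.Agent.Lib.Layer.CommutatorSplit

set_option autoImplicit false
open Cfsg
open scoped commutatorElement
set_option linter.style.haveILetI false

namespace Cfsg.Agent.S2816

/-- Let H be a finite group and p a prime with O_p(H) = 1, and Y a p-subgroup of H. Then for every subnormal subgroup K of H containing Y, [F*(H), Y] = [F*(K), Y] = [F*(K), Y, Y]; and if Y₀ ≤ Y with [F*(H), Y, Y₀] = 1 then Y₀ = 1 (in particular [F*(H), Y] = 1 forces Y = 1). -/
theorem result {H : Type*} [Group H] [Finite H] {p : ℕ} [Fact p.Prime] (hO : Cfsg.pCore p H = ⊥) (Y : Subgroup H) (hY : IsPGroup p ↥Y) : (∀ K : Subgroup H, K.IsSubnormal → Y ≤ K → ⁅Cfsg.generalizedFittingSubgroup H, Y⁆ = ⁅(Cfsg.generalizedFittingSubgroup ↥K).map K.subtype, Y⁆ ∧ ⁅(Cfsg.generalizedFittingSubgroup ↥K).map K.subtype, Y⁆ = ⁅⁅(Cfsg.generalizedFittingSubgroup ↥K).map K.subtype, Y⁆, Y⁆) ∧ (∀ Y₀ : Subgroup H, Y₀ ≤ Y → ⁅⁅Cfsg.generalizedFittingSubgroup H, Y⁆, Y₀⁆ = ⊥ → Y₀ = ⊥) := by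
  haveI : (Cfsg.generalizedFittingSubgroup H).Normal := CfsgLib.Layer.generalizedFitting_normal
  set F := Cfsg.generalizedFittingSubgroup H with hF
  have hFn : F.IsSubnormal := Subgroup.Normal.isSubnormal inferInstance
  have hgF : Cfsg.generalizedFittingSubgroup F = ⊤ := by
    apply Subgroup.map_injective F.subtype_injective
    rw [CfsgLib.Layer.map_generalizedFittingSubgroup hFn, ← MonoidHom.range_eq_map,
      Subgroup.range_subtype, inf_idem]
  have hOF : Cfsg.pCore p F = ⊥ := by
    have h1 := CfsgLib.PSolvable.map_pCore_le (p := p) F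
    rw [hO, le_bot_iff] at h1
    exact (Subgroup.map_eq_bot_iff_of_injective _ F.subtype_injective).mp h1
  have hYN : Y ≤ Subgroup.normalizer (F : Set H) := Subgroup.le_normalizer_of_normal
  have h4 := CfsgLib.Layer.CommutatorSplit.commutator_sup_centralizer_eq hgF hOF hY hYN
  have hD : ⁅F, Y⁆ ≤ F := CfsgLib.Coprime.commutator_le_left_of_le_normalizer hYN
  have hiter : ⁅⁅F, Y⁆, Y⁆ = ⁅F, Y⁆ := by
    refine le_antisymm (Subgroup.commutator_mono hD le_rfl) ?_
    rw [Subgroup.commutator_le]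
    intro l hl y hy
    have hn : F ⊓ Subgroup.centralizer (Y : Set H) ≤
        Subgroup.normalizer ((⁅F, Y⁆ : Subgroup H) : Set H) :=
      CfsgLib.Coprime.le_normalizer_commutator (inf_le_left.trans Subgroup.le_normalizer)
        (inf_le_right.trans (Subgroup.centralizer_le_normalizer _))
    have h5 : l ∈ ((⁅F, Y⁆ ⊔ (F ⊓ Subgroup.centralizer (Y : Set H)) : Subgroup H) : Set H) := by
      rw [h4]; exact hl
    rw [Subgroup.coe_mul_of_right_le_normalizer_left _ _ hn] at h5
    obtain ⟨r, hr, c, hc, rfl⟩ := h5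
    have hcy : c * y = y * c := (hc.2 y hy).symm
    have e2 : ⁅r * c, y⁆ = ⁅r, y⁆ := by
      simp only [commutatorElement_def]
      calc r * c * y * (r * c)⁻¹ * y⁻¹ = r * (c * y) * c⁻¹ * r⁻¹ * y⁻¹ := by group
        _ = _ := by rw [hcy]; group
    rw [e2]
    exact Subgroup.commutator_mem_commutator hr hy
  refine ⟨fun K hK hYK => ?_, fun Y₀ hY₀ hc => ?_⟩
  · have hle : ∀ K' : Subgroup H, K'.IsSubnormal → Y ≤ K' → ⁅F, Y⁆ ≤ K' := by
      intro K' hK' hYK'
      induction hK' with
      | top => exact le_top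
      | step A B hAB _ hn ih =>
        have hBn : B ≤ Subgroup.normalizer (A : Set H) :=
          (Subgroup.normal_subgroupOf_iff_le_normalizer hAB).mp hn
        rw [← hiter, Subgroup.commutator_le]
        intro a ha y hy
        have h1 := (Subgroup.mem_normalizer_iff.mp (hBn (ih (hYK'.trans hAB) ha)) y).mp (hYK' hy)
        exact mul_mem h1 (inv_mem (hYK' hy))
    have hmap : (Cfsg.generalizedFittingSubgroup K).map K.subtype = F ⊓ K :=
      CfsgLib.Layer.map_generalizedFittingSubgroup hK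
    have e1 : ⁅F, Y⁆ = ⁅F ⊓ K, Y⁆ := le_antisymm
      (by conv_lhs => rw [← hiter]
          exact Subgroup.commutator_mono (le_inf hD (hle K hK hYK)) le_rfl)
      (Subgroup.commutator_mono inf_le_left le_rfl)
    rw [hmap, ← e1, hiter]
    exact ⟨rfl, rfl⟩
  · rw [Subgroup.commutator_eq_bot_iff_le_centralizer, Subgroup.le_centralizer_iff] at hc
    have h1 : Y₀ ≤ Subgroup.centralizer (F : Set H) := by
      rw [Subgroup.le_centralizer_iff]
      conv_lhs => rw [← h4]
      exact sup_le (Subgroup.le_centralizer_iff.mp hc)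
        (inf_le_right.trans (Subgroup.centralizer_le hY₀))
    set Z := F ⊓ Subgroup.centralizer (F : Set H) with hZ
    have h2 : Y₀ ≤ Z := le_inf (h1.trans CfsgLib.Layer.centralizer_generalizedFitting_le) h1
    haveI : (Subgroup.centralizer (F : Set H)).Normal := Subgroup.normal_centralizer
    have hn : (Y₀.subgroupOf Z).Normal := ⟨fun n hn' g => by
      have e : g * n * g⁻¹ = n := Subtype.ext (by
        show (g : H) * n * (g : H)⁻¹ = n
        rw [← (g.2).2 n n.2.1, mul_inv_cancel_right])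
      rw [e]; exact hn'⟩
    have hsn : Y₀.IsSubnormal := Subgroup.IsSubnormal.step _ Z h2
      (Subgroup.Normal.isSubnormal inferInstance) hn
    have h3 := CfsgLib.Layer.le_pCore_of_isSubnormal hsn (hY.to_le hY₀)
    rwa [hO, le_bot_iff] at h3

end Cfsg.Agent.S2816
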