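import Cfsg.Statements.S2817
import Cfsg.Agent.Lib.Layer.CommutatorSplit
import Cfsg.Agent.Lib.Layer.FStar
import Cfsg.Agent.Lib.Layer.Radical

set_option autoImplicit false
open Cfsg

open scoped commutatorElement
open CfsgLib

namespace Cfsg.Agent.S2817

theorem le_normalizer_commutator_left {H : Type*} [Group H] [Finite H] (A B : Subgroup H) :
    A ≤ Subgroup.normalizer ((⁅A, B⁆ : Subgroup H) : Set H) := by
  intro l hl
  rw [← Transfer.map_conj_eq_self_iff]
  refine Subgroup.eq_of_le_of_card_ge ?_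
    (by rw [Subgroup.card_map_of_injective (MulAut.conj l).injective])
  rw [Subgroup.map_le_iff_le_comap, Subgroup.commutator_le]
  intro a ha y hy
  show l * ⁅a, y⁆ * l⁻¹ ∈ ⁅A, B⁆
  have e : l * ⁅a, y⁆ * l⁻¹ = ⁅l * a, y⁆ * ⁅l, y⁆⁻¹ := by
    simp only [commutatorElement_def]; group
  rw [e]
  exact mul_mem (Subgroup.commutator_mem_commutator (mul_mem hl ha) hy)
    (inv_mem (Subgroup.commutator_mem_commutator hl hy))

/-- A central subgroup of `L = [L, Q]` of order prime to `p`, centralized by the `p`-group `Q`, lies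
in every maximal subgroup of `L`. -/
theorem le_frattini {H : Type*} [Group H] [Finite H] {p : ℕ} [Fact p.Prime] {L Q D : Subgroup H}
    (hQ : IsPGroup p Q) (hQL : Q ≤ Subgroup.normalizer (L : Set H)) (hLQ : ⁅L, Q⁆ = L) (hDL : D ≤ L)
    (hDc : ∀ d ∈ D, ∀ l ∈ L, d * l = l * d) (hDQ : ∀ d ∈ D, ∀ q ∈ Q, q * d = d * q)
    (hD : (Nat.card D).Coprime p) : D ≤ (frattini L).map L.subtype := by
  classical
  intro d hd
  refine ⟨⟨d, hDL hd⟩, ?_, rfl⟩
  rw [frattini, Order.radical]
  simp only [SetLike.mem_coe, Subgroup.mem_iInf]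
  intro M hM
  by_contra hdM
  set D' := D.subgroupOf L with hD'
  have hD'c : D' ≤ Subgroup.center L := fun x hx =>
    Subgroup.mem_center_iff.mpr fun y => Subtype.ext (hDc x hx y y.2).symm
  haveI : D'.Normal := ⟨fun x hx y => by
    rw [Subgroup.mem_center_iff.mp (hD'c hx) y, mul_inv_cancel_right]; exact hx⟩
  have hsup : M ⊔ D' = ⊤ := hM.2 _ (lt_of_le_of_ne le_sup_left fun h => hdM
    (h ▸ Subgroup.mem_sup_right (show (⟨d, hDL hd⟩ : L) ∈ D' from hd)))
  have hprod : ∀ y : L, ∃ a ∈ M, ∃ b ∈ D', a * b = y := fun y =>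
    Subgroup.mem_sup_of_normal_right.mp (hsup ▸ Subgroup.mem_top y)
  haveI hMn : M.Normal := ⟨fun x hx y => by
    obtain ⟨a, ha, b, hb, rfl⟩ := hprod y
    have hbc := Subgroup.mem_center_iff.mp (hD'c hb)
    rw [show a * b * x * (a * b)⁻¹ = a * (b * x) * b⁻¹ * a⁻¹ by group, ← hbc x,
      show a * (x * b) * b⁻¹ * a⁻¹ = a * x * a⁻¹ by group]
    exact mul_mem (mul_mem ha hx) (inv_mem ha)⟩
  let π := QuotientGroup.mk' M
  have hπD : ∀ y : L, ∃ b ∈ D', π b = π y := fun y => by
    obtain ⟨a, ha, b, hb, rfl⟩ := hprod y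
    exact ⟨b, hb, by rw [map_mul, show π a = 1 from (QuotientGroup.eq_one_iff a).mpr ha, one_mul]⟩
  letI : CommGroup (L ⧸ M) :=
    { (inferInstance : Group (L ⧸ M)) with
      mul_comm := fun u v => by
        obtain ⟨y, rfl⟩ := QuotientGroup.mk'_surjective M u
        obtain ⟨z, rfl⟩ := QuotientGroup.mk'_surjective M v
        obtain ⟨b, hb, e⟩ := hπD y
        show π y * π z = π z * π y
        rw [← e, ← map_mul, ← map_mul, Subgroup.mem_center_iff.mp (hD'c hb) z] }
  haveI := Fintype.ofFinite Q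
  let cq : Q → L → L := fun q l =>
    ⟨q * l * (q : H)⁻¹, (Subgroup.mem_normalizer_iff.mp (hQL q.2) _).mp l.2⟩
  let χ : L →* L ⧸ M := MonoidHom.mk' (fun l => ∏ q : Q, π (cq q l)) fun a b => by
    rw [← Finset.prod_mul_distrib]
    refine Finset.prod_congr rfl fun q _ => ?_
    rw [← map_mul]
    congr 1
    apply Subtype.ext
    show (q : H) * (a * b) * (q : H)⁻¹ = q * a * (q : H)⁻¹ * (q * b * (q : H)⁻¹)
    group
  have hinvar : ∀ (q0 : Q) (l : L), χ (cq q0 l) = χ l := fun q0 l =>
    Fintype.prod_equiv (Equiv.mulRight q0) _ _ fun q => by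
      congr 1
      apply Subtype.ext
      show (q : H) * (q0 * l * (q0 : H)⁻¹) * (q : H)⁻¹ = ((q : H) * q0) * l * ((q : H) * q0)⁻¹
      group
  have hker : ∀ x ∈ L, ∀ h : x ∈ L, χ ⟨x, h⟩ = 1 := by
    have hle : ⁅L, Q⁆ ≤ χ.ker.map L.subtype := by
      rw [Subgroup.commutator_le]
      intro l hl q hq
      refine ⟨⟨l, hl⟩ * (cq ⟨q, hq⟩ ⟨l, hl⟩)⁻¹, ?_, ?_⟩
      · rw [SetLike.mem_coe, MonoidHom.mem_ker, map_mul, map_inv, hinvar, mul_inv_cancel]
      · show l * (q * l * q⁻¹)⁻¹ = ⁅l, q⁆
        rw [commutatorElement_def]; group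
    intro x hx h
    rw [hLQ] at hle
    obtain ⟨y, hy, rfl⟩ := hle hx
    exact hy
  have h1 : π ⟨d, hDL hd⟩ ^ Fintype.card Q = 1 := by
    have h := hker d (hDL hd) (hDL hd)
    rw [← h]
    show _ = ∏ q : Q, π (cq q ⟨d, hDL hd⟩)
    rw [← Finset.card_univ, ← Finset.prod_const]
    refine Finset.prod_congr rfl fun q _ => ?_
    congr 1
    apply Subtype.ext
    show d = q * d * (q : H)⁻¹
    rw [hDQ d hd q q.2, mul_inv_cancel_right]
  apply hdM
  rw [← QuotientGroup.eq_one_iff]
  show π ⟨d, hDL hd⟩ = 1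
  obtain ⟨n, hn⟩ := IsPGroup.iff_card.mp hQ
  refine orderOf_eq_one_iff.mp (Nat.eq_one_of_dvd_coprimes (a := Nat.card D) (b := p ^ n) (hD.pow_right n) ?_ ?_)
  · refine (orderOf_map_dvd π _).trans ?_
    rw [← Subgroup.orderOf_coe]
    exact D.orderOf_dvd_natCard hd
  · rw [← hn, Nat.card_eq_fintype_card]
    exact orderOf_dvd_of_pow_eq_one h1


/-- Let H be a finite group and p a prime with O_p(H) = 1, Q a p-subgroup of H, L = [F*(H), Q], and F the largest normal subgroup of F*(H) centralized by Q (a normal subgroup of F*(H) centralized by Q and containing every such). Then F = C_{F*(H)}(LQ); L = [L, Q]; L ∩ F ≤ Φ(L); every p-subgroup B of N_H(Q) with [L, B] ≤ F satisfies [L, B] = 1; and C_H(FL) has order prime to p. -/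
theorem result {H : Type*} [Group H] [Finite H] {p : ℕ} [Fact p.Prime] (hO : Cfsg.pCore p H = ⊥) (Q : Subgroup H) (hQ : IsPGroup p ↥Q) (L : Subgroup H) (hL : L = ⁅Cfsg.generalizedFittingSubgroup H, Q⁆) (F : Subgroup H) (hF : F ≤ Cfsg.generalizedFittingSubgroup H ∧ Cfsg.generalizedFittingSubgroup H ≤ Subgroup.normalizer (F : Set H) ∧ Q ≤ Subgroup.centralizer (F : Set H) ∧ ∀ N : Subgroup H, N ≤ Cfsg.generalizedFittingSubgroup H → Cfsg.generalizedFittingSubgroup H ≤ Subgroup.normalizer (N : Set H) → Q ≤ Subgroup.centralizer (N : Set H) → N ≤ F) : F = Cfsg.generalizedFittingSubgroup H ⊓ Subgroup.centralizer ((L ⊔ Q : Subgroup H) : Set H) ∧ ⁅L, Q⁆ = L ∧ L ⊓ F ≤ (frattini ↥L).map L.subtype ∧ (∀ B : Subgroup H, IsPGroup p ↥B → B ≤ Subgroup.normalizer (Q : Set H) → ⁅L, B⁆ ≤ F → ⁅L, B⁆ = ⊥) ∧ (Nat.card ↥(Subgroup.centralizer ((F ⊔ L : Subgroup H) : Set H))).Coprime p := by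
  classical
  set X := Cfsg.generalizedFittingSubgroup H with hX
  haveI hXn : X.Normal := Layer.generalizedFitting_normal
  have hXN : ∀ A : Subgroup H, A ≤ Subgroup.normalizer (X : Set H) := fun A => Subgroup.le_normalizer_of_normal
  -- cores of X
  have hXgF : Cfsg.generalizedFittingSubgroup ↥X = ⊤ := by
    apply Subgroup.map_injective X.subtype_injective
    rw [Layer.map_generalizedFittingSubgroup hXn.isSubnormal, ← MonoidHom.range_eq_map,
      Subgroup.range_subtype, ← hX, inf_idem]
  have hXO : Cfsg.pCore p ↥X = ⊥ := by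
    have h := PSolvable.map_pCore_le (p := p) X
    rw [hO, le_bot_iff] at h
    exact (Subgroup.map_eq_bot_iff_of_injective _ X.subtype_injective).mp h
  have hp' : ∀ A : Subgroup H, A ≤ X → X ≤ Subgroup.normalizer (A : Set H) → Group.IsNilpotent ↥A →
      (Nat.card A).Coprime p := by
    intro A hAX hXA hA
    have hn : (A.subgroupOf X).Normal := Subgroup.normal_subgroupOf_of_le_normalizer hXA
    have h1 := Layer.le_fittingSubgroup_of_isSubnormal (Subgroup.IsSubnormal.step A X hAX hXn.isSubnormal hn) hA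
    refine Nat.Coprime.coprime_dvd_left (Subgroup.card_dvd_of_le h1) ?_
    exact Nat.Coprime.symm ((Fact.out : p.Prime).coprime_iff_not_dvd.mpr (Layer.CommutatorSplit.not_dvd_card_fitting hO))
  obtain ⟨hFX, hXF, hQF, hmax⟩ := hF
  -- decomposition
  have hsplit := Layer.CommutatorSplit.commutator_sup_centralizer_eq hXgF hXO hQ (hXN Q)
  rw [← hL] at hsplit
  set C0 := X ⊓ Subgroup.centralizer (Q : Set H) with hC0
  have hLX : L ≤ X := hL ▸ Coprime.commutator_le_left_of_le_normalizer (hXN Q)
  have hXL : X ≤ Subgroup.normalizer (L : Set H) := hL ▸ le_normalizer_commutator_left X Q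
  have hQL : Q ≤ Subgroup.normalizer (L : Set H) :=
    hL ▸ Coprime.le_normalizer_commutator (hXN Q) Subgroup.le_normalizer
  have hmul : ∀ x ∈ X, ∃ l ∈ L, ∃ c ∈ C0, l * c = x := by
    intro x hx
    rw [← hsplit, ← SetLike.mem_coe,
      Subgroup.coe_mul_of_right_le_normalizer_left L C0 (inf_le_left.trans hXL)] at hx
    obtain ⟨l, hl, c, hc, rfl⟩ := hx
    exact ⟨l, hl, c, hc, rfl⟩
  -- [L, Q] = L
  have hLQ : ⁅L, Q⁆ = L := by
    refine le_antisymm (Coprime.commutator_le_left_of_le_normalizer hQL) ?_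
    conv_lhs => rw [hL]
    rw [Subgroup.commutator_le]
    intro x hx q hq
    obtain ⟨l, hl, c, hc, rfl⟩ := hmul x hx
    have e : ⁅l * c, q⁆ = ⁅l, q⁆ := by
      rw [commutatorElement_def, commutatorElement_def,
        show l * c * q * (l * c)⁻¹ * q⁻¹ = l * (c * q * c⁻¹) * l⁻¹ * q⁻¹ by group,
        show c * q * c⁻¹ = q by
          rw [← (Subgroup.mem_inf.mp hc).2 q hq, mul_inv_cancel_right]]
    rw [e]
    exact Subgroup.commutator_mem_commutator hl hq
  -- the formula for F
  have hFeq : F = X ⊓ Subgroup.centralizer ((L ⊔ Q : Subgroup H) : Set H) := by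
    refine le_antisymm (le_inf hFX ?_) (hmax _ inf_le_left ?_ ?_)
    · have h1 : ⁅⁅Q, F⁆, X⁆ = ⊥ := by
        rw [Subgroup.commutator_eq_bot_iff_le_centralizer.mpr hQF, Subgroup.commutator_bot_left]
      have h2 : ⁅⁅F, X⁆, Q⁆ = ⊥ := le_bot_iff.mp (le_trans (Subgroup.commutator_mono
        (Coprime.commutator_le_left_of_le_normalizer hXF) le_rfl) (by
          rw [Subgroup.commutator_comm, Subgroup.commutator_eq_bot_iff_le_centralizer.mpr hQF]))
      have h3 := Subgroup.commutator_commutator_eq_bot_of_rotate h1 h2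
      rw [← hL, Subgroup.commutator_eq_bot_iff_le_centralizer] at h3
      exact Subgroup.le_centralizer_iff.mp (sup_le h3 hQF)
    · refine le_trans (le_of_eq hsplit.symm) (sup_le ?_ ?_)
      · intro l hl
        refine Subgroup.mem_normalizer_fintype fun a ha => ?_
        rw [(Subgroup.mem_inf.mp ha).2 l (Subgroup.mem_sup_left hl), mul_inv_cancel_right]
        exact ha
      · refine Coprime.le_normalizer_inf_of_le (hXN C0) (Coprime.le_normalizer_centralizer
          (Coprime.le_normalizer_sup_of_le (inf_le_left.trans hXL) ?_))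
        exact inf_le_right.trans (Subgroup.centralizer_le_normalizer _)
    · exact Subgroup.le_centralizer_iff.mp
        (inf_le_right.trans (Subgroup.centralizer_le (le_sup_right : Q ≤ L ⊔ Q)))
  have hFc : F ≤ Subgroup.centralizer ((L ⊔ Q : Subgroup H) : Set H) := hFeq ▸ inf_le_right
  set D := L ⊓ F with hD
  have hXD : X ≤ Subgroup.normalizer (D : Set H) := Coprime.le_normalizer_inf_of_le hXL hXF
  have hDc : ∀ d ∈ D, ∀ l ∈ L, d * l = l * d := fun d hd l hl =>
    (hFc (Subgroup.mem_inf.mp hd).2 l (Subgroup.mem_sup_left hl)).symm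
  have hDQ : ∀ d ∈ D, ∀ q ∈ Q, q * d = d * q := fun d hd q hq =>
    hFc (Subgroup.mem_inf.mp hd).2 q (Subgroup.mem_sup_right hq)
  have hDn : Group.IsNilpotent ↥D := by
    haveI : IsMulCommutative ↥D := ⟨⟨fun a b => Subtype.ext (hDc a a.2 b (Subgroup.mem_inf.mp b.2).1)⟩⟩
    open scoped IsMulCommutative in infer_instance
  have hDfr : D ≤ (frattini ↥L).map L.subtype :=
    le_frattini hQ hQL hLQ inf_le_left hDc hDQ (hp' D (inf_le_left.trans hLX) hXD hDn)
  refine ⟨hFeq, hLQ, hDfr, ?_, ?_⟩
  · intro B hB hBQ hBF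
    have hBL : B ≤ Subgroup.normalizer (L : Set H) := hL ▸ Coprime.le_normalizer_commutator (hXN B) hBQ
    rw [Subgroup.commutator_eq_bot_iff_le_centralizer, Subgroup.le_centralizer_iff]
    refine Coprime.le_centralizer_of_frattini hBL ?_ ?_
    · obtain ⟨n, hn⟩ := IsPGroup.iff_card.mp hB
      rw [hn]
      refine (Nat.Coprime.symm ?_).pow_left n
      have hfn : Group.IsNilpotent ↥((frattini ↥L).map L.subtype) := by
        haveI := frattini_nilpotent (G := ↥L)
        exact Group.nilpotent_of_surjective (L.subtype.subgroupMap (frattini ↥L))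
          (L.subtype.subgroupMap_surjective _)
      have := hp' _ ((Subgroup.map_subtype_le _).trans hLX)
        (PSolvable.le_normalizer_map_of_characteristic hXL _) hfn
      rwa [Subgroup.card_map_of_injective L.subtype_injective] at this
    · intro b hb l hl
      have h1 : ⁅l, b⁆ ∈ D := Subgroup.mem_inf.mpr
        ⟨Coprime.commutator_le_left_of_le_normalizer hBL (Subgroup.commutator_mem_commutator hl hb),
          hBF (Subgroup.commutator_mem_commutator hl hb)⟩
      have h2 := hDfr (inv_mem h1)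
      rwa [commutatorElement_inv, commutatorElement_def] at h2
  · -- the centralizer of FL has order prime to p
    set C := Subgroup.centralizer ((F ⊔ L : Subgroup H) : Set H) with hC
    by_contra hcop
    have hpC : p ∣ Nat.card C := by
      by_contra h
      exact hcop (Nat.Coprime.symm ((Fact.out : p.Prime).coprime_iff_not_dvd.mpr h))
    have hQC : Q ≤ Subgroup.normalizer (C : Set H) := Coprime.le_normalizer_centralizer
      (Coprime.le_normalizer_sup_of_le (hQF.trans (Subgroup.centralizer_le_normalizer _)) hQL)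
    set M := C ⊔ Q with hM
    obtain ⟨R, hR⟩ := (hQ.comap_of_injective M.subtype M.subtype_injective :
      IsPGroup p (Q.subgroupOf M)).exists_le_sylow
    set R' := (R : Subgroup M).map M.subtype with hR'
    have hR'p : IsPGroup p R' := R.2.map _
    have hQR : Q ≤ R' := fun q hq => ⟨⟨q, Subgroup.mem_sup_right hq⟩, hR hq, rfl⟩
    have hR'C : R' ≤ Subgroup.normalizer (C : Set H) :=
      (Subgroup.map_subtype_le _).trans (sup_le Subgroup.le_normalizer hQC)
    have hne : R' ⊓ C ≠ ⊥ := by
      intro hbot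
      have h1 := Coprime.card_sup_mul_card_inf (K := C) (S := R') hR'C
      rw [inf_comm, hbot, Subgroup.card_bot, mul_one] at h1
      have h2 : Nat.card ↥(C ⊔ R') ∣ Nat.card M :=
        Subgroup.card_dvd_of_le (sup_le le_sup_left (Subgroup.map_subtype_le _))
      rw [h1] at h2
      have h3 : p * Nat.card R' ∣ Nat.card M := (Nat.mul_dvd_mul_right hpC _).trans h2
      rw [hR', Subgroup.card_map_of_injective M.subtype_injective, R.card_eq_multiplicity,
        ← pow_succ'] at h3
      exact Nat.pow_succ_factorization_not_dvd Nat.card_pos.ne' Fact.out h3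
    -- a fixed element
    set Y := R' ⊓ C with hY
    have hQY : Q ≤ Subgroup.normalizer (Y : Set H) :=
      Coprime.le_normalizer_inf_of_le (hQR.trans Subgroup.le_normalizer) hQC
    let act : Q →* MulAut Y := Y.normalizerMonoidHom.comp (Subgroup.inclusion hQY)
    letI : MulAction Q Y := MulAction.compHom Y act
    haveI : Nontrivial Y := (Subgroup.nontrivial_iff_ne_bot _).mpr hne
    have hYp : IsPGroup p Y := hR'p.to_le inf_le_left
    have hpY : p ∣ Nat.card Y := by
      obtain ⟨n, hn⟩ := IsPGroup.iff_card.mp hYp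
      rw [hn]
      refine dvd_pow_self p fun h => ?_
      have := Finite.one_lt_card (α := Y)
      rw [hn, h, pow_zero] at this
      exact lt_irrefl _ this
    obtain ⟨⟨y, hy⟩, hyfix, hy1⟩ := hQ.exists_fixed_point_of_prime_dvd_card_of_fixed_point Y hpY
      (a := 1) (fun g => map_one (act g))
    have hyQ : y ∈ Subgroup.centralizer (Q : Set H) := fun q hq =>
      mul_inv_eq_iff_eq_mul.mp (congrArg Subtype.val (hyfix ⟨q, hq⟩))
    have hyY : y ∈ Y ⊓ Subgroup.centralizer (Q : Set H) := Subgroup.mem_inf.mpr ⟨hy, hyQ⟩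
    haveI : Nontrivial ↥(Y ⊓ Subgroup.centralizer (Q : Set H)) :=
      ⟨⟨⟨y, hyY⟩, 1, fun h => hy1 (Subtype.ext (congrArg Subtype.val h).symm)⟩⟩
    have hpYc : p ∣ Nat.card ↥(Y ⊓ Subgroup.centralizer (Q : Set H)) := by
      obtain ⟨n, hn⟩ := IsPGroup.iff_card.mp (hYp.to_le inf_le_left :
        IsPGroup p ↥(Y ⊓ Subgroup.centralizer (Q : Set H)))
      rw [hn]
      refine dvd_pow_self p fun h => ?_
      have := Finite.one_lt_card (α := ↥(Y ⊓ Subgroup.centralizer (Q : Set H)))
      rw [hn, h, pow_zero] at this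
      exact lt_irrefl _ this
    obtain ⟨⟨x, hxY⟩, hxo⟩ := exists_prime_orderOf_dvd_card' p hpYc
    replace hxo : orderOf x = p := (Subgroup.orderOf_coe _).trans hxo
    obtain ⟨⟨-, hxC⟩, hxQ⟩ := hxY
    set Z := Subgroup.zpowers x with hZ
    have hZQ : Z ≤ Subgroup.centralizer (Q : Set H) := Subgroup.zpowers_le.mpr hxQ
    have hZC : Z ≤ C := Subgroup.zpowers_le.mpr hxC
    have hZL : ⁅L, Z⁆ = ⊥ := Subgroup.commutator_eq_bot_iff_le_centralizer.mpr
      (Subgroup.le_centralizer_iff.mp (hZC.trans (Subgroup.centralizer_le (le_sup_right : L ≤ F ⊔ L))))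
    have hZF : ⁅F, Z⁆ = ⊥ := Subgroup.commutator_eq_bot_iff_le_centralizer.mpr
      (Subgroup.le_centralizer_iff.mp (hZC.trans (Subgroup.centralizer_le (le_sup_left : F ≤ F ⊔ L))))
    set N := ⁅Z, X⁆ with hN
    have hNX : N ≤ X := by
      rw [hN, Subgroup.commutator_comm]
      exact Coprime.commutator_le_left_of_le_normalizer (hXN Z)
    have hXNn : X ≤ Subgroup.normalizer (N : Set H) := by
      rw [hN, Subgroup.commutator_comm]; exact le_normalizer_commutator_left X Z
    have hNQ : Q ≤ Subgroup.centralizer (N : Set H) := by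
      rw [Subgroup.le_centralizer_iff, ← Subgroup.commutator_eq_bot_iff_le_centralizer, hN]
      refine Subgroup.commutator_commutator_eq_bot_of_rotate ?_ ?_
      · rw [← hL, hZL]
      · rw [Subgroup.commutator_comm Q Z, Subgroup.commutator_eq_bot_iff_le_centralizer.mpr hZQ,
          Subgroup.commutator_bot_left]
    have hNF : N ≤ F := hmax N hNX hXNn hNQ
    have hNFc : N ≤ Subgroup.centralizer (F : Set H) := by
      rw [← Subgroup.commutator_eq_bot_iff_le_centralizer, hN]
      refine Subgroup.commutator_commutator_eq_bot_of_rotate ?_ ?_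
      · exact le_bot_iff.mp (le_trans (Subgroup.commutator_mono (by
          rw [Subgroup.commutator_comm]
          exact Coprime.commutator_le_left_of_le_normalizer hXF) le_rfl) (le_of_eq hZF))
      · rw [hZF, Subgroup.commutator_bot_left]
    have hNn : Group.IsNilpotent ↥N := by
      haveI : IsMulCommutative ↥N := ⟨⟨fun a b => Subtype.ext (hNFc b.2 a (hNF a.2))⟩⟩
      open scoped IsMulCommutative in infer_instance
    have hNp := hp' N hNX hXNn hNn
    have hxp : x ^ p = 1 := hxo ▸ pow_orderOf_eq_one x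
    have hxX : x ∈ Subgroup.centralizer (X : Set H) := by
      intro a ha
      set c := ⁅x, a⁆ with hc
      have hcN : c ∈ N := Subgroup.commutator_mem_commutator (Subgroup.mem_zpowers x) ha
      have hxc : Commute x c := (hxC c (Subgroup.mem_sup_left (hNF hcN))).symm
      have hpow : ∀ j : ℕ, x ^ j * a * (x ^ j)⁻¹ = c ^ j * a := by
        intro j
        induction j with
        | zero => simp
        | succ j ih =>
          rw [pow_succ', mul_inv_rev, show x * x ^ j * a * ((x ^ j)⁻¹ * x⁻¹) =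
            x * (x ^ j * a * (x ^ j)⁻¹) * x⁻¹ by group, ih, pow_succ, mul_assoc (c ^ j) c a]
          calc x * (c ^ j * a) * x⁻¹ = (x * c ^ j) * (a * x⁻¹) := by group
            _ = (c ^ j * x) * (a * x⁻¹) := by rw [(hxc.pow_right j).eq]
            _ = c ^ j * (c * a) := by rw [hc, commutatorElement_def]; group
      have h1 := hpow p
      rw [hxp, inv_one, mul_one, one_mul] at h1
      have h2 : c ^ p = 1 := mul_eq_right.mp h1.symm
      have h3 : c = 1 := orderOf_eq_one_iff.mp (Nat.eq_one_of_dvd_coprimes hNp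
        (N.orderOf_dvd_natCard hcN) (orderOf_dvd_of_pow_eq_one h2))
      rw [hc, commutatorElement_eq_one_iff_mul_comm] at h3
      exact h3.symm
    have hxmem : x ∈ X := Layer.centralizer_generalizedFitting_le hxX
    have hZn : Group.IsNilpotent ↥Z := by
      haveI : IsMulCommutative ↥Z := ⟨⟨fun a b => mul_comm' a b⟩⟩
      open scoped IsMulCommutative in infer_instance
    have hZp := hp' Z (Subgroup.zpowers_le.mpr hxmem) (fun a ha => Subgroup.mem_normalizer_fintype fun z hz => by
      have hzX : z ∈ Subgroup.centralizer (X : Set H) := Subgroup.zpowers_le.mpr hxX hz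
      rw [hzX a ha, mul_inv_cancel_right]; exact hz) hZn
    rw [hZ, Nat.card_zpowers, hxo, Nat.coprime_self] at hZp
    exact (Fact.out : p.Prime).one_lt.ne' hZp

end Cfsg.Agent.S2817
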