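import Mathlib
import Cfsg.Statements.S2819
import Cfsg.Agent.Lib.Coprime.Action
import Cfsg.Agent.Lib.Transfer.Basic
import Cfsg.Agent.Lib.PSolvable.Core

set_option autoImplicit false
set_option linter.style.haveILetI false
set_option linter.unusedVariables false
open Cfsg

open scoped commutatorElement

namespace Cfsg.Agent.S2819

theorem frattini_le_ker {P A : Type*} [Group P] [Finite P] [CommGroup A] {p : ℕ} [Fact p.Prime]
    (f : P →* A) (hf : ∀ x, f x ^ p = 1) : frattini P ≤ f.ker := by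
  intro x hx
  by_contra hxk
  obtain ⟨M, ⟨hMk, hxM⟩, hmax⟩ := (Set.toFinite {M : Subgroup P | f.ker ≤ M ∧ x ∉ M}).exists_maximal
    ⟨f.ker, le_rfl, hxk⟩
  haveI hMn : M.Normal := ⟨fun m hm c => by
    have h1 : c * m * c⁻¹ * m⁻¹ ∈ f.ker := by
      rw [MonoidHom.mem_ker, map_mul, map_mul, map_mul, mul_right_comm (f c), map_inv, map_inv,
        mul_inv_cancel, one_mul, mul_inv_cancel]
    simpa using M.mul_mem (hMk h1) hm⟩
  have hin : ∀ W : Subgroup P, M < W → x ∈ W := fun W hW => by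
    by_contra h
    exact hW.not_ge (hmax ⟨hMk.trans hW.le, h⟩ hW.le)
  have hco : IsCoatom M := by
    refine ⟨fun h => hxM (h ▸ Subgroup.mem_top x), fun W hW => top_le_iff.mp fun w _ => ?_⟩
    by_cases hw : w ∈ M
    · exact hW.le hw
    have h1 : x ∈ Subgroup.zpowers w ⊔ M := hin _ (lt_of_le_of_ne le_sup_right fun e => hw (by
      rw [e]; exact Subgroup.mem_sup_left (Subgroup.mem_zpowers w)))
    obtain ⟨_, ⟨j, rfl⟩, m, hm, e⟩ := Subgroup.mem_sup_of_normal_right.mp h1
    change w ^ j * m = x at e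
    have hwp : w ^ (p : ℤ) ∈ M := hMk (by rw [MonoidHom.mem_ker, zpow_natCast, map_pow, hf])
    have hcop : IsCoprime j (p : ℤ) := by
      refine ((Nat.prime_iff_prime_int.mp (Fact.out : p.Prime)).irreducible.coprime_iff_not_dvd.mpr fun hd => ?_).symm
      obtain ⟨i, rfl⟩ := hd
      exact hxM (e ▸ M.mul_mem (by rw [zpow_mul]; exact M.zpow_mem hwp i) hm)
    obtain ⟨a, b, hab⟩ := hcop
    have hwj : w ^ j ∈ W := by
      rw [show w ^ j = x * m⁻¹ by rw [← e]; group]
      exact W.mul_mem (hin W hW) (hW.le (M.inv_mem hm))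
    rw [← zpow_one w, ← hab, zpow_add, mul_comm a, mul_comm b, zpow_mul, zpow_mul]
    exact W.mul_mem (W.zpow_mem hwj a) (hW.le (M.zpow_mem hwp b))
  have h2 := frattini_le_coatom hco hx
  exact hxM h2

/-- Let P be a finite p-subgroup of a group G, H a subgroup of N_G(P), and Y a subgroup of H centralizing the derived subgroup P' such that [P, Y] is elementary abelian. Then O^p(⟨Y^H⟩), the subgroup of the normal closure of Y in H generated by its elements of order prime to p, centralizes the Frattini subgroup of P. -/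
theorem result {G : Type*} [Group G] [Finite G] {p : ℕ} [Fact p.Prime] (P : Subgroup G) (hP : IsPGroup p ↥P) (H : Subgroup G) (hH : H ≤ Subgroup.normalizer (P : Set G)) (Y : Subgroup G) (hYH : Y ≤ H) (hYc : Y ≤ Subgroup.centralizer ((⁅P, P⁆ : Subgroup G) : Set G)) (hel : Cfsg.IsElementaryAbelian p ⁅P, Y⁆) (NY : Subgroup G) (hNY : NY = (Subgroup.normalClosure ((Y.subgroupOf H : Subgroup ↥H) : Set ↥H)).map H.subtype) : (Cfsg.pResidual p ↥NY).map NY.subtype ≤ Subgroup.centralizer (((frattini ↥P).map P.subtype : Subgroup G) : Set G) := by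
  subst hNY
  set P' := (⁅P, P⁆ : Subgroup G) with hP'
  set Φ := (frattini P).map P.subtype with hΦ
  have hnorm : H ≤ Subgroup.normalizer (P' : Set G) :=
    CfsgLib.Coprime.le_normalizer_commutator hH hH
  -- `y` acts trivially on `Φ / P'`
  have hY1 : ∀ y ∈ Y, ∀ f ∈ Φ, y * f * y⁻¹ * f⁻¹ ∈ P' := by
    intro y hy f hf
    obtain ⟨x, hx, rfl⟩ := hf
    let conjy : P →* P :=
      { toFun := fun u => ⟨y * u * y⁻¹, (Subgroup.mem_normalizer_iff.mp (hH (hYH hy)) u).mp u.2⟩
        map_one' := Subtype.ext (by simp)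
        map_mul' := fun u v => Subtype.ext (by simp [mul_assoc]) }
    let φ : P →* Abelianization P := (Abelianization.of.comp conjy) / Abelianization.of
    have hφ : ∀ u : P, φ u = Abelianization.of (conjy u * u⁻¹) := fun u => by
      change Abelianization.of (conjy u) / Abelianization.of u = _
      rw [map_mul, map_inv, div_eq_mul_inv]
    have hker := frattini_le_ker (p := p) φ (fun u => by
      have h1 : ((conjy u * u⁻¹ : P) : G) ∈ ⁅P, Y⁆ := by
        rw [Subgroup.commutator_comm]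
        simpa [conjy, commutatorElement_def] using Subgroup.commutator_mem_commutator hy u.2
      rw [hφ, ← map_pow, show (conjy u * u⁻¹ : P) ^ p = 1 from Subtype.ext (by
        rw [Subgroup.coe_pow]; exact hel.2 _ h1), map_one]) hx
    rw [MonoidHom.mem_ker, hφ, ← MonoidHom.mem_ker, Abelianization.ker_of] at hker
    have h2 := Subgroup.mem_map_of_mem P.subtype hker
    rw [Subgroup.map_subtype_commutator] at h2
    exact h2
  let S : Subgroup H :=
    { carrier := {c | (c : G) ∈ Subgroup.centralizer (P' : Set G) ∧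
        ∀ f ∈ Φ, (c : G) * f * (c : G)⁻¹ * f⁻¹ ∈ P'}
      one_mem' := ⟨one_mem _, fun f _ => by simp⟩
      mul_mem' := fun {a b} ha hb => ⟨Subgroup.mul_mem _ ha.1 hb.1, fun f hf => by
        rw [show ((a * b : H) : G) * f * ((a * b : H) : G)⁻¹ * f⁻¹ =
          ((a : G) * ((b : G) * f * (b : G)⁻¹ * f⁻¹) * (a : G)⁻¹) * ((a : G) * f * (a : G)⁻¹ * f⁻¹) by
            rw [Subgroup.coe_mul]; group]
        exact P'.mul_mem ((Subgroup.mem_normalizer_iff.mp (hnorm a.2) _).mp (hb.2 f hf)) (ha.2 f hf)⟩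
      inv_mem' := fun {a} ha => ⟨Subgroup.inv_mem _ ha.1, fun f hf => by
        rw [show ((a⁻¹ : H) : G) * f * ((a⁻¹ : H) : G)⁻¹ * f⁻¹ =
          (a : G)⁻¹ * ((a : G) * f * (a : G)⁻¹ * f⁻¹)⁻¹ * (a : G)⁻¹⁻¹ by
            rw [Subgroup.coe_inv]; group]
        exact (Subgroup.mem_normalizer_iff.mp (hnorm (H.inv_mem a.2)) _).mp (P'.inv_mem (ha.2 f hf))⟩ }
  have hΦn : H ≤ Subgroup.normalizer (Φ : Set G) :=
    CfsgLib.PSolvable.le_normalizer_map_of_characteristic hH (frattini P)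
  haveI hSn : S.Normal := by
    refine ⟨fun a ha c => ⟨?_, fun f hf => ?_⟩⟩
    · exact (Subgroup.mem_normalizer_iff.mp (CfsgLib.Coprime.le_normalizer_centralizer hnorm c.2) _).mp ha.1
    · have hf' : (c : G)⁻¹ * f * (c : G) ∈ Φ := by
        simpa using (Subgroup.mem_normalizer_iff.mp (hΦn (H.inv_mem c.2)) f).mp hf
      rw [show ((c * a * c⁻¹ : H) : G) * f * ((c * a * c⁻¹ : H) : G)⁻¹ * f⁻¹ =
        (c : G) * ((a : G) * ((c : G)⁻¹ * f * (c : G)) * (a : G)⁻¹ * ((c : G)⁻¹ * f * (c : G))⁻¹) * (c : G)⁻¹ by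
          rw [Subgroup.coe_mul, Subgroup.coe_mul, Subgroup.coe_inv]; group]
      exact (Subgroup.mem_normalizer_iff.mp (hnorm c.2) _).mp (ha.2 _ hf')
  set NY := (Subgroup.normalClosure ((Y.subgroupOf H : Subgroup H) : Set H)).map H.subtype
  have hNY : ∀ g ∈ NY, ∃ h : g ∈ H, (⟨g, h⟩ : H) ∈ S := by
    rintro _ ⟨c, hc, rfl⟩
    exact ⟨c.2, Subgroup.normalClosure_le_normal (N := S)
      (show ((Y.subgroupOf H : Subgroup H) : Set H) ⊆ (S : Set H) from
        fun y hy => ⟨hYc hy, fun f hf => hY1 _ hy f hf⟩) hc⟩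
  rw [Subgroup.map_le_iff_le_comap, Cfsg.pResidual, Subgroup.closure_le]
  intro g hg
  obtain ⟨hgH, hgS⟩ := hNY g g.2
  set A := Subgroup.zpowers (g : G) with hA
  have hΦP : Φ ≤ P := Subgroup.map_subtype_le _
  have hcop : (Nat.card A).Coprime (Nat.card Φ) := by
    rw [hA, Nat.card_zpowers, Subgroup.orderOf_coe]
    obtain ⟨k, hk⟩ := IsPGroup.iff_card.mp (hP.to_le hΦP)
    rw [hk]
    exact Nat.Coprime.pow_right k hg
  have h3 : ⁅Φ, A⁆ ≤ P' := by
    rw [Subgroup.commutator_le]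
    rintro f hf _ ⟨j, rfl⟩
    have hj := (S.zpow_mem hgS j).2 f hf
    rw [Subgroup.coe_zpow] at hj
    have e : ⁅f, (g : G) ^ j⁆ = ((g : G) ^ j * f * ((g : G) ^ j)⁻¹ * f⁻¹)⁻¹ := by
      rw [commutatorElement_def]; group
    change ⁅f, (g : G) ^ j⁆ ∈ P'
    rw [e]
    exact P'.inv_mem hj
  have h4 : ⁅⁅Φ, A⁆, A⁆ = ⊥ := by
    rw [eq_bot_iff]
    refine (Subgroup.commutator_mono h3 le_rfl).trans (le_of_eq ?_)
    rw [Subgroup.commutator_eq_bot_iff_le_centralizer, Subgroup.le_centralizer_iff]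
    exact Subgroup.zpowers_le.mpr hgS.1
  have h5 := CfsgLib.Coprime.commutator_eq_bot_of_commutator_commutator
    (Subgroup.zpowers_le.mpr (hΦn hgH)) hcop h4
  rw [Subgroup.commutator_eq_bot_iff_le_centralizer, Subgroup.le_centralizer_iff] at h5
  exact h5 (Subgroup.mem_zpowers _)

end Cfsg.Agent.S2819
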