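import Mathlib
import Cfsg.Statements.S2818
import Cfsg.Agent.S2819

set_option autoImplicit false
set_option linter.style.haveILetI false
set_option linter.unusedVariables false
open Cfsg

open scoped commutatorElement

namespace Cfsg.Agent.S2818

open scoped IsMulCommutative

/-- Let P be a finite p-subgroup of a group G and H a subgroup of N_G(P) with [P, H] ≤ Ω₁(Z(P)) (the elements of order dividing p in the centre of P). Then H centralizes the Frattini subgroup of P. -/
theorem result {G : Type*} [Group G] [Finite G] {p : ℕ} [Fact p.Prime] (P : Subgroup G) (hP : IsPGroup p ↥P) (H : Subgroup G) (hH : H ≤ Subgroup.normalizer (P : Set G)) (h : ⁅P, H⁆ ≤ Cfsg.omegaOne p (P ⊓ Subgroup.centralizer (P : Set G))) : ⁅(frattini ↥P).map P.subtype, H⁆ = ⊥ := by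
  set Z := P ⊓ Subgroup.centralizer (P : Set G) with hZ
  set W := Cfsg.omegaOne p Z with hW
  have hWZ : W ≤ Z := (Subgroup.closure_le _).mpr fun x hx => hx.1
  have hWexp : ∀ a ∈ W, a ^ p = 1 := by
    intro a ha
    induction ha using Subgroup.closure_induction with
    | mem b hb => exact hb.2
    | one => exact one_pow p
    | mul b c hb hc ihb ihc =>
      have : Commute b c := Subgroup.mem_centralizer_iff.mp (hWZ hc).2 b (hWZ hb).1
      rw [this.mul_pow, ihb, ihc, one_mul]
    | inv b _ ihb => rw [inv_pow, ihb, inv_one]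
  haveI : IsMulCommutative W := ⟨⟨fun a b => Subtype.ext
    (Subgroup.mem_centralizer_iff.mp (hWZ b.2).2 a (hWZ a.2).1)⟩⟩
  rw [Subgroup.commutator_eq_bot_iff_le_centralizer]
  rintro _ ⟨u, hu, rfl⟩
  refine Subgroup.mem_centralizer_iff.mpr fun x hx => ?_
  have hmem : ∀ v : P, x * v * x⁻¹ * (v : G)⁻¹ ∈ W := fun v => by
    refine h ?_
    rw [Subgroup.commutator_comm]
    exact Subgroup.commutator_mem_commutator hx v.2
  let f : P →* W :=
    { toFun := fun v => ⟨x * v * x⁻¹ * (v : G)⁻¹, hmem v⟩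
      map_one' := Subtype.ext (by simp)
      map_mul' := fun v w => Subtype.ext (by
        change x * ((v * w : P) : G) * x⁻¹ * ((v * w : P) : G)⁻¹ = _
        rw [Subgroup.coe_mul, Subgroup.coe_mul]
        change _ = x * v * x⁻¹ * (v : G)⁻¹ * (x * w * x⁻¹ * (w : G)⁻¹)
        have hc : Commute (x * w * x⁻¹ * (w : G)⁻¹) (v : G) :=
          (Subgroup.mem_centralizer_iff.mp (hWZ (hmem w)).2 v v.2).symm
        calc x * ((v : G) * w) * x⁻¹ * ((v : G) * w)⁻¹
            = x * v * x⁻¹ * ((x * w * x⁻¹ * (w : G)⁻¹) * (v : G)⁻¹) := by group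
          _ = x * v * x⁻¹ * ((v : G)⁻¹ * (x * w * x⁻¹ * (w : G)⁻¹)) := by rw [hc.inv_right.eq]
          _ = _ := by group) }
  have h1 := Cfsg.Agent.S2819.frattini_le_ker (p := p) f
    (fun v => Subtype.ext (by rw [Subgroup.coe_pow]; exact hWexp _ (hmem v))) hu
  have h2 : x * u * x⁻¹ * (u : G)⁻¹ = 1 := congrArg Subtype.val (MonoidHom.mem_ker.mp h1)
  exact mul_inv_eq_iff_eq_mul.mp (mul_inv_eq_one.mp h2)

end Cfsg.Agent.S2818
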