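import Cfsg.Statements.S2821
import Mathlib
import Cfsg.Agent.Lib.PReduced.BasicProperty

set_option linter.style.haveILetI false

set_option autoImplicit false
open Cfsg CfsgLib

namespace Cfsg.Agent.S2821

/-- Let H be a finite group, p a prime, T a Sylow p-subgroup and L a subgroup of characteristic p containing T; let Y_L be the largest p-reduced normal subgroup of L (the join of the normal elementary abelian p-subgroups V of L with O_p(L/C_L(V)) = 1). Then T₀ := C_T(Y_L) is a Sylow p-subgroup of C_H(Y_L); moreover O_p(L) ≤ T₀ ≤ C_L(Y_L) and Ω₁(Z(T)) ≤ Z_L ≤ Y_L ≤ Ω₁(Z(O_p(L))), where Z_L is generated by the Ω₁(Z(S)) over the Sylow p-subgroups S of L. -/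
theorem result {H : Type*} [Group H] [Finite H] {p : ℕ} [Fact p.Prime] (T : Sylow p H) (L : Subgroup H) (hTL : (T : Subgroup H) ≤ L) (hL : Subgroup.centralizer (Cfsg.pCore p ↥L : Set ↥L) ≤ Cfsg.pCore p ↥L) (T₀ : Subgroup H) (hT₀ : T₀ = (T : Subgroup H) ⊓ Subgroup.centralizer (((Cfsg.largestPReducedOf p L) : Subgroup H) : Set H)) : (∃ P : Sylow p ↥(Subgroup.centralizer (((Cfsg.largestPReducedOf p L) : Subgroup H) : Set H)), (P : Subgroup ↥(Subgroup.centralizer (((Cfsg.largestPReducedOf p L) : Subgroup H) : Set H))) = T₀.subgroupOf (Subgroup.centralizer (((Cfsg.largestPReducedOf p L) : Subgroup H) : Set H))) ∧ (Cfsg.pCoreOf p L) ≤ T₀ ∧ T₀ ≤ L ⊓ Subgroup.centralizer (((Cfsg.largestPReducedOf p L) : Subgroup H) : Set H) ∧ (Cfsg.omegaOne p ((T : Subgroup H) ⊓ Subgroup.centralizer (((T : Subgroup H) : Subgroup H) : Set H))) ≤ Cfsg.sylowCenterClosure p L ∧ Cfsg.sylowCenterClosure p L ≤ (Cfsg.largestPReducedOf p L) ∧ (Cfsg.largestPReducedOf p L) ≤ (Cfsg.omegaOne p ((Cfsg.pCoreOf p L) ⊓ Subgroup.centralizer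 (((Cfsg.pCoreOf p L) : Subgroup H) : Set H))) := by
  set Y := Cfsg.largestPReducedOf p L with hY
  set C := Subgroup.centralizer (Y : Set H) with hC
  set N := Subgroup.normalizer (Y : Set H) with hN
  have hYp : ∀ v ∈ Y, v ^ p = 1 := (PReduced.largestOf_elementary p L).2
  have hTN : (T : Subgroup H) ≤ N := hTL.trans (PReduced.le_normalizer_largestOf p L)
  have hCN : C ≤ N := Subgroup.centralizer_le_normalizer _
  subst hT₀
  have hle : (T : Subgroup H) ⊓ C ≤ C := inf_le_right
  refine ⟨?_, ?_, le_inf (inf_le_left.trans hTL) inf_le_right, ?_, ?_, ?_⟩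
  · have hidx : ¬ p ∣ (((T : Subgroup H) ⊓ C).subgroupOf C).index := by
      rw [Subgroup.inf_subgroupOf_right]
      intro hd
      haveI : (C.subgroupOf N).Normal := (Subgroup.normal_subgroupOf_iff_le_normalizer hCN).mpr
        (Coprime.le_normalizer_centralizer le_rfl)
      have h1 := Fitting.relIndex_dvd_index_of_normal_right ((T : Subgroup H).subgroupOf N) (C.subgroupOf N)
      rw [Subgroup.relIndex_subgroupOf hCN] at h1
      exact T.not_dvd_index (hd.trans (h1.trans (Subgroup.relIndex_dvd_index_of_le hTN)))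
    exact ⟨((T.2.to_le (inf_le_left : _ ⊓ C ≤ _)).comap_of_injective C.subtype
      C.subtype_injective).toSylow hidx, rfl⟩
  · exact le_inf (PReduced.pCoreOf_le_sylow T hTL) (PReduced.pCoreOf_le_centralizer_largestOf p L)
  · refine le_iSup_of_le (T.subtype hTL) ?_
    rw [Sylow.coe_subtype, Subgroup.map_subgroupOf_eq_of_le hTL]
  · refine iSup_le fun S => ?_
    obtain ⟨l, hl⟩ := MulAction.exists_smul_eq L (T.subtype hTL) S
    have hS : (S : Subgroup L).map L.subtype = (((l : H) • T : Sylow p H) : Subgroup H) := by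
      rw [← hl, Sylow.smul_subtype, Sylow.coe_subtype, Subgroup.map_subgroupOf_eq_of_le]
      · rfl
      · exact Subgroup.conj_smul_le_of_le hTL l
    set T' : Sylow p H := (l : H) • T
    have hT'L : (T' : Subgroup H) ≤ L := hS ▸ Subgroup.map_subtype_le _
    rw [hS]
    set Z := (T' : Subgroup H) ⊓ Subgroup.centralizer ((T' : Subgroup H) : Set H) with hZ
    refine PReduced.le_largestOf_of_sylow T' hT'L hL
      ((Subgroup.closure_le _).mpr fun x hx => hT'L hx.1.1) ?_ ?_ ?_
    · intro v hv
      induction hv using Subgroup.closure_induction with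
      | mem b hb => exact hb.2
      | one => exact one_pow p
      | mul b c hb hc ihb ihc =>
        have h1 : b ∈ Z := (Subgroup.closure_le _).mpr (fun x hx => hx.1) hb
        have h2 : c ∈ Z := (Subgroup.closure_le _).mpr (fun x hx => hx.1) hc
        rw [(show Commute b c from h2.2 b h1.1).mul_pow, ihb, ihc, one_mul]
      | inv b hb ihb => rw [inv_pow, ihb, inv_one]
    · rw [Subgroup.le_centralizer_iff]
      exact (Subgroup.closure_le _).mpr fun x hx t ht =>
        hx.1.2 t (PReduced.pCoreOf_le_sylow T' hT'L ht)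
    · intro D _ _ _ t ht
      have h1 : Cfsg.omegaOne p Z ≤ Subgroup.centralizer ((T' : Subgroup H) : Set H) :=
        (Subgroup.closure_le _).mpr fun x hx => hx.1.2
      exact Subgroup.le_centralizer_iff.mp h1 (Subgroup.mem_inf.mp ht).1
  · exact fun y hy => Subgroup.subset_closure ⟨⟨PReduced.largestOf_le_pCoreOf p L hy,
      fun z hz => (PReduced.pCoreOf_le_centralizer_largestOf p L hz y hy).symm⟩, hYp y hy⟩

end Cfsg.Agent.S2821
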