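import Mathlib
import Cfsg.Statements.S2823
import Cfsg.Agent.Lib.PReduced.Largest
import Cfsg.Agent.Lib.Coprime.Action
import Cfsg.Agent.Lib.Coprime.Trace
import Cfsg.Agent.Lib.Transfer.Basic
import Cfsg.Agent.Lib.ZJ.Centers

set_option autoImplicit false
set_option linter.style.haveILetI false
set_option linter.unusedVariables false
open Cfsg

open scoped commutatorElement

namespace Cfsg.Agent.S2823

/-- Let H be a finite group, p a prime, T a Sylow p-subgroup and L a subgroup of characteristic p containing T; let Z_L be the subgroup generated by the Ω₁(Z(S)) over the Sylow p-subgroups S of L and O^p(L) the subgroup generated by the elements of L of order prime to p. Then Z_L = Ω₁(Z(L))·[Z_L, O^p(L)] and [Z_L, L] = [Z_L, O^p(L)]. -/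
theorem result {H : Type*} [Group H] [Finite H] {p : ℕ} [Fact p.Prime] (T : Sylow p H) (L : Subgroup H) (hTL : (T : Subgroup H) ≤ L) (hL : Subgroup.centralizer (Cfsg.pCore p ↥L : Set ↥L) ≤ Cfsg.pCore p ↥L) : Cfsg.sylowCenterClosure p L = (Cfsg.omegaOne p (L ⊓ Subgroup.centralizer ((L : Subgroup H) : Set H))) ⊔ ⁅Cfsg.sylowCenterClosure p L, (Cfsg.pResidual p ↥L).map L.subtype⁆ ∧ ⁅Cfsg.sylowCenterClosure p L, L⁆ = ⁅Cfsg.sylowCenterClosure p L, (Cfsg.pResidual p ↥L).map L.subtype⁆ := by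
  haveI := CfsgLib.Transfer.pResidual_normal p ↥L
  set R := (Cfsg.pResidual p ↥L).map L.subtype with hR
  set Z := Cfsg.sylowCenterClosure p L with hZ
  set A := Cfsg.omegaOne p ((T : Subgroup H) ⊓ Subgroup.centralizer ((T : Subgroup H) : Set H)) with hA
  set O := Cfsg.pCoreOf p L with hO
  have hRL : R ≤ L := Subgroup.map_subtype_le _
  have hLR : L ≤ Subgroup.normalizer (R : Set H) := (Subgroup.normal_subgroupOf_iff_le_normalizer hRL).mp (by
    rw [hR, Subgroup.subgroupOf, Subgroup.comap_map_eq_self_of_injective L.subtype_injective]; infer_instance)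
  have hTmap : ((T.subtype hTL : Sylow p L) : Subgroup L).map L.subtype = (T : Subgroup H) := by
    rw [Sylow.coe_subtype, Subgroup.map_subgroupOf_eq_of_le hTL]
  have hsplit : ∀ l ∈ L, ∃ r ∈ R, ∃ t ∈ (T : Subgroup H), l = r * t := by
    intro l hl
    have h1 : (⟨l, hl⟩ : L) ∈ Cfsg.pResidual p ↥L ⊔ ((T.subtype hTL : Sylow p L) : Subgroup L) := by
      rw [sup_comm, CfsgLib.Transfer.sylow_sup_pResidual]; exact Subgroup.mem_top _
    obtain ⟨r, hr, t, ht, e⟩ := Subgroup.mem_sup_of_normal_left.mp h1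
    exact ⟨r, ⟨r, hr, rfl⟩, t, hTmap ▸ ⟨t, ht, rfl⟩, (congrArg Subtype.val e).symm⟩
  have hAle : ∀ a ∈ A, a ∈ (T : Subgroup H) ∧ ∀ t ∈ (T : Subgroup H), t * a = a * t := fun a ha =>
    ⟨(CfsgLib.ZJ.omegaOne_le p _ ha).1, (CfsgLib.ZJ.omegaOne_le p _ ha).2⟩
  have hAZ : A ≤ Z := by
    have := le_iSup (fun S : Sylow p L => Cfsg.omegaOne p (((S : Subgroup L).map L.subtype) ⊓
        Subgroup.centralizer (((S : Subgroup L).map L.subtype : Subgroup H) : Set H))) (T.subtype hTL)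
    rw [hTmap] at this
    exact this
  have hterm : ∀ l : L, Cfsg.omegaOne p ((((l • T.subtype hTL : Sylow p L) : Subgroup L).map L.subtype) ⊓
      Subgroup.centralizer ((((l • T.subtype hTL : Sylow p L) : Subgroup L).map L.subtype : Subgroup H) : Set H)) =
        A.map (MulAut.conj (l : H)).toMonoidHom := by
    intro l
    have hmap : ((l • T.subtype hTL : Sylow p L) : Subgroup L).map L.subtype =
        (T : Subgroup H).map (MulAut.conj (l : H)).toMonoidHom := by
      ext x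
      constructor
      · rintro ⟨_, ⟨t, ht, rfl⟩, rfl⟩
        exact ⟨t, ht, rfl⟩
      · rintro ⟨t, ht, rfl⟩
        exact ⟨l * ⟨t, hTL ht⟩ * l⁻¹, ⟨⟨t, hTL ht⟩, ht, rfl⟩, rfl⟩
    have hinj := (MulAut.conj (l : H)).injective
    rw [hmap, hA, CfsgLib.ZJ.map_omegaOne p _ (Function.Injective.injOn hinj), Subgroup.map_inf _ _ _ hinj]
    congr 2
    ext x
    constructor
    · intro hx
      refine ⟨(l : H)⁻¹ * x * l, fun t ht => ?_, by simp [mul_assoc]⟩
      have := congrArg (fun z => (l : H)⁻¹ * z * l) (hx _ (Subgroup.mem_map_of_mem _ ht))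
      simpa [mul_assoc] using this
    · rintro ⟨y, hy, rfl⟩ _ ⟨t, ht, rfl⟩
      rw [← map_mul, ← map_mul]
      exact congrArg _ (hy t ht)
  have hZle : ∀ {U : Subgroup H}, (∀ l ∈ L, ∀ a ∈ A, l * a * l⁻¹ ∈ U) → Z ≤ U := by
    intro U hU
    refine iSup_le fun S => ?_
    obtain ⟨l, rfl⟩ := MulAction.exists_smul_eq L (T.subtype hTL) S
    rw [hterm l]
    rintro _ ⟨a, ha, rfl⟩
    exact hU l l.2 a ha
  have hAL : ∀ a ∈ A, a ∈ L := fun a ha => hTL (hAle a ha).1
  have hZL : Z ≤ L := hZle fun l hl a ha => L.mul_mem (L.mul_mem hl (hAL a ha)) (L.inv_mem hl)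
  have hgen : Z = Subgroup.closure {x : H | ∃ l ∈ L, ∃ a ∈ A, l * a * l⁻¹ = x} := by
    refine le_antisymm (hZle fun l hl a ha => Subgroup.subset_closure ⟨l, hl, a, ha, rfl⟩) ?_
    rw [Subgroup.closure_le]
    rintro _ ⟨l, hl, a, ha, rfl⟩
    have := le_iSup (fun S : Sylow p L => Cfsg.omegaOne p (((S : Subgroup L).map L.subtype) ⊓
        Subgroup.centralizer (((S : Subgroup L).map L.subtype : Subgroup H) : Set H))) ((⟨l, hl⟩ : L) • T.subtype hTL)
    simp only [hterm] at this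
    exact this ⟨a, ha, rfl⟩
  have hLZ : L ≤ Subgroup.normalizer (Z : Set H) := by
    intro g hg
    refine Subgroup.mem_normalizer_fintype fun x hx => ?_
    have : Z ≤ Z.comap (MulAut.conj g).toMonoidHom := by
      conv_lhs => rw [hgen]
      rw [Subgroup.closure_le]
      rintro _ ⟨l, hl, a, ha, rfl⟩
      show g * (l * a * l⁻¹) * g⁻¹ ∈ Z
      rw [hgen]
      exact Subgroup.subset_closure ⟨g * l, L.mul_mem hg hl, a, ha, by group⟩
    exact this hx
  have hchar : ∀ x ∈ L, (∀ o ∈ O, o * x = x * o) → x ∈ O := fun x hx hc =>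
    ⟨⟨x, hx⟩, hL (fun o ho => Subtype.ext (hc o ⟨o, ho, rfl⟩)), rfl⟩
  have hOT : O ≤ (T : Subgroup H) := CfsgLib.PReduced.pCoreOf_le_sylow T hTL
  have hZc : Z ≤ Subgroup.centralizer (O : Set H) := hZle fun l hl a ha =>
    (Subgroup.mem_normalizer_iff.mp (CfsgLib.Coprime.le_normalizer_centralizer (CfsgLib.PReduced.le_normalizer_pCoreOf p L) hl) a).mp
      fun o ho => (hAle a ha).2 o (hOT ho)
  have hZO : Z ≤ O := fun z hz => hchar z (hZL hz) (hZc hz)
  have hcomm : ∀ a ∈ Z, ∀ b ∈ Z, a * b = b * a := fun a ha b hb => hZc hb a (hZO ha)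
  have hexp : ∀ z ∈ Z, z ^ p = 1 := by
    intro z hz
    rw [hgen] at hz
    induction hz using Subgroup.closure_induction with
    | mem x hx =>
      obtain ⟨l, -, a, ha, rfl⟩ := hx
      rw [conj_pow]
      suffices a ^ p = 1 by rw [this, mul_one, mul_inv_cancel]
      have hcT : ∀ b ∈ A, ∀ c ∈ A, b * c = c * b := fun b hb c hc => ((hAle c hc).2 b (hAle b hb).1)
      have hgA : ∀ x, x ∈ (T : Subgroup H) ⊓ Subgroup.centralizer ((T : Subgroup H) : Set H) → x ^ p = 1 → x ∈ A :=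
        fun x h1 h2 => Subgroup.subset_closure ⟨h1, h2⟩
      induction ha using Subgroup.closure_induction with
      | mem x hx => exact hx.2
      | one => exact one_pow p
      | mul b c hb hc ihb ihc => rw [(show Commute b c from hcT b hb c hc).mul_pow, ihb, ihc, one_mul]
      | inv b hb ihb => rw [inv_pow, ihb, inv_one]
    | one => exact one_pow p
    | mul b c hb hc ihb ihc => rw [(show Commute b c from hcomm b (hgen ▸ hb) c (hgen ▸ hc)).mul_pow, ihb, ihc, one_mul]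
    | inv b hb ihb => rw [inv_pow, ihb, inv_one]
  set D := ⁅Z, R⁆ with hD
  have hDZ : D ≤ Z := CfsgLib.Coprime.commutator_le_left_of_le_normalizer (hRL.trans hLZ)
  have hLD : L ≤ Subgroup.normalizer (D : Set H) := CfsgLib.Coprime.le_normalizer_commutator hLZ hLR
  have hrz : ∀ r ∈ R, ∀ z ∈ Z, r * z * r⁻¹ * z⁻¹ ∈ D := by
    intro r hr z hz
    rw [hD, Subgroup.commutator_comm, ← commutatorElement_def]
    exact Subgroup.commutator_mem_commutator hr hz
  have hZAD : Z ≤ A ⊔ D := hZle fun l hl a ha => by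
    obtain ⟨r, hr, t, ht, rfl⟩ := hsplit l hl
    have e : r * t * a * (r * t)⁻¹ = (r * a * r⁻¹ * a⁻¹) * a := by
      calc r * t * a * (r * t)⁻¹ = r * (t * a * t⁻¹) * r⁻¹ := by group
        _ = _ := by rw [(hAle a ha).2 t ht]; group
    rw [e]
    exact Subgroup.mul_mem _ (Subgroup.mem_sup_right (hrz r hr a (hAZ ha))) (Subgroup.mem_sup_left ha)
  have hlz : ∀ l ∈ L, ∀ z ∈ Z, l * z * l⁻¹ * z⁻¹ ∈ D := by
    intro l hl z hz
    obtain ⟨r, hr, t, ht, rfl⟩ := hsplit l hl
    obtain ⟨a, ha, d, hd, rfl⟩ := CfsgLib.PReduced.exists_mul_of_mem_sup (fun a ha => hLD (hAL a ha)) (hZAD hz)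
    have hy : t * (a * d) * t⁻¹ = a * (t * d * t⁻¹) := by
      calc t * (a * d) * t⁻¹ = (t * a) * d * t⁻¹ := by group
        _ = _ := by rw [(hAle a ha).2 t ht]; group
    have htd : t * d * t⁻¹ ∈ D := (Subgroup.mem_normalizer_iff.mp (hLD (hTL ht)) d).mp hd
    have e : r * t * (a * d) * (r * t)⁻¹ * (a * d)⁻¹ =
        (r * (a * (t * d * t⁻¹)) * r⁻¹ * (a * (t * d * t⁻¹))⁻¹) * (a * ((t * d * t⁻¹) * d⁻¹) * a⁻¹) := by
      calc r * t * (a * d) * (r * t)⁻¹ * (a * d)⁻¹ = r * (t * (a * d) * t⁻¹) * r⁻¹ * (a * d)⁻¹ := by group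
        _ = _ := by rw [hy]; group
    rw [e]
    refine D.mul_mem (hrz r hr _ (Z.mul_mem (hAZ ha) (hDZ htd))) ?_
    exact (Subgroup.mem_normalizer_iff.mp (hLD (hAL a ha)) _).mp (D.mul_mem htd (D.inv_mem hd))
  set W := Cfsg.omegaOne p (L ⊓ Subgroup.centralizer ((L : Subgroup H) : Set H)) with hW
  have hWZ : W ≤ Z := by
    refine le_trans ?_ hAZ
    rw [hW, Cfsg.omegaOne, Subgroup.closure_le]
    rintro x ⟨⟨hxL, hxc⟩, hxp⟩
    refine Subgroup.subset_closure ⟨⟨hOT (hchar x hxL fun o ho => hxc o (Subgroup.map_subtype_le _ ho)), fun t ht => hxc t (hTL ht)⟩, hxp⟩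
  letI : CommGroup Z := { (inferInstance : Group Z) with mul_comm := fun a b => Subtype.ext (hcomm a a.2 b b.2) }
  let f : L →* MulAut Z := (Subgroup.normalizerMonoidHom Z).comp (Subgroup.inclusion hLZ)
  have hfv : ∀ (l : L) (a : Z), ((f l a : Z) : H) = l * a * (l : H)⁻¹ := fun l a => rfl
  have hAW : A ≤ W ⊔ D := by
    intro a ha
    obtain ⟨C, hC, hCc⟩ := CfsgLib.Coprime.exists_fixed_congr_pow_index f ((T.subtype hTL : Sylow p L) : Subgroup L) (D.subgroupOf Z)
      (fun l z => by rw [Subgroup.mem_subgroupOf, Subgroup.coe_mul, InvMemClass.coe_inv, hfv]; exact hlz l l.2 z z.2)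
      ⟨a, hAZ ha⟩ (fun t ht => Subtype.ext <| by
        rw [hfv, show (t : H) * a = a * t from (hAle a ha).2 t ht, mul_inv_cancel_right])
    have hk : ¬ p ∣ ((T.subtype hTL : Sylow p L) : Subgroup L).index := (T.subtype hTL).not_dvd_index
    have hCW : (C : H) ∈ W := Subgroup.subset_closure ⟨⟨hZL C.2, fun l hl => by
      have := congrArg Subtype.val (hC ⟨l, hl⟩)
      rw [hfv, mul_inv_eq_iff_eq_mul] at this
      exact this⟩, hexp C C.2⟩
    have hak : a ^ ((T.subtype hTL : Sylow p L) : Subgroup L).index ∈ W ⊔ D := by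
      have h1 := Subgroup.mem_sup_right (S := W) (Subgroup.mem_subgroupOf.mp hCc)
      simp only [Subgroup.coe_mul, InvMemClass.coe_inv, SubmonoidClass.coe_pow] at h1
      have := (W ⊔ D).mul_mem ((W ⊔ D).inv_mem h1) (Subgroup.mem_sup_left hCW)
      rwa [mul_inv_rev, inv_inv, inv_mul_cancel_right] at this
    obtain ⟨j, hj⟩ := exists_pow_eq_self_of_coprime (x := a)
      (Nat.Coprime.coprime_dvd_right (orderOf_dvd_of_pow_eq_one (hexp a (hAZ ha))) ((Fact.out : p.Prime).coprime_iff_not_dvd.mpr hk).symm)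
    exact hj ▸ (W ⊔ D).pow_mem hak j
  refine ⟨le_antisymm (hZAD.trans (sup_le hAW le_sup_right)) (sup_le hWZ hDZ), le_antisymm ?_ ?_⟩
  · rw [Subgroup.commutator_comm, Subgroup.commutator_le]
    intro l hl z hz
    rw [commutatorElement_def]
    exact hlz l hl z hz
  · exact Subgroup.commutator_mono le_rfl hRL

end Cfsg.Agent.S2823
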