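import Cfsg.Statements.S2842
import Mathlib
import Cfsg.Agent.Lib.WeaklyClosed.Basic
import Cfsg.Agent.Lib.Coprime.Action
import Cfsg.Agent.Lib.PSolvable.Constrained
import Cfsg.Agent.Lib.PReduced.Largest

set_option linter.style.haveILetI false

set_option autoImplicit false
open Cfsg

namespace Cfsg.Agent.S2842

open CfsgLib CfsgLib.Transfer
open scoped commutatorElement

/-- Elements normalizing `X` and `Y` and centralizing `X` modulo `Y`. -/
def actTriv {H : Type*} [Group H] (X Y : Subgroup H) : Subgroup H where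
  carrier := {g | g ∈ Subgroup.normalizer (X : Set H) ⊓ Subgroup.normalizer (Y : Set H) ∧
    ∀ z ∈ X, g * z * g⁻¹ * z⁻¹ ∈ Y}
  one_mem' := ⟨one_mem _, fun z _ => by simp⟩
  mul_mem' := by
    rintro g k ⟨hg, hg'⟩ ⟨hk, hk'⟩
    refine ⟨mul_mem hg hk, fun z hz => ?_⟩
    rw [show g * k * z * (g * k)⁻¹ * z⁻¹ =
      g * (k * z * k⁻¹ * z⁻¹) * g⁻¹ * (g * z * g⁻¹ * z⁻¹) by group]
    exact mul_mem ((Subgroup.mem_normalizer_iff.mp hg.2 _).mp (hk' z hz)) (hg' z hz)
  inv_mem' := by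
    rintro g ⟨hg, hg'⟩
    refine ⟨inv_mem hg, fun z hz => ?_⟩
    have h1 := inv_mem (hg' (g⁻¹ * z * g) ((Subgroup.mem_normalizer_iff''.mp hg.1 z).mp hz))
    simpa [mul_assoc] using h1

theorem conj_mem_actTriv {H : Type*} [Group H] {X Y : Subgroup H} {g k : H} (hg : g ∈ actTriv X Y)
    (hk : k ∈ Subgroup.normalizer (X : Set H) ⊓ Subgroup.normalizer (Y : Set H)) :
    k * g * k⁻¹ ∈ actTriv X Y := by
  refine ⟨mul_mem (mul_mem hk hg.1) (inv_mem hk), fun z hz => ?_⟩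
  have h1 := hg.2 (k⁻¹ * z * k) ((Subgroup.mem_normalizer_iff''.mp hk.1 z).mp hz)
  have h2 := (Subgroup.mem_normalizer_iff.mp hk.2 _).mp h1
  convert h2 using 1
  group

/-- A `p'`-element commuting with its commutator with `z`, the latter a `p`-element, centralizes
`z`. -/
theorem commute_of_comm {H : Type*} [Group H] {p : ℕ} [Fact p.Prime] {R : Subgroup H}
    (hR : IsPGroup p R) {x z : H} (hx : (orderOf x).Coprime p) (hc : x * z * x⁻¹ * z⁻¹ ∈ R)
    (hxc : Commute x (x * z * x⁻¹ * z⁻¹)) : x * z = z * x := by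
  set c := x * z * x⁻¹ * z⁻¹ with hcdef
  have h1 : (z * x⁻¹ * z⁻¹) ^ orderOf x = 1 := by
    rw [conj_pow, inv_pow, pow_orderOf_eq_one]; simp
  rw [show z * x⁻¹ * z⁻¹ = x⁻¹ * c by rw [hcdef]; group, (hxc.inv_left).mul_pow, inv_pow,
    pow_orderOf_eq_one, inv_one, one_mul] at h1
  obtain ⟨j, hj⟩ := hR ⟨c, hc⟩
  have h2 : c = 1 := orderOf_eq_one_iff.mp (Nat.eq_one_of_dvd_coprimes (hx.pow_right j)
    (orderOf_dvd_of_pow_eq_one h1) (orderOf_dvd_of_pow_eq_one (congrArg Subtype.val hj)))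
  rwa [hcdef, mul_inv_eq_one, mul_inv_eq_iff_eq_mul] at h2

theorem main {H : Type*} [Group H] [Finite H] {p : ℕ} [Fact p.Prime] {Q L O : Subgroup H}
    (hQp : IsPGroup p Q) (hwc : Cfsg.IsWeaklyClosedSubgroup p Q)
    (hCQ : Subgroup.centralizer (Q : Set H) ≤ Q) (hQL : Q ≤ L) (hOp : IsPGroup p O)
    (hQO : Q ≤ Subgroup.normalizer (O : Set H))
    (hKO : Subgroup.centralizer (Cfsg.pCoreOf p L : Set H) ≤ Subgroup.normalizer (O : Set H))
    (hCO : ∀ x ∈ Subgroup.centralizer (Cfsg.pCoreOf p L : Set H),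
      (∀ o ∈ O, x * o = o * x) → x ∈ O) :
    ⁅Q, Subgroup.centralizer (Cfsg.pCoreOf p L : Set H)⁆ ≤ Q ⊓ Cfsg.pCoreOf p L ∧
      IsPGroup p ↥(Subgroup.centralizer (Cfsg.pCoreOf p L : Set H)) ∧
      Subgroup.centralizer (Cfsg.pCore p ↥L : Set ↥L) ≤ Cfsg.pCore p ↥L := by
  set R := Cfsg.pCoreOf p L with hR
  set K := Subgroup.centralizer (R : Set H) with hK
  have hRp : IsPGroup p R := PReduced.isPGroup_pCoreOf p L
  have hLK : L ≤ Subgroup.normalizer (K : Set H) :=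
    Coprime.le_normalizer_centralizer (PReduced.le_normalizer_pCoreOf p L)
  have hQK := hQL.trans hLK
  set J := Cfsg.pCoreOf p K with hJ
  have hKJ : K ≤ Subgroup.normalizer (J : Set H) := PReduced.le_normalizer_pCoreOf p K
  have hLJ : L ≤ Subgroup.normalizer (J : Set H) := by
    intro a ha
    refine map_conj_eq_self_iff.mp (Subgroup.eq_of_le_of_card_ge ?_
      (Subgroup.card_map_of_injective (MulAut.conj a).injective).ge)
    have hKa := map_conj_eq_self_iff.mpr (hLK ha)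
    refine PReduced.le_pCoreOf ?_ ?_ ((PReduced.isPGroup_pCoreOf p K).map _)
    · conv_rhs => rw [← hKa]
      exact Subgroup.map_mono (Subgroup.map_subtype_le _)
    · conv_lhs => rw [← hKa]
      exact (Subgroup.map_mono hKJ).trans (Subgroup.le_normalizer_map _)
  have hJL : J ⊓ L ≤ R := PReduced.le_pCoreOf inf_le_right
    (Coprime.le_normalizer_inf_of_le hLJ Subgroup.le_normalizer)
    ((PReduced.isPGroup_pCoreOf p K).to_le inf_le_left)
  have hQJ : J ≤ Subgroup.normalizer (Q : Set H) := le_sup_right.trans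
    (WeaklyClosed.le_normalizer hwc (IsPGroup.to_sup_of_normal_right' hQp
      (PReduced.isPGroup_pCoreOf p K) (hQL.trans hLJ)) le_sup_left)
  have hQO' : O ≤ Subgroup.normalizer (Q : Set H) := le_sup_right.trans
    (WeaklyClosed.le_normalizer hwc (IsPGroup.to_sup_of_normal_right' hQp hOp hQO) le_sup_left)
  set J₀ := O ⊓ K with hJ₀
  have hJ₀J : J₀ ≤ J := PReduced.le_pCoreOf inf_le_right
    (Coprime.le_normalizer_inf_of_le hKO Subgroup.le_normalizer) (hOp.to_le inf_le_left)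
  set W := (O ⊓ Q) ⊔ J₀ with hW
  have hQJ₀ : Q ≤ Subgroup.normalizer (J₀ : Set H) := Coprime.le_normalizer_inf_of_le hQO hQK
  have hKJ₀ : K ≤ Subgroup.normalizer (J₀ : Set H) :=
    Coprime.le_normalizer_inf_of_le hKO Subgroup.le_normalizer
  have hQW : Q ≤ Subgroup.normalizer (W : Set H) :=
    Coprime.le_normalizer_sup_of_le (Coprime.le_normalizer_inf_of_le hQO Subgroup.le_normalizer) hQJ₀
  have hmem : ∀ o ∈ O ⊓ Q, ∀ k ∈ K, k * o * k⁻¹ * o⁻¹ ∈ J₀ := by
    intro o ho k hk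
    refine ⟨O.mul_mem ((Subgroup.mem_normalizer_iff.mp (hKO hk) o).mp ho.1) (O.inv_mem ho.1), ?_⟩
    rw [show k * o * k⁻¹ * o⁻¹ = k * (o * k⁻¹ * o⁻¹) by group]
    exact mul_mem hk ((Subgroup.mem_normalizer_iff.mp (hQK ho.2) _).mp (inv_mem hk))
  have hKW : K ≤ Subgroup.normalizer (W : Set H) := by
    intro a ha
    refine map_conj_eq_self_iff.mp (Subgroup.eq_of_le_of_card_ge ?_
      (Subgroup.card_map_of_injective (MulAut.conj a).injective).ge)
    rw [hW, Subgroup.map_sup]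
    refine sup_le ?_ ?_
    · rintro _ ⟨o, ho, rfl⟩
      show a * o * a⁻¹ ∈ W
      have := mul_mem (Subgroup.mem_sup_right (hmem o ho a ha) : _ ∈ W) (Subgroup.mem_sup_left ho)
      rwa [inv_mul_cancel_right] at this
    · rw [map_conj_eq_self_iff.mpr (hKJ₀ ha)]
      exact le_sup_right
  -- `[K, Q]` stabilizes the series `O ≥ W ≥ J₀`, and `J₀ ≥ J₀ ∩ R`
  set M := ⁅K, Q⁆ with hM
  have hMK : M ≤ K := Subgroup.commutator_le.mpr fun k hk q hq => by
    rw [commutatorElement_def, show k * q * k⁻¹ * q⁻¹ = k * (q * k⁻¹ * q⁻¹) by group]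
    exact mul_mem hk ((Subgroup.mem_normalizer_iff.mp (hQK hq) _).mp (inv_mem hk))
  have hA : ∀ X Y : Subgroup H, K ≤ Subgroup.normalizer (X : Set H) →
      K ≤ Subgroup.normalizer (Y : Set H) → Q ≤ actTriv X Y → M ≤ actTriv X Y := by
    intro X Y hX hY hQA
    refine Subgroup.commutator_le.mpr fun k hk q hq => ?_
    rw [commutatorElement_def]
    exact mul_mem (conj_mem_actTriv (hQA hq) ⟨hX hk, hY hk⟩) (inv_mem (hQA hq))
  have hA1 : M ≤ actTriv O W := hA O W hKO hKW fun q hq => ⟨⟨hQO hq, hQW hq⟩, fun o ho => by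
    refine Subgroup.mem_sup_left ⟨O.mul_mem ((Subgroup.mem_normalizer_iff.mp (hQO hq) o).mp ho)
      (O.inv_mem ho), ?_⟩
    rw [show q * o * q⁻¹ * o⁻¹ = q * (o * q⁻¹ * o⁻¹) by group]
    exact mul_mem hq ((Subgroup.mem_normalizer_iff.mp (hQO' ho) _).mp (inv_mem hq))⟩
  have hKR : ∀ x ∈ K, ∀ z ∈ R, x * z = z * x := fun x hx z hz => (hx z hz).symm
  have hKJR : K ≤ Subgroup.normalizer ((J₀ ⊓ R : Subgroup H) : Set H) :=
    Coprime.le_normalizer_inf_of_le hKJ₀ (Subgroup.centralizer_le_normalizer _)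
  have hA2 : M ≤ actTriv J₀ (J₀ ⊓ R) := hA _ _ hKJ₀ hKJR fun q hq =>
    ⟨⟨hQJ₀ hq, Coprime.le_normalizer_inf_of_le hQJ₀
      (hQL.trans (PReduced.le_normalizer_pCoreOf p L)) hq⟩, fun z hz => by
      refine ⟨J₀.mul_mem ((Subgroup.mem_normalizer_iff.mp (hQJ₀ hq) z).mp hz) (J₀.inv_mem hz),
        hJL ⟨J.mul_mem ((Subgroup.mem_normalizer_iff.mp (hQL.trans hLJ hq) z).mp (hJ₀J hz))
          (J.inv_mem (hJ₀J hz)), hQL ?_⟩⟩
      rw [show q * z * q⁻¹ * z⁻¹ = q * (z * q⁻¹ * z⁻¹) by group]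
      exact mul_mem hq ((Subgroup.mem_normalizer_iff.mp (hQO' hz.1) _).mp (inv_mem hq))⟩
  have hMp : IsPGroup p M := by
    refine PSolvable.isPGroup_of_forall_coprime fun x hx hxp => ?_
    have e2 : ∀ z ∈ J₀, x * z = z * x := fun z hz => commute_of_comm hRp hxp
      ((hA2 hx).2 z hz).2 (hKR x (hMK hx) _ ((hA2 hx).2 z hz).2)
    have hJ₀O : IsPGroup p J₀ := hOp.to_le inf_le_left
    have e3 : W ≤ Subgroup.centralizer ({x} : Set H) := by
      refine sup_le (fun o ho => ?_) (fun z hz => ?_)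
      · exact Subgroup.mem_centralizer_singleton_iff.mpr
          (commute_of_comm hJ₀O hxp (hmem o ho x (hMK hx)) (e2 _ (hmem o ho x (hMK hx)))).symm
      · exact Subgroup.mem_centralizer_singleton_iff.mpr (e2 z hz).symm
    have hWO : W ≤ O := sup_le inf_le_left inf_le_left
    have e4 : ∀ o ∈ O, x * o = o * x := fun o ho => commute_of_comm hOp hxp
      (hWO ((hA1 hx).2 o ho))
      (Subgroup.mem_centralizer_singleton_iff.mp (e3 ((hA1 hx).2 o ho))).symm
    obtain ⟨j, hj⟩ := hOp ⟨x, hCO x (hMK hx) e4⟩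
    exact orderOf_eq_one_iff.mp (Nat.eq_one_of_dvd_coprimes (hxp.pow_right j) dvd_rfl
      (orderOf_dvd_of_pow_eq_one (congrArg Subtype.val hj)))
  have hKQ : K ≤ Subgroup.normalizer (Q : Set H) := by
    intro k hk
    refine map_conj_eq_self_iff.mp (WeaklyClosed.conj_eq hwc (IsPGroup.to_sup_of_normal_right' hQp
      hMp (Subgroup.normalizer_commutator_ge_right K Q)) le_sup_left ?_)
    rintro _ ⟨q, hq, rfl⟩
    show k * q * k⁻¹ ∈ Q ⊔ M
    have h1 : ⁅k, q⁆ ∈ Q ⊔ M :=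
      Subgroup.mem_sup_right (Subgroup.commutator_mem_commutator hk hq)
    have h2 := mul_mem h1 (Subgroup.mem_sup_left hq)
    rwa [commutatorElement_def, inv_mul_cancel_right] at h2
  have hQKJ : Q ⊓ K ≤ J := PReduced.le_pCoreOf inf_le_right
    (Coprime.le_normalizer_inf_of_le hKQ Subgroup.le_normalizer) (hQp.to_le inf_le_left)
  have h1 : ⁅Q, K⁆ ≤ Q ⊓ R := Subgroup.commutator_le.mpr fun q hq k hk => by
    rw [commutatorElement_def]
    have a1 : q * k * q⁻¹ * k⁻¹ ∈ Q := by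
      rw [show q * k * q⁻¹ * k⁻¹ = q * (k * q⁻¹ * k⁻¹) by group]
      exact mul_mem hq ((Subgroup.mem_normalizer_iff.mp (hKQ hk) _).mp (inv_mem hq))
    exact ⟨a1, hJL ⟨hQKJ ⟨a1, K.mul_mem ((Subgroup.mem_normalizer_iff.mp (hQK hq) k).mp hk)
      (K.inv_mem hk)⟩, hQL a1⟩⟩
  have h2 : IsPGroup p K := PSolvable.isPGroup_of_forall_coprime fun x hx hxp => by
    have e : x ∈ Q := hCQ fun q hq => by
      have hc : x * q * x⁻¹ * q⁻¹ ∈ R := by
        have := R.inv_mem (h1 (Subgroup.commutator_mem_commutator hq hx)).2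
        rwa [commutatorElement_inv, commutatorElement_def] at this
      exact (commute_of_comm hRp hxp hc (hKR x hx _ hc)).symm
    obtain ⟨j, hj⟩ := hQp ⟨x, e⟩
    exact orderOf_eq_one_iff.mp (Nat.eq_one_of_dvd_coprimes (hxp.pow_right j) dvd_rfl
      (orderOf_dvd_of_pow_eq_one (congrArg Subtype.val hj)))
  refine ⟨h1, h2, fun x hx => ?_⟩
  have hxK : (x : H) ∈ K ⊓ L := ⟨by
    rintro _ ⟨z, hz, rfl⟩
    exact congrArg Subtype.val (hx z hz), x.2⟩
  obtain ⟨y, hy, e⟩ := PReduced.le_pCoreOf inf_le_right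
    (Coprime.le_normalizer_inf_of_le hLK Subgroup.le_normalizer) (h2.to_le inf_le_left) hxK
  rwa [← L.subtype_injective e]

/-- Let Q be a nontrivial p-subgroup of the finite group H that is a weakly closed subgroup with C_H(Q) ≤ Q, and Q ≤ L ≤ H. Suppose H has characteristic p, or more generally that C_H(y) has characteristic p for some nonidentity y ∈ C_{O_p(L)}(Q). Then [Q, C_H(O_p(L))] ≤ Q ∩ O_p(L), C_H(O_p(L)) is a p-group, and L has characteristic p. -/
theorem result {H : Type*} [Group H] [Finite H] {p : ℕ} [Fact p.Prime] (Q : Subgroup H) (hQp : IsPGroup p ↥Q) (hQ1 : Q ≠ ⊥) (hwc : Cfsg.IsWeaklyClosedSubgroup p Q) (hCQ : Subgroup.centralizer ((Q : Subgroup H) : Set H) ≤ Q) (L : Subgroup H) (hQL : Q ≤ L) (hyp : Subgroup.centralizer (Cfsg.pCore p H : Set H) ≤ Cfsg.pCore p H ∨ ∃ y : H, y ≠ 1 ∧ y ∈ (Cfsg.pCoreOf p L) ⊓ Subgroup.centralizer ((Q : Subgroup H) : Set H) ∧ Subgroup.centralizer (Cfsg.pCore p ↥(Subgroup.centralizer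 ({y} : Set H)) : Set ↥(Subgroup.centralizer ({y} : Set H))) ≤ Cfsg.pCore p ↥(Subgroup.centralizer ({y} : Set H))) : ⁅Q, Subgroup.centralizer (((Cfsg.pCoreOf p L) : Subgroup H) : Set H)⁆ ≤ Q ⊓ (Cfsg.pCoreOf p L) ∧ IsPGroup p ↥(Subgroup.centralizer (((Cfsg.pCoreOf p L) : Subgroup H) : Set H)) ∧ Subgroup.centralizer (Cfsg.pCore p ↥L : Set ↥L) ≤ Cfsg.pCore p ↥L := by
  rcases hyp with h | ⟨y, -, ⟨hyR, hyQ⟩, h⟩
  · haveI := CfsgLib.Fitting.pCore_normal (G := H) p
    exact main hQp hwc hCQ hQL (CfsgLib.Fitting.pCore_isPGroup p) Subgroup.le_normalizer_of_normal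
      Subgroup.le_normalizer_of_normal fun x _ hx => h fun o ho => (hx o ho).symm
  · set C := Subgroup.centralizer ({y} : Set H) with hC
    have hn := PReduced.le_normalizer_pCoreOf p C
    have hQC : Q ≤ C := fun q hq => Subgroup.mem_centralizer_singleton_iff.mpr (hyQ q hq)
    have hKC : Subgroup.centralizer (Cfsg.pCoreOf p L : Set H) ≤ C := fun k hk =>
      Subgroup.mem_centralizer_singleton_iff.mpr (hk y hyR).symm
    refine main hQp hwc hCQ hQL (PReduced.isPGroup_pCoreOf p C) (hQC.trans hn) (hKC.trans hn) ?_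
    intro x hx hxO
    refine ⟨⟨x, hKC hx⟩, h fun z hz => Subtype.ext ?_, rfl⟩
    exact (hxO _ ⟨z, hz, rfl⟩).symm

end Cfsg.Agent.S2842
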