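import Cfsg.Statements.S2825
import Mathlib
import Cfsg.Agent.S2842
import Cfsg.Agent.Lib.PReduced.BasicProperty

set_option linter.style.haveILetI false
set_option linter.unusedSectionVars false

set_option autoImplicit false
open Cfsg CfsgLib

namespace Cfsg.Agent.S2825

open CfsgLib

variable {H : Type*} [Group H] [Finite H] {p : ℕ} [Fact p.Prime]

/-- A `p'`-element with a `p`-power power in `C` lies in `C`. -/
theorem mem_of_pow {C : Subgroup H} {x : H} (hx : (orderOf x).Coprime p) {k : ℕ}
    (h : x ^ p ^ k ∈ C) : x ∈ C := by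
  obtain ⟨m, hm⟩ := exists_pow_eq_self_of_coprime (x := x) (n := p ^ k) (hx.pow_right k).symm
  exact hm ▸ pow_mem h m

/-- If the `p'`-elements of `D` lie in `C`, every element has a `p`-power power in `C`. -/
theorem exists_pow_mem {C D : Subgroup H} (h : ∀ x ∈ D, (orderOf x).Coprime p → x ∈ C) :
    ∀ d ∈ D, ∃ k : ℕ, d ^ p ^ k ∈ C := by
  intro d hd
  obtain ⟨a, m, -, -, hc, -⟩ := Transfer.exists_pow_coprime_part (p := p) d
  exact ⟨a, h _ (pow_mem hd _) hc⟩

/-- The largest normal subgroup of `L` which is a `p`-group modulo `C(V)`, with its invariance. -/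
theorem exists_max {L V : Subgroup H} (hLV : L ≤ Subgroup.normalizer (V : Set H)) :
    ∃ A : Subgroup H, A ≤ L ∧ L ≤ Subgroup.normalizer (A : Set H) ∧
      (∀ d ∈ A, ∃ k : ℕ, d ^ p ^ k ∈ Subgroup.centralizer (V : Set H)) ∧
      (∀ D : Subgroup H, D ≤ L → L ≤ Subgroup.normalizer (D : Set H) →
        (∀ d ∈ D, ∃ k : ℕ, d ^ p ^ k ∈ Subgroup.centralizer (V : Set H)) → D ≤ A) ∧
      (∀ a, a ∈ Subgroup.normalizer (L : Set H) → a ∈ Subgroup.normalizer (V : Set H) →
        a ∈ Subgroup.normalizer (A : Set H)) := by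
  set C := Subgroup.centralizer (V : Set H) with hC
  have hVC : Subgroup.normalizer (V : Set H) ≤ Subgroup.normalizer (C : Set H) :=
    Coprime.le_normalizer_centralizer le_rfl
  haveI : (C.subgroupOf L).Normal := by
    refine ⟨fun x hx g => ?_⟩
    exact (Subgroup.mem_normalizer_iff.mp (hVC (hLV g.2)) x).mp hx
  set π := QuotientGroup.mk' (C.subgroupOf L) with hπ
  haveI := Fitting.pCore_normal (G := L ⧸ C.subgroupOf L) p
  set A := ((Cfsg.pCore p (L ⧸ C.subgroupOf L)).comap π).map L.subtype with hA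
  have hAL : A ≤ L := Subgroup.map_subtype_le _
  have hLA : L ≤ Subgroup.normalizer (A : Set H) :=
    (Subgroup.normal_subgroupOf_iff_le_normalizer hAL).mp (by
      rw [hA, Subgroup.subgroupOf, Subgroup.comap_map_eq_self_of_injective L.subtype_injective]
      infer_instance)
  have hAp : ∀ d ∈ A, ∃ k : ℕ, d ^ p ^ k ∈ C := by
    rintro _ ⟨d, hd, rfl⟩
    obtain ⟨k, hk⟩ := Fitting.pCore_isPGroup p ⟨π d, hd⟩
    refine ⟨k, ?_⟩
    have h1 : π (d ^ p ^ k) = 1 := by
      rw [map_pow]
      exact congrArg Subtype.val hk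
    have h2 := (QuotientGroup.eq_one_iff (d ^ p ^ k)).mp h1
    exact h2
  have hmax : ∀ D : Subgroup H, D ≤ L → L ≤ Subgroup.normalizer (D : Set H) →
      (∀ d ∈ D, ∃ k : ℕ, d ^ p ^ k ∈ C) → D ≤ A := by
    intro D hD hn hDp d hd
    haveI := (Subgroup.normal_subgroupOf_iff_le_normalizer hD).mpr hn
    have h1 : (D.subgroupOf L).map π ≤ Cfsg.pCore p _ := Fitting.le_pCore
      (Subgroup.Normal.map inferInstance π (QuotientGroup.mk'_surjective _)) (by
        rintro ⟨_, y, hy, rfl⟩
        obtain ⟨k, hk⟩ := hDp _ hy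
        refine ⟨k, Subtype.ext ?_⟩
        show π y ^ p ^ k = 1
        rw [← map_pow]
        exact (QuotientGroup.eq_one_iff _).mpr hk)
    exact ⟨⟨d, hD hd⟩, h1 ⟨⟨d, hD hd⟩, hd, rfl⟩, rfl⟩
  refine ⟨A, hAL, hLA, hAp, hmax, fun a haL haV => ?_⟩
  refine Transfer.map_conj_eq_self_iff.mp (Subgroup.eq_of_le_of_card_ge ?_
    (Subgroup.card_map_of_injective (MulAut.conj a).injective).ge)
  have hLa := Transfer.map_conj_eq_self_iff.mpr haL
  refine hmax _ ?_ ?_ ?_
  · conv_rhs => rw [← hLa]
    exact Subgroup.map_mono hAL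
  · conv_lhs => rw [← hLa]
    exact (Subgroup.map_mono hLA).trans (Subgroup.le_normalizer_map _)
  · rintro _ ⟨d, hd, rfl⟩
    obtain ⟨k, hk⟩ := hAp d hd
    refine ⟨k, ?_⟩
    rw [← map_pow]
    exact (Subgroup.mem_normalizer_iff.mp (hVC haV) _).mp hk

/-- A `p'`-element of a subnormal subgroup `L` centralizing `Y ⊓ L` centralizes `Y`. -/
theorem key {Y L : Subgroup H} [Y.Normal] (hYp : IsPGroup p Y) (hL : L.IsSubnormal) :
    ∀ x ∈ L, (orderOf x).Coprime p → x ∈ Subgroup.centralizer ((Y ⊓ L : Subgroup H) : Set H) →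
      x ∈ Subgroup.centralizer (Y : Set H) := by
  induction hL with
  | top => intro x _ _ h; rwa [inf_top_eq] at h
  | step L K hle _ hN ih =>
    intro x hx hxp h
    have hKL := (Subgroup.normal_subgroupOf_iff_le_normalizer hle).mp hN
    refine ih x (hle hx) hxp fun y hy => ?_
    have hc : x * y * x⁻¹ * y⁻¹ ∈ Y ⊓ L := by
      refine ⟨Y.mul_mem ((inferInstance : Y.Normal).conj_mem y hy.1 x) (Y.inv_mem hy.1), ?_⟩
      rw [show x * y * x⁻¹ * y⁻¹ = x * (y * x⁻¹ * y⁻¹) by group]
      exact L.mul_mem hx ((Subgroup.mem_normalizer_iff.mp (hKL hy.2) _).mp (L.inv_mem hx))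
    exact (S2842.commute_of_comm hYp hxp hc.1 (h _ hc).symm).symm

/-- `Y ⊓ L ≤ Y_L` and `C_L(Y ⊓ L) ≤ C(Y)` for subnormal `L`. -/
theorem meet {L : Subgroup H} (hL : L.IsSubnormal) :
    Cfsg.largestPReduced p H ⊓ L ≤ Cfsg.largestPReducedOf p L ∧
      (∀ D : Subgroup H, D ≤ L → L ≤ Subgroup.normalizer (D : Set H) →
        (∀ d ∈ D, ∃ k : ℕ, d ^ p ^ k ∈
          Subgroup.centralizer ((Cfsg.largestPReduced p H ⊓ L : Subgroup H) : Set H)) →
        D ≤ Subgroup.centralizer ((Cfsg.largestPReduced p H ⊓ L : Subgroup H) : Set H)) ∧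
      L ⊓ Subgroup.centralizer ((Cfsg.largestPReduced p H ⊓ L : Subgroup H) : Set H) ≤
        Subgroup.centralizer (Cfsg.largestPReduced p H : Set H) := by
  set Y := Cfsg.largestPReduced p H with hY
  haveI hYn : Y.Normal := (PReduced.isPReducedNormal_largest p).1
  have hel := (PReduced.isPReducedNormal_largest (L := H) p).2.1
  have hYp : IsPGroup p Y := PReduced.isPGroup_of_elementary hel
  have hcomm : ∀ a ∈ Y, ∀ b ∈ Y, a * b = b * a := fun a ha b hb =>
    congrArg Subtype.val (hel.1.1.1 ⟨a, ha⟩ ⟨b, hb⟩)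
  have habel : ∀ K : Subgroup H, Cfsg.IsElementaryAbelian p (Y ⊓ K : Subgroup H) := fun K =>
    ⟨⟨⟨fun a b => Subtype.ext (hcomm a a.2.1 b b.2.1)⟩⟩, fun a ha => hel.2 a ha.1⟩
  suffices h : (∀ D : Subgroup H, D ≤ L → L ≤ Subgroup.normalizer (D : Set H) →
        (∀ d ∈ D, ∃ k : ℕ, d ^ p ^ k ∈ Subgroup.centralizer ((Y ⊓ L : Subgroup H) : Set H)) →
        D ≤ Subgroup.centralizer ((Y ⊓ L : Subgroup H) : Set H)) ∧
      L ⊓ Subgroup.centralizer ((Y ⊓ L : Subgroup H) : Set H) ≤ Subgroup.centralizer (Y : Set H) from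
    ⟨PReduced.le_largestOf inf_le_right (Coprime.le_normalizer_inf_of_le
      Subgroup.le_normalizer_of_normal Subgroup.le_normalizer) (habel L) h.1, h.1, h.2⟩
  induction hL with
  | top =>
    rw [inf_top_eq, top_inf_eq]
    exact ⟨fun D _ hn hp => PReduced.le_centralizer (PReduced.isPReducedNormal_largest p)
      (Subgroup.normalizer_eq_top_iff.mp (top_le_iff.mp hn)) hp, le_rfl⟩
  | step L K hle hK hN ih =>
    obtain ⟨ihD, ihC⟩ := ih
    have hKL := (Subgroup.normal_subgroupOf_iff_le_normalizer hle).mp hN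
    have hKV : K ≤ Subgroup.normalizer ((Y ⊓ L : Subgroup H) : Set H) :=
      Coprime.le_normalizer_inf_of_le Subgroup.le_normalizer_of_normal hKL
    have hsub := (Subgroup.IsSubnormal.step L K hle hK hN)
    have hmono : Subgroup.centralizer ((Y ⊓ K : Subgroup H) : Set H) ≤
        Subgroup.centralizer ((Y ⊓ L : Subgroup H) : Set H) :=
      Subgroup.centralizer_le (SetLike.coe_subset_coe.mpr (inf_le_inf_left Y hle))
    have hmono' : Subgroup.centralizer (Y : Set H) ≤
        Subgroup.centralizer ((Y ⊓ K : Subgroup H) : Set H) :=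
      Subgroup.centralizer_le (SetLike.coe_subset_coe.mpr inf_le_left)
    refine ⟨fun D hD hn hDp => ?_, ?_⟩
    · obtain ⟨A, hAL, hLA, hAp, hmax, hinv⟩ := exists_max (p := p) (hle.trans hKV)
      have hKA : K ≤ Subgroup.normalizer (A : Set H) := fun a ha => hinv a (hKL ha) (hKV ha)
      refine (hmax D hD hn hDp).trans ((ihD A (hAL.trans hle) hKA ?_).trans hmono)
      refine exists_pow_mem fun x hx hxp => hmono' (key hYp hsub x (hAL hx) hxp ?_)
      obtain ⟨k, hk⟩ := hAp x hx
      exact mem_of_pow hxp hk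
    · set B := L ⊓ Subgroup.centralizer ((Y ⊓ L : Subgroup H) : Set H) with hB
      have hKB : K ≤ Subgroup.normalizer (B : Set H) :=
        Coprime.le_normalizer_inf_of_le hKL (Coprime.le_normalizer_centralizer hKV)
      refine le_trans (le_inf (inf_le_left.trans hle) (ihD B (inf_le_left.trans hle) hKB ?_)) ihC
      exact exists_pow_mem fun x hx hxp => hmono' (key hYp hsub x hx.1 hxp hx.2)

/-- Elements of a subnormal subgroup `L` centralizing `Y_H` centralize `Y_L`. -/
theorem centralizes {L : Subgroup H} (hL : L.IsSubnormal) :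
    L ⊓ Subgroup.centralizer (Cfsg.largestPReduced p H : Set H) ≤
      Subgroup.centralizer (Cfsg.largestPReducedOf p L : Set H) := by
  set Y := Cfsg.largestPReduced p H with hY
  haveI hYn : Y.Normal := (PReduced.isPReducedNormal_largest p).1
  induction hL with
  | top =>
    refine inf_le_right.trans (Subgroup.centralizer_le (SetLike.coe_subset_coe.mpr ?_))
    refine PReduced.le_largest (PReduced.isPReducedNormal_of_forall
      (Subgroup.normalizer_eq_top_iff.mp (top_le_iff.mp (PReduced.le_normalizer_largestOf p _)))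
      (PReduced.largestOf_elementary p _) fun D hD hDp => ?_)
    exact PReduced.le_centralizer_largestOf le_top (Subgroup.normalizer_eq_top_iff.mpr hD).ge hDp
  | step L K hle hK hN ih =>
    have hKL := (Subgroup.normal_subgroupOf_iff_le_normalizer hle).mp hN
    set V := Cfsg.largestPReducedOf p L with hV
    have hVel := PReduced.largestOf_elementary p L
    have hLV : L ≤ Subgroup.normalizer (V : Set H) := PReduced.le_normalizer_largestOf p L
    -- `K` normalizes `Y_L`
    have hKV : K ≤ Subgroup.normalizer (V : Set H) := by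
      intro a ha
      refine Transfer.map_conj_eq_self_iff.mp (Subgroup.eq_of_le_of_card_ge ?_
        (Subgroup.card_map_of_injective (MulAut.conj a).injective).ge)
      have hLa := Transfer.map_conj_eq_self_iff.mpr (hKL ha)
      refine PReduced.le_largestOf ?_ ?_ ⟨⟨⟨?_⟩⟩, ?_⟩ ?_
      · conv_rhs => rw [← hLa]
        exact Subgroup.map_mono (PReduced.largestOf_le p L)
      · conv_lhs => rw [← hLa]
        exact (Subgroup.map_mono hLV).trans (Subgroup.le_normalizer_map _)
      · rintro ⟨_, u, hu, rfl⟩ ⟨_, v, hv, rfl⟩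
        refine Subtype.ext ?_
        rw [Subgroup.coe_mul, Subgroup.coe_mul, ← map_mul, ← map_mul,
          PReduced.largestOf_comm p L u hu v hv]
      · rintro _ ⟨u, hu, rfl⟩
        rw [← map_pow, hVel.2 u hu, map_one]
      · intro D hD hn hDp d hd
        set D' := D.map (MulAut.conj a⁻¹).toMonoidHom with hD'
        have hLa' := Transfer.map_conj_eq_self_iff.mpr (inv_mem (hKL ha))
        have hback : ∀ z : H, z ∈ Subgroup.centralizer
            ((V.map (MulAut.conj a).toMonoidHom : Subgroup H) : Set H) →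
            a⁻¹ * z * a ∈ Subgroup.centralizer (V : Set H) := by
          intro z hz v hv
          have h1 := hz (a * v * a⁻¹) ⟨v, hv, rfl⟩
          calc v * (a⁻¹ * z * a) = a⁻¹ * ((a * v * a⁻¹) * z) * a := by group
            _ = a⁻¹ * (z * (a * v * a⁻¹)) * a := by rw [h1]
            _ = a⁻¹ * z * a * v := by group
        have h1 : D' ≤ Subgroup.centralizer (V : Set H) := by
          refine PReduced.le_centralizer_largestOf ?_ ?_ ?_
          · conv_rhs => rw [← hLa']
            exact Subgroup.map_mono hD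
          · conv_lhs => rw [← hLa']
            exact (Subgroup.map_mono hn).trans (Subgroup.le_normalizer_map _)
          · rintro _ ⟨e, he, rfl⟩
            obtain ⟨k, hk⟩ := hDp e he
            refine ⟨k, ?_⟩
            rw [← map_pow]
            simpa using hback _ hk
        rintro _ ⟨v, hv, rfl⟩
        have h2 := h1 ⟨d, hd, rfl⟩ v hv
        simp only [MulEquiv.coe_toMonoidHom, MulAut.conj_apply, inv_inv] at h2 ⊢
        calc a * v * a⁻¹ * d = a * (v * (a⁻¹ * d * a)) * a⁻¹ := by group
          _ = a * (a⁻¹ * d * a * v) * a⁻¹ := by rw [h2]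
          _ = d * (a * v * a⁻¹) := by group
    -- a minimal `K`-invariant subgroup detecting the `p'`-elements of `L`
    let G : Set (Subgroup H) := {W | W ≤ V ∧ K ≤ Subgroup.normalizer (W : Set H) ∧
      ∀ x ∈ L, (orderOf x).Coprime p → x ∈ Subgroup.centralizer (W : Set H) →
        x ∈ Subgroup.centralizer (V : Set H)}
    obtain ⟨W, hW⟩ := (Set.toFinite G).exists_minimal ⟨V, le_rfl, hKV, fun _ _ _ h => h⟩
    obtain ⟨⟨hWV, hKW, hWdet⟩, hWmin⟩ := hW
    have hWc : ∀ u ∈ W, ∀ v ∈ W, u * v = v * u := fun u hu v hv =>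
      PReduced.largestOf_comm p L u (hWV hu) v (hWV hv)
    have hWp : IsPGroup p W := (PReduced.isPGroup_of_elementary hVel).to_le hWV
    have hred : W ≤ Cfsg.largestPReducedOf p K := by
      refine PReduced.le_largestOf (hWV.trans ((PReduced.largestOf_le p L).trans hle)) hKW
        ⟨⟨⟨fun u v => Subtype.ext (hWc u u.2 v v.2)⟩⟩, fun u hu => hVel.2 u (hWV hu)⟩ ?_
      intro D hD hn hDp
      have hDK : D ≤ Subgroup.normalizer (W : Set H) := hD.trans hKW
      have hKC : K ≤ Subgroup.normalizer ((W ⊓ Subgroup.centralizer (D : Set H) : Subgroup H) : Set H) :=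
        Coprime.le_normalizer_inf_of_le hKW (Coprime.le_normalizer_centralizer hn)
      -- `D ⊓ L` centralizes `Y_L`
      have hDL : D ⊓ L ≤ Subgroup.centralizer (V : Set H) := by
        refine PReduced.le_centralizer_largestOf inf_le_right
          (Coprime.le_normalizer_inf_of_le (hle.trans hn) Subgroup.le_normalizer) ?_
        refine exists_pow_mem fun y hy hyp => ?_
        obtain ⟨k, hk⟩ := hDp y hy.1
        exact hWdet y hy.2 hyp (mem_of_pow hyp hk)
      have hdet : ∀ x ∈ L, (orderOf x).Coprime p →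
          x ∈ Subgroup.centralizer ((W ⊓ Subgroup.centralizer (D : Set H) : Subgroup H) : Set H) →
            x ∈ Subgroup.centralizer (V : Set H) := by
        intro x hxL hxp hx
        refine hWdet x hxL hxp ?_
        have hxW : x ∈ Subgroup.normalizer (W : Set H) := hKW (hle hxL)
        let E : Subgroup H :=
          { carrier := {z | ∃ w ∈ W, z = x * w * x⁻¹ * w⁻¹}
            one_mem' := ⟨1, one_mem _, by group⟩
            mul_mem' := by
              rintro _ _ ⟨u, hu, rfl⟩ ⟨v, hv, rfl⟩
              refine ⟨u * v, mul_mem hu hv, ?_⟩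
              have hxv := (Subgroup.mem_normalizer_iff.mp hxW v).mp hv
              calc x * u * x⁻¹ * u⁻¹ * (x * v * x⁻¹ * v⁻¹)
                  = x * u * x⁻¹ * (u⁻¹ * (x * v * x⁻¹)) * v⁻¹ := by group
                _ = x * u * x⁻¹ * ((x * v * x⁻¹) * u⁻¹) * v⁻¹ := by
                  rw [hWc _ (inv_mem hu) _ hxv]
                _ = x * (u * v) * x⁻¹ * (u⁻¹ * v⁻¹) := by group
                _ = x * (u * v) * x⁻¹ * (u * v)⁻¹ := by
                  rw [hWc _ (inv_mem hu) _ (inv_mem hv), mul_inv_rev]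
            inv_mem' := by
              rintro _ ⟨u, hu, rfl⟩
              refine ⟨u⁻¹, inv_mem hu, ?_⟩
              have hxu := (Subgroup.mem_normalizer_iff.mp hxW u).mp hu
              calc (x * u * x⁻¹ * u⁻¹)⁻¹ = u * (x * u * x⁻¹)⁻¹ := by group
                _ = (x * u * x⁻¹)⁻¹ * u := hWc _ hu _ (inv_mem hxu)
                _ = x * u⁻¹ * x⁻¹ * u⁻¹⁻¹ := by group }
        have hEW : E ≤ W := by
          rintro _ ⟨w, hw, rfl⟩
          exact mul_mem ((Subgroup.mem_normalizer_iff.mp hxW w).mp hw) (inv_mem hw)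
        have hDE : D ≤ Subgroup.normalizer (E : Set H) := by
          intro d hd
          refine Subgroup.mem_normalizer_fintype fun z hz => ?_
          obtain ⟨w, hw, rfl⟩ := hz
          have hw' := (Subgroup.mem_normalizer_iff.mp (hDK hd) w).mp hw
          refine ⟨d * w * d⁻¹, hw', ?_⟩
          have hcV : d * x * d⁻¹ * x⁻¹ ∈ Subgroup.centralizer (V : Set H) := by
            refine hDL ⟨?_, ?_⟩
            · rw [show d * x * d⁻¹ * x⁻¹ = d * (x * d⁻¹ * x⁻¹) by group]
              exact D.mul_mem hd ((Subgroup.mem_normalizer_iff.mp (hn (hle hxL)) _).mp (D.inv_mem hd))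
            · exact L.mul_mem ((Subgroup.mem_normalizer_iff.mp (hKL (hD hd)) x).mp hxL) (L.inv_mem hxL)
          have h1 := hcV _ (hWV ((Subgroup.mem_normalizer_iff.mp hxW _).mp hw'))
          calc d * (x * w * x⁻¹ * w⁻¹) * d⁻¹
              = (d * x * d⁻¹ * x⁻¹) * (x * (d * w * d⁻¹) * x⁻¹) * (d * x * d⁻¹ * x⁻¹)⁻¹ *
                  (d * w * d⁻¹)⁻¹ := by group
            _ = (x * (d * w * d⁻¹) * x⁻¹) * (d * x * d⁻¹ * x⁻¹) * (d * x * d⁻¹ * x⁻¹)⁻¹ *
                  (d * w * d⁻¹)⁻¹ := by rw [h1]
            _ = _ := by group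
        have hfix : ∀ w ∈ W, x * w * x⁻¹ * w⁻¹ ∈ Subgroup.centralizer (D : Set H) →
            x * w = w * x := fun w hw hz => S2842.commute_of_comm hWp hxp (hEW ⟨w, hw, rfl⟩)
              (hx _ ⟨hEW ⟨w, hw, rfl⟩, hz⟩).symm
        have hE : E = ⊥ := by
          by_contra hne
          obtain ⟨P⟩ : Nonempty (Sylow p D) := inferInstance
          have hPD : (P : Subgroup D).map D.subtype ≤ D := Subgroup.map_subtype_le _
          obtain ⟨z, hzE, hz, hzc⟩ := CharCore.exists_central_orderOf
            (IsPGroup.to_sup_of_normal_right' (P.2.map D.subtype) (hWp.to_le hEW) (hPD.trans hDE))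
            hne le_sup_right (sup_le (hPD.trans hDE) Subgroup.le_normalizer)
          haveI : ((Subgroup.centralizer (W : Set H)).subgroupOf D).Normal := ⟨fun y hy g =>
            (Subgroup.mem_normalizer_iff.mp (Coprime.le_normalizer_centralizer hDK g.2) y).mp hy⟩
          have hsup := Transfer.sylow_sup_eq_top_of_isPGroup_quotient P
            ((Subgroup.centralizer (W : Set H)).subgroupOf D) (fun y => by
              induction y using QuotientGroup.induction_on with
              | H d =>
                obtain ⟨k, hk⟩ := hDp d d.2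
                exact ⟨k, by rw [← QuotientGroup.mk_pow, QuotientGroup.eq_one_iff]; exact hk⟩)
          have hle' : (P : Subgroup D) ⊔ (Subgroup.centralizer (W : Set H)).subgroupOf D ≤
              (Subgroup.centralizer ({z} : Set H)).subgroupOf D := by
            refine sup_le (fun d hd => ?_) fun d hd => ?_
            · exact Subgroup.mem_centralizer_singleton_iff.mpr
                (hzc _ (Subgroup.mem_sup_left ⟨d, hd, rfl⟩))
            · exact Subgroup.mem_centralizer_singleton_iff.mpr (hd z (hEW hzE)).symm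
          have hzD : z ∈ Subgroup.centralizer (D : Set H) := fun d hd =>
            Subgroup.mem_centralizer_singleton_iff.mp
              (hle' (hsup.ge (Subgroup.mem_top (⟨d, hd⟩ : D))))
          obtain ⟨w, hw, rfl⟩ := hzE
          rw [hfix w hw hzD, mul_inv_cancel_right, mul_inv_cancel, orderOf_one] at hz
          exact (Fact.out : p.Prime).ne_one hz.symm
        intro w hw
        have h1 : x * w * x⁻¹ * w⁻¹ ∈ E := ⟨w, hw, rfl⟩
        rw [hE, Subgroup.mem_bot, mul_inv_eq_one, mul_inv_eq_iff_eq_mul] at h1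
        exact h1.symm
      have hle' : W ≤ W ⊓ Subgroup.centralizer (D : Set H) :=
        hWmin ⟨inf_le_left.trans hWV, hKC, hdet⟩ inf_le_left
      exact Subgroup.le_centralizer_iff.mp (hle'.trans inf_le_right)
    refine PReduced.le_centralizer_largestOf inf_le_left
      (Coprime.le_normalizer_inf_of_le Subgroup.le_normalizer
        (Coprime.le_normalizer_centralizer Subgroup.le_normalizer_of_normal)) ?_
    refine exists_pow_mem fun x hx hxp => hWdet x hx.1 hxp ?_
    exact Subgroup.centralizer_le (SetLike.coe_subset_coe.mpr hred) (ih ⟨hle hx.1, hx.2⟩)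

/-- Let L be a subnormal subgroup of the finite group H, p a prime, Y_H and Y_L the largest p-reduced normal subgroups. Then Y_H ∩ L = Y_H ∩ Y_L and this subgroup is a p-reduced normal subgroup of L; C_L(Y_L) = C_L(Y_H) = C_L(Y_H ∩ L); and if O^p(H) ≤ L, then [Y_L, L] = 1 if and only if [Y_H, H] = 1. -/
theorem result {H : Type*} [Group H] [Finite H] {p : ℕ} [Fact p.Prime] (L : Subgroup H) (hL : L.IsSubnormal) : Cfsg.largestPReduced p H ⊓ L = Cfsg.largestPReduced p H ⊓ (Cfsg.largestPReducedOf p L) ∧ Cfsg.IsPReducedNormal p ((Cfsg.largestPReduced p H ⊓ L).subgroupOf L) ∧ L ⊓ Subgroup.centralizer ((Cfsg.largestPReducedOf p L : Subgroup H) : Set H) = L ⊓ Subgroup.centralizer (Cfsg.largestPReduced p H : Set H) ∧ L ⊓ Subgroup.centralizer (Cfsg.largestPReduced p H : Set H) = L ⊓ Subgroup.centralizer ((Cfsg.largestPReduced p H ⊓ L : Subgroup H) : Set H) ∧ (Cfsg.pResidual p H ≤ L → (⁅(Cfsg.largestPReducedOf p L), L⁆ = ⊥ ↔ ⁅Cfsg.largestPReduced p H, (⊤ : Subgroup H)⁆ = ⊥)) := by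
  obtain ⟨h1, hD, h2⟩ := meet (p := p) hL
  have h3 := centralizes (p := p) hL
  set Y := Cfsg.largestPReduced p H with hY
  set V := Cfsg.largestPReducedOf p L with hV
  haveI hYn : Y.Normal := (PReduced.isPReducedNormal_largest p).1
  have hel := (PReduced.isPReducedNormal_largest (L := H) p).2.1
  have hYL : Subgroup.centralizer (Y : Set H) ≤
      Subgroup.centralizer ((Y ⊓ L : Subgroup H) : Set H) :=
    Subgroup.centralizer_le (SetLike.coe_subset_coe.mpr inf_le_left)
  have hV' : Subgroup.centralizer (V : Set H) ≤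
      Subgroup.centralizer ((Y ⊓ L : Subgroup H) : Set H) :=
    Subgroup.centralizer_le (SetLike.coe_subset_coe.mpr h1)
  have e3 : L ⊓ Subgroup.centralizer (V : Set H) = L ⊓ Subgroup.centralizer (Y : Set H) :=
    le_antisymm (le_inf inf_le_left ((inf_le_inf_left L hV').trans h2)) (le_inf inf_le_left h3)
  refine ⟨le_antisymm (le_inf inf_le_left h1)
    (inf_le_inf_left Y (PReduced.largestOf_le p L)), ?_, e3,
    le_antisymm (inf_le_inf_left L hYL) (le_inf inf_le_left h2), fun hres => ?_⟩
  · refine PReduced.isPReducedNormal_of_forall ((Subgroup.normal_subgroupOf_iff_le_normalizer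
      inf_le_right).mpr (Coprime.le_normalizer_inf_of_le Subgroup.le_normalizer_of_normal
        Subgroup.le_normalizer)) ⟨⟨⟨fun a b => ?_⟩⟩, fun a ha => ?_⟩ fun D hDn hDp => ?_
    · exact Subtype.ext (Subtype.ext ((congrArg Subtype.val
        (hel.1.1.1 ⟨_, a.2.1⟩ ⟨_, b.2.1⟩) :) : ((a : L) : H) * (b : L) = (b : L) * (a : L)))
    · exact Subtype.ext (by simpa using hel.2 _ ha.1)
    · have hc := PReduced.subgroupOf_centralizer (V := Y ⊓ L) inf_le_right
      rw [hc] at hDp ⊢
      intro d hd
      refine hD (D.map L.subtype) (Subgroup.map_subtype_le _)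
        ((Subgroup.normal_subgroupOf_iff_le_normalizer (Subgroup.map_subtype_le _)).mp
          (by rw [Subgroup.subgroupOf,
            Subgroup.comap_map_eq_self_of_injective L.subtype_injective]; exact hDn)) ?_
        ⟨d, hd, rfl⟩
      rintro _ ⟨e, he, rfl⟩
      exact hDp e he
  · constructor
    · intro h
      rw [Subgroup.commutator_comm, Subgroup.commutator_eq_bot_iff_le_centralizer] at h
      have hLY : L ≤ Subgroup.centralizer (Y : Set H) :=
        fun x hx => (e3.le ⟨hx, h hx⟩).2
      rw [Subgroup.commutator_comm, Subgroup.commutator_eq_bot_iff_le_centralizer]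
      haveI := Transfer.pResidual_normal p H
      refine PReduced.le_centralizer (PReduced.isPReducedNormal_largest p) inferInstance ?_
      exact exists_pow_mem fun x _ hx => hLY (hres (Transfer.mem_pResidual_of_coprime hx))
    · intro h
      rw [Subgroup.commutator_comm, Subgroup.commutator_eq_bot_iff_le_centralizer] at h ⊢
      exact fun x hx => (e3.ge ⟨hx, h (Subgroup.mem_top x)⟩).2

end Cfsg.Agent.S2825
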