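import Cfsg.Statements.S2826
import Cfsg.Agent.S2805
import Cfsg.Agent.Lib.Transfer.Basic

set_option autoImplicit false
open Cfsg CfsgLib

namespace Cfsg.Agent.S2826

open scoped commutatorElement

/-- Let H be a finite group of characteristic p, T a Sylow p-subgroup, and V a normal elementary abelian p-subgroup of H containing Ω₁(Z(T)). Then C_H(Ω₁(Z(T))) = C_H([V, O^p(H)] ∩ Ω₁(Z(T))), O^p(H) being generated by the elements of order prime to p. -/
theorem result {H : Type*} [Group H] [Finite H] {p : ℕ} [Fact p.Prime] (hH : Subgroup.centralizer (Cfsg.pCore p H : Set H) ≤ Cfsg.pCore p H) (T : Sylow p H) (V : Subgroup H) [V.Normal] (hV : Cfsg.IsElementaryAbelian p V) (hZV : (Cfsg.omegaOne p ((T : Subgroup H) ⊓ Subgroup.centralizer (((T : Subgroup H) : Subgroup H) : Set H))) ≤ V) : Subgroup.centralizer ((Cfsg.omegaOne p ((T : Subgroup H) ⊓ Subgroup.centralizer (((T : Subgroup H) : Subgroup H) : Set H))) : Set H) = Subgroup.centralizer (((⁅V, Cfsg.pResidual p H⁆ ⊓ (Cfsg.omegaOne p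 ((T : Subgroup H) ⊓ Subgroup.centralizer (((T : Subgroup H) : Subgroup H) : Set H)))) : Subgroup H) : Set H) := by
  set Z := omegaOne p ((T : Subgroup H) ⊓ Subgroup.centralizer ((T : Subgroup H) : Set H)) with hZ
  refine le_antisymm (Subgroup.centralizer_le inf_le_right) fun c hc => ?_
  rw [hZ, omegaOne, Subgroup.centralizer_closure]
  rintro z ⟨⟨hzT, hzC⟩, hzp⟩
  set R := pResidual p H with hR
  haveI := Transfer.pResidual_normal p H
  haveI := hV.1
  have hzV : z ∈ V := hZV (Subgroup.subset_closure ⟨⟨hzT, hzC⟩, hzp⟩)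
  have hVT : V ≤ (T : Subgroup H) :=
    IsPGroup.le_sylow_of_normal (fun v => ⟨1, Subtype.ext (by simpa using hV.2 v v.2)⟩) T
  obtain ⟨m, u, hm, huV, huR, hup, huW, hut⟩ := S2805.exists_orbit_prod V R ((T : Subgroup H) ⊓ R)
    ⁅V, R⁆ Subgroup.le_normalizer_of_normal (by
      rw [Subgroup.inf_relIndex_right]
      exact CharCore.not_dvd_relIndex_of_isSubnormal (Subgroup.Normal.isSubnormal inferInstance) T)
    hzV (fun s hs => by rw [hzC s hs.1, mul_inv_cancel_right]) hzp fun d hd => by
      rw [Subgroup.commutator_comm]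
      exact Subgroup.commutator_mem_commutator hd hzV
  have hcommV : ∀ a ∈ V, ∀ b ∈ V, Commute a b := fun a ha b hb =>
    congrArg Subtype.val (mul_comm' (⟨a, ha⟩ : V) ⟨b, hb⟩)
  -- the orbit product is central
  have hall : ∀ g : H, Commute g u := by
    intro g
    have hg : g ∈ R ⊔ (T : Subgroup H) := by
      rw [sup_comm, Transfer.sylow_sup_pResidual]; trivial
    obtain ⟨r, hr, t, ht, rfl⟩ := Subgroup.mem_sup_of_normal_left.mp hg
    have h1 : t * z * t⁻¹ * z⁻¹ = 1 := by rw [hzC t ht, mul_inv_cancel_right, mul_inv_cancel]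
    have h2 := hut t (Subgroup.le_normalizer_of_normal (K := ⊤) trivial)
      (Subgroup.le_normalizer_of_normal (K := ⊤) trivial) (h1 ▸ one_mem _)
      (fun d _ => by rw [h1]; group)
    rw [h1, one_pow, mul_one] at h2
    exact (show Commute r u from mul_inv_eq_iff_eq_mul.mp (huR r hr)).mul_left
      (mul_inv_eq_iff_eq_mul.mp h2)
  have hw : u * (z ^ m)⁻¹ ∈ ⁅V, R⁆ ⊓ Z := by
    refine ⟨huW, Subgroup.subset_closure ⟨⟨(T : Subgroup H).mul_mem (hVT huV)
      ((T : Subgroup H).inv_mem ((T : Subgroup H).pow_mem hzT m)), fun t ht => ?_⟩, ?_⟩⟩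
    · exact ((hall t).mul_right ((show Commute t z from hzC t ht).pow_right m).inv_right).eq
    · rw [(((hcommV u huV z hzV).pow_right m).inv_right).mul_pow, inv_pow, hup, ← pow_mul,
        mul_comm, pow_mul, hzp, one_pow, inv_one, one_mul]
  have h3 : Commute c (z ^ m) := by
    have e2 := (show Commute c (u * (z ^ m)⁻¹) from (hc _ hw).symm).inv_right.mul_right (hall c)
    rwa [mul_inv_rev, inv_inv, inv_mul_cancel_right] at e2
  have hcop : (orderOf z).Coprime m :=
    (Nat.Coprime.coprime_dvd_right (orderOf_dvd_of_pow_eq_one hzp) hm).symm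
  obtain ⟨j, hj⟩ := exists_pow_eq_self_of_coprime hcop.symm
  rw [← hj]
  exact (h3.pow_right j).eq.symm

end Cfsg.Agent.S2826
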