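import Mathlib
import Cfsg.Statements.S2827
import Cfsg.Agent.Lib.Transfer.Basic
import Cfsg.Agent.Lib.Transfer.Sylow
import Cfsg.Agent.Lib.Coprime.Action
import Cfsg.Agent.Lib.Fitting.Basic

set_option autoImplicit false
set_option linter.style.haveILetI false
set_option linter.unusedVariables false
open Cfsg

open scoped commutatorElement

namespace Cfsg.Agent.S2827

theorem pClosed_top {H : Type*} [Group H] [Finite H] {p : ℕ} [Fact p.Prime] (T : Sylow p H)
    (N : Subgroup H) [N.Normal] (hle : (T : Subgroup H) ≤ N) (hc : Cfsg.IsPClosed p ↥N) :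
    Cfsg.IsPClosed p H := by
  intro P
  have key : (T : Subgroup H).Normal := by
    haveI := hc (T.subtype hle)
    haveI : ((T.subtype hle : Sylow p N) : Subgroup N).Characteristic :=
      Sylow.characteristic_of_normal _ inferInstance
    have h : (((T.subtype hle : Sylow p N) : Subgroup N).map N.subtype).Normal :=
      ConjAct.normal_of_characteristic_of_normal
    rwa [Sylow.coe_subtype, Subgroup.map_subgroupOf_eq_of_le hle] at h
  haveI := key
  obtain ⟨g, hg⟩ := MulAction.exists_smul_eq H T P
  rw [← hg, Sylow.smul_eq_of_normal]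
  exact key

/-- Let H be a finite p-irreducible group (not p-closed, and O^p(H) lies in every normal subgroup that is not p-closed) and T a Sylow p-subgroup. Then H is generated by the conjugates of T and H = H'·T; O^p(H) ≤ H'; and for every normal subgroup Y of T not contained in O_p(H), O^p(H) = [O^p(H), Y] and O^p(H) is contained in the normal closure of Y in H. -/
theorem result {H : Type*} [Group H] [Finite H] {p : ℕ} [Fact p.Prime] (hH : Cfsg.IsPIrreducible p H) (T : Sylow p H) : Subgroup.normalClosure ((T : Subgroup H) : Set H) = ⊤ ∧ commutator H ⊔ (T : Subgroup H) = ⊤ ∧ Cfsg.pResidual p H ≤ commutator H ∧ ∀ Y : Subgroup H, Y ≤ (T : Subgroup H) → (T : Subgroup H) ≤ Subgroup.normalizer (Y : Set H) → ¬ Y ≤ Cfsg.pCore p H → ⁅Cfsg.pResidual p H, Y⁆ = Cfsg.pResidual p H ∧ Cfsg.pResidual p H ≤ Subgroup.normalClosure (Y : Set H) := by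
  haveI := CfsgLib.Transfer.pResidual_normal p H
  set R := Cfsg.pResidual p H with hR
  have hTR : (T : Subgroup H) ⊔ R = ⊤ := CfsgLib.Transfer.sylow_sup_pResidual T
  have hRC : R ≤ commutator H ⊔ (T : Subgroup H) ∧ R ≤ commutator H := by
    haveI : (commutator H).Normal := inferInstance
    set C := Subgroup.normalClosure ((T : Subgroup H) : Set H) with hC
    have hRC0 : R ≤ C := hH.2 C inferInstance fun hc => hH.1 (pClosed_top T C Subgroup.le_normalClosure hc)
    have hCtop : C = ⊤ := top_le_iff.mp (hTR ▸ sup_le Subgroup.le_normalClosure hRC0)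
    have hsupn : (commutator H ⊔ (T : Subgroup H)).Normal := Subgroup.Normal.of_commutator_le (G := H) le_sup_left
    have htop : commutator H ⊔ (T : Subgroup H) = ⊤ :=
      top_le_iff.mp (hCtop ▸ Subgroup.normalClosure_le_normal (show ((T : Subgroup H) : Set H) ⊆ ((commutator H ⊔ (T : Subgroup H) : Subgroup H) : Set H) from fun x hx => Subgroup.mem_sup_right hx))
    refine ⟨htop ▸ le_top, CfsgLib.Transfer.pResidual_le_of_isPGroup_quotient _ fun y => ?_⟩
    obtain ⟨x, rfl⟩ := QuotientGroup.mk'_surjective (commutator H) y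
    obtain ⟨n, hn, t, ht, rfl⟩ := Subgroup.mem_sup_of_normal_left.mp (htop.ge (Subgroup.mem_top x))
    obtain ⟨k, hk⟩ := T.2 ⟨t, ht⟩
    refine ⟨k, ?_⟩
    rw [map_mul, show QuotientGroup.mk' (commutator H) n = 1 from (QuotientGroup.eq_one_iff n).mpr hn, one_mul,
      ← map_pow, show t ^ p ^ k = 1 by simpa using congrArg Subtype.val hk, map_one]
  have hC0 : R ≤ Subgroup.normalClosure ((T : Subgroup H) : Set H) :=
    hH.2 _ inferInstance fun hc => hH.1 (pClosed_top T _ Subgroup.le_normalClosure hc)
  refine ⟨top_le_iff.mp (hTR ▸ sup_le Subgroup.le_normalClosure hC0),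
    top_le_iff.mp (hTR ▸ sup_le le_sup_right (hRC.2.trans le_sup_left)), hRC.2, fun Y hYT hTY hYO => ?_⟩
  have hYR : Y ≤ Subgroup.normalizer (R : Set H) := by rw [Subgroup.normalizer_eq_top]; exact le_top
  set NY := Subgroup.normalClosure (Y : Set H) with hNY
  have hRN : R ≤ NY := by
    refine hH.2 NY inferInstance fun hc => hYO ?_
    obtain ⟨P, hP⟩ := ((T.2.to_le hYT).comap_of_injective _ NY.subtype_injective).exists_le_sylow
    haveI := hc P
    haveI : (P : Subgroup NY).Characteristic := Sylow.characteristic_of_normal _ inferInstance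
    have hPn : ((P : Subgroup NY).map NY.subtype).Normal := ConjAct.normal_of_characteristic_of_normal
    exact le_trans (show Y ≤ (P : Subgroup NY).map NY.subtype from fun y hy => ⟨⟨y, Subgroup.subset_normalClosure hy⟩, hP hy, rfl⟩)
      (CfsgLib.Fitting.le_pCore hPn (P.2.map _))
  refine ⟨?_, hRN⟩
  set K := ⁅R, Y⁆ with hK
  have hKR : K ≤ R := CfsgLib.Coprime.commutator_le_left_of_le_normalizer hYR
  refine le_antisymm hKR ?_
  have hRK : R ≤ Subgroup.normalizer (K : Set H) := by
    intro k hk
    refine Subgroup.mem_normalizer_fintype fun w hw => ?_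
    induction hw using Subgroup.closure_induction with
    | mem _ hb =>
      obtain ⟨a, ha, y, hy, rfl⟩ := hb
      have e : k * ⁅a, y⁆ * k⁻¹ = ⁅k * a, y⁆ * ⁅k, y⁆⁻¹ := by simp only [commutatorElement_def]; group
      rw [e]
      exact K.mul_mem (Subgroup.commutator_mem_commutator (R.mul_mem hk ha) hy)
        (K.inv_mem (Subgroup.commutator_mem_commutator hk hy))
    | one => simp
    | mul b c _ _ ihb ihc => rw [← conj_mul]; exact K.mul_mem ihb ihc
    | inv b _ ih => rw [← conj_inv]; exact K.inv_mem ih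
  have hTK : (T : Subgroup H) ≤ Subgroup.normalizer (K : Set H) :=
    CfsgLib.Coprime.le_normalizer_commutator (by rw [Subgroup.normalizer_eq_top]; exact le_top) hTY
  haveI hKn : K.Normal := Subgroup.normalizer_eq_top_iff.mp (top_le_iff.mp (hTR ▸ sup_le hTK hRK))
  have hKYn : (K ⊔ Y).Normal := by
    refine Subgroup.normalizer_eq_top_iff.mp (top_le_iff.mp (hTR ▸ sup_le (fun t ht => ?_) (fun r hr => ?_)))
    all_goals refine Subgroup.mem_normalizer_fintype fun w hw => ?_
    all_goals obtain ⟨k, hk, y, hy, rfl⟩ := Subgroup.mem_sup_of_normal_left.mp hw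
    · rw [← conj_mul]
      exact Subgroup.mul_mem_sup (hKn.conj_mem k hk t) ((Subgroup.mem_normalizer_iff.mp (hTY ht) y).mp hy)
    · rw [← conj_mul, show r * y * r⁻¹ = ⁅r, y⁆ * y by rw [commutatorElement_def]; group, ← mul_assoc]
      exact Subgroup.mul_mem_sup (K.mul_mem (hKn.conj_mem k hk r) (Subgroup.commutator_mem_commutator hr hy)) hy
  have hR' : R ≤ K ⊔ Y := hRN.trans (Subgroup.normalClosure_le_normal (show (Y : Set H) ⊆ ((K ⊔ Y : Subgroup H) : Set H) from fun x hx => Subgroup.mem_sup_right hx))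
  rw [hR, Cfsg.pResidual, Subgroup.closure_le]
  intro x hx
  have hxR : x ∈ R := Subgroup.subset_closure hx
  obtain ⟨k, hk, y, hy, e⟩ := Subgroup.mem_sup_of_normal_left.mp (hR' hxR)
  obtain ⟨j, hj⟩ := T.2 ⟨y, hYT hy⟩
  have h1 : (QuotientGroup.mk' K x) ^ p ^ j = 1 := by
    rw [← e, map_mul, show QuotientGroup.mk' K k = 1 from (QuotientGroup.eq_one_iff k).mpr hk, one_mul,
      ← map_pow, show y ^ p ^ j = 1 by simpa using congrArg Subtype.val hj, map_one]
  refine (QuotientGroup.eq_one_iff x).mp (orderOf_eq_one_iff.mp (Nat.eq_one_of_dvd_coprimes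
    (((hx : (orderOf x).Coprime p)).pow_right j) (orderOf_map_dvd (QuotientGroup.mk' K) x) (orderOf_dvd_of_pow_eq_one h1)))

end Cfsg.Agent.S2827
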