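import Cfsg.Statements.S2828
import Mathlib
import Cfsg.Agent.Lib.PIrreducible.Basic

set_option linter.style.haveILetI false

set_option autoImplicit false
open Cfsg CfsgLib CfsgLib.PIrreducible

namespace Cfsg.Agent.S2828

/-- Let H be a finite group, p a prime and D a normal p-subgroup of H. Then H is p-irreducible if and only if H/D is p-irreducible, and H is strongly p-irreducible if and only if H/D is strongly p-irreducible. -/
theorem result {H : Type*} [Group H] [Finite H] {p : ℕ} [Fact p.Prime] (D : Subgroup H) [D.Normal] (hD : IsPGroup p ↥D) : (Cfsg.IsPIrreducible p H ↔ Cfsg.IsPIrreducible p (H ⧸ D)) ∧ (Cfsg.IsStronglyPIrreducible p H ↔ Cfsg.IsStronglyPIrreducible p (H ⧸ D)) := by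
  set π := QuotientGroup.mk' D with hπ
  have hπs : Function.Surjective π := QuotientGroup.mk'_surjective D
  have hres : (Cfsg.pResidual p H).map π = Cfsg.pResidual p (H ⧸ D) :=
    Transfer.map_pResidual π hπs
  have hcore := comap_pCore_mk D hD
  have htop : (⊤ : Subgroup H).map π = ⊤ := Subgroup.map_top_of_surjective π hπs
  refine ⟨⟨fun ⟨h1, h2⟩ => ⟨fun h => h1 ((isPClosed_quotient_iff D hD).mp h), fun N hN hNc => ?_⟩,
      fun ⟨h1, h2⟩ => ⟨fun h => h1 ((isPClosed_quotient_iff D hD).mpr h), fun N hN hNc => ?_⟩⟩,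
    ⟨fun ⟨h1, h2⟩ => ⟨fun h => h1 ((isPClosed_quotient_iff D hD).mp h), fun N hN hNc => ?_⟩,
      fun ⟨h1, h2⟩ => ⟨fun h => h1 ((isPClosed_quotient_iff D hD).mpr h), fun N hN hNc => ?_⟩⟩⟩
  · have e : (N.comap π).map π = N := Subgroup.map_comap_eq_self_of_surjective hπs N
    rw [← hres, Subgroup.map_le_iff_le_comap]
    exact h2 _ (hN.comap π) fun h => hNc (e ▸ (isPClosed_map_iff D hD _).mpr h)
  · refine pResidual_le_of_le_sup D hD N ?_
    have h3 := h2 (N.map π) (hN.map π hπs) fun h => hNc ((isPClosed_map_iff D hD N).mp h)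
    rw [← hres, Subgroup.map_le_iff_le_comap, Subgroup.comap_map_eq, hπ, QuotientGroup.ker_mk'] at h3
    exact h3
  · rw [← hres, Subgroup.map_le_iff_le_comap]
    refine h2 _ (hN.comap π) fun h => hNc ?_
    have h3 := Subgroup.map_mono (f := π) h
    rwa [Subgroup.map_commutator, Subgroup.map_comap_eq_self_of_surjective hπs, htop, ← hcore,
      Subgroup.map_comap_eq_self_of_surjective hπs] at h3
  · refine pResidual_le_of_le_sup D hD N ?_
    have h3 := h2 (N.map π) (hN.map π hπs) fun h => hNc ?_
    · rw [← hres, Subgroup.map_le_iff_le_comap, Subgroup.comap_map_eq, hπ,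
        QuotientGroup.ker_mk'] at h3
      exact h3
    · rw [← hcore, ← Subgroup.map_le_iff_le_comap, Subgroup.map_commutator, htop]
      exact h

end Cfsg.Agent.S2828
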