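import Mathlib
import Cfsg.Statements.S2829
import Cfsg.Agent.Lib.Fitting.Basic

set_option autoImplicit false
set_option linter.style.haveILetI false
set_option linter.unusedVariables false
open Cfsg

namespace Cfsg.Agent.S2829

/-- Every strongly p-irreducible finite group is p-irreducible. -/
theorem result {H : Type*} [Group H] [Finite H] {p : ℕ} [Fact p.Prime] (hH : Cfsg.IsStronglyPIrreducible p H) : Cfsg.IsPIrreducible p H := by
  refine ⟨hH.1, fun N hN hnc => hH.2 N hN fun hle => hnc fun P => ?_⟩
  haveI := hN
  haveI := CfsgLib.Fitting.pCore_normal (G := H) p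
  haveI : ((Cfsg.pCore p H).subgroupOf N).Normal := inferInstance
  have hD : (Cfsg.pCore p H).subgroupOf N ≤ (P : Subgroup N) :=
    IsPGroup.le_sylow_of_normal ((CfsgLib.Fitting.pCore_isPGroup p).comap_of_injective _ N.subtype_injective) P
  refine ⟨fun x hx g => ?_⟩
  have h1 : g * x * g⁻¹ * x⁻¹ ∈ (P : Subgroup N) := by
    refine hD ?_
    rw [Subgroup.mem_subgroupOf]
    refine hle ?_
    have := Subgroup.commutator_mem_commutator (g₁ := (g : H)) (g₂ := (x : H)) g.2 (Subgroup.mem_top _)
    simpa [commutatorElement_def] using this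
  have h2 := Subgroup.mul_mem _ h1 hx
  simpa [mul_assoc] using h2

end Cfsg.Agent.S2829
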