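import Cfsg.Statements.S2830
import Mathlib
import Cfsg.Agent.Lib.PIrreducible.Basic
import Cfsg.Agent.Lib.PReduced.Largest

set_option linter.style.haveILetI false

set_option autoImplicit false
open Cfsg CfsgLib CfsgLib.PIrreducible

namespace Cfsg.Agent.S2830

/-- Let H act by conjugation on the elementary abelian p-subgroup V of a finite group G (H ≤ N(V)), with H p-irreducible and O^p(H) not centralizing V. Then C_H(V) is p-closed and C_T(V) ≤ O_p(H) for every p-subgroup T of H. If in addition O_p(H) centralizes V, then C_T(V) = T ∩ O_p(H) for every p-subgroup T of H, and V is p-reduced for H: O_p(H/C_H(V)) = 1. -/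
theorem result {G : Type*} [Group G] [Finite G] {p : ℕ} [Fact p.Prime] (V H : Subgroup G) (hV : Cfsg.IsElementaryAbelian p V) (hHV : H ≤ Subgroup.normalizer (V : Set G)) (hH : Cfsg.IsPIrreducible p ↥H) (hnc : ¬ (Cfsg.pResidual p ↥H).map H.subtype ≤ Subgroup.centralizer (V : Set G)) [hn : ((Subgroup.centralizer (V : Set G)).subgroupOf H).Normal] : Cfsg.IsPClosed p ↥(H ⊓ Subgroup.centralizer (V : Set G)) ∧ (∀ T : Subgroup G, T ≤ H → IsPGroup p ↥T → T ⊓ Subgroup.centralizer (V : Set G) ≤ Cfsg.pCoreOf p H) ∧ (Cfsg.pCoreOf p H ≤ Subgroup.centralizer (V : Set G) → (∀ T : Subgroup G, T ≤ H → IsPGroup p ↥T → T ⊓ Subgroup.centralizer (V : Set G) = T ⊓ Cfsg.pCoreOf p H) ∧ Cfsg.pCore p (↥H ⧸ (Subgroup.centralizer (V : Set G)).subgroupOf H) = ⊥) := by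
  set C := (Subgroup.centralizer (V : Set G)).subgroupOf H with hC
  have hres : ¬ Cfsg.pResidual p ↥H ≤ C := fun h => hnc (by
    rintro _ ⟨x, hx, rfl⟩
    exact Subgroup.mem_subgroupOf.mp (h hx))
  have hcl : Cfsg.IsPClosed p C := by
    by_contra h
    exact hres (hH.2 C hn h)
  have hCcore : ∀ P : Subgroup H, IsPGroup p P → P ≤ C → P ≤ Cfsg.pCore p H := by
    intro P hP hPC x hx
    have h1 : (Cfsg.pCore p C).map C.subtype ≤ Cfsg.pCore p H := by
      haveI : (Cfsg.pCore p C).Characteristic :=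
        Subgroup.characteristic_iff_map_eq.mpr fun φ => by
          refine le_antisymm ?_ ?_
          · exact Fitting.le_pCore (Subgroup.Normal.map (Fitting.pCore_normal p) _ φ.surjective)
              ((Fitting.pCore_isPGroup p).map _)
          · intro y hy
            refine ⟨φ.symm y, ?_, φ.apply_symm_apply y⟩
            exact Fitting.le_pCore (Subgroup.Normal.map (Fitting.pCore_normal p) φ.symm.toMonoidHom
              φ.symm.surjective) ((Fitting.pCore_isPGroup p).map _) ⟨y, hy, rfl⟩
      exact Fitting.le_pCore ConjAct.normal_of_characteristic_of_normal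
        ((Fitting.pCore_isPGroup p).map _)
    exact h1 ⟨⟨x, hPC hx⟩, isPClosed_iff.mp hcl (P.subgroupOf C)
      (hP.comap_of_injective C.subtype C.subtype_injective) hx, rfl⟩
  have hT : ∀ T : Subgroup G, T ≤ H → IsPGroup p ↥T →
      T ⊓ Subgroup.centralizer (V : Set G) ≤ Cfsg.pCoreOf p H := by
    rintro T hTH hTp x ⟨hxT, hxC⟩
    exact ⟨⟨x, hTH hxT⟩, hCcore ((T ⊓ Subgroup.centralizer (V : Set G)).subgroupOf H)
      ((hTp.to_le inf_le_left).comap_of_injective H.subtype H.subtype_injective)
      (fun y hy => hy.2) ⟨hxT, hxC⟩, rfl⟩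
  refine ⟨?_, hT, fun hle => ⟨fun T hTH hTp => le_antisymm (le_inf inf_le_left (hT T hTH hTp))
    (le_inf inf_le_left (inf_le_right.trans hle)), ?_⟩⟩
  · let e : ↥C ≃* ↥(H ⊓ Subgroup.centralizer (V : Set G)) :=
      { toFun := fun x => ⟨((x : H) : G), ⟨x.1.2, x.2⟩⟩
        invFun := fun x => ⟨⟨x.1, x.2.1⟩, x.2.2⟩
        left_inv := fun _ => rfl
        right_inv := fun _ => rfl
        map_mul' := fun _ _ => rfl }
    exact isPClosed_of_surjective (f := e.toMonoidHom) e.surjective hcl
  · set π := QuotientGroup.mk' C with hπ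
    haveI := Fitting.pCore_normal (G := H ⧸ C) p
    set E := (Cfsg.pCore p (H ⧸ C)).comap π with hE
    have hEcl : Cfsg.IsPClosed p E := by
      by_contra h
      refine hres ?_
      rw [Cfsg.pResidual, Subgroup.closure_le]
      intro x hx
      obtain ⟨k, hk⟩ := Fitting.pCore_isPGroup p
        ⟨π x, hH.2 E inferInstance h (Transfer.mem_pResidual_of_coprime hx)⟩
      refine (QuotientGroup.eq_one_iff x).mp (orderOf_eq_one_iff.mp
        (Nat.eq_one_of_dvd_coprimes (Nat.Coprime.pow_right k hx) (orderOf_map_dvd π x)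
          (orderOf_dvd_of_pow_eq_one (congrArg Subtype.val hk))))
    rw [eq_bot_iff]
    intro y hy
    obtain ⟨x, rfl⟩ := QuotientGroup.mk'_surjective C y
    obtain ⟨P⟩ : Nonempty (Sylow p E) := inferInstance
    haveI := hEcl P
    haveI := Sylow.characteristic_of_normal P inferInstance
    have hPC : (P : Subgroup E).map E.subtype ≤ C := by
      intro z hz
      have h1 : z ∈ Cfsg.pCore p H :=
        Fitting.le_pCore ConjAct.normal_of_characteristic_of_normal (P.2.map _) hz
      exact hle ⟨z, h1, rfl⟩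
    -- the image of `x` has `p`-power order and index prime to `p`
    obtain ⟨k, hk⟩ := Fitting.pCore_isPGroup p ⟨π x, hy⟩
    haveI : (C.subgroupOf E).Normal := inferInstance
    have hPle : (P : Subgroup E) ≤ C.subgroupOf E := fun z hz => hPC ⟨z, hz, rfl⟩
    have h2 : (⟨x, hy⟩ : E) ^ p ^ k ∈ C.subgroupOf E :=
      (QuotientGroup.eq_one_iff (x ^ p ^ k)).mp (by
        show π (x ^ p ^ k) = 1
        rw [map_pow]
        exact congrArg Subtype.val hk)
    rw [Subgroup.mem_bot]
    refine (QuotientGroup.eq_one_iff x).mpr ?_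
    have h3 : (⟨x, hy⟩ : E) ∈ C.subgroupOf E := by
      refine (QuotientGroup.eq_one_iff _).mp (orderOf_eq_one_iff.mp (Nat.eq_one_of_dvd_coprimes
        (a := (P : Subgroup E).index) (Nat.Coprime.pow_right k ?_) ?_ (orderOf_dvd_of_pow_eq_one
          (x := ((⟨x, hy⟩ : E) : E ⧸ C.subgroupOf E))
          ((QuotientGroup.mk_pow _ _ _).symm.trans ((QuotientGroup.eq_one_iff _).mpr h2)))))
      · exact (((Fact.out : p.Prime).coprime_iff_not_dvd.mpr P.not_dvd_index).symm)
      · exact (orderOf_dvd_natCard _).trans (Subgroup.index_dvd_of_le hPle)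
    exact h3

end Cfsg.Agent.S2830
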