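import Mathlib
import Cfsg.Statements.S2831
import Cfsg.Agent.Lib.Transfer.Basic
import Cfsg.Agent.Lib.Transfer.Sylow

set_option autoImplicit false
set_option linter.style.haveILetI false
set_option linter.unusedVariables false
open Cfsg

namespace Cfsg.Agent.S2831

/-- Let H be a finite group with Sylow p-subgroup T such that H is T-minimal (H is generated by the conjugates of T and T lies in exactly one maximal subgroup of H). Then H is p-irreducible: H is not p-closed and O^p(H) lies in every normal subgroup of H that is not p-closed. -/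
theorem result {H : Type*} [Group H] [Finite H] {p : ℕ} [Fact p.Prime] (T : Sylow p H) (hmin : Cfsg.IsMinimalOver (T : Subgroup H)) : Cfsg.IsPIrreducible p H := by
  obtain ⟨htop, M, ⟨hM, hTM⟩, huniq⟩ := hmin
  refine ⟨fun hc => ?_, fun N hN hnc => ?_⟩
  · haveI := hc T
    rw [Subgroup.normalClosure_eq_self] at htop
    exact hM.1 (top_le_iff.mp (htop ▸ hTM))
  haveI := hN
  have hidx : ¬ p ∣ ((T : Subgroup H).subgroupOf N).index := fun h =>
    T.not_dvd_index (h.trans (CfsgLib.Transfer.relIndex_dvd_index_of_normal _ _))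
  let Q : Sylow p N := (T.2.comap_of_injective _ N.subtype_injective).toSylow hidx
  set QH := (Q : Subgroup N).map N.subtype with hQH
  have hQn : Subgroup.normalizer (QH : Set H) ≠ ⊤ := fun h => hnc fun P => by
    haveI : QH.Normal := Subgroup.normalizer_eq_top_iff.mp h
    have hQ : (Q : Subgroup N).Normal := by
      rw [show (Q : Subgroup N) = QH.subgroupOf N from
        (Subgroup.comap_map_eq_self_of_injective N.subtype_injective _).symm]
      infer_instance
    obtain ⟨g, hg⟩ := MulAction.exists_smul_eq N Q P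
    rw [← hg, Sylow.smul_eq_of_normal]
    exact hQ
  have hsup := Sylow.normalizer_sup_eq_top Q
  have hTN : (T : Subgroup H) ≤ Subgroup.normalizer (QH : Set H) := fun t ht => by
    refine Subgroup.mem_normalizer_fintype fun y hy => ?_
    obtain ⟨y, hy', rfl⟩ := hy
    refine ⟨⟨t * y * t⁻¹, hN.conj_mem _ y.2 t⟩, ?_, rfl⟩
    exact Subgroup.mul_mem _ (Subgroup.mul_mem _ ht hy') (Subgroup.inv_mem _ ht)
  have hNM : ¬ N ≤ M := fun hle => by
    obtain ⟨M', hM', hle'⟩ := (IsCoatomic.eq_top_or_exists_le_coatom (Subgroup.normalizer (QH : Set H))).resolve_left hQn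
    rw [huniq M' ⟨hM', hTN.trans hle'⟩] at hle'
    exact hM.1 (top_le_iff.mp (hsup.ge.trans (sup_le hle' hle)))
  have hNT : N ⊔ (T : Subgroup H) = ⊤ := by
    by_contra hne
    obtain ⟨M', hM', hle'⟩ := (IsCoatomic.eq_top_or_exists_le_coatom (N ⊔ (T : Subgroup H))).resolve_left hne
    exact hNM (huniq M' ⟨hM', le_sup_right.trans hle'⟩ ▸ le_sup_left.trans hle')
  refine CfsgLib.Transfer.pResidual_le_of_isPGroup_quotient N ?_
  intro y
  obtain ⟨x, rfl⟩ := QuotientGroup.mk'_surjective N y
  obtain ⟨n, hn, t, ht, rfl⟩ := Subgroup.mem_sup_of_normal_left.mp (hNT.ge (Subgroup.mem_top x))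
  obtain ⟨k, hk⟩ := T.2 ⟨t, ht⟩
  refine ⟨k, ?_⟩
  rw [map_mul, show QuotientGroup.mk' N n = 1 from (QuotientGroup.eq_one_iff n).mpr hn, one_mul, ← map_pow,
    show t ^ p ^ k = 1 by simpa using congrArg Subtype.val hk, map_one]

end Cfsg.Agent.S2831
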