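import Mathlib
import Cfsg.Statements.S2832

set_option autoImplicit false
set_option linter.style.haveILetI false
set_option linter.unusedVariables false
open Cfsg

namespace Cfsg.Agent.S2832

/-- Let H be a finite group with Sylow p-subgroup T such that H is T-minimal (generated by the conjugates of T, with T in exactly one maximal subgroup), and let N be a normal subgroup of H. Then either H/N is a p-group or H/N is minimal over the image of T in the same sense. -/
theorem result {H : Type*} [Group H] [Finite H] {p : ℕ} [Fact p.Prime] (T : Sylow p H) (hmin : Cfsg.IsMinimalOver (T : Subgroup H)) (N : Subgroup H) [N.Normal] : IsPGroup p (H ⧸ N) ∨ Cfsg.IsMinimalOver ((T : Subgroup H).map (QuotientGroup.mk' N)) := by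
  obtain ⟨htop, M, ⟨hM, hTM⟩, huniq⟩ := hmin
  set q := QuotientGroup.mk' N with hq
  have hqs : Function.Surjective q := QuotientGroup.mk'_surjective N
  by_cases hNM : N ≤ M
  · refine Or.inr ⟨?_, M.map q, ⟨⟨?_, fun W hW => ?_⟩, Subgroup.map_mono hTM⟩, fun W hW => ?_⟩
    · rw [Subgroup.coe_map, ← Subgroup.map_normalClosure _ q hqs, htop, Subgroup.map_top_of_surjective q hqs]
    · intro h
      have h2 := congrArg (Subgroup.comap q) h
      rw [Subgroup.comap_map_eq, QuotientGroup.ker_mk', sup_eq_left.mpr hNM, Subgroup.comap_top] at h2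
      exact hM.1 h2
    · have h1 : M < W.comap q := by
        rw [← Subgroup.map_comap_eq_self_of_surjective hqs W] at hW
        refine lt_of_le_of_ne (Subgroup.map_le_iff_le_comap.mp ?_) fun e => hW.ne (by rw [← e])
        exact hW.le.trans_eq (Subgroup.map_comap_eq_self_of_surjective hqs W)
      rw [← Subgroup.map_comap_eq_self_of_surjective hqs W, hM.2 _ h1, Subgroup.map_top_of_surjective q hqs]
    · have hc : IsCoatom (W.comap q) := by
        refine ⟨fun h => hW.1.1 ?_, fun V hV => ?_⟩
        · rw [← Subgroup.map_comap_eq_self_of_surjective hqs W, h, Subgroup.map_top_of_surjective q hqs]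
        · have hNV : N ≤ V := le_trans (fun x hx => by
            change q x ∈ W
            rw [show q x = 1 from (QuotientGroup.eq_one_iff x).mpr hx]
            exact W.one_mem) hV.le
          have hlt : W < V.map q := by
            refine lt_of_le_of_ne ?_ fun e => hV.ne ?_
            · rw [← Subgroup.map_comap_eq_self_of_surjective hqs W]; exact Subgroup.map_mono hV.le
            · rw [e, Subgroup.comap_map_eq, QuotientGroup.ker_mk', sup_eq_left.mpr hNV]
          have h3 := congrArg (Subgroup.comap q) (hW.1.2 _ hlt)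
          rwa [Subgroup.comap_map_eq, QuotientGroup.ker_mk', sup_eq_left.mpr hNV, Subgroup.comap_top] at h3
      rw [← huniq _ ⟨hc, Subgroup.map_le_iff_le_comap.mp hW.2⟩, Subgroup.map_comap_eq_self_of_surjective hqs]
  · refine Or.inl ?_
    have hNT : N ⊔ (T : Subgroup H) = ⊤ := by
      by_contra hne
      obtain ⟨M', hM', hle'⟩ := (IsCoatomic.eq_top_or_exists_le_coatom (N ⊔ (T : Subgroup H))).resolve_left hne
      exact hNM (huniq M' ⟨hM', le_sup_right.trans hle'⟩ ▸ le_sup_left.trans hle')
    intro y
    obtain ⟨x, rfl⟩ := QuotientGroup.mk'_surjective N y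
    obtain ⟨n, hn, t, ht, rfl⟩ := Subgroup.mem_sup_of_normal_left.mp (hNT.ge (Subgroup.mem_top x))
    obtain ⟨k, hk⟩ := T.2 ⟨t, ht⟩
    refine ⟨k, ?_⟩
    rw [map_mul, show QuotientGroup.mk' N n = 1 from (QuotientGroup.eq_one_iff n).mpr hn, one_mul, ← map_pow,
      show t ^ p ^ k = 1 by simpa using congrArg Subtype.val hk, map_one]

end Cfsg.Agent.S2832
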