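import Mathlib
import Cfsg.Statements.S2833
import Cfsg.Agent.Lib.Coprime.Action
import Cfsg.Agent.Lib.Transfer.Sylow

set_option autoImplicit false
set_option linter.style.haveILetI false
set_option linter.unusedVariables false
open Cfsg

open scoped commutatorElement

namespace Cfsg.Agent.S2833

/-- Let V be a subgroup of a finite group G normalized by the subgroup L, let X ≤ L and g ∈ L with [V, X, X] = 1 and L generated by X and gXg⁻¹. Put W = [V, L]. Then W = [V, X]·[V, gXg⁻¹], C_W(X) = [V, X], and C_W(L) = [V, X] ∩ [V, gXg⁻¹]. -/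
theorem result {G : Type*} [Group G] [Finite G] (V L : Subgroup G) (hLV : L ≤ Subgroup.normalizer (V : Set G)) (X : Subgroup G) (hX : X ≤ L) (g : G) (hg : g ∈ L) (hq : ⁅⁅V, X⁆, X⁆ = ⊥) (hgen : X ⊔ X.map (MulAut.conj g).toMonoidHom = L) (W : Subgroup G) (hW : W = ⁅V, L⁆) : ⁅V, X⁆ ⊔ ⁅V, X.map (MulAut.conj g).toMonoidHom⁆ = W ∧ W ⊓ Subgroup.centralizer (X : Set G) = ⁅V, X⁆ ∧ W ⊓ Subgroup.centralizer (L : Set G) = ⁅V, X⁆ ⊓ ⁅V, X.map (MulAut.conj g).toMonoidHom⁆ := by
  subst hW
  set A := ⁅V, X⁆ with hA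
  set B := ⁅V, X.map (MulAut.conj g).toMonoidHom⁆ with hB
  have hXV : X ≤ Subgroup.normalizer (V : Set G) := hX.trans hLV
  have hX'L : X.map (MulAut.conj g).toMonoidHom ≤ L := by rw [← hgen]; exact le_sup_right
  have hgV : V.map (MulAut.conj g).toMonoidHom = V := CfsgLib.Transfer.map_conj_eq_self_iff.mpr (hLV hg)
  have hBA : A.map (MulAut.conj g).toMonoidHom = B := by
    rw [hA, Subgroup.map_commutator, hgV]
  have hAV : A ≤ V := CfsgLib.Coprime.commutator_le_left_of_le_normalizer hXV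
  have hBV : B ≤ V := CfsgLib.Coprime.commutator_le_left_of_le_normalizer (hX'L.trans hLV)
  have hAX : ∀ a ∈ A, ∀ x ∈ X, a * x = x * a := fun a ha x hx =>
    (Subgroup.mem_centralizer_iff.mp (Subgroup.commutator_eq_bot_iff_le_centralizer.mp hq ha) x hx).symm
  have hBX' : ∀ b ∈ B, ∀ x ∈ X.map (MulAut.conj g).toMonoidHom, b * x = x * b := by
    intro b hb x hx
    rw [← hBA] at hb
    obtain ⟨a, ha, rfl⟩ := hb
    obtain ⟨u, hu, rfl⟩ := hx
    exact (Commute.map (hAX a ha u hu) (MulAut.conj g).toMonoidHom).eq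
  have hnV : ∀ Z : Subgroup G, Z ≤ Subgroup.normalizer (V : Set G) → V ≤ Subgroup.normalizer ((⁅V, Z⁆ : Subgroup G) : Set G) := by
    intro Z hZ v hv
    refine Subgroup.mem_normalizer_fintype fun w hw => ?_
    induction hw using Subgroup.closure_induction with
    | mem _ hb =>
      obtain ⟨a, ha, y, hy, rfl⟩ := hb
      have e : v * ⁅a, y⁆ * v⁻¹ = ⁅v * a, y⁆ * ⁅v, y⁆⁻¹ := by simp only [commutatorElement_def]; group
      rw [e]
      exact Subgroup.mul_mem _ (Subgroup.commutator_mem_commutator (V.mul_mem hv ha) hy)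
        (Subgroup.inv_mem _ (Subgroup.commutator_mem_commutator hv hy))
    | one => simp
    | mul b c _ _ ihb ihc => rw [← conj_mul]; exact Subgroup.mul_mem _ ihb ihc
    | inv b _ ih => rw [← conj_inv]; exact Subgroup.inv_mem _ ih
  set U := A ⊔ B with hU
  have hVU : V ≤ Subgroup.normalizer (U : Set G) :=
    CfsgLib.Coprime.le_normalizer_sup_of_le (hnV X hXV) (hnV _ (hX'L.trans hLV))
  have stab : ∀ (Z : Subgroup G) (C : Subgroup G), Z ≤ Subgroup.normalizer (V : Set G) → ⁅V, Z⁆ ≤ U →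
      C ≤ V → C ≤ U → ∀ z ∈ Z, ∀ c ∈ C, z * c * z⁻¹ ∈ U := by
    intro Z C hZ hZU hCV hCU z hz c hc
    rw [show z * c * z⁻¹ = ⁅c, z⁆⁻¹ * c by rw [commutatorElement_def]; group]
    exact U.mul_mem (U.inv_mem (hZU (Subgroup.commutator_mem_commutator (hCV hc) hz))) (hCU hc)
  have hUn : ∀ Z : Subgroup G, Z ≤ Subgroup.normalizer (V : Set G) → ⁅V, Z⁆ ≤ U →
      Z ≤ Subgroup.normalizer (U : Set G) := by
    intro Z hZ hZU z hz
    refine Subgroup.mem_normalizer_fintype fun w hw => ?_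
    exact stab Z U hZ hZU (sup_le hAV hBV) le_rfl z hz w hw
  have hLU : L ≤ Subgroup.normalizer (U : Set G) := by
    rw [← hgen]
    exact sup_le (hUn X hXV le_sup_left) (hUn _ (hX'L.trans hLV) le_sup_right)
  have hcomm : ⁅V, L⁆ = U := by
    refine le_antisymm ?_ (sup_le (Subgroup.commutator_mono le_rfl hX) (Subgroup.commutator_mono le_rfl hX'L))
    set Z : Subgroup G :=
      { carrier := {l | l ∈ L ∧ ∀ v ∈ V, ⁅v, l⁆ ∈ U}
        one_mem' := ⟨L.one_mem, fun v _ => by simp [commutatorElement_def]⟩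
        mul_mem' := fun {a b} ha hb => ⟨L.mul_mem ha.1 hb.1, fun v hv => by
          rw [show ⁅v, a * b⁆ = ⁅v, a⁆ * (a * ⁅v, b⁆ * a⁻¹) by simp only [commutatorElement_def]; group]
          exact U.mul_mem (ha.2 v hv) ((Subgroup.mem_normalizer_iff.mp (hLU ha.1) _).mp (hb.2 v hv))⟩
        inv_mem' := fun {a} ha => ⟨L.inv_mem ha.1, fun v hv => by
          rw [show ⁅v, a⁻¹⁆ = a⁻¹ * ⁅v, a⁆⁻¹ * a⁻¹⁻¹ by simp only [commutatorElement_def]; group]
          exact (Subgroup.mem_normalizer_iff.mp (hLU (L.inv_mem ha.1)) _).mp (U.inv_mem (ha.2 v hv))⟩ }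
    have hLZ : L ≤ Z := by
      conv_lhs => rw [← hgen]
      exact sup_le (fun x hx => ⟨hX hx, fun v hv => Subgroup.mem_sup_left (Subgroup.commutator_mem_commutator hv hx)⟩)
        (fun x hx => ⟨hX'L hx, fun v hv => Subgroup.mem_sup_right (Subgroup.commutator_mem_commutator hv hx)⟩)
    rw [Subgroup.commutator_le]
    exact fun v hv l hl => (hLZ hl).2 v hv
  rw [hcomm]
  have hVA : B ≤ Subgroup.normalizer (A : Set G) := hBV.trans (hnV X hXV)
  have hWX : U ⊓ Subgroup.centralizer (X : Set G) = A := by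
    refine le_antisymm (fun w hw => ?_) (le_inf le_sup_left fun a ha =>
      Subgroup.mem_centralizer_iff.mpr fun x hx => (hAX a ha x hx).symm)
    obtain ⟨a, ha, b, hb, rfl⟩ : ∃ a ∈ A, ∃ b ∈ B, a * b = w := by
      have h1 := hw.1
      change w ∈ ((A ⊔ B : Subgroup G) : Set G) at h1
      rw [Subgroup.coe_mul_of_right_le_normalizer_left A B hVA] at h1
      exact h1
    have hbX : ∀ x ∈ X, x * b = b * x := fun x hx => by
      have h1 := Subgroup.mem_centralizer_iff.mp hw.2 x hx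
      have h2 : Commute x a := (hAX a ha x hx).symm
      have h3 := ((show Commute x (a * b) from h1).inv_right.mul_right h2).inv_right
      have h4 : (((a * b)⁻¹ * a))⁻¹ = b := by group
      rw [h4] at h3
      exact h3.eq
    have hbL : L ≤ Subgroup.centralizer ({b} : Set G) := by
      rw [← hgen]
      exact sup_le (fun x hx => Subgroup.mem_centralizer_singleton_iff.mpr (hbX x hx))
        (fun x hx => Subgroup.mem_centralizer_singleton_iff.mpr (hBX' b hb x hx).symm)
    rw [← hBA] at hb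
    obtain ⟨a', ha', e⟩ := hb
    change g * a' * g⁻¹ = b at e
    have h5 := Subgroup.mem_centralizer_singleton_iff.mp (hbL hg)
    have h6 : b = a' := by
      calc b = g⁻¹ * (g * b) := by group
        _ = g⁻¹ * (b * g) := by rw [h5]
        _ = _ := by rw [← e]; group
    rw [h6]
    exact A.mul_mem ha ha'
  refine ⟨rfl, hWX, le_antisymm (fun w hw => ?_) (fun w hw => ⟨Subgroup.mem_sup_left hw.1, ?_⟩)⟩
  · have hwA : w ∈ A := hWX.le ⟨hw.1, Subgroup.centralizer_le (show (X : Set G) ⊆ L from hX) hw.2⟩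
    refine ⟨hwA, hBA.le ⟨w, hwA, ?_⟩⟩
    change g * w * g⁻¹ = w
    rw [Subgroup.mem_centralizer_iff.mp hw.2 g hg, mul_inv_cancel_right]
  · have : L ≤ Subgroup.centralizer ({w} : Set G) := by
      rw [← hgen]
      exact sup_le (fun x hx => Subgroup.mem_centralizer_singleton_iff.mpr (hAX w hw.1 x hx).symm)
        (fun x hx => Subgroup.mem_centralizer_singleton_iff.mpr (hBX' w hw.2 x hx).symm)
    exact Subgroup.mem_centralizer_iff.mpr fun l hl => Subgroup.mem_centralizer_singleton_iff.mp (this hl)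

end Cfsg.Agent.S2833
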