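import Cfsg.Statements.S2834
import Mathlib
import Cfsg.Agent.Lib.PReduced.Largest
import Cfsg.Agent.Lib.Transfer.Sylow
import Cfsg.Agent.Lib.Coprime.Action

set_option linter.style.haveILetI false
set_option linter.unusedSectionVars false

set_option autoImplicit false
open Cfsg CfsgLib CfsgLib.Transfer

namespace Cfsg.Agent.S2834

variable {H : Type*} [Group H] [Finite H] {p : ℕ} [Fact p.Prime]

/-- The subgroup generated by the conjugates of `A` contained in `P`. -/
def conjJoin (A P : Subgroup H) : Subgroup H :=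
  ⨆ g : {g : H // A.map (MulAut.conj g).toMonoidHom ≤ P}, A.map (MulAut.conj (g : H)).toMonoidHom

theorem conjJoin_le (A P : Subgroup H) : conjJoin A P ≤ P := iSup_le fun g => g.2

theorem le_conjJoin {A P : Subgroup H} {g : H} (h : A.map (MulAut.conj g).toMonoidHom ≤ P) :
    A.map (MulAut.conj g).toMonoidHom ≤ conjJoin A P := le_iSup_of_le ⟨g, h⟩ le_rfl

theorem self_le_conjJoin {A P : Subgroup H} (h : A ≤ P) : A ≤ conjJoin A P := by
  have := le_conjJoin (A := A) (P := P) (g := 1) (by rwa [map_conj_one])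
  rwa [map_conj_one] at this

theorem conjJoin_map (A P : Subgroup H) (a : H) :
    conjJoin A (P.map (MulAut.conj a).toMonoidHom) =
      (conjJoin A P).map (MulAut.conj a).toMonoidHom := by
  rw [conjJoin, conjJoin, Subgroup.map_iSup]
  refine le_antisymm (iSup_le fun g => ?_) (iSup_le fun g => ?_)
  · refine le_iSup_of_le ⟨a⁻¹ * g, ?_⟩ ?_
    · rw [← map_conj_mul]
      refine (Subgroup.map_mono g.2).trans ?_
      rw [map_conj_mul, inv_mul_cancel, map_conj_one]
    · rw [map_conj_mul, mul_inv_cancel_left]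
  · refine le_iSup_of_le ⟨a * g, ?_⟩ ?_
    · rw [← map_conj_mul]
      exact Subgroup.map_mono g.2
    · exact le_of_eq (map_conj_mul _ _ _)

theorem normalizer_le_conjJoin (A P : Subgroup H) :
    Subgroup.normalizer (P : Set H) ≤ Subgroup.normalizer (conjJoin A P : Set H) := fun a ha =>
  map_conj_eq_self_iff.mp (by rw [← conjJoin_map, map_conj_eq_self_iff.mpr ha])

/-- Growth of normalizers in a `p`-group. -/
theorem exists_grow {P S : Subgroup H} (hS : IsPGroup p S) (h : P < S) :
    P < S ⊓ Subgroup.normalizer (P : Set H) := by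
  refine lt_of_le_of_ne (le_inf h.le Subgroup.le_normalizer) fun e => ?_
  haveI := hS.isNilpotent
  have h1 := Group.normalizerCondition_of_isNilpotent (G := S) (P.subgroupOf S)
    (lt_top_iff_ne_top.mpr fun e' => h.not_ge (Subgroup.subgroupOf_eq_top.mp e'))
  refine h1.not_ge fun x hx => ?_
  rw [← Subgroup.subgroupOf_normalizer_eq h.le, Subgroup.mem_subgroupOf] at hx
  exact Subgroup.mem_subgroupOf.mpr (e.ge ⟨x.2, hx⟩)

/-- The members among which a minimal one is chosen. -/
structure Member (p : ℕ) (A M G : Subgroup H) (g : H) (R : Subgroup H) : Prop where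
  le : A ⊔ Cfsg.pCore p H ≤ G
  core : ¬ A ≤ Cfsg.pCoreOf p G
  rle : R ≤ G
  rp : IsPGroup p R
  syl : ¬ p ∣ R.relIndex G
  aR : A ≤ R
  rM : R ≤ M.map (MulAut.conj g).toMonoidHom
  nle : ¬ G ≤ M.map (MulAut.conj g).toMonoidHom
  star : G ⊓ Subgroup.normalizer (conjJoin A R : Set H) ≤ M.map (MulAut.conj g).toMonoidHom

theorem Member.pCoreOf_le {A M G R : Subgroup H} {g : H} (h : Member p A M G g R) :
    Cfsg.pCoreOf p G ≤ R := by
  obtain ⟨l, hl, hle⟩ := exists_conj_le_of_not_dvd_relIndex h.rle h.rp h.syl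
    (Subgroup.map_subtype_le (Cfsg.pCore p G)) (PReduced.isPGroup_pCoreOf p G)
  rwa [show (Cfsg.pCore p G).map G.subtype = Cfsg.pCoreOf p G from rfl,
    map_conj_eq_self_iff.mpr (PReduced.le_normalizer_pCoreOf p G hl)] at hle

theorem Member.pCore_le {A M G R : Subgroup H} {g : H} (h : Member p A M G g R) :
    Cfsg.pCore p H ≤ Cfsg.pCoreOf p G := by
  haveI := Fitting.pCore_normal (G := H) p
  exact PReduced.le_pCoreOf (le_sup_right.trans h.le) Subgroup.le_normalizer_of_normal
    (Fitting.pCore_isPGroup p)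

/-- In a member of least order every proper overgroup of `A O_p` is in the conjugate of `M`. -/
theorem noBad {A M G R : Subgroup H} {g : H} (h : Member p A M G g R)
    (hmin : ∀ G' g' R', Member p A M G' g' R' → Nat.card G ≤ Nat.card G') :
    ∀ X : Subgroup H, A ⊔ Cfsg.pCore p H ≤ X → X < G → X ≤ M.map (MulAut.conj g).toMonoidHom := by
  haveI := Fitting.pCore_normal (G := H) p
  intro X₀ hX₀ hX₀G
  by_contra hX₀M
  set M' := M.map (MulAut.conj g).toMonoidHom with hM'
  set Q := Cfsg.pCore p H with hQ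
  have hAQR : A ⊔ Q ≤ R := sup_le h.aR (h.pCore_le.trans h.pCoreOf_le)
  obtain ⟨P, hP⟩ := (Set.toFinite {P : Subgroup H | IsPGroup p P ∧ A ⊔ Q ≤ P ∧ P ≤ G ⊓ M' ∧
    ∃ X, X < G ∧ P ≤ X ∧ ¬ X ≤ M'}).exists_maximal
      ⟨A ⊔ Q, h.rp.to_le hAQR, le_rfl, le_inf h.le (hAQR.trans h.rM), X₀, hX₀G, hX₀, hX₀M⟩
  obtain ⟨⟨hPp, hAQP, hPGM, X, hXG, hPX, hXM⟩, hmax⟩ := hP
  have hPG : P ≤ G := hPGM.trans inf_le_left
  have hPM : P ≤ M' := hPGM.trans inf_le_right
  set N' := G ⊓ Subgroup.normalizer (conjJoin A P : Set H) with hN'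
  have hN'G : N' < G := by
    refine lt_of_le_of_ne inf_le_left fun e => h.core ?_
    exact (self_le_conjJoin (le_sup_left.trans hAQP)).trans
      (PReduced.le_pCoreOf ((conjJoin_le A P).trans hPG) (e.ge.trans inf_le_right)
        (hPp.to_le (conjJoin_le A P)))
  have hPN' : P ≤ N' := le_inf hPG (Subgroup.le_normalizer.trans (normalizer_le_conjJoin A P))
  by_cases hN'M : N' ≤ M'
  · -- `P` is a Sylow subgroup of `X`
    obtain ⟨S, hS⟩ := (hPp.comap_of_injective X.subtype X.subtype_injective).exists_le_sylow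
    have hPS : P ≤ (S : Subgroup X).map X.subtype := fun x hx => ⟨⟨x, hPX hx⟩, hS hx, rfl⟩
    have hPeq : P = (S : Subgroup X).map X.subtype := by
      by_contra hne
      have hlt := exists_grow (S.2.map X.subtype) (lt_of_le_of_ne hPS hne)
      have hN : (S : Subgroup X).map X.subtype ⊓ Subgroup.normalizer (P : Set H) ≤ N' :=
        le_inf ((inf_le_left.trans (Subgroup.map_subtype_le _)).trans hXG.le)
          (inf_le_right.trans (normalizer_le_conjJoin A P))
      exact hlt.not_ge (hmax ⟨(S.2.map X.subtype).to_le inf_le_left, hAQP.trans hlt.le,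
        le_inf (hN.trans inf_le_left) (hN.trans hN'M), X, hXG,
        inf_le_left.trans (Subgroup.map_subtype_le _), hXM⟩ hlt.le)
    have hsyl : ¬ p ∣ P.relIndex X := by
      rw [hPeq, Subgroup.relIndex, Subgroup.subgroupOf,
        Subgroup.comap_map_eq_self_of_injective X.subtype_injective]
      exact S.not_dvd_index
    by_cases hall : ∀ a : H, A.map (MulAut.conj a).toMonoidHom ≤ P →
        A.map (MulAut.conj a).toMonoidHom ≤ Cfsg.pCoreOf p X
    · refine hXM ((le_inf hXG.le fun x hx => ?_).trans hN'M)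
      have hcP : Cfsg.pCoreOf p X ≤ P := hPeq ▸ Subgroup.map_mono
        (haveI := Fitting.pCore_normal (G := X) p; (Fitting.pCore_isPGroup p).le_sylow_of_normal S)
      refine map_conj_eq_self_iff.mp (Subgroup.eq_of_le_of_card_ge ?_
        (Subgroup.card_map_of_injective (MulAut.conj x).injective).ge)
      rw [conjJoin, Subgroup.map_iSup]
      refine iSup_le fun a => ?_
      rw [map_conj_mul]
      refine le_conjJoin ?_
      rw [← map_conj_mul]
      refine le_trans ?_ hcP
      refine (Subgroup.map_mono (hall a a.2)).trans ?_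
      rw [map_conj_eq_self_iff.mpr (PReduced.le_normalizer_pCoreOf p X hx)]
    · push Not at hall
      obtain ⟨a, haP, haC⟩ := hall
      have hinv : ∀ U : Subgroup H, (U.map (MulAut.conj a⁻¹).toMonoidHom).map
          (MulAut.conj a).toMonoidHom = U := fun U => by
        rw [map_conj_mul, mul_inv_cancel, map_conj_one]
      have hAa : A ≤ P.map (MulAut.conj a⁻¹).toMonoidHom := by
        have := Subgroup.map_mono (f := (MulAut.conj a⁻¹).toMonoidHom) haP
        rwa [map_conj_mul, inv_mul_cancel, map_conj_one] at this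
      have hlt : Nat.card ↥(X.map (MulAut.conj a⁻¹).toMonoidHom) < Nat.card G := by
        rw [Subgroup.card_map_of_injective (MulAut.conj a⁻¹).injective]
        by_contra hge
        exact hXG.ne (Subgroup.eq_of_le_of_card_ge hXG.le (not_lt.mp hge))
      refine hlt.not_ge (hmin _ (a⁻¹ * g) (P.map (MulAut.conj a⁻¹).toMonoidHom) ?_)
      refine ⟨sup_le (hAa.trans (Subgroup.map_mono hPX)) ?_, ?_, Subgroup.map_mono hPX, hPp.map _,
        ?_, hAa, ?_, ?_, ?_⟩
      · show Q ≤ _
        conv_lhs => rw [← map_conj_eq_self_iff.mpr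
          ((Subgroup.le_normalizer_of_normal : ⊤ ≤ Subgroup.normalizer (Q : Set H))
            (Subgroup.mem_top a⁻¹))]
        exact Subgroup.map_mono ((le_sup_right.trans hAQP).trans hPX)
      · intro hc
        refine haC ((Subgroup.map_mono hc).trans (PReduced.le_pCoreOf ?_ ?_
          ((PReduced.isPGroup_pCoreOf p _).map _)))
        · conv_rhs => rw [← hinv X]
          exact Subgroup.map_mono (Subgroup.map_subtype_le _)
        · conv_lhs => rw [← hinv X]
          exact (Subgroup.map_mono (PReduced.le_normalizer_pCoreOf p _)).trans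
            (Subgroup.le_normalizer_map _)
      · rwa [Subgroup.relIndex_map_map_of_injective _ _ (MulAut.conj a⁻¹).injective]
      · rw [← map_conj_mul]
        exact Subgroup.map_mono hPM
      · rw [← map_conj_mul]
        exact fun hle => hXM ((Subgroup.map_le_map_iff_of_injective
          (MulAut.conj a⁻¹).injective).mp hle)
      · rw [← map_conj_mul, conjJoin_map]
        rintro y ⟨⟨x, hx, rfl⟩, hy⟩
        refine Subgroup.mem_map_of_mem _ (hN'M ⟨hXG.le hx, ?_⟩)
        have h2 := Subgroup.le_normalizer_map (MulAut.conj a).toMonoidHom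
          (Subgroup.mem_map_of_mem (MulAut.conj a).toMonoidHom hy)
        rw [hinv] at h2
        simpa [mul_assoc] using h2
  · -- `P` is conjugate into `R` inside `G ⊓ M'`
    obtain ⟨l, hl, hle⟩ := exists_conj_le_of_not_dvd_relIndex (le_inf h.rle h.rM) h.rp
      (fun hd => h.syl (hd.trans (by
        rw [← Subgroup.relIndex_mul_relIndex R (G ⊓ M') G (le_inf h.rle h.rM) inf_le_left]
        exact dvd_mul_right _ _))) hPGM hPp
    by_cases heq : P.map (MulAut.conj l).toMonoidHom = R
    · apply hN'M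
      intro y hy
      have h1 : l * y * l⁻¹ ∈ M' := by
        refine h.star ⟨G.mul_mem (G.mul_mem hl.1 hy.1) (G.inv_mem hl.1), ?_⟩
        rw [← heq, conjJoin_map]
        exact Subgroup.le_normalizer_map _ ⟨y, hy.2, rfl⟩
      have := M'.mul_mem (M'.mul_mem (M'.inv_mem hl.2) h1) hl.2
      simpa [mul_assoc] using this
    · set R₁ := R.map (MulAut.conj l⁻¹).toMonoidHom with hR₁
      have hlt : P < R₁ := by
        refine lt_of_le_of_ne ?_ fun e => heq (by
          rw [e, hR₁, map_conj_mul, mul_inv_cancel, map_conj_one])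
        have := Subgroup.map_mono (f := (MulAut.conj l⁻¹).toMonoidHom) hle
        rwa [map_conj_mul, inv_mul_cancel, map_conj_one] at this
      have hR₁le : R₁ ≤ G ⊓ M' := by
        rintro _ ⟨r, hr, rfl⟩
        exact mul_mem (mul_mem (inv_mem hl) (le_inf h.rle h.rM hr)) (inv_mem (inv_mem hl))
      have hgrow := exists_grow (h.rp.map (MulAut.conj l⁻¹).toMonoidHom) hlt
      exact hgrow.not_ge (hmax ⟨(h.rp.map _).to_le inf_le_left, hAQP.trans hgrow.le,
        inf_le_left.trans hR₁le, N', hN'G,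
        le_inf ((inf_le_left.trans hR₁le).trans inf_le_left)
          (inf_le_right.trans (normalizer_le_conjJoin A P)), hN'M⟩ hgrow.le)

/-- The L-Lemma: let H be a finite group with Sylow p-subgroup T such that H is T-minimal (generated by the conjugates of T, T in exactly one maximal subgroup M), and let A ≤ T with A not contained in O_p(H). Then there is a subgroup L of H containing A·O_p(H) such that (a) A·O_p(L) lies in exactly one maximal subgroup L₀ of L, and L₀ = L ∩ gMg⁻¹ for some g ∈ H; (b) L = ⟨A, xAx⁻¹⟩·O_p(L) for every x ∈ L outside L₀. -/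
theorem result {H : Type*} [Group H] [Finite H] {p : ℕ} [Fact p.Prime] (T : Sylow p H) (hmin : Cfsg.IsMinimalOver (T : Subgroup H)) (M : Subgroup H) (hM : IsCoatom M ∧ (T : Subgroup H) ≤ M) (A : Subgroup H) (hAT : A ≤ (T : Subgroup H)) (hA : ¬ A ≤ Cfsg.pCore p H) : ∃ L : Subgroup H, A ⊔ Cfsg.pCore p H ≤ L ∧ ∃ L₀ : Subgroup H, A ⊔ (Cfsg.pCoreOf p L) ≤ L₀ ∧ L₀ < L ∧ (∀ X : Subgroup H, A ⊔ (Cfsg.pCoreOf p L) ≤ X → X < L → X ≤ L₀) ∧ (∃ g : H, L₀ = L ⊓ ((M : Subgroup H).map (MulAut.conj (g : H)).toMonoidHom)) ∧ ∀ x ∈ L, x ∉ L₀ → (A ⊔ ((A : Subgroup H).map (MulAut.conj (x : H)).toMonoidHom)) ⊔ (Cfsg.pCoreOf p L) = L := by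
  classical
  haveI := Fitting.pCore_normal (G := H) p
  set Q := Cfsg.pCore p H with hQ
  have hmem : Member p A M ⊤ 1 (T : Subgroup H) := by
    refine ⟨le_top, ?_, le_top, T.2, ?_, hAT, ?_, ?_, ?_⟩
    · intro hle
      refine hA (hle.trans (Fitting.le_pCore ?_ (PReduced.isPGroup_pCoreOf p _)))
      exact Subgroup.normalizer_eq_top_iff.mp (top_le_iff.mp (PReduced.le_normalizer_pCoreOf p _))
    · rw [Subgroup.relIndex_top_right]; exact T.not_dvd_index
    · rw [map_conj_one]; exact hM.2
    · rw [map_conj_one]; exact fun h => hM.1.1 (top_le_iff.mp h)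
    · rw [map_conj_one, top_inf_eq]
      rcases eq_top_or_exists_le_coatom
          (Subgroup.normalizer (conjJoin A (T : Subgroup H) : Set H)) with h | ⟨M₁, hM₁, hle⟩
      · refine absurd ((self_le_conjJoin hAT).trans
          (Fitting.le_pCore ?_ (T.2.to_le (conjJoin_le _ _)))) hA
        exact Subgroup.normalizer_eq_top_iff.mp h
      · exact hle.trans (hmin.2.unique ⟨hM₁, (Subgroup.le_normalizer.trans
          (normalizer_le_conjJoin A _)).trans hle⟩ hM).le
  have hex : ∃ n, ∃ G g R, Member p A M G g R ∧ Nat.card G = n := ⟨_, ⊤, 1, T, hmem, rfl⟩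
  obtain ⟨L, g, R, hL, hcard⟩ := Nat.find_spec hex
  have hbad := noBad hL fun G' g' R' h' => hcard ▸ Nat.find_le ⟨G', g', R', h', rfl⟩
  set M' := M.map (MulAut.conj g).toMonoidHom with hM'
  refine ⟨L, hL.le, L ⊓ M', le_inf (sup_le (le_sup_left.trans hL.le) (Subgroup.map_subtype_le _))
    (sup_le (hL.aR.trans hL.rM) (hL.pCoreOf_le.trans hL.rM)),
    lt_of_le_of_ne inf_le_left fun e => hL.nle (inf_eq_left.mp e), ?_, ⟨g, rfl⟩, ?_⟩
  · exact fun X hX hXL => le_inf hXL.le (hbad X ((sup_le_sup_left hL.pCore_le A).trans hX) hXL)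
  · intro x hx hx0
    set C := Cfsg.pCoreOf p L with hC
    have hAL : A ≤ L := le_sup_left.trans hL.le
    set X := (A ⊔ A.map (MulAut.conj x).toMonoidHom) ⊔ C with hX
    have hLx := map_conj_eq_self_iff.mpr (Subgroup.le_normalizer hx : x ∈ Subgroup.normalizer (L : Set H))
    have hXL : X ≤ L := by
      refine sup_le (sup_le hAL ?_) (Subgroup.map_subtype_le _)
      conv_rhs => rw [← hLx]
      exact Subgroup.map_mono hAL
    refine hXL.eq_or_lt.resolve_right fun hlt => ?_
    have hXle : X ≤ L ⊓ M' := le_inf hXL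
      (hbad X (sup_le (le_sup_of_le_left le_sup_left) (hL.pCore_le.trans le_sup_right)) hlt)
    set L₀ := L ⊓ M' with hL₀
    set L₁ := L₀.map (MulAut.conj x⁻¹).toMonoidHom with hL₁
    have hLxi := map_conj_eq_self_iff.mpr
      (Subgroup.le_normalizer (inv_mem hx) : x⁻¹ ∈ Subgroup.normalizer (L : Set H))
    have hL₁L : L₁ < L := by
      refine lt_of_le_of_ne ?_ fun e => ?_
      · conv_rhs => rw [← hLxi]
        exact Subgroup.map_mono inf_le_left
      · refine hL.nle (inf_eq_left.mp (Subgroup.map_injective (MulAut.conj x⁻¹).injective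
          (e.trans hLxi.symm)))
    have hsub : A ⊔ Q ≤ L₁ := by
      refine sup_le ?_ ?_
      · intro y hy
        rw [hL₁, mem_conj_map_iff, inv_inv]
        exact hXle (Subgroup.mem_sup_left (Subgroup.mem_sup_right ⟨y, hy, rfl⟩))
      · intro y hy
        rw [hL₁, mem_conj_map_iff, inv_inv]
        exact hXle (Subgroup.mem_sup_right (hL.pCore_le
          ((inferInstance : Q.Normal).conj_mem y hy x)))
    have heq : L₁ = L₀ := Subgroup.eq_of_le_of_card_ge (le_inf hL₁L.le (hbad L₁ hsub hL₁L))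
      (Subgroup.card_map_of_injective (MulAut.conj x⁻¹).injective).ge
    have hxN : x ∈ L ⊓ Subgroup.normalizer (L₀ : Set H) :=
      ⟨hx, by simpa using inv_mem (map_conj_eq_self_iff.mp heq)⟩
    rcases (inf_le_left : L ⊓ Subgroup.normalizer (L₀ : Set H) ≤ L).eq_or_lt with e | e
    · -- Frattini: `L₀` cannot be normal in `L`
      refine hL.nle fun y hy => ?_
      have hRL₀ : R ≤ L₀ := le_inf hL.rle hL.rM
      have hyN : y ∈ Subgroup.normalizer (L₀ : Set H) := (e.ge hy).2
      obtain ⟨l, hl, hle⟩ := exists_conj_le_of_not_dvd_relIndex hRL₀ hL.rp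
        (fun hd => hL.syl (hd.trans (by
          rw [← Subgroup.relIndex_mul_relIndex R L₀ L hRL₀ inf_le_left]
          exact dvd_mul_right _ _))) (Y := R.map (MulAut.conj y).toMonoidHom)
        (by rw [← map_conj_eq_self_iff.mpr hyN]; exact Subgroup.map_mono hRL₀) (hL.rp.map _)
      rw [map_conj_mul] at hle
      have hly : l * y ∈ M' := by
        refine hL.star ⟨L.mul_mem hl.1 hy, normalizer_le_conjJoin A R
          (map_conj_eq_self_iff.mp (Subgroup.eq_of_le_of_card_ge hle
            (Subgroup.card_map_of_injective (MulAut.conj (l * y)).injective).ge))⟩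
      have h2 := M'.mul_mem (M'.inv_mem hl.2) hly
      rw [inv_mul_cancel_left] at h2
      exact h2
    · refine hx0 ⟨hx, hbad _ (le_inf hL.le ?_) e hxN⟩
      exact le_trans (le_inf hL.le (sup_le (hL.aR.trans hL.rM)
        ((hL.pCore_le.trans hL.pCoreOf_le).trans hL.rM))) Subgroup.le_normalizer

end Cfsg.Agent.S2834
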