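import Mathlib
import Cfsg.Statements.S2835
import Cfsg.Agent.Lib.Fitting.Basic

set_option autoImplicit false
set_option linter.style.haveILetI false
set_option linter.unusedVariables false
open Cfsg

namespace Cfsg.Agent.S2835

/-- Let L be a finite group, L₀ a maximal subgroup, T a Sylow p-subgroup of L₀ and Y ≤ T, and suppose L is Y-minimal (generated by the conjugates of Y, with Y in exactly one maximal subgroup, necessarily L₀). Then N_L(T) ≤ L₀, O_p(L) ≤ L₀ and T is a Sylow p-subgroup of L; N_L(L₀) = L₀; L = ⟨Y, gYg⁻¹⟩ for each g ∈ L outside L₀; and if Y is abelian then Y ∩ gYg⁻¹ = C_Y(L) for each such g. -/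
theorem result {L : Type*} [Group L] [Finite L] {p : ℕ} [Fact p.Prime] (L₀ : Subgroup L) (hL₀ : IsCoatom L₀) (T : Sylow p ↥L₀) (Y : Subgroup L) (hYT : Y ≤ (T : Subgroup ↥L₀).map L₀.subtype) (hmin : Cfsg.IsMinimalOver Y) : Subgroup.normalizer (((T : Subgroup ↥L₀).map L₀.subtype : Subgroup L) : Set L) ≤ L₀ ∧ Cfsg.pCore p L ≤ L₀ ∧ (∃ P : Sylow p L, (P : Subgroup L) = (T : Subgroup ↥L₀).map L₀.subtype) ∧ Subgroup.normalizer (L₀ : Set L) = L₀ ∧ (∀ g : L, g ∉ L₀ → Y ⊔ Y.map (MulAut.conj g).toMonoidHom = ⊤) ∧ (IsMulCommutative ↥Y → ∀ g : L, g ∉ L₀ → Y ⊓ Y.map (MulAut.conj g).toMonoidHom = Y ⊓ Subgroup.center L) := by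
  set T' := (T : Subgroup ↥L₀).map L₀.subtype with hT'
  obtain ⟨hncl, M, ⟨hM, hYM⟩, huniq⟩ := hmin
  have hT'L : T' ≤ L₀ := Subgroup.map_subtype_le _
  have hL₀M : L₀ = M := huniq L₀ ⟨hL₀, hYT.trans hT'L⟩
  have hkey : ∀ X : Subgroup L, Y ≤ X → X ≠ ⊤ → X ≤ L₀ := by
    intro X hYX hX
    obtain ⟨C, hC, hXC⟩ := (eq_top_or_exists_le_coatom X).resolve_left hX
    rw [hL₀M, ← huniq C ⟨hC, hYX.trans hXC⟩]
    exact hXC
  have hnn : ∀ X : Subgroup L, X.Normal → Y ≤ X → X = ⊤ := fun X hX hYX =>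
    top_le_iff.mp (hncl.ge.trans (Subgroup.normalClosure_le_normal hYX))
  have hNT : Subgroup.normalizer (T' : Set L) ≤ L₀ := by
    refine hkey _ (hYT.trans Subgroup.le_normalizer) fun h => hL₀.1 ?_
    exact top_le_iff.mp ((hnn T' (Subgroup.normalizer_eq_top_iff.mp h) hYT).ge.trans hT'L)
  have hTp : IsPGroup p T' := T.isPGroup'.map _
  haveI hOn := CfsgLib.Fitting.pCore_normal (G := L) p
  have hOp : IsPGroup p ↥(T' ⊔ Cfsg.pCore p L) :=
    hTp.to_sup_of_normal_right (CfsgLib.Fitting.pCore_isPGroup p)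
  have hOL : Cfsg.pCore p L ≤ L₀ := by
    refine le_sup_right.trans (hkey (T' ⊔ Cfsg.pCore p L) (hYT.trans le_sup_left) fun h => ?_)
    haveI : Group.IsNilpotent L := by
      have h1 : IsPGroup p L := (h ▸ hOp : IsPGroup p ↥(⊤ : Subgroup L)).of_equiv Subgroup.topEquiv
      exact h1.isNilpotent
    have hn : L₀.Normal := Subgroup.NormalizerCondition.normal_of_coatom L₀ Group.normalizerCondition_of_isNilpotent hL₀
    exact hL₀.1 (hnn L₀ hn (hYT.trans hT'L))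
  have hSyl : ∃ P : Sylow p L, (P : Subgroup L) = T' := by
    obtain ⟨P, hP⟩ := hTp.exists_le_sylow
    refine ⟨P, ?_⟩
    by_contra hne
    haveI : Group.IsNilpotent P := P.isPGroup'.isNilpotent
    have hlt : T'.subgroupOf P < ⊤ := lt_top_iff_ne_top.mpr fun h =>
      hne (le_antisymm (Subgroup.subgroupOf_eq_top.mp h) hP)
    have hlt2 := (Group.normalizerCondition_of_isNilpotent (G := P)) _ hlt
    obtain ⟨x, hx, hxT⟩ := SetLike.exists_of_lt hlt2
    have hxn : (x : L) ∈ Subgroup.normalizer (T' : Set L) := by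
      refine Subgroup.mem_normalizer_fintype fun t ht => ?_
      exact (Subgroup.mem_normalizer_iff.mp hx ⟨t, hP ht⟩).mp ht
    have hxL : (x : L) ∈ L₀ := hNT hxn
    have hpg : IsPGroup p (((P : Subgroup L) ⊓ L₀).subgroupOf L₀) :=
      (P.isPGroup'.to_le inf_le_left).comap_of_injective _ L₀.subtype_injective
    have hle : (T : Subgroup ↥L₀) ≤ ((P : Subgroup L) ⊓ L₀).subgroupOf L₀ := fun t ht =>
      ⟨hP ⟨t, ht, rfl⟩, t.2⟩
    have := T.is_maximal' hpg hle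
    exact hxT ⟨⟨x, hxL⟩, (show (⟨x, hxL⟩ : L₀) ∈ (T : Subgroup ↥L₀) from this ▸ ⟨x.2, hxL⟩), rfl⟩
  have hNL : Subgroup.normalizer (L₀ : Set L) = L₀ := by
    refine le_antisymm (hkey _ ((hYT.trans hT'L).trans Subgroup.le_normalizer) fun h => ?_) Subgroup.le_normalizer
    exact hL₀.1 (hnn L₀ (Subgroup.normalizer_eq_top_iff.mp h) (hYT.trans hT'L))
  have hgen : ∀ g : L, g ∉ L₀ → Y ⊔ Y.map (MulAut.conj g).toMonoidHom = ⊤ := by
    intro g hg
    by_contra hne
    have h1 : Y.map (MulAut.conj g).toMonoidHom ≤ L₀ := le_sup_right.trans (hkey _ le_sup_left hne)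
    have h2 : Y ≤ L₀.comap (MulAut.conj g).toMonoidHom := Subgroup.map_le_iff_le_comap.mp h1
    have h3 : L₀.comap (MulAut.conj g).toMonoidHom ≠ ⊤ := fun h => hL₀.1 (by
      rw [eq_top_iff]; intro x _
      have : g⁻¹ * x * g ∈ L₀.comap (MulAut.conj g).toMonoidHom := h ▸ Subgroup.mem_top _
      simpa [mul_assoc] using this)
    have h4 := hkey _ h2 h3
    apply hg
    rw [← hNL]
    rw [← inv_mem_iff]
    refine Subgroup.mem_normalizer_fintype fun x hx => ?_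
    refine h4 ?_
    show g * (g⁻¹ * x * g⁻¹⁻¹) * g⁻¹ ∈ L₀
    simpa [mul_assoc] using hx
  refine ⟨hNT, hOL, hSyl, hNL, hgen, fun hab g hg => le_antisymm ?_ ?_⟩
  · rintro x ⟨hx1, hx2⟩
    refine ⟨hx1, Subgroup.mem_center_iff.mpr fun y => ?_⟩
    have hle : Y ⊔ Y.map (MulAut.conj g).toMonoidHom ≤ Subgroup.centralizer ({x} : Set L) := by
      refine sup_le (fun y hy => Subgroup.mem_centralizer_singleton_iff.mpr (congrArg Subtype.val (mul_comm' (⟨y, hy⟩ : Y) ⟨x, hx1⟩))) ?_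
      rintro _ ⟨y, hy, rfl⟩
      obtain ⟨z, hz, rfl⟩ := hx2
      refine Subgroup.mem_centralizer_singleton_iff.mpr ?_
      rw [← map_mul, ← map_mul]
      exact congrArg _ (congrArg Subtype.val (mul_comm' (⟨y, hy⟩ : Y) ⟨z, hz⟩))
    exact Subgroup.mem_centralizer_singleton_iff.mp (hle (hgen g hg ▸ Subgroup.mem_top y))
  · rintro x ⟨hx1, hx2⟩
    refine ⟨hx1, x, hx1, ?_⟩
    show g * x * g⁻¹ = x
    rw [Subgroup.mem_center_iff.mp hx2 g, mul_inv_cancel_right]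

end Cfsg.Agent.S2835
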