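import Cfsg.Statements.S2836
import Cfsg.Agent.S2835
import Cfsg.Agent.Lib.Fitting.Basic
import Cfsg.Agent.Lib.Transfer.Sylow
import Cfsg.Agent.Lib.Coprime.Action
-- import your own Cfsg.Agent.* helpers here

set_option autoImplicit false
open Cfsg CfsgLib

namespace Cfsg.Agent.S2836

/-- Let L be a finite group, L₀ a maximal subgroup, T a Sylow p-subgroup of L₀, Y ≤ T, and suppose L is Y-minimal. Let D be the intersection of the conjugates of L₀ (the core of L₀). Then D contains O_p(L) and D/O_p(L) is the Frattini subgroup of L/O_p(L), so D is p-closed; and every normal subgroup N of L contained in L₀ is p-closed with N/O_p(N) a nilpotent group of order prime to p. -/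
theorem result {L : Type*} [Group L] [Finite L] {p : ℕ} [Fact p.Prime] (L₀ : Subgroup L) (hL₀ : IsCoatom L₀) (T : Sylow p ↥L₀) (Y : Subgroup L) (hYT : Y ≤ (T : Subgroup ↥L₀).map L₀.subtype) (hmin : Cfsg.IsMinimalOver Y) : (Cfsg.pCore p L ≤ L₀.normalCore ∧ (L₀.normalCore).map (QuotientGroup.mk' (Cfsg.pCore p L)) = frattini (L ⧸ Cfsg.pCore p L) ∧ Cfsg.IsPClosed p ↥(L₀.normalCore)) ∧ ∀ (N : Subgroup L) [N.Normal], N ≤ L₀ → Cfsg.IsPClosed p ↥N ∧ Group.IsNilpotent (↥N ⧸ Cfsg.pCore p ↥N) ∧ (Nat.card (↥N ⧸ Cfsg.pCore p ↥N)).Coprime p := by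
  obtain ⟨-, hOL, ⟨P, hP⟩, -, -, -⟩ := S2835.result L₀ hL₀ T Y hYT hmin
  obtain ⟨hncl, M, ⟨-, -⟩, huniq⟩ := hmin
  rw [← hP] at hYT
  have hPL : (P : Subgroup L) ≤ L₀ := hP ▸ Subgroup.map_subtype_le _
  have hkey : ∀ X : Subgroup L, Y ≤ X → X ≠ ⊤ → X ≤ L₀ := by
    intro X hYX hX
    obtain ⟨C, hC, hXC⟩ := (eq_top_or_exists_le_coatom X).resolve_left hX
    rw [huniq L₀ ⟨hL₀, hYT.trans hPL⟩, ← huniq C ⟨hC, hYX.trans hXC⟩]
    exact hXC
  haveI hOn := Fitting.pCore_normal (G := L) p
  have hclosed : ∀ N : Subgroup L, N.Normal → N ≤ L₀ →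
      (P : Subgroup L) ⊓ N ≤ Cfsg.pCore p L := by
    intro N hN hNL
    haveI := hN
    refine Fitting.le_pCore ?_ (P.2.to_le inf_le_left)
    let Q : Sylow p N := (P.2.comap_of_injective N.subtype N.subtype_injective).toSylow
      (fun hd => P.not_dvd_index (hd.trans (Transfer.relIndex_dvd_index_of_normal _ N)))
    have hQ : (Q : Subgroup N).map N.subtype = (P : Subgroup L) ⊓ N := Subgroup.subgroupOf_map_subtype _ _
    have hsup := Sylow.normalizer_sup_eq_top Q
    rw [hQ] at hsup
    refine Subgroup.normalizer_eq_top_iff.mp ?_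
    by_contra hne
    have hPN : (P : Subgroup L) ≤ Subgroup.normalizer (((P : Subgroup L) ⊓ N : Subgroup L) : Set L) :=
      fun t ht => Subgroup.mem_normalizer_fintype fun y hy =>
        ⟨Subgroup.mul_mem _ (Subgroup.mul_mem _ ht hy.1) (Subgroup.inv_mem _ ht), hN.conj_mem y hy.2 t⟩
    exact hL₀.1 (top_le_iff.mp (hsup.ge.trans (sup_le (hkey _ (hYT.trans hPN) hne) hNL)))
  have hpc : ∀ N : Subgroup L, N.Normal → N ≤ L₀ →
      Cfsg.IsPClosed p N ∧ Cfsg.pCore p N = (Cfsg.pCore p L).subgroupOf N ∧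
        ¬ p ∣ (Cfsg.pCore p N).index := by
    intro N hN hNL
    haveI := hN
    have hpp : IsPGroup p ((Cfsg.pCore p L).subgroupOf N) :=
      (Fitting.pCore_isPGroup (G := L) p).comap_of_injective _ N.subtype_injective
    have hidx : ¬ p ∣ ((Cfsg.pCore p L).subgroupOf N).index := fun hd => P.not_dvd_index
      ((hd.trans (Subgroup.index_dvd_of_le (H := (P : Subgroup L).subgroupOf N)
        fun x hx => hclosed N hN hNL ⟨hx, x.2⟩)).trans (Transfer.relIndex_dvd_index_of_normal _ N))
    let Q : Sylow p N := hpp.toSylow hidx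
    have hQn : (Q : Subgroup N).Normal := (inferInstance : ((Cfsg.pCore p L).subgroupOf N).Normal)
    have hcl : Cfsg.IsPClosed p N := fun R => by
      haveI := hQn
      obtain ⟨g, hg⟩ := MulAction.exists_smul_eq N Q R
      rw [← hg, Sylow.smul_eq_of_normal]
      exact hQn
    have heq : Cfsg.pCore p N = (Cfsg.pCore p L).subgroupOf N := by
      refine le_antisymm (fun x hx => ?_) (Fitting.le_pCore hQn hpp)
      exact Fitting.mem_pCore_iff_forall_sylow.mp hx Q
    exact ⟨hcl, heq, heq ▸ hidx⟩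
  set f := QuotientGroup.mk' (Cfsg.pCore p L) with hf
  have hfs : Function.Surjective f := QuotientGroup.mk'_surjective _
  have hOD : Cfsg.pCore p L ≤ L₀.normalCore := Subgroup.normal_le_normalCore.mpr hOL
  have hfr : L₀.normalCore.map f = frattini (L ⧸ Cfsg.pCore p L) := by
    refine le_antisymm ?_ ?_
    · refine le_iInf fun C => le_iInf fun hC => ?_
      rw [Subgroup.map_le_iff_le_comap]
      set C' := C.comap f with hC'
      have hC'c : IsCoatom C' := Subgroup.isCoatom_comap_of_surjective hfs hC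
      by_contra hnle
      have hsup : C' ⊔ L₀.normalCore = ⊤ := hC'c.2 _ (left_lt_sup.mpr hnle)
      have hOC : Cfsg.pCore p L ≤ C' := by
        rw [hC', ← Subgroup.map_le_iff_le_comap, hf, QuotientGroup.map_mk'_self]
        exact bot_le
      obtain ⟨R⟩ := (inferInstance : Nonempty (Sylow p C'))
      have hidx : ¬ p ∣ C'.index := by
        have he : C'.index = C'.relIndex L₀.normalCore := by
          have h1 := Coprime.card_sup_mul_card_inf (K := L₀.normalCore) (S := C')
            Subgroup.le_normalizer_of_normal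
          have h2 := Coprime.relIndex_mul_card_inf C' L₀.normalCore
          rw [sup_comm, hsup, Subgroup.card_top, ← C'.card_mul_index, inf_comm] at h1
          refine Nat.eq_of_mul_eq_mul_right (Nat.card_pos : 0 < Nat.card ↥(C' ⊓ L₀.normalCore)) ?_
          rw [h2]
          refine Nat.eq_of_mul_eq_mul_left (Nat.card_pos : 0 < Nat.card C') ?_
          rw [← mul_assoc, h1]
          ring
        rw [he]
        intro hd
        obtain ⟨-, heq, hni⟩ := hpc _ (Subgroup.normalCore_normal L₀) L₀.normalCore_le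
        apply hni
        refine hd.trans ?_
        rw [heq]
        exact Subgroup.index_dvd_of_le fun x hx => hOC hx
      have hR : ¬ p ∣ ((R : Subgroup C').map C'.subtype).index := by
        rw [Subgroup.index_map_subtype]
        exact fun hd => ((Fact.out : p.Prime).dvd_mul.mp hd).elim R.not_dvd_index hidx
      let R' : Sylow p L := (R.2.map C'.subtype).toSylow hR
      have hR'C : (R' : Subgroup L) ≤ C' := Subgroup.map_subtype_le _
      obtain ⟨g, hg⟩ := MulAction.exists_smul_eq L P R'
      have h2 : C'.comap (MulAut.conj g).toMonoidHom ≤ L₀ := by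
        refine hkey _ (fun y hy => hR'C ?_) ?_
        · rw [← hg]; exact ⟨y, hYT hy, rfl⟩
        · intro e
          refine hC'c.1 ?_
          rw [eq_top_iff]
          intro x _
          have : g⁻¹ * x * g ∈ C'.comap (MulAut.conj g).toMonoidHom := e ▸ Subgroup.mem_top _
          simpa [mul_assoc] using this
      have h3 : C'.comap (MulAut.conj g).toMonoidHom = L₀ := by
        refine (((IsCoatom.le_iff ?_).mp h2).resolve_left hL₀.1).symm
        exact Subgroup.isCoatom_comap_of_surjective (MulAut.conj g).surjective hC'c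
      apply hnle
      intro d hd
      have h4 : g⁻¹ * d * g⁻¹⁻¹ ∈ L₀.normalCore := (Subgroup.normalCore_normal L₀).conj_mem d hd _
      have h5 : g⁻¹ * d * g⁻¹⁻¹ ∈ C'.comap (MulAut.conj g).toMonoidHom := h3.ge (L₀.normalCore_le h4)
      simpa [mul_assoc] using h5
    · intro y hy
      obtain ⟨x, rfl⟩ := hfs y
      refine Subgroup.mem_map_of_mem _ fun g => ?_
      have hc : IsCoatom (L₀.map f) := by
        have hcm : (L₀.map f).comap f = L₀ := by
          rw [Subgroup.comap_map_eq, hf, QuotientGroup.ker_mk', sup_eq_left.mpr hOL]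
        refine ⟨fun e => hL₀.1 (by rw [← hcm, e, Subgroup.comap_top]), fun B hB => ?_⟩
        have h1 := hL₀.2 (B.comap f) (by rw [← hcm]; exact (Subgroup.comap_lt_comap_of_surjective hfs).mpr hB)
        rw [← Subgroup.map_comap_eq_self_of_surjective hfs B, h1, Subgroup.map_top_of_surjective f hfs]
      have hgy : f (g * x * g⁻¹) ∈ L₀.map f := by
        have h1 : f (g * x * g⁻¹) ∈ frattini (L ⧸ Cfsg.pCore p L) := by
          rw [map_mul, map_mul, map_inv]
          exact Subgroup.Normal.conj_mem inferInstance _ hy _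
        exact frattini_le_coatom hc h1
      have : g * x * g⁻¹ ∈ (L₀.map f).comap f := hgy
      rwa [Subgroup.comap_map_eq, hf, QuotientGroup.ker_mk', sup_eq_left.mpr hOL] at this
  refine ⟨⟨hOD, hfr, (hpc _ (Subgroup.normalCore_normal L₀) L₀.normalCore_le).1⟩, ?_⟩
  intro N hN hNL
  obtain ⟨hcl, heq, hni⟩ := hpc N hN hNL
  refine ⟨hcl, ?_, ?_⟩
  · haveI : Group.IsNilpotent (frattini (L ⧸ Cfsg.pCore p L)) := frattini_nilpotent
    let ψ : N →* frattini (L ⧸ Cfsg.pCore p L) := (f.comp N.subtype).codRestrict _ fun x =>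
      hfr.le (Subgroup.mem_map_of_mem _ (Subgroup.normal_le_normalCore.mpr hNL x.2))
    have hk : Cfsg.pCore p N = ψ.ker := by
      rw [heq]
      ext x
      rw [Subgroup.mem_subgroupOf, MonoidHom.mem_ker, Subtype.ext_iff]
      exact (QuotientGroup.eq_one_iff _).symm
    exact Group.nilpotent_of_mulEquiv ((QuotientGroup.quotientKerEquivRange ψ).symm.trans
      (QuotientGroup.quotientMulEquivOfEq hk.symm))
  · rw [← Subgroup.index_eq_card]
    exact ((Fact.out : p.Prime).coprime_iff_not_dvd.mpr hni).symm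

end Cfsg.Agent.S2836
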