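import Cfsg.Statements.S2837
import Cfsg.Agent.S2835
import Cfsg.Agent.Lib.Critical.Basic
import Cfsg.Agent.Lib.PSolvable.Omega
import Cfsg.Agent.Lib.Transfer.Alperin

set_option autoImplicit false
open Cfsg
open scoped commutatorElement
set_option linter.style.haveILetI false

namespace Cfsg.Agent.S2837

/-- Let L be a finite group of characteristic p, L₀ a maximal subgroup, Y an elementary abelian p-subgroup of L₀ with L Y-minimal and O_p(L) ≤ N_L(Y). Put A = the normal closure of O_p(L) ∩ Y in L. Then for every g ∈ L outside L₀: Φ(A) = A' = [A ∩ Y, A] = [A ∩ Y, A ∩ gYg⁻¹] ≤ C_Y(L), and Y ∩ gYg⁻¹ = (A ∩ Y) ∩ (A ∩ gYg⁻¹) = C_Y(L) = C_A(L). -/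
theorem result {L : Type*} [Group L] [Finite L] {p : ℕ} [Fact p.Prime] (hchar : Subgroup.centralizer (Cfsg.pCore p L : Set L) ≤ Cfsg.pCore p L) (L₀ : Subgroup L) (hL₀ : IsCoatom L₀) (Y : Subgroup L) (hYL₀ : Y ≤ L₀) (hYel : Cfsg.IsElementaryAbelian p Y) (hmin : Cfsg.IsMinimalOver Y) (hOY : Cfsg.pCore p L ≤ Subgroup.normalizer (Y : Set L)) (A : Subgroup L) (hA : A = Subgroup.normalClosure (((Cfsg.pCore p L ⊓ Y : Subgroup L)) : Set L)) (g : L) (hg : g ∉ L₀) : (frattini ↥A).map A.subtype = ⁅A, A⁆ ∧ ⁅A, A⁆ = ⁅A ⊓ Y, A⁆ ∧ ⁅A ⊓ Y, A⁆ = ⁅A ⊓ Y, A ⊓ Y.map (MulAut.conj g).toMonoidHom⁆ ∧ ⁅A ⊓ Y, A⁆ ≤ Y ⊓ Subgroup.center L ∧ Y ⊓ Y.map (MulAut.conj g).toMonoidHom = Y ⊓ Subgroup.center L ∧ (A ⊓ Y) ⊓ (A ⊓ Y.map (MulAut.conj g).toMonoidHom) = Y ⊓ Subgroup.center L ∧ A ⊓ Subgroup.center L = Y ⊓ Subgroup.center L := by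
  haveI hOn := CfsgLib.Fitting.pCore_normal (G := L) p
  set O := Cfsg.pCore p L with hO
  have hYp : IsPGroup p Y := fun y => ⟨1, Subtype.ext (by rw [pow_one]; exact hYel.2 y y.2)⟩
  obtain ⟨T, hT⟩ := (hYp.comap_of_injective L₀.subtype L₀.subtype_injective).exists_le_sylow
  have hYT : Y ≤ (T : Subgroup L₀).map L₀.subtype := fun y hy => ⟨⟨y, hYL₀ hy⟩, hT hy, rfl⟩
  obtain ⟨-, -, -, -, hgen, hint⟩ := Cfsg.Agent.S2835.result L₀ hL₀ T Y hYT hmin
  set Y' := Y.map (MulAut.conj g).toMonoidHom with hY'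
  have hYY' : Y ⊔ Y' = ⊤ := hgen g hg
  have hYZ : Y ⊓ Y' = Y ⊓ Subgroup.center L := hint hYel.1 g hg
  have hYcomm : ∀ a ∈ Y, ∀ b ∈ Y, a * b = b * a := fun a ha b hb =>
    congrArg Subtype.val (hYel.1.is_comm.comm ⟨a, ha⟩ ⟨b, hb⟩)
  have hOfix : O.map (MulAut.conj g).toMonoidHom = O := by
    rw [CfsgLib.Transfer.map_conj_eq_self_iff, Subgroup.normalizer_eq_top]; trivial
  set U := O ⊓ Y with hU
  set U' := U.map (MulAut.conj g).toMonoidHom with hU'
  have hU'e : U' = O ⊓ Y' := by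
    rw [hU', hU, Subgroup.map_inf _ _ _ (MulAut.conj g).injective, hOfix]
  have hOY' : O ≤ Subgroup.normalizer (Y' : Set L) := by
    rw [hY', CfsgLib.Transfer.normalizer_map_conj, ← hOfix]
    exact Subgroup.map_mono hOY
  -- `Y` normalises `U ⊔ U'`
  have hcomm : ∀ (X : Subgroup L), O ≤ Subgroup.normalizer (X : Set L) →
      ∀ y ∈ X, ∀ o ∈ O, y * o * y⁻¹ * o⁻¹ ∈ O ⊓ X := by
    intro X hX y hy o ho
    refine ⟨O.mul_mem (hOn.conj_mem o ho y) (O.inv_mem ho), ?_⟩
    have h1 := (Subgroup.mem_normalizer_iff.mp (hX ho) y⁻¹).mp (X.inv_mem hy)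
    have h2 := X.mul_mem hy h1
    rwa [show y * (o * y⁻¹ * o⁻¹) = y * o * y⁻¹ * o⁻¹ by group] at h2
  have hUU'O : U ⊔ U' ≤ O := sup_le inf_le_left (hU'e ▸ inf_le_left)
  have hnorm : ∀ (X : Subgroup L), O ≤ Subgroup.normalizer (X : Set L) → O ⊓ X ≤ U ⊔ U' →
      X ≤ Subgroup.normalizer ((U ⊔ U' : Subgroup L) : Set L) := by
    intro X hX hle y hy
    refine Subgroup.mem_normalizer_fintype fun a ha => ?_
    have h1 := mul_mem (hle (hcomm X hX y hy a (hUU'O ha))) ha
    rwa [inv_mul_cancel_right] at h1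
  have hAeq : A = U ⊔ U' := by
    rw [hA]
    refine le_antisymm ?_ (sup_le Subgroup.le_normalClosure ?_)
    · haveI : (U ⊔ U').Normal := by
        rw [← Subgroup.normalizer_eq_top_iff, eq_top_iff, ← hYY']
        exact sup_le (hnorm Y hOY le_sup_left) (hnorm Y' hOY' (hU'e ▸ le_sup_right))
      exact Subgroup.normalClosure_le_normal (le_sup_left : U ≤ U ⊔ U')
    · rw [hU', Subgroup.map_le_iff_le_comap]
      intro u hu
      exact Subgroup.normalClosure_normal.conj_mem u (Subgroup.le_normalClosure hu) g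
  have hAO : A ≤ O := hAeq ▸ hUU'O
  have hAY : A ⊓ Y = U := le_antisymm (inf_le_inf_right _ hAO)
    (le_inf (hAeq ▸ le_sup_left) inf_le_right)
  have hAY' : A ⊓ Y' = U' := le_antisymm (hU'e ▸ inf_le_inf_right _ hAO)
    (le_inf (hAeq ▸ le_sup_right) (hU'e ▸ inf_le_right))
  have hZO : Subgroup.center L ≤ O :=
    (Subgroup.center_le_centralizer _).trans hchar
  have hgZ : ∀ z ∈ Subgroup.center L, g * z * g⁻¹ = z := fun z hz => by
    rw [Subgroup.mem_center_iff.mp hz g, mul_inv_cancel_right]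
  have hint2 : U ⊓ U' = Y ⊓ Subgroup.center L := by
    refine le_antisymm ((inf_le_inf inf_le_right (hU'e ▸ inf_le_right)).trans hYZ.le) fun z hz => ?_
    exact ⟨⟨hZO hz.2, hz.1⟩, z, ⟨hZO hz.2, hz.1⟩, hgZ z hz.2⟩
  -- commutators
  have hUU' : ⁅U, U'⁆ ≤ Y ⊓ Subgroup.center L := by
    rw [← hint2, Subgroup.commutator_le]
    intro a ha b hb
    have hb' : b ∈ O ⊓ Y' := hU'e ▸ hb
    refine ⟨?_, ?_⟩
    · exact (hcomm Y hOY a ha.2 b hb'.1 : a * b * a⁻¹ * b⁻¹ ∈ O ⊓ Y)
    · have h1 := hcomm Y' hOY' b hb'.2 a ha.1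
      rw [hU'e, commutatorElement_def, show a * b * a⁻¹ * b⁻¹ = (b * a * b⁻¹ * a⁻¹)⁻¹ by group]
      exact (O ⊓ Y').inv_mem h1
  have hZn : (Y ⊓ Subgroup.center L).Normal := ⟨fun z hz x => by
    rw [Subgroup.mem_center_iff.mp hz.2 x, mul_inv_cancel_right]; exact hz⟩
  have hcl : ∀ a ∈ A, ∀ b ∈ U, ⁅b, a⁆ ∈ ⁅U, U'⁆ := by
    intro a ha b hb
    have hU'N : U' ≤ Subgroup.normalizer (U : Set L) := by
      intro v hv
      refine Subgroup.mem_normalizer_fintype fun u hu => ?_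
      have hv' : v ∈ O := hUU'O (Subgroup.mem_sup_right hv)
      exact ⟨hOn.conj_mem u hu.1 v, (Subgroup.mem_normalizer_iff.mp (hOY hv') u).mp hu.2⟩
    have ha' : a ∈ ((U ⊔ U' : Subgroup L) : Set L) := by rw [← hAeq]; exact ha
    rw [Subgroup.coe_mul_of_right_le_normalizer_left _ _ hU'N] at ha'
    obtain ⟨u, hu, v, hv, rfl⟩ := ha'
    have hmem := Subgroup.commutator_mem_commutator hb hv
    have hcz : u * ⁅b, v⁆ = ⁅b, v⁆ * u := Subgroup.mem_center_iff.mp (hUU' hmem).2 u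
    have e : ⁅b, u * v⁆ = ⁅b, v⁆ := by
      have hbu : b * u = u * b := hYcomm b hb.2 u hu.2
      calc ⁅b, u * v⁆ = (b * u) * v * b⁻¹ * v⁻¹ * u⁻¹ := by rw [commutatorElement_def]; group
        _ = u * ⁅b, v⁆ * u⁻¹ := by rw [hbu, commutatorElement_def]; group
        _ = _ := by rw [hcz, mul_inv_cancel_right]
    rw [e]
    exact hmem
  have hC1 : ⁅A ⊓ Y, A⁆ = ⁅U, U'⁆ := by
    rw [hAY]
    refine le_antisymm (Subgroup.commutator_le.mpr fun b hb a ha => hcl a ha b hb) ?_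
    exact Subgroup.commutator_mono le_rfl (hAeq ▸ le_sup_right)
  have hC2 : ⁅A, A⁆ = ⁅U, U'⁆ := by
    refine le_antisymm ?_ (Subgroup.commutator_mono (hAeq ▸ le_sup_left) (hAeq ▸ le_sup_right))
    haveI : (⁅U, U'⁆).Normal := ⟨fun z hz x => by
      rw [Subgroup.mem_center_iff.mp (hUU' hz).2 x, mul_inv_cancel_right]; exact hz⟩
    rw [Subgroup.commutator_le]
    intro a ha b hb
    rw [← QuotientGroup.eq_one_iff, ← QuotientGroup.mk'_apply, map_commutatorElement,
      commutatorElement_eq_one_iff_commute]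
    set f := QuotientGroup.mk' ⁅U, U'⁆ with hf
    have hab : ∀ x ∈ U, ∀ y ∈ A, Commute (f x) (f y) := fun x hx y hy => by
      rw [← commutatorElement_eq_one_iff_commute, ← map_commutatorElement, hf,
        QuotientGroup.mk'_apply, QuotientGroup.eq_one_iff]
      exact hcl y hy x hx
    have hle : A ≤ (Subgroup.centralizer ((A.map f : Subgroup _) : Set (L ⧸ ⁅U, U'⁆))).comap f := by
      rw [hAeq, sup_le_iff, ← hAeq]
      refine ⟨fun x hx => ?_, fun x hx => ?_⟩
      · rintro _ ⟨y, hy, rfl⟩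
        exact (hab x hx y hy).eq.symm
      · rintro _ ⟨y, hy, rfl⟩
        have hy' : y ∈ ((U ⊔ U' : Subgroup L) : Set L) := by rw [← hAeq]; exact hy
        have hU'N : U' ≤ Subgroup.normalizer (U : Set L) := by
          intro v hv
          refine Subgroup.mem_normalizer_fintype fun u hu => ?_
          have hv' : v ∈ O := hUU'O (Subgroup.mem_sup_right hv)
          exact ⟨hOn.conj_mem u hu.1 v, (Subgroup.mem_normalizer_iff.mp (hOY hv') u).mp hu.2⟩
        rw [Subgroup.coe_mul_of_right_le_normalizer_left _ _ hU'N] at hy'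
        obtain ⟨u, hu, v, hv, rfl⟩ := hy'
        have h1 : Commute (f u) (f x) := hab u hu x (hAeq ▸ Subgroup.mem_sup_right hx)
        have h2 : Commute (f v) (f x) := by
          obtain ⟨v₀, hv₀, rfl⟩ := hv
          obtain ⟨x₀, hx₀, rfl⟩ := hx
          exact (show Commute ((MulAut.conj g).toMonoidHom v₀) ((MulAut.conj g).toMonoidHom x₀)
            from (show Commute v₀ x₀ from hYcomm _ hv₀.2 _ hx₀.2).map _).map f
        rw [map_mul]
        exact (h1.mul_left h2).eq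
    exact (hle hb (f a) (Subgroup.mem_map_of_mem f ha))
  have hAp : IsPGroup p A := (CfsgLib.Fitting.pCore_isPGroup p).to_le hAO
  have hΦ : (frattini ↥A).map A.subtype = ⁅A, A⁆ := by
    refine le_antisymm ?_ ?_
    · rw [← Subgroup.map_subtype_commutator]
      refine Subgroup.map_mono (CfsgLib.Critical.frattini_le_of_elementary (p := p) _ le_rfl fun x => ?_)
      let ψ : A →* Abelianization A := (powMonoidHom p).comp Abelianization.of
      have hψ : ∀ x : A, (x : L) ^ p = 1 → x ∈ ψ.ker := fun x hx => by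
        show (Abelianization.of x) ^ p = 1
        rw [← map_pow, show x ^ p = 1 from Subtype.ext hx, map_one]
      have hall : (⊤ : Subgroup A).map A.subtype ≤ ψ.ker.map A.subtype := by
        rw [← MonoidHom.range_eq_map, Subgroup.range_subtype]
        calc A = U ⊔ U' := hAeq
          _ ≤ ψ.ker.map A.subtype := by
            refine sup_le (fun u hu => ⟨⟨u, hAeq ▸ Subgroup.mem_sup_left hu⟩,
              hψ _ (hYel.2 u hu.2), rfl⟩) ?_
            rintro _ ⟨u, hu, rfl⟩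
            refine ⟨⟨_, hAeq ▸ Subgroup.mem_sup_right (Subgroup.mem_map_of_mem _ hu)⟩, hψ _ ?_, rfl⟩
            show ((MulAut.conj g).toMonoidHom u) ^ p = 1
            rw [← map_pow, hYel.2 u hu.2, map_one]
      have hx : x ∈ ψ.ker :=
        (Subgroup.map_le_map_iff_of_injective A.subtype_injective).mp hall (Subgroup.mem_top x)
      rw [← Abelianization.ker_of, MonoidHom.mem_ker, map_pow]
      exact hx
    · rw [← Subgroup.map_subtype_commutator]
      exact Subgroup.map_mono (CfsgLib.PSolvable.commutator_le_frattini hAp).1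
  refine ⟨hΦ, hC2.trans hC1.symm, ?_, ?_, hYZ, ?_, ?_⟩
  · rw [hC1, hAY, hAY']
  · rw [hC1]; exact hUU'
  · rw [hAY, hAY', hint2]
  · apply le_antisymm <;> intro z hz <;> refine ⟨?_, hz.2⟩
    · have hz' : z ∈ ((U ⊔ U' : Subgroup L) : Set L) := by rw [← hAeq]; exact hz.1
      have hU'N : U' ≤ Subgroup.normalizer (U : Set L) := by
        intro v hv
        refine Subgroup.mem_normalizer_fintype fun u hu => ?_
        have hv' : v ∈ O := hUU'O (Subgroup.mem_sup_right hv)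
        exact ⟨hOn.conj_mem u hu.1 v, (Subgroup.mem_normalizer_iff.mp (hOY hv') u).mp hu.2⟩
      rw [Subgroup.coe_mul_of_right_le_normalizer_left _ _ hU'N] at hz'
      obtain ⟨u, hu, v, hv, rfl⟩ := hz'
      have hv' : v ∈ O ⊓ Y' := hU'e ▸ hv
      have hvc : v ∈ Subgroup.centralizer ({v} : Set L) :=
        Subgroup.mem_centralizer_singleton_iff.mpr rfl
      have hle : Y ⊔ Y' ≤ Subgroup.centralizer ({v} : Set L) := by
        refine sup_le (fun y hy => Subgroup.mem_centralizer_singleton_iff.mpr ?_) ?_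
        · have h1 : Commute y u := hYcomm y hy u hu.2
          have h2 : Commute y (u * v) := Subgroup.mem_center_iff.mp hz.2 y
          have h3 := h1.inv_right.mul_right h2
          rw [inv_mul_cancel_left] at h3
          exact h3.eq
        · rintro _ ⟨y, hy, rfl⟩
          obtain ⟨v₀, hv₀, rfl⟩ := hv
          refine Subgroup.mem_centralizer_singleton_iff.mpr ?_
          rw [← map_mul, ← map_mul, hYcomm y hy v₀ hv₀.2]
      have hvZ : v ∈ Subgroup.center L := Subgroup.mem_center_iff.mpr fun x =>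
        Subgroup.mem_centralizer_singleton_iff.mp (hle (hYY' ▸ Subgroup.mem_top x))
      have hvY : v ∈ Y := by
        obtain ⟨v₀, hv₀, rfl⟩ := hv
        have hv₀Z : v₀ ∈ Subgroup.center L := by
          have := Subgroup.Normal.conj_mem (inferInstance : (Subgroup.center L).Normal) _ hvZ g⁻¹
          simpa [mul_assoc] using this
        show g * v₀ * g⁻¹ ∈ Y
        rw [hgZ v₀ hv₀Z]
        exact hv₀.2
      exact Y.mul_mem hu.2 hvY
    · rw [hAeq]; exact Subgroup.mem_sup_left ⟨hZO hz.2, hz.1⟩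

end Cfsg.Agent.S2837
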