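import Cfsg.Statements.S2838
import Mathlib
import Cfsg.Agent.Lib.WeaklyClosed.Basic

set_option linter.style.haveILetI false

set_option autoImplicit false
open Cfsg CfsgLib.Transfer CfsgLib.WeaklyClosed
open scoped commutatorElement

namespace Cfsg.Agent.S2838

/-- For a nontrivial p-subgroup Q of a finite group H the following are equivalent: Q is a weakly closed subgroup (it is the only H-conjugate of itself inside some Sylow p-subgroup containing it); Q = P for every conjugate P of Q with [Q, P] ≤ Q ∩ P; Q is normal in N_H(R) for every p-subgroup R of H containing Q. -/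
theorem result {H : Type*} [Group H] [Finite H] {p : ℕ} [Fact p.Prime] (Q : Subgroup H) (hQp : IsPGroup p ↥Q) (hQ1 : Q ≠ ⊥) : (Cfsg.IsWeaklyClosedSubgroup p Q ↔ ∀ g : H, ⁅Q, ((Q : Subgroup H).map (MulAut.conj (g : H)).toMonoidHom)⁆ ≤ Q ⊓ ((Q : Subgroup H).map (MulAut.conj (g : H)).toMonoidHom) → ((Q : Subgroup H).map (MulAut.conj (g : H)).toMonoidHom) = Q) ∧ (Cfsg.IsWeaklyClosedSubgroup p Q ↔ ∀ R : Subgroup H, IsPGroup p ↥R → Q ≤ R → Subgroup.normalizer ((R : Subgroup H) : Set H) ≤ Subgroup.normalizer ((Q : Subgroup H) : Set H)) := by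
  refine ⟨⟨fun hwc g hg => ?_, fun h => ?_⟩, ⟨fun hwc R hR hQR n hn => ?_, fun h => ?_⟩⟩
  · have hn1 : Q ≤ Subgroup.normalizer ((Q.map (MulAut.conj g).toMonoidHom : Subgroup H) : Set H) :=
      fun q hq => by
        refine Subgroup.mem_normalizer_iff.mpr fun x => ⟨fun hx => ?_, fun hx => ?_⟩
        · have h1 := (hg (Subgroup.commutator_mem_commutator hq hx)).2
          have := mul_mem h1 hx
          rwa [commutatorElement_def, inv_mul_cancel_right] at this
        · have h1 := (hg (Subgroup.commutator_mem_commutator (inv_mem hq) hx)).2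
          have := mul_mem h1 hx
          simpa [commutatorElement_def, mul_assoc] using this
    exact conj_eq hwc (hQp.to_sup_of_normal_right' (hQp.map _) hn1) le_sup_left le_sup_right
  · have hN : ∀ (R : Subgroup H), IsPGroup p R → Q ≤ R → R ≤ Subgroup.normalizer (Q : Set H) := by
      intro R hR hQR
      by_contra hne
      have hlt : R ⊓ Subgroup.normalizer (Q : Set H) < R := lt_of_le_of_ne inf_le_left
        fun e => hne (inf_eq_left.mp e)
      haveI : Group.IsNilpotent R := hR.isNilpotent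
      have h1 := Group.normalizerCondition_of_isNilpotent (G := R)
        ((R ⊓ Subgroup.normalizer (Q : Set H)).subgroupOf R) (lt_top_iff_ne_top.mpr (by
          rw [Ne, Subgroup.subgroupOf_eq_top]; exact not_le_of_gt hlt))
      obtain ⟨⟨n, hnR⟩, hn, hn'⟩ := SetLike.exists_of_lt h1
      refine hn' ⟨hnR, map_conj_eq_self_iff.mp (h n ?_)⟩
      have hM : ∀ x ∈ R, x ∈ Subgroup.normalizer (Q : Set H) →
          n * x * n⁻¹ ∈ Subgroup.normalizer (Q : Set H) := fun x hx hxN =>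
        ((Subgroup.mem_normalizer_iff.mp hn ⟨x, hx⟩).mp ⟨hx, hxN⟩).2
      have hM' : ∀ x ∈ R, x ∈ Subgroup.normalizer (Q : Set H) →
          n⁻¹ * x * n ∈ Subgroup.normalizer (Q : Set H) := fun x hx hxN =>
        ((Subgroup.mem_normalizer_iff''.mp hn ⟨x, hx⟩).mp ⟨hx, hxN⟩).2
      refine Subgroup.commutator_le.mpr ?_
      rintro a ha _ ⟨b, hb, rfl⟩
      change ⁅a, n * b * n⁻¹⁆ ∈ _
      refine ⟨?_, ?_⟩
      · have h2 := hM b (hQR hb) (Subgroup.le_normalizer hb)
        rw [commutatorElement_def,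
          show a * (n * b * n⁻¹) * a⁻¹ * (n * b * n⁻¹)⁻¹ = a * ((n * b * n⁻¹) * a⁻¹ * (n * b * n⁻¹)⁻¹) by
            group]
        exact mul_mem ha ((Subgroup.mem_normalizer_iff.mp h2 _).mp (inv_mem ha))
      · refine ⟨n⁻¹ * a * n * b * (n⁻¹ * a * n)⁻¹ * b⁻¹, mul_mem ?_ (inv_mem hb), ?_⟩
        · exact (Subgroup.mem_normalizer_iff.mp (hM' a (hQR ha) (Subgroup.le_normalizer ha)) b).mp hb
        · show n * (n⁻¹ * a * n * b * (n⁻¹ * a * n)⁻¹ * b⁻¹) * n⁻¹ = _
          rw [commutatorElement_def]; group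
    obtain ⟨T, hT⟩ := hQp.exists_le_sylow
    refine ⟨T, hT, fun g hg => h g (Subgroup.commutator_le.mpr ?_)⟩
    rintro a ha _ ⟨b, hb, rfl⟩
    change ⁅a, g * b * g⁻¹⁆ ∈ _
    have h1 : g * b * g⁻¹ ∈ Subgroup.normalizer (Q : Set H) := hN _ T.2 hT (hg ⟨b, hb, rfl⟩)
    have h2 : (T : Subgroup H).map (MulAut.conj g⁻¹).toMonoidHom ≤ Subgroup.normalizer (Q : Set H) := by
      refine hN _ (T.2.map _) ?_
      intro q hq
      rw [mem_conj_map_iff, inv_inv]
      exact hg ⟨q, hq, rfl⟩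
    have h3 : g⁻¹ * a * g ∈ Subgroup.normalizer (Q : Set H) :=
      h2 ⟨a, hT ha, by simp⟩
    refine ⟨?_, g⁻¹ * a * g * b * (g⁻¹ * a * g)⁻¹ * b⁻¹,
      mul_mem ((Subgroup.mem_normalizer_iff.mp h3 b).mp hb) (inv_mem hb), ?_⟩
    · rw [commutatorElement_def,
        show a * (g * b * g⁻¹) * a⁻¹ * (g * b * g⁻¹)⁻¹ = a * ((g * b * g⁻¹) * a⁻¹ * (g * b * g⁻¹)⁻¹) by
          group]
      exact mul_mem ha ((Subgroup.mem_normalizer_iff.mp h1 _).mp (inv_mem ha))
    · show g * (g⁻¹ * a * g * b * (g⁻¹ * a * g)⁻¹ * b⁻¹) * g⁻¹ = _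
      rw [commutatorElement_def]; group
  · refine map_conj_eq_self_iff.mp (conj_eq hwc hR hQR ?_)
    conv_rhs => rw [← map_conj_eq_self_iff.mpr hn]
    exact Subgroup.map_mono hQR
  · obtain ⟨T, hT⟩ := hQp.exists_le_sylow
    have hTN : ∀ R : Subgroup H, IsPGroup p R → Q ≤ R → R ≤ Subgroup.normalizer (Q : Set H) :=
      fun R hR hQR => Subgroup.le_normalizer.trans (h R hR hQR)
    refine ⟨T, hT, fun g hg => ?_⟩
    have h1 : ((g⁻¹ • T : Sylow p H) : Subgroup H) ≤ Subgroup.normalizer (Q : Set H) := by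
      refine hTN _ (g⁻¹ • T).2 ?_
      intro q hq
      rw [mem_smul_sylow, inv_inv]
      exact hg ⟨q, hq, rfl⟩
    obtain ⟨n, hn, hle⟩ := exists_conj_le_of_not_dvd_relIndex (hTN _ T.2 hT) T.2
      (fun hd => T.not_dvd_index (hd.trans (Subgroup.relIndex_dvd_index_of_le (hTN _ T.2 hT))))
      h1 (g⁻¹ • T).2
    rw [smul_sylow_coe, map_conj_mul] at hle
    have heq : (T : Subgroup H).map (MulAut.conj (n * g⁻¹)).toMonoidHom = (T : Subgroup H) :=
      Subgroup.eq_of_le_of_card_ge hle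
        (by rw [Subgroup.card_map_of_injective (MulAut.conj _).injective])
    have h2 := h _ T.2 hT (map_conj_eq_self_iff.mp heq)
    refine map_conj_eq_self_iff.mpr ?_
    have h3 := inv_mem (mul_mem (inv_mem hn) h2)
    simpa using h3

end Cfsg.Agent.S2838
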