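import Cfsg.Statements.S2839
import Mathlib
import Cfsg.Agent.Lib.WeaklyClosed.Basic
import Cfsg.Agent.Lib.Transfer.Basic
import Cfsg.Agent.Lib.Fitting.Basic

set_option linter.style.haveILetI false

set_option autoImplicit false
open Cfsg CfsgLib.Transfer CfsgLib.WeaklyClosed
open scoped commutatorElement

namespace Cfsg.Agent.S2839

/-- Let Q be a nontrivial p-subgroup of the finite group H that is a weakly closed subgroup, K a subgroup containing Q and N a normal subgroup of H. Then Q is a weakly closed subgroup of K; every H-conjugate of Q contained in K is a K-conjugate of Q; N_K(Q) contains a Sylow p-subgroup of K; N = N_N(Q)·O^p(N); and QN/N is a weakly closed subgroup of H/N. -/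
theorem result {H : Type*} [Group H] [Finite H] {p : ℕ} [Fact p.Prime] (Q : Subgroup H) (hQp : IsPGroup p ↥Q) (hQ1 : Q ≠ ⊥) (hwc : Cfsg.IsWeaklyClosedSubgroup p Q) (K : Subgroup H) (hQK : Q ≤ K) (N' : Subgroup H) [N'.Normal] : Cfsg.IsWeaklyClosedSubgroup p (Q.subgroupOf K) ∧ (∀ g : H, ((Q : Subgroup H).map (MulAut.conj (g : H)).toMonoidHom) ≤ K → ∃ k ∈ K, ((Q : Subgroup H).map (MulAut.conj (g : H)).toMonoidHom) = ((Q : Subgroup H).map (MulAut.conj (k : H)).toMonoidHom)) ∧ Cfsg.IsParabolic p ((Subgroup.normalizer ((Q : Subgroup H) : Set H)).subgroupOf K) ∧ (N' ⊓ Subgroup.normalizer ((Q : Subgroup H) : Set H)) ⊔ (Cfsg.pResidual p ↥N').map N'.subtype = N' ∧ Cfsg.IsWeaklyClosedSubgroup p (Q.map (QuotientGroup.mk' N')) := by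
  refine ⟨?_, fun g hg => exists_conj_eq hwc hQp hQK hg, ?_, ?_, ?_⟩
  · obtain ⟨P, hP⟩ := exists_sylow_overgroup hQp K hQK
    refine ⟨P, fun x hx => ?_, fun k hk => ?_⟩
    · obtain ⟨y, hy, e⟩ := hP hx
      rwa [← K.subtype_injective e]
    · apply Subgroup.map_injective K.subtype_injective
      have e : ((Q.subgroupOf K).map (MulAut.conj k).toMonoidHom).map K.subtype =
          Q.map (MulAut.conj (k : H)).toMonoidHom := by
        conv_rhs => rw [← Subgroup.map_subgroupOf_eq_of_le hQK]
        rw [Subgroup.map_map, Subgroup.map_map]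
        rfl
      rw [e, Subgroup.map_subgroupOf_eq_of_le hQK]
      exact conj_eq hwc (P.2.map K.subtype) hP (e ▸ Subgroup.map_mono hk)
  · obtain ⟨P, hP⟩ := exists_sylow_overgroup hQp K hQK
    exact ⟨P, fun x hx => le_normalizer hwc (P.2.map K.subtype) hP ⟨x, hx, rfl⟩⟩
  · obtain ⟨T, hQT, hT⟩ := id hwc
    haveI : (Cfsg.pResidual p ↥N').Normal := pResidual_normal p _
    refine le_antisymm (sup_le inf_le_left (Subgroup.map_subtype_le _)) ?_
    have hidx : ¬ p ∣ (((T : Subgroup H) ⊓ N').subgroupOf N').index := by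
      rw [Subgroup.inf_subgroupOf_right]
      exact fun hd => T.not_dvd_index (hd.trans (CfsgLib.Fitting.relIndex_dvd_index_of_normal_right _ _))
    let P : Sylow p N' := ((T.2.to_le (inf_le_left : _ ⊓ N' ≤ _)).comap_of_injective N'.subtype
      N'.subtype_injective).toSylow hidx
    have h1 := sylow_sup_eq_top_of_isPGroup_quotient P (Cfsg.pResidual p ↥N')
      isPGroup_quotient_pResidual
    have h2 := congrArg (Subgroup.map N'.subtype) h1
    rw [Subgroup.map_sup, ← MonoidHom.range_eq_map, Subgroup.range_subtype] at h2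
    conv_lhs => rw [← h2]
    refine sup_le_sup_right ?_ _
    rintro _ ⟨x, hx, rfl⟩
    exact ⟨x.2, le_normalizer hwc T.2 hQT (Subgroup.mem_inf.mp hx).1⟩
  · obtain ⟨T, hQT, hT⟩ := id hwc
    set π := QuotientGroup.mk' N' with hπ
    have hπs : Function.Surjective π := QuotientGroup.mk'_surjective N'
    refine ⟨T.mapSurjective hπs, Subgroup.map_mono hQT, fun g hg => ?_⟩
    obtain ⟨g, rfl⟩ := hπs g
    have e : ∀ h : H, (Q.map (MulAut.conj h).toMonoidHom).map π =
        (Q.map π).map (MulAut.conj (π h)).toMonoidHom := by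
      intro h
      rw [Subgroup.map_map, Subgroup.map_map]
      congr 1
    rw [← e] at hg ⊢
    have hle : Q.map (MulAut.conj g).toMonoidHom ≤ (T : Subgroup H) ⊔ N' := by
      have := Subgroup.map_le_iff_le_comap.mp hg
      rwa [Sylow.coe_mapSurjective, Subgroup.comap_map_eq, hπ, QuotientGroup.ker_mk'] at this
    obtain ⟨k, hk, hk'⟩ := exists_conj_eq hwc hQp (hQT.trans le_sup_left) hle
    rw [hk', e]
    rw [Subgroup.mem_sup_of_normal_right] at hk
    obtain ⟨t, ht, n, hn, rfl⟩ := hk
    rw [map_mul, show π n = 1 from (QuotientGroup.eq_one_iff n).mpr hn, mul_one, ← e,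
      map_conj_eq_self_iff.mpr (le_normalizer hwc T.2 hQT ht)]

end Cfsg.Agent.S2839
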