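import Cfsg.Statements.S2840
import Mathlib
import Cfsg.Agent.Lib.WeaklyClosed.Basic

set_option linter.style.haveILetI false

set_option autoImplicit false
open Cfsg CfsgLib.Transfer CfsgLib.WeaklyClosed
open scoped commutatorElement

namespace Cfsg.Agent.S2840

/-- Let Q be a nontrivial p-subgroup of the finite group H that is a weakly closed subgroup and K a subgroup containing Q; let K° be the weak closure of Q in K (generated by the H-conjugates of Q inside K). Then K° is generated by the K-conjugates of Q, and K° is the subnormal closure of Q in K. -/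
theorem result {H : Type*} [Group H] [Finite H] {p : ℕ} [Fact p.Prime] (Q : Subgroup H) (hQp : IsPGroup p ↥Q) (hQ1 : Q ≠ ⊥) (hwc : Cfsg.IsWeaklyClosedSubgroup p Q) (K : Subgroup H) (hQK : Q ≤ K) (Kc : Subgroup H) (hKc : Kc = Cfsg.weakClosure Q K) : Kc = ⨆ k : ↥K, ((Q : Subgroup H).map (MulAut.conj ((k : H) : H)).toMonoidHom) ∧ Kc = (Cfsg.subnormalClosure (Q.subgroupOf K)).map K.subtype := by
  have hQle : Q ≤ Q.map (MulAut.conj ((1 : K) : H)).toMonoidHom := by
    rw [Subgroup.coe_one, map_conj_one]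
  have hKK : ∀ k : K, Q.map (MulAut.conj (k : H)).toMonoidHom ≤ K := by
    rintro k _ ⟨q, hq, rfl⟩
    exact K.mul_mem (K.mul_mem k.2 (hQK hq)) (K.inv_mem k.2)
  have h1 : Kc = ⨆ k : ↥K, Q.map (MulAut.conj (k : H)).toMonoidHom := by
    rw [hKc]
    refine le_antisymm (iSup_le fun ⟨g, hg⟩ => ?_) (iSup_le fun k => ?_)
    · obtain ⟨k, hk, e⟩ := exists_conj_eq hwc hQp hQK hg
      show Q.map (MulAut.conj g).toMonoidHom ≤ _
      rw [e]
      exact le_iSup_of_le (⟨k, hk⟩ : K) le_rfl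
    · exact le_iSup_of_le (⟨(k : H), hKK k⟩ :
        {g : H // Q.map (MulAut.conj g).toMonoidHom ≤ K}) le_rfl
  refine ⟨h1, le_antisymm ?_ ?_⟩
  · have hS : ∀ S : Subgroup K, S.IsSubnormal → Q.subgroupOf K ≤ S →
        ∀ k : K, Q.map (MulAut.conj (k : H)).toMonoidHom ≤ S.map K.subtype := by
      intro S hS
      induction hS with
      | top =>
        intro _ k
        rw [← MonoidHom.range_eq_map, Subgroup.range_subtype]
        exact hKK k
      | step S S₁ hle _ hN ih =>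
        intro hQS k
        have hQS' : Q ≤ S.map K.subtype := fun q hq => ⟨⟨q, hQK hq⟩, hQS hq, rfl⟩
        obtain ⟨_, ⟨s, hs, rfl⟩, e⟩ := exists_conj_eq hwc hQp (K := S₁.map K.subtype)
          (hQS'.trans (Subgroup.map_mono hle)) (ih (hQS.trans hle) k)
        rw [e]
        rintro _ ⟨q, hq, rfl⟩
        refine ⟨s * ⟨q, hQK hq⟩ * s⁻¹, ?_, rfl⟩
        exact hN.conj_mem ⟨⟨q, hQK hq⟩, hle (hQS hq)⟩ (hQS hq) ⟨s, hs⟩
    rw [h1]
    refine iSup_le fun k => ?_
    rintro _ ⟨q, hq, rfl⟩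
    refine ⟨k * ⟨q, hQK hq⟩ * k⁻¹, Subgroup.mem_sInf.mpr fun S hS' => ?_, rfl⟩
    obtain ⟨y, hy, e⟩ := hS S hS'.2 hS'.1 k ⟨q, hq, rfl⟩
    have e' : y = k * ⟨q, hQK hq⟩ * k⁻¹ := Subtype.ext e
    rwa [e'] at hy
  · have hle : Kc ≤ K := h1 ▸ iSup_le hKK
    conv_rhs => rw [← Subgroup.map_subgroupOf_eq_of_le hle]
    refine Subgroup.map_mono (sInf_le ⟨?_, ?_⟩)
    · exact fun x hx => Subgroup.mem_subgroupOf.mpr (h1 ▸ Subgroup.mem_iSup_of_mem 1 (hQle hx))
    · refine Subgroup.Normal.isSubnormal ((Subgroup.normal_subgroupOf_iff_le_normalizer hle).mpr ?_)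
      intro a ha
      refine map_conj_eq_self_iff.mp ?_
      rw [h1, Subgroup.map_iSup]
      refine le_antisymm (iSup_le fun k => ?_) (iSup_le fun k => ?_)
      · rw [map_conj_mul]
        exact le_iSup_of_le (⟨a, ha⟩ * k : K) le_rfl
      · refine le_iSup_of_le ((⟨a, ha⟩ : K)⁻¹ * k) ?_
        rw [map_conj_mul, Subgroup.coe_mul, Subgroup.coe_inv, mul_inv_cancel_left]

end Cfsg.Agent.S2840
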