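import Cfsg.Statements.S2841
import Cfsg.Agent.Lib.PReduced.Largest
import Cfsg.Agent.Lib.Transfer.Sylow

set_option autoImplicit false
open Cfsg CfsgLib

namespace Cfsg.Agent.S2841

open scoped commutatorElement

theorem map_conj_eq {H : Type*} [Group H] {K : Subgroup H} {a : H}
    (ha : a ∈ Subgroup.normalizer (K : Set H)) : K.map (MulAut.conj a).toMonoidHom = K := by
  ext x
  rw [Transfer.mem_conj_map_iff]
  exact (Subgroup.mem_normalizer_iff''.mp ha x).symm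

/-- Frattini argument for a weakly closed subgroup `Q`, which normalizes `C`. -/
theorem split {H : Type*} [Group H] [Finite H] {p : ℕ} [Fact p.Prime] {Q C : Subgroup H}
    (hQp : IsPGroup p Q) (hwc : Cfsg.IsWeaklyClosedSubgroup p Q)
    (hQC : Q ≤ Subgroup.normalizer (C : Set H)) {n : H} (hn : ∀ q ∈ Q, n * q * n⁻¹ ∈ Q ⊔ C) :
    ∃ a ∈ Subgroup.normalizer (Q : Set H), ∃ c ∈ C, n = c * a := by
  set K := Q ⊔ C with hK
  obtain ⟨P, hP⟩ :=
    (hQp.comap_of_injective K.subtype K.subtype_injective : IsPGroup p (Q.subgroupOf K)).exists_le_sylow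
  have hnK : Q.map (MulAut.conj n).toMonoidHom ≤ K := by
    rintro _ ⟨q, hq, rfl⟩
    exact hn q hq
  obtain ⟨k, hk⟩ := Transfer.exists_map_conj_le_sylow
    ((hQp.map (MulAut.conj n).toMonoidHom).comap_of_injective K.subtype K.subtype_injective :
      IsPGroup p ((Q.map (MulAut.conj n).toMonoidHom).subgroupOf K)) P
  obtain ⟨T', hT'⟩ := (P.2.map K.subtype).exists_le_sylow
  obtain ⟨T, hQT, hT⟩ := hwc
  obtain ⟨h, rfl⟩ := MulAction.exists_smul_eq H T T'
  have hwc' : ∀ g : H, Q.map (MulAut.conj g).toMonoidHom ≤ ((h • T : Sylow p H) : Subgroup H) →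
      h⁻¹ * g ∈ Subgroup.normalizer (Q : Set H) := by
    intro g hg
    have h1 : Q.map (MulAut.conj (h⁻¹ * g)).toMonoidHom = Q := hT _ (by
      rintro _ ⟨q, hq, rfl⟩
      have h2 := hg (Subgroup.mem_map_of_mem _ hq)
      rw [Sylow.coe_subgroup_smul, Subgroup.mem_pointwise_smul_iff_inv_smul_mem] at h2
      simpa [MulAut.smul_def, MulAut.conj_apply, mul_assoc] using h2)
    rw [Subgroup.mem_normalizer_iff'']
    intro x
    conv_lhs => rw [← h1]
    exact Transfer.mem_conj_map_iff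
  have hh := hwc' 1 (by
    rintro _ ⟨q, hq, rfl⟩
    refine hT' ⟨⟨q, Subgroup.mem_sup_left hq⟩, hP hq, ?_⟩
    simp)
  have hkn := hwc' ((k : H) * n) (by
    rintro _ ⟨q, hq, rfl⟩
    refine hT' ⟨k * ⟨n * q * n⁻¹, hn q hq⟩ * k⁻¹, hk ⟨⟨n * q * n⁻¹, hn q hq⟩, ⟨q, hq, rfl⟩, rfl⟩,
      ?_⟩
    simp [mul_assoc])
  have h3 : (k : H) * n ∈ Subgroup.normalizer (Q : Set H) := by
    simpa [mul_assoc] using mul_mem (inv_mem hh) hkn
  obtain ⟨q, hq, c, hc, e⟩ := PReduced.exists_mul_of_mem_sup hQC k.2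
  have h4 := mul_mem (inv_mem (Subgroup.le_normalizer hq)) h3
  rw [← e] at h4
  refine ⟨c * n, by simpa [← mul_assoc] using h4, c⁻¹, C.inv_mem hc, by group⟩

/-- Let Q be a nontrivial p-subgroup of the finite group H that is a weakly closed subgroup and N a normal subgroup of H. Then N = N_N(Q)·[N, Q] and [N, Q] = (Q ∩ [N, Q])·[N, Q, Q]. -/
theorem result {H : Type*} [Group H] [Finite H] {p : ℕ} [Fact p.Prime] (Q : Subgroup H) (hQp : IsPGroup p ↥Q) (hQ1 : Q ≠ ⊥) (hwc : Cfsg.IsWeaklyClosedSubgroup p Q) (N' : Subgroup H) [N'.Normal] : (∀ n : H, n ∈ N' → ∃ a ∈ N' ⊓ Subgroup.normalizer ((Q : Subgroup H) : Set H), ∃ b ∈ ⁅N', Q⁆, n = a * b) ∧ (∀ c : H, c ∈ ⁅N', Q⁆ → ∃ a ∈ Q ⊓ ⁅N', Q⁆, ∃ b ∈ ⁅⁅N', Q⁆, Q⁆, c = a * b) := by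
  set C := ⁅N', Q⁆ with hC
  have hQC : Q ≤ Subgroup.normalizer (C : Set H) := Subgroup.normalizer_commutator_ge_right N' Q
  have hNC : N' ≤ Subgroup.normalizer (C : Set H) := Subgroup.normalizer_commutator_ge_left N' Q
  have hCN : C ≤ N' := Subgroup.commutator_le_left N' Q
  have ha : ∀ n : H, n ∈ N' → ∃ a ∈ N' ⊓ Subgroup.normalizer (Q : Set H), ∃ b ∈ C, n = a * b := by
    intro n hn
    obtain ⟨a, ha, c, hc, e⟩ := split hQp hwc hQC (n := n) fun q hq => by
      have h1 := mul_mem (Subgroup.mem_sup_right (Subgroup.commutator_mem_commutator hn hq) :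
        ⁅n, q⁆ ∈ Q ⊔ C) (Subgroup.mem_sup_left hq)
      rwa [commutatorElement_def, inv_mul_cancel_right] at h1
    subst e
    have haN : a ∈ N' := by simpa [← mul_assoc] using N'.mul_mem (N'.inv_mem (hCN hc)) hn
    exact ⟨a, ⟨haN, ha⟩, a⁻¹ * c * a, (Subgroup.mem_normalizer_iff''.mp (hNC haN) c).mp hc,
      by group⟩
  refine ⟨ha, fun c hc => ?_⟩
  set D := ⁅C, Q⁆ with hD
  have hle : C ≤ (Q ⊓ C) ⊔ D := by
    refine Subgroup.commutator_le.mpr fun n hn q hq => ?_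
    obtain ⟨a, ⟨haN, haQ⟩, b, hb, rfl⟩ := ha n hn
    have e : ⁅a * b, q⁆ = a * ⁅b, q⁆ * a⁻¹ * ⁅a, q⁆ := by
      simp only [commutatorElement_def]; group
    rw [e]
    refine mul_mem (Subgroup.mem_sup_right ?_) (Subgroup.mem_sup_left ⟨?_, ?_⟩)
    · have h1 : D.map (MulAut.conj a).toMonoidHom = D := by
        rw [hD, Subgroup.map_commutator,
          map_conj_eq (hNC haN), map_conj_eq haQ]
      rw [← h1]
      exact Subgroup.mem_map_of_mem _ (Subgroup.commutator_mem_commutator hb hq)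
    · rw [commutatorElement_def]
      exact Q.mul_mem ((Subgroup.mem_normalizer_iff.mp haQ q).mp hq) (Q.inv_mem hq)
    · exact Subgroup.commutator_mem_commutator haN hq
  obtain ⟨a, ha', b, hb, e⟩ := PReduced.exists_mul_of_mem_sup
    (inf_le_left.trans (Subgroup.normalizer_commutator_ge_right C Q)) (hle hc)
  exact ⟨a, ha', b, hb, e.symm⟩

end Cfsg.Agent.S2841
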