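import Cfsg.Statements.S2843
import Cfsg.Agent.Lib.Layer.Large

set_option autoImplicit false
open Cfsg CfsgLib

namespace Cfsg.Agent.S2843

open scoped commutatorElement

/-- Let Q be a nontrivial large p-subgroup of the finite group H, Q ≤ L ≤ H, and Y a nontrivial p-subgroup of H normalized by L. Let L° be the weak closure of Q in L (generated by the conjugates of Q inside L). Then L° equals the weak closure of Q in L·C_H(Y), and [L°, C_H(Y)] ≤ O_p(L°); in particular C_H(Y) normalizes L°. -/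
theorem result {H : Type*} [Group H] [Finite H] {p : ℕ} [Fact p.Prime] (Q : Subgroup H) (hQp : IsPGroup p ↥Q) (hQ1 : Q ≠ ⊥) (hL : Cfsg.IsLarge Q) (L : Subgroup H) (hQL : Q ≤ L) (Y : Subgroup H) (hYp : IsPGroup p ↥Y) (hY1 : Y ≠ ⊥) (hLY : L ≤ Subgroup.normalizer ((Y : Subgroup H) : Set H)) : Cfsg.weakClosure Q L = Cfsg.weakClosure Q (L ⊔ Subgroup.centralizer ((Y : Subgroup H) : Set H)) ∧ ⁅Cfsg.weakClosure Q L, Subgroup.centralizer ((Y : Subgroup H) : Set H)⁆ ≤ (Cfsg.pCoreOf p (Cfsg.weakClosure Q L)) ∧ Subgroup.centralizer ((Y : Subgroup H) : Set H) ≤ Subgroup.normalizer (((Cfsg.weakClosure Q L) : Subgroup H) : Set H) := by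
  set C := Subgroup.centralizer (Y : Set H) with hC
  have hLC : L ≤ Subgroup.normalizer (C : Set H) := Coprime.le_normalizer_centralizer hLY
  have hCN : ∀ g : H, Q.map (MulAut.conj g).toMonoidHom ≤ L →
      C ≤ Subgroup.normalizer ((Q.map (MulAut.conj g).toMonoidHom : Subgroup H) : Set H) :=
    fun g hg => Large.centralizer_le_normalizer (hQp.map _) (Large.isLarge_map g hL) hYp hY1
      (hg.trans hLY)
  set W := weakClosure Q L with hW
  have hgen : ∀ g : H, Q.map (MulAut.conj g).toMonoidHom ≤ L →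
      Q.map (MulAut.conj g).toMonoidHom ≤ W := fun g hg =>
    le_iSup (fun g : {g : H // Q.map (MulAut.conj g).toMonoidHom ≤ L} =>
      Q.map (MulAut.conj (g : H)).toMonoidHom) ⟨g, hg⟩
  have hWL : W ≤ L := iSup_le fun g => g.2
  have hCW : C ≤ Subgroup.normalizer (W : Set H) := by
    intro c hc
    have hmap : ∀ c ∈ C, W.map (MulAut.conj c).toMonoidHom ≤ W := by
      intro c hc
      rw [hW, weakClosure, Subgroup.map_iSup]
      refine iSup_le fun g => ?_
      refine le_trans (le_of_eq ?_) (hgen g g.2)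
      ext x
      rw [Transfer.mem_conj_map_iff]
      exact (Subgroup.mem_normalizer_iff''.mp (hCN g g.2 hc) x).symm
    rw [Subgroup.mem_normalizer_iff]
    refine fun x => ⟨fun hx => hmap c hc (Subgroup.mem_map_of_mem _ hx), fun hx => ?_⟩
    have h1 := hmap c⁻¹ (C.inv_mem hc) (Subgroup.mem_map_of_mem _ hx)
    simpa [mul_assoc] using h1
  refine ⟨le_antisymm (iSup_le fun g => ?_) (iSup_le fun g => ?_), ?_, hCW⟩
  · exact le_iSup (fun g : {g : H // Q.map (MulAut.conj g).toMonoidHom ≤ L ⊔ C} =>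
      Q.map (MulAut.conj (g : H)).toMonoidHom) ⟨g, g.2.trans le_sup_left⟩
  · obtain ⟨g, hg⟩ := g
    show Q.map (MulAut.conj g).toMonoidHom ≤ W
    set K := L ⊔ C with hK
    obtain ⟨P, hP⟩ :=
      (hQp.comap_of_injective K.subtype K.subtype_injective : IsPGroup p (Q.subgroupOf K)).exists_le_sylow
    obtain ⟨k, hk⟩ := Transfer.exists_map_conj_le_sylow
      ((hQp.map (MulAut.conj g).toMonoidHom).comap_of_injective K.subtype K.subtype_injective :
        IsPGroup p ((Q.map (MulAut.conj g).toMonoidHom).subgroupOf K)) P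
    have hQP : Q ≤ (P : Subgroup K).map K.subtype := fun q hq =>
      ⟨⟨q, Subgroup.mem_sup_left (hQL hq)⟩, hP hq, rfl⟩
    have h1 : Q.map (MulAut.conj ((k : H) * g)).toMonoidHom = Q := by
      refine Large.eq_of_conj hQp hQ1 hL (le_trans ?_
        (Subgroup.le_normalizer.trans (Large.normalizer_le hQ1 hL (P.2.map _) hQP)))
      rintro _ ⟨q, hq, rfl⟩
      refine ⟨k * ⟨g * q * g⁻¹, hg (Subgroup.mem_map_of_mem _ hq)⟩ * k⁻¹,
        hk ⟨⟨g * q * g⁻¹, hg (Subgroup.mem_map_of_mem _ hq)⟩, ⟨q, hq, rfl⟩, rfl⟩, ?_⟩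
      simp [mul_assoc]
    obtain ⟨l, hl, c, hc, e⟩ := PReduced.exists_mul_of_mem_sup hLC (inv_mem k.2)
    have hcQ : c ∈ Subgroup.normalizer (Q : Set H) :=
      Large.centralizer_le_normalizer hQp hL hYp hY1 (hQL.trans hLY) hc
    have e2 : Q.map (MulAut.conj g).toMonoidHom = Q.map (MulAut.conj l).toMonoidHom := by
      ext x
      rw [Transfer.mem_conj_map_iff, Transfer.mem_conj_map_iff,
        Subgroup.mem_normalizer_iff''.mp hcQ (l⁻¹ * x * l)]
      conv_rhs => rw [← h1, Transfer.mem_conj_map_iff]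
      rw [show c⁻¹ * (l⁻¹ * x * l) * c = (l * c)⁻¹ * x * (l * c) by group, e]
      group
    rw [e2]
    refine hgen l ?_
    rintro _ ⟨q, hq, rfl⟩
    exact L.mul_mem (L.mul_mem hl (hQL hq)) (L.inv_mem hl)
  · -- the commutator
    set B := W ⊓ pCoreOf p C with hB
    have hWC : W ≤ Subgroup.normalizer (C : Set H) := hWL.trans hLC
    haveI : (pCore p C).Characteristic :=
      Subgroup.characteristic_iff_map_eq.mpr fun φ => CharCore.map_pCore φ
    have hWB : W ≤ Subgroup.normalizer (B : Set H) := Coprime.le_normalizer_inf_of_le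
      Subgroup.le_normalizer (PSolvable.le_normalizer_map_of_characteristic hWC (pCore p C))
    have hBO : B ≤ pCoreOf p W :=
      PReduced.le_pCoreOf inf_le_left hWB ((PReduced.isPGroup_pCoreOf p C).to_le inf_le_right)
    have hOW : W ≤ Subgroup.normalizer ((pCoreOf p W : Subgroup H) : Set H) :=
      PReduced.le_normalizer_pCoreOf p W
    have key : ∀ w ∈ W, ∀ c ∈ C, ⁅w, c⁆ ∈ pCoreOf p W := by
      intro w hw
      have hw' : w ∈ ⨆ g : {g : H // Q.map (MulAut.conj g).toMonoidHom ≤ L},
          Q.map (MulAut.conj (g : H)).toMonoidHom := hw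
      induction hw' using Subgroup.iSup_induction' with
      | hp g x hx =>
        intro c hc
        refine hBO ⟨?_, ?_⟩
        · rw [commutatorElement_def, mul_assoc x, mul_assoc x]
          exact W.mul_mem (hgen g g.2 hx)
            ((Subgroup.mem_normalizer_iff.mp (hCW hc) _).mp (W.inv_mem (hgen g g.2 hx)))
        · refine PReduced.le_pCoreOf (inf_le_right : Q.map (MulAut.conj (g : H)).toMonoidHom ⊓ C ≤ C)
            (Coprime.le_normalizer_inf_of_le (hCN g g.2) Subgroup.le_normalizer)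
            ((hQp.map _).to_le inf_le_left) ⟨?_, ?_⟩
          · rw [commutatorElement_def, mul_assoc x, mul_assoc x]
            exact Subgroup.mul_mem _ hx
              ((Subgroup.mem_normalizer_iff.mp (hCN g g.2 hc) _).mp (Subgroup.inv_mem _ hx))
          · rw [commutatorElement_def]
            exact C.mul_mem ((Subgroup.mem_normalizer_iff.mp (hWC (hgen g g.2 hx)) c).mp hc)
              (C.inv_mem hc)
      | h1 => intro c _; rw [commutatorElement_one_left]; exact one_mem _
      | hmul x y hx hy ihx ihy =>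
        intro c hc
        rw [show ⁅x * y, c⁆ = x * ⁅y, c⁆ * x⁻¹ * ⁅x, c⁆ by simp only [commutatorElement_def]; group]
        exact mul_mem ((Subgroup.mem_normalizer_iff.mp (hOW hx) _).mp (ihy hy c hc)) (ihx hx c hc)
    exact Subgroup.commutator_le.mpr key

end Cfsg.Agent.S2843
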