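import Cfsg.Statements.S2844
import Cfsg.Agent.Lib.Layer.Large

set_option autoImplicit false
open Cfsg CfsgLib

namespace Cfsg.Agent.S2844

/-- Let Q be a nontrivial large p-subgroup of the finite group H and Q• = O_p(N_H(Q)). Then for every g ∈ H outside N_H(Q): C_H(Q) ∩ C_H(gQg⁻¹) = 1, C_H(Q•) ∩ C_H(gQ•g⁻¹) = 1, Z(Q) ∩ Z(gQg⁻¹) = 1 and Z(Q•) ∩ Z(gQ•g⁻¹) = 1; moreover N_H(Q) = N_H(Q•) and Q• is large in H. -/
theorem result {H : Type*} [Group H] [Finite H] {p : ℕ} [Fact p.Prime] (Q : Subgroup H) (hQp : IsPGroup p ↥Q) (hQ1 : Q ≠ ⊥) (hL : Cfsg.IsLarge Q) (Qb : Subgroup H) (hQb : Qb = Cfsg.largeBullet p Q) : (∀ g : H, g ∉ Subgroup.normalizer ((Q : Subgroup H) : Set H) → Subgroup.centralizer ((Q : Subgroup H) : Set H) ⊓ Subgroup.centralizer ((((Q : Subgroup H).map (MulAut.conj (g : H)).toMonoidHom) : Subgroup H) : Set H) = ⊥ ∧ Subgroup.centralizer ((Qb : Subgroup H) : Set H) ⊓ Subgroup.centralizer ((((Qb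 : Subgroup H).map (MulAut.conj (g : H)).toMonoidHom) : Subgroup H) : Set H) = ⊥ ∧ (Q ⊓ Subgroup.centralizer ((Q : Subgroup H) : Set H)) ⊓ (((Q : Subgroup H).map (MulAut.conj (g : H)).toMonoidHom) ⊓ Subgroup.centralizer ((((Q : Subgroup H).map (MulAut.conj (g : H)).toMonoidHom) : Subgroup H) : Set H)) = ⊥ ∧ (Qb ⊓ Subgroup.centralizer ((Qb : Subgroup H) : Set H)) ⊓ (((Qb : Subgroup H).map (MulAut.conj (g : H)).toMonoidHom) ⊓ Subgroup.centralizer ((((Qb : Subgroup H).map (MulAut.conj (g : H)).toMonoidHom) : Subgroup H) : Set H)) = ⊥) ∧ Subgroup.normalizer ((Q : Subgroup H) : Set H) = Subgroup.normalizer ((Qb : Subgroup H) : Set H) ∧ Cfsg.IsLarge Qb := by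
  set N := Subgroup.normalizer (Q : Set H) with hN
  have hbp : IsPGroup p ↥Qb := hQb ▸ PReduced.isPGroup_pCoreOf p _
  have hQle : Q ≤ Qb := hQb ▸ PReduced.le_pCoreOf Subgroup.le_normalizer le_rfl hQp
  have hNb : N ≤ Subgroup.normalizer (Qb : Set H) := hQb ▸ PReduced.le_normalizer_pCoreOf p N
  have heq : N = Subgroup.normalizer (Qb : Set H) :=
    le_antisymm hNb (Large.normalizer_le hQ1 hL hbp hQle)
  have hb1 : Qb ≠ ⊥ := fun e => hQ1 (le_bot_iff.mp (e ▸ hQle))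
  have hLb : IsLarge Qb := ⟨((Subgroup.centralizer_le hQle).trans hL.1).trans hQle,
    fun U hU hU1 => (hL.2 U (hU.trans (Subgroup.centralizer_le hQle)) hU1).trans hNb⟩
  refine ⟨fun g hg => ?_, heq, hLb⟩
  have h1 : Subgroup.centralizer (Q : Set H) ⊓
      Subgroup.centralizer (Q.map (MulAut.conj g).toMonoidHom : Set H) = ⊥ :=
    by_contra fun h => hg (Large.eq_of_centralizer_inf hQp hQ1 hL h)
  have h2 : Subgroup.centralizer (Qb : Set H) ⊓
      Subgroup.centralizer (Qb.map (MulAut.conj g).toMonoidHom : Set H) = ⊥ :=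
    by_contra fun h => hg (heq ▸ Large.eq_of_centralizer_inf hbp hb1 hLb h)
  exact ⟨h1, h2, le_bot_iff.mp (h1 ▸ inf_le_inf inf_le_right inf_le_right),
    le_bot_iff.mp (h2 ▸ inf_le_inf inf_le_right inf_le_right)⟩

end Cfsg.Agent.S2844
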