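import Cfsg.Statements.S2846
import Cfsg.Agent.Lib.PReduced.BasicProperty
import Cfsg.Agent.S2845
import Cfsg.Agent.S2843
import Cfsg.Agent.Lib.Layer.Large
-- import your own Cfsg.Agent.* helpers here

set_option autoImplicit false
open Cfsg CfsgLib

namespace Cfsg.Agent.S2846

/-- Let Q be a nontrivial large p-subgroup of the finite group H, S a Sylow p-subgroup containing Q, and L a subgroup containing S with O_p(L) ≠ 1 and C_H(O_p(L)) ≤ O_p(L). Then there are a subgroup M containing S having the basic property (M ∈ 𝔐_H, writing Y_X for the largest p-reduced normal subgroup of X and 𝓛_H for the set of subgroups X with O_p(X) ≠ 1 and C_H(O_p(X)) ≤ O_p(X): M ∈ 𝓛_H, M·C_H(Y_M) is the only maximal member of 𝓛_H containing M and its largest p-reduced normal subgroup is again Y_M, C_M(Y_M) is p-closed, and the image of C_M(Y_M) in M/O_p(M) lies in the Frattini subgroup of M/O_p(M)) and a subgroup L* with S ≤ L* ≤ M, O_p(L*) ≠ 1,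 C_H(O_p(L*)) ≤ O_p(L*), such that L·C_H(Y_L) = L*·C_H(Y_L), the weak closures of Q in L and in L* agree and lie in that of M, and Y_L = Y_{L*} ≤ Y_M. If moreover Q is not normal in L, then Q is normal in neither L* nor M. -/
theorem result {H : Type*} [Group H] [Finite H] {p : ℕ} [Fact p.Prime] (Q : Subgroup H) (hQp : IsPGroup p ↥Q) (hQ1 : Q ≠ ⊥) (hLg : Cfsg.IsLarge Q) (S : Sylow p H) (hQS : Q ≤ (S : Subgroup H)) (L : Subgroup H) (hSL : (S : Subgroup H) ≤ L) (hL : L ∈ Cfsg.charPSubgroups p H) : ∃ M Ls : Subgroup H, (S : Subgroup H) ≤ M ∧ Cfsg.IsInFrakM p M ∧ (S : Subgroup H) ≤ Ls ∧ Ls ≤ M ∧ Ls ∈ Cfsg.charPSubgroups p H ∧ L ⊔ Subgroup.centralizer (((Cfsg.largestPReducedOf p L) : Subgroup H) : Set H) = Ls ⊔ Subgroup.centralizer (((Cfsg.largestPReducedOf p L) : Subgroup H) : Set H) ∧ Cfsg.weakClosure Q L = Cfsg.weakClosure Q Ls ∧ Cfsg.weakClosure Q Ls ≤ Cfsg.weakClosure Q M ∧ (Cfsg.largestPReducedOf p L) = (Cfsg.largestPReducedOf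 p Ls) ∧ (Cfsg.largestPReducedOf p Ls) ≤ (Cfsg.largestPReducedOf p M) ∧ (¬ L ≤ Subgroup.normalizer ((Q : Subgroup H) : Set H) → ¬ Ls ≤ Subgroup.normalizer ((Q : Subgroup H) : Set H) ∧ ¬ M ≤ Subgroup.normalizer ((Q : Subgroup H) : Set H)) := by
  obtain ⟨M, Ls, hSM, hM, hSLs, hLsM, hLsc, hY, hYM, hfac⟩ :=
    PReduced.exists_basic_member (S2845.result Q hQp hQ1 hLg).2.2 S L hSL hL
  have hY1 : Cfsg.largestPReducedOf p L ≠ ⊥ :=
    PReduced.largestOf_ne_bot S hSL hL.1 (PReduced.cp_of_mem_charP hL)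
  have hYp : IsPGroup p (Cfsg.largestPReducedOf p L) :=
    PReduced.isPGroup_of_elementary (PReduced.largestOf_elementary p L)
  have h1 := (S2843.result Q hQp hQ1 hLg L (hQS.trans hSL) _ hYp hY1 (PReduced.le_normalizer_largestOf p L)).1
  have h2 := (S2843.result Q hQp hQ1 hLg Ls (hQS.trans hSLs) _ hYp hY1
    (hY ▸ PReduced.le_normalizer_largestOf p Ls)).1
  rw [hfac] at h1
  have hwc : Cfsg.weakClosure Q L = Cfsg.weakClosure Q Ls := h1.trans h2.symm
  have hone : ∀ X : Subgroup H, (S : Subgroup H) ≤ X →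
      Q.map (MulAut.conj (1 : H)).toMonoidHom ≤ X := fun X hX => by
    rintro _ ⟨x, hx, rfl⟩
    simpa using hX (hQS hx)
  have hkey : Ls ≤ Subgroup.normalizer (Q : Set H) → L ≤ Subgroup.normalizer (Q : Set H) := by
    intro hLsN
    have hQW : Q ≤ Cfsg.weakClosure Q Ls := fun x hx =>
      le_iSup (fun g : {g : H // Q.map (MulAut.conj g).toMonoidHom ≤ Ls} =>
        Q.map (MulAut.conj (g : H)).toMonoidHom) ⟨1, hone Ls hSLs⟩ ⟨x, hx, by simp⟩
    have hWQ : Cfsg.weakClosure Q Ls = Q := le_antisymm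
      (iSup_le fun g => (Large.eq_of_conj hQp hQ1 hLg (g.2.trans hLsN)).le) hQW
    intro x hx
    refine Subgroup.mem_normalizer_fintype fun q hq => ?_
    have h3 : x * q * x⁻¹ ∈ Cfsg.weakClosure Q L := by
      refine le_iSup (fun g : {g : H // Q.map (MulAut.conj g).toMonoidHom ≤ L} =>
        Q.map (MulAut.conj (g : H)).toMonoidHom) ⟨x, ?_⟩ ⟨q, hq, rfl⟩
      rintro _ ⟨w, hw, rfl⟩
      exact L.mul_mem (L.mul_mem hx (hSL (hQS hw))) (L.inv_mem hx)
    rw [hwc, hWQ] at h3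
    exact h3
  exact ⟨M, Ls, hSM, hM, hSLs, hLsM, hLsc, hfac, hwc,
    iSup_le fun g => le_iSup (fun g : {g : H // Q.map (MulAut.conj g).toMonoidHom ≤ M} =>
      Q.map (MulAut.conj (g : H)).toMonoidHom) ⟨g, g.2.trans hLsM⟩,
    hY, hY ▸ hYM, fun hn => ⟨fun h => hn (hkey h), fun h => hn (hkey (hLsM.trans h))⟩⟩

end Cfsg.Agent.S2846
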