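import Mathlib
import Cfsg.Statements.S2848
import Cfsg.Agent.Lib.PReduced.Largest
import Cfsg.Agent.Lib.Coprime.Action

set_option autoImplicit false
set_option linter.style.haveILetI false
set_option linter.unusedVariables false
open Cfsg

namespace Cfsg.Agent.S2848

/-- Standing hypotheses: G a finite group, S a Sylow p-subgroup, Q a nontrivial large p-subgroup of G contained in S (C_G(Q) ≤ Q and N_G(U) ≤ N_G(Q) for all nontrivial U ≤ C_G(Q)), and M a subgroup containing S with the basic property (M ∈ 𝔐_G(S)); Y_M denotes the largest p-reduced normal subgroup of M and M† = M·C_G(Y_M). Then O_p(M) is a weakly closed subgroup of M† (for p): it is the only M†-conjugate of itself inside some Sylow p-subgroup of M† containing it. -/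
theorem result {G : Type*} [Group G] [Finite G] {p : ℕ} [Fact p.Prime] (S : Sylow p G) (Q : Subgroup G) (hQp : IsPGroup p ↥Q) (hQ1 : Q ≠ ⊥) (hQS : Q ≤ (S : Subgroup G)) (hQ : Cfsg.IsLarge Q) (M : Subgroup G) (hSM : (S : Subgroup G) ≤ M) (hM : Cfsg.IsInFrakM p M) : Cfsg.IsWeaklyClosedSubgroup p (((Cfsg.pCoreOf p M)).subgroupOf (M ⊔ Subgroup.centralizer (((Cfsg.largestPReducedOf p M) : Subgroup G) : Set G))) := by
  set Y := Cfsg.largestPReducedOf p M with hY
  set C := Subgroup.centralizer ((Y : Subgroup G) : Set G) with hC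
  set K := M ⊔ C with hK
  set A := Cfsg.pCoreOf p M with hA
  have hM' := CfsgLib.PReduced.le_normalizer_largestOf p M
  have hCn : K ≤ Subgroup.normalizer (C : Set G) :=
    sup_le (hM'.trans (CfsgLib.Coprime.le_normalizer_centralizer le_rfl)) Subgroup.le_normalizer
  have hAS : A ≤ (S : Subgroup G) := CfsgLib.PReduced.pCoreOf_le_sylow S hSM
  have hAC : A ≤ C := CfsgLib.PReduced.pCoreOf_le_centralizer_largestOf p M
  have hSA : (S : Subgroup G) ⊓ C ≤ A := by
    haveI : Fact p.Prime := inferInstance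
    obtain ⟨P⟩ := (inferInstance : Nonempty (Sylow p ↥(M ⊓ C)))
    haveI hPn : (P : Subgroup ↥(M ⊓ C)).Normal := hM.2.2.2.2.1 P
    haveI : (P : Subgroup ↥(M ⊓ C)).Characteristic := Sylow.characteristic_of_normal P hPn
    have hMn : M ≤ Subgroup.normalizer ((M ⊓ C : Subgroup G) : Set G) :=
      CfsgLib.Coprime.le_normalizer_inf_of_le Subgroup.le_normalizer (le_sup_left.trans hCn)
    have hPA : (P : Subgroup ↥(M ⊓ C)).map (M ⊓ C).subtype ≤ A :=
      CfsgLib.PReduced.le_pCoreOf ((Subgroup.map_subtype_le _).trans inf_le_left)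
        (fun m hm => Subgroup.mem_normalizer_fintype fun x hx => by
          obtain ⟨y, hy, rfl⟩ := hx
          let e : ↥(M ⊓ C) ≃* ↥(M ⊓ C) := ((Subgroup.normalizerMonoidHom (M ⊓ C)) ⟨m, hMn hm⟩)
          have h1 : e y ∈ (P : Subgroup ↥(M ⊓ C)) := by
            have := (Subgroup.characteristic_iff_map_le.mp inferInstance e : (P : Subgroup ↥(M ⊓ C)).map e.toMonoidHom ≤ P)
            exact this ⟨y, hy, rfl⟩
          exact ⟨e y, h1, rfl⟩)
        (P.isPGroup'.map _)
    refine le_trans ?_ hPA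
    intro x hx
    have hxM : x ∈ M ⊓ C := ⟨hSM hx.1, hx.2⟩
    refine ⟨⟨x, hxM⟩, ?_, rfl⟩
    have hpg : IsPGroup p (((S : Subgroup G) ⊓ C).subgroupOf (M ⊓ C)) :=
      (S.isPGroup'.to_le inf_le_left).comap_of_injective _ (M ⊓ C).subtype_injective
    obtain ⟨P', hP'⟩ := hpg.exists_le_sylow
    obtain ⟨g, rfl⟩ := MulAction.exists_smul_eq ↥(M ⊓ C) P P'
    rw [Sylow.smul_eq_of_normal] at hP'
    exact hP' hx
  refine ⟨S.subtype (hSM.trans le_sup_left), ?_, ?_⟩
  · rw [Sylow.coe_subtype]; exact Subgroup.comap_mono hAS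
  · intro g hg
    refine Subgroup.eq_of_le_of_card_ge ?_ (Subgroup.card_map_of_injective (MulAut.conj g).injective).ge
    rintro _ ⟨a, ha, rfl⟩
    refine hSA ⟨hg ⟨a, ha, rfl⟩, ?_⟩
    exact (Subgroup.mem_normalizer_iff.mp (hCn g.2) _).mp (hAC ha)

end Cfsg.Agent.S2848
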