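import Mathlib
import Cfsg.Statements.S2849
import Cfsg.Agent.Lib.PReduced.Largest
import Cfsg.Agent.Lib.Coprime.Action

set_option autoImplicit false
set_option linter.style.haveILetI false
set_option linter.unusedVariables false
open Cfsg

open scoped commutatorElement

namespace Cfsg.Agent.S2849

/-- Standing hypotheses: G a finite group, S a Sylow p-subgroup, Q a nontrivial large p-subgroup of G contained in S (C_G(Q) ≤ Q and N_G(U) ≤ N_G(Q) for all nontrivial U ≤ C_G(Q)), and M a subgroup containing S with the basic property (M ∈ 𝔐_G(S)); Y_M denotes the largest p-reduced normal subgroup of M and M† = M·C_G(Y_M). Suppose Y_M is asymmetric in G. Then for every subgroup R with Y_M ≤ R ≤ M†, the normal closure of Y_M in N_G(R) is elementary abelian. -/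
theorem result {G : Type*} [Group G] [Finite G] {p : ℕ} [Fact p.Prime] (S : Sylow p G) (Q : Subgroup G) (hQp : IsPGroup p ↥Q) (hQ1 : Q ≠ ⊥) (hQS : Q ≤ (S : Subgroup G)) (hQ : Cfsg.IsLarge Q) (M : Subgroup G) (hSM : (S : Subgroup G) ≤ M) (hM : Cfsg.IsInFrakM p M) (hasym : ¬ Cfsg.IsSymmetricIn (Cfsg.largestPReducedOf p M)) (R : Subgroup G) (hYR : (Cfsg.largestPReducedOf p M) ≤ R) (hRM : R ≤ (M ⊔ Subgroup.centralizer (((Cfsg.largestPReducedOf p M) : Subgroup G) : Set G))) : Cfsg.IsElementaryAbelian p ((Subgroup.normalClosure ((((Cfsg.largestPReducedOf p M)).subgroupOf (Subgroup.normalizer ((R : Subgroup G) : Set G)) : Subgroup ↥(Subgroup.normalizer ((R : Subgroup G) : Set G))) : Set ↥(Subgroup.normalizer ((R : Subgroup G) : Set G)))).map (Subgroup.normalizer ((R : Subgroup G) : Set G)).subtype) := by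
  set Y := Cfsg.largestPReducedOf p M with hY
  set C := Subgroup.centralizer ((Y : Subgroup G) : Set G) with hC
  set N := Subgroup.normalizer ((R : Subgroup G) : Set G) with hN
  have hKn : M ⊔ C ≤ Subgroup.normalizer (Y : Set G) :=
    sup_le (CfsgLib.PReduced.le_normalizer_largestOf p M) (Subgroup.centralizer_le_normalizer _)
  have hYN : Y ≤ N := hYR.trans Subgroup.le_normalizer
  have key : ∀ g ∈ N, ∀ a ∈ Y, ∀ b ∈ Y, Commute a (g * b * g⁻¹) := by
    intro g hg a ha b hb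
    have h1 : ∀ g ∈ N, ∀ b ∈ Y, g * b * g⁻¹ ∈ Subgroup.normalizer (Y : Set G) := fun g hg b hb =>
      hKn (hRM ((Subgroup.mem_normalizer_iff.mp hg b).mp (hYR hb)))
    have hle : ⁅Y, Y.map (MulAut.conj g).toMonoidHom⁆ ≤ Y ⊓ Y.map (MulAut.conj g).toMonoidHom := by
      rw [Subgroup.commutator_le]
      rintro y hy _ ⟨z, hz, rfl⟩
      simp only [MulEquiv.coe_toMonoidHom, MulAut.conj_apply, commutatorElement_def]
      refine ⟨?_, ⟨(g⁻¹ * y * g) * z * (g⁻¹ * y * g)⁻¹ * z⁻¹, ?_, ?_⟩⟩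
      · have := Y.mul_mem hy ((Subgroup.mem_normalizer_iff.mp (h1 g hg z hz) _).mp (Y.inv_mem hy))
        simpa [mul_assoc] using this
      · have h2 := h1 g⁻¹ (N.inv_mem hg) y hy
        rw [inv_inv] at h2
        exact Y.mul_mem ((Subgroup.mem_normalizer_iff.mp h2 _).mp hz) (Y.inv_mem hz)
      · simp [mul_assoc]
    have hbot : ⁅Y, Y.map (MulAut.conj g).toMonoidHom⁆ = ⊥ := by_contra fun h => hasym ⟨g, h, hle⟩
    have := Subgroup.commutator_mem_commutator ha (Subgroup.mem_map_of_mem (MulAut.conj g).toMonoidHom hb)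
    rw [hbot, Subgroup.mem_bot, MulEquiv.coe_toMonoidHom, MulAut.conj_apply] at this
    exact commutatorElement_eq_one_iff_commute.mp this
  have hgen : (Subgroup.normalClosure ((Y.subgroupOf N : Subgroup ↥N) : Set ↥N)).map N.subtype =
      Subgroup.closure {x | ∃ g ∈ N, ∃ y ∈ Y, g * y * g⁻¹ = x} := by
    rw [Subgroup.normalClosure, MonoidHom.map_closure]
    congr 1
    ext x
    constructor
    · rintro ⟨z, hz, rfl⟩
      obtain ⟨w, hw, hwz⟩ := Group.mem_conjugatesOfSet_iff.mp hz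
      obtain ⟨c, rfl⟩ := isConj_iff.mp hwz
      exact ⟨c, c.2, w, hw, rfl⟩
    · rintro ⟨g, hg, y, hy, rfl⟩
      exact ⟨⟨g, hg⟩ * ⟨y, hYN hy⟩ * ⟨g, hg⟩⁻¹, Group.mem_conjugatesOfSet_iff.mpr ⟨⟨y, hYN hy⟩, hy, isConj_iff.mpr ⟨_, rfl⟩⟩, rfl⟩
  rw [hgen]
  have hcomm : ∀ x ∈ {x | ∃ g ∈ N, ∃ y ∈ Y, g * y * g⁻¹ = x}, ∀ z ∈ {x | ∃ g ∈ N, ∃ y ∈ Y, g * y * g⁻¹ = x}, x * z = z * x := by
    rintro _ ⟨g, hg, a, ha, rfl⟩ _ ⟨h, hh, b, hb, rfl⟩
    have h3 := (key (g⁻¹ * h) (N.mul_mem (N.inv_mem hg) hh) a ha b hb).map (MulAut.conj g).toMonoidHom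
    have e : g * (g⁻¹ * h * b * (g⁻¹ * h)⁻¹) * g⁻¹ = h * b * h⁻¹ := by group
    simp only [MulEquiv.coe_toMonoidHom, MulAut.conj_apply] at h3
    rw [e] at h3
    exact h3.eq
  haveI hco := Subgroup.isMulCommutative_closure hcomm
  refine ⟨hco, fun x hx => ?_⟩
  induction hx using Subgroup.closure_induction with
  | mem x hx =>
    obtain ⟨g, hg, y, hy, rfl⟩ := hx
    rw [conj_pow, (CfsgLib.PReduced.largestOf_elementary p M).2 y hy, mul_one, mul_inv_cancel]
  | one => exact one_pow p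
  | mul b c hb hc ihb ihc =>
    rw [(show Commute b c from congrArg Subtype.val (mul_comm' (⟨b, hb⟩ : Subgroup.closure {x | ∃ g ∈ N, ∃ y ∈ Y, g * y * g⁻¹ = x}) ⟨c, hc⟩)).mul_pow, ihb, ihc, one_mul]
  | inv b hb ihb => rw [inv_pow, ihb, inv_one]

end Cfsg.Agent.S2849
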