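import Cfsg.Statements.S2850
import Cfsg.Agent.Lib.Asymmetric.Basic

set_option autoImplicit false
open Cfsg
set_option linter.style.haveILetI false

namespace Cfsg.Agent.S2850

/-- Standing hypotheses: G a finite group, S a Sylow p-subgroup, Q a nontrivial large p-subgroup of G contained in S (C_G(Q) ≤ Q and N_G(U) ≤ N_G(Q) for all nontrivial U ≤ C_G(Q)), and M a subgroup containing S with the basic property (M ∈ 𝔐_G(S)); Y_M denotes the largest p-reduced normal subgroup of M and M† = M·C_G(Y_M). Suppose Y_M is asymmetric in G. Then N_G(L) ≤ N_G(O_p(M)) ≤ M† for every p-subgroup L containing O_p(M); O_p(M) is a weakly closed subgroup of G; for every subgroup L containing O_p(M), L ∩ M† contains a Sylow p-subgroup of L; and two elements of Y_M conjugate in G are conjugate in M. -/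
theorem result {G : Type*} [Group G] [Finite G] {p : ℕ} [Fact p.Prime] (S : Sylow p G) (Q : Subgroup G) (hQp : IsPGroup p ↥Q) (hQ1 : Q ≠ ⊥) (hQS : Q ≤ (S : Subgroup G)) (hQ : Cfsg.IsLarge Q) (M : Subgroup G) (hSM : (S : Subgroup G) ≤ M) (hM : Cfsg.IsInFrakM p M) (hasym : ¬ Cfsg.IsSymmetricIn (Cfsg.largestPReducedOf p M)) : (∀ L : Subgroup G, IsPGroup p ↥L → (Cfsg.pCoreOf p M) ≤ L → Subgroup.normalizer ((L : Subgroup G) : Set G) ≤ Subgroup.normalizer (((Cfsg.pCoreOf p M) : Subgroup G) : Set G) ∧ Subgroup.normalizer (((Cfsg.pCoreOf p M) : Subgroup G) : Set G) ≤ (M ⊔ Subgroup.centralizer (((Cfsg.largestPReducedOf p M) : Subgroup G) : Set G))) ∧ Cfsg.IsWeaklyClosedSubgroup p (Cfsg.pCoreOf p M) ∧ (∀ L : Subgroup G, (Cfsg.pCoreOf p M) ≤ L → Cfsg.IsParabolic p ((L ⊓ (M ⊔ Subgroup.centralizer (((Cfsg.largestPReducedOf p M) : Subgroup G) : Set G))).subgroupOf L)) ∧ (∀ x ∈ (Cfsg.largestPReducedOf p M), ∀ g : G, g * x * g⁻¹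 ∈ (Cfsg.largestPReducedOf p M) → ∃ m ∈ M, m * x * m⁻¹ = g * x * g⁻¹) := by
  have h : CfsgLib.Asymmetric.Hyp p S Q M := ⟨hQp, hQ1, hQS, hQ, hSM, hM, hasym⟩
  refine ⟨fun L hL hAL => ⟨(CfsgLib.Asymmetric.normalizer_le h hL hAL).1,
    CfsgLib.Asymmetric.normalizer_pCoreOf_le_dagger h⟩, ⟨S, CfsgLib.PReduced.pCoreOf_le_sylow S hSM, ?_⟩, ?_,
    fun x hx g hgx => CfsgLib.Asymmetric.exists_conj_eq h hx hgx⟩
  · intro g hg
    exact CfsgLib.WeakClosure.cg_eq_of_mem_normalizer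
      (CfsgLib.Asymmetric.mem_normalizer_of_cg_le h S.2 (CfsgLib.PReduced.pCoreOf_le_sylow S hSM) hg)
  · intro L hAL
    obtain ⟨P, hP⟩ := ((CfsgLib.PReduced.isPGroup_pCoreOf p M).comap_of_injective L.subtype
      L.subtype_injective).exists_le_sylow
    refine ⟨P, fun x hx => ?_⟩
    have hle := CfsgLib.Asymmetric.le_dagger h (P.2.map L.subtype) (fun a ha => ⟨⟨a, hAL ha⟩, hP ha, rfl⟩)
    exact ⟨x.2, hle ⟨x, hx, rfl⟩⟩

end Cfsg.Agent.S2850
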