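import Cfsg.Statements.S2851
import Cfsg.Agent.Lib.Asymmetric.FrakH
import Cfsg.Agent.Lib.Layer.FStar
import Cfsg.Agent.Lib.Layer.Radical
import Cfsg.Agent.Lib.Layer.CharPSubnormal

set_option autoImplicit false
open Cfsg CfsgLib.WeakClosure
open scoped commutatorElement Pointwise
set_option linter.style.haveILetI false

namespace Cfsg.Agent.S2851

/-- A `p`-subgroup normalized by the generalized Fitting subgroup is trivial when `O_p = 1`. -/
theorem eq_bot_of_normalizes {X : Type*} [Group X] [Finite X] {p : ℕ} [Fact p.Prime]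
    (hO : Cfsg.pCore p X = ⊥) {Z : Subgroup X} (hZ : IsPGroup p Z)
    (hn : Cfsg.generalizedFittingSubgroup X ≤ Subgroup.normalizer (Z : Set X)) : Z = ⊥ := by
  set E := Cfsg.generalizedFittingSubgroup X with hE
  haveI hEn : E.Normal := CfsgLib.Layer.generalizedFitting_normal
  haveI := hEn
  have hZE : Z ⊓ E = ⊥ := by
    rw [eq_bot_iff, ← hO]
    refine CfsgLib.Layer.le_pCore_of_isSubnormal (Subgroup.IsSubnormal.trans inf_le_right ?_
      (Subgroup.Normal.isSubnormal hEn)) (hZ.to_le inf_le_left)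
    exact (Subgroup.normal_subgroupOf_of_le_normalizer
      (CfsgLib.Coprime.le_normalizer_inf_of_le hn Subgroup.le_normalizer)).isSubnormal
  have hc : ⁅Z, E⁆ ≤ ⊥ := hZE ▸ le_inf (commutator_le_of_normalizes hn) (Subgroup.commutator_le_right Z E)
  have hle : Z ≤ Subgroup.centralizer (E : Set X) :=
    Subgroup.commutator_eq_bot_iff_le_centralizer.mp (le_bot_iff.mp hc)
  rw [eq_bot_iff, ← hZE]
  exact le_inf le_rfl (hle.trans CfsgLib.Layer.centralizer_generalizedFitting_le)


/-- Standing hypotheses: G a finite group, S a Sylow p-subgroup, Q a nontrivial large p-subgroup of G contained in S, M a subgroup containing S with the basic property (M ∈ 𝔐_G(S)); Y_M the largest p-reduced normal subgroup of M and M† = M·C_G(Y_M). Let F be the preimage in M† of the generalized Fitting subgroup of M†/C_{M†}(Y_M). If Y_M is asymmetric in G and H is a subgroup of characteristic p containing F, then Y_M ≤ Y_H. -/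
theorem result {G : Type*} [Group G] [Finite G] {p : ℕ} [Fact p.Prime] (S : Sylow p G) (Q : Subgroup G) (hQp : IsPGroup p ↥Q) (hQ1 : Q ≠ ⊥) (hQS : Q ≤ (S : Subgroup G)) (hQ : Cfsg.IsLarge Q) (M : Subgroup G) (hSM : (S : Subgroup G) ≤ M) (hM : Cfsg.IsInFrakM p M) (hasym : ¬ Cfsg.IsSymmetricIn (Cfsg.largestPReducedOf p M)) [hn : ((Subgroup.centralizer (((Cfsg.largestPReducedOf p M) : Subgroup G) : Set G)).subgroupOf (M ⊔ Subgroup.centralizer (((Cfsg.largestPReducedOf p M) : Subgroup G) : Set G))).Normal] (F : Subgroup G) (hF : F = ((Cfsg.generalizedFittingSubgroup (↥(M ⊔ Subgroup.centralizer (((Cfsg.largestPReducedOf p M) : Subgroup G) : Set G)) ⧸ (Subgroup.centralizer (((Cfsg.largestPReducedOf p M) : Subgroup G) : Set G)).subgroupOf (M ⊔ Subgroup.centralizer (((Cfsg.largestPReducedOf p M) : Subgroup G) : Set G)))).comap (QuotientGroup.mk' ((Subgroup.centralizer (((Cfsg.largestPReducedOf p M) : Subgroup G) : Set G)).subgroupOf (M ⊔ Subgroup.centralizer (((Cfsg.largestPReducedOf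 p M) : Subgroup G) : Set G))))).map ((M ⊔ Subgroup.centralizer (((Cfsg.largestPReducedOf p M) : Subgroup G) : Set G))).subtype) (H : Subgroup G) (hFH : F ≤ H) (hH : Subgroup.centralizer (Cfsg.pCore p ↥H : Set ↥H) ≤ Cfsg.pCore p ↥H) : (Cfsg.largestPReducedOf p M) ≤ Cfsg.largestPReducedOf p H := by
  have h : CfsgLib.Asymmetric.Hyp p S Q M := ⟨hQp, hQ1, hQS, hQ, hSM, hM, hasym⟩
  set Y := Cfsg.largestPReducedOf p M with hY
  set C := Subgroup.centralizer (Y : Set G) with hC
  set K := M ⊔ C with hK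
  set A := Cfsg.pCoreOf p M with hA
  set f := QuotientGroup.mk' (C.subgroupOf K) with hf
  have hsurj : Function.Surjective f := QuotientGroup.mk'_surjective _
  have hCK : C ≤ K := le_sup_right
  have hYK : Cfsg.largestPReducedOf p K = Y := hM.2.2.2.1.symm
  have hmem : ∀ {d : G} (hd : d ∈ K), d ∈ C ↔ f ⟨d, hd⟩ = 1 := fun {d} hd => by
    rw [hf, QuotientGroup.mk'_apply, QuotientGroup.eq_one_iff, Subgroup.mem_subgroupOf]
  have hO : Cfsg.pCore p (↥K ⧸ C.subgroupOf K) = ⊥ := by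
    haveI := CfsgLib.Fitting.pCore_normal (G := ↥K ⧸ C.subgroupOf K) p
    set D := ((Cfsg.pCore p (↥K ⧸ C.subgroupOf K)).comap f).map K.subtype with hD
    have hDn : K ≤ Subgroup.normalizer (D : Set G) :=
      (Subgroup.normal_subgroupOf_iff_le_normalizer (Subgroup.map_subtype_le _)).mp (by
        rw [Subgroup.subgroupOf, Subgroup.comap_map_eq_self_of_injective K.subtype_injective]
        exact Subgroup.Normal.comap inferInstance f)
    have hDC : D ≤ C := by
      have := CfsgLib.PReduced.le_centralizer_largestOf (p := p) (H := K) (Subgroup.map_subtype_le _) hDn ?_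
      · rwa [hYK] at this
      rintro _ ⟨d, hd, rfl⟩
      obtain ⟨k, hk⟩ := CfsgLib.Fitting.pCore_isPGroup p (⟨f d, hd⟩ : Cfsg.pCore p (↥K ⧸ C.subgroupOf K))
      refine ⟨k, ?_⟩
      rw [hYK]
      have e : f (d ^ p ^ k) = 1 := by
        rw [map_pow]; exact congrArg Subtype.val hk
      have := (hmem (d ^ p ^ k).2).mpr e
      rwa [Subgroup.coe_pow] at this
    rw [eq_bot_iff]
    intro x hx
    obtain ⟨d, rfl⟩ := hsurj x
    exact Subgroup.mem_bot.mpr ((hmem d.2).mp (hDC ⟨d, hx, rfl⟩))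
  have hFK : F ≤ K := hF ▸ Subgroup.map_subtype_le _
  have hCF : C ≤ F := fun c hc => by
    rw [hF]
    refine ⟨⟨c, hCK hc⟩, ?_, rfl⟩
    refine Subgroup.ker_le_comap _ _ ?_
    rw [QuotientGroup.ker_mk']
    exact hc
  -- subgroups of `M†` normalized by `F` which are `p`-groups modulo `C`
  have hkey : ∀ U : Subgroup G, U ≤ K → F ≤ Subgroup.normalizer (U : Set G) →
      (∀ u ∈ U, ∃ k : ℕ, u ^ p ^ k ∈ C) → U ≤ C := by
    intro U hUK hFU hUp
    have hbot : (U.subgroupOf K).map f = ⊥ := by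
      refine eq_bot_of_normalizes (p := p) hO (fun z => ?_) ?_
      · obtain ⟨u, hu, hue⟩ := z.2
        obtain ⟨k, hk⟩ := hUp u hu
        refine ⟨k, Subtype.ext ?_⟩
        rw [Subgroup.coe_pow, ← hue, ← map_pow, Subgroup.coe_one]
        exact (hmem (u ^ p ^ k).2).mp (by rwa [Subgroup.coe_pow])
      · intro x hx
        obtain ⟨d, rfl⟩ := hsurj x
        have hdF : (d : G) ∈ F := hF ▸ ⟨d, hx, rfl⟩
        refine Subgroup.le_normalizer_map f ⟨d, ?_, rfl⟩
        rw [SetLike.mem_coe, Subgroup.mem_normalizer_iff]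
        intro u
        exact Subgroup.mem_normalizer_iff.mp (hFU hdF) (u : G)
    intro u hu
    refine (hmem (hUK hu)).mpr ?_
    have : f ⟨u, hUK hu⟩ ∈ (U.subgroupOf K).map f := ⟨⟨u, hUK hu⟩, hu, rfl⟩
    rwa [hbot, Subgroup.mem_bot] at this
  have hAH : A ≤ H := (CfsgLib.PReduced.pCoreOf_le_centralizer_largestOf p M).trans (hCF.trans hFH)
  have hYH : Y ≤ H := (CfsgLib.PReduced.largestOf_le_pCoreOf p M).trans hAH
  have hNK := CfsgLib.Asymmetric.normalizer_pCoreOf_le_dagger h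
  set Q0 := Cfsg.pCoreOf p H with hQ0
  have hQ0C : Q0 ≤ C := hkey Q0 (((CfsgLib.Asymmetric.pCoreOf_le_normalizer h hAH).trans inf_le_left).trans hNK)
    (hFH.trans (CfsgLib.PReduced.le_normalizer_pCoreOf p H)) fun u hu => by
      obtain ⟨k, hk⟩ := CfsgLib.PReduced.isPGroup_pCoreOf p H ⟨u, hu⟩
      have e : u ^ p ^ k = 1 := congrArg Subtype.val hk
      exact ⟨k, e ▸ one_mem _⟩
  have hYQ : Y ≤ Q0 := fun y hy => ⟨⟨y, hYH hy⟩, hH (Subgroup.mem_centralizer_iff.mpr fun q hq =>
    Subtype.ext (Subgroup.mem_centralizer_iff.mp (hQ0C ⟨q, hq, rfl⟩) y hy).symm), rfl⟩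
  set W := CfsgLib.Asymmetric.nc H Y with hW
  have hQ0n := CfsgLib.PReduced.le_normalizer_pCoreOf p H
  have hconj : ∀ x : H, cg (x : G) Y ≤ Q0 ⊓ Subgroup.centralizer (Q0 : Set G) := fun x =>
    le_inf ((cg_mono _ hYQ).trans (cg_eq_of_mem_normalizer (hQ0n x.2)).le)
      ((cg_mono _ (Subgroup.le_centralizer_iff.mp hQ0C)).trans
        (cg_eq_of_mem_normalizer (CfsgLib.Coprime.le_normalizer_centralizer hQ0n x.2)).le)
  have hWZ : W ≤ Q0 ⊓ Subgroup.centralizer (Q0 : Set G) := iSup_le hconj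
  have hWel : Cfsg.IsElementaryAbelian p W := by
    refine ⟨⟨⟨fun a b => Subtype.ext ?_⟩⟩, fun w hw => ?_⟩
    · exact Subgroup.mem_centralizer_iff.mp (hWZ b.2).2 _ (hWZ a.2).1
    · suffices hm : w ∈ Q0 ⊓ Subgroup.centralizer (Q0 : Set G) ∧ w ^ p = 1 from hm.2
      refine Subgroup.iSup_induction (fun x : H => cg (x : G) Y)
        (C := fun w => w ∈ Q0 ⊓ Subgroup.centralizer (Q0 : Set G) ∧ w ^ p = 1) hw ?_ ⟨one_mem _, one_pow p⟩ ?_
      · rintro x _ ⟨y, hy, rfl⟩
        refine ⟨hconj x ⟨y, hy, rfl⟩, ?_⟩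
        rw [← map_pow, (CfsgLib.PReduced.largestOf_elementary p M).2 y hy, map_one]
      · rintro a b ⟨ha, ha'⟩ ⟨hb, hb'⟩
        refine ⟨mul_mem ha hb, ?_⟩
        rw [(show Commute a b from Subgroup.mem_centralizer_iff.mp hb.2 a ha.1).mul_pow, ha', hb', one_mul]
  refine (CfsgLib.Asymmetric.le_nc H Y).trans (CfsgLib.PReduced.le_largestOf
    (CfsgLib.Asymmetric.nc_le hYH) (CfsgLib.Asymmetric.le_normalizer_nc H Y) hWel fun D hDH hDn hDp => ?_)
  have hWC : Subgroup.centralizer (W : Set G) ≤ C :=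
    Subgroup.centralizer_le (CfsgLib.Asymmetric.le_nc H Y)
  have hDK : D ≤ K := by
    obtain ⟨Ps, hPs⟩ := ((CfsgLib.PReduced.isPGroup_pCoreOf p M).comap_of_injective H.subtype
      H.subtype_injective).exists_le_sylow
    have hPsK : (Ps : Subgroup H).map H.subtype ≤ K :=
      CfsgLib.Asymmetric.le_dagger h (Ps.2.map _) fun a ha => ⟨⟨a, hAH ha⟩, hPs ha, rfl⟩
    haveI hDn' : (D.subgroupOf H).Normal := Subgroup.normal_subgroupOf_of_le_normalizer hDn
    have hnd : ¬ p ∣ (Ps : Subgroup H).relIndex (D.subgroupOf H) :=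
      CfsgLib.CharCore.not_dvd_relIndex_of_isSubnormal hDn'.isSubnormal Ps
    set P' := (Ps : Subgroup H).map H.subtype with hP'
    have hnd' : ¬ p ∣ P'.relIndex D := by
      rwa [← Subgroup.relIndex_map_map_of_injective _ _ H.subtype_injective, Subgroup.map_subgroupOf_eq_of_le hDH]
        at hnd
    let PD : Sylow p D := ((Ps.2.map H.subtype).comap_of_injective D.subtype D.subtype_injective).toSylow hnd'
    intro d hd
    have hle : (PD : Subgroup D) ⊔ Cfsg.pResidual p ↥D ≤ K.subgroupOf D := by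
      refine sup_le (fun z hz => hPsK hz) ?_
      refine (Subgroup.closure_le _).mpr fun z hz => ?_
      obtain ⟨k, hk⟩ := hDp z z.2
      have hk' : (z : G) ^ p ^ k ∈ C := hWC hk
      have hz' : (orderOf (z : G)).Coprime p := by rw [Subgroup.orderOf_coe]; exact hz
      obtain ⟨m, hm⟩ := exists_pow_eq_self_of_coprime ((hz'.pow_right k).symm)
      show (z : G) ∈ K
      rw [← hm]
      exact K.pow_mem (hCK hk') m
    exact hle ((CfsgLib.Transfer.sylow_sup_pResidual PD).ge (Subgroup.mem_top (⟨d, hd⟩ : D)))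
  have hDC : D ≤ C := hkey D hDK (hFH.trans hDn) fun d hd => (hDp d hd).imp fun k hk => hWC hk
  refine Subgroup.le_centralizer_iff.mpr (iSup_le fun x => ?_)
  refine (cg_mono _ (Subgroup.le_centralizer_iff.mp hDC)).trans
    (cg_eq_of_mem_normalizer (CfsgLib.Coprime.le_normalizer_centralizer hDn x.2)).le

end Cfsg.Agent.S2851
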