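import Cfsg.Statements.S2852
import Cfsg.Agent.Lib.Asymmetric.FrakH

set_option autoImplicit false
open Cfsg CfsgLib.WeakClosure
open scoped commutatorElement Pointwise
set_option linter.style.haveILetI false

namespace Cfsg.Agent.S2852

/-- Standing hypotheses: G a finite group, S a Sylow p-subgroup, Q a nontrivial large p-subgroup of G contained in S, M a subgroup containing S with the basic property (M ∈ 𝔐_G(S)); Y_M the largest p-reduced normal subgroup of M. If Y_M is char-p-tall and asymmetric in G, then some subgroup H of G lies in ℌ_G(O_p(M)): H has characteristic p, O_p(M) ≤ H, Y_M ≰ O_p(H), and Y_M ≤ O_p(P) for every proper subgroup P of H containing O_p(M). -/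
theorem result {G : Type*} [Group G] [Finite G] {p : ℕ} [Fact p.Prime] (S : Sylow p G) (Q : Subgroup G) (hQp : IsPGroup p ↥Q) (hQ1 : Q ≠ ⊥) (hQS : Q ≤ (S : Subgroup G)) (hQ : Cfsg.IsLarge Q) (M : Subgroup G) (hSM : (S : Subgroup G) ≤ M) (hM : Cfsg.IsInFrakM p M) (htall : Cfsg.IsCharPTall p (Cfsg.largestPReducedOf p M)) (hasym : ¬ Cfsg.IsSymmetricIn (Cfsg.largestPReducedOf p M)) : ∃ H : Subgroup G, Cfsg.IsInFrakH p M H := by
  have h : CfsgLib.Asymmetric.Hyp p S Q M := ⟨hQp, hQ1, hQS, hQ, hSM, hM, hasym⟩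
  set Y := Cfsg.largestPReducedOf p M with hY
  set A := Cfsg.pCoreOf p M with hA
  set C := Subgroup.centralizer (Y : Set G) with hC
  obtain ⟨T, L, hTL, hLcp, hYL⟩ := htall
  have hAC : A ≤ C := CfsgLib.PReduced.pCoreOf_le_centralizer_largestOf p M
  have hYA : Y ≤ A := CfsgLib.PReduced.largestOf_le_pCoreOf p M
  obtain ⟨T', hT'⟩ := ((CfsgLib.PReduced.isPGroup_pCoreOf p M).comap_of_injective C.subtype
    C.subtype_injective).exists_le_sylow
  obtain ⟨c, hc⟩ := MulAction.exists_smul_eq C T T'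
  set L' := cg (c : G) L with hL'
  have hAL' : A ≤ L' := by
    intro a ha
    have h1 : (⟨a, hAC ha⟩ : C) ∈ ((c • T : Sylow p C) : Subgroup C) := hc ▸ hT' ha
    obtain ⟨t, ht, hte⟩ := h1
    exact ⟨t, hTL ⟨t, ht, rfl⟩, congrArg Subtype.val hte⟩
  have hcY : cg (c : G) Y = Y := cg_eq_of_mem_normalizer (Subgroup.centralizer_le_normalizer _ c.2)
  have hmem : L' ∈ {H : Subgroup G | A ≤ H ∧ CfsgLib.CharCore.Cp p H ∧ ¬ Y ≤ Cfsg.pCoreOf p H} := by
    refine ⟨hAL', CfsgLib.CharCore.cp_congr (L.equivMapOfInjective _ (MulAut.conj (c : G)).injective) hLcp,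
      fun hle => hYL fun y hy => ?_⟩
    rw [hL', CfsgLib.Asymmetric.pCoreOf_cg] at hle
    have hle2 := cg_mono (c : G)⁻¹ ((hcY.le).trans hle)
    rw [cg_inv_cg, cg_inv_cg] at hle2
    exact hle2 hy
  obtain ⟨H, -, hH⟩ := (Set.toFinite _).exists_le_minimal hmem
  obtain ⟨hAH, hHcp, hYH⟩ := hH.1
  refine ⟨H, hHcp, hAH, hYH, fun P hAP hPH => ?_⟩
  by_contra hYP
  set V := CfsgLib.Asymmetric.nc H Y with hV
  have hVH : V ≤ H := CfsgLib.Asymmetric.nc_le (hYA.trans hAH)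
  have hHV : H ≤ Subgroup.normalizer (V : Set G) := CfsgLib.Asymmetric.le_normalizer_nc H Y
  have hVA : H ≤ V ⊔ A := by
    refine hH.2 ⟨le_sup_right, CfsgLib.Asymmetric.cp_sup (CfsgLib.PReduced.isPGroup_pCoreOf p M)
      (hAH.trans hHV) (CfsgLib.CharCore.cp_of_normal hVH hHV hHcp), fun hle => hYH ?_⟩ (sup_le hVH hAH)
    exact (le_inf hle (CfsgLib.Asymmetric.le_nc H Y)).trans
      ((CfsgLib.Asymmetric.pCoreOf_inf_le le_sup_left).trans (CfsgLib.Asymmetric.pCoreOf_le_of_normal hVH hHV))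
  set Q0 := Cfsg.pCoreOf p H with hQ0
  have hQ0H : Q0 ≤ H := Subgroup.map_subtype_le _
  have hPQ : P ⊔ Q0 ≤ H := sup_le hPH.le hQ0H
  have hXQ : H ≤ Subgroup.normalizer (Q0 : Set G) := CfsgLib.PReduced.le_normalizer_pCoreOf p H
  have hQX : Q0 ≤ Cfsg.pCoreOf p (P ⊔ Q0) := CfsgLib.PReduced.le_pCoreOf le_sup_right (hPQ.trans hXQ)
    (CfsgLib.PReduced.isPGroup_pCoreOf p H)
  have hXcp : CfsgLib.CharCore.Cp p ↥(P ⊔ Q0) := by
    intro x hx
    have h1 : (⟨x, hPQ x.2⟩ : H) ∈ Cfsg.pCore p H := by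
      refine hHcp (Subgroup.mem_centralizer_iff.mpr fun q hq => Subtype.ext ?_)
      obtain ⟨q', hq', e⟩ := hQX ⟨q, hq, rfl⟩
      have e2 := congrArg Subtype.val (Subgroup.mem_centralizer_iff.mp hx q' hq')
      change (q' : G) = (q : G) at e
      simpa [← e] using e2
    obtain ⟨x', hx', e⟩ := hQX ⟨_, h1, rfl⟩
    obtain rfl : x' = x := Subtype.ext e
    exact hx'
  have hHP : H ≤ P ⊔ Q0 := hH.2 ⟨hAP.trans le_sup_left, hXcp, fun hle => hYP
    ((le_inf hle (hYA.trans hAP)).trans (CfsgLib.Asymmetric.pCoreOf_inf_le le_sup_left))⟩ hPQ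
  have hVP : V ≤ P := iSup_le fun x => by
    obtain ⟨u, hu, q, hq, he⟩ := CfsgLib.PReduced.exists_mul_of_mem_sup (hPH.le.trans hXQ) (hHP x.2)
    rw [← he, ← cg_cg, cg_eq_of_mem_normalizer ((CfsgLib.Asymmetric.pCoreOf_le_normalizer h hAH) hq).2]
    exact (cg_mono u (hYA.trans hAP)).trans (cg_eq_of_mem_normalizer (Subgroup.le_normalizer hu)).le
  exact hPH.not_ge (hVA.trans (sup_le hVP hAP))

end Cfsg.Agent.S2852
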