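import Cfsg.Statements.S2853
import Cfsg.Agent.Lib.Asymmetric.FrakH

set_option autoImplicit false
open Cfsg CfsgLib.WeakClosure
open scoped commutatorElement Pointwise
set_option linter.style.haveILetI false

namespace Cfsg.Agent.S2853

/-- Standing hypotheses: G a finite group, S a Sylow p-subgroup, Q a nontrivial large p-subgroup of G contained in S, M a subgroup containing S with the basic property (M ∈ 𝔐_G(S)); Y_M the largest p-reduced normal subgroup of M and M† = M·C_G(Y_M). Suppose Y_M is char-p-tall and asymmetric in G and H ∈ ℌ_G(O_p(M)). Then every Sylow p-subgroup of H ∩ M† is a Sylow p-subgroup of H; O_p(H) normalizes O_p(M) and Y_M; O^p(H) = [O^p(H), Y_M] and H = O^p(H)·O_p(M); O^p(H)·Y_M is the normal closure of Y_M in H; and H is the normal closure of O_p(M) in H. Here O^p(H) is the subgroup generated by the elements of H of order prime to p. -/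
theorem result {G : Type*} [Group G] [Finite G] {p : ℕ} [Fact p.Prime] (S : Sylow p G) (Q : Subgroup G) (hQp : IsPGroup p ↥Q) (hQ1 : Q ≠ ⊥) (hQS : Q ≤ (S : Subgroup G)) (hQ : Cfsg.IsLarge Q) (M : Subgroup G) (hSM : (S : Subgroup G) ≤ M) (hM : Cfsg.IsInFrakM p M) (htall : Cfsg.IsCharPTall p (Cfsg.largestPReducedOf p M)) (hasym : ¬ Cfsg.IsSymmetricIn (Cfsg.largestPReducedOf p M)) (H : Subgroup G) (hH : Cfsg.IsInFrakH p M H) (R : Subgroup G) (hR : R = (Cfsg.pResidual p ↥H).map H.subtype) : (∀ T : Sylow p ↥(H ⊓ (M ⊔ Subgroup.centralizer (((Cfsg.largestPReducedOf p M) : Subgroup G) : Set G))), ∃ P : Sylow p ↥H, ((P : Subgroup ↥H).map H.subtype) = (T : Subgroup ↥(H ⊓ (M ⊔ Subgroup.centralizer (((Cfsg.largestPReducedOf p M) : Subgroup G) : Set G)))).map (H ⊓ (M ⊔ Subgroup.centralizer (((Cfsg.largestPReducedOf p M) : Subgroup G) : Set G))).subtype) ∧ Cfsg.pCoreOf p H ≤ Subgroup.normalizer (((Cfsg.pCoreOf p M) : Subgroup G) : Set G) ⊓ Subgroup.normalizer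 (((Cfsg.largestPReducedOf p M) : Subgroup G) : Set G) ∧ ⁅R, (Cfsg.largestPReducedOf p M)⁆ = R ∧ R ⊔ (Cfsg.pCoreOf p M) = H ∧ R ⊔ (Cfsg.largestPReducedOf p M) = (Subgroup.normalClosure ((((Cfsg.largestPReducedOf p M)).subgroupOf H : Subgroup ↥H) : Set ↥H)).map H.subtype ∧ (Subgroup.normalClosure ((((Cfsg.pCoreOf p M)).subgroupOf H : Subgroup ↥H) : Set ↥H)).map H.subtype = H := by
  have h : CfsgLib.Asymmetric.Hyp p S Q M := ⟨hQp, hQ1, hQS, hQ, hSM, hM, hasym⟩
  subst hR
  refine ⟨?_, CfsgLib.Asymmetric.pCoreOf_le_normalizer h hH.2.1, CfsgLib.Asymmetric.commutator_opOf_eq hH,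
    CfsgLib.Asymmetric.opOf_sup_eq hH, ?_, ?_⟩
  · set K := M ⊔ Subgroup.centralizer (Cfsg.largestPReducedOf p M : Set G) with hK
    intro T
    obtain ⟨P₀, hP₀⟩ := ((CfsgLib.PReduced.isPGroup_pCoreOf p M).comap_of_injective H.subtype
      H.subtype_injective).exists_le_sylow
    have hP₀K : (P₀ : Subgroup H).map H.subtype ≤ H ⊓ K := le_inf (Subgroup.map_subtype_le _)
      (CfsgLib.Asymmetric.le_dagger h (P₀.2.map _) fun a ha => ⟨⟨a, hH.2.1 ha⟩, hP₀ ha, rfl⟩)
    obtain ⟨P₁, hP₁⟩ := ((P₀.2.map H.subtype).comap_of_injective (H ⊓ K).subtype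
      (H ⊓ K).subtype_injective).exists_le_sylow
    obtain ⟨P, hP⟩ := ((T.2.map (H ⊓ K).subtype).comap_of_injective H.subtype
      H.subtype_injective).exists_le_sylow
    refine ⟨P, ?_⟩
    symm
    refine Subgroup.eq_of_le_of_card_ge
      (fun x hx => ⟨⟨x, (Subgroup.map_subtype_le _ hx).1⟩, hP hx, rfl⟩) ?_
    have h1 : Nat.card ↥((P₀ : Subgroup H).map H.subtype) ≤ Nat.card ↥((P₁ : Subgroup ↥(H ⊓ K)).map (H ⊓ K).subtype) :=
      Subgroup.card_le_of_le fun x hx => ⟨⟨x, hP₀K hx⟩, hP₁ hx, rfl⟩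
    rw [Subgroup.card_map_of_injective H.subtype_injective,
      Subgroup.card_map_of_injective (H ⊓ K).subtype_injective, P₀.card_eq_multiplicity, P₁.card_eq_multiplicity] at h1
    rw [Subgroup.card_map_of_injective H.subtype_injective,
      Subgroup.card_map_of_injective (H ⊓ K).subtype_injective, P.card_eq_multiplicity, T.card_eq_multiplicity]
    exact h1
  · rw [CfsgLib.Asymmetric.normalClosure_map_eq_nc (CfsgLib.Asymmetric.largestOf_le_of_pCoreOf_le hH.2.1)]
    exact CfsgLib.Asymmetric.opOf_sup_largest_eq hH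
  · rw [CfsgLib.Asymmetric.normalClosure_map_eq_nc hH.2.1]
    exact CfsgLib.Asymmetric.nc_pCoreOf_eq hH

end Cfsg.Agent.S2853
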