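import Cfsg.Statements.S2854
import Cfsg.Agent.Lib.Asymmetric.FrakH

set_option autoImplicit false
open Cfsg CfsgLib.WeakClosure
open scoped commutatorElement Pointwise
set_option linter.style.haveILetI false

namespace Cfsg.Agent.S2854

/-- Standing hypotheses: G a finite group, S a Sylow p-subgroup, Q a nontrivial large p-subgroup of G contained in S, M a subgroup containing S with the basic property (M ∈ 𝔐_G(S)); Y_M the largest p-reduced normal subgroup of M and M† = M·C_G(Y_M). Suppose Y_M is asymmetric in G, H ∈ ℌ_G(O_p(M)), and H ≤ N_G(gQg⁻¹) for some g ∈ G. Then gQg⁻¹ ≤ O_p(H·gQg⁻¹) ≤ N_G(O_p(M)) ≤ N_G(Y_M) = M†; H is normal in H·gQg⁻¹ with O^p(H) = O^p(H·gQg⁻¹); and H·gQg⁻¹ is p-irreducible. -/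
theorem result {G : Type*} [Group G] [Finite G] {p : ℕ} [Fact p.Prime] (S : Sylow p G) (Q : Subgroup G) (hQp : IsPGroup p ↥Q) (hQ1 : Q ≠ ⊥) (hQS : Q ≤ (S : Subgroup G)) (hQ : Cfsg.IsLarge Q) (M : Subgroup G) (hSM : (S : Subgroup G) ≤ M) (hM : Cfsg.IsInFrakM p M) (hasym : ¬ Cfsg.IsSymmetricIn (Cfsg.largestPReducedOf p M)) (H : Subgroup G) (hH : Cfsg.IsInFrakH p M H) (g : G) (hHQ : H ≤ Subgroup.normalizer ((((Q : Subgroup G).map (MulAut.conj (g : G)).toMonoidHom) : Subgroup G) : Set G)) : ((Q : Subgroup G).map (MulAut.conj (g : G)).toMonoidHom) ≤ Cfsg.pCoreOf p (H ⊔ ((Q : Subgroup G).map (MulAut.conj (g : G)).toMonoidHom)) ∧ Cfsg.pCoreOf p (H ⊔ ((Q : Subgroup G).map (MulAut.conj (g : G)).toMonoidHom)) ≤ Subgroup.normalizer (((Cfsg.pCoreOf p M) : Subgroup G) : Set G) ∧ Subgroup.normalizer (((Cfsg.pCoreOf p M) : Subgroup G) : Set G) ≤ Subgroup.normalizer (((Cfsg.largestPReducedOf p M) : Subgroup G) : Set G) ∧ Subgroup.normalizer (((Cfsg.largestPReducedOf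 p M) : Subgroup G) : Set G) = (M ⊔ Subgroup.centralizer (((Cfsg.largestPReducedOf p M) : Subgroup G) : Set G)) ∧ (H.subgroupOf (H ⊔ ((Q : Subgroup G).map (MulAut.conj (g : G)).toMonoidHom))).Normal ∧ (Cfsg.pResidual p ↥H).map H.subtype = (Cfsg.pResidual p ↥(H ⊔ ((Q : Subgroup G).map (MulAut.conj (g : G)).toMonoidHom))).map (H ⊔ ((Q : Subgroup G).map (MulAut.conj (g : G)).toMonoidHom)).subtype ∧ Cfsg.IsPIrreducible p ↥(H ⊔ ((Q : Subgroup G).map (MulAut.conj (g : G)).toMonoidHom)) := by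
  have h : CfsgLib.Asymmetric.Hyp p S Q M := ⟨hQp, hQ1, hQS, hQ, hSM, hM, hasym⟩
  set Y := Cfsg.largestPReducedOf p M with hY
  set A := Cfsg.pCoreOf p M with hA
  set Q' := (Q : Subgroup G).map (MulAut.conj g).toMonoidHom with hQ'
  set J := H ⊔ Q' with hJ
  set J0 := Cfsg.pCoreOf p J with hJ0
  have hQ'p : IsPGroup p Q' := hQp.map _
  have hQ'J : Q' ≤ J0 :=
    CfsgLib.PReduced.le_pCoreOf le_sup_right (sup_le hHQ Subgroup.le_normalizer) hQ'p
  have hAJ : A ≤ J := hH.2.1.trans le_sup_left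
  have hJ0A := CfsgLib.Asymmetric.pCoreOf_le_normalizer h hAJ
  have hNAK := CfsgLib.Asymmetric.normalizer_pCoreOf_le_dagger h
  have hKY := CfsgLib.Asymmetric.dagger_le_normalizer_largestOf p M
  have hQ'H : Q' ≤ Subgroup.normalizer (H : Set G) := by
    intro q hq
    refine mem_normalizer_of_cg_eq (Subgroup.eq_of_le_of_card_ge ?_
      (Subgroup.card_map_of_injective (MulAut.conj q).injective).ge)
    calc cg q H = cg q (CfsgLib.Asymmetric.nc H A) := by rw [CfsgLib.Asymmetric.nc_pCoreOf_eq hH]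
      _ ≤ H := by
        rw [cg, CfsgLib.Asymmetric.nc, Subgroup.map_iSup]
        refine iSup_le fun x => ?_
        have hq' : (x : G)⁻¹ * q * x ∈ Q' := (Subgroup.mem_normalizer_iff''.mp (hHQ x.2) q).mp hq
        change cg q (cg (x : G) A) ≤ H
        rw [cg_cg, show q * x = x * ((x : G)⁻¹ * q * x) by group, ← cg_cg,
          cg_eq_of_mem_normalizer (hJ0A (hQ'J hq')).1]
        exact (cg_mono _ hH.2.1).trans (cg_eq_of_mem_normalizer (Subgroup.le_normalizer x.2)).le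
  have hJH : J ≤ Subgroup.normalizer (H : Set G) := sup_le Subgroup.le_normalizer hQ'H
  have hco : ∀ x ∈ J, (orderOf x).Coprime p → x ∈ H := fun x hx hc => mem_of_coprime hQ'p hQ'H hx hc
  have hNY : Subgroup.normalizer (Y : Set G) = M ⊔ Subgroup.centralizer (Y : Set G) := by
    refine le_antisymm ?_ hKY
    have hMN : M ≤ Subgroup.normalizer (Y : Set G) := CfsgLib.PReduced.le_normalizer_largestOf p M
    have hne : Cfsg.pCore p ↥(Subgroup.normalizer (Y : Set G)) ≠ ⊥ := by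
      rw [CfsgLib.PReduced.pCoreOf_ne_bot_iff]
      intro hb
      exact CfsgLib.Asymmetric.largestOf_ne_bot h (le_bot_iff.mp (hb ▸ CfsgLib.PReduced.le_pCoreOf
        Subgroup.le_normalizer le_rfl (CfsgLib.PReduced.isPGroup_of_elementary
          (CfsgLib.PReduced.largestOf_elementary p M))))
    obtain ⟨Z, hNZ, hZ⟩ := (Set.toFinite (Cfsg.charPSubgroups p G)).exists_le_maximal
      (show Subgroup.normalizer (Y : Set G) ∈ Cfsg.charPSubgroups p G from
        ⟨hne, (Cfsg.Agent.S2845.result Q hQp hQ1 hQ).2.1 _ ⟨S, hSM.trans hMN⟩ hne⟩)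
    exact hNZ.trans (hM.2.2.1 Z ⟨hZ.1, fun L hL hZL => le_antisymm (hZ.2 hL hZL) hZL⟩ (hMN.trans hNZ)).le
  refine ⟨hQ'J, hJ0A.trans inf_le_left, hNAK.trans hKY, hNY,
    Subgroup.normal_subgroupOf_of_le_normalizer hJH, ?_, ?_⟩
  · refine le_antisymm (opOf_le_of_forall fun x hx hc => mem_opOf (Subgroup.mem_sup_left hx) hc) ?_
    exact opOf_le_of_forall fun x hx hc => mem_opOf (hco x hx hc) hc
  have hQ0J : Cfsg.pCoreOf p H ≤ J0 := CfsgLib.Asymmetric.pCoreOf_le_of_normal le_sup_left hJH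
  refine ⟨fun hcl => ?_, fun N hN hNcl => ?_⟩
  · obtain ⟨P, hP⟩ := ((CfsgLib.PReduced.isPGroup_pCoreOf p M).comap_of_injective J.subtype
      J.subtype_injective).exists_le_sylow
    haveI := hcl P
    have hPle : A ≤ J0 := fun a ha =>
      ⟨⟨a, hAJ ha⟩, CfsgLib.Fitting.le_pCore inferInstance P.2 (hP ha), rfl⟩
    have hYJ : Y ≤ J0 ⊓ H := le_inf ((CfsgLib.PReduced.largestOf_le_pCoreOf p M).trans hPle)
      (CfsgLib.Asymmetric.largestOf_le_of_pCoreOf_le hH.2.1)
    exact hH.2.2.1 (hYJ.trans (CfsgLib.PReduced.le_pCoreOf inf_le_right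
      (CfsgLib.Coprime.le_normalizer_inf_of_le ((le_sup_left : H ≤ J).trans (CfsgLib.PReduced.le_normalizer_pCoreOf p J))
        Subgroup.le_normalizer) ((CfsgLib.PReduced.isPGroup_pCoreOf p J).to_le inf_le_left)))
  set N' := N.map J.subtype with hN'
  have hN'J : N' ≤ J := Subgroup.map_subtype_le _
  have hN'n : J ≤ Subgroup.normalizer (N' : Set G) :=
    (Subgroup.normal_subgroupOf_iff_le_normalizer hN'J).mp (by
      rw [hN', Subgroup.subgroupOf, Subgroup.comap_map_eq_self_of_injective J.subtype_injective]; exact hN)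
  have hJ0J : J0 ≤ J := Subgroup.map_subtype_le _
  have hTn : H ≤ Subgroup.normalizer (((N' ⊔ J0) ⊓ H : Subgroup G) : Set G) :=
    CfsgLib.Coprime.le_normalizer_inf_of_le
      ((le_sup_left : H ≤ J).trans (CfsgLib.Asymmetric.le_normalizer_sup hN'n
        (CfsgLib.PReduced.le_normalizer_pCoreOf p J))) Subgroup.le_normalizer
  rcases CfsgLib.Asymmetric.dichotomy hH (inf_le_right : (N' ⊔ J0) ⊓ H ≤ H) hTn with hle | hle
  · refine (Subgroup.closure_le _).mpr fun x hx => ?_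
    have hc : (orderOf (x : G)).Coprime p := by rw [Subgroup.orderOf_coe]; exact hx
    have hxN : (x : G) ∈ N' := mem_of_coprime (CfsgLib.PReduced.isPGroup_pCoreOf p J) (hJ0J.trans hN'n)
      (hle (mem_opOf (hco x x.2 hc) hc)).1 hc
    obtain ⟨y, hy, e⟩ := hxN
    exact (Subtype.ext e : y = x) ▸ hy
  · exfalso
    apply hNcl
    intro P
    haveI := CfsgLib.Fitting.pCore_normal (G := J) p
    have hPJ : ∀ z ∈ (P : Subgroup N), ((z : J) : G) ∈ J0 := by
      set Pm := ((P : Subgroup N).map N.subtype).map J.subtype with hPm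
      have hZp : IsPGroup p ↥(Pm ⊔ J0) := IsPGroup.to_sup_of_normal_right' ((P.2.map _).map _)
        (CfsgLib.PReduced.isPGroup_pCoreOf p J)
        ((Subgroup.map_subtype_le _).trans (CfsgLib.PReduced.le_normalizer_pCoreOf p J))
      have hPmN : Pm ≤ N' := Subgroup.map_mono (Subgroup.map_subtype_le _)
      intro z hz
      obtain ⟨a, ha, q, hq, he⟩ := CfsgLib.PReduced.exists_mul_of_mem_sup hHQ (z : J).2
      have hzP : ((z : J) : G) ∈ Pm := ⟨(z : J), ⟨z, hz, rfl⟩, rfl⟩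
      have hae : a = ((z : J) : G) * q⁻¹ := by rw [← he, mul_inv_cancel_right]
      have hbot := hle ((Pm ⊔ J0) ⊓ ((N' ⊔ J0) ⊓ H)) (hZp.to_le inf_le_left) inf_le_right
        (x := a) ⟨hae ▸ Subgroup.mul_mem_sup hzP (J0.inv_mem (hQ'J hq)),
          hae ▸ Subgroup.mul_mem_sup (hPmN hzP) (J0.inv_mem (hQ'J hq)), ha⟩
      rw [← he]
      exact J0.mul_mem (hQ0J hbot) (hQ'J hq)
    have heq : (Cfsg.pCore p J).subgroupOf N = (P : Subgroup N) :=
      P.3 ((CfsgLib.Fitting.pCore_isPGroup p).comap_of_injective N.subtype N.subtype_injective) fun z hz => by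
        obtain ⟨w, hw, e⟩ := hPJ z hz
        obtain rfl : w = (z : J) := Subtype.ext e
        exact Subgroup.mem_subgroupOf.mpr hw
    rw [← heq]
    infer_instance

end Cfsg.Agent.S2854
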