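import Cfsg.Statements.S2855
import Cfsg.Agent.Lib.WeakClosure.Basic
import Cfsg.Agent.Lib.Layer.Radical
import Cfsg.Agent.Lib.Layer.CharPSubnormal
import Cfsg.Agent.Lib.ZJ.RealElements

set_option autoImplicit false
open Cfsg
open scoped commutatorElement Pointwise
set_option linter.style.haveILetI false

namespace Cfsg.Agent.S2855

open CfsgLib.WeakClosure

theorem card_cg {G : Type*} [Group G] (g : G) (A : Subgroup G) : Nat.card ↥(cg g A) = Nat.card A :=
  Subgroup.card_map_of_injective (MulAut.conj g).injective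

/-- In a strongly `p`-irreducible group every element is a `p`-element modulo the derived group. -/
theorem exists_pow_mem_commutator {A : Type*} [Group A] [Finite A] {p : ℕ} [Fact p.Prime]
    (h : Cfsg.IsStronglyPIrreducible p A) (a : A) : ∃ n : ℕ, a ^ p ^ n ∈ commutator A := by
  obtain ⟨hcl, hirr⟩ := h
  have hres : Cfsg.pResidual p A ≤ commutator A := by
    refine hirr _ inferInstance fun hle => hcl fun P => ?_
    haveI := CfsgLib.Fitting.pCore_normal (G := A) p
    set f := QuotientGroup.mk' (Cfsg.pCore p A) with hf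
    have hcen : (commutator A).map f ≤ Subgroup.center (A ⧸ Cfsg.pCore p A) := by
      rw [← Subgroup.commutator_top_right_eq_bot_iff_le_center,
        ← Subgroup.map_top_of_surjective f (QuotientGroup.mk'_surjective _), ← Subgroup.map_commutator,
        Subgroup.map_eq_bot_iff, hf, QuotientGroup.ker_mk']
      exact hle
    haveI : Group.IsNilpotent (A ⧸ Cfsg.pCore p A) := by
      haveI : IsMulCommutative ((A ⧸ Cfsg.pCore p A) ⧸ Subgroup.center (A ⧸ Cfsg.pCore p A)) := by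
        refine ⟨⟨fun u v => ?_⟩⟩
        induction u using QuotientGroup.induction_on with | H u => ?_
        induction v using QuotientGroup.induction_on with | H v => ?_
        rw [← commutatorElement_eq_one_iff_mul_comm, ← QuotientGroup.mk'_apply, ← QuotientGroup.mk'_apply,
          ← map_commutatorElement, QuotientGroup.mk'_apply, QuotientGroup.eq_one_iff]
        obtain ⟨u, rfl⟩ := QuotientGroup.mk'_surjective (Cfsg.pCore p A) u
        obtain ⟨v, rfl⟩ := QuotientGroup.mk'_surjective (Cfsg.pCore p A) v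
        exact hcen ⟨⁅u, v⁆, Subgroup.commutator_mem_commutator (Subgroup.mem_top _) (Subgroup.mem_top _),
          map_commutatorElement _ _ _⟩
      haveI : Group.IsNilpotent ((A ⧸ Cfsg.pCore p A) ⧸ Subgroup.center (A ⧸ Cfsg.pCore p A)) := by
        open scoped IsMulCommutative in infer_instance
      exact Subgroup.isNilpotent_of_ker_le_center (QuotientGroup.mk' (Subgroup.center (A ⧸ Cfsg.pCore p A)))
        (QuotientGroup.ker_mk' _).le
    set Pb := P.mapSurjective (f := f) (QuotientGroup.mk'_surjective _) with hPb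
    have hPn : (Pb : Subgroup (A ⧸ Cfsg.pCore p A)).Normal := by
      have := (Group.isNilpotent_of_finite_tfae (G := A ⧸ Cfsg.pCore p A)).out 0 3
      exact this.mp inferInstance p ‹_› Pb
    have := hPn.comap f
    rwa [hPb, Sylow.coe_mapSurjective, Subgroup.comap_map_eq, hf, QuotientGroup.ker_mk',
      sup_eq_left.mpr (IsPGroup.le_sylow_of_normal (CfsgLib.Fitting.pCore_isPGroup p) P)] at this
  haveI := CfsgLib.Transfer.pResidual_normal p A
  obtain ⟨n, hn⟩ := CfsgLib.Transfer.isPGroup_quotient_pResidual (p := p) (G := A) (a : A ⧸ Cfsg.pResidual p A)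
  exact ⟨n, hres ((QuotientGroup.eq_one_iff _).mp hn)⟩

/-- Elements inducing central commutators centralise, when `O_p = 1`. -/
theorem commute_of_central {X : Type*} [Group X] [Finite X] {p : ℕ} [Fact p.Prime]
    (hO : Cfsg.pCore p X = ⊥) {E W : Subgroup X} (hEW : E ≤ W) (hW : W.IsSubnormal)
    (hab : ∀ e ∈ E, ∃ n : ℕ, e ^ p ^ n ∈ ⁅E, E⁆) (x : X)
    (hc : ∀ e ∈ E, ⁅x, e⁆ ∈ W ∧ ∀ w ∈ W, w * ⁅x, e⁆ = ⁅x, e⁆ * w) :
    ∀ e ∈ E, ⁅x, e⁆ = 1 := by
  have hmul : ∀ a ∈ E, ∀ b ∈ E, ⁅x, a * b⁆ = ⁅x, a⁆ * ⁅x, b⁆ := by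
    intro a ha b hb
    have e : ⁅x, a * b⁆ = ⁅x, a⁆ * (a * ⁅x, b⁆ * a⁻¹) := by
      simp only [commutatorElement_def]; group
    rw [e, (hc b hb).2 a (hEW ha), mul_inv_cancel_right]
  let ψ : E →* X := MonoidHom.mk' (fun e => ⁅x, (e : X)⁆) fun a b => hmul a a.2 b b.2
  intro e he
  obtain ⟨n, hn⟩ := hab e he
  have hker : commutator E ≤ ψ.ker := by
    rw [commutator_def, Subgroup.commutator_le]
    intro a _ b _
    rw [MonoidHom.mem_ker, map_commutatorElement, commutatorElement_eq_one_iff_mul_comm]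
    exact (hc b b.2).2 _ (hc a a.2).1
  have hmem : (⟨e, he⟩ : E) ^ p ^ n ∈ commutator E := by
    rw [← Subgroup.map_subtype_commutator] at hn
    obtain ⟨y, hy, hye⟩ := hn
    rwa [show (⟨e, he⟩ : E) ^ p ^ n = y from Subtype.ext (by rw [Subgroup.coe_pow]; exact hye.symm)]
  have hpow : ⁅x, e⁆ ^ p ^ n = 1 := by
    have := hker hmem
    rw [MonoidHom.mem_ker, map_pow] at this
    exact this
  set C := Subgroup.zpowers ⁅x, e⁆ with hC
  have hCW : C ≤ W := Subgroup.zpowers_le.mpr (hc e he).1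
  have hCp : IsPGroup p C := by
    have hd := orderOf_dvd_of_pow_eq_one hpow
    obtain ⟨k, -, hk⟩ := (Nat.dvd_prime_pow (Fact.out : p.Prime)).mp hd
    exact IsPGroup.of_card (n := k) (by rw [hC, Nat.card_zpowers, hk])
  have hsub : C.IsSubnormal := by
    refine Subgroup.IsSubnormal.trans hCW ?_ hW
    refine Subgroup.Normal.isSubnormal ⟨fun c hc' w => ?_⟩
    obtain ⟨i, hi⟩ := Subgroup.mem_zpowers_iff.mp hc'
    have hcomm : Commute (w : X) (c : X) := by
      change Commute (w : X) (W.subtype c)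
      rw [show W.subtype c = ⁅x, e⁆ ^ i from hi.symm]
      exact Commute.zpow_right ((hc e he).2 w w.2) i
    rw [show w * c * w⁻¹ = c from Subtype.ext (by
      simp only [Subgroup.coe_mul, InvMemClass.coe_inv]
      rw [hcomm.eq, mul_inv_cancel_right])]
    exact hc'
  have := CfsgLib.Layer.le_pCore_of_isSubnormal hsub hCp (Subgroup.mem_zpowers _)
  rwa [hO, Subgroup.mem_bot] at this

theorem relIndex_inf_eq {H : Type*} [Group H] [Finite H] {T E Q : Subgroup H} [Q.Normal] (hQT : Q ≤ T) :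
    T.relIndex E = T.relIndex (E ⊔ Q) := by
  have hTW : T ⊓ (E ⊔ Q) = (T ⊓ E) ⊔ Q := by
    refine le_antisymm (fun x hx => ?_) (sup_le (inf_le_inf_left _ le_sup_left) (le_inf hQT le_sup_right))
    obtain ⟨e, he, q, hq, rfl⟩ := Subgroup.mem_sup_of_normal_right.mp hx.2
    exact Subgroup.mul_mem_sup ⟨(T.mul_mem_cancel_right (hQT hq)).mp hx.1, he⟩ hq
  have h1 := Subgroup.relIndex_mul_relIndex (Q ⊓ E) (T ⊓ E) E (inf_le_inf_right _ hQT) inf_le_right
  have h2 := Subgroup.relIndex_mul_relIndex Q (T ⊓ (E ⊔ Q)) (E ⊔ Q) (le_inf hQT le_sup_right) inf_le_right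
  rw [Subgroup.inf_relIndex_right, Subgroup.inf_relIndex_right] at h1
  rw [Subgroup.inf_relIndex_right, Subgroup.relIndex_sup_right, hTW, Subgroup.relIndex_sup_right] at h2
  have h3 : (Q ⊓ E).relIndex (T ⊓ E) = Q.relIndex (T ⊓ E) := by
    rw [← Subgroup.inf_relIndex_right (Q ⊓ E), ← Subgroup.inf_relIndex_right Q (T ⊓ E), inf_assoc,
      inf_eq_right.mpr (inf_le_right : T ⊓ E ≤ E)]
  rw [h3, ← h2] at h1
  exact mul_left_cancel₀ Subgroup.index_ne_zero_of_finite h1

theorem minimalOver {H : Type*} [Group H] [Finite H] {p : ℕ} [Fact p.Prime] (𝒦 : Set (Subgroup H))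
    (hne : 𝒦.Nonempty) (hinv : ∀ h : H, ∀ E ∈ 𝒦, E.map (MulAut.conj h).toMonoidHom ∈ 𝒦)
    (htr : ∀ E ∈ 𝒦, ∀ K ∈ 𝒦, ∃ h : H, K = E.map (MulAut.conj h).toMonoidHom)
    (hres : Cfsg.pResidual p H ≤ sSup 𝒦)
    (hnorm : ∀ E ∈ 𝒦, sSup 𝒦 ⊔ Cfsg.pCore p H ≤ Subgroup.normalizer ((E ⊔ Cfsg.pCore p H : Subgroup H) : Set H))
    (hmin : ∀ E ∈ 𝒦, ∀ T : Sylow p ↥E, Cfsg.IsMinimalOver (T : Subgroup ↥E)) (T : Sylow p H) :
    Cfsg.IsMinimalOver (T : Subgroup H) := by
  haveI := CfsgLib.Fitting.pCore_normal (G := H) p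
  set Q := Cfsg.pCore p H with hQ
  set K0 := sSup 𝒦 with hK0
  have hQT : Q ≤ (T : Subgroup H) := IsPGroup.le_sylow_of_normal (CfsgLib.Fitting.pCore_isPGroup p) T
  haveI hK0n : K0.Normal := ⟨fun x hx g => by
    have hle : K0 ≤ K0.comap (MulAut.conj g).toMonoidHom := sSup_le fun E hE => by
      rw [← Subgroup.map_le_iff_le_comap]; exact le_sSup (hinv g E hE)
    exact hle hx⟩
  -- the subgroups E ⊔ Q are subnormal
  have hsub : ∀ E ∈ 𝒦, (E ⊔ Q).IsSubnormal := fun E hE =>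
    Subgroup.IsSubnormal.trans (sup_le_sup_right (le_sSup hE : E ≤ K0) Q)
      (Subgroup.normal_subgroupOf_of_le_normalizer (hnorm E hE)).isSubnormal
      (Subgroup.Normal.isSubnormal inferInstance)
  have hTW : ∀ E ∈ 𝒦, ¬ p ∣ (T : Subgroup H).relIndex (E ⊔ Q) := fun E hE =>
    CfsgLib.CharCore.not_dvd_relIndex_of_isSubnormal (hsub E hE) T
  have hsyl : ∀ E ∈ 𝒦, ∃ S : Sylow p ↥E, (S : Subgroup ↥E) = (T : Subgroup H).subgroupOf E := fun E hE =>
    ⟨(T.2.comap_of_injective E.subtype E.subtype_injective).toSylow (by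
      change ¬ p ∣ (T : Subgroup H).relIndex E
      rw [relIndex_inf_eq hQT]; exact hTW E hE), rfl⟩
  have hnotle : ∀ E ∈ 𝒦, ¬ E ≤ (T : Subgroup H) := by
    intro E hE hle
    obtain ⟨S, hS⟩ := hsyl E hE
    obtain ⟨U, ⟨hU, hSU⟩, -⟩ := (hmin E hE S).2
    rw [hS, Subgroup.subgroupOf_eq_top.mpr hle] at hSU
    exact hU.1 (top_le_iff.mp hSU)
  have hcover : ∀ L : Subgroup H, (T : Subgroup H) ≤ L → (∀ E ∈ 𝒦, E ≤ L) → L = ⊤ := by
    intro L hTL hL
    rw [eq_top_iff, ← CfsgLib.Transfer.sylow_sup_pResidual T]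
    exact sup_le hTL (hres.trans (sSup_le hL))
  have hclosure : Subgroup.normalClosure ((T : Subgroup H) : Set H) = ⊤ := by
    refine hcover _ Subgroup.le_normalClosure fun E hE => ?_
    obtain ⟨S, hS⟩ := hsyl E hE
    refine Subgroup.subgroupOf_eq_top.mp (top_le_iff.mp ((hmin E hE S).1.ge.trans
      (Subgroup.normalClosure_le_normal ?_)))
    intro x hx
    rw [hS] at hx
    exact Subgroup.le_normalClosure hx
  refine ⟨hclosure, ?_⟩
  obtain ⟨E₀, hE₀⟩ := hne
  have hTne : (T : Subgroup H) ≠ ⊤ := fun h => hnotle E₀ hE₀ (h ▸ le_top)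
  obtain ⟨M₀, hM₀, hTM₀⟩ := (eq_top_or_exists_le_coatom _).resolve_left hTne
  refine ⟨M₀, ⟨hM₀, hTM₀⟩, ?_⟩
  -- the unique maximal subgroup in each E ⊔ Q
  have hgood : ∀ E ∈ 𝒦, ∃ U : Subgroup H, U < E ⊔ Q ∧ (T : Subgroup H) ⊓ (E ⊔ Q) ≤ U ∧
      (∀ Y : Subgroup H, (T : Subgroup H) ⊓ (E ⊔ Q) ≤ Y → Y < E ⊔ Q → Y ≤ U) := by
    intro E hE
    obtain ⟨S, hS⟩ := hsyl E hE
    obtain ⟨Ue, ⟨hUe, hSU⟩, huniq⟩ := (hmin E hE S).2
    refine ⟨Ue.map E.subtype ⊔ Q, lt_of_le_of_ne (sup_le_sup_right (Subgroup.map_subtype_le _) Q) ?_, ?_, ?_⟩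
    · intro heq
      apply hUe.1
      rw [eq_top_iff]
      intro e _
      obtain ⟨u, ⟨u', hu', rfl⟩, q, hq, he⟩ :=
        Subgroup.mem_sup_of_normal_right.mp (heq.ge (Subgroup.mem_sup_left e.2))
      have hqE : q ∈ E := by
        have := E.mul_mem (E.inv_mem u'.2) e.2
        rwa [← he, Subgroup.coe_subtype, inv_mul_cancel_left] at this
      have : e = u' * ⟨q, hqE⟩ := Subtype.ext he.symm
      rw [this]
      exact Ue.mul_mem hu' (hSU (by rw [hS]; exact hQT hq))
    · rintro x ⟨hxT, hxW⟩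
      obtain ⟨e, he, q, hq, rfl⟩ := Subgroup.mem_sup_of_normal_right.mp hxW
      refine Subgroup.mul_mem_sup ⟨⟨e, he⟩, hSU ?_, rfl⟩ hq
      rw [hS]
      exact ((T : Subgroup H).mul_mem_cancel_right (hQT hq)).mp hxT
    · intro Y hTY hY
      have hYE : Y.subgroupOf E ≤ Ue := by
        rcases eq_top_or_exists_le_coatom (Y.subgroupOf E) with h | ⟨C, hC, hle⟩
        · exact absurd (sup_le (Subgroup.subgroupOf_eq_top.mp h)
            ((le_inf hQT le_sup_right).trans hTY)) (not_le_of_gt hY)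
        · rwa [← huniq C ⟨hC, fun x hx => hle (hTY ⟨by rw [hS] at hx; exact hx, Subgroup.mem_sup_left x.2⟩)⟩]
      intro y hy
      obtain ⟨e, he, q, hq, rfl⟩ := Subgroup.mem_sup_of_normal_right.mp (hY.le hy)
      refine Subgroup.mul_mem_sup ⟨⟨e, he⟩, hYE ?_, rfl⟩ hq
      exact (Y.mul_mem_cancel_right (hTY ⟨hQT hq, Subgroup.mem_sup_right hq⟩)).mp hy
  choose U hUlt hTU hUmax using hgood
  have hUext : ∀ E (hE : E ∈ 𝒦) F (hF : F ∈ 𝒦), E = F → U E hE = U F hF := by
    rintro E hE F hF rfl; rfl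
  -- the stabiliser of the family
  let X : Subgroup H :=
    { carrier := {h | ∀ E (hE : E ∈ 𝒦), cg h (U E hE) = U (cg h E) (hinv h E hE)}
      one_mem' := fun E hE => by rw [cg_one]; exact hUext _ _ _ _ (cg_one E).symm
      mul_mem' := fun {a b} ha hb E hE => by
        rw [← cg_cg, hb E hE, ha _ (hinv b E hE)]
        exact hUext _ _ _ _ (cg_cg a b E)
      inv_mem' := fun {a} ha E hE => by
        have := congrArg (cg a⁻¹) (ha _ (hinv a⁻¹ E hE))
        rw [cg_inv_cg] at this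
        rw [this]
        congr 1
        exact hUext _ _ _ _ (by change E = cg a (cg a⁻¹ E); rw [cg_cg, mul_inv_cancel, cg_one]) }
  have hMX : ∀ M : Subgroup H, IsCoatom M → (T : Subgroup H) ≤ M → M ≤ X := by
    intro M hM hTM
    have hnE : ∀ E ∈ 𝒦, ¬ E ⊔ Q ≤ M := by
      intro E hE hle
      refine hM.1 (hcover M hTM fun F hF => ?_)
      obtain ⟨h, rfl⟩ := htr E hE F hF
      have htop : (T : Subgroup H) ⊔ (K0 ⊔ Q) = ⊤ :=
        hcover _ le_sup_left fun E hE => (le_sSup hE).trans (le_sup_left.trans le_sup_right)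
      obtain ⟨t, ht, k, hk, rfl⟩ := Subgroup.mem_sup_of_normal_right.mp (htop.ge (Subgroup.mem_top h))
      change cg (t * k) E ≤ M
      rw [← cg_cg]
      refine ((cg_mono t ((cg_mono k le_sup_left).trans
        (cg_eq_of_mem_normalizer (hnorm E hE hk)).le)).trans (cg_mono t hle)).trans ?_
      exact (cg_eq_of_mem_normalizer (Subgroup.le_normalizer (hTM ht))).le
    have key : ∀ h ∈ M, ∀ E (hE : E ∈ 𝒦), cg h (U E hE) ≤ U (cg h E) (hinv h E hE) := by
      intro h hh E hE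
      have hW : cg h (E ⊔ Q) = cg h E ⊔ Q := by
        rw [cg, Subgroup.map_sup]
        exact congrArg₂ _ rfl (cg_eq_of_mem_normalizer (Subgroup.le_normalizer_of_normal (Subgroup.mem_top h)))
      set F := cg h E with hFdef
      have hF : F ∈ 𝒦 := hinv h E hE
      set W := F ⊔ Q with hWdef
      set V := M ⊓ W with hVdef
      have hVlt : V < W := lt_of_le_of_ne inf_le_right fun he => hnE F hF (inf_eq_right.mp he)
      have hTV : (T : Subgroup H) ⊓ W ≤ V := inf_le_inf_right _ hTM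
      have hVU : V ≤ U F hF := hUmax F hF V hTV hVlt
      -- conjugate Sylow subgroups of V
      set P := cg h ((T : Subgroup H) ⊓ (E ⊔ Q)) with hP
      have hPV : P ≤ V := le_inf
        ((cg_mono h (inf_le_left.trans hTM)).trans (cg_eq_of_mem_normalizer (Subgroup.le_normalizer hh)).le)
        ((cg_mono h inf_le_right).trans hW.le)
      have hTVs : ¬ p ∣ (((T : Subgroup H) ⊓ W).subgroupOf V).index := fun hd =>
        hTW F hF (hd.trans (by
          rw [← Subgroup.inf_relIndex_right (T : Subgroup H) W]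
          exact Dvd.intro _ (Subgroup.relIndex_mul_relIndex _ V W hTV inf_le_right)))
      let S₁ : Sylow p V :=
        ((T.2.to_le inf_le_left).of_equiv (Subgroup.subgroupOfEquivOfLe hTV).symm).toSylow hTVs
      obtain ⟨S₂, hS₂⟩ := (((T.2.to_le inf_le_left).map (MulAut.conj h).toMonoidHom).of_equiv
        (Subgroup.subgroupOfEquivOfLe hPV).symm).exists_le_sylow
      obtain ⟨y, hy⟩ := MulAction.exists_smul_eq V S₁ S₂
      have hPy : P ≤ cg (y : H) ((T : Subgroup H) ⊓ W) := by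
        intro x hx
        have h1 : (⟨x, hPV hx⟩ : V) ∈ ((y • S₁ : Sylow p V) : Subgroup V) := hy ▸ hS₂ hx
        obtain ⟨z, hz, hzx⟩ := h1
        exact ⟨z, hz, congrArg Subtype.val hzx⟩
      have hcardP : Nat.card ↥((T : Subgroup H) ⊓ (E ⊔ Q)) = Nat.card ↥((T : Subgroup H) ⊓ W) := by
        have hpow : ∀ F' ∈ 𝒦, Nat.card ↥((T : Subgroup H) ⊓ (F' ⊔ Q)) = p ^ (Nat.card ↥(F' ⊔ Q)).factorization p := by
          intro F' hF'
          let S' : Sylow p ↥(F' ⊔ Q) := ((T.2.to_le inf_le_left).of_equiv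
            (Subgroup.subgroupOfEquivOfLe (inf_le_right : (T : Subgroup H) ⊓ (F' ⊔ Q) ≤ F' ⊔ Q)).symm).toSylow (by
              change ¬ p ∣ ((T : Subgroup H) ⊓ (F' ⊔ Q)).relIndex (F' ⊔ Q)
              rw [Subgroup.inf_relIndex_right]; exact hTW F' hF')
          rw [← S'.card_eq_multiplicity]
          exact (Nat.card_congr (Subgroup.subgroupOfEquivOfLe inf_le_right).toEquiv).symm
        rw [hpow E hE, hpow F hF, ← card_cg h (E ⊔ Q), hW]
      have hPeq : P = cg (y : H) ((T : Subgroup H) ⊓ W) := Subgroup.eq_of_le_of_card_ge hPy (by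
        rw [hP, card_cg, card_cg, hcardP])
      have hyW : (y : H) ∈ W := (inf_le_right : V ≤ W) y.2
      have hyU : (y : H) ∈ U F hF := hVU y.2
      set Y := cg (y : H)⁻¹ (cg h (U E hE)) with hY
      have hYW : Y < W := by
        refine lt_of_le_of_ne (((cg_mono _ ((cg_mono h (hUlt E hE).le).trans hW.le))).trans
          (cg_eq_of_mem_normalizer (Subgroup.le_normalizer (W.inv_mem hyW))).le) fun he => (hUlt E hE).ne ?_
        have h1 : cg (y : H) Y = cg h (U E hE) := by rw [hY, cg_cg, mul_inv_cancel, cg_one]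
        rw [he, cg_eq_of_mem_normalizer (Subgroup.le_normalizer hyW), ← hW] at h1
        exact (Subgroup.map_injective (MulAut.conj h).injective h1).symm
      have hTY : (T : Subgroup H) ⊓ W ≤ Y := by
        have := cg_mono (y : H)⁻¹ (cg_mono h (hTU E hE))
        rwa [← hP, hPeq, cg_inv_cg] at this
      have hle := cg_mono (y : H) (hUmax F hF Y hTY hYW)
      rw [hY, cg_cg, mul_inv_cancel, cg_one, cg_eq_of_mem_normalizer (Subgroup.le_normalizer hyU)] at hle
      exact hle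
    intro h hh E hE
    refine le_antisymm (key h hh E hE) ?_
    have h2 := cg_mono h (key h⁻¹ (M.inv_mem hh) (cg h E) (hinv h E hE))
    rw [cg_cg, mul_inv_cancel, cg_one] at h2
    exact h2.trans (le_of_eq (congrArg (cg h) (hUext _ _ _ hE (cg_inv_cg h E))))
  have hXne : X ≠ ⊤ := by
    intro htop
    obtain ⟨S, hS⟩ := hsyl E₀ hE₀
    set V := U E₀ hE₀ with hV
    haveI : (V.subgroupOf E₀).Normal := by
      refine Subgroup.normalizer_eq_top_iff.mp (eq_top_iff.mpr fun e _ => ?_)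
      have he : (e : H) ∈ X := htop ▸ Subgroup.mem_top _
      have hcgE : cg (e : H) E₀ = E₀ := cg_eq_of_mem_normalizer (Subgroup.le_normalizer e.2)
      have h1 := (he E₀ hE₀).trans (hUext _ _ _ hE₀ hcgE)
      rw [Subgroup.mem_normalizer_iff]
      intro x
      exact Subgroup.mem_normalizer_iff.mp (mem_normalizer_of_cg_eq h1) (x : H)
    have h2 : V.subgroupOf E₀ = ⊤ := top_le_iff.mp ((hmin E₀ hE₀ S).1.ge.trans
      (Subgroup.normalClosure_le_normal fun x hx => by
        rw [hS] at hx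
        exact hTU E₀ hE₀ ⟨hx, Subgroup.mem_sup_left x.2⟩))
    exact absurd (sup_le (Subgroup.subgroupOf_eq_top.mp h2)
      ((le_inf hQT le_sup_right).trans (hTU E₀ hE₀))) (not_le_of_gt (hUlt E₀ hE₀))
  rintro M ⟨hM, hTM⟩
  have e1 : ∀ N : Subgroup H, IsCoatom N → (T : Subgroup H) ≤ N → N = X := fun N hN hTN =>
    by_contra fun hne => hXne (hN.2 X (lt_of_le_of_ne (hMX N hN hTN) hne))
  rw [e1 M hM hTM, e1 M₀ hM₀ hTM₀]

theorem irreducible {H : Type*} [Group H] [Finite H] {p : ℕ} [Fact p.Prime] (𝒦 : Set (Subgroup H))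
    (hne : 𝒦.Nonempty) (hinv : ∀ h : H, ∀ E ∈ 𝒦, E.map (MulAut.conj h).toMonoidHom ∈ 𝒦)
    (htr : ∀ E ∈ 𝒦, ∀ K ∈ 𝒦, ∃ h : H, K = E.map (MulAut.conj h).toMonoidHom)
    (hres : Cfsg.pResidual p H ≤ sSup 𝒦)
    (hnorm : ∀ E ∈ 𝒦, sSup 𝒦 ⊔ Cfsg.pCore p H ≤ Subgroup.normalizer ((E ⊔ Cfsg.pCore p H : Subgroup H) : Set H))
    (hs : ∀ E ∈ 𝒦, Cfsg.IsStronglyPIrreducible p ↥E) :
    Cfsg.IsPIrreducible p H ∧ ∀ E ∈ 𝒦, ∀ K ∈ 𝒦, opOf p (E ⊔ Cfsg.pCore p H) = opOf p (K ⊔ Cfsg.pCore p H) ∨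
      ⁅E, K⁆ ≤ Cfsg.pCore p H := by
  haveI := CfsgLib.Fitting.pCore_normal (G := H) p
  set Q := Cfsg.pCore p H with hQ
  have hQp : IsPGroup p Q := CfsgLib.Fitting.pCore_isPGroup p
  set K0 := sSup 𝒦 with hK0
  haveI hK0n : K0.Normal := ⟨fun x hx g => by
    have hle : K0 ≤ K0.comap (MulAut.conj g).toMonoidHom := sSup_le fun E hE => by
      rw [← Subgroup.map_le_iff_le_comap]; exact le_sSup (hinv g E hE)
    exact hle hx⟩
  have hsub : ∀ E ∈ 𝒦, (E ⊔ Q).IsSubnormal := fun E hE =>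
    Subgroup.IsSubnormal.trans (sup_le_sup_right (le_sSup hE : E ≤ K0) Q)
      (Subgroup.normal_subgroupOf_of_le_normalizer (hnorm E hE)).isSubnormal
      (Subgroup.Normal.isSubnormal inferInstance)
  set f := QuotientGroup.mk' Q with hf
  have hsurj : Function.Surjective f := QuotientGroup.mk'_surjective Q
  have hO : Cfsg.pCore p (H ⧸ Q) = ⊥ := by
    have hn := (CfsgLib.Fitting.pCore_normal (G := H ⧸ Q) p).comap f
    have hpg : IsPGroup p ((Cfsg.pCore p (H ⧸ Q)).comap f) :=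
      IsPGroup.comap_of_ker_isPGroup (CfsgLib.Fitting.pCore_isPGroup p) f (by
        rw [hf, QuotientGroup.ker_mk']; exact hQp)
    rw [← Subgroup.map_comap_eq_self_of_surjective hsurj (Cfsg.pCore p (H ⧸ Q)), Subgroup.map_eq_bot_iff,
      hf, QuotientGroup.ker_mk']
    exact CfsgLib.Fitting.le_pCore hn hpg
  have hmapQ : ∀ E : Subgroup H, (E ⊔ Q).map f = E.map f := fun E => by
    rw [Subgroup.map_sup, hf, QuotientGroup.map_mk'_self, sup_bot_eq]
  have hEsub : ∀ E ∈ 𝒦, (E.map f).IsSubnormal := fun E hE => hmapQ E ▸ (hsub E hE).map hsurj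
  have hab : ∀ E ∈ 𝒦, ∀ e ∈ E.map f, ∃ n : ℕ, e ^ p ^ n ∈ ⁅E.map f, E.map f⁆ := by
    rintro E hE _ ⟨e, he, rfl⟩
    obtain ⟨n, hn⟩ := exists_pow_mem_commutator (hs E hE) ⟨e, he⟩
    refine ⟨n, ?_⟩
    rw [← Subgroup.map_commutator, ← Subgroup.map_subtype_commutator, ← map_pow]
    exact ⟨e ^ p ^ n, ⟨_, hn, rfl⟩, rfl⟩
  -- the two cases for a normal subgroup of E
  have hEcore : ∀ E ∈ 𝒦, (Cfsg.pCore p ↥E).map E.subtype ≤ Q := by
    intro E hE
    set Z := (Cfsg.pCore p ↥E).map E.subtype with hZ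
    have hZp : IsPGroup p Z := (CfsgLib.Fitting.pCore_isPGroup p).map _
    have hZn : E ≤ Subgroup.normalizer (Z : Set H) :=
      CfsgLib.PSolvable.le_normalizer_map_of_characteristic Subgroup.le_normalizer (Cfsg.pCore p ↥E)
    haveI : ((Z.map f).subgroupOf (E.map f)).Normal :=
      Subgroup.normal_subgroupOf_of_le_normalizer
        ((Subgroup.map_mono hZn).trans (Subgroup.le_normalizer_map f))
    have hsn : (Z.map f).IsSubnormal := Subgroup.IsSubnormal.trans
      (Subgroup.map_mono (Subgroup.map_subtype_le _)) (Subgroup.Normal.isSubnormal inferInstance) (hEsub E hE)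
    have hle := CfsgLib.Layer.le_pCore_of_isSubnormal hsn (hZp.map f)
    rw [hO, le_bot_iff, Subgroup.map_eq_bot_iff, hf, QuotientGroup.ker_mk'] at hle
    exact hle
  have hdich : ∀ E ∈ 𝒦, ∀ M : Subgroup H, E ≤ Subgroup.normalizer (M : Set H) →
      (∀ m ∈ (M ⊓ E).map f, ∀ e ∈ E.map f, e * m = m * e) ∨
      (∀ x ∈ E, (orderOf x).Coprime p → x ∈ M) := by
    intro E hE M hEM
    haveI : (M.subgroupOf E).Normal := by
      refine Subgroup.normalizer_eq_top_iff.mp (eq_top_iff.mpr fun e _ => ?_)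
      rw [Subgroup.mem_normalizer_iff]
      intro x
      exact Subgroup.mem_normalizer_iff.mp (hEM e.2) (x : H)
    by_cases hc : ⁅M.subgroupOf E, (⊤ : Subgroup ↥E)⁆ ≤ Cfsg.pCore p ↥E
    · left
      rintro _ ⟨m, hm, rfl⟩ _ ⟨e, he, rfl⟩
      rw [← commutatorElement_eq_one_iff_mul_comm, ← map_commutatorElement]
      refine (QuotientGroup.eq_one_iff _).mpr (hEcore E hE ?_)
      refine ⟨⁅(⟨e, he⟩ : E), (⟨m, hm.2⟩ : E)⁆, ?_, rfl⟩
      refine hc ?_
      rw [Subgroup.commutator_comm]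
      exact Subgroup.commutator_mem_commutator (Subgroup.mem_top _) hm.1
    · right
      intro x hx hxc
      exact (hs E hE).2 _ inferInstance hc (Subgroup.subset_closure (k := {g : E | (orderOf g).Coprime p})
        (show (⟨x, hx⟩ : E) ∈ {g : E | (orderOf g).Coprime p} by rw [Set.mem_ofPred_eq, Subgroup.orderOf_mk]; exact hxc))
  have hgenE : ∀ E : Subgroup H, ∀ M : Subgroup H, (∀ x ∈ E, (orderOf x).Coprime p → x ∈ M) →
      ∀ P : Sylow p ↥E, E ≤ M ⊔ (P : Subgroup ↥E).map E.subtype := by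
    intro E M hM P
    intro e he
    have hle : Cfsg.pResidual p ↥E ≤ M.subgroupOf E :=
      (Subgroup.closure_le _).mpr fun g hg => hM g g.2 (by rw [Subgroup.orderOf_coe]; exact hg)
    have h1 := (CfsgLib.Transfer.sylow_sup_pResidual P).ge.trans (sup_le_sup_left hle _) (Subgroup.mem_top ⟨e, he⟩)
    have h2 := Subgroup.mem_map_of_mem E.subtype h1
    rw [Subgroup.map_sup, sup_comm, Subgroup.subgroupOf_map_subtype] at h2
    have h3 : M ⊓ E ⊔ (P : Subgroup ↥E).map E.subtype ≤ M ⊔ (P : Subgroup ↥E).map E.subtype :=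
      sup_le (inf_le_left.trans le_sup_left) le_sup_right
    exact h3 h2
  refine ⟨⟨?_, ?_⟩, ?_⟩
  · intro hcl
    obtain ⟨E, hE⟩ := hne
    refine (hs E hE).1 fun P => ?_
    obtain ⟨R, hR⟩ := (P.2.map E.subtype).exists_le_sylow
    haveI := hcl R
    have heq : (R : Subgroup H).subgroupOf E = (P : Subgroup ↥E) :=
      P.3 (R.2.comap_of_injective E.subtype E.subtype_injective) (fun x hx => hR ⟨x, hx, rfl⟩)
    rw [← heq]
    infer_instance
  · intro N hN hNcl
    haveI := hN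
    by_contra hcon
    apply hNcl
    have hNQ : ∀ E ∈ 𝒦, ∀ m ∈ ((N ⊔ Q) ⊓ E).map f, ∀ e ∈ E.map f, e * m = m * e := by
      intro E hE
      rcases hdich E hE (N ⊔ Q) Subgroup.le_normalizer_of_normal with h | h
      · exact h
      · exfalso
        apply hcon
        have hallE : ∀ F ∈ 𝒦, ∀ x ∈ F, (orderOf x).Coprime p → x ∈ N ⊔ Q := by
          intro F hF x hx hxc
          obtain ⟨g, rfl⟩ := htr E hE F hF
          obtain ⟨y, hy, rfl⟩ := hx
          change g * y * g⁻¹ ∈ N ⊔ Q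
          exact (inferInstance : (N ⊔ Q).Normal).conj_mem _ (h y hy (by
            rwa [show (MulAut.conj g).toMonoidHom y = g * y * g⁻¹ from rfl, orderOf_conj'] at hxc)) g
        set π := QuotientGroup.mk' (N ⊔ Q) with hπ
        have hπs : Function.Surjective π := QuotientGroup.mk'_surjective _
        haveI := CfsgLib.Fitting.pCore_normal (G := H ⧸ (N ⊔ Q)) p
        have hle : K0.map π ≤ Cfsg.pCore p (H ⧸ (N ⊔ Q)) := by
          rw [Subgroup.map_le_iff_le_comap]
          refine sSup_le fun F hF => ?_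
          rw [← Subgroup.map_le_iff_le_comap]
          have hmap : (F ⊔ Q).map π = F.map π := by
            rw [Subgroup.map_sup, sup_eq_left]
            rw [(Subgroup.map_eq_bot_iff Q).mpr ((le_sup_right : Q ≤ N ⊔ Q).trans (QuotientGroup.ker_mk' _).ge)]
            exact bot_le
          refine CfsgLib.Layer.le_pCore_of_isSubnormal (hmap ▸ (hsub F hF).map hπs) ?_
          obtain ⟨P⟩ := (inferInstance : Nonempty (Sylow p ↥F))
          refine (((P.2.map F.subtype).map π)).to_le ((Subgroup.map_mono (hgenE F _ (hallE F hF) P)).trans ?_)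
          rw [Subgroup.map_sup, hπ, QuotientGroup.map_mk'_self, bot_sup_eq]
        refine (Subgroup.closure_le _).mpr fun x hx => ?_
        have hxp : IsPGroup p (Cfsg.pCore p (H ⧸ (N ⊔ Q))) := CfsgLib.Fitting.pCore_isPGroup p
        have hxK : x ∈ K0 := hres (Subgroup.subset_closure hx)
        obtain ⟨k, hk⟩ := IsPGroup.iff_orderOf.mp hxp ⟨π x, hle ⟨x, hxK, rfl⟩⟩
        rw [Subgroup.orderOf_mk] at hk
        have h1 := Nat.eq_one_of_dvd_coprimes ((hx : (orderOf x).Coprime p).pow_right k)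
          (orderOf_map_dvd π x) hk.dvd
        rw [orderOf_eq_one_iff, hπ, QuotientGroup.mk'_apply, QuotientGroup.eq_one_iff] at h1
        exact mem_of_coprime hQp Subgroup.le_normalizer_of_normal h1 hx
    -- N ∩ K0 centralises every member modulo Q
    have hc1 : ∀ x ∈ N, x ∈ K0 → ∀ E ∈ 𝒦, ∀ e ∈ E.map f, ⁅f x, e⁆ = 1 := by
      intro x hxN hxK E hE
      refine commute_of_central hO le_rfl (hEsub E hE) (hab E hE) (f x) ?_
      rintro _ ⟨e, he, rfl⟩
      rw [← map_commutatorElement]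
      have hcE : ⁅x, e⁆ ∈ E ⊔ Q := by
        rw [commutatorElement_def]
        exact (E ⊔ Q).mul_mem ((Subgroup.mem_normalizer_iff.mp (hnorm E hE (Subgroup.mem_sup_left hxK)) e).mp
          (Subgroup.mem_sup_left he)) ((E ⊔ Q).inv_mem (Subgroup.mem_sup_left he))
      have hcN : ⁅x, e⁆ ∈ N := by
        rw [commutatorElement_def, show x * e * x⁻¹ * e⁻¹ = x * (e * x⁻¹ * e⁻¹) by group]
        exact N.mul_mem hxN (hN.conj_mem _ (N.inv_mem hxN) e)
      obtain ⟨a, ha, q, hq, hq'⟩ := Subgroup.mem_sup_of_normal_right.mp hcE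
      have hfa : f ⁅x, e⁆ = f a := by
        rw [← hq', map_mul, show f q = 1 from (QuotientGroup.eq_one_iff q).mpr hq, mul_one]
      have haN : a ∈ N ⊔ Q := by
        rw [← mul_inv_cancel_right a q, hq']
        exact Subgroup.mul_mem_sup hcN (Q.inv_mem hq)
      rw [hfa]
      exact ⟨⟨a, ha, rfl⟩, hNQ E hE _ ⟨a, ⟨haN, ha⟩, rfl⟩⟩
    have hc1' : ∀ x ∈ N, x ∈ K0 → ∀ w ∈ K0.map f, w * f x = f x * w := by
      intro x hxN hxK w hw
      have hle : K0.map f ≤ Subgroup.centralizer ({f x} : Set (H ⧸ Q)) := by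
        rw [Subgroup.map_le_iff_le_comap]
        refine sSup_le fun E hE e he => Subgroup.mem_centralizer_singleton_iff.mpr ?_
        exact (commutatorElement_eq_one_iff_mul_comm.mp (hc1 x hxN hxK E hE _ ⟨e, he, rfl⟩)).symm
      exact Subgroup.mem_centralizer_singleton_iff.mp (hle hw)
    haveI : (K0.map f).Normal := Subgroup.Normal.map inferInstance f hsurj
    have hc2 : ∀ x ∈ N, ∀ E ∈ 𝒦, ∀ e ∈ E.map f, ⁅f x, e⁆ = 1 := by
      intro x hxN E hE
      refine commute_of_central hO (Subgroup.map_mono (le_sSup hE)) (Subgroup.Normal.isSubnormal inferInstance)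
        (hab E hE) (f x) ?_
      rintro _ ⟨e, he, rfl⟩
      rw [← map_commutatorElement]
      have hcK : ⁅x, e⁆ ∈ K0 := by
        rw [commutatorElement_def]
        exact K0.mul_mem (hK0n.conj_mem _ (le_sSup (a := E) hE he) x) (K0.inv_mem (le_sSup (a := E) hE he))
      have hcN : ⁅x, e⁆ ∈ N := by
        rw [commutatorElement_def, show x * e * x⁻¹ * e⁻¹ = x * (e * x⁻¹ * e⁻¹) by group]
        exact N.mul_mem hxN (hN.conj_mem _ (N.inv_mem hxN) e)
      exact ⟨⟨_, hcK, rfl⟩, hc1' _ hcN hcK⟩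
    intro P
    set Pm := (P : Subgroup ↥N).map N.subtype with hPm
    have hNn : N ≤ (Subgroup.normalizer ((Pm.map f : Subgroup (H ⧸ Q)) : Set (H ⧸ Q))).comap f := by
      intro n hn
      have hle : (⊤ : Subgroup ↥N) ≤
          ((Subgroup.normalizer ((Pm.map f : Subgroup (H ⧸ Q)) : Set (H ⧸ Q))).comap f).comap N.subtype := by
        rw [← CfsgLib.Transfer.sylow_sup_pResidual P]
        refine sup_le (fun y hy => Subgroup.le_normalizer ⟨(y : H), ⟨y, hy, rfl⟩, rfl⟩)
          ((Subgroup.closure_le _).mpr fun y hy => ?_)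
        have hyK : (y : H) ∈ K0 := hres (Subgroup.subset_closure (k := {g : H | (orderOf g).Coprime p})
          (show (y : H) ∈ {g : H | (orderOf g).Coprime p} by rw [Set.mem_ofPred_eq, Subgroup.orderOf_coe]; exact hy))
        refine Subgroup.centralizer_le_normalizer _ ?_
        rw [Subgroup.mem_centralizer_iff]
        rintro _ ⟨z, ⟨z', -, rfl⟩, rfl⟩
        have hle : K0.map f ≤ Subgroup.centralizer ({f (z' : H)} : Set (H ⧸ Q)) := by
          rw [Subgroup.map_le_iff_le_comap]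
          refine sSup_le fun E hE e he => Subgroup.mem_centralizer_singleton_iff.mpr ?_
          exact (commutatorElement_eq_one_iff_mul_comm.mp (hc2 z' z'.2 E hE _ ⟨e, he, rfl⟩)).symm
        exact (Subgroup.mem_centralizer_singleton_iff.mp (hle ⟨(y : H), hyK, rfl⟩)).symm
      exact hle (Subgroup.mem_top ⟨n, hn⟩)
    have hsn : (Pm.map f).IsSubnormal := by
      refine Subgroup.IsSubnormal.trans (Subgroup.map_mono (Subgroup.map_subtype_le _))
        (Subgroup.Normal.isSubnormal ?_) (hN.map f hsurj).isSubnormal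
      exact Subgroup.normal_subgroupOf_of_le_normalizer (Subgroup.map_le_iff_le_comap.mpr hNn)
    have hle := CfsgLib.Layer.le_pCore_of_isSubnormal hsn ((P.2.map _).map f)
    rw [hO, le_bot_iff, Subgroup.map_eq_bot_iff, hf, QuotientGroup.ker_mk'] at hle
    have heq : Q.subgroupOf N = (P : Subgroup ↥N) :=
      P.3 (hQp.comap_of_injective N.subtype N.subtype_injective) (fun x hx => hle ⟨x, hx, rfl⟩)
    rw [← heq]
    infer_instance
  · intro E hE K hK
    have hEK : E ≤ Subgroup.normalizer ((K ⊔ Q : Subgroup H) : Set H) :=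
      (le_sSup hE).trans (le_sup_left.trans (hnorm K hK))
    rcases hdich E hE (K ⊔ Q) hEK with h | h
    · right
      rw [Subgroup.commutator_le]
      intro e he k hk
      have hcomm : ∀ e' ∈ E.map f, ⁅f k, e'⁆ = 1 := by
        refine commute_of_central hO le_rfl (hEsub E hE) (hab E hE) (f k) ?_
        rintro _ ⟨a, ha, rfl⟩
        rw [← map_commutatorElement]
        have hcE : ⁅k, a⁆ ∈ E ⊔ Q := by
          rw [commutatorElement_def]
          exact (E ⊔ Q).mul_mem ((Subgroup.mem_normalizer_iff.mp (hnorm E hE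
            (Subgroup.mem_sup_left (le_sSup (a := K) hK hk))) a).mp (Subgroup.mem_sup_left ha))
            ((E ⊔ Q).inv_mem (Subgroup.mem_sup_left ha))
        have hcK : ⁅k, a⁆ ∈ K ⊔ Q := by
          rw [commutatorElement_def, show k * a * k⁻¹ * a⁻¹ = k * (a * k⁻¹ * a⁻¹) by group]
          exact (K ⊔ Q).mul_mem (Subgroup.mem_sup_left hk)
            ((Subgroup.mem_normalizer_iff.mp (hEK ha) _).mp (Subgroup.mem_sup_left (K.inv_mem hk)))
        obtain ⟨b, hb, q, hq, hq'⟩ := Subgroup.mem_sup_of_normal_right.mp hcE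
        have hfb : f ⁅k, a⁆ = f b := by
          rw [← hq', map_mul, show f q = 1 from (QuotientGroup.eq_one_iff q).mpr hq, mul_one]
        have hbK : b ∈ K ⊔ Q := by
          rw [← mul_inv_cancel_right b q, hq']
          exact (K ⊔ Q).mul_mem hcK (Subgroup.mem_sup_right (Q.inv_mem hq))
        rw [hfb]
        exact ⟨⟨b, hb, rfl⟩, h _ ⟨b, ⟨hbK, hb⟩, rfl⟩⟩
      rw [← QuotientGroup.eq_one_iff, ← QuotientGroup.mk'_apply, ← hf, map_commutatorElement,
        ← commutatorElement_inv, hcomm _ ⟨e, he, rfl⟩, inv_one]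
    · left
      obtain ⟨P⟩ := (inferInstance : Nonempty (Sylow p ↥E))
      have hWn : E ⊔ Q ≤ Subgroup.normalizer ((K ⊔ Q : Subgroup H) : Set H) :=
        sup_le hEK (le_sup_right.trans Subgroup.le_normalizer)
      have hle : opOf p (E ⊔ Q) ≤ opOf p (K ⊔ Q) := by
        refine opOf_le_of_forall fun x hx hxc => mem_opOf ?_ hxc
        refine mem_of_coprime (P.2.map E.subtype) ((Subgroup.map_subtype_le _).trans hEK) ?_ hxc
        exact (sup_le (hgenE E _ h P) (le_sup_right.trans le_sup_left)) hx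
      refine Subgroup.eq_of_le_of_card_ge hle ?_
      obtain ⟨g, rfl⟩ := htr E hE K hK
      refine le_trans (Subgroup.card_le_of_le (show opOf p (cg g E ⊔ Q) ≤ cg g (opOf p (E ⊔ Q)) from ?_))
        (Subgroup.card_map_of_injective (MulAut.conj g).injective).le
      refine opOf_le_of_forall fun x hx hxc => ?_
      have hmap : cg g E ⊔ Q = cg g (E ⊔ Q) := by
        rw [cg, cg, Subgroup.map_sup]
        exact congrArg₂ _ rfl (cg_eq_of_mem_normalizer (Subgroup.le_normalizer_of_normal (Subgroup.mem_top g))).symm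
      rw [hmap] at hx
      obtain ⟨y, hy, rfl⟩ := hx
      exact ⟨y, mem_opOf hy (by rwa [show (MulAut.conj g).toMonoidHom y = g * y * g⁻¹ from rfl, orderOf_conj'] at hxc), rfl⟩


/-- Let H be a finite group, p a prime, and 𝒦 a nonempty set of subgroups of H permuted transitively by conjugation, with R the subgroup generated by the members of 𝒦. Suppose O^p(H) ≤ R, each E ∈ 𝒦 has E·O_p(H) normal in R·O_p(H), and each E ∈ 𝒦 is p-minimal (generated by the conjugates of a Sylow p-subgroup T_E of E, with T_E in exactly one maximal subgroup of E). Then H is p-minimal in the same sense. If instead each E ∈ 𝒦 is strongly p-irreducible, then H is p-irreducible and, for E, K ∈ 𝒦, either O^p(E·O_p(H)) = O^p(K·O_p(H)) or [E, K] ≤ O_p(H). -/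
theorem result {H : Type*} [Group H] [Finite H] {p : ℕ} [Fact p.Prime] (𝒦 : Set (Subgroup H)) (hne : 𝒦.Nonempty) (hinv : ∀ h : H, ∀ E ∈ 𝒦, E.map (MulAut.conj h).toMonoidHom ∈ 𝒦) (htr : ∀ E ∈ 𝒦, ∀ K ∈ 𝒦, ∃ h : H, K = E.map (MulAut.conj h).toMonoidHom) (hres : Cfsg.pResidual p H ≤ sSup 𝒦) (hnorm : ∀ E ∈ 𝒦, sSup 𝒦 ⊔ Cfsg.pCore p H ≤ Subgroup.normalizer ((E ⊔ Cfsg.pCore p H : Subgroup H) : Set H)) : ((∀ E ∈ 𝒦, ∀ T : Sylow p ↥E, Cfsg.IsMinimalOver (T : Subgroup ↥E)) → ∀ T : Sylow p H, Cfsg.IsMinimalOver (T : Subgroup H)) ∧ ((∀ E ∈ 𝒦, Cfsg.IsStronglyPIrreducible p ↥E) → Cfsg.IsPIrreducible p H ∧ ∀ E ∈ 𝒦, ∀ K ∈ 𝒦, (Cfsg.pResidual p ↥(E ⊔ Cfsg.pCore p H)).map (E ⊔ Cfsg.pCore p H).subtype = (Cfsg.pResidual p ↥(K ⊔ Cfsg.pCore p H)).map (K ⊔ Cfsg.pCore p H).subtype ∨ ⁅E, K⁆ ≤ Cfsg.pCore p H) := by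
  exact ⟨fun h T => minimalOver 𝒦 hne hinv htr hres hnorm h T,
    fun h => irreducible 𝒦 hne hinv htr hres hnorm h⟩

end Cfsg.Agent.S2855
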