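import Cfsg.Statements.S2856
import Cfsg.Agent.Lib.Amalgam.IterClosure

set_option autoImplicit false
open Cfsg
open scoped commutatorElement
set_option linter.style.haveILetI false

namespace Cfsg.Agent.S2856

/-- Let (M₁, M₂) be an amalgam pair in X satisfying the rank-two standing hypothesis (characteristic p, the normalizers in M₁ and in M₂ of a Sylow p-subgroup of M₁ ∩ M₂ equal and contained in M₁ ∩ M₂, and strongly p-embedded residues), λ a vertex of the coset graph, L_λ the subgroup of its stabilizer generated by the p-elements, Q_λ = O_p of the stabilizer, O^p(L_λ) the subgroup of L_λ generated by its elements of order prime to p, and V_λ^{(k)} the subgroup generated by the Z_μ over the vertices μ at distance at most k from λ (Z_μ being generated by the Ω₁(Z(S)), S a Sylow p-subgroup of the stabilizer of μ). If n ≥ 1 and V_λ^{(n)} ≤ Q_λ, then O^p(L_λ) does not centralize V_λ^{(n)}/[V_λ^{(n)}, Q_λ], that is, [V_λ^{(n)}, O^p(L_λ)] is not contained in [V_λ^{(n)}, Q_λ]. -/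
theorem result {X : Type*} [Group X] {p : ℕ} [Fact p.Prime] (M₁ M₂ : Subgroup X) (h : Cfsg.IsSpeAmalgamPair p M₁ M₂) (lam : Cfsg.CosetVertex M₁ M₂) (n : ℕ) (hn : 1 ≤ n) (V : Subgroup X) (hV : V = Cfsg.vertexVIter p M₁ M₂ n lam) (hVQ : V ≤ Cfsg.vertexQ p lam) : ¬ ⁅V, ((Cfsg.pResidual p ↥(Cfsg.pElementClosure p (MulAction.stabilizer X lam))).map (Cfsg.pElementClosure p (MulAction.stabilizer X lam)).subtype)⁆ ≤ ⁅V, Cfsg.vertexQ p lam⁆ := by
  intro hle
  subst hV
  have hc := h.1
  obtain ⟨μ, hadj⟩ := CfsgLib.Amalgam.exists_adj hc lam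
  refine CfsgLib.Amalgam.vIter_not_le_neighbour hc hn hadj hVQ ?_
  haveI := CfsgLib.Amalgam.finite_stabilizer hc lam
  set Q := Cfsg.vertexQ p lam with hQ
  set V := Cfsg.vertexVIter p M₁ M₂ n lam with hV
  set W := Cfsg.vertexVIter p M₁ M₂ (n - 1) μ with hW
  have hWV : W ≤ V := CfsgLib.Amalgam.vIter_le_vIter hc (by
    rw [SimpleGraph.dist_eq_one_iff_adj.mpr hadj]; omega)
  have hQμ : Q ≤ MulAction.stabilizer X μ :=
    (Cfsg.Agent.S2746.result M₁ M₂ hc lam).trans (CfsgLib.Amalgam.neighbourKernel_le_stabilizer hadj)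
  haveI : Finite ↥Q := Finite.of_injective (Subgroup.inclusion (Subgroup.map_subtype_le _))
    (Subgroup.inclusion_injective _)
  have hQp : IsPGroup p ↥Q := (CfsgLib.Fitting.pCore_isPGroup p).map _
  haveI : Group.IsNilpotent ↥Q := hQp.isNilpotent
  haveI : (W.subgroupOf Q).Normal := Subgroup.normal_subgroupOf_of_le_normalizer
    (hQμ.trans (CfsgLib.Amalgam.le_normalizer_vIter hc _ μ))
  have h1 : V ≤ W ⊔ ⁅V, Q⁆ :=
    (CfsgLib.Amalgam.vIter_le_sup_commutator h hn hadj).trans (sup_le_sup_left hle _)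
  have hkey : V.subgroupOf Q ≤ W.subgroupOf Q := by
    refine CfsgLib.Amalgam.le_of_le_sup_commutator ?_
    rw [← Subgroup.map_le_map_iff_of_injective Q.subtype_injective, Subgroup.map_sup, Subgroup.map_commutator,
      Subgroup.map_subgroupOf_eq_of_le hVQ, Subgroup.map_subgroupOf_eq_of_le (hWV.trans hVQ),
      ← MonoidHom.range_eq_map, Subgroup.range_subtype]
    exact h1
  exact fun x hx => hkey (x := ⟨x, hVQ hx⟩) hx

end Cfsg.Agent.S2856
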