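import Cfsg.Statements.S2859
import Cfsg.Agent.Lib.WeakClosure.Basic
import Cfsg.Agent.Lib.Layer.Radical

set_option autoImplicit false
open Cfsg
open scoped commutatorElement Pointwise
set_option linter.style.haveILetI false

namespace Cfsg.Agent.S2859

open CfsgLib.WeakClosure

theorem le_pCoreOf {G : Type*} [Group G] [Finite G] {p : ℕ} [Fact p.Prime] {Z D H : Subgroup G}
    (hZp : IsPGroup p Z) (hZD : Z ≤ D) (hDZ : D ≤ Subgroup.normalizer (Z : Set G)) (hDH : D ≤ H)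
    (hHD : H ≤ Subgroup.normalizer (D : Set G)) : Z ≤ Cfsg.pCoreOf p H := by
  have hDn : (D.subgroupOf H).Normal := Subgroup.normal_subgroupOf_of_le_normalizer hHD
  have hsub : (Z.subgroupOf H).IsSubnormal := by
    refine Subgroup.IsSubnormal.trans (Subgroup.comap_mono hZD) ?_ hDn.isSubnormal
    refine Subgroup.Normal.isSubnormal (Subgroup.normal_subgroupOf_of_le_normalizer ?_)
    intro d hd
    rw [Subgroup.mem_normalizer_iff]
    intro z
    exact Subgroup.mem_normalizer_iff.mp (hDZ hd) (z : G)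
  have hle := CfsgLib.Layer.le_pCore_of_isSubnormal (p := p) hsub
    (hZp.of_equiv (Subgroup.subgroupOfEquivOfLe (hZD.trans hDH)).symm)
  intro z hz
  exact ⟨⟨z, hDH (hZD hz)⟩, hle hz, rfl⟩

theorem half {G : Type*} [Group G] [Finite G] {p : ℕ} [Fact p.Prime] (Q : Subgroup G)
    (hQp : IsPGroup p Q) (hwc : Cfsg.IsWeaklyClosedSubgroup p Q) (Hc : Subgroup G)
    (hHc : Hc = Cfsg.weakClosure Q ⊤) (H₁ H₂ : Subgroup G)
    (hn₁ : H₁ ≤ Hc ∧ Hc ≤ Subgroup.normalizer (H₁ : Set G))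
    (hn₂ : H₂ ≤ Hc ∧ Hc ≤ Subgroup.normalizer (H₂ : Set G)) (hprod : H₁ ⊔ H₂ = Hc)
    (hcomm : ⁅H₁, H₂⁆ ≤ Subgroup.normalizer (Q : Set G)) (K : Subgroup G)
    (hK : K = opOf p (Cfsg.weakClosure Q (H₁ ⊔ Q))) :
    (⁅K, Q⁆ = K ∧ ⁅K, H₁⁆ = K ∧ K ≤ ⁅H₁, H₁⁆ ∧ Hc ≤ Subgroup.normalizer (K : Set G)) ∧
      ⁅K, H₂⁆ ≤ Cfsg.pCoreOf p Hc ∧ K ≤ H₁ ∧ Cfsg.weakClosure Q (H₁ ⊔ Q) ≤ K ⊔ Q := by
  have hall : ∀ g : G, cg g Q ≤ Hc := fun g => hHc ▸ cg_le_weakClosure le_top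
  have hQHc : Q ≤ Hc := by have := hall 1; rwa [cg_one] at this
  set W := Cfsg.weakClosure Q (H₁ ⊔ Q) with hW
  set D := ⁅H₁, H₂⁆ with hD
  set P := Cfsg.pCoreOf p Hc with hP
  have hPn : Hc ≤ Subgroup.normalizer (P : Set G) :=
    CfsgLib.PSolvable.le_normalizer_map_of_characteristic Subgroup.le_normalizer (Cfsg.pCore p ↥Hc)
  have hPle : P ≤ Hc := Subgroup.map_subtype_le _
  have hPp : IsPGroup p P := (CfsgLib.Fitting.pCore_isPGroup p).map _
  have hPQ : P ≤ Subgroup.normalizer (Q : Set G) :=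
    le_sup_right.trans (pGroup_le_normalizer hwc
      (R := Q ⊔ P) (IsPGroup.to_sup_of_normal_right' hQp hPp (hQHc.trans hPn)) le_sup_left)
  have hDH : D ≤ Hc := (Subgroup.commutator_mono hn₁.1 hn₂.1).trans (Subgroup.commutator_le_self Hc)
  have hDn : Hc ≤ Subgroup.normalizer (D : Set G) := le_normalizer_commutator hn₁.2 hn₂.2
  -- the quotient of the normaliser of P
  set A := Subgroup.normalizer (P : Set G) with hA
  haveI : (P.subgroupOf A).Normal := Subgroup.normal_in_normalizer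
  let im : Subgroup G → Subgroup (↥A ⧸ P.subgroupOf A) :=
    fun X => (X.subgroupOf A).map (QuotientGroup.mk' (P.subgroupOf A))
  have hmem : ∀ {X : Subgroup G}, X ≤ A → ∀ x ∈ X, ∀ hx : x ∈ A,
      QuotientGroup.mk' (P.subgroupOf A) ⟨x, hx⟩ ∈ im X := fun _ x hx hxA => ⟨⟨x, hxA⟩, hx, rfl⟩
  have him : ∀ {X Y : Subgroup G}, X ≤ A → Y ≤ A → ⁅im X, im Y⁆ = im ⁅X, Y⁆ := by
    intro X Y hX hY
    have e : (⁅X, Y⁆).subgroupOf A = ⁅X.subgroupOf A, Y.subgroupOf A⁆ := by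
      apply Subgroup.map_injective A.subtype_injective
      rw [Subgroup.map_subgroupOf_eq_of_le ((Subgroup.commutator_mono hX hY).trans (Subgroup.commutator_le_self A)),
        Subgroup.map_commutator, Subgroup.map_subgroupOf_eq_of_le hX, Subgroup.map_subgroupOf_eq_of_le hY]
    change ⁅(X.subgroupOf A).map _, (Y.subgroupOf A).map _⁆ = ((⁅X, Y⁆).subgroupOf A).map _
    rw [e, Subgroup.map_commutator]
  have hbot : ∀ {X : Subgroup G}, X ≤ A → (im X = ⊥ ↔ X ≤ P) := by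
    intro X hX
    change (X.subgroupOf A).map _ = ⊥ ↔ _
    rw [Subgroup.map_eq_bot_iff, QuotientGroup.ker_mk']
    exact ⟨fun h x hx => h (x := ⟨x, hX hx⟩) hx, fun h x hx => h hx⟩
  have hcb : ∀ {X Y : Subgroup G}, X ≤ A → Y ≤ A → (⁅X, Y⁆ ≤ P ↔ ⁅im X, im Y⁆ = ⊥) := by
    intro X Y hX hY
    rw [him hX hY, hbot ((Subgroup.commutator_mono hX hY).trans (Subgroup.commutator_le_self A))]
  have hA1 : H₁ ≤ A := hn₁.1.trans hPn
  have hA2 : H₂ ≤ A := hn₂.1.trans hPn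
  have hAQ : Q ≤ A := hQHc.trans hPn
  have hAD : D ≤ A := hDH.trans hPn
  -- [D, Hc] ≤ P
  have hDHc : ⁅im D, im Hc⁆ = ⊥ := by
    rw [← hcb hAD hPn]
    have hT : Hc ≤ (((Subgroup.centralizer (im D : Set (↥A ⧸ P.subgroupOf A))).comap
        (QuotientGroup.mk' (P.subgroupOf A))).map A.subtype) := by
      rw [hHc]
      refine iSup_le fun g => ?_
      have hgH := hall g.1
      obtain ⟨h, hh, he⟩ := exists_conj_in hwc hQp hQHc g.1 hgH
      have hDg : D ≤ Subgroup.normalizer ((cg g.1 Q : Subgroup G) : Set G) := by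
        intro d hd
        rw [he]
        apply mem_normalizer_of_cg_eq
        have hd' : h⁻¹ * d * h ∈ D := (Subgroup.mem_normalizer_iff''.mp (hDn hh) d).mp hd
        rw [cg_cg, show d * h = h * (h⁻¹ * d * h) by group, ← cg_cg,
          cg_eq_of_mem_normalizer (hcomm hd')]
      have hZ : (cg g.1 Q) ⊓ D ≤ P := le_pCoreOf ((hQp.map _).to_le inf_le_left) inf_le_right
        (le_normalizer_of_forall fun d hd z hz => ⟨(Subgroup.mem_normalizer_iff.mp (hDg hd) z).mp hz.1,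
          D.mul_mem (D.mul_mem hd hz.2) (D.inv_mem hd)⟩) hDH hDn
      intro r hr
      refine ⟨⟨r, hPn (hgH hr)⟩, ?_, rfl⟩
      change QuotientGroup.mk' _ _ ∈ Subgroup.centralizer _
      rw [Subgroup.mem_centralizer_iff]
      rintro _ ⟨d, hd, rfl⟩
      rw [← commutatorElement_eq_one_iff_mul_comm, ← map_commutatorElement, QuotientGroup.mk'_apply,
        QuotientGroup.eq_one_iff]
      change ⁅(d : G), r⁆ ∈ P
      refine hZ ⟨?_, ?_⟩
      · rw [commutatorElement_def]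
        exact (cg g.1 Q).mul_mem ((Subgroup.mem_normalizer_iff.mp (hDg hd) r).mp hr) ((cg g.1 Q).inv_mem hr)
      · rw [commutatorElement_def, show (d : G) * r * (d : G)⁻¹ * r⁻¹ = (d : G) * (r * (d : G)⁻¹ * r⁻¹) by group]
        exact D.mul_mem hd ((Subgroup.mem_normalizer_iff.mp (hDn (hgH hr)) _).mp (D.inv_mem hd))
    rw [Subgroup.commutator_le]
    intro d hd y hy
    obtain ⟨⟨y', hy'A⟩, hy', rfl⟩ := hT hy
    have h1 := Subgroup.mem_centralizer_iff.mp hy' _ (hmem hAD d hd (hAD hd))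
    rw [← commutatorElement_eq_one_iff_mul_comm, ← map_commutatorElement, QuotientGroup.mk'_apply,
      QuotientGroup.eq_one_iff] at h1
    exact h1
  -- basic properties of W and K
  have hQW : Q ≤ W := le_weakClosure le_sup_right
  have hQ1 : Q ≤ Subgroup.normalizer (H₁ : Set G) := hQHc.trans hn₁.2
  have hWX : W ≤ H₁ ⊔ Q := weakClosure_le _ _
  have hnorm : ∀ {B : Subgroup G}, B ≤ Subgroup.normalizer ((H₁ ⊔ Q : Subgroup G) : Set G) →
      B ≤ Subgroup.normalizer (K : Set G) := fun hB => hK ▸ le_normalizer_opOf (le_normalizer_weakClosure hB)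
  have hXK : H₁ ⊔ Q ≤ Subgroup.normalizer (K : Set G) := hnorm Subgroup.le_normalizer
  have hKW : K ≤ W := hK ▸ opOf_le W
  have hKH : K ≤ H₁ := hK ▸ opOf_le_of_forall fun x hx hc => mem_of_coprime hQp hQ1 (hWX hx) hc
  have hPK : P ≤ Subgroup.normalizer (K : Set G) := hnorm (le_normalizer_of_forall fun a ha x hx => by
    have := cg_mono a (le_refl (H₁ ⊔ Q))
    have hmap : cg a (H₁ ⊔ Q) = H₁ ⊔ Q := by
      rw [cg, Subgroup.map_sup]
      exact congrArg₂ _ (cg_eq_of_mem_normalizer (hn₁.2 (hPle ha))) (cg_eq_of_mem_normalizer (hPQ ha))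
    rw [← hmap]
    exact ⟨x, hx, rfl⟩)
  have hgenW : ∀ M : Subgroup ↥W, M.Normal → Q.subgroupOf W ≤ M → M = ⊤ := by
    intro M hM hQM
    rw [eq_top_iff]
    have hle : W ≤ M.map W.subtype := by
      refine iSup_le fun g => ?_
      obtain ⟨w, hw, he⟩ := exists_conj_in hwc hQp hQW g.1 (cg_le_weakClosure g.2)
      change cg g.1 Q ≤ _
      rw [he]
      rintro _ ⟨q, hq, rfl⟩
      exact ⟨⟨w, hw⟩ * ⟨q, hQW hq⟩ * ⟨w, hw⟩⁻¹, hM.conj_mem _ (hQM hq) _, rfl⟩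
    intro x _
    obtain ⟨y, hy, e⟩ := hle x.2
    exact Subtype.ext e ▸ hy
  have hWK : W ≤ K ⊔ Q := hK ▸ le_opOf_sup hQW hgenW
  have hQK : Q ≤ Subgroup.normalizer (K : Set G) := le_sup_right.trans hXK
  -- [K, Q] = K
  have hKQ : ⁅K, Q⁆ = K := by
    refine le_antisymm (commutator_le_of_normalizes hQK) ?_
    set M := ⁅K, Q⁆ with hM
    have hMQ : Q ≤ Subgroup.normalizer (M : Set G) := right_le_normalizer_commutator K Q
    have hU : K ≤ Subgroup.normalizer ((M ⊔ Q : Subgroup G) : Set G) := by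
      refine le_normalizer_of_forall fun k hk => ?_
      have hle : M ⊔ Q ≤ (M ⊔ Q).comap (MulAut.conj k).toMonoidHom := by
        refine sup_le (fun m hm => ?_) (fun q hq => ?_)
        · exact Subgroup.mem_sup_left
            ((Subgroup.mem_normalizer_iff.mp (left_le_normalizer_commutator K Q hk) m).mp hm)
        · change k * q * k⁻¹ ∈ M ⊔ Q
          rw [show k * q * k⁻¹ = ⁅k, q⁆ * q by rw [commutatorElement_def]; group]
          exact Subgroup.mul_mem_sup (Subgroup.commutator_mem_commutator hk hq) hq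
      exact hle
    have hMW : M ⊔ Q ≤ W := sup_le ((commutator_le_of_normalizes hQK).trans hKW) hQW
    have hWU : W ≤ Subgroup.normalizer ((M ⊔ Q : Subgroup G) : Set G) :=
      hWK.trans (sup_le hU (le_sup_right.trans Subgroup.le_normalizer))
    have htop := hgenW _ (Subgroup.normal_subgroupOf_of_le_normalizer hWU) (Subgroup.comap_mono le_sup_right)
    have hW' : W ≤ M ⊔ Q := Subgroup.subgroupOf_eq_top.mp htop
    exact hK ▸ opOf_le_of_forall fun x hx hc => mem_of_coprime hQp hMQ (hW' hx) hc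
  have hAK : K ≤ A := hKH.trans hA1
  -- [K, H₂] ≤ P
  have h12 : ⁅⁅im H₁, im H₂⁆, im H₂⁆ = ⊥ := by
    rw [him hA1 hA2, ← hD, ← le_bot_iff, ← hDHc]
    exact Subgroup.commutator_mono le_rfl (Subgroup.map_mono (Subgroup.comap_mono hn₂.1))
  have h22 : ⁅⁅im H₂, im H₂⁆, im H₁⁆ = ⊥ := Subgroup.commutator_commutator_eq_bot_of_rotate
    (by rw [Subgroup.commutator_comm (im H₂) (im H₁)]; exact h12) h12
  have hQ2 : ⁅⁅im Q, im H₂⁆, im K⁆ = ⊥ := by
    rw [Subgroup.commutator_eq_bot_iff_le_centralizer]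
    have hc2 : im H₁ ≤ Subgroup.centralizer ((⁅im H₂, im H₂⁆ : Subgroup _) : Set _) := by
      rw [← Subgroup.commutator_eq_bot_iff_le_centralizer, Subgroup.commutator_comm]; exact h22
    have hc1 : im H₁ ≤ Subgroup.centralizer ((⁅im H₁, im H₂⁆ : Subgroup _) : Set _) := by
      rw [← Subgroup.commutator_eq_bot_iff_le_centralizer, Subgroup.commutator_comm, him hA1 hA2, ← hD,
        ← le_bot_iff, ← hDHc]
      exact Subgroup.commutator_mono le_rfl (Subgroup.map_mono (Subgroup.comap_mono hn₁.1))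
    have hsub : im K ≤ im H₁ := Subgroup.map_mono (Subgroup.comap_mono hKH)
    refine le_trans ?_ (show Subgroup.centralizer (im H₁ : Set (↥A ⧸ P.subgroupOf A)) ≤
      Subgroup.centralizer (im K : Set (↥A ⧸ P.subgroupOf A)) from
      Subgroup.centralizer_le (SetLike.coe_subset_coe.mpr hsub))
    rw [Subgroup.commutator_le]
    rintro _ ⟨⟨q, hqA⟩, hq, rfl⟩ y hy
    have hqab : q ∈ ((H₁ : Set G) * (H₂ : Set G)) := by
      rw [← Subgroup.coe_mul_of_right_le_normalizer_left H₁ H₂ (hn₂.1.trans hn₁.2), hprod]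
      exact hQHc hq
    obtain ⟨a, ha, b, hb, hab⟩ := hqab
    rw [show (⟨q, hqA⟩ : A) = ⟨a, hA1 ha⟩ * ⟨b, hA2 hb⟩ from Subtype.ext hab.symm, map_mul]
    set a' := QuotientGroup.mk' (P.subgroupOf A) ⟨a, hA1 ha⟩ with ha'
    set b' := QuotientGroup.mk' (P.subgroupOf A) ⟨b, hA2 hb⟩ with hb'
    have h2 : ⁅b', y⁆ ∈ ⁅im H₂, im H₂⁆ := Subgroup.commutator_mem_commutator (hmem hA2 b hb _) hy
    have h1 : ⁅a', y⁆ ∈ ⁅im H₁, im H₂⁆ := Subgroup.commutator_mem_commutator (hmem hA1 a ha _) hy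
    have hcab : a' * ⁅b', y⁆ * a'⁻¹ = ⁅b', y⁆ := by
      rw [← Subgroup.mem_centralizer_iff.mp (hc2 (hmem hA1 a ha _)) _ h2, mul_inv_cancel_right]
    have e : ⁅a' * b', y⁆ = a' * ⁅b', y⁆ * a'⁻¹ * ⁅a', y⁆ := by
      simp only [commutatorElement_def]; group
    rw [e, hcab, Subgroup.mem_centralizer_iff]
    intro z hz
    have hz2 := Subgroup.mem_centralizer_iff.mp (hc2 hz) _ h2
    have hz1 := Subgroup.mem_centralizer_iff.mp (hc1 hz) _ h1
    rw [← mul_assoc, ← hz2, mul_assoc, ← hz1, mul_assoc]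
  have hK2 : ⁅im K, im H₂⁆ = ⊥ := by
    have h3 : ⁅⁅im H₂, im K⁆, im Q⁆ = ⊥ := by
      rw [Subgroup.commutator_comm (im H₂) (im K), ← le_bot_iff, ← hDHc, hD, ← him hA1 hA2]
      exact Subgroup.commutator_mono (Subgroup.commutator_mono (Subgroup.map_mono (Subgroup.comap_mono hKH)) le_rfl)
        (Subgroup.map_mono (Subgroup.comap_mono hQHc))
    have := Subgroup.commutator_commutator_eq_bot_of_rotate hQ2 h3
    rwa [him hAK hAQ, hKQ] at this
  have hK2P : ⁅K, H₂⁆ ≤ P := (hcb hAK hA2).mpr hK2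
  have hH2K : H₂ ≤ Subgroup.normalizer (K : Set G) := by
    refine le_normalizer_of_forall fun a ha => ?_
    have hle : K ≤ K.comap (MulAut.conj a).toMonoidHom := by
      rw [hK]
      refine opOf_le_of_forall fun x hx hc => ?_
      rw [← hK]
      have hxK : x ∈ K := hK ▸ mem_opOf hx hc
      change a * x * a⁻¹ ∈ K
      refine mem_of_coprime hPp hPK ?_ (by rw [orderOf_conj']; exact hc)
      rw [show a * x * a⁻¹ = ⁅a, x⁆ * x by rw [commutatorElement_def]; group, sup_comm]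
      exact Subgroup.mul_mem_sup
        (hK2P (by rw [Subgroup.commutator_comm]; exact Subgroup.commutator_mem_commutator ha hxK)) hxK
    exact hle
  have hHcK : Hc ≤ Subgroup.normalizer (K : Set G) := hprod ▸ sup_le (le_sup_left.trans hXK) hH2K
  -- [K, H₁] = K
  have hKH1 : ⁅K, H₁⁆ = K := by
    refine le_antisymm (commutator_le_of_normalizes (le_sup_left.trans hXK)) ?_
    set M := ⁅K, H₁⁆ with hM
    have hMn : Hc ≤ Subgroup.normalizer (M : Set G) := le_normalizer_commutator hHcK hn₁.2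
    have hle : im K ≤ im M := by
      conv_lhs => rw [← hKQ]
      rw [← him hAK hAQ, hM, ← him hAK hA1, Subgroup.commutator_le]
      rintro k hk _ ⟨⟨q, hqA⟩, hq, rfl⟩
      have hqab : q ∈ ((H₁ : Set G) * (H₂ : Set G)) := by
        rw [← Subgroup.coe_mul_of_right_le_normalizer_left H₁ H₂ (hn₂.1.trans hn₁.2), hprod]
        exact hQHc hq
      obtain ⟨a, ha, b, hb, hab⟩ := hqab
      rw [show (⟨q, hqA⟩ : A) = ⟨a, hA1 ha⟩ * ⟨b, hA2 hb⟩ from Subtype.ext hab.symm, map_mul]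
      set a' := QuotientGroup.mk' (P.subgroupOf A) ⟨a, hA1 ha⟩ with ha'
      set b' := QuotientGroup.mk' (P.subgroupOf A) ⟨b, hA2 hb⟩ with hb'
      have h1 : ⁅k, b'⁆ = 1 :=
        (Subgroup.eq_bot_iff_forall _).mp hK2 _ (Subgroup.commutator_mem_commutator hk (hmem hA2 b hb _))
      have e : ⁅k, a' * b'⁆ = ⁅k, a'⁆ * (a' * ⁅k, b'⁆ * a'⁻¹) := by
        simp only [commutatorElement_def]; group
      rw [e, h1, mul_one, mul_inv_cancel, mul_one]
      exact Subgroup.commutator_mem_commutator hk (hmem hA1 a ha _)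
    conv_lhs => rw [hK]
    refine opOf_le_of_forall fun x hx hc => mem_of_coprime hPp (hPle.trans hMn) ?_ hc
    have hxK : x ∈ K := hK ▸ mem_opOf hx hc
    obtain ⟨⟨m, hmA⟩, hm, he⟩ := hle (hmem hAK x hxK (hAK hxK))
    have hdiv : m⁻¹ * x ∈ P := by
      have := (QuotientGroup.mk'_eq_mk' _).mp he
      obtain ⟨z, hz, hze⟩ := this
      have : m * (z : G) = x := congrArg Subtype.val hze
      rw [← this, inv_mul_cancel_left]
      exact hz
    rw [← mul_inv_cancel_left m x]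
    exact Subgroup.mul_mem_sup hm hdiv
  exact ⟨⟨hKQ, hKH1, hKH1.ge.trans (Subgroup.commutator_mono hKH le_rfl), hHcK⟩, hK2P, hKH, hWK⟩


/-- Let Q be a nontrivial p-subgroup of the finite group H that is a weakly closed subgroup, H° the weak closure of Q in H (generated by the conjugates of Q) and H_∘ = O^p(H°). Suppose H₁, H₂ are normal subgroups of H° with H° = H₁H₂ and [H₁, H₂] ≤ N_H(Q), and put Kᵢ = O^p of the weak closure of Q in HᵢQ. Then for i = 1, 2: Kᵢ = [Kᵢ, Q] = [Kᵢ, Hᵢ] ≤ Hᵢ′ and Kᵢ is normal in H°; H_∘ = K₁K₂; and [K₁, K₂] ≤ O_p(H°). -/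
theorem result {G : Type*} [Group G] [Finite G] {p : ℕ} [Fact p.Prime] (Q : Subgroup G) (hQp : IsPGroup p ↥Q) (hQ1 : Q ≠ ⊥) (hwc : Cfsg.IsWeaklyClosedSubgroup p Q) (Hc : Subgroup G) (hHc : Hc = Cfsg.weakClosure Q ⊤) (H₁ H₂ : Subgroup G) (hn₁ : H₁ ≤ Hc ∧ Hc ≤ Subgroup.normalizer ((H₁ : Subgroup G) : Set G)) (hn₂ : H₂ ≤ Hc ∧ Hc ≤ Subgroup.normalizer ((H₂ : Subgroup G) : Set G)) (hprod : H₁ ⊔ H₂ = Hc) (hcomm : ⁅H₁, H₂⁆ ≤ Subgroup.normalizer ((Q : Subgroup G) : Set G)) (K₁ K₂ : Subgroup G) (hK₁ : K₁ = ((Cfsg.pResidual p ↥(Cfsg.weakClosure Q (H₁ ⊔ Q))).map ((Cfsg.weakClosure Q (H₁ ⊔ Q))).subtype)) (hK₂ : K₂ = ((Cfsg.pResidual p ↥(Cfsg.weakClosure Q (H₂ ⊔ Q))).map ((Cfsg.weakClosure Q (H₂ ⊔ Q))).subtype)) : (⁅K₁, Q⁆ = K₁ ∧ ⁅K₁, H₁⁆ = K₁ ∧ K₁ ≤ ⁅H₁, H₁⁆ ∧ Hc ≤ Subgroup.normalizer ((K₁ : Subgroup G) : Set G)) ∧ (⁅K₂, Q⁆ = K₂ ∧ ⁅K₂, H₂⁆ = K₂ ∧ K₂ ≤ ⁅H₂, H₂⁆ ∧ Hc ≤ Subgroup.normalizer ((K₂ : Subgroup G) : Set G)) ∧ K₁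 ⊔ K₂ = ((Cfsg.pResidual p ↥Hc).map (Hc).subtype) ∧ ⁅K₁, K₂⁆ ≤ (Cfsg.pCoreOf p Hc) := by
  obtain ⟨h₁, -, hK₁H, hW₁⟩ := half Q hQp hwc Hc hHc H₁ H₂ hn₁ hn₂ hprod hcomm K₁ hK₁
  obtain ⟨h₂, hK₂P, hK₂H, hW₂⟩ := half Q hQp hwc Hc hHc H₂ H₁ hn₂ hn₁ (by rw [sup_comm]; exact hprod)
    (by rw [Subgroup.commutator_comm]; exact hcomm) K₂ hK₂
  refine ⟨h₁, h₂, ?_, ?_⟩
  · have hall : ∀ g : G, cg g Q ≤ Hc := fun g => hHc ▸ cg_le_weakClosure le_top
    have hQHc : Q ≤ Hc := by have := hall 1; rwa [cg_one] at this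
    refine le_antisymm (sup_le ?_ ?_) ?_
    · rw [hK₁]
      exact opOf_le_of_forall fun x hx hc => mem_opOf
        (((weakClosure_le _ _).trans (sup_le hn₁.1 hQHc)) hx) hc
    · rw [hK₂]
      exact opOf_le_of_forall fun x hx hc => mem_opOf
        (((weakClosure_le _ _).trans (sup_le hn₂.1 hQHc)) hx) hc
    · set M := K₁ ⊔ K₂ with hM
      have hMn : Hc ≤ Subgroup.normalizer (M : Set G) := by
        intro h hh
        apply mem_normalizer_of_cg_eq
        rw [cg, hM, Subgroup.map_sup]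
        exact congrArg₂ _ (cg_eq_of_mem_normalizer (h₁.2.2.2 hh)) (cg_eq_of_mem_normalizer (h₂.2.2.2 hh))
      have key : ∀ (H K : Subgroup G), H ≤ Hc → H ≤ Subgroup.normalizer ((H ⊔ Q : Subgroup G) : Set G) →
          K ≤ M → Cfsg.weakClosure Q (H ⊔ Q) ≤ K ⊔ Q →
          H ≤ Subgroup.normalizer ((M ⊔ Q : Subgroup G) : Set G) := by
        intro H K hH hHn hKM hW
        refine le_normalizer_of_forall fun a ha => ?_
        have hle : M ⊔ Q ≤ (M ⊔ Q).comap (MulAut.conj a).toMonoidHom := by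
          refine sup_le (fun m hm => Subgroup.mem_sup_left
            ((Subgroup.mem_normalizer_iff.mp (hMn (hH ha)) m).mp hm)) (fun q hq => ?_)
          have h1 : cg a Q ≤ Cfsg.weakClosure Q (H ⊔ Q) :=
            cg_le_weakClosure ((cg_mono a le_sup_right).trans (cg_eq_of_mem_normalizer (hHn ha)).le)
          exact (h1.trans (hW.trans (sup_le_sup_right hKM Q))) ⟨q, hq, rfl⟩
        exact hle
      have hHcn : Hc ≤ Subgroup.normalizer ((M ⊔ Q : Subgroup G) : Set G) := hprod ▸ sup_le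
        (key H₁ K₁ hn₁.1 (le_sup_left.trans Subgroup.le_normalizer) le_sup_left hW₁)
        (key H₂ K₂ hn₂.1 (le_sup_left.trans Subgroup.le_normalizer) le_sup_right hW₂)
      have hHcle : Hc ≤ M ⊔ Q := by
        conv_lhs => rw [hHc]
        refine iSup_le fun g => ?_
        obtain ⟨h, hh, he⟩ := exists_conj_in hwc hQp hQHc g.1 (hall g.1)
        change cg g.1 Q ≤ _
        rw [he]
        exact (cg_mono h le_sup_right).trans (cg_eq_of_mem_normalizer (hHcn hh)).le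
      exact opOf_le_of_forall fun x hx hc => mem_of_coprime hQp (hQHc.trans hMn) (hHcle hx) hc
  · rw [Subgroup.commutator_comm]
    exact (Subgroup.commutator_mono le_rfl hK₁H).trans hK₂P

end Cfsg.Agent.S2859
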