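import Cfsg.Statements.S2860
import Cfsg.Agent.Lib.Asymmetric.FrakH
import Cfsg.Agent.Lib.Layer.Basic

set_option autoImplicit false
open Cfsg CfsgLib.WeakClosure
open scoped commutatorElement Pointwise
set_option linter.style.haveILetI false

namespace Cfsg.Agent.S2860


section Aux

variable {p : ℕ} [Fact p.Prime]

-- a p-prime element with a p-power in a subgroup lies in it
omit [Fact p.Prime] in
theorem mem_of_pow_mem {H : Type*} [Group H] [Finite H] {K : Subgroup H} {x : H} {k : ℕ}
    (hc : (orderOf x).Coprime p) (h : x ^ p ^ k ∈ K) : x ∈ K := by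
  have hco : (p ^ k).Coprime (Nat.card (Subgroup.zpowers x)) := by
    rw [Nat.card_zpowers]; exact (hc.symm).pow_left k
  obtain ⟨⟨y, hy⟩, hyx⟩ := (powCoprime hco.symm).surjective ⟨x, Subgroup.mem_zpowers x⟩
  obtain ⟨i, rfl⟩ := hy
  have e : (x ^ i) ^ p ^ k = x := congrArg Subtype.val hyx
  rw [← e, ← zpow_natCast, ← zpow_mul, mul_comm, zpow_mul, zpow_natCast]
  exact K.zpow_mem h i

/-- In a finite group with central residual, `O_p` contains every `p`-subgroup. -/
theorem le_pCore_of_central {B : Type*} [Group B] [Finite B] (A : Subgroup B) [A.Normal]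
    (hA : A ≤ Subgroup.center B) (hq : IsPGroup p (B ⧸ A)) {R : Subgroup B} (hR : IsPGroup p R) :
    R ≤ Cfsg.pCore p B := by
  haveI : Group.IsNilpotent (B ⧸ A) := hq.isNilpotent
  haveI : Group.IsNilpotent B := Subgroup.isNilpotent_of_ker_le_center (QuotientGroup.mk' A) (by
    rw [QuotientGroup.ker_mk']; exact hA)
  obtain ⟨P, hP⟩ := hR.exists_le_sylow
  have hPn : (P : Subgroup B).Normal :=
    Sylow.normal_of_normalizerCondition Group.normalizerCondition_of_isNilpotent P
  exact hP.trans (CfsgLib.Fitting.le_pCore hPn P.2)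

/-- A perfect subgroup all of whose elements have a `p`-power in a normal `D` lies in `D`. -/
theorem le_of_perfect_of_pow {H : Type*} [Group H] [Finite H] {W D : Subgroup H}
    (hperf : ⁅W, W⁆ = W) (hn : W ≤ Subgroup.normalizer (D : Set H))
    (hp : ∀ x ∈ W, ∃ k : ℕ, x ^ p ^ k ∈ D) : W ≤ D := by
  haveI : (D.subgroupOf W).Normal := Subgroup.normal_subgroupOf_of_le_normalizer hn
  have hq : IsPGroup p (↥W ⧸ D.subgroupOf W) := fun y => by
    obtain ⟨x, rfl⟩ := QuotientGroup.mk_surjective y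
    obtain ⟨k, hk⟩ := hp x x.2
    exact ⟨k, by rw [← QuotientGroup.mk_pow]; exact (QuotientGroup.eq_one_iff _).mpr hk⟩
  haveI : Group.IsNilpotent (↥W ⧸ D.subgroupOf W) := hq.isNilpotent
  haveI : Group.IsPerfect ↥W := ⟨Subgroup.map_injective W.subtype_injective (by
    rw [commutator_def, Subgroup.map_commutator, ← MonoidHom.range_eq_map, Subgroup.range_subtype]
    exact hperf)⟩
  haveI : Group.IsPerfect (↥W ⧸ D.subgroupOf W) :=
    Group.IsPerfect.ofSurjective (f := QuotientGroup.mk' _) (QuotientGroup.mk'_surjective _)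
  have hsub : Subsingleton (↥W ⧸ D.subgroupOf W) := by
    by_contra hne
    haveI := not_subsingleton_iff_nontrivial.mp hne
    exact Group.IsPerfect.not_isSolvable (↥W ⧸ D.subgroupOf W) inferInstance
  exact fun x hx => (QuotientGroup.eq_one_iff (N := D.subgroupOf W) ⟨x, hx⟩).mp (Subsingleton.elim _ _)

variable {X : Type*} [Group X] [Finite X]

/-- In a group with trivial `O_p`, normal subgroups centralizing a quasisimple `O^p` are `p'`. -/
theorem eq_bot_of_centralizes (hcore : Cfsg.pCore p X = ⊥) (N : Subgroup X) [N.Normal]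
    (hN : ⁅N, Cfsg.pResidual p X⁆ = ⊥) {R : Subgroup X} (hRN : R ≤ N) (hR : IsPGroup p R) : R = ⊥ := by
  haveI := CfsgLib.Transfer.pResidual_normal p X
  set A := (Cfsg.pResidual p X).subgroupOf N with hA
  have hcent : A ≤ Subgroup.center ↥N := fun a ha => Subgroup.mem_center_iff.mpr fun n => Subtype.ext
    ((Subgroup.commutator_eq_bot_iff_le_centralizer.mp hN n.2 a ha).symm)
  have hq : IsPGroup p (↥N ⧸ A) := fun y => by
    obtain ⟨n, rfl⟩ := QuotientGroup.mk_surjective y
    obtain ⟨k, hk⟩ := CfsgLib.Transfer.isPGroup_quotient_pResidual (p := p)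
      ((n : X) : X ⧸ Cfsg.pResidual p X)
    rw [← QuotientGroup.mk_pow, QuotientGroup.eq_one_iff] at hk
    exact ⟨k, by rw [← QuotientGroup.mk_pow]; exact (QuotientGroup.eq_one_iff _).mpr hk⟩
  have hle : R.subgroupOf N ≤ Cfsg.pCore p ↥N :=
    le_pCore_of_central A hcent hq (hR.comap_of_injective _ N.subtype_injective)
  haveI : (Cfsg.pCore p ↥N).Characteristic :=
    Subgroup.characteristic_iff_map_eq.mpr fun φ => CfsgLib.CharCore.map_pCore φ
  have hn : ((Cfsg.pCore p ↥N).map N.subtype).Normal := inferInstance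
  have := CfsgLib.Fitting.le_pCore (p := p) hn ((CfsgLib.Fitting.pCore_isPGroup p).map _)
  rw [hcore] at this
  refine le_bot_iff.mp (le_trans (fun r hr => ?_) this)
  exact ⟨⟨r, hRN hr⟩, hle hr, rfl⟩

/-- A nontrivial `p`-subgroup moves all of a quasisimple `O^p`. -/
theorem commutator_eq_self (hcore : Cfsg.pCore p X = ⊥) (hqs : Cfsg.IsQuasisimple ↥(Cfsg.pResidual p X))
    {R : Subgroup X} (hR : IsPGroup p R) (hR1 : R ≠ ⊥) :
    ⁅Cfsg.pResidual p X, R⁆ = Cfsg.pResidual p X := by
  haveI := CfsgLib.Transfer.pResidual_normal p X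
  set K := Cfsg.pResidual p X with hK
  have hle : ⁅K, R⁆ ≤ K := Subgroup.commutator_le_left K R
  haveI : (⁅K, R⁆.subgroupOf K).Normal :=
    Subgroup.normal_subgroupOf_of_le_normalizer (left_le_normalizer_commutator K R)
  rcases CfsgLib.Layer.eq_top_or_le_center_of_normal hqs (⁅K, R⁆.subgroupOf K) with h | h
  · exact le_antisymm hle (Subgroup.subgroupOf_eq_top.mp h)
  exfalso
  have h1 : ⁅⁅K, R⁆, K⁆ = ⊥ := by
    rw [Subgroup.commutator_eq_bot_iff_le_centralizer]
    exact fun d hd k hk => congrArg Subtype.val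
      (Subgroup.mem_center_iff.mp (h (x := (⟨d, hle hd⟩ : K)) hd) ⟨k, hk⟩)
  have h2 : ⁅⁅R, K⁆, K⁆ = ⊥ := by rw [Subgroup.commutator_comm R K, h1]
  have h3 := Subgroup.commutator_commutator_eq_bot_of_rotate (H₁ := K) (H₂ := K) (H₃ := R) h1 h2
  have hperf : ⁅K, K⁆ = K := by
    haveI := hqs.1
    have := congrArg (Subgroup.map K.subtype) (Group.IsPerfect.commutator_eq_top (G := ↥K))
    rwa [commutator_def, Subgroup.map_commutator, ← MonoidHom.range_eq_map, Subgroup.range_subtype]
      at this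
  rw [hperf, Subgroup.commutator_comm, Subgroup.commutator_eq_bot_iff_le_centralizer] at h3
  exact hR1 (eq_bot_of_centralizes hcore (Subgroup.centralizer (K : Set X))
    (Subgroup.commutator_eq_bot_iff_le_centralizer.mpr le_rfl) h3 hR)

/-- A perfect central extension of a quasisimple group is quasisimple. -/
theorem isQuasisimple_of_ker_le_center {H Y : Type*} [Group H] [Group Y] [Group.IsPerfect H]
    (f : H →* Y) (hf : Function.Surjective f) (hker : f.ker ≤ Subgroup.center H)
    (hY : Cfsg.IsQuasisimple Y) : Cfsg.IsQuasisimple H := by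
  haveI := CfsgLib.Layer.nontrivial_of_isQuasisimple hY
  haveI : Nontrivial H := hf.nontrivial
  refine CfsgLib.Layer.isQuasisimple_of_normal_le_center fun N hN => ?_
  haveI : (N.map f).Normal := hN.map f hf
  rcases CfsgLib.Layer.eq_top_or_le_center_of_normal hY (N.map f) with h | h
  · left
    refine CfsgLib.Layer.eq_top_of_sup_center_eq_top (top_le_iff.mp ?_)
    have h2 := congrArg (Subgroup.comap f) h
    rw [Subgroup.comap_map_eq, Subgroup.comap_top] at h2
    exact h2.ge.trans (sup_le_sup_left hker N)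
  · right
    have h1 : ⁅⁅N, (⊤ : Subgroup H)⁆, (⊤ : Subgroup H)⁆ = ⊥ := by
      rw [Subgroup.commutator_eq_bot_iff_le_centralizer, Subgroup.coe_top, Subgroup.centralizer_univ]
      refine le_trans (Subgroup.commutator_le.mpr fun n hn g _ => ?_) hker
      rw [MonoidHom.mem_ker, map_commutatorElement, commutatorElement_eq_one_iff_mul_comm]
      exact (Subgroup.mem_center_iff.mp (h ⟨n, hn, rfl⟩) (f g)).symm
    have h2 : ⁅⁅(⊤ : Subgroup H), N⁆, (⊤ : Subgroup H)⁆ = ⊥ := by
      rw [Subgroup.commutator_comm (⊤ : Subgroup H) N, h1]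
    have h3 := Subgroup.commutator_commutator_eq_bot_of_rotate (H₁ := (⊤ : Subgroup H))
      (H₂ := (⊤ : Subgroup H)) (H₃ := N) h2 h1
    rw [← commutator_def, Group.IsPerfect.commutator_eq_top, Subgroup.commutator_comm,
      Subgroup.commutator_eq_bot_iff_le_centralizer, Subgroup.coe_top, Subgroup.centralizer_univ] at h3
    exact h3

variable {G : Type*} [Group G] [Finite G]

/-- The centralizer of a `Q`-invariant nontrivial `p`-subgroup normalizes the large subgroup `Q`. -/
theorem centralizer_le_normalizer {Q U : Subgroup G} (hQp : IsPGroup p Q) (hQ : Cfsg.IsLarge Q)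
    (hU : IsPGroup p U) (hU1 : U ≠ ⊥) (hQU : Q ≤ Subgroup.normalizer (U : Set G)) :
    Subgroup.centralizer (U : Set G) ≤ Subgroup.normalizer (Q : Set G) := by
  obtain ⟨z, hzU, hz, hzc⟩ := CfsgLib.CharCore.exists_central_orderOf
    (IsPGroup.to_sup_of_normal_right' hQp hU hQU) hU1 le_sup_right (sup_le hQU Subgroup.le_normalizer)
  refine le_trans ?_ (hQ.2 (Subgroup.zpowers z) (Subgroup.zpowers_le.mpr fun q hq =>
    hzc q (Subgroup.mem_sup_left hq)) ?_)
  · exact (Subgroup.centralizer_le (Subgroup.zpowers_le.mpr hzU)).trans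
      (Subgroup.centralizer_le_normalizer _)
  · intro e
    rw [Subgroup.zpowers_eq_bot] at e
    rw [e, orderOf_one] at hz
    exact (Fact.out : p.Prime).ne_one hz.symm

end Aux

set_option maxHeartbeats 400000 in
/-- Let Q be a nontrivial large p-subgroup of the finite group H, U a nontrivial elementary abelian p-subgroup of H, and Q ≤ E ≤ N_H(U) with Q not normal in E. Suppose O_p(E/C_E(U)) = 1 and O^p(E)·C_E(U)/C_E(U) is quasisimple. Let E° be the weak closure of Q in E (generated by the conjugates of Q inside E) and E_∘ = O^p(E°). Then O^p(E)·C_E(U) = E_∘·C_E(U); E_∘ is perfect and equals O^p(E_∘); E_∘/C_{E_∘}(U) and E_∘/O_p(E_∘) are quasisimple; and E_∘ = [E_∘, Y] for every p-subgroup Y of E not centralizing U. -/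
theorem result {G : Type*} [Group G] [Finite G] {p : ℕ} [Fact p.Prime] (Q : Subgroup G) (hQp : IsPGroup p ↥Q) (hQ1 : Q ≠ ⊥) (hQ : Cfsg.IsLarge Q) (U : Subgroup G) (hU : Cfsg.IsElementaryAbelian p U) (hU1 : U ≠ ⊥) (E : Subgroup G) (hQE : Q ≤ E) (hEU : E ≤ Subgroup.normalizer ((U : Subgroup G) : Set G)) (hQn : ¬ E ≤ Subgroup.normalizer ((Q : Subgroup G) : Set G)) [hn : ((Subgroup.centralizer ((U : Subgroup G) : Set G)).subgroupOf E).Normal] (hred : Cfsg.pCore p (↥E ⧸ (Subgroup.centralizer ((U : Subgroup G) : Set G)).subgroupOf E) = ⊥) (hqs : Cfsg.IsQuasisimple ↥(((Cfsg.pResidual p ↥E) ⊔ (Subgroup.centralizer ((U : Subgroup G) : Set G)).subgroupOf E).map (QuotientGroup.mk' ((Subgroup.centralizer ((U : Subgroup G) : Set G)).subgroupOf E)))) (Er : Subgroup G) (hEr : Er = ((Cfsg.pResidual p ↥(Cfsg.weakClosure Q E)).map ((Cfsg.weakClosure Q E)).subtype)) [hn2 : ((Subgroup.centralizer ((U : Subgroup G) : Set G)).subgroupOf Er).Normal] : ((Cfsg.pResidual p ↥E).map (E).subtype) ⊔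 (E ⊓ Subgroup.centralizer ((U : Subgroup G) : Set G)) = Er ⊔ (E ⊓ Subgroup.centralizer ((U : Subgroup G) : Set G)) ∧ ⁅Er, Er⁆ = Er ∧ ((Cfsg.pResidual p ↥Er).map (Er).subtype) = Er ∧ Cfsg.IsQuasisimple (↥Er ⧸ (Subgroup.centralizer ((U : Subgroup G) : Set G)).subgroupOf Er) ∧ Cfsg.IsQuasisimple (↥Er ⧸ Cfsg.pCore p ↥Er) ∧ ∀ Y : Subgroup G, Y ≤ E → IsPGroup p ↥Y → ¬ Y ≤ Subgroup.centralizer ((U : Subgroup G) : Set G) → ⁅Er, Y⁆ = Er := by
  subst hEr
  set CU := Subgroup.centralizer (U : Set G) with hCU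
  set C := E ⊓ CU with hCdef
  set W := Cfsg.weakClosure Q E with hWdef
  set Er := (Cfsg.pResidual p ↥W).map W.subtype with hErdef
  have hUp : IsPGroup p U := CfsgLib.PReduced.isPGroup_of_elementary hU
  have hWE : W ≤ E := weakClosure_le Q E
  have hErW : Er ≤ W := opOf_le W
  have hErE : Er ≤ E := hErW.trans hWE
  have hEW : E ≤ Subgroup.normalizer (W : Set G) := le_normalizer_weakClosure Subgroup.le_normalizer
  have hEEr : E ≤ Subgroup.normalizer (Er : Set G) := le_normalizer_opOf hEW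
  have hEC : E ≤ Subgroup.normalizer (C : Set G) :=
    CfsgLib.Coprime.le_normalizer_inf_of_le Subgroup.le_normalizer
      (CfsgLib.Coprime.le_normalizer_centralizer hEU)
  set R := Cfsg.pCoreOf p C with hRdef
  have hRp : IsPGroup p R := CfsgLib.PReduced.isPGroup_pCoreOf p C
  have hER : E ≤ Subgroup.normalizer (R : Set G) := by
    haveI : (Cfsg.pCore p ↥C).Characteristic :=
      Subgroup.characteristic_iff_map_eq.mpr fun φ => CfsgLib.CharCore.map_pCore φ
    exact CfsgLib.PSolvable.le_normalizer_map_of_characteristic hEC _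
  have hRC : R ≤ C := Subgroup.map_subtype_le _
  -- conjugates of `Q` inside `E`
  have hCQ : ∀ g : G, cg g Q ≤ E → CU ≤ Subgroup.normalizer (cg g Q : Set G) := by
    intro g hg
    have hQU : Q ≤ Subgroup.normalizer ((cg g⁻¹ U : Subgroup G) : Set G) := by
      have := (cg_mono g⁻¹ (hg.trans hEU)).trans (Subgroup.le_normalizer_map _)
      rwa [cg_inv_cg] at this
    have h := centralizer_le_normalizer hQp hQ (hUp.map _)
      (fun e => hU1 ((Subgroup.map_eq_bot_iff_of_injective U (MulAut.conj g⁻¹).injective).mp e)) hQU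
    intro x hx
    refine mem_normalizer_of_cg_eq ?_
    have hx' : g⁻¹ * x * g ∈ Subgroup.normalizer (Q : Set G) := by
      refine h fun u hu => ?_
      rw [SetLike.mem_coe, mem_cg, inv_inv] at hu
      have e := hx _ hu
      calc u * (g⁻¹ * x * g) = g⁻¹ * (g * u * g⁻¹ * x) * g := by group
        _ = g⁻¹ * (x * (g * u * g⁻¹)) * g := by rw [e]
        _ = g⁻¹ * x * g * u := by group
    have := congrArg (cg g) (cg_eq_of_mem_normalizer hx')
    rwa [cg_cg, ← mul_assoc, ← mul_assoc, mul_inv_cancel, one_mul, ← cg_cg] at this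
  -- `[W, C] ≤ R`
  let T : Subgroup G :=
    { carrier := {w | w ∈ E ∧ ∀ c ∈ C, ⁅w, c⁆ ∈ R}
      one_mem' := ⟨E.one_mem, fun c _ => by rw [commutatorElement_one_left]; exact R.one_mem⟩
      mul_mem' := fun {a b} ha hb => ⟨E.mul_mem ha.1 hb.1, fun c hc => by
        rw [show ⁅a * b, c⁆ = a * ⁅b, c⁆ * a⁻¹ * ⁅a, c⁆ by simp only [commutatorElement_def]; group]
        exact R.mul_mem ((Subgroup.mem_normalizer_iff.mp (hER ha.1) _).mp (hb.2 c hc)) (ha.2 c hc)⟩
      inv_mem' := fun {a} ha => ⟨E.inv_mem ha.1, fun c hc => by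
        rw [show ⁅a⁻¹, c⁆ = a⁻¹ * ⁅a, c⁆⁻¹ * a⁻¹⁻¹ by simp only [commutatorElement_def]; group]
        exact (Subgroup.mem_normalizer_iff.mp (hER (E.inv_mem ha.1)) _).mp (R.inv_mem (ha.2 c hc))⟩ }
  have hWT : W ≤ T := by
    refine iSup_le fun g => ?_
    intro w hw
    refine ⟨g.2 hw, fun c hc => ?_⟩
    have hCn : C ≤ Subgroup.normalizer (cg (g : G) Q : Set G) := inf_le_right.trans (hCQ _ g.2)
    refine CfsgLib.PReduced.le_pCoreOf (N := cg (g : G) Q ⊓ C) inf_le_right
      (CfsgLib.Coprime.le_normalizer_inf_of_le hCn Subgroup.le_normalizer)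
      ((hQp.map _).to_le inf_le_left) ⟨?_, ?_⟩
    · exact commutator_le_of_normalizes hCn (Subgroup.commutator_mem_commutator hw hc)
    · rw [show ⁅w, c⁆ = w * c * w⁻¹ * c⁻¹ from commutatorElement_def w c]
      exact C.mul_mem ((Subgroup.mem_normalizer_iff.mp (hEC (g.2 hw)) c).mp hc) (C.inv_mem hc)
  have hQC : ¬ Q ≤ CU := by
    intro hle
    have hQR : Q ≤ R := CfsgLib.PReduced.le_pCoreOf (le_inf hQE hle)
      (inf_le_right.trans (by simpa [cg_one] using hCQ 1 (by rw [cg_one]; exact hQE))) hQp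
    exact hQn ((hER.trans (CfsgLib.Large.normalizer_le hQ1 hQ hRp hQR)))
  -- the quotient
  set C' := CU.subgroupOf E with hC'
  set π := QuotientGroup.mk' C' with hπ
  have hK : ((Cfsg.pResidual p ↥E) ⊔ C').map π = Cfsg.pResidual p (↥E ⧸ C') := by
    haveI := CfsgLib.Transfer.pResidual_normal p ↥E
    rw [Subgroup.map_sup, hπ, QuotientGroup.map_mk'_self, sup_bot_eq, ← hπ]
    refine le_antisymm ?_ ((Subgroup.closure_le _).mpr fun x hx => ?_)
    · rw [Cfsg.pResidual, MonoidHom.map_closure]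
      refine Subgroup.closure_mono ?_
      rintro _ ⟨e, he, rfl⟩
      exact Nat.Coprime.coprime_dvd_left (orderOf_map_dvd π e) he
    · obtain ⟨e, rfl⟩ := QuotientGroup.mk'_surjective C' x
      obtain ⟨k, hk⟩ := CfsgLib.Transfer.isPGroup_quotient_pResidual (p := p) (e : ↥E ⧸ Cfsg.pResidual p ↥E)
      rw [← QuotientGroup.mk_pow, QuotientGroup.eq_one_iff] at hk
      refine mem_of_pow_mem (k := k) hx ?_
      rw [← map_pow]
      exact Subgroup.mem_map_of_mem π hk
  have hqs' : Cfsg.IsQuasisimple ↥(Cfsg.pResidual p (↥E ⧸ C')) := hK ▸ hqs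
  set Kx := Cfsg.pResidual p (↥E ⧸ C') with hKx
  have hmapC : ∀ A : Subgroup G, A ≤ E → ((A.subgroupOf E).map π = ⊥ ↔ A ≤ CU) := by
    intro A hA
    rw [hπ, Subgroup.map_eq_bot_iff, QuotientGroup.ker_mk']
    exact ⟨fun h a ha => h (x := ⟨a, hA ha⟩) ha, fun h a ha => h ha⟩
  have himg : ∀ A B : Subgroup G, A ≤ E → B ≤ E → ((⁅A, B⁆ : Subgroup G).subgroupOf E).map π =
      ⁅(A.subgroupOf E).map π, (B.subgroupOf E).map π⁆ := by
    intro A B hA hB
    rw [← Subgroup.map_commutator]
    congr 1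
    refine Subgroup.map_injective E.subtype_injective ?_
    rw [Subgroup.map_commutator, Subgroup.map_subgroupOf_eq_of_le hA, Subgroup.map_subgroupOf_eq_of_le hB,
      Subgroup.map_subgroupOf_eq_of_le ((Subgroup.commutator_mono hA hB).trans (Subgroup.commutator_le_self E))]
  have hperfK : ⁅Kx, Kx⁆ = Kx := by
    haveI := hqs'.1
    have := congrArg (Subgroup.map Kx.subtype) (Group.IsPerfect.commutator_eq_top (G := ↥Kx))
    rwa [commutator_def, Subgroup.map_commutator, ← MonoidHom.range_eq_map, Subgroup.range_subtype]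
      at this
  set Erx := (Er.subgroupOf E).map π with hErx
  haveI hErxn : Erx.Normal :=
    ((Subgroup.normal_subgroupOf_iff_le_normalizer hErE).mpr hEEr).map π (QuotientGroup.mk'_surjective _)
  have hErK : Erx = Kx := by
    haveI := CfsgLib.Transfer.pResidual_normal p (↥E ⧸ C')
    refine le_antisymm ?_ (le_of_perfect_of_pow (p := p) hperfK
      (by rw [Subgroup.normalizer_eq_top]; exact le_top) fun x hx => ?_)
    · rintro _ ⟨e, he, rfl⟩
      have hle : Er ≤ (Kx.comap π).map E.subtype := by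
        refine opOf_le_of_forall fun x hx hc => ⟨⟨x, hWE hx⟩, ?_, rfl⟩
        exact Subgroup.subset_closure (Nat.Coprime.coprime_dvd_left (orderOf_map_dvd π _)
          (by rwa [Subgroup.orderOf_mk]))
      obtain ⟨e', he', hee⟩ := hle he
      rwa [← E.subtype_injective hee]
    · have hW' : Kx ≤ (W.subgroupOf E).map π := by
        haveI : ((W.subgroupOf E).map π).Normal :=
          ((Subgroup.normal_subgroupOf_iff_le_normalizer hWE).mpr hEW).map π (QuotientGroup.mk'_surjective _)
        have h := commutator_eq_self (R := (Q.subgroupOf E).map π) hred hqs'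
          ((hQp.comap_of_injective _ E.subtype_injective).map π) (fun h => hQC ((hmapC Q hQE).mp h))
        refine h.ge.trans ?_
        have hQW : (Q.subgroupOf E).map π ≤ (W.subgroupOf E).map π :=
          Subgroup.map_mono (Subgroup.comap_mono (le_weakClosure hQE))
        exact (Subgroup.commutator_mono (le_refl Kx) hQW).trans
          (Subgroup.commutator_le_right Kx ((W.subgroupOf E).map π))
      obtain ⟨w, hw, rfl⟩ := hW' hx
      haveI := CfsgLib.Transfer.pResidual_normal p ↥W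
      obtain ⟨k, hk⟩ := CfsgLib.Transfer.isPGroup_quotient_pResidual (p := p)
        ((⟨(w : G), hw⟩ : W) : ↥W ⧸ Cfsg.pResidual p ↥W)
      rw [← QuotientGroup.mk_pow, QuotientGroup.eq_one_iff] at hk
      exact ⟨k, by rw [← map_pow]; exact Subgroup.mem_map_of_mem π ⟨_, hk, by simp⟩⟩
  -- 1
  have c1 : (Cfsg.pResidual p ↥E).map E.subtype ⊔ C = Er ⊔ C := by
    have h := congrArg (Subgroup.comap π) (hK.trans hErK.symm)
    rw [hErx, Subgroup.comap_map_eq, Subgroup.comap_map_eq, hπ, QuotientGroup.ker_mk', sup_assoc,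
      sup_idem] at h
    have hmC : C'.map E.subtype = C := by
      rw [hC', Subgroup.subgroupOf_map_subtype, inf_comm]
    have := congrArg (Subgroup.map E.subtype) h
    rwa [Subgroup.map_sup, Subgroup.map_sup, hmC, Subgroup.map_subgroupOf_eq_of_le hErE] at this
  -- 3
  have c3 : (Cfsg.pResidual p ↥Er).map Er.subtype = Er :=
    le_antisymm (Subgroup.map_subtype_le _)
      (opOf_le_of_forall fun x hx hc => mem_opOf (mem_opOf hx hc) hc)
  -- a normal subgroup covering `Er` modulo `C`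
  have hcover : ∀ D : Subgroup G, D ≤ Er → (D.subgroupOf E).map π = Kx → ∀ x ∈ Er,
      ∃ d ∈ D, ∃ c ∈ C, x = d * c ∧ c ∈ Er := by
    intro D hD hDK x hx
    have hxm : π ⟨x, hErE hx⟩ ∈ (D.subgroupOf E).map π := by
      rw [hDK, ← hErK]; exact Subgroup.mem_map_of_mem π hx
    obtain ⟨d, hd, he⟩ := hxm
    obtain ⟨c, hc, hdc⟩ := (QuotientGroup.mk'_eq_mk' C').mp he
    have e : (d : G) * (c : G) = x := congrArg Subtype.val hdc
    refine ⟨d, hd, c, ⟨c.2, hc⟩, e.symm, ?_⟩
    rw [show (c : G) = (d : G)⁻¹ * x by rw [← e, inv_mul_cancel_left]]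
    exact Er.mul_mem (Er.inv_mem (hD hd)) hx
  -- 2
  have c2 : ⁅Er, Er⁆ = Er := by
    refine le_antisymm (Subgroup.commutator_le_self Er) ?_
    set D := ⁅Er, Er⁆ with hD
    have hDle : D ≤ Er := Subgroup.commutator_le_self Er
    have hDn : E ≤ Subgroup.normalizer (D : Set G) := le_normalizer_commutator hEEr hEEr
    set D' := D ⊔ (Er ⊓ R) with hD'
    have hD'n : E ≤ Subgroup.normalizer (D' : Set G) :=
      CfsgLib.Asymmetric.le_normalizer_sup hDn (CfsgLib.Coprime.le_normalizer_inf_of_le hEEr hER)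
    have hDK : (D.subgroupOf E).map π = Kx := by
      rw [hD, himg Er Er hErE hErE, ← hErx, hErK, hperfK]
    haveI : (D'.subgroupOf W).Normal := Subgroup.normal_subgroupOf_of_le_normalizer (hWE.trans hD'n)
    set f := QuotientGroup.mk' (D'.subgroupOf W) with hf
    haveI := CfsgLib.Transfer.pResidual_normal p ↥W
    haveI : ((Cfsg.pResidual p ↥W).map f).Normal :=
      Subgroup.Normal.map inferInstance f (QuotientGroup.mk'_surjective _)
    have hcent : (Cfsg.pResidual p ↥W).map f ≤ Subgroup.center _ := by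
      rintro _ ⟨x, hx, rfl⟩
      refine Subgroup.mem_center_iff.mpr fun z => ?_
      obtain ⟨w, rfl⟩ := QuotientGroup.mk'_surjective (D'.subgroupOf W) z
      rw [← commutatorElement_eq_one_iff_mul_comm, ← map_commutatorElement, QuotientGroup.mk'_apply,
        QuotientGroup.eq_one_iff]
      obtain ⟨d, hd, c, hc, hxe, hcE⟩ := hcover D hDle hDK (x : G) ⟨x, hx, rfl⟩
      show ⁅(w : G), (x : G)⁆ ∈ D'
      rw [hxe, show ⁅(w : G), d * c⁆ = ⁅(w : G), d⁆ * (d * ⁅(w : G), c⁆ * d⁻¹) by
        simp only [commutatorElement_def]; group]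
      have hwd : ⁅(w : G), d⁆ ∈ D := by
        rw [commutatorElement_def]
        exact D.mul_mem ((Subgroup.mem_normalizer_iff.mp (hDn (hWE w.2)) d).mp hd) (D.inv_mem hd)
      have hwc : ⁅(w : G), c⁆ ∈ Er ⊓ R := by
        refine ⟨?_, (hWT w.2).2 c hc⟩
        rw [commutatorElement_def]
        exact Er.mul_mem ((Subgroup.mem_normalizer_iff.mp (hEEr (hWE w.2)) c).mp hcE) (Er.inv_mem hcE)
      have hd' : d ∈ D' := Subgroup.mem_sup_left hd
      exact D'.mul_mem (Subgroup.mem_sup_left hwd)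
        (D'.mul_mem (D'.mul_mem hd' (Subgroup.mem_sup_right hwc)) (D'.inv_mem hd'))
    have hqf : IsPGroup p ((↥W ⧸ D'.subgroupOf W) ⧸ (Cfsg.pResidual p ↥W).map f) := fun y => by
      obtain ⟨y, rfl⟩ := QuotientGroup.mk_surjective y
      obtain ⟨w, rfl⟩ := QuotientGroup.mk'_surjective (D'.subgroupOf W) y
      obtain ⟨k, hk⟩ := CfsgLib.Transfer.isPGroup_quotient_pResidual (p := p)
        (w : ↥W ⧸ Cfsg.pResidual p ↥W)
      rw [← QuotientGroup.mk_pow, QuotientGroup.eq_one_iff] at hk
      exact ⟨k, by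
        rw [← QuotientGroup.mk_pow, ← map_pow]
        exact (QuotientGroup.eq_one_iff _).mpr (Subgroup.mem_map_of_mem f hk)⟩
    have hall : W ≤ ((Cfsg.pCore p (↥W ⧸ D'.subgroupOf W)).comap f).map W.subtype := by
      refine iSup_le fun g => ?_
      have hgW : cg (g : G) Q ≤ W := cg_le_weakClosure g.2
      have := le_pCore_of_central _ hcent hqf (R := ((cg (g : G) Q).subgroupOf W).map f)
        (((hQp.map _).comap_of_injective _ W.subtype_injective).map f)
      exact fun x hx => ⟨⟨x, hgW hx⟩, this (Subgroup.mem_map_of_mem f hx), rfl⟩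
    have hpow : ∀ x ∈ W, ∃ k : ℕ, x ^ p ^ k ∈ D' := by
      intro x hx
      obtain ⟨y, hy, rfl⟩ := hall hx
      obtain ⟨k, hk⟩ := CfsgLib.Fitting.pCore_isPGroup p ⟨f y, hy⟩
      have e : f (y ^ p ^ k) = 1 := by rw [map_pow]; exact congrArg Subtype.val hk
      exact ⟨k, (QuotientGroup.eq_one_iff (N := D'.subgroupOf W) (y ^ p ^ k)).mp e⟩
    refine opOf_le_of_forall fun x hx hc => ?_
    obtain ⟨k, hk⟩ := hpow x hx
    exact mem_of_coprime (hRp.to_le inf_le_right)
      (inf_le_left.trans (hErE.trans hDn)) (mem_of_pow_mem hc hk) hc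
  -- 4
  have hKi : Cfsg.IsQuasisimple (↥Er ⧸ CU.subgroupOf Er) := by
    set φ : ↥Er →* ↥E ⧸ C' := π.comp (Subgroup.inclusion hErE)
    have hker : φ.ker = CU.subgroupOf Er := by
      ext x
      rw [MonoidHom.mem_ker]
      exact QuotientGroup.eq_one_iff _
    have hrange : φ.range = Kx := by
      rw [MonoidHom.range_comp, Subgroup.inclusion_range]
      exact hErK
    refine CfsgLib.Layer.isQuasisimple_of_mulEquiv ?_ hqs'
    exact ((QuotientGroup.quotientMulEquivOfEq hker.symm).trans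
      ((QuotientGroup.quotientKerEquivRange φ).trans (MulEquiv.subgroupCongr hrange))).symm
  refine ⟨c1, c2, c3, hKi, ?_, ?_⟩
  -- 5
  · haveI := CfsgLib.Fitting.pCore_normal (G := ↥Er) p
    have hle : Cfsg.pCore p ↥Er ≤ CU.subgroupOf Er := by
      set P := Cfsg.pCoreOf p Er with hP
      have hPE : P ≤ E := (Subgroup.map_subtype_le _).trans hErE
      have hPn : E ≤ Subgroup.normalizer (P : Set G) := by
        haveI : (Cfsg.pCore p ↥Er).Characteristic :=
          Subgroup.characteristic_iff_map_eq.mpr fun φ => CfsgLib.CharCore.map_pCore φ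
        exact CfsgLib.PSolvable.le_normalizer_map_of_characteristic hEEr _
      have := CfsgLib.Fitting.le_pCore (p := p)
        (((Subgroup.normal_subgroupOf_iff_le_normalizer hPE).mpr hPn).map π (QuotientGroup.mk'_surjective _))
        (((CfsgLib.PReduced.isPGroup_pCoreOf p Er).comap_of_injective _ E.subtype_injective).map π)
      rw [hred, le_bot_iff, hmapC P hPE] at this
      exact fun x hx => this ⟨x, hx, rfl⟩
    haveI : Group.IsPerfect ↥Er := ⟨Subgroup.map_injective Er.subtype_injective (by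
      rw [commutator_def, Subgroup.map_commutator, ← MonoidHom.range_eq_map, Subgroup.range_subtype]
      exact c2)⟩
    haveI : Group.IsPerfect (↥Er ⧸ Cfsg.pCore p ↥Er) :=
      Group.IsPerfect.ofSurjective (f := QuotientGroup.mk' _) (QuotientGroup.mk'_surjective _)
    let f : ↥Er ⧸ Cfsg.pCore p ↥Er →* ↥Er ⧸ CU.subgroupOf Er :=
      QuotientGroup.map _ _ (MonoidHom.id ↥Er) hle
    refine isQuasisimple_of_ker_le_center f (fun y => ?_) ?_ hKi
    · obtain ⟨x, rfl⟩ := QuotientGroup.mk_surjective y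
      exact ⟨(x : ↥Er ⧸ Cfsg.pCore p ↥Er), rfl⟩
    · intro z hz
      obtain ⟨x, rfl⟩ := QuotientGroup.mk'_surjective (Cfsg.pCore p ↥Er) z
      have hxC : (x : G) ∈ C := ⟨hErE x.2, (QuotientGroup.eq_one_iff x).mp (MonoidHom.mem_ker.mp hz)⟩
      refine Subgroup.mem_center_iff.mpr fun y => ?_
      obtain ⟨y, rfl⟩ := QuotientGroup.mk'_surjective (Cfsg.pCore p ↥Er) y
      rw [← commutatorElement_eq_one_iff_mul_comm, ← map_commutatorElement, QuotientGroup.mk'_apply,
        QuotientGroup.eq_one_iff]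
      refine CfsgLib.Fitting.le_pCore (p := p)
        ((Subgroup.normal_subgroupOf_iff_le_normalizer (inf_le_left : Er ⊓ R ≤ Er)).mpr
          (CfsgLib.Coprime.le_normalizer_inf_of_le Subgroup.le_normalizer (hErE.trans hER)))
        ((hRp.to_le inf_le_right).comap_of_injective _ Er.subtype_injective) ?_
      exact ⟨(⁅y, x⁆ : ↥Er).2, (hWT (hErW y.2)).2 x hxC⟩
  -- 6
  · intro Y hYE hYp hYC
    have hle : ⁅Er, Y⁆ ≤ Er := commutator_le_of_normalizes (hYE.trans hEEr)
    refine le_antisymm hle ?_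
    set D := ⁅Er, Y⁆ with hD
    have hDn : Er ≤ Subgroup.normalizer (D : Set G) := left_le_normalizer_commutator Er Y
    have hDK : (D.subgroupOf E).map π = Kx := by
      rw [hD, himg Er Y hErE hYE, ← hErx, hErK]
      exact commutator_eq_self hred hqs' ((hYp.comap_of_injective _ E.subtype_injective).map π)
        fun h => hYC ((hmapC Y hYE).mp h)
    have hD' : Er ≤ D ⊔ (Er ⊓ R) := by
      refine c2.ge.trans (Subgroup.commutator_le.mpr fun a ha b hb => ?_)
      obtain ⟨d, hd, c, hc, rfl, hcE⟩ := hcover D hle hDK b hb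
      rw [show ⁅a, d * c⁆ = ⁅a, d⁆ * (d * ⁅a, c⁆ * d⁻¹) by simp only [commutatorElement_def]; group]
      refine Subgroup.mul_mem _ (Subgroup.mem_sup_left ?_) (Subgroup.mem_sup_right ?_)
      · rw [commutatorElement_def]
        exact D.mul_mem ((Subgroup.mem_normalizer_iff.mp (hDn ha) d).mp hd) (D.inv_mem hd)
      · refine ⟨Er.mul_mem (Er.mul_mem (hle hd) (Er.mul_mem (Er.mul_mem (Er.mul_mem ha hcE)
          (Er.inv_mem ha)) (Er.inv_mem hcE))) (Er.inv_mem (hle hd)), ?_⟩
        exact (Subgroup.mem_normalizer_iff.mp (hER (hErE (hle hd))) _).mp ((hWT (hErW ha)).2 c hc)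
    refine c3.ge.trans (opOf_le_of_forall fun x hx hc => ?_)
    exact mem_of_coprime (hRp.to_le inf_le_right) (inf_le_left.trans hDn) (hD' hx) hc

end Cfsg.Agent.S2860
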