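import Cfsg.Statements.S2862
import Cfsg.Agent.Lib.Asymmetric.MinimalL

set_option autoImplicit false
open Cfsg CfsgLib.WeakClosure
open scoped commutatorElement Pointwise
set_option linter.style.haveILetI false

namespace Cfsg.Agent.S2862

/-- Standing hypotheses: G a finite group, S a Sylow p-subgroup, Q a nontrivial large p-subgroup of G contained in S, M a subgroup containing S with the basic property (M ∈ 𝔐_G(S)); Y_M the largest p-reduced normal subgroup of M and M† = M·C_G(Y_M). Suppose Y_M is char-p-tall and asymmetric in G, H ∈ ℌ_G(O_p(M)), and L is minimal among the subgroups of H containing Y_M with Y_M ≰ O_p(L). Then H = ⟨L, O_p(M)⟩ = ⟨hY_Mh⁻¹, O_p(M)⟩ for every h ∈ L outside N_L(Y_M); L is Y_M-minimal and of characteristic p, with N_L(Y_M) the unique maximal subgroup of L containing Y_M; [V, O^p(L)] ≠ 1 for every noncentral chief factor V/W of H inside O_p(H) (that is, O^p(L) does not act trivially on V/W); and the normal closure of O_p(L) ∩ Y_M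 in L lies in O_p(H). -/
theorem result {G : Type*} [Group G] [Finite G] {p : ℕ} [Fact p.Prime] (S : Sylow p G) (Q : Subgroup G) (hQp : IsPGroup p ↥Q) (hQ1 : Q ≠ ⊥) (hQS : Q ≤ (S : Subgroup G)) (hQ : Cfsg.IsLarge Q) (M : Subgroup G) (hSM : (S : Subgroup G) ≤ M) (hM : Cfsg.IsInFrakM p M) (htall : Cfsg.IsCharPTall p (Cfsg.largestPReducedOf p M)) (hasym : ¬ Cfsg.IsSymmetricIn (Cfsg.largestPReducedOf p M)) (H : Subgroup G) (hH : Cfsg.IsInFrakH p M H) (L : Subgroup G) (hLH : L ≤ H) (hYL : (Cfsg.largestPReducedOf p M) ≤ L) (hYO : ¬ (Cfsg.largestPReducedOf p M) ≤ (Cfsg.pCoreOf p L)) (hmin : ∀ L' : Subgroup G, L' ≤ L → (Cfsg.largestPReducedOf p M) ≤ L' → ¬ (Cfsg.largestPReducedOf p M) ≤ (Cfsg.pCoreOf p L') → L' = L) : (L ⊔ (Cfsg.pCoreOf p M) = H ∧ ∀ h ∈ L, h ∉ Subgroup.normalizer (((Cfsg.largestPReducedOf p M) : Subgroup G) : Set G) → (((Cfsg.largestPReducedOf p M) : Subgroup G).map (MulAut.conj (h : G)).toMonoidHom) ⊔ (Cfsg.pCoreOf p M) = H) ∧ (Cfsg.IsMinimalOver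 (((Cfsg.largestPReducedOf p M)).subgroupOf L) ∧ Subgroup.centralizer (Cfsg.pCore p ↥L : Set ↥L) ≤ Cfsg.pCore p ↥L ∧ L ⊓ Subgroup.normalizer (((Cfsg.largestPReducedOf p M) : Subgroup G) : Set G) < L ∧ ∀ X : Subgroup G, (Cfsg.largestPReducedOf p M) ≤ X → X < L → X ≤ L ⊓ Subgroup.normalizer (((Cfsg.largestPReducedOf p M) : Subgroup G) : Set G)) ∧ (∀ V W' : Subgroup G, V ≤ (Cfsg.pCoreOf p H) → H ≤ Subgroup.normalizer ((V : Subgroup G) : Set G) → H ≤ Subgroup.normalizer ((W' : Subgroup G) : Set G) → W' < V → (∀ Z' : Subgroup G, H ≤ Subgroup.normalizer ((Z' : Subgroup G) : Set G) → W' ≤ Z' → Z' ≤ V → Z' = W' ∨ Z' = V) → ¬ ⁅V, H⁆ ≤ W' → ¬ ⁅V, ((Cfsg.pResidual p ↥L).map (L).subtype)⁆ ≤ W') ∧ (Subgroup.normalClosure (((((Cfsg.pCoreOf p L) ⊓ (Cfsg.largestPReducedOf p M)).subgroupOf L : Subgroup ↥L)) : Set ↥L)).map L.subtype ≤ (Cfsg.pCoreOf p H) := by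
  have h : CfsgLib.Asymmetric.Hyp p S Q M := ⟨hQp, hQ1, hQS, hQ, hSM, hM, hasym⟩
  have hm : CfsgLib.Asymmetric.MinL p M H L := ⟨hLH, hYL, hYO, hmin⟩
  set Y := Cfsg.largestPReducedOf p M with hYdef
  set A := Cfsg.pCoreOf p M with hAdef
  set Q0 := Cfsg.pCoreOf p H with hQ0
  have hYH : Y ≤ H := hYL.trans hLH
  have hcl : Subgroup.normalClosure ((Y.subgroupOf L : Subgroup L) : Set L) = ⊤ := by
    refine Subgroup.map_injective L.subtype_injective ?_
    rw [CfsgLib.Asymmetric.normalClosure_map_eq_nc hYL, ← MonoidHom.range_eq_map, Subgroup.range_subtype]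
    refine hmin _ (CfsgLib.Asymmetric.nc_le hYL) (CfsgLib.Asymmetric.le_nc L Y) fun hle => hYO ?_
    exact hle.trans (CfsgLib.Asymmetric.pCoreOf_le_of_normal (CfsgLib.Asymmetric.nc_le hYL)
      (CfsgLib.Asymmetric.le_normalizer_nc L Y))
  obtain ⟨t, ht, hnp⟩ := hm.exists_gen
  have hgen := hm.gen_eq ht hnp
  have htop : cg t Y ⊔ A = H := by_contra fun hne => hnp (hm.isPGroup_of_ne hH (hLH ht) hne)
  have hQ0Y : ∀ g ∈ L, Q0 ≤ Subgroup.normalizer (cg g Y : Set G) := fun g hg =>
    ((cg_eq_of_mem_normalizer ((CfsgLib.PReduced.le_normalizer_pCoreOf p H) (hLH hg))).ge.trans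
      (cg_mono g ((CfsgLib.Asymmetric.pCoreOf_le_normalizer h hH.2.1).trans inf_le_right))).trans
      (Subgroup.le_normalizer_map _)
  have hYn : ¬ L ≤ Subgroup.normalizer (Y : Set G) := fun hle => hYO
    (CfsgLib.PReduced.le_pCoreOf hYL hle (CfsgLib.Asymmetric.isPGroup_largestOf p M))
  have hlt : L ⊓ Subgroup.normalizer (Y : Set G) < L :=
    lt_of_le_of_ne inf_le_left fun e => hYn (e.ge.trans inf_le_right)
  have hunique : ∀ X : Subgroup G, Y ≤ X → X < L → X ≤ L ⊓ Subgroup.normalizer (Y : Set G) :=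
    fun X hYX hX => le_inf hX.le (hm.le_normalizer_of_ne h hH hX.le hYX hX.ne)
  -- centralisers of factors
  let Kf : ∀ {V W : Subgroup G}, CfsgLib.Asymmetric.IsFactor p H V W → Subgroup G := fun {V W} hf =>
    { carrier := {x | x ∈ H ∧ ∀ v ∈ V, ⁅x, v⁆ ∈ W}
      one_mem' := ⟨H.one_mem, fun v _ => by rw [commutatorElement_one_left]; exact W.one_mem⟩
      mul_mem' := fun {a b} ha hb => ⟨H.mul_mem ha.1 hb.1, fun v hv => by
        rw [show ⁅a * b, v⁆ = a * ⁅b, v⁆ * a⁻¹ * ⁅a, v⁆ by simp only [commutatorElement_def]; group]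
        exact W.mul_mem ((Subgroup.mem_normalizer_iff.mp (hf.nW ha.1) _).mp (hb.2 v hv)) (ha.2 v hv)⟩
      inv_mem' := fun {a} ha => ⟨H.inv_mem ha.1, fun v hv => by
        rw [show ⁅a⁻¹, v⁆ = a⁻¹ * ⁅a, v⁆⁻¹ * a⁻¹⁻¹ by simp only [commutatorElement_def]; group]
        exact (Subgroup.mem_normalizer_iff.mp (hf.nW (H.inv_mem ha.1)) _).mp (W.inv_mem (ha.2 v hv))⟩ }
  have hKn : ∀ {V W : Subgroup G} (hf : CfsgLib.Asymmetric.IsFactor p H V W),
      H ≤ Subgroup.normalizer (Kf hf : Set G) := fun {V W} hf => le_normalizer_of_forall fun g hg z hz =>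
    ⟨H.mul_mem (H.mul_mem hg hz.1) (H.inv_mem hg), fun v hv => by
      rw [show ⁅g * z * g⁻¹, v⁆ = g * ⁅z, g⁻¹ * v * g⁆ * g⁻¹ by simp only [commutatorElement_def]; group]
      exact (Subgroup.mem_normalizer_iff.mp (hf.nW hg) _).mp
        (hz.2 _ ((Subgroup.mem_normalizer_iff''.mp (hf.nV hg) v).mp hv))⟩
  refine ⟨⟨hm.sup_eq hH, fun l hl hln => ?_⟩, ⟨⟨hcl, ?_⟩, ?_, hlt, hunique⟩, ?_, ?_⟩
  · by_contra hne
    exact hln (mem_normalizer_of_cg_eq (hm.cg_eq_of_le h hH (hm.isPGroup_of_ne hH (hLH hl) hne)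
      (sup_le hYL ((cg_mono l hYL).trans (cg_eq_of_mem_normalizer (Subgroup.le_normalizer hl)).le))
      le_sup_left hl le_sup_right))
  · refine ⟨(Subgroup.normalizer (Y : Set G)).subgroupOf L,
      ⟨⟨fun e => hYn (Subgroup.subgroupOf_eq_top.mp e), fun Z hZ => ?_⟩,
        fun y hy => Subgroup.le_normalizer hy⟩, ?_⟩
    · by_contra hZt
      refine hZ.not_ge fun z hz => ?_
      have hlt' : Z.map L.subtype < L := lt_of_le_of_ne (Subgroup.map_subtype_le _) fun e => hZt
        (Subgroup.map_injective L.subtype_injective (by rw [e, ← MonoidHom.range_eq_map, Subgroup.range_subtype]))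
      exact (hunique (Z.map L.subtype) (fun y hy => ⟨⟨y, hYL hy⟩, hZ.le (Subgroup.le_normalizer hy), rfl⟩) hlt' ⟨z, hz, rfl⟩).2
    · rintro Z ⟨hZc, hYZ⟩
      have hlt' : Z.map L.subtype < L := lt_of_le_of_ne (Subgroup.map_subtype_le _) fun e => hZc.1
        (Subgroup.map_injective L.subtype_injective (by rw [e, ← MonoidHom.range_eq_map, Subgroup.range_subtype]))
      have hle : Z ≤ (Subgroup.normalizer (Y : Set G)).subgroupOf L := fun z hz =>
        (hunique (Z.map L.subtype) (fun y hy => ⟨⟨y, hYL hy⟩, hYZ hy, rfl⟩) hlt' ⟨z, hz, rfl⟩).2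
      by_contra hne
      exact hYn (Subgroup.subgroupOf_eq_top.mp (hZc.2 _ (lt_of_le_of_ne hle hne)))
  · -- characteristic p
    haveI := CfsgLib.Fitting.pCore_normal (G := L) p
    intro c hc
    refine CfsgLib.Fitting.le_pCore (N := Subgroup.centralizer (Cfsg.pCore p L : Set L)) inferInstance ?_ hc
    have hLQ : ∀ q ∈ Q0, ∀ l ∈ L, ⁅l, q⁆ ∈ L ⊓ Q0 := by
      intro q hq
      have hW : L ≤ Subgroup.normalizer ((L ⊓ Q0 : Subgroup G) : Set G) :=
        CfsgLib.Coprime.le_normalizer_inf_of_le Subgroup.le_normalizer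
          (hLH.trans (CfsgLib.PReduced.le_normalizer_pCoreOf p H))
      have hone : ∀ g ∈ L, cg g Y ≤ CfsgLib.Asymmetric.fixer hW q := by
        intro g hg z hz
        have hzL : z ∈ L := (cg_eq_of_mem_normalizer (Subgroup.le_normalizer hg)).le (cg_mono g hYL hz)
        refine ⟨hzL, (cg_eq_of_mem_normalizer (Subgroup.le_normalizer hg)).le (cg_mono g hYL
          (commutator_le_of_normalizes (hQ0Y g hg) (Subgroup.commutator_mem_commutator hz hq))), ?_⟩
        rw [commutatorElement_def]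
        exact Q0.mul_mem ((Subgroup.mem_normalizer_iff.mp
          ((CfsgLib.PReduced.le_normalizer_pCoreOf p H) (hLH hzL)) q).mp hq) (Q0.inv_mem hq)
      have hle : L ≤ CfsgLib.Asymmetric.fixer hW q := hgen.ge.trans
        (sup_le (by simpa [cg_one] using hone 1 L.one_mem) (hone t ht))
      exact fun l hl => (hle hl).2
    have hQL : L ⊓ Q0 ≤ Cfsg.pCoreOf p L := CfsgLib.PReduced.le_pCoreOf inf_le_left
      (CfsgLib.Coprime.le_normalizer_inf_of_le Subgroup.le_normalizer
        (hLH.trans (CfsgLib.PReduced.le_normalizer_pCoreOf p H)))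
      ((CfsgLib.PReduced.isPGroup_pCoreOf p H).to_le inf_le_right)
    have hp : IsPGroup p ((Subgroup.centralizer (Cfsg.pCore p L : Set L)).map L.subtype) := by
      refine CfsgLib.Asymmetric.isPGroup_of_coprime_eq_one ?_
      rintro _ ⟨x, hx, rfl⟩ hxc
      have hcq : ∀ q ∈ Q0, ⁅(x : G), q⁆ = 1 := by
        intro q hq
        obtain ⟨k, hk⟩ := CfsgLib.PReduced.isPGroup_pCoreOf p H ⟨_, (hLQ q hq x x.2).2⟩
        rw [← Subgroup.mem_bot]
        refine CfsgLib.Asymmetric.commutator_mem_of_coprime (U := Cfsg.pCoreOf p L)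
          (mem_normalizer_of_cg_eq (Subgroup.map_bot _)) hxc (hQL (hLQ q hq x x.2)) ?_
          ⟨k, Subgroup.mem_bot.mpr (congrArg Subtype.val hk)⟩
        rintro _ ⟨z, hz, rfl⟩
        refine Subgroup.mem_bot.mpr ((commutatorElement_eq_one_iff_mul_comm).mpr ?_)
        exact (congrArg Subtype.val (Subgroup.mem_centralizer_iff.mp hx z hz)).symm
      have hmem : (⟨(x : G), hLH x.2⟩ : H) ∈ Cfsg.pCore p H :=
        hH.1 (Subgroup.mem_centralizer_iff.mpr fun q hq =>
          Subtype.ext (commutatorElement_eq_one_iff_mul_comm.mp (hcq q ⟨q, hq, rfl⟩)).symm)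
      obtain ⟨n, hn⟩ := CfsgLib.PReduced.isPGroup_pCoreOf p H ⟨(x : G), ⟨_, hmem, rfl⟩⟩
      have e : (x : G) ^ p ^ n = 1 := congrArg Subtype.val hn
      exact orderOf_eq_one_iff.mp (Nat.eq_one_of_dvd_coprimes (hxc.pow_right n) dvd_rfl
        (orderOf_dvd_of_pow_eq_one e))
    exact (hp.comap_of_injective L.subtype L.subtype_injective).to_le fun d hd => ⟨d, hd, rfl⟩
  · -- chief factors
    intro V W hVQ hVn hWn hWV hsimple hVH hVR
    have hf : CfsgLib.Asymmetric.IsFactor p H V W := ⟨hVQ, hVn, hWn, hWV, hsimple⟩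
    have hLK : L ≤ Kf hf ⊔ A := by
      refine (le_opOf_sup (p := p) hYL fun N hN hle => ?_).trans (sup_le ?_ ?_)
      · exact top_le_iff.mp (hcl.ge.trans (Subgroup.normalClosure_le_normal hle))
      · refine le_trans ?_ le_sup_left
        intro r hr
        refine ⟨hLH (opOf_le L hr), fun v hv => hVR ?_⟩
        rw [Subgroup.commutator_comm]
        exact Subgroup.commutator_mem_commutator hr hv
      · exact (CfsgLib.PReduced.largestOf_le_pCoreOf p M).trans le_sup_right
    have hHK : H ≤ Kf hf ⊔ A := (hm.sup_eq hH).ge.trans (sup_le hLK le_sup_right)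
    have hVA : ⁅V, A⁆ ≤ V := commutator_le_of_normalizes (hH.2.1.trans hVn)
    have hZn : H ≤ Subgroup.normalizer ((⁅V, A⁆ ⊔ W : Subgroup G) : Set G) := by
      refine hHK.trans (sup_le (le_normalizer_of_forall fun k hk z hz => ?_)
        (CfsgLib.Asymmetric.le_normalizer_sup
          (le_normalizer_commutator (hH.2.1.trans hVn) Subgroup.le_normalizer) (hH.2.1.trans hWn)))
      rw [show k * z * k⁻¹ = ⁅k, z⁆ * z by simp [commutatorElement_def]]
      exact Subgroup.mul_mem _ (Subgroup.mem_sup_right (hk.2 z (sup_le hVA hWV.le hz))) hz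
    rcases hsimple _ hZn le_sup_right (sup_le hVA hWV.le) with hZ | hZ
    · refine hVH (Subgroup.commutator_le.mpr fun v hv x hx => ?_)
      have hle : H ≤ Kf hf := by
        refine hHK.trans (sup_le le_rfl fun a ha => ⟨hH.2.1 ha, fun v hv => hZ.le (Subgroup.mem_sup_left ?_)⟩)
        rw [Subgroup.commutator_comm]
        exact Subgroup.commutator_mem_commutator ha hv
      rw [← commutatorElement_inv]
      exact W.inv_mem ((hle hx).2 v hv)
    · set T := Q0 ⊔ A with hT
      have hTH : T ≤ H := sup_le (Subgroup.map_subtype_le _) hH.2.1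
      have hTp : IsPGroup p T := by
        rw [hT, sup_comm]
        exact IsPGroup.to_sup_of_normal_right' (CfsgLib.PReduced.isPGroup_pCoreOf p M)
          (CfsgLib.PReduced.isPGroup_pCoreOf p H) (hH.2.1.trans (CfsgLib.PReduced.le_normalizer_pCoreOf p H))
      haveI : Group.IsNilpotent ↥T := hTp.isNilpotent
      haveI : (W.subgroupOf T).Normal := Subgroup.normal_subgroupOf_of_le_normalizer (hTH.trans hWn)
      have hVT : V ≤ T := hVQ.trans le_sup_left
      have hkey : V.subgroupOf T ≤ W.subgroupOf T := by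
        refine CfsgLib.Amalgam.le_of_le_sup_commutator ?_
        rw [← Subgroup.map_le_map_iff_of_injective T.subtype_injective, Subgroup.map_sup, Subgroup.map_commutator,
          Subgroup.map_subgroupOf_eq_of_le hVT, Subgroup.map_subgroupOf_eq_of_le (hWV.le.trans hVT),
          ← MonoidHom.range_eq_map, Subgroup.range_subtype]
        calc V = ⁅V, A⁆ ⊔ W := hZ.symm
          _ ≤ W ⊔ ⁅V, T⁆ := sup_le ((Subgroup.commutator_mono le_rfl le_sup_right).trans le_sup_right) le_sup_left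
      exact hWV.not_ge fun v hv => hkey (x := ⟨v, hVT hv⟩) hv
  · -- the normal closure of `O_p(L) ⊓ Y`
    set B := Cfsg.pCoreOf p L ⊓ Y with hB
    have hBL : B ≤ L := inf_le_right.trans hYL
    rw [CfsgLib.Asymmetric.normalClosure_map_eq_nc hBL]
    suffices hBQ : B ≤ Q0 from iSup_le fun x => (cg_mono _ hBQ).trans
      (cg_eq_of_mem_normalizer (CfsgLib.PReduced.le_normalizer_pCoreOf p H (hLH x.2))).le
    have hOY : Cfsg.pCoreOf p L ≤ Subgroup.normalizer (Y : Set G) :=
      le_sup_right.trans (hm.le_normalizer_of_isPGroup h hH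
        (IsPGroup.to_sup_of_normal_right' (CfsgLib.Asymmetric.isPGroup_largestOf p M)
          (CfsgLib.PReduced.isPGroup_pCoreOf p L) (hYL.trans (CfsgLib.PReduced.le_normalizer_pCoreOf p L)))
        (sup_le hYL (Subgroup.map_subtype_le _)) le_sup_left)
    have hOt : Cfsg.pCoreOf p L ≤ Subgroup.normalizer (cg t Y : Set G) :=
      ((cg_eq_of_mem_normalizer (CfsgLib.PReduced.le_normalizer_pCoreOf p L ht)).ge.trans
        (cg_mono t hOY)).trans (Subgroup.le_normalizer_map _)
    have hker : ∀ {V W : Subgroup G} (hf : CfsgLib.Asymmetric.IsFactor p H V W), B ≤ Kf hf := by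
      intro V W hf
      by_cases htriv : ∀ z ∈ H, ∀ v ∈ V, ⁅z, v⁆ ∈ W
      · exact fun b hb => ⟨hLH (hBL hb), htriv b (hLH (hBL hb))⟩
      have hWn : ∀ z ∈ H, ∀ w ∈ W, ⁅z, w⁆ ∈ W := fun z hz w hw => by
        rw [commutatorElement_def]
        exact W.mul_mem ((Subgroup.mem_normalizer_iff.mp (hf.nW hz) _).mp hw) (W.inv_mem hw)
      have htY : cg t Y ≤ H :=
        (cg_mono t hYH).trans (cg_eq_of_mem_normalizer (Subgroup.le_normalizer (hLH ht))).le
      have hAY : ∀ a ∈ A, ∀ y ∈ Y, a * y = y * a := fun a ha y hy =>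
        (Subgroup.mem_centralizer_iff.mp (CfsgLib.PReduced.pCoreOf_le_centralizer_largestOf p M ha) y hy).symm
      have hcent : ∀ w ∈ Y ⊓ cg t Y, w ∈ V → w ∈ W := by
        intro w hw hwV
        have hle : H ≤ Subgroup.centralizer ({w} : Set G) := htop.ge.trans (sup_le (fun z hz => by
            obtain ⟨y, hy, rfl⟩ := hz
            obtain ⟨y2, hy2, rfl⟩ := hw.2
            exact Subgroup.mem_centralizer_singleton_iff.mpr (by
              rw [← map_mul, ← map_mul, CfsgLib.PReduced.largestOf_comm p M y hy y2 hy2]))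
          (fun a ha => Subgroup.mem_centralizer_singleton_iff.mpr (hAY a ha w hw.1)))
        have hmem : w ∈ CfsgLib.Asymmetric.centMod hf H := ⟨hwV, fun z hz => by
          rw [commutatorElement_eq_one_iff_mul_comm.mpr (Subgroup.mem_centralizer_singleton_iff.mp (hle hz))]
          exact W.one_mem⟩
        have hFn : H ≤ Subgroup.normalizer (CfsgLib.Asymmetric.centMod hf H : Set G) := by
          refine le_normalizer_of_forall fun g hg u hu =>
            ⟨(Subgroup.mem_normalizer_iff.mp (hf.nV hg) u).mp hu.1, fun z hz => ?_⟩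
          rw [show ⁅z, g * u * g⁻¹⁆ = g * ⁅g⁻¹ * z * g, u⁆ * g⁻¹ by simp only [commutatorElement_def]; group]
          exact (Subgroup.mem_normalizer_iff.mp (hf.nW hg) _).mp
            (hu.2 _ (H.mul_mem (H.mul_mem (H.inv_mem hg) hz) hg))
        rcases hf.simple _ hFn (fun u hu => ⟨hf.lt.le hu, fun z hz => hWn z hz u hu⟩) (fun u hu => hu.1)
          with hF | hF
        · exact hF.le hmem
        · exact absurd (fun z hz v hv => (hF.ge hv).2 z hz) htriv
      set U := CfsgLib.Asymmetric.centMod hf B with hU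
      have hUV : U ≤ V := fun u hu => hu.1
      have hcU : ∀ z ∈ cg t Y, ∀ v ∈ V, ⁅z, v⁆ ∈ U := by
        intro z hz v hv
        have h1 : ⁅z, v⁆ ∈ cg t Y :=
          commutator_le_of_normalizes (hf.leQ.trans (hQ0Y t ht)) (Subgroup.commutator_mem_commutator hz hv)
        have h2 : ⁅z, v⁆ ∈ V := by
          rw [commutatorElement_def]
          exact V.mul_mem ((Subgroup.mem_normalizer_iff.mp (hf.nV (htY hz)) _).mp hv) (V.inv_mem hv)
        refine ⟨h2, fun b hb => hcent _ ⟨?_, ?_⟩ ?_⟩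
        · exact commutator_le_of_normalizes ((hf.leQ.trans
            ((CfsgLib.Asymmetric.pCoreOf_le_normalizer h hH.2.1).trans inf_le_right)))
            (Subgroup.commutator_mem_commutator hb.2 h2)
        · rw [commutatorElement_def]
          exact (cg t Y).mul_mem ((Subgroup.mem_normalizer_iff.mp (hOt hb.1) _).mp h1) ((cg t Y).inv_mem h1)
        · rw [commutatorElement_def]
          exact V.mul_mem ((Subgroup.mem_normalizer_iff.mp (hf.nV (hLH (hBL hb))) _).mp h2) (V.inv_mem h2)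
      have hUn : H ≤ Subgroup.normalizer (U : Set G) := by
        rw [← htop]
        refine sup_le (le_normalizer_of_forall fun z hz v hv => ?_) (le_normalizer_of_forall fun a ha v hv => ?_)
        · rw [show z * v * z⁻¹ = ⁅z, v⁆ * v by simp [commutatorElement_def]]
          exact U.mul_mem (hcU z hz v hv.1) hv
        · refine ⟨(Subgroup.mem_normalizer_iff.mp (hf.nV (hH.2.1 ha)) v).mp hv.1, fun b hb => ?_⟩
          rw [show ⁅b, a * v * a⁻¹⁆ = a * ⁅a⁻¹ * b * a, v⁆ * a⁻¹ by simp only [commutatorElement_def]; group,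
            show a⁻¹ * b * a = b by rw [mul_assoc, ← hAY a ha b hb.2, inv_mul_cancel_left]]
          exact (Subgroup.mem_normalizer_iff.mp (hf.nW (hH.2.1 ha)) _).mp (hv.2 b hb)
      rcases hf.simple _ hUn (fun u hu => ⟨hf.lt.le hu, fun b hb => hWn b (hLH (hBL hb)) u hu⟩) hUV with hF | hF
      · have hYK : cg t Y ≤ Kf hf := fun z hz => ⟨htY hz, fun v hv => hF.le (hcU z hz v hv)⟩
        have := (cg_mono t⁻¹ hYK).trans (cg_eq_of_mem_normalizer (hKn hf (H.inv_mem (hLH ht)))).le
        rw [cg_inv_cg] at this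
        exact inf_le_right.trans this
      · exact fun b hb => ⟨hLH (hBL hb), fun v hv => (hF.ge hv).2 b hb⟩
    have hNH : CfsgLib.Asymmetric.nc H B ≤ H := CfsgLib.Asymmetric.nc_le (hBL.trans hLH)
    have hNp : IsPGroup p ↥(CfsgLib.Asymmetric.nc H B) :=
      CfsgLib.Asymmetric.isPGroup_of_coprime_eq_one fun x hx hxc =>
        CfsgLib.Asymmetric.eq_one_of_coprime hH.1 (hNH hx) hxc fun V W hf => by
          have hle : CfsgLib.Asymmetric.nc H B ≤ Kf hf := iSup_le fun g =>
            (cg_mono _ (hker hf)).trans (cg_eq_of_mem_normalizer (hKn hf g.2)).le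
          exact (hle hx).2
    exact (CfsgLib.Asymmetric.le_nc H B).trans
      (CfsgLib.PReduced.le_pCoreOf hNH (CfsgLib.Asymmetric.le_normalizer_nc H B) hNp)

end Cfsg.Agent.S2862
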