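import Cfsg.Statements.S2863
import Cfsg.Agent.Lib.LocalEven.FrakLGood

set_option linter.style.haveILetI false

set_option autoImplicit false
open Cfsg

namespace Cfsg.Agent.S2863

/-- Standing hypotheses: G a finite group, S a Sylow p-subgroup, Q a nontrivial large p-subgroup of G contained in S, M a subgroup containing S with the basic property (M ∈ 𝔐_G(S)); Y_M the largest p-reduced normal subgroup of M and M† = M·C_G(Y_M). Let L ∈ 𝔏_G(Y_M) (L ∈ 𝔏_G(Y_M): Y_M ≤ L; O_p(L) is the normal closure in L of Y_M ∩ O_p(L) and normalizes Y_M; L is Y_M-minimal of characteristic p with N_L(Y_M) its unique maximal subgroup over Y_M; and L/O_p(L) ≅ SL₂(q) with q = |Y_M : Y_M ∩ O_p(L)|, or p = 2 and L/O_p(L) is a Suzuki group Sz(q) or dihedral of order 2r, r an odd prime), A = O_p(L), and C = C_{Y_M}(L). Then every element h of L whose order is not a power of p acts without nontrivial fixed points on A/C: for a ∈ A, hah⁻¹a⁻¹ ∈ C implies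 a ∈ C. -/
theorem result {G : Type*} [Group G] [Finite G] {p : ℕ} [Fact p.Prime] (S : Sylow p G) (Q : Subgroup G) (hQp : IsPGroup p ↥Q) (hQ1 : Q ≠ ⊥) (hQS : Q ≤ (S : Subgroup G)) (hQ : Cfsg.IsLarge Q) (M : Subgroup G) (hSM : (S : Subgroup G) ≤ M) (hM : Cfsg.IsInFrakM p M) (L : Subgroup G) (hL : Cfsg.IsInFrakL p M L) (h : G) (hh : h ∈ L) (hnp : ¬ ∃ k : ℕ, orderOf h = p ^ k) : ∀ a ∈ (Cfsg.pCoreOf p L), h * a * h⁻¹ * a⁻¹ ∈ (Cfsg.largestPReducedOf p M) ⊓ Subgroup.centralizer ((L : Subgroup G) : Set G) → a ∈ (Cfsg.largestPReducedOf p M) ⊓ Subgroup.centralizer ((L : Subgroup G) : Set G) := by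
  obtain ⟨hYL, hA, hON, hmin, -, ⟨hlt, hX⟩, hcases⟩ := hL
  intro a ha hc
  set Y := Cfsg.largestPReducedOf p M with hYdef
  haveI hpn : (Cfsg.pCore p L).Normal := CfsgLib.Fitting.pCore_normal p
  have he := CfsgLib.PReduced.largestOf_elementary p M
  rw [← hYdef] at he
  have hmemY : ∀ (g : L), g ∈ Subgroup.normalizer ((Y.subgroupOf L : Subgroup L) : Set L) ↔
      (g : G) ∈ Subgroup.normalizer (Y : Set G) := by
    intro g
    rw [Subgroup.mem_normalizer_iff, Subgroup.mem_normalizer_iff]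
    refine ⟨fun hg z => ⟨fun hz => (hg ⟨z, hYL hz⟩).mp hz, fun hz => ?_⟩, fun hg z => hg z⟩
    have hzL : z ∈ L := by
      have := mul_mem (mul_mem (inv_mem g.2) (hYL hz)) g.2
      simpa [mul_assoc] using this
    exact (hg ⟨z, hzL⟩).mpr hz
  have hsetup : CfsgLib.FrakLProd.Setup p (Y.subgroupOf L) (Cfsg.pCore p L) := by
    refine ⟨rfl, (CfsgLib.PReduced.isPGroup_of_elementary he).comap_of_injective L.subtype
      L.subtype_injective, fun u hu v hv => ?_, hmin.1, fun X hYX hX' x hx => ?_, fun e => ?_,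
      fun x hx => (hmemY x).mpr (hON ⟨x, hx, rfl⟩), ?_⟩
    · haveI := he.1
      exact Subtype.ext (congrArg (fun z : Y => (z : G)) (mul_comm' (⟨u, hu⟩ : Y) ⟨v, hv⟩))
    · refine (hmemY x).mpr (hX (X.map L.subtype) (fun y hy => ⟨⟨y, hYL hy⟩, hYX hy, rfl⟩) ?_
        ⟨x, hx, rfl⟩).2
      refine lt_of_le_of_ne (Subgroup.map_subtype_le _) fun e => hX' (top_le_iff.mp fun z _ => ?_)
      obtain ⟨z', hz', hzz⟩ := (e.ge z.2 : (z : G) ∈ _)
      exact Subtype.ext hzz ▸ hz'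
    · exact hlt.not_ge fun g hg => ⟨hg, (hmemY ⟨g, hg⟩).mp (e ▸ Subgroup.mem_top _)⟩
    · refine (Subgroup.map_injective L.subtype_injective (hA.trans ?_)).symm
      congr 2
      ext z
      show _ ↔ z ∈ Y.subgroupOf L ⊓ Cfsg.pCore p L
      rw [Subgroup.mem_inf]
      exact and_congr Iff.rfl (Subgroup.mem_map_iff_mem L.subtype_injective)
  set K0 := (Y.subgroupOf L).map (QuotientGroup.mk' (Cfsg.pCore p L)) with hK0
  have hK0e : Cfsg.IsElementaryAbelian p K0 := by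
    refine Cfsg.Agent.S2861.elementary_map _ ?_
    haveI := he.1
    exact ⟨⟨⟨fun u v => Subtype.ext (hsetup.comm u u.2 v v.2)⟩⟩,
      fun u hu => Subtype.ext (he.2 _ hu)⟩
  have hcl : Subgroup.normalClosure (K0 : Set (↥L ⧸ Cfsg.pCore p L)) = ⊤ := by
    rw [hK0, Subgroup.coe_map, ← Subgroup.map_normalClosure _ _ (QuotientGroup.mk'_surjective _),
      hmin.1, Subgroup.map_top_of_surjective _ (QuotientGroup.mk'_surjective _)]
  have hnor : ∀ g : L, (g : ↥L ⧸ Cfsg.pCore p L) ∈ Subgroup.normalizer (K0 : Set (↥L ⧸ Cfsg.pCore p L)) →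
      ∀ y ∈ Y.subgroupOf L, g * y * g⁻¹ ∈ Subgroup.normalizer ((Y.subgroupOf L : Subgroup L) : Set L) := by
    intro g hg y hy
    obtain ⟨y', hy', hyy⟩ := (Subgroup.mem_normalizer_iff.mp hg _).mp ⟨y, hy, rfl⟩
    obtain ⟨c, hc', hce⟩ := (QuotientGroup.mk'_eq_mk' _).mp (hyy :
      QuotientGroup.mk' (Cfsg.pCore p L) y' = QuotientGroup.mk' (Cfsg.pCore p L) (g * y * g⁻¹))
    have hce' : y' * c = g * y * g⁻¹ := hce
    rw [← hce']
    exact mul_mem (Subgroup.le_normalizer hy') (hsetup.nor hc')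
  have hnt : Subgroup.normalizer (K0 : Set (↥L ⧸ Cfsg.pCore p L)) ≠ ⊤ := fun e => by
    refine hsetup.proper (top_le_iff.mp (hmin.1.ge.trans ((Subgroup.closure_le _).mpr fun z hz => ?_)))
    obtain ⟨y, hy, hconj⟩ := Group.mem_conjugatesOfSet_iff.mp hz
    obtain ⟨g, rfl⟩ := isConj_iff.mp hconj
    exact hnor g (e ▸ Subgroup.mem_top _) y hy
  have hmax : ∀ X, K0 ≤ X → X ≠ ⊤ → X ≤ Subgroup.normalizer (K0 : Set (↥L ⧸ Cfsg.pCore p L)) := by
    intro X hKX hXt z hz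
    obtain ⟨x, rfl⟩ := QuotientGroup.mk_surjective z
    have h1 := hsetup.max (X.comap (QuotientGroup.mk' (Cfsg.pCore p L))) (fun y hy => hKX ⟨y, hy, rfl⟩)
      (fun e => hXt (top_le_iff.mp fun w _ => by
        obtain ⟨w, rfl⟩ := QuotientGroup.mk_surjective w
        exact (e ▸ Subgroup.mem_top w : w ∈ X.comap (QuotientGroup.mk' (Cfsg.pCore p L)))))
      (hz : x ∈ X.comap (QuotientGroup.mk' (Cfsg.pCore p L)))
    exact Subgroup.le_normalizer_map _ ⟨x, h1, rfl⟩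
  have hq : Nat.card K0 = (Y ⊓ Cfsg.pCoreOf p L).relIndex Y := by
    rw [← Subgroup.relIndex_bot_left, hK0]
    have h := Subgroup.relIndex_map_map (f := QuotientGroup.mk' (Cfsg.pCore p L))
      (⊥ : Subgroup L) (Y.subgroupOf L)
    rw [Subgroup.map_bot, QuotientGroup.ker_mk', bot_sup_eq, Subgroup.relIndex_sup_right] at h
    rw [h, Subgroup.inf_relIndex_left]
    have h' := Subgroup.relIndex_map_map_of_injective (Cfsg.pCore p L) (Y.subgroupOf L)
      L.subtype_injective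
    rw [Subgroup.map_subgroupOf_eq_of_le hYL] at h'
    exact h'.symm
  have hgood : CfsgLib.FrakLProd.Good p (↥L ⧸ Cfsg.pCore p L) K0 := by
    have hp2 := CfsgLib.PReduced.isPGroup_of_elementary hK0e
    rcases hcases with ⟨F, _, _, hF, ⟨e⟩⟩ | ⟨rfl, F, _, _, m, hFc, hF, ⟨e⟩⟩ | ⟨rfl, r, hr, hr2, ⟨e⟩⟩
    · refine CfsgLib.FrakLProd.Good.of_map e (CfsgLib.FrakLProd.good_sl2 _ (hp2.map _) ?_)
      rw [Subgroup.card_map_of_injective e.injective, hq, hF]
    · rcases Nat.eq_zero_or_pos m with rfl | hm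
      · exact CfsgLib.FrakLProd.good_two _ (by rw [hq, ← hF, hFc]; norm_num) hcl hmax hnt
      haveI : CharP F 2 := by
        obtain ⟨c, hc⟩ := CharP.exists F
        obtain ⟨n, hcp, hn⟩ := FiniteField.card F c
        have hdvd : c ∣ 2 ^ (2 * m + 1) := by rw [← hFc, hn]; exact dvd_pow_self c n.pos.ne'
        rwa [← (Nat.prime_dvd_prime_iff_eq hcp Nat.prime_two).mp (hcp.dvd_of_dvd_pow hdvd)]
      haveI : CfsgLib.Suzuki.Param F m := ⟨hm, hFc⟩
      let f := e.trans (CfsgLib.Suzuki.lieEquiv F m).symm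
      refine CfsgLib.FrakLProd.Good.of_map f
        (CfsgLib.FrakLProd.good_sz _ (Cfsg.Agent.S2861.elementary_map _ hK0e) ?_)
      rw [Subgroup.card_map_of_injective f.injective, hq, hF]
    · refine CfsgLib.FrakLProd.good_two _ ?_ hcl hmax hnt
      obtain ⟨k, hk⟩ := hp2.exists_card_eq
      have hdvd : 2 ^ k ∣ 2 * r := by
        rw [← hk, ← DihedralGroup.nat_card (n := r), ← Nat.card_congr e.toEquiv]
        exact Subgroup.card_subgroup_dvd_card K0
      have hk0 : k ≠ 0 := by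
        intro h0
        rw [h0, pow_zero, Subgroup.card_eq_one] at hk
        exact hnt (by rw [hk]; exact Subgroup.normalizer_eq_top ⊥)
      rcases Nat.lt_or_ge k 2 with h | h
      · rw [hk, show k = 1 by omega, pow_one]
      · exfalso
        have h4 : 2 * 2 ∣ 2 * r := dvd_trans (dvd_trans (by norm_num) (pow_dvd_pow 2 h)) hdvd
        exact hr2 ((Nat.prime_dvd_prime_iff_eq Nat.prime_two hr).mp
          (Nat.dvd_of_mul_dvd_mul_left two_pos h4)).symm
  have haL : a ∈ L := by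
    obtain ⟨a', -, rfl⟩ := ha
    exact a'.2
  have ha' : (⟨a, haL⟩ : L) ∈ Cfsg.pCore p L :=
    (Subgroup.mem_map_iff_mem L.subtype_injective (x := (⟨a, haL⟩ : L))).mp ha
  have hzed : ∀ z : L, z ∈ CfsgLib.FrakLProd.zed (Y.subgroupOf L) ↔
      (z : G) ∈ Y ⊓ Subgroup.centralizer (L : Set G) := fun z => by
    refine and_congr Iff.rfl ⟨fun h => Subgroup.mem_centralizer_iff.mpr fun g hg =>
      congrArg Subtype.val (Subgroup.mem_center_iff.mp h ⟨g, hg⟩), fun h =>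
      Subgroup.mem_center_iff.mpr fun g => Subtype.ext (Subgroup.mem_centralizer_iff.mp h g g.2)⟩
  have hx : ¬ ∃ n : ℕ, (⟨h, hh⟩ : L) ^ p ^ n = 1 := by
    rintro ⟨n, hn⟩
    obtain ⟨k, -, hk⟩ := (Nat.dvd_prime_pow (Fact.out : p.Prime)).mp
      (orderOf_dvd_of_pow_eq_one (congrArg Subtype.val hn : h ^ p ^ n = 1))
    exact hnp ⟨k, hk⟩
  exact (hzed ⟨a, haL⟩).mp (hsetup.mem_zed_of_good hgood hx ha'
    ((hzed (⟨h, hh⟩ * ⟨a, haL⟩ * (⟨h, hh⟩ : L)⁻¹ * (⟨a, haL⟩ : L)⁻¹)).mpr hc))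

end Cfsg.Agent.S2863
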