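import Cfsg.Statements.S2864
import Cfsg.Agent.S2845
import Cfsg.Agent.Lib.PReduced.BasicProperty
import Cfsg.Agent.Lib.PSolvable.Omega
import Cfsg.Agent.Lib.Subnormal.Basic
import Cfsg.Agent.Lib.Layer.Radical
-- import your own Cfsg.Agent.* helpers here

set_option autoImplicit false
open Cfsg CfsgLib

namespace Cfsg.Agent.S2864

/-- Standing hypotheses: G a finite group, S a Sylow p-subgroup, Q a nontrivial large p-subgroup of G contained in S, M a subgroup containing S with the basic property (M ∈ 𝔐_G(S)); Y_M the largest p-reduced normal subgroup of M and M† = M·C_G(Y_M). Let I be a nontrivial normal p-subgroup of M and Y ≤ O_p(M†); let L be a subgroup of G containing Y and A a normal p-subgroup of L with I ≤ A ≤ M. If [Y, A] ≤ [I, A], then Y ≤ O_p(L). -/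
theorem result {G : Type*} [Group G] [Finite G] {p : ℕ} [Fact p.Prime] (S : Sylow p G) (Q : Subgroup G) (hQp : IsPGroup p ↥Q) (hQ1 : Q ≠ ⊥) (hQS : Q ≤ (S : Subgroup G)) (hQ : Cfsg.IsLarge Q) (M : Subgroup G) (hSM : (S : Subgroup G) ≤ M) (hM : Cfsg.IsInFrakM p M) (I : Subgroup G) (hI1 : I ≠ ⊥) (hIp : IsPGroup p ↥I) (hIM : I ≤ M ∧ M ≤ Subgroup.normalizer ((I : Subgroup G) : Set G)) (Y : Subgroup G) (hY : Y ≤ (Cfsg.pCoreOf p (M ⊔ Subgroup.centralizer (((Cfsg.largestPReducedOf p M) : Subgroup G) : Set G)))) (L : Subgroup G) (hYL : Y ≤ L) (A : Subgroup G) (hAp : IsPGroup p ↥A) (hAL : A ≤ L ∧ L ≤ Subgroup.normalizer ((A : Subgroup G) : Set G)) (hIA : I ≤ A) (hAM : A ≤ M) (hc : ⁅Y, A⁆ ≤ ⁅I, A⁆) : Y ≤ (Cfsg.pCoreOf p L) := by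
  obtain ⟨hAL, hLA⟩ := hAL
  obtain ⟨hIM', hMI⟩ := hIM
  obtain ⟨-, -, hpar⟩ := S2845.result Q hQp hQ1 hQ
  obtain ⟨-, hmax, huniq, -⟩ := hM
  set Md := M ⊔ Subgroup.centralizer ((Cfsg.largestPReducedOf p M : Subgroup G) : Set G) with hMd
  set R := Cfsg.pCoreOf p Md with hR
  have hN : Subgroup.normalizer (I : Set G) ≤ Md := by
    have hS' : (S : Subgroup G) ≤ Subgroup.normalizer (I : Set G) := hSM.trans hMI
    have hc' : Subgroup.normalizer (I : Set G) ∈ Cfsg.charPSubgroups p G := by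
      refine PReduced.mem_charP_of_sylow hpar S hS' (PReduced.pCoreOf_ne_bot_iff.mpr fun e => hI1 ?_)
      exact le_bot_iff.mp ((PReduced.le_pCoreOf Subgroup.le_normalizer le_rfl hIp).trans e.le)
    classical
    haveI := Fintype.ofFinite (Subgroup G)
    obtain ⟨X, hX, hXmax⟩ := Finset.exists_max_image
      (Finset.univ.filter fun X : Subgroup G => Subgroup.normalizer (I : Set G) ≤ X ∧ X ∈ Cfsg.charPSubgroups p G)
      (fun X => Nat.card X) ⟨_, Finset.mem_filter.mpr ⟨Finset.mem_univ _, le_rfl, hc'⟩⟩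
    obtain ⟨-, hNX, hXc⟩ := Finset.mem_filter.mp hX
    refine hNX.trans (huniq X ⟨hXc, fun Z hZ hXZ => ?_⟩ (hMI.trans hNX)).le
    exact (Subgroup.eq_of_le_of_card_ge hXZ
      (hXmax Z (Finset.mem_filter.mpr ⟨Finset.mem_univ _, hNX.trans hXZ, hZ⟩))).symm
  set C := Subgroup.centralizer (A : Set G) ⊓ L with hC
  have hCM : C ≤ Md := inf_le_left.trans ((Subgroup.centralizer_le hIA).trans
    ((Subgroup.centralizer_le_normalizer _).trans hN))
  have hLC : L ≤ Subgroup.normalizer (C : Set G) :=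
    Coprime.le_normalizer_inf_of_le (Coprime.le_normalizer_centralizer hLA) Subgroup.le_normalizer
  set F := (frattini A).map A.subtype with hF
  have hLF : L ≤ Subgroup.normalizer (F : Set G) := PSolvable.le_normalizer_map_of_characteristic hLA _
  let D : Subgroup G :=
    { carrier := {d | d ∈ L ∧ ∀ k ∈ A, d * k * d⁻¹ * k⁻¹ ∈ F}
      one_mem' := ⟨one_mem _, fun k _ => by simp⟩
      mul_mem' := fun {a b} ha hb => ⟨mul_mem ha.1 hb.1, fun k hk => by
        rw [show a * b * k * (a * b)⁻¹ * k⁻¹ = a * (b * k * b⁻¹ * k⁻¹) * a⁻¹ * (a * k * a⁻¹ * k⁻¹) by group]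
        exact mul_mem ((Subgroup.mem_normalizer_iff.mp (hLF ha.1) _).mp (hb.2 k hk)) (ha.2 k hk)⟩
      inv_mem' := fun {a} ha => ⟨inv_mem ha.1, fun k hk => by
        rw [show a⁻¹ * k * a⁻¹⁻¹ * k⁻¹ = a⁻¹ * (a * k * a⁻¹ * k⁻¹)⁻¹ * a by group]
        exact (Subgroup.mem_normalizer_iff''.mp (hLF ha.1) _).mp (inv_mem (ha.2 k hk))⟩ }
  have hDL : D ≤ L := fun d hd => hd.1
  have hLD : L ≤ Subgroup.normalizer (D : Set G) := fun l hl => Subgroup.mem_normalizer_fintype fun d hd => by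
    refine ⟨mul_mem (mul_mem hl hd.1) (inv_mem hl), fun k hk => ?_⟩
    have hk' : l⁻¹ * k * l ∈ A := (Subgroup.mem_normalizer_iff''.mp (hLA hl) k).mp hk
    rw [show l * d * l⁻¹ * k * (l * d * l⁻¹)⁻¹ * k⁻¹ =
      l * (d * (l⁻¹ * k * l) * d⁻¹ * (l⁻¹ * k * l)⁻¹) * l⁻¹ by group]
    exact (Subgroup.mem_normalizer_iff.mp (hLF hl) _).mp (hd.2 _ hk')
  have hCD : C ≤ D := fun c hc => ⟨hc.2, fun k hk => by
    rw [← hc.1 k hk, mul_inv_cancel_right, mul_inv_cancel]
    exact one_mem _⟩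
  have hYD : Y ≤ D := by
    intro y hy
    refine ⟨hYL hy, fun k hk => ?_⟩
    have h1 : y * k * y⁻¹ * k⁻¹ ∈ ⁅I, A⁆ := hc (Subgroup.commutator_mem_commutator hy hk)
    have h2 : ⁅I, A⁆ ≤ F := by
      refine (Subgroup.commutator_mono hIA le_rfl).trans ?_
      rw [hF]
      refine (le_of_eq ?_).trans (Subgroup.map_mono (PSolvable.commutator_le_frattini hAp).1)
      exact (Subgroup.map_subtype_commutator A).symm
    exact h2 h1
  haveI hCn : (C.subgroupOf D).Normal :=
    (Subgroup.normal_subgroupOf_iff_le_normalizer hCD).mpr (hDL.trans hLC)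
  haveI : Group.IsNilpotent (D ⧸ C.subgroupOf D) := by
    refine IsPGroup.isNilpotent (p := p) fun x => ?_
    induction x using QuotientGroup.induction_on with
    | H d =>
      obtain ⟨a, m, -, -, hcop, -⟩ := Transfer.exists_pow_coprime_part (p := p) (d : G)
      refine ⟨a, ?_⟩
      rw [← QuotientGroup.mk_pow, QuotientGroup.eq_one_iff]
      have hmem : (d : G) ^ p ^ a ∈ D := pow_mem d.2 _
      refine ⟨?_, hDL hmem⟩
      refine Coprime.le_centralizer_of_frattini
        (Subgroup.zpowers_le.mpr (hLA (hDL hmem))) ?_ ?_ (Subgroup.mem_zpowers _)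
      · rw [Nat.card_zpowers]
        obtain ⟨j, hj⟩ := (hAp.to_subgroup (frattini A)).exists_card_eq
        rw [hj]
        exact hcop.pow_right _
      · intro w hw k hk
        exact ((Subgroup.zpowers_le.mpr hmem : Subgroup.zpowers ((d : G) ^ p ^ a) ≤ D) hw).2 k hk
  have hE := Subnormal.sup_isSubnormal_of_quotient (Y.subgroupOf D) (C.subgroupOf D)
  rw [← Subgroup.subgroupOf_sup hYD hCD] at hE
  set E := Y ⊔ C with hE'
  have hED : E ≤ D := sup_le hYD hCD
  have hEL : (E.subgroupOf L).IsSubnormal := by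
    haveI : (D.subgroupOf L).Normal := (Subgroup.normal_subgroupOf_iff_le_normalizer hDL).mpr hLD
    refine Subgroup.IsSubnormal.trans (K := D.subgroupOf L) (fun w hw => hED hw) ?_
      (inferInstance : (D.subgroupOf L).Normal).isSubnormal
    exact hE.comap (((L.subtype).comp (D.subgroupOf L).subtype).codRestrict D fun w => w.2)
  set S₁ := Y ⊔ (R ⊓ C) with hS₁
  have hS₁R : S₁ ≤ R := sup_le hY inf_le_left
  have hS₁E : S₁ ≤ E := sup_le_sup_left inf_le_right Y
  have hES₁ : E ≤ Subgroup.normalizer (S₁ : Set G) := by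
    refine sup_le (le_sup_left.trans Subgroup.le_normalizer) fun c hc => Subgroup.mem_normalizer_fintype fun x hx => ?_
    have hle : S₁ ≤ S₁.comap (MulAut.conj c).toMonoidHom := by
      refine sup_le (fun y hy => ?_) (fun w hw => Subgroup.mem_sup_right ?_)
      · show c * y * c⁻¹ ∈ S₁
        rw [show c * y * c⁻¹ = (c * y * c⁻¹ * y⁻¹) * y by group]
        refine Subgroup.mul_mem _ (Subgroup.mem_sup_right ⟨?_, ?_⟩) (Subgroup.mem_sup_left hy)
        · exact Subgroup.mul_mem _ ((Subgroup.mem_normalizer_iff.mp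
            (PReduced.le_normalizer_pCoreOf p Md (hCM hc)) y).mp (hY hy)) (Subgroup.inv_mem _ (hY hy))
        · rw [show c * y * c⁻¹ * y⁻¹ = c * (y * c⁻¹ * y⁻¹) by group]
          exact C.mul_mem hc ((Subgroup.mem_normalizer_iff.mp (hLC (hYL hy)) _).mp (C.inv_mem hc))
      · exact ⟨(Subgroup.mem_normalizer_iff.mp
          (PReduced.le_normalizer_pCoreOf p Md (hCM hc)) w).mp hw.1, C.mul_mem (C.mul_mem hc hw.2) (C.inv_mem hc)⟩
    exact hle hx
  have hS₁L : S₁ ≤ L := hS₁E.trans (hED.trans hDL)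
  have hsn : (S₁.subgroupOf L).IsSubnormal := by
    refine Subgroup.IsSubnormal.trans (K := E.subgroupOf L) (fun w hw => hS₁E hw) ?_ hEL
    refine Subgroup.Normal.isSubnormal ((Subgroup.normal_subgroupOf_iff_le_normalizer
      (Subgroup.comap_mono hS₁E : S₁.subgroupOf L ≤ E.subgroupOf L)).mpr ?_)
    intro w hw
    exact Subgroup.mem_normalizer_iff.mpr fun v => Subgroup.mem_normalizer_iff.mp (hES₁ hw) (v : G)
  have h := Layer.le_pCore_of_isSubnormal hsn
    (((PReduced.isPGroup_pCoreOf p Md).to_le hS₁R).comap_of_injective _ L.subtype_injective)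
  have h2 := Subgroup.map_mono (f := L.subtype) h
  rw [Subgroup.map_subgroupOf_eq_of_le hS₁L] at h2
  exact le_sup_left.trans h2

end Cfsg.Agent.S2864
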