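import Cfsg.Statements.S2872
import Cfsg.Agent.Lib.Transfer.Thompson

set_option autoImplicit false
set_option linter.style.haveILetI false
set_option linter.unusedVariables false
open Cfsg

namespace Cfsg.Agent.S2872

/-- Let S be a Sylow 2-subgroup of the finite group G. Then G has a proper normal subgroup of 2-power index (O²(G) ≠ G), or Ω₁(Z(S)) is contained in the Frattini subgroup of S, or N_G(S) acts nontrivially on Ω₁(Z(S)) by conjugation. -/
theorem result {G : Type*} [Group G] [Finite G] (S : Sylow 2 G) : Cfsg.pResidual 2 G ≠ ⊤ ∨ Cfsg.omegaOne 2 ((S : Subgroup G) ⊓ Subgroup.centralizer ((S : Subgroup G) : Set G)) ≤ (frattini ↥(S : Subgroup G)).map (S : Subgroup G).subtype ∨ ∃ g ∈ Subgroup.normalizer ((S : Subgroup G) : Set G), ∃ z ∈ Cfsg.omegaOne 2 ((S : Subgroup G) ⊓ Subgroup.centralizer ((S : Subgroup G) : Set G)), g * z * g⁻¹ ≠ z := by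
  haveI := Fact.mk Nat.prime_two
  set Ω := Cfsg.omegaOne 2 ((S : Subgroup G) ⊓ Subgroup.centralizer ((S : Subgroup G) : Set G)) with hΩ
  by_cases hres : Cfsg.pResidual 2 G ≠ ⊤
  · exact Or.inl hres
  rw [not_not] at hres
  refine Or.inr ?_
  by_cases hfix : ∀ g ∈ Subgroup.normalizer ((S : Subgroup G) : Set G), ∀ z ∈ Ω, g * z * g⁻¹ = z
  swap
  · push Not at hfix
    exact Or.inr hfix
  refine Or.inl fun z hz => ?_
  have hz' : z ∈ (S : Subgroup G) ⊓ Subgroup.centralizer ((S : Subgroup G) : Set G) ∧ z * z = 1 := by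
    refine Subgroup.closure_induction (p := fun a _ =>
      a ∈ (S : Subgroup G) ⊓ Subgroup.centralizer ((S : Subgroup G) : Set G) ∧ a * a = 1)
      (fun a ha => ⟨ha.1, by rw [← pow_two]; exact ha.2⟩) ⟨one_mem _, one_mul 1⟩ ?_ ?_ hz
    · rintro a b - - ⟨ha, ha'⟩ ⟨hb, hb'⟩
      have hab : b * a = a * b := Subgroup.mem_centralizer_iff.mp ha.2 b hb.1
      refine ⟨mul_mem ha hb, ?_⟩
      calc a * b * (a * b) = a * (b * a) * b := by group
        _ = a * a * (b * b) := by rw [hab]; group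
        _ = 1 := by rw [ha', hb', one_mul]
    · rintro a - ⟨ha, ha'⟩
      exact ⟨inv_mem ha, by rw [← mul_inv_rev, ha', inv_one]⟩
  obtain ⟨⟨hzS, hzC⟩, hz2⟩ := hz'
  by_contra hzF
  have h1 : (⟨z, hzS⟩ : (S : Subgroup G)) ∉ frattini (S : Subgroup G) :=
    fun h => hzF ⟨_, h, rfl⟩
  obtain ⟨M, hM, hzM⟩ : ∃ M : Subgroup (S : Subgroup G), IsCoatom M ∧ (⟨z, hzS⟩ : (S : Subgroup G)) ∉ M := by
    by_contra hcon
    push Not at hcon
    refine h1 ?_
    rw [frattini, Order.radical]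
    simp only [Subgroup.mem_iInf]
    intro M hM
    exact hcon M hM
  have hidx : M.index = 2 := by
    obtain ⟨k, hk⟩ := (S.2.to_subgroup M).exists_card_eq
    obtain ⟨n, hn⟩ := S.2.exists_card_eq
    have hlt : k < n := by
      refine (Nat.pow_lt_pow_iff_right (a := 2) (by norm_num)).mp ?_
      rw [← hk, ← hn]
      exact lt_of_le_of_ne (Subgroup.card_le_card_group M) fun e => hM.1 (Subgroup.eq_top_of_card_eq _ e)
    obtain ⟨K, hK, hMK⟩ := Sylow.exists_subgroup_card_pow_prime_le 2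
      (show 2 ^ (n - 1) ∣ Nat.card (S : Subgroup G) from hn ▸ pow_dvd_pow 2 (Nat.sub_le n 1)) M hk
      (by omega)
    have hKtop : K ≠ ⊤ := fun e => by
      rw [e, Subgroup.card_top, hn] at hK
      have := Nat.pow_right_injective le_rfl hK
      omega
    rcases hMK.eq_or_lt with e | e
    · have h2 := M.card_mul_index
      rw [e, hK, hn, show n = n - 1 + 1 by omega, pow_succ, Nat.add_sub_cancel] at h2
      rw [e]
      exact Nat.eq_of_mul_eq_mul_left (by positivity) h2
    · exact absurd (hM.2 K e) hKtop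
  classical
  have hne : CfsgLib.Transfer.sgnHom M hidx ⟨z, hzS⟩ ≠ 1 := fun e =>
    hzM (CfsgLib.Transfer.sgnHom_eq_one_iff.mp e)
  by_cases htr : MonoidHom.transfer (CfsgLib.Transfer.sgnHom M hidx) z = 1
  swap
  · obtain ⟨N, -, hN, -⟩ := CfsgLib.Transfer.exists_index_two_of_hom _ htr
    exact CfsgLib.Transfer.pResidual_ne_top_of_index_two hN hres
  obtain ⟨a, haS, ha, ha1⟩ := CfsgLib.Transfer.exists_conj_ker_of_transfer_eq_one _
    CfsgLib.Transfer.intUnits_unique hz2 hzS hne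
    (Nat.not_even_iff_odd.mp fun e => S.not_dvd_index (even_iff_two_dvd.mp e)) htr
    (S : Subgroup G) S.2 (fun y hy => Subgroup.mem_centralizer_singleton_iff.mpr
      (Subgroup.mem_centralizer_iff.mp hzC y hy))
  have haN : a⁻¹ ∈ Subgroup.normalizer ((S : Subgroup G) : Set G) :=
    Subgroup.mem_normalizer_fintype fun y hy => by rw [inv_inv]; exact haS y hy
  have h3 := hfix a⁻¹ haN z hz
  rw [inv_inv] at h3
  exact hzM (by
    have h4 := CfsgLib.Transfer.sgnHom_eq_one_iff.mp ha1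
    rwa [show (⟨a⁻¹ * z * a, ha⟩ : (S : Subgroup G)) = ⟨z, hzS⟩ from Subtype.ext h3] at h4)

end Cfsg.Agent.S2872
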