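import Cfsg.Statements.S2874
import Mathlib

set_option autoImplicit false
open Cfsg
set_option maxHeartbeats 800000

namespace Cfsg.Agent.S2874

open Matrix

variable {k : ℕ}

theorem alt_four_facts :
    (∀ t x : alternatingGroup (Fin 4), x * x * x = 1 → x ≠ 1 → t * t = 1 →
      t * (x * t * x⁻¹) = (x * t * x⁻¹) * t ∧ t * (x * t * x⁻¹) = x * (x * t * x⁻¹) * x⁻¹) ∧
    (∀ x : alternatingGroup (Fin 4), x * x * x = 1 → x ≠ 1 → ∀ g, ∃ t, t * t = 1 ∧
      (g = t ∨ g = t * x ∨ g = t * x * x)) ∧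
    (∃ x : alternatingGroup (Fin 4), x * x * x = 1 ∧ x ≠ 1) ∧
    (Finset.univ.filter fun t : alternatingGroup (Fin 4) => t * t = 1).card = 4 := by
  refine ⟨?_, ?_, ?_, ?_⟩ <;> decide +kernel

/-- The solutions modulo two. -/
def Sol (y : Matrix (Fin 2) (Fin 2) (ZMod 2)) : Prop :=
  y + !![0, -1; 1, -1] * y * (!![0, -1; 1, -1] * !![0, -1; 1, -1]) =
    (!![0, -1; 1, -1] * !![0, -1; 1, -1]) * y * !![0, -1; 1, -1]

instance : DecidablePred Sol := fun _ => decEq _ _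

theorem mod_two_facts :
    (∀ y : Matrix (Fin 2) (Fin 2) (ZMod 2), y + y * y = 0 → Sol y → y = 0) ∧
    (Finset.univ.filter Sol).card = 4 ∧
    (∀ y : Matrix (Fin 2) (Fin 2) (ZMod 2), y * y = 1 →
      y * (!![0, -1; 1, -1] * y * (!![0, -1; 1, -1] * !![0, -1; 1, -1])) =
        (!![0, -1; 1, -1] * !![0, -1; 1, -1]) * y * !![0, -1; 1, -1] → y = 1) ∧
    (∀ y : Matrix (Fin 2) (Fin 2) (ZMod 2), y * y * y = 1 → y ≠ 1 →
      (y - 1).det = 1 ∧ y 1 0 = 1) := by
  refine ⟨?_, ?_, ?_, ?_⟩ <;> decide +kernel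

variable (k) in
/-- Reduction modulo two. -/
def red (hk : 1 ≤ k) :
    Matrix (Fin 2) (Fin 2) (ZMod (2 ^ k)) →+* Matrix (Fin 2) (Fin 2) (ZMod 2) :=
  (ZMod.castHom (dvd_pow_self 2 (by omega)) (ZMod 2)).mapMatrix

theorem red_apply (hk : 1 ≤ k) (X : Matrix (Fin 2) (Fin 2) (ZMod (2 ^ k))) (i j : Fin 2) :
    red k hk X i j = ((X i j).val : ZMod 2) := by
  haveI : NeZero (2 ^ k) := ⟨by positivity⟩
  show (ZMod.castHom (dvd_pow_self 2 (by omega : k ≠ 0)) (ZMod 2)) (X i j) = _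
  rw [ZMod.castHom_apply, ZMod.cast_eq_val]

theorem exists_two_smul (hk : 1 ≤ k) {X : Matrix (Fin 2) (Fin 2) (ZMod (2 ^ k))}
    (h : red k hk X = 0) : ∃ Y, X = (2 : ℕ) • Y := by
  haveI : NeZero (2 ^ k) := ⟨by positivity⟩
  refine ⟨Matrix.of fun i j => (((X i j).val / 2 : ℕ) : ZMod (2 ^ k)), ?_⟩
  ext i j
  have h1 : ((X i j).val : ZMod 2) = 0 := by rw [← red_apply hk, h]; rfl
  rw [ZMod.natCast_eq_zero_iff] at h1
  rw [Matrix.smul_apply, Matrix.of_apply, nsmul_eq_mul, ← Nat.cast_mul, Nat.mul_div_cancel' h1,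
    ZMod.natCast_zmod_val]

theorem red_eq_zero (hk : 1 ≤ k) {m : ℕ} (hm : m < k) {Y : Matrix (Fin 2) (Fin 2) (ZMod (2 ^ k))}
    (h : (2 ^ m : ℕ) • Y = 0) : red k hk Y = 0 := by
  haveI : NeZero (2 ^ k) := ⟨by positivity⟩
  ext i j
  rw [red_apply, Matrix.zero_apply, ZMod.natCast_eq_zero_iff]
  have h1 : ((2 ^ m * (Y i j).val : ℕ) : ZMod (2 ^ k)) = 0 := by
    rw [Nat.cast_mul, ZMod.natCast_zmod_val, ← nsmul_eq_mul, ← Matrix.smul_apply, h]; rfl
  rw [ZMod.natCast_eq_zero_iff] at h1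
  have h2 : 2 ^ m * 2 ∣ 2 ^ m * (Y i j).val :=
    dvd_trans (by rw [← pow_succ]; exact pow_dvd_pow 2 (by omega)) h1
  exact Nat.dvd_of_mul_dvd_mul_left (by positivity) h2

theorem step (hk : 1 ≤ k) {C D t Y : Matrix (Fin 2) (Fin 2) (ZMod (2 ^ k))} {n : ℕ}
    (hCD : C * D = 1) (hDC : D * C = 1) (ht : t = 1 + n • Y)
    (h2 : t * (C * t * D) = D * t * C) :
    n • (Y + C * Y * D + n • (Y * (C * Y * D)) - D * Y * C) = 0 := by
  subst ht
  have e1 : C * (1 + n • Y) * D = 1 + n • (C * Y * D) := by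
    rw [mul_add, add_mul, mul_one, hCD, mul_smul_comm, smul_mul_assoc]
  have e2 : D * (1 + n • Y) * C = 1 + n • (D * Y * C) := by
    rw [mul_add, add_mul, mul_one, hDC, mul_smul_comm, smul_mul_assoc]
  rw [e1, e2, mul_add, add_mul, add_mul, one_mul, one_mul, mul_one, smul_mul_assoc,
    mul_smul_comm, add_assoc, add_left_cancel_iff] at h2
  rw [smul_sub, smul_add, smul_add, ← h2]
  abel

/-- The three-element of the normal form. -/
def rot : Matrix (Fin 2) (Fin 2) (ZMod (2 ^ k)) := !![0, -1; 1, -1]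

theorem rot_cube : (rot * (rot * rot) : Matrix (Fin 2) (Fin 2) (ZMod (2 ^ k))) = 1 ∧
    ((rot * rot) * rot : Matrix (Fin 2) (Fin 2) (ZMod (2 ^ k))) = 1 := by
  constructor <;> ext i j <;> fin_cases i <;> fin_cases j <;> simp [rot]

theorem red_rot (hk : 1 ≤ k) : red k hk rot = !![0, -1; 1, -1] := by
  ext i j
  fin_cases i <;> fin_cases j <;> simp [red, rot, map_neg, map_one, map_zero]

theorem normal_form (hk : 2 ≤ k) {t : Matrix (Fin 2) (Fin 2) (ZMod (2 ^ k))} (h1 : t * t = 1)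
    (h2 : t * (rot * t * (rot * rot)) = (rot * rot) * t * rot) :
    ∃ Y, t = 1 + (2 ^ (k - 1) : ℕ) • Y ∧ Sol (red k (by omega) Y) := by
  have hk1 : 1 ≤ k := by omega
  set π := red k hk1 with hπ
  have hπC : π rot = !![0, -1; 1, -1] := red_rot hk1
  have hsol : ∀ (j : ℕ) (Y : Matrix (Fin 2) (Fin 2) (ZMod (2 ^ k))), 1 ≤ j → j < k →
      t = 1 + (2 ^ j : ℕ) • Y → Sol (π Y) := by
    intro j Y hj hjk hY
    have h := congrArg id (red_eq_zero hk1 hjk (step hk1 rot_cube.1 rot_cube.2 hY h2))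
    simp only [id] at h
    rw [← hπ, map_sub, map_add, map_add, map_nsmul, map_mul, map_mul, map_mul, map_mul, map_mul,
      map_mul, map_mul, hπC, sub_eq_zero] at h
    have h0 : ∀ z : Matrix (Fin 2) (Fin 2) (ZMod 2), (2 ^ j : ℕ) • z = 0 := by
      intro z
      ext a b
      rw [Matrix.smul_apply, nsmul_eq_mul, Matrix.zero_apply]
      have : ((2 ^ j : ℕ) : ZMod 2) = 0 :=
        (ZMod.natCast_eq_zero_iff _ _).mpr (dvd_pow_self 2 (by omega))
      rw [this, zero_mul]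
    rw [h0, add_zero] at h
    simp only [Sol]
    rw [h]
    simp only [map_mul, hπC]
  suffices hP : ∀ j, 1 ≤ j → j ≤ k - 1 → ∃ Y, t = 1 + (2 ^ j : ℕ) • Y by
    obtain ⟨Y, hY⟩ := hP (k - 1) (by omega) le_rfl
    exact ⟨Y, hY, hsol (k - 1) Y (by omega) (by omega) hY⟩
  intro j hj
  induction j, hj using Nat.le_induction with
  | base =>
    intro _
    have e : π t = 1 := by
      refine mod_two_facts.2.2.1 _ (by rw [← map_mul, h1, map_one]) ?_
      have := congrArg π h2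
      simpa only [map_mul, hπC] using this
    obtain ⟨Y, hY⟩ := exists_two_smul hk1 (X := t - 1) (by rw [← hπ, map_sub, e, map_one, sub_self])
    exact ⟨Y, by rw [pow_one, ← hY, add_sub_cancel]⟩
  | succ j hj IH =>
    intro hjk
    obtain ⟨Y, hY⟩ := IH (by omega)
    have hS := hsol j Y hj (by omega) hY
    obtain ⟨i, rfl⟩ : ∃ i, j = i + 1 := ⟨j - 1, by omega⟩
    have h3 : (2 ^ (i + 2) : ℕ) • (Y + (2 ^ i : ℕ) • (Y * Y)) = 0 := by
      have e := h1
      rw [hY, mul_add, add_mul, add_mul, one_mul, one_mul, mul_one, smul_mul_assoc,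
        mul_smul_comm, add_assoc, add_eq_left] at e
      rw [smul_add, smul_smul, show 2 ^ (i + 2) = 2 ^ (i + 1) + 2 ^ (i + 1) by ring, add_smul,
        show (2 ^ (i + 1) + 2 ^ (i + 1)) * 2 ^ i = 2 ^ (i + 1) * 2 ^ (i + 1) by ring, ← smul_smul]
      rw [← e]; abel
    have h4 := red_eq_zero hk1 (show i + 2 < k by omega) h3
    rw [← hπ, map_add, map_nsmul, map_mul] at h4
    have hY0 : π Y = 0 := by
      rcases Nat.eq_zero_or_pos i with rfl | hi
      · rw [pow_zero, one_smul] at h4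
        exact mod_two_facts.1 _ h4 hS
      · have : (2 ^ i : ℕ) • (π Y * π Y) = 0 := by
          ext a b
          rw [Matrix.smul_apply, nsmul_eq_mul, Matrix.zero_apply,
            (ZMod.natCast_eq_zero_iff _ 2).mpr (dvd_pow_self 2 (by omega : i ≠ 0)), zero_mul]
        rwa [this, add_zero] at h4
    obtain ⟨Z, hZ⟩ := exists_two_smul hk1 hY0
    exact ⟨Z, by rw [hY, hZ, smul_smul, ← pow_succ]⟩

theorem rot_conj_conj (T : Matrix (Fin 2) (Fin 2) (ZMod (2 ^ k))) :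
    rot * (rot * T * (rot * rot)) * (rot * rot) = rot * rot * T * rot := by
  have h : rot * (rot * T * (rot * rot)) * (rot * rot) = rot * rot * T * rot * (rot * (rot * rot)) := by
    simp only [mul_assoc]
  rw [h, rot_cube.1, mul_one]

/-- The three-element of the normal form, as a unit. -/
def rotU : GL (Fin 2) (ZMod (2 ^ k)) :=
  ⟨rot, rot * rot, rot_cube.1, rot_cube.2⟩

theorem rotU_val : ((rotU : GL (Fin 2) (ZMod (2 ^ k))) : Matrix (Fin 2) (Fin 2) (ZMod (2 ^ k))) = rot :=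
  rfl

theorem rotU_inv_val : (((rotU : GL (Fin 2) (ZMod (2 ^ k)))⁻¹ : GL (Fin 2) (ZMod (2 ^ k))) :
    Matrix (Fin 2) (Fin 2) (ZMod (2 ^ k))) = rot * rot :=
  rfl

theorem rotU_facts (hk : 1 ≤ k) :
    (rotU * rotU * rotU : GL (Fin 2) (ZMod (2 ^ k))) = 1 ∧ (rotU : GL (Fin 2) (ZMod (2 ^ k))) ≠ 1 := by
  refine ⟨Units.ext rot_cube.2, fun h => ?_⟩
  have h1 := congrArg (fun u : GL (Fin 2) (ZMod (2 ^ k)) =>
    red k hk (u : Matrix (Fin 2) (Fin 2) (ZMod (2 ^ k)))) h
  simp only [rotU, Units.val_one, map_one, red_rot] at h1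
  exact absurd h1 (by decide)

/-- Facts on a subgroup isomorphic to the alternating group of degree four. -/
theorem sub_facts {G : Type*} [Group G] (H : Subgroup G) (e : H ≃* alternatingGroup (Fin 4))
    {x : G} (hx : x ∈ H) (hx3 : x * x * x = 1) (hx1 : x ≠ 1) :
    (∀ t ∈ H, t * t = 1 → t * (x * t * x⁻¹) = x * (x * t * x⁻¹) * x⁻¹) ∧
    (∀ g ∈ H, ∃ t ∈ H, t * t = 1 ∧ (g = t ∨ g = t * x ∨ g = t * x * x)) := by
  obtain ⟨f1, f2, -, -⟩ := alt_four_facts
  have h3 : e ⟨x, hx⟩ * e ⟨x, hx⟩ * e ⟨x, hx⟩ = 1 := by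
    rw [← map_mul, ← map_mul, show (⟨x, hx⟩ * ⟨x, hx⟩ * ⟨x, hx⟩ : H) = 1 from Subtype.ext hx3,
      map_one]
  have h1 : e ⟨x, hx⟩ ≠ 1 := fun h => hx1 (congrArg Subtype.val ((map_eq_one_iff e e.injective).mp h))
  refine ⟨fun t ht htt => ?_, fun g hg => ?_⟩
  · have := (f1 (e ⟨t, ht⟩) _ h3 h1 (by
      rw [← map_mul, show (⟨t, ht⟩ * ⟨t, ht⟩ : H) = 1 from Subtype.ext htt, map_one])).2
    rw [← map_inv, ← map_mul, ← map_mul, ← map_mul, ← map_mul, ← map_mul] at this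
    exact congrArg Subtype.val (e.injective this)
  · obtain ⟨s, hs, hg'⟩ := f2 _ h3 h1 (e ⟨g, hg⟩)
    obtain ⟨⟨t, ht⟩, rfl⟩ := e.surjective s
    refine ⟨t, ht, congrArg Subtype.val ((map_eq_one_iff e e.injective).mp (by rw [map_mul]; exact hs)), ?_⟩
    rcases hg' with h | h | h
    · exact Or.inl (congrArg Subtype.val (e.injective h))
    · rw [← map_mul] at h
      exact Or.inr (Or.inl (congrArg Subtype.val (e.injective h)))
    · rw [← map_mul, ← map_mul] at h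
      exact Or.inr (Or.inr (congrArg Subtype.val (e.injective h)))

theorem le_of_rot (hk : 2 ≤ k) (H H' : Subgroup (GL (Fin 2) (ZMod (2 ^ k))))
    (e : H ≃* alternatingGroup (Fin 4)) (e' : H' ≃* alternatingGroup (Fin 4))
    (hH : rotU ∈ H) (hH' : rotU ∈ H') : H' ≤ H := by
  have hk1 : 1 ≤ k := by omega
  obtain ⟨c3, c1⟩ := rotU_facts (k := k) hk1
  have hform : ∀ (K : Subgroup (GL (Fin 2) (ZMod (2 ^ k)))) (f : K ≃* alternatingGroup (Fin 4)),
      rotU ∈ K → ∀ t ∈ K, t * t = 1 →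
      ∃ Y, (t : Matrix (Fin 2) (Fin 2) (ZMod (2 ^ k))) = 1 + (2 ^ (k - 1) : ℕ) • Y ∧
        Sol (red k hk1 Y) := by
    intro K f hK t ht htt
    refine normal_form hk (congrArg Units.val htt) ?_
    have h := congrArg Units.val ((sub_facts K f hK c3 c1).1 t ht htt)
    simp only [Units.val_mul, rotU_val, rotU_inv_val] at h
    rw [h, rot_conj_conj]
  classical
  set S : Finset (alternatingGroup (Fin 4)) := Finset.univ.filter fun s => s * s = 1
  have hSel : ∀ s ∈ S, ∃ Y,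
      (((e.symm s : H) : GL (Fin 2) (ZMod (2 ^ k))) : Matrix (Fin 2) (Fin 2) (ZMod (2 ^ k))) =
        1 + (2 ^ (k - 1) : ℕ) • Y ∧ Sol (red k hk1 Y) := fun s hs =>
    hform H e hH _ (e.symm s).2 (by
      rw [← Subgroup.coe_mul, ← map_mul, (Finset.mem_filter.mp hs).2, map_one, OneMemClass.coe_one])
  choose Yf hY hYS using hSel
  have hdet : ∀ Y Y' : Matrix (Fin 2) (Fin 2) (ZMod (2 ^ k)), red k hk1 Y = red k hk1 Y' →
      (2 ^ (k - 1) : ℕ) • Y = (2 ^ (k - 1) : ℕ) • Y' := by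
    intro Y Y' h
    obtain ⟨Z, hZ⟩ := exists_two_smul hk1 (X := Y - Y') (by rw [map_sub, h, sub_self])
    rw [← sub_eq_zero, ← smul_sub, hZ, smul_smul, ← pow_succ, show k - 1 + 1 = k by omega]
    ext a b
    rw [Matrix.smul_apply, nsmul_eq_mul, ZMod.natCast_self, zero_mul, Matrix.zero_apply]
  intro g hg
  obtain ⟨t, ht, htt, hgt⟩ := (sub_facts H' e' hH' c3 c1).2 g hg
  have htH : t ∈ H := by
    obtain ⟨Y, hYt, hYsol⟩ := hform H' e' hH' t ht htt
    have himg : (S.attach.image fun s => red k hk1 (Yf s.1 s.2)) = Finset.univ.filter Sol := by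
      refine Finset.eq_of_subset_of_card_le (fun y hy => ?_) ?_
      · obtain ⟨s, -, rfl⟩ := Finset.mem_image.mp hy
        exact Finset.mem_filter.mpr ⟨Finset.mem_univ _, hYS _ _⟩
      · rw [Finset.card_image_of_injective, Finset.card_attach]
        · exact (mod_two_facts.2.1.trans alt_four_facts.2.2.2.symm).le
        · intro s s' h
          refine Subtype.ext (e.symm.injective (Subtype.ext (Units.ext ?_)))
          rw [hY _ s.2, hY _ s'.2, hdet _ _ h]
    obtain ⟨s, -, hs⟩ := Finset.mem_image.mp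
      (himg ▸ Finset.mem_filter.mpr ⟨Finset.mem_univ _, hYsol⟩ :
        red k hk1 Y ∈ S.attach.image fun s => red k hk1 (Yf s.1 s.2))
    have : t = ((e.symm s.1 : H) : GL (Fin 2) (ZMod (2 ^ k))) :=
      Units.ext (by rw [hYt, hY _ s.2, hdet _ _ hs])
    rw [this]; exact (e.symm s.1).2
  rcases hgt with rfl | rfl | rfl
  · exact htH
  · exact mul_mem htH hH
  · exact mul_mem (mul_mem htH hH) hH

theorem exists_conj_rot (hk : 2 ≤ k) (H : Subgroup (GL (Fin 2) (ZMod (2 ^ k))))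
    (e : H ≃* alternatingGroup (Fin 4)) :
    ∃ g, rotU ∈ H.map (MulAut.conj g).toMonoidHom := by
  have hk1 : 1 ≤ k := by omega
  obtain ⟨x0, hx3, hx1⟩ := alt_four_facts.2.2.1
  obtain ⟨⟨x, hxH⟩, rfl⟩ := e.surjective x0
  have h3 : (x : Matrix (Fin 2) (Fin 2) (ZMod (2 ^ k))) * x * x = 1 := by
    have : x * x * x = 1 := congrArg Subtype.val ((map_eq_one_iff e e.injective).mp
      (by rw [← hx3, ← map_mul, ← map_mul]))
    exact congrArg Units.val this
  set X := (x : Matrix (Fin 2) (Fin 2) (ZMod (2 ^ k))) with hX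
  set π := red k hk1 with hπ
  have hne : π X ≠ 1 := by
    intro h
    suffices hP : ∀ j, 1 ≤ j → j ≤ k → ∃ Y, X = 1 + (2 ^ j : ℕ) • Y by
      obtain ⟨Y, hY⟩ := hP k hk1 le_rfl
      refine hx1 ((map_eq_one_iff e e.injective).mpr (Subtype.ext (Units.ext ?_)))
      show X = 1
      rw [hY, add_eq_left]
      ext a b
      rw [Matrix.smul_apply, nsmul_eq_mul, ZMod.natCast_self, zero_mul, Matrix.zero_apply]
    intro j hj
    induction j, hj using Nat.le_induction with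
    | base =>
      intro _
      obtain ⟨Y, hY⟩ := exists_two_smul hk1 (X := X - 1) (by rw [← hπ, map_sub, h, map_one, sub_self])
      exact ⟨Y, by rw [pow_one, ← hY, add_sub_cancel]⟩
    | succ j hj IH =>
      intro hjk
      obtain ⟨Y, hY⟩ := IH (by omega)
      have e3 : (2 ^ j : ℕ) • (3 • Y + (2 ^ j : ℕ) • (3 • (Y * Y) + (2 ^ j : ℕ) • (Y * Y * Y))) = 0 := by
        have e := h3
        rw [hY] at e
        simp only [mul_add, add_mul, one_mul, mul_one, smul_mul_assoc, mul_smul_comm, smul_add,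
          smul_smul] at e ⊢
        rw [← sub_eq_zero] at e
        rw [← e]
        simp only [mul_smul, show ∀ M : Matrix (Fin 2) (Fin 2) (ZMod (2 ^ k)), (3 : ℕ) • M = M + M + M
          from fun M => by rw [succ_nsmul, two_nsmul], smul_add]
        abel
      have h4 := red_eq_zero hk1 (show j < k by omega) e3
      rw [← hπ, map_add, map_nsmul, map_nsmul] at h4
      have h0 : ∀ z : Matrix (Fin 2) (Fin 2) (ZMod 2), (2 ^ j : ℕ) • z = 0 ∧ 3 • z = z := by
        intro z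
        constructor <;> ext a b
        · rw [Matrix.smul_apply, nsmul_eq_mul, Matrix.zero_apply,
            (ZMod.natCast_eq_zero_iff _ 2).mpr (dvd_pow_self 2 (by omega : j ≠ 0)), zero_mul]
        · rw [Matrix.smul_apply, nsmul_eq_mul, show ((3 : ℕ) : ZMod 2) = 1 by decide, one_mul]
      rw [(h0 _).1, add_zero, (h0 _).2] at h4
      obtain ⟨Z, hZ⟩ := exists_two_smul hk1 h4
      exact ⟨Z, by rw [hY, hZ, smul_smul, ← pow_succ]⟩
  obtain ⟨hdet, h10⟩ := mod_two_facts.2.2.2 (π X) (by rw [← map_mul, ← map_mul, h3, map_one]) hne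
  have hunit : ∀ a : ZMod (2 ^ k), (a.val : ZMod 2) = 1 → IsUnit a := by
    intro a ha
    haveI : NeZero (2 ^ k) := ⟨by positivity⟩
    rw [← ZMod.natCast_zmod_val a, ZMod.isUnit_iff_coprime]
    refine Nat.Coprime.pow_right _ ?_
    rw [Nat.coprime_two_right, ← ZMod.natCast_eq_one_iff_odd]
    exact ha
  -- `X * X + X + 1 = 0`
  have hq : X * X + X + 1 = 0 := by
    have hd : IsUnit (X - 1) := by
      rw [Matrix.isUnit_iff_isUnit_det]
      refine hunit _ ?_
      have : (red k hk1 (X - 1)).det = 1 := by rw [map_sub, map_one]; exact hdet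
      rw [show red k hk1 (X - 1) = (ZMod.castHom (dvd_pow_self 2 (by omega : k ≠ 0)) (ZMod 2)).mapMatrix
        (X - 1) from rfl, ← RingHom.map_det, ZMod.castHom_apply, ZMod.cast_eq_val] at this
      exact this
    refine hd.mul_left_cancel ?_
    rw [mul_zero, show (X - 1) * (X * X + X + 1) = X * X * X - 1 by noncomm_ring, h3, sub_self]
  set P : Matrix (Fin 2) (Fin 2) (ZMod (2 ^ k)) := !![1, X 0 0; 0, X 1 0] with hP
  have hPd : IsUnit P := by
    rw [Matrix.isUnit_iff_isUnit_det, hP, Matrix.det_fin_two_of, one_mul, mul_zero, sub_zero]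
    refine hunit _ ?_
    rw [← red_apply hk1]; exact h10
  obtain ⟨Pu, hPu⟩ := hPd
  refine ⟨Pu⁻¹, x, hxH, ?_⟩
  show Pu⁻¹ * x * Pu⁻¹⁻¹ = rotU
  rw [inv_inv, mul_assoc, inv_mul_eq_iff_eq_mul]
  apply Units.ext
  rw [Units.val_mul, Units.val_mul, hPu, ← hX]
  show X * P = P * rot
  have q00 := congrFun (congrFun hq 0) 0
  have q10 := congrFun (congrFun hq 1) 0
  simp only [Matrix.add_apply, Matrix.mul_apply, Fin.sum_univ_two, Matrix.one_apply_eq,
    Matrix.zero_apply, Matrix.one_apply_ne (show (1 : Fin 2) ≠ 0 by decide), add_zero] at q00 q10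
  ext i j
  fin_cases i <;> fin_cases j <;>
    simp [hP, rot, Matrix.mul_apply, Fin.sum_univ_two]
  · linear_combination q00
  · linear_combination q10


/-- For k ≥ 2, any two subgroups of GL₂(ℤ/2ᵏℤ) (the automorphism group of the homocyclic group ℤ/2ᵏ × ℤ/2ᵏ) that are isomorphic to the alternating group of degree 4 are conjugate. -/
theorem result (k : ℕ) (hk : 2 ≤ k) (H₁ H₂ : Subgroup (GL (Fin 2) (ZMod (2 ^ k)))) (h₁ : Nonempty (↥H₁ ≃* ↥(alternatingGroup (Fin 4)))) (h₂ : Nonempty (↥H₂ ≃* ↥(alternatingGroup (Fin 4)))) : ∃ g : GL (Fin 2) (ZMod (2 ^ k)), H₂ = H₁.map (MulAut.conj g).toMonoidHom := by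
  obtain ⟨e₁⟩ := h₁
  obtain ⟨e₂⟩ := h₂
  obtain ⟨a, ha⟩ := exists_conj_rot hk H₁ e₁
  obtain ⟨b, hb⟩ := exists_conj_rot hk H₂ e₂
  set A := H₁.map (MulAut.conj a).toMonoidHom
  set B := H₂.map (MulAut.conj b).toMonoidHom
  let eA : A ≃* alternatingGroup (Fin 4) :=
    (H₁.equivMapOfInjective _ (MulAut.conj a).injective).symm.trans e₁
  let eB : B ≃* alternatingGroup (Fin 4) :=
    (H₂.equivMapOfInjective _ (MulAut.conj b).injective).symm.trans e₂
  have hAB : A = B := le_antisymm (le_of_rot hk B A eB eA hb ha) (le_of_rot hk A B eA eB ha hb)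
  refine ⟨b⁻¹ * a, ?_⟩
  have h := congrArg (Subgroup.map (MulAut.conj b⁻¹).toMonoidHom) hAB
  simp only [A, B, Subgroup.map_map] at h
  have e1 : (MulAut.conj b⁻¹).toMonoidHom.comp (MulAut.conj a).toMonoidHom
      = (MulAut.conj (b⁻¹ * a)).toMonoidHom := by
    ext y; simp [mul_assoc]
  have e2 : (MulAut.conj b⁻¹).toMonoidHom.comp (MulAut.conj b).toMonoidHom = MonoidHom.id _ := by
    ext y; simp [mul_assoc]
  rw [e1, e2, Subgroup.map_id] at h
  exact h.symm

end Cfsg.Agent.S2874
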