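import Cfsg.Statements.S2879
import Cfsg.Agent.S0106
import Cfsg.Agent.Lib.Invol.SolvableCore
import Cfsg.Agent.Lib.SmallTwo.QuasiDihedralBasic
import Cfsg.Agent.Lib.SmallTwo.WreathedAut

set_option autoImplicit false
open Cfsg

open CfsgLib
open CfsgLib.GL2 (ext8 all8 agree validPair mem_all8 ext8_eq)
open Cfsg.Agent.S0106 (theta nf star nf_star nf_bij theta_three theta_one exists_conj_theta)

namespace Cfsg.Agent.S2879

local notation "Q8" => QuaternionGroup 2

/-- An odd automorphism fixing a central involution, where a cyclic subgroup has index at most two. -/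
theorem quaternion_of_odd_aut {R : Type*} [Group R] [Finite R] (hR : IsPGroup 2 R) (r : R)
    (hidx : (Subgroup.zpowers r).index ∣ 2) (hout : ∀ x ∉ Subgroup.zpowers r, orderOf x ∣ 4) (z : R)
    (hz : z ∈ Subgroup.center R) (hz2 : orderOf z = 2) (α : MulAut R)
    (hα : (orderOf α).Coprime 2) (hαz : α z = z) (hα1 : α ≠ 1) :
    Nonempty (R ≃* QuaternionGroup 2) := by
  haveI : Fact (Nat.Prime 2) := ⟨Nat.prime_two⟩
  have hno : ¬ IsPGroup 2 (MulAut R) := fun h =>
    hα1 (CfsgLib.Transfer.orderOf_eq_one_of_coprime_of_isPGroup h hα)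
  have hsq : ∀ β : MulAut R, (orderOf β).Coprime 2 → β ^ 2 = 1 → β = 1 := fun β hβ h =>
    orderOf_eq_one_iff.mp (Nat.eq_one_of_dvd_coprimes hβ dvd_rfl (orderOf_dvd_of_pow_eq_one h))
  rcases (Nat.dvd_prime Nat.prime_two).mp hidx with hi | hi
  · exact absurd (SmallTwo.isPGroup_mulAut_cyclic hR
      (isCyclic_iff_exists_zpowers_eq_top.mpr ⟨r, Subgroup.index_eq_one.mp hi⟩)) hno
  obtain ⟨k, hk⟩ := (IsPGroup.iff_orderOf.mp hR) r
  have hcard : Nat.card R = 2 ^ (k + 1) := by
    rw [← Subgroup.card_mul_index (Subgroup.zpowers r), Nat.card_zpowers, hk, hi, pow_succ]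
  by_cases hk3 : 3 ≤ k
  · refine absurd (Fusion.isPGroup_mulAut_of_cyclic_index_two r hk (by omega) hi fun x hx => ?_) hno
    calc orderOf x ≤ 4 := Nat.le_of_dvd (by norm_num) (hout x hx)
      _ < 2 ^ 3 := by norm_num
      _ ≤ 2 ^ k := Nat.pow_le_pow_right two_pos hk3
  set N := Subgroup.zpowers z with hN
  have hz1 : z ≠ 1 := fun h => by rw [h, orderOf_one] at hz2; norm_num at hz2
  haveI : N.Normal := ⟨fun n hn g => by
    rw [Subgroup.mem_center_iff.mp (Subgroup.zpowers_le.mpr hz hn) g, mul_inv_cancel_right]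
    exact hn⟩
  have hNc : Nat.card N = 2 := by rw [hN, Nat.card_zpowers, hz2]
  have hNel : ∀ n ∈ N, n = 1 ∨ n = z := by
    intro n hn
    obtain ⟨j, rfl⟩ := Subgroup.mem_zpowers_iff.mp hn
    rw [← zpow_mod_orderOf, hz2]
    rcases Int.emod_two_eq_zero_or_one j with h | h <;> simp [h]
  by_cases huniq : ∀ x y : R, orderOf x = 2 → orderOf y = 2 → x = y
  · exact (Invol.mulAut_or_quaternion_eight hR huniq).resolve_left hno
  obtain ⟨s, hs, hsz⟩ : ∃ s : R, orderOf s = 2 ∧ s ≠ z := by
    by_contra hno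
    simp only [not_exists, not_and, not_not] at hno
    exact huniq fun x y hx hy => (hno x hx).trans (hno y hy).symm
  have hs1 : s ≠ 1 := fun h => by rw [h, orderOf_one] at hs; norm_num at hs
  have hsN : s ∉ N := fun h => (hNel s h).elim hs1 hsz
  let π := QuotientGroup.mk' N
  have hαN : ∀ n ∈ N, α n ∈ N := fun n hn => (hNel n hn).elim (fun h => by rw [h, map_one]; exact one_mem _)
    (fun h => by rw [h, hαz]; exact Subgroup.mem_zpowers z)
  have hαπ : ∀ a b, π a = π b → π (α a) = π (α b) := fun a b h => by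
    rw [QuotientGroup.mk'_apply, QuotientGroup.mk'_apply, QuotientGroup.eq] at h ⊢
    rw [← map_inv, ← map_mul]
    exact hαN _ h
  haveI := Fintype.ofFinite (R ⧸ N)
  have hqc : Fintype.card (R ⧸ N) ≤ 4 := by
    have h := N.card_mul_index
    rw [hNc, hcard] at h
    rw [← Nat.card_eq_fintype_card, ← Subgroup.index_eq_card]
    interval_cases k <;> omega
  have hsπ : π s ≠ 1 := fun h => hsN ((QuotientGroup.eq_one_iff s).mp h)
  have hα2 : ∀ β : MulAut R, β z = z → (∀ x, π (β x) = π x) → β ^ 2 = 1 := by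
    intro β hβz hβ
    refine MulEquiv.ext fun x => ?_
    show β (β x) = x
    have h := hβ x
    rw [QuotientGroup.mk'_apply, QuotientGroup.mk'_apply, eq_comm, QuotientGroup.eq] at h
    rcases hNel _ h with h1 | h1
    · rw [(inv_mul_eq_one.mp h1).symm, (inv_mul_eq_one.mp h1).symm]
    · rw [inv_mul_eq_iff_eq_mul] at h1
      rw [h1, map_mul, hβz, h1, mul_assoc, ← pow_two, ← hz2, pow_orderOf_eq_one, mul_one]
  have hαsq : (orderOf (α ^ 2)).Coprime 2 := hα.coprime_dvd_left (orderOf_pow_dvd 2)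
  have hfixed : π (α s) ≠ π s := by
    intro hfix
    have h2 : ∀ x, π (α (α x)) = π x := by
      intro x
      classical
      have hfin : ∀ y : R ⧸ N, y ≠ 1 → y ≠ π s → y ≠ π x → π x ≠ 1 → π x ≠ π s →
          ∀ y' : R ⧸ N, y' ≠ 1 → y' ≠ π s → y' ≠ π x → y' = y := by
        intro y h1 h2 h3 h4 h5 y' h1' h2' h3'
        by_contra hne
        have hc : ({1, π s, π x, y, y'} : Finset (R ⧸ N)).card = 5 := by
          rw [Finset.card_insert_of_notMem, Finset.card_insert_of_notMem,
            Finset.card_insert_of_notMem, Finset.card_pair (Ne.symm hne)]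
          · simp [h3.symm, h3'.symm]
          · simp [h5.symm, h2.symm, h2'.symm]
          · simp [hsπ.symm, h4.symm, h1.symm, h1'.symm]
        have := Finset.card_le_univ ({1, π s, π x, y, y'} : Finset (R ⧸ N))
        omega
      by_cases hx1 : π x = 1
      · have := hαπ _ _ (hx1.trans (map_one π).symm)
        rw [map_one, map_one] at this
        rw [hαπ _ _ (this.trans (map_one π).symm), map_one, map_one, hx1]
      by_cases hxs : π x = π s
      · rw [hαπ _ _ ((hαπ _ _ hxs).trans hfix), hfix, hxs]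
      by_cases hxx : π (α x) = π x
      · rw [hαπ _ _ hxx, hxx]
      by_contra hne
      have hαinj : ∀ a b, π (α a) = π (α b) → π a = π b := fun a b h => by
        rw [QuotientGroup.mk'_apply, QuotientGroup.mk'_apply, QuotientGroup.eq] at h ⊢
        rw [← map_inv, ← map_mul] at h
        rcases hNel _ h with h1 | h1
        · rw [show a⁻¹ * b = 1 from α.injective (h1.trans (map_one α).symm)]; exact one_mem _
        · rw [show a⁻¹ * b = z from α.injective (h1.trans hαz.symm)]; exact Subgroup.mem_zpowers z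
      have a1 : π (α x) ≠ 1 := fun h => hx1 ((hαinj x 1 (by rw [h, map_one, map_one])).trans (map_one π))
      have a2 : π (α x) ≠ π s := fun h => hxs (hαinj x s (h.trans hfix.symm))
      have b1 : π (α (α x)) ≠ 1 := fun h => a1 ((hαinj _ 1 (by rw [h, map_one, map_one])).trans (map_one π))
      have b2 : π (α (α x)) ≠ π s := fun h => a2 (hαinj _ s (h.trans hfix.symm))
      have := hfin (π (α x)) a1 a2 hxx hx1 hxs (π (α (α x))) b1 b2 hne
      exact hxx (hαinj _ _ this)
    have h4 := hα2 (α ^ 2) (by show α (α z) = z; rw [hαz, hαz]) (fun x => h2 x)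
    exact hα1 (hsq α hα (hsq _ hαsq h4))
  exfalso
  have hk2 : k = 2 := by
    by_contra hk2
    have h := N.card_mul_index
    rw [hNc, hcard, Subgroup.index_eq_card] at h
    have hlt : Nat.card (R ⧸ N) ≤ 2 := by
      interval_cases k <;> omega
    haveI : Nontrivial (R ⧸ N) := ⟨⟨_, _, hsπ⟩⟩
    rw [Nat.card_eq_fintype_card] at hlt
    obtain ⟨a, b, hab, huniv⟩ := Nat.card_eq_two_iff.mp
      (show Nat.card (R ⧸ N) = 2 by
        rw [Nat.card_eq_fintype_card]; have := Fintype.one_lt_card (α := R ⧸ N); omega)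
    have hne : π (α s) ≠ 1 := fun h => by
      have h1 : α s ∈ N := (QuotientGroup.eq_one_iff _).mp h
      rcases hNel _ h1 with h2 | h2
      · exact hs1 (α.injective (h2.trans (map_one α).symm))
      · exact hsz (α.injective (h2.trans hαz.symm))
    have hm : ∀ y : R ⧸ N, y = a ∨ y = b := fun y => by
      have : y ∈ ({a, b} : Set (R ⧸ N)) := huniv ▸ Set.mem_univ y
      simpa using this
    apply hfixed
    rcases hm (π (α s)) with h1 | h1 <;> rcases hm (π s) with h2 | h2 <;> rcases hm 1 with h3 | h3 <;>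
      simp_all
  subst hk2
  have hr4 : orderOf r = 4 := hk
  have hrN : π r ≠ 1 := fun h => by
    rcases hNel r ((QuotientGroup.eq_one_iff r).mp h) with h1 | h1
    · rw [h1, orderOf_one] at hr4; norm_num at hr4
    · rw [h1, hz2] at hr4; norm_num at hr4
  have hord : ∀ x, orderOf x = 2 → π r ≠ π x := by
    intro x hx h
    rw [QuotientGroup.mk'_apply, QuotientGroup.mk'_apply, eq_comm, QuotientGroup.eq] at h
    rcases hNel _ h with h1 | h1
    · rw [← inv_mul_eq_one.mp h1, hx] at hr4; norm_num at hr4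
    · rw [inv_mul_eq_iff_eq_mul] at h1
      have h2 : r ^ 2 = 1 := by
        have hzc : Commute x z := (Subgroup.mem_center_iff.mp hz x)
        rw [h1, hzc.mul_pow]
        conv_lhs => arg 1; rw [← hx, pow_orderOf_eq_one]
        rw [one_mul, ← hz2, pow_orderOf_eq_one]
      have := orderOf_dvd_of_pow_eq_one h2
      rw [hr4] at this; norm_num at this
  have e2 : π (α (α s)) ≠ π (α s) := fun h => hfixed (by
    rw [QuotientGroup.mk'_apply, QuotientGroup.mk'_apply, QuotientGroup.eq] at h ⊢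
    rw [← map_inv, ← map_mul] at h
    rcases hNel _ h with h1 | h1
    · rw [show (α s)⁻¹ * s = 1 from α.injective (h1.trans (map_one α).symm)]; exact one_mem _
    · rw [show (α s)⁻¹ * s = z from α.injective (h1.trans hαz.symm)]; exact Subgroup.mem_zpowers z)
  have hne1 : ∀ x, orderOf x = 2 → π x ≠ 1 → orderOf (α x) = 2 ∧ π (α x) ≠ 1 := fun x hx h =>
    ⟨by rw [MulEquiv.orderOf_eq, hx], fun h1 => by
      rcases hNel _ ((QuotientGroup.eq_one_iff _).mp h1) with h2 | h2
      · exact h (by rw [show x = 1 from α.injective (h2.trans (map_one α).symm), map_one])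
      · exact h (by rw [show x = z from α.injective (h2.trans hαz.symm)]
                    exact (QuotientGroup.eq_one_iff z).mpr (Subgroup.mem_zpowers z))⟩
  obtain ⟨o1, n1⟩ := hne1 s hs hsπ
  obtain ⟨o2, n2⟩ := hne1 _ o1 n1
  by_cases e3 : π (α (α s)) = π s
  · -- then the square fixes a coset
    have hodd : Odd (orderOf α) := by
      rcases Nat.even_or_odd (orderOf α) with he | ho
      · exact absurd (hα.symm.eq_one_of_dvd he.two_dvd) (by norm_num)
      · exact ho
    obtain ⟨j, hj⟩ := hodd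
    have hev : ∀ i : ℕ, π (((α ^ 2) ^ i : MulAut R) s) = π s := by
      intro i
      induction i with
      | zero => simp
      | succ i ih =>
        rw [pow_succ', MulAut.mul_apply]
        show π (α (α _)) = π s
        rw [hαπ _ _ (hαπ _ _ ih), e3]
    apply hfixed
    have h1 := pow_orderOf_eq_one α
    rw [hj, pow_succ', pow_mul] at h1
    have h2 : α (((α ^ 2) ^ j : MulAut R) s) = s := DFunLike.congr_fun h1 s
    rw [← hαπ _ _ (hev j), h2]
  · classical
    have hc : ({1, π r, π s, π (α s), π (α (α s))} : Finset (R ⧸ N)).card = 5 := by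
      rw [Finset.card_insert_of_notMem, Finset.card_insert_of_notMem,
        Finset.card_insert_of_notMem, Finset.card_pair e2.symm]
      · simp [hfixed.symm, Ne.symm e3]
      · simp [hord s hs, hord _ o1, hord _ o2]
      · simp [hrN.symm, hsπ.symm, n1.symm, n2.symm]
    have := Finset.card_le_univ ({1, π r, π s, π (α s), π (α (α s))} : Finset (R ⧸ N))
    omega

/-- Automorphisms of order three, as a Boolean. -/
def span3 : Bool :=
  all8.all fun A => all8.all fun B => !validPair A B || !agree ((ext8 A B)^[3]) id ||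
    all8.any fun q => [0, 1, 2].any fun j => agree (ext8 A B) (fun x => q * theta^[j] x * q⁻¹)

theorem span3_eq : span3 = true := by decide +kernel

theorem exists_theta_inner (β : MulAut Q8) (h3 : ∀ x, β (β (β x)) = x) :
    ∃ q j, ∀ x, β x = q * theta^[j] x * q⁻¹ := by
  have hvalid : validPair (β (.a 1)) (β (.xa 0)) = true := by
    simp only [validPair, ext8_eq, Bool.and_eq_true, List.all_eq_true, List.any_eq_true,
      decide_eq_true_eq]
    exact ⟨fun x _ y _ => map_mul β x y, fun y _ => ⟨β.symm y, mem_all8 _, by simp⟩⟩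
  have hcube : agree ((ext8 (β (.a 1)) (β (.xa 0)))^[3]) id = true := by
    simp only [agree, List.all_eq_true, decide_eq_true_eq, ext8_eq]
    exact fun x _ => h3 x
  have h := span3_eq
  simp only [span3, List.all_eq_true, Bool.or_eq_true, Bool.not_eq_true', List.any_eq_true] at h
  rcases h (β (.a 1)) (mem_all8 _) (β (.xa 0)) (mem_all8 _) with (h1 | h1) | ⟨q, -, j, -, h1⟩
  · rw [hvalid] at h1; exact absurd h1 Bool.noConfusion
  · rw [hcube] at h1; exact absurd h1 Bool.noConfusion
  · simp only [agree, List.all_eq_true, decide_eq_true_eq, ext8_eq] at h1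
    exact ⟨q, j, fun x => h1 x (mem_all8 x)⟩

theorem exists_cyclic_index_two {S : Type*} [Group S] [Finite S] (hS : IsPGroup 2 S)
    (h : (∃ n : ℕ, 4 ≤ n ∧ Nonempty (S ≃* DihedralGroup n)) ∨ Cfsg.IsQuasiDihedral S) :
    ∃ r : S, (Subgroup.zpowers r).index = 2 ∧ (∀ x ∉ Subgroup.zpowers r, orderOf x ∣ 4) ∧
      ∃ a b : S, a * b ≠ b * a := by
  rcases h with ⟨n, hn, ⟨e⟩⟩ | h
  · refine ⟨e.symm (DihedralGroup.r 1), ?_, ?_, e.symm (DihedralGroup.r 1), e.symm (DihedralGroup.sr 0), ?_⟩
    · have h1 := Subgroup.card_mul_index (Subgroup.zpowers (e.symm (DihedralGroup.r 1)))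
      rw [Nat.card_zpowers, MulEquiv.orderOf_eq, DihedralGroup.orderOf_r_one, Nat.card_congr e.toEquiv,
        DihedralGroup.nat_card, mul_comm 2] at h1
      exact Nat.eq_of_mul_eq_mul_left (by omega) h1
    · intro x hx
      obtain ⟨y, rfl⟩ := e.symm.surjective x
      rw [MulEquiv.orderOf_eq]
      rcases y with i | i
      · refine absurd ?_ hx
        refine ⟨(i.cast : ℤ), ?_⟩
        show (e.symm (DihedralGroup.r 1)) ^ (i.cast : ℤ) = _
        rw [← map_zpow, DihedralGroup.r_one_zpow]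
        simp
      · rw [DihedralGroup.orderOf_sr]; norm_num
    · intro hc
      rw [← map_mul, ← map_mul] at hc
      have h1 := e.symm.injective hc
      rw [DihedralGroup.r_mul_sr, DihedralGroup.sr_mul_r, DihedralGroup.sr.injEq, zero_sub, zero_add] at h1
      haveI : Fact (2 < n) := ⟨by omega⟩
      exact ZMod.neg_one_ne_one h1
  · obtain ⟨n, ⟨d⟩⟩ := SmallTwo.qd_exists h
    refine ⟨d.x, d.index_zpowers, fun g hg => ?_, d.x, d.y, ?_⟩
    · obtain ⟨i, rfl | rfl⟩ := d.cases' g
      · exact absurd (zpow_mem (Subgroup.mem_zpowers d.x) i) hg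
      · refine orderOf_dvd_of_pow_eq_one ?_
        have h2 : (d.x ^ i * d.y) ^ 2 = d.x ^ (i * (2 * d.q)) := by
          rw [pow_two, d.ry_mul_ry]; congr 1; ring
        rw [show (4 : ℕ) = 2 * 2 from rfl, pow_mul, h2, pow_two, ← zpow_add, d.zpow_eq_one_iff]
        exact ⟨i, by ring⟩
    · intro hc
      have h1 := d.conj_zpow' 1
      rw [zpow_one, ← hc, mul_inv_cancel_right, one_mul] at h1
      have h2 := d.zpow_eq_iff.mp ((zpow_one d.x).trans h1)
      obtain ⟨p, hp, hpq⟩ := d.exists_half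
      have := Int.le_of_dvd (by omega) (dvd_neg.mpr h2)
      omega


/-- Let G be a finite solvable group with O(G) = 1 whose Sylow 2-subgroup T is dihedral of order at least 8 or semidihedral, with G ≠ T and Z(T) normal in G. Then G has a normal subgroup isomorphic to SL₂(3). -/
theorem result {G : Type*} [Group G] [Finite G] (hsol : IsSolvable G) (hO : Cfsg.oddCore G = ⊥) (T : Sylow 2 G) (hT : (∃ n : ℕ, 4 ≤ n ∧ Nonempty (↥(T : Subgroup G) ≃* DihedralGroup n)) ∨ Cfsg.IsQuasiDihedral ↥(T : Subgroup G)) (hne : (T : Subgroup G) ≠ ⊤) (hZ : ((T : Subgroup G) ⊓ Subgroup.centralizer ((T : Subgroup G) : Set G)).Normal) : ∃ U : Subgroup G, U.Normal ∧ Nonempty (↥U ≃* Matrix.SpecialLinearGroup (Fin 2) (ZMod 3)) := by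
  classical
  haveI : Fact (Nat.Prime 2) := ⟨Nat.prime_two⟩
  set Q := Cfsg.pCore 2 G with hQ
  haveI hQn : Q.Normal := Fitting.pCore_normal (G := G) 2
  have hQp : IsPGroup 2 Q := Fitting.pCore_isPGroup (G := G) 2
  have hcent : Subgroup.centralizer (Q : Set G) ≤ Q :=
    PSolvable.centralizer_pCore_le (PSolvable.isPSolvable_of_isSolvable hsol) hO
  have hQT : Q ≤ (T : Subgroup G) := by
    obtain ⟨P, hP⟩ := hQp.exists_le_sylow
    obtain ⟨x, rfl⟩ := MulAction.exists_smul_eq G P T
    intro q hq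
    have h1 : x⁻¹ * q * x ∈ (P : Subgroup G) := hP (by simpa using hQn.conj_mem q hq x⁻¹)
    rw [Sylow.coe_subgroup_smul, Subgroup.mem_pointwise_smul_iff_inv_smul_mem, MulAut.smul_def,
      MulAut.conj_inv_apply]
    exact h1
  obtain ⟨r, hidx, hout, a, b, hab⟩ := exists_cyclic_index_two T.2 hT
  set ZT := (T : Subgroup G) ⊓ Subgroup.centralizer ((T : Subgroup G) : Set G) with hZT
  haveI := hZ
  have hZQ : ZT ≤ Q := CfsgLib.Fitting.le_pCore hZ (T.2.to_le inf_le_left)
  -- central involutions of T lie in the cyclic subgroup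
  have hmem : ∀ c : (T : Subgroup G), c ∈ Subgroup.center (T : Subgroup G) → c ∈ Subgroup.zpowers r := by
    intro c hc
    by_contra hcr
    apply hab
    have key : ∀ x : (T : Subgroup G), ∃ i : ℤ, x = r ^ i ∨ x = r ^ i * c := fun x => by
      by_cases hx : x ∈ Subgroup.zpowers r
      · obtain ⟨i, hi⟩ := hx; exact ⟨i, Or.inl hi.symm⟩
      · have : x * c⁻¹ ∈ Subgroup.zpowers r := by
          rw [Subgroup.mul_mem_iff_of_index_two hidx]
          exact iff_of_false hx (fun h => hcr (by simpa using inv_mem h))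
        obtain ⟨i, hi⟩ := this
        exact ⟨i, Or.inr (by rw [show r ^ i = x * c⁻¹ from hi, inv_mul_cancel_right])⟩
    have hcc : ∀ x, Commute c x := fun x => (Subgroup.mem_center_iff.mp hc x).symm
    obtain ⟨i, rfl | rfl⟩ := key a <;> obtain ⟨j, rfl | rfl⟩ := key b
    · exact (Commute.zpow_zpow_self r i j).eq
    · exact ((Commute.zpow_zpow_self r i j).mul_right (hcc _).symm).eq
    · exact ((Commute.zpow_zpow_self r i j).mul_left (hcc _)).eq
    · exact (((Commute.zpow_zpow_self r i j).mul_right (hcc _).symm).mul_left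
        ((hcc _).mul_right (Commute.refl c))).eq
  haveI : Nontrivial (T : Subgroup G) := ⟨⟨a * b, b * a, hab⟩⟩
  haveI := T.2.center_nontrivial
  have hZp : IsPGroup 2 (Subgroup.center (T : Subgroup G)) := T.2.to_subgroup _
  obtain ⟨m, hm⟩ := IsPGroup.iff_card.mp hZp
  obtain ⟨z0, hz0⟩ := exists_prime_orderOf_dvd_card' (G := Subgroup.center (T : Subgroup G)) 2 (by
    rw [hm]; refine dvd_pow_self 2 fun h => ?_
    have := Finite.one_lt_card (α := Subgroup.center (T : Subgroup G))
    rw [hm, h] at this; norm_num at this)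
  set z : G := ((z0 : (T : Subgroup G)) : G) with hzdef
  have hz : orderOf z = 2 := by rw [hzdef, Subgroup.orderOf_coe, Subgroup.orderOf_coe, hz0]
  have hzZT : z ∈ ZT := ⟨(z0 : (T : Subgroup G)).2, fun x hx =>
    congrArg Subtype.val (Subgroup.mem_center_iff.mp z0.2 ⟨x, hx⟩)⟩
  -- z is central in G
  have hzc : ∀ g : G, g * z * g⁻¹ = z := by
    intro g
    have h1 : g * z * g⁻¹ ∈ ZT := hZ.conj_mem _ hzZT g
    set y : (T : Subgroup G) := ⟨g * z * g⁻¹, h1.1⟩ with hy
    have hyc : y ∈ Subgroup.center (T : Subgroup G) :=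
      Subgroup.mem_center_iff.mpr fun x => Subtype.ext (h1.2 x x.2)
    have hyo : orderOf y = 2 := by
      rw [← Subgroup.orderOf_coe, hy]
      show orderOf (g * z * g⁻¹) = 2
      rw [show g * z * g⁻¹ = MulAut.conj g z from rfl, MulEquiv.orderOf_eq, hz]
    have hz0o : orderOf (z0 : (T : Subgroup G)) = 2 := by rw [Subgroup.orderOf_coe, hz0]
    -- a cyclic group has one involution
    have hu : ∀ w₁ w₂ : Subgroup.zpowers r, orderOf w₁ = 2 → orderOf w₂ = 2 → w₁ = w₂ := by
      intro w₁ w₂ h₁ h₂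
      by_contra hne
      haveI := Fintype.ofFinite (Subgroup.zpowers r)
      have hle := IsCyclic.card_pow_eq_one_le (α := Subgroup.zpowers r) (n := 2) two_pos
      have hsub : ({1, w₁, w₂} : Finset (Subgroup.zpowers r)) ⊆ Finset.univ.filter fun a => a ^ 2 = 1 := by
        intro a ha
        simp only [Finset.mem_insert, Finset.mem_singleton] at ha
        simp only [Finset.mem_filter, Finset.mem_univ, true_and]
        rcases ha with rfl | rfl | rfl
        · exact one_pow 2
        · have := pow_orderOf_eq_one a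
          rwa [h₁] at this
        · have := pow_orderOf_eq_one a
          rwa [h₂] at this
      have hc : ({1, w₁, w₂} : Finset (Subgroup.zpowers r)).card = 3 := by
        rw [Finset.card_insert_of_notMem, Finset.card_pair hne]
        simp only [Finset.mem_insert, Finset.mem_singleton, not_or]
        exact ⟨fun h => by rw [← h, orderOf_one] at h₁; norm_num at h₁,
          fun h => by rw [← h, orderOf_one] at h₂; norm_num at h₂⟩
      have := (Finset.card_le_card hsub).trans hle
      omega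
    have := hu ⟨y, hmem y hyc⟩ ⟨z0, hmem _ z0.2⟩ (by rw [← Subgroup.orderOf_coe]; exact hyo)
      (by rw [← Subgroup.orderOf_coe]; exact hz0o)
    exact congrArg (fun w : Subgroup.zpowers r => ((w : (T : Subgroup G)) : G)) this
  -- an element of odd order acting on Q
  obtain ⟨g, hgodd, hg1⟩ : ∃ g : G, (orderOf g).Coprime 2 ∧ g ≠ 1 := by
    by_contra hno
    simp only [not_exists, not_and, not_not] at hno
    apply hne
    have hG : IsPGroup 2 (⊤ : Subgroup G) := by
      refine IsPGroup.iff_orderOf.mpr fun x => ?_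
      obtain ⟨e, m, hm, hem⟩ := Nat.exists_eq_two_pow_mul_odd (orderOf_pos (x : G)).ne'
      have h1 := hno ((x : G) ^ 2 ^ e) (by
        rw [orderOf_pow' _ (by positivity), hem, Nat.gcd_eq_right (dvd_mul_right _ _),
          Nat.mul_div_cancel_left _ (by positivity)]
        exact Nat.coprime_two_right.mpr hm)
      obtain ⟨j, -, hj⟩ := (Nat.dvd_prime_pow Nat.prime_two).mp (orderOf_dvd_of_pow_eq_one h1)
      exact ⟨j, by rw [← Subgroup.orderOf_coe, hj]⟩
    exact (T.3 hG le_top).symm
  let θ : G →* MulAut Q := MulAut.conjNormal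
  have hθ : ∀ (x : G) (q : Q), ((θ x q : Q) : G) = x * q * x⁻¹ := fun x q => MulAut.conjNormal_apply x q
  have hker : ∀ x, θ x = 1 → x ∈ Q := fun x hx => hcent fun q hq => by
    have h1 := congrArg (fun φ : MulAut Q => ((φ ⟨q, hq⟩ : Q) : G)) hx
    simp only [hθ, MulAut.one_apply] at h1
    exact (mul_inv_eq_iff_eq_mul.mp h1).symm
  have hQodd : ∀ x ∈ Q, (orderOf x).Coprime 2 → x = 1 := fun x hx hc => by
    obtain ⟨j, hj⟩ := IsPGroup.iff_orderOf.mp hQp ⟨x, hx⟩
    rw [← Subgroup.orderOf_coe] at hj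
    exact orderOf_eq_one_iff.mp (Nat.eq_one_of_dvd_coprimes (hc.pow_right j) dvd_rfl hj.dvd)
  have hzQ : z ∈ Q := hZQ hzZT
  -- Q is quaternion of order eight
  obtain ⟨f⟩ : Nonempty (Q ≃* QuaternionGroup 2) := by
    set C := ((Subgroup.zpowers r).map (T : Subgroup G).subtype).subgroupOf Q with hC
    haveI : IsCyclic C := by
      haveI : IsCyclic ((Subgroup.zpowers r).map (T : Subgroup G).subtype) :=
        isCyclic_of_surjective _ ((T : Subgroup G).subtype.subgroupMap_surjective (Subgroup.zpowers r))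
      exact isCyclic_of_injective ((Q.subtype.subgroupComap _)) fun u v h => by
        exact Subtype.ext (Subtype.ext (congrArg Subtype.val h :))
    obtain ⟨c, hc⟩ := (Subgroup.isCyclic_iff_exists_zpowers_eq_top (H := C)).mp inferInstance
    refine quaternion_of_odd_aut hQp c ?_ (fun x hx => ?_) ⟨z, hzQ⟩ ?_ ?_ (θ g) ?_ ?_ ?_
    · rw [hc, hC]
      show ((Subgroup.zpowers r).map (T : Subgroup G).subtype).relIndex Q ∣ 2
      have h1 : ((Subgroup.zpowers r).map (T : Subgroup G).subtype).relIndex (T : Subgroup G) = 2 := by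
        rw [Subgroup.relIndex, Subgroup.subgroupOf, Subgroup.comap_map_eq_self_of_injective
          (T : Subgroup G).subtype_injective, hidx]
      have h2 : Q.subgroupOf (T : Subgroup G) ⊔ ⊤ = ⊤ := sup_top_eq _
      haveI hn2 : (Subgroup.zpowers r).Normal := Subgroup.normal_of_index_eq_two hidx
      have h3 : (Subgroup.zpowers r).relIndex (Q.subgroupOf (T : Subgroup G)) ∣ (Subgroup.zpowers r).index :=
        Subgroup.relIndex_dvd_index_of_normal _ _
      rw [hidx] at h3
      have h4 := Subgroup.relIndex_map_map_of_injective (Subgroup.zpowers r) (Q.subgroupOf (T : Subgroup G))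
        (T : Subgroup G).subtype_injective
      rw [Subgroup.map_subgroupOf_eq_of_le hQT] at h4
      rwa [h4]
    · rw [hc] at hx
      have hx' : (⟨x, hQT x.2⟩ : (T : Subgroup G)) ∉ Subgroup.zpowers r := fun h => hx ⟨_, h, rfl⟩
      have := hout _ hx'
      rwa [← Subgroup.orderOf_coe, Subgroup.orderOf_coe x] at this
    · exact Subgroup.mem_center_iff.mpr fun x => Subtype.ext (mul_inv_eq_iff_eq_mul.mp (hzc x))
    · rw [← Subgroup.orderOf_coe]; exact hz
    · exact hgodd.coprime_dvd_left (orderOf_map_dvd θ g)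
    · exact Subtype.ext (by rw [hθ]; exact hzc g)
    · exact fun h => hg1 (hQodd g (hker g h) hgodd)
  -- transport
  let ι0 : Q8 →* G := Q.subtype.comp f.symm.toMonoidHom
  have hι0 : Function.Injective ι0 := Q.subtype_injective.comp f.symm.injective
  let tr : G → MulAut Q8 := fun x => (f.symm.trans (θ x)).trans f
  have htr : ∀ x u, x * ι0 u * x⁻¹ = ι0 (tr x u) := fun x u => by
    show x * ((f.symm u : Q) : G) * x⁻¹ = ((f.symm (f (θ x (f.symm u))) : Q) : G)
    rw [f.symm_apply_apply, hθ]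
  have htrm : ∀ x y u, tr (x * y) u = tr x (tr y u) := fun x y u => by
    show f (θ (x * y) (f.symm u)) = f (θ x (f.symm (f (θ y (f.symm u)))))
    rw [f.symm_apply_apply, map_mul]; rfl
  let trH : G →* MulAut Q8 := MonoidHom.mk' tr fun x y => MulEquiv.ext fun u => htrm x y u
  have htr1 : ∀ x, trH x = 1 → x ∈ Q := fun x hx => hker x (MulEquiv.ext fun q => by
    have h1 := DFunLike.congr_fun hx (f q)
    have h2 : f (θ x (f.symm (f q))) = f q := h1
    rw [f.symm_apply_apply] at h2
    exact f.injective h2)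
  have hcop : (orderOf (trH g)).Coprime 2 := hgodd.coprime_dvd_left (orderOf_map_dvd trH g)
  have hgne : trH g ≠ 1 := fun h => hg1 (hQodd g (htr1 g h) hgodd)
  obtain ⟨s, hs, hsθ⟩ := (exists_conj_theta (trH g)).resolve_left (fun h4 => by
    apply hgne
    exact orderOf_eq_one_iff.mp (Nat.eq_one_of_dvd_coprimes (hcop.pow_right 2) dvd_rfl
      (orderOf_dvd_of_pow_eq_one (show trH g ^ (2 ^ 2) = 1 from h4))))
  let ι : Q8 →* G := ι0.comp s
  have hι : Function.Injective ι := hι0.comp hs
  have hιQ : ∀ x, ι x ∈ Q := fun x => (f.symm (s x)).2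
  have hιsurj : ∀ q ∈ Q, ∃ x, ι x = q := fun q hq => by
    obtain ⟨x, hx⟩ := (Finite.injective_iff_surjective.mp hs) (f ⟨q, hq⟩)
    exact ⟨x, by show ((f.symm (s x) : Q) : G) = q; rw [hx, f.symm_apply_apply]⟩
  have hgι : ∀ x, g * ι x * g⁻¹ = ι (theta x) := fun x => by
    show g * ι0 (s x) * g⁻¹ = ι0 (s (theta x))
    rw [htr]; exact congrArg ι0 (hsθ x)
  have hpow : ∀ (k : ℕ) x, g ^ k * ι x = ι (theta^[k] x) * g ^ k := by
    intro k
    induction k with
    | zero => simp
    | succ k ih =>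
      intro x
      calc g ^ (k + 1) * ι x = g ^ k * (g * ι x * g⁻¹) * g := by rw [pow_succ]; group
        _ = g ^ k * ι (theta x) * g := by rw [hgι]
        _ = _ := by rw [ih, Function.iterate_succ_apply, pow_succ, mul_assoc]
  have hfix3 : ∀ u : G, (∀ x, u * ι x * u⁻¹ = ι x) → u ∈ Q := fun u hu => hcent fun q hq => by
    obtain ⟨x, rfl⟩ := hιsurj q hq
    exact (mul_inv_eq_iff_eq_mul.mp (hu x)).symm
  have hg3 : g ^ 3 = 1 := hQodd _ (hfix3 _ fun x => by
    rw [hpow, theta_three, mul_inv_cancel_right]) (hgodd.coprime_dvd_left (orderOf_pow_dvd 3))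
  choose dec hdec using nf_bij.2
  let el : Q8 × Fin 3 → G := fun u => ι u.1 * g ^ u.2.val
  have hel : ∀ u v, el (S0106.star u v) = el u * el v := by
    intro u v
    show ι (u.1 * theta^[u.2.val] v.1) * g ^ (u.2 + v.2).val = ι u.1 * g ^ u.2.val * (ι v.1 * g ^ v.2.val)
    rw [mul_assoc (ι u.1), ← mul_assoc (g ^ u.2.val), hpow, map_mul, mul_assoc (ι u.1),
      mul_assoc (ι (theta^[u.2.val] v.1)), ← pow_add, Fin.val_add]
    congr 2
    conv_rhs => rw [← Nat.mod_add_div (u.2.val + v.2.val) 3, pow_add, pow_mul, hg3, one_pow, mul_one]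
  let Φ : Matrix.SpecialLinearGroup (Fin 2) (ZMod 3) →* G :=
    MonoidHom.mk' (fun t => el (dec t)) fun t t' => by
      rw [← hel]
      exact congrArg el (nf_bij.1 _ _ (by rw [nf_star, hdec, hdec, hdec]))
  have hg13 : orderOf g = 3 := orderOf_eq_prime hg3 hg1
  have hΦ : Function.Injective Φ := by
    refine (injective_iff_map_eq_one Φ).mpr fun t ht => ?_
    rw [← hdec t]
    change el (dec t) = 1 at ht
    generalize dec t = u at ht ⊢
    obtain ⟨x, k⟩ := u
    change ι x * g ^ k.val = 1 at ht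
    have hgQ : g ^ k.val ∈ Q := by
      rw [eq_inv_of_mul_eq_one_right ht]; exact inv_mem (hιQ x)
    have h1 : g ^ k.val = 1 := hQodd _ hgQ (hgodd.coprime_dvd_left (orderOf_pow_dvd _))
    have h2 := orderOf_dvd_of_pow_eq_one h1
    rw [hg13] at h2
    have hk : k = 0 := Fin.ext (by have := k.isLt; obtain ⟨c, hc⟩ := h2; show k.val = 0; omega)
    rw [h1, mul_one] at ht
    rw [hk, show x = 1 from hι (ht.trans (map_one ι).symm)]
    exact theta_one
  refine ⟨Φ.range, ⟨?_⟩, ⟨(MonoidHom.ofInjective hΦ).symm⟩⟩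
  have hrange : ∀ x j, ι x * g ^ j ∈ Φ.range := by
    intro x j
    refine ⟨nf (x, ⟨j % 3, Nat.mod_lt _ (by norm_num)⟩), ?_⟩
    show el (dec _) = _
    rw [nf_bij.1 _ _ (hdec _)]
    show ι x * g ^ (j % 3) = _
    conv_rhs => rw [← Nat.mod_add_div j 3, pow_add, pow_mul, hg3, one_pow, mul_one]
  have hQU : ∀ q ∈ Q, q ∈ Φ.range := fun q hq => by
    obtain ⟨x, rfl⟩ := hιsurj q hq
    simpa using hrange x 0
  have hcube : ∀ u : G, u ^ 3 = 1 → u ∈ Φ.range := by
    intro u hu
    let sE : Q8 ≃* Q8 := MulEquiv.ofBijective s ⟨hs, Finite.injective_iff_surjective.mp hs⟩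
    let β : MulAut Q8 := (sE.trans (trH u)).trans sE.symm
    have hβι : ∀ x, u * ι x * u⁻¹ = ι (β x) := fun x => by
      show u * ι0 (s x) * u⁻¹ = ι0 (s (sE.symm (trH u (sE x))))
      rw [htr]
      congr 1
      exact (sE.apply_symm_apply _).symm
    obtain ⟨q, j, hqj⟩ := exists_theta_inner β (fun x => hι (by
      rw [← hβι, ← hβι, ← hβι]
      calc u * (u * (u * ι x * u⁻¹) * u⁻¹) * u⁻¹ = u ^ 3 * ι x * (u ^ 3)⁻¹ := by
            simp only [pow_succ, pow_zero, one_mul, mul_inv_rev, mul_assoc]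
        _ = ι x := by rw [hu]; simp))
    have hw : (ι q * g ^ j)⁻¹ * u ∈ Q := hfix3 _ fun x => by
      rw [show (ι q * g ^ j)⁻¹ * u * ι x * ((ι q * g ^ j)⁻¹ * u)⁻¹ =
        (ι q * g ^ j)⁻¹ * (u * ι x * u⁻¹) * (ι q * g ^ j) by group, hβι, hqj, map_mul, map_mul, map_inv,
        show (ι q * g ^ j)⁻¹ * (ι q * ι (theta^[j] x) * (ι q)⁻¹) * (ι q * g ^ j) =
          (g ^ j)⁻¹ * (ι (theta^[j] x) * g ^ j) by group, ← hpow, inv_mul_cancel_left]
    have := mul_mem (hrange q j) (hQU _ hw)
    rwa [mul_inv_cancel_left] at this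
  rintro _ ⟨t, rfl⟩ y
  show y * (ι (dec t).1 * g ^ (dec t).2.val) * y⁻¹ ∈ Φ.range
  rw [show y * (ι (dec t).1 * g ^ (dec t).2.val) * y⁻¹ =
    (y * ι (dec t).1 * y⁻¹) * (y * g ^ (dec t).2.val * y⁻¹) by group]
  refine mul_mem (hQU _ (hQn.conj_mem _ (hιQ _) y)) (hcube _ ?_)
  rw [conj_pow, ← pow_mul, mul_comm _ 3, pow_mul, hg3, one_pow, mul_one, mul_inv_cancel]

end Cfsg.Agent.S2879
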