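import Cfsg.Statements.S2880
import Mathlib
import Cfsg.Agent.Lib.OddOmega.Basic

set_option linter.style.haveILetI false

set_option autoImplicit false
open Cfsg

namespace Cfsg.Agent.S2880

open scoped commutatorElement

/-- If every element centraliser has index at most `2` in `A`, then `|A : A ∩ Z| ≤ |E : C(A)|`. -/
theorem relIndex_inf_center_le {E : Type*} [Group E] [Finite E] (A : Subgroup E)
    (h2 : ∀ g : E, (A ⊓ Subgroup.centralizer ({g} : Set E)).relIndex A ≤ 2) :
    (A ⊓ Subgroup.center E).relIndex A ≤ (Subgroup.centralizer (A : Set E)).index := by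
  set C := Subgroup.centralizer (A : Set E) with hC
  let P : Subgroup E → Prop := fun K =>
    C ≤ K ∧ (A ⊓ Subgroup.centralizer (K : Set E)).relIndex A ≤ C.relIndex K
  have hP : P C := by
    refine ⟨le_rfl, ?_⟩
    rw [inf_eq_left.mpr (Subgroup.le_centralizer_iff.mp le_rfl), Subgroup.relIndex_self,
      Subgroup.relIndex_self]
  obtain ⟨K, hK⟩ := (Set.toFinite {K | P K}).exists_maximal ⟨C, hP⟩
  obtain ⟨⟨hCK, hb⟩, hmax⟩ := hK
  by_cases hT : K = ⊤
  · rw [hT, Subgroup.coe_top, Subgroup.centralizer_univ, Subgroup.relIndex_top_right] at hb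
    exact hb
  exfalso
  obtain ⟨x, hx⟩ : ∃ x, x ∉ K := by
    by_contra h
    push Not at h
    exact hT ((Subgroup.eq_top_iff' K).mpr h)
  have hne : K.relIndex (K ⊔ Subgroup.zpowers x) ≠ 1 := fun h =>
    hx (Subgroup.relIndex_eq_one.mp h (Subgroup.mem_sup_right (Subgroup.mem_zpowers x)))
  refine hx (hmax (y := K ⊔ Subgroup.zpowers x) ⟨hCK.trans le_sup_left, ?_⟩ le_sup_left
    (Subgroup.mem_sup_right (Subgroup.mem_zpowers x)))
  have h3 : (A ⊓ Subgroup.centralizer (K : Set E)) ⊓ (A ⊓ Subgroup.centralizer ({x} : Set E)) ≤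
      A ⊓ Subgroup.centralizer ((K ⊔ Subgroup.zpowers x : Subgroup E) : Set E) := by
    intro a ha
    obtain ⟨⟨haA, haK⟩, -, hax⟩ := ha
    refine ⟨haA, Subgroup.le_centralizer_iff.mp (sup_le ?_ ?_) (Subgroup.mem_zpowers a)⟩
    · exact Subgroup.le_centralizer_iff.mp ((Subgroup.zpowers_le).mpr haK)
    · exact Subgroup.le_centralizer_iff.mp ((Subgroup.zpowers_le).mpr
        (fun y hy => by
          obtain ⟨k, rfl⟩ := Subgroup.mem_zpowers_iff.mp hy
          exact ((Commute.zpow_left (show Commute x a from hax x rfl) k)).eq))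
  rw [← Subgroup.relIndex_mul_relIndex C K _ hCK le_sup_left]
  calc (A ⊓ Subgroup.centralizer ((K ⊔ Subgroup.zpowers x : Subgroup E) : Set E)).relIndex A
      ≤ ((A ⊓ Subgroup.centralizer (K : Set E)) ⊓ (A ⊓ Subgroup.centralizer ({x} : Set E))).relIndex A :=
        Nat.le_of_dvd (Nat.pos_of_ne_zero Subgroup.index_ne_zero_of_finite)
          (Subgroup.relIndex_dvd_of_le_left A h3)
    _ ≤ (A ⊓ Subgroup.centralizer (K : Set E)).relIndex A *
          (A ⊓ Subgroup.centralizer ({x} : Set E)).relIndex A := Subgroup.relIndex_inf_le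
    _ ≤ C.relIndex K * 2 := Nat.mul_le_mul hb (h2 x)
    _ ≤ C.relIndex K * K.relIndex (K ⊔ Subgroup.zpowers x) := Nat.mul_le_mul le_rfl (by
        have : K.relIndex (K ⊔ Subgroup.zpowers x) ≠ 0 := Subgroup.index_ne_zero_of_finite
        omega)

/-- Let E be an extraspecial 2-group of order 2^(2m+1) of plus type, that is, containing an elementary abelian subgroup of order 2^(m+1) (equivalently, a central product of m dihedral groups of order 8). Then E has exactly 2^(2m) − 2^m elements of order 4. -/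
theorem result {E : Type*} [Group E] [Finite E] (m : ℕ) (hm : 1 ≤ m) (hE : Cfsg.IsExtraspecial 2 E) (hcard : Nat.card E = 2 ^ (2 * m + 1)) (hplus : ∃ A : Subgroup E, Cfsg.IsElementaryAbelian 2 A ∧ Nat.card A = 2 ^ (m + 1)) : Nat.card {x : E // orderOf x = 4} = 2 ^ (2 * m) - 2 ^ m := by
  obtain ⟨⟨hPg, hfr, hcom⟩, hZ⟩ := hE
  obtain ⟨A, ⟨hAc, hA2⟩, hAcard⟩ := hplus
  haveI := hAc
  set Z := Subgroup.center E with hZdef
  have hcomZ : ∀ a b : E, ⁅a, b⁆ ∈ Z := fun a b => by
    rw [← hcom, commutator_def]; exact Subgroup.commutator_mem_commutator (Subgroup.mem_top a) (Subgroup.mem_top b)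
  have hZ2 : ∀ c ∈ Z, ∀ d ∈ Z, c ≠ 1 → d ≠ 1 → c = d := by
    intro c hc d hd hc1 hd1
    obtain ⟨u, v, huv, huni⟩ := Nat.card_eq_two_iff.mp hZ
    have key : ∀ e : Z, (e : E) ≠ 1 → ∀ f : Z, (f : E) ≠ 1 → e = f := by
      intro e he f hf
      have h1 : (1 : Z) = u ∨ (1 : Z) = v := by
        simpa using huni.ge (Set.mem_univ (1 : Z))
      have h2 : e = u ∨ e = v := by simpa using huni.ge (Set.mem_univ e)
      have h3 : f = u ∨ f = v := by simpa using huni.ge (Set.mem_univ f)
      have he' : e ≠ 1 := fun h => he (by rw [h]; rfl)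
      have hf' : f ≠ 1 := fun h => hf (by rw [h]; rfl)
      grind
    exact congrArg Subtype.val (key ⟨c, hc⟩ hc1 ⟨d, hd⟩ hd1)
  have hsq : ∀ y : E, y ^ 2 ∈ Z := fun y => by
    rw [← hfr]; exact CfsgLib.OddOmega.pow_mem_frattini hPg y
  have h2 : ∀ g : E, (A ⊓ Subgroup.centralizer ({g} : Set E)).relIndex A ≤ 2 := by
    intro g
    let φ : ↥A →* ↥Z :=
      { toFun := fun a => ⟨⁅(a : E), g⁆, hcomZ _ _⟩
        map_one' := Subtype.ext (commutatorElement_one_left g)
        map_mul' := fun a b => Subtype.ext (by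
          show ⁅(a : E) * b, g⁆ = ⁅(a : E), g⁆ * ⁅(b : E), g⁆
          rw [show ⁅(a : E) * b, g⁆ = (a : E) * ⁅(b : E), g⁆ * (a : E)⁻¹ * ⁅(a : E), g⁆ by group,
            Subgroup.mem_center_iff.mp (hcomZ (b : E) g) (a : E), mul_assoc ⁅(b : E), g⁆,
            mul_inv_cancel, mul_one]
          exact (Subgroup.mem_center_iff.mp (hcomZ (b : E) g) _).symm) }
    have hk : (A ⊓ Subgroup.centralizer ({g} : Set E)).subgroupOf A = φ.ker := by
      ext a
      rw [Subgroup.mem_subgroupOf, Subgroup.mem_inf, MonoidHom.mem_ker, Subtype.ext_iff]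
      show _ ↔ ⁅(a : E), g⁆ = 1
      rw [commutatorElement_eq_one_iff_mul_comm, Subgroup.mem_centralizer_singleton_iff]
      exact ⟨fun h => h.2, fun h => ⟨a.2, h⟩⟩
    rw [Subgroup.relIndex, hk, Subgroup.index_ker]
    exact (Subgroup.card_le_card_group _).trans hZ.le
  set C := Subgroup.centralizer (A : Set E) with hC
  have hAC : A ≤ C := Subgroup.le_centralizer A
  have hpow : 0 < 2 ^ m := Nat.two_pow_pos m
  have hCA : C = A := by
    refine (Subgroup.eq_of_le_of_card_ge hAC ?_).symm
    have h3 := relIndex_inf_center_le A h2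
    have h4 := Subgroup.card_mul_index (((A ⊓ Z).subgroupOf A))
    rw [Nat.card_congr (Subgroup.subgroupOfEquivOfLe (inf_le_left : A ⊓ Z ≤ A)).toEquiv, hAcard] at h4
    have h5 : Nat.card ↥(A ⊓ Z) ≤ 2 := (Subgroup.card_le_of_le inf_le_right).trans hZ.le
    have h6 := C.card_mul_index
    rw [hcard, show 2 * m + 1 = (m + 1) + m by ring, pow_add] at h6
    have h7 : 2 ^ m ≤ C.index := by
      refine le_trans ?_ h3
      rw [Subgroup.relIndex]
      rw [pow_succ] at h4
      nlinarith
    rw [hAcard]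
    nlinarith
  have hZA : Z ≤ A := hCA ▸ Subgroup.center_le_centralizer _
  have hAn : ∀ y ∉ A, ∃ a ∈ A, ¬ Commute y a := by
    intro y hy
    by_contra h
    push Not at h
    exact hy (hCA ▸ fun a ha => (h a ha).eq.symm)
  classical
  let ch : E ⧸ A → E := fun c =>
    if h : ∃ a ∈ A, ¬ Commute c.out a then h.choose else 1
  have hch : ∀ y ∉ A, ch y ∈ A ∧ ¬ Commute y (ch y) := by
    intro y hy
    obtain ⟨a', ha'⟩ := QuotientGroup.mk_out_eq_mul A y
    have hout : (y : E ⧸ A).out ∉ A := by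
      rw [ha']
      exact fun h => hy (by simpa using mul_mem h (inv_mem a'.2))
    have hex := hAn _ hout
    simp only [ch, dif_pos hex]
    obtain ⟨h1, h1'⟩ := hex.choose_spec
    generalize hex.choose = w at *
    refine ⟨h1, fun h => h1' ?_⟩
    rw [ha']
    exact h.mul_left (show Commute (a' : E) w from
      congrArg Subtype.val (mul_comm' a' (⟨w, h1⟩ : A)))
  let f : E → E := fun y => y * ch y
  have hmk : ∀ y ∉ A, ((f y : E) : E ⧸ A) = y := fun y hy =>
    QuotientGroup.mk_mul_of_mem y (hch y hy).1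
  have hff : ∀ y ∉ A, f y ∉ A ∧ f (f y) = y ∧ ((f y) ^ 2 ≠ 1 ↔ y ^ 2 = 1) := by
    intro y hy
    obtain ⟨ha, hna⟩ := hch y hy
    have hfy : f y ∉ A := fun h => hy (by simpa [f] using mul_mem h (inv_mem ha))
    refine ⟨hfy, ?_, ?_⟩
    · show f y * ch (f y) = y
      rw [hmk y hy]
      show y * ch y * ch y = y
      rw [mul_assoc, ← pow_two, hA2 _ ha, mul_one]
    · show (y * ch y) ^ 2 ≠ 1 ↔ _
      have hne : (y * ch y) ^ 2 ≠ y ^ 2 := by
        intro h
        apply hna
        have e : ch y * y * ch y = y := by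
          have h9 : y * (ch y * y * ch y) = y * y := by
            rw [pow_two, pow_two] at h
            simpa [mul_assoc] using h
          exact mul_left_cancel h9
        show y * ch y = ch y * y
        calc y * ch y = ch y * y * ch y * ch y := by rw [e]
          _ = ch y * y := by rw [mul_assoc (ch y * y), ← pow_two, hA2 _ ha, mul_one]
      constructor
      · intro h
        by_contra h'
        exact hne (hZ2 _ (hsq _) _ (hsq _) h h')
      · intro h h'
        exact hne (h'.trans h.symm)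
  have hord : ∀ y : E, orderOf y = 4 ↔ y ^ 2 ≠ 1 := by
    intro y
    constructor
    · intro h h'
      have := orderOf_dvd_of_pow_eq_one h'
      rw [h] at this
      norm_num at this
    · intro h
      refine orderOf_eq_prime_pow (p := 2) (n := 1) (by simpa using h) ?_
      show y ^ 2 ^ 2 = 1
      rw [show 2 ^ 2 = 2 * 2 by norm_num, pow_mul]
      exact hA2 _ (hZA (hsq y))
  have hnA : ∀ y : E, y ^ 2 ≠ 1 → y ∉ A := fun y h hy => h (hA2 _ hy)
  let e : {y : E // orderOf y = 4} ≃ {y : E // y ^ 2 = 1 ∧ y ∉ A} :=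
    { toFun := fun y => ⟨f y.1, by
        have h := hff _ (hnA _ ((hord _).mp y.2))
        exact ⟨by_contra fun h' => ((hord _).mp y.2) (h.2.2.mp h'), h.1⟩⟩
      invFun := fun y => ⟨f y.1, (hord _).mpr ((hff _ y.2.2).2.2.mpr y.2.1)⟩
      left_inv := fun y => Subtype.ext (hff _ (hnA _ ((hord _).mp y.2))).2.1
      right_inv := fun y => Subtype.ext (hff _ y.2.2).2.1 }
  have hsum : Nat.card {y : E // orderOf y = 4} + Nat.card {y : E // y ^ 2 = 1 ∧ y ∉ A} +
      Nat.card A = Nat.card E := by
    haveI := Fintype.ofFinite E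
    simp only [Nat.card_eq_fintype_card, Fintype.card_subtype]
    rw [← Finset.card_union_of_disjoint, ← Finset.card_union_of_disjoint, ← Finset.card_univ]
    · congr 1
      ext y
      simp only [Finset.mem_union, Finset.mem_filter, Finset.mem_univ, true_and, hord, iff_true]
      tauto
    · rw [Finset.disjoint_left]
      intro y hy hy'
      simp only [Finset.mem_union, Finset.mem_filter, Finset.mem_univ, true_and, hord] at hy hy'
      rcases hy with hy | hy
      · exact hnA y hy hy'
      · exact hy.2 hy'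
    · rw [Finset.disjoint_left]
      intro y hy hy'
      simp only [Finset.mem_filter, Finset.mem_univ, true_and, hord] at hy hy'
      exact hy hy'.1
  rw [← Nat.card_congr e, hcard, hAcard, show 2 * m + 1 = (2 * m) + 1 from rfl, pow_succ, pow_succ] at hsum
  omega

end Cfsg.Agent.S2880
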