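import Cfsg.Statements.S2881
import Cfsg.Agent.Lib.Extraspecial.TwoTypes

set_option autoImplicit false
open Cfsg

namespace Cfsg.Agent.S2881

/-- Let E be an extraspecial 2-group of order 2^(2m+1) of plus type (containing an elementary abelian subgroup of order 2^(m+1)), and let ω be an automorphism of E of order 5 whose fixed points are exactly the centre of E. Then m is divisible by 4. -/
theorem result {E : Type*} [Group E] [Finite E] (m : ℕ) (hm : 1 ≤ m) (hE : Cfsg.IsExtraspecial 2 E) (hcard : Nat.card E = 2 ^ (2 * m + 1)) (hplus : ∃ A : Subgroup E, Cfsg.IsElementaryAbelian 2 A ∧ Nat.card A = 2 ^ (m + 1)) (ω : E ≃* E) (hω : orderOf ω = 5) (hfix : ∀ x : E, ω x = x ↔ x ∈ Subgroup.center E) : 4 ∣ m := by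
  haveI : Fact (Nat.Prime 5) := ⟨by norm_num⟩
  haveI : Fact (Nat.Prime 2) := ⟨Nat.prime_two⟩
  obtain ⟨m', -, hc', hcases⟩ := CfsgLib.Extraspecial.invariants _ E hE rfl
  obtain rfl : m' = m := by
    have := Nat.pow_right_injective le_rfl (hcard.symm.trans hc'); omega
  obtain ⟨A, hA, hAc⟩ := hplus
  have hsq : CfsgLib.Extraspecial.sqOne E = 2 ^ (2 * m') + 2 ^ m' := by
    rcases hcases with ⟨h, -⟩ | ⟨-, h⟩
    · exact h
    · have h1 := h.1 A hA
      rw [hAc] at h1
      exact absurd ((Nat.pow_le_pow_iff_right (le_refl 2)).mp h1) (by omega)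
  let Z := Subgroup.zpowers (ω : MulAut E)
  have hP : IsPGroup 5 Z := IsPGroup.of_card (n := 1) (by rw [Nat.card_zpowers, pow_one]; exact hω)
  have hfix' : ∀ x : E, (∀ g : Z, (g : MulAut E) x = x) ↔ x ∈ Subgroup.center E := by
    intro x
    constructor
    · exact fun h => (hfix x).mp (h ⟨ω, Subgroup.mem_zpowers (ω : MulAut E)⟩)
    · intro hx g
      have hle : Z ≤ MulAction.stabilizer (MulAut E) x :=
        Subgroup.zpowers_le.mpr (show (ω : MulAut E) x = x from (hfix x).mpr hx)
      exact hle g.2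
  let T := {x : E // x ^ 2 = 1}
  letI : MulAction Z T :=
    { smul := fun g x => ⟨(g : MulAut E) x.1, by rw [← map_pow, x.2, map_one]⟩
      one_smul := fun x => Subtype.ext rfl
      mul_smul := fun g h x => Subtype.ext rfl }
  have hcen : ∀ x ∈ Subgroup.center E, x ^ 2 = 1 := fun x hx => by
    have h := pow_card_eq_one' (G := Subgroup.center E) (x := ⟨x, hx⟩)
    rw [hE.2] at h
    exact congrArg Subtype.val h
  have h1 := hP.card_modEq_card_fixedPoints E
  have h2 := hP.card_modEq_card_fixedPoints T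
  have e1 : Nat.card (MulAction.fixedPoints Z E) = 2 := by
    rw [← hE.2]
    exact Nat.card_congr (Equiv.setCongr (Set.ext fun x => hfix' x))
  have e2 : Nat.card (MulAction.fixedPoints Z T) = 2 := by
    rw [← hE.2]
    exact Nat.card_congr
      { toFun := fun x => ⟨x.1.1, (hfix' _).mp fun g => congrArg Subtype.val (x.2 g)⟩
        invFun := fun x => ⟨⟨x.1, hcen _ x.2⟩, fun g => Subtype.ext ((hfix' _).mpr x.2 g)⟩
        left_inv := fun x => rfl
        right_inv := fun x => rfl }
  have hT : Nat.card T = 2 ^ (2 * m') + 2 ^ m' := hsq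
  rw [e1, hcard] at h1
  rw [e2, hT] at h2
  simp only [Nat.ModEq] at h1 h2
  have key : ∀ a k : ℕ, 2 ^ (4 * a + k) % 5 = 2 ^ k % 5 := fun a k => by
    rw [pow_add, pow_mul, Nat.mul_mod, Nat.pow_mod]; norm_num
  obtain ⟨a, r, hr, rfl⟩ : ∃ a r, r < 4 ∧ m' = 4 * a + r :=
    ⟨m' / 4, m' % 4, Nat.mod_lt _ (by norm_num), (Nat.div_add_mod m' 4).symm⟩
  rw [show 2 * (4 * a + r) + 1 = 4 * (2 * a) + (2 * r + 1) by ring, key] at h1
  rw [show 2 * (4 * a + r) = 4 * (2 * a) + 2 * r by ring, Nat.add_mod, key, key] at h2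
  interval_cases r <;> first | omega | (norm_num at h1) | (norm_num at h2) | (norm_num at h1 h2; omega)

end Cfsg.Agent.S2881
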