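import Cfsg.Statements.S5170
import Cfsg.Agent.Lib.Golay.SylowTwoSimple
import Cfsg.Agent.Lib.Golay.MathieuFacts

set_option autoImplicit false
open Cfsg

namespace Cfsg.Agent.S5170

open CfsgLib.Golay CfsgLib.Golay.SylowTwo
open scoped Pointwise

theorem hin : ∀ P, inM24 P = true → validP P = true ∧ toPerm P ∈ Cfsg.M24 := fun P h =>
  ⟨by simp only [inM24, Bool.and_eq_true] at h; exact h.1, toPerm_mem_M24 h⟩

theorem hcard : Nat.card Cfsg.M24 = 2 ^ 10 * 239085 := by rw [natCard_M24]; norm_num

/-- the certificate of M24 -/
def data : Data where
  gens := [887536823019500006539086228127073456,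
    91381922780970132772991348060278277,
    722565240647916453095758030526570064,
    638925738553073538729536811039870401,
    398801231526973045664453934096683009,
    943991892970374580361961780749373472,
    882347074556571235891377114639350816,
    944009634069381251934701470364305864,
    398960961705607082742499492608841760,
    398981241912653845706389259657906177]
  cs := [(0, [293, 146, 101, 32, 2, 8, 1, 16, 4]),
    (39, [156, 91, 32, 2, 24, 3, 16, 20]),
    (26, [68, 55, 16, 8, 20, 2, 3]),
    (60, [37, 2, 24, 3, 16, 20]),
    (0, [16, 26, 4, 2, 1]),
    (0, [8, 4, 2, 1]),
    (0, [4, 2, 1]),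
    (0, [2, 1]),
    (0, [1]),
    (0, [])]
  d := 4
  z := 801036954194895617423175971035074592
  steps := [.conj 0 458800917027546168299836390815838416 398818985031982012145734829115541774,
    .conj 1 585903319796859466998705982092347919 984412589869754053874818635440294158,
    .mul 1 2,
    .conj 3 192481956918590935875591380666665128 139684541565862590408508699856061472,
    .conj 4 598068167255673875007986861321147636 817934724374489260414636640623560880,
    .mul 4 1,
    .mul 6 5,
    .mul 7 2,
    .mul 8 4,
    .mul 9 5,
    .conj 10 598578721459434121598922628754115188 817928381846916454847035850932012288,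
    .mul 9 7,
    .mul 12 3,
    .conj 13 653510855038194884589295617114967618 434940290039285463330118079482582286,
    .mul 4 5,
    .mul 12 14,
    .mul 16 9,
    .mul 11 2,
    .mul 18 17,
    .mul 12 7,
    .mul 20 19,
    .mul 0 8,
    .mul 22 8,
    .mul 12 12,
    .mul 0 4,
    .mul 4 13,
    .mul 0 24,
    .mul 1 9,
    .mul 28 20]
  sqs := [[836458061509880605278305097822329266],
    [839273528491748315015011880870061512],
    [638758408364894374514646515575315712],
    [461612708536311514915448108561959085],
    [434945363656635512753547079369502152],
    [318806956390843369804620812134355536]]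
  classes := [(8, 352547), (16, 16424668)]

theorem data_ok : data.ok inM24 = true := by decide +kernel

/-- The 2-fusion system of the Mathieu group M₂₄ (as the explicit permutation group of the 24 points preserving the binary Golay code) on a Sylow 2-subgroup is simple: saturated, over a nontrivial 2-group, with no normal subsystem other than the trivial one and itself. -/
theorem result (S : Sylow 2 Cfsg.M24) : (Cfsg.groupFusionSystem (S : Subgroup Cfsg.M24)).IsSimple 2 := by
  exact isSimple inM24 hin data 10 _ rfl (by norm_num) hcard (by norm_num) data_ok S

end Cfsg.Agent.S5170
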