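import Cfsg.Statements.S2882
import Cfsg.Agent.S5170

set_option autoImplicit false
open Cfsg
set_option maxHeartbeats 1600000

namespace Cfsg.Agent.S2882

open CfsgLib.Golay CfsgLib.Golay.SylowTwo
open scoped Pointwise

attribute [local irreducible] idP toPerm mulP validP

/-- the classes separate the orbits and cover all points -/
def coverOK (D : Data) : Bool :=
  (List.range 24).all fun i => D.classes.any fun c => c.2.testBit i && pop 24 c.2 == c.1

/-- A permutation of odd order centralizing the group is trivial when it fixes all orbits. -/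
theorem point_fix {D : Data} (hv : ∀ g ∈ D.gens, validP g = true) (horb : orbOK D.gens = true)
    (hcls : ∀ c ∈ D.classes, ∀ i ∈ List.range 24, c.2.testBit i = (pop 24 (orb D.gens i) == c.1))
    (hcover : coverOK D = true) (γ : Equiv.Perm GolayPt)
    (hg1 : ∀ x ∈ HS D.gens, γ * x * γ⁻¹ ∈ HS D.gens)
    (hg2 : ∀ x ∈ HS D.gens, γ⁻¹ * x * γ ∈ HS D.gens)
    (hmask : ∀ g : Equiv.Perm GolayPt, (∀ x ∈ HS D.gens, g * x * g⁻¹ ∈ HS D.gens) →
      (∀ x ∈ HS D.gens, g⁻¹ * x * g ∈ HS D.gens) →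
      ∀ c ∈ D.classes, ∀ p, g p ∈ dec c.2 ↔ p ∈ dec c.2)
    (hcomm : ∀ x ∈ HS D.gens, γ * x = x * γ) (hodd : ¬ 2 ∣ orderOf γ)
    {k : ℕ} (hk : Nat.card (HS D.gens) = 2 ^ k) : γ = 1 := by
  refine Equiv.ext fun p => ?_
  simp only [coverOK, List.all_eq_true, List.any_eq_true, Bool.and_eq_true, beq_iff_eq] at hcover
  obtain ⟨c, hc, hbit, hpop⟩ := hcover (idx p) (List.mem_range.2 (idx_lt p))
  have hsize : pop 24 (orb D.gens (idx p)) = c.1 := by
    have := hcls c hc (idx p) (List.mem_range.2 (idx_lt p))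
    rw [hbit, eq_comm, beq_iff_eq] at this
    exact this
  have hsub : dec (orb D.gens (idx p)) ⊆ dec c.2 := by
    intro q hq
    have hq' : q ∈ MulAction.orbit (HS D.gens) p := by rw [orbit_HS hv horb]; exact hq
    obtain ⟨⟨x, hx⟩, rfl⟩ := hq'
    refine (hmask x (fun y hy => mul_mem (mul_mem hx hy) (inv_mem hx))
      (fun y hy => mul_mem (mul_mem (inv_mem hx) hy) hx) c hc p).2 (mem_dec.2 hbit)
  have heq : dec (orb D.gens (idx p)) = dec c.2 := Finset.eq_of_subset_of_card_le hsub (by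
    rw [← pop_eq_card, ← pop_eq_card, hpop, hsize])
  have hγp : γ p ∈ MulAction.orbit (HS D.gens) p := by
    rw [orbit_HS hv horb, Finset.mem_coe, heq]
    exact (hmask γ hg1 hg2 c hc p).2 (mem_dec.2 hbit)
  obtain ⟨⟨b, hb⟩, hbp⟩ := hγp
  have hbp' : b p = γ p := hbp
  have hpow : ∀ n : ℕ, (γ ^ n) p = (b ^ n) p := by
    intro n
    induction n with
    | zero => simp
    | succ n ih =>
      rw [pow_succ, Equiv.Perm.mul_apply, ← hbp', ← Equiv.Perm.mul_apply,
        (show Commute γ b from hcomm b hb).pow_left n |>.eq, Equiv.Perm.mul_apply, ih,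
        ← Equiv.Perm.mul_apply, ← pow_succ']
  have hbn : (b ^ orderOf γ) p = p := by
    rw [← hpow, pow_orderOf_eq_one, Equiv.Perm.one_apply]
  have hcop : (orderOf γ).Coprime (orderOf b) := by
    refine Nat.Coprime.coprime_dvd_right (hk ▸ Subgroup.orderOf_dvd_natCard _ hb) ?_
    exact Nat.Coprime.pow_right _ ((Nat.prime_two.coprime_iff_not_dvd.2 hodd).symm)
  obtain ⟨m, hm⟩ := exists_pow_eq_self_of_coprime hcop
  have hfix : ∀ j : ℕ, ((b ^ orderOf γ) ^ j) p = p := by
    intro j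
    induction j with
    | zero => rfl
    | succ j ih => rw [pow_succ', Equiv.Perm.mul_apply, ih, hbn]
  rw [← hbp', ← hm, hfix, Equiv.Perm.one_apply]

/-- An element of odd order normalizing the certified Sylow subgroup is trivial. -/
theorem odd_normalizer {G : Subgroup (Equiv.Perm GolayPt)} (inG : ℕ → Bool)
    (hin : ∀ P, inG P = true → validP P = true ∧ toPerm P ∈ G) (D : Data) (k m : ℕ)
    (hk : D.gens.length = k) (hcard : Nat.card G = 2 ^ k * m) (hm : ¬ 2 ∣ m)
    (hok : D.ok inG = true) (hcover : coverOK D = true) :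
    ∃ B : Sylow 2 G, ∀ g ∈ Subgroup.normalizer ((B : Subgroup G) : Set G),
      ¬ 2 ∣ orderOf g → (g : Equiv.Perm GolayPt) = 1 := by
  classical
  have : Fact (Nat.Prime 2) := ⟨Nat.prime_two⟩
  simp only [Data.ok, Bool.and_eq_true, decide_eq_true_eq, List.all_eq_true, List.any_eq_true,
    Bool.or_eq_true, Bool.not_eq_true', beq_iff_eq] at hok
  obtain ⟨⟨⟨⟨⟨⟨⟨⟨⟨⟨⟨⟨hpc, hgG⟩, hd⟩, hvz⟩, hcen⟩, hsteps⟩, hsq⟩, hsqlen⟩, hsqw⟩, horb⟩, hcls⟩,
    htake⟩, hcens⟩ := hok
  set B := HS D.gens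
  set H := HS (D.gens.drop D.d) with hH
  have hv := validP_of_pcOK hpc
  have hel := els_mem hv
  have hvd : ∀ g ∈ D.gens.drop D.d, validP g = true := fun g hg => hv g (List.mem_of_mem_drop hg)
  have helH := els_mem hvd
  have hvt : ∀ g ∈ D.gens.take D.d, validP g = true := fun g hg => hv g (List.mem_of_mem_take hg)
  have helT := els_mem hvt
  have hBG : B ≤ G := by
    refine (Subgroup.closure_le _).2 ?_
    rintro _ ⟨P, hP, rfl⟩
    exact (hin P (hgG P hP)).2
  have hHB : H ≤ B := Subgroup.closure_mono fun σ ⟨Q, hQ, e⟩ => ⟨Q, List.mem_of_mem_drop hQ, e⟩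
  have hTB : HS (D.gens.take D.d) ≤ B :=
    Subgroup.closure_mono fun σ ⟨Q, hQ, e⟩ => ⟨Q, List.mem_of_mem_take hQ, e⟩
  have hcardB : Nat.card B = 2 ^ k := by rw [card_HS hpc, hk]
  let B' : Subgroup G := B.subgroupOf G
  have hcardB' : Nat.card B' = 2 ^ (Nat.card G).factorization 2 := by
    rw [Nat.card_congr (Subgroup.subgroupOfEquivOfLe hBG).toEquiv, hcardB, hcard,
      Nat.factorization_mul (by positivity) (fun h => hm (by rw [h]; exact dvd_zero 2)), Finsupp.add_apply,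
      Nat.factorization_eq_zero_of_not_dvd hm, Nat.factorization_pow]
    simp [Nat.prime_two.factorization_self]
  have hsqH : ∀ x ∈ B, x * x ∈ H := by
    intro x hx
    obtain ⟨P, hP, rfl⟩ := exists_els hpc x hx
    obtain ⟨Q, hQ, he⟩ := hsq P hP
    rw [← toPerm_mulP (hel P hP).1 (hel P hP).1,
      toPerm_eq_of_eqP (validP_mulP (hel P hP).1 (hel P hP).1) (helH Q hQ).1 he]
    exact (helH Q hQ).2
  have hnorm : ∀ x ∈ B, ∀ h ∈ H, x * h * x⁻¹ ∈ H := by
    intro x hx h hh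
    rw [show x * h * x⁻¹ = (x * h) * (x * h) * h⁻¹ * (x⁻¹ * x⁻¹) by group]
    exact mul_mem (mul_mem (hsqH _ (mul_mem hx (hHB hh))) (inv_mem hh)) (hsqH _ (inv_mem hx))
  have hHsq : H ≤ Subgroup.closure {y | ∃ x ∈ B, y = x * x} := by
    refine (Subgroup.closure_le _).2 ?_
    rintro _ ⟨P, hP, rfl⟩
    obtain ⟨i, hi, rfl⟩ := List.getElem_of_mem hP
    have hz : ((D.gens.drop D.d)[i], D.sqs[i]'(hsqlen ▸ hi)) ∈ (D.gens.drop D.d).zip D.sqs := by
      rw [List.mem_iff_getElem]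
      exact ⟨i, by rw [List.length_zip, hsqlen, min_self]; exact hi, by simp⟩
    obtain ⟨h1, h2⟩ := hsqw _ hz
    have hprod : ∀ l : List ℕ, (∀ q ∈ l, validP q = true ∧ ∃ Q ∈ els D.gens, eqP q Q = true) →
        validP (sqProd l) = true ∧
          toPerm (sqProd l) ∈ Subgroup.closure {y | ∃ x ∈ B, y = x * x} := by
      intro l
      induction l with
      | nil => exact fun _ => ⟨validP_idP, by rw [sqProd, toPerm_idP]; exact one_mem _⟩
      | cons q l ih =>
        intro hl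
        simp only [List.mem_cons, forall_eq_or_imp] at hl
        obtain ⟨⟨hvq, Q, hQ, hqQ⟩, hl'⟩ := hl
        obtain ⟨h3, h4⟩ := ih hl'
        refine ⟨validP_mulP (validP_mulP hvq hvq) h3, ?_⟩
        rw [sqProd, toPerm_mulP (validP_mulP hvq hvq) h3, toPerm_mulP hvq hvq]
        refine mul_mem (Subgroup.subset_closure ⟨_, ?_, rfl⟩) h4
        rw [toPerm_eq_of_eqP hvq (hel Q hQ).1 hqQ]
        exact (hel Q hQ).2
    obtain ⟨h3, h4⟩ := hprod _ h1
    show toPerm _ ∈ _
    rw [toPerm_eq_of_eqP (hvd _ hP) h3 h2]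
    exact h4
  -- normalizing elements respect the census
  have hgH_of : ∀ g : Equiv.Perm GolayPt, (∀ x ∈ B, g * x * g⁻¹ ∈ B) → ∀ h ∈ H, g * h * g⁻¹ ∈ H := by
    intro g hg h hh
    have : Subgroup.closure {y | ∃ x ∈ B, y = x * x} ≤ H.comap (MulAut.conj g).toMonoidHom := by
      refine (Subgroup.closure_le _).2 ?_
      rintro _ ⟨x, hx, rfl⟩
      show g * (x * x) * g⁻¹ ∈ H
      rw [show g * (x * x) * g⁻¹ = (g * x * g⁻¹) * (g * x * g⁻¹) by group]
      exact hsqH _ (hg x hx)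
    exact this (hHsq hh)
  have hmask_of : ∀ g : Equiv.Perm GolayPt, (∀ x ∈ B, g * x * g⁻¹ ∈ B) →
      (∀ x ∈ B, g⁻¹ * x * g ∈ B) → ∀ c ∈ D.classes, ∀ p, g p ∈ dec c.2 ↔ p ∈ dec c.2 := by
    intro g hg hg' c hc p
    have key : ∀ q, q ∈ dec c.2 ↔ Nat.card (MulAction.orbit B q) = c.1 := by
      intro q
      rw [orbit_HS hv horb, Nat.card_coe_set_eq, Set.ncard_coe_finset, ← pop_eq_card, mem_dec,
        hcls c hc (idx q) (List.mem_range.2 (idx_lt q)), beq_iff_eq]
    rw [key, key]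
    suffices Nat.card (MulAction.orbit B (g p)) = Nat.card (MulAction.orbit B p) by rw [this]
    have he : MulAction.orbit B (g p) = (fun q => g q) '' MulAction.orbit B p := by
      ext q
      constructor
      · rintro ⟨⟨x, hx⟩, rfl⟩
        exact ⟨(g⁻¹ * x * g) p, ⟨⟨_, hg' x hx⟩, rfl⟩, by simp [Subgroup.smul_def]⟩
      · rintro ⟨_, ⟨⟨x, hx⟩, rfl⟩, rfl⟩
        exact ⟨⟨_, hg x hx⟩, by simp [Subgroup.smul_def]⟩
    rw [he, Nat.card_image_of_injective g.injective]
  have hodd : ∀ g : Equiv.Perm GolayPt, (∀ x ∈ B, g * x * g⁻¹ ∈ B) →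
      (∀ x ∈ B, g⁻¹ * x * g ∈ B) → ∀ a ∈ D.gens.take D.d,
      (toPerm a)⁻¹ * (g * g * toPerm a * (g * g)⁻¹) ∈ H := by
    intro g hg hg' a ha
    set L := els (D.gens.drop D.d) with hL
    set K := (els (D.gens.take D.d)).filter fun r =>
      (census D.classes L r).isPerm (census D.classes L a) with hKdef
    have hva := hvt a ha
    obtain ⟨r0, hr0, hr0a⟩ := htake a ha
    have e0 := toPerm_eq_of_eqP hva (helT r0 hr0).1 hr0a
    -- censuses are read on the permutations
    let code' : Equiv.Perm GolayPt → List (ℕ × ℕ) := fun σ =>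
      D.classes.map fun c => (fx c.2 σ, fx c.2 (σ * σ))
    let coset : Equiv.Perm GolayPt → List (Equiv.Perm GolayPt) := fun ρ =>
      L.map fun h => ρ * toPerm h
    have hcensus : ∀ r, validP r = true →
        census D.classes L r = (coset (toPerm r)).map code' := by
      intro r hr
      simp only [census, coset, List.map_map]
      refine List.map_congr_left fun h hh => ?_
      have h1 := validP_mulP hr (helH h hh).1
      simp only [Function.comp_apply, code, code', ← toPerm_mulP hr (helH h hh).1]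
      refine List.map_congr_left fun c _ => ?_
      rw [fxP_eq h1, fxP_eq (validP_mulP h1 h1), toPerm_mulP h1 h1]
    have hcoset_mem : ∀ ρ σ, σ ∈ coset ρ ↔ ρ⁻¹ * σ ∈ H := by
      intro ρ σ
      simp only [coset, List.mem_map]
      constructor
      · rintro ⟨h, hh, rfl⟩; simpa using (helH h hh).2
      · intro h
        obtain ⟨P, hP, e⟩ := exists_els (pcOK_drop D.d hpc) _ h
        exact ⟨P, hP, by rw [← e]; group⟩
    have hnd : ∀ ρ, (coset ρ).Nodup := by
      intro ρ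
      have := (nodup_els (pcOK_drop D.d hpc)).map (mul_right_injective ρ)
      rwa [List.map_map] at this
    have hKin : ∀ r ∈ K, r ∈ els (D.gens.take D.d) ∧
        (census D.classes L r).Perm (census D.classes L a) := fun r hr =>
      ⟨(List.mem_filter.1 hr).1, List.isPerm_iff.1 (List.mem_filter.1 hr).2⟩
    refine mem_coset_of_two H g (hgH_of g hg)
      (K.map toPerm) (by rw [List.length_map]; exact hcens a ha)
      ⟨toPerm r0, List.mem_map_of_mem (List.mem_filter.2 ⟨hr0, List.isPerm_iff.2 ?_⟩),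
        by rw [e0, inv_mul_cancel]; exact one_mem _⟩ ?_
    · rw [hcensus _ (helT r0 hr0).1, hcensus _ hva, e0]
    · intro r hr
      obtain ⟨P, hP, rfl⟩ := List.mem_map.1 hr
      obtain ⟨hPT, hPperm⟩ := hKin P hP
      obtain ⟨R, hR, hRe⟩ := exists_els hpc _ (hg _ (hTB (helT P hPT).2))
      obtain ⟨t, ht, b, hb, hte⟩ := els_append (A := D.gens.take D.d) (B := D.gens.drop D.d)
        (by rw [List.take_append_drop]; exact hv) R (by rwa [List.take_append_drop])
      have htP : (toPerm t)⁻¹ * (g * toPerm P * g⁻¹) ∈ H := by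
        rw [hRe, hte, inv_mul_cancel_left]
        exact (helH b hb).2
      refine ⟨toPerm t, List.mem_map_of_mem (List.mem_filter.2 ⟨ht, List.isPerm_iff.2 ?_⟩), htP⟩
      refine List.Perm.trans ?_ hPperm
      rw [hcensus _ (helT t ht).1, hcensus _ (helT P hPT).1]
      have himg : (coset (toPerm t)).Perm ((coset (toPerm P)).map fun σ => g * σ * g⁻¹) := by
        have hinj : Function.Injective fun σ : Equiv.Perm GolayPt => g * σ * g⁻¹ :=
          fun x y h => mul_left_cancel (mul_right_cancel h)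
        refine (List.perm_ext_iff_of_nodup (hnd _) ((hnd _).map hinj)).2 fun σ => ?_
        simp only [List.mem_map, hcoset_mem]
        constructor
        · intro h
          refine ⟨g⁻¹ * σ * g, ?_, by group⟩
          rw [show (toPerm P)⁻¹ * (g⁻¹ * σ * g) = g⁻¹ *
            (((toPerm t)⁻¹ * (g * toPerm P * g⁻¹))⁻¹ * ((toPerm t)⁻¹ * σ)) * g by group]
          have hmem := mul_mem (inv_mem htP) h
          let f : H → H := fun h => ⟨g * (h : Equiv.Perm GolayPt) * g⁻¹, hgH_of g hg _ h.2⟩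
          have hf : Function.Injective f := fun x y hxy => Subtype.ext (hinj (congrArg Subtype.val hxy))
          obtain ⟨w, hw⟩ := (Finite.injective_iff_surjective.1 hf) ⟨_, hmem⟩
          have hw' := congrArg Subtype.val hw
          simp only [f] at hw'
          rw [← hw', show g⁻¹ * (g * (w : Equiv.Perm GolayPt) * g⁻¹) * g = w by group]
          exact w.2
        · rintro ⟨τ, hτ, rfl⟩
          rw [show (toPerm t)⁻¹ * (g * τ * g⁻¹) = (toPerm t)⁻¹ * (g * toPerm P * g⁻¹) *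
            (g * ((toPerm P)⁻¹ * τ) * g⁻¹) by group]
          exact mul_mem htP (hgH_of g hg _ hτ)
      refine (himg.map code').trans (List.Perm.of_eq ?_)
      rw [List.map_map]
      refine List.map_congr_left fun σ _ => ?_
      simp only [Function.comp_apply, code']
      refine List.map_congr_left fun c hc => ?_
      rw [fx_conj _ _ _ (hmask_of g hg hg' c hc),
        show g * σ * g⁻¹ * (g * σ * g⁻¹) = g * (σ * σ) * g⁻¹ by group,
        fx_conj _ _ _ (hmask_of g hg hg' c hc)]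
  refine ⟨Sylow.ofCard B' hcardB', fun g hgN hgo => ?_⟩
  simp only [Sylow.coe_ofCard] at hgN
  set γ : Equiv.Perm GolayPt := (g : Equiv.Perm GolayPt) with hγ
  have hpow : ∀ h : G, h ∈ Subgroup.normalizer (B' : Set G) → ∀ x ∈ B,
      (h : Equiv.Perm GolayPt) * x * (h : Equiv.Perm GolayPt)⁻¹ ∈ B :=
    fun h hh x hx => (Subgroup.mem_normalizer_iff.1 hh ⟨x, hBG hx⟩).1 hx
  have hg1 : ∀ x ∈ B, γ * x * γ⁻¹ ∈ B := hpow g hgN
  have hg2 : ∀ x ∈ B, γ⁻¹ * x * γ ∈ B := fun x hx => by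
    simpa using hpow g⁻¹ (inv_mem hgN) x hx
  have hgH := hgH_of γ hg1
  have hgH2 : ∀ h ∈ H, γ * γ * h * (γ * γ)⁻¹ ∈ H := fun h hh => by
    rw [show γ * γ * h * (γ * γ)⁻¹ = γ * (γ * h * γ⁻¹) * γ⁻¹ by group]
    exact hgH _ (hgH _ hh)
  -- the elements fixed modulo `H` by `γ * γ`
  have hfix : ∀ x ∈ B, x⁻¹ * (γ * γ * x * (γ * γ)⁻¹) ∈ H := by
    intro x hx
    induction hx using Subgroup.closure_induction with
    | mem y hy =>
      obtain ⟨P, hP, rfl⟩ := hy
      rw [← List.take_append_drop D.d D.gens] at hP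
      rcases List.mem_append.1 hP with h | h
      · exact hodd γ hg1 hg2 P h
      · have : toPerm P ∈ H := Subgroup.subset_closure ⟨P, h, rfl⟩
        exact mul_mem (inv_mem this) (hgH2 _ this)
    | one => simp
    | mul y z hy hz ihy ihz =>
      rw [show (y * z)⁻¹ * (γ * γ * (y * z) * (γ * γ)⁻¹) =
        z⁻¹ * (y⁻¹ * (γ * γ * y * (γ * γ)⁻¹)) * z⁻¹⁻¹ * (z⁻¹ * (γ * γ * z * (γ * γ)⁻¹)) by group]
      exact mul_mem (hnorm _ (inv_mem hz) _ ihy) ihz
    | inv y hy ihy =>
      rw [show y⁻¹⁻¹ * (γ * γ * y⁻¹ * (γ * γ)⁻¹) =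
        y * (y⁻¹ * (γ * γ * y * (γ * γ)⁻¹))⁻¹ * y⁻¹ by generalize γ * γ = δ; group]
      exact hnorm _ hy _ (inv_mem ihy)
  let φ : MulAut B' := B'.normalizerMonoidHom ⟨g * g, mul_mem hgN hgN⟩
  have hodd2 : ¬ 2 ∣ orderOf φ := by
    intro h
    refine hgo (h.trans ?_)
    refine (orderOf_map_dvd _ _).trans ?_
    rw [Subgroup.orderOf_mk]
    rw [← pow_two]
    exact orderOf_pow_dvd 2
  have hB'p : IsPGroup 2 B' := IsPGroup.of_card hcardB'
  have hφ : φ = 1 := by
    refine CfsgLib.Coprime.mulAut_eq_one_of_frattini φ ?_ fun x => ?_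
    · obtain ⟨j, hj⟩ := IsPGroup.iff_card.1 (hB'p.to_subgroup (frattini B'))
      rw [hj]
      exact Nat.Coprime.pow_right _ ((Nat.coprime_comm.1 ((Nat.prime_two.coprime_iff_not_dvd).2 hodd2)))
    · have hle : H ≤ ((frattini B').map B'.subtype).map G.subtype := by
        refine hHsq.trans ((Subgroup.closure_le _).2 ?_)
        rintro _ ⟨y, hy, rfl⟩
        exact ⟨⟨y, hBG hy⟩ * ⟨y, hBG hy⟩,
          ⟨(⟨⟨y, hBG hy⟩, hy⟩ : B') * ⟨⟨y, hBG hy⟩, hy⟩, sq_mem_frattini hB'p _, rfl⟩, rfl⟩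
      obtain ⟨_, ⟨w, hw, rfl⟩, hwe⟩ := hle (hfix _ x.2)
      have : x⁻¹ * φ x = w := Subtype.ext (Subtype.ext hwe.symm)
      rw [this]
      exact hw
  have h2 : ∀ y ∈ B', g * g * y * (g * g)⁻¹ = y := fun y hy =>
    congrArg Subtype.val (DFunLike.congr_fun hφ (⟨y, hy⟩ : B'))
  have hgg : g * g ∈ Subgroup.centralizer (B' : Set G) := by
    rw [Subgroup.mem_centralizer_iff]
    exact fun y hy => (mul_inv_eq_iff_eq_mul.1 (h2 y hy)).symm
  obtain ⟨j, hj⟩ : ∃ j, orderOf g = 2 * j + 1 := ⟨orderOf g / 2, by omega⟩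
  have : g = (g * g) ^ (j + 1) := by
    rw [← pow_two, ← pow_mul, show 2 * (j + 1) = orderOf g + 1 by omega, pow_succ,
      pow_orderOf_eq_one, one_mul]
  have hgC : g ∈ Subgroup.centralizer (B' : Set G) := this ▸ Subgroup.pow_mem _ hgg _
  exact (point_fix hv horb hcls hcover γ hg1 hg2 hmask_of (fun x hx => congrArg Subtype.val
    (Subgroup.mem_centralizer_iff.mp hgC ⟨x, hBG hx⟩ hx).symm) (hγ ▸ fun h => hgo (by rwa [Subgroup.orderOf_coe] at h)) hcardB)



/-- In the Mathieu group of degree 24 (realised as the automorphism group of the extended binary Golay code) every Sylow 2-subgroup is self-normalizing. -/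
theorem result (S : Sylow 2 ↥Cfsg.M24) : Subgroup.normalizer ((S : Subgroup ↥Cfsg.M24) : Set ↥Cfsg.M24) = (S : Subgroup ↥Cfsg.M24) := by
  obtain ⟨B, hB⟩ := odd_normalizer CfsgLib.Golay.inM24 Cfsg.Agent.S5170.hin Cfsg.Agent.S5170.data 10 _ rfl
    Cfsg.Agent.S5170.hcard (by norm_num) Cfsg.Agent.S5170.data_ok (by decide +kernel)
  haveI : Fact (Nat.Prime 2) := ⟨Nat.prime_two⟩
  have hBN : IsPGroup 2 ↥(Subgroup.normalizer ((B : Subgroup ↥Cfsg.M24) : Set ↥Cfsg.M24)) := by
    refine IsPGroup.of_card (n := (Nat.card ↥(Subgroup.normalizer ((B : Subgroup ↥Cfsg.M24) : Set ↥Cfsg.M24))).primeFactorsList.length)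
      (Nat.eq_prime_pow_of_unique_prime_dvd Nat.card_pos.ne' fun {r} hr hrd => ?_)
    by_contra hr2
    haveI : Fact r.Prime := ⟨hr⟩
    obtain ⟨x, hx⟩ := exists_prime_orderOf_dvd_card' r hrd
    have hodd : ¬ 2 ∣ orderOf (x : ↥Cfsg.M24) := by
      rw [Subgroup.orderOf_coe, hx]
      exact fun h => hr2 ((Nat.prime_dvd_prime_iff_eq Nat.prime_two hr).mp h).symm
    have h1 : x = 1 := Subtype.ext (Subtype.ext (hB x x.2 hodd))
    rw [h1, orderOf_one] at hx
    exact hr.ne_one hx.symm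
  have hBeq : Subgroup.normalizer ((B : Subgroup ↥Cfsg.M24) : Set ↥Cfsg.M24) = (B : Subgroup ↥Cfsg.M24) :=
    B.3 hBN Subgroup.le_normalizer
  obtain ⟨g, hg⟩ := MulAction.exists_smul_eq ↥Cfsg.M24 B S
  rw [← hg, Sylow.coe_subgroup_smul, Subgroup.pointwise_smul_def]
  refine (Subgroup.map_equiv_normalizer_eq (B : Subgroup ↥Cfsg.M24) (MulAut.conj g)).symm.trans ?_
  rw [hBeq]
  rfl

end Cfsg.Agent.S2882
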