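import Cfsg.Statements.S2898
import Cfsg.Agent.Lib.Coprime.Action
import Cfsg.Agent.Lib.PSolvable.Core
import Cfsg.Agent.Lib.Transfer.Alperin

set_option autoImplicit false
set_option linter.style.haveILetI false
set_option linter.unusedVariables false
open Cfsg

open scoped commutatorElement

namespace Cfsg.Agent.S2898

open CfsgLib.Transfer in
theorem inverts_of_fixedPointFree {G : Type*} [Group G] [Finite G] (O : Subgroup G) [O.Normal]
    (z : G) (hz : z * z = 1) (h : ∀ v ∈ O, z * v = v * z → v = 1) : ∀ v ∈ O, z * v * z = v⁻¹ := by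
  have hzi : z⁻¹ = z := inv_eq_of_mul_eq_one_right hz
  have hmem : ∀ v ∈ O, z * v * z ∈ O := fun v hv => by
    simpa [hzi] using Subgroup.Normal.conj_mem (inferInstance : O.Normal) v hv z
  let f : O → O := fun v => ⟨(v : G)⁻¹ * (z * v * z), O.mul_mem (O.inv_mem v.2) (hmem v v.2)⟩
  have hinj : Function.Injective f := by
    intro v w hvw
    have e : (v : G)⁻¹ * (z * v * z) = (w : G)⁻¹ * (z * w * z) := congrArg Subtype.val hvw
    have e2 : z * w * z = (w : G) * (v : G)⁻¹ * (z * v * z) := by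
      rw [mul_assoc ((w : G)) _ _, e]; group
    have h1 := h ((w : G) * (v : G)⁻¹) (O.mul_mem w.2 (O.inv_mem v.2)) (by
      calc z * ((w : G) * (v : G)⁻¹) = (z * w * z) * z * (v : G)⁻¹ := by
            rw [mul_assoc _ z z, hz, mul_one]; group
        _ = (w : G) * (v : G)⁻¹ * (z * v * z) * z * (v : G)⁻¹ := by rw [e2]
        _ = (w : G) * (v : G)⁻¹ * z * v * (z * z) * (v : G)⁻¹ := by group
        _ = _ := by rw [hz]; group)
    exact Subtype.ext (mul_inv_eq_one.mp h1).symm
  intro u hu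
  obtain ⟨⟨v, hv⟩, hvu⟩ := Finite.surjective_of_injective hinj ⟨u, hu⟩
  have e : v⁻¹ * (z * v * z) = u := congrArg Subtype.val hvu
  rw [← e]
  calc z * (v⁻¹ * (z * v * z)) * z = z * v⁻¹ * z * v * (z * z) := by group
    _ = z * v⁻¹ * z * v := by rw [hz, mul_one]
    _ = (v⁻¹ * (z * v * z))⁻¹ := by rw [mul_inv_rev, mul_inv_rev, mul_inv_rev, inv_inv, hzi]; group

/-- Let G be a finite group of even order with parabolic characteristic 2. If the centre of G ⧸ O(G) is trivial, then O(G) = 1. -/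
theorem result {G : Type*} [Group G] [Finite G] (h2 : 2 ∣ Nat.card G) (hG : Cfsg.IsOfParabolicCharacteristic 2 G) [hN : (Cfsg.oddCore G).Normal] (hZ : Subgroup.center (G ⧸ Cfsg.oddCore G) = ⊥) : Cfsg.oddCore G = ⊥ := by
  haveI := Fact.mk Nat.prime_two
  set O := Cfsg.oddCore G with hO
  obtain ⟨T⟩ := (inferInstance : Nonempty (Sylow 2 G))
  by_contra hne
  have hOc : (Nat.card O).Coprime 2 := CfsgLib.Transfer.pPrimeCore_coprime 2
  -- a central involution of `T` acts fixed-point-freely on `O`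
  have key : ∀ z ∈ (T : Subgroup G), orderOf z = 2 →
      (∀ u ∈ (T : Subgroup G), u * z = z * u) → ∀ v ∈ O, z * v * z = v⁻¹ := by
    intro z hzT hz hzc
    have hzz : z * z = 1 := by rw [← pow_two, ← hz]; exact pow_orderOf_eq_one z
    refine inverts_of_fixedPointFree O z hzz fun v hv hzv => ?_
    set R := Subgroup.zpowers z with hR
    have hRne : R ≠ ⊥ := fun h => by
      rw [hR, Subgroup.zpowers_eq_bot] at h
      rw [h, orderOf_one] at hz
      omega
    set C := Subgroup.normalizer (R : Set G) with hC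
    have hTC : (T : Subgroup G) ≤ C := fun u hu => by
      refine Subgroup.centralizer_le_normalizer _ (Subgroup.mem_centralizer_iff.mpr ?_)
      rintro _ ⟨j, rfl⟩
      exact ((Commute.zpow_right (show Commute u z from hzc u hu) j).eq).symm
    have hchar := hG R (CfsgLib.Transfer.isPGroup_zpowers ⟨1, by rw [pow_one, hz]⟩) hRne ⟨T, hTC⟩
    set Q := Cfsg.pCore 2 C with hQ
    set W := O.subgroupOf C with hW
    haveI hWn : W.Normal := Subgroup.Normal.subgroupOf inferInstance C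
    have hQn : Q.Normal := CfsgLib.Fitting.pCore_normal 2
    have hdisj : Disjoint W Q := by
      rw [disjoint_iff]
      refine CfsgLib.Coprime.inf_eq_bot_of_coprime_card ?_
      refine CfsgLib.PSolvable.coprime_card_of_isPGroup (CfsgLib.Fitting.pCore_isPGroup 2) ?_ |>.symm
      exact hOc.coprime_dvd_left (Subgroup.card_comap_dvd_of_injective O C.subtype C.subtype_injective)
    have hvC : v ∈ C := by
      refine Subgroup.centralizer_le_normalizer _ (Subgroup.mem_centralizer_iff.mpr ?_)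
      rintro _ ⟨j, rfl⟩
      exact (Commute.zpow_left (show Commute z v from hzv) j).eq
    have hvW : (⟨v, hvC⟩ : C) ∈ W := hv
    have hvQ : (⟨v, hvC⟩ : C) ∈ Q := hchar (Subgroup.mem_centralizer_iff.mpr fun q hq =>
      (Subgroup.commute_of_normal_of_disjoint W Q hWn hQn hdisj _ _ hvW hq).eq.symm)
    have := Subgroup.disjoint_def.mp hdisj hvW hvQ
    exact congrArg Subtype.val this
  -- `C(O) ⊓ T = 1`
  set C := Subgroup.centralizer (O : Set G) with hC
  have hodd : ∀ v ∈ O, v * v = 1 → v = 1 := by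
    intro v hv h
    rw [← orderOf_eq_one_iff]
    exact Nat.eq_one_of_dvd_coprimes hOc (O.orderOf_dvd_natCard hv)
      (orderOf_dvd_of_pow_eq_one (by rw [pow_two, h]))
  haveI : Group.IsNilpotent (T : Subgroup G) := T.2.isNilpotent
  obtain ⟨v₀, hv₀, hv₀1⟩ := (Subgroup.bot_or_exists_ne_one O).resolve_left hne
  have hCT : C ⊓ (T : Subgroup G) = ⊥ := by
    by_contra hY
    obtain ⟨Y, ⟨hY1, hYle, hYn⟩, hmin⟩ := (Set.toFinite {Y : Subgroup G | Y ≠ ⊥ ∧
      Y ≤ C ⊓ (T : Subgroup G) ∧ (T : Subgroup G) ≤ Subgroup.normalizer (Y : Set G)}).exists_minimal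
      ⟨_, hY, le_rfl, CfsgLib.Coprime.le_normalizer_inf_of_le
        (by rw [Subgroup.normalizer_eq_top]; exact le_top) Subgroup.le_normalizer⟩
    have hlt := CfsgLib.Coprime.commutator_lt_of_isNilpotent (X := (T : Subgroup G))
      (hYle.trans inf_le_right) le_rfl hYn hY1
    have hcen : ⁅Y, (T : Subgroup G)⁆ = ⊥ := by
      by_contra h
      exact absurd (hmin ⟨h, hlt.le.trans hYle,
        CfsgLib.Coprime.le_normalizer_commutator hYn Subgroup.le_normalizer⟩ hlt.le)
        (not_le_of_gt hlt)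
    obtain ⟨w, hwY, hw⟩ : ∃ w ∈ Y, orderOf w = 2 := by
      haveI : Nontrivial Y := (Subgroup.nontrivial_iff_ne_bot _).mpr hY1
      obtain ⟨k, hk, hk'⟩ := (T.2.to_le (hYle.trans inf_le_right)).nontrivial_iff_card.1 inferInstance
      obtain ⟨w, hw⟩ := exists_prime_orderOf_dvd_card' (G := Y) 2 (hk' ▸ dvd_pow_self 2 hk.ne')
      exact ⟨w, w.2, by rwa [Subgroup.orderOf_coe]⟩
    have hwc : ∀ u ∈ (T : Subgroup G), u * w = w * u := fun u hu =>
      Subgroup.mem_centralizer_iff.mp (Subgroup.commutator_eq_bot_iff_le_centralizer.mp hcen hwY) u hu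
    have h1 := key w (hYle hwY).2 hw hwc v₀ hv₀
    rw [← Subgroup.mem_centralizer_iff.mp (hYle hwY).1 v₀ hv₀, mul_assoc,
      show w * w = 1 by rw [← pow_two, ← hw]; exact pow_orderOf_eq_one w, mul_one] at h1
    exact hv₀1 (hodd v₀ hv₀ (by nth_rw 1 [h1]; exact inv_mul_cancel v₀))
  -- `C(O)` has odd order
  have hCO : C ≤ O := by
    haveI : C.Normal := by rw [hC]; infer_instance
    refine CfsgLib.Transfer.le_pPrimeCore inferInstance ?_
    refine ((Nat.prime_two.coprime_iff_not_dvd).mpr fun hd => ?_).symm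
    obtain ⟨w, hw⟩ := exists_prime_orderOf_dvd_card' (G := C) 2 hd
    rw [← Subgroup.orderOf_coe] at hw
    obtain ⟨k, hk⟩ := CfsgLib.Transfer.exists_map_conj_le_sylow
      (CfsgLib.Transfer.isPGroup_zpowers (p := 2) (x := (w : G)) ⟨1, by rw [pow_one, hw]⟩) T
    have h1 : k * (w : G) * k⁻¹ ∈ C ⊓ (T : Subgroup G) :=
      ⟨Subgroup.Normal.conj_mem inferInstance _ w.2 k, hk ⟨_, Subgroup.mem_zpowers _, rfl⟩⟩
    rw [hCT, Subgroup.mem_bot, conj_eq_one_iff] at h1
    rw [h1, orderOf_one] at hw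
    omega
  -- a central involution
  obtain ⟨z, hzT, hz, hzc⟩ : ∃ z ∈ (T : Subgroup G), orderOf z = 2 ∧
      ∀ u ∈ (T : Subgroup G), u * z = z * u := by
    haveI : Nontrivial (T : Subgroup G) :=
      (Subgroup.nontrivial_iff_ne_bot _).mpr (T.ne_bot_of_dvd_card h2)
    haveI := T.2.center_nontrivial
    obtain ⟨k, hk, hk'⟩ := (T.2.to_subgroup (Subgroup.center (T : Subgroup G))).nontrivial_iff_card.1 inferInstance
    obtain ⟨w, hw⟩ := exists_prime_orderOf_dvd_card' (G := Subgroup.center (T : Subgroup G)) 2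
      (hk' ▸ dvd_pow_self 2 hk.ne')
    rw [← Subgroup.orderOf_coe, ← Subgroup.orderOf_coe] at hw
    exact ⟨_, w.1.2, hw, fun u hu => congrArg Subtype.val (Subgroup.mem_center_iff.mp w.2 ⟨u, hu⟩)⟩
  have hinv := key z hzT hz hzc
  have hzz : z * z = 1 := by rw [← pow_two, ← hz]; exact pow_orderOf_eq_one z
  have hzi : z⁻¹ = z := inv_eq_of_mul_eq_one_right hzz
  have hcen : ∀ g : G, g * z * g⁻¹ * z⁻¹ ∈ O := by
    intro g
    refine hCO (Subgroup.mem_centralizer_iff.mpr fun v hv => ?_)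
    have hv' : g⁻¹ * v * g ∈ O := by
      simpa using Subgroup.Normal.conj_mem (inferInstance : O.Normal) v hv g⁻¹
    have hy : g * z * g⁻¹ * v * (g * z * g⁻¹)⁻¹ = v⁻¹ := by
      rw [mul_inv_rev, mul_inv_rev, inv_inv, hzi]
      calc g * z * g⁻¹ * v * (g * (z * g⁻¹)) = g * (z * (g⁻¹ * v * g) * z) * g⁻¹ := by group
        _ = g * (g⁻¹ * v * g)⁻¹ * g⁻¹ := by rw [hinv _ hv']
        _ = v⁻¹ := by group
    calc v * (g * z * g⁻¹ * z⁻¹) = (g * z * g⁻¹ * v * (g * z * g⁻¹)⁻¹)⁻¹ * (g * z * g⁻¹) * z⁻¹ := by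
          rw [hy]; group
      _ = g * z * g⁻¹ * v⁻¹ * z⁻¹ := by group
      _ = g * z * g⁻¹ * z⁻¹ * (z * v⁻¹ * z⁻¹) := by group
      _ = g * z * g⁻¹ * z⁻¹ * (z * v⁻¹ * z) := by rw [hzi]
      _ = g * z * g⁻¹ * z⁻¹ * v := by rw [hinv _ (O.inv_mem hv), inv_inv]
  have hzO : z ∈ O := by
    rw [← QuotientGroup.eq_one_iff]
    have : (z : G ⧸ O) ∈ Subgroup.center (G ⧸ O) := Subgroup.mem_center_iff.mpr fun g => by
      induction g using QuotientGroup.induction_on with
      | H g =>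
        rw [← QuotientGroup.mk_mul, ← QuotientGroup.mk_mul, QuotientGroup.eq]
        have h := hcen g⁻¹
        have h' := (inferInstance : O.Normal).conj_mem _ (hcen g⁻¹) z⁻¹
        simpa [mul_assoc, hzi, hzz] using h'
    rwa [hZ, Subgroup.mem_bot] at this
  exact absurd (hodd z hzO hzz) (fun h => by rw [h, orderOf_one] at hz; omega)

end Cfsg.Agent.S2898
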