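import Cfsg.Statements.S2906
import Cfsg.Agent.S2905
import Cfsg.Agent.Lib.Layer.FStar
import Cfsg.Agent.Lib.Layer.Radical
import Cfsg.Agent.Lib.Layer.CharPSubnormal
import Cfsg.Agent.Lib.Layer.CommutatorSplit
import Cfsg.Agent.Lib.SylowNumber.Coprime
import Cfsg.Agent.Lib.Splitting.Nilpotent

set_option autoImplicit false
set_option linter.style.haveILetI false
open Cfsg

namespace Cfsg.Agent.S2906


open CfsgLib

variable {P : Type*} [Group P] [Finite P] {p : ℕ} [Fact p.Prime]

/-- A normal `p'`-subgroup of a `p`-minimal group is nilpotent. -/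
theorem nilpotent_of_normal_coprime {S : Sylow p P} {M : Subgroup P} (hM : IsCoatom M)
    (hkey : ∀ X : Subgroup P, (S : Subgroup P) ≤ X → X ≠ ⊤ → X ≤ M)
    (N : Subgroup P) [N.Normal] (hN : ¬ p ∣ Nat.card N) : Group.IsNilpotent N := by
  have hex : ∀ r : ℕ, r.Prime → ∃ R : Sylow r N,
      (S : Subgroup P) ≤ Subgroup.normalizer ((R : Subgroup N).map N.subtype : Set P) := fun r hr => by
    haveI := Fact.mk hr
    exact SylowNumber.exists_invariant_sylow S.2 Subgroup.le_normalizer_of_normal hN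
  by_cases hone : ∃ r : ℕ, r.Prime ∧ ∀ R : Sylow r N, (R : Subgroup N) = ⊤
  · obtain ⟨r, hr, hR⟩ := hone
    haveI := Fact.mk hr
    obtain ⟨R⟩ : Nonempty (Sylow r N) := inferInstance
    exact (IsPGroup.of_equiv (hR R ▸ R.2) Subgroup.topEquiv).isNilpotent
  have hNM : N ≤ M := by
    suffices h : Nat.card N ∣ Nat.card ↥(M ⊓ N) by
      rw [← Subgroup.eq_of_le_of_card_ge inf_le_right (Nat.le_of_dvd Nat.card_pos h)]
      exact inf_le_left
    refine (Nat.dvd_iff_prime_pow_dvd_dvd _ _).mpr fun r k hr hd => ?_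
    haveI := Fact.mk hr
    obtain ⟨R, hSR⟩ := hex r hr
    refine dvd_trans ((pow_dvd_pow r ((hr.pow_dvd_iff_le_factorization Nat.card_pos.ne').mp hd)).trans
      (dvd_of_eq R.card_eq_multiplicity.symm)) ?_
    change Nat.card ↥(R : Subgroup N) ∣ _
    rw [← Subgroup.card_map_of_injective N.subtype_injective]
    refine Subgroup.card_dvd_of_le (le_inf ?_ (Subgroup.map_subtype_le _))
    refine (le_sup_left (b := (S : Subgroup P))).trans (hkey _ le_sup_right fun htop => ?_)
    apply hone
    refine ⟨r, hr, fun R' => Subgroup.eq_top_of_card_eq _ ?_⟩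
    have h1 := Coprime.card_sup_mul_card_inf hSR
    rw [htop, Subgroup.card_top] at h1
    have h2 : Nat.card N ∣ Nat.card ↥((R : Subgroup N).map N.subtype) * Nat.card S :=
      (Subgroup.card_subgroup_dvd_card N).trans (Dvd.intro _ h1)
    have hcop : (Nat.card N).Coprime (Nat.card S) := by
      obtain ⟨k, hk⟩ := IsPGroup.iff_card.mp S.2
      rw [show Nat.card S = p ^ k from hk]
      exact Nat.Coprime.pow_right _ (((Fact.out : p.Prime).coprime_iff_not_dvd.mpr hN).symm)
    have h3 := hcop.dvd_of_dvd_mul_right h2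
    rw [Subgroup.card_map_of_injective N.subtype_injective] at h3
    show Nat.card R' = _
    rw [R'.card_eq_multiplicity, ← R.card_eq_multiplicity]
    exact le_antisymm (Subgroup.card_le_card_group _) (Nat.le_of_dvd Nat.card_pos h3)
  refine Splitting.isNilpotent_of_sylow_normal fun r hr R' => ?_
  haveI := Fact.mk hr
  obtain ⟨R, hSR⟩ := hex r hr
  have hRn : ((R : Subgroup N).map N.subtype).Normal := by
    refine Subgroup.normalizer_eq_top_iff.mp ?_
    by_contra hne
    exact hM.1 (top_le_iff.mp ((Sylow.normalizer_sup_eq_top R).ge.trans (sup_le (hkey _ hSR hne) hNM)))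
  have hRn' : (R : Subgroup N).Normal := by
    rw [← Subgroup.comap_map_eq_self_of_injective N.subtype_injective (R : Subgroup N)]
    exact hRn.comap N.subtype
  haveI := Sylow.unique_of_normal R hRn'
  rwa [Subsingleton.elim R' R]

/-- The order of a perfect group with a central Sylow `p`-subgroup is prime to `p`. -/
theorem not_dvd_card_of_central {X : Type*} [Group X] [Finite X] [Group.IsPerfect X]
    {D : Sylow p X} (hD : (D : Subgroup X) ≤ Subgroup.center X) : ¬ p ∣ Nat.card X := by
  intro hd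
  apply D.ne_bot_of_dvd_card hd
  have hker : (MonoidHom.transferCenterPow X).ker = ⊤ := by
    rw [eq_top_iff, ← Group.IsPerfect.commutator_eq_top (G := X), commutator_def, Subgroup.commutator_le]
    intro a _ b _
    rw [MonoidHom.mem_ker, map_commutatorElement, commutatorElement_eq_one_iff_mul_comm]
    exact Subtype.ext (Subgroup.mem_center_iff.mp (MonoidHom.transferCenterPow X b).2 _)
  refine eq_bot_iff.mpr fun d hd' => Subgroup.mem_bot.mpr ?_
  have h1 : d ^ (Subgroup.center X).index = 1 := by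
    have := congrArg Subtype.val (MonoidHom.mem_ker.mp (hker.ge (Subgroup.mem_top d)))
    simpa [MonoidHom.transferCenterPow_apply] using this
  have h2 : ¬ p ∣ (Subgroup.center X).index := fun h => D.not_dvd_index (h.trans (Subgroup.index_dvd_of_le hD))
  obtain ⟨k, hk⟩ := D.2 ⟨d, hd'⟩
  have hk' : d ^ p ^ k = 1 := congrArg Subtype.val hk
  have := pow_gcd_eq_one.mpr ⟨h1, hk'⟩
  rwa [Nat.Coprime.pow_right k ((Fact.out : p.Prime).coprime_iff_not_dvd.mpr h2).symm, pow_one] at this


theorem le_normalizer_inf {A B L : Subgroup P} (hA : L ≤ Subgroup.normalizer (A : Set P))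
    (hB : L ≤ Subgroup.normalizer (B : Set P)) :
    L ≤ Subgroup.normalizer ((A ⊓ B : Subgroup P) : Set P) := fun x hx =>
  Subgroup.mem_normalizer_fintype fun y hy =>
    ⟨(Subgroup.mem_normalizer_iff.mp (hA hx) y).mp hy.1, (Subgroup.mem_normalizer_iff.mp (hB hx) y).mp hy.2⟩

theorem mem_sup_normalizer {A B : Subgroup P} (hB : B ≤ Subgroup.normalizer (A : Set P)) {x : P}
    (hx : x ∈ A ⊔ B) : ∃ a ∈ A, ∃ b ∈ B, x = a * b := by
  rw [← SetLike.mem_coe, sup_comm, Subgroup.coe_mul_of_left_le_normalizer_right B A hB] at hx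
  obtain ⟨b, hb, a, ha, rfl⟩ := hx
  exact ⟨b * a * b⁻¹, (Subgroup.mem_normalizer_iff.mp (hB hb) a).mp ha, b, hb, by group⟩

theorem normalizer_le_normalizer_centralizer (K : Subgroup P) :
    Subgroup.normalizer (K : Set P) ≤ Subgroup.normalizer (Subgroup.centralizer (K : Set P) : Set P) :=
  Coprime.le_normalizer_centralizer le_rfl

/-- Let P be a finite p-minimal group with O_p(P) = 1, S a Sylow p-subgroup of P and K a component of P. Then O^p(P) = F*(P) = E(P) is generated by the S-conjugates of K, and the subgroup K·N_S(K) is again p-minimal. -/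
theorem result {P : Type*} [Group P] [Finite P] {p : ℕ} [Fact p.Prime] (hP : Cfsg.IsPMinimal p P) (hOp : Cfsg.pCore p P = ⊥) (S : Sylow p P) (K : Subgroup P) (hK : Cfsg.IsComponent K) : Cfsg.pResidual p P = Cfsg.generalizedFittingSubgroup P ∧ Cfsg.generalizedFittingSubgroup P = Cfsg.layer P ∧ Cfsg.layer P = ⨆ s : ↥(S : Subgroup P), K.map (MulAut.conj (s : P)).toMonoidHom ∧ Cfsg.IsPMinimal p ↥(K ⊔ ((S : Subgroup P) ⊓ Subgroup.normalizer (K : Set P))) := by
  obtain ⟨hSn, M, ⟨hM, hSM⟩, huniq⟩ := hP S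
  have hkey : ∀ X : Subgroup P, (S : Subgroup P) ≤ X → X ≠ ⊤ → X ≤ M := by
    intro X hSX hX
    obtain ⟨C, hC, hXC⟩ := (eq_top_or_exists_le_coatom X).resolve_left hX
    rw [← huniq C ⟨hC, hSX.trans hXC⟩]
    exact hXC
  obtain ⟨hclause, -, h3, -, -⟩ :=
    @Cfsg.Agent.S2905.result P _ _ p _ hP S M hM hSM (Subgroup.normalCore_normal M)
  haveI hRn : (Cfsg.pResidual p P).Normal := Transfer.pResidual_normal p P
  have hperf := Layer.isPerfect_of_isComponent hK
  have hsn := hK.1
  -- the components form one `S`-orbit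
  have hKp : p ∣ Nat.card K := by
    by_contra hd
    have hle := Layer.le_pPrimeCore_of_isSubnormal hsn
      (((Fact.out : p.Prime).coprime_iff_not_dvd.mpr hd).symm)
    haveI := Transfer.pPrimeCore_normal p P
    have hnil := nilpotent_of_normal_coprime (S := S) hM hkey (Cfsg.pPrimeCore p P) (fun h =>
      (Fact.out : p.Prime).coprime_iff_not_dvd.mp ((Transfer.pPrimeCore_coprime (G := P) p).symm) h)
    exact Layer.not_isSolvable_of_isComponent hK (Coprime.isSolvable_of_le hle inferInstance)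
  set N := Subgroup.normalClosure (K : Set P) with hNdef
  have hKN : K ≤ N := Subgroup.le_normalClosure
  have hKM : ¬ K ≤ M := fun h => by
    have h1 := hclause K hsn h
    rw [hOp] at h1
    apply CfsgLib.CharCore.not_dvd_relIndex_of_isSubnormal hsn S
    rw [← Subgroup.inf_relIndex_right, inf_comm, le_bot_iff.mp h1, Subgroup.relIndex_bot_left]
    exact hKp
  have hNle : N ≤ Cfsg.layer P :=
    haveI := Layer.layer_normal (G := P)
    Subgroup.normalClosure_le_normal (Layer.isComponent_le_layer hK)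
  have hperfR : ∀ X : Subgroup P, ⁅X, X⁆ = X → X ≤ Cfsg.pResidual p P := fun X hX => by
    have hq := Transfer.isPGroup_quotient_pResidual (p := p) (G := P)
    haveI := hq.isNilpotent
    by_contra hne
    set f := QuotientGroup.mk' (Cfsg.pResidual p P)
    have h1 : ⁅X.map f, X.map f⁆ = X.map f := by rw [← Subgroup.map_commutator, hX]
    have h2 : ¬ Group.IsSolvable ↥(X.map f) := by
      haveI : Group.IsPerfect ↥(X.map f) := Subgroup.isPerfect_iff.mpr h1
      haveI : Nontrivial ↥(X.map f) := (Subgroup.nontrivial_iff_ne_bot _).mpr (fun e => hne (by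
        rwa [Subgroup.map_eq_bot_iff, QuotientGroup.ker_mk'] at e))
      exact Group.IsPerfect.not_isSolvable _
    exact h2 inferInstance
  have hRN : Cfsg.pResidual p P ≤ N := (h3 N Subgroup.normalClosure_normal).resolve_right
    fun h => hKM (hKN.trans (h.trans M.normalCore_le))
  have hlayR : Cfsg.layer P ≤ Cfsg.pResidual p P := hperfR _ Layer.commutator_layer_self
  have hlay : Cfsg.layer P = Cfsg.pResidual p P := le_antisymm hlayR (hRN.trans hNle)
  have hNR : N = Cfsg.layer P := le_antisymm hNle (hlayR.trans hRN)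
  have hF : Cfsg.fittingSubgroup P ≤ Cfsg.pResidual p P := fun x hx =>
    Transfer.mem_pResidual_of_coprime
      ((((Fact.out : p.Prime).coprime_iff_not_dvd.mpr (Layer.CommutatorSplit.not_dvd_card_fitting hOp)).symm).coprime_dvd_left
        (Subgroup.orderOf_dvd_natCard _ hx))
  have hgf : Cfsg.generalizedFittingSubgroup P = Cfsg.layer P :=
    le_antisymm (sup_le le_rfl (hF.trans hlay.ge)) le_sup_left
  set W := ⨆ s : ↥(S : Subgroup P), K.map (MulAut.conj (s : P)).toMonoidHom with hWdef
  have hSE : ∀ g : P, ∃ e ∈ Cfsg.layer P, ∃ s ∈ (S : Subgroup P), g = s * e := by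
    intro g
    haveI := Layer.layer_normal (G := P)
    obtain ⟨s, hs, e, he, h⟩ := Subgroup.mem_sup_of_normal_right.mp
      (show g ∈ (S : Subgroup P) ⊔ Cfsg.layer P by rw [hlay, Transfer.sylow_sup_pResidual S]; trivial)
    exact ⟨e, he, s, hs, h.symm⟩
  have hNW : N ≤ W := by
    refine (Subgroup.closure_le _).mpr fun x hx => ?_
    obtain ⟨a, ha, hax⟩ := Group.mem_conjugatesOfSet_iff.mp hx
    obtain ⟨c, rfl⟩ := isConj_iff.mp hax
    obtain ⟨e, he, s, hs, rfl⟩ := hSE c
    refine (le_iSup (fun s : ↥(S : Subgroup P) => K.map (MulAut.conj (s : P)).toMonoidHom) ⟨s, hs⟩ :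
      _ ≤ W) ⟨e * a * e⁻¹, ?_, ?_⟩
    · exact (Subgroup.mem_normalizer_iff.mp (Layer.component_normal_in_layer hK he) a).mp ha
    · show s * (e * a * e⁻¹) * s⁻¹ = s * e * a * (s * e)⁻¹
      group
  have hW : Cfsg.layer P = W := le_antisymm (hNR ▸ hNW) (iSup_le fun s =>
    Layer.isComponent_le_layer (Layer.isComponent_map_equiv _ hK))
  refine ⟨by rw [hgf, hlay], hgf, hW, ?_⟩
  -- the subgroup `K S₀`
  set S₀ := (S : Subgroup P) ⊓ Subgroup.normalizer (K : Set P) with hS₀
  set H := K ⊔ S₀ with hH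
  have hS₀n : S₀ ≤ Subgroup.normalizer (K : Set P) := inf_le_right
  have hKS : K ⊓ S₀ = K ⊓ (S : Subgroup P) := le_antisymm (inf_le_inf_left _ inf_le_left)
    (le_inf inf_le_left (le_inf inf_le_right (inf_le_left.trans Subgroup.le_normalizer)))
  have hS₀idx : ¬ p ∣ (S₀.subgroupOf H).index := by
    intro hd
    apply CfsgLib.CharCore.not_dvd_relIndex_of_isSubnormal hsn S
    rw [← Subgroup.inf_relIndex_right, inf_comm, ← hKS]
    refine hd.trans (dvd_of_eq ?_)
    have h1 := Coprime.card_sup_mul_card_inf hS₀n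
    have h2 := (S₀.subgroupOf H).card_mul_index
    rw [Nat.card_congr (Subgroup.subgroupOfEquivOfLe le_sup_right).toEquiv] at h2
    have h3 := Coprime.relIndex_mul_card_inf (K ⊓ S₀) K
    rw [inf_eq_left.mpr (inf_le_left : K ⊓ S₀ ≤ K)] at h3
    refine Nat.eq_of_mul_eq_mul_right (Nat.card_pos : 0 < Nat.card ↥(K ⊓ S₀)) ?_
    refine Nat.eq_of_mul_eq_mul_left (Nat.card_pos : 0 < Nat.card S₀) ?_
    rw [← mul_assoc, h2, h3, h1, mul_comm]
  set X₀ := (M ⊓ K) ⊔ S₀ with hX₀
  have hX₀H : X₀ ≤ H := sup_le_sup_right inf_le_right _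
  have hS₀M : S₀ ≤ Subgroup.normalizer ((M ⊓ K : Subgroup P) : Set P) :=
    le_normalizer_inf (inf_le_left.trans (hSM.trans Subgroup.le_normalizer)) hS₀n
  have hX₀ne : X₀ ≠ H := fun e => by
    apply hKM
    intro k hk
    obtain ⟨m, hm, s, hs, rfl⟩ := mem_sup_normalizer hS₀M (show k ∈ X₀ by rw [e]; exact Subgroup.mem_sup_left hk)
    exact M.mul_mem hm.1 (hSM hs.1)
  have hsub : ∀ X : Subgroup P, X ≤ H → S₀ ≤ X → X ≠ H → X ≤ X₀ := by
    intro X hXH hSX hXne
    have hA : X ⊓ K ≤ M := by
      by_contra hAM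
      set A := X ⊓ K with hAdef
      set Y := ⨆ s : ↥(S : Subgroup P), A.map (MulAut.conj (s : P)).toMonoidHom with hY
      have hAY : A ≤ Y := fun a ha =>
        (le_iSup (fun s : ↥(S : Subgroup P) => A.map (MulAut.conj (s : P)).toMonoidHom) 1 : _ ≤ Y)
          ⟨a, ha, by simp⟩
      have hSY : (S : Subgroup P) ≤ Subgroup.normalizer (Y : Set P) := by
        refine Subgroup.le_normalizer_iff.mpr fun t ht => ?_
        have hle : Y ≤ Y.comap (MulAut.conj t).toMonoidHom := iSup_le fun s => by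
          rw [← Subgroup.map_le_iff_le_comap, Subgroup.map_map]
          refine le_trans (le_of_eq ?_) (le_iSup _ (⟨t, ht⟩ * s))
          refine congrArg (fun φ => Subgroup.map φ A) ?_
          ext y
          simp [mul_assoc]
        exact fun y hy => hle hy
      have hYS : Y ⊔ (S : Subgroup P) = ⊤ := by
        by_contra hne
        exact hAM ((hAY.trans le_sup_left).trans (hkey _ le_sup_right hne))
      have hYn : Y.Normal := Subgroup.normalizer_eq_top_iff.mp
        (top_le_iff.mp (hYS.ge.trans (sup_le Subgroup.le_normalizer hSY)))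
      have hNY : N ≤ Y := by
        rw [hNR, hlay]
        exact (h3 Y hYn).resolve_right fun h => hAM (hAY.trans (h.trans M.normalCore_le))
      set B := Subgroup.centralizer (K : Set P)
      have hYAB : Y ≤ A ⊔ B := iSup_le fun s => by
        by_cases hs : (s : P) ∈ Subgroup.normalizer (K : Set P)
        · refine le_trans ?_ le_sup_left
          rintro _ ⟨a, ha, rfl⟩
          have hsX : (s : P) ∈ X := hSX ⟨s.2, hs⟩
          exact ⟨X.mul_mem (X.mul_mem hsX ha.1) (X.inv_mem hsX),
            (Subgroup.mem_normalizer_iff.mp hs a).mp ha.2⟩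
        · refine le_trans ((Subgroup.map_mono inf_le_right).trans ?_) le_sup_right
          refine Subgroup.commutator_eq_bot_iff_le_centralizer.mp
            (Layer.commutator_eq_bot_of_ne (Layer.isComponent_map_equiv _ hK) hK fun e => hs ?_)
          exact Transfer.map_conj_eq_self_iff.mp e
      have hAB : A ≤ Subgroup.normalizer (B : Set P) :=
        inf_le_right.trans (Subgroup.le_normalizer.trans (normalizer_le_normalizer_centralizer K))
      haveI := hK.2.1
      apply hXne
      refine le_antisymm hXH (sup_le ?_ hSX)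
      suffices h : A.subgroupOf K = ⊤ from (Subgroup.subgroupOf_eq_top.mp h).trans inf_le_left
      have hdec : ∀ k : K, ∃ a ∈ A.subgroupOf K, ∃ z ∈ Subgroup.center K, k = a * z := by
        intro k
        obtain ⟨b, hb, a, ha, e⟩ := mem_sup_normalizer hAB
          (show (k : P) ∈ B ⊔ A by rw [sup_comm]; exact hYAB (hNY (hKN k.2)))
        have hba : b * a = a * b := (Subgroup.mem_centralizer_iff.mp hb a ha.2).symm
        have hbK : b ∈ K := by
          rw [show b = (k : P) * a⁻¹ by rw [e, mul_inv_cancel_right]]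
          exact K.mul_mem k.2 (K.inv_mem ha.2)
        exact ⟨⟨a, ha.2⟩, ha, ⟨b, hbK⟩, Subgroup.mem_center_iff.mpr fun g => Subtype.ext
          (Subgroup.mem_centralizer_iff.mp hb g g.2), Subtype.ext (by simp only [Subgroup.coe_mul]; rw [← hba, e])⟩
      haveI : (A.subgroupOf K).Normal := ⟨fun x hx g => by
        obtain ⟨a, ha, z, hz, rfl⟩ := hdec g
        rw [show a * z * x * (a * z)⁻¹ = a * (z * x * z⁻¹) * a⁻¹ by group,
          ← Subgroup.mem_center_iff.mp hz x, mul_inv_cancel_right]
        exact (A.subgroupOf K).mul_mem ((A.subgroupOf K).mul_mem ha hx) ((A.subgroupOf K).inv_mem ha)⟩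
      refine Layer.eq_top_of_sup_center_eq_top (eq_top_iff.mpr fun k _ => ?_)
      obtain ⟨a, ha, z, hz, rfl⟩ := hdec k
      exact Subgroup.mul_mem_sup ha hz
    intro x hx
    obtain ⟨k, hk, s, hs, rfl⟩ := mem_sup_normalizer hS₀n (hXH hx)
    refine Subgroup.mul_mem_sup (show k ∈ M ⊓ K from ?_) hs
    have hkX : k ∈ X := by
      have := X.mul_mem hx (X.inv_mem (hSX hs))
      rwa [mul_inv_cancel_right] at this
    exact ⟨hA ⟨hkX, hk⟩, hk⟩
  let T₀ : Sylow p H := (show IsPGroup p ↥(S₀.subgroupOf H) from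
    (S.2.to_le inf_le_left).comap_of_injective H.subtype H.subtype_injective).toSylow hS₀idx
  have hT₀ : (T₀ : Subgroup H) = S₀.subgroupOf H := rfl
  have hnn : ¬ (S₀.subgroupOf H).Normal := by
    intro hn
    have hnorm := (Subgroup.normal_subgroupOf_iff_le_normalizer (le_sup_right : S₀ ≤ H)).mp hn
    have hDn : K ≤ Subgroup.normalizer ((K ⊓ S₀ : Subgroup P) : Set P) :=
      le_normalizer_inf Subgroup.le_normalizer ((le_sup_left : K ≤ H).trans hnorm)
    haveI : Group.IsNilpotent ↥(K ⊓ S₀) := (S.2.to_le (inf_le_right.trans inf_le_left)).isNilpotent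
    have hc := Layer.commutator_eq_bot_of_isSolvable hK (H := K ⊓ S₀) inferInstance hDn
    haveI := hK.2.1
    let D : Sylow p K := (show IsPGroup p ↥(((S : Subgroup P)).subgroupOf K) from
      S.2.comap_of_injective K.subtype K.subtype_injective).toSylow
        (CfsgLib.CharCore.not_dvd_relIndex_of_isSubnormal hsn S)
    refine not_dvd_card_of_central (X := K) (D := D) ?_ hKp
    intro d hd
    refine Subgroup.mem_center_iff.mpr fun g => Subtype.ext ?_
    have hd' : (d : P) ∈ K ⊓ S₀ := by rw [hKS]; exact ⟨d.2, hd⟩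
    exact (Subgroup.mem_centralizer_iff.mp
      (Subgroup.commutator_eq_bot_iff_le_centralizer.mp hc g.2) d hd').symm
  have hco : ∀ C : Subgroup H, IsCoatom C ∧ S₀.subgroupOf H ≤ C ↔ C = X₀.subgroupOf H := by
    have hproper : X₀.subgroupOf H ≠ ⊤ := fun e =>
      hX₀ne (le_antisymm hX₀H (Subgroup.subgroupOf_eq_top.mp e))
    have hmax : ∀ C : Subgroup H, C ≠ ⊤ → S₀.subgroupOf H ≤ C → C ≤ X₀.subgroupOf H := by
      intro C hC hSC
      refine Subgroup.map_le_iff_le_comap.mp (hsub _ (Subgroup.map_subtype_le C) ?_ ?_)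
      · exact fun s hs => ⟨⟨s, Subgroup.mem_sup_right hs⟩, hSC hs, rfl⟩
      · intro e
        apply hC
        rw [← Subgroup.comap_map_eq_self_of_injective H.subtype_injective C, e]
        exact Subgroup.subgroupOf_self H
    have hSX₀ : S₀.subgroupOf H ≤ X₀.subgroupOf H := fun x hx => Subgroup.mem_sup_right hx
    intro C
    refine ⟨fun ⟨hC, hSC⟩ => ?_, ?_⟩
    · exact ((hC.le_iff.mp (hmax C hC.1 hSC)).resolve_left hproper).symm
    · rintro rfl
      exact ⟨⟨hproper, fun C hlt => by_contra fun hC =>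
        hlt.not_ge (hmax C hC (hSX₀.trans hlt.le))⟩, hSX₀⟩
  intro T
  obtain ⟨g, hg⟩ := MulAction.exists_smul_eq H T₀ T
  have hTe : (T : Subgroup H) = (S₀.subgroupOf H).map (MulAut.conj g).toMonoidHom := by
    rw [← hg]; rfl
  set f := (MulAut.conj g).mapSubgroup
  have hfe : ∀ A : Subgroup H, f A = A.map (MulAut.conj g).toMonoidHom := fun _ => rfl
  refine ⟨fun hn => ?_, ⟨f (X₀.subgroupOf H), ?_, fun C hC => ?_⟩⟩
  · apply hnn
    rw [hTe] at hn
    have := hn.comap (MulAut.conj g).toMonoidHom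
    rwa [Subgroup.comap_map_eq_self_of_injective (MulAut.conj g).injective] at this
  · refine ⟨(OrderIso.isCoatom_iff f _).mpr ((hco _).mpr rfl).1, ?_⟩
    rw [hTe, hfe]
    exact Subgroup.map_mono ((hco _).mpr rfl).2
  · obtain ⟨hC1, hC2⟩ := hC
    rw [← f.apply_symm_apply C] at hC1 hC2 ⊢
    rw [hTe, ← hfe] at hC2
    exact congrArg f ((hco _).mp ⟨(OrderIso.isCoatom_iff f _).mp hC1, f.le_iff_le.mp hC2⟩)

end Cfsg.Agent.S2906
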