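import Mathlib
import Cfsg.Statements.S2907

set_option autoImplicit false
set_option linter.style.haveILetI false
set_option linter.unusedVariables false
open Cfsg

namespace Cfsg.Agent.S2907

/-- Let X be a finite semi-extraspecial p-group and x an element of X outside the centre. Then the index of C_X(x) in X equals the order of Z(X), and the commutators [x, y], y ∈ X, form exactly the centre Z(X). -/
theorem result {X : Type*} [Group X] [Finite X] {p : ℕ} [Fact p.Prime] (hX : Cfsg.IsSemiExtraspecial p X) (x : X) (hx : x ∉ Subgroup.center X) : (Subgroup.centralizer ({x} : Set X)).index = Nat.card ↥(Subgroup.center X) ∧ {z : X | ∃ y : X, z = x * y * x⁻¹ * y⁻¹} = (Subgroup.center X : Set X) := by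
  obtain ⟨⟨hp, hfr, hcomm⟩, hY⟩ := hX
  have hcomZ : ∀ a b : X, a * b * a⁻¹ * b⁻¹ ∈ Subgroup.center X := fun a b => by
    rw [← hcomm, commutator_def]
    simpa [commutatorElement_def] using
      Subgroup.commutator_mem_commutator (Subgroup.mem_top a) (Subgroup.mem_top b)
  let f : X →* Subgroup.center X :=
    { toFun := fun y => ⟨x * y * x⁻¹ * y⁻¹, hcomZ x y⟩
      map_one' := Subtype.ext (by simp)
      map_mul' := fun a b => Subtype.ext (by
        have hc : Commute (x * b * x⁻¹ * b⁻¹) a⁻¹ := (Subgroup.mem_center_iff.mp (hcomZ x b) a⁻¹).symm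
        change x * (a * b) * x⁻¹ * (a * b)⁻¹ = x * a * x⁻¹ * a⁻¹ * (x * b * x⁻¹ * b⁻¹)
        calc x * (a * b) * x⁻¹ * (a * b)⁻¹ = x * a * x⁻¹ * ((x * b * x⁻¹ * b⁻¹) * a⁻¹) := by group
          _ = x * a * x⁻¹ * (a⁻¹ * (x * b * x⁻¹ * b⁻¹)) := by rw [hc.eq]
          _ = _ := by group) }
  have hrange : f.range = ⊤ := by
    by_contra hne
    obtain ⟨M, hM, hle⟩ := (IsCoatomic.eq_top_or_exists_le_coatom f.range).resolve_left hne
    set Y := M.map (Subgroup.center X).subtype with hYdef
    have hYle : Y ≤ Subgroup.center X := Subgroup.map_subtype_le _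
    have hYsub : Y.subgroupOf (Subgroup.center X) = M :=
      Subgroup.comap_map_eq_self_of_injective (Subgroup.center X).subtype_injective M
    obtain ⟨hYn, ⟨-, -, hcommQ⟩, hcard⟩ := hY Y hYle (hYsub ▸ hM)
    haveI := hYn
    set q := QuotientGroup.mk' Y
    set Zb := (Subgroup.center X).map q with hZb
    have hZble : Zb ≤ Subgroup.center (X ⧸ Y) := by
      rintro _ ⟨z, hz, rfl⟩
      refine Subgroup.mem_center_iff.mpr fun w => ?_
      obtain ⟨u, rfl⟩ := QuotientGroup.mk'_surjective Y w
      rw [← map_mul, ← map_mul, Subgroup.mem_center_iff.mp hz u]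
    have hxc : q x ∈ Subgroup.center (X ⧸ Y) := by
      refine Subgroup.mem_center_iff.mpr fun w => ?_
      obtain ⟨u, rfl⟩ := QuotientGroup.mk'_surjective Y w
      have h1 : (x * u * x⁻¹ * u⁻¹) ∈ Y := ⟨f u, hle ⟨u, rfl⟩, rfl⟩
      have h2 : q (x * u * x⁻¹ * u⁻¹) = 1 := (QuotientGroup.eq_one_iff _).mpr h1
      rw [map_mul, map_mul, map_mul, map_inv, map_inv, mul_inv_eq_one, mul_inv_eq_iff_eq_mul] at h2
      exact h2.symm
    have hZne : Zb ≠ ⊥ := by
      rw [hZb, Ne, Subgroup.map_eq_bot_iff, QuotientGroup.ker_mk']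
      intro hle'
      refine hM.1 (top_le_iff.mp fun z _ => ?_)
      obtain ⟨w, hw, e⟩ := hle' z.2
      rwa [Subtype.ext e.symm]
    have hpr : p.Prime := Fact.out
    have heq : Zb = Subgroup.center (X ⧸ Y) := by
      refine Subgroup.eq_of_le_of_card_ge hZble ?_
      rw [hcard]
      rcases (Nat.dvd_prime hpr).mp (hcard ▸ Subgroup.card_dvd_of_le hZble) with h | h
      · exact absurd (Subgroup.card_eq_one.mp h) hZne
      · exact h.ge
    rw [← heq] at hxc
    obtain ⟨z, hz, e⟩ := hxc
    apply hx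
    have h3 := hYle (QuotientGroup.eq.mp e)
    have h4 := Subgroup.mul_mem _ hz h3
    simpa using h4
  have hker : f.ker = Subgroup.centralizer ({x} : Set X) := by
    ext y
    rw [MonoidHom.mem_ker, Subgroup.mem_centralizer_singleton_iff]
    constructor
    · intro h
      have h' : x * y * x⁻¹ * y⁻¹ = 1 := congrArg Subtype.val h
      rw [mul_inv_eq_one, mul_inv_eq_iff_eq_mul] at h'
      exact h'.symm
    · intro h
      refine Subtype.ext ?_
      change x * y * x⁻¹ * y⁻¹ = 1
      rw [← h, mul_inv_cancel_right, mul_inv_cancel]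
  refine ⟨?_, Set.ext fun z => ⟨?_, fun hz => ?_⟩⟩
  · rw [← hker, Subgroup.index_ker, hrange, Subgroup.card_top]
  · rintro ⟨y, rfl⟩
    exact hcomZ x y
  · obtain ⟨y, hy⟩ := hrange.ge (Subgroup.mem_top (⟨z, hz⟩ : Subgroup.center X))
    exact ⟨y, (congrArg Subtype.val hy).symm⟩

end Cfsg.Agent.S2907
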