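import Cfsg.Statements.S2908
import Cfsg.Agent.Lib.Coprime.Action

set_option autoImplicit false
set_option linter.style.haveILetI false
set_option linter.unusedVariables false
open Cfsg

open scoped commutatorElement

namespace Cfsg.Agent.S2908

open CfsgLib.Coprime in
theorem conj_commutator_mem {G : Type*} [Group G] {Y P B : Subgroup G}
    (hY : P ≤ Subgroup.normalizer (Y : Set G)) {w : G} (hw : w ∈ Subgroup.closure {u | u ∈ P ∧ ∀ b ∈ B, ⁅u, b⁆ ∈ Y})
    {b : G} (hb : b ∈ B) : w ∈ P ∧ ⁅w, b⁆ ∈ Y := by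
  induction hw using Subgroup.closure_induction with
  | mem u hu => exact ⟨hu.1, hu.2 b hb⟩
  | one => exact ⟨P.one_mem, by rw [commutatorElement_one_left]; exact Y.one_mem⟩
  | mul u v _ _ hu hv =>
    refine ⟨P.mul_mem hu.1 hv.1, ?_⟩
    rw [show ⁅u * v, b⁆ = u * ⁅v, b⁆ * u⁻¹ * ⁅u, b⁆ by simp only [commutatorElement_def]; group]
    exact Y.mul_mem ((Subgroup.mem_normalizer_iff.mp (hY hu.1) _).mp hv.2) hu.2
  | inv u _ hu =>
    refine ⟨P.inv_mem hu.1, ?_⟩
    rw [show ⁅u⁻¹, b⁆ = u⁻¹ * ⁅u, b⁆⁻¹ * u⁻¹⁻¹ by simp only [commutatorElement_def]; group]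
    exact (Subgroup.mem_normalizer_iff.mp (hY (P.inv_mem hu.1)) _).mp (Y.inv_mem hu.2)

/-- Let P be a p-subgroup of a finite group, normalized by a p-subgroup A and by a subgroup B of order prime to p that commutes elementwise with A. If [P, B] ≤ [P, A], then B centralizes P. -/
theorem result {G : Type*} [Group G] [Finite G] {p : ℕ} [Fact p.Prime] (P A B : Subgroup G) (hP : IsPGroup p ↥P) (hA : IsPGroup p ↥A) (hB : ¬ p ∣ Nat.card ↥B) (hnA : A ≤ Subgroup.normalizer (P : Set G)) (hnB : B ≤ Subgroup.normalizer (P : Set G)) (hAB : ⁅A, B⁆ = ⊥) (hcomm : ⁅P, B⁆ ≤ ⁅P, A⁆) : ⁅P, B⁆ = ⊥ := by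
  set X := ⁅P, B⁆ with hX
  by_contra hne
  have hXP : X ≤ P := CfsgLib.Coprime.commutator_le_left_of_le_normalizer hnB
  have hPX : P ≤ Subgroup.normalizer (X : Set G) := by
    intro u hu
    refine Subgroup.mem_normalizer_fintype fun y hy => ?_
    have h : X.map (MulAut.conj u).toMonoidHom ≤ X := by
      rw [hX, Subgroup.commutator_def, MonoidHom.map_closure, Subgroup.closure_le]
      rintro _ ⟨_, ⟨v, hv, b, hb, rfl⟩, rfl⟩
      change u * ⁅v, b⁆ * u⁻¹ ∈ ⁅P, B⁆
      rw [show u * ⁅v, b⁆ * u⁻¹ = ⁅u * v, b⁆ * ⁅u, b⁆⁻¹ by simp only [commutatorElement_def]; group]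
      exact Subgroup.mul_mem _ (Subgroup.commutator_mem_commutator (P.mul_mem hu hv) hb)
        (Subgroup.inv_mem _ (Subgroup.commutator_mem_commutator hu hb))
    exact h ⟨y, hy, rfl⟩
  have hBA : ∀ b ∈ B, ∀ a ∈ A, a * b = b * a := fun b hb a ha =>
    (Subgroup.commutator_eq_bot_iff_le_centralizer.mp hAB ha b hb).symm
  have hBnA : B ≤ Subgroup.normalizer (A : Set G) := fun b hb =>
    Subgroup.centralizer_le_normalizer _ fun a ha => hBA b hb a ha
  have hAnB : A ≤ Subgroup.normalizer (B : Set G) := fun a ha =>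
    Subgroup.centralizer_le_normalizer _ fun b hb => (hBA b hb a ha).symm
  have hAX : A ≤ Subgroup.normalizer (X : Set G) := CfsgLib.Coprime.le_normalizer_commutator hnA hAnB
  set K := P ⊔ A with hK
  have hKp : IsPGroup p K := IsPGroup.to_sup_of_normal_left' hP hA hnA
  haveI : Group.IsNilpotent K := hKp.isNilpotent
  have hlt : ⁅X, K⁆ < X := CfsgLib.Coprime.commutator_lt_of_isNilpotent (X := K)
    (hXP.trans le_sup_left) le_rfl (sup_le hPX hAX) hne
  set Y := ⁅X, K⁆ with hY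
  have hPY : P ≤ Subgroup.normalizer (Y : Set G) :=
    CfsgLib.Coprime.le_normalizer_commutator hPX (le_sup_left.trans Subgroup.le_normalizer)
  -- `[[P, A], B] ≤ Y`
  have h1 : ⁅⁅P, A⁆, B⁆ ≤ Y := by
    refine Subgroup.commutator_le.mpr fun w hw b hb => ?_
    refine (conj_commutator_mem hPY ?_ hb).2
    refine (Subgroup.commutator_le.mpr fun u hu a ha => ?_) hw
    refine Subgroup.subset_closure ⟨CfsgLib.Coprime.commutator_le_left_of_le_normalizer hnA
      (Subgroup.commutator_mem_commutator hu ha), fun b hb => ?_⟩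
    set c := ⁅b, u⁆ with hc
    have hcX : c ∈ X := by rw [hX, Subgroup.commutator_comm]; exact Subgroup.commutator_mem_commutator hb hu
    set d := ⁅u, a⁆ with hd
    have hdP : d ∈ P := CfsgLib.Coprime.commutator_le_left_of_le_normalizer hnA
      (Subgroup.commutator_mem_commutator hu ha)
    have hab : b * a * b⁻¹ = a := by rw [← hBA b hb a ha]; group
    have e : b * d * b⁻¹ = ⁅c, d⁆ * (d * ⁅c, a⁆ * d⁻¹) * d := by
      calc b * d * b⁻¹ = (b * u * b⁻¹) * (b * a * b⁻¹) * (b * u * b⁻¹)⁻¹ * (b * a * b⁻¹)⁻¹ := by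
            rw [hd, commutatorElement_def]; group
        _ = (c * u) * a * (c * u)⁻¹ * a⁻¹ := by rw [hab, hc, commutatorElement_def]; group
        _ = _ := by simp only [hd, commutatorElement_def]; group
    have e2 : ⁅d, b⁆ = (⁅c, d⁆ * (d * ⁅c, a⁆ * d⁻¹))⁻¹ := by
      rw [show ⁅d, b⁆ = d * (b * d * b⁻¹)⁻¹ by rw [commutatorElement_def]; group, e]
      group
    rw [e2]
    refine Y.inv_mem (Y.mul_mem (Subgroup.commutator_mem_commutator hcX (Subgroup.mem_sup_left hdP))
      ((Subgroup.mem_normalizer_iff.mp (hPY hdP) _).mp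
        (Subgroup.commutator_mem_commutator hcX (Subgroup.mem_sup_right ha))))
  have hcop : (Nat.card B).Coprime (Nat.card P) := by
    obtain ⟨n, hn⟩ := IsPGroup.iff_card.mp hP
    rw [hn]
    exact (((Fact.out : p.Prime).coprime_iff_not_dvd.mpr hB).symm).pow_right n
  have h2 : X ≤ Y := by
    rw [hX, ← CfsgLib.Coprime.commutator_commutator_eq hnB hcop (Or.inr (by haveI := hP.isNilpotent; infer_instance))]
    exact (Subgroup.commutator_mono hcomm le_rfl).trans h1
  exact absurd h2 (not_le_of_gt hlt)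

end Cfsg.Agent.S2908
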