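import Cfsg.Statements.S2909
import Cfsg.Agent.Lib.Coprime.Generation
import Cfsg.Agent.Lib.PSolvable.Omega
import Cfsg.Agent.Lib.PSolvable.Core

set_option autoImplicit false
open Cfsg CfsgLib

namespace Cfsg.Agent.S2909

open scoped commutatorElement

/-- Second condition: elements centralizing some `u` and acting trivially modulo `[E,u]`. -/
theorem centralizes_of_mod_commutator {G : Type*} [Group G] [Finite G] {p : ℕ} [Fact p.Prime]
    {E : Subgroup G} [E.Normal] (hE : IsPGroup p E) {u x : G} (hux : Commute u x)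
    (hu : IsPGroup p (Subgroup.zpowers u)) (hx : (orderOf x).Coprime p)
    (hmod : ∀ e ∈ E, ⁅e, x⁆ ∈ ⁅E, Subgroup.zpowers u⁆) :
    x ∈ Subgroup.centralizer (E : Set G) := by
  set U0 := Subgroup.zpowers u with hU0
  set X := Subgroup.zpowers x with hX
  set W := ⁅E, U0⁆ with hW
  set Φ := (frattini E).map E.subtype with hΦ
  haveI hΦn : Φ.Normal := by rw [hΦ]; infer_instance
  have hΦE : Φ ≤ E := Subgroup.map_subtype_le _
  have hEE : ∀ a ∈ E, ∀ b ∈ E, ⁅a, b⁆ ∈ Φ := fun a ha b hb =>
    ⟨⁅(⟨a, ha⟩ : E), ⟨b, hb⟩⁆, (PSolvable.commutator_le_frattini hE).1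
      (Subgroup.commutator_mem_commutator (Subgroup.mem_top _) (Subgroup.mem_top _)),
      map_commutatorElement E.subtype _ _⟩
  have hnormE : ∀ Y : Subgroup G, Φ ≤ Y → Y ≤ E → E ≤ Subgroup.normalizer (Y : Set G) := by
    intro Y hY hYE e he
    have key : ∀ e ∈ E, ∀ y ∈ Y, e * y * e⁻¹ ∈ Y := by
      intro e he y hy
      rw [show e * y * e⁻¹ = ⁅e, y⁆ * y by rw [commutatorElement_def]; group]
      exact Y.mul_mem (hY (hEE e he y (hYE hy))) hy
    rw [Subgroup.mem_normalizer_iff]
    refine fun y => ⟨key e he y, fun h => ?_⟩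
    have := key e⁻¹ (E.inv_mem he) _ h
    simpa [mul_assoc] using this
  have hXE : X ≤ Subgroup.normalizer (E : Set G) := Subgroup.le_normalizer_of_normal
  have hcopX : (Nat.card X).Coprime (Nat.card E) :=
    (PSolvable.coprime_card_of_isPGroup hE (by rwa [hX, Nat.card_zpowers])).symm
  have hsolv : Group.IsSolvable X ∨ Group.IsSolvable E := by
    haveI := hE.isNilpotent
    exact Or.inr inferInstance
  have hUX : U0 ≤ Subgroup.centralizer (X : Set G) := by
    rw [hU0, hX, Subgroup.zpowers_le]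
    rintro _ ⟨j, rfl⟩
    exact (hux.symm.zpow_left j).eq
  have hUNX : U0 ≤ Subgroup.normalizer (X : Set G) := hUX.trans (Subgroup.centralizer_le_normalizer _)
  have hXNU : X ≤ Subgroup.normalizer (U0 : Set G) :=
    (Subgroup.le_centralizer_iff.mp hUX).trans (Subgroup.centralizer_le_normalizer _)
  set E' := ⁅E, X⁆ with hE'
  have hE'E : E' ≤ E := Coprime.commutator_le_left_of_le_normalizer hXE
  have hUE' : U0 ≤ Subgroup.normalizer (E' : Set G) :=
    Coprime.le_normalizer_commutator Subgroup.le_normalizer_of_normal hUNX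
  have hXE' : X ≤ Subgroup.normalizer (E' : Set G) := Subgroup.normalizer_commutator_ge_right E X
  set C := E ⊓ Subgroup.centralizer (X : Set G) with hC
  set Y := ⁅E', U0⁆ ⊔ Φ with hY
  have hYE : Y ≤ E :=
    sup_le ((Coprime.commutator_le_left_of_le_normalizer hUE').trans hE'E) hΦE
  have hsplit : E' ⊔ C = E := Coprime.commutator_sup_centralizer hXE hcopX hsolv
  have hXY : X ≤ Subgroup.normalizer (Y : Set G) :=
    Coprime.le_normalizer_sup_of_le (Coprime.le_normalizer_commutator hXE' hXNU)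
      Subgroup.le_normalizer_of_normal
  have hUC : U0 ≤ Subgroup.normalizer (C : Set G) :=
    Coprime.le_normalizer_inf_of_le Subgroup.le_normalizer_of_normal
      (Coprime.le_normalizer_centralizer hUNX)
  -- `W ≤ Y C`
  have hWY : W ≤ Y ⊔ C := by
    rw [hW, Subgroup.commutator_le]
    intro e he v hv
    have he2 : e ∈ C ⊔ E' := by rw [sup_comm, hsplit]; exact he
    have hCE' : C ≤ Subgroup.normalizer (E' : Set G) :=
      inf_le_left.trans (Subgroup.normalizer_commutator_ge_left E X)
    rw [← SetLike.mem_coe, Subgroup.coe_mul_of_left_le_normalizer_right C E' hCE'] at he2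
    obtain ⟨c, hc, e', he', rfl⟩ := he2
    rw [show ⁅c * e', v⁆ = c * ⁅e', v⁆ * c⁻¹ * ⁅c, v⁆ by simp only [commutatorElement_def]; group]
    refine Subgroup.mul_mem _ (Subgroup.mem_sup_left ?_) (Subgroup.mem_sup_right ?_)
    · exact (Subgroup.mem_normalizer_iff.mp (hnormE Y le_sup_right hYE hc.1) _).mp
        (Subgroup.mem_sup_left (Subgroup.commutator_mem_commutator he' hv))
    · rw [show ⁅c, v⁆ = c * (v * c⁻¹ * v⁻¹) by rw [commutatorElement_def]; group]
      exact C.mul_mem hc ((Subgroup.mem_normalizer_iff.mp (hUC hv) _).mp (C.inv_mem hc))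
  have hUN : U0 ≤ Subgroup.normalizer (W : Set G) := Subgroup.normalizer_commutator_ge_right E U0
  have hWN : E ≤ Subgroup.normalizer (W : Set G) := Subgroup.normalizer_commutator_ge_left E U0
  have hWX : X ≤ Subgroup.normalizer (W : Set G) :=
    Coprime.le_normalizer_commutator hXE hXNU
  have hE'W : E' ≤ W := by
    rw [hE', Subgroup.commutator_le]
    intro e he a ha
    let K : Subgroup G :=
      { carrier := {a | a ∈ Subgroup.normalizer (W : Set G) ∧ ∀ e ∈ E, ⁅e, a⁆ ∈ W}
        one_mem' := ⟨one_mem _, fun e _ => by simp⟩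
        mul_mem' := fun {a b} ha hb => ⟨mul_mem ha.1 hb.1, fun e he => by
          rw [show ⁅e, a * b⁆ = ⁅e, a⁆ * (a * ⁅e, b⁆ * a⁻¹) by simp only [commutatorElement_def]; group]
          exact W.mul_mem (ha.2 e he) ((Subgroup.mem_normalizer_iff.mp ha.1 _).mp (hb.2 e he))⟩
        inv_mem' := fun {a} ha => ⟨inv_mem ha.1, fun e he => by
          rw [show ⁅e, a⁻¹⁆ = a⁻¹ * ⁅e, a⁆⁻¹ * a by simp only [commutatorElement_def]; group]
          exact (Subgroup.mem_normalizer_iff''.mp ha.1 _).mp (W.inv_mem (ha.2 e he))⟩ }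
    exact ((Subgroup.zpowers_le.mpr (show x ∈ K from ⟨hWX (Subgroup.mem_zpowers x), hmod⟩)) ha).2 e he
  have hE'Y : E' ≤ Y := by
    calc E' = ⁅E', X⁆ := (Coprime.commutator_commutator_eq hXE hcopX hsolv).symm
      _ ≤ ⁅W, X⁆ := Subgroup.commutator_mono hE'W le_rfl
      _ ≤ Y := by
        rw [Subgroup.commutator_le]
        intro w hw a ha
        have hYC : C ≤ Subgroup.normalizer (Y : Set G) := inf_le_left.trans (hnormE Y le_sup_right hYE)
        have hw2 : w ∈ C ⊔ Y := by rw [sup_comm]; exact hWY hw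
        rw [← SetLike.mem_coe, Subgroup.coe_mul_of_left_le_normalizer_right C Y hYC] at hw2
        obtain ⟨c, hc, y, hy, rfl⟩ := hw2
        have h1 : ⁅c, a⁆ = 1 := by
          rw [commutatorElement_eq_one_iff_mul_comm]; exact (hc.2 a ha).symm
        rw [show ⁅c * y, a⁆ = c * ⁅y, a⁆ * c⁻¹ * ⁅c, a⁆ by simp only [commutatorElement_def]; group,
          h1, mul_one]
        refine (Subgroup.mem_normalizer_iff.mp (hYC hc) _).mp ?_
        rw [show ⁅y, a⁆ = y * (a * y⁻¹ * a⁻¹) by rw [commutatorElement_def]; group]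
        exact Y.mul_mem hy ((Subgroup.mem_normalizer_iff.mp (hXY ha) _).mp (Y.inv_mem hy))
  haveI : Group.IsNilpotent ↥(U0 ⊔ E) :=
    (IsPGroup.to_sup_of_normal_right' hu hE Subgroup.le_normalizer_of_normal).isNilpotent
  have iter : ∀ L : Subgroup G, L ≤ E' → U0 ≤ Subgroup.normalizer (L : Set G) → E' ≤ L ⊔ Φ →
      E' ≤ Φ := by
    intro L
    induction L using WellFoundedLT.induction with
    | ind L IH =>
    intro hLE' hUL hE'L
    rcases eq_or_ne L ⊥ with rfl | hL
    · rwa [bot_sup_eq] at hE'L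
    have hlt : ⁅L, U0⁆ < L := Coprime.commutator_lt_of_isNilpotent (X := U0 ⊔ E)
      ((hLE'.trans hE'E).trans le_sup_right) le_sup_left hUL hL
    refine IH _ hlt (hlt.le.trans hLE') (Subgroup.normalizer_commutator_ge_right L U0)
      (hE'Y.trans (sup_le ?_ le_sup_right))
    rw [Subgroup.commutator_le]
    intro e he v hv
    obtain ⟨l, hl, φ, hφ, rfl⟩ := Subgroup.mem_sup_of_normal_right.mp (hE'L he)
    rw [show ⁅l * φ, v⁆ = l * ⁅φ, v⁆ * l⁻¹ * ⁅l, v⁆ by simp only [commutatorElement_def]; group]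
    refine Subgroup.mul_mem _ (Subgroup.mem_sup_right (hΦn.conj_mem _ ?_ l))
      (Subgroup.mem_sup_left (Subgroup.commutator_mem_commutator hl hv))
    rw [show ⁅φ, v⁆ = φ * (v * φ⁻¹ * v⁻¹) by rw [commutatorElement_def]; group]
    exact Φ.mul_mem hφ (hΦn.conj_mem _ (Φ.inv_mem hφ) v)
  have hfin := iter E' le_rfl hUE' le_sup_left
  refine Coprime.le_centralizer_of_frattini hXE
    (hcopX.coprime_dvd_right (Subgroup.card_subgroup_dvd_card _)) (fun a ha k hk => ?_)
    (Subgroup.mem_zpowers x)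
  refine hfin ?_
  have h1 := E'.inv_mem (Subgroup.commutator_mem_commutator hk ha)
  rwa [commutatorElement_inv, commutatorElement_def] at h1

/-- Let p be a prime, E a normal p-subgroup of the finite group G, and U a non-cyclic elementary abelian p-subgroup of G such that either C_E(U) = C_E(u) for every nontrivial u ∈ U, or [E, U] = [E, ⟨u⟩] for every nontrivial u ∈ U. If R is a subgroup of order prime to p normalized by U, then [R, U] centralizes E. -/
theorem result {G : Type*} [Group G] [Finite G] {p : ℕ} [Fact p.Prime] (E : Subgroup G) [E.Normal] (hE : IsPGroup p ↥E) (U : Subgroup G) (hU : Cfsg.IsElementaryAbelian p U) (hnc : ¬ IsCyclic ↥U) (hcond : (∀ u ∈ U, u ≠ 1 → E ⊓ Subgroup.centralizer (U : Set G) = E ⊓ Subgroup.centralizer ({u} : Set G)) ∨ (∀ u ∈ U, u ≠ 1 → ⁅E, U⁆ = ⁅E, Subgroup.zpowers u⁆)) (R : Subgroup G) (hR : ¬ p ∣ Nat.card ↥R) (hRU : U ≤ Subgroup.normalizer (R : Set G)) : ⁅R, U⁆ ≤ Subgroup.centralizer (E : Set G) := by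
  haveI := hU.1
  have hUp : IsPGroup p U := fun a => ⟨1, Subtype.ext (by simpa using hU.2 a a.2)⟩
  have hRc : (Nat.card R).Coprime p := ((Fact.out : p.Prime).coprime_iff_not_dvd.mpr hR).symm
  have hcopR : (Nat.card U).Coprime (Nat.card R) := PSolvable.coprime_card_of_isPGroup hUp hRc
  set Q := ⁅R, U⁆ with hQ
  have hQR : Q ≤ R := Coprime.commutator_le_left_of_le_normalizer hRU
  have hUE : ∀ u ∈ U, IsPGroup p (Subgroup.zpowers u) := fun u hu =>
    hUp.to_le (Subgroup.zpowers_le.mpr hu)
  refine Coprime.le_of_centralizer_le hnc (Subgroup.normalizer_commutator_ge_right R U)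
    (hcopR.coprime_dvd_right (Subgroup.card_dvd_of_le hQR)) fun u hu hu1 x hx => ?_
  have hxu : Commute u x := ((Subgroup.mem_centralizer_singleton_iff.mp hx.2).symm)
  have hxp : (orderOf x).Coprime p :=
    Nat.Coprime.coprime_dvd_left (R.orderOf_dvd_natCard (hQR hx.1)) hRc
  rcases hcond with hc | hc
  · -- equal centralizers
    set D := E ⊓ Subgroup.centralizer (U : Set G) with hD
    have hRD : R ≤ Subgroup.normalizer (D : Set G) := by
      refine Coprime.le_of_centralizer_le hnc hRU hcopR fun v hv hv1 r hr => ?_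
      have h1 : r ∈ Subgroup.normalizer ((E ⊓ Subgroup.centralizer ({v} : Set G) : Subgroup G) : Set G) := by
        have key : ∀ r : G, Commute r v → ∀ e ∈ E ⊓ Subgroup.centralizer ({v} : Set G),
            r * e * r⁻¹ ∈ E ⊓ Subgroup.centralizer ({v} : Set G) := fun r hr e he =>
          ⟨Subgroup.Normal.conj_mem inferInstance _ he.1 r, Subgroup.mem_centralizer_singleton_iff.mpr
            ((hr.mul_left (Subgroup.mem_centralizer_singleton_iff.mp he.2)).mul_left hr.inv_left).eq⟩
        have hrv : Commute r v := Subgroup.mem_centralizer_singleton_iff.mp hr.2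
        rw [Subgroup.mem_normalizer_iff]
        refine fun e => ⟨key r hrv e, fun he => ?_⟩
        have := key r⁻¹ hrv.inv_left _ he
        simpa [mul_assoc] using this
      rwa [← hc v hv hv1] at h1
    have hQD : Q ≤ Subgroup.centralizer (D : Set G) := by
      rw [hQ, Subgroup.commutator_le]
      intro r hr v hv d hd
      have hd' : r⁻¹ * (v⁻¹ * d * v) * r ∈ D := by
        rw [show v⁻¹ * d * v = d by rw [mul_assoc, ← hd.2 v hv, inv_mul_cancel_left]]
        exact (Subgroup.mem_normalizer_iff''.mp (hRD hr) d).mp hd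
      have hd2 := hd'.2 v hv
      have hdv : v * d = d * v := hd.2 v hv
      rw [commutatorElement_def]
      calc d * (r * v * r⁻¹ * v⁻¹) = r * ((r⁻¹ * (v⁻¹ * d * v) * r) * v) * r⁻¹ * v⁻¹ := by
            rw [show v⁻¹ * d * v = d by rw [mul_assoc, ← hdv, inv_mul_cancel_left]]; group
        _ = r * (v * (r⁻¹ * (v⁻¹ * d * v) * r)) * r⁻¹ * v⁻¹ := by rw [hd2]
        _ = r * v * r⁻¹ * v⁻¹ * d := by group
    have h1 := Coprime.pxq (P := Subgroup.zpowers u) (Q := Subgroup.zpowers x) (hUE u hu)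
      (by rwa [Nat.card_zpowers]) (Subgroup.zpowers_le.mpr (by
        rintro _ ⟨j, rfl⟩
        exact (hxu.symm.zpow_left j).eq))
      hE Subgroup.le_normalizer_of_normal Subgroup.le_normalizer_of_normal (by
        intro e he
        have he' : e ∈ D := by
          rw [hc u hu hu1]
          exact ⟨he.1, Subgroup.mem_centralizer_singleton_iff.mpr (he.2 u (Subgroup.mem_zpowers u)).symm⟩
        rintro _ ⟨j, rfl⟩
        exact ((show Commute x e from (hQD hx.1 e he').symm).zpow_left j).eq)
    exact h1 (Subgroup.mem_zpowers x)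
  · -- equal commutator subgroups
    refine centralizes_of_mod_commutator hE hxu (hUE u hu) hxp fun e he => ?_
    rw [← hc u hu hu1]
    set W := ⁅E, U⁆ with hW
    have hRW : R ≤ Subgroup.normalizer (W : Set G) := by
      refine Coprime.le_of_centralizer_le hnc hRU hcopR fun v hv hv1 r hr => ?_
      rw [hc v hv hv1]
      refine Coprime.le_normalizer_commutator (A := Subgroup.zpowers r)
        Subgroup.le_normalizer_of_normal ?_ (Subgroup.mem_zpowers r)
      rw [Subgroup.zpowers_le]
      refine Subgroup.centralizer_le_normalizer _ ?_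
      rintro _ ⟨j, rfl⟩
      exact ((show Commute v r from (Subgroup.mem_centralizer_singleton_iff.mp hr.2).symm).zpow_left j).eq
    have hEW : E ≤ Subgroup.normalizer (W : Set G) := Subgroup.normalizer_commutator_ge_left E U
    let K : Subgroup G :=
      { carrier := {a | a ∈ Subgroup.normalizer (W : Set G) ∧ ∀ e ∈ E, ⁅e, a⁆ ∈ W}
        one_mem' := ⟨one_mem _, fun e _ => by simp⟩
        mul_mem' := fun {a b} ha hb => ⟨mul_mem ha.1 hb.1, fun e he => by
          rw [show ⁅e, a * b⁆ = ⁅e, a⁆ * (a * ⁅e, b⁆ * a⁻¹) by simp only [commutatorElement_def]; group]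
          exact W.mul_mem (ha.2 e he) ((Subgroup.mem_normalizer_iff.mp ha.1 _).mp (hb.2 e he))⟩
        inv_mem' := fun {a} ha => ⟨inv_mem ha.1, fun e he => by
          rw [show ⁅e, a⁻¹⁆ = a⁻¹ * ⁅e, a⁆⁻¹ * a by simp only [commutatorElement_def]; group]
          exact (Subgroup.mem_normalizer_iff''.mp ha.1 _).mp (W.inv_mem (ha.2 e he))⟩ }
    have hQK : Q ≤ K := by
      rw [hQ, Subgroup.commutator_le]
      intro r hr v hv
      have hvK : v ∈ K := ⟨Subgroup.normalizer_commutator_ge_right E U hv,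
        fun e he => Subgroup.commutator_mem_commutator he hv⟩
      rw [commutatorElement_def]
      refine K.mul_mem ⟨mul_mem (mul_mem (hRW hr) hvK.1) (inv_mem (hRW hr)), fun e he => ?_⟩ (K.inv_mem hvK)
      rw [show ⁅e, r * v * r⁻¹⁆ = r * ⁅r⁻¹ * e * r, v⁆ * r⁻¹ by simp only [commutatorElement_def]; group]
      exact (Subgroup.mem_normalizer_iff.mp (hRW hr) _).mp
        (hvK.2 _ (Subgroup.Normal.conj_mem' inferInstance e he r))
    exact (hQK hx.1).2 e he

end Cfsg.Agent.S2909
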