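import Cfsg.Statements.S2910
import Cfsg.Agent.Lib.OddOmega.Basic
import Cfsg.Agent.Lib.Transfer.Frobenius

set_option autoImplicit false
open Cfsg CfsgLib

namespace Cfsg.Agent.S2910

/-- Let p be an odd prime dividing the order of the finite group G and P a Sylow p-subgroup of G. If Ω₁(P) (generated by the elements of order dividing p) is contained in the centre of G, then G has a normal p-complement. In particular, if G is quasisimple then Ω₁(P) is not central in G. -/
theorem result {G : Type*} [Group G] [Finite G] {p : ℕ} [Fact p.Prime] (hp : p ≠ 2) (hdiv : p ∣ Nat.card G) (P : Sylow p G) (hZ : Cfsg.omegaOne p (P : Subgroup G) ≤ Subgroup.center G) : Cfsg.HasNormalPComplement p G ∧ ¬ Cfsg.IsQuasisimple G := by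
  have h1 : HasNormalPComplement p G := by
    refine Transfer.hasNormalPComplement_of_pAutomizers
      (Transfer.pAutomizers_of_sylow P fun Q hQP g hg hgc q hq => ?_)
    set φ : MulAut Q := Q.normalizerMonoidHom ⟨g, hg⟩ with hφ
    have hφp : ¬ p ∣ orderOf φ := fun h => by
      have h2 : p ∣ orderOf g :=
        h.trans ((orderOf_map_dvd _ _).trans (by rw [← Subgroup.orderOf_coe]))
      exact (Fact.out : p.Prime).ne_one (Nat.eq_one_of_dvd_coprimes hgc h2 dvd_rfl)
    have h3 := OddOmega.eq_one_of_fixes_omega hp (P.2.to_le hQP) φ hφp fun x hx => Subtype.ext (by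
      have hc : (x : G) ∈ Subgroup.center G := hZ (Subgroup.subset_closure
        ⟨hQP x.2, by rw [← Subgroup.coe_pow, hx, Subgroup.coe_one]⟩)
      show g * x * g⁻¹ = x
      rw [Subgroup.mem_center_iff.mp hc g, mul_inv_cancel_right])
    have h4 : g * q * g⁻¹ = q :=
      congrArg Subtype.val (show φ ⟨q, hq⟩ = ⟨q, hq⟩ by rw [h3]; rfl)
    exact (mul_inv_eq_iff_eq_mul.mp h4).symm
  refine ⟨h1, fun hq => ?_⟩
  haveI := hq.1
  haveI := Transfer.pResidual_normal p G
  have hne : pResidual p G ≠ ⊤ := fun e => by
    have := Transfer.hasNormalPComplement_iff_pResidual.mp h1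
    rw [e, Subgroup.card_top] at this
    exact this hdiv
  haveI : Nontrivial (G ⧸ pResidual p G) := QuotientGroup.nontrivial_iff.mpr hne
  haveI : Group.IsPerfect (G ⧸ pResidual p G) :=
    Group.IsPerfect.ofSurjective (f := QuotientGroup.mk' (pResidual p G)) (QuotientGroup.mk'_surjective _)
  haveI := (Transfer.isPGroup_quotient_pResidual (G := G) (p := p)).isNilpotent
  exact Group.IsPerfect.not_isNilpotent (G ⧸ pResidual p G) inferInstance

end Cfsg.Agent.S2910
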