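import Cfsg.Statements.S2911
import Mathlib
import Cfsg.Agent.Lib.Transfer.Thompson
import Cfsg.Agent.Lib.Transfer.Focal

set_option linter.style.haveILetI false
set_option linter.unusedSectionVars false

set_option autoImplicit false
open Cfsg CfsgLib.Transfer

namespace Cfsg.Agent.S2911

/-- The model of the Sylow subgroup. -/
abbrev P0 : Type := Multiplicative (ZMod 2) × DihedralGroup 4

def u0 : P0 := (Multiplicative.ofAdd 1, 1)

def z0 : P0 := (1, DihedralGroup.r 2)

def w0 : P0 := (Multiplicative.ofAdd 1, DihedralGroup.r 2)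

/-- The sign function attached to `(α, β)`. -/
def chiFun (α β : ZMod 2) : P0 → Multiplicative (ZMod 2)
  | (i, DihedralGroup.r k) => Multiplicative.ofAdd (i.toAdd + (α + β) * (k.val : ZMod 2))
  | (i, DihedralGroup.sr k) => Multiplicative.ofAdd (i.toAdd + α + (α + β) * (k.val : ZMod 2))

theorem chiFun_mul : ∀ α β : ZMod 2, ∀ x y : P0, chiFun α β (x * y) = chiFun α β x * chiFun α β y := by
  decide +kernel

def chi (α β : ZMod 2) : P0 →* Multiplicative (ZMod 2) := MonoidHom.mk' (chiFun α β) (chiFun_mul α β)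

theorem chi_u0 : ∀ α β : ZMod 2, chiFun α β u0 ≠ 1 ∧ chiFun α β w0 ≠ 1 := by decide +kernel

theorem index_chi (α β : ZMod 2) : (chi α β).ker.index = 2 := by
  have hs : (chi α β).range = ⊤ := by
    refine MonoidHom.range_eq_top.mpr fun y => ?_
    have h := (chi_u0 α β).1
    have key : ∀ t : Multiplicative (ZMod 2), t ≠ 1 → ∀ y, y = 1 ∨ y = t := by decide
    rcases key _ h y with e | e
    · exact ⟨1, by rw [map_one, e]⟩
    · exact ⟨u0, e.symm⟩
  rw [Subgroup.index_ker, hs, Subgroup.card_top]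
  simp [Nat.card_eq_fintype_card]

/-- An automorphism exchanging the two classes of non-central involutions. -/
def swapFun : P0 → P0
  | (i, DihedralGroup.r k) => (i, DihedralGroup.r k)
  | (i, DihedralGroup.sr k) => (i, DihedralGroup.sr (k + 1))

def swapInv : P0 → P0
  | (i, DihedralGroup.r k) => (i, DihedralGroup.r k)
  | (i, DihedralGroup.sr k) => (i, DihedralGroup.sr (k - 1))

theorem swap_mul : ∀ x y : P0, swapFun (x * y) = swapFun x * swapFun y := by decide +kernel

def swap : P0 ≃* P0 where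
  toFun := swapFun
  invFun := swapInv
  left_inv := by unfold Function.LeftInverse; decide +kernel
  right_inv := by unfold Function.RightInverse Function.LeftInverse; decide +kernel
  map_mul' := swap_mul

def ea (i : ZMod 2) : P0 := (Multiplicative.ofAdd i, DihedralGroup.sr 0)

def eb (i : ZMod 2) : P0 := (Multiplicative.ofAdd i, DihedralGroup.sr 1)

theorem invol_list : ∀ y : P0, y * y = 1 → y = 1 ∨ y = u0 ∨ y = z0 ∨ y = w0 ∨
    (∃ i, y = ea i ∨ y = ea i * z0) ∨ ∃ i, y = eb i ∨ y = eb i * z0 := by decide +kernel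

theorem class_conj : ∀ i : ZMod 2, ea i * z0 = (1, DihedralGroup.r 1) * ea i * (1, DihedralGroup.r 1)⁻¹ ∧
    eb i * z0 = (1, DihedralGroup.r 1) * eb i * (1, DihedralGroup.r 1)⁻¹ := by decide +kernel

theorem chi_classes : ∀ α β i : ZMod 2, (chiFun α β (ea i) = 1 → i = α) ∧
    (chiFun α β (ea i * z0) = 1 → i = α) ∧ (chiFun α β (eb i) = 1 → i = β) ∧
    (chiFun α β (eb i * z0) = 1 → i = β) := by decide +kernel

theorem sq_ne : ∀ y : P0, y * y ≠ u0 ∧ y * y ≠ w0 := by decide +kernel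

theorem central : ∀ y : P0, y * u0 = u0 * y ∧ y * z0 = z0 * y ∧ y * w0 = w0 * y := by decide +kernel

theorem products : ea 0 * ea 1 = u0 ∧ ea 0 * (ea 0 * z0) = z0 ∧ ea 1 * (ea 0 * z0) = w0 ∧
    z0 * w0 = u0 ∧ z0 * z0 = 1 ∧ (1, DihedralGroup.r 1) * (1, DihedralGroup.r 1) = z0 ∧
    ea 0 ≠ u0 ∧ ea 0 * ea 0 = 1 ∧ ea 1 * ea 1 = 1 ∧ (ea 0 * z0) * (ea 0 * z0) = 1 ∧
    u0 * u0 = 1 ∧ w0 * w0 = 1 ∧ z0 ≠ w0 ∧ u0 * z0 = w0 ∧ z0 ≠ 1 ∧
    (∀ α β, chiFun α β z0 = 1) ∧ u0 ≠ 1 := by decide +kernel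

theorem central_list : ∀ x : P0, x * x = 1 → (∀ y, y * x = x * y) →
    x = 1 ∨ x = u0 ∨ x = z0 ∨ x = w0 := by decide +kernel

theorem w0_mul_z0 : w0 * z0 = u0 ∧ w0 ≠ 1 ∧ u0 ≠ w0 := by decide +kernel

set_option synthInstance.maxSize 4000 in
set_option synthInstance.maxHeartbeats 200000 in
theorem class_list : ∀ p q : P0, (p = u0 ∨ ∃ i, p = ea i ∨ p = ea i * z0) →
    (q = u0 ∨ ∃ i, q = ea i ∨ q = ea i * z0) → (p * q = 1 ∨ p * q = u0 ∨ p * q = z0 ∨ p * q = w0 ∨
      ∃ i, p * q = ea i ∨ p * q = ea i * z0) := by decide +kernel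

theorem ea_comm : ∀ x : P0, (x = ea 0 ∨ x = ea 1 ∨ x = ea 0 * z0) → x * ea 0 = ea 0 * x := by
  decide +kernel

theorem swap_facts : swapInv u0 = u0 ∧ swapInv w0 = w0 ∧
    (∀ i, swapInv (eb i) = ea i) ∧ ∀ i, swapInv (ea i) = eb i * z0 ∨ swapInv (ea i) = eb i := by
  decide +kernel

section

variable {G : Type*} [Group G] [Finite G] (S : Sylow 2 G) (e : ↥(S : Subgroup G) ≃* P0)

/-- The embedding of the model. -/
noncomputable def emb : P0 →* G := (S : Subgroup G).subtype.comp e.symm.toMonoidHom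

theorem emb_mem (x : P0) : emb S e x ∈ (S : Subgroup G) := (e.symm x).2

theorem emb_injective : Function.Injective (emb S e) :=
  (S : Subgroup G).subtype_injective.comp e.symm.injective

theorem emb_surj {y : G} (hy : y ∈ (S : Subgroup G)) : ∃ x, emb S e x = y :=
  ⟨e ⟨y, hy⟩, congrArg Subtype.val (e.symm_apply_apply ⟨y, hy⟩)⟩

theorem emb_central {c : P0} (hc : ∀ y, y * c = c * y) :
    emb S e c ∈ Subgroup.centralizer ((S : Subgroup G) : Set G) := by
  intro y hy
  obtain ⟨x, rfl⟩ := emb_surj S e hy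
  rw [← map_mul, ← map_mul, hc]

theorem not_conj_z {c : P0} (hc : ∀ y, y * c = c * y) (hsq : ∀ y : P0, y * y ≠ c) :
    ¬ IsConj (emb S e z0) (emb S e c) := by
  haveI : Fact (Nat.Prime 2) := ⟨Nat.prime_two⟩
  rw [isConj_iff]
  rintro ⟨g, hg⟩
  obtain ⟨n, hn, hn'⟩ := exists_normalizer_conj_of_central S
    (emb_central S e fun y => (central y).2.1) g (hg ▸ emb_central S e hc)
  obtain ⟨y, hy⟩ := emb_surj S e
    ((Subgroup.mem_normalizer_iff.mp hn _).mp (emb_mem S e (1, DihedralGroup.r 1)))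
  refine hsq y (emb_injective S e ?_)
  rw [map_mul, hy, ← hg, ← hn', ← (products).2.2.2.2.2.1, map_mul]
  group

theorem not_conj_uw : ¬ IsConj (emb S e u0) (emb S e w0) := by
  haveI : Fact (Nat.Prime 2) := ⟨Nat.prime_two⟩
  rw [isConj_iff]
  rintro ⟨g, hg⟩
  obtain ⟨n, hn, hn'⟩ := exists_normalizer_conj_of_central S
    (emb_central S e fun y => (central y).1) g (hg ▸ emb_central S e fun y => (central y).2.2)
  rw [hg] at hn'
  -- the square of `z` is fixed, so `n` exchanges `u` and `w`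
  have hz : n * emb S e z0 * n⁻¹ = emb S e z0 := by
    have h1 : n * emb S e z0 * n⁻¹ ∈ Subgroup.centralizer ((S : Subgroup G) : Set G) := by
      intro y hy
      have h2 := emb_central S e (c := z0) (fun y => (central y).2.1) (n⁻¹ * y * n)
        ((Subgroup.mem_normalizer_iff''.mp hn y).mp hy)
      calc y * (n * emb S e z0 * n⁻¹) = n * ((n⁻¹ * y * n) * emb S e z0) * n⁻¹ := by group
        _ = n * (emb S e z0 * (n⁻¹ * y * n)) * n⁻¹ := by rw [h2]
        _ = n * emb S e z0 * n⁻¹ * y := by group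
    obtain ⟨x, hx⟩ := emb_surj S e ((Subgroup.mem_normalizer_iff.mp hn _).mp (emb_mem S e z0))
    have hc : ∀ y, y * x = x * y := fun y => emb_injective S e (by
      rw [map_mul, map_mul, hx]; exact h1 _ (emb_mem S e y))
    have hsq : x * x = 1 := emb_injective S e (by
      rw [map_mul, hx, map_one,
        show n * emb S e z0 * n⁻¹ * (n * emb S e z0 * n⁻¹) = n * (emb S e z0 * emb S e z0) * n⁻¹ by
          group, ← map_mul, products.2.2.2.2.1, map_one]
      group)
    have hcj : IsConj (emb S e z0) (emb S e x) := isConj_iff.mpr ⟨n, hx.symm⟩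
    rcases central_list x hsq hc with rfl | rfl | rfl | rfl
    · rw [map_one] at hx
      exact absurd (emb_injective S e ((conj_eq_one_iff.mp hx.symm).trans (map_one _).symm))
        products.2.2.2.2.2.2.2.2.2.2.2.2.2.2.1
    · exact absurd hcj (not_conj_z S e (fun y => (central y).1) fun y => (sq_ne y).1)
    · exact hx.symm
    · exact absurd hcj (not_conj_z S e (fun y => (central y).2.2) fun y => (sq_ne y).2)
  have hw : n * emb S e w0 * n⁻¹ = emb S e u0 := by
    have e1 : u0 * z0 = w0 := products.2.2.2.2.2.2.2.2.2.2.2.2.2.1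
    have e2 : w0 * z0 = u0 := w0_mul_z0.1
    calc n * emb S e w0 * n⁻¹ = (n * emb S e u0 * n⁻¹) * (n * emb S e z0 * n⁻¹) := by
          rw [← e1, map_mul]; group
      _ = emb S e u0 := by rw [hn', hz, ← map_mul, e2]
  obtain ⟨a, m, hm, hord, -, hmo⟩ := exists_pow_coprime_part (p := 2) n
  have hnm : n ^ m ∈ (S : Subgroup G) := by
    have hle : Subgroup.zpowers (n ^ m) ≤ Subgroup.normalizer ((S : Subgroup G) : Set G) :=
      Subgroup.zpowers_le.mpr (pow_mem hn m)
    have h1 : Subgroup.zpowers (n ^ m) ⊔ (S : Subgroup G) = (S : Subgroup G) :=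
      S.is_maximal' (IsPGroup.to_sup_of_normal_right' (isPGroup_zpowers ⟨a, hmo⟩) S.2 hle)
        le_sup_right
    exact h1.le (Subgroup.mem_sup_left (Subgroup.mem_zpowers _))
  have hk : ∀ k : ℕ, (Even k → n ^ k * emb S e u0 * (n ^ k)⁻¹ = emb S e u0) ∧
      (Odd k → n ^ k * emb S e u0 * (n ^ k)⁻¹ = emb S e w0) := by
    intro k
    induction k with
    | zero => exact ⟨fun _ => by simp, fun h => absurd h (by simp)⟩
    | succ k ih =>
      have e3 : n ^ (k + 1) * emb S e u0 * (n ^ (k + 1))⁻¹ =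
          n * (n ^ k * emb S e u0 * (n ^ k)⁻¹) * n⁻¹ := by rw [pow_succ']; group
      rcases Nat.even_or_odd k with h | h
      · exact ⟨fun h' => absurd h (Nat.even_add_one.mp h'), fun _ => by rw [e3, ih.1 h, hn']⟩
      · exact ⟨fun _ => by rw [e3, ih.2 h, hw],
          fun h' => absurd h (by simpa [Nat.odd_add_one] using h')⟩
  have h3 := (hk m).2 (Nat.not_even_iff_odd.mp fun h => hm (even_iff_two_dvd.mp h))
  rw [(emb_central S e fun y => (central y).1) _ hnm] at h3
  have : u0 = w0 := emb_injective S e (by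
    rw [← h3]; simp [mul_assoc])
  exact w0_mul_z0.2.2 this

/-- The conclusion when `u` is fused to both classes `ea`. -/
theorem final (hea : ∀ i, IsConj (emb S e u0) (emb S e (ea i)))
    (heb : ∀ i, IsConj (emb S e w0) (emb S e (eb i))) : False := by
  haveI : Fact (Nat.Prime 2) := ⟨Nat.prime_two⟩
  set f := emb S e with hf
  obtain ⟨g₀, hg₀⟩ := isConj_iff.mp (hea 0).symm
  set C := Subgroup.centralizer ({f u0} : Set G) with hC
  have hSC : (S : Subgroup G) ≤ C := fun y hy => Subgroup.mem_centralizer_singleton_iff.mpr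
    ((emb_central S e fun y => (central y).1) y hy)
  set Y := ((S : Subgroup G) ⊓ Subgroup.centralizer ({f (ea 0)} : Set G)).map
    (MulAut.conj g₀).toMonoidHom with hY
  have hYC : Y ≤ C := by
    rintro _ ⟨y, hy, rfl⟩
    rw [Subgroup.mem_centralizer_singleton_iff]
    have h2 := Subgroup.mem_centralizer_singleton_iff.mp hy.2
    show g₀ * y * g₀⁻¹ * f u0 = f u0 * (g₀ * y * g₀⁻¹)
    rw [← hg₀]
    calc g₀ * y * g₀⁻¹ * (g₀ * f (ea 0) * g₀⁻¹) = g₀ * (y * f (ea 0)) * g₀⁻¹ := by group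
      _ = g₀ * (f (ea 0) * y) * g₀⁻¹ := by rw [h2]
      _ = _ := by group
  obtain ⟨c, hc, hle⟩ := exists_conj_le_of_not_dvd_relIndex hSC S.2
    (fun hd => S.not_dvd_index (hd.trans (Subgroup.relIndex_dvd_index_of_le hSC))) hYC
    ((S.2.to_le inf_le_left).map _)
  set g := c * g₀ with hg
  have hga : g * f (ea 0) * g⁻¹ = f u0 := by
    calc g * f (ea 0) * g⁻¹ = c * (g₀ * f (ea 0) * g₀⁻¹) * c⁻¹ := by rw [hg]; group
      _ = c * f u0 * c⁻¹ := by rw [hg₀]
      _ = f u0 := by rw [Subgroup.mem_centralizer_singleton_iff.mp hc, mul_inv_cancel_right]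
  have himg : ∀ x, x * ea 0 = ea 0 * x → ∃ y, f y = g * f x * g⁻¹ := by
    intro x hx
    refine emb_surj S e ?_
    have := hle ⟨g₀ * f x * g₀⁻¹, ⟨f x, ⟨emb_mem S e x,
      Subgroup.mem_centralizer_singleton_iff.mpr (by rw [← map_mul, ← map_mul, hx])⟩, rfl⟩, rfl⟩
    simpa [hg, mul_assoc] using this
  obtain ⟨p1, hp1⟩ := himg (ea 1) (ea_comm _ (Or.inr (Or.inl rfl)))
  obtain ⟨p2, hp2⟩ := himg (ea 0 * z0) (ea_comm _ (Or.inr (Or.inr rfl)))
  have hsq : ∀ {x y : P0}, f y = g * f x * g⁻¹ → x * x = 1 → y * y = 1 := by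
    intro x y h hx
    apply emb_injective S e
    rw [map_mul, ← hf, h, map_one,
      show g * f x * g⁻¹ * (g * f x * g⁻¹) = g * (f x * f x) * g⁻¹ by group, ← map_mul, hx, map_one]
    group
  have haz : ∀ i, IsConj (f u0) (f (ea i * z0)) := fun i => (hea i).trans
    (isConj_iff.mpr ⟨f (1, DihedralGroup.r 1), by rw [(class_conj i).1, map_mul, map_mul, map_inv]⟩)
  have hbz : ∀ i, IsConj (f w0) (f (eb i * z0)) := fun i => (heb i).trans
    (isConj_iff.mpr ⟨f (1, DihedralGroup.r 1), by rw [(class_conj i).2, map_mul, map_mul, map_inv]⟩)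
  -- images in the class of `u`
  have huclass : ∀ {x y : P0}, f y = g * f x * g⁻¹ → x * x = 1 → IsConj (f u0) (f x) →
      y = u0 ∨ ∃ i, y = ea i ∨ y = ea i * z0 := by
    intro x y h hx hu
    have hy : IsConj (f u0) (f y) := hu.trans (isConj_iff.mpr ⟨g, h.symm⟩)
    rcases invol_list y (hsq h hx) with rfl | rfl | rfl | rfl | hh | ⟨i, rfl | rfl⟩
    · rw [map_one] at hy
      exact absurd (emb_injective S e ((isConj_one_left.mp hy).trans (map_one _).symm))
        products.2.2.2.2.2.2.2.2.2.2.2.2.2.2.2.2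
    · exact Or.inl rfl
    · exact absurd hy.symm (not_conj_z S e (fun y => (central y).1) fun y => (sq_ne y).1)
    · exact absurd hy (not_conj_uw S e)
    · exact Or.inr hh
    · exact absurd (hy.trans (heb i).symm) (not_conj_uw S e)
    · exact absurd (hy.trans (hbz i).symm) (not_conj_uw S e)
  have h1 := huclass hp1 products.2.2.2.2.2.2.2.2.1 (hea 1)
  have h2 := huclass hp2 products.2.2.2.2.2.2.2.2.2.1 (haz 0)
  have hpz : f (u0 * p2) = g * f z0 * g⁻¹ := by
    rw [← products.2.1, map_mul, map_mul, hp2, ← hga]; group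
  have hpw : f (p1 * p2) = g * f w0 * g⁻¹ := by
    rw [← products.2.2.1, map_mul, map_mul f (ea 1), hp1, hp2]; group
  have hpu : f (u0 * p1) = g * f u0 * g⁻¹ := by
    conv_rhs => rw [← products.1]
    rw [map_mul, map_mul, hp1, ← hga]; group
  have hnu : ∀ {x y : P0}, f y = g * f x * g⁻¹ → ¬ IsConj (f u0) (f x) →
      ∀ i, y ≠ u0 ∧ y ≠ ea i ∧ y ≠ ea i * z0 := by
    intro x y h hx i
    have key : ∀ v, IsConj (f u0) (f v) → y ≠ v := fun v hv e => hx
      (hv.trans (e ▸ (isConj_iff.mpr ⟨g, h.symm⟩ : IsConj (f x) (f y)).symm))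
    exact ⟨key _ (IsConj.refl _), key _ (hea i), key _ (haz i)⟩
  have hz_nu : ¬ IsConj (f u0) (f z0) := fun h =>
    not_conj_z S e (fun y => (central y).1) (fun y => (sq_ne y).1) h.symm
  have hne1 : ∀ {x y : P0}, f y = g * f x * g⁻¹ → x ≠ 1 → y ≠ 1 := by
    intro x y h hx e'
    rw [e', map_one, eq_comm, conj_eq_one_iff] at h
    exact hx (emb_injective S e (h.trans (map_one _).symm))
  have hz : u0 * p2 = z0 := by
    rcases class_list u0 p2 (Or.inl rfl) h2 with h | h | h | h | ⟨i, h | h⟩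
    · exact absurd h (hne1 hpz products.2.2.2.2.2.2.2.2.2.2.2.2.2.2.1)
    · exact absurd h (hnu hpz hz_nu 0).1
    · exact h
    · exact absurd (isConj_iff.mpr ⟨g, (h ▸ hpz).symm⟩)
        (not_conj_z S e (fun y => (central y).2.2) fun y => (sq_ne y).2)
    · exact absurd h (hnu hpz hz_nu i).2.1
    · exact absurd h (hnu hpz hz_nu i).2.2
  have hw : p1 * p2 = w0 := by
    rcases class_list p1 p2 h1 h2 with h | h | h | h | ⟨i, h | h⟩
    · exact absurd h (hne1 hpw w0_mul_z0.2.1)
    · exact absurd h (hnu hpw (not_conj_uw S e) 0).1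
    · exact absurd (isConj_iff.mpr ⟨g, (h ▸ hpw).symm⟩ : IsConj (f w0) (f z0)).symm
        (not_conj_z S e (fun y => (central y).2.2) fun y => (sq_ne y).2)
    · exact h
    · exact absurd h (hnu hpw (not_conj_uw S e) i).2.1
    · exact absurd h (hnu hpw (not_conj_uw S e) i).2.2
  have hzw : g * f u0 * g⁻¹ = f u0 := by
    calc g * f u0 * g⁻¹ = (g * f z0 * g⁻¹) * (g * f w0 * g⁻¹) := by
          rw [← products.2.2.2.1, map_mul]; group
      _ = f u0 := by rw [← hpz, ← hpw, hz, hw, ← map_mul, products.2.2.2.1]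
  exact products.2.2.2.2.2.2.1 (emb_injective S e
    ((MulAut.conj g).injective (hga.trans hzw.symm)))

/-- Each maximal subgroup avoiding `u` meets the class of `u`. -/
theorem meets (hno : ¬ ∃ H : Subgroup G, H.index = 2) {c : P0} (hc : c * c = 1)
    (α β : ZMod 2) (hcχ : chiFun α β c ≠ 1) :
    ∃ y : P0, chiFun α β y = 1 ∧ y * y = 1 ∧ IsConj (emb S e c) (emb S e y) := by
  have hQi : ((chi α β).ker.map (emb S e)).relIndex (S : Subgroup G) = 2 := by
    have hS : (⊤ : Subgroup P0).map (emb S e) = (S : Subgroup G) := by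
      refine le_antisymm ?_ fun y hy => ?_
      · rintro _ ⟨x, -, rfl⟩; exact emb_mem S e x
      · obtain ⟨x, hx⟩ := emb_surj S e hy
        exact ⟨x, trivial, hx⟩
    rw [← hS, Subgroup.relIndex_map_map_of_injective _ _ (emb_injective S e),
      Subgroup.relIndex_top_right, index_chi]
  rcases thompson_transfer S hQi (u := emb S e c) (by rw [← map_mul, hc, map_one])
      (emb_mem S e c) (fun ⟨x, hx, hx'⟩ => hcχ (by
        rw [← emb_injective S e hx']; exact MonoidHom.mem_ker.mp hx)) with ⟨M, -, hM, -⟩ | ⟨g, -, y, hy, hy'⟩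
  · exact absurd ⟨M, hM⟩ hno
  · refine ⟨y, MonoidHom.mem_ker.mp hy, emb_injective S e ?_, isConj_iff.mpr ⟨g, hy'.symm⟩⟩
    rw [map_mul, hy', map_one,
      show g * emb S e c * g⁻¹ * (g * emb S e c * g⁻¹) = g * (emb S e c * emb S e c) * g⁻¹ by group,
      ← map_mul, hc, map_one]
    group

/-- `u` (and likewise `w`) is fused to both classes of one kind. -/
theorem dichotomy (hno : ¬ ∃ H : Subgroup G, H.index = 2) {c : P0} (hc : c * c = 1) (hc1 : c ≠ 1)
    (hχ : ∀ α β, chiFun α β c ≠ 1) (hnz : ¬ IsConj (emb S e c) (emb S e z0)) :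
    (∀ i, IsConj (emb S e c) (emb S e (ea i))) ∨ ∀ i, IsConj (emb S e c) (emb S e (eb i)) := by
  by_contra h
  push Not at h
  obtain ⟨⟨i, hi⟩, ⟨j, hj⟩⟩ := h
  obtain ⟨y, hy, hy2, hconj⟩ := meets S e hno hc i j (hχ i j)
  rcases invol_list y hy2 with rfl | rfl | rfl | rfl | ⟨k, rfl | rfl⟩ | ⟨k, rfl | rfl⟩
  · rw [map_one] at hconj
    exact hc1 (emb_injective S e ((isConj_one_left.mp hconj).trans (map_one _).symm))
  · exact (chi_u0 i j).1 hy
  · exact hnz hconj
  · exact (chi_u0 i j).2 hy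
  · exact hi ((chi_classes i j k).1 hy ▸ hconj)
  · refine hi ((chi_classes i j k).2.1 hy ▸ hconj.trans (isConj_iff.mpr
      ⟨(emb S e (1, DihedralGroup.r 1))⁻¹, ?_⟩))
    rw [(class_conj k).1, map_mul, map_mul, map_inv]; group
  · exact hj ((chi_classes i j k).2.2.1 hy ▸ hconj)
  · refine hj ((chi_classes i j k).2.2.2 hy ▸ hconj.trans (isConj_iff.mpr
      ⟨(emb S e (1, DihedralGroup.r 1))⁻¹, ?_⟩))
    rw [(class_conj k).2, map_mul, map_mul, map_inv]; group

end

/-- A finite group whose Sylow 2-subgroups are isomorphic to the direct product of a group of order 2 and a dihedral group of order 8 has a subgroup of index two. -/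
theorem result {G : Type*} [Group G] [Finite G] (S : Sylow 2 G) (hS : Nonempty (↥(S : Subgroup G) ≃* Multiplicative (ZMod 2) × DihedralGroup 4)) : ∃ H : Subgroup G, H.index = 2 := by
  obtain ⟨e⟩ := hS
  by_contra hno
  have hu := dichotomy S e hno (c := u0) (by decide) (by decide) (fun α β => (chi_u0 α β).1)
    (fun h => not_conj_z S e (fun y => (central y).1) (fun y => (sq_ne y).1) h.symm)
  have hw := dichotomy S e hno (c := w0) (by decide) (by decide) (fun α β => (chi_u0 α β).2)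
    (fun h => not_conj_z S e (fun y => (central y).2.2) (fun y => (sq_ne y).2) h.symm)
  rcases hu with hu | hu <;> rcases hw with hw | hw
  · exact not_conj_uw S e ((hu 0).trans (hw 0).symm)
  · exact final S e hu hw
  · have key : ∀ x, emb S (e.trans swap) x = emb S e (swapInv x) := fun x => rfl
    refine final S (e.trans swap) (fun i => ?_) (fun i => ?_)
    · rw [key, key, swap_facts.1]
      rcases swap_facts.2.2.2 i with h | h <;> rw [h]
      · refine (hu i).trans (isConj_iff.mpr ⟨emb S e (1, DihedralGroup.r 1), ?_⟩)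
        rw [(class_conj i).2, map_mul, map_mul, map_inv]
      · exact hu i
    · rw [key, key, swap_facts.2.1, swap_facts.2.2.1]
      exact hw i
  · exact not_conj_uw S e ((hu 0).trans (hw 0).symm)

end Cfsg.Agent.S2911
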