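import Cfsg.Statements.S2912
import Cfsg.Agent.Lib.Extraspecial.DimBound

set_option autoImplicit false
open Cfsg

open Module
open scoped commutatorElement

namespace Cfsg.Agent.S2912

theorem sum_finrank_le {K V : Type*} [Field K] [AddCommGroup V] [Module K V] [FiniteDimensional K V]
    {ι : Type*} (p : ι → Submodule K V) (hp : iSupIndep p) (s : Finset ι) :
    ∑ i ∈ s, finrank K (p i) = finrank K ↥(s.sup p) := by
  classical
  induction s using Finset.induction_on with
  | empty => rw [Finset.sum_empty, Finset.sup_empty, finrank_bot]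
  | insert a s ha ih =>
    rw [Finset.sum_insert ha, ih, Finset.sup_insert]
    have hd : Disjoint (p a) (s.sup p) :=
      (hp a).mono_right (Finset.sup_le fun i hi =>
        le_iSup₂_of_le i (fun h : i = a => ha (h ▸ hi)) le_rfl)
    have h := Submodule.finrank_sup_add_finrank_inf_eq (p a) (s.sup p)
    rw [hd.eq_bot, finrank_bot, add_zero] at h
    exact h.symm


theorem bound {E : Type*} [Group E] [Finite E] {p r : ℕ} [Fact p.Prime] [hr : Fact r.Prime]
    (hpr : p ≠ r) (w n : ℕ) (hE : Cfsg.IsExtraspecial p E) (hEcard : Nat.card E = p ^ (2 * w + 1))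
    (hmin : ∀ k : ℕ, 1 ≤ k → p ∣ r ^ k - 1 → n ≤ k) (M : Type*) [AddCommGroup M] [Finite M]
    [Module (ZMod r) M] (act : E → M →+ M) (h1 : ∀ m, act 1 m = m)
    (hm : ∀ a b m, act (a * b) m = act a (act b m)) (hinj : ∀ e, (∀ m, act e m = m) → e = 1) :
    r ^ (n * p ^ w) ≤ Nat.card M := by
  classical
  let ρ : E →* Module.End (ZMod r) M :=
    { toFun := fun e => (act e).toZModLinearMap r
      map_one' := LinearMap.ext fun a => h1 a
      map_mul' := fun a b => LinearMap.ext fun x => hm a b x }
  have hρ : Function.Injective ρ :=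
    (injective_iff_map_eq_one _).mpr fun e he => hinj e fun m => LinearMap.congr_fun he m
  haveI : Module.Finite (ZMod r) M := Module.Finite.of_finite
  set d := finrank (ZMod r) M with hd
  have hAc : Nat.card M = r ^ d := by
    rw [Module.natCard_eq_pow_finrank (K := ZMod r), Nat.card_zmod]
  rw [hAc]
  refine Nat.pow_le_pow_right hr.out.pos ?_
  -- extend the scalars
  set K := AlgebraicClosure (ZMod r) with hKdef
  haveI : CharP K r := charP_of_injective_algebraMap (algebraMap (ZMod r) K).injective r
  let b := Module.finBasis (ZMod r) M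
  let φ : Module.End (ZMod r) M →* Matrix (Fin d) (Fin d) (ZMod r) :=
    (LinearMap.toMatrixAlgEquiv b).toAlgHom.toRingHom.toMonoidHom
  have hφ : Function.Injective φ := (LinearMap.toMatrixAlgEquiv b).injective
  let mapK : Matrix (Fin d) (Fin d) (ZMod r) →* Matrix (Fin d) (Fin d) K :=
    (algebraMap (ZMod r) K).mapMatrix.toMonoidHom
  have hmapK : Function.Injective mapK :=
    Matrix.map_injective (algebraMap (ZMod r) K).injective
  let ψM : E →* Matrix (Fin d) (Fin d) K := mapK.comp (φ.comp ρ)
  let ψ : E →* Module.End K (Fin d → K) :=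
    Matrix.toLinAlgEquiv'.toAlgHom.toRingHom.toMonoidHom.comp ψM
  have hψ : Function.Injective ψ :=
    Matrix.toLinAlgEquiv'.injective.comp (hmapK.comp (hφ.comp hρ))
  have hψv : ∀ e v, ψ e v = (ψM e).mulVec v := fun e v => Matrix.toLinAlgEquiv'_apply _ v
  -- the centre
  haveI : Fintype (Subgroup.center E) := Fintype.ofFinite _
  obtain ⟨z, hz⟩ := (isCyclic_of_prime_card (α := Subgroup.center E) hE.2).exists_generator
  have hzo : orderOf z = p := by
    rw [orderOf_eq_card_of_forall_mem_zpowers hz, hE.2]
  have hzE : orderOf (z : E) = p := by rw [Subgroup.orderOf_coe, hzo]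
  have hzpow : ∀ c ∈ Subgroup.center E, ∃ j : ℕ, c = (z : E) ^ j := fun c hc => by
    obtain ⟨j, hj⟩ := (mem_powers_iff_mem_zpowers.mpr (hz ⟨c, hc⟩))
    exact ⟨j, (congrArg Subtype.val hj).symm⟩
  set T := ψ (z : E) with hT
  have hTp : T ^ p = 1 := by rw [hT, ← map_pow, ← hzE, pow_orderOf_eq_one, map_one]
  have hT1 : T ≠ 1 := fun h => by
    have h1 : (z : E) = 1 := hψ (h.trans (map_one ψ).symm)
    rw [h1, orderOf_one] at hzE
    exact (Fact.out : p.Prime).one_lt.ne hzE
  have hTn : ∀ (v : Fin d → K) (μ : K), T v = μ • v → ∀ m : ℕ, (T ^ m) v = μ ^ m • v := fun v μ h m => by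
    induction m with
    | zero => rw [pow_zero, Module.End.one_apply, pow_zero μ, one_smul]
    | succ m ih => rw [pow_succ, Module.End.mul_apply, h, map_smul, ih, smul_smul, mul_comm, pow_succ]
  have hpK : (p : K) ≠ 0 := fun h =>
    hpr ((Nat.prime_dvd_prime_iff_eq hr.out Fact.out).mp ((CharP.cast_eq_zero_iff K r p).mp h)).symm
  -- an eigenvalue other than one
  obtain ⟨ω, hω, hω1⟩ : ∃ ω, Module.End.HasEigenvalue T ω ∧ ω ≠ 1 := by
    set U := LinearMap.range (T - 1) with hU
    haveI : Nontrivial U := by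
      rw [Submodule.nontrivial_iff_ne_bot, hU, ne_eq, LinearMap.range_eq_bot, sub_eq_zero]
      exact hT1
    have hinv : ∀ u ∈ U, T u ∈ U := by
      rintro _ ⟨v, rfl⟩
      exact ⟨T v, by simp⟩
    obtain ⟨ω, hω⟩ := Module.End.exists_eigenvalue (T.restrict hinv)
    obtain ⟨v, hv⟩ := hω.exists_hasEigenvector
    have hv1 : T (v : Fin d → K) = ω • (v : Fin d → K) := congrArg Subtype.val hv.apply_eq_smul
    have hv0 : (v : Fin d → K) ≠ 0 := fun h => hv.2 (Subtype.ext h)
    refine ⟨ω, Module.End.hasEigenvalue_of_hasEigenvector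
      ⟨Module.End.mem_eigenspace_iff.mpr hv1, hv0⟩, fun hone => ?_⟩
    obtain ⟨u, hu⟩ := v.2
    rw [hone, one_smul] at hv1
    simp only [LinearMap.sub_apply, Module.End.one_apply] at hu
    have key : ∀ m : ℕ, (T ^ m) u = u + (m : K) • (v : Fin d → K) := fun m => by
      induction m with
      | zero => simp
      | succ m ih =>
        rw [pow_succ', Module.End.mul_apply, ih, map_add, map_smul, hv1, Nat.cast_succ, add_smul,
          one_smul, eq_add_of_sub_eq hu]
        abel
    have h2 := key p
    rw [hTp, Module.End.one_apply, left_eq_add, smul_eq_zero] at h2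
    exact hv0 (h2.resolve_left hpK)
  have hpow : ∀ μ, Module.End.HasEigenvalue T μ → μ ^ p = 1 := fun μ hμ => by
    obtain ⟨v, hv⟩ := hμ.exists_hasEigenvector
    have h := hTn v μ hv.apply_eq_smul p
    rw [hTp, Module.End.one_apply] at h
    exact (smul_left_injective K hv.2 (h.symm.trans (one_smul K v).symm) :)
  have hωo : orderOf ω = p := orderOf_eq_prime (hpow ω hω) hω1
  -- all Galois conjugates are eigenvalues
  have hfrob : ∀ i : ℕ, Module.End.HasEigenvalue T (ω ^ r ^ i) := by
    intro i
    induction i with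
    | zero => simpa using hω
    | succ i ih =>
      obtain ⟨v, hv⟩ := ih.exists_hasEigenvector
      refine Module.End.hasEigenvalue_of_hasEigenvector (x := frobenius K r ∘ v)
        ⟨Module.End.mem_eigenspace_iff.mpr ?_, fun h => hv.2 ?_⟩
      · have h1 : T v = ω ^ r ^ i • v := hv.apply_eq_smul
        rw [hT, hψv] at h1 ⊢
        have hfix : (ψM (z : E)).map (frobenius K r) = ψM (z : E) := by
          ext a c
          show frobenius K r (algebraMap (ZMod r) K _) = algebraMap (ZMod r) K _
          rw [frobenius_def, ← map_pow, ZMod.pow_card]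
        funext a
        have h2 := RingHom.map_mulVec (frobenius K r) (ψM (z : E)) v a
        rw [hfix, h1] at h2
        rw [← h2]
        simp only [Pi.smul_apply, smul_eq_mul, map_mul, Function.comp_apply]
        congr 1
        rw [frobenius_def, ← pow_mul, ← pow_succ]
      · funext a
        exact (frobenius K r).injective ((congrFun h a).trans (map_zero _).symm)
  have hdist : ∀ i j : Fin n, ω ^ r ^ (i : ℕ) = ω ^ r ^ (j : ℕ) → i = j := by
    have key : ∀ i j : Fin n, (i : ℕ) ≤ j → ω ^ r ^ (i : ℕ) = ω ^ r ^ (j : ℕ) → i = j := by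
      intro i j hij h
      by_contra hne
      have hlt : (i : ℕ) < j := lt_of_le_of_ne hij (fun h => hne (Fin.ext h))
      have hω0 : ω ≠ 0 := fun h0 => by
        have := hpow ω hω
        rw [h0, zero_pow (Fact.out : p.Prime).ne_zero] at this
        exact zero_ne_one this
      have h1 : p ∣ r ^ (j : ℕ) - r ^ (i : ℕ) := by
        rw [← hωo]
        refine orderOf_dvd_of_pow_eq_one ?_
        rw [pow_sub₀ _ hω0 (Nat.pow_le_pow_right hr.out.pos hij), h, mul_inv_cancel₀ (pow_ne_zero _ hω0)]
      rw [show (j : ℕ) = i + (j - i) by omega, pow_add, ← Nat.mul_sub_one,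
        (Fact.out : p.Prime).dvd_mul] at h1
      rcases h1 with h1 | h1
      · exact hpr ((Nat.prime_dvd_prime_iff_eq Fact.out hr.out).mp ((Fact.out : p.Prime).dvd_of_dvd_pow h1))
      · have := hmin _ (by omega) h1
        omega
    intro i j h
    rcases le_total (i : ℕ) j with hij | hij
    · exact key i j hij h
    · exact (key j i hij h.symm).symm
  -- each eigenspace is large
  have hcomm : ∀ g h : E, ⁅g, h⁆ ∈ Subgroup.center E := fun g h =>
    hE.1.2.2 ▸ Subgroup.commutator_mem_commutator (Subgroup.mem_top g) (Subgroup.mem_top h)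
  have hbig : ∀ μ : K, μ ≠ 1 → Module.End.HasEigenvalue T μ → p ^ w ≤ finrank K (T.eigenspace μ) := by
    intro μ hμ1 hμ
    have hμo : orderOf μ = p := orderOf_eq_prime (hpow μ hμ) hμ1
    have hinv : ∀ g, ∀ v ∈ T.eigenspace μ, ψ g v ∈ T.eigenspace μ := fun g v hv => by
      rw [Module.End.mem_eigenspace_iff] at hv ⊢
      rw [hT, ← Module.End.mul_apply, ← map_mul, ← Subgroup.mem_center_iff.mp z.2 g, map_mul,
        Module.End.mul_apply, ← hT, hv, map_smul]
    haveI : Nontrivial (T.eigenspace μ) := Submodule.nontrivial_iff_ne_bot.mpr hμ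
    let F : E →* Module.End K (T.eigenspace μ) :=
      MonoidHom.mk
        { toFun := fun g => (ψ g).restrict (hinv g)
          map_one' := LinearMap.ext fun v => Subtype.ext (show ψ 1 v = v by rw [map_one]; rfl) }
        fun a c => LinearMap.ext fun v => Subtype.ext (show ψ (a * c) v = ψ a (ψ c v) by
          rw [map_mul]; rfl)
    have hFz : ∀ j : ℕ, F ((z : E) ^ j) = μ ^ j • 1 := fun j => by
      refine LinearMap.ext fun v => Subtype.ext ?_
      show ψ ((z : E) ^ j) v = μ ^ j • (v : Fin d → K)
      rw [map_pow, ← hT]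
      exact hTn v μ (Module.End.mem_eigenspace_iff.mp v.2) j
    have hK0 : (Nat.card E : K) ≠ 0 := by
      rw [hEcard, Nat.cast_pow]
      exact pow_ne_zero _ hpK
    have h := CfsgLib.Extraspecial.index_center_le_finrank_sq F
      (fun c hc => by obtain ⟨j, rfl⟩ := hzpow c hc; exact ⟨_, hFz j⟩)
      (fun c hc h1 => by
        obtain ⟨j, rfl⟩ := hzpow c hc
        rw [hFz] at h1
        have h2 : μ ^ j = 1 := by
          obtain ⟨v, hv⟩ := exists_ne (0 : T.eigenspace μ)
          have h4 := LinearMap.congr_fun h1 v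
          simp only [LinearMap.smul_apply, Module.End.one_apply] at h4
          exact smul_left_injective K hv (h4.trans (one_smul K v).symm)
        have h3 := orderOf_dvd_of_pow_eq_one h2
        rw [hμo, ← hzE] at h3
        exact orderOf_dvd_iff_pow_eq_one.mp h3)
      hcomm hK0
    have hi : (Subgroup.center E).index = (p ^ w) ^ 2 := by
      have h1 := (Subgroup.center E).card_mul_index
      rw [hE.2, hEcard, pow_succ', pow_mul'] at h1
      exact Nat.eq_of_mul_eq_mul_left (Fact.out : p.Prime).pos h1
    rw [hi] at h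
    exact Nat.pow_le_pow_iff_left two_ne_zero |>.mp h
  let P : Fin n → Submodule K (Fin d → K) := fun i => T.eigenspace (ω ^ r ^ (i : ℕ))
  have hind : iSupIndep P := (Module.End.eigenspaces_iSupIndep T).comp fun i j h => hdist i j h
  have h1 := sum_finrank_le P hind Finset.univ
  have h2 : ∑ _i : Fin n, p ^ w ≤ ∑ i : Fin n, finrank K (P i) := by
    refine Finset.sum_le_sum fun i _ => hbig _ (fun h => ?_) (hfrob i)
    have h3 := orderOf_dvd_of_pow_eq_one h
    rw [hωo] at h3
    exact hpr ((Nat.prime_dvd_prime_iff_eq Fact.out hr.out).mp ((Fact.out : p.Prime).dvd_of_dvd_pow h3))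
  have h3 := Submodule.finrank_le (Finset.univ.sup P)
  rw [Module.finrank_fin_fun, ← h1] at h3
  rw [Finset.sum_const, Finset.card_univ, Fintype.card_fin, smul_eq_mul] at h2
  omega


/-- Let p and r be distinct primes, let E be an extraspecial subgroup of order p^(2w+1) of a finite group, and let A be an elementary abelian r-subgroup normalized by E on which E acts faithfully (C_E(A) = 1). If n ≥ 1 is least with p dividing rⁿ − 1 (the smallest dimension of a faithful representation of a group of order p over the field with r elements), then the order of A is at least r^(n·p^w). -/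
theorem result {G : Type*} [Group G] [Finite G] {p r : ℕ} [Fact p.Prime] [hr : Fact r.Prime] (hpr : p ≠ r) (E A : Subgroup G) (w : ℕ) (hE : Cfsg.IsExtraspecial p ↥E) (hEcard : Nat.card ↥E = p ^ (2 * w + 1)) (hA : Cfsg.IsElementaryAbelian r A) (hnorm : E ≤ Subgroup.normalizer (A : Set G)) (hfaith : E ⊓ Subgroup.centralizer (A : Set G) = ⊥) (n : ℕ) (hn : 1 ≤ n) (hdiv : p ∣ r ^ n - 1) (hmin : ∀ k : ℕ, 1 ≤ k → p ∣ r ^ k - 1 → n ≤ k) : r ^ (n * p ^ w) ≤ Nat.card ↥A := by
  classical
  haveI := hA.1
  letI : CommGroup A := { (inferInstance : Group A) with mul_comm := fun a b => mul_comm' a b }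
  letI : Module (ZMod r) (Additive A) := AddCommGroup.zmodModule (fun x => by
    have h := hA.2 x.toMul x.toMul.2
    exact congrArg Additive.ofMul (Subtype.ext h : x.toMul ^ r = 1))
  let conj : ↥E →* MulAut A := A.normalizerMonoidHom.comp (Subgroup.inclusion hnorm)
  have hconj : ∀ (e : ↥E) (a : A), ((conj e a : A) : G) = e * a * (e : G)⁻¹ := fun _ _ => rfl
  rw [← Nat.card_congr (Additive.ofMul (α := A)).symm]
  refine bound hpr w n hE hEcard hmin (Additive A)
    (fun e => MonoidHom.toAdditive (conj e).toMonoidHom) (fun m => ?_) (fun a b m => ?_) fun e he => ?_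
  · show Additive.ofMul (conj 1 m.toMul) = m
    rw [map_one]; rfl
  · show Additive.ofMul (conj (a * b) m.toMul) = Additive.ofMul (conj a (conj b m.toMul))
    rw [map_mul]; rfl
  · apply Subtype.ext
    rw [Subgroup.coe_one, ← Subgroup.mem_bot, ← hfaith]
    refine Subgroup.mem_inf.mpr ⟨e.2, Subgroup.mem_centralizer_iff.mpr fun a ha => ?_⟩
    have h2 := congrArg Subtype.val (congrArg Additive.toMul (he (Additive.ofMul ⟨a, ha⟩)))
    exact (mul_inv_eq_iff_eq_mul.mp ((hconj e ⟨a, ha⟩).symm.trans h2)).symm

end Cfsg.Agent.S2912
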