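import Cfsg.Statements.S2913
import Cfsg.Agent.S5523
import Cfsg.Agent.Lib.McLThree.Lsp

set_option autoImplicit false
open Cfsg

namespace Cfsg.Agent.S2913

/-- Let G be a finite group with O_{3'}(G) = 1, Z ≤ G a subgroup of order 3, M = C_G(Z), S a Sylow 3-subgroup of M and J an elementary abelian subgroup of S of order 3⁴. Suppose Q = F*(M) is extraspecial of order 3⁵ and exponent 3, F*(M ⧸ Q) ≅ SL₂(5), J = F*(N_G(J)), and the subgroup of N_G(J) ⧸ J generated by its 3-elements is isomorphic to the alternating group of degree 6. Then F*(G) is isomorphic to the McLaughlin group. -/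
theorem result {G : Type*} [Group G] [Finite G] (hO : Cfsg.pPrimeCore 3 G = ⊥) (Z : Subgroup G) (hZ : Nat.card ↥Z = 3) (S : Sylow 3 ↥(Subgroup.centralizer (Z : Set G))) (J : Subgroup G) (hJS : J ≤ ((S : Subgroup ↥(Subgroup.centralizer (Z : Set G))).map (Subgroup.centralizer (Z : Set G)).subtype)) (hJ : Cfsg.IsElementaryAbelian 3 J) (hJcard : Nat.card ↥J = 3 ^ 4) (hQ : Cfsg.IsExtraspecial 3 ↥(Cfsg.generalizedFittingSubgroup ↥(Subgroup.centralizer (Z : Set G)))) (hQcard : Nat.card ↥(Cfsg.generalizedFittingSubgroup ↥(Subgroup.centralizer (Z : Set G))) = 3 ^ 5) [hQn : (Cfsg.generalizedFittingSubgroup ↥(Subgroup.centralizer (Z : Set G))).Normal] (hexp : ∀ x ∈ Cfsg.generalizedFittingSubgroup ↥(Subgroup.centralizer (Z : Set G)), x ^ 3 = 1) (hFMQ : Nonempty (↥(Cfsg.generalizedFittingSubgroup (↥(Subgroup.centralizer (Z : Set G)) ⧸ Cfsg.generalizedFittingSubgroup ↥(Subgroup.centralizer (Z : Set G)))) ≃* Matrix.SpecialLinearGroup (Fin 2) (ZMod 5))) (hJF : ((Cfsg.generalizedFittingSubgroup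 ↥(Subgroup.normalizer (J : Set G))).map (Subgroup.normalizer (J : Set G)).subtype) = J) [hJn : (J.subgroupOf (Subgroup.normalizer (J : Set G))).Normal] (hA6 : Nonempty (↥(Subgroup.closure {x : ↥(Subgroup.normalizer (J : Set G)) ⧸ J.subgroupOf (Subgroup.normalizer (J : Set G)) | ∃ k : ℕ, orderOf x = 3 ^ k}) ≃* ↥(alternatingGroup (Fin 6)))) : Cfsg.Spor.IsoMcL ↥(Cfsg.generalizedFittingSubgroup G) := by
  haveI : Fact (Nat.Prime 3) := ⟨Nat.prime_three⟩
  obtain ⟨e25⟩ := hFMQ
  obtain ⟨eA⟩ := hA6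
  obtain ⟨⟨hSp, hSmax⟩, hcen, hcore, hcond, hthree⟩ := CfsgLib.McLThree.lsp_facts Z hZ S hQ
  let Sy : Sylow 3 G := ⟨_, hSp, fun hP hle => hSmax _ hP hle⟩
  -- `M₀`
  let NJ := Subgroup.normalizer (J : Set G)
  have hJN : J ≤ NJ := Subgroup.le_normalizer
  have hJp : IsPGroup 3 J := IsPGroup.of_card hJcard
  obtain ⟨fM, hfM, hkM, hJK⟩ := CfsgLib.McLThree.three_quot (J.subgroupOf NJ)
    (hJp.of_equiv (Subgroup.subgroupOfEquivOfLe hJN).symm)
  let KM := Subgroup.closure {x : NJ | ∃ k : ℕ, orderOf x = 3 ^ k}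
  let iM : KM ≃* KM.map NJ.subtype := KM.equivMapOfInjective _ NJ.subtype_injective
  let gM : KM.map NJ.subtype →* alternatingGroup (Fin 6) := (eA.toMonoidHom.comp fM).comp iM.symm.toMonoidHom
  have hgM : Function.Surjective gM := (eA.surjective.comp hfM).comp iM.symm.surjective
  have hkerM : gM.ker = J.subgroupOf (KM.map NJ.subtype) := by
    ext x
    obtain ⟨y, rfl⟩ := iM.surjective x
    rw [MonoidHom.mem_ker, Subgroup.mem_subgroupOf]
    show eA (fM (iM.symm (iM y))) = 1 ↔ _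
    rw [iM.symm_apply_apply, map_eq_one_iff eA eA.injective, hkM, Subgroup.mem_subgroupOf]
    rfl
  have hJM : J ≤ KM.map NJ.subtype := fun j hj =>
    ⟨⟨j, hJN hj⟩, hJK (Subgroup.mem_subgroupOf.mpr hj), rfl⟩
  haveI hnM : (J.subgroupOf (KM.map NJ.subtype)).Normal := hkerM ▸ gM.normal_ker
  let eM := (QuotientGroup.quotientMulEquivOfEq hkerM.symm).trans
    (QuotientGroup.quotientKerEquivOfSurjective gM hgM)
  -- `L₀`
  let C := Subgroup.centralizer (Z : Set G)
  let F := Cfsg.generalizedFittingSubgroup ↥C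
  have hFp : IsPGroup 3 F := hQ.1.1
  obtain ⟨fL, hfL, hkL, hFK⟩ := CfsgLib.McLThree.three_quot F hFp
  let KL := Subgroup.closure {x : C | ∃ k : ℕ, orderOf x = 3 ^ k}
  let E := Cfsg.generalizedFittingSubgroup (C ⧸ F)
  have hgen : Subgroup.closure {y : C ⧸ F | ∃ k : ℕ, orderOf y = 3 ^ k} = E := by
    haveI hEn : E.Normal := CfsgLib.Layer.generalizedFitting_normal
    refine le_antisymm ((Subgroup.closure_le _).mpr ?_) ?_
    · rintro y ⟨k, hk⟩
      exact CfsgLib.McLThree.three_mem_sl E e25 CfsgLib.Layer.centralizer_generalizedFitting_le (k := k)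
        (by rw [← hk, pow_orderOf_eq_one])
    · intro y hy
      have h : e25 ⟨y, hy⟩ ∈ (Subgroup.closure {x : Matrix.SpecialLinearGroup (Fin 2) (ZMod 5) |
          ∃ k : ℕ, orderOf x = 3 ^ k}) := CfsgLib.McLThree.sl_three_gen ▸ Subgroup.mem_top _
      have h' : y ∈ (Subgroup.closure {x : Matrix.SpecialLinearGroup (Fin 2) (ZMod 5) |
          ∃ k : ℕ, orderOf x = 3 ^ k}).map (E.subtype.comp e25.symm.toMonoidHom) :=
        ⟨_, h, congrArg Subtype.val (e25.symm_apply_apply ⟨y, hy⟩)⟩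
      rw [MonoidHom.map_closure] at h'
      refine Subgroup.closure_mono ?_ h'
      rintro _ ⟨x, ⟨k, hk⟩, rfl⟩
      exact ⟨k, by
        rw [MonoidHom.comp_apply, Subgroup.coe_subtype, Subgroup.orderOf_coe, MulEquiv.coe_toMonoidHom,
          MulEquiv.orderOf_eq, hk]⟩
  let eK := (MulEquiv.subgroupCongr hgen).trans e25
  let iL : KL ≃* KL.map C.subtype := KL.equivMapOfInjective _ C.subtype_injective
  let gL : KL.map C.subtype →* Matrix.SpecialLinearGroup (Fin 2) (ZMod 5) :=
    (eK.toMonoidHom.comp fL).comp iL.symm.toMonoidHom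
  have hgL : Function.Surjective gL := (eK.surjective.comp hfL).comp iL.symm.surjective
  have hkerL : gL.ker = (F.map C.subtype).subgroupOf (KL.map C.subtype) := by
    ext x
    obtain ⟨y, rfl⟩ := iL.surjective x
    rw [MonoidHom.mem_ker, Subgroup.mem_subgroupOf]
    show eK (fL (iL.symm (iL y))) = 1 ↔ _
    rw [iL.symm_apply_apply, map_eq_one_iff eK eK.injective, hkL]
    exact (Subgroup.mem_map_iff_mem C.subtype_injective).symm
  have hFL : F.map C.subtype ≤ KL.map C.subtype := Subgroup.map_mono hFK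
  haveI hnL : ((F.map C.subtype).subgroupOf (KL.map C.subtype)).Normal := hkerL ▸ gL.normal_ker
  let eL := (QuotientGroup.quotientMulEquivOfEq hkerL.symm).trans
    (QuotientGroup.quotientKerEquivOfSurjective gL hgL)
  have hCN : C ≤ Subgroup.normalizer (Z : Set G) := fun c hc => Subgroup.mem_normalizer_iff.mpr fun m => by
    constructor
    · intro hm; rw [← Subgroup.mem_centralizer_iff.mp hc m hm, mul_inv_cancel_right]; exact hm
    · intro hm
      have := Subgroup.mem_centralizer_iff.mp hc _ hm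
      have e : m = c * m * c⁻¹ := by
        calc m = c⁻¹ * (c * m * c⁻¹ * c) := by group
          _ = c * m * c⁻¹ := by rw [this]; group
      rwa [e]
  have hL₀ : KL.map C.subtype =
      Subgroup.closure {g : G | g ∈ Subgroup.normalizer (Z : Set G) ∧ ∃ k : ℕ, orderOf g = 3 ^ k} := by
    rw [CfsgLib.McLThree.three_closure_map]
    congr 1
    ext g
    exact ⟨fun h => ⟨hCN h.1, h.2⟩, fun h => ⟨hthree g h.1 h.2, h.2⟩⟩
  refine CfsgLib.McLThree.fstar_isoMcL (Cfsg.Agent.S5523.result Sy Z hcen J hJS hJ.1 hJ.2 hJcard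
    (KM.map NJ.subtype) (CfsgLib.McLThree.three_closure_map NJ) hJM eM
    (KL.map C.subtype) hL₀ (F.map C.subtype) hcore
    (CfsgLib.Extraspecial.isExtraspecial_congr (F.equivMapOfInjective _ C.subtype_injective) hQ)
    ((Subgroup.card_map_of_injective C.subtype_injective).trans hQcard) ?_ hFL eL hcond)
  rintro _ ⟨a, ha, rfl⟩
  exact congrArg Subtype.val (hexp a ha)

end Cfsg.Agent.S2913
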