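import Cfsg.Statements.S2924
import Cfsg.Agent.Lib.Layer.CharP
import Cfsg.Agent.Lib.Layer.Characteristic
import Cfsg.Agent.Lib.Signalizer.CoreBalance
import Cfsg.Agent.Lib.Coprime.Generation
import Cfsg.Agent.S2018

set_option autoImplicit false
set_option linter.style.haveILetI false
open Cfsg

namespace Cfsg.Agent.S2924

open CfsgLib Pointwise
open scoped commutatorElement
open CfsgLib.CharCore

/-- An involution acting without fixed points on an invariant subgroup inverts it. -/
theorem inverts {C : Type*} [Group C] [Finite C] (t : C) (ht : t * t = 1) (O : Subgroup C)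
    (hinv : ∀ o ∈ O, t * o * t ∈ O) (hfix : ∀ o ∈ O, t * o = o * t → o = 1) :
    (∀ o ∈ O, t * o * t = o⁻¹) ∧ ∀ a ∈ O, ∀ b ∈ O, a * b = b * a := by
  have htt : ∀ u : C, t * (t * u) = u := fun u => by rw [← mul_assoc, ht, one_mul]
  let φ : O →* O := MonoidHom.mk' (fun o => ⟨t * o * t, hinv o o.2⟩) fun a b => Subtype.ext (by
    show t * ((a : C) * b) * t = t * a * t * (t * b * t)
    simp only [mul_assoc, htt])
  have hf : MonoidHom.FixedPointFree φ := fun o ho => Subtype.ext (hfix o o.2 (by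
    have h : t * (o : C) * t = o := congrArg Subtype.val ho
    calc t * (o : C) = t * o * t * t := by rw [mul_assoc _ t t, ht, mul_one]
      _ = o * t := by rw [h]))
  have h2 : Function.Involutive φ := fun o => Subtype.ext (by
    show t * (t * (o : C) * t) * t = o
    simp only [mul_assoc, htt, ht, mul_one])
  refine ⟨fun o ho => congrArg Subtype.val (congrFun (hf.coe_eq_inv_of_involutive h2) ⟨o, ho⟩),
    fun a ha b hb => congrArg Subtype.val (hf.commute_all_of_involutive h2 ⟨a, ha⟩ ⟨b, hb⟩).eq⟩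

theorem isPConstrained_of_cp {C : Type*} [Group C] [Finite C] (h : Cp 2 C) :
    Cfsg.IsPConstrained 2 C := by
  obtain ⟨hL, hO⟩ := Layer.centralizer_pCore_le_iff.mp h
  refine Layer.isPConstrained_iff_pLayer_eq_bot.mpr (eq_bot_iff.mpr (sSup_le fun K hK =>
    absurd (Cfsg.Agent.S2018.isComponent_of_centralizes hK ?_) (Layer.layer_eq_bot_iff.mp hL K)))
  rw [hO, Subgroup.commutator_bot_right]

/-- An automorphism of a perfect subgroup which is trivial modulo the center is trivial. -/
theorem centralizes_of_perfect {G : Type*} [Group G] (L : Subgroup G) (hp : ⁅L, L⁆ = L) (s : G)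
    (hmem : ∀ l ∈ L, s * l * s * l⁻¹ ∈ L) (hss : s * s = 1)
    (hc : ∀ l ∈ L, ∀ m ∈ L, s * l * s * l⁻¹ * m = m * (s * l * s * l⁻¹)) :
    ∀ l ∈ L, s * l * s * l⁻¹ = 1 := by
  haveI : Group.IsPerfect L := Subgroup.isPerfect_iff.mpr hp
  have hs2 : ∀ u : G, s * (s * u) = u := fun u => by rw [← mul_assoc, hss, one_mul]
  have hadd : ∀ l ∈ L, ∀ m ∈ L,
      s * (l * m) * s * (l * m)⁻¹ = s * l * s * l⁻¹ * (s * m * s * m⁻¹) := by
    intro l hl m hm
    have e := hc m hm l⁻¹ (inv_mem hl)
    rw [mul_assoc (s * l * s) l⁻¹, ← e]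
    simp only [mul_inv_rev, mul_assoc, hs2]
  have hcen : ∀ l : L, (⟨s * l * s * (l : G)⁻¹, hmem l l.2⟩ : L) ∈ Subgroup.center L := fun l =>
    Subgroup.mem_center_iff.mpr fun m => Subtype.ext (hc l l.2 m m.2).symm
  let φ : L → Subgroup.center L := fun l => ⟨⟨s * l * s * (l : G)⁻¹, hmem l l.2⟩, hcen l⟩
  have hφ : ∀ a b, φ (a * b) = φ a * φ b := fun a b => by
    apply Subtype.ext
    apply Subtype.ext
    exact hadd (a : G) a.2 (b : G) b.2
  intro l hl
  let f : L →* Subgroup.center L := MonoidHom.mk' φ hφ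
  have hk : (⟨l, hl⟩ : L) ∈ f.ker := by
    have h0 : (⊤ : Subgroup L) ≤ f.ker := by
      rw [← Group.IsPerfect.commutator_eq_top (G := L)]
      refine Subgroup.commutator_le.mpr fun a _ b _ => ?_
      rw [MonoidHom.mem_ker, map_commutatorElement, commutatorElement_eq_one_iff_mul_comm]
      exact Subtype.ext (Subgroup.mem_center_iff.mp (f b).2 (f a : L))
    exact h0 (Subgroup.mem_top _)
  have h1 := MonoidHom.mem_ker.mp hk
  have h2 := congrArg (fun u : Subgroup.center L => ((u : L) : G)) h1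
  exact h2

/-- No components, an involution inverting the core, centralizer of characteristic 2 type. -/
theorem isPConstrained_of_inverting {C : Type*} [Group C] [Finite C] (t : C) (ht : t * t = 1)
    (hE : Cfsg.layer C = ⊥)
    (hfix : ∀ o ∈ Cfsg.pPrimeCore 2 C, t * o = o * t → o = 1)
    (hcp : Cp 2 ↥(Subgroup.centralizer ({t} : Set C))) : Cfsg.IsPConstrained 2 C := by
  set O := Cfsg.pPrimeCore 2 C with hOdef
  haveI : O.Normal := Transfer.pPrimeCore_normal 2 C
  have htinv : t⁻¹ = t := inv_eq_of_mul_eq_one_left ht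
  have htt : ∀ u : C, t * (t * u) = u := fun u => by rw [← mul_assoc, ht, one_mul]
  have hinv : ∀ o ∈ O, t * o * t ∈ O := fun o ho => by
    have := (inferInstance : O.Normal).conj_mem o ho t
    rwa [htinv] at this
  obtain ⟨hinvO, hcommO⟩ := inverts t ht O hinv hfix
  refine Layer.isPConstrained_iff_pLayer_eq_bot.mpr (eq_bot_iff.mpr (sSup_le fun K hK =>
    False.elim ?_))
  set π := QuotientGroup.mk' O with hπ
  have hπs : Function.Surjective π := QuotientGroup.mk'_surjective O
  have hL : IsComponent (K.map π) := hK.2.1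
  set L := K.map π with hLdef
  set K0 := Subgroup.centralizer (O : Set C) with hK0
  haveI : K0.Normal := Subgroup.normalizer_eq_top_iff.mp (top_le_iff.mp
    (Coprime.le_normalizer_centralizer (Subgroup.normalizer_eq_top_iff.mpr inferInstance).ge))
  have hOK0 : O ≤ K0 := fun o ho => Subgroup.mem_centralizer_iff.mpr fun b hb => hcommO b hb o ho
  haveI : (K0.map π).Normal := Subgroup.Normal.map inferInstance π hπs
  -- `[C, t]` centralizes the core
  have hc0 : ∀ g : C, t * g * t * g⁻¹ ∈ K0 := by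
    intro g
    refine Subgroup.mem_centralizer_iff.mpr fun o ho => ?_
    have hq : g⁻¹ * o⁻¹ * g ∈ O := by
      have := (inferInstance : O.Normal).conj_mem _ (inv_mem ho) g⁻¹
      rwa [inv_inv] at this
    have h1 := hinvO _ hq
    simp only [mul_inv_rev, inv_inv] at h1
    -- conjugate `h1` back by `g` and `t`
    have h3 : t * o⁻¹ * t = o := by rw [hinvO _ (inv_mem ho), inv_inv]
    calc o * (t * g * t * g⁻¹)
        = t * g * (g⁻¹ * ((t * o * t) * g)) * t * g⁻¹ := by
          simp only [mul_assoc, mul_inv_cancel_left, htt]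
      _ = t * g * (t * (t * (g⁻¹ * o⁻¹ * g) * t)) * g⁻¹ := by
          rw [hinvO o ho]; simp only [mul_assoc, htt]
      _ = t * g * (t * (g⁻¹ * (o * g))) * g⁻¹ := by rw [h1]
      _ = t * g * t * g⁻¹ * o := by group
  -- the component does not lie in the image of `K0`
  have hLN : ⁅L, K0.map π⁆ = ⊥ := by
    refine (Layer.le_or_commutator_eq_bot hL (inferInstance : (K0.map π).Normal).isSubnormal
      ).resolve_left fun h => ?_
    have h1 : K ≤ K0 := by
      refine (Subgroup.map_le_iff_le_comap.mp h).trans ?_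
      rw [Subgroup.comap_map_eq, hπ, QuotientGroup.ker_mk']
      exact sup_le le_rfl hOK0
    exact Layer.layer_eq_bot_iff.mp hE K (Cfsg.Agent.S2018.isComponent_of_centralizes hK
      (Subgroup.commutator_eq_bot_iff_le_centralizer.mpr h1))
  set s := π t with hs
  have hss : s * s = 1 := by rw [hs, ← map_mul, ht, map_one]
  have hsinv : s⁻¹ = s := inv_eq_of_mul_eq_one_left hss
  have hcL : ∀ l ∈ L, ∀ m ∈ L, s * l * s * l⁻¹ * m = m * (s * l * s * l⁻¹) := by
    intro l _ m hm
    obtain ⟨g, rfl⟩ := hπs l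
    have h1 : π (t * g * t * g⁻¹) ∈ K0.map π := Subgroup.mem_map_of_mem π (hc0 g)
    simp only [map_mul, map_inv] at h1
    exact (Subgroup.mem_centralizer_iff.mp
      (Subgroup.commutator_eq_bot_iff_le_centralizer.mp hLN hm) _ h1)
  have hsL : MulAut.conj s • L = L := by
    by_contra hne
    have h1 := Subgroup.commutator_eq_bot_iff_le_centralizer.mp
      (Layer.commutator_eq_bot_of_ne (Layer.isComponent_conj hL s) hL hne)
    refine Layer.not_isSolvable_of_isComponent hL (Group.isSolvable_of_comm fun a b =>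
      Subtype.ext ?_)
    show (a : C ⧸ O) * b = b * a
    have h2 : s * (a : C ⧸ O) * s ∈ MulAut.conj s • L := by
      have := Subgroup.smul_mem_pointwise_smul (a : C ⧸ O) (MulAut.conj s) L a.2
      rwa [MulAut.smul_def, MulAut.conj_apply, hsinv] at this
    have h3 : Commute (s * (a : C ⧸ O) * s) (b : C ⧸ O) :=
      (Subgroup.mem_centralizer_iff.mp (h1 h2) b b.2).symm
    have h4 : Commute (s * (a : C ⧸ O) * s * (a : C ⧸ O)⁻¹) (b : C ⧸ O) := hcL a a.2 b b.2
    have h5 := h4.inv_left.mul_left h3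
    simp only [mul_inv_rev, inv_inv, mul_assoc, inv_mul_cancel_left] at h5
    rw [inv_mul_cancel, mul_one] at h5
    exact h5.eq
  have hmem : ∀ l ∈ L, s * l * s * l⁻¹ ∈ L := fun l hl => by
    have := Subgroup.smul_mem_pointwise_smul l (MulAut.conj s) L hl
    rw [hsL, MulAut.smul_def, MulAut.conj_apply, hsinv] at this
    exact mul_mem this (inv_mem hl)
  have hLs : L ≤ Subgroup.centralizer ({s} : Set (C ⧸ O)) := by
    intro l hl
    have h1 : s * l * s * l⁻¹ = 1 :=
      centralizes_of_perfect L (Layer.isPerfect_of_isComponent hL) s hmem hss hcL l hl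
    refine Subgroup.mem_centralizer_singleton_iff.mpr ?_
    have h2 : s * l * s = l := mul_inv_eq_one.mp h1
    calc l * s = s * l * s * s := by rw [h2]
      _ = s * l := by rw [mul_assoc _ s s, hss, mul_one]
  -- the centralizer upstairs maps isomorphically
  set H := Subgroup.centralizer ({t} : Set C) with hH
  let r : H →* Subgroup.centralizer ({s} : Set (C ⧸ O)) :=
    (π.comp H.subtype).codRestrict _ fun u => Subgroup.mem_centralizer_singleton_iff.mpr (by
      show π (u : C) * π t = π t * π (u : C)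
      rw [← map_mul, ← map_mul, Subgroup.mem_centralizer_singleton_iff.mp u.2])
  have hr : Function.Bijective r := by
    constructor
    · refine (injective_iff_map_eq_one r).mpr fun u hu => Subtype.ext ?_
      have h1 : π (u : C) = 1 := congrArg Subtype.val hu
      exact hfix u ((QuotientGroup.eq_one_iff _).mp h1)
        (Subgroup.mem_centralizer_singleton_iff.mp u.2).symm
    · rintro ⟨q, hq⟩
      obtain ⟨g, rfl⟩ := hπs q
      have ho : g⁻¹ * (t * g * t) ∈ O := by
        refine (QuotientGroup.eq_one_iff _).mp ?_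
        show π (g⁻¹ * (t * g * t)) = 1
        simp only [map_mul, map_inv]
        rw [show s * π g * s = π g * (s * s) by
          rw [← Subgroup.mem_centralizer_singleton_iff.mp hq]; group, hss, mul_one, inv_mul_cancel]
      set o := g⁻¹ * (t * g * t) with ho'
      set n := Nat.card O with hn
      obtain ⟨k, hk⟩ : Odd n := Nat.coprime_two_right.mp (Transfer.pPrimeCore_coprime 2)
      set a := o ^ (k + 1) with ha
      have hon : o ^ n = 1 := congrArg Subtype.val (pow_card_eq_one' (x := (⟨o, ho⟩ : O)))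
      have haa : a * a = o := by
        rw [ha, ← pow_add, show k + 1 + (k + 1) = n + 1 by omega, pow_succ, hon, one_mul]
      have haO : a ∈ O := pow_mem ho _
      have hfixga : t * (g * a) * t = g * a := by
        have e1 : t * (g * a) * t = t * g * t * (t * a * t) := by simp only [mul_assoc, htt]
        rw [e1, hinvO a haO, show t * g * t = g * o by rw [ho']; group, mul_assoc, ← haa,
          mul_inv_cancel_right]
      refine ⟨⟨g * a, Subgroup.mem_centralizer_singleton_iff.mpr ?_⟩, Subtype.ext ?_⟩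
      · calc g * a * t = t * (g * a) * t * t := by rw [hfixga]
          _ = t * (g * a) := by rw [mul_assoc _ t t, ht, mul_one]
      · show π (g * a) = π g
        rw [map_mul, (QuotientGroup.eq_one_iff a).mpr haO |> fun h => (h : π a = 1), mul_one]
  exact Layer.layer_eq_bot_iff.mp (Layer.centralizer_pCore_le_iff.mp hcp).1 _
    (Layer.isComponent_map_equiv (MulEquiv.ofBijective r hr).symm
      (Layer.isComponent_subgroupOf hL hLs))

theorem commute_closure {X : Type*} [Group X] {S : Set X}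
    (h : ∀ a ∈ S, ∀ b ∈ S, a * b = b * a) :
    ∀ a ∈ Subgroup.closure S, ∀ b ∈ Subgroup.closure S, a * b = b * a := by
  have h1 : Subgroup.closure S ≤ Subgroup.centralizer S :=
    (Subgroup.closure_le _).mpr fun a ha => Subgroup.mem_centralizer_iff.mpr fun b hb => h b hb a ha
  intro a ha b hb
  have h2 := h1 ha
  rw [← Subgroup.centralizer_closure] at h2
  exact (Subgroup.mem_centralizer_iff.mp h2 b hb).symm

theorem odd_orderOf_closure {X : Type*} [Group X] [Finite X] {S : Set X}
    (h : ∀ a ∈ S, ∀ b ∈ S, a * b = b * a) (hodd : ∀ a ∈ S, Odd (orderOf a)) :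
    ∀ a ∈ Subgroup.closure S, Odd (orderOf a) := by
  intro a ha
  induction ha using Subgroup.closure_induction with
  | mem x hx => exact hodd x hx
  | one => simp
  | mul x y hx hy ihx ihy =>
    exact Odd.of_dvd_nat (ihx.mul ihy)
      (Commute.orderOf_mul_dvd_mul_orderOf (commute_closure h x hx y hy))
  | inv x hx ihx => rwa [orderOf_inv]

/-- Let X be a finite group and Y an elementary abelian 2-subgroup of X of order at least 8 such that C_X(x) has no components (E(C_X(x)) = 1) for every nontrivial x ∈ Y, and F*(C_X(z)) = O₂(C_X(z)) for some nontrivial z ∈ Y. Then the subgroup generated by the cores O(C_X(y)), y ∈ Y nontrivial, has odd order and is normalized by N_X(Y). -/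
theorem result {X : Type*} [Group X] [Finite X] (Y : Subgroup X) (hY : Cfsg.IsElementaryAbelian 2 Y) (h8 : 8 ≤ Nat.card ↥Y) (hE : ∀ x ∈ Y, x ≠ 1 → Cfsg.layer ↥(Subgroup.centralizer ({x} : Set X)) = ⊥) (hz : ∃ z ∈ Y, z ≠ 1 ∧ Cfsg.generalizedFittingSubgroup ↥(Subgroup.centralizer ({z} : Set X)) = Cfsg.pCore 2 ↥(Subgroup.centralizer ({z} : Set X))) : Odd (Nat.card ↥(⨆ y : {y : X // y ∈ Y ∧ y ≠ 1}, (Cfsg.oddCore ↥(Subgroup.centralizer ({(y : X)} : Set X))).map (Subgroup.centralizer ({(y : X)} : Set X)).subtype)) ∧ Subgroup.normalizer (Y : Set X) ≤ Subgroup.normalizer ((⨆ y : {y : X // y ∈ Y ∧ y ≠ 1}, (Cfsg.oddCore ↥(Subgroup.centralizer ({(y : X)} : Set X))).map (Subgroup.centralizer ({(y : X)} : Set X)).subtype : Subgroup X) : Set X) := by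
  haveI : Fact (Nat.Prime 2) := ⟨Nat.prime_two⟩
  obtain ⟨z, hzY, hz1, hzF⟩ := hz
  have hcpz : Cp 2 ↥(Subgroup.centralizer ({z} : Set X)) :=
    Layer.generalizedFitting_eq_pCore_iff.mp hzF
  obtain ⟨hcommY, hexpY⟩ := hY
  have hcY : ∀ u ∈ Y, ∀ v ∈ Y, u * v = v * u := fun u hu v hv =>
    congrArg Subtype.val (mul_comm' (⟨u, hu⟩ : Y) ⟨v, hv⟩)
  set θ := fun y : X => Cfsg.centralizerPPrimeCore 2 y with hθ
  have hzθ : θ z = ⊥ := by
    show (Cfsg.pPrimeCore 2 _).map _ = ⊥
    rw [(Layer.centralizer_pCore_le_iff.mp hcpz).2, Subgroup.map_bot]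
  have hfix : ∀ y ∈ Y, ∀ u ∈ θ y, z * u = u * z → u = 1 := by
    intro y hy u hu huz
    refine Subgroup.mem_bot.mp (hzθ ▸ Signalizer.centralizerPPrimeCore_balance (hcY y hy z hzY)
      (hexpY y hy) (isPConstrained_of_cp hcpz) ?_)
    exact Subgroup.mem_inf.mpr ⟨hu, Subgroup.mem_centralizer_singleton_iff.mpr huz.symm⟩
  have hzz : z * z = 1 := by rw [← pow_two]; exact hexpY z hzY
  have hzinv : z⁻¹ = z := inv_eq_of_mul_eq_one_left hzz
  have hnorm : ∀ y ∈ Y, Y ≤ Subgroup.normalizer (θ y : Set X) := fun y hy =>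
    le_trans (fun u hu => Subgroup.mem_centralizer_singleton_iff.mpr (hcY u hu y hy))
      (Signalizer.centralizerPPrimeCore_normalized y)
  have habel : ∀ y ∈ Y, ∀ a ∈ θ y, ∀ b ∈ θ y, a * b = b * a := fun y hy =>
    (inverts z hzz (θ y) (fun o ho => by
      have := (Subgroup.mem_normalizer_iff.mp (hnorm y hy hzY) o).mp ho
      rwa [hzinv] at this) (hfix y hy)).2
  -- the centralizers are constrained, so balance holds
  have hbal : ∀ y ∈ Y, ∀ w ∈ Y, w ≠ 1 → θ y ⊓ Subgroup.centralizer ({w} : Set X) ≤ θ w := by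
    intro y hy w hw hw1
    refine Signalizer.centralizerPPrimeCore_balance (hcY y hy w hw) (hexpY y hy) ?_
    set C := Subgroup.centralizer ({w} : Set X) with hC
    have hzC : z ∈ C := Subgroup.mem_centralizer_singleton_iff.mpr (hcY z hzY w hw)
    refine isPConstrained_of_inverting (⟨z, hzC⟩ : C) (Subtype.ext hzz) (hE w hw hw1)
      (fun o ho hoz => Subtype.ext (hfix w hw o (Subgroup.mem_map_of_mem _ ho)
        (congrArg Subtype.val hoz))) ?_
    set Z := Subgroup.zpowers w with hZ
    set D := Subgroup.centralizer ({z} : Set X) with hD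
    have hwD : Z ≤ D := Subgroup.zpowers_le.mpr
      (Subgroup.mem_centralizer_singleton_iff.mpr (hcY w hw z hzY))
    have hZp : IsPGroup 2 Z := by
      rintro ⟨u, k, rfl⟩
      refine ⟨1, Subtype.ext ?_⟩
      show (w ^ k) ^ 2 ^ 1 = 1
      rw [pow_one, ← zpow_natCast, ← zpow_mul, mul_comm, zpow_mul, zpow_natCast, hexpY w hw, one_zpow]
    have e : Subgroup.centralizer (Z : Set X) = C := by
      rw [hZ, Subgroup.zpowers_eq_closure, Subgroup.centralizer_closure]
    have h1 : Cp 2 ↥(D ⊓ Subgroup.centralizer (Z : Set X)) :=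
      cp_of_normal (inf_le_inf_left D (Subgroup.centralizer_le_normalizer _))
        (Coprime.le_normalizer_inf_of_le (inf_le_left.trans Subgroup.le_normalizer)
          (inf_le_right.trans (Coprime.le_normalizer_centralizer le_rfl)))
        (cp_inf_normalizer hwD hZp hcpz)
    rw [e] at h1
    have e2 : (Subgroup.centralizer ({(⟨z, hzC⟩ : C)} : Set C)).map C.subtype = D ⊓ C := by
      ext u
      simp only [Subgroup.mem_map, Subgroup.mem_inf, hD, Subgroup.mem_centralizer_singleton_iff,
        Subgroup.coe_subtype]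
      constructor
      · rintro ⟨v, hv, rfl⟩
        exact ⟨congrArg Subtype.val hv, v.2⟩
      · rintro ⟨h, hu⟩
        exact ⟨⟨u, hu⟩, Subtype.ext h, rfl⟩
    exact cp_congr (Subgroup.equivMapOfInjective _ C.subtype C.subtype_injective).symm
      (cp_of_eq e2.symm h1)
  set W := (⨆ y : {y : X // y ∈ Y ∧ y ≠ 1}, (Cfsg.oddCore ↥(Subgroup.centralizer ({(y : X)} : Set X))).map (Subgroup.centralizer ({(y : X)} : Set X)).subtype) with hW
  set S := {u : X | ∃ y ∈ Y, ∃ B ≤ Y, B.relIndex Y ≤ 2 ∧
    u ∈ θ y ⊓ Subgroup.centralizer (B : Set X)} with hS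
  have hWS : W ≤ Subgroup.closure S := iSup_le fun ⟨y, hy, _⟩ => by
    refine Coprime.le_of_hyperplane_centralizer_le (p := 2) (A := Y) (K := θ y) hcommY hexpY
      (by omega) (hnorm y hy) ?_ fun B hB hidx u hu => Subgroup.subset_closure ⟨y, hy, B, hB, hidx, hu⟩
    obtain ⟨k, hk⟩ := IsPGroup.iff_card.mp (show IsPGroup 2 Y from fun b =>
      ⟨1, Subtype.ext (by rw [pow_one]; exact hexpY b b.2)⟩)
    rw [hk]
    exact (Signalizer.coprime_centralizerPPrimeCore y).symm.pow_left k
  have hScomm : ∀ a ∈ S, ∀ b ∈ S, a * b = b * a := by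
    rintro a ⟨y, hy, B, hB, hidx, ha⟩ b ⟨y', hy', B', hB', hidx', hb⟩
    obtain ⟨ha1, ha2⟩ := Subgroup.mem_inf.mp ha
    obtain ⟨hb1, hb2⟩ := Subgroup.mem_inf.mp hb
    obtain ⟨h, hh, hh1⟩ : ∃ h ∈ B ⊓ B', h ≠ 1 := Signalizer.exists_ne_one_of_ne_bot fun he => by
      have h1 := Subgroup.relIndex_inf_le (H := B) (K := B') (L := Y)
      rw [he, Subgroup.relIndex_bot_left] at h1
      have := Nat.mul_le_mul hidx hidx'
      omega
    obtain ⟨hhB, hhB'⟩ := Subgroup.mem_inf.mp hh
    exact habel h (hB hhB) a (hbal y hy h (hB hhB) hh1 (Subgroup.mem_inf.mpr ⟨ha1,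
        Subgroup.mem_centralizer_singleton_iff.mpr (Subgroup.mem_centralizer_iff.mp ha2 h hhB).symm⟩))
      b (hbal y' hy' h (hB hhB) hh1 (Subgroup.mem_inf.mpr ⟨hb1,
        Subgroup.mem_centralizer_singleton_iff.mpr (Subgroup.mem_centralizer_iff.mp hb2 h hhB').symm⟩))
  have hSodd : ∀ a ∈ S, Odd (orderOf a) := by
    rintro a ⟨y, hy, B, hB, hidx, ha⟩
    exact Odd.of_dvd_nat (Nat.coprime_two_right.mp (Signalizer.coprime_centralizerPPrimeCore y))
      (Subgroup.orderOf_dvd_natCard _ (Subgroup.mem_inf.mp ha).1)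
  refine ⟨?_, ?_⟩
  · by_contra hev
    obtain ⟨u, hu⟩ := exists_prime_orderOf_dvd_card' 2
      (even_iff_two_dvd.mp (Nat.not_odd_iff_even.mp hev))
    have h1 := odd_orderOf_closure hScomm hSodd u (hWS u.2)
    rw [Subgroup.orderOf_coe, hu] at h1
    exact (by decide : ¬ Odd 2) h1
  · intro g hg
    refine Subgroup.mem_normalizer_fintype fun n hn => ?_
    refine (show W ≤ W.comap (MulAut.conj g).toMonoidHom from iSup_le fun ⟨y, hy, hy1⟩ => ?_) hn
    refine Subgroup.map_le_iff_le_comap.mp ((Signalizer.centralizerPPrimeCore_conj 2 y g).symm.trans_le ?_)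
    exact le_iSup (fun y : {y : X // y ∈ Y ∧ y ≠ 1} =>
      Cfsg.centralizerPPrimeCore 2 (y : X))
      ⟨g * y * g⁻¹, (Subgroup.mem_normalizer_iff.mp hg y).mp hy, fun h => hy1 (conj_eq_one_iff.mp h)⟩

end Cfsg.Agent.S2924
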