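import Cfsg.Statements.S2925
import Cfsg.Agent.Lib.Layer.Basic
import Cfsg.Agent.Lib.Layer.CharPSubnormal
import Cfsg.Agent.Lib.Transfer.Sylow
import Cfsg.Agent.Lib.PSolvable.Core

set_option autoImplicit false
open Cfsg
open scoped commutatorElement
set_option linter.style.haveILetI false

namespace Cfsg.Agent.S2925

/-- Let K be a component of the finite group X and T a Sylow 2-subgroup of X. If some abelian normal subgroup Y of T does not normalize K, then K ⧸ Z(K) has abelian Sylow 2-subgroups. -/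
theorem result {X : Type*} [Group X] [Finite X] (K : Subgroup X) (hK : Cfsg.IsComponent K) (T : Sylow 2 X) (Y : Subgroup X) (hYT : Y ≤ (T : Subgroup X)) (hYn : (Y.subgroupOf (T : Subgroup X)).Normal) (hYab : IsMulCommutative ↥Y) (hnot : ¬ Y ≤ Subgroup.normalizer (K : Set X)) (P : Sylow 2 (↥K ⧸ Subgroup.center ↥K)) : IsMulCommutative ↥(P : Subgroup (↥K ⧸ Subgroup.center ↥K)) := by
  haveI : Fact (Nat.Prime 2) := ⟨Nat.prime_two⟩
  obtain ⟨y, hyY, hyK⟩ := SetLike.not_le_iff_exists.mp hnot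
  set K' := K.map (MulAut.conj y).toMonoidHom with hK'
  have hne : K ≠ K' := fun h => hyK (CfsgLib.Transfer.map_conj_eq_self_iff.mp h.symm)
  have hK'c : Cfsg.IsComponent K' := by
    rw [hK', ← CfsgLib.Coprime.conj_smul_eq_map]; exact CfsgLib.Layer.isComponent_conj hK y
  have hcom : ∀ a ∈ K, ∀ b ∈ K', Commute a b := fun a ha b hb => by
    have h := Subgroup.commutator_mem_commutator ha hb
    rw [CfsgLib.Layer.commutator_eq_bot_of_ne hK hK'c hne, Subgroup.mem_bot,
      commutatorElement_eq_one_iff_commute] at h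
    exact h
  have hidx : ¬ 2 ∣ ((T : Subgroup X).subgroupOf K).index :=
    CfsgLib.CharCore.not_dvd_relIndex_of_isSubnormal hK.1 T
  let R : Sylow 2 K := (T.2.comap_of_injective _ K.subtype_injective).toSylow hidx
  have key : ∀ a b : K, a ∈ (R : Subgroup K) → b ∈ (R : Subgroup K) →
      (b * a)⁻¹ * (a * b) ∈ Subgroup.center K := by
    intro a b ha hb
    have hw : ∀ c : K, c ∈ (R : Subgroup K) →
        (c : X) * (y * (c : X)⁻¹ * y⁻¹) ∈ Y := by
      intro c hc
      have hcT : (c : X) ∈ (T : Subgroup X) := hc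
      have h1 : (c : X) * y * (c : X)⁻¹ ∈ Y :=
        hYn.conj_mem ⟨y, hYT hyY⟩ hyY ⟨(c : X), hcT⟩
      have h2 := Y.mul_mem h1 (Y.inv_mem hyY)
      rwa [show (c : X) * y * (c : X)⁻¹ * y⁻¹ = (c : X) * (y * (c : X)⁻¹ * y⁻¹) by group] at h2
    set a' := y * (a : X)⁻¹ * y⁻¹ with ha'
    set b' := y * (b : X)⁻¹ * y⁻¹ with hb'
    have ha'K : a' ∈ K' := ⟨(a : X)⁻¹, K.inv_mem a.2, rfl⟩
    have hb'K : b' ∈ K' := ⟨(b : X)⁻¹, K.inv_mem b.2, rfl⟩
    have h3 : ((a : X) * a') * ((b : X) * b') = ((b : X) * b') * ((a : X) * a') :=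
      congrArg Subtype.val (hYab.is_comm.comm ⟨_, hw a ha⟩ ⟨_, hw b hb⟩)
    have h4 : (a : X) * b * (a' * b') = (b : X) * a * (b' * a') := by
      have e1 : Commute a' (b : X) := (hcom _ b.2 _ ha'K).symm
      have e2 : Commute b' (a : X) := (hcom _ a.2 _ hb'K).symm
      calc (a : X) * b * (a' * b') = (a : X) * ((b : X) * a') * b' := by group
        _ = (a : X) * a' * ((b : X) * b') := by rw [← e1.eq]; group
        _ = (b : X) * b' * ((a : X) * a') := h3
        _ = (b : X) * (b' * (a : X)) * a' := by group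
        _ = _ := by rw [e2.eq]; group
    have h5 : ((b : X) * a)⁻¹ * ((a : X) * b) = (b' * a') * (a' * b')⁻¹ := by
      rw [eq_mul_inv_iff_mul_eq]
      calc ((b : X) * a)⁻¹ * ((a : X) * b) * (a' * b')
          = ((b : X) * a)⁻¹ * ((a : X) * b * (a' * b')) := by group
        _ = b' * a' := by rw [h4]; group
    rw [Subgroup.mem_center_iff]
    intro k
    refine Subtype.ext ?_
    show (k : X) * (((b : X) * a)⁻¹ * ((a : X) * b)) = ((b : X) * a)⁻¹ * ((a : X) * b) * k
    rw [h5]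
    exact (hcom _ k.2 _ (K'.mul_mem (K'.mul_mem hb'K ha'K) (K'.inv_mem (K'.mul_mem ha'K hb'K)))).eq
  have hsurj : Function.Surjective (QuotientGroup.mk' (Subgroup.center K)) :=
    QuotientGroup.mk'_surjective _
  obtain ⟨g, hg⟩ := CfsgLib.Transfer.exists_map_conj_sylow_eq (R.mapSurjective hsurj) P
  refine ⟨⟨fun u v => Subtype.ext ?_⟩⟩
  obtain ⟨_, ⟨a, ha, rfl⟩, hu⟩ := hg.ge u.2
  obtain ⟨_, ⟨b, hb, rfl⟩, hv⟩ := hg.ge v.2
  rw [Subgroup.coe_mul, Subgroup.coe_mul, ← hu, ← hv, ← map_mul, ← map_mul]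
  rw [← map_mul, ← map_mul]
  refine congrArg _ ?_
  exact QuotientGroup.eq.mpr (key b a hb ha)

end Cfsg.Agent.S2925
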