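import Cfsg.Statements.S2928
import Cfsg.Agent.Lib.Perm.PairSystem

set_option autoImplicit false
set_option linter.style.haveILetI false
open Cfsg Equiv CfsgLib.AltOnSet CfsgLib.PairSystem

namespace Cfsg.Agent.S2928

/-- A permutation group with quasisimple generalized Fitting subgroup and a system of pairs has a three cycle. -/
theorem exists_three {n k : ℕ} (H : Subgroup (Perm (Fin n))) (E : Subgroup (Perm (Fin n))) (hEH : E ≤ H)
    (hqE : IsQuasisimple E) (hEn : ∀ g ∈ H, ∀ e ∈ E, g * e * g⁻¹ ∈ E)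
    (hcent : ∀ g ∈ H, (∀ e ∈ E, g * e = e * g) → g ∈ E)
    (ι : Fin k × Fin 2 ↪ Fin n) (hk : 4 ≤ k) (hn : n ≤ 2 * k + 1) (hπ : ∀ i j, i ≠ j → tau ι i j ∈ H)
    (h64 : k = 4 → ∃ Q : Subgroup (Perm (Fin n)), Q ≤ H ∧ Q ≤ alternatingGroup (Fin n) ∧ 64 ∣ Nat.card Q) :
    ∃ c ∈ H, c.IsThreeCycle := by
  classical
  by_contra hcon
  have h3 : ∀ c ∈ H, ¬ c.IsThreeCycle := fun c hc hc3 => hcon ⟨c, hc, hc3⟩
  haveI : Group.IsPerfect E := hqE.1
  haveI := CfsgLib.Layer.nontrivial_of_isQuasisimple hqE
  have hdom : ∀ g ∈ H, ∀ z, g z ∈ dom ι ↔ z ∈ dom ι := fun g hg z =>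
    ⟨fun h => by
      have := dom_invariant h3 hk hn hπ (inv_mem hg) h
      rwa [CfsgLib.PairSystem.inv_apply'] at this, dom_invariant h3 hk hn hπ hg⟩
  have hout : ∀ g ∈ H, ∀ z, z ∉ dom ι → g z = z := fun g hg z hz => by
    have hle := sdiff_card_le (ι := ι) hn (Finset.univ : Finset (Fin n))
    exact Finset.card_le_one.mp hle _
      (Finset.mem_sdiff.mpr ⟨Finset.mem_univ _, fun h => hz ((hdom g hg z).mp h)⟩) _
      (Finset.mem_sdiff.mpr ⟨Finset.mem_univ _, hz⟩)
  by_cases hev : ∀ t ∈ H, DT t → t.support ⊆ dom ι ∧ ∀ i, (t.support ∩ pr ι i).card ≠ 1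
  · -- the pairs are blocks of `H`
    let K : Subgroup (Perm (Fin n)) :=
      { carrier := {h | h ∈ H ∧ ∀ i, ∀ z ∈ pr ι i, h z ∈ pr ι i}
        one_mem' := ⟨one_mem H, fun _ _ h => h⟩
        mul_mem' := fun {u v} hu hv => ⟨mul_mem hu.1 hv.1, fun i z hz => hu.2 i _ (hv.2 i z hz)⟩
        inv_mem' := fun {u} hu => ⟨inv_mem hu.1, fun i z hz => by
          obtain ⟨w, hw, hwz⟩ := Finset.mem_image.mp
            ((Finset.eq_of_subset_of_card_le (s := (pr ι i).image u) (fun w hw => by
              obtain ⟨v, hv, rfl⟩ := Finset.mem_image.mp hw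
              exact hu.2 i v hv) (Finset.card_image_of_injective _ u.injective).ge).symm ▸ hz)
          rw [← hwz, CfsgLib.PairSystem.inv_apply']
          exact hw⟩ }
    have hKab : ∀ u ∈ K, ∀ v ∈ K, u * v = v * u := by
      intro u hu v hv
      refine Equiv.ext fun z => ?_
      by_cases hz : z ∈ dom ι
      · obtain ⟨i, -, hi⟩ := Finset.mem_biUnion.mp hz
        obtain ⟨a, b, hab, he⟩ := Finset.card_eq_two.mp (card_pr ι i)
        have key : ∀ f ∈ K, (f a = a ∧ f b = b) ∨ (f a = b ∧ f b = a) := by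
          intro f hf
          have ha : f a ∈ pr ι i := hf.2 i a (by simp [he])
          have hb : f b ∈ pr ι i := hf.2 i b (by simp [he])
          rw [he, Finset.mem_insert, Finset.mem_singleton] at ha hb
          rcases ha with ha | ha <;> rcases hb with hb | hb
          · exact absurd (f.injective (ha.trans hb.symm)) hab
          · exact Or.inl ⟨ha, hb⟩
          · exact Or.inr ⟨ha, hb⟩
          · exact absurd (f.injective (ha.trans hb.symm)) hab
        rw [he, Finset.mem_insert, Finset.mem_singleton] at hi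
        rw [Perm.mul_apply, Perm.mul_apply]
        rcases key u hu with ⟨p, q⟩ | ⟨p, q⟩ <;> rcases key v hv with ⟨r, s⟩ | ⟨r, s⟩ <;>
          rcases hi with rfl | rfl <;> simp only [p, q, r, s]
      · rw [Perm.mul_apply, Perm.mul_apply, hout v hv.1 z hz, hout u hu.1 z hz, hout v hv.1 z hz]
    have hKn : ∀ g ∈ H, ∀ u ∈ K, g * u * g⁻¹ ∈ K := fun g hg u hu =>
      ⟨mul_mem (mul_mem hg hu.1) (inv_mem hg), fun i z hz => by
        obtain ⟨r, hr⟩ := partner hk hπ hev (inv_mem hg) i
        have h1 : g⁻¹ z ∈ pr ι r := hr ▸ Finset.mem_image_of_mem _ hz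
        have h2 := hu.2 r _ h1
        rw [← hr, Finset.mem_image] at h2
        obtain ⟨w, hw, hwe⟩ := h2
        rw [Perm.mul_apply, Perm.mul_apply, ← hwe, CfsgLib.PairSystem.apply_inv']
        exact hw⟩
    have hπK : ∀ i j, i ≠ j → tau ι i j ∈ K := fun i j hij => ⟨hπ i j hij, fun l z hz => by
      by_cases hl : l = i
      · subst hl
        obtain ⟨b, rfl⟩ := mem_pr.mp hz
        rw [tau_apply hij]
        exact mem_pr.mpr ⟨_, rfl⟩
      by_cases hl' : l = j
      · subst hl'
        obtain ⟨b, rfl⟩ := mem_pr.mp hz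
        rw [tau_comm ι hij, tau_apply hij.symm]
        exact mem_pr.mpr ⟨_, rfl⟩
      have : z ∉ (tau ι i j).support := by
        rw [support_tau hij, Finset.mem_union]
        rintro (h | h)
        · exact Finset.disjoint_left.mp (pr_disjoint hl) hz h
        · exact Finset.disjoint_left.mp (pr_disjoint hl') hz h
      rwa [Perm.notMem_support.mp this]⟩
    have hN : ((K ⊓ E).subgroupOf E).Normal :=
      ⟨fun y hy x => Subgroup.mem_subgroupOf.mpr
        (Subgroup.mem_inf.mpr ⟨hKn _ (hEH x.2) _ (Subgroup.mem_inf.mp hy).1, (x * y * x⁻¹).2⟩)⟩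
    haveI := hN
    rcases CfsgLib.Layer.eq_top_or_le_center_of_normal hqE ((K ⊓ E).subgroupOf E) with h | h
    · apply CfsgLib.Layer.center_ne_top_of_isQuasisimple hqE
      refine Subgroup.center_eq_top_iff.mpr ⟨⟨fun a b => Subtype.ext (hKab _ ?_ _ ?_)⟩⟩
      · exact (Subgroup.mem_inf.mp (Subgroup.mem_subgroupOf.mp (h ▸ Subgroup.mem_top a))).1
      · exact (Subgroup.mem_inf.mp (Subgroup.mem_subgroupOf.mp (h ▸ Subgroup.mem_top b))).1
    · have hcm : ∀ i j, i ≠ j → ∀ e ∈ E, tau ι i j * e = e * tau ι i j := fun i j hij e he => by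
        refine comm_of_central (fun f hf => ?_) he
        have hmemE : f * tau ι i j * f⁻¹ * (tau ι i j)⁻¹ ∈ E := by
          rw [show f * tau ι i j * f⁻¹ * (tau ι i j)⁻¹ = f * (tau ι i j * f⁻¹ * (tau ι i j)⁻¹) by group]
          exact mul_mem hf (hEn _ (hπ i j hij) _ (inv_mem hf))
        refine ⟨hmemE, fun x hx => ?_⟩
        have hmem : (⟨_, hmemE⟩ : E) ∈ (K ⊓ E).subgroupOf E := Subgroup.mem_subgroupOf.mpr
          (Subgroup.mem_inf.mpr ⟨mul_mem (hKn _ (hEH hf) _ (hπK i j hij)) (inv_mem (hπK i j hij)), hmemE⟩)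
        exact congrArg Subtype.val (Subgroup.mem_center_iff.mp (h hmem) ⟨x, hx⟩)
      have hfix : ∀ e ∈ E, ∀ i, (pr ι i).image e = pr ι i := by
        intro e he i
        obtain ⟨r, hr⟩ := partner hk hπ hev (hEH he) i
        rw [hr]
        by_contra hne
        have hri : r ≠ i := fun h => hne (h ▸ rfl)
        obtain ⟨j, hj⟩ : ∃ j, j ∈ ((Finset.univ : Finset (Fin k)).erase i).erase r :=
          Finset.card_pos.mp (by
            rw [Finset.card_erase_of_mem (by simp [hri]), Finset.card_erase_of_mem (Finset.mem_univ i),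
              Finset.card_univ, Fintype.card_fin]
            omega)
        simp only [Finset.mem_erase, Finset.mem_univ, and_true] at hj
        have hz : e (ι (i, 0)) ∈ pr ι r := hr ▸ Finset.mem_image_of_mem _ (mem_pr.mpr ⟨0, rfl⟩)
        have hs : e (ι (i, 0)) ∈ (tau ι i j).support := by
          rw [Perm.mem_support, ← Perm.mul_apply, hcm i j hj.2.symm e he, Perm.mul_apply]
          refine fun h => Perm.mem_support.mp ?_ (e.injective h)
          rw [support_tau hj.2.symm]
          exact Finset.mem_union_left _ (mem_pr.mpr ⟨0, rfl⟩)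
        rw [support_tau hj.2.symm, Finset.mem_union] at hs
        rcases hs with hs | hs
        · exact Finset.disjoint_left.mp (pr_disjoint hri) hz hs
        · exact Finset.disjoint_left.mp (pr_disjoint hj.1.symm) hz hs
      obtain ⟨e, he⟩ := exists_ne (1 : E)
      refine he (Subtype.ext (Equiv.ext fun z => ?_))
      by_cases hz : z ∈ dom ι
      · obtain ⟨i, -, hi⟩ := Finset.mem_biUnion.mp hz
        refine CfsgLib.ThreeCycleFStar.perfect_fix (by rw [card_pr]; norm_num) (fun f hf w => ?_) e.2 hi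
        conv_lhs => rw [← hfix f hf i]
        exact ⟨fun h => by
          obtain ⟨v, hv, hvw⟩ := Finset.mem_image.mp h
          rwa [← f.injective hvw], Finset.mem_image_of_mem _⟩
      · exact hout _ (hEH e.2) z hz
  · -- eight points
    push Not at hev
    obtain ⟨t, ht, hdt, hodd⟩ := hev
    obtain ⟨hsub, htype⟩ := types h3 hk hn hπ ht hdt
    obtain rfl : k = 4 := by
      rcases htype with h | h
      · obtain ⟨i, hi⟩ := hodd hsub
        exact absurd hi (h i)
      · exact h
    haveI : Fact (Nat.Prime 5) := ⟨by norm_num⟩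
    haveI : Fact (Nat.Prime 7) := ⟨by norm_num⟩
    have hcard8 : (dom ι).card = 8 := card_dom ι
    -- no element of order five
    have h5 : ¬ 5 ∣ Nat.card H := by
      intro hd
      obtain ⟨c₀, hc₀⟩ := exists_prime_orderOf_dvd_card' 5 hd
      obtain ⟨c, hcH, hco⟩ : ∃ c ∈ H, orderOf c = 5 := ⟨c₀, c₀.2, by rw [Subgroup.orderOf_coe]; exact hc₀⟩
      have hcyc : c.IsCycle := Perm.isCycle_of_prime_order' (by rw [hco]; norm_num)
        (by rw [hco, Fintype.card_fin]; omega)
      obtain ⟨F, hF⟩ : ∃ F, F = c.support := ⟨_, rfl⟩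
      have hF5 : F.card = 5 := by rw [hF, ← hcyc.orderOf, hco]
      have hFd : F ⊆ dom ι := fun z hz => by
        by_contra h
        exact Perm.mem_support.mp (hF ▸ hz) (hout c hcH z h)
      have hpart : F.card = ∑ i, (F ∩ pr ι i).card := by
        rw [← Finset.card_biUnion fun i _ j _ h => Finset.disjoint_of_subset_left Finset.inter_subset_right
          (Finset.disjoint_of_subset_right Finset.inter_subset_right (pr_disjoint h)), ← Finset.inter_biUnion]
        show F.card = (F ∩ dom ι).card
        rw [Finset.inter_eq_left.mpr hFd]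
      have hle2 : ∀ i, (F ∩ pr ι i).card ≤ 2 := fun i =>
        (Finset.card_le_card Finset.inter_subset_right).trans (card_pr ι i).le
      obtain ⟨i, hi⟩ : ∃ i, (F ∩ pr ι i).card = 2 := by
        by_contra hall
        push Not at hall
        have : ∑ i, (F ∩ pr ι i).card ≤ ∑ _i : Fin 4, 1 := Finset.sum_le_sum fun i _ => by
          have := hall i; have := hle2 i; omega
        rw [← hpart, hF5] at this
        simp at this
      obtain ⟨j, hij, hj⟩ : ∃ j, i ≠ j ∧ 1 ≤ (F ∩ pr ι j).card := by
        by_contra hall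
        push Not at hall
        have hzero : ∀ j ∈ (Finset.univ : Finset (Fin 4)), j ≠ i → (F ∩ pr ι j).card = 0 := fun j _ hj => by
          have := hall j hj.symm; omega
        rw [Finset.sum_eq_single i hzero (fun h => absurd (Finset.mem_univ i) h), hi, hF5] at hpart
        omega
      obtain ⟨U, hU⟩ : ∃ U, U = pr ι i ∪ pr ι j := ⟨_, rfl⟩
      have hU4 : U.card = 4 := by rw [hU, Finset.card_union_of_disjoint (pr_disjoint hij), card_pr, card_pr]
      obtain ⟨x₀, hx₀⟩ : F.Nonempty := Finset.card_pos.mp (by omega)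
      let idx : Fin 5 → Fin n := fun m => (c ^ m.val) x₀
      have hidx : Function.Injective idx := by
        intro a b e
        have hc5 : c ^ 5 = 1 := hco ▸ pow_orderOf_eq_one c
        have e' : (c ^ ((b.val + (5 - a.val)))) x₀ = x₀ := by
          rw [add_comm, pow_add, Perm.mul_apply, show (c ^ b.val) x₀ = (c ^ a.val) x₀ from e.symm,
            ← Perm.mul_apply, ← pow_add, show 5 - a.val + a.val = 5 by omega, hc5, Perm.one_apply]
        rw [← hcyc.pow_eq_one_iff' (Perm.mem_support.mp (hF ▸ hx₀)), ← orderOf_dvd_iff_pow_eq_one, hco] at e'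
        exact Fin.ext (by omega)
      have hidxF : ∀ m, idx m ∈ F := fun m => hF ▸ Perm.pow_apply_mem_support.mpr (hF ▸ hx₀)
      have hrange : Finset.univ.image idx = F := Finset.eq_of_subset_of_card_le
        (fun z hz => by obtain ⟨m, -, rfl⟩ := Finset.mem_image.mp hz; exact hidxF m)
        (by rw [Finset.card_image_of_injective _ hidx, hF5, Finset.card_univ, Fintype.card_fin])
      have hshift : ∀ (s m : Fin 5), (c ^ s.val) (idx m) = idx (m + s) := fun s m => by
        show (c ^ s.val) ((c ^ m.val) x₀) = (c ^ (m + s).val) x₀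
        have e5 : c ^ ((m.val + s.val) % 5) = c ^ (m.val + s.val) := by
          conv_rhs => rw [← pow_mod_orderOf c (m.val + s.val), hco]
        rw [← Perm.mul_apply, ← pow_add, Fin.val_add, e5, add_comm]
      obtain ⟨X, hX⟩ : ∃ X, X = (Finset.univ : Finset (Fin 5)).filter fun m => idx m ∈ U := ⟨_, rfl⟩
      have hXU : X.image idx = F ∩ U := by
        rw [hX]
        ext z
        simp only [Finset.mem_image, Finset.mem_filter, Finset.mem_univ, true_and, Finset.mem_inter]
        constructor
        · rintro ⟨m, hm, rfl⟩; exact ⟨hidxF m, hm⟩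
        · rintro ⟨hz, hzU⟩
          rw [← hrange, Finset.mem_image] at hz
          obtain ⟨m, -, rfl⟩ := hz
          exact ⟨m, hzU, rfl⟩
      have hXc : X.card = (F ∩ U).card := by rw [← hXU, Finset.card_image_of_injective _ hidx]
      have hFU : (F ∩ U).card = 2 + (F ∩ pr ι j).card := by
        rw [hU, Finset.inter_union_distrib_left, Finset.card_union_of_disjoint
          (Finset.disjoint_of_subset_left Finset.inter_subset_right
            (Finset.disjoint_of_subset_right Finset.inter_subset_right (pr_disjoint hij))), hi]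
      obtain ⟨s, hs⟩ := five_cycle_meet X (by omega) (by have := hle2 j; omega)
      have hset : U.image (c ^ s.val) ∩ U = (U \ F) ∪ (X.image (· + s) ∩ X).image idx := by
        ext z
        constructor
        · intro hz
          obtain ⟨h1, h2⟩ := Finset.mem_inter.mp hz
          by_cases hzF : z ∈ F
          · refine Finset.mem_union_right _ ?_
            obtain ⟨w, hw, rfl⟩ := Finset.mem_image.mp h1
            have hwF : w ∈ F := hF ▸ Perm.pow_apply_mem_support.mp (hF ▸ hzF)
            have hw' : w ∈ X.image idx := hXU ▸ Finset.mem_inter.mpr ⟨hwF, hw⟩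
            obtain ⟨m, hm, rfl⟩ := Finset.mem_image.mp hw'
            rw [hshift] at h2 ⊢
            exact Finset.mem_image_of_mem _ (Finset.mem_inter.mpr ⟨Finset.mem_image_of_mem _ hm,
              hX ▸ Finset.mem_filter.mpr ⟨Finset.mem_univ _, h2⟩⟩)
          · exact Finset.mem_union_left _ (Finset.mem_sdiff.mpr ⟨h2, hzF⟩)
        · intro hz
          rcases Finset.mem_union.mp hz with hz | hz
          · obtain ⟨h1, h2⟩ := Finset.mem_sdiff.mp hz
            refine Finset.mem_inter.mpr ⟨Finset.mem_image.mpr ⟨z, h1, ?_⟩, h1⟩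
            exact Perm.pow_apply_eq_self_of_apply_eq_self (Perm.notMem_support.mp (hF ▸ h2)) _
          · obtain ⟨m, hm, rfl⟩ := Finset.mem_image.mp hz
            obtain ⟨hm1, hm2⟩ := Finset.mem_inter.mp hm
            obtain ⟨p, hp, rfl⟩ := Finset.mem_image.mp hm1
            rw [hX, Finset.mem_filter] at hm2 hp
            exact Finset.mem_inter.mpr ⟨Finset.mem_image.mpr ⟨idx p, hp.2, hshift s p⟩, hm2.2⟩
      have hcard3 : (U.image (c ^ s.val) ∩ U).card = 3 := by
        rw [hset, Finset.card_union_of_disjoint, Finset.card_image_of_injective _ hidx, Finset.card_sdiff]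
        · have := hle2 j
          omega
        · rw [Finset.disjoint_left]
          intro z h1 h2
          obtain ⟨m, -, rfl⟩ := Finset.mem_image.mp h2
          exact (Finset.mem_sdiff.mp h1).2 (hidxF m)
      refine (even_meet h3 hk hπ (mul_mem (mul_mem (pow_mem hcH s.val) (hπ i j hij)) (inv_mem (pow_mem hcH s.val)))
        ((dt_tau hij).conj (c ^ s.val)) hij).2 ?_
      rw [Perm.support_conj, support_tau hij, Finset.map_eq_image, ← hU]
      exact hcard3
    -- restriction to the eight points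
    let eΩ : ↥(dom ι) ≃ Fin 8 := (dom ι).equivFinOfCardEq hcard8
    let res : H →* Perm ↥(dom ι) :=
      { toFun := fun h => (h : Perm (Fin n)).subtypePerm fun z => hdom h h.2 z
        map_one' := Equiv.ext fun _ => rfl
        map_mul' := fun _ _ => Equiv.ext fun _ => rfl }
    let φ : H →* Perm (Fin 8) := eΩ.permCongrHom.toMonoidHom.comp res
    have hφ : Function.Injective φ := by
      intro a b e
      have e' : res a = res b := eΩ.permCongrHom.injective e
      refine Subtype.ext (Equiv.ext fun z => ?_)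
      by_cases hz : z ∈ dom ι
      · exact congrArg Subtype.val (DFunLike.congr_fun e' ⟨z, hz⟩)
      · rw [hout _ a.2 z hz, hout _ b.2 z hz]
    have hres : ∀ h : H, Perm.ofSubtype (res h) = (h : Perm (Fin n)) := fun h => Equiv.ext fun z => by
      by_cases hz : z ∈ dom ι
      · rw [Perm.ofSubtype_apply_of_mem _ hz]; rfl
      · rw [Perm.ofSubtype_apply_of_not_mem _ hz, hout _ h.2 z hz]
    have hφs : ∀ h : H, Perm.sign (φ h) = Perm.sign (h : Perm (Fin n)) := fun h => by
      have h1 : φ h = eΩ.permCongr (res h) := rfl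
      rw [h1, Perm.sign_permCongr, ← Perm.sign_ofSubtype, hres]
    let G : Subgroup H := (Perm.sign.comp H.subtype).ker
    let φ₀ : G →* Perm (Fin 8) := φ.comp G.subtype
    have hφ₀ : Function.Injective φ₀ := hφ.comp Subtype.val_injective
    have hev8 : ∀ g : G, φ₀ g ∈ alternatingGroup (Fin 8) := fun g => by
      rw [Perm.mem_alternatingGroup]
      exact (hφs _).trans (MonoidHom.mem_ker.mp g.2)
    let ψ : G →* alternatingGroup (Fin 8) := φ₀.codRestrict _ hev8
    have hψ : Function.Injective ψ := fun a b e => hφ₀ (congrArg Subtype.val e)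
    haveI : Fact (Fintype.card (ZMod 2) = 2) := ⟨ZMod.card 2⟩
    obtain ⟨eGL⟩ := CfsgLib.Classical.GLFourTwo.gl_equiv_alt (F := ZMod 2) (ZMod.card 2)
    let f : G →* GL (Fin 4) (ZMod 2) := eGL.symm.toMonoidHom.comp ψ
    have hf : Function.Injective f := eGL.symm.injective.comp hψ
    -- `E` lies in `G`
    have hEG : ∀ e ∈ E, Perm.sign e = 1 := by
      intro e he
      let s : E →* ℤˣ := Perm.sign.comp E.subtype
      have hs : s.range = ⊥ := by
        by_contra hne
        haveI : Group.IsPerfect s.range := Group.IsPerfect.ofSurjective s.rangeRestrict_surjective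
        haveI : Nontrivial s.range := (Subgroup.nontrivial_iff_ne_bot _).mpr hne
        haveI : IsMulCommutative s.range := inferInstance
        exact (Group.IsSolvable.commutator_lt_top_of_nontrivial s.range).ne Group.IsPerfect.commutator_eq_top
      exact Subgroup.mem_bot.mp (hs ▸ ⟨⟨e, he⟩, rfl⟩ : Perm.sign e ∈ (⊥ : Subgroup ℤˣ))
    let jE : E →* G :=
      { toFun := fun e => ⟨⟨e, hEH e.2⟩, MonoidHom.mem_ker.mpr (hEG e e.2)⟩
        map_one' := rfl
        map_mul' := fun _ _ => rfl }
    have hjE : Function.Injective jE := fun a b e =>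
      Subtype.ext (congrArg (fun g : G => ((g : H) : Perm (Fin n))) e)
    have hEs : ¬ Group.IsSolvable E := CfsgLib.Layer.not_isSolvable_of_isQuasisimple hqE
    have hGs : ¬ Group.IsSolvable G := fun h =>
      hEs (Group.isSolvable_of_isSolvable_injective (f := jE) hjE)
    have hGA : Nat.card G ∣ 20160 := by
      rw [← CfsgLib.AEightSub.simple_card_alt8.2.1]
      exact Subgroup.card_dvd_of_injective ψ hψ
    have h5G : ¬ 5 ∣ Nat.card G := fun h => h5 (h.trans (Subgroup.card_subgroup_dvd_card G))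
    have hd5 : Nat.card G ∣ 4032 :=
      ((Nat.coprime_comm.1 ((by norm_num : Nat.Prime 5).coprime_iff_not_dvd.2 h5G)).dvd_mul_right
        (k := Nat.card G) (n := 5) (m := 4032)).1 (by simpa using hGA)
    have h7of : ∀ {X : Type} [Group X] [Finite X], Nat.card X ∣ 4032 → ¬ Group.IsSolvable X →
        7 ∣ Nat.card X := by
      intro X _ _ hd hs
      by_contra h7
      have hd' : Nat.card X ∣ 2 ^ 6 * 3 ^ 2 :=
        ((Nat.coprime_comm.1 ((by norm_num : Nat.Prime 7).coprime_iff_not_dvd.2 h7)).dvd_mul_right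
          (k := Nat.card X) (n := 7) (m := 576)).1 (by simpa using hd)
      obtain ⟨a, b, ha, hb, he⟩ := exists_dvd_and_dvd_of_dvd_mul hd'
      obtain ⟨i, -, rfl⟩ := (Nat.dvd_prime_pow Nat.prime_two).1 ha
      obtain ⟨j, -, rfl⟩ := (Nat.dvd_prime_pow Nat.prime_three).1 hb
      exact hs (CfsgLib.AEightSub.isSolvable_two_primes i j Nat.prime_two Nat.prime_three he)
    -- `E` has trivial centre
    have hZ : Subgroup.center E = ⊥ := by
      obtain ⟨c, hco⟩ := exists_prime_orderOf_dvd_card' 7
        (h7of ((Subgroup.card_dvd_of_injective jE hjE).trans hd5) hEs)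
      have hco' : orderOf (c : Perm (Fin n)) = 7 := by rw [Subgroup.orderOf_coe]; exact hco
      have hcyc : (c : Perm (Fin n)).IsCycle := Perm.isCycle_of_prime_order' (by rw [hco']; norm_num)
        (by rw [hco', Fintype.card_fin]; omega)
      have hC : ∀ z : E, z * c = c * z → z ∈ Subgroup.zpowers c := by
        intro z hz
        obtain ⟨S, hS⟩ : ∃ S, S = (c : Perm (Fin n)).support := ⟨_, rfl⟩
        have hS7 : S.card = 7 := by rw [hS, ← hcyc.orderOf, hco']
        have hSd : S ⊆ dom ι := fun w hw => by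
          by_contra h
          exact Perm.mem_support.mp (hS ▸ hw) (hout _ (hEH c.2) w h)
        have hzc : ∀ w, (z : Perm (Fin n)) ((c : Perm (Fin n)) w) = (c : Perm (Fin n)) ((z : Perm (Fin n)) w) :=
          fun w => congrArg (fun P : E => (P : Perm (Fin n)) w) hz
        have hout' : ∀ w, w ∉ S → (z : Perm (Fin n)) w = w := fun w hw => by
          by_cases hwd : w ∈ dom ι
          · have h1 : (dom ι \ S).card ≤ 1 := by rw [Finset.card_sdiff_of_subset hSd, hcard8, hS7]
            refine Finset.card_le_one.mp h1 _ (Finset.mem_sdiff.mpr ⟨(hdom _ (hEH z.2) w).mpr hwd, fun h => ?_⟩) _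
              (Finset.mem_sdiff.mpr ⟨hwd, hw⟩)
            rw [hS, Perm.mem_support, ← hzc] at h
            exact h (congrArg _ (Perm.notMem_support.mp (hS ▸ hw)))
          · exact hout _ (hEH z.2) w hwd
        obtain ⟨x₀, hx₀⟩ : S.Nonempty := Finset.card_pos.mp (by omega)
        have hzx : (z : Perm (Fin n)) x₀ ∈ S := by
          rw [hS, Perm.mem_support, ← hzc]
          exact fun h => Perm.mem_support.mp (hS ▸ hx₀) ((z : Perm (Fin n)).injective h)
        obtain ⟨m, hm⟩ := hcyc.exists_zpow_eq (Perm.mem_support.mp (hS ▸ hx₀)) (Perm.mem_support.mp (hS ▸ hzx))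
        refine ⟨m, Subtype.ext (Equiv.ext fun w => ?_)⟩
        rw [Subgroup.coe_zpow]
        by_cases hw : w ∈ S
        · obtain ⟨l, hl⟩ := hcyc.exists_zpow_eq (Perm.mem_support.mp (hS ▸ hx₀)) (Perm.mem_support.mp (hS ▸ hw))
          have hcz : (z : Perm (Fin n)) * (c : Perm (Fin n)) ^ l = (c : Perm (Fin n)) ^ l * z :=
            (Commute.zpow_right (show Commute (z : Perm (Fin n)) c from congrArg Subtype.val hz) l)
          rw [← hl, ← Perm.mul_apply, ← zpow_add, add_comm, zpow_add, Perm.mul_apply, hm,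
            ← Perm.mul_apply, ← Perm.mul_apply, hcz]
        · rw [hout' w hw, Perm.zpow_apply_eq_self_of_apply_eq_self (Perm.notMem_support.mp (hS ▸ hw))]
      by_contra hne
      obtain ⟨z, hzZ, hz1⟩ := (Subgroup.bot_or_exists_ne_one _).resolve_left hne
      have hzz := hC z ((Subgroup.mem_center_iff.mp hzZ c).symm)
      have hcZ : c ∈ Subgroup.center E := by
        have hd : orderOf z ∣ 7 := by
          have := orderOf_dvd_of_mem_zpowers hzz
          rwa [hco] at this
        have ho := ((by norm_num : Nat.Prime 7).eq_one_or_self_of_dvd _ hd).resolve_left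
          (fun e => hz1 (orderOf_eq_one_iff.mp e))
        haveI : Finite (Subgroup.zpowers c) := inferInstance
        have heq : Subgroup.zpowers z = Subgroup.zpowers c := Subgroup.eq_of_le_of_card_ge
          (Subgroup.zpowers_le.mpr hzz) (by rw [Nat.card_zpowers, Nat.card_zpowers, ho, hco])
        exact Subgroup.zpowers_le.mpr hzZ (heq ▸ Subgroup.mem_zpowers c)
      apply CfsgLib.Layer.center_ne_top_of_isQuasisimple hqE
      refine Subgroup.center_eq_top_iff.mpr ⟨⟨fun a b => ?_⟩⟩
      obtain ⟨i, rfl⟩ := hC a (Subgroup.mem_center_iff.mp hcZ a)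
      obtain ⟨j, rfl⟩ := hC b (Subgroup.mem_center_iff.mp hcZ b)
      exact zpow_mul_comm c i j
    -- `G` has no soluble normal subgroup
    have hR : CfsgLib.AEightSub.Radless G := by
      intro N hN hNsol
      haveI := hN
      haveI : Group.IsSolvable N := hNsol
      have hNE : ∀ e : E, jE e ∈ N → e = 1 := by
        haveI : (N.comap jE).Normal := hN.comap jE
        rcases CfsgLib.Layer.eq_top_or_le_center_of_normal hqE (N.comap jE) with h | h
        · exact absurd (Group.isSolvable_of_isSolvable_injective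
            (f := jE.codRestrict N fun e => Subgroup.mem_comap.mp (h ▸ Subgroup.mem_top e))
            (fun a b e => hjE (congrArg Subtype.val e))) hEs
        · exact fun e he => Subgroup.mem_bot.mp (hZ ▸ h he)
      rw [eq_bot_iff]
      intro x hx
      have hxE : ((x : H) : Perm (Fin n)) ∈ E := hcent _ (x : H).2 fun e he => by
        have hm : ((x : H) : Perm (Fin n)) * e * ((x : H) : Perm (Fin n))⁻¹ * e⁻¹ ∈ E :=
          mul_mem (hEn _ (x : H).2 _ he) (inv_mem he)
        have h1 := hNE ⟨_, hm⟩ (by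
          have hxn : x * (jE ⟨e, he⟩ * x⁻¹ * (jE ⟨e, he⟩)⁻¹) ∈ N :=
            mul_mem hx (hN.conj_mem _ (inv_mem hx) _)
          convert hxn using 1
          apply Subtype.ext; apply Subtype.ext
          show ((x : H) : Perm (Fin n)) * e * ((x : H) : Perm (Fin n))⁻¹ * e⁻¹ =
            ((x : H) : Perm (Fin n)) * (e * ((x : H) : Perm (Fin n))⁻¹ * e⁻¹)
          group)
        have := congrArg Subtype.val h1
        simpa [mul_inv_eq_one, mul_inv_eq_iff_eq_mul] using this
      have := hNE ⟨_, hxE⟩ (by convert hx using 1; exact Subtype.ext (Subtype.ext rfl))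
      exact Subgroup.mem_bot.mpr (Subtype.ext (Subtype.ext (congrArg (fun u : E => (u : Perm (Fin n))) this)))
    -- the Sylow subgroup
    obtain ⟨Q, hQH, hQA, hQ64⟩ := h64 rfl
    have h64G : 64 ∣ Nat.card G := hQ64.trans (Subgroup.card_dvd_of_injective
      ({ toFun := fun q => ⟨⟨q, hQH q.2⟩, MonoidHom.mem_ker.mpr (Perm.mem_alternatingGroup.mp (hQA q.2))⟩
         map_one' := rfl, map_mul' := fun _ _ => rfl } : Q →* G)
      (fun a b e => Subtype.ext (congrArg (fun g : G => ((g : H) : Perm (Fin n))) e)))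
    have h7 : 7 ∣ Nat.card G := h7of hd5 hGs
    obtain ⟨P⟩ : Nonempty (Sylow 7 G) := inferInstance
    have hP : Nat.card (P : Subgroup G) = 7 := by
      rw [P.card_eq_multiplicity, Nat.factorization_def _ (by norm_num : Nat.Prime 7)]
      have h1 : 1 ≤ padicValNat 7 (Nat.card G) := one_le_padicValNat_of_dvd Nat.card_pos.ne' h7
      have h2 : ¬ 2 ≤ padicValNat 7 (Nat.card G) := fun h => by
        have := ((padicValNat_dvd_iff_le Nat.card_pos.ne').2 h).trans hGA
        norm_num at this
      rw [show padicValNat 7 (Nat.card G) = 1 by omega, pow_one]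
    have hN21 : Nat.card (Subgroup.normalizer ((P : Subgroup G) : Set G)) ∣ 21 := by
      have h := CfsgLib.SmallOrder.two_mul_card_normalizer_dvd (q := 7) (c := 8) (by norm_num) (by norm_num)
        (by norm_num) ψ hψ (P : Subgroup G) hP
      exact Nat.dvd_of_mul_dvd_mul_left two_pos (show 2 * _ ∣ 2 * 21 by simpa using h)
    have hmul : Nat.card (Subgroup.normalizer ((P : Subgroup G) : Set G)) * Nat.card (Sylow 7 G) = Nat.card G := by
      rw [Sylow.card_eq_index_normalizer P]; exact Subgroup.card_mul_index _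
    have h64n : 64 ∣ Nat.card (Sylow 7 G) := (Nat.Coprime.dvd_mul_left (Nat.Coprime.coprime_dvd_right hN21
      (by norm_num : Nat.Coprime 64 21))).mp (by rw [hmul]; exact h64G)
    have hn576 : Nat.card (Sylow 7 G) ∣ 576 := by
      have h7N : 7 ∣ Nat.card (Subgroup.normalizer ((P : Subgroup G) : Set G)) := by
        exact (dvd_of_eq hP.symm).trans (Subgroup.card_dvd_of_le Subgroup.le_normalizer)
      exact Nat.dvd_of_mul_dvd_mul_left (by norm_num : 0 < 7)
        ((Nat.mul_dvd_mul_right h7N _).trans (hmul ▸ hd5))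
    have hmod : Nat.card (Sylow 7 G) % 7 = 1 := card_sylow_modEq_one 7 G
    have hcases : Nat.card (Sylow 7 G) = 64 := by
      obtain ⟨r, hr⟩ := h64n
      have hr9 : r ∣ 9 := Nat.dvd_of_mul_dvd_mul_left (by norm_num : 0 < 64) (hr ▸ hn576)
      have := Nat.le_of_dvd (by norm_num) hr9
      rw [hr] at hmod ⊢
      interval_cases r <;> omega
    obtain ⟨e, he⟩ : 7 ∣ Nat.card (Subgroup.normalizer ((P : Subgroup G) : Set G)) := by
      exact (dvd_of_eq hP.symm).trans (Subgroup.card_dvd_of_le Subgroup.le_normalizer)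
    rw [he, hcases] at hmul
    rcases (Nat.dvd_prime Nat.prime_three).1 (Nat.dvd_of_mul_dvd_mul_left (by norm_num : 0 < 7)
      (show 7 * e ∣ 7 * 3 by rw [← he]; simpa using hN21)) with rfl | rfl
    · exact hGs (CfsgLib.AEightSub.isSolvable_two_primes 6 1 Nat.prime_two (by norm_num : Nat.Prime 7)
        (by rw [← hmul]; norm_num))
    · exact CfsgLib.AEightSub.false_1344 hR (by rw [← hmul]) hcases f hf

/-- Let n ≥ 8 and let H be a subgroup of the symmetric group of degree n whose generalized Fitting subgroup F*(H) is quasisimple. If H contains a Sylow 2-subgroup of the alternating group, then F*(H) is isomorphic to an alternating group of degree m for some m with n − 3 ≤ m ≤ n. -/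
theorem result (n : ℕ) (hn : 8 ≤ n) (H : Subgroup (Equiv.Perm (Fin n))) (hF : Cfsg.IsQuasisimple ↥(Cfsg.generalizedFittingSubgroup ↥H)) (hS : ∃ P : Sylow 2 ↥(alternatingGroup (Fin n)), ((P : Subgroup ↥(alternatingGroup (Fin n))).map (alternatingGroup (Fin n)).subtype) ≤ H) : ∃ m : ℕ, (m = n - 3 ∨ m = n - 2 ∨ m = n - 1 ∨ m = n) ∧ Nonempty (↥(Cfsg.generalizedFittingSubgroup ↥H) ≃* ↥(alternatingGroup (Fin m))) := by
  classical
  haveI : Fact (Nat.Prime 2) := ⟨Nat.prime_two⟩
  obtain ⟨P, hP⟩ := hS
  obtain ⟨k, hk⟩ : ∃ k, k = n / 2 := ⟨_, rfl⟩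
  let ι₀ : Fin k × Fin 2 ↪ Fin n :=
    ⟨fun x => ⟨2 * x.1.val + x.2.val, by have := x.1.isLt; have := x.2.isLt; omega⟩, fun x y e => by
      have e' : 2 * x.1.val + x.2.val = 2 * y.1.val + y.2.val := congrArg Fin.val e
      have := x.2.isLt; have := y.2.isLt
      exact Prod.ext (Fin.ext (by omega)) (Fin.ext (by omega))⟩
  let Sw : Set (Perm (Fin n)) := Set.range fun i : Fin k => swap (ι₀ (i, 0)) (ι₀ (i, 1))
  have hsw : ∀ x ∈ Sw, ∀ y ∈ Sw, x * y = y * x := by
    rintro _ ⟨i, rfl⟩ _ ⟨j, rfl⟩
    rcases eq_or_ne i j with rfl | h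
    · rfl
    · have hd : Perm.Disjoint (swap (ι₀ (i, 0)) (ι₀ (i, 1))) (swap (ι₀ (j, 0)) (ι₀ (j, 1))) := by
        rw [Perm.disjoint_iff_disjoint_support, Perm.support_swap (fun e => by simpa using ι₀.injective e),
          Perm.support_swap (fun e => by simpa using ι₀.injective e)]
        exact pr_disjoint h
      exact hd.commute
  have hsq : ∀ x ∈ Subgroup.closure Sw, x * x = 1 ∧ ∀ y ∈ Sw, x * y = y * x := by
    intro x hx
    induction hx using Subgroup.closure_induction with
    | mem x hx => exact ⟨by obtain ⟨i, rfl⟩ := hx; exact swap_mul_self _ _, hsw x hx⟩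
    | one => simp
    | mul u v hu hv ihu ihv =>
      have huv : u * v = v * u := by
        refine Subgroup.closure_induction (p := fun w _ => u * w = w * u) (fun y hy => ihu.2 y hy) (by simp)
          (fun a b _ _ ha hb => by rw [← mul_assoc, ha, mul_assoc, hb, mul_assoc])
          (fun a _ ha => (Commute.inv_right (show Commute u a from ha))) hv
      exact ⟨by rw [show u * v * (u * v) = u * (v * u) * v by group, ← huv,
        show u * (u * v) * v = u * u * (v * v) by group, ihu.1, ihv.1, mul_one],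
        fun y hy => by rw [mul_assoc, ihv.2 y hy, ← mul_assoc, ihu.2 y hy, mul_assoc]⟩
    | inv u _ ih =>
      rw [inv_eq_of_mul_eq_one_right ih.1]
      exact ih
  let A := alternatingGroup (Fin n)
  let Q : Subgroup A := (Subgroup.closure Sw).subgroupOf A
  have hQ : IsPGroup 2 Q := fun x => ⟨1, by
    apply Subtype.ext; apply Subtype.ext
    rw [Subgroup.coe_pow, Subgroup.coe_pow, pow_one, pow_two]
    exact (hsq _ x.2).1⟩
  obtain ⟨Q', hQ'⟩ := hQ.exists_le_sylow
  obtain ⟨g, hg⟩ := MulAction.exists_smul_eq A Q' P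
  let ι : Fin k × Fin 2 ↪ Fin n := ι₀.trans (g : Perm (Fin n)).toEmbedding
  have hk4 : 4 ≤ k := by omega
  have hπ : ∀ i j, i ≠ j → tau ι i j ∈ H := by
    intro i j hij
    have hmem : (⟨tau ι₀ i j, Perm.mem_alternatingGroup.mpr (sign_tau ι₀ i j)⟩ : A) ∈ Q :=
      Subgroup.mem_subgroupOf.mpr (mul_mem (Subgroup.subset_closure ⟨i, rfl⟩) (Subgroup.subset_closure ⟨j, rfl⟩))
    have he : tau ι i j = (g : Perm (Fin n)) * tau ι₀ i j * (g : Perm (Fin n))⁻¹ := by
      have hconj : ∀ (f : Perm (Fin n)) u v, f * swap u v * f⁻¹ = swap (f u) (f v) := fun f u v => by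
        rw [Equiv.mul_swap_eq_swap_mul, mul_inv_cancel_right]
      rw [tau, tau, show (g : Perm (Fin n)) * (swap (ι₀ (i, 0)) (ι₀ (i, 1)) * swap (ι₀ (j, 0)) (ι₀ (j, 1))) *
        (g : Perm (Fin n))⁻¹ = ((g : Perm (Fin n)) * swap (ι₀ (i, 0)) (ι₀ (i, 1)) * (g : Perm (Fin n))⁻¹) *
        ((g : Perm (Fin n)) * swap (ι₀ (j, 0)) (ι₀ (j, 1)) * (g : Perm (Fin n))⁻¹) by group, hconj, hconj]
      rfl
    refine hP ⟨g * ⟨_, Perm.mem_alternatingGroup.mpr (sign_tau ι₀ i j)⟩ * g⁻¹, ?_, he.symm⟩
    rw [← hg]
    exact ⟨_, hQ' hmem, rfl⟩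
  obtain ⟨E, hE⟩ : ∃ E, E = (generalizedFittingSubgroup ↥H).map H.subtype := ⟨_, rfl⟩
  have hEH : E ≤ H := hE ▸ Subgroup.map_subtype_le _
  have hqE : IsQuasisimple E := by
    subst hE
    exact CfsgLib.Layer.isQuasisimple_of_mulEquiv
      (Subgroup.equivMapOfInjective _ H.subtype Subtype.val_injective) hF
  have hEn : ∀ x ∈ H, ∀ e ∈ E, x * e * x⁻¹ ∈ E := by
    intro x hx e he
    rw [hE] at he ⊢
    obtain ⟨f, hf, rfl⟩ := he
    exact ⟨⟨x, hx⟩ * f * ⟨x, hx⟩⁻¹,
      (CfsgLib.Layer.generalizedFitting_normal (G := ↥H)).conj_mem f hf _, rfl⟩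
  have hcent : ∀ x ∈ H, (∀ e ∈ E, x * e = e * x) → x ∈ E := by
    intro x hx hc
    rw [hE]
    exact ⟨⟨x, hx⟩, CfsgLib.Layer.centralizer_generalizedFitting_le (Subgroup.mem_centralizer_iff.mpr
      fun y hy => Subtype.ext (hc y (hE ▸ ⟨y, hy, rfl⟩)).symm), rfl⟩
  obtain ⟨c, hc, hc3⟩ := exists_three H E hEH hqE hEn hcent ι hk4 (by omega) hπ fun h4 => by
    refine ⟨(P : Subgroup A).map A.subtype, hP, Subgroup.map_subtype_le _, ?_⟩
    rw [← Nat.card_congr (Subgroup.equivMapOfInjective _ A.subtype Subtype.val_injective).toEquiv]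
    refine P.pow_dvd_card_of_pow_dvd_card (n := 6) ?_
    haveI : Nontrivial (Fin n) := Fin.nontrivial_iff_two_le.mpr (by omega)
    have hA := two_mul_nat_card_alternatingGroup (α := Fin n)
    rw [Nat.card_eq_fintype_card (α := Perm (Fin n)), Fintype.card_perm, Fintype.card_fin] at hA
    have hn89 : n = 8 ∨ n = 9 := by omega
    rcases hn89 with rfl | rfl
    · rw [show Nat.factorial 8 = 40320 by decide] at hA
      show 64 ∣ Nat.card (alternatingGroup (Fin 8))
      omega
    · rw [show Nat.factorial 9 = 362880 by decide] at hA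
      show 64 ∣ Nat.card (alternatingGroup (Fin 9))
      omega
  have hgood : Good H c.support := by
    refine ⟨(card_support_eq_three_iff.mpr hc3).ge, fun x hx => ?_⟩
    have hcA : c ∈ altOn c.support := ⟨fun z hz => Perm.notMem_support.mp hz, hc3.sign⟩
    have heq := Subgroup.eq_of_le_of_card_ge (Subgroup.zpowers_le.mpr hcA) (by
      have h := card_altOn (Δ := c.support) (by rw [card_support_eq_three_iff.mpr hc3]; norm_num)
      rw [card_support_eq_three_iff.mpr hc3, show Nat.factorial 3 = 6 from rfl] at h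
      rw [Nat.card_zpowers, hc3.orderOf]
      omega)
    exact Subgroup.zpowers_le.mpr hc (heq ▸ hx)
  obtain ⟨Δ, h5, hmap, hall⟩ := CfsgLib.ThreeCycleFStar.exists_alt H hF hgood
  rw [← hE] at hmap
  -- the pairs outside `Δ`
  have hinv : ∀ x ∈ H, ∀ z ∈ Δ, x z ∈ Δ := fun x hx z hz =>
    hall _ (good_image ⟨by omega, hmap ▸ hEH⟩ hx) (Finset.mem_image_of_mem _ hz)
  have hpr : ∀ i, ι (i, 0) ∈ Δ ↔ ι (i, 1) ∈ Δ := by
    intro i
    obtain ⟨j, hj⟩ := Fintype.exists_ne_of_one_lt_card (by rw [Fintype.card_fin]; omega) i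
    constructor
    · intro h
      have := hinv _ (hπ i j hj.symm) _ h
      rwa [tau_apply hj.symm] at this
    · intro h
      have := hinv _ (hπ i j hj.symm) _ h
      rwa [tau_apply hj.symm] at this
  have hone : ((Finset.univ : Finset (Fin k)).filter fun i => ι (i, 0) ∉ Δ).card ≤ 1 := by
    rw [Finset.card_le_one]
    intro i hi j hj
    by_contra hij
    simp only [Finset.mem_filter, Finset.mem_univ, true_and] at hi hj
    have hdis : ∀ z ∈ Δ, tau ι i j z = z := fun z hz => by
      apply Perm.notMem_support.mp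
      rw [support_tau hij]
      simp only [pr, Finset.mem_union, Finset.mem_insert, Finset.mem_singleton]
      rintro ((rfl | rfl) | (rfl | rfl))
      · exact hi hz
      · exact hi ((hpr i).mpr hz)
      · exact hj hz
      · exact hj ((hpr j).mpr hz)
    have hmemE := hcent _ (hπ i j hij) fun e he => by
      rw [hmap] at he
      refine (Perm.Disjoint.commute fun z => ?_).eq
      by_cases hz : z ∈ Δ
      · exact Or.inl (hdis z hz)
      · exact Or.inr (he.1 z hz)
    rw [hmap] at hmemE
    have := hmemE.1 _ hi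
    rw [tau_apply hij] at this
    exact absurd (ι.injective this) (by simp)
  have h1 : 2 * (k - 1) ≤ Δ.card := by
    have hsub : ((((Finset.univ : Finset (Fin k)).filter fun i => ι (i, 0) ∈ Δ) ×ˢ
        (Finset.univ : Finset (Fin 2))).map ι) ⊆ Δ := by
      intro z hz
      obtain ⟨⟨i, b⟩, hm, rfl⟩ := Finset.mem_map.mp hz
      obtain ⟨hi, -⟩ := Finset.mem_product.mp hm
      rw [Finset.mem_filter] at hi
      rcases (show ∀ b : Fin 2, b = 0 ∨ b = 1 by decide) b with rfl | rfl
      · exact hi.2
      · exact (hpr i).mp hi.2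
    have := Finset.card_le_card hsub
    rw [Finset.card_map, Finset.card_product, Finset.card_univ, Fintype.card_fin] at this
    have hsplit := Finset.card_filter_add_card_filter_not (s := (Finset.univ : Finset (Fin k)))
      (fun i => ι (i, 0) ∈ Δ)
    rw [Finset.card_univ, Fintype.card_fin] at hsplit
    omega
  have h2 : Δ.card ≤ n := (Finset.card_le_univ Δ).trans_eq (Fintype.card_fin n)
  refine ⟨Δ.card, by omega, ?_⟩
  exact ⟨((Subgroup.equivMapOfInjective _ H.subtype Subtype.val_injective).trans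
    (MulEquiv.subgroupCongr (hE ▸ hmap))).trans ((altOnEquiv Δ).symm.trans (Δ.equivFin.altCongrHom))⟩

end Cfsg.Agent.S2928
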