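import Cfsg.Statements.S2929
import Cfsg.Agent.Lib.Perm.ThreeCycleFStar

set_option autoImplicit false
set_option linter.style.haveILetI false
open Cfsg Equiv CfsgLib.AltOnSet

namespace Cfsg.Agent.S2929

theorem apply_inv' {α : Type*} (e : Perm α) (z : α) : e (e⁻¹ z) = z := e.apply_symm_apply z

/-- Let n ≥ 5 and let H be a subgroup of the symmetric group of degree n whose generalized Fitting subgroup F*(H) is quasisimple. If H contains a Sylow 3-subgroup of the symmetric group, then F*(H) is isomorphic to an alternating group of degree m for some m ∈ {n − 2, n − 1, n}. -/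
theorem result (n : ℕ) (hn : 5 ≤ n) (H : Subgroup (Equiv.Perm (Fin n))) (hF : Cfsg.IsQuasisimple ↥(Cfsg.generalizedFittingSubgroup ↥H)) (hS : ∃ P : Sylow 3 (Equiv.Perm (Fin n)), (P : Subgroup (Equiv.Perm (Fin n))) ≤ H) : ∃ m : ℕ, (m = n - 2 ∨ m = n - 1 ∨ m = n) ∧ Nonempty (↥(Cfsg.generalizedFittingSubgroup ↥H) ≃* ↥(alternatingGroup (Fin m))) := by
  classical
  haveI : Fact (Nat.Prime 3) := ⟨Nat.prime_three⟩
  obtain ⟨P, hP⟩ := hS
  obtain ⟨k, hk⟩ : ∃ k, k = n / 3 := ⟨_, rfl⟩
  let ι : (Σ _ : Fin k, Fin 3) ↪ Fin n :=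
    ⟨fun x => ⟨3 * x.1.val + x.2.val, by have := x.1.isLt; have := x.2.isLt; omega⟩, fun x y e => by
      have e' : 3 * x.1.val + x.2.val = 3 * y.1.val + y.2.val := congrArg Fin.val e
      have := x.2.isLt; have := y.2.isLt
      obtain ⟨x1, x2⟩ := x; obtain ⟨y1, y2⟩ := y
      obtain rfl : x1 = y1 := Fin.ext (by simp only at *; omega)
      obtain rfl : x2 = y2 := Fin.ext (by simp only at *; omega)
      rfl⟩
  let Φ : (Fin k → Perm (Fin 3)) →* Perm (Fin n) :=
    (Perm.viaEmbeddingHom ι).comp (Perm.sigmaCongrRightHom fun _ : Fin k => Fin 3)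
  have hr3 : (finRotate 3) ^ 3 = 1 := by decide
  let Q : Subgroup (Perm (Fin n)) :=
    (Subgroup.pi Set.univ fun _ : Fin k => Subgroup.zpowers (finRotate 3)).map Φ
  have hQ : IsPGroup 3 Q := by
    rintro ⟨_, f, hf, rfl⟩
    refine ⟨1, Subtype.ext ?_⟩
    show (Φ f) ^ (3 ^ 1) = 1
    rw [pow_one, ← map_pow, show f ^ 3 = 1 from funext fun i => ?_, map_one]
    obtain ⟨z, hz⟩ := Subgroup.mem_zpowers_iff.mp (hf i (Set.mem_univ i))
    rw [Pi.pow_apply, ← hz, ← zpow_natCast, ← zpow_mul, mul_comm, zpow_mul, zpow_natCast, hr3, one_zpow]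
    rfl
  obtain ⟨Q', hQ'⟩ := hQ.exists_le_sylow
  obtain ⟨g, hg⟩ := MulAction.exists_smul_eq (Perm (Fin n)) Q' P
  have hgood : ∀ x, ∃ D, Good H D ∧ g (ι x) ∈ D := by
    intro x
    obtain ⟨i, j⟩ := x
    let blk : Finset (Fin n) := Finset.univ.image fun j : Fin 3 => g (ι ⟨i, j⟩)
    have hblk : blk.card = 3 := by
      rw [Finset.card_image_of_injective _ (fun a b e => by simpa using ι.injective (g.injective e))]
      rfl
    obtain ⟨c, hc⟩ : ∃ c, c = g * Φ (Pi.mulSingle i (finRotate 3)) * g⁻¹ := ⟨_, rfl⟩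
    have hcH : c ∈ H := hP (by
      rw [← hg]
      refine ⟨_, hQ' ⟨Pi.mulSingle i (finRotate 3), fun l _ => ?_, rfl⟩, hc.symm⟩
      rcases eq_or_ne l i with rfl | hl
      · show Pi.mulSingle (M := fun _ => Perm (Fin 3)) l (finRotate 3) l ∈ Subgroup.zpowers (finRotate 3)
        rw [Pi.mulSingle_eq_same]; exact Subgroup.mem_zpowers _
      · show Pi.mulSingle (M := fun _ => Perm (Fin 3)) i (finRotate 3) l ∈ Subgroup.zpowers (finRotate 3)
        rw [Pi.mulSingle_eq_of_ne hl]; exact one_mem _)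
    have happ : ∀ l, c (g (ι ⟨i, l⟩)) = g (ι ⟨i, finRotate 3 l⟩) := fun l => by
      rw [hc, Perm.mul_apply, Perm.mul_apply, show g⁻¹ (g (ι ⟨i, l⟩)) = ι ⟨i, l⟩ from g.symm_apply_apply _]
      show g (Perm.viaEmbedding _ ι (ι ⟨i, l⟩)) = _
      rw [Perm.viaEmbedding_apply]
      show g (ι ⟨i, Pi.mulSingle (M := fun _ => Perm (Fin 3)) i (finRotate 3) i l⟩) = _
      rw [Pi.mulSingle_eq_same]
    have hsign : Perm.sign c = 1 := by
      have e : c ^ 3 = 1 := by
        rw [hc, conj_pow, ← map_pow, show Pi.mulSingle i (finRotate 3) ^ 3 = (1 : Fin k → Perm (Fin 3)) by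
          rw [← Pi.mulSingle_pow, hr3, Pi.mulSingle_one], map_one, mul_one, mul_inv_cancel]
      have := congrArg Perm.sign e
      rw [map_pow, map_one] at this
      rcases Int.units_eq_one_or (Perm.sign c) with h | h
      · exact h
      · rw [h] at this; exact absurd this (by decide)
    have hcmem : c ∈ altOn blk := by
      refine ⟨fun z hz => ?_, hsign⟩
      rw [hc, Perm.mul_apply, Perm.mul_apply]
      have : Φ (Pi.mulSingle i (finRotate 3)) (g⁻¹ z) = g⁻¹ z := by
        show Perm.viaEmbedding _ ι (g⁻¹ z) = _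
        by_cases hm : g⁻¹ z ∈ Set.range ι
        · obtain ⟨⟨a, b⟩, hab⟩ := hm
          rw [← hab, Perm.viaEmbedding_apply]
          have hai : a ≠ i := fun e => hz (Finset.mem_image.mpr ⟨b, Finset.mem_univ _, by
            rw [← e, hab, apply_inv']⟩)
          show ι ⟨a, Pi.mulSingle (M := fun _ => Perm (Fin 3)) i (finRotate 3) a b⟩ = _
          rw [Pi.mulSingle_eq_of_ne hai]
          rfl
        · exact Perm.viaEmbedding_apply_of_notMem _ _ _ hm
      rw [this, apply_inv']
    refine ⟨blk, ⟨hblk.ge, fun f hf => ?_⟩, Finset.mem_image.mpr ⟨j, Finset.mem_univ _, rfl⟩⟩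
    have hle : Subgroup.zpowers c ≤ altOn blk := Subgroup.zpowers_le.mpr hcmem
    have hc3 : orderOf c = 3 := orderOf_eq_prime (by
      rw [hc, conj_pow, ← map_pow, show Pi.mulSingle i (finRotate 3) ^ 3 = (1 : Fin k → Perm (Fin 3)) by
        rw [← Pi.mulSingle_pow, hr3, Pi.mulSingle_one], map_one, mul_one, mul_inv_cancel]) fun e => by
      have := happ 0
      rw [e, Perm.one_apply] at this
      exact absurd (g.injective this) (fun h => by
        have := ι.injective h
        simp at this)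
    have heq := Subgroup.eq_of_le_of_card_ge hle (by
      have := card_altOn (Δ := blk) (by omega)
      rw [hblk, show Nat.factorial 3 = 6 from rfl] at this
      rw [Nat.card_zpowers, hc3]
      omega)
    exact Subgroup.zpowers_le.mpr hcH (heq ▸ hf)
  have hk1 : 0 < k := by omega
  obtain ⟨D₀, hD₀, -⟩ := hgood ⟨⟨0, hk1⟩, 0⟩
  obtain ⟨Δ, h5, hmap, hall⟩ := CfsgLib.ThreeCycleFStar.exists_alt H hF hD₀
  refine ⟨Δ.card, ?_, ?_⟩
  · have h1 : 3 * k ≤ Δ.card := by
      have : (Finset.univ.map (ι.trans g.toEmbedding)) ⊆ Δ := fun z hz => by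
        obtain ⟨x, -, rfl⟩ := Finset.mem_map.mp hz
        obtain ⟨D, hD, hx⟩ := hgood x
        exact hall D hD hx
      have := Finset.card_le_card this
      rw [Finset.card_map, Finset.card_univ, Fintype.card_sigma] at this
      simpa [mul_comm] using this
    have h2 : Δ.card ≤ n := (Finset.card_le_univ Δ).trans_eq (Fintype.card_fin n)
    omega
  · exact ⟨((Subgroup.equivMapOfInjective _ H.subtype Subtype.val_injective).trans (MulEquiv.subgroupCongr hmap)).trans
      ((altOnEquiv Δ).symm.trans (Δ.equivFin.altCongrHom))⟩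

end Cfsg.Agent.S2929
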