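import Cfsg.Statements.S4231
import Cfsg.Agent.Lib.Perm.AutAlternating

set_option autoImplicit false
set_option linter.style.haveILetI false
open Cfsg

namespace Cfsg.Agent.S4231

open Equiv Equiv.Perm CfsgLib.AutAlternating

theorem perm_pgroup_comm {n p : ℕ} [Fact p.Prime] (hn : n < p ^ 2) (P : Subgroup (Perm (Fin n)))
    (hP : IsPGroup p P) (a b : P) : a * b = b * a := by
  classical
  apply Subtype.ext
  apply Equiv.ext
  intro z
  let O := MulAction.orbit P z
  obtain ⟨k, hk⟩ := hP.card_orbit z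
  let f : P →* Perm O := MulAction.toPermHom P O
  have hO : Nat.card O ≤ p := by
    have h1 : Nat.card O ≤ n := by
      simpa using Nat.card_le_card_of_injective (fun o : O => (o : Fin n)) Subtype.val_injective
    rw [hk] at h1 ⊢
    have : k < 2 := (Nat.pow_lt_pow_iff_right (Fact.out : p.Prime).one_lt).mp (h1.trans_lt hn)
    calc p ^ k ≤ p ^ 1 := Nat.pow_le_pow_right (Fact.out : p.Prime).pos (by omega)
      _ = p := pow_one p
  obtain ⟨m, hm⟩ := (IsPGroup.iff_card).mp (hP.of_surjective f.rangeRestrict f.rangeRestrict_surjective)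
  have hdvd : p ^ m ∣ (Nat.card O).factorial := by
    rw [← hm, ← Nat.card_perm]; exact Subgroup.card_subgroup_dvd_card _
  have hm1 : m ≤ 1 := by
    by_contra hcon
    have h2 : p ^ 2 ∣ p.factorial := ((pow_dvd_pow p (by omega : 2 ≤ m)).trans hdvd).trans (Nat.factorial_dvd_factorial hO)
    obtain ⟨r, hr⟩ : ∃ r, p = r + 1 := ⟨p - 1, by have := (Fact.out : p.Prime).pos; omega⟩
    have h3 : p.factorial = p * r.factorial := by rw [hr, Nat.factorial_succ]
    rw [h3, pow_two] at h2
    have h4 : p ∣ r.factorial := Nat.dvd_of_mul_dvd_mul_left (Fact.out : p.Prime).pos h2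
    have := ((Fact.out : p.Prime).dvd_factorial).mp h4
    omega
  haveI : IsCyclic f.range := by
    rcases Nat.le_one_iff_eq_zero_or_eq_one.mp hm1 with rfl | rfl
    · haveI : Subsingleton f.range := (Nat.card_eq_one_iff_unique.mp (by simpa using hm)).1
      infer_instance
    · exact isCyclic_of_prime_card (by simpa using hm)
  have hab : f a * f b = f b * f a := by
    obtain ⟨g, hg⟩ := IsCyclic.exists_generator (α := f.range)
    obtain ⟨i, hi⟩ := hg ⟨f a, a, rfl⟩
    obtain ⟨j, hj⟩ := hg ⟨f b, b, rfl⟩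
    have : (⟨f a, a, rfl⟩ : f.range) * ⟨f b, b, rfl⟩ = ⟨f b, b, rfl⟩ * ⟨f a, a, rfl⟩ := by
      rw [← hi, ← hj]; exact zpow_mul_comm g i j
    exact congrArg Subtype.val this
  have := congrArg Subtype.val (congrArg (fun σ : Perm O => σ ⟨z, MulAction.mem_orbit_self z⟩) hab)
  exact this

theorem other_type {x : Perm (Fin 6)} (h : orderOf x = 3) (h3 : ¬ x.IsThreeCycle) :
    x.cycleType = Multiset.replicate 2 3 := by
  obtain ⟨k, hk⟩ := cycleType_prime_order (σ := x) (by rw [h]; norm_num)
  rw [h] at hk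
  have := sum_cycleType x
  rw [hk, Multiset.sum_replicate, smul_eq_mul] at this
  have h2 := x.support.card_le_univ
  rw [Fintype.card_fin] at h2
  rcases Nat.eq_zero_or_pos k with rfl | hk0
  · exact absurd hk h3
  obtain rfl : k = 1 := by omega
  exact hk

theorem three_of_sq (phi : MulAut (alternatingGroup (Fin 6))) (x : alternatingGroup (Fin 6))
    (hx : (x : Perm (Fin 6)).IsThreeCycle) :
    ((phi (phi x) : alternatingGroup (Fin 6)) : Perm (Fin 6)).IsThreeCycle := by
  have hord : ∀ (ψ : MulAut (alternatingGroup (Fin 6))) (u : alternatingGroup (Fin 6)),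
      orderOf ((ψ u : alternatingGroup (Fin 6)) : Perm (Fin 6)) = orderOf (u : Perm (Fin 6)) := fun ψ u => by
    rw [Subgroup.orderOf_coe, Subgroup.orderOf_coe, MulEquiv.orderOf_eq]
  have hconj : ∀ u v : alternatingGroup (Fin 6), (u : Perm (Fin 6)).cycleType = (v : Perm (Fin 6)).cycleType →
      orderOf (u : Perm (Fin 6)) = 3 → IsConj u v := by
    intro u v huv hu
    obtain ⟨g, hg⟩ := isConj_iff.mp (isConj_iff_cycleType_eq.mpr huv)
    by_cases hg1 : sign g = 1
    · exact isConj_iff.mpr ⟨⟨g, mem_alternatingGroup.mpr hg1⟩, Subtype.ext hg⟩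
    · have hnot : ¬ Subgroup.centralizer {(u : Perm (Fin 6))} ≤ alternatingGroup (Fin 6) := by
        intro h
        obtain ⟨hodd, hs, hc⟩ := centralizer_le_alternating_iff.mp h
        by_cases h3 : (u : Perm (Fin 6)).IsThreeCycle
        · rw [h3.cycleType, Fintype.card_fin] at hs; simp at hs
        · have := hc 3
          rw [other_type hu h3, Multiset.count_replicate_self] at this
          omega
      obtain ⟨k, hk, hk'⟩ := SetLike.not_le_iff_exists.mp hnot
      rw [Subgroup.mem_centralizer_singleton_iff] at hk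
      have hgk : sign (g * k) = 1 := by
        rw [map_mul, (Int.units_eq_one_or _).resolve_left hg1,
          (Int.units_eq_one_or _).resolve_left (fun e => hk' (mem_alternatingGroup.mpr e))]
        decide
      refine isConj_iff.mpr ⟨⟨g * k, mem_alternatingGroup.mpr hgk⟩, Subtype.ext ?_⟩
      show g * k * (u : Perm (Fin 6)) * (g * k)⁻¹ = _
      rw [← hg, mul_assoc g k, hk]
      group
  have hmove : ∀ (ψ : MulAut (alternatingGroup (Fin 6))) (u v : alternatingGroup (Fin 6)),
      (u : Perm (Fin 6)).cycleType = (v : Perm (Fin 6)).cycleType → orderOf (u : Perm (Fin 6)) = 3 →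
      ((ψ u : alternatingGroup (Fin 6)) : Perm (Fin 6)).cycleType =
        ((ψ v : alternatingGroup (Fin 6)) : Perm (Fin 6)).cycleType := by
    intro ψ u v huv hu
    have h := (alternatingGroup (Fin 6)).subtype.map_isConj (ψ.toMonoidHom.map_isConj (hconj u v huv hu))
    exact isConj_iff_cycleType_eq.mp h
  have ho : orderOf (x : Perm (Fin 6)) = 3 := hx.orderOf
  by_cases h : ((phi x : alternatingGroup (Fin 6)) : Perm (Fin 6)).IsThreeCycle
  · show Perm.cycleType _ = _
    rw [hmove phi (phi x) x (h.cycleType.trans hx.cycleType.symm) (by rw [hord, ho]), h.cycleType]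
  · by_contra h2
    -- then no element of order three maps to a 3-cycle
    set u := phi.symm x with hu
    have hou : orderOf (u : Perm (Fin 6)) = 3 := by rw [hu, hord, ho]
    have e1 : phi u = x := phi.apply_symm_apply x
    by_cases h3 : (u : Perm (Fin 6)).IsThreeCycle
    · have := hmove phi u x (h3.cycleType.trans hx.cycleType.symm) hou
      rw [e1] at this
      exact h (this.symm.trans hx.cycleType)
    · have := hmove phi u (phi x) ((other_type hou h3).trans (other_type (by rw [hord, ho]) h).symm) hou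
      rw [e1] at this
      exact h2 (this.symm.trans hx.cycleType)

theorem pgroup_le_range {n p : ℕ} [Fact p.Prime] (hn : 4 ≤ n) (hp2 : p ≠ 2)
    (f : MulAut (alternatingGroup (Fin n))) (hf : ∃ k, f ^ p ^ k = 1) :
    f ∈ (MulAut.conjNormal : Perm (Fin n) →* MulAut (alternatingGroup (Fin n))).range := by
  by_cases h6 : n = 6
  · subst h6
    obtain ⟨k, hk⟩ := hf
    obtain ⟨σ, hσ⟩ := eq_conj_of_three hn (f * f) (fun x hx => three_of_sq f x hx)
    obtain ⟨m, hm⟩ := ((Fact.out : p.Prime).odd_of_ne_two hp2).pow (n := k)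
    refine ⟨σ ^ (m + 1), ?_⟩
    rw [map_pow, hσ, ← pow_two, ← pow_mul, show 2 * (m + 1) = p ^ k + 1 by omega, pow_succ, hk, one_mul]
  · exact CfsgLib.AutAlternating.eq_conj hn h6 f

theorem abelian_sylow {n p : ℕ} [Fact p.Prime] (hn : 4 ≤ n) (hp2 : p ≠ 2) (hnp : n < p ^ 2)
    (G : Subgroup (MulAut (alternatingGroup (Fin n)))) (P : Sylow p G) :
    IsMulCommutative (P : Subgroup G) := by
  let c : Perm (Fin n) →* MulAut (alternatingGroup (Fin n)) := MulAut.conjNormal
  let Q := ((P : Subgroup G).map G.subtype).comap c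
  have hQ : IsPGroup p Q := (P.isPGroup'.map _).comap_of_injective c (conjNormal_injective hn)
  refine ⟨⟨fun a b => ?_⟩⟩
  have hmem : ∀ a : (P : Subgroup G), ∃ σ : Q, c σ = ((a : G) : MulAut (alternatingGroup (Fin n))) := by
    intro a
    obtain ⟨σ, hσ⟩ := pgroup_le_range hn hp2 ((a : G) : MulAut (alternatingGroup (Fin n))) (by
      obtain ⟨k, hk⟩ := P.isPGroup' a
      exact ⟨k, by simpa using congrArg (fun z : (P : Subgroup G) => ((z : G) : MulAut (alternatingGroup (Fin n)))) hk⟩)
    exact ⟨⟨σ, by show c σ ∈ (P : Subgroup G).map G.subtype; rw [show c σ = _ from hσ]; exact ⟨(a : G), a.2, rfl⟩⟩, hσ⟩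
  obtain ⟨σ, hσ⟩ := hmem a
  obtain ⟨τ, hτ⟩ := hmem b
  apply Subtype.ext
  apply Subtype.ext
  show ((a : G) : MulAut (alternatingGroup (Fin n))) * ((b : G) : MulAut (alternatingGroup (Fin n))) = _ * _
  rw [← hσ, ← hτ, ← map_mul, ← map_mul]
  exact congrArg c (congrArg Subtype.val (perm_pgroup_comm hnp Q hQ σ τ))

theorem elt_order {n : ℕ} (hn : 4 ≤ n) (G : Subgroup (MulAut (alternatingGroup (Fin n))))
    (hG : (MulAut.conj : alternatingGroup (Fin n) →* MulAut (alternatingGroup (Fin n))).range ≤ G)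
    (m : Multiset ℕ) (hm : m.sum ≤ n) (h2 : ∀ a ∈ m, 2 ≤ a) (heven : Even (m.sum + Multiset.card m)) :
    ∃ g : G, orderOf g = m.lcm := by
  obtain ⟨σ, hσ⟩ := (exists_with_cycleType_iff (α := Fin n) (m := m)).mpr ⟨by simpa using hm, h2⟩
  have hs : σ ∈ alternatingGroup (Fin n) := by
    rw [mem_alternatingGroup, sign_of_cycleType, hσ]
    exact heven.neg_one_pow
  have e : MulAut.conj (⟨σ, hs⟩ : alternatingGroup (Fin n)) = MulAut.conjNormal σ := by
    apply MulEquiv.ext
    intro x
    apply Subtype.ext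
    rw [MulAut.conjNormal_apply]
    rfl
  refine ⟨⟨MulAut.conjNormal σ, hG ⟨⟨σ, hs⟩, e⟩⟩, ?_⟩
  rw [← Subgroup.orderOf_coe, orderOf_injective _ (conjNormal_injective hn), ← lcm_cycleType, hσ]

theorem two_case {n p : ℕ} [Fact p.Prime] (hp2 : p ≠ 2) (hnp : p ^ 2 ≤ n)
    (G : Subgroup (MulAut (alternatingGroup (Fin n))))
    (hG : (MulAut.conj : alternatingGroup (Fin n) →* MulAut (alternatingGroup (Fin n))).range ≤ G) :
    ∃ g : G, orderOf g = p * 2 := by
  have hp : 3 ≤ p := by have := (Fact.out : p.Prime).two_le; omega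
  have h3 : 3 * p ≤ p ^ 2 := by rw [pow_two]; exact Nat.mul_le_mul_right p hp
  obtain ⟨g, hg⟩ := elt_order (by omega) G hG (p ::ₘ 2 ::ₘ 2 ::ₘ 0) (by simp; omega) (by simp; omega) (by
    obtain ⟨r, hr⟩ := (Fact.out : p.Prime).odd_of_ne_two hp2
    exact ⟨r + 4, by simp; omega⟩)
  refine ⟨g, hg.trans ?_⟩
  simp only [Multiset.lcm_cons, Multiset.lcm_zero, lcm_eq_nat_lcm, Nat.lcm_one_right, Nat.lcm_self]
  exact Nat.Coprime.lcm_eq_mul ((Nat.coprime_primes Fact.out Nat.prime_two).mpr hp2)

/-- Let n ≥ 5 and let G be a group of automorphisms of the alternating group of degree n containing all inner automorphisms. If p ≠ q are primes and G has no element of order pq, then every Sylow p-subgroup of G is abelian or every Sylow q-subgroup of G is abelian. -/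
theorem result (n : ℕ) (hn : 5 ≤ n) (G : Subgroup (MulAut (alternatingGroup (Fin n))))
    (hG : (MulAut.conj : alternatingGroup (Fin n) →* MulAut (alternatingGroup (Fin n))).range ≤ G)
    (p q : ℕ) [Fact p.Prime] [Fact q.Prime] (hpq : p ≠ q) (h : ∀ g : G, orderOf g ≠ p * q) :
    (∀ P : Sylow p G, IsMulCommutative (P : Subgroup G)) ∨ (∀ Q : Sylow q G, IsMulCommutative (Q : Subgroup G)) := by
  by_cases hpab : p ≠ 2 ∧ n < p ^ 2
  · exact Or.inl fun P => abelian_sylow (by omega) hpab.1 hpab.2 G P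
  by_cases hqab : q ≠ 2 ∧ n < q ^ 2
  · exact Or.inr fun Q => abelian_sylow (by omega) hqab.1 hqab.2 G Q
  exfalso
  simp only [not_and, not_lt] at hpab hqab
  by_cases hp2 : p = 2
  · obtain ⟨g, hg⟩ := two_case (p := q) (fun e => hpq (hp2.trans e.symm)) (hqab (fun e => hpq (hp2.trans e.symm))) G hG
    exact h g (by rw [hg, hp2, mul_comm])
  by_cases hq2 : q = 2
  · obtain ⟨g, hg⟩ := two_case (p := p) hp2 (hpab hp2) G hG
    exact h g (by rw [hg, hq2])
  have hp3 : 3 ≤ p := by have := (Fact.out : p.Prime).two_le; omega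
  have hq3 : 3 ≤ q := by have := (Fact.out : q.Prime).two_le; omega
  have a1 := hpab hp2
  have a2 := hqab hq2
  have a3 : 3 * p ≤ p ^ 2 := by rw [pow_two]; exact Nat.mul_le_mul_right p hp3
  have a4 : 3 * q ≤ q ^ 2 := by rw [pow_two]; exact Nat.mul_le_mul_right q hq3
  obtain ⟨g, hg⟩ := elt_order (by omega) G hG (p ::ₘ q ::ₘ 0) (by simp; omega) (by simp; omega) (by
    obtain ⟨r, hr⟩ := (Fact.out : p.Prime).odd_of_ne_two hp2
    obtain ⟨t, ht⟩ := (Fact.out : q.Prime).odd_of_ne_two hq2
    exact ⟨r + t + 2, by simp; omega⟩)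
  refine h g (hg.trans ?_)
  simp only [Multiset.lcm_cons, Multiset.lcm_zero, lcm_eq_nat_lcm, Nat.lcm_one_right]
  exact Nat.Coprime.lcm_eq_mul ((Nat.coprime_primes Fact.out Fact.out).mpr hpq)

end Cfsg.Agent.S4231
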