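import Cfsg.Statements.S2930
import Cfsg.Agent.Lib.Perm.ThreeMinimal
import Cfsg.Agent.Lib.Layer.Basic
import Cfsg.Agent.S4231

set_option autoImplicit false
set_option linter.style.haveILetI false
open Cfsg Equiv

namespace Cfsg.Agent.S2930

/-- Let X be a finite 3-minimal group whose generalized Fitting subgroup is isomorphic to an alternating group Alt(n), n ≥ 5. Then X equals that subgroup, and n = 6, or n = 9, or n = 3^a + 1 for some a ≥ 2. -/
theorem result {X : Type*} [Group X] [Finite X] (hX : Cfsg.IsPMinimal 3 X) (n : ℕ) (hn : 5 ≤ n) (hF : Nonempty (↥(Cfsg.generalizedFittingSubgroup X) ≃* ↥(alternatingGroup (Fin n)))) : Cfsg.generalizedFittingSubgroup X = ⊤ ∧ (n = 6 ∨ n = 9 ∨ ∃ a : ℕ, 2 ≤ a ∧ n = 3 ^ a + 1) := by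
  classical
  haveI : Fact (Nat.Prime 3) := ⟨Nat.prime_three⟩
  obtain ⟨S⟩ : Nonempty (Sylow 3 X) := inferInstance
  obtain ⟨hSn, M, ⟨hMc, hSM⟩, huniq⟩ := hX S
  obtain ⟨A, hA⟩ : ∃ A, A = generalizedFittingSubgroup X := ⟨_, rfl⟩
  haveI hAn : A.Normal := hA ▸ CfsgLib.Layer.generalizedFitting_normal
  have hcent : Subgroup.centralizer (A : Set X) ≤ A := hA ▸ CfsgLib.Layer.centralizer_generalizedFitting_le
  obtain ⟨e⟩ : Nonempty (A ≃* alternatingGroup (Fin n)) := hA ▸ hF
  -- the Sylow subgroup lies in the alternating group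
  let φ : X →* MulAut (alternatingGroup (Fin n)) :=
    (MulAut.congr e).toMonoidHom.comp (MulAut.conjNormal : X →* MulAut A)
  have hinj : Function.Injective (MulAut.conjNormal : Perm (Fin n) →* MulAut (alternatingGroup (Fin n))) :=
    CfsgLib.AutAlternating.conjNormal_injective (by omega)
  have hSA : (S : Subgroup X) ≤ A := by
    intro s hs
    obtain ⟨k, hk⟩ := S.isPGroup' ⟨s, hs⟩
    have hk' : s ^ 3 ^ k = 1 := congrArg Subtype.val hk
    obtain ⟨σ, hσ⟩ := S4231.pgroup_le_range (n := n) (p := 3) (by omega) (by norm_num) (φ s)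
      ⟨k, by rw [← map_pow, hk', map_one]⟩
    have hσ3 : σ ^ 3 ^ k = 1 := hinj (by rw [map_pow, hσ, ← map_pow, hk', map_one, map_one])
    have hsig : Perm.sign σ = 1 := by
      have h1 := congrArg Perm.sign hσ3
      rw [map_pow, map_one] at h1
      rcases Int.units_eq_one_or (Perm.sign σ) with q | q
      · exact q
      · rw [q, Odd.neg_one_pow (Odd.pow (by decide))] at h1; exact q.trans h1
    obtain ⟨a, ha⟩ : ∃ a, e a = (⟨σ, Perm.mem_alternatingGroup.mpr hsig⟩ : alternatingGroup (Fin n)) :=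
      ⟨e.symm _, e.apply_symm_apply _⟩
    have hmem : (a : X)⁻¹ * s ∈ Subgroup.centralizer (A : Set X) := by
      refine Subgroup.mem_centralizer_iff.mpr fun y hy => ?_
      have h1 : φ s (e ⟨y, hy⟩) = e (a * ⟨y, hy⟩ * a⁻¹) := by
        rw [← hσ]
        refine Subtype.ext ?_
        rw [MulAut.conjNormal_apply, map_mul, map_mul, map_inv, ha]
        rfl
      have h2 : φ s (e ⟨y, hy⟩) = e ((MulAut.conjNormal s : MulAut A) ⟨y, hy⟩) := by
        show e ((MulAut.conjNormal s : MulAut A) (e.symm (e ⟨y, hy⟩))) = _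
        rw [e.symm_apply_apply]
      have h3 := congrArg Subtype.val (e.injective (h2.symm.trans h1))
      rw [MulAut.conjNormal_apply] at h3
      simp only [Subgroup.coe_mul, Subgroup.coe_inv] at h3
      calc y * ((a : X)⁻¹ * s) = (a : X)⁻¹ * ((a : X) * y * (a : X)⁻¹) * s := by group
        _ = (a : X)⁻¹ * (s * y * s⁻¹) * s := by rw [h3]
        _ = (a : X)⁻¹ * s * y := by group
    have := mul_mem a.2 (hcent hmem)
    rwa [mul_inv_cancel_left] at this
  have hcoatom : ∀ K : Subgroup X, (S : Subgroup X) ≤ K → K ≠ ⊤ → K ≤ M := fun K hK hK' => by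
    obtain ⟨M', hM', hKM'⟩ := (eq_top_or_exists_le_coatom K).resolve_left hK'
    rw [← huniq M' ⟨hM', hK.trans hKM'⟩]
    exact hKM'
  have htop : A = ⊤ := by
    by_contra hne
    have hN : Subgroup.normalizer ((S : Subgroup X) : Set X) ≠ ⊤ := fun h =>
      hSn (Subgroup.normalizer_eq_top_iff.mp h)
    have hsup := Sylow.normalizer_sup_eq_top (S.subtype hSA)
    rw [Sylow.coe_subtype, Subgroup.map_subgroupOf_eq_of_le hSA] at hsup
    exact hMc.1 (eq_top_iff.mpr (hsup ▸ sup_le (hcoatom _ Subgroup.le_normalizer hN) (hcoatom _ hSA hne)))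
  refine ⟨hA ▸ htop, ?_⟩
  -- transfer to the natural representation
  let ε : X ≃* alternatingGroup (Fin n) :=
    (Subgroup.topEquiv.symm.trans (MulEquiv.subgroupCongr htop.symm)).trans e
  let f : X →* Perm (Fin n) := (alternatingGroup (Fin n)).subtype.comp ε.toMonoidHom
  have hfinj : Function.Injective f := Subtype.val_injective.comp ε.injective
  have hf : ∀ K : Subgroup (Perm (Fin n)), K ≤ alternatingGroup (Fin n) → (K.comap f).map f = K := fun K hK => by
    refine Subgroup.map_comap_eq_self fun g hg => ⟨ε.symm ⟨g, hK hg⟩, ?_⟩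
    show ((ε (ε.symm _) : alternatingGroup (Fin n)) : Perm (Fin n)) = g
    rw [ε.apply_symm_apply]
  have hfa : ∀ x, f x ∈ alternatingGroup (Fin n) := fun x => (ε x).2
  have hsetup : CfsgLib.ThreeMinimal.Setup ((S : Subgroup X).map f) (M.map f) := by
    refine ⟨S.isPGroup'.map f, ?_, fun h => hMc.1 ?_, fun K hSK hKA hne => ?_⟩
    · rintro _ ⟨x, -, rfl⟩; exact hfa x
    · refine eq_top_iff.mpr fun x _ => ?_
      obtain ⟨y, hy, hyx⟩ := h (hfa x)
      exact hfinj hyx ▸ hy
    · rw [← hf K hKA]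
      refine Subgroup.map_mono (hcoatom _ (fun x hx => hSK ⟨x, hx, rfl⟩) fun htop' => hne ?_)
      refine le_antisymm hKA fun g hg => ?_
      have hg' : ε.symm ⟨g, hg⟩ ∈ K.comap f := htop' ▸ Subgroup.mem_top _
      have : f (ε.symm ⟨g, hg⟩) ∈ K := hg'
      simpa [f] using this
  simpa using hsetup.degree (by simpa using hn)

end Cfsg.Agent.S2930
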