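import Cfsg.Statements.S2931
import Cfsg.Agent.Lib.SylowWreathFour.Orth
import Cfsg.Agent.S0303
import Cfsg.Agent.S0822

open CfsgLib.SylowWreathFour CfsgLib.Orth

set_option autoImplicit false
open Cfsg

namespace Cfsg.Agent.S2931

/-- The anisotropic form. -/
theorem aniso : ∀ z₁ z₂ : ZMod 2, z₁ ^ 2 + 1 * z₁ * z₂ + 1 * z₂ ^ 2 = 0 → z₁ = 0 ∧ z₂ = 0 := by
  decide

/-- Change of scalars along the isomorphism with the prime field. -/
theorem transport {K : Type} [Field K] [Fintype K] (hK : Fintype.card K = 2) (a b : K)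
    (hab : ∀ z₁ z₂ : K, z₁ ^ 2 + a * z₁ * z₂ + b * z₂ ^ 2 = 0 → z₁ = 0 ∧ z₂ = 0) :
    Nonempty (↥(Cfsg.isometryGroup (ZMod 2) q6) ≃* ↥(Cfsg.isometryGroup K (Cfsg.quadFormMinus 2 K a b))) := by
  have h2 : ∀ x : K, x = 0 ∨ x = 1 := fun x => by
    classical
    by_contra hc
    push Not at hc
    have : ({0, 1, x} : Finset K).card ≤ 2 := hK ▸ Finset.card_le_univ _
    rw [Finset.card_eq_three.2 ⟨0, 1, x, zero_ne_one, hc.1.symm, hc.2.symm, rfl⟩] at this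
    omega
  have h11 : (1 : K) + 1 = 0 := (h2 _).resolve_right fun h => one_ne_zero (left_eq_add.mp h.symm)
  have hb : b = 1 := (h2 b).resolve_left fun h => one_ne_zero (hab 0 1 (by rw [h]; ring)).2
  have ha : a = 1 := (h2 a).resolve_left fun h => one_ne_zero (hab 1 1 (by
    rw [h, hb]; linear_combination h11)).1
  subst ha hb
  haveI : CharP K 2 := CharTwo.of_one_ne_zero_of_two_eq_zero one_ne_zero (by rw [← h11]; norm_num)
  let φ : ZMod 2 →+* K := ZMod.castHom (dvd_refl 2) K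
  have hφ : Function.Bijective φ := (Fintype.bijective_iff_injective_and_card _).mpr
    ⟨φ.injective, by rw [ZMod.card, hK]⟩
  let e : ZMod 2 ≃+* K := RingEquiv.ofBijective φ hφ
  let E : GL ((Fin 2 ⊕ Fin 2) ⊕ Fin 2) (ZMod 2) ≃* GL ((Fin 2 ⊕ Fin 2) ⊕ Fin 2) K :=
    Units.mapEquiv e.mapMatrix.toMulEquiv
  have hE : ∀ g : GL ((Fin 2 ⊕ Fin 2) ⊕ Fin 2) (ZMod 2), ((E g : GL ((Fin 2 ⊕ Fin 2) ⊕ Fin 2) K) : Matrix ((Fin 2 ⊕ Fin 2) ⊕ Fin 2) ((Fin 2 ⊕ Fin 2) ⊕ Fin 2) K) =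
      (g : Matrix ((Fin 2 ⊕ Fin 2) ⊕ Fin 2) ((Fin 2 ⊕ Fin 2) ⊕ Fin 2) (ZMod 2)).map e := by
    intro g
    rfl
  have hq : ∀ u, Cfsg.quadFormMinus 2 K 1 1 (e ∘ u) = e (q6 u) := fun u => by
    simp only [Cfsg.quadFormMinus, q6, map_add, map_sum, map_mul, map_pow, map_one, Function.comp_apply]
  have hmv : ∀ (g : GL ((Fin 2 ⊕ Fin 2) ⊕ Fin 2) (ZMod 2)) (u : (Fin 2 ⊕ Fin 2) ⊕ Fin 2 → ZMod 2), ((E g : GL ((Fin 2 ⊕ Fin 2) ⊕ Fin 2) K) : Matrix ((Fin 2 ⊕ Fin 2) ⊕ Fin 2) ((Fin 2 ⊕ Fin 2) ⊕ Fin 2) K).mulVec (e ∘ u) =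
      e ∘ ((g : GL ((Fin 2 ⊕ Fin 2) ⊕ Fin 2) (ZMod 2)) : Matrix ((Fin 2 ⊕ Fin 2) ⊕ Fin 2) ((Fin 2 ⊕ Fin 2) ⊕ Fin 2) (ZMod 2)).mulVec u := fun g u => by
    funext i
    rw [hE]
    exact (RingHom.map_mulVec e.toRingHom _ u i).symm
  have hmem : ∀ g, g ∈ Cfsg.isometryGroup (ZMod 2) q6 ↔
      E g ∈ Cfsg.isometryGroup K (Cfsg.quadFormMinus 2 K 1 1) := by
    intro g
    constructor
    · intro hg u w
      obtain ⟨u', rfl⟩ : ∃ u', e ∘ u' = u := ⟨e.symm ∘ u, by funext i; simp⟩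
      show Cfsg.quadFormMinus 2 K 1 1 (Matrix.mulVec _ (e ∘ u')) = Cfsg.quadFormMinus 2 K 1 1 (e ∘ u')
      rw [show (Units.coeHom (Matrix ((Fin 2 ⊕ Fin 2) ⊕ Fin 2) ((Fin 2 ⊕ Fin 2) ⊕ Fin 2) K)) (E g) = ((E g : GL ((Fin 2 ⊕ Fin 2) ⊕ Fin 2) K) : Matrix ((Fin 2 ⊕ Fin 2) ⊕ Fin 2) ((Fin 2 ⊕ Fin 2) ⊕ Fin 2) K) from rfl, hmv, hq, hq]
      exact congrArg e (hg u' u')
    · intro hg u w
      have h : Cfsg.quadFormMinus 2 K 1 1 (Matrix.mulVec ((E g : GL ((Fin 2 ⊕ Fin 2) ⊕ Fin 2) K) : Matrix ((Fin 2 ⊕ Fin 2) ⊕ Fin 2) ((Fin 2 ⊕ Fin 2) ⊕ Fin 2) K) (e ∘ u)) =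
          Cfsg.quadFormMinus 2 K 1 1 (e ∘ u) := hg (e ∘ u) (e ∘ u)
      rw [hmv, hq, hq] at h
      exact e.injective h
  refine ⟨(E.subgroupMap (Cfsg.isometryGroup (ZMod 2) q6)).trans (MulEquiv.subgroupCongr ?_)⟩
  ext x
  obtain ⟨g, rfl⟩ := E.surjective x
  rw [← hmem]
  exact ⟨fun ⟨h, hh, he⟩ => E.injective he ▸ hh, fun h => ⟨g, h, rfl⟩⟩


/-- The Sylow 2-subgroups of the alternating group of degree 8 and of PSp₄(3) are isomorphic, and so are the Sylow 2-subgroups of the symmetric group of degree 8 and of the full isometry group of a non-degenerate quadratic form of minus type in dimension 6 over the field with 2 elements. -/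
theorem result (F : Type) [Field F] [Fintype F] (hF : Fintype.card F = 3) (K : Type) [Field K] [Fintype K] (hK : Fintype.card K = 2) (a b : K) (hab : ∀ z₁ z₂ : K, z₁ ^ 2 + a * z₁ * z₂ + b * z₂ ^ 2 = 0 → z₁ = 0 ∧ z₂ = 0) (P : Sylow 2 ↥(alternatingGroup (Fin 8))) (Q : Sylow 2 (Cfsg.PSp 2 F)) (P' : Sylow 2 (Equiv.Perm (Fin 8))) (Q' : Sylow 2 ↥(Cfsg.isometryGroup K (Cfsg.quadFormMinus 2 K a b))) : Nonempty (↥(P : Subgroup ↥(alternatingGroup (Fin 8))) ≃* ↥(Q : Subgroup (Cfsg.PSp 2 F))) ∧ Nonempty (↥(P' : Subgroup (Equiv.Perm (Fin 8))) ≃* ↥(Q' : Subgroup ↥(Cfsg.isometryGroup K (Cfsg.quadFormMinus 2 K a b)))) := by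
  haveI := Fact.mk Nat.prime_two
  obtain ⟨Q₀, hQ₀, hB⟩ := exists_quadForm_minus (F := ZMod 2) 2
    (a := (1 : ZMod 2)) (b := 1) aniso
  constructor
  · obtain ⟨eA⟩ := alt_eight P
    haveI : Fintype (GaloisField 2 2) := Fintype.ofFinite _
    have h4 : Fintype.card (GaloisField 2 2) = 4 := by
      rw [← Nat.card_eq_fintype_card, GaloisField.card 2 2 two_ne_zero]; norm_num
    obtain ⟨e1⟩ := Cfsg.Agent.S0303.result (F := ZMod 2) (K := GaloisField 2 2) (q := 2)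
      (ZMod.card 2) h4 1 1 aniso
    obtain ⟨e2⟩ := Cfsg.Agent.S0822.result (F := GaloisField 2 2) (K := F) h4 hF
    have H := pomega_six hQ₀ hB
    rw [hQ₀] at H
    obtain ⟨f, hf, hcard⟩ := H
    let g := (e1.trans e2).toMonoidHom.comp f
    have hg : Function.Injective g := (e1.trans e2).injective.comp hf
    rw [Nat.card_congr (e1.trans e2).toEquiv] at hcard
    obtain ⟨eQ⟩ := sylow_iso (k := 6) g hg (by rw [card_wreath, card_klein]; rfl) hcard Q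
    exact ⟨eA.symm.trans eQ⟩
  · obtain ⟨eS⟩ := perm_eight P'
    obtain ⟨t⟩ := transport hK a b hab
    have e : Grp Q₀ ≃* ↥(Cfsg.isometryGroup (ZMod 2) q6) := MulEquiv.subgroupCongr (by rw [hQ₀])
    let E := e.trans t
    obtain ⟨R⟩ : Nonempty (Sylow 2 (Grp Q₀)) := inferInstance
    obtain ⟨eO⟩ := orth_six hQ₀ hB R
    have hcard : ¬ 2 ^ (7 + 1) ∣ Nat.card ↥(Cfsg.isometryGroup K (Cfsg.quadFormMinus 2 K a b)) := by
      rw [← Nat.card_congr E.toEquiv, card_six hQ₀ hB]; decide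
    obtain ⟨eQ⟩ := sylow_iso (k := 7) (E.toMonoidHom.comp ((R : Subgroup (Grp Q₀)).subtype.comp eO.toMonoidHom))
      (E.injective.comp (Subtype.val_injective.comp eO.injective))
      (by rw [card_wreath, card_dih]; rfl) hcard Q'
    exact ⟨eS.symm.trans eQ⟩

end Cfsg.Agent.S2931
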