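import Cfsg.Statements.S2932
import Cfsg.Agent.Lib.SLTwoEmbedded.Four

set_option autoImplicit false
open Cfsg

namespace Cfsg.Agent.S2932

/-- Let p be a prime. Inside a finite ambient group let V be an elementary abelian p-subgroup and G a subgroup normalizing V and acting faithfully on it (G ∩ C(V) = 1), and let L ≤ G act on V as SL₂(F) on its natural module, F a finite field of characteristic p, with L ≅ SL₂(F). If every Sylow p-subgroup of N_G(L) is a Sylow p-subgroup of G, then either L is normal in G, or F has 4 elements and G is isomorphic to the alternating group of degree 7. -/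
theorem result {X : Type*} [Group X] [Finite X] {p : ℕ} [Fact p.Prime] (F : Type) [Field F] [Fintype F] [CharP F p] (V G L : Subgroup X) (hV : Cfsg.IsElementaryAbelian p V) (hGV : G ≤ Subgroup.normalizer (V : Set X)) (hfaith : G ⊓ Subgroup.centralizer (V : Set X) = ⊥) (hLG : L ≤ G) (hnat : Cfsg.IsNaturalSL2Module F V L) (hLiso : Nonempty (↥L ≃* Matrix.SpecialLinearGroup (Fin 2) F)) (hSyl : ∀ S : Sylow p ↥(G ⊓ Subgroup.normalizer (L : Set X)), ∀ P : Sylow p ↥G, Nat.card S = Nat.card P) : (L.subgroupOf G).Normal ∨ (Fintype.card F = 4 ∧ Nonempty (↥G ≃* ↥(alternatingGroup (Fin 7)))) := by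
  classical
  obtain ⟨hLV, ρ, ψ, hρs, hρk, hρa⟩ := hnat
  let φ : ↥G →* MulAut ↥V := (Subgroup.normalizerMonoidHom V).comp (Subgroup.inclusion hGV)
  have hφ : ∀ (g : ↥G) (v : ↥V), ((φ g v : ↥V) : X) = g * v * (g : X)⁻¹ := fun g v => rfl
  let η : ↥G →* AddMonoid.End (Fin 2 → F) :=
    { toFun := fun g => (AddMonoidHom.mk' (fun x => ψ (Additive.ofMul (φ g (Additive.toMul (ψ.symm x)))))
        fun x y => by rw [map_add, toMul_add, map_mul, ofMul_mul, map_add] :
          (Fin 2 → F) →+ (Fin 2 → F))
      map_one' := by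
        refine AddMonoidHom.ext fun x => ?_
        show ψ (Additive.ofMul (φ 1 (Additive.toMul (ψ.symm x)))) = x
        rw [map_one, MulAut.one_apply, ofMul_toMul, AddEquiv.apply_symm_apply]
      map_mul' := fun a b => by
        refine AddMonoidHom.ext fun x => ?_
        show ψ (Additive.ofMul (φ (a * b) (Additive.toMul (ψ.symm x)))) = ψ (Additive.ofMul (φ a
          (Additive.toMul (ψ.symm (ψ (Additive.ofMul (φ b (Additive.toMul (ψ.symm x)))))))))
        rw [map_mul, MulAut.mul_apply, AddEquiv.symm_apply_apply, toMul_ofMul] }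
  have hη : Function.Injective η := by
    intro a b h
    have h1 : ∀ v : ↥V, φ a v = φ b v := fun v => by
      have := DFunLike.congr_fun h (ψ (Additive.ofMul v))
      change ψ (Additive.ofMul (φ a (Additive.toMul (ψ.symm (ψ (Additive.ofMul v)))))) =
        ψ (Additive.ofMul (φ b (Additive.toMul (ψ.symm (ψ (Additive.ofMul v)))))) at this
      simpa only [AddEquiv.symm_apply_apply, toMul_ofMul, EmbeddingLike.apply_eq_iff_eq] using this
    have h2 : ((b : X)⁻¹ * a) ∈ G ⊓ Subgroup.centralizer (V : Set X) := by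
      refine ⟨mul_mem (G.inv_mem b.2) a.2, Subgroup.mem_centralizer_iff.2 fun v hv => ?_⟩
      have := congrArg (fun z : ↥V => (z : X)) (h1 ⟨v, hv⟩)
      simp only [hφ] at this
      calc v * ((b : X)⁻¹ * a) = (b : X)⁻¹ * (b * v * (b : X)⁻¹) * a := by group
        _ = (b : X)⁻¹ * (a * v * (a : X)⁻¹) * a := by rw [this]
        _ = (b : X)⁻¹ * a * v := by group
    rw [hfaith, Subgroup.mem_bot, inv_mul_eq_one] at h2
    exact Subtype.ext h2.symm
  have hρi : Function.Injective ρ := by
    rw [← MonoidHom.ker_eq_bot_iff, hρk, Subgroup.eq_bot_iff_forall]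
    intro x hx
    have h2 : (x : X) ∈ G ⊓ Subgroup.centralizer (V : Set X) := ⟨hLG x.2, hx⟩
    rw [hfaith] at h2
    exact Subtype.ext (Subgroup.mem_bot.1 h2)
  let E : CfsgLib.SLTwoEmbedded.Emb p ↥G F :=
    { prime_zero := CharP.cast_eq_zero F p
      η := η
      inj := hη
      L := L.subgroupOf G
      ρ := (Subgroup.subgroupOfEquivOfLe hLG).trans (MulEquiv.ofBijective ρ ⟨hρi, hρs⟩)
      act := fun l x => by
        set v := Additive.toMul (ψ.symm x)
        obtain ⟨w, hw, e⟩ := hρa (Subgroup.subgroupOfEquivOfLe hLG l) v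
        show ψ (Additive.ofMul (φ l v)) = _
        rw [show φ l v = w from Subtype.ext (hw ▸ rfl), e]
        simp only [v, ofMul_toMul, AddEquiv.apply_symm_apply]
        rfl
      syl := fun Q hQ => by
        obtain ⟨P, hP⟩ := hQ.exists_le_sylow
        let S : Sylow p ↥(G ⊓ Subgroup.normalizer (L : Set X)) := default
        let S' : Subgroup ↥G := S.toSubgroup.map (Subgroup.inclusion inf_le_left)
        have hS' : Nat.card ↥S' = p ^ (Nat.card ↥G).factorization p := by
          rw [Subgroup.card_map_of_injective (Subgroup.inclusion_injective _)]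
          exact (hSyl S P).trans P.card_eq_multiplicity
        obtain ⟨g, hg⟩ := MulAction.exists_smul_eq ↥G P (Sylow.ofCard S' hS')
        refine ⟨g, fun x hx => ?_⟩
        have hm : g * x * g⁻¹ ∈ S' := by
          show g * x * g⁻¹ ∈ ((Sylow.ofCard S' hS' : Sylow p ↥G) : Subgroup ↥G)
          rw [← hg]
          exact Subgroup.smul_mem_pointwise_smul x (MulAut.conj g) _ (hP hx)
        obtain ⟨z, -, hz⟩ := hm
        rw [← hz, Subgroup.mem_normalizer_iff]
        intro y
        simp only [Subgroup.mem_subgroupOf]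
        exact Subgroup.mem_normalizer_iff.1 z.2.2 _ }
  by_cases h4 : Nat.card F = 4
  · rcases E.normal_or_alt_seven h4 with h | h
    · exact Or.inl h
    · exact Or.inr ⟨Nat.card_eq_fintype_card (α := F) ▸ h4, h⟩
  · exact Or.inl (E.normal_of_ne_four h4)

end Cfsg.Agent.S2932
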