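import Cfsg.Statements.S2933
import Cfsg.Agent.Lib.PGroup.LFourSylow

set_option autoImplicit false
set_option linter.style.haveILetI false
open Cfsg

namespace Cfsg.Agent.S2933

/-- Conjugation by an element of the normalizer. -/
def nAut {G : Type*} [Group G] (T : Subgroup G) (g : G) (hg : g ∈ Subgroup.normalizer (T : Set G)) :
    MulAut ↥T where
  toFun x := ⟨g * x * g⁻¹, (Subgroup.mem_normalizer_iff.mp hg x).mp x.2⟩
  invFun x := ⟨g⁻¹ * x * g, (Subgroup.mem_normalizer_iff.mp hg _).mpr (by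
    rw [show g * (g⁻¹ * (x : G) * g) * g⁻¹ = x by group]; exact x.2)⟩
  left_inv x := Subtype.ext (by simp [mul_assoc])
  right_inv x := Subtype.ext (by simp [mul_assoc])
  map_mul' x y := Subtype.ext (by simp [mul_assoc])

theorem nAut_coe {G : Type*} [Group G] (T : Subgroup G) (g : G)
    (hg : g ∈ Subgroup.normalizer (T : Set G)) (x : ↥T) : (nAut T g hg x : G) = g * x * g⁻¹ := rfl

/-- Let T be a 2-subgroup of a finite group G, V ≤ Z(T) a four-group, and t, ρ ∈ N_G(V) ∩ N_G(T) elements of order 2 and 3 with t commuting with ρ and with V. If [V, ρ] = V and C_T(t) = V, then T is elementary abelian of order 16, or homocyclic of rank 2 (ℤ/2ⁿ × ℤ/2ⁿ for some n ≥ 1), or isomorphic to a Sylow 2-subgroup of PSL₃(4) or of PSU₃(4). -/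
theorem result {G : Type*} [Group G] [Finite G] (T V : Subgroup G) (hT : IsPGroup 2 ↥T) (hVT : V ≤ T ⊓ Subgroup.centralizer (T : Set G)) (hV : Nat.card ↥V = 4 ∧ ∀ v ∈ V, v ^ 2 = 1) (t ρ : G) (ht : orderOf t = 2) (hρ : orderOf ρ = 3) (htn : t ∈ Subgroup.normalizer (V : Set G) ⊓ Subgroup.normalizer (T : Set G)) (hρn : ρ ∈ Subgroup.normalizer (V : Set G) ⊓ Subgroup.normalizer (T : Set G)) (htρ : t * ρ = ρ * t) (htV : t ∈ Subgroup.centralizer (V : Set G)) (hVρ : ⁅V, Subgroup.zpowers ρ⁆ = V) (hCt : T ⊓ Subgroup.centralizer ({t} : Set G) = V) : (Nat.card ↥T = 16 ∧ ∀ x ∈ T, x ^ 2 = 1) ∨ (∃ n : ℕ, 1 ≤ n ∧ Nonempty (↥T ≃* Multiplicative (ZMod (2 ^ n)) × Multiplicative (ZMod (2 ^ n)))) ∨ (∃ (F : Type) (_ : Field F) (_ : Fintype F), Fintype.card F = 4 ∧ ∀ P : Sylow 2 (Matrix.ProjectiveSpecialLinearGroup (Fin 3) F), Nonempty (↥T ≃* ↥(P : Subgroup (Matrix.ProjectiveSpecialLinearGroup (Fin 3) F)))) ∨ (∃ (F : Type)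 (_ : Field F) (_ : Fintype F), Fintype.card F = 16 ∧ ∀ P : Sylow 2 (Cfsg.PSU 3 F 4), Nonempty (↥T ≃* ↥(P : Subgroup (Cfsg.PSU 3 F 4)))) := by
  classical
  haveI : Fact (Nat.Prime 2) := ⟨Nat.prime_two⟩
  haveI : Fact (Nat.Prime 3) := ⟨Nat.prime_three⟩
  have ht2 : t * t = 1 := by rw [← pow_two, ← ht, pow_orderOf_eq_one]
  have hρ3 : ρ * ρ * ρ = 1 := by
    rw [show ρ * ρ * ρ = ρ ^ 3 by simp [pow_succ], ← hρ, pow_orderOf_eq_one]
  set τ := nAut T t (Subgroup.mem_inf.mp htn).2 with hτ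
  set σ := nAut T ρ (Subgroup.mem_inf.mp hρn).2 with hσ
  have hfix : ∀ x : ↥T, τ x = x ↔ (x : G) ∈ V := by
    intro x
    rw [← hCt, Subgroup.mem_inf, Subgroup.mem_centralizer_singleton_iff, Subtype.ext_iff, hτ, nAut_coe,
      mul_inv_eq_iff_eq_mul]
    exact ⟨fun e => ⟨x.2, e.symm⟩, fun e => e.2.symm⟩
  have hVle : V ≤ T := fun v hv => (Subgroup.mem_inf.mp (hVT hv)).1
  have hρV : ∀ v ∈ V, ρ * v * ρ⁻¹ ∈ V := fun v hv =>
    (Subgroup.mem_normalizer_iff.mp (Subgroup.mem_inf.mp hρn).1 v).mp hv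
  have hVfpf : ∀ v ∈ V, ρ * v * ρ⁻¹ = v → v = 1 := by
    intro v hv hv'
    by_contra hv1
    let π : Equiv.Perm V :=
      { toFun := fun u => ⟨ρ * u * ρ⁻¹, hρV u u.2⟩
        invFun := fun u => ⟨ρ * (ρ * u * ρ⁻¹) * ρ⁻¹, hρV _ (hρV u u.2)⟩
        left_inv := fun u => Subtype.ext (by
          show ρ * (ρ * (ρ * u * ρ⁻¹) * ρ⁻¹) * ρ⁻¹ = u
          rw [show ρ * (ρ * (ρ * (u : G) * ρ⁻¹) * ρ⁻¹) * ρ⁻¹ = (ρ * ρ * ρ) * u * (ρ * ρ * ρ)⁻¹ by group,
            hρ3, one_mul, inv_one, mul_one])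
        right_inv := fun u => Subtype.ext (by
          show ρ * (ρ * (ρ * u * ρ⁻¹) * ρ⁻¹) * ρ⁻¹ = u
          rw [show ρ * (ρ * (ρ * (u : G) * ρ⁻¹) * ρ⁻¹) * ρ⁻¹ = (ρ * ρ * ρ) * u * (ρ * ρ * ρ)⁻¹ by group,
            hρ3, one_mul, inv_one, mul_one]) }
    have hm := CfsgLib.CentralFour.fixed_mod π (p := 3) (n := 1) (Equiv.ext fun u => by
      simp only [pow_one, pow_succ, pow_zero, one_mul, Equiv.Perm.mul_apply]
      exact π.right_inv u)
    rw [hV.1] at hm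
    have h2 : 1 < Nat.card {x : V // π x = x} := Finite.one_lt_card_iff_nontrivial.mpr
      ⟨⟨⟨v, hv⟩, Subtype.ext hv'⟩, ⟨1, Subtype.ext (by show ρ * 1 * ρ⁻¹ = 1; group)⟩,
        fun e => hv1 (congrArg (fun q : {x : V // π x = x} => (q.1 : G)) e)⟩
    have h4 : Nat.card {x : V // π x = x} ≤ 4 := hV.1 ▸ Finite.card_subtype_le _
    unfold Nat.ModEq at hm
    have hall : ∀ u : V, π u = u := by
      have e : Nat.card {x : V // π x = x} = Nat.card V := by rw [hV.1]; omega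
      intro u
      by_contra hu
      exact (Finite.card_subtype_lt (p := fun x : V => π x = x) hu).ne e
    have hbot : ⁅V, Subgroup.zpowers ρ⁆ = ⊥ := by
      rw [Subgroup.commutator_eq_bot_iff_le_centralizer]
      intro u hu
      rw [Subgroup.mem_centralizer_iff]
      rintro _ ⟨i, rfl⟩
      exact (Commute.zpow_left (show Commute ρ u from
        mul_inv_eq_iff_eq_mul.mp (congrArg Subtype.val (hall ⟨u, hu⟩))) i).eq
    rw [hVρ] at hbot
    rw [hbot, Subgroup.card_bot] at hV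
    omega
  have h : CfsgLib.CentralFour.Hyp τ σ := by
    refine ⟨hT, fun x => Subtype.ext ?_, fun x => Subtype.ext ?_, fun x => Subtype.ext ?_, ?_, ?_, ?_, ?_⟩
    · simp only [hτ, nAut_coe]
      rw [show t * (t * (x : G) * t⁻¹) * t⁻¹ = (t * t) * x * (t * t)⁻¹ by group, ht2, one_mul, inv_one,
        mul_one]
    · simp only [hσ, nAut_coe]
      rw [show ρ * (ρ * (ρ * (x : G) * ρ⁻¹) * ρ⁻¹) * ρ⁻¹ = (ρ * ρ * ρ) * x * (ρ * ρ * ρ)⁻¹ by group,
        hρ3, one_mul, inv_one, mul_one]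
    · simp only [hτ, hσ, nAut_coe]
      rw [show t * (ρ * (x : G) * ρ⁻¹) * t⁻¹ = (t * ρ) * x * (t * ρ)⁻¹ by group, htρ]
      group
    · rw [← hV.1]
      exact Nat.card_congr ⟨fun x => ⟨x.1.1, (hfix x.1).mp x.2⟩,
        fun v => ⟨⟨v.1, hVle v.2⟩, (hfix _).mpr v.2⟩, fun _ => rfl, fun _ => rfl⟩
    · intro x hx
      exact Subtype.ext (by have := hV.2 _ ((hfix x).mp hx); rwa [pow_two] at this)
    · intro v hv g
      exact Subtype.ext (Subgroup.mem_centralizer_iff.mp (Subgroup.mem_inf.mp (hVT ((hfix v).mp hv))).2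
        g g.2)
    · intro v hv hv'
      exact Subtype.ext (hVfpf _ ((hfix v).mp hv) (congrArg Subtype.val hv'))
  obtain ⟨v₀, hv₀, hv₀1⟩ : ∃ v, v ∈ CfsgLib.CentralFour.V τ ∧ v ≠ 1 := by
    by_contra hcon
    push Not at hcon
    have h4 := h.card_V
    rw [(Subgroup.eq_bot_iff_forall _).mpr hcon, Subgroup.card_bot] at h4
    omega
  have tri : CfsgLib.ThreeInvolutions.Tri σ :=
    ⟨⟨1, h.rho_pow⟩, ⟨v₀, h.vv hv₀, fun e => hv₀1 (h.fpf v₀ hv₀ e)⟩⟩
  by_cases hc : ∀ x y : ↥T, x * y = y * x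
  · rcases h.abelian hc with h3 | ⟨h16, hexp⟩
    · obtain ⟨n, hn, ⟨e⟩⟩ := CfsgLib.ThreeInvolutions.homocyclic h3 tri hc
      exact Or.inr (Or.inl ⟨n, hn, ⟨e.symm.trans (MulEquiv.prodMultiplicative _ _)⟩⟩)
    · refine Or.inl ⟨h16, fun x hx => ?_⟩
      rw [pow_two]
      exact congrArg Subtype.val (hexp ⟨x, hx⟩)
  right; right
  push Not at hc
  obtain ⟨h64, hsqV, hkV⟩ := h.nonabelian hc
  by_cases hinv : ∀ x : ↥T, x * x = 1 → x ∈ CfsgLib.CentralFour.V τ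
  · right
    have h3 : CfsgLib.ThreeInvolutions.Three ↥T := by
      refine ⟨hT, fun v hv => h.cen (hinv v hv), ?_⟩
      rw [← h.card_V]
      exact Nat.card_congr (Equiv.subtypeEquivRight fun x => ⟨hinv x, fun hx => h.vv hx⟩)
    obtain ⟨a, b, c, d, z, w, hr, hgen, -, -, -, -, hfour⟩ :=
      CfsgLib.ThreeInvolutions.exists_rel64 h3 tri hc
    refine ⟨CfsgLib.UThreeFour.K16, inferInstance, inferInstance, CfsgLib.UThreeFour.K16.card_eq,
      fun P => ?_⟩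
    obtain ⟨e⟩ := Cfsg.Agent.S3663.exists_equiv CfsgLib.UThreeFour.K16.card_eq
    let P' : Sylow 2 CfsgLib.UThreeFour.G :=
      Sylow.ofCard ((P : Subgroup (Cfsg.PSU 3 CfsgLib.UThreeFour.K16 4)).map e.toMonoidHom) (by
        rw [Subgroup.card_map_of_injective e.injective, P.card_eq_multiplicity, Nat.card_congr e.toEquiv])
    obtain ⟨f⟩ := CfsgLib.UFourSylow.equiv_sylow hr hgen h64 hfour P'
    refine ⟨f.trans ((MulEquiv.subgroupCongr (?_ : (P' : Subgroup CfsgLib.UThreeFour.G) =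
      (P : Subgroup (Cfsg.PSU 3 CfsgLib.UThreeFour.K16 4)).map e.toMonoidHom)).trans
      (e.subgroupMap (P : Subgroup (Cfsg.PSU 3 CfsgLib.UThreeFour.K16 4))).symm)⟩
    rfl
  · left
    push Not at hinv
    obtain ⟨a, haa, haV⟩ := hinv
    obtain ⟨b, c, d, z, w, hr, hgen, hcen⟩ := h.exists_relL h64 hsqV hkV hc a haa haV
    haveI : Fintype (GaloisField 2 2) := Fintype.ofFinite _
    have hF : Fintype.card (GaloisField 2 2) = 4 := by
      rw [← Nat.card_eq_fintype_card, GaloisField.card 2 2 (by norm_num)]; norm_num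
    exact ⟨GaloisField 2 2, inferInstance, inferInstance, hF,
      fun P => CfsgLib.LFourSylow.equiv_sylow hF hr hgen h64 hcen P⟩

end Cfsg.Agent.S2933
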