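import Mathlib
import Cfsg.Statements.S2939
import Cfsg.Agent.Lib.SylowControl.Basic

set_option autoImplicit false
set_option linter.style.haveILetI false
set_option linter.unusedVariables false
open Cfsg

namespace Cfsg.Agent.S2939

/-- Let p be a prime dividing the order of the finite group G and 𝓕 a family of subgroups of G closed under conjugation, with conjugates taken as X^g = g⁻¹Xg. Then 𝓕 controls Sylow p-intersections in G (any two distinct Sylow p-subgroups S and T with S ∩ T ≠ 1 are joined by a chain S = S₀, S₁, …, Sₙ = T of Sylow p-subgroups where, for each i, some member Xᵢ of 𝓕 meets both S_{i-1} and Sᵢ in Sylow p-subgroups of Xᵢ, satisfies S ∩ T ≤ Sᵢ ∩ Xᵢ, and contains an element xᵢ with Sᵢ^{xᵢ} = S_{i-1}) if and only if 𝓕 strongly controls p-fusion in G (whenever A is a subset of a Sylow p-subgroup S, A contains an element other than 1, and A^g ⊆ S, the element g factorises as g = y₁⋯yₙy with y ∈ N_G(S) and each yᵢ in a member Yᵢ of 𝓕 that meets S in a Sylow p-subgroup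 of Yᵢ, with A^{y₁⋯yᵢ} ⊆ S ∩ Yᵢ for each i). -/
theorem result {G : Type*} [Group G] [Finite G] {p : ℕ} [Fact p.Prime] (hdiv : p ∣ Nat.card G) (𝓕 : Set (Subgroup G)) (h𝓕 : Cfsg.IsNormalSet 𝓕) : Cfsg.ControlsSylowIntersections p 𝓕 ↔ Cfsg.FamilyStronglyControlsFusion p 𝓕 := by
  constructor
  · intro hc S A g hA hA1 hAg
    obtain ⟨T, hT⟩ := CfsgLib.SylowControl.exists_sylow_conjSub g⁻¹ S
    rw [CfsgLib.SylowControl.conjRight_subset_iff] at hAg
    by_cases hTS : T = S
    · refine ⟨0, Fin.elim0, Fin.elim0, g, ?_, fun i => i.elim0, by simp, fun i => i.elim0⟩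
      have := CfsgLib.SylowControl.conjSub_eq_self_iff.mp (hT.symm.trans (congrArg _ hTS))
      simpa using inv_mem this
    obtain ⟨a, ha, ha1⟩ := hA1
    have hAT : ∀ b ∈ A, b ∈ (T : Subgroup G) := fun b hb => by
      rw [hT, CfsgLib.SylowControl.mem_conjSub, inv_inv]; exact hAg b hb
    have hne : (S : Subgroup G) ⊓ (T : Subgroup G) ≠ ⊥ := fun h =>
      ha1 ((Subgroup.mem_bot).mp (h ▸ (⟨hA ha, hAT a ha⟩ : a ∈ (S : Subgroup G) ⊓ (T : Subgroup G))))
    obtain ⟨n, c, X, x, h0, hl, hi⟩ := hc S T (Ne.symm hTS) hne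
    let Q : ℕ → G := fun k => Nat.rec (motive := fun _ => G) 1 (fun j q => if h : j < n then x ⟨j, h⟩ * q else q) k
    have hQ : ∀ i : Fin n, Q (i.val + 1) = x i * Q i.val := fun i => dif_pos i.isLt
    let y : Fin n → G := fun i => (Q i.val)⁻¹ * Q (i.val + 1)
    have hP : ∀ k ≤ n, ((List.ofFn y).take k).prod = Q k := by
      intro k hk
      induction k with
      | zero => rfl
      | succ j ih =>
        rw [List.prod_take_succ _ _ (by simpa using hk), ih (by omega), List.getElem_ofFn]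
        simp [y]
    have hcQ : ∀ k : Fin (n + 1), Cfsg.subgroupConjRight (Q k.val) (c k : Subgroup G) = (S : Subgroup G) := by
      intro k
      induction k using Fin.induction with
      | zero => rw [h0]; exact CfsgLib.SylowControl.conjSub_one _
      | succ i ih =>
        rw [Fin.val_succ, hQ i, ← CfsgLib.SylowControl.conjSub_conjSub, (hi i).2.2.2.1]
        exact ih
    have hprod : (List.ofFn y).prod = Q n := by rw [← hP n le_rfl, List.take_of_length_le (by simp)]
    refine ⟨n, fun i => Cfsg.subgroupConjRight (Q i.val) (X i), y, (Q n)⁻¹ * g, ?_, fun i => ⟨?_, ?_⟩, by rw [hprod, mul_inv_cancel_left], fun i => ?_⟩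
    · have h1 := hcQ (Fin.last n)
      rw [hl, hT, Fin.val_last, CfsgLib.SylowControl.conjSub_conjSub] at h1
      have := inv_mem (CfsgLib.SylowControl.conjSub_eq_self_iff.mp h1)
      simpa using this
    · have := CfsgLib.SylowControl.mem_sylowMembers_conjSub h𝓕 (hi i).1 (Q i.val)
      rw [show Q i.val = Q i.castSucc.val from rfl, hcQ i.castSucc] at this
      exact this
    · show (Q i.val)⁻¹ * Q (i.val + 1) ∈ _
      rw [hQ i, CfsgLib.SylowControl.mem_conjSub]
      simpa [mul_assoc] using (hi i).2.2.1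
    · rw [hP _ i.isLt, CfsgLib.SylowControl.conjRight_subset_iff]
      intro b hb
      have h1 : b ∈ (c i.succ : Subgroup G) ⊓ X i := (hi i).2.2.2.2 ⟨hA hb, hAT b hb⟩
      refine ⟨?_, ?_⟩
      · show _ ∈ (S : Subgroup G)
        rw [← hcQ i.succ, CfsgLib.SylowControl.mem_conjSub]
        simpa [mul_assoc] using (show b ∈ (c i.succ : Subgroup G) from h1.1)
      · show _ ∈ Cfsg.subgroupConjRight (Q i.val) (X i)
        rw [CfsgLib.SylowControl.mem_conjSub, hQ i]
        have := (X i).mul_mem ((X i).mul_mem ((X i).inv_mem (hi i).2.2.1) h1.2) (hi i).2.2.1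
        simpa [mul_assoc] using this
  · intro hc S T hne hne1
    obtain ⟨g, hg⟩ := CfsgLib.SylowControl.exists_eq_conjSub T S
    obtain ⟨a, ha, ha1⟩ := (Subgroup.ne_bot_iff_exists_ne_one.mp hne1 : ∃ a : ↥((S : Subgroup G) ⊓ (T : Subgroup G)), a ≠ 1) |> fun ⟨a, ha⟩ => (⟨a.1, a.2, fun h => ha (Subtype.ext h)⟩ : ∃ a ∈ (S : Subgroup G) ⊓ (T : Subgroup G), a ≠ 1)
    have hAg : Cfsg.conjRight g (((S : Subgroup G) ⊓ (T : Subgroup G) : Subgroup G) : Set G) ⊆ (S : Set G) := by
      rw [CfsgLib.SylowControl.conjRight_subset_iff]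
      intro b hb
      show _ ∈ (S : Subgroup G)
      rw [← hg, CfsgLib.SylowControl.mem_conjSub]
      simpa [mul_assoc] using (show b ∈ (T : Subgroup G) from hb.2)
    obtain ⟨n, Y, y, y₀, hy0, hY, hgp, hA⟩ := hc S _ g (fun b hb => hb.1) ⟨a, ha, ha1⟩ hAg
    set P : ℕ → G := fun k => ((List.ofFn y).take k).prod with hP
    have hPs : ∀ i : Fin n, P (i.val + 1) = P i.val * y i := fun i => by
      simp only [hP]; rw [List.prod_take_succ _ _ (by simp)]; simp
    choose c hc' using fun k : Fin (n + 1) => CfsgLib.SylowControl.exists_sylow_conjSub (P k.val)⁻¹ S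
    refine ⟨n, c, fun i => Cfsg.subgroupConjRight (P i.val)⁻¹ (Y i), fun i => P (i.val + 1) * (P i.val)⁻¹, ?_, ?_, fun i => ?_⟩
    · apply Sylow.ext
      rw [hc']
      simp [hP, CfsgLib.SylowControl.conjSub_one]
    · apply Sylow.ext
      have hn : P n = g * y₀⁻¹ := by rw [hgp, mul_inv_cancel_right]; simp [hP, List.take_of_length_le]
      rw [hc', Fin.val_last, hn, mul_inv_rev, inv_inv, ← CfsgLib.SylowControl.conjSub_conjSub,
        CfsgLib.SylowControl.conjSub_eq_self_iff.mpr hy0, ← hg, CfsgLib.SylowControl.conjSub_conjSub, mul_inv_cancel,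
        CfsgLib.SylowControl.conjSub_one]
    · have hY' := CfsgLib.SylowControl.mem_sylowMembers_conjSub h𝓕 (hY i).1 (P i.val)⁻¹
      have hYy : Cfsg.subgroupConjRight (P i.val)⁻¹ (Y i) = Cfsg.subgroupConjRight (P (i.val + 1))⁻¹ (Y i) := by
        rw [hPs i, mul_inv_rev, ← CfsgLib.SylowControl.conjSub_conjSub, CfsgLib.SylowControl.conjSub_eq_self_of_mem ((Y i).inv_mem (hY i).2)]
      refine ⟨?_, ?_, ?_, ?_, fun b hb => ?_⟩
      · rw [hc']; exact hY'
      · show Cfsg.subgroupConjRight _ _ ∈ _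
        rw [hc', hYy]; exact CfsgLib.SylowControl.mem_sylowMembers_conjSub h𝓕 (hY i).1 _
      · show P (i.val + 1) * (P i.val)⁻¹ ∈ Cfsg.subgroupConjRight (P i.val)⁻¹ (Y i)
        rw [CfsgLib.SylowControl.mem_conjSub, hPs i]
        simpa [mul_assoc] using (hY i).2
      · rw [hc', hc', CfsgLib.SylowControl.conjSub_conjSub]
        simp [mul_assoc]
      · have h1 := (CfsgLib.SylowControl.conjRight_subset_iff.mp (hA i)) b hb
        change (P (i.val + 1))⁻¹ * b * P (i.val + 1) ∈ _ at h1
        refine ⟨?_, ?_⟩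
        · show b ∈ (c i.succ : Subgroup G)
          rw [hc', CfsgLib.SylowControl.mem_conjSub]
          rw [inv_inv, Fin.val_succ]
          exact h1.1
        · show b ∈ Cfsg.subgroupConjRight (P i.val)⁻¹ (Y i)
          rw [hYy, CfsgLib.SylowControl.mem_conjSub]
          simpa using h1.2

end Cfsg.Agent.S2939
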