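import Mathlib
import Cfsg.Statements.S2940
import Cfsg.Agent.Lib.Transfer.Basic
import Cfsg.Agent.Lib.Transfer.Sylow

set_option autoImplicit false
set_option linter.style.haveILetI false
set_option linter.unusedVariables false
open Cfsg

namespace Cfsg.Agent.S2940

/-- Let S be a Sylow p-subgroup of the finite group G and G₁, G₂ subgroups containing S with G = G₁G₂. Then for every g ∈ G there is a Sylow p-subgroup U of G with S ∩ S^g ≤ U ≤ G₁ ∩ G₂^g (conjugates taken as X^g = g⁻¹Xg). -/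
theorem result {G : Type*} [Group G] [Finite G] {p : ℕ} [Fact p.Prime] (S : Sylow p G) (G₁ G₂ : Subgroup G) (h1 : (S : Subgroup G) ≤ G₁) (h2 : (S : Subgroup G) ≤ G₂) (hfact : ∀ g : G, ∃ g₁ ∈ G₁, ∃ g₂ ∈ G₂, g = g₁ * g₂) (g : G) : ∃ U : Sylow p G, (S : Subgroup G) ⊓ Cfsg.subgroupConjRight g (S : Subgroup G) ≤ (U : Subgroup G) ∧ (U : Subgroup G) ≤ G₁ ⊓ Cfsg.subgroupConjRight g G₂ := by
  obtain ⟨a, ha, b, hb, hab⟩ := hfact g⁻¹
  have hg : g = b⁻¹ * a⁻¹ := by rw [← inv_inv g, hab, mul_inv_rev]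
  have hconj : Cfsg.subgroupConjRight g G₂ = G₂.map (MulAut.conj a).toMonoidHom := by
    rw [Cfsg.subgroupConjRight, hg, mul_inv_rev, inv_inv, inv_inv, ← CfsgLib.Transfer.map_conj_mul,
      CfsgLib.Transfer.map_conj_eq_self_iff.mpr (Subgroup.le_normalizer hb)]
  set K := G₁ ⊓ Cfsg.subgroupConjRight g G₂ with hK
  set S' := (S : Subgroup G).map (MulAut.conj a).toMonoidHom with hS'
  have hS'K : S' ≤ K := by
    refine le_inf ?_ (hconj ▸ Subgroup.map_mono h2)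
    rintro _ ⟨s, hs, rfl⟩
    exact G₁.mul_mem (G₁.mul_mem ha (h1 hs)) (G₁.inv_mem ha)
  have hle : (S : Subgroup G) ⊓ Cfsg.subgroupConjRight g (S : Subgroup G) ≤ K :=
    inf_le_inf h1 (Subgroup.map_mono h2)
  have hidx : ¬ p ∣ S'.relIndex K := by
    rw [hS', ← CfsgLib.Transfer.smul_sylow_coe a S]
    exact fun h => (a • S).not_dvd_index (h.trans (Subgroup.relIndex_dvd_index_of_le
      (by rw [CfsgLib.Transfer.smul_sylow_coe]; exact hS'K)))
  obtain ⟨k, hk, hle'⟩ := CfsgLib.Transfer.exists_conj_le_of_not_dvd_relIndex hS'K (S.2.map _) hidx hle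
    (S.2.to_le inf_le_left)
  refine ⟨(k⁻¹ * a) • S, ?_, ?_⟩
  · rw [CfsgLib.Transfer.smul_sylow_coe]
    intro x hx
    have h1 := hle' ⟨x, hx, rfl⟩
    obtain ⟨s, hs, e⟩ := h1
    refine ⟨s, hs, ?_⟩
    change k⁻¹ * a * s * (k⁻¹ * a)⁻¹ = x
    change a * s * a⁻¹ = k * x * k⁻¹ at e
    calc k⁻¹ * a * s * (k⁻¹ * a)⁻¹ = k⁻¹ * (a * s * a⁻¹) * k := by group
      _ = _ := by rw [e]; group
  · rw [CfsgLib.Transfer.smul_sylow_coe]
    rintro _ ⟨s, hs, rfl⟩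
    have := K.mul_mem (K.mul_mem (K.inv_mem hk) (hS'K ⟨s, hs, rfl⟩)) hk
    change k⁻¹ * a * s * (k⁻¹ * a)⁻¹ ∈ K
    change k⁻¹ * (a * s * a⁻¹) * k ∈ K at this
    convert this using 1
    group

end Cfsg.Agent.S2940
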