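import Cfsg.Statements.S2943
import Cfsg.Agent.Lib.JComp.Overgroup

set_option autoImplicit false
open Cfsg

namespace Cfsg.Agent.S2943

/-- Let G be a finite group of characteristic 2 type in which every 2-local subgroup is solvable and the centralizer of Ω₁(Z(S)) lies in N_G(S) for every Sylow 2-subgroup S, and let T be a nontrivial 2-subgroup (below, J is the Thompson subgroup generated by the elementary abelian 2-subgroups of largest order), L a subgroup in which T is a Sylow 2-subgroup with J(T) not contained in O₂(L) and C_G(O₂(L)) ≤ O₂(L), and K a J(T)-component contained in L. If Z(T) meets W_K = [Ω₁(Z(O₂(K))), K] nontrivially, then T normalizes K. -/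
theorem result {G : Type*} [Group G] [Finite G] (hL : Cfsg.IsCharacteristicTwoType G) (hN : ∀ N : Subgroup G, Cfsg.IsTwoLocal N → Group.IsSolvable ↥N)
    (hZ : ∀ S : Sylow 2 G, Subgroup.centralizer (Cfsg.omegaCenterOf (S : Subgroup G) : Set G) ≤ Subgroup.normalizer ((S : Subgroup G) : Set G)) (T : Subgroup G) (hT : IsPGroup 2 ↥T) (hT1 : T ≠ ⊥) (L : Subgroup G) (hLT : L ∈ Cfsg.jOvergroups T)
    (K : Subgroup G) (hK : Cfsg.IsJComponent T K) (hKL : K ≤ L)
    (hZW : T ⊓ Subgroup.centralizer (T : Set G) ⊓ Cfsg.wOf K ≠ ⊥) : T ≤ Subgroup.normalizer (K : Set G) := by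
  have O : CfsgLib.JComp.Over T L := ⟨⟨hL, hN, hZ⟩, hT, hT1, hLT⟩
  obtain ⟨Y, D⟩ := O.exists_local
  obtain ⟨g, C, -⟩ := CfsgLib.JComp.Comp.of_component O D ⟨hT, hK⟩ hKL
  obtain ⟨⟨w, hw⟩, hw1⟩ := Subgroup.ne_bot_iff_exists_ne_one.1 hZW
  have hw1' : w ≠ 1 := fun e => hw1 (Subtype.ext e)
  intro t ht
  have hTn : t ∈ Subgroup.normalizer (CfsgLib.Transfer.thompsonJ 2 T : Set G) :=
    CfsgLib.Transfer.normalizer_le_normalizer_thompsonJ 2 T (Subgroup.le_normalizer ht)
  have key : ∀ t ∈ T, t ∈ Subgroup.normalizer (CfsgLib.Transfer.thompsonJ 2 T : Set G) →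
      K.map (MulAut.conj t).toMonoidHom = K := by
    intro t ht htn
    have C' := C.conj O D (O.mem.1.1 ht) htn
    refine C.eq_of_share O D C' hw.2 ?_ hw1' (Subgroup.card_map_of_injective (MulAut.conj t).injective)
    rw [CfsgLib.JComp.wOf_map t (CfsgLib.JComp.pCoreOf_map K t)]
    refine ⟨w, hw.2, ?_⟩
    show t * w * t⁻¹ = w
    exact mul_inv_eq_iff_eq_mul.2 (Subgroup.mem_centralizer_iff.1 hw.1.2 t ht)
  have h := key t ht hTn
  refine Subgroup.mem_normalizer_iff.2 fun x => ⟨fun hx => h.le ⟨x, hx, rfl⟩, fun hx => ?_⟩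
  have h2 := h.symm.le hx
  obtain ⟨y, hy, e⟩ := h2
  have : y = x := mul_left_cancel (mul_right_cancel (show t * y * t⁻¹ = t * x * t⁻¹ from e))
  rwa [this] at hy

end Cfsg.Agent.S2943
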