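import Cfsg.Statements.S2946
import Cfsg.Agent.Lib.JComp.Split

set_option autoImplicit false
open Cfsg

namespace Cfsg.Agent.S2946

/-- Let G be a finite group of characteristic 2 type in which every 2-local subgroup is solvable and the centralizer of Ω₁(Z(S)) lies in N_G(S) for every Sylow 2-subgroup S, and let T be a nontrivial 2-subgroup (below, J is the Thompson subgroup generated by the elementary abelian 2-subgroups of largest order), K a J(T)-component and Z₀ = Ω₁(Z(J(T))). Then Z₀ meets W_K = [Ω₁(Z(O₂(K))), K] in a subgroup of order 2, and Z₀ is the product of Z₀ ∩ Z(⟨K, J(T)⟩) and Z₀ ∩ W_K. -/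
theorem result {G : Type*} [Group G] [Finite G] (hL : Cfsg.IsCharacteristicTwoType G) (hN : ∀ N : Subgroup G, Cfsg.IsTwoLocal N → Group.IsSolvable ↥N)
    (hZ : ∀ S : Sylow 2 G, Subgroup.centralizer (Cfsg.omegaCenterOf (S : Subgroup G) : Set G) ≤ Subgroup.normalizer ((S : Subgroup G) : Set G)) (T : Subgroup G) (hT : IsPGroup 2 ↥T) (hT1 : T ≠ ⊥) (K : Subgroup G) (hK : Cfsg.IsJComponent T K)
    (Z₀ : Subgroup G) (hZ₀ : Z₀ = Cfsg.omegaCenterOf (Cfsg.thompsonSubgroupOf 2 T)) :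
    Nat.card ↥(Z₀ ⊓ Cfsg.wOf K) = 2 ∧
      (Z₀ ⊓ ((K ⊔ Cfsg.thompsonSubgroupOf 2 T) ⊓ Subgroup.centralizer ((K ⊔ Cfsg.thompsonSubgroupOf 2 T) : Set G))) ⊔ (Z₀ ⊓ Cfsg.wOf K) = Z₀ := by
  classical
  have S : CfsgLib.JComp.Setting T K := ⟨hT, hK⟩
  subst hZ₀
  rw [CfsgLib.Transfer.thompsonSubgroupOf_eq]
  obtain ⟨w, hwW, hw1, hwZ, huniq, hsplit⟩ := S.split
  have hset : ((Cfsg.omegaCenterOf (CfsgLib.Transfer.thompsonJ 2 T) ⊓ Cfsg.wOf K : Subgroup G) : Set G) =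
      ↑({1, w} : Finset G) := by
    ext x
    simp only [SetLike.mem_coe, Finset.coe_insert, Finset.coe_singleton, Set.mem_insert_iff,
      Set.mem_singleton_iff]
    refine ⟨fun hx => huniq x hx.2 hx.1, ?_⟩
    rintro (rfl | rfl)
    · exact one_mem _
    · exact ⟨hwZ, hwW⟩
  refine ⟨?_, le_antisymm (sup_le inf_le_left inf_le_left) fun z hz => ?_⟩
  · rw [← SetLike.coe_sort_coe, Nat.card_coe_set_eq, hset, Set.ncard_coe_finset]
    exact Finset.card_pair (Ne.symm hw1)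
  obtain ⟨y, hy, hyc, hyz⟩ := hsplit z hz
  have hyZ : y ∈ Cfsg.omegaCenterOf (CfsgLib.Transfer.thompsonJ 2 T) := by
    rcases hyz with rfl | rfl
    · exact hz
    · exact mul_mem hz hwZ
  have hmem : y ∈ Cfsg.omegaCenterOf (CfsgLib.Transfer.thompsonJ 2 T) ⊓
      ((K ⊔ CfsgLib.Transfer.thompsonJ 2 T) ⊓
        Subgroup.centralizer ((K : Set G) ⊔ (CfsgLib.Transfer.thompsonJ 2 T : Set G))) :=
    ⟨hyZ, hy, Subgroup.mem_centralizer_iff.2 fun h hh => hyc h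
      (hh.elim (fun h' => Subgroup.mem_sup_left h') (fun h' => Subgroup.mem_sup_right h'))⟩
  rcases hyz with rfl | rfl
  · exact Subgroup.mem_sup_left hmem
  · have h := mul_mem (Subgroup.mem_sup_left (T := _ ⊓ Cfsg.wOf K) hmem) (Subgroup.mem_sup_right
      (S := _) (⟨hwZ, hwW⟩ : w ∈ Cfsg.omegaCenterOf (CfsgLib.Transfer.thompsonJ 2 T) ⊓ Cfsg.wOf K))
    rwa [mul_assoc, S.hK.2.2.2.2.2 w hwW, mul_one] at h

end Cfsg.Agent.S2946
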