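import Cfsg.Statements.S2950
import Cfsg.Agent.Lib.JComp.Clique

set_option autoImplicit false
open Cfsg

namespace Cfsg.Agent.S2950

/-- Uniqueness of the maximal 2-local overgroup. Let G be a finite group of characteristic 2 type in which every 2-local subgroup is solvable and the centralizer of Ω₁(Z(S)) lies in N_G(S) for every Sylow 2-subgroup S; suppose O₂(G) = 1, fix a Sylow 2-subgroup S and a 2-local subgroup M containing N_G(J(S)) (J the Thompson subgroup generated by the elementary abelian 2-subgroups of largest order). Let T be maximal (for the order of a largest elementary abelian subgroup, then the order of J(T), then the order of T) among the nontrivial 2-subgroups of M lying in a 2-local subgroup not inside M, and let K be a J(T)-component not contained in M with J(T) the Thompson subgroup of every Sylow 2-subgroup of N_G(W_K) containing J(T), and O₂(⟨K, T⟩) ≠ 1. Then there is exactly one maximal 2-local subgroup L of G containing ⟨K, J(T)⟩; moreover K is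 subnormal in L and T is a Sylow 2-subgroup of L. -/
theorem result {G : Type*} [Group G] [Finite G] (hL : Cfsg.IsCharacteristicTwoType G) (hN : ∀ N : Subgroup G, Cfsg.IsTwoLocal N → Group.IsSolvable ↥N)
    (hZ : ∀ S : Sylow 2 G, Subgroup.centralizer (Cfsg.omegaCenterOf (S : Subgroup G) : Set G) ≤ Subgroup.normalizer ((S : Subgroup G) : Set G)) (hO : Cfsg.pCore 2 G = ⊥) (S : Sylow 2 G) (M : Subgroup G) (hM : Cfsg.IsTwoLocal M)
    (hMJ : Subgroup.normalizer (Cfsg.thompsonSubgroupOf 2 (S : Subgroup G) : Set G) ≤ M) (T : Subgroup G) (hT : T ∈ Cfsg.maxStraddlingTwoSubgroups M)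
    (K : Subgroup G) (hK : K ∈ Cfsg.jComponentsOutside M T) :
    ∃ L : Subgroup G, Cfsg.IsMaximalTwoLocal L ∧ K ⊔ Cfsg.thompsonSubgroupOf 2 T ≤ L ∧
      (∀ L' : Subgroup G, Cfsg.IsMaximalTwoLocal L' → K ⊔ Cfsg.thompsonSubgroupOf 2 T ≤ L' → L' = L) ∧
      (K.subgroupOf L).IsSubnormal ∧ Cfsg.IsSylowTwoIn T L := by
  haveI : Fact (Nat.Prime 2) := ⟨Nat.prime_two⟩
  rw [CfsgLib.Transfer.thompsonSubgroupOf_eq] at hMJ
  have P : CfsgLib.JComp.MaxStrad M T := ⟨⟨hL, hN, hZ⟩, ⟨S, hMJ⟩, hT⟩
  rw [CfsgLib.Transfer.thompsonSubgroupOf_eq]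
  have O : CfsgLib.JComp.Out M T K := ⟨hK.1.1, hK.2.1⟩
  set L := CfsgLib.JComp.maxLocal M T K with hLdef
  have hJK : K ⊔ CfsgLib.Transfer.thompsonJ 2 T ≤ L := sup_le (P.K_le_maxLocal O) P.J_le_maxLocal
  have hTL : T ≤ L := by
    refine (le_sup_right : T ≤ K ⊔ T).trans ?_
    have hle := CfsgLib.Signalizer.normalizer_le_normalizer_pCoreOf 2 (Subgroup.le_normalizer (H := K ⊔ T))
    refine hle.trans (P.local_le_maxLocal O ⟨_, CfsgLib.PReduced.isPGroup_pCoreOf 2 _, hK.2.2, rfl⟩
      (le_sup_left.trans hle) ((CfsgLib.Transfer.thompsonJ_le 2 T).trans (le_sup_right.trans hle)))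
  obtain ⟨hover, -⟩ := P.local_over (P.maxLocal_isTwoLocal O) (P.maxLocal_not_le O) hTL
  refine ⟨L, P.maxLocal_isMaximal O, hJK, fun L' hL' hle => ?_, ?_, hover.1⟩
  · exact (hL'.2 L (P.maxLocal_isTwoLocal O) (P.local_le_maxLocal O hL'.1 (le_sup_left.trans hle) (le_sup_right.trans hle))).symm
  · have Ov : CfsgLib.JComp.Over T L := ⟨P.amb, P.isPGroup, P.ne_bot, hover⟩
    obtain ⟨Y, D⟩ := Ov.exists_local
    obtain ⟨g, -, hsn⟩ := CfsgLib.JComp.Comp.of_component Ov D (P.setting O.comp) (P.K_le_maxLocal O)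
    exact hsn

end Cfsg.Agent.S2950
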