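import Cfsg.Statements.S2951
import Cfsg.Agent.Lib.JComp.Embedded

set_option autoImplicit false
open Cfsg

namespace Cfsg.Agent.S2951

/-- Let G be a finite group of characteristic 2 type in which every 2-local subgroup is solvable and the centralizer of Ω₁(Z(S)) lies in N_G(S) for every Sylow 2-subgroup S; suppose O₂(G) = 1, fix a Sylow 2-subgroup S and a 2-local subgroup M containing N_G(J(S)) (J the Thompson subgroup generated by the elementary abelian 2-subgroups of largest order), and put Z = Ω₁(Z(S)). Let T ≤ S be maximal (for the order of a largest elementary abelian subgroup, then the order of J(T), then the order of T) among the nontrivial 2-subgroups of M lying in a 2-local subgroup not inside M, K a J(T)-component not contained in M with J(T) the Thompson subgroup of every Sylow 2-subgroup of N_G(W_K) containing J(T), and O₂(⟨K, T⟩) ≠ 1, L a maximal 2-local subgroup containing ⟨K, J(T)⟩ (there is only one), and Z₀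 = Ω₁(Z(J(T))). Then Z₀ ∩ W_K ≠ 1, and one of: Z = Z₀ has order 2; Z = Z₀ has order 4 and T = S; Ω₁(Z(T)) = Z₀ has order 4 and C_L(Z₀) has index 2 in N_G(Z₀). -/
theorem result {G : Type*} [Group G] [Finite G] (hL : Cfsg.IsCharacteristicTwoType G) (hN : ∀ N : Subgroup G, Cfsg.IsTwoLocal N → Group.IsSolvable ↥N)
    (hZ : ∀ S : Sylow 2 G, Subgroup.centralizer (Cfsg.omegaCenterOf (S : Subgroup G) : Set G) ≤ Subgroup.normalizer ((S : Subgroup G) : Set G)) (hO : Cfsg.pCore 2 G = ⊥) (S : Sylow 2 G) (M : Subgroup G) (hM : Cfsg.IsTwoLocal M)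
    (hMJ : Subgroup.normalizer (Cfsg.thompsonSubgroupOf 2 (S : Subgroup G) : Set G) ≤ M) (T : Subgroup G) (hT : T ∈ Cfsg.maxStraddlingTwoSubgroups M)
    (hTS : T ≤ (S : Subgroup G)) (K : Subgroup G) (hK : K ∈ Cfsg.jComponentsOutside M T)
    (L : Subgroup G) (hLmax : Cfsg.IsMaximalTwoLocal L) (hKL : K ⊔ Cfsg.thompsonSubgroupOf 2 T ≤ L)
    (Z Z₀ : Subgroup G) (hZdef : Z = Cfsg.omegaCenterOf (S : Subgroup G)) (hZ₀ : Z₀ = Cfsg.omegaCenterOf (Cfsg.thompsonSubgroupOf 2 T)) :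
    Z₀ ⊓ Cfsg.wOf K ≠ ⊥ ∧
      ((Z = Z₀ ∧ Nat.card ↥Z₀ = 2) ∨ (Z = Z₀ ∧ Nat.card ↥Z₀ = 4 ∧ T = (S : Subgroup G)) ∨
        (Cfsg.omegaCenterOf T = Z₀ ∧ Nat.card ↥Z₀ = 4 ∧
          (L ⊓ Subgroup.centralizer (Z₀ : Set G)).relIndex (Subgroup.normalizer (Z₀ : Set G)) = 2)) := by
  classical
  haveI : Fact (Nat.Prime 2) := ⟨Nat.prime_two⟩
  have hMJ' := hMJ
  rw [CfsgLib.Transfer.thompsonSubgroupOf_eq] at hMJ'
  have P : CfsgLib.JComp.MaxStrad M T := ⟨⟨hL, hN, hZ⟩, ⟨S, hMJ'⟩, hT⟩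
  have O : CfsgLib.JComp.Out M T K := ⟨hK.1.1, hK.2.1⟩
  obtain ⟨M', K', Q⟩ := P.exists_pair O (P.T_le_maxLocal O hK.2.2) hO
  rw [CfsgLib.Transfer.thompsonSubgroupOf_eq] at hKL hZ₀
  have hLeq : L = CfsgLib.JComp.maxLocal M T K := (hLmax.2 _ (P.maxLocal_isTwoLocal O)
    (P.local_le_maxLocal O hLmax.1 (le_sup_left.trans hKL) (le_sup_right.trans hKL))).symm
  have St := P.setting O.comp
  have F := Q.fst.facts
  obtain ⟨z, hzW, hzZ, hz1, hznot, huniq, hsplit⟩ := St.exists_point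
  have hTZ : Cfsg.omegaCenterOf T = Z₀ := by rw [hZ₀]; exact Q.fst.omega_eq
  refine ⟨fun h => hz1 ((Subgroup.eq_bot_iff_forall _).1 h z (Subgroup.mem_inf.2 ⟨hZ₀ ▸ hzZ, hzW⟩)), ?_⟩
  -- `Z ≤ Z₀`
  have hZle : Z ≤ Z₀ := by
    intro v hv
    rw [hZdef] at hv
    have hvc : ∀ t ∈ T, t * v = v * t := fun t ht => CfsgLib.JComp.omegaCenterOf_comm hv (hTS ht)
    have hvT : v ∈ T := CfsgLib.JComp.core_le_of_sylowTwoIn F.sylow (F.cent (Subgroup.mem_centralizer_iff.2
      fun r hr => hvc r (CfsgLib.JComp.core_le_of_sylowTwoIn F.sylow hr)))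
    rw [← hTZ]
    exact CfsgLib.JComp.mem_omegaCenterOf hvT hvc (CfsgLib.JComp.omegaCenterOf_sq hv)
  have hcard : Nat.card Z₀ = 2 * Nat.card (CfsgLib.JComp.centPart T K) := by rw [hZ₀]; exact St.card_omega
  obtain ⟨v, hvZ, hv1⟩ : ∃ v ∈ Z, v ≠ 1 := by
    haveI : Nontrivial ↥(S : Subgroup G) := by
      rw [Subgroup.nontrivial_iff_ne_bot]
      exact fun h => P.ne_bot (le_bot_iff.1 (h ▸ hTS))
    haveI := S.2.center_nontrivial
    obtain ⟨c, hc2⟩ := exists_prime_orderOf_dvd_card' (G := Subgroup.center ↥(S : Subgroup G)) 2 (by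
      obtain ⟨k, hk, hk'⟩ := (S.2.to_subgroup (Subgroup.center _)).nontrivial_iff_card.1 inferInstance
      rw [hk']; exact dvd_pow_self 2 hk.ne')
    refine ⟨((c : ↥(S : Subgroup G)) : G), hZdef ▸ CfsgLib.JComp.mem_omegaCenterOf (c : ↥(S : Subgroup G)).2
      (fun y hy => congrArg Subtype.val (Subgroup.mem_center_iff.1 c.2 ⟨y, hy⟩)) ?_, fun h => ?_⟩
    · have h := pow_orderOf_eq_one c
      rw [hc2, pow_two] at h
      exact congrArg (fun a : Subgroup.center ↥(S : Subgroup G) => ((a : ↥(S : Subgroup G)) : G)) h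
    · rw [orderOf_eq_one_iff.2 (Subtype.ext (Subtype.ext h))] at hc2
      norm_num at hc2
  have hY2 : Nat.card (CfsgLib.JComp.centPart T K) ≤ 2 := by
    rcases Q.core_shape.2.2.2 with ⟨-, h⟩ | ⟨-, h⟩
    · rw [h, Subgroup.card_bot]; norm_num
    · omega
  have hYpos : 0 < Nat.card (CfsgLib.JComp.centPart T K) := Nat.card_pos
  rcases eq_or_ne (Nat.card (CfsgLib.JComp.centPart T K)) 1 with hY | hY
  · haveI : Nontrivial Z := (Subgroup.nontrivial_iff_ne_bot _).2 fun h => hv1 (Subgroup.mem_bot.1 (h ▸ hvZ))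
    have h2 : 2 ≤ Nat.card Z := Finite.one_lt_card_iff_nontrivial.2 inferInstance
    exact Or.inl ⟨Subgroup.eq_of_le_of_card_ge hZle (by omega), by omega⟩
  by_cases hTeq : T = (S : Subgroup G)
  · refine Or.inr (Or.inl ⟨?_, by omega, hTeq⟩)
    rw [hZdef, ← hTeq, hTZ]
  refine Or.inr (Or.inr ⟨hTZ, by omega, ?_⟩)
  obtain ⟨g, hg, hgT, hgS⟩ : ∃ g ∈ Subgroup.normalizer (T : Set G), g ∉ T ∧ g ∈ (S : Subgroup G) := by
    haveI : Group.IsNilpotent ↥(S : Subgroup G) := S.2.isNilpotent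
    have h1 : T.subgroupOf (S : Subgroup G) < Subgroup.normalizer (T.subgroupOf (S : Subgroup G) : Set ↥(S : Subgroup G)) :=
      normalizerCondition_of_isNilpotent (T.subgroupOf (S : Subgroup G)) (lt_top_iff_ne_top.2 fun h' =>
        hTeq (le_antisymm hTS (Subgroup.subgroupOf_eq_top.1 h')))
    obtain ⟨s, hs, hsT⟩ := SetLike.exists_of_lt h1
    exact ⟨s, CfsgLib.JComp.mem_normalizer_of_le fun t ht => (Subgroup.mem_normalizer_iff.1 hs ⟨t, hTS ht⟩).1 ht,
      hsT, s.2⟩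
  obtain ⟨y, hy, hy1⟩ : ∃ y ∈ CfsgLib.JComp.centPart T K, y ≠ 1 := by
    haveI : Nontrivial (CfsgLib.JComp.centPart T K) := Finite.one_lt_card_iff_nontrivial.1 (by omega)
    obtain ⟨⟨y, hy⟩, hy1⟩ := exists_ne (1 : CfsgLib.JComp.centPart T K)
    exact ⟨y, hy, fun h => hy1 (Subtype.ext h)⟩
  have hyZ : y ∈ Z₀ := hZ₀ ▸ hy.1
  obtain ⟨hyloc, hKy, hJy⟩ := P.local_of_centPart O.comp hy hy1
  have hCy : Subgroup.centralizer ({y} : Set G) ≤ L := hLeq ▸ P.local_le_maxLocal O hyloc hKy hJy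
  have hsy : Cfsg.IsSylowTwoIn T L := hLeq ▸ Q.fst.overgroup.1
  have hsmall : ∀ X : Subgroup G, IsPGroup 2 X → X ≤ L → Nat.card X ≤ Nat.card T := by
    intro X hX hXL
    obtain ⟨h, -, hle⟩ := CfsgLib.Transfer.exists_conj_le_of_not_dvd_relIndex hsy.1 hsy.2.1
      (fun h => Nat.not_even_iff_odd.2 hsy.2.2 (even_iff_two_dvd.2 h)) hXL hX
    exact (Subgroup.card_map_of_injective (MulAut.conj h).injective).ge.trans (Subgroup.card_le_of_le hle)
  have hlt : Nat.card T < Nat.card (S : Subgroup G) :=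
    lt_of_le_of_ne (Subgroup.card_le_of_le hTS) fun e => hTeq (Subgroup.eq_of_le_of_card_ge hTS e.ge)
  have hvS : ∀ s ∈ (S : Subgroup G), s * v = v * s := fun s hs =>
    CfsgLib.JComp.omegaCenterOf_comm (hZdef ▸ hvZ) hs
  -- `v` has no conjugate inside `C(y)`
  have hvy : ∀ n : G, n * v * n⁻¹ ≠ y := by
    intro n e
    have h := hsmall ((S : Subgroup G).map (MulAut.conj n).toMonoidHom) (S.2.map _) (by
      rintro _ ⟨s, hs, rfl⟩
      refine hCy (Subgroup.mem_centralizer_singleton_iff.2 ?_)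
      show n * s * n⁻¹ * y = y * (n * s * n⁻¹)
      rw [← e, show n * s * n⁻¹ * (n * v * n⁻¹) = n * (s * v) * n⁻¹ by group, hvS s hs]
      group)
    rw [Subgroup.card_map_of_injective (MulAut.conj n).injective] at h
    omega
  have hgy : g * y * g⁻¹ ≠ y := by
    intro e
    have hgL : g ∈ L := hCy (Subgroup.mem_centralizer_singleton_iff.2 (mul_inv_eq_iff_eq_mul.1 e))
    have h := hsmall (T ⊔ Subgroup.zpowers g) (S.2.to_le (sup_le hTS (Subgroup.zpowers_le.2 hgS)))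
      (sup_le hsy.1 (Subgroup.zpowers_le.2 hgL))
    have e' := Subgroup.eq_of_le_of_card_ge le_sup_left h
    exact hgT (e'.ge (Subgroup.mem_sup_right (Subgroup.mem_zpowers g)))
  have hgN : g ∈ Subgroup.normalizer (Z₀ : Set G) := by
    rw [hZ₀]
    exact CfsgLib.JComp.normalizer_le_normalizer_omegaCenterOf _
      (CfsgLib.Transfer.normalizer_le_normalizer_thompsonJ 2 T hg)
  have hgyZ : g * y * g⁻¹ ∈ Z₀ := (Subgroup.mem_normalizer_iff.1 hgN y).1 hyZ
  have hgv : g * v * g⁻¹ = v := by rw [hvS g hgS, mul_inv_cancel_right]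
  have hvy' : v ≠ g * y * g⁻¹ := fun e => hvy g⁻¹ (by rw [e]; group)
  -- the four elements
  have hall : ∀ x ∈ Z₀, x = 1 ∨ x = v ∨ x = y ∨ x = g * y * g⁻¹ := by
    intro x hx
    by_contra hne
    push Not at hne
    haveI := Fintype.ofFinite Z₀
    have hc : ({⟨x, hx⟩, 1, ⟨v, hZle hvZ⟩, ⟨y, hyZ⟩, ⟨g * y * g⁻¹, hgyZ⟩} : Finset Z₀).card ≤ Nat.card Z₀ := by
      rw [Nat.card_eq_fintype_card]; exact Finset.card_le_univ _
    rw [Finset.card_insert_of_notMem, Finset.card_insert_of_notMem, Finset.card_insert_of_notMem,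
      Finset.card_pair] at hc
    · omega
    · simp only [ne_eq, Subtype.ext_iff]; exact hgy.symm
    · simp only [Finset.mem_insert, Finset.mem_singleton, Subtype.ext_iff, not_or]
      exact ⟨fun e => hvy 1 (by simp [e]), hvy'⟩
    · simp only [Finset.mem_insert, Finset.mem_singleton, Subtype.ext_iff, OneMemClass.coe_one, not_or]
      exact ⟨Ne.symm hv1, Ne.symm hy1, fun e => hy1 (conj_eq_one_iff.1 e.symm)⟩
    · simp only [Finset.mem_insert, Finset.mem_singleton, Subtype.ext_iff, OneMemClass.coe_one, not_or]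
      exact ⟨hne.1, hne.2.1, hne.2.2.1, hne.2.2.2⟩
  have hfix : ∀ n ∈ Subgroup.normalizer (Z₀ : Set G), n * v * n⁻¹ = v := by
    intro n hn
    rcases hall _ ((Subgroup.mem_normalizer_iff.1 hn v).1 (hZle hvZ)) with h | h | h | h
    · exact absurd (conj_eq_one_iff.1 h) hv1
    · exact h
    · exact absurd h (hvy n)
    · refine absurd ?_ (hvy (g⁻¹ * n))
      rw [show g⁻¹ * n * v * (g⁻¹ * n)⁻¹ = g⁻¹ * (n * v * n⁻¹) * g by group, h]
      group
  have hcent : ∀ n : G, n * y * n⁻¹ = y → n * v * n⁻¹ = v → n ∈ L ⊓ Subgroup.centralizer (Z₀ : Set G) := by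
    intro n hny hnv
    have hny' : Commute n y := mul_inv_eq_iff_eq_mul.1 hny
    refine Subgroup.mem_inf.2 ⟨hCy (Subgroup.mem_centralizer_singleton_iff.2 hny'.eq), Subgroup.mem_centralizer_iff.2 ?_⟩
    have hnv' : Commute n v := mul_inv_eq_iff_eq_mul.1 hnv
    have hgy' : g * y * g⁻¹ = v * y := by
      rcases hall (v * y) (mul_mem (hZle hvZ) hyZ) with h | h | h | h
      · exact absurd (mul_eq_one_iff_eq_inv.1 h) (fun e => hvy 1 (by
          rw [e, ← mul_eq_one_iff_eq_inv.1 (CfsgLib.JComp.omegaCenterOf_sq hy.1)]; simp))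
      · exact absurd (mul_eq_left.1 h) hy1
      · exact absurd (mul_eq_right.1 h) hv1
      · exact h.symm
    intro x hx
    rcases hall x hx with rfl | rfl | rfl | rfl
    · simp
    · exact hnv'.eq.symm
    · exact hny'.eq.symm
    · rw [hgy']; exact (hnv'.mul_right hny').eq.symm
  rw [Subgroup.relIndex_eq_two_iff_exists_notMem_and']
  refine ⟨g, hgN, fun h => hgy ?_, fun n hn => ?_⟩
  · rw [← Subgroup.mem_centralizer_iff.1 h.2 y hyZ, mul_inv_cancel_right]
  rcases hall _ ((Subgroup.mem_normalizer_iff.1 hn y).1 hyZ) with h | h | h | h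
  · exact absurd (conj_eq_one_iff.1 h) hy1
  · exact absurd (show n⁻¹ * v * n⁻¹⁻¹ = y by rw [← h]; group) (hvy n⁻¹)
  · exact Or.inr (hcent n h (hfix n hn))
  · refine Or.inl (hcent _ ?_ ?_)
    · rw [show g * n * y * (g * n)⁻¹ = g * (n * y * n⁻¹) * g⁻¹ by group, h]
      rcases hall _ ((Subgroup.mem_normalizer_iff.1 hgN _).1 hgyZ) with e | e | e | e
      · exact absurd (conj_eq_one_iff.1 e) fun e' => hy1 (conj_eq_one_iff.1 e')
      · exact absurd (show (g * g)⁻¹ * v * (g * g)⁻¹⁻¹ = y by rw [← e]; group) (hvy _)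
      · exact e
      · exact absurd (mul_left_cancel (mul_right_cancel e)) hgy
    · rw [show g * n * v * (g * n)⁻¹ = g * (n * v * n⁻¹) * g⁻¹ by group, hfix n hn, hgv]

end Cfsg.Agent.S2951
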