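import Cfsg.Statements.S2953
import Cfsg.Agent.Lib.JComp.Embedded
import Cfsg.Agent.S2949

set_option autoImplicit false
open Cfsg

namespace Cfsg.Agent.S2953

/-- Let G be a finite group of characteristic 2 type in which every 2-local subgroup is solvable and the centralizer of Ω₁(Z(S)) lies in N_G(S) for every Sylow 2-subgroup S; suppose O₂(G) = 1, fix a Sylow 2-subgroup S and a 2-local subgroup M containing N_G(J(S)) (J the Thompson subgroup generated by the elementary abelian 2-subgroups of largest order). Let T be maximal (for the order of a largest elementary abelian subgroup, then the order of J(T), then the order of T) among the nontrivial 2-subgroups of M lying in a 2-local subgroup not inside M. Then there are two distinct J(T)-components K₁, K₂ such that, with Pᵢ = ⟨Kᵢ, T⟩: C_G(O₂(Pᵢ)) ≤ O₂(Pᵢ), T is a Sylow 2-subgroup of Pᵢ, O₂(Pᵢ)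 has index 6 in Pᵢ with Pᵢ/O₂(Pᵢ) non-abelian, [Ω₁(Z(T)), Pᵢ] ≠ 1, O₂(⟨P₁, P₂⟩) = 1, and each Pᵢ lies in exactly one maximal 2-local subgroup Lᵢ of G, in which T is a Sylow 2-subgroup. -/
theorem result {G : Type*} [Group G] [Finite G] (hL : Cfsg.IsCharacteristicTwoType G) (hN : ∀ N : Subgroup G, Cfsg.IsTwoLocal N → Group.IsSolvable ↥N)
    (hZ : ∀ S : Sylow 2 G, Subgroup.centralizer (Cfsg.omegaCenterOf (S : Subgroup G) : Set G) ≤ Subgroup.normalizer ((S : Subgroup G) : Set G)) (hO : Cfsg.pCore 2 G = ⊥) (S : Sylow 2 G) (M : Subgroup G) (hM : Cfsg.IsTwoLocal M)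
    (hMJ : Subgroup.normalizer (Cfsg.thompsonSubgroupOf 2 (S : Subgroup G) : Set G) ≤ M) (T : Subgroup G) (hT : T ∈ Cfsg.maxStraddlingTwoSubgroups M) :
    ∃ K₁ K₂ : Subgroup G, K₁ ≠ K₂ ∧ Cfsg.IsJComponent T K₁ ∧ Cfsg.IsJComponent T K₂ ∧
      Cfsg.pCoreOf 2 ((K₁ ⊔ T) ⊔ (K₂ ⊔ T)) = ⊥ ∧
      ∀ P ∈ [K₁ ⊔ T, K₂ ⊔ T],
        Subgroup.centralizer (Cfsg.pCoreOf 2 P : Set G) ≤ Cfsg.pCoreOf 2 P ∧ Cfsg.IsSylowTwoIn T P ∧
        (Cfsg.pCoreOf 2 P).relIndex P = 6 ∧ ¬ ⁅P, P⁆ ≤ Cfsg.pCoreOf 2 P ∧ ⁅Cfsg.omegaCenterOf T, P⁆ ≠ ⊥ ∧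
        ∃ L : Subgroup G, Cfsg.IsMaximalTwoLocal L ∧ P ≤ L ∧ Cfsg.IsSylowTwoIn T L ∧
          ∀ L' : Subgroup G, Cfsg.IsMaximalTwoLocal L' → P ≤ L' → L' = L := by
  haveI : Fact (Nat.Prime 2) := ⟨Nat.prime_two⟩
  have hMJ' := hMJ
  rw [CfsgLib.Transfer.thompsonSubgroupOf_eq] at hMJ'
  have P : CfsgLib.JComp.MaxStrad M T := ⟨⟨hL, hN, hZ⟩, ⟨S, hMJ'⟩, hT⟩
  obtain ⟨K, hK⟩ := Cfsg.Agent.S2949.result hL hN hZ hO S M hM hMJ T hT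
  have O : CfsgLib.JComp.Out M T K := ⟨hK.1.1, hK.2.1⟩
  obtain ⟨M', K', Q⟩ := P.exists_pair O (P.T_le_maxLocal O hK.2.2) hO
  have key : ∀ {M₁ K₁ M₂ K₂ : Subgroup G}, CfsgLib.JComp.Pair M₁ T K₁ M₂ K₂ →
      Subgroup.centralizer (Cfsg.pCoreOf 2 (K₁ ⊔ T) : Set G) ≤ Cfsg.pCoreOf 2 (K₁ ⊔ T) ∧
        Cfsg.IsSylowTwoIn T (K₁ ⊔ T) ∧ (Cfsg.pCoreOf 2 (K₁ ⊔ T)).relIndex (K₁ ⊔ T) = 6 ∧
        ¬ ⁅K₁ ⊔ T, K₁ ⊔ T⁆ ≤ Cfsg.pCoreOf 2 (K₁ ⊔ T) ∧ ⁅Cfsg.omegaCenterOf T, K₁ ⊔ T⁆ ≠ ⊥ ∧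
        ∃ L : Subgroup G, Cfsg.IsMaximalTwoLocal L ∧ K₁ ⊔ T ≤ L ∧ Cfsg.IsSylowTwoIn T L ∧
          ∀ L' : Subgroup G, Cfsg.IsMaximalTwoLocal L' → K₁ ⊔ T ≤ L' → L' = L := by
    intro M₁ K₁ M₂ K₂ R
    have F := R.fst.facts
    refine ⟨F.cent, F.sylow, F.index, F.nonab, fun h => F.active ?_, _, R.fst.P.maxLocal_isMaximal R.fst.O,
      R.fst.sup_le_maxLocal, R.fst.overgroup.1, fun L' hL' hle => ?_⟩
    · exact Subgroup.le_centralizer_iff.1 (Subgroup.commutator_eq_bot_iff_le_centralizer.1 h)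
    · exact (hL'.2 _ (R.fst.P.maxLocal_isTwoLocal R.fst.O) (R.fst.P.local_le_maxLocal R.fst.O hL'.1
        (le_sup_left.trans hle) ((CfsgLib.Transfer.thompsonJ_le 2 T).trans (le_sup_right.trans hle)))).symm
  refine ⟨K, K', fun e => Q.out (e ▸ P.K_le_maxLocal O), O.comp, Q.snd.O.comp, Q.core_eq_bot, ?_⟩
  intro X hX
  simp only [List.mem_cons, List.not_mem_nil, or_false] at hX
  rcases hX with rfl | rfl
  · exact key Q
  · exact key Q.symm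

end Cfsg.Agent.S2953
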