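import Mathlib
import Cfsg.Statements.S2955
import Cfsg.Agent.Lib.SylowControl.Basic

set_option autoImplicit false
set_option linter.style.haveILetI false
set_option linter.unusedVariables false
open Cfsg

namespace Cfsg.Agent.S2955

/-- Let p be a prime dividing the order of the finite group G and 𝓕 a conjugation-closed family of subgroups that controls Sylow p-intersections in G. Suppose the Sylow p-subgroups of G are chain-connected: any two of them are joined by a chain of Sylow p-subgroups, consecutive ones distinct with nontrivial intersection, all containing the intersection of the two ends (equivalently, the graph on the Sylow p-subgroups whose edges are the distinct pairs meeting nontrivially is connected). Then for every Sylow p-subgroup S, G is generated by N_G(S) together with the members of 𝓕 that meet S in a Sylow p-subgroup of themselves. -/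
theorem result {G : Type*} [Group G] [Finite G] (p : ℕ) [Fact p.Prime] (hdiv : p ∣ Nat.card G)
    (𝓕 : Set (Subgroup G)) (h𝓕 : Cfsg.IsNormalSet 𝓕) (hc : Cfsg.ControlsSylowIntersections p 𝓕)
    (hconn : Cfsg.IsSylowChainConnected p G) (S : Sylow p G) :
    (⨆ X ∈ Cfsg.sylowMembers p 𝓕 (S : Subgroup G), X) ⊔ Subgroup.normalizer ((S : Subgroup G) : Set G) = ⊤ := by
  set H := (⨆ X ∈ Cfsg.sylowMembers p 𝓕 (S : Subgroup G), X) ⊔ Subgroup.normalizer ((S : Subgroup G) : Set G) with hH
  let Ω : Set (Sylow p G) := {T | ∃ h ∈ H, (T : Subgroup G) = Cfsg.subgroupConjRight h (S : Subgroup G)}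
  have hmem : ∀ T ∈ Ω, ∀ X ∈ Cfsg.sylowMembers p 𝓕 (T : Subgroup G), X ≤ H := by
    rintro T ⟨h, hh, hT⟩ X hX
    have h1 := CfsgLib.SylowControl.mem_sylowMembers_conjSub h𝓕 hX h⁻¹
    rw [hT, CfsgLib.SylowControl.conjSub_conjSub, mul_inv_cancel, CfsgLib.SylowControl.conjSub_one] at h1
    intro x hx
    have h2 : h * x * h⁻¹ ∈ H := Subgroup.mem_sup_left (Subgroup.mem_iSup_of_mem _ (Subgroup.mem_iSup_of_mem h1 (by
      rw [CfsgLib.SylowControl.mem_conjSub]; simpa [mul_assoc] using hx)))
    simpa [mul_assoc] using H.mul_mem (H.mul_mem (H.inv_mem hh) h2) hh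
  have hstep : ∀ T T' : Sylow p G, T ∈ Ω → T ≠ T' → (T : Subgroup G) ⊓ (T' : Subgroup G) ≠ ⊥ → T' ∈ Ω := by
    intro T T' hT hne hne1
    obtain ⟨n, c, X, x, h0, hl, hi⟩ := hc T T' hne hne1
    have : ∀ k : Fin (n + 1), c k ∈ Ω := by
      intro k
      induction k using Fin.induction with
      | zero => rw [h0]; exact hT
      | succ i ih =>
        obtain ⟨hX1, hX2, hx, hconj, -⟩ := hi i
        have hxH : x i ∈ H := hmem _ ih _ hX1 hx
        obtain ⟨h, hh, hh2⟩ := ih
        refine ⟨h * (x i)⁻¹, H.mul_mem hh (H.inv_mem hxH), ?_⟩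
        rw [← CfsgLib.SylowControl.conjSub_conjSub, ← hh2, ← hconj, CfsgLib.SylowControl.conjSub_conjSub, mul_inv_cancel, CfsgLib.SylowControl.conjSub_one]
    exact hl ▸ this _
  have hall : ∀ T : Sylow p G, T ∈ Ω := by
    intro T
    obtain ⟨n, c, h0, hl, -, hi⟩ := hconn S T
    have : ∀ k : Fin (n + 1), c k ∈ Ω := by
      intro k
      induction k using Fin.induction with
      | zero => rw [h0]; exact ⟨1, H.one_mem, (CfsgLib.SylowControl.conjSub_one _).symm⟩
      | succ i ih => exact hstep _ _ ih (hi i).1 (hi i).2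
    exact hl ▸ this _
  rw [eq_top_iff]
  intro g _
  obtain ⟨T, hT⟩ := CfsgLib.SylowControl.exists_sylow_conjSub g S
  obtain ⟨h, hh, hh2⟩ := hall T
  have hN : g * h⁻¹ ∈ Subgroup.normalizer ((S : Subgroup G) : Set G) := by
    rw [← CfsgLib.SylowControl.conjSub_eq_self_iff, ← CfsgLib.SylowControl.conjSub_conjSub, ← hT, hh2, CfsgLib.SylowControl.conjSub_conjSub, mul_inv_cancel, CfsgLib.SylowControl.conjSub_one]
  simpa using H.mul_mem (Subgroup.mem_sup_right hN) hh

end Cfsg.Agent.S2955
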