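import Cfsg.Statements.S2956
import Cfsg.Agent.Lib.Fusion.Alperin

set_option autoImplicit false
open Cfsg
open scoped Pointwise
set_option linter.style.haveILetI false

namespace Cfsg.Agent.S2956

section
variable {G : Type*} [Group G] [Finite G] {p : ℕ} [Fact p.Prime]

/-- One link: a member of the family linking two Sylow subgroups over `D`. -/
def Link (p : ℕ) (𝓖 : Set (Subgroup G)) (D : Subgroup G) (A B : Sylow p G) : Prop :=
  ∃ X : Subgroup G, X ∈ sylowMembers p 𝓖 (A : Subgroup G) ∧ X ∈ sylowMembers p 𝓖 (B : Subgroup G) ∧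
    ∃ x ∈ X, subgroupConjRight x (B : Subgroup G) = (A : Subgroup G) ∧ D ≤ (B : Subgroup G) ⊓ X

theorem mem_members {𝓖 : Set (Subgroup G)} {X : Subgroup G} (hX : X ∈ 𝓖) (A : Sylow p X) (C : Sylow p G)
    (hAC : (A : Subgroup X).map X.subtype ≤ C) : X ∈ sylowMembers p 𝓖 (C : Subgroup G) := by
  refine ⟨hX, A, ?_⟩
  have h : (C : Subgroup G).subgroupOf X = (A : Subgroup X) :=
    A.3 (C.2.comap_of_injective X.subtype X.subtype_injective) fun x hx => hAC ⟨x, hx, rfl⟩
  rw [← h, Subgroup.subgroupOf_map_subtype]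

theorem exists_sylow_over {M D : Subgroup G} (hD : IsPGroup p D) (hDM : D ≤ M) :
    ∃ A : Sylow p M, D ≤ (A : Subgroup M).map M.subtype := by
  obtain ⟨A, hA⟩ := (hD.comap_of_injective M.subtype M.subtype_injective).exists_le_sylow
  exact ⟨A, fun x hx => ⟨⟨x, hDM hx⟩, hA hx, rfl⟩⟩

theorem card_map {M : Subgroup G} (A : Subgroup M) : Nat.card ↥(A.map M.subtype) = Nat.card A :=
  Subgroup.card_map_of_injective M.subtype_injective

theorem card_lt {H K : Subgroup G} (h : H < K) : Nat.card H < Nat.card K :=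
  lt_of_not_ge fun hge => h.ne (Subgroup.eq_of_le_of_card_ge h.le hge)

theorem exists_maximalPLocal {N : Subgroup G} (hN : IsPLocal p N) :
    ∃ M : Subgroup G, IsMaximalPLocal p M ∧ N ≤ M := by
  obtain ⟨M, hNM, hM⟩ := (Set.toFinite {M : Subgroup G | IsPLocal p M}).exists_le_maximal hN
  exact ⟨M, ⟨hM.1, fun L hL hML => le_antisymm (hM.2 hL hML) hML⟩, hNM⟩

theorem chain_main (f : Subgroup G → Set (Subgroup G)) (hf : IsNormalizerFunctor p f)
    (hf1 : ∀ P : Subgroup G, IsPGroup p ↥P → P ≠ ⊥ → ∀ F ∈ f P, F ≠ ⊥) {𝓖 : Set (Subgroup G)}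
    (h₁ : functorFamily p f ⊤ ⊆ 𝓖) (h₂ : {M | IsMaximalPLocal p M ∧ ¬ IsFunctorRegular p f M} ⊆ 𝓖) :
    ∀ (k : ℕ) (D : Subgroup G) (S T : Sylow p G), Nat.card G - Nat.card D = k → D ≠ ⊥ →
      D ≤ S → D ≤ T → Relation.ReflTransGen (Link p 𝓖 D) S T := by
  intro k
  induction k using Nat.strong_induction_on with
  | _ k ih =>
  intro D S T hk hD hDS hDT
  have hDp : IsPGroup p D := S.2.to_le hDS
  -- chains over a larger subgroup
  have hbig : ∀ (E : Subgroup G), D ≤ E → Nat.card D < Nat.card E → ∀ U V : Sylow p G, E ≤ U → E ≤ V →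
      Relation.ReflTransGen (Link p 𝓖 D) U V := by
    intro E hDE hlt U V hEU hEV
    have hE : E ≠ ⊥ := fun h => hD (le_bot_iff.mp (h ▸ hDE))
    have hle := Subgroup.card_le_card_group E
    refine Relation.ReflTransGen.mono ?_ _ _ (ih (Nat.card G - Nat.card E) (by omega) E U V rfl hE hEU hEV)
    rintro A B ⟨X, hA, hB, x, hx, he, hD'⟩
    exact ⟨X, hA, hB, x, hx, he, hDE.trans hD'⟩
  -- inside a maximal p-local subgroup
  have hQ : ∀ (l : ℕ) (M : Subgroup G), IsMaximalPLocal p M → ∀ A B : Sylow p M,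
      Nat.card G - Nat.card (A : Subgroup M) = l → D ≤ (A : Subgroup M).map M.subtype →
      D ≤ (B : Subgroup M).map M.subtype → Nat.card D < Nat.card (A : Subgroup M) →
      ∀ U V : Sylow p G, (A : Subgroup M).map M.subtype ≤ U → (B : Subgroup M).map M.subtype ≤ V →
      Relation.ReflTransGen (Link p 𝓖 D) U V := by
    intro l
    induction l using Nat.strong_induction_on with
    | _ l ihl =>
    intro M hM A B hl hDA hDB hlt U V hU hV
    have hcardS : ∀ C : Sylow p M, Nat.card (C : Subgroup M) = Nat.card (A : Subgroup M) := fun C => by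
      rw [C.card_eq_multiplicity, A.card_eq_multiplicity]
    have hlt' : ∀ C : Sylow p M, Nat.card D < Nat.card ↥((C : Subgroup M).map M.subtype) := fun C => by
      rw [card_map, hcardS C]; exact hlt
    by_cases hreg : IsFunctorRegular p f M
    · by_cases hAB : A = B
      · subst hAB
        exact hbig _ hDA (hlt' A) U V hU hV
      have hle : D.subgroupOf M ≤ (A : Subgroup M) ⊓ (B : Subgroup M) := by
        intro w hw
        obtain ⟨a, ha, hae⟩ := hDA hw
        obtain ⟨b, hb, hbe⟩ := hDB hw
        obtain rfl : a = w := Subtype.ext hae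
        obtain rfl : b = a := Subtype.ext hbe
        exact ⟨ha, hb⟩
      have hDM : D ≤ M := hDA.trans (Subgroup.map_subtype_le _)
      have hnb : (A : Subgroup M) ⊓ (B : Subgroup M) ≠ ⊥ := fun e =>
        hD ((Subgroup.subgroupOf_eq_bot.mp (le_bot_iff.mp (e ▸ hle))).eq_bot_of_le hDM)
      obtain ⟨n, c, X, x, hc0, hcn, hch⟩ := hreg A B hAB hnb
      have hDc : ∀ i : Fin (n + 1), D ≤ (c i : Subgroup M).map M.subtype := by
        intro i
        induction i using Fin.cases with
        | zero => rw [hc0]; exact hDA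
        | succ i => exact fun w hw => ⟨⟨w, hDM hw⟩, ((hch i).2.2.2.2 (hle hw)).1, rfl⟩
      suffices ∀ i : Fin (n + 1), ∀ R : Sylow p G, (c i : Subgroup M).map M.subtype ≤ R →
          Relation.ReflTransGen (Link p 𝓖 D) U R from this (Fin.last n) V (by rw [hcn]; exact hV)
      intro i
      induction i using Fin.induction with
      | zero => intro R hR; rw [hc0] at hR; exact hbig _ hDA (hlt' A) U R hU hR
      | succ i ihi =>
        intro R hR
        obtain ⟨R₀, hR₀⟩ := ((c i.castSucc).2.map M.subtype).exists_le_sylow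
        refine (ihi R₀ hR₀).trans ?_
        obtain ⟨⟨⟨_, ⟨P, F, hF, rfl⟩, hXi⟩, Q₁, hQ₁⟩, ⟨-, Q₂, hQ₂⟩, hx, hcj, -⟩ := hch i
        set Pm := (P : Subgroup M).map M.subtype with hPm
        have hPp : IsPGroup p Pm := P.2.map M.subtype
        have hfun := (hf Pm hPp).1 F hF
        have hPN : Pm ≤ M ⊓ Subgroup.normalizer (F : Set G) :=
          le_inf (Subgroup.map_subtype_le _) (Subgroup.le_normalizer.trans hfun.2)
        have hPXi : (P : Subgroup M) ≤ X i := by
          intro w hw
          rw [← hXi]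
          exact hPN (Subgroup.mem_map_of_mem _ hw)
        have hfullX : ∀ (C : Sylow p M) (Q : Sylow p ↥(X i)),
            (Q : Subgroup ↥(X i)).map (X i).subtype = (C : Subgroup M) ⊓ X i → (C : Subgroup M) ≤ X i := by
          intro C Q hQ
          have h1 : Nat.card ↥((C : Subgroup M) ⊓ X i) = Nat.card (C : Subgroup M) := by
            rw [← hQ, Subgroup.card_map_of_injective (X i).subtype_injective, Q.card_eq_multiplicity,
              ← (P.subtype hPXi).card_eq_multiplicity, Sylow.coe_subtype,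
              Nat.card_congr (Subgroup.subgroupOfEquivOfLe hPXi).toEquiv, P.card_eq_multiplicity,
              ← C.card_eq_multiplicity]
          exact inf_eq_left.mp (Subgroup.eq_of_le_of_card_ge inf_le_left h1.ge)
        have hN₀ : (c i.castSucc : Subgroup M).map M.subtype ≤ Subgroup.normalizer (F : Set G) := by
          rintro _ ⟨w, hw, rfl⟩
          have := hfullX _ Q₁ hQ₁ hw
          rw [← hXi] at this
          exact this.2
        have hN₁ : (c i.succ : Subgroup M).map M.subtype ≤ Subgroup.normalizer (F : Set G) := by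
          rintro _ ⟨w, hw, rfl⟩
          have := hfullX _ Q₂ hQ₂ hw
          rw [← hXi] at this
          exact this.2
        have hPne : Pm ≠ ⊥ := by
          intro h
          have h1 := hlt' P
          rw [← hPm, h, Subgroup.card_bot] at h1
          exact absurd h1 (not_lt.mpr Nat.card_pos)
        obtain ⟨P', hP'⟩ := hPp.exists_le_sylow
        by_cases hfull : Pm = (P' : Subgroup G)
        · -- the Sylow subgroups of `M` are Sylow in `G`
          have hfull' : ∀ C : Sylow p M, ∀ R' : Sylow p G, (C : Subgroup M).map M.subtype ≤ R' →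
              (C : Subgroup M).map M.subtype = R' := by
            intro C R' hR'
            refine Subgroup.eq_of_le_of_card_ge hR' (le_of_eq ?_)
            rw [R'.card_eq_multiplicity, ← P'.card_eq_multiplicity, ← hfull, hPm, card_map, card_map,
              hcardS C, hcardS P]
          have hXmem : (⊤ ⊓ Subgroup.normalizer (F : Set G) : Subgroup G) ∈ 𝓖 := h₁ ⟨P'.subtype le_top, F, by
            rw [Sylow.coe_subtype, Subgroup.map_subgroupOf_eq_of_le le_top, ← hfull]; exact hF, rfl⟩
          have hmem : ∀ C : Sylow p G, (C : Subgroup G) ≤ Subgroup.normalizer (F : Set G) →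
              (⊤ ⊓ Subgroup.normalizer (F : Set G) : Subgroup G) ∈ sylowMembers p 𝓖 (C : Subgroup G) :=
            fun C hC => mem_members hXmem (C.subtype (le_inf le_top hC)) C
              (by rw [Sylow.coe_subtype, Subgroup.map_subgroupOf_eq_of_le (le_inf le_top hC)])
          rw [← hXi] at hx
          refine Relation.ReflTransGen.single ⟨_, hmem R₀ (hfull' _ R₀ hR₀ ▸ hN₀),
            hmem R (hfull' _ R hR ▸ hN₁), (x i : G), ⟨Subgroup.mem_top _, hx.2⟩, ?_, ?_⟩
          · rw [← hfull' _ R₀ hR₀, ← hfull' _ R hR, ← hcj, subgroupConjRight, subgroupConjRight,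
              Subgroup.map_map, Subgroup.map_map]
            rfl
          · exact le_inf ((hDc i.succ).trans hR) (le_inf le_top ((hDc i.succ).trans hN₁))
        · -- move up to a maximal p-local subgroup over the normalizer of `F`
          obtain ⟨L, hL, hNL⟩ := exists_maximalPLocal (p := p) (N := Subgroup.normalizer (F : Set G))
            ⟨F, hPp.to_le hfun.1, hf1 Pm hPp hPne F hF, rfl⟩
          obtain ⟨A', hA'⟩ := exists_sylow_over ((c i.castSucc).2.map M.subtype) (hN₀.trans hNL)
          obtain ⟨B', hB'⟩ := exists_sylow_over ((c i.succ).2.map M.subtype) (hN₁.trans hNL)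
          have hgrow : Nat.card (A : Subgroup M) < Nat.card (A' : Subgroup L) := by
            have hlt2 := CfsgLib.Fusion.lt_inf_normalizer (p := p) P'.2 hP' hfull
            obtain ⟨Z, hZ⟩ := exists_sylow_over (M := L) (D := (P' : Subgroup G) ⊓ Subgroup.normalizer (Pm : Set G))
              (P'.2.to_le inf_le_left) ((inf_le_right.trans hfun.2).trans hNL)
            have h1 := card_lt hlt2
            have h2 := Subgroup.card_le_of_le hZ
            rw [card_map, Z.card_eq_multiplicity, ← A'.card_eq_multiplicity] at h2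
            have h3 := (card_map (P : Subgroup M)).trans (hcardS P)
            rw [← hPm] at h3
            omega
          obtain ⟨U', hU'⟩ := (A'.2.map L.subtype).exists_le_sylow
          obtain ⟨V', hV'⟩ := (B'.2.map L.subtype).exists_le_sylow
          have hAG := Subgroup.card_le_card_group ((A' : Subgroup L).map L.subtype)
          rw [card_map] at hAG
          exact (hbig _ (hDc i.castSucc) (hlt' _) R₀ U' hR₀ (hA'.trans hU')).trans
            ((ihl _ (by omega) L hL A' B' rfl ((hDc i.castSucc).trans hA') ((hDc i.succ).trans hB')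
              (by omega) U' V' hU' hV').trans
            (hbig _ (hDc i.succ) (hlt' _) V' R (hB'.trans hV') hR))
    · obtain ⟨m, rfl⟩ := MulAction.exists_smul_eq M A B
      have hmap : (((m • A : Sylow p M)) : Subgroup M).map M.subtype ≤ ((m : G) • U : Sylow p G) := by
        rintro _ ⟨_, ⟨w, hw, rfl⟩, rfl⟩
        exact ⟨w, hU ⟨w, hw, rfl⟩, rfl⟩
      refine (Relation.ReflTransGen.single (b := (m : G) • U) ⟨M, mem_members (h₂ ⟨hM, hreg⟩) A U hU,
        mem_members (h₂ ⟨hM, hreg⟩) _ _ hmap, (m : G), m.2, ?_, ?_⟩).trans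
        (hbig _ hDB (hlt' _) _ V hmap hV)
      · rw [subgroupConjRight, show (((m : G) • U : Sylow p G) : Subgroup G) =
          (U : Subgroup G).map (MulAut.conj (m : G)).toMonoidHom from rfl, Subgroup.map_map]
        conv_rhs => rw [← Subgroup.map_id (U : Subgroup G)]
        refine congrArg (fun φ => Subgroup.map φ _) ?_
        ext w
        simp [mul_assoc]
      · exact le_inf (hDB.trans hmap) (hDB.trans (Subgroup.map_subtype_le _))
  rcases eq_or_ne D (S : Subgroup G) with hDeq | hDne
  · have hST : S = T := Sylow.ext (S.3 T.2 (hDeq ▸ hDT)).symm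
    rw [hST]
  rcases eq_or_ne D (T : Subgroup G) with hDeq | hDne'
  · have hST : S = T := Sylow.ext (T.3 S.2 (hDeq ▸ hDS))
    rw [hST]
  obtain ⟨M, hM, hNM⟩ := exists_maximalPLocal (p := p) (N := Subgroup.normalizer (D : Set G)) ⟨D, hDp, hD, rfl⟩
  have hlS := CfsgLib.Fusion.lt_inf_normalizer (p := p) S.2 hDS hDne
  have hlT := CfsgLib.Fusion.lt_inf_normalizer (p := p) T.2 hDT hDne'
  have hcS := card_lt hlS
  have hcT := card_lt hlT
  obtain ⟨A, hA⟩ := exists_sylow_over (S.2.to_le (inf_le_left : (S : Subgroup G) ⊓ Subgroup.normalizer (D : Set G) ≤ S))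
    (inf_le_right.trans hNM)
  obtain ⟨B, hB⟩ := exists_sylow_over (T.2.to_le (inf_le_left : (T : Subgroup G) ⊓ Subgroup.normalizer (D : Set G) ≤ T))
    (inf_le_right.trans hNM)
  obtain ⟨U, hU⟩ := (A.2.map M.subtype).exists_le_sylow
  obtain ⟨V, hV⟩ := (B.2.map M.subtype).exists_le_sylow
  have hAc := Subgroup.card_le_of_le hA
  rw [card_map] at hAc
  exact (hbig _ hlS.le hcS S U inf_le_left (hA.trans hU)).trans
    ((hQ _ M hM A B rfl (hlS.le.trans hA) (hlT.le.trans hB) (by omega) U V hU hV).trans
      (hbig _ hlT.le hcT V T (hB.trans hV) inf_le_left))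

end


/-- Let p be a prime dividing the order of the finite group G, and f an assignment to every p-subgroup P of a set f(P) of subgroups of P, each normalized by N_G(P), compatible with conjugation, such that for P ≠ 1 the members of f(P) are nontrivial. Let 𝓕 be the family of the normalizers N_G(F) of the members F of f(S) over the Sylow p-subgroups S of G, and 𝓕' the family of the maximal p-local subgroups M of G that are singular for f (the corresponding family of normalizers inside M does not control Sylow p-intersections in M). Then 𝓕 ∪ 𝓕' controls Sylow p-intersections in G. -/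
theorem result {G : Type*} [Group G] [Finite G] (p : ℕ) [Fact p.Prime] (hdiv : p ∣ Nat.card G)
    (f : Subgroup G → Set (Subgroup G)) (hf : Cfsg.IsNormalizerFunctor p f)
    (hf1 : ∀ P : Subgroup G, IsPGroup p ↥P → P ≠ ⊥ → ∀ F ∈ f P, F ≠ ⊥)
    (𝓕 𝓕' : Set (Subgroup G)) (h𝓕 : 𝓕 = Cfsg.functorFamily p f ⊤)
    (h𝓕' : 𝓕' = {M | Cfsg.IsMaximalPLocal p M ∧ ¬ Cfsg.IsFunctorRegular p f M}) :
    Cfsg.ControlsSylowIntersections p (𝓕 ∪ 𝓕') := by
  intro S T hne hD
  have h := chain_main (𝓖 := 𝓕 ∪ 𝓕') f hf hf1 (h𝓕 ▸ Set.subset_union_left) (h𝓕' ▸ Set.subset_union_right)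
    _ ((S : Subgroup G) ⊓ T) S T rfl hD inf_le_left inf_le_right
  suffices ∃ (n : ℕ) (c : Fin (n + 1) → Sylow p G), c 0 = S ∧ c (Fin.last n) = T ∧
      ∀ i : Fin n, Link p (𝓕 ∪ 𝓕') ((S : Subgroup G) ⊓ T) (c i.castSucc) (c i.succ) by
    obtain ⟨n, c, h0, hn, hs⟩ := this
    choose X hA hB x hx hcj hle using hs
    exact ⟨n, c, X, x, h0, hn, fun i => ⟨hA i, hB i, hx i, hcj i, hle i⟩⟩
  clear hD hne
  generalize ((S : Subgroup G) ⊓ T) = D at h ⊢
  induction h with
  | refl => exact ⟨0, fun _ => S, rfl, rfl, fun i => i.elim0⟩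
  | @tail A B _ hst ih =>
    obtain ⟨n, c, h0, hn, hs⟩ := ih
    refine ⟨n + 1, Fin.snoc c B, ?_, Fin.snoc_last _ _, fun i => ?_⟩
    · rw [← Fin.castSucc_zero, Fin.snoc_castSucc, h0]
    · induction i using Fin.lastCases with
      | last => rw [Fin.succ_last, Fin.snoc_last, Fin.snoc_castSucc, hn]; exact hst
      | cast i => rw [Fin.succ_castSucc, Fin.snoc_castSucc, Fin.snoc_castSucc]; exact hs i

end Cfsg.Agent.S2956
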