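import Cfsg.Statements.S2957
-- import your own Cfsg.Agent.* helpers here

set_option autoImplicit false
open Cfsg

namespace Cfsg.Agent.S2957


section
variable {G : Type*} [Group G] [Finite G] {p : ℕ} [Fact p.Prime]

/-- One link of a chain of Sylow subgroups through normalizers of the values of `f`. -/
def Step (f : Subgroup G → Set (Subgroup G)) (D : Subgroup G) (A B : Sylow p G) : Prop :=
  ∃ P : Sylow p G, ∃ F ∈ f (P : Subgroup G), ∃ x ∈ Subgroup.normalizer (F : Set G),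
    (A : Subgroup G) ≤ Subgroup.normalizer (F : Set G) ∧ (B : Subgroup G) ≤ Subgroup.normalizer (F : Set G) ∧
    subgroupConjRight x (B : Subgroup G) = (A : Subgroup G) ∧ D ≤ (B : Subgroup G)

theorem card_map_sylow {S : Sylow p G} {M : Subgroup G} (hSM : (S : Subgroup G) ≤ M) (Q : Sylow p M) :
    Nat.card ↥((Q : Subgroup M).map M.subtype) = p ^ (Nat.card G).factorization p := by
  rw [Subgroup.card_map_of_injective M.subtype_injective, Q.card_eq_multiplicity,
    ← (S.subtype hSM).card_eq_multiplicity, Sylow.coe_subtype,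
    Nat.card_congr (Subgroup.subgroupOfEquivOfLe hSM).toEquiv, S.card_eq_multiplicity]

/-- A Sylow subgroup of a subgroup of index prime to `p`, as a Sylow subgroup of the group. -/
def up {S : Sylow p G} {M : Subgroup G} (hSM : (S : Subgroup G) ≤ M) (Q : Sylow p M) : Sylow p G :=
  Sylow.ofCard ((Q : Subgroup M).map M.subtype) (card_map_sylow hSM Q)

theorem coe_up {S : Sylow p G} {M : Subgroup G} (hSM : (S : Subgroup G) ≤ M) (Q : Sylow p M) :
    (up hSM Q : Subgroup G) = (Q : Subgroup M).map M.subtype := rfl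

theorem up_subtype {S A : Sylow p G} {M : Subgroup G} (hSM : (S : Subgroup G) ≤ M)
    (hA : (A : Subgroup G) ≤ M) : up hSM (A.subtype hA) = A :=
  Sylow.ext (Subgroup.map_subgroupOf_eq_of_le hA)

theorem regular_chain {f : Subgroup G → Set (Subgroup G)} (hf : IsNormalizerFunctor p f) {S A B : Sylow p G} {M D : Subgroup G}
    (hSM : (S : Subgroup G) ≤ M) (hr : IsFunctorRegular p f M) (hA : (A : Subgroup G) ≤ M)
    (hB : (B : Subgroup G) ≤ M) (hDA : D ≤ A) (hDB : D ≤ B) (hD : D ≠ ⊥) :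
    Relation.ReflTransGen (Step f D) A B := by
  by_cases hAB : A = B
  · rw [hAB]
  have hne : A.subtype hA ≠ B.subtype hB := fun e => hAB (Sylow.subtype_injective e)
  have hle : D.subgroupOf M ≤ (A.subtype hA : Subgroup M) ⊓ (B.subtype hB : Subgroup M) :=
    fun w hw => ⟨hDA hw, hDB hw⟩
  have hnb : (A.subtype hA : Subgroup M) ⊓ (B.subtype hB : Subgroup M) ≠ ⊥ := fun e =>
    hD ((Subgroup.subgroupOf_eq_bot.mp (le_bot_iff.mp (e ▸ hle))).eq_bot_of_le (hDA.trans hA))
  obtain ⟨n, c, X, x, hc0, hcn, hch⟩ := hr _ _ hne hnb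
  suffices ∀ i : Fin (n + 1), Relation.ReflTransGen (Step f D) A (up hSM (c i)) by
    have h := this (Fin.last n)
    rwa [hcn, up_subtype] at h
  intro i
  induction i using Fin.induction with
  | zero => rw [hc0, up_subtype]
  | succ i ih =>
    refine ih.tail ?_
    obtain ⟨⟨⟨_, ⟨P, F, hF, rfl⟩, hXi⟩, Q₁, hQ₁⟩, ⟨-, Q₂, hQ₂⟩, hx, hcj, hDi⟩ := hch i
    have hP : (P : Subgroup M).map M.subtype ≤ M ⊓ Subgroup.normalizer (F : Set G) →
        ∀ (C : Sylow p M) (Q : Sylow p ↥(X i)),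
        (Q : Subgroup ↥(X i)).map (X i).subtype = (C : Subgroup M) ⊓ X i → (C : Subgroup M) ≤ X i := by
      intro hPX C Q hQ
      have hPXi : (P : Subgroup M) ≤ X i := by
        intro w hw
        rw [← hXi]
        exact hPX (Subgroup.mem_map_of_mem _ hw)
      have h1 : Nat.card ↥((C : Subgroup M) ⊓ X i) = Nat.card (C : Subgroup M) := by
        rw [← hQ, Subgroup.card_map_of_injective (X i).subtype_injective, Q.card_eq_multiplicity,
          ← (P.subtype hPXi).card_eq_multiplicity, Sylow.coe_subtype,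
          Nat.card_congr (Subgroup.subgroupOfEquivOfLe hPXi).toEquiv, P.card_eq_multiplicity,
          ← C.card_eq_multiplicity]
      exact inf_eq_left.mp (Subgroup.eq_of_le_of_card_ge inf_le_left h1.ge)
    have hPN : (P : Subgroup M).map M.subtype ≤ M ⊓ Subgroup.normalizer (F : Set G) :=
      le_inf (Subgroup.map_subtype_le _)
        (Subgroup.le_normalizer.trans ((hf _ (P.2.map M.subtype)).1 F hF).2)
    have hle₁ := hP hPN _ Q₁ hQ₁
    have hle₂ := hP hPN _ Q₂ hQ₂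
    rw [← hXi] at hx hle₁ hle₂
    refine ⟨up hSM P, F, hF, (x i : G), hx.2, ?_, ?_, ?_, ?_⟩
    · rintro _ ⟨w, hw, rfl⟩; exact (hle₁ hw).2
    · rintro _ ⟨w, hw, rfl⟩; exact (hle₂ hw).2
    · rw [coe_up, coe_up, ← hcj, subgroupConjRight, subgroupConjRight, Subgroup.map_map, Subgroup.map_map]
      rfl
    · intro w hw
      exact ⟨⟨w, hDA.trans hA hw⟩, (hDi (hle hw)).1, rfl⟩

omit [Finite G] [Fact p.Prime] in
theorem step_conj {f : Subgroup G → Set (Subgroup G)} (hf : IsNormalizerFunctor p f) (g : G)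
    {D : Subgroup G} {A B : Sylow p G} (h : Step f D A B) :
    Step f (D.map (MulAut.conj g).toMonoidHom) (g • A) (g • B) := by
  obtain ⟨P, F, hF, x, hx, hA, hB, hcj, hD⟩ := h
  have hmap : ∀ C : Sylow p G, ((g • C : Sylow p G) : Subgroup G) = (C : Subgroup G).map (MulAut.conj g).toMonoidHom :=
    fun C => rfl
  have hN : Subgroup.normalizer ((F.map (MulAut.conj g).toMonoidHom : Subgroup G) : Set G) =
      (Subgroup.normalizer (F : Set G)).map (MulAut.conj g).toMonoidHom :=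
    (Subgroup.map_equiv_normalizer_eq F (MulAut.conj g)).symm
  refine ⟨g • P, F.map (MulAut.conj g).toMonoidHom, ?_, g * x * g⁻¹, ?_, ?_, ?_, ?_, ?_⟩
  · rw [hmap, (hf _ P.2).2 g]
    exact ⟨F, hF, rfl⟩
  · rw [hN]; exact ⟨x, hx, rfl⟩
  · rw [hN, hmap]; exact Subgroup.map_mono hA
  · rw [hN, hmap]; exact Subgroup.map_mono hB
  · rw [hmap, hmap, ← hcj, subgroupConjRight, subgroupConjRight, Subgroup.map_map, Subgroup.map_map]
    refine congrArg (fun φ => Subgroup.map φ _) ?_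
    ext w
    simp [mul_assoc]
  · rw [hmap]; exact Subgroup.map_mono hD

omit [Finite G] [Fact p.Prime] in
theorem chain_conj {f : Subgroup G → Set (Subgroup G)} (hf : IsNormalizerFunctor p f) (g : G)
    {D : Subgroup G} {A B : Sylow p G} (h : Relation.ReflTransGen (Step f D) A B) :
    Relation.ReflTransGen (Step f (D.map (MulAut.conj g).toMonoidHom)) (g • A) (g • B) :=
  h.lift (g • ·) fun _ _ h => step_conj hf g h

theorem chain_of_factorization {f : Subgroup G → Set (Subgroup G)} (hf : IsNormalizerFunctor p f)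
    (S : Sylow p G) {G₁ G₂ : Subgroup G} (h₁ : (S : Subgroup G) ≤ G₁) (h₂ : (S : Subgroup G) ≤ G₂)
    (hprod : ∀ g : G, ∃ g₁ ∈ G₁, ∃ g₂ ∈ G₂, g = g₁ * g₂)
    (hr₁ : IsFunctorRegular p f G₁) (hr₂ : IsFunctorRegular p f G₂)
    (T : Sylow p G) (D : Subgroup G) (hDS : D ≤ S) (hDT : D ≤ T) (hD : D ≠ ⊥) :
    Relation.ReflTransGen (Step f D) S T := by
  obtain ⟨g, rfl⟩ := MulAction.exists_smul_eq G S T
  obtain ⟨a, ha, b, hb, hab⟩ := hprod g
  set H := G₁ ⊓ G₂.map (MulAut.conj g).toMonoidHom with hH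
  have hgS : ((g • S : Sylow p G) : Subgroup G) ≤ G₂.map (MulAut.conj g).toMonoidHom :=
    Subgroup.map_mono h₂
  have haH : ((a • S : Sylow p G) : Subgroup G) ≤ H := by
    refine le_inf ?_ ?_
    · rintro _ ⟨w, hw, rfl⟩
      show a * w * a⁻¹ ∈ G₁
      exact mul_mem (mul_mem ha (h₁ hw)) (inv_mem ha)
    · rintro _ ⟨w, hw, rfl⟩
      refine ⟨b⁻¹ * w * b, mul_mem (mul_mem (inv_mem hb) (h₂ hw)) hb, ?_⟩
      show g * (b⁻¹ * w * b) * g⁻¹ = a * w * a⁻¹
      rw [hab]; group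
  have hDH : D ≤ H := le_inf (hDS.trans h₁) (hDT.trans hgS)
  obtain ⟨R, hR⟩ := ((S.2).to_le hDS |>.comap_of_injective H.subtype H.subtype_injective).exists_le_sylow
  have hDR : D ≤ (up haH R : Subgroup G) := fun w hw => ⟨⟨w, hDH hw⟩, hR hw, rfl⟩
  have hRH : (up haH R : Subgroup G) ≤ H := Subgroup.map_subtype_le _
  refine (regular_chain hf h₁ hr₁ h₁ (hRH.trans inf_le_left) hDS hDR hD).trans ?_
  set R' := g⁻¹ • up haH R with hR'
  have hR'2 : (R' : Subgroup G) ≤ G₂ := by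
    rintro _ ⟨w, hw, rfl⟩
    obtain ⟨v, hv, rfl⟩ := (hRH hw).2
    show g⁻¹ * (g * v * g⁻¹) * g⁻¹⁻¹ ∈ G₂
    simpa [mul_assoc] using hv
  have h := chain_conj hf g (regular_chain hf (D := D.map (MulAut.conj g⁻¹).toMonoidHom) h₂ hr₂ hR'2 h₂
    (Subgroup.map_mono hDR) ?_ ?_)
  · have e : (D.map (MulAut.conj g⁻¹).toMonoidHom).map (MulAut.conj g).toMonoidHom = D := by
      rw [Subgroup.map_map]
      conv_rhs => rw [← Subgroup.map_id D]
      refine congrArg (fun φ => Subgroup.map φ _) ?_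
      ext w
      simp [mul_assoc]
    rwa [e, hR', smul_inv_smul] at h
  · rintro _ ⟨w, hw, rfl⟩
    obtain ⟨v, hv, rfl⟩ := hDT hw
    show g⁻¹ * (g * v * g⁻¹) * g⁻¹⁻¹ ∈ (S : Subgroup G)
    rw [show g⁻¹ * (g * v * g⁻¹) * g⁻¹⁻¹ = v by group]
    exact hv
  · rwa [Ne, Subgroup.map_eq_bot_iff_of_injective _ (MulAut.conj g⁻¹).injective]

theorem chain_all {f : Subgroup G → Set (Subgroup G)} (hf : IsNormalizerFunctor p f)
    (S₀ : Sylow p G) {G₁ G₂ : Subgroup G} (h₁ : (S₀ : Subgroup G) ≤ G₁) (h₂ : (S₀ : Subgroup G) ≤ G₂)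
    (hprod : ∀ g : G, ∃ g₁ ∈ G₁, ∃ g₂ ∈ G₂, g = g₁ * g₂)
    (hr₁ : IsFunctorRegular p f G₁) (hr₂ : IsFunctorRegular p f G₂)
    (S T : Sylow p G) (hD : (S : Subgroup G) ⊓ T ≠ ⊥) :
    Relation.ReflTransGen (Step f ((S : Subgroup G) ⊓ T)) S T := by
  obtain ⟨k, rfl⟩ := MulAction.exists_smul_eq G S₀ S
  set D := ((k • S₀ : Sylow p G) : Subgroup G) ⊓ T with hDdef
  have h := chain_conj hf k (chain_of_factorization hf S₀ h₁ h₂ hprod hr₁ hr₂ (k⁻¹ • T)
    (D.map (MulAut.conj k⁻¹).toMonoidHom) ?_ (Subgroup.map_mono inf_le_right)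
    (by rwa [Ne, Subgroup.map_eq_bot_iff_of_injective _ (MulAut.conj k⁻¹).injective]))
  · have e : (D.map (MulAut.conj k⁻¹).toMonoidHom).map (MulAut.conj k).toMonoidHom = D := by
      rw [Subgroup.map_map]
      conv_rhs => rw [← Subgroup.map_id D]
      refine congrArg (fun φ => Subgroup.map φ _) ?_
      ext w
      simp [mul_assoc]
    rwa [e, smul_inv_smul] at h
  · rintro _ ⟨w, hw, rfl⟩
    obtain ⟨v, hv, rfl⟩ := hw.1
    show k⁻¹ * (k * v * k⁻¹) * k⁻¹⁻¹ ∈ (S₀ : Subgroup G)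
    rw [show k⁻¹ * (k * v * k⁻¹) * k⁻¹⁻¹ = v by group]
    exact hv

omit [Finite G] [Fact p.Prime] in
theorem exists_fin_chain {f : Subgroup G → Set (Subgroup G)} {D : Subgroup G} {S T : Sylow p G}
    (h : Relation.ReflTransGen (Step f D) S T) :
    ∃ (n : ℕ) (c : Fin (n + 1) → Sylow p G), c 0 = S ∧ c (Fin.last n) = T ∧
      ∀ i : Fin n, Step f D (c i.castSucc) (c i.succ) := by
  induction h with
  | refl => exact ⟨0, fun _ => S, rfl, rfl, fun i => i.elim0⟩
  | @tail A B _ hst ih =>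
    obtain ⟨n, c, h0, hn, hs⟩ := ih
    refine ⟨n + 1, Fin.snoc c B, ?_, Fin.snoc_last _ _, fun i => ?_⟩
    · rw [← Fin.castSucc_zero, Fin.snoc_castSucc, h0]
    · induction i using Fin.lastCases with
      | last => rw [Fin.succ_last, Fin.snoc_last, Fin.snoc_castSucc, hn]; exact hst
      | cast i => rw [Fin.succ_castSucc, Fin.snoc_castSucc, Fin.snoc_castSucc]; exact hs i

end

/-- Let p be a prime dividing the order of the finite group G, f an equivariant assignment of a set of subgroups f(P) of P to every p-subgroup P, each normalized by N_G(P), and S a Sylow p-subgroup. If G = G₁G₂ for subgroups G₁, G₂ both containing S and both regular for f (in each Gᵢ, the family of normalizers in Gᵢ of the members of f(P), P a Sylow p-subgroup of Gᵢ, controls Sylow p-intersections), then G itself is regular for f. -/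
theorem result {G : Type*} [Group G] [Finite G] (p : ℕ) [Fact p.Prime] (hdiv : p ∣ Nat.card G)
    (f : Subgroup G → Set (Subgroup G)) (hf : Cfsg.IsNormalizerFunctor p f) (S : Sylow p G)
    (G₁ G₂ : Subgroup G) (h₁ : (S : Subgroup G) ≤ G₁) (h₂ : (S : Subgroup G) ≤ G₂)
    (hprod : ∀ g : G, ∃ g₁ ∈ G₁, ∃ g₂ ∈ G₂, g = g₁ * g₂)
    (hr₁ : Cfsg.IsFunctorRegular p f G₁) (hr₂ : Cfsg.IsFunctorRegular p f G₂) :
    Cfsg.IsFunctorRegular p f ⊤ := by
  intro A B hne hAB
  have hT : (S : Subgroup G) ≤ ⊤ := le_top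
  set a := up hT A with ha
  set b := up hT B with hb
  have hD : (a : Subgroup G) ⊓ b ≠ ⊥ := by
    rw [coe_up, coe_up, ← Subgroup.map_inf _ _ _ (Subgroup.subtype_injective _)]
    exact fun e => hAB ((Subgroup.map_eq_bot_iff_of_injective _ (Subgroup.subtype_injective _)).mp e)
  obtain ⟨n, c, h0, hn, hs⟩ := exists_fin_chain (chain_all hf S h₁ h₂ hprod hr₁ hr₂ a b hD)
  choose P F hF x hx hA hB hcj hle using hs
  have hup : ∀ C : Sylow p ↥(⊤ : Subgroup G), (up hT C).subtype le_top = C := fun C =>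
    Sylow.ext (Subgroup.comap_map_eq_self_of_injective (Subgroup.subtype_injective _) _)
  refine ⟨n, fun i => (c i).subtype le_top,
    fun i => (⊤ ⊓ Subgroup.normalizer (F i : Set G)).subgroupOf ⊤,
    fun i => ⟨x i, Subgroup.mem_top _⟩, ?_, ?_, fun i => ?_⟩
  · show (c 0).subtype le_top = A
    simp only [h0]; exact hup A
  · show (c (Fin.last n)).subtype le_top = B
    simp only [hn]; exact hup B
  have hmem : (⊤ ⊓ Subgroup.normalizer (F i : Set G)).subgroupOf ⊤ ∈
      (fun X : Subgroup G => X.subgroupOf ⊤) '' functorFamily p f ⊤ :=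
    ⟨_, ⟨(P i).subtype le_top, F i, by
      rw [Sylow.coe_subtype, Subgroup.map_subgroupOf_eq_of_le le_top]; exact hF i, rfl⟩, rfl⟩
  have hSM : ∀ C : Sylow p G, (C : Subgroup G) ≤ Subgroup.normalizer (F i : Set G) →
      ∃ Q : Sylow p ↥((⊤ ⊓ Subgroup.normalizer (F i : Set G)).subgroupOf ⊤),
        (Q : Subgroup ↥((⊤ ⊓ Subgroup.normalizer (F i : Set G)).subgroupOf ⊤)).map (Subgroup.subtype _) =
          ((C.subtype le_top : Sylow p ↥(⊤ : Subgroup G)) : Subgroup ↥(⊤ : Subgroup G)) ⊓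
          (⊤ ⊓ Subgroup.normalizer (F i : Set G)).subgroupOf ⊤ := by
    intro C hC
    have hle : (C.subtype le_top : Subgroup ↥(⊤ : Subgroup G)) ≤
        (⊤ ⊓ Subgroup.normalizer (F i : Set G)).subgroupOf ⊤ := fun w hw => ⟨w.2, hC hw⟩
    exact ⟨(C.subtype le_top).subtype hle, by
      rw [Sylow.coe_subtype, Subgroup.map_subgroupOf_eq_of_le hle, inf_eq_left.mpr hle]⟩
  refine ⟨⟨hmem, hSM _ (hA i)⟩, ⟨hmem, hSM _ (hB i)⟩, ⟨Subgroup.mem_top _, hx i⟩, ?_, ?_⟩
  · refine Subgroup.map_injective (Subgroup.subtype_injective _) ?_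
    rw [subgroupConjRight, Subgroup.map_map, Sylow.coe_subtype, Sylow.coe_subtype,
      Subgroup.map_subgroupOf_eq_of_le le_top, ← hcj i, subgroupConjRight]
    conv_rhs => rw [← Subgroup.map_subgroupOf_eq_of_le (le_top : (c i.succ : Subgroup G) ≤ ⊤), Subgroup.map_map]
    rfl
  · intro w hw
    have : (w : G) ∈ (c i.succ : Subgroup G) := hle i ⟨⟨w, hw.1, rfl⟩, ⟨w, hw.2, rfl⟩⟩
    exact ⟨this, w.2, hB i this⟩

end Cfsg.Agent.S2957
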