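import Mathlib
import Cfsg.Statements.S2958
import Cfsg.Agent.Lib.Transfer.Sylow

set_option autoImplicit false
set_option linter.style.haveILetI false
set_option linter.unusedVariables false
open Cfsg

namespace Cfsg.Agent.S2958

/-- Let X, A, B be subgroups of a group G such that G is generated by the conjugates of X and every conjugate of X is contained in A or in B. Then A = G or B = G. -/
theorem result {G : Type*} [Group G] (X A B : Subgroup G) (hgen : (⨆ g : G, X.map (MulAut.conj g).toMonoidHom) = ⊤) (hcover : ∀ g : G, X.map (MulAut.conj g).toMonoidHom ≤ A ∨ X.map (MulAut.conj g).toMonoidHom ≤ B) : A = ⊤ ∨ B = ⊤ := by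
  classical
  by_contra hno
  push Not at hno
  obtain ⟨hA, hB⟩ := hno
  set Y : G → Subgroup G := fun g => X.map (MulAut.conj g).toMonoidHom with hY
  set U : Subgroup G := ⨆ (g : G) (_ : ¬ Y g ≤ B), Y g with hU
  have hUA : U ≤ A := iSup₂_le fun g hg => (hcover g).resolve_right hg
  obtain ⟨g₀, hg₀⟩ : ∃ g, ¬ Y g ≤ B := by
    by_contra hall
    push Not at hall
    exact hB (top_le_iff.mp (hgen.ge.trans (iSup_le hall)))
  have hkey : ∀ g u, u ∈ Y g → ∀ z ∈ U, u * z * u⁻¹ ∈ U := by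
    intro g u hu
    suffices hh : U ≤ U.comap (MulAut.conj u).toMonoidHom from fun z hz => hh hz
    refine iSup₂_le fun k hk z hz => ?_
    change u * z * u⁻¹ ∈ U
    by_cases hgB : Y g ≤ B
    · have hk' : ¬ Y (u * k) ≤ B := by
        intro hle
        apply hk
        intro w hw
        have h1 : u * w * u⁻¹ ∈ Y (u * k) := by
          rw [hY]; dsimp only; rw [← CfsgLib.Transfer.map_conj_mul]
          exact ⟨w, hw, rfl⟩
        have h2 := B.mul_mem (B.mul_mem (B.inv_mem (hgB hu)) (hle h1)) (hgB hu)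
        simpa [mul_assoc] using h2
      refine le_iSup₂ (f := fun g (_ : ¬ Y g ≤ B) => Y g) (u * k) hk' ?_
      rw [hY]; dsimp only; rw [← CfsgLib.Transfer.map_conj_mul]
      exact ⟨z, hz, rfl⟩
    · have huU : u ∈ U := le_iSup₂ (f := fun g (_ : ¬ Y g ≤ B) => Y g) g hgB hu
      have hzU : z ∈ U := le_iSup₂ (f := fun g (_ : ¬ Y g ≤ B) => Y g) k hk hz
      exact U.mul_mem (U.mul_mem huU hzU) (U.inv_mem huU)
  have hUn : U.Normal := by
    rw [← Subgroup.normalizer_eq_top_iff, eq_top_iff, ← hgen]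
    refine iSup_le fun g u hu => Subgroup.mem_normalizer_iff.mpr fun z => ⟨hkey g u hu z, fun hz => ?_⟩
    have := hkey g u⁻¹ ((Y g).inv_mem hu) _ hz
    simpa [mul_assoc] using this
  refine hA (top_le_iff.mp (hgen.ge.trans ((iSup_le fun g => ?_).trans hUA)))
  rintro _ ⟨x, hx, rfl⟩
  have h1 : g₀ * x * g₀⁻¹ ∈ U := le_iSup₂ (f := fun g (_ : ¬ Y g ≤ B) => Y g) g₀ hg₀ ⟨x, hx, rfl⟩
  have h2 := hUn.conj_mem _ h1 (g * g₀⁻¹)
  simpa [mul_assoc] using h2

end Cfsg.Agent.S2958
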