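import Mathlib
import Cfsg.Statements.S2960
import Cfsg.Agent.Lib.Coprime.Action
import Cfsg.Agent.Lib.Transfer.Basic
import Cfsg.Agent.Lib.Transfer.Sylow
import Cfsg.Agent.Lib.Fitting.Basic

set_option autoImplicit false
set_option linter.style.haveILetI false
set_option linter.unusedVariables false
open Cfsg

namespace Cfsg.Agent.S2960

/-- Let G be a finite group of characteristic p (C_G(O_p(G)) ≤ O_p(G)), p prime, T a Sylow p-subgroup of G and Q a normal subgroup of T with C_T(Q) ≤ Q. Then C_G(Q) ≤ Q. -/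
theorem result {G : Type*} [Group G] [Finite G] {p : ℕ} [Fact p.Prime] (hG : Subgroup.centralizer (Cfsg.pCore p G : Set G) ≤ Cfsg.pCore p G) (T : Sylow p G) (Q : Subgroup G) (hQT : Q ≤ (T : Subgroup G)) (hQn : (T : Subgroup G) ≤ Subgroup.normalizer (Q : Set G)) (hC : (T : Subgroup G) ⊓ Subgroup.centralizer (Q : Set G) ≤ Q) : Subgroup.centralizer (Q : Set G) ≤ Q := by
  haveI := CfsgLib.Fitting.pCore_normal (G := G) p
  set U := Cfsg.pCore p G with hU
  set C := Subgroup.centralizer (Q : Set G) with hCdef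
  have hUp : IsPGroup p U := CfsgLib.Fitting.pCore_isPGroup p
  have hCp : IsPGroup p C := by
    intro c
    obtain ⟨a, m, -, -, hco, -⟩ := CfsgLib.Transfer.exists_pow_coprime_part (p := p) (c : G)
    set z := (c : G) ^ p ^ a with hz
    have hzC : Subgroup.zpowers z ≤ C := Subgroup.zpowers_le.mpr (C.pow_mem c.2 _)
    have h := CfsgLib.Coprime.pxq (Q := Subgroup.zpowers z) (T.2.to_le hQT)
      (by rw [Nat.card_zpowers]; exact hco) (Subgroup.le_centralizer_iff.mp hzC) hUp
      (by rw [Subgroup.normalizer_eq_top]; exact le_top) (by rw [Subgroup.normalizer_eq_top]; exact le_top)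
      (le_trans (inf_le_inf_right _ (IsPGroup.le_sylow_of_normal hUp T))
        (hC.trans (Subgroup.le_centralizer_iff.mp hzC)))
    have hzU : z ∈ U := hG (h (Subgroup.mem_zpowers z))
    obtain ⟨k, hk⟩ := IsPGroup.iff_card.mp hUp
    have h4 : z = 1 := by
      refine orderOf_eq_one_iff.mp (Nat.eq_one_of_dvd_coprimes (hco.pow_right k) dvd_rfl ?_)
      rw [← hk]
      exact U.orderOf_dvd_natCard hzU
    exact ⟨a, Subtype.ext (by simpa [hz] using h4)⟩
  have hsup := IsPGroup.to_sup_of_normal_right' T.2 hCp (CfsgLib.Coprime.le_normalizer_centralizer hQn)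
  have hCT : C ≤ (T : Subgroup G) := (T.3 hsup le_sup_left) ▸ le_sup_right
  exact (le_inf hCT le_rfl).trans hC

end Cfsg.Agent.S2960
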