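import Cfsg.Statements.S2961
import Cfsg.Agent.Lib.Fitting.Basic
import Cfsg.Agent.Lib.Coprime.Action
import Cfsg.Agent.Lib.PSolvable.Core
import Cfsg.Agent.Lib.PSolvable.Constrained

set_option autoImplicit false
open Cfsg
set_option linter.style.haveILetI false

namespace Cfsg.Agent.S2961

variable {G : Type*} [Group G]

theorem le_normalizer_map_subtype_of_normal {L : Subgroup G} (N : Subgroup L) [N.Normal] :
    L ≤ Subgroup.normalizer ((N.map L.subtype : Subgroup G) : Set G) := by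
  intro l hl
  rw [Subgroup.mem_normalizer_iff]
  intro y
  constructor
  · rintro ⟨n, hn, rfl⟩
    exact ⟨⟨l, hl⟩ * n * ⟨l, hl⟩⁻¹, Subgroup.Normal.conj_mem inferInstance n hn _, rfl⟩
  · rintro ⟨n, hn, he⟩
    refine ⟨(⟨l, hl⟩ : L)⁻¹ * n * (⟨l, hl⟩ : L), ?_, ?_⟩
    · simpa using Subgroup.Normal.conj_mem (inferInstance : N.Normal) n hn (⟨l, hl⟩ : L)⁻¹
    · change l⁻¹ * (n : G) * l = y
      rw [show (n : G) = l * y * l⁻¹ from he]; group

theorem le_normalizer_centralizer {H R : Subgroup G} (h : H ≤ Subgroup.normalizer (R : Set G)) :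
    H ≤ Subgroup.normalizer (Subgroup.centralizer (R : Set G) : Set G) := by
  intro x hx
  rw [Subgroup.mem_normalizer_iff]
  have hR := Subgroup.mem_normalizer_iff.mp (h hx)
  intro y
  constructor
  · intro hy r hr
    have h1 : x⁻¹ * r * x ∈ R := (hR _).mpr (by rwa [show x * (x⁻¹ * r * x) * x⁻¹ = r by group])
    calc r * (x * y * x⁻¹) = x * ((x⁻¹ * r * x) * y) * x⁻¹ := by group
      _ = x * (y * (x⁻¹ * r * x)) * x⁻¹ := by rw [hy _ h1]
      _ = _ := by group
  · intro hy r hr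
    have h1 := hy _ ((hR r).mp hr)
    calc r * y = x⁻¹ * ((x * r * x⁻¹) * (x * y * x⁻¹)) * x := by group
      _ = x⁻¹ * ((x * y * x⁻¹) * (x * r * x⁻¹)) * x := by rw [h1]
      _ = _ := by group

theorem le_normalizer_inf_centralizer {H P R : Subgroup G} (hP : H ≤ Subgroup.normalizer (P : Set G))
    (h : H ≤ Subgroup.normalizer (R : Set G)) :
    H ≤ Subgroup.normalizer ((P ⊓ Subgroup.centralizer (R : Set G) : Subgroup G) : Set G) := by
  intro x hx
  rw [Subgroup.mem_normalizer_iff]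
  exact fun y => and_congr (Subgroup.mem_normalizer_iff.mp (hP hx) y)
    (Subgroup.mem_normalizer_iff.mp (le_normalizer_centralizer h hx) y)

/-- The elements of `L` centralizing `W` modulo `R`. -/
def kernelMod (L W R : Subgroup G) (hR : L ≤ Subgroup.normalizer (R : Set G))
    (hW : L ≤ Subgroup.normalizer (W : Set G)) : Subgroup G where
  carrier := {g | g ∈ L ∧ ∀ w ∈ W, g * w * g⁻¹ * w⁻¹ ∈ R}
  one_mem' := ⟨L.one_mem, fun w _ => by simp [R.one_mem]⟩
  mul_mem' := by
    rintro a b ⟨ha, ha'⟩ ⟨hb, hb'⟩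
    refine ⟨L.mul_mem ha hb, fun w hw => ?_⟩
    have h1 := (Subgroup.mem_normalizer_iff.mp (hR ha) _).mp (hb' w hw)
    have h2 := R.mul_mem h1 (ha' w hw)
    convert h2 using 1
    group
  inv_mem' := by
    rintro a ⟨ha, ha'⟩
    refine ⟨L.inv_mem ha, fun w hw => ?_⟩
    have hw' := (Subgroup.mem_normalizer_iff.mp (hW (L.inv_mem ha)) w).mp hw
    have h1 := R.inv_mem (ha' _ hw')
    convert h1 using 1
    group

theorem le_normalizer_inf3 {L W R : Subgroup G} (hR : L ≤ Subgroup.normalizer (R : Set G))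
    (hW : L ≤ Subgroup.normalizer (W : Set G)) :
    L ≤ Subgroup.normalizer
      ((L ⊓ Subgroup.centralizer (R : Set G) ⊓ kernelMod L W R hR hW : Subgroup G) : Set G) := by
  suffices h : ∀ x ∈ L, ∀ y ∈ kernelMod L W R hR hW, x * y * x⁻¹ ∈ kernelMod L W R hR hW by
    intro x hx
    rw [Subgroup.mem_normalizer_iff]
    refine fun y => and_congr (and_congr (Subgroup.mem_normalizer_iff.mp (Subgroup.le_normalizer hx) y)
      (Subgroup.mem_normalizer_iff.mp (le_normalizer_centralizer hR hx) y)) ⟨fun hy => h x hx y hy, ?_⟩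
    intro hy
    have h1 := h x⁻¹ (L.inv_mem hx) _ hy
    rwa [show x⁻¹ * (x * y * x⁻¹) * x⁻¹⁻¹ = y by group] at h1
  rintro x hx y ⟨hy, hy'⟩
  refine ⟨L.mul_mem (L.mul_mem hx hy) (L.inv_mem hx), fun w hw => ?_⟩
  have hw' := (Subgroup.mem_normalizer_iff.mp (hW (L.inv_mem hx)) w).mp hw
  have h1 := (Subgroup.mem_normalizer_iff.mp (hR hx) _).mp (hy' _ hw')
  convert h1 using 1
  group

theorem comm_mem_inf3 {L W R : Subgroup G} (hR : L ≤ Subgroup.normalizer (R : Set G))
    (hW : L ≤ Subgroup.normalizer (W : Set G)) {x q : G} (hx : x ∈ L)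
    (hxR : x ∈ Subgroup.centralizer (R : Set G)) (hq : q ∈ kernelMod L W R hR hW) :
    x * q * x⁻¹ * q⁻¹ ∈ L ⊓ Subgroup.centralizer (R : Set G) ⊓ kernelMod L W R hR hW := by
  have hqL : q ∈ L := hq.1
  refine ⟨⟨L.mul_mem (L.mul_mem (L.mul_mem hx hqL) (L.inv_mem hx)) (L.inv_mem hqL), ?_⟩, ?_⟩
  · have h1 := (Subgroup.mem_normalizer_iff.mp (le_normalizer_centralizer hR hqL) x⁻¹).mp
      (Subgroup.inv_mem _ hxR)
    have h2 := Subgroup.mul_mem _ hxR h1
    simp only [← mul_assoc] at h2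
    exact h2
  · refine (kernelMod L W R hR hW).mul_mem ?_ ((kernelMod L W R hR hW).inv_mem hq)
    refine ⟨L.mul_mem (L.mul_mem hx hqL) (L.inv_mem hx), fun w hw => ?_⟩
    have hw' := (Subgroup.mem_normalizer_iff.mp (hW (L.inv_mem hx)) w).mp hw
    have h1 := (Subgroup.mem_normalizer_iff.mp (hR hx) _).mp (hq.2 _ hw')
    convert h1 using 1
    group

/-- A `p'`-element moving `w` by an element of a `p`-group that it centralizes fixes `w`. -/
theorem commute_of_comm_coprime [Finite G] {p : ℕ} [Fact p.Prime] {R : Subgroup G}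
    (hR : IsPGroup p R) {x w d : G} (hx : (orderOf x).Coprime p) (hd : d ∈ R) (hc : Commute x d)
    (he : x * w * x⁻¹ * w⁻¹ = d) : Commute x w := by
  have he' : x * w * x⁻¹ = d * w := mul_inv_eq_iff_eq_mul.mp he
  have hn : ∀ n : ℕ, x ^ n * w * (x ^ n)⁻¹ = d ^ n * w := by
    intro n
    induction n with
    | zero => simp
    | succ n ih =>
      calc x ^ (n + 1) * w * (x ^ (n + 1))⁻¹ = x * (x ^ n * w * (x ^ n)⁻¹) * x⁻¹ := by
            rw [pow_succ']; group
        _ = (x * d ^ n * x⁻¹) * (x * w * x⁻¹) := by rw [ih]; group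
        _ = d ^ (n + 1) * w := by
            rw [(hc.pow_right n).eq, mul_inv_cancel_right, he', pow_succ, mul_assoc]
  have h1 := hn (orderOf x)
  rw [pow_orderOf_eq_one, one_mul, inv_one, mul_one] at h1
  have hd1 : d = 1 := by
    refine CfsgLib.PSolvable.eq_one_of_mem_of_mem hR (K := Subgroup.zpowers d) ?_ hd
      (Subgroup.mem_zpowers d)
    rw [Nat.card_zpowers]
    exact hx.coprime_dvd_left (orderOf_dvd_of_pow_eq_one (right_eq_mul.mp h1))
  rw [hd1, one_mul] at he'
  exact mul_inv_eq_iff_eq_mul.mp he'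

/-- Let G be a finite group of characteristic p (C_G(O_p(G)) ≤ O_p(G)), p prime, T a Sylow p-subgroup of G and Q a normal subgroup of T with C_T(Q) ≤ Q. Then every subgroup L of G containing Q has characteristic p: C_L(O_p(L)) ≤ O_p(L). -/
theorem result {G : Type*} [Group G] [Finite G] {p : ℕ} [Fact p.Prime] (hG : Subgroup.centralizer (Cfsg.pCore p G : Set G) ≤ Cfsg.pCore p G) (T : Sylow p G) (Q : Subgroup G) (hQT : Q ≤ (T : Subgroup G)) (hQn : (T : Subgroup G) ≤ Subgroup.normalizer (Q : Set G)) (hC : (T : Subgroup G) ⊓ Subgroup.centralizer (Q : Set G) ≤ Q) (L : Subgroup G) (hQL : Q ≤ L) : Subgroup.centralizer (Cfsg.pCore p ↥L : Set ↥L) ≤ Cfsg.pCore p ↥L := by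
  haveI := CfsgLib.Fitting.pCore_normal (G := G) p
  haveI := CfsgLib.Fitting.pCore_normal (G := L) p
  set P := Cfsg.pCore p G with hP
  set R := (Cfsg.pCore p ↥L).map L.subtype with hR
  have hPp : IsPGroup p P := CfsgLib.Fitting.pCore_isPGroup p
  have hRp : IsPGroup p R := (CfsgLib.Fitting.pCore_isPGroup p).map _
  have hPT : P ≤ (T : Subgroup G) := hPp.le_sylow_of_normal T
  have hRN : L ≤ Subgroup.normalizer (R : Set G) :=
    le_normalizer_map_subtype_of_normal _
  have hPL : P ⊓ L ≤ R := by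
    intro y hy
    refine ⟨⟨y, hy.2⟩, ?_, rfl⟩
    exact CfsgLib.Fitting.le_pCore (N := P.subgroupOf L) inferInstance
      (hPp.comap_of_injective _ L.subtype_injective) hy.1
  have hPQ : ∀ w ∈ P, ∀ q ∈ Q, q * w * q⁻¹ * w⁻¹ ∈ R := by
    intro w hw q hq
    refine hPL ⟨P.mul_mem (Subgroup.Normal.conj_mem inferInstance w hw q) (P.inv_mem hw), hQL ?_⟩
    have h1 := (Subgroup.mem_normalizer_iff.mp (hQn (hPT hw)) q⁻¹).mp (Q.inv_mem hq)
    have h2 := Q.mul_mem hq h1
    simp only [← mul_assoc] at h2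
    exact h2
  -- elements of `L` acting trivially on `(P ∩ C(R)) R / R`
  set W := P ⊓ Subgroup.centralizer (R : Set G) with hW
  have hWN : L ≤ Subgroup.normalizer (W : Set G) :=
    le_normalizer_inf_centralizer Subgroup.le_normalizer_of_normal hRN
  let Γ : Subgroup G := kernelMod L W R hRN hWN
  have key : ∀ x : G, (orderOf x).Coprime p → ∀ w d : G, d ∈ R → Commute x d →
      x * w * x⁻¹ * w⁻¹ = d → Commute x w :=
    fun x hx w d hd hc he => commute_of_comm_coprime hRp hx hd hc he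
  have hpxq : ∀ x : G, (orderOf x).Coprime p → ∀ A : Subgroup G, IsPGroup p A →
      (∀ a ∈ A, Commute x a) → (∀ w ∈ P, w ∈ Subgroup.centralizer (A : Set G) → Commute x w) →
      x = 1 := by
    intro x hx A hA hxA hxW
    have hcent : P ⊓ Subgroup.centralizer (A : Set G) ≤
        Subgroup.centralizer (Subgroup.zpowers x : Set G) := by
      rintro w ⟨hw1, hw2⟩ y ⟨k, rfl⟩
      exact ((hxW w hw1 hw2).zpow_left k).eq
    have h1 := CfsgLib.Coprime.pxq hA (Q := Subgroup.zpowers x) (by rw [Nat.card_zpowers]; exact hx)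
      (by rintro a ha y ⟨k, rfl⟩; exact ((hxA a ha).zpow_left k).eq)
      hPp Subgroup.le_normalizer_of_normal Subgroup.le_normalizer_of_normal hcent
    exact CfsgLib.PSolvable.eq_one_of_mem_of_mem hPp (K := Subgroup.zpowers x)
      (by rw [Nat.card_zpowers]; exact hx) (hG (h1 (Subgroup.mem_zpowers x))) (Subgroup.mem_zpowers x)
  -- `p'`-elements of `L ∩ C(R)` acting trivially on `W R / R` are trivial
  have step1 : ∀ x ∈ Γ, x ∈ Subgroup.centralizer (R : Set G) → (orderOf x).Coprime p → x = 1 := by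
    intro x hx hxR hc
    refine hpxq x hc R hRp (fun a ha => (hxR a ha).symm) fun w hw1 hw2 => ?_
    have hd : x * w * x⁻¹ * w⁻¹ ∈ R := hx.2 w ⟨hw1, hw2⟩
    exact key x hc w _ hd (hxR _ hd).symm rfl
  have step2 : L ⊓ Subgroup.centralizer (R : Set G) ⊓ Γ ≤ R := by
    haveI hn : ((L ⊓ Subgroup.centralizer (R : Set G) ⊓ Γ).subgroupOf L).Normal :=
      Subgroup.normal_subgroupOf_of_le_normalizer (le_normalizer_inf3 hRN hWN)
    have hp' : IsPGroup p ↥(L ⊓ Subgroup.centralizer (R : Set G) ⊓ Γ) :=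
      CfsgLib.PSolvable.isPGroup_of_forall_coprime fun y hy hc => step1 y hy.2 hy.1.2 hc
    intro y hy
    exact ⟨⟨y, hy.1.1⟩, CfsgLib.Fitting.le_pCore hn (hp'.comap_of_injective _ L.subtype_injective)
      hy, rfl⟩
  have step3 : ∀ x ∈ L, x ∈ Subgroup.centralizer (R : Set G) → (orderOf x).Coprime p → x = 1 := by
    intro x hxL hxR hc
    have hQΓ : Q ≤ Γ := fun q hq => ⟨hQL hq, fun w hw => hPQ w hw.1 q hq⟩
    have hQp : IsPGroup p Q := T.2.to_le hQT
    refine hpxq x hc Q hQp (fun q hq => ?_) fun w hw1 hw2 =>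
      (hxR w (hPL ⟨hw1, hQL (hC ⟨hPT hw1, hw2⟩)⟩)).symm
    have h1 := comm_mem_inf3 hRN hWN hxL hxR (hQΓ hq)
    exact key x hc q _ (step2 h1) (hxR _ (step2 h1)).symm rfl
  have hX : IsPGroup p ↥(Subgroup.centralizer (Cfsg.pCore p ↥L : Set ↥L)) := by
    refine CfsgLib.PSolvable.isPGroup_of_forall_coprime fun x hx hc => Subtype.ext (step3 x x.2 ?_
      (by rwa [Subgroup.orderOf_coe]))
    rintro _ ⟨r, hr, rfl⟩
    exact congrArg Subtype.val (hx r hr)
  exact CfsgLib.Fitting.le_pCore Subgroup.normal_centralizer hX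

end Cfsg.Agent.S2961
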