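import Cfsg.Statements.S2963
import Mathlib

set_option autoImplicit false
open Cfsg
open scoped Pointwise

namespace Cfsg.Agent.S2963

/-- Let n be odd. If the symmetric group of degree n is a minimal parabolic group for the prime 2, that is, a Sylow 2-subgroup is not normal and lies in exactly one maximal subgroup, then n = 2^m + 1 for some natural number m. -/
theorem result (n : ℕ) (hn : Odd n) (h : Cfsg.IsPMinimal 2 (Equiv.Perm (Fin n))) : ∃ m : ℕ, n = 2 ^ m + 1 := by
  classical
  haveI : Fact (Nat.Prime 2) := ⟨Nat.prime_two⟩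
  obtain ⟨S⟩ := (inferInstance : Nonempty (Sylow 2 (Equiv.Perm (Fin n))))
  obtain ⟨hnn, M, hM, huniq⟩ := h S
  have h2 : ¬ 2 ∣ Nat.card (Fin n) := by
    rw [Nat.card_eq_fintype_card, Fintype.card_fin]
    exact fun hd => absurd hn (Nat.not_odd_iff_even.mpr (even_iff_two_dvd.mpr hd))
  obtain ⟨x, hx⟩ := S.isPGroup'.nonempty_fixed_point_of_prime_not_dvd_card (Fin n) h2
  have hSx : ∀ g ∈ (S : Subgroup (Equiv.Perm (Fin n))), g x = x := fun g hg => hx ⟨g, hg⟩
  by_contra hne
  -- an orbit avoiding x and not covering everything else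
  have h3 : 2 ≤ n := by
    by_contra hlt
    apply hnn
    haveI : Subsingleton (Fin n) := Fin.subsingleton_iff_le_one.mpr (by omega)
    exact ⟨fun a _ g => by rw [Subsingleton.elim g 1]; simpa⟩
  haveI : Nontrivial (Fin n) := Fin.nontrivial_iff_two_le.mpr h3
  obtain ⟨z, hz⟩ := exists_ne x
  set A := MulAction.orbit (S : Subgroup (Equiv.Perm (Fin n))) z with hA
  have hxA : x ∉ A := by
    rintro ⟨g, hg⟩
    apply hz
    have h1 : g • z = g • x := by
      rw [show g • x = x from hSx g g.2]; exact hg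
    exact smul_left_cancel g h1
  obtain ⟨k, hk⟩ := S.isPGroup'.card_orbit z
  have hy : ∃ y, y ≠ x ∧ y ∉ A := by
    by_contra hno
    simp only [not_exists, not_and, not_not] at hno
    have hAe : A = {x}ᶜ := Set.eq_of_subset_of_subset
      (fun y hy => fun hyx => hxA (by rwa [Set.mem_singleton_iff.mp hyx] at hy))
      (fun y hy => hno y hy)
    apply hne ⟨k, ?_⟩
    have hc : A.ncard = n - 1 := by
      rw [hAe, Set.ncard_compl, Set.ncard_singleton, Nat.card_eq_fintype_card, Fintype.card_fin]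
    rw [← hk, Nat.card_coe_set_eq, ← hA, hc]
    omega
  obtain ⟨y, hyx, hyA⟩ := hy
  let X : Subgroup (Equiv.Perm (Fin n)) := MulAction.stabilizer (Equiv.Perm (Fin n)) x
  let Y : Subgroup (Equiv.Perm (Fin n)) := MulAction.stabilizer (Equiv.Perm (Fin n)) A
  have hXtop : X ≠ ⊤ := fun hh => by
    have : Equiv.swap x y ∈ X := hh ▸ Subgroup.mem_top _
    have h1 : Equiv.swap x y x = x := this
    rw [Equiv.swap_apply_left] at h1
    exact hyx h1
  have hYtop : Y ≠ ⊤ := fun hh => by
    have : Equiv.swap x z ∈ Y := hh ▸ Subgroup.mem_top _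
    have h1 : Equiv.swap x z • A = A := this
    have h2 : Equiv.swap x z z ∈ Equiv.swap x z • A :=
      Set.smul_mem_smul_set (MulAction.mem_orbit_self z)
    rw [h1, Equiv.swap_apply_right] at h2
    exact hxA h2
  have hSX : (S : Subgroup (Equiv.Perm (Fin n))) ≤ X := fun g hg => hSx g hg
  have hSY : (S : Subgroup (Equiv.Perm (Fin n))) ≤ Y := fun g hg =>
    MulAction.smul_orbit (⟨g, hg⟩ : (S : Subgroup (Equiv.Perm (Fin n)))) z
  obtain ⟨M1, hM1, hXM1⟩ := (eq_top_or_exists_le_coatom X).resolve_left hXtop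
  obtain ⟨M2, hM2, hYM2⟩ := (eq_top_or_exists_le_coatom Y).resolve_left hYtop
  have e1 := huniq M1 ⟨hM1, hSX.trans hXM1⟩
  have e2 := huniq M2 ⟨hM2, hSY.trans hYM2⟩
  subst e1 e2
  apply hM.1.1
  have hsw : Equiv.swap x y ∈ M2 := by
    apply hYM2
    show Equiv.swap x y • A = A
    ext w
    rw [Set.mem_smul_set_iff_inv_smul_mem, Equiv.swap_inv, Equiv.Perm.smul_def]
    rcases eq_or_ne w x with rfl | hwx
    · simp [hxA, hyA]
    rcases eq_or_ne w y with rfl | hwy
    · simp [hxA, hyA]
    rw [Equiv.swap_apply_of_ne_of_ne hwx hwy]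
  have hall : ∀ w, Equiv.swap x w ∈ M2 := by
    intro w
    rcases eq_or_ne w y with rfl | hwy
    · exact hsw
    rcases eq_or_ne w x with rfl | hwx
    · rw [Equiv.swap_self]; exact one_mem _
    have h1 : Equiv.swap y w ∈ M2 :=
      hXM1 (Equiv.swap_apply_of_ne_of_ne hyx.symm hwx.symm)
    have := mul_mem (mul_mem h1 hsw) (inv_mem h1)
    rwa [← Equiv.swap_apply_apply, Equiv.swap_apply_of_ne_of_ne hyx.symm hwx.symm,
      Equiv.swap_apply_left] at this
  rw [eq_top_iff]
  intro g _
  have h1 : Equiv.swap x (g x) * g ∈ M2 :=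
    hXM1 (show (Equiv.swap x (g x) * g) x = x by simp)
  simpa using mul_mem (inv_mem (hall (g x))) h1

end Cfsg.Agent.S2963
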