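import Cfsg.Statements.S2968
import Cfsg.Agent.Lib.Transfer.Alperin

set_option autoImplicit false
set_option linter.style.haveILetI false
set_option linter.unusedVariables false
open Cfsg

namespace Cfsg.Agent.S2968

open CfsgLib.Transfer in
theorem central_of_isolated {G : Type*} [Group G] [Finite G] {p : ℕ} [Fact p.Prime]
    (P : Sylow p G) (x : G) (hxP : x ∈ (P : Subgroup G)) (hiso : Cfsg.IsIsolated x) :
    ∀ u ∈ (P : Subgroup G), x * u = u * x := by
  set R := (P : Subgroup G) ⊓ Subgroup.centralizer ({x} : Set G) with hR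
  have hxR : x ∈ R := ⟨hxP, Subgroup.mem_centralizer_singleton_iff.mpr rfl⟩
  have hRP : R = (P : Subgroup G) := by
    by_contra hne
    have hlt := lt_inf_normalizer P.2 (lt_of_le_of_ne inf_le_left hne)
    refine hlt.ne (le_antisymm hlt.le fun u hu => ⟨hu.1, ?_⟩)
    have h1 := (Subgroup.mem_normalizer_iff.mp hu.2 x).mp hxR
    have h2 : u * x * u⁻¹ = x :=
      hiso u ((Subgroup.mem_centralizer_singleton_iff.mp h1.2).symm)
    exact Subgroup.mem_centralizer_singleton_iff.mpr (mul_inv_eq_iff_eq_mul.mp h2)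
  intro u hu
  rw [← hRP] at hu
  exact (Subgroup.mem_centralizer_singleton_iff.mp hu.2).symm

/-- Let G be a finite group, p a prime, P a Sylow p-subgroup of G and x ∈ P an element of p-power order which is isolated in G (the only conjugate of x commuting with x is x itself). Then x lies in the centre of P, and the subgroup generated by x is both strongly closed and weakly closed in P with respect to G. -/
theorem result {G : Type*} [Group G] [Finite G] {p : ℕ} [Fact p.Prime] (P : Sylow p G) (x : G) (hxP : x ∈ (P : Subgroup G)) (hx : ∃ k : ℕ, orderOf x = p ^ k) (hiso : Cfsg.IsIsolated x) : x ∈ (P : Subgroup G) ⊓ Subgroup.centralizer ((P : Subgroup G) : Set G) ∧ Cfsg.IsStronglyClosed (Subgroup.zpowers x) (P : Subgroup G) ∧ Cfsg.IsWeaklyClosed (Subgroup.zpowers x) (P : Subgroup G) := by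
  have hc := central_of_isolated P x hxP hiso
  have hfix : ∀ g : G, g * x * g⁻¹ ∈ (P : Subgroup G) → g * x * g⁻¹ = x :=
    fun g hg => hiso g (hc _ hg)
  refine ⟨⟨hxP, Subgroup.mem_centralizer_iff.mpr fun u hu => (hc u hu).symm⟩,
    ⟨Subgroup.zpowers_le.mpr hxP, ?_⟩, Subgroup.zpowers_le.mpr hxP, ?_⟩
  · rintro y ⟨j, rfl⟩ g hg
    by_cases hj : g * x * g⁻¹ = x
    · exact ⟨j, by change x ^ j = g * x ^ j * g⁻¹; rw [← conj_zpow, hj]⟩
    · -- `x ^ j` and its conjugate are centralized by Sylow subgroups through `x`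
      obtain ⟨R, hR⟩ := (CfsgLib.Transfer.isPGroup_zpowers (p := p) hx).exists_le_sylow
      set y := g * x ^ j * g⁻¹ with hy
      have hxC : x ∈ Subgroup.centralizer ({y} : Set G) :=
        Subgroup.mem_centralizer_singleton_iff.mpr (hc y hg)
      have hgxC : g * x * g⁻¹ ∈ Subgroup.centralizer ({y} : Set G) := by
        rw [Subgroup.mem_centralizer_singleton_iff, hy]
        group
      obtain ⟨S, hS⟩ := (CfsgLib.Transfer.isPGroup_zpowers (p := p)
        (x := (⟨x, hxC⟩ : Subgroup.centralizer ({y} : Set G)))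
        (by obtain ⟨k, hk⟩ := hx; exact ⟨k, by rw [← Subgroup.orderOf_coe]; exact hk⟩)).exists_le_sylow
      obtain ⟨c, hcS⟩ := CfsgLib.Transfer.exists_map_conj_le_sylow (CfsgLib.Transfer.isPGroup_zpowers (p := p)
        (x := (⟨g * x * g⁻¹, hgxC⟩ : Subgroup.centralizer ({y} : Set G)))
        (by obtain ⟨k, hk⟩ := hx
            exact ⟨k, by rw [← Subgroup.orderOf_coe]; exact (CfsgLib.Transfer.orderOf_conj g x).trans hk⟩)) S
      obtain ⟨P', hP'⟩ := (S.2.map (Subgroup.centralizer ({y} : Set G)).subtype).exists_le_sylow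
      have h3 : (c : G) * (g * x * g⁻¹) * (c : G)⁻¹ ∈ (P' : Subgroup G) :=
        hP' ⟨_, hcS ⟨_, Subgroup.mem_zpowers _, rfl⟩, rfl⟩
      have h4 := central_of_isolated P' x (hP' ⟨_, hS (Subgroup.mem_zpowers _), rfl⟩) hiso _ h3
      have h5 : (c : G) * g * x * ((c : G) * g)⁻¹ = x := hiso _ (by
        rw [show (c : G) * g * x * ((c : G) * g)⁻¹ = (c : G) * (g * x * g⁻¹) * (c : G)⁻¹ by group]
        exact h4)
      refine ⟨j, ?_⟩
      change x ^ j = y
      have h6 := Subgroup.mem_centralizer_singleton_iff.mp c.2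
      calc x ^ j = ((c : G) * g * x * ((c : G) * g)⁻¹) ^ j := by rw [h5]
        _ = (c : G) * (g * x ^ j * g⁻¹) * (c : G)⁻¹ := by rw [conj_zpow]; group
        _ = (c : G) * y * (c : G)⁻¹ := rfl
        _ = y := by rw [h6]; group
  · intro g hg
    have h1 : g * x * g⁻¹ = x := hfix g (hg (Subgroup.mem_map_of_mem _ (Subgroup.mem_zpowers x)))
    rw [MonoidHom.map_zpowers]
    exact congrArg Subgroup.zpowers h1

end Cfsg.Agent.S2968
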