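import Mathlib
import Cfsg.Statements.S2969
import Cfsg.Agent.S2968
import Cfsg.Agent.Lib.Transfer.Sylow
import Cfsg.Agent.Lib.Transfer.Basic

set_option autoImplicit false
set_option linter.style.haveILetI false
set_option linter.unusedVariables false
open Cfsg

namespace Cfsg.Agent.S2969

/-- Let G be a finite group, p a prime and x ∈ G an element of p-power order which is isolated in G. If R is a p-subgroup of G containing x, then N_G(R) ≤ C_G(x); in particular x lies in the centre of R. Moreover, if x lies in a normal subgroup N of a subgroup H of G, then H = N·C_H(x). -/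
theorem result {G : Type*} [Group G] [Finite G] {p : ℕ} [Fact p.Prime] (x : G) (hx : ∃ k : ℕ, orderOf x = p ^ k) (hiso : Cfsg.IsIsolated x) : (∀ R : Subgroup G, IsPGroup p ↥R → x ∈ R → Subgroup.normalizer (R : Set G) ≤ Subgroup.centralizer ({x} : Set G)) ∧ (∀ H N : Subgroup G, N ≤ H → H ≤ Subgroup.normalizer (N : Set G) → x ∈ N → N ⊔ (H ⊓ Subgroup.centralizer ({x} : Set G)) = H) := by
  refine ⟨fun R hR hxR g hg => ?_, fun H N hNH hHN hxN => le_antisymm (sup_le hNH inf_le_left) fun h hh => ?_⟩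
  · obtain ⟨P, hP⟩ := hR.exists_le_sylow
    have h1 : g * x * g⁻¹ ∈ R := (Subgroup.mem_normalizer_iff.mp hg x).mp hxR
    have h2 := hiso g (Cfsg.Agent.S2968.central_of_isolated P x (hP hxR) hiso _ (hP h1))
    exact Subgroup.mem_centralizer_singleton_iff.mpr (mul_inv_eq_iff_eq_mul.mp h2)
  · have hgN : h * x * h⁻¹ ∈ N := (Subgroup.mem_normalizer_iff.mp (hHN hh) x).mp hxN
    obtain ⟨R, hR⟩ := (CfsgLib.Transfer.isPGroup_zpowers (p := p) (x := (⟨x, hxN⟩ : N))
      (by obtain ⟨k, hk⟩ := hx; exact ⟨k, by rw [← Subgroup.orderOf_coe]; exact hk⟩)).exists_le_sylow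
    obtain ⟨n, hnR⟩ := CfsgLib.Transfer.exists_map_conj_le_sylow (CfsgLib.Transfer.isPGroup_zpowers (p := p)
      (x := (⟨h * x * h⁻¹, hgN⟩ : N))
      (by obtain ⟨k, hk⟩ := hx
          exact ⟨k, by rw [← Subgroup.orderOf_coe]; exact (CfsgLib.Transfer.orderOf_conj h x).trans hk⟩)) R
    obtain ⟨P, hP⟩ := (R.2.map N.subtype).exists_le_sylow
    have h3 : (n : G) * (h * x * h⁻¹) * (n : G)⁻¹ ∈ (P : Subgroup G) :=
      hP ⟨_, hnR ⟨_, Subgroup.mem_zpowers _, rfl⟩, rfl⟩
    have h4 := Cfsg.Agent.S2968.central_of_isolated P x (hP ⟨_, hR (Subgroup.mem_zpowers _), rfl⟩) hiso _ h3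
    have e : ((n : G) * h) * x * ((n : G) * h)⁻¹ = (n : G) * (h * x * h⁻¹) * (n : G)⁻¹ := by group
    have h5 := hiso ((n : G) * h) (by rw [e]; exact h4)
    rw [show h = (n : G)⁻¹ * ((n : G) * h) by group]
    exact Subgroup.mul_mem_sup (N.inv_mem n.2)
      ⟨H.mul_mem (hNH n.2) hh, Subgroup.mem_centralizer_singleton_iff.mpr (mul_inv_eq_iff_eq_mul.mp h5)⟩

end Cfsg.Agent.S2969
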