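import Cfsg.Statements.S2970
import Mathlib
import Cfsg.Agent.Lib.Transfer.Cyclic
import Cfsg.Agent.Lib.Transfer.Basic
import Cfsg.Agent.S2968

set_option autoImplicit false
set_option linter.style.haveILetI false
set_option linter.unusedVariables false
open Cfsg

namespace Cfsg.Agent.S2970

/-- Let G be a finite group, p a prime and x ∈ G an element of p-power order which is isolated in G. Then the image of x in any quotient G ⧸ N is isolated in G ⧸ N; and if x ≠ 1 and the Sylow p-subgroups of G are cyclic, then G has a normal p-complement. -/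
theorem result {G : Type*} [Group G] [Finite G] {p : ℕ} [Fact p.Prime] (x : G) (hx : ∃ k : ℕ, orderOf x = p ^ k) (hiso : Cfsg.IsIsolated x) : (∀ (N : Subgroup G) [N.Normal], Cfsg.IsIsolated (QuotientGroup.mk x : G ⧸ N)) ∧ (x ≠ 1 → (∀ P : Sylow p G, IsCyclic ↥(P : Subgroup G)) → Cfsg.HasNormalPComplement p G) := by
  constructor
  · intro N _ g hg
    induction g using QuotientGroup.induction_on with
    | H g =>
    set q := QuotientGroup.mk' N with hq
    change q g * q x * (q g)⁻¹ = q x
    change Commute (q x) (q g * q x * (q g)⁻¹) at hg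
    rw [← map_inv, ← map_mul, ← map_mul] at hg ⊢
    set y := g * x * g⁻¹ with hy
    set L := (Subgroup.closure {q x, q y}).comap q with hL
    have hab : IsMulCommutative (Subgroup.closure {q x, q y}) :=
      Subgroup.isMulCommutative_closure (by
        rintro a (rfl | rfl) b (rfl | rfl)
        · rfl
        · exact hg.eq
        · exact hg.eq.symm
        · rfl)
    have hxL : x ∈ L := Subgroup.subset_closure (Set.mem_insert _ _)
    have hyL : y ∈ L := Subgroup.subset_closure (Set.mem_insert_of_mem _ rfl)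
    obtain ⟨R, hR⟩ := (CfsgLib.Transfer.isPGroup_zpowers (p := p) (x := (⟨x, hxL⟩ : L))
      (by obtain ⟨k, hk⟩ := hx; exact ⟨k, by rw [← Subgroup.orderOf_coe]; exact hk⟩)).exists_le_sylow
    obtain ⟨c, hcR⟩ := CfsgLib.Transfer.exists_map_conj_le_sylow (CfsgLib.Transfer.isPGroup_zpowers (p := p)
      (x := (⟨y, hyL⟩ : L))
      (by obtain ⟨k, hk⟩ := hx
          exact ⟨k, by rw [← Subgroup.orderOf_coe]; exact (CfsgLib.Transfer.orderOf_conj g x).trans hk⟩)) R
    obtain ⟨P', hP'⟩ := (R.2.map L.subtype).exists_le_sylow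
    have h3 : (c : G) * y * (c : G)⁻¹ ∈ (P' : Subgroup G) :=
      hP' ⟨_, hcR ⟨_, Subgroup.mem_zpowers _, rfl⟩, rfl⟩
    have h4 := S2968.central_of_isolated P' x (hP' ⟨_, hR (Subgroup.mem_zpowers _), rfl⟩) hiso _ h3
    have h5 : (c : G) * g * x * ((c : G) * g)⁻¹ = x := hiso _ (by
      rw [show (c : G) * g * x * ((c : G) * g)⁻¹ = (c : G) * (g * x * g⁻¹) * (c : G)⁻¹ by group]
      exact h4)
    have h6 : q (c : G) * q y = q y * q (c : G) :=
      congrArg Subtype.val (hab.is_comm.comm (⟨q c, c.2⟩ : Subgroup.closure {q x, q y}) ⟨q y, hyL⟩)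
    calc q y = q (c : G) * q y * (q (c : G))⁻¹ := by rw [h6]; group
      _ = q ((c : G) * g * x * ((c : G) * g)⁻¹) := by
          rw [← map_inv, ← map_mul, ← map_mul, hy]; congr 1; group
      _ = q x := by rw [h5]
  · intro hx1 hcyc
    obtain ⟨P, hP⟩ := (CfsgLib.Transfer.isPGroup_zpowers (p := p) hx).exists_le_sylow
    have hxP : x ∈ (P : Subgroup G) := hP (Subgroup.mem_zpowers x)
    refine CfsgLib.Transfer.hasNormalPComplement_of_normalizer_le_centralizer P ?_
    obtain ⟨t, ht⟩ := CfsgLib.Transfer.exists_zpowers_eq_of_isCyclic (P : Subgroup G) (hcyc P)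
    refine CfsgLib.Transfer.normalizer_le_centralizer_of_zpow P ht fun g hg hgc r hr => ?_
    by_contra hd
    obtain ⟨j, rfl⟩ := (ht ▸ hxP : x ∈ Subgroup.zpowers t)
    change t ^ j ≠ 1 at hx1
    have hc := S2968.central_of_isolated P (t ^ j) hxP hiso
    have h1 : g * t ^ j * g⁻¹ = t ^ j :=
      hiso g (hc _ ((Subgroup.mem_normalizer_iff.mp hg _).mp hxP))
    rw [← conj_zpow, hr, ← zpow_mul] at h1
    obtain ⟨k, hk⟩ := P.2 ⟨t, ht ▸ Subgroup.mem_zpowers t⟩
    have hk' : t ^ ((p : ℤ) ^ k) = 1 := by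
      rw [← Nat.cast_pow, zpow_natCast]; simpa using congrArg Subtype.val hk
    have hcop : IsCoprime (r - 1) ((p : ℤ) ^ k) :=
      ((Nat.prime_iff_prime_int.mp (Fact.out : p.Prime)).irreducible.coprime_iff_not_dvd.mpr hd).symm.pow_right
    obtain ⟨a, b, hab⟩ := hcop
    refine hx1 ?_
    rw [← mul_one j, ← hab, mul_add, zpow_add, show j * (a * (r - 1)) = (r * j - j) * a by ring,
      show j * (b * (p : ℤ) ^ k) = (p : ℤ) ^ k * (j * b) by ring, zpow_mul, zpow_mul, zpow_sub, h1,
      mul_inv_cancel, hk', one_zpow, one_zpow, mul_one]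

end Cfsg.Agent.S2970
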