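import Cfsg.Statements.S2971
import Cfsg.Agent.S2970
import Cfsg.Agent.Lib.ZStar.Recognize
import Cfsg.Agent.Lib.Layer.CharP

set_option autoImplicit false
open Cfsg CfsgLib

namespace Cfsg.Agent.S2971

/-- Let G be a finite group and p an odd prime such that G has p-rank at most 1 (no elementary abelian subgroup of order p²). If x ∈ G is an isolated element of order p, then x is central modulo the largest normal subgroup of G of order prime to p. -/
theorem result {G : Type*} [Group G] [Finite G] {p : ℕ} [Fact p.Prime] (hp : p ≠ 2) (hrk : Cfsg.PRankLE p 1 G) (x : G) (hx : orderOf x = p) (hiso : Cfsg.IsIsolated x) : Cfsg.InZStar p x := by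
  have hx1 : x ≠ 1 := fun e => by
    rw [e, orderOf_one] at hx
    exact (Fact.out : p.Prime).ne_one hx.symm
  have hcyc : ∀ P : Sylow p G, IsCyclic ↥(P : Subgroup G) := by
    intro P
    refine ZStar.cyclic_of_unique_subgroup hp P.2 ?_
    suffices key : ∀ z ∈ (P : Subgroup G), orderOf z = p → (∀ t ∈ (P : Subgroup G), t * z = z * t) →
        ∀ H : Subgroup (P : Subgroup G), Nat.card H = p → H.map (P : Subgroup G).subtype = Subgroup.zpowers z by
      intro H K hH hK
      have hP1 : (P : Subgroup G) ≠ ⊥ := by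
        intro e
        haveI : Subsingleton (P : Subgroup G) := e ▸ inferInstance
        have := Nat.card_le_card_of_injective _ H.subtype_injective
        rw [hH, Nat.card_unique] at this
        exact absurd this (not_le.mpr (Fact.out : p.Prime).one_lt)
      obtain ⟨z, hz, hzo, hzc⟩ :=
        CharCore.exists_central_orderOf P.2 hP1 le_rfl Subgroup.le_normalizer
      exact Subgroup.map_injective (P : Subgroup G).subtype_injective
        ((key z hz hzo hzc H hH).trans (key z hz hzo hzc K hK).symm)
    intro z hz hzo hzc H hH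
    set H' := H.map (P : Subgroup G).subtype with hH'
    set Z := Subgroup.zpowers z with hZ
    have hH'c : Nat.card H' = p := by
      rw [hH', Subgroup.card_map_of_injective (P : Subgroup G).subtype_injective, hH]
    have hZc : Nat.card Z = p := by rw [hZ, Nat.card_zpowers, hzo]
    have hcomm : ∀ a ∈ H', ∀ b ∈ Z, Commute a b := by
      rintro a ha b hb
      obtain ⟨i, rfl⟩ := Subgroup.mem_zpowers_iff.mp hb
      exact (show Commute a z from hzc a (Subgroup.map_subtype_le H ha)).zpow_right i
    haveI := isCyclic_of_prime_card hH'c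
    have hset : ∀ a ∈ ((H' : Set G) ∪ (Z : Set G)), ∀ b ∈ ((H' : Set G) ∪ (Z : Set G)),
        a * b = b * a := by
      rintro a (ha | ha) b (hb | hb)
      · letI := IsCyclic.commGroup (α := H')
        exact congrArg Subtype.val (mul_comm (⟨a, ha⟩ : H') ⟨b, hb⟩)
      · exact (hcomm a ha b hb).eq
      · exact (hcomm b hb a ha).eq.symm
      · obtain ⟨i, rfl⟩ := Subgroup.mem_zpowers_iff.mp ha
        obtain ⟨j, rfl⟩ := Subgroup.mem_zpowers_iff.mp hb
        exact ((Commute.refl z).zpow_zpow i j).eq
    set E := Subgroup.closure ((H' : Set G) ∪ (Z : Set G)) with hE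
    haveI hEc := Subgroup.isMulCommutative_closure hset
    have hle := hrk E hEc fun a ha => by
      induction ha using Subgroup.closure_induction with
      | mem a ha =>
        rcases ha with ha | ha
        · have h1 := Subgroup.orderOf_dvd_natCard H' ha
          rw [hH'c] at h1
          exact orderOf_dvd_iff_pow_eq_one.mp h1
        · have h1 := Subgroup.orderOf_dvd_natCard Z ha
          rw [hZc] at h1
          exact orderOf_dvd_iff_pow_eq_one.mp h1
      | one => exact one_pow p
      | mul a b ha hb iha ihb =>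
        rw [(show Commute a b from congrArg Subtype.val
          (mul_comm' (⟨a, ha⟩ : E) ⟨b, hb⟩)).mul_pow, iha, ihb, one_mul]
      | inv a ha ih => rw [inv_pow, ih, inv_one]
    rw [pow_one] at hle
    have h1 : H' = E := Subgroup.eq_of_le_of_card_ge
      (fun a ha => Subgroup.subset_closure (Or.inl ha)) (hle.trans hH'c.ge)
    have h2 : Z = E := Subgroup.eq_of_le_of_card_ge
      (fun a ha => Subgroup.subset_closure (Or.inr ha)) (hle.trans hZc.ge)
    exact h1.trans h2.symm
  have hN := (S2970.result x ⟨1, by rw [hx, pow_one]⟩ hiso).2 hx1 hcyc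
  intro g
  rw [Transfer.pPrimeCore_eq_pResidual hN]
  haveI := Transfer.pResidual_normal p G
  obtain ⟨P⟩ := (inferInstance : Nonempty (Sylow p G))
  haveI := hcyc P
  letI := IsCyclic.commGroup (α := (P : Subgroup G))
  -- everything is a `p`-element modulo the complement
  have hg : ∀ g : G, ∃ k ∈ pResidual p G, ∃ s ∈ (P : Subgroup G), k * s = g := fun g =>
    Subgroup.mem_sup_of_normal_left.mp (by
      rw [sup_comm, Transfer.sylow_sup_pResidual]; trivial)
  obtain ⟨k, hk, s, hs, rfl⟩ := hg g
  obtain ⟨k', hk', s', hs', rfl⟩ := hg x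
  have hss : s * s' = s' * s := congrArg Subtype.val (mul_comm (⟨s, hs⟩ : (P : Subgroup G)) ⟨s', hs'⟩)
  have e : k * s * (k' * s') * (k * s)⁻¹ * (k' * s')⁻¹ =
      k * (s * k' * s⁻¹) * (s * s' * s⁻¹ * k⁻¹ * (s * s' * s⁻¹)⁻¹) * k'⁻¹ := by
    rw [show s * s' * s⁻¹ = s' by rw [hss, mul_inv_cancel_right]]
    calc k * s * (k' * s') * (k * s)⁻¹ * (k' * s')⁻¹
        = k * (s * k' * s⁻¹) * (s * s' * s⁻¹) * k⁻¹ * s'⁻¹ * k'⁻¹ := by group
      _ = k * (s * k' * s⁻¹) * (s' * k⁻¹ * s'⁻¹) * k'⁻¹ := by
        rw [show s * s' * s⁻¹ = s' by rw [hss, mul_inv_cancel_right]]; group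
  rw [e]
  exact Subgroup.mul_mem _ (Subgroup.mul_mem _ (Subgroup.mul_mem _ hk
    (Subgroup.Normal.conj_mem inferInstance _ hk' s))
    (Subgroup.Normal.conj_mem inferInstance _ (Subgroup.inv_mem _ hk) _)) (Subgroup.inv_mem _ hk')

end Cfsg.Agent.S2971
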