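import Cfsg.Statements.S2972
import Cfsg.Agent.Lib.IsolatedMin.Basic
import Cfsg.Agent.Lib.Perm.MinimalNormal
import Cfsg.Agent.Lib.Transfer.Sylow
import Cfsg.Agent.Lib.Transfer.Alperin
import Cfsg.Agent.Lib.Transfer.Focal
import Cfsg.Agent.Lib.PSolvable.Core
import Cfsg.Agent.Lib.PSolvable.Constrained
import Cfsg.Agent.Lib.TightlyEmbedded.Basic

set_option autoImplicit false
open Cfsg
open scoped commutatorElement
set_option linter.style.haveILetI false

namespace Cfsg.Agent.S2972

/-- Let G be a finite group, p a prime and x ∈ G an isolated element of order p (the only conjugate of x commuting with x is x) which is not central modulo the largest normal subgroup of order prime to p, while x is central modulo the largest normal subgroup of order prime to p in every proper subgroup containing x, and the image of x is so in every quotient of G by a nontrivial normal subgroup (a minimal counterexample to the Z*_p statement). Then the derived subgroup G' is a non-abelian simple group and G = G'⟨x⟩.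 -/
theorem result {G : Type*} [Group G] [Finite G] {p : ℕ} [Fact p.Prime] (x : G) (hx : orderOf x = p) (hiso : Cfsg.IsIsolated x) (hnz : ¬ Cfsg.InZStar p x) (hmin : ∀ (H : Subgroup G) (hxH : x ∈ H), H ≠ ⊤ → Cfsg.InZStar p (⟨x, hxH⟩ : ↥H)) (hquot : ∀ (N : Subgroup G) [N.Normal], N ≠ ⊥ → Cfsg.InZStar p (QuotientGroup.mk x : G ⧸ N)) : IsSimpleGroup ↥(commutator G) ∧ ¬ IsMulCommutative ↥(commutator G) ∧ commutator G ⊔ Subgroup.zpowers x = ⊤ := by
  classical
  haveI hKn := CfsgLib.Transfer.pPrimeCore_normal p G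
  have hcomm_false : (∀ g : G, Commute x (g * x * g⁻¹)) → False := fun h => hnz fun g => by
    rw [hiso g (h g), mul_inv_cancel]; exact one_mem _
  -- the core is trivial
  have hO : Cfsg.pPrimeCore p G = ⊥ := by
    by_contra hne
    apply hnz
    intro g
    have h1 := hquot (Cfsg.pPrimeCore p G) hne (QuotientGroup.mk g)
    rw [CfsgLib.PSolvable.pPrimeCore_eq_bot_of_ker (QuotientGroup.mk'_surjective _)
      (QuotientGroup.ker_mk' _), Subgroup.mem_bot, ← QuotientGroup.mk_mul, ← QuotientGroup.mk_inv,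
      ← QuotientGroup.mk_mul, ← QuotientGroup.mk_inv, ← QuotientGroup.mk_mul,
      QuotientGroup.eq_one_iff] at h1
    exact h1
  have hOM : ∀ M : Subgroup G, M.Normal → Cfsg.pPrimeCore p M = ⊥ := fun M hM => by
    haveI := hM
    have h1 := CfsgLib.PSolvable.map_pPrimeCore_le (p := p) M
    rw [hO, le_bot_iff] at h1
    exact (Subgroup.map_eq_bot_iff_of_injective _ M.subtype_injective).mp h1
  have htop : ∀ H : Subgroup G, H.Normal → x ∈ H → H = ⊤ := by
    intro H hH hxH
    by_contra hne
    refine hcomm_false fun g => ?_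
    have h1 := hmin H hxH hne ⟨g * x * g⁻¹, hH.conj_mem x hxH g⟩
    rw [hOM H hH, Subgroup.mem_bot, mul_inv_eq_one, mul_inv_eq_iff_eq_mul] at h1
    exact (congrArg Subtype.val h1).symm
  have hsplit : ∀ M : Subgroup G, M.Normal → M ⊔ Subgroup.zpowers x = ⊤ ∨ M ≤ Subgroup.center G := by
    intro M hM
    by_cases hne : M ⊔ Subgroup.zpowers x = ⊤
    · exact Or.inl hne
    right
    haveI := hM
    have hxH : x ∈ M ⊔ Subgroup.zpowers x := Subgroup.mem_sup_right (Subgroup.mem_zpowers x)
    have hcent : x ∈ Subgroup.centralizer (M : Set G) := by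
      intro m hm
      have h1 := hmin _ hxH hne ⟨m, Subgroup.mem_sup_left hm⟩
      set H := M ⊔ Subgroup.zpowers x
      haveI := CfsgLib.Transfer.pPrimeCore_normal p H
      set D := (Cfsg.pPrimeCore p H).map H.subtype ⊓ M with hD
      haveI hDn : (D.subgroupOf M).Normal := by
        refine Subgroup.normal_subgroupOf_of_le_normalizer ?_
        intro y hy
        rw [Subgroup.mem_normalizer_iff]
        refine fun z => and_congr ⟨?_, ?_⟩ ⟨fun hz => hM.conj_mem z hz y, fun hz => by
          have := hM.conj_mem _ hz y⁻¹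
          rwa [show y⁻¹ * (y * z * y⁻¹) * y⁻¹⁻¹ = z by group] at this⟩
        · rintro ⟨w, hw, rfl⟩
          exact ⟨⟨y, Subgroup.mem_sup_left hy⟩ * w * ⟨y, Subgroup.mem_sup_left hy⟩⁻¹,
            Subgroup.Normal.conj_mem inferInstance w hw _, rfl⟩
        · rintro ⟨w, hw, he⟩
          refine ⟨(⟨y, Subgroup.mem_sup_left hy⟩ : H)⁻¹ * w * ⟨y, Subgroup.mem_sup_left hy⟩,
            ?_, ?_⟩
          · have h := Subgroup.Normal.conj_mem
              (inferInstance : (Cfsg.pPrimeCore p H).Normal) w hw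
              (⟨y, Subgroup.mem_sup_left hy⟩ : H)⁻¹
            simpa using h
          change y⁻¹ * (w : G) * y = z
          rw [show (w : G) = y * z * y⁻¹ from he]; group
      have hDc : (Nat.card (D.subgroupOf M)).Coprime p := by
        rw [Nat.card_congr (Subgroup.subgroupOfEquivOfLe (inf_le_right : D ≤ M)).toEquiv]
        refine Nat.Coprime.coprime_dvd_left (Subgroup.card_dvd_of_le inf_le_left) ?_
        rw [Subgroup.card_map_of_injective H.subtype_injective]
        exact CfsgLib.Transfer.pPrimeCore_coprime p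
      have hD0 := CfsgLib.Transfer.le_pPrimeCore hDn hDc
      rw [hOM M hM, le_bot_iff, Subgroup.subgroupOf_eq_bot] at hD0
      have hmem : m * x * m⁻¹ * x⁻¹ ∈ M := by
        have h2 := mul_mem hm (hM.conj_mem _ (inv_mem hm) x)
        rw [show m * (x * m⁻¹ * x⁻¹) = m * x * m⁻¹ * x⁻¹ by group] at h2
        exact h2
      have h3 : m * x * m⁻¹ * x⁻¹ ∈ D := ⟨⟨_, h1, rfl⟩, hmem⟩
      have h4 : m * x * m⁻¹ * x⁻¹ = 1 :=
        Subgroup.mem_bot.mp (hD0.le_bot (⟨h3, hmem⟩ : _ ∈ D ⊓ M))
      exact mul_inv_eq_iff_eq_mul.mp (mul_inv_eq_one.mp h4)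
    have hC := htop _ Subgroup.normal_centralizer hcent
    intro m hm
    rw [Subgroup.mem_center_iff]
    intro g
    exact ((hC ▸ Subgroup.mem_top g : g ∈ Subgroup.centralizer (M : Set G)) m hm).symm
  -- the minimal normal subgroups
  haveI : Finite (Subgroup G) := Finite.of_injective (fun K => (K : Set G)) SetLike.coe_injective
  have hGne : Nontrivial G := ⟨x, 1, fun h => by
    rw [h, orderOf_one] at hx; exact (Fact.out : p.Prime).ne_one hx.symm⟩
  obtain ⟨N, -, ⟨hNn, hN⟩, hNmin'⟩ := (Set.toFinite {R : Subgroup G | R.Normal ∧ R ≠ ⊥}).exists_le_minimal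
    (show (⊤ : Subgroup G) ∈ {R : Subgroup G | R.Normal ∧ R ≠ ⊥} from ⟨inferInstance, top_ne_bot⟩)
  haveI := hNn
  have hNmin : ∀ K : Subgroup G, K.Normal → K ≤ N → K ≠ ⊥ → K = N :=
    fun R hR hle hR0 => le_antisymm hle (hNmin' ⟨hR, hR0⟩ hle)
  have hNx : N ⊔ Subgroup.zpowers x = ⊤ := by
    refine (hsplit N hNn).resolve_right fun hZ => ?_
    haveI := CfsgLib.Transfer.pPrimeCore_normal p (G ⧸ N)
    set M := (Cfsg.pPrimeCore p (G ⧸ N)).comap (QuotientGroup.mk' N) with hM
    haveI hMn : M.Normal := by rw [hM]; infer_instance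
    have hcom : ∀ g : G, g * x * g⁻¹ * x⁻¹ ∈ M := fun g => hquot N hN (QuotientGroup.mk g)
    have hgx : ∀ g : G, (g * x * g⁻¹ * x⁻¹) * x = g * x * g⁻¹ := fun g => by group
    rcases hsplit M hMn with hMx | hMc
    · -- `M` has a central Sylow subgroup `N`
      have hNM : N ≤ M := by
        intro n hn
        rw [hM, Subgroup.mem_comap, QuotientGroup.mk'_apply, (QuotientGroup.eq_one_iff n).mpr hn]
        exact one_mem _
      have hNp : IsPGroup p N := by
        refine CfsgLib.PSolvable.isPGroup_of_forall_coprime fun y hy hc => ?_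
        have hn : (Subgroup.zpowers y).Normal := ⟨fun z hz g => by
          obtain ⟨k, rfl⟩ := Subgroup.mem_zpowers_iff.mp hz
          rw [Subgroup.mem_center_iff.mp (zpow_mem (hZ hy) k) g, mul_inv_cancel_right]
          exact Subgroup.zpow_mem _ (Subgroup.mem_zpowers y) k⟩
        have h1 := CfsgLib.Transfer.le_pPrimeCore hn (by rwa [Nat.card_zpowers])
        rw [hO, le_bot_iff, Subgroup.zpowers_eq_bot] at h1
        exact h1
      have hidx : ¬ p ∣ (N.subgroupOf M).index := by
        rw [← Subgroup.relIndex]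
        intro hd
        have h1 : (⊥ : Subgroup (G ⧸ N)).comap (QuotientGroup.mk' N) = N := by
          rw [MonoidHom.comap_bot, QuotientGroup.ker_mk']
        have e : N.relIndex M = Nat.card (Cfsg.pPrimeCore p (G ⧸ N)) := by
          calc N.relIndex M = ((⊥ : Subgroup (G ⧸ N)).comap (QuotientGroup.mk' N)).relIndex M := by
                rw [h1]
            _ = _ := by
                rw [Subgroup.relIndex_comap, hM,
                  Subgroup.map_comap_eq_self_of_surjective (QuotientGroup.mk'_surjective _),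
                  Subgroup.relIndex_bot_left]
        rw [e] at hd
        exact (Fact.out : p.Prime).coprime_iff_not_dvd.mp
          (CfsgLib.Transfer.pPrimeCore_coprime p).symm hd
      let P : Sylow p M := (hNp.comap_of_injective _ M.subtype_injective).toSylow hidx
      have hPc : (P : Subgroup M) ≤ Subgroup.center M := by
        intro y hy
        rw [Subgroup.mem_center_iff]
        exact fun z => Subtype.ext (Subgroup.mem_center_iff.mp (hZ hy) z)
      have hres : Cfsg.pResidual p M = ⊥ := by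
        rw [← CfsgLib.Transfer.pPrimeCore_eq_pResidual
          (CfsgLib.Transfer.hasNormalPComplement_of_central P hPc)]
        exact hOM M hMn
      have hMp : IsPGroup p M := CfsgLib.PSolvable.isPGroup_of_forall_coprime fun y hy hc => by
        have h2 := CfsgLib.Transfer.mem_pResidual_of_coprime (G := M) (x := ⟨y, hy⟩)
          (by rwa [← Subgroup.orderOf_coe])
        rw [hres, Subgroup.mem_bot] at h2
        exact congrArg Subtype.val h2
      have hMN : M ≤ N := CfsgLib.TightlyEmbedded.le_of_not_dvd_relIndex hNM le_rfl hMp hidx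
      exact hcomm_false fun g => by
        rw [← hgx g]
        exact (show Commute x (g * x * g⁻¹ * x⁻¹) from
          Subgroup.mem_center_iff.mp (hZ (hMN (hcom g))) x).mul_right (Commute.refl x)
    · exact hcomm_false fun g => by
        rw [← hgx g]
        exact (show Commute x (g * x * g⁻¹ * x⁻¹) from
          Subgroup.mem_center_iff.mp (hMc (hcom g)) x).mul_right (Commute.refl x)
  -- `G` is not abelian, so `N` is its derived group
  have hGab : ¬ (commutator G = ⊥) := fun h => hcomm_false fun g => by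
    have h1 : ⁅g, x⁆ ∈ commutator G :=
      commutator_def G ▸ Subgroup.commutator_mem_commutator (Subgroup.mem_top g) (Subgroup.mem_top x)
    rw [h, Subgroup.mem_bot, commutatorElement_def] at h1
    rw [mul_inv_eq_one.mp h1]
  have hform : ∀ g : G, ∃ n ∈ N, ∃ k : ℤ, n * x ^ k = g := by
    intro g
    have h1 : g ∈ ((N ⊔ Subgroup.zpowers x : Subgroup G) : Set G) := hNx ▸ Subgroup.mem_top g
    rw [Subgroup.normal_mul] at h1
    obtain ⟨n, hn, z, ⟨k, rfl⟩, rfl⟩ := h1
    exact ⟨n, hn, k, rfl⟩
  have hder : commutator G = N := by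
    refine hNmin _ inferInstance ?_ hGab
    rw [commutator_def, Subgroup.commutator_le]
    intro a _ b _
    obtain ⟨n, hn, i, rfl⟩ := hform a
    obtain ⟨m, hm, j, rfl⟩ := hform b
    rw [← QuotientGroup.eq_one_iff]
    have hn' : (n : G ⧸ N) = 1 := (QuotientGroup.eq_one_iff n).mpr hn
    have hm' : (m : G ⧸ N) = 1 := (QuotientGroup.eq_one_iff m).mpr hm
    show QuotientGroup.mk' N ⁅n * x ^ i, m * x ^ j⁆ = 1
    rw [map_commutatorElement, map_mul, map_mul, map_zpow, map_zpow,
      show QuotientGroup.mk' N n = 1 from hn', show QuotientGroup.mk' N m = 1 from hm',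
      one_mul, one_mul, commutatorElement_eq_one_iff_commute]
    exact (Commute.refl _).zpow_zpow i j
  rw [hder]
  -- a minimal `N`-invariant subgroup `T` of `N`
  obtain ⟨T, ⟨hT, hTne⟩, hTmin'⟩ := Set.Finite.exists_minimalFor id
    {K : Subgroup G | CfsgLib.MinimalNormal.Inv N K ∧ K ≠ ⊥} (Set.toFinite _)
    ⟨N, ⟨le_rfl, fun n hn k hk => mul_mem (mul_mem hn hk) (inv_mem hn)⟩, hN⟩
  have hTmin : ∀ K : Subgroup G, CfsgLib.MinimalNormal.Inv N K → K ≤ T → K ≠ ⊥ → K = T :=
    fun K hK hKT h => le_antisymm hKT (hTmin' (j := K) ⟨hK, h⟩ hKT)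
  have hNT : N ≤ Subgroup.normalizer (T : Set G) := fun n hn => by
    rw [← CfsgLib.Transfer.map_conj_eq_self_iff]
    refine Subgroup.eq_of_le_of_card_ge ?_ (by rw [CfsgLib.Transfer.card_conj_map])
    rintro _ ⟨t, ht, rfl⟩
    exact hT.2 n hn t ht
  -- `N` is not abelian
  have hNab : ¬ N ≤ Subgroup.centralizer (N : Set G) := by
    intro hab
    have hNp : IsPGroup p N := by
      refine CfsgLib.PSolvable.isPGroup_of_forall_coprime fun y hy hc => ?_
      have hn : ((Subgroup.zpowers y).subgroupOf N).Normal := ⟨fun z hz g => by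
        have e : g * z * g⁻¹ = z := Subtype.ext (by
          show (g : G) * z * (g : G)⁻¹ = z
          rw [← hab g.2 z z.2, mul_inv_cancel_right])
        rw [e]; exact hz⟩
      have h1 := CfsgLib.Transfer.le_pPrimeCore hn (by
        rw [Nat.card_congr (Subgroup.subgroupOfEquivOfLe (Subgroup.zpowers_le.mpr hy)).toEquiv,
          Nat.card_zpowers]
        exact hc)
      rw [hOM N hNn, le_bot_iff, Subgroup.subgroupOf_eq_bot] at h1
      exact Subgroup.mem_bot.mp (h1.le_bot (⟨Subgroup.mem_zpowers y, hy⟩ : y ∈ Subgroup.zpowers y ⊓ N))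
    have hGp : IsPGroup p (⊤ : Subgroup G) := by
      rw [← hNx]
      exact hNp.to_sup_of_normal_left (CfsgLib.Transfer.isPGroup_zpowers ⟨1, by rw [hx, pow_one]⟩)
    have hGp' : IsPGroup p G := fun g => by
      obtain ⟨k, hk⟩ := hGp ⟨g, Subgroup.mem_top g⟩
      exact ⟨k, congrArg Subtype.val hk⟩
    -- the centre is nontrivial, so contains a minimal normal subgroup
    haveI := hGp'.center_nontrivial
    obtain ⟨Z, hZle, ⟨hZn, hZ⟩, -⟩ :=
      (Set.toFinite {R : Subgroup G | R.Normal ∧ R ≠ ⊥}).exists_le_minimal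
        (show Subgroup.center G ∈ {R : Subgroup G | R.Normal ∧ R ≠ ⊥} from
          ⟨inferInstance, (Subgroup.nontrivial_iff_ne_bot _).mp inferInstance⟩)
    have hnx : ¬ Subgroup.center G ⊔ Subgroup.zpowers x = ⊤ := fun h => hcomm_false fun g => by
      have hle : Subgroup.center G ⊔ Subgroup.zpowers x ≤ Subgroup.centralizer ({x} : Set G) :=
        sup_le (Subgroup.center_le_centralizer _) (Subgroup.zpowers_le.mpr
          (Subgroup.mem_centralizer_singleton_iff.mpr rfl))
      have h1 : g * x = x * g :=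
        Subgroup.mem_centralizer_singleton_iff.mp (hle (h ▸ Subgroup.mem_top g))
      rw [h1, mul_inv_cancel_right]
    rcases hsplit (N ⊓ Subgroup.center G) inferInstance with h1 | h1
    · exact hnx (top_le_iff.mp (h1.ge.trans (sup_le_sup_right inf_le_right _)))
    · have hNZ : N ⊓ Subgroup.center G ≠ ⊥ :=
        CfsgLib.IsolatedMin.inf_center_ne_bot hGp' N hN
      have := hNmin _ inferInstance inf_le_left hNZ
      exact hnx (top_le_iff.mp (hNx.ge.trans (sup_le_sup_right (this.ge.trans inf_le_right) _)))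
  refine ⟨?_, fun h => hNab fun a ha b hb => ?_, hNx⟩
  swap
  · exact congrArg Subtype.val (h.is_comm.comm ⟨b, hb⟩ ⟨a, ha⟩)
  by_cases hxT : x ∈ Subgroup.normalizer (T : Set G)
  · have hTn : T.Normal := by
      rw [← Subgroup.normalizer_eq_top_iff, eq_top_iff, ← hNx]
      exact sup_le hNT (Subgroup.zpowers_le.mpr hxT)
    have hTN : T = N := hNmin T hTn hT.1 hTne
    haveI : Nontrivial N := (Subgroup.nontrivial_iff_ne_bot _).mpr hN
    refine ⟨fun L hL => ?_⟩
    by_cases hL0 : L = ⊥
    · exact Or.inl hL0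
    right
    have hinv : CfsgLib.MinimalNormal.Inv N (L.map N.subtype) := ⟨Subgroup.map_subtype_le L, by
      rintro n hn _ ⟨l, hl, rfl⟩
      exact ⟨⟨n, hn⟩ * l * ⟨n, hn⟩⁻¹, hL.conj_mem l hl _, rfl⟩⟩
    have e := hTmin _ hinv (hTN.symm ▸ Subgroup.map_subtype_le L)
      (fun h => hL0 ((Subgroup.map_eq_bot_iff_of_injective _ N.subtype_injective).mp h))
    rw [hTN] at e
    refine Subgroup.map_injective N.subtype_injective ?_
    rw [e, ← MonoidHom.range_eq_map, Subgroup.range_subtype]
  exfalso
  set C : ℕ → Subgroup G := fun i => T.map (MulAut.conj (x ^ i)).toMonoidHom with hC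
  have hC0 : C 0 = T := by simp only [hC, pow_zero]; exact CfsgLib.Transfer.map_conj_one T
  have hCinv : ∀ i, CfsgLib.MinimalNormal.Inv N (C i) := fun i => hT.conj _
  have hCmin : ∀ i, ∀ K : Subgroup G, CfsgLib.MinimalNormal.Inv N K → K ≤ C i → K ≠ ⊥ → K = C i := by
    intro i K hK hle hne
    have hle' : K.map (MulAut.conj (x ^ i)⁻¹).toMonoidHom ≤ T := by
      refine (Subgroup.map_mono hle).trans (le_of_eq ?_)
      rw [hC, CfsgLib.Transfer.map_conj_mul, inv_mul_cancel, CfsgLib.Transfer.map_conj_one]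
    have e := hTmin _ (hK.conj _) hle' (fun h => hne
      ((Subgroup.map_eq_bot_iff_of_injective _ (MulAut.conj _).injective).mp h))
    show K = T.map (MulAut.conj (x ^ i)).toMonoidHom
    rw [← e, CfsgLib.Transfer.map_conj_mul, mul_inv_cancel, CfsgLib.Transfer.map_conj_one]
  have hdisj : ∀ i < p, ∀ j < p, i ≠ j → C i ⊓ C j = ⊥ := by
    intro i hi j hj hij
    by_contra hne
    have e1 := hCmin i _ ((hCinv i).inf (hCinv j)) inf_le_left hne
    have e2 := hCmin j _ ((hCinv i).inf (hCinv j)) inf_le_right hne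
    have e3 : C i = C j := e1.symm.trans e2
    have hmem : (x ^ j)⁻¹ * x ^ i ∈ Subgroup.normalizer (T : Set G) := by
      rw [← CfsgLib.Transfer.map_conj_eq_self_iff, ← CfsgLib.Transfer.map_conj_mul]
      rw [show T.map (MulAut.conj (x ^ i)).toMonoidHom = T.map (MulAut.conj (x ^ j)).toMonoidHom
        from e3, CfsgLib.Transfer.map_conj_mul, inv_mul_cancel, CfsgLib.Transfer.map_conj_one]
    set y := (x ^ j)⁻¹ * x ^ i with hy
    have hyz : y ∈ Subgroup.zpowers x :=
      mul_mem (inv_mem (pow_mem (Subgroup.mem_zpowers x) j)) (pow_mem (Subgroup.mem_zpowers x) i)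
    have hy1 : y ≠ 1 := fun h => hij (by
      have h1 : x ^ i = x ^ j := (inv_mul_eq_one.mp h).symm
      exact pow_injOn_Iio_orderOf (hx.symm ▸ hi) (hx.symm ▸ hj) h1)
    haveI hp' : Fact (Nat.card (Subgroup.zpowers x)).Prime :=
      ⟨by rw [Nat.card_zpowers, hx]; exact Fact.out⟩
    have hord : orderOf y = p := by
      have h1 := Subgroup.orderOf_coe (⟨y, hyz⟩ : Subgroup.zpowers x)
      have h2 : orderOf (⟨y, hyz⟩ : Subgroup.zpowers x) ∣ p :=
        hx ▸ Nat.card_zpowers x ▸ orderOf_dvd_natCard _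
      rw [← h1] at h2
      exact ((Nat.dvd_prime Fact.out).mp h2).resolve_left fun h => hy1 (orderOf_eq_one_iff.mp h)
    have he : Subgroup.zpowers y = Subgroup.zpowers x := Subgroup.eq_of_le_of_card_ge
      (Subgroup.zpowers_le.mpr hyz) (by rw [Nat.card_zpowers, Nat.card_zpowers, hord, hx])
    exact hxT ((he ▸ Subgroup.zpowers_le.mpr hmem : Subgroup.zpowers x ≤ _) (Subgroup.mem_zpowers x))
  have hcommC : ∀ i < p, ∀ j < p, i ≠ j → ∀ a ∈ C i, ∀ b ∈ C j, Commute a b :=
    fun i hi j hj hij a ha b hb => (hCinv i).commute (hCinv j) (hdisj i hi j hj hij) ha hb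
  -- `T` has trivial centre
  have hTc : T ⊓ Subgroup.centralizer (T : Set G) = ⊥ := by
    by_contra hne
    have hinv : CfsgLib.MinimalNormal.Inv N (T ⊓ Subgroup.centralizer (T : Set G)) := by
      refine ⟨inf_le_left.trans hT.1, fun n hn k hk => ⟨hT.2 n hn k hk.1, fun t ht => ?_⟩⟩
      have ht' : n⁻¹ * t * n ∈ T := by simpa using hT.2 n⁻¹ (inv_mem hn) t ht
      calc t * (n * k * n⁻¹) = n * ((n⁻¹ * t * n) * k) * n⁻¹ := by group
        _ = n * (k * (n⁻¹ * t * n)) * n⁻¹ := by rw [hk.2 _ ht']
        _ = _ := by group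
    have hab : T ≤ Subgroup.centralizer (T : Set G) :=
      (hTmin _ hinv inf_le_left hne).ge.trans inf_le_right
    have hle : ∀ h : G, T.map (MulAut.conj h).toMonoidHom ≤ Subgroup.centralizer (T : Set G) := by
      intro h
      obtain ⟨n, hn, k, rfl⟩ := hform h
      obtain ⟨i, hi, hik⟩ : ∃ i < p, x ^ i = x ^ k := by
        refine ⟨(k % (p : ℤ)).toNat, ?_, ?_⟩
        · have h1 := Int.emod_lt_of_pos k (by exact_mod_cast (Fact.out : p.Prime).pos : (0 : ℤ) < p)
          have h2 := Int.emod_nonneg k (by exact_mod_cast (Fact.out : p.Prime).ne_zero : (p : ℤ) ≠ 0)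
          omega
        · rw [← zpow_natCast, Int.toNat_of_nonneg
            (Int.emod_nonneg k (by exact_mod_cast (Fact.out : p.Prime).ne_zero)), ← hx, zpow_mod_orderOf]
      rw [← hik, ← CfsgLib.Transfer.map_conj_mul]
      have hCi : C i ≤ Subgroup.centralizer (T : Set G) := by
        by_cases hi0 : i = 0
        · rw [hi0, hC0]; exact hab
        · intro a ha t ht
          exact (hcommC i hi 0 (Fact.out : p.Prime).pos hi0 a ha t (hC0.symm ▸ ht)).eq.symm
      refine (Subgroup.map_mono hCi).trans ?_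
      rintro _ ⟨a, ha, rfl⟩ t ht
      have ht' : n⁻¹ * t * n ∈ T := by simpa using hT.2 n⁻¹ (inv_mem hn) t ht
      show t * (n * a * n⁻¹) = n * a * n⁻¹ * t
      calc t * (n * a * n⁻¹) = n * ((n⁻¹ * t * n) * a) * n⁻¹ := by group
        _ = n * (a * (n⁻¹ * t * n)) * n⁻¹ := by rw [ha _ ht']
        _ = _ := by group
    have hnc : Subgroup.normalClosure (T : Set G) = N :=
      hNmin _ Subgroup.normalClosure_normal (Subgroup.normalClosure_le_normal hT.1)
        fun h => hTne (le_bot_iff.mp (h ▸ Subgroup.le_normalClosure))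
    have hNT' : N ≤ Subgroup.centralizer (T : Set G) := by
      rw [← hnc, Subgroup.normalClosure, Subgroup.closure_le]
      intro y hy
      obtain ⟨a, ha, hc⟩ := Group.mem_conjugatesOfSet_iff.mp hy
      obtain ⟨c, hc⟩ := isConj_iff.mp hc
      exact hle c ⟨a, ha, by simpa using hc⟩
    haveI : (N ⊓ Subgroup.centralizer (N : Set G)).Normal :=
      haveI := (Subgroup.normal_centralizer : (Subgroup.centralizer (N : Set G)).Normal)
      inferInstance
    have hZN := hNmin (N ⊓ Subgroup.centralizer (N : Set G)) inferInstance inf_le_left fun h =>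
      hTne (le_bot_iff.mp (h ▸ le_inf hT.1 (Subgroup.le_centralizer_iff.mp hNT')))
    exact hNab (hZN.ge.trans inf_le_right)
  -- an element of order `p` in `T`
  have hpT : p ∣ Nat.card T := by
    by_contra hnd
    haveI hTNn : (T.subgroupOf N).Normal := Subgroup.normal_subgroupOf_of_le_normalizer hNT
    have h1 := CfsgLib.Transfer.le_pPrimeCore hTNn (by
      rw [Nat.card_congr (Subgroup.subgroupOfEquivOfLe hT.1).toEquiv]
      exact ((Fact.out : p.Prime).coprime_iff_not_dvd.mpr hnd).symm)
    rw [hOM N hNn, le_bot_iff, Subgroup.subgroupOf_eq_bot] at h1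
    exact hTne (le_bot_iff.mp ((le_inf le_rfl hT.1).trans h1.le_bot))
  obtain ⟨a, ha⟩ := exists_prime_orderOf_dvd_card' (G := T) p hpT
  have haG : orderOf (a : G) = p := (Subgroup.orderOf_coe a).trans ha
  obtain ⟨d, hd, hxd, g, hg⟩ := CfsgLib.IsolatedMin.exists_twist x (a : G) hx haG
    (fun i hi j hj hij => hcommC i hi j hj hij _ (Subgroup.mem_map_of_mem _ a.2)
      _ (Subgroup.mem_map_of_mem _ a.2))
    (Subgroup.centralizer (T : Set G)) (fun i hi hi0 t ht => by
      exact (hcommC 0 (Fact.out : p.Prime).pos i hi (Ne.symm hi0) t (hC0.symm ▸ ht) _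
        (Subgroup.mem_map_of_mem _ a.2)).eq)
  have hd1 : d ≠ 1 := by
    intro h
    rw [h] at hd
    have hac : (a : G) ∈ T ⊓ Subgroup.centralizer (T : Set G) := ⟨a.2, by simpa using hd⟩
    rw [hTc, Subgroup.mem_bot] at hac
    rw [hac, orderOf_one] at haG
    exact (Fact.out : p.Prime).ne_one haG.symm
  have h1 := hiso g (by rw [hg]; exact hxd.mul_right (Commute.refl x))
  rw [hg] at h1
  exact hd1 (mul_eq_right.mp h1)

end Cfsg.Agent.S2972
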