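import Cfsg.Statements.S2975
import Cfsg.Agent.S2972
import Cfsg.Agent.Lib.Coprime.Action

set_option autoImplicit false
open Cfsg
set_option linter.style.haveILetI false

namespace Cfsg.Agent.S2975

/-- Let G be a finite group, p a prime and x ∈ G an isolated element of order p (the only conjugate of x commuting with x is x) which is not central modulo the largest normal subgroup of order prime to p, while x is central modulo the largest normal subgroup of order prime to p in every proper subgroup containing x, and the image of x is so in every quotient of G by a nontrivial normal subgroup (a minimal counterexample to the Z*_p statement). Then for every prime q, every q-subgroup of G that is normalized by x and maximal among the q-subgroups normalized by x is either trivial or a Sylow q-subgroup of G; and C_G(x) permutes the x-invariant Sylow q-subgroups of G transitively by conjugation. -/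
theorem result {G : Type*} [Group G] [Finite G] {p : ℕ} [Fact p.Prime] (x : G) (hx : orderOf x = p) (hiso : Cfsg.IsIsolated x) (hnz : ¬ Cfsg.InZStar p x) (hmin : ∀ (H : Subgroup G) (hxH : x ∈ H), H ≠ ⊤ → Cfsg.InZStar p (⟨x, hxH⟩ : ↥H)) (hquot : ∀ (N : Subgroup G) [N.Normal], N ≠ ⊥ → Cfsg.InZStar p (QuotientGroup.mk x : G ⧸ N)) (q : ℕ) [Fact q.Prime] : (∀ Q : Subgroup G, IsPGroup q ↥Q → x ∈ Subgroup.normalizer (Q : Set G) → (∀ R : Subgroup G, IsPGroup q ↥R → x ∈ Subgroup.normalizer (R : Set G) → Q ≤ R → R = Q) → Q = ⊥ ∨ ∃ S : Sylow q G, (S : Subgroup G) = Q) ∧ (∀ S₁ S₂ : Sylow q G, x ∈ Subgroup.normalizer ((S₁ : Subgroup G) : Set G) → x ∈ Subgroup.normalizer ((S₂ : Subgroup G) : Set G) → ∃ c ∈ Subgroup.centralizer ({x} : Set G), (S₁ : Subgroup G).map (MulAut.conj c).toMonoidHom = (S₂ : Subgroup G)) := by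
  classical
  haveI := CfsgLib.Transfer.pPrimeCore_normal p G
  have hO : Cfsg.pPrimeCore p G = ⊥ := by
    by_contra hne
    apply hnz
    intro g
    have h1 := hquot (Cfsg.pPrimeCore p G) hne (QuotientGroup.mk g)
    rw [CfsgLib.PSolvable.pPrimeCore_eq_bot_of_ker (QuotientGroup.mk'_surjective _)
      (QuotientGroup.ker_mk' _), Subgroup.mem_bot, ← QuotientGroup.mk_mul, ← QuotientGroup.mk_inv,
      ← QuotientGroup.mk_mul, ← QuotientGroup.mk_inv, ← QuotientGroup.mk_mul,
      QuotientGroup.eq_one_iff] at h1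
    exact h1
  have hxp : IsPGroup p (Subgroup.zpowers x) :=
    CfsgLib.Transfer.isPGroup_zpowers ⟨1, by rw [hx, pow_one]⟩
  -- `x` is central in every `p`-subgroup containing it
  have hcent : ∀ P : Subgroup G, IsPGroup p P → x ∈ P → ∀ y ∈ P, Commute x y := by
    intro P hP hxP y hy
    have hne : P ≠ ⊤ := by
      rintro rfl
      obtain ⟨hsimp, hnc, -⟩ := Cfsg.Agent.S2972.result x hx hiso hnz hmin hquot
      have hD : IsPGroup p (commutator G) := hP.to_le le_top
      haveI := hsimp.toNontrivial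
      haveI := hD.center_nontrivial
      refine hnc ⟨⟨fun a b => ?_⟩⟩
      have h := (Subgroup.center (commutator G)).normal_of_characteristic
      rcases hsimp.eq_bot_or_eq_top_of_normal _ h with h | h
      · exact absurd h ((Subgroup.nontrivial_iff_ne_bot _).mp inferInstance)
      · exact Subgroup.mem_center_iff.mp (h ▸ Subgroup.mem_top b) a
    haveI := CfsgLib.Transfer.pPrimeCore_normal p P
    have h0 : Cfsg.pPrimeCore p P = ⊥ := by
      rw [eq_bot_iff]
      intro z hz
      rw [Subgroup.mem_bot, ← orderOf_eq_one_iff]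
      obtain ⟨k, hk⟩ := IsPGroup.iff_orderOf.mp hP z
      have h1 := CfsgLib.Transfer.coprime_orderOf_of_mem (CfsgLib.Transfer.pPrimeCore_coprime p) hz
      exact orderOf_eq_one_iff.mpr (CfsgLib.Transfer.orderOf_eq_one_of_coprime_of_isPGroup hP h1)
    have h1 := hmin P hxP hne ⟨y, hy⟩
    rw [h0, Subgroup.mem_bot, mul_inv_eq_one, mul_inv_eq_iff_eq_mul] at h1
    exact (congrArg Subtype.val h1).symm
  refine ⟨fun Q hQ hxQ hQmax => ?_, fun S₁ S₂ hx₁ hx₂ => ?_⟩
  swap
  · obtain ⟨h, hh⟩ := CfsgLib.Transfer.exists_map_conj_sylow_eq S₁ S₂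
    set N₂ := Subgroup.normalizer ((S₂ : Subgroup G) : Set G) with hN₂
    have hy : h * x * h⁻¹ ∈ N₂ := by
      rw [hN₂, ← hh, CfsgLib.Transfer.normalizer_map_conj]
      exact Subgroup.mem_map_of_mem _ hx₁
    obtain ⟨P, hP⟩ := (hxp.comap_of_injective _ N₂.subtype_injective).exists_le_sylow
    have hyp : IsPGroup p (Subgroup.zpowers (⟨_, hy⟩ : N₂)) :=
      CfsgLib.Transfer.isPGroup_zpowers ⟨1, by
        rw [← Subgroup.orderOf_coe, CfsgLib.Transfer.orderOf_conj, hx, pow_one]⟩
    obtain ⟨a, ha⟩ := CfsgLib.Transfer.exists_map_conj_le_sylow hyp P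
    set P' := (P : Subgroup N₂).map N₂.subtype with hP'
    have hxP : x ∈ P' := ⟨⟨x, hx₂⟩, hP (Subgroup.mem_zpowers x), rfl⟩
    have hyP : (a : G) * h * x * ((a : G) * h)⁻¹ ∈ P' := by
      refine ⟨_, ha (Subgroup.mem_map_of_mem _ (Subgroup.mem_zpowers _)), ?_⟩
      show (a : G) * (h * x * h⁻¹) * (a : G)⁻¹ = _
      group
    have he := hiso _ (hcent P' (P.2.map _) hxP _ hyP)
    refine ⟨(a : G) * h, Subgroup.mem_centralizer_singleton_iff.mpr (mul_inv_eq_iff_eq_mul.mp he), ?_⟩
    rw [← CfsgLib.Transfer.map_conj_mul, hh, CfsgLib.Transfer.map_conj_eq_self_iff]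
    exact a.2
  by_cases hQ0 : Q = ⊥
  · exact Or.inl hQ0
  right
  obtain ⟨T, hT⟩ := hQ.exists_le_sylow
  refine ⟨T, ?_⟩
  by_contra hne
  have hlt : Q < (T : Subgroup G) := lt_of_le_of_ne hT (Ne.symm hne)
  by_cases hqp : q = p
  · subst hqp
    have h1 : IsPGroup q ↥(Q ⊔ Subgroup.zpowers x) :=
      hQ.to_sup_of_normal_left' hxp (Subgroup.zpowers_le.mpr hxQ)
    obtain ⟨R, hR⟩ := h1.exists_le_sylow
    have hxR : x ∈ (R : Subgroup G) := hR (Subgroup.mem_sup_right (Subgroup.mem_zpowers x))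
    have he := hQmax _ R.2 (Subgroup.le_normalizer hxR) (le_sup_left.trans hR)
    have hc : Nat.card (T : Subgroup G) = Nat.card (R : Subgroup G) :=
      Nat.card_congr (T.equiv R).toEquiv
    rw [he] at hc
    exact hlt.ne (Subgroup.eq_of_le_of_card_ge hT hc.le)
  set H := Subgroup.normalizer (Q : Set G) with hH
  have hHtop : H ≠ ⊤ := by
    intro h
    haveI : Q.Normal := Subgroup.normalizer_eq_top_iff.mp h
    obtain ⟨k, hk⟩ := IsPGroup.iff_card.mp hQ
    have h1 : Q ≤ Cfsg.pPrimeCore p G := CfsgLib.Transfer.le_pPrimeCore inferInstance (by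
      rw [hk]
      exact Nat.Coprime.pow_left k ((Nat.coprime_primes Fact.out Fact.out).mpr hqp))
    rw [hO, le_bot_iff] at h1
    exact hQ0 h1
  have hlt2 := CfsgLib.Transfer.lt_inf_normalizer T.2 hlt
  obtain ⟨T', hT'⟩ := ((T.2.to_le (inf_le_left : (T : Subgroup G) ⊓ H ≤ _)).comap_of_injective _
    H.subtype_injective).exists_le_sylow
  set K := Cfsg.pPrimeCore p H with hK
  haveI hKn : K.Normal := CfsgLib.Transfer.pPrimeCore_normal p H
  set x' : H := ⟨x, hxQ⟩ with hx'
  set M := K ⊔ (T' : Subgroup H) with hM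
  have hMc : (Nat.card M).Coprime p := by
    refine CfsgLib.Transfer.coprime_card_sup_of_normal hKn (CfsgLib.Transfer.pPrimeCore_coprime p) ?_
    obtain ⟨k, hk⟩ := IsPGroup.iff_card.mp T'.2
    rw [hk]
    exact Nat.Coprime.pow_left k ((Nat.coprime_primes Fact.out Fact.out).mpr hqp)
  have hcomm : ∀ h : H, h * x' * h⁻¹ * x'⁻¹ ∈ K := hmin H hxQ hHtop
  have hxM : Subgroup.zpowers x' ≤ Subgroup.normalizer (M : Set H) := by
    rw [Subgroup.zpowers_le, ← CfsgLib.Transfer.map_conj_eq_self_iff]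
    refine Subgroup.eq_of_le_of_card_ge ?_ (by rw [CfsgLib.Transfer.card_conj_map])
    rintro _ ⟨m, hm, rfl⟩
    have h1 : m * x' * m⁻¹ * x'⁻¹ ∈ M := Subgroup.mem_sup_left (hcomm m)
    have h2 := mul_mem (inv_mem h1) hm
    have e : (m * x' * m⁻¹ * x'⁻¹)⁻¹ * m = x' * m * x'⁻¹ := by group
    rw [e] at h2
    exact h2
  have hQM : Q.subgroupOf H ≤ M := fun y hy =>
    Subgroup.mem_sup_right (hT' ⟨hT hy, y.2⟩)
  obtain ⟨P, hQP, hxP⟩ := CfsgLib.Coprime.exists_invariant_sylow_ge (p := q) hxM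
    (by rw [Nat.card_zpowers, show orderOf x' = p from (Subgroup.orderOf_coe x').symm.trans hx]
        exact hMc.symm)
    (Or.inl (isSolvable_of_comm fun a b => mul_comm' a b)) hQM
    (hQ.comap_of_injective _ H.subtype_injective) (by
      rw [Subgroup.zpowers_le]
      refine Subgroup.le_normalizer_comap H.subtype ?_
      exact hxQ)
  set P₁ := (P : Subgroup M).map M.subtype with hP₁
  have hle : Q ≤ P₁.map H.subtype := fun y hy =>
    ⟨⟨y, Subgroup.le_normalizer hy⟩, hQP hy, rfl⟩
  have hxn : x ∈ Subgroup.normalizer ((P₁.map H.subtype : Subgroup G) : Set G) :=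
    Subgroup.le_normalizer_map H.subtype ⟨x', hxP (Subgroup.mem_zpowers _), rfl⟩
  have he := hQmax _ ((P.2.map _).map _) hxn hle
  -- compare orders
  obtain ⟨P', hP'⟩ := (T'.2.comap_of_injective M.subtype M.subtype_injective).exists_le_sylow
  have h1 : Nat.card (T' : Subgroup H) ≤ Nat.card P₁ := by
    rw [hP₁, Subgroup.card_map_of_injective M.subtype_injective,
      Nat.card_congr (P.equiv P').toEquiv,
      ← Nat.card_congr (Subgroup.subgroupOfEquivOfLe (le_sup_right : (T' : Subgroup H) ≤ M)).toEquiv]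
    exact Subgroup.card_le_of_le hP'
  have h2 : Nat.card ↥((T : Subgroup G) ⊓ H) ≤ Nat.card (T' : Subgroup H) := by
    rw [← Nat.card_congr (Subgroup.subgroupOfEquivOfLe
      (inf_le_right : (T : Subgroup G) ⊓ H ≤ H)).toEquiv]
    exact Subgroup.card_le_of_le hT'
  have h3 := h2.trans h1
  rw [← Subgroup.card_map_of_injective H.subtype_injective (K := P₁), he] at h3
  exact hlt2.ne (Subgroup.eq_of_le_of_card_ge hlt2.le h3)

end Cfsg.Agent.S2975
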