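import Cfsg.Statements.S2989
import Cfsg.Agent.Lib.PushRankOne.CLPush
import Cfsg.Agent.S3007
import Cfsg.Agent.S3005

set_option autoImplicit false
open Cfsg

namespace Cfsg.Agent.S2989

/-- Let G be a finite group and S a Sylow p-subgroup of G in the basic pushing-up situation (G ≠ 1, C_G(O_p(G)) ≤ O_p(G), S lies in a unique maximal subgroup of G, and some quotient of G is isomorphic to PSL₂ over a field of order a power of p), and suppose that S centralizes Z(J(S)), where J(S) is generated by the abelian subgroups of S of largest order (that is, J̃(S) = C_S(Z(J(S))) = S). Call a subgroup R of S centrally large if |R|·|Z(R)| is as large as possible among subgroups of S, and let S_Φ be the subgroup generated by the Frattini subgroups Φ(Q) of those minimal centrally large subgroups Q of S whose Ω₁(Z(Q)) has the largest order among minimal centrally large subgroups. Then Z(S) or S_Φ is normal in G; and if S_Φ = 1, the minimal centrally large subgroups of S are exactly the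 abelian subgroups of S of largest order, and at least one of them is elementary abelian. -/
theorem result {G : Type*} [Group G] [Finite G] {p : ℕ} [Fact p.Prime] (S : Subgroup G) (hE : Cfsg.IsPushingUpSituation p S) (hJ : S ≤ Subgroup.centralizer (Cfsg.centerThompsonAOf S : Set G)) : ((S ⊓ Subgroup.centralizer (S : Set G)).Normal ∨ ((Cfsg.frattiniOfMinimalCLJoin p ↥S).map S.subtype).Normal) ∧ (Cfsg.frattiniOfMinimalCLJoin p ↥S = ⊥ → (∀ Q : Subgroup ↥S, Cfsg.IsMinimalCentrallyLarge Q ↔ Q ∈ Cfsg.maxAbelianSubgroups ↥S) ∧ ∃ A ∈ Cfsg.maxAbelianSubgroups ↥S, Cfsg.IsElementaryAbelian p A) := by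
  obtain ⟨-, ⟨P, rfl⟩, hE₁, hE₂, K, hK, F, hF, hFt, n, hcard, hiso⟩ := hE
  letI := hF
  letI := hFt
  haveI := hK
  haveI : CharP F p := CfsgLib.SL2Module.Baumann.charP_of_card n hcard
  obtain ⟨M, π, st⟩ := CfsgLib.SL2Module.Baumann.exists_setting (F := F) P hE₁ hE₂ K hiso
  refine ⟨CfsgLib.PushRankOne.frattini_case st hJ, fun h => ?_⟩
  obtain ⟨-, -, -, hcl, -⟩ := Cfsg.Agent.S3005.result (p := p) ↥(P : Subgroup G) P.2
  obtain ⟨R, -, hR⟩ := CfsgLib.CD.Offender.exists_mcl_le hcl
  obtain ⟨Q, hQ, hQm⟩ := Nat.sSup_mem (s := {k : ℕ | ∃ Q : Subgroup ↥(P : Subgroup G),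
    Cfsg.IsMinimalCentrallyLarge Q ∧ Nat.card ↥(Cfsg.omegaOneCenter p Q) = k}) ⟨_, R, hR, rfl⟩
    ⟨Nat.card ↥(P : Subgroup G), by rintro k ⟨X, -, rfl⟩; exact Subgroup.card_le_card_group _⟩
  have hphi : CfsgLib.CD.Offender.phi Q = ⊥ :=
    le_bot_iff.1 (h ▸ le_iSup_of_le ⟨Q, hQ, hQm⟩ le_rfl)
  have hel := CfsgLib.CD.Offender.elementary_of_phi_eq_bot (p := p) (P.2.to_subgroup Q) hphi
  have hiff := (Cfsg.Agent.S3007.result (p := p) ↥(P : Subgroup G) P.2 Q Q hQ hQ).2.2.2.2 hel.1
  exact ⟨hiff, Q, (hiff Q).1 hQ, hel⟩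

end Cfsg.Agent.S2989
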