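import Cfsg.Statements.S2991
import Cfsg.Agent.Lib.PushFamily.Exceptional

set_option autoImplicit false
universe u
open scoped Pointwise
open Cfsg
open scoped IsMulCommutative commutatorElement

namespace Cfsg.Agent.S2991

/-- Let p be a prime and S a nontrivial finite p-group; write J(S) for the subgroup generated by the abelian subgroups of S of largest order and J̃(S) = C_S(Z(J(S))), and call a subgroup R of a p-group X centrally large in X if |R|·|Z(R)| is as large as possible among subgroups of X. Unless S satisfies all of: S is non-abelian; J(S) = S; Z(S) and Φ(S) are elementary abelian; Φ(S) ≤ Z(S) if p = 2, Φ(S) ≤ Z₂(S) if p = 3, Φ(S) ≤ Z(S) with S of exponent p if p > 3; and for all abelian subgroups A, B of largest order and all subgroups Q of S, |A|² = |S|·|Z(S)| ≥ |Q|·|Z(Q)| and ⟨A, B⟩ = AB = C_S(A ∩ B) — there exist nontrivial characteristic subgroups S₁ ≤ Z(S) and S₂ ≤ J̃(S) of S, S₂ characteristic in J̃(S)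 and containing a centrally large subgroup of J̃(S) (the largest value of |R|·|Z(R)| over subgroups R of S₂ equals that over subgroups of J̃(S)), such that whenever S is embedded as a Sylow p-subgroup of a finite group G in the basic pushing-up situation, the image of S₁ or of S₂ is normal in G. -/
theorem result {p : ℕ} [Fact p.Prime] (S : Type u) [Group S] [Finite S] [Nontrivial S] (hS : IsPGroup p S) (hexc : ¬ (¬ IsMulCommutative S ∧ Cfsg.thompsonSubgroupA S = ⊤ ∧ Cfsg.IsElementaryAbelian p (Subgroup.center S) ∧ Cfsg.IsElementaryAbelian p (frattini S) ∧ (p = 2 → frattini S ≤ Subgroup.center S) ∧ (p = 3 → frattini S ≤ Subgroup.upperCentralSeries S 2) ∧ (3 < p → frattini S ≤ Subgroup.center S ∧ Monoid.exponent S = p) ∧ (∀ A ∈ Cfsg.maxAbelianSubgroups S, ∀ B ∈ Cfsg.maxAbelianSubgroups S, ∀ Q : Subgroup S, Nat.card ↥A ^ 2 = Nat.card S * Nat.card ↥(Subgroup.center S) ∧ Nat.card ↥Q * Nat.card ↥(Subgroup.center ↥Q) ≤ Nat.card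 S * Nat.card ↥(Subgroup.center S) ∧ ((A ⊔ B : Subgroup S) : Set S) = (A : Set S) * (B : Set S) ∧ A ⊔ B = Subgroup.centralizer ((A ⊓ B : Subgroup S) : Set S)))) : ∃ S₁ S₂ : Subgroup S, S₁ ≠ ⊥ ∧ S₂ ≠ ⊥ ∧ S₁.Characteristic ∧ S₂.Characteristic ∧ S₁ ≤ Subgroup.center S ∧ S₂ ≤ Subgroup.centralizer ((Cfsg.thompsonSubgroupA S ⊓ Subgroup.centralizer (Cfsg.thompsonSubgroupA S : Set S) : Subgroup S) : Set S) ∧ (S₂.subgroupOf (Subgroup.centralizer ((Cfsg.thompsonSubgroupA S ⊓ Subgroup.centralizer (Cfsg.thompsonSubgroupA S : Set S) : Subgroup S) : Set S))).Characteristic ∧ Cfsg.maxCentralProduct ↥S₂ = Cfsg.maxCentralProduct ↥(Subgroup.centralizer ((Cfsg.thompsonSubgroupA S ⊓ Subgroup.centralizer (Cfsg.thompsonSubgroupA S : Set S) : Subgroup S) : Set S)) ∧ ∀ (G : Type u) [Group G] [Finite G] (P : Subgroup G) (e : S ≃* ↥P), Cfsg.IsPushingUpSituation p P → ((S₁).map ((P.subtype).comp (e : S ≃* ↥P).toMonoidHom)).Normal ∨ ((S₂).map ((P.subtype).comp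 (e : S ≃* ↥P).toMonoidHom)).Normal := by
  by_cases hc : IsMulCommutative S
  · refine ⟨⊤, ⊤, top_ne_bot, top_ne_bot, inferInstance, inferInstance, fun x _ => ?_, fun x _ => ?_,
      CfsgLib.PushFamily.subgroupOf_char ?_, ?_, CfsgLib.PushFamily.goodPair_of_commutative (p := p) hc ⊤ ⊤⟩
    · exact Subgroup.mem_center_iff.2 fun y => mul_comm y x
    · exact Subgroup.mem_centralizer_iff.2 fun y _ => mul_comm y x
    · exact eq_top_iff.2 fun x _ => Subgroup.mem_centralizer_iff.2 fun y _ => mul_comm y x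
    · obtain ⟨R, hR⟩ := CfsgLib.PushFamily.exists_mcl (S := S)
      exact CfsgLib.PushFamily.maxCentralProduct_eq_of_cl le_top hR.1
        (eq_top_iff.2 fun x _ => Subgroup.mem_centralizer_iff.2 fun y _ => mul_comm y x)
  by_cases hZ : ⁅CfsgLib.PushFamily.ZJ S, (⊤ : Subgroup S)⁆ = ⊥
  swap
  · obtain ⟨S₁, S₂, r1, r2, r3, r4, r5, r6, r7, r8, r9⟩ := CfsgLib.PushFamily.case_ZJ hS hZ
    exact ⟨S₁, S₂, r1, r2, r3, r4, r5, r6, r7, r8, r9⟩
  by_cases hel : ∀ z ∈ Subgroup.center S, z ^ p = 1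
  swap
  · obtain ⟨S₁, S₂, r1, r2, r3, r4, r5, r6, r7, r8, r9⟩ := CfsgLib.PushFamily.case_center hS hZ hel
    exact ⟨S₁, S₂, r1, r2, r3, r4, r5, r6, r7, r8, r9⟩
  by_cases hD : ∀ R : Subgroup S, Cfsg.IsMinimalCentrallyLarge R → ⁅R, R⁆ = ⊥
  swap
  · push Not at hD
    obtain ⟨R, hR, hRne⟩ := hD
    obtain ⟨S₁, S₂, r1, r2, r3, r4, r5, r6, r7, r8, r9⟩ :=
      CfsgLib.PushFamily.case_derived hS hZ hR hRne
    exact ⟨S₁, S₂, r1, r2, r3, r4, r5, r6, r7, r8, r9⟩
  obtain ⟨hiff, hJ, hAB⟩ := CfsgLib.PushFamily.large_conditions hS hZ hD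
  by_cases h0 : CfsgLib.PushFamily.szero p (⊤ : Subgroup S) (CfsgLib.CD.Offender.phi ⊤) = ⊥
  swap
  · obtain ⟨S₁, S₂, r1, r2, r3, r4, r5, r6, r7, ⟨B, hB, hBL⟩, r9⟩ :=
      CfsgLib.PushFamily.case_layer hS hZ hel h0
    exact ⟨S₁, S₂, r1, r2, r3, r4, r5, r6, r7, CfsgLib.PushFamily.maxCentralProduct_eq_of_cl hB
      ((hiff B).2 hBL).1 (CfsgLib.PushFamily.Jt_eq_top hZ), r9⟩
  exfalso
  obtain ⟨hphi, hp2, hp3, hp5⟩ := CfsgLib.PushFamily.frattini_conditions hS hel h0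
  exact hexc ⟨hc, hJ, CfsgLib.PushFamily.elementary_center hel, hphi, hp2, hp3, hp5, hAB⟩

end Cfsg.Agent.S2991
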