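import Mathlib
import Cfsg.Statements.S2998
import Cfsg.Agent.Lib.Transfer.Alperin
import Cfsg.Agent.Lib.Coprime.Action
import Cfsg.Agent.Lib.Transfer.Sylow

set_option autoImplicit false
set_option linter.style.haveILetI false
set_option linter.unusedVariables false
open Cfsg

namespace Cfsg.Agent.S2998

theorem chain_fix {G : Type*} [Group G] [Finite G] {p : ℕ} [Fact p.Prime] {P : Sylow p G} {x : G}
    (hx1 : x ≠ 1)
    (hlc : ∀ R : Subgroup G, R ≤ (P : Subgroup G) → R ≠ ⊥ →
      Subgroup.normalizer (R : Set G) ≤ Subgroup.centralizer ({x} : Set G))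
    {A : Set G} {g : G} (h : CfsgLib.Transfer.Chain (fun D _ => CfsgLib.Transfer.IsTameInter P D) A g)
    (hxA : x ∈ A) : g ∈ Subgroup.centralizer ({x} : Set G) := by
  induction h with
  | nil A => exact Subgroup.one_mem _
  | @cons A y h D hS hy hA hc ih =>
    obtain ⟨Q, hD, -, -⟩ := hS
    have hD1 : D ≠ ⊥ := fun e => hx1 (Subgroup.mem_bot.mp (e ▸ hA hxA))
    have hy' := hlc D (hD ▸ inf_le_left) hD1 hy
    refine Subgroup.mul_mem _ hy' (ih ⟨x, hxA, ?_⟩)
    have := Subgroup.mem_centralizer_singleton_iff.mp hy'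
    change y⁻¹ * x * y = x
    rw [mul_assoc, ← this, inv_mul_cancel_left]

/-- Let G be a finite group, p a prime, P a Sylow p-subgroup of G and x ∈ P an element such that N_G(R) ≤ C_G(x) for every nontrivial subgroup R of P. Then P ≤ C_G(x); every G-conjugate of x lying in P equals x (so g ∈ C_G(x) whenever g x g⁻¹ ∈ P); and for every normal subgroup N of G, the image of x in G ⧸ N has the same property with respect to the image of P: the normalizer of every nontrivial subgroup of the image of P centralizes the image of x. -/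
theorem result {G : Type*} [Group G] [Finite G] {p : ℕ} [Fact p.Prime] (P : Sylow p G) (x : G) (hxP : x ∈ (P : Subgroup G)) (hlc : ∀ R : Subgroup G, R ≤ (P : Subgroup G) → R ≠ ⊥ → Subgroup.normalizer (R : Set G) ≤ Subgroup.centralizer ({x} : Set G)) : (P : Subgroup G) ≤ Subgroup.centralizer ({x} : Set G) ∧ (∀ g : G, g * x * g⁻¹ ∈ (P : Subgroup G) → g * x * g⁻¹ = x) ∧ ∀ (N : Subgroup G) [N.Normal], ∀ R : Subgroup (G ⧸ N), R ≤ (P : Subgroup G).map (QuotientGroup.mk' N) → R ≠ ⊥ → Subgroup.normalizer (R : Set (G ⧸ N)) ≤ Subgroup.centralizer ({(QuotientGroup.mk x : G ⧸ N)} : Set (G ⧸ N)) := by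
  by_cases hx1 : x = 1
  · have htop : Subgroup.centralizer ({x} : Set G) = ⊤ := by
      ext g; simp [hx1, Subgroup.mem_centralizer_singleton_iff]
    refine ⟨le_top.trans htop.ge, fun g _ => by simp [hx1], fun N _ R _ _ => ?_⟩
    intro y _
    simp [hx1, Subgroup.mem_centralizer_singleton_iff]
  have hP1 : (P : Subgroup G) ≠ ⊥ := fun e => hx1 (Subgroup.mem_bot.mp (e ▸ hxP))
  have hPC := Subgroup.le_normalizer.trans (hlc _ le_rfl hP1)
  refine ⟨hPC, fun g hg => ?_, fun N _ R hR hR1 => ?_⟩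
  · have hch := CfsgLib.Transfer.alperin_set P (A := {x}) (g := g⁻¹) (Set.singleton_subset_iff.mpr hxP) (by
      rintro _ ⟨a, rfl, rfl⟩
      show g⁻¹⁻¹ * _ * g⁻¹ ∈ (P : Subgroup G)
      rw [inv_inv]
      exact hg)
    have h1 := Subgroup.inv_mem _ (chain_fix hx1 hlc hch rfl)
    rw [inv_inv] at h1
    rw [← Subgroup.mem_centralizer_singleton_iff.mp h1 |>.symm, mul_inv_cancel_right]
  · set q := QuotientGroup.mk' N with hq
    set M := R.comap q with hM
    set R₀ := (P : Subgroup G) ⊓ M with hR₀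
    have hR₀1 : R₀ ≠ ⊥ := fun e => hR1 ((Subgroup.eq_bot_iff_forall _).mpr fun y hy => by
      obtain ⟨u, hu, rfl⟩ := hR hy
      rw [show u = 1 from Subgroup.mem_bot.mp (e ▸ (⟨hu, hy⟩ : u ∈ R₀)), map_one])
    have hMeq : M ≤ R₀ ⊔ N := fun m hm => by
      obtain ⟨u, hu, he⟩ := hR (show q m ∈ R from hm)
      rw [show m = u * (u⁻¹ * m) by group]
      refine Subgroup.mul_mem_sup ⟨hu, show q u ∈ R from he ▸ hm⟩ ((QuotientGroup.eq_one_iff _).mp ?_)
      change q (u⁻¹ * m) = 1
      rw [map_mul, map_inv, he, inv_mul_cancel]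
    have hNM : N ≤ M := fun n hn => by
      change q n ∈ R
      rw [show q n = 1 from (QuotientGroup.eq_one_iff n).mpr hn]
      exact R.one_mem
    have hidx : ¬ p ∣ R₀.relIndex M := by
      intro hd
      refine P.not_dvd_index (hd.trans ?_)
      have e : M = R₀ ⊔ N := le_antisymm hMeq (sup_le inf_le_right hNM)
      have h1 : R₀.relIndex M = (R₀ ⊓ N).relIndex N := by
        have a1 : Nat.card R₀ * R₀.relIndex (N ⊔ R₀) = Nat.card ↥(N ⊔ R₀) := by
          rw [← Subgroup.relIndex_bot_left, ← Subgroup.relIndex_bot_left]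
          exact Subgroup.relIndex_mul_relIndex _ _ _ bot_le le_sup_right
        have a2 := CfsgLib.Coprime.card_sup_mul_card_inf (K := N) (S := R₀)
          (by rw [Subgroup.normalizer_eq_top]; exact le_top)
        have a3 : Nat.card ↥(R₀ ⊓ N) * (R₀ ⊓ N).relIndex N = Nat.card N := by
          rw [← Subgroup.relIndex_bot_left, ← Subgroup.relIndex_bot_left]
          exact Subgroup.relIndex_mul_relIndex _ _ _ bot_le inf_le_right
        rw [inf_comm N R₀, ← a1, ← a3] at a2
        rw [show M = N ⊔ R₀ by rw [e, sup_comm]]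
        refine Nat.eq_of_mul_eq_mul_left (Nat.mul_pos (Nat.card_pos (α := R₀)) (Nat.card_pos (α := ↥(R₀ ⊓ N)))) ?_
        linarith
      have h2 : R₀ ⊓ N = (P : Subgroup G) ⊓ N := le_antisymm (inf_le_inf_right _ inf_le_left)
        (le_inf (le_inf inf_le_left (inf_le_right.trans hNM)) inf_le_right)
      rw [h1, h2, Subgroup.inf_relIndex_right]
      exact CfsgLib.Transfer.relIndex_dvd_index_of_normal _ _
    intro y hy
    obtain ⟨g, rfl⟩ := QuotientGroup.mk'_surjective N y
    have hgM : ∀ m, m ∈ M ↔ g * m * g⁻¹ ∈ M := fun m => by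
      change q m ∈ R ↔ q (g * m * g⁻¹) ∈ R
      rw [map_mul, map_mul, map_inv]
      exact Subgroup.mem_normalizer_iff.mp hy (q m)
    obtain ⟨m, hm, hmle⟩ := CfsgLib.Transfer.exists_conj_le_of_not_dvd_relIndex (Y := R₀.map (MulAut.conj g).toMonoidHom)
      inf_le_right (P.2.to_le inf_le_left) hidx (by
        rintro _ ⟨r, hr, rfl⟩
        exact (hgM r).mp hr.2) ((P.2.to_le inf_le_left).map _)
    rw [CfsgLib.Transfer.map_conj_mul] at hmle
    have hnorm : m * g ∈ Subgroup.normalizer (R₀ : Set G) := by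
      rw [← CfsgLib.Transfer.map_conj_eq_self_iff]
      refine Subgroup.eq_of_le_of_card_ge hmle ?_
      rw [Subgroup.card_map_of_injective (MulAut.conj _).injective]
    have h1 := hlc R₀ inf_le_left hR₀1 hnorm
    obtain ⟨r, hr, n, hn, rfl⟩ := Subgroup.mem_sup_of_normal_right.mp (hMeq hm)
    have h2 := Subgroup.mul_mem _ (Subgroup.inv_mem _ (hPC hr.1)) h1
    rw [show r⁻¹ * (r * n * g) = n * g by group] at h2
    have h3 := congrArg q (Subgroup.mem_centralizer_singleton_iff.mp h2)
    rw [map_mul, map_mul, map_mul, show q n = 1 from (QuotientGroup.eq_one_iff n).mpr hn, one_mul] at h3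
    rw [map_mul, show q n = 1 from (QuotientGroup.eq_one_iff n).mpr hn, one_mul] at h3
    exact Subgroup.mem_centralizer_singleton_iff.mpr h3

end Cfsg.Agent.S2998
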