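import Mathlib
import Cfsg.Statements.S3003
import Cfsg.Agent.Lib.Coprime.Generation

set_option autoImplicit false
set_option linter.style.haveILetI false
set_option linter.unusedVariables false
open Cfsg

open scoped commutatorElement

namespace Cfsg.Agent.S3003

/-- Let G be a finite group, p a prime and Q a large p-subgroup of G: C_G(Q) ≤ Q and N_G(U) ≤ N_G(Q) for every nontrivial subgroup U of C_G(Q). Let Q ≤ G₁ ≤ G, let R be a subgroup of order prime to p normalized by G₁, and let U ≤ G₁ be a p-subgroup. If U contains a nontrivial element which is G₁-conjugate to an element of Z(Q), then C_R(U) = 1. In particular, if U is elementary abelian of order at least p² and every maximal subgroup of U contains a nontrivial element G₁-conjugate into Z(Q), then R = 1. -/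
theorem result {G : Type*} [Group G] [Finite G] {p : ℕ} [Fact p.Prime] (Q : Subgroup G) (hQp : IsPGroup p ↥Q) (hlarge : Cfsg.IsLarge Q) (G₁ : Subgroup G) (hQG : Q ≤ G₁) (R : Subgroup G) (hR : (Nat.card ↥R).Coprime p) (hGR : G₁ ≤ Subgroup.normalizer (R : Set G)) (U : Subgroup G) (hUG : U ≤ G₁) (hUp : IsPGroup p ↥U) : ((∃ x ∈ U, x ≠ 1 ∧ ∃ g ∈ G₁, g * x * g⁻¹ ∈ Q ⊓ Subgroup.centralizer (Q : Set G)) → R ⊓ Subgroup.centralizer (U : Set G) = ⊥) ∧ (Cfsg.IsElementaryAbelian p U → p ^ 2 ≤ Nat.card ↥U → (∀ U₀ : Subgroup G, U₀ ≤ U → IsCoatom (U₀.subgroupOf U) → ∃ x ∈ U₀, x ≠ 1 ∧ ∃ g ∈ G₁, g * x * g⁻¹ ∈ Q ⊓ Subgroup.centralizer (Q : Set G)) → R = ⊥) := by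
  have key : ∀ x : G, x ≠ 1 → (∃ g ∈ G₁, g * x * g⁻¹ ∈ Q ⊓ Subgroup.centralizer (Q : Set G)) →
      R ⊓ Subgroup.centralizer ({x} : Set G) = ⊥ := by
    rintro x hx1 ⟨g, hg, hgx⟩
    rw [eq_bot_iff]
    intro r hr
    set z := g * x * g⁻¹ with hz
    set r' := g * r * g⁻¹ with hr'
    have hr'R : r' ∈ R := (Subgroup.mem_normalizer_iff.mp (hGR hg) r).mp hr.1
    have hcomm : r' * z = z * r' := by
      rw [hr', hz]
      calc g * r * g⁻¹ * (g * x * g⁻¹) = g * (r * x) * g⁻¹ := by group
        _ = g * (x * r) * g⁻¹ := by rw [Subgroup.mem_centralizer_singleton_iff.mp hr.2]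
        _ = _ := by group
    have hrN : r' ∈ Subgroup.normalizer (Q : Set G) := by
      refine hlarge.2 (Subgroup.zpowers z) (Subgroup.zpowers_le.mpr hgx.2)
        (fun h => hx1 (conj_eq_one_iff.mp (Subgroup.zpowers_eq_bot.mp h))) ?_
      refine Subgroup.centralizer_le_normalizer _ (Subgroup.mem_centralizer_iff.mpr ?_)
      rintro _ ⟨j, rfl⟩
      exact ((Commute.zpow_right (show Commute r' z from hcomm) j).eq).symm
    have hQR : Q ⊓ R = ⊥ := by
      refine CfsgLib.Coprime.inf_eq_bot_of_coprime_card ?_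
      obtain ⟨k, hk⟩ := IsPGroup.iff_card.mp hQp
      rw [hk]
      exact (hR.symm).pow_left k
    have hr'C : r' ∈ Subgroup.centralizer (Q : Set G) := by
      refine Subgroup.mem_centralizer_iff.mpr fun u hu => ?_
      have h1 : r' * u * r'⁻¹ * u⁻¹ ∈ Q ⊓ R := by
        refine ⟨Q.mul_mem ((Subgroup.mem_normalizer_iff.mp hrN u).mp hu) (Q.inv_mem hu), ?_⟩
        rw [show r' * u * r'⁻¹ * u⁻¹ = r' * (u * r'⁻¹ * u⁻¹) by group]
        exact R.mul_mem hr'R ((Subgroup.mem_normalizer_iff.mp (hGR (hQG hu)) _).mp (R.inv_mem hr'R))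
      rw [hQR, Subgroup.mem_bot] at h1
      exact (mul_inv_eq_iff_eq_mul.mp (mul_inv_eq_one.mp h1)).symm
    have h2 : r' ∈ Q ⊓ R := ⟨hlarge.1 hr'C, hr'R⟩
    rw [hQR, Subgroup.mem_bot, hr', conj_eq_one_iff] at h2
    exact Subgroup.mem_bot.mpr h2
  refine ⟨?_, ?_⟩
  · rintro ⟨x, hxU, hx1, hg⟩
    rw [eq_bot_iff, ← key x hx1 hg]
    exact inf_le_inf_left _ (Subgroup.centralizer_le (Set.singleton_subset_iff.mpr hxU))
  · intro hel hcard hyp
    rw [eq_bot_iff]
    refine CfsgLib.Coprime.le_of_hyperplane_centralizer_le (p := p) hel.1 hel.2 hcard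
      (hUG.trans hGR) ?_ fun B hB hBi => ?_
    · obtain ⟨k, hk⟩ := IsPGroup.iff_card.mp hUp
      rw [hk]
      exact (hR.symm).pow_left k
    have hUne : Nontrivial U := by
      refine Finite.one_lt_card_iff_nontrivial.mp (lt_of_lt_of_le ?_ hcard)
      exact Nat.one_lt_pow two_ne_zero (Fact.out : p.Prime).one_lt
    obtain ⟨U₀, hU₀, hco, hBC⟩ : ∃ U₀ : Subgroup G, U₀ ≤ U ∧ IsCoatom (U₀.subgroupOf U) ∧
        Subgroup.centralizer (B : Set G) ≤ Subgroup.centralizer (U₀ : Set G) := by
      rcases hB.eq_or_lt with rfl | hlt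
      · obtain ⟨W, hW, -⟩ := (eq_top_or_exists_le_coatom (⊥ : Subgroup B)).resolve_left bot_ne_top
        refine ⟨W.map B.subtype, Subgroup.map_subtype_le W, ?_, Subgroup.centralizer_le
          (Subgroup.map_subtype_le W)⟩
        change IsCoatom ((W.map B.subtype).comap B.subtype)
        rwa [Subgroup.comap_map_eq_self_of_injective B.subtype_injective]
      · refine ⟨B, hB, ⟨fun h => hlt.not_ge (Subgroup.subgroupOf_eq_top.mp h), fun W hW => ?_⟩, le_rfl⟩
        have h0 : (B.subgroupOf U).index ≠ 0 := Subgroup.index_ne_zero_of_finite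
        have h1 : (B.subgroupOf U).index ≠ 1 := fun h =>
          hlt.not_ge (Subgroup.relIndex_eq_one.mp h)
        have hp2 : (B.subgroupOf U).index = p := by
          obtain ⟨k, hk⟩ := hUp.index (B.subgroupOf U)
          rcases Nat.lt_trichotomy k 1 with hk1 | hk1 | hk1
          · exact absurd (hk.trans (by rw [show k = 0 by omega, pow_zero])) h1
          · rw [hk, hk1, pow_one]
          · exfalso
            have h3 : p ^ 2 ≤ p ^ k := Nat.pow_le_pow_right (Fact.out : p.Prime).pos hk1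
            have h4 : (B.subgroupOf U).index ≤ p := hBi
            have := (Fact.out : p.Prime).one_lt
            nlinarith [hk ▸ h4, h3]
        rcases (Nat.dvd_prime (Fact.out : p.Prime)).mp (hp2 ▸ Subgroup.index_dvd_of_le hW.le) with h | h
        · exact Subgroup.index_eq_one.mp h
        · refine absurd (Subgroup.eq_of_le_of_card_ge hW.le ?_) hW.ne
          have e1 := (B.subgroupOf U).card_mul_index
          have e2 := W.card_mul_index
          rw [hp2] at e1
          rw [h, ← e1] at e2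
          exact (Nat.eq_of_mul_eq_mul_right (Fact.out : p.Prime).pos e2).le
    obtain ⟨x, hxU₀, hx1, hg⟩ := hyp U₀ hU₀ hco
    rw [← key x hx1 hg]
    exact inf_le_inf_left _ (hBC.trans (Subgroup.centralizer_le (Set.singleton_subset_iff.mpr hxU₀)))

end Cfsg.Agent.S3003
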