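import Cfsg.Statements.S3006
import Cfsg.Agent.Lib.CD.Basic

set_option autoImplicit false
open scoped Pointwise
open Cfsg CfsgLib

namespace Cfsg.Agent.S3006

/-- `K A` is centrally large. -/
theorem centrallyLarge_of {P : Type*} [Group P] [Finite P] (K : Subgroup P)
    (hK : Cfsg.IsCentrallyLarge K) (A : Subgroup P) (hA : A ∈ Cfsg.maxAbelianSubgroups P) :
    Cfsg.IsCentrallyLarge (K ⊔ A) := by
  haveI := hA.1
  obtain ⟨hKl, hCK⟩ := CD.centrallyLarge_iff.mp hK
  have hcA : ∀ a ∈ A, ∀ b ∈ A, a * b = b * a := fun a ha b hb =>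
    congrArg Subtype.val (mul_comm' (⟨a, ha⟩ : A) ⟨b, hb⟩)
  have hCA : Subgroup.centralizer (A : Set P) = A := by
    refine le_antisymm (fun x hx => ?_) fun a ha b hb => hcA b hb a ha
    have hset : ∀ u ∈ insert x (A : Set P), ∀ v ∈ insert x (A : Set P), u * v = v * u := by
      rintro u (rfl | hu) v (rfl | hv)
      · rfl
      · exact (hx v hv).symm
      · exact hx u hu
      · exact hcA u hu v hv
    have hle : A ≤ Subgroup.closure (insert x (A : Set P)) := fun m hm =>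
      Subgroup.subset_closure (Set.mem_insert_of_mem _ hm)
    rw [Subgroup.eq_of_le_of_card_ge hle (hA.2 _ (Subgroup.isMulCommutative_closure hset))]
    exact Subgroup.subset_closure (Set.mem_insert _ _)
  set Z := Subgroup.centralizer (K : Set P) with hZ
  set B := (K ⊓ A) ⊔ Z with hB
  have hBA : Nat.card B ≤ Nat.card A := by
    have h1 : B ≤ Subgroup.centralizer (B : Set P) := by
      rw [hB, CD.centralizer_sup]
      exact sup_le (le_inf (fun x hx y hy => hcA y hy.2 x hx.2)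
          (inf_le_left.trans (Subgroup.le_centralizer_iff.mp le_rfl)))
        (le_inf (Subgroup.centralizer_le inf_le_left) (Subgroup.centralizer_le hCK))
    exact hA.2 B ⟨⟨fun x y => Subtype.ext (h1 y.2 x x.2)⟩⟩
  have hM : Nat.card K * Nat.card Z = Cfsg.maxCentralizerProduct P := hKl
  have hKA : K ⊓ A ⊓ Z = Z ⊓ A := by rw [inf_right_comm, inf_eq_right.mpr hCK]
  have h1 := CD.card_mul_le (K ⊓ A) Z
  rw [hKA] at h1
  have h2 := CD.card_mul_le K A
  have h3 : Nat.card ↥(K ⊔ A) * Nat.card ↥(Z ⊓ A) ≤ Nat.card K * Nat.card Z := by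
    have := CD.le_max (K ⊔ A)
    rwa [CD.meas, CD.centralizer_sup, hCA, ← hM] at this
  rw [CD.centrallyLarge_iff, CD.centralizer_sup, hCA]
  refine ⟨?_, inf_le_right.trans le_sup_right⟩
  show Nat.card ↥(K ⊔ A) * Nat.card ↥(Subgroup.centralizer ((K ⊔ A : Subgroup P) : Set P)) = _
  rw [CD.centralizer_sup, hCA, ← hM]
  refine le_antisymm h3 (Nat.le_of_mul_le_mul_right ?_ (Nat.card_pos (α := ↥(K ⊓ A))))
  calc Nat.card K * Nat.card Z * Nat.card ↥(K ⊓ A)
      = Nat.card K * (Nat.card ↥(K ⊓ A) * Nat.card Z) := by ring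
    _ ≤ Nat.card K * (Nat.card B * Nat.card ↥(Z ⊓ A)) := Nat.mul_le_mul_left _ h1
    _ ≤ Nat.card K * (Nat.card A * Nat.card ↥(Z ⊓ A)) :=
        Nat.mul_le_mul_left _ (Nat.mul_le_mul_right _ hBA)
    _ = (Nat.card K * Nat.card A) * Nat.card ↥(Z ⊓ A) := by ring
    _ ≤ (Nat.card ↥(K ⊔ A) * Nat.card ↥(K ⊓ A)) * Nat.card ↥(Z ⊓ A) :=
        Nat.mul_le_mul_right _ h2
    _ = _ := by ring

/-- Let P be a finite p-group, Q a centrally large subgroup of P (|Q|·|Z(Q)| maximal among subgroups of P) and A an abelian subgroup of P of largest order. Then QA = AQ is a centrally large subgroup of P, C_{QA}(Q ∩ A) = Z(Q)·A, and the subgroup generated by all centrally large subgroups of P contains C_P(Z(J(P))), where J(P) is generated by the abelian subgroups of largest order. -/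
theorem result {p : ℕ} [Fact p.Prime] (P : Type*) [Group P] [Finite P] (hP : IsPGroup p P) (Q A : Subgroup P) (hQ : Cfsg.IsCentrallyLarge Q) (hA : A ∈ Cfsg.maxAbelianSubgroups P) : ((Q ⊔ A : Subgroup P) : Set P) = (Q : Set P) * (A : Set P) ∧ Cfsg.IsCentrallyLarge (Q ⊔ A) ∧ (Q ⊔ A) ⊓ Subgroup.centralizer ((Q ⊓ A : Subgroup P) : Set P) = (Q ⊓ Subgroup.centralizer (Q : Set P)) ⊔ A ∧ (((Q ⊓ Subgroup.centralizer (Q : Set P)) ⊔ A : Subgroup P) : Set P) = ((Q ⊓ Subgroup.centralizer (Q : Set P)) : Set P) * (A : Set P) ∧ Subgroup.centralizer ((Cfsg.thompsonSubgroupA P ⊓ Subgroup.centralizer (Cfsg.thompsonSubgroupA P : Set P) : Subgroup P) : Set P) ≤ Cfsg.centrallyLargeJoin P := by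
  haveI := hA.1
  obtain ⟨hQl, hCQ⟩ := CD.centrallyLarge_iff.mp hQ
  set Z := Subgroup.centralizer (Q : Set P) with hZ
  have hZQ : Q ⊓ Z = Z := inf_eq_right.mpr hCQ
  have hcA : ∀ a ∈ A, ∀ b ∈ A, a * b = b * a := fun a ha b hb =>
    congrArg Subtype.val (mul_comm' (⟨a, ha⟩ : A) ⟨b, hb⟩)
  -- the abelian subgroup `B`
  set B := (Q ⊓ A) ⊔ Z with hB
  have hBc : ∀ x ∈ B, ∀ y ∈ B, x * y = y * x := by
    have h1 : B ≤ Subgroup.centralizer (B : Set P) := by
      rw [hB, CD.centralizer_sup]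
      refine sup_le (le_inf (fun x hx y hy => hcA y hy.2 x hx.2) ?_)
        (le_inf (Subgroup.centralizer_le inf_le_left) (Subgroup.centralizer_le hCQ))
      exact inf_le_left.trans (Subgroup.le_centralizer_iff.mp le_rfl)
    exact fun x hx y hy => h1 hy x hx
  have hBA : Nat.card B ≤ Nat.card A := hA.2 B ⟨⟨fun x y => Subtype.ext (hBc x x.2 y y.2)⟩⟩
  have hmax : ∀ M : Subgroup P, (∀ x ∈ M, ∀ y ∈ M, x * y = y * x) → Nat.card A ≤ Nat.card M →
      Subgroup.centralizer (M : Set P) ≤ M := by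
    intro M hM hAM x hx
    have hset : ∀ u ∈ insert x (M : Set P), ∀ v ∈ insert x (M : Set P), u * v = v * u := by
      rintro u (rfl | hu) v (rfl | hv)
      · rfl
      · exact (hx v hv).symm
      · exact hx u hu
      · exact hM u hu v hv
    have hle : M ≤ Subgroup.closure (insert x (M : Set P)) := fun m hm =>
      Subgroup.subset_closure (Set.mem_insert_of_mem _ hm)
    rw [Subgroup.eq_of_le_of_card_ge hle ((hA.2 _ (Subgroup.isMulCommutative_closure hset)).trans hAM)]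
    exact Subgroup.subset_closure (Set.mem_insert _ _)
  have hCA : Subgroup.centralizer (A : Set P) = A :=
    le_antisymm (hmax A hcA le_rfl) fun a ha b hb => hcA b hb a ha
  -- counting
  have hZA : Q ⊓ A ⊓ Z = Z ⊓ A := by rw [inf_right_comm, hZQ]
  have hM : Nat.card Q * Nat.card Z = maxCentralizerProduct P := hQl
  have h1 := CD.card_mul_le (Q ⊓ A) Z
  rw [hZA] at h1
  have h2 := CD.card_mul_le Q A
  have h3 : Nat.card ↥(Q ⊔ A) * Nat.card ↥(Z ⊓ A) ≤ Nat.card Q * Nat.card Z := by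
    have := CD.le_max (Q ⊔ A)
    rwa [CD.meas, CD.centralizer_sup, hCA, ← hM] at this
  set q := Nat.card Q
  set a := Nat.card A
  set z := Nat.card Z
  set i := Nat.card ↥(Q ⊓ A)
  set j := Nat.card ↥(Z ⊓ A)
  set s := Nat.card ↥(Q ⊔ A)
  set b := Nat.card B
  have hi : 0 < i := Nat.card_pos
  have hj : 0 < j := Nat.card_pos
  have hq : 0 < q := Nat.card_pos
  have hs : 0 < s := Nat.card_pos
  -- chain: i z ≤ b j ≤ a j, q a ≤ s i, s j ≤ q z
  have c1 : q * a * j ≤ s * i * j := Nat.mul_le_mul_right j h2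
  have c2 : s * i * j ≤ q * (i * z) := by
    calc s * i * j = (s * j) * i := by ring
      _ ≤ (q * z) * i := Nat.mul_le_mul_right i h3
      _ = q * (i * z) := by ring
  have c3 : q * (i * z) ≤ q * (b * j) := Nat.mul_le_mul_left q h1
  have c4 : q * (b * j) ≤ q * a * j := by
    rw [mul_assoc q a j]; exact Nat.mul_le_mul_left q (Nat.mul_le_mul_right j hBA)
  have hab : a ≤ b := by
    have h := c1.trans (c2.trans c3)
    rw [← mul_assoc] at h
    exact Nat.le_of_mul_le_mul_left (Nat.le_of_mul_le_mul_right h hj) hq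
  have hsi : s * i ≤ q * a := Nat.le_of_mul_le_mul_right (c2.trans (c3.trans c4)) hj
  have hsj : q * z ≤ s * j := by
    refine Nat.le_of_mul_le_mul_right ?_ hi
    calc q * z * i = q * (i * z) := by ring
      _ ≤ q * (b * j) := c3
      _ ≤ q * a * j := c4
      _ ≤ s * i * j := c1
      _ = s * j * i := by ring
  have hprod := CD.eq_mul_of_card Q A hsi
  have hlarge : IsCentrallyLarge (Q ⊔ A) := by
    rw [CD.centrallyLarge_iff, CD.centralizer_sup, hCA]
    refine ⟨?_, inf_le_right.trans le_sup_right⟩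
    show Nat.card ↥(Q ⊔ A) * Nat.card ↥(Subgroup.centralizer ((Q ⊔ A : Subgroup P) : Set P)) = _
    rw [CD.centralizer_sup, hCA, ← hM]
    exact le_antisymm h3 hsj
  have hCB := hmax B hBc hab
  -- the centralizer of `Q ∩ A` inside
  set Y := (Q ⊔ A) ⊓ Subgroup.centralizer ((Q ⊓ A : Subgroup P) : Set P) with hY
  have hup : (Q ⊓ Z) ⊔ A ≤ Y :=
    sup_le (le_inf (inf_le_left.trans le_sup_left)
      (inf_le_right.trans (Subgroup.centralizer_le inf_le_left)))
      (le_inf le_sup_right fun x hx y hy => hcA y hy.2 x hx)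
  have hdown : (Y : Set P) ⊆ ((Q ⊓ Z : Subgroup P) : Set P) * (A : Set P) := by
    intro y hy
    have hy1 : y ∈ (Q : Set P) * (A : Set P) := hprod ▸ hy.1
    obtain ⟨u, hu, v, hv, rfl⟩ := hy1
    have huC : u ∈ Subgroup.centralizer ((Q ⊓ A : Subgroup P) : Set P) := by
      have h1 : v⁻¹ ∈ Subgroup.centralizer ((Q ⊓ A : Subgroup P) : Set P) := fun w hw =>
        hcA w hw.2 v⁻¹ (A.inv_mem hv)
      simpa using mul_mem hy.2 h1
    have huB : u ∈ B := by
      refine hCB ?_
      rw [hB, CD.centralizer_sup]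
      exact ⟨huC, fun w hw => (hw u hu).symm⟩
    have h4 : B ≤ Subgroup.centralizer (B : Set P) := fun x hx y hy => hBc y hy x hx
    have hn : Q ⊓ A ≤ Subgroup.normalizer (Z : Set P) := fun x hx =>
      Subgroup.centralizer_le_normalizer _
        (Subgroup.centralizer_le (le_sup_right : Z ≤ B) (h4 (Subgroup.mem_sup_left hx)))
    have huB' : u ∈ Z ⊔ (Q ⊓ A) := sup_comm (Q ⊓ A) Z ▸ huB
    rw [← SetLike.mem_coe, Subgroup.coe_mul_of_right_le_normalizer_left Z (Q ⊓ A) hn] at huB'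
    obtain ⟨u1, hu1, u2, hu2, rfl⟩ := huB'
    exact ⟨u1, ⟨hCQ hu1, hu1⟩, u2 * v, A.mul_mem hu2.2 hv, (mul_assoc _ _ _).symm⟩
  have hsup : ((Q ⊓ Z : Subgroup P) : Set P) * (A : Set P) ⊆ ((Q ⊓ Z ⊔ A : Subgroup P) : Set P) :=
    CD.mul_subset_sup _ _
  refine ⟨hprod, hlarge, le_antisymm (fun y hy => hsup (hdown hy)) hup,
    Set.Subset.antisymm (fun y hy => hdown (hup hy)) hsup, ?_⟩
  -- the join of all centrally large subgroups
  set K := centrallyLargeJoin P with hK
  have hKl : IsCentrallyLarge K := CD.centrallyLarge_sSup ⟨Q, hQ⟩ fun _ h => h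
  set J := thompsonSubgroupA P with hJ
  obtain ⟨hKll, hCK⟩ := CD.centrallyLarge_iff.mp hKl
  have hJK : J ≤ K := by
    refine sSup_le fun A' hA' => ?_
    exact le_sup_right.trans (le_sSup (centrallyLarge_of K hKl A' hA'))
  have hCJ : Subgroup.centralizer (J : Set P) ≤ J := by
    refine (Subgroup.centralizer_le (le_sSup hA : A ≤ J)).trans ?_
    rw [hCA]
    exact le_sSup hA
  rw [inf_eq_right.mpr hCJ, (CD.large_centralizer hKll).2]
  exact Subgroup.centralizer_le (Subgroup.centralizer_le hJK)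

end Cfsg.Agent.S3006
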