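import Cfsg.Statements.S3008
import Cfsg.Agent.S3006
import Cfsg.Agent.Lib.CD.Normalized
-- import your own Cfsg.Agent.* helpers here

set_option autoImplicit false
open Cfsg

open CfsgLib
open scoped Pointwise

namespace Cfsg.Agent.S3008

/-- An abelian subgroup of largest order is its own centralizer. -/
theorem centralizer_maxAbelian {P : Type*} [Group P] [Finite P] {A : Subgroup P}
    (hA : A ∈ Cfsg.maxAbelianSubgroups P) : Subgroup.centralizer (A : Set P) = A := by
  haveI := hA.1
  have hcA : ∀ a ∈ A, ∀ b ∈ A, a * b = b * a := fun a ha b hb =>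
    congrArg Subtype.val (mul_comm' (⟨a, ha⟩ : A) ⟨b, hb⟩)
  refine le_antisymm (fun x hx => ?_) fun a ha b hb => hcA b hb a ha
  have hset : ∀ u ∈ insert x (A : Set P), ∀ v ∈ insert x (A : Set P), u * v = v * u := by
    rintro u (rfl | hu) v (rfl | hv)
    · rfl
    · exact (hx v hv).symm
    · exact hx u hu
    · exact hcA u hu v hv
  have hle : A ≤ Subgroup.closure (insert x (A : Set P)) := fun m hm =>
    Subgroup.subset_closure (Set.mem_insert_of_mem _ hm)
  rw [Subgroup.eq_of_le_of_card_ge hle (hA.2 _ (Subgroup.isMulCommutative_closure hset))]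
  exact Subgroup.subset_closure (Set.mem_insert _ _)

theorem maxAbelian_nonempty {P : Type*} [Group P] [Finite P] :
    (Cfsg.maxAbelianSubgroups P).Nonempty := by
  obtain ⟨A, hA, hmax⟩ := Set.exists_max_image {A : Subgroup P | IsMulCommutative A}
    (fun A => Nat.card A) (Set.toFinite _) ⟨⊥, (inferInstance : IsMulCommutative (⊥ : Subgroup P))⟩
  exact ⟨A, hA, fun B hB => hmax B hB⟩

/-- An abelian subgroup of largest order is replacing. -/
theorem isReplacing_maxAbelian {p : ℕ} [Fact p.Prime] {P : Type*} [Group P] [Finite P]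
    (hP : IsPGroup p P) {A : Subgroup P} (hA : A ∈ Cfsg.maxAbelianSubgroups P) :
    CD.IsReplacing A := by
  haveI := hA.1
  have hcA : ∀ a ∈ A, ∀ b ∈ A, a * b = b * a := fun a ha b hb =>
    congrArg Subtype.val (mul_comm' (⟨a, ha⟩ : A) ⟨b, hb⟩)
  refine ⟨hcA, fun Q hQ x hx a ha => ?_⟩
  obtain ⟨-, -, h3, h4, -⟩ := Cfsg.Agent.S3006.result P hP Q A hQ hA
  have hCQ : Q ⊓ Subgroup.centralizer (Q : Set P) = Subgroup.centralizer (Q : Set P) :=
    inf_eq_right.mpr (CD.centrallyLarge_iff.mp hQ).2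
  have hmem : a * x * a⁻¹ ∈
      (Q ⊔ A) ⊓ Subgroup.centralizer ((Q ⊓ A : Subgroup P) : Set P) := by
    refine ⟨Subgroup.mul_mem _ (Subgroup.mul_mem _ (Subgroup.mem_sup_right ha)
      (Subgroup.mem_sup_left ((CD.centrallyLarge_iff.mp hQ).2 hx)))
      (Subgroup.mem_sup_right (A.inv_mem ha)), fun y hy => ?_⟩
    have h1 : y * x = x * y := hx y hy.1
    calc y * (a * x * a⁻¹) = (y * a) * x * a⁻¹ := by group
      _ = a * (y * x) * a⁻¹ := by rw [hcA y hy.2 a ha]; group
      _ = a * x * (y * a⁻¹) := by rw [h1]; group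
      _ = a * x * a⁻¹ * y := by rw [hcA y hy.2 a⁻¹ (A.inv_mem ha)]; group
  rw [h3, hCQ] at hmem
  rw [hCQ] at h4
  have := h4.subset hmem
  rwa [inf_eq_right.mpr (SetLike.coe_subset_coe.mpr (CD.centrallyLarge_iff.mp hQ).2)] at this

theorem sup_thompson {P : Type*} [Group P] [Finite P] {Q : Subgroup P}
    (hQ : Cfsg.IsCentrallyLarge Q) :
    Cfsg.IsCentrallyLarge (Q ⊔ Cfsg.thompsonSubgroupA P) := by
  suffices h : ∀ T : Set (Subgroup P), T.Finite → (∀ A ∈ T, A ∈ Cfsg.maxAbelianSubgroups P) →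
      Cfsg.IsCentrallyLarge (Q ⊔ sSup T) from h _ (Set.toFinite _) fun _ h => h
  intro T hT
  induction T, hT using Set.Finite.induction_on with
  | empty => intro _; simpa using hQ
  | @insert a t _ _ ih =>
    intro h
    rw [sSup_insert, sup_comm a (sSup t), ← sup_assoc]
    exact Cfsg.Agent.S3006.centrallyLarge_of _ (ih fun A hA => h A (Set.mem_insert_of_mem _ hA)) a
      (h a (Set.mem_insert _ _))

/-- Let P be a finite p-group, with J(P) generated by its abelian subgroups of largest order and J̃(P) = C_P(Z(J(P))); call R ≤ P centrally large if |R|·|Z(R)| is as large as possible, and let P_MCL be generated by the minimal centrally large subgroups. Then: for every centrally large Q, Q·J(P) ⊇ J̃(P); some minimal centrally large subgroup of P is normalized by both J(P) and P_MCL; if P = J(P) and d(P)² = |P|·|Z(P)|, where d(P) is the largest order of an abelian subgroup, then every minimal centrally large subgroup of P is abelian; and if every minimal centrally large subgroup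 is abelian then J̃(P) = J(P). -/
theorem result {p : ℕ} [Fact p.Prime] (P : Type*) [Group P] [Finite P] (hP : IsPGroup p P) : (∀ Q : Subgroup P, Cfsg.IsCentrallyLarge Q → Subgroup.centralizer ((Cfsg.thompsonSubgroupA P ⊓ Subgroup.centralizer (Cfsg.thompsonSubgroupA P : Set P) : Subgroup P) : Set P) ≤ Q ⊔ Cfsg.thompsonSubgroupA P) ∧ (∃ Q : Subgroup P, Cfsg.IsMinimalCentrallyLarge Q ∧ Cfsg.thompsonSubgroupA P ≤ Subgroup.normalizer (Q : Set P) ∧ Cfsg.minimalCentrallyLargeJoin P ≤ Subgroup.normalizer (Q : Set P)) ∧ (Cfsg.thompsonSubgroupA P = ⊤ → (∀ A ∈ Cfsg.maxAbelianSubgroups P, Nat.card ↥A ^ 2 = Nat.card P * Nat.card ↥(Subgroup.center P)) → ∀ Q : Subgroup P, Cfsg.IsMinimalCentrallyLarge Q → IsMulCommutative ↥Q) ∧ ((∀ Q : Subgroup P, Cfsg.IsMinimalCentrallyLarge Q → IsMulCommutative ↥Q) → Subgroup.centralizer ((Cfsg.thompsonSubgroupA P ⊓ Subgroup.centralizer (Cfsg.thompsonSubgroupA P : Set P) : Subgroup P) : Set P) = Cfsg.thompsonSubgroupA P) := by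
  set J := Cfsg.thompsonSubgroupA P with hJ
  obtain ⟨A, hA⟩ := maxAbelian_nonempty (P := P)
  have hAJ : A ≤ J := le_sSup hA
  have hCJ : J ⊓ Subgroup.centralizer (J : Set P) = Subgroup.centralizer (J : Set P) :=
    inf_eq_right.mpr
      ((Subgroup.centralizer_le hAJ).trans ((centralizer_maxAbelian hA).le.trans hAJ))
  rw [hCJ]
  have h1 : ∀ Q : Subgroup P, Cfsg.IsCentrallyLarge Q →
      Subgroup.centralizer ((Subgroup.centralizer (J : Set P) : Subgroup P) : Set P) ≤ Q ⊔ J := by
    intro Q hQ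
    rw [(CD.large_centralizer (CD.centrallyLarge_iff.mp (sup_thompson hQ)).1).2]
    exact Subgroup.centralizer_le (Subgroup.centralizer_le (SetLike.coe_subset_coe.mpr le_sup_right))
  have hmcl : ∀ Q : Subgroup P, Cfsg.IsMinimalCentrallyLarge Q → ∀ R : Subgroup P,
      Cfsg.IsCentrallyLarge R → (Q ⊓ R) ⊔ Subgroup.centralizer (Q : Set P) = Q :=
    fun Q hQ R hR => CD.minimal_eq_inf_sup hQ hR
  obtain ⟨Q0, hQ0, hnorm⟩ := CD.exists_minimal_normalized (P := P) hP
  refine ⟨h1, ⟨Q0, hQ0, sSup_le fun B hB => hnorm B (isReplacing_maxAbelian hP hB),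
    sSup_le fun V hV => ?_⟩, ?_, ?_⟩
  · rw [← hmcl V hV Q0 hQ0.1]
    exact sup_le (inf_le_right.trans Subgroup.le_normalizer)
      (hnorm _ (CD.isReplacing_center hV.1))
  · intro htop hsq Q hQ
    have hP1 : Cfsg.IsCentrallyLarge (⊤ : Subgroup P) := by
      have := sup_thompson hQ.1
      rwa [← hJ, htop, sup_top_eq] at this
    obtain ⟨hTl, -⟩ := CD.centrallyLarge_iff.mp hP1
    have hAcl : Cfsg.IsCentrallyLarge A := by
      rw [CD.centrallyLarge_iff, centralizer_maxAbelian hA]
      refine ⟨?_, le_rfl⟩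
      show Nat.card A * Nat.card ↥(Subgroup.centralizer (A : Set P)) = _
      rw [centralizer_maxAbelian hA, ← sq, hsq A hA, ← hTl]
      congr 1
      · exact Subgroup.card_top.symm
      · rw [Subgroup.coe_top, Subgroup.centralizer_univ]
    have hQC := (CD.centrallyLarge_iff.mp hQ.1).2
    have hc : Q ≤ Subgroup.centralizer (Q : Set P) := by
      have hAA : A ≤ Subgroup.centralizer (A : Set P) := (centralizer_maxAbelian hA).ge
      conv_lhs => rw [← hmcl Q hQ A hAcl]
      refine sup_le ?_ le_rfl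
      have : Subgroup.centralizer (((Q ⊓ A) ⊔ Subgroup.centralizer (Q : Set P) : Subgroup P) :
          Set P) = Subgroup.centralizer (Q : Set P) := by rw [hmcl Q hQ A hAcl]
      rw [← this, CD.centralizer_sup]
      exact le_inf ((inf_le_right.trans hAA).trans (Subgroup.centralizer_le inf_le_right))
        (inf_le_left.trans (Subgroup.le_centralizer_iff.mp le_rfl))
    exact ⟨⟨fun x y => Subtype.ext (hc y.2 x x.2)⟩⟩
  · intro hall
    haveI := hA.1
    have hQ := hall Q0 hQ0
    obtain ⟨hQl, hQC⟩ := CD.centrallyLarge_iff.mp hQ0.1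
    have hQeq : Subgroup.centralizer (Q0 : Set P) = Q0 := le_antisymm hQC fun x hx y hy =>
      congrArg Subtype.val (mul_comm' (⟨y, hy⟩ : Q0) ⟨x, hx⟩)
    have hcard : Nat.card A * Nat.card A ≤ Nat.card Q0 * Nat.card Q0 := by
      have h := CD.le_max A
      rw [CD.meas, centralizer_maxAbelian hA] at h
      have h2 : Nat.card Q0 * Nat.card ↥(Subgroup.centralizer (Q0 : Set P)) =
          Cfsg.maxCentralizerProduct P := hQl
      rw [hQeq] at h2
      exact h.trans h2.ge
    have hQA : Q0 ∈ Cfsg.maxAbelianSubgroups P :=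
      ⟨hQ, fun B hB => (hA.2 B hB).trans (Nat.mul_self_le_mul_self_iff.mp hcard)⟩
    refine le_antisymm ((h1 Q0 hQ0.1).trans (sup_le (le_sSup hQA) le_rfl))
      (Subgroup.le_centralizer_iff.mp le_rfl)

end Cfsg.Agent.S3008
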