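import Cfsg.Statements.S3009
import Cfsg.Agent.Lib.SL2Module.Natural
import Cfsg.Agent.Lib.Quadratic.Groups

set_option autoImplicit false
open Cfsg

namespace Cfsg.Agent.S3009

open CfsgLib CfsgLib.Quadratic
open scoped IsMulCommutative commutatorElement MatrixGroups

/-- Let p be a prime and let G and V be subgroups of a finite group with V elementary abelian and normalized by G, and G isomorphic to SL₂(F) for a finite field F with pⁿ elements. Suppose G acts irreducibly and nontrivially on V by conjugation (no G-invariant subgroups of V other than 1 and V, and [V, G] ≠ 1), and let S be a Sylow p-subgroup of G and V₀ = C_V(S). If [V, S, S] = 1 or |V| ≤ |V₀|², then G acts on V as SL₂(F) on its natural two-dimensional module; in particular |V| = |F|². -/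
theorem result {X : Type*} [Group X] [Finite X] {p : ℕ} [Fact p.Prime] (G V : Subgroup X) (hV : Cfsg.IsElementaryAbelian p V) (hGV : G ≤ Subgroup.normalizer (V : Set X)) (F : Type) [Field F] [Fintype F] (n : ℕ) (hF : Fintype.card F = p ^ n) (hG : Nonempty (↥G ≃* Matrix.SpecialLinearGroup (Fin 2) F)) (hirr : ∀ U : Subgroup X, U ≤ V → G ≤ Subgroup.normalizer (U : Set X) → U = ⊥ ∨ U = V) (hnt : ⁅V, G⁆ ≠ ⊥) (S : Sylow p ↥G) (hyp : ⁅⁅V, (S : Subgroup ↥G).map G.subtype⁆, (S : Subgroup ↥G).map G.subtype⁆ = ⊥ ∨ Nat.card ↥V ≤ Nat.card ↥(V ⊓ Subgroup.centralizer (((S : Subgroup ↥G).map G.subtype : Subgroup X) : Set X)) ^ 2) : Cfsg.ActsAsSL2OnSection F ⊤ G V ⊥ := by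
  haveI := hV.1
  haveI : CharP F p := by
    obtain ⟨q, hq⟩ := CharP.exists F
    obtain ⟨m, hqp, hm⟩ := FiniteField.card F q
    have h1 : q ∣ p ^ n := by rw [← hF, hm]; exact dvd_pow_self q m.pos.ne'
    exact (Nat.prime_dvd_prime_iff_eq hqp Fact.out).mp (hqp.dvd_of_dvd_pow h1) ▸ hq
  obtain ⟨e₁⟩ := hG
  obtain ⟨g, hg⟩ := CfsgLib.SL2.exists_conj_upperSL p
    (S.mapSurjective (f := e₁.toMonoidHom) e₁.surjective)
  set e : ↥G ≃* SL(2, F) := e₁.trans (MulAut.conj g⁻¹) with he
  have hup : ∀ t : F, e.symm (CfsgLib.SL2.up t) ∈ (S : Subgroup ↥G) := by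
    intro t
    have h1 : g * CfsgLib.SL2.up t * g⁻¹ ∈ ((S.mapSurjective (f := e₁.toMonoidHom) e₁.surjective :
        Sylow p SL(2, F)) : Subgroup SL(2, F)) := by
      rw [hg]; exact ⟨CfsgLib.SL2.up t, ⟨_, rfl⟩, rfl⟩
    obtain ⟨s, hs, hs'⟩ := h1
    have h2 : e s = CfsgLib.SL2.up t := by
      show g⁻¹ * e₁ s * g⁻¹⁻¹ = _
      rw [show e₁ s = g * CfsgLib.SL2.up t * g⁻¹ from hs']
      group
    rw [← h2, MulEquiv.symm_apply_apply]
    exact hs
  set T := (S : Subgroup ↥G).map G.subtype with hT
  let φ : SL(2, F) →* AddMonoid.End (Additive V) := (act V G hGV).comp e.symm.toMonoidHom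
  have hval : ∀ (x : SL(2, F)) (v : Additive V), (((φ x v).toMul : V) : X) =
      ((e.symm x : G) : X) * ((v.toMul : V) : X) * ((e.symm x : G) : X)⁻¹ := fun x v => rfl
  refine Exists.elim (SL2Module.exists_natural (act_nsmul hV) φ ?_ ?_ ?_) (fun E hE => ?_)
  · intro R hR
    let U : Subgroup X := (R.toSubgroup').map V.subtype
    have hmem : ∀ v : V, (v : X) ∈ U ↔ Additive.ofMul v ∈ R := fun v =>
      Subgroup.mem_map_iff_mem V.subtype_injective
    have hUV : U ≤ V := Subgroup.map_subtype_le _
    have hUn : G ≤ Subgroup.normalizer (U : Set X) := by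
      have key : ∀ x : G, ∀ y ∈ U, (x : X) * y * (x : X)⁻¹ ∈ U := by
        rintro x _ ⟨v, hv, rfl⟩
        have := hR (e x) _ (show Additive.ofMul v ∈ R from hv)
        have h' : φ (e x) (Additive.ofMul v) = act V G hGV x (Additive.ofMul v) := by
          show act V G hGV (e.symm (e x)) _ = _
          rw [e.symm_apply_apply]
        rw [h'] at this
        exact (hmem _).2 this
      intro x hx
      rw [Subgroup.mem_normalizer_iff]
      refine fun y => ⟨key ⟨x, hx⟩ y, fun hy => ?_⟩
      have := key ⟨x⁻¹, inv_mem hx⟩ _ hy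
      simpa [mul_assoc] using this
    rcases hirr U hUV hUn with h | h
    · left
      rw [AddSubgroup.eq_bot_iff_forall]
      intro v hv
      have : ((v.toMul : V) : X) ∈ U := (hmem v.toMul).2 hv
      rw [h, Subgroup.mem_bot] at this
      exact Additive.toMul.injective (Subtype.ext this)
    · right
      rw [AddSubgroup.eq_top_iff']
      intro v
      exact (hmem v.toMul).1 (h.ge (v.toMul : V).2)
  · by_contra h
    push Not at h
    apply hnt
    rw [Subgroup.commutator_eq_bot_iff_le_centralizer, Subgroup.le_centralizer_iff]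
    intro x hx
    have h' := h (e ⟨x, hx⟩)
    have h'' : act V G hGV ⟨x, hx⟩ = 1 := by
      rw [← h']
      show _ = act V G hGV (e.symm (e ⟨x, hx⟩))
      rw [e.symm_apply_apply]
    exact (act_eq_one_iff V G hGV ⟨x, hx⟩).1 h''
  · rcases hyp with h | h
    · left
      intro s t
      refine AddMonoidHom.ext fun v => ?_
      set a : G := e.symm (CfsgLib.SL2.up t) with ha
      set b : G := e.symm (CfsgLib.SL2.up s) with hb
      set w := φ (CfsgLib.SL2.up t) v - v with hw
      show φ (CfsgLib.SL2.up s) w - w = 0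
      rw [sub_eq_zero]
      have hwG : ((w.toMul : V) : X) = (⁅((v.toMul : V) : X), (a : X)⁆)⁻¹ := by
        rw [hw, toMul_sub, Subgroup.coe_div, div_eq_mul_inv, hval, ← ha, commutatorElement_def]
        group
      have h1 : ⁅⁅((v.toMul : V) : X), (a : X)⁆, (b : X)⁆ = 1 := (Subgroup.eq_bot_iff_forall _).mp h _
        (Subgroup.commutator_mem_commutator (Subgroup.commutator_mem_commutator (v.toMul : V).2
          ⟨a, hup t, rfl⟩) ⟨b, hup s, rfl⟩)
      have hc := commutatorElement_eq_one_iff_commute.mp h1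
      apply Additive.toMul.injective
      apply Subtype.ext
      rw [hval, hwG, ← hb, ← hc.inv_left.eq, mul_inv_cancel_right]
    · right
      refine (le_of_eq (Nat.card_congr Additive.toMul)).trans (h.trans (Nat.pow_le_pow_left ?_ 2))
      refine Nat.card_le_card_of_injective
        (fun x : ↥(V ⊓ Subgroup.centralizer (T : Set X)) =>
          (⟨Additive.ofMul (⟨(x : X), (Subgroup.mem_inf.1 x.2).1⟩ : V), fun t => ?_⟩ :
            {v : Additive V // ∀ t, φ (CfsgLib.SL2.up t) v = v})) ?_
      · apply Additive.toMul.injective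
        apply Subtype.ext
        rw [hval]
        show _ * (x : X) * _ = (x : X)
        rw [mul_inv_eq_iff_eq_mul]
        exact Subgroup.mem_centralizer_iff.1 (Subgroup.mem_inf.1 x.2).2 _ ⟨_, hup t, rfl⟩
      · intro x y hxy
        exact Subtype.ext (congrArg (fun z : {v : Additive V // ∀ t, φ (CfsgLib.SL2.up t) v = v} =>
          (((z.1).toMul : V) : X)) hxy)
  · refine ⟨hGV, bot_le, e.toMonoidHom,
      { toFun := fun u => Multiplicative.ofAdd (E.symm (Additive.ofMul u))
        map_one' := by rw [ofMul_one, map_zero, ofAdd_zero]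
        map_mul' := fun a b => by rw [ofMul_mul, map_add, ofAdd_add] },
      MonoidHom.range_eq_top.2 e.surjective, ?_, ?_, ?_⟩
    · intro y
      exact ⟨(E y.toAdd).toMul, congrArg Multiplicative.ofAdd (E.symm_apply_apply y.toAdd)⟩
    · intro u
      rw [Subgroup.mem_bot, OneMemClass.coe_eq_one]
      constructor
      · intro h
        have h' : E.symm (Additive.ofMul u) = E.symm 0 := by
          rw [map_zero]; exact Multiplicative.ofAdd.injective (h.trans ofAdd_zero.symm)
        exact Additive.ofMul.injective (E.symm.injective h')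
      · intro h
        subst h
        show Multiplicative.ofAdd (E.symm (Additive.ofMul 1)) = 1
        rw [ofMul_one, map_zero, ofAdd_zero]
    · intro x u
      refine ⟨((act V G hGV x) (Additive.ofMul u)).toMul, rfl, ?_⟩
      show E.symm (act V G hGV x (Additive.ofMul u)) =
        ((e x : SL(2, F)) : Matrix (Fin 2) (Fin 2) F).mulVec (E.symm (Additive.ofMul u))
      apply E.injective
      rw [E.apply_symm_apply, ← hE, E.apply_symm_apply]
      show _ = act V G hGV (e.symm (e x)) _
      rw [e.symm_apply_apply]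

end Cfsg.Agent.S3009
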