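import Mathlib
import Cfsg.Statements.S3011
import Cfsg.Agent.Lib.Baer.NoReal

set_option autoImplicit false
open Cfsg CfsgLib

namespace Cfsg.Agent.S3011

variable {G : Type*} [Group G] [Finite G]

/-- An involution outside `O_2(G)` inverts a nontrivial element of odd order. -/
theorem exists_odd {a : G} (haa : a * a = 1) (ha : a ∉ Cfsg.pCore 2 G) :
    ∃ h : G, h ≠ 1 ∧ Odd (orderOf h) ∧ a * h * a⁻¹ = h⁻¹ := by
  haveI : Fact (Nat.Prime 2) := ⟨Nat.prime_two⟩
  have hA : IsPGroup 2 (Subgroup.zpowers a) := by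
    obtain ⟨k, -, hk⟩ := (Nat.dvd_prime_pow Nat.prime_two).mp
      (orderOf_dvd_of_pow_eq_one (x := a) (n := 2 ^ 1) (by rw [pow_one, sq, haa]))
    exact IsPGroup.of_card (n := k) (by rw [Nat.card_zpowers, hk])
  obtain ⟨g, hg⟩ := CfsgLib.Baer.exists_conj_not_isPGroup (p := 2) hA
    fun N hN hNp haN => ha (Fitting.le_pCore hN hNp haN)
  set b := g * a * g⁻¹ with hb
  have hbb : b * b = 1 := by
    calc b * b = g * (a * a) * g⁻¹ := by rw [hb]; group
      _ = 1 := by rw [haa]; group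
  set c := a * b with hc
  have hinv : a * c * a⁻¹ = c⁻¹ := by
    rw [hc, mul_inv_rev, inv_eq_of_mul_eq_one_right haa, inv_eq_of_mul_eq_one_right hbb, ← mul_assoc,
      haa, one_mul]
  have hcne : ¬ ∃ k, orderOf c = 2 ^ k := by
    rintro ⟨k, hk⟩
    refine hg ?_
    have hCn : Subgroup.zpowers a ≤ Subgroup.normalizer (Subgroup.zpowers c : Set _) := by
      rw [Subgroup.zpowers_le]
      have hm : (Subgroup.zpowers c).map (MulAut.conj a).toMonoidHom = Subgroup.zpowers c := by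
        rw [MonoidHom.map_zpowers]
        show Subgroup.zpowers (a * c * a⁻¹) = _
        rw [hinv, Subgroup.zpowers_inv]
      exact Coprime.mem_normalizer_iff_conj_smul.mpr hm
    refine ((IsPGroup.of_card (p := 2) (n := k) (by rw [Nat.card_zpowers, hk])).to_sup_of_normal_left'
      hA hCn).to_le ?_
    rw [Subgroup.closure_le]
    rintro y (hy | hy)
    · rw [SetLike.mem_coe, hy]; exact Subgroup.mem_sup_right (Subgroup.mem_zpowers _)
    · rw [Set.mem_singleton_iff] at hy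
      have : y = a * c := by rw [hy, hc, hb, ← mul_assoc, haa, one_mul]
      rw [SetLike.mem_coe, this]
      exact mul_mem (Subgroup.mem_sup_right (Subgroup.mem_zpowers _)) (Subgroup.mem_sup_left (Subgroup.mem_zpowers _))
  obtain ⟨k, m, hm, hkm⟩ := Nat.exists_eq_two_pow_mul_odd (orderOf_pos c).ne'
  have ho : orderOf (c ^ (2 ^ k)) = m := by
    rw [orderOf_pow' _ (Nat.two_pow_pos k).ne', hkm, Nat.gcd_mul_right_left,
      Nat.mul_div_cancel_left _ (Nat.two_pow_pos k)]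
  refine ⟨c ^ (2 ^ k), fun h1 => hcne ⟨k, ?_⟩, ho ▸ hm, by rw [← conj_pow, hinv, inv_pow]⟩
  rw [h1, orderOf_one] at ho
  rw [hkm, ← ho, mul_one]

/-- `h` has odd order, is fixed by `v` and inverted by `u` and `w`. -/
def Typ (u v w h : G) : Prop :=
  v * h * v⁻¹ = h ∧ u * h * u⁻¹ = h⁻¹ ∧ w * h * w⁻¹ = h⁻¹ ∧ Odd (orderOf h)

theorem eq_one_of_conj {v h : G} (h1 : v * h * v⁻¹ = h) (h2 : v * h * v⁻¹ = h⁻¹)
    (ho : Odd (orderOf h)) : h = 1 := by
  have h3 : h ^ 2 = 1 := by rw [sq, mul_eq_one_iff_eq_inv]; exact h1.symm.trans h2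
  have h4 : orderOf h ∣ 2 := orderOf_dvd_of_pow_eq_one h3
  rcases (Nat.dvd_prime Nat.prime_two).mp h4 with e | e
  · exact orderOf_eq_one_iff.mp e
  · rw [e] at ho; exact absurd ho (by decide)

section
variable (V : Subgroup G) (hV : Cfsg.IsElementaryAbelian 2 V) (hS : Cfsg.IsSidkiPair V)
include hV hS

/-- The three nontrivial elements and their inverted elements. -/
theorem main {u v w : G} (hu : u ∈ V) (hv : v ∈ V) (huv : u * v = w)
    (hcov : ∀ x ∈ V, x ≠ 1 → x = u ∨ x = v ∨ x = w)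
    {h k : G} (hh : Typ u v w h) (hk : Typ v u w k) (hh1 : h ≠ 1) (hk1 : k ≠ 1) :
    Typ u w v (k⁻¹ * h * k) := by
  obtain ⟨hvh, huh, hwh, hho⟩ := hh
  obtain ⟨huk, hvk, hwk, hko⟩ := hk
  have hcomm : Commute u v := by
    haveI := hV.1
    exact congrArg Subtype.val (mul_comm' (⟨u, hu⟩ : V) ⟨v, hv⟩)
  set h' := k⁻¹ * h * k with hh'
  have hui : u * k⁻¹ * u⁻¹ = k⁻¹ := by rw [← conj_inv, huk]
  have huh' : u * h' * u⁻¹ = h'⁻¹ := by
    calc u * h' * u⁻¹ = (u * k⁻¹ * u⁻¹) * (u * h * u⁻¹) * (u * k * u⁻¹) := by rw [hh']; group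
      _ = h'⁻¹ := by rw [hui, huh, huk, hh']; group
  have ho' : Odd (orderOf h') := by
    rw [hh']
    have : k⁻¹ * h * k = MulAut.conj k⁻¹ h := by simp
    rw [this, MulEquiv.orderOf_eq]; exact hho
  have hh'1 : h' ≠ 1 := fun e => hh1 (by
    calc h = k * h' * k⁻¹ := by rw [hh']; group
      _ = 1 := by rw [e]; group)
  obtain ⟨x, hx, hx1, hxc⟩ := hS h' u hu ho' huh'
  have hxc' : x * h' * x⁻¹ = h' := by rw [hxc, mul_inv_cancel_right]
  rcases hcov x hx hx1 with rfl | rfl | rfl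
  · exact absurd (eq_one_of_conj hxc' huh' ho') hh'1
  · exfalso
    -- `v` fixes `h` and `k⁻¹ h k`, so `k ^ 2` fixes `h`
    have hvi : x * k⁻¹ * x⁻¹ = k := by rw [← conj_inv, hvk, inv_inv]
    have e : k * h * k⁻¹ = k⁻¹ * h * k := by
      calc k * h * k⁻¹ = (x * k⁻¹ * x⁻¹) * (x * h * x⁻¹) * (x * k * x⁻¹) := by rw [hvi, hvh, hvk]
        _ = x * h' * x⁻¹ := by rw [hh']; group
        _ = k⁻¹ * h * k := hxc'
    have hk2 : Commute (k ^ 2) h := by
      calc k ^ 2 * h = k * (k * h * k⁻¹) * k := by rw [sq]; group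
        _ = h * k ^ 2 := by rw [e, sq]; group
    obtain ⟨j, hj⟩ := exists_pow_eq_self_of_coprime (Nat.coprime_two_left.mpr hko)
    have hkh : Commute k h := hj ▸ hk2.pow_left j
    set z := h * k with hz
    have hzo : Odd (orderOf z) := (hho.mul hko).of_dvd_nat (hkh.symm.orderOf_mul_dvd_mul_orderOf)
    have hwz : w * z * w⁻¹ = z⁻¹ := by
      calc w * z * w⁻¹ = (w * h * w⁻¹) * (w * k * w⁻¹) := by rw [hz]; group
        _ = z⁻¹ := by rw [hwh, hwk, hz, hkh.symm.eq, mul_inv_rev]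
    have hwV : w ∈ V := huv ▸ V.mul_mem hu hv
    obtain ⟨y, hy, hy1, hyc⟩ := hS z w hwV hzo hwz
    have hyz : y * z * y⁻¹ = z := by rw [hyc, mul_inv_cancel_right]
    rcases hcov y hy hy1 with rfl | rfl | rfl
    · refine hh1 (eq_one_of_conj ?_ huh hho)
      have h5 : (y * h * y⁻¹) * (y * k * y⁻¹) = h * k := by rw [← hz, ← hyz, hz]; group
      rw [huk, mul_left_inj] at h5
      exact h5
    · refine hk1 (eq_one_of_conj ?_ hvk hko)
      have h5 : (y * h * y⁻¹) * (y * k * y⁻¹) = h * k := by rw [← hz, ← hyz, hz]; group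
      rw [hvh, mul_right_inj] at h5
      exact h5
    · refine hh1 ?_
      have h5 := eq_one_of_conj hyz hwz hzo
      have h6 : k = h⁻¹ := eq_inv_of_mul_eq_one_right h5
      refine eq_one_of_conj ?_ huh hho
      have h7 := huk
      rw [h6, ← conj_inv] at h7
      exact inv_injective h7
  · refine ⟨hxc', huh', ?_, ho'⟩
    have hvu : v = u⁻¹ * x := by rw [← huv, inv_mul_cancel_left]
    have hui' : u⁻¹ = u := inv_eq_of_mul_eq_one_right (by rw [← sq]; exact hV.2 u hu)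
    calc v * h' * v⁻¹ = u⁻¹ * (x * h' * x⁻¹) * (u⁻¹)⁻¹ := by rw [hvu]; group
      _ = h'⁻¹ := by rw [hxc', hui', huh']

omit hS in
/-- Second element inverts what the first inverts, when the product centralizes. -/
theorem other {u v h : G} (hu : u ∈ V) (hv : v ∈ V)
    (huh : u * h * u⁻¹ = h⁻¹) (hvh : v * h * v⁻¹ = h) : (u * v) * h * (u * v)⁻¹ = h⁻¹ := by
  calc (u * v) * h * (u * v)⁻¹ = u * (v * h * v⁻¹) * u⁻¹ := by group
    _ = h⁻¹ := by rw [hvh, huh]

end

/-- Let G be a finite group and V a nontrivial elementary abelian 2-subgroup of G of order at most 4 such that, whenever an element of V inverts an element h of G of odd order, some nontrivial element of V commutes with h. Then V meets O₂(G) nontrivially. (The case of order at most 4 has a short argument from the Baer–Suzuki theorem.) -/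
theorem result {G : Type*} [Group G] [Finite G] (V : Subgroup G) (hV : Cfsg.IsElementaryAbelian 2 V) (hV1 : V ≠ ⊥) (hS : Cfsg.IsSidkiPair V) (h4 : Nat.card V ≤ 4) : V ⊓ Cfsg.pCore 2 G ≠ ⊥ := by
  classical
  intro hbot
  have hsq : ∀ x ∈ V, x * x = 1 := fun x hx => by rw [← sq]; exact hV.2 x hx
  have hcomm : ∀ a ∈ V, ∀ b ∈ V, a * b = b * a := fun a ha b hb => by
    haveI := hV.1
    exact congrArg Subtype.val (mul_comm' (⟨a, ha⟩ : V) ⟨b, hb⟩)
  have hout : ∀ x ∈ V, x ≠ 1 → x ∉ Cfsg.pCore 2 G := fun x hx hx1 hc => hx1 (by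
    have : x ∈ V ⊓ Cfsg.pCore 2 G := ⟨hx, hc⟩
    rwa [hbot, Subgroup.mem_bot] at this)
  obtain ⟨u, hu, hu1⟩ : ∃ u ∈ V, u ≠ 1 := by
    by_contra h; push Not at h
    exact hV1 (Subgroup.eq_bot_iff_forall V |>.mpr h)
  obtain ⟨h, hh1, hho, huh⟩ := exists_odd (hsq u hu) (hout u hu hu1)
  obtain ⟨v, hv, hv1, hvc⟩ := hS h u hu hho huh
  have hvh : v * h * v⁻¹ = h := by rw [hvc, mul_inv_cancel_right]
  set w := u * v with hw
  have hwV : w ∈ V := V.mul_mem hu hv
  have huv : u ≠ v := fun e => hh1 (eq_one_of_conj (e ▸ hvh) huh hho)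
  have hw1 : w ≠ 1 := fun e => huv (by
    rw [hw, mul_eq_one_iff_eq_inv] at e; rw [e, inv_eq_of_mul_eq_one_right (hsq v hv)])
  have hcov : ∀ x ∈ V, x ≠ 1 → x = u ∨ x = v ∨ x = w := by
    intro x hx hx1
    by_contra hc
    push Not at hc
    let f : Fin 5 → V := ![1, ⟨u, hu⟩, ⟨v, hv⟩, ⟨w, hwV⟩, ⟨x, hx⟩]
    have huw : u ≠ w := fun e => hv1 (by simpa [hw] using e)
    have hvw : v ≠ w := fun e => hu1 (by simpa [hw] using e)
    have hf : Function.Injective f := by
      intro i j hij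
      fin_cases i <;> fin_cases j <;>
        simp [f, Subtype.ext_iff, hu1, hv1, hw1, hx1, huv, huw, hvw, hc.1, hc.2.1, hc.2.2,
          hu1.symm, hv1.symm, hw1.symm, hx1.symm, huv.symm, huw.symm, hvw.symm, Ne.symm hc.1,
          Ne.symm hc.2.1, Ne.symm hc.2.2] at hij ⊢
    have := Nat.card_le_card_of_injective f hf
    simp at this
    omega
  have hwh : w * h * w⁻¹ = h⁻¹ := other V hV hu hv huh hvh
  obtain ⟨k, hk1, hko, hvk⟩ := exists_odd (hsq v hv) (hout v hv hv1)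
  obtain ⟨x, hx, hx1, hxc⟩ := hS k v hv hko hvk
  have hxk : x * k * x⁻¹ = k := by rw [hxc, mul_inv_cancel_right]
  have hwu : w = v * u := hcomm u hu v hv
  -- in either case there are `h` of type `v` and `k` of a second type
  have final : ∀ p q r : G, p ∈ V → q ∈ V → r ∈ V → p * q = r → p * r = q →
      (∀ y ∈ V, y ≠ 1 → y = p ∨ y = q ∨ y = r) →
      ∀ a b : G, a ≠ 1 → b ≠ 1 → Typ p q r a → Typ q p r b → False := by
    intro p q r hp hq hr hpq hpr hc a b ha hb hta htb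
    have hb2 : b ^ 2 ≠ 1 := fun e => by
      have h4 : orderOf b ∣ 2 := orderOf_dvd_of_pow_eq_one e
      rcases (Nat.dvd_prime Nat.prime_two).mp h4 with e | e
      · exact hb (orderOf_eq_one_iff.mp e)
      · have := htb.2.2.2; rw [e] at this; exact absurd this (by decide)
    have hpow : ∀ n : ℕ, Typ q p r (b ^ n) := fun n =>
      ⟨by rw [← conj_pow, htb.1], by rw [← conj_pow, htb.2.1, inv_pow],
        by rw [← conj_pow, htb.2.2.1, inv_pow], htb.2.2.2.of_dvd_nat (orderOf_pow_dvd n)⟩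
    have h1 := main V hV hS hp hq hpq hc hta (hpow 2) ha hb2
    have h2 := main V hV hS hp hq hpq hc hta htb ha hb
    have h2' : Typ p r q (b⁻¹ * a * b) := h2
    have hne : b⁻¹ * a * b ≠ 1 := fun e => ha (by
      calc a = b * (b⁻¹ * a * b) * b⁻¹ := by group
        _ = 1 := by rw [e]; group)
    have h3 := main V hV hS hp hr hpr (fun y hy hy1 => by
      rcases hc y hy hy1 with e | e | e
      exacts [Or.inl e, Or.inr (Or.inr e), Or.inr (Or.inl e)]) h2'
      ⟨htb.1, htb.2.2.1, htb.2.1, htb.2.2.2⟩ hne hb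
    have e : b⁻¹ * (b⁻¹ * a * b) * b = (b ^ 2)⁻¹ * a * b ^ 2 := by rw [sq]; group
    rw [e] at h3
    exact ha (by
      have h5 := eq_one_of_conj h3.1 h1.2.2.1 h1.2.2.2
      calc a = b ^ 2 * ((b ^ 2)⁻¹ * a * b ^ 2) * (b ^ 2)⁻¹ := by group
        _ = 1 := by rw [h5]; group)
  rcases hcov x hx hx1 with rfl | rfl | rfl
  · exact final _ v w hx hv hwV rfl (by rw [hw, ← mul_assoc, hsq _ hx, one_mul]) hcov h k hh1 hk1
      ⟨hvh, huh, hwh, hho⟩ ⟨hxk, hvk, by rw [hwu]; exact other V hV hv hx hvk hxk, hko⟩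
  · exact hk1 (eq_one_of_conj hxk hvk hko)
  · -- `h` of type `v`, `k` of type `w`; both inverted by `u`
    have huk : u * k * u⁻¹ = k⁻¹ := by
      have e : u = v * w := by rw [hwu, ← mul_assoc, hsq v hv, one_mul]
      rw [e]; exact other V hV hv hwV hvk hxk
    exact final w v u hwV hv hu (by rw [hw, mul_assoc, hsq v hv, mul_one])
      (by rw [hw, hcomm u hu v hv, mul_assoc, hsq u hu, mul_one])
      (fun y hy hy1 => by rcases hcov y hy hy1 with e | e | e
                          exacts [Or.inr (Or.inr e), Or.inr (Or.inl e), Or.inl e])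
      h k hh1 hk1 ⟨hvh, hwh, huh, hho⟩ ⟨hxk, hvk, huk, hko⟩

end Cfsg.Agent.S3011
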