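import Mathlib
import Cfsg.Statements.S3012
import Mathlib.GroupTheory.OrderOfElement

set_option autoImplicit false
set_option linter.style.haveILetI false
set_option linter.unusedVariables false
open Cfsg

namespace Cfsg.Agent.S3012

/-- Let G be a finite group, V a nontrivial elementary abelian 2-subgroup of G satisfying the Sidki pair condition (every odd-order element inverted by an element of V commutes with a nontrivial element of V), and K a normal subgroup of G with V ∩ K = 1. Then the image of V in G/K satisfies the Sidki pair condition in G/K. -/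
theorem result {G : Type*} [Group G] [Finite G] (V K : Subgroup G) [K.Normal] (hV : Cfsg.IsElementaryAbelian 2 V) (hV1 : V ≠ ⊥) (hS : Cfsg.IsSidkiPair V) (hVK : V ⊓ K = ⊥) : Cfsg.IsSidkiPair (V.map (QuotientGroup.mk' K)) := by
  have hsq : ∀ a ∈ V, a ^ 2 = 1 := fun a ha => hV.2 a ha
  intro hb vb hvb hodd hinv
  obtain ⟨v, hv, rfl⟩ := hvb
  obtain ⟨h, rfl⟩ := QuotientGroup.mk'_surjective K hb
  set π := QuotientGroup.mk' K with hπ
  have hvi : v⁻¹ = v := inv_eq_of_mul_eq_one_right (by rw [← pow_two]; exact hsq v hv)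
  set u := h * v * h⁻¹ * v⁻¹ with hu
  have hvv : v * v = 1 := by rw [← pow_two]; exact hsq v hv
  have hui : v * u * v⁻¹ = u⁻¹ := by
    rw [hu]; simp only [mul_inv_rev, inv_inv, mul_assoc, hvi, hvv, mul_one]
  have hπu : π u = π h ^ 2 := by
    have : π (v * h⁻¹ * v⁻¹) = π h := by
      rw [map_mul, map_mul, map_inv, map_inv, ← hinv]
      simp [mul_assoc]
      rw [← mul_assoc (π v), ← map_mul, hvv, map_one, one_mul, ← map_inv, hvi, ← map_mul (π), hvv, map_one, mul_one]
    rw [hu, mul_assoc, mul_assoc, map_mul, ← mul_assoc v, this, pow_two]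
  obtain ⟨a, m, hm, ham⟩ := Nat.exists_eq_two_pow_mul_odd (orderOf_pos u).ne'
  set t := u ^ (2 ^ a) with ht
  have hto : Odd (orderOf t) := by
    rw [ht, orderOf_pow' u (Nat.two_pow_pos a).ne', ham, Nat.gcd_mul_right_left, Nat.mul_div_cancel_left _ (Nat.two_pow_pos a)]
    exact hm
  have hti : v * t * v⁻¹ = t⁻¹ := by rw [ht, ← conj_pow, hui, inv_pow]
  obtain ⟨w, hw, hw1, hwt⟩ := hS t v hv hto hti
  refine ⟨π w, ⟨w, hw, rfl⟩, fun h1 => hw1 ?_, ?_⟩
  · have : w ∈ V ⊓ K := ⟨hw, (QuotientGroup.eq_one_iff w).mp h1⟩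
    rwa [hVK, Subgroup.mem_bot] at this
  · have hc : Commute (π w) (π t) := Commute.map hwt π
    have hcop : Nat.Coprime (2 * 2 ^ a) (orderOf (π h)) := by
      rw [← pow_succ']; exact (Nat.coprime_two_left.mpr hodd).pow_left _
    obtain ⟨j, hj⟩ := exists_pow_eq_self_of_coprime hcop
    have e : π t = π h ^ (2 * 2 ^ a) := by rw [ht, map_pow, hπu, pow_mul]
    rw [e] at hc
    exact (hj ▸ hc.pow_right j).eq

end Cfsg.Agent.S3012
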