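import Mathlib
import Cfsg.Statements.S3013
import Mathlib.GroupTheory.OrderOfElement

set_option autoImplicit false
set_option linter.style.haveILetI false
set_option linter.unusedVariables false
open Cfsg

namespace Cfsg.Agent.S3013

/-- Let G be a finite group and V a nontrivial elementary abelian 2-subgroup of G satisfying the Sidki pair condition. Let v ∈ V and let x be an element of odd order inverted by v, and put C = C_G(v) ∩ C_G(x), the centralizer of the dihedral subgroup generated by v and x. Then C ∩ V is nontrivial and satisfies the Sidki pair condition inside C: every odd-order element of C inverted by an element of C ∩ V commutes with a nontrivial element of C ∩ V. -/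
theorem result {G : Type*} [Group G] [Finite G] (V : Subgroup G) (hV : Cfsg.IsElementaryAbelian 2 V) (hV1 : V ≠ ⊥) (hS : Cfsg.IsSidkiPair V) (v x : G) (hv : v ∈ V) (hx : Odd (orderOf x)) (hinv : v * x * v⁻¹ = x⁻¹) (C : Subgroup G) (hC : C = Subgroup.centralizer ({v} : Set G) ⊓ Subgroup.centralizer ({x} : Set G)) : C ⊓ V ≠ ⊥ ∧ Cfsg.IsSidkiPair ((C ⊓ V).subgroupOf C) := by
  have hsq : ∀ a ∈ V, a ^ 2 = 1 := fun a ha => hV.2 a ha
  have hcomm : ∀ a ∈ V, ∀ b ∈ V, a * b = b * a := fun a ha b hb => by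
    haveI := hV.1
    exact congrArg Subtype.val (mul_comm' (⟨a, ha⟩ : V) ⟨b, hb⟩)
  have hxx : Nat.Coprime 2 (orderOf x) := Nat.coprime_two_left.mpr hx
  obtain ⟨k, hk⟩ := exists_pow_eq_self_of_coprime hxx
  subst hC
  refine ⟨fun hbot => ?_, fun h v' hv' hodd hinv' => ?_⟩
  · obtain ⟨w, hw, hw1, hwx⟩ := hS x v hv hx hinv
    refine hw1 ((Subgroup.mem_bot (G := G)).mp (hbot ▸ ⟨⟨?_, ?_⟩, hw⟩))
    · exact Subgroup.mem_centralizer_singleton_iff.mpr (hcomm w hw v hv)
    · exact Subgroup.mem_centralizer_singleton_iff.mpr hwx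
  · obtain ⟨h, hhC⟩ := h
    obtain ⟨v', hv'C⟩ := v'
    have hv'V : v' ∈ V := hv'.2
    have hvh : Commute h v := Subgroup.mem_centralizer_singleton_iff.mp hhC.1
    have hxh : Commute h x := Subgroup.mem_centralizer_singleton_iff.mp hhC.2
    have hv'x : Commute v' x := Subgroup.mem_centralizer_singleton_iff.mp hv'C.2
    have hi : v' * h * v'⁻¹ = h⁻¹ := congrArg Subtype.val hinv'
    have hodd' : Odd (orderOf h) := by
      rw [← Subgroup.orderOf_coe] at hodd; exact hodd
    have hoxh : Odd (orderOf (x * h)) :=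
      (hx.mul hodd').of_dvd_nat hxh.symm.orderOf_mul_dvd_mul_orderOf
    have h1 : v * v' * x * (v * v')⁻¹ = x⁻¹ := by
      rw [← hinv, mul_inv_rev, mul_assoc v v' x, hv'x.eq]; group
    have h2 : v * v' * h * (v * v')⁻¹ = h⁻¹ := by
      calc v * v' * h * (v * v')⁻¹ = v * (v' * h * v'⁻¹) * v⁻¹ := by group
        _ = h⁻¹ := by rw [hi, ← (hvh.inv_left).eq]; group
    have h3 : v * v' * (x * h) * (v * v')⁻¹ = (x * h)⁻¹ := by
      calc v * v' * (x * h) * (v * v')⁻¹ = (v * v' * x * (v * v')⁻¹) * (v * v' * h * (v * v')⁻¹) := by group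
        _ = (x * h)⁻¹ := by rw [h1, h2, mul_inv_rev, (hxh.inv_inv).eq]
    obtain ⟨w, hw, hw1, hwc⟩ := hS (x * h) (v * v') (V.mul_mem hv hv'V) hoxh h3
    have hwv : Commute w v := hcomm w hw v hv
    have hwd : Commute w (x⁻¹ * h) := by
      have e : x⁻¹ * h = v * (x * h) * v⁻¹ := by
        have e2 : v * h * v⁻¹ = h := by rw [← hvh.eq]; group
        calc x⁻¹ * h = (v * x * v⁻¹) * (v * h * v⁻¹) := by rw [hinv, e2]
          _ = v * (x * h) * v⁻¹ := by group
      rw [e]
      exact (hwv.mul_right hwc).mul_right hwv.inv_right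
    have hwx2 : Commute w (x ^ 2) := by
      have e : x ^ 2 = x * h * (x⁻¹ * h)⁻¹ := by rw [pow_two]; group
      rw [e]
      exact Commute.mul_right hwc hwd.inv_right
    have hwx : Commute w x := hk ▸ hwx2.pow_right k
    have hwh : Commute w h := by
      have := hwx.inv_right.mul_right (show Commute w (x * h) from hwc)
      rwa [inv_mul_cancel_left] at this
    have hwC : w ∈ Subgroup.centralizer ({v} : Set G) ⊓ Subgroup.centralizer ({x} : Set G) :=
      ⟨Subgroup.mem_centralizer_singleton_iff.mpr hwv.eq, Subgroup.mem_centralizer_singleton_iff.mpr hwx.eq⟩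
    exact ⟨⟨w, hwC⟩, ⟨hwC, hw⟩, fun h => hw1 (congrArg Subtype.val h), Subtype.ext hwh.eq⟩

end Cfsg.Agent.S3013
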