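import Cfsg.Statements.S3014
import Mathlib.GroupTheory.Transfer

set_option autoImplicit false
open Cfsg

namespace Cfsg.Agent.S3014

open scoped commutatorElement

theorem inf_normalizer_le_normalizer_sup {G : Type*} [Group G] (A B : Subgroup G) :
    Subgroup.normalizer (A : Set G) ⊓ Subgroup.normalizer (B : Set G) ≤
      Subgroup.normalizer ((A ⊔ B : Subgroup G) : Set G) := by
  intro u hu
  have key : ∀ (K : Subgroup G), u ∈ Subgroup.normalizer (K : Set G) →
      K.map (MulAut.conj u).toMonoidHom = K := by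
    intro K hK
    ext z
    rw [Subgroup.mem_map_equiv, MulAut.conj_symm_apply]
    conv_rhs => rw [show z = u * (u⁻¹ * z * u) * u⁻¹ by group]
    exact Subgroup.mem_normalizer_iff.mp hK _
  rw [Subgroup.mem_normalizer_iff]
  intro z
  conv_rhs => rw [← key A hu.1, ← key B hu.2, ← Subgroup.map_sup]
  rw [Subgroup.mem_map_equiv, MulAut.conj_symm_apply, show u⁻¹ * (u * z * u⁻¹) * u = z by group]

/-- If `φ` kills the elements of `M` which are fused into `M` from outside, then the transfer
extends `φ`. -/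
theorem transfer_eq_of_isolated {G A : Type*} [Group G] [Finite G] [CommGroup A] {M : Subgroup G}
    (φ : M →* A) (hiso : ∀ g, g ∉ M → ∀ x : M, g * x * g⁻¹ ∈ M → φ x = 1)
    (hker : ∀ (g : G) (x : M), φ x = 1 → ∀ h : g * x * g⁻¹ ∈ M, φ ⟨_, h⟩ = 1) :
    ∀ m : M, MonoidHom.transfer φ (m : G) = φ m := by
  classical
  intro m
  haveI := Fintype.ofFinite (Quotient (MulAction.orbitRel (Subgroup.zpowers (m : G)) (G ⧸ M)))
  rw [MonoidHom.transfer_eq_prod_quotient_orbitRel_zpowers_quot]
  have hfix : ∀ t : Subgroup.zpowers (m : G), t • ((1 : G) : G ⧸ M) = ((1 : G) : G ⧸ M) := by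
    intro t
    show ((((t : G) * 1 : G) : G ⧸ M)) = _
    rw [mul_one, QuotientGroup.eq, mul_one]
    exact M.inv_mem (Subgroup.zpowers_le.mpr m.2 t.2)
  set q0 : Quotient (MulAction.orbitRel (Subgroup.zpowers (m : G)) (G ⧸ M)) :=
    Quotient.mk'' ((1 : G) : G ⧸ M) with hq0
  have hout : ∀ q : Quotient (MulAction.orbitRel (Subgroup.zpowers (m : G)) (G ⧸ M)),
      q.out.out ∈ M ↔ q = q0 := by
    intro q
    constructor
    · intro h
      rw [← Quotient.out_eq q, hq0]
      refine congrArg _ ?_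
      rw [← QuotientGroup.out_eq' q.out, QuotientGroup.eq, mul_one]
      exact M.inv_mem h
    · rintro rfl
      have h1 : q0.out = ((1 : G) : G ⧸ M) := by
        obtain ⟨t, ht⟩ := Quotient.exact' (q0.out_eq.trans hq0)
        rw [← ht]; exact hfix t
      have h2 : ((q0.out.out : G) : G ⧸ M) = ((1 : G) : G ⧸ M) := by
        rw [QuotientGroup.out_eq', h1]
      rw [QuotientGroup.eq, mul_one] at h2
      simpa using M.inv_mem h2
  rw [Finset.prod_eq_single q0]
  · have hg := (hout q0).mpr rfl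
    have hper : Function.minimalPeriod ((m : G) • ·) q0.out = 1 := by
      rw [Function.minimalPeriod_eq_one_iff_isFixedPt]
      show (m : G) • q0.out = q0.out
      rw [← QuotientGroup.out_eq' q0.out, MulAction.Quotient.smul_coe, smul_eq_mul,
        QuotientGroup.eq]
      exact M.mul_mem (M.inv_mem (M.mul_mem m.2 hg)) hg
    have hsub : (⟨q0.out.out⁻¹ * (m : G) ^ Function.minimalPeriod ((m : G) • ·) q0.out * q0.out.out,
        QuotientGroup.out_conj_pow_minimalPeriod_mem M (m : G) q0.out⟩ : M) =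
        ⟨_, hg⟩⁻¹ * m * ⟨_, hg⟩ := Subtype.ext (by simp [hper])
    rw [hsub, map_mul, map_mul, map_inv, mul_comm, mul_inv_cancel_left]
  · intro q _ hq
    have hg : q.out.out ∉ M := fun h => hq ((hout q).mp h)
    set k := Function.minimalPeriod ((m : G) • ·) q.out
    have hy : q.out.out⁻¹ * ((m ^ k : M) : G) * q.out.out⁻¹⁻¹ ∈ M := by
      rw [inv_inv, SubmonoidClass.coe_pow]
      exact QuotientGroup.out_conj_pow_minimalPeriod_mem M (m : G) q.out
    have hmk : φ (m ^ k) = 1 :=
      hiso q.out.out⁻¹ (fun h => hg (by simpa using M.inv_mem h)) (m ^ k) hy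
    rw [← hker q.out.out⁻¹ (m ^ k) hmk hy]
    exact congrArg φ (Subtype.ext (by simp [k]))
  · exact fun h => absurd (Finset.mem_univ _) h

/-- A maximal subgroup of prime order does not occur in a non-abelian simple group. -/
theorem false_of_prime_maximal {G : Type*} [Group G] [Finite G] [IsSimpleGroup G]
    (hG : ¬ IsMulCommutative G) (M : Subgroup G) (hM : IsCoatom M) (hp : (Nat.card M).Prime) :
    False := by
  haveI : Fact (Nat.card M).Prime := ⟨hp⟩
  haveI : IsCyclic M := isCyclic_of_prime_card rfl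
  letI : CommGroup M := IsCyclic.commGroup
  have hM1 : M ≠ ⊥ := fun h => hp.ne_one (by rw [h, Subgroup.card_bot])
  have hMn : ¬ M.Normal := fun h => by
    rcases IsSimpleGroup.eq_bot_or_eq_top_of_normal M h with h | h
    exacts [hM1 h, hM.1 h]
  have hNM : Subgroup.normalizer (M : Set G) = M :=
    (eq_or_lt_of_le Subgroup.le_normalizer).elim Eq.symm fun h =>
      absurd (Subgroup.normalizer_eq_top_iff.mp (hM.2 _ h)) hMn
  have hV := transfer_eq_of_isolated (MonoidHom.id M) (fun g hg x hx => by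
    by_contra hx1
    apply hg
    rw [← hNM]
    have hz : Subgroup.zpowers (x : G) = M := Subgroup.eq_of_le_of_card_ge
      (Subgroup.zpowers_le.mpr x.2) (by
        rw [Nat.card_zpowers, Subgroup.orderOf_coe, orderOf_eq_prime (pow_card_eq_one') (show x ≠ 1 from hx1)])
    have hmap : M.map (MulAut.conj g).toMonoidHom = M := Subgroup.eq_of_le_of_card_ge (by
        conv_lhs => rw [← hz]
        rw [MonoidHom.map_zpowers, Subgroup.zpowers_le]
        exact hx) (by
        rw [← Nat.card_congr (M.equivMapOfInjective _ (MulAut.conj g).injective).toEquiv])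
    rw [Subgroup.mem_normalizer_iff]
    intro y
    conv_rhs => rw [← hmap]
    rw [Subgroup.mem_map_equiv, MulAut.conj_symm_apply, show g⁻¹ * (g * y * g⁻¹) * g = y by group])
    (fun g x hx h => by obtain rfl : x = 1 := hx; exact Subtype.ext (by simp))
  set V : G →* M := MonoidHom.transfer (MonoidHom.id M)
  rcases IsSimpleGroup.eq_bot_or_eq_top_of_normal V.ker inferInstance with h | h
  · exact hG ⟨⟨fun a b => (MonoidHom.ker_eq_bot_iff V).mp h (by rw [map_mul, map_mul, mul_comm])⟩⟩
  · haveI : Nontrivial M := (Subgroup.nontrivial_iff_ne_bot M).mpr hM1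
    obtain ⟨x, hx⟩ := exists_ne (1 : M)
    exact hx ((hV x).symm.trans (MonoidHom.mem_ker.mp (h ▸ Subgroup.mem_top (x : G))))

theorem normalClosure_inf_eq {G : Type*} [Group G] [Finite G] (H M : Subgroup G) (hHM : H ≤ M)
    (hcl : ∀ g : G, (H ⊔ H.map (MulAut.conj g).toMonoidHom) ⊓ M = H)
    (hmaxH : IsCoatom (H.subgroupOf M)) (hmaxM : IsCoatom M) :
    Subgroup.normalClosure (H : Set G) ⊓ M = H := by
  refine le_antisymm ?_ (le_inf Subgroup.le_normalClosure hHM)
  have hconj : ∀ g : G, ∀ h ∈ H, g * h * g⁻¹ ∈ M → g * h * g⁻¹ ∈ H := fun g h hh hm =>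
    (hcl g).le ⟨Subgroup.mem_sup_right ⟨h, hh, rfl⟩, hm⟩
  have hMH : M ≤ Subgroup.normalizer (H : Set G) := by
    intro m hm
    rw [Subgroup.mem_normalizer_iff]
    refine fun h => ⟨fun hh => hconj m h hh (M.mul_mem (M.mul_mem hm (hHM hh)) (M.inv_mem hm)),
      fun hh => ?_⟩
    have h1 : h = m⁻¹ * (m * h * m⁻¹) * m⁻¹⁻¹ := by group
    rw [h1]
    exact hconj m⁻¹ _ hh (M.mul_mem (M.mul_mem (M.inv_mem hm) (hHM hh)) (M.inv_mem (M.inv_mem hm)))
  by_cases hHn : Subgroup.normalizer (H : Set G) = ⊤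
  · haveI := Subgroup.normalizer_eq_top_iff.mp hHn
    rw [Subgroup.normalClosure_eq_self]
    exact inf_le_left
  have hNM : Subgroup.normalizer (H : Set G) = M :=
    (eq_or_lt_of_le hMH).elim Eq.symm fun h => absurd (hmaxM.2 _ h) hHn
  haveI hHnM : (H.subgroupOf M).Normal := Subgroup.normal_subgroupOf_of_le_normalizer hMH
  have hgen : ∀ x ∈ M, x ∉ H → H ⊔ Subgroup.zpowers x = M := by
    intro x hx hxH
    refine le_antisymm (sup_le hHM (Subgroup.zpowers_le.mpr hx)) ?_
    rw [← Subgroup.subgroupOf_eq_top]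
    refine hmaxH.2 _ (lt_of_le_of_ne (Subgroup.comap_mono le_sup_left)
      fun e => hxH ?_)
    have : (⟨x, hx⟩ : M) ∈ H.subgroupOf M := by
      rw [e]; exact Subgroup.mem_sup_right (Subgroup.mem_zpowers x)
    exact this
  by_cases hiso : ∃ x ∈ M, x ∉ H ∧ ∃ g, g ∉ M ∧ g * x * g⁻¹ ∈ M
  · obtain ⟨x, hx, hxH, g, hg, hgx⟩ := hiso
    set L := H ⊔ H.map (MulAut.conj g).toMonoidHom with hL
    have hxH' : g * x * g⁻¹ ∉ H := fun h => hxH (by
      have h1 := hconj g⁻¹ _ h (by rwa [show g⁻¹ * (g * x * g⁻¹) * g⁻¹⁻¹ = x by group])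
      rwa [show g⁻¹ * (g * x * g⁻¹) * g⁻¹⁻¹ = x by group] at h1)
    have hmap : ∀ y : G, y ∈ Subgroup.normalizer (H.map (MulAut.conj g).toMonoidHom : Set G) ↔
        g⁻¹ * y * g ∈ Subgroup.normalizer (H : Set G) := by
      intro y
      rw [← Subgroup.map_equiv_normalizer_eq H (MulAut.conj g), Subgroup.mem_map_equiv,
        MulAut.conj_symm_apply]
    have hHxL : Subgroup.zpowers (g * x * g⁻¹) ≤ Subgroup.normalizer (L : Set G) := by
      rw [Subgroup.zpowers_le, hL]
      refine inf_normalizer_le_normalizer_sup _ _ ⟨hMH hgx, (hmap _).mpr ?_⟩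
      rw [show g⁻¹ * (g * x * g⁻¹) * g = x by group]
      exact hMH hx
    have hMN : M ≤ Subgroup.normalizer (L : Set G) := by
      rw [← hgen _ hgx hxH']
      exact sup_le (le_sup_left.trans Subgroup.le_normalizer) hHxL
    have hLM : ¬ L ≤ M := fun hle => hg (by
      have h1 : L ≤ H := by
        rw [← hcl g]; exact le_inf le_rfl hle
      have h2 : H.map (MulAut.conj g).toMonoidHom = H :=
        Subgroup.eq_of_le_of_card_ge (le_sup_right.trans h1) (by
          rw [← Nat.card_congr (H.equivMapOfInjective _ (MulAut.conj g).injective).toEquiv])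
      rw [← hNM, Subgroup.mem_normalizer_iff]
      intro h
      conv_rhs => rw [← h2]
      rw [Subgroup.mem_map_equiv, MulAut.conj_symm_apply, show g⁻¹ * (g * h * g⁻¹) * g = h by group])
    have hNtop : Subgroup.normalizer (L : Set G) = ⊤ := hmaxM.2 _ (lt_of_le_of_ne hMN fun e =>
      hLM (Subgroup.le_normalizer.trans e.ge))
    haveI := Subgroup.normalizer_eq_top_iff.mp hNtop
    exact (inf_le_inf_right M (Subgroup.normalClosure_le_normal (SetLike.coe_subset_coe.mpr (le_sup_left : H ≤ L)))).trans (hcl g).le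
  push Not at hiso
  -- the transfer into `M / H`
  haveI hQcomm : IsMulCommutative (M ⧸ H.subgroupOf M) := by
    obtain ⟨z, hz⟩ : ∃ z : M, z ∉ H.subgroupOf M := by
      by_contra hno
      push Not at hno
      exact hmaxH.1 (eq_top_iff.mpr fun z _ => hno z)
    have hcyc : ∀ a : M ⧸ H.subgroupOf M, a ∈ Subgroup.zpowers (QuotientGroup.mk' _ z) := by
      intro a
      induction a using QuotientGroup.induction_on with
      | H a =>
        have h1 : (a : G) ∈ H ⊔ Subgroup.zpowers (z : G) := by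
          rw [hgen _ z.2 hz]; exact a.2
        have h2 : a ∈ H.subgroupOf M ⊔ Subgroup.zpowers z := by
          rw [show Subgroup.zpowers z = (Subgroup.zpowers (z : G)).subgroupOf M from ?_,
            ← Subgroup.subgroupOf_sup hHM (Subgroup.zpowers_le.mpr z.2)]
          · exact h1
          · rw [Subgroup.subgroupOf, ← show (Subgroup.zpowers z).map M.subtype = Subgroup.zpowers (z : G)
              from MonoidHom.map_zpowers _ _,
              Subgroup.comap_map_eq_self_of_injective M.subtype_injective]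
        obtain ⟨u, hu, v, hv, rfl⟩ := Subgroup.mem_sup_of_normal_left.mp h2
        obtain ⟨i, rfl⟩ := hv
        refine ⟨i, ?_⟩
        show (QuotientGroup.mk' _ z) ^ i = QuotientGroup.mk' _ (u * z ^ i)
        rw [map_mul, map_zpow, show QuotientGroup.mk' (H.subgroupOf M) u = 1 from
          (QuotientGroup.eq_one_iff u).mpr hu, one_mul]
    refine ⟨⟨fun a b => ?_⟩⟩
    obtain ⟨i, rfl⟩ := hcyc a
    obtain ⟨j, rfl⟩ := hcyc b
    exact (Commute.refl _).zpow_zpow i j |>.eq
  letI : CommGroup (M ⧸ H.subgroupOf M) :=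
    { (inferInstance : Group (M ⧸ H.subgroupOf M)) with mul_comm := hQcomm.is_comm.comm }
  set φ : M →* M ⧸ H.subgroupOf M := QuotientGroup.mk' _ with hφ
  set V : G →* M ⧸ H.subgroupOf M := MonoidHom.transfer φ with hV
  have hVM : ∀ m : M, V (m : G) = φ m := transfer_eq_of_isolated φ
    (fun g hg x hx => (QuotientGroup.eq_one_iff x).mpr (by_contra fun hxH =>
      hiso x x.2 hxH g hg hx))
    (fun g x hx h => (QuotientGroup.eq_one_iff _).mpr
      (hconj g x ((QuotientGroup.eq_one_iff x).mp hx) h))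
  have hHK : H ≤ V.ker := fun h hh => by
    rw [MonoidHom.mem_ker, show V h = φ ⟨h, hHM hh⟩ from hVM ⟨h, hHM hh⟩]
    exact (QuotientGroup.eq_one_iff _).mpr hh
  rintro y ⟨hy, hyM⟩
  have h1 : V y = 1 := Subgroup.normalClosure_le_normal hHK hy
  rw [show V y = φ ⟨y, hyM⟩ from hVM ⟨y, hyM⟩] at h1
  exact (QuotientGroup.eq_one_iff (⟨y, hyM⟩ : M)).mp h1

/-- Let G be a finite group and H ≤ M ≤ G subgroups such that for every g ∈ G the subgroup generated by H and g H g⁻¹ meets M exactly in H. If H is a maximal subgroup of M and M is a maximal subgroup of G, then the normal closure of H in G meets M exactly in H. -/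
theorem result {G : Type*} [Group G] [Finite G] (H M : Subgroup G) (hHM : H ≤ M) (hcl : ∀ g : G, (H ⊔ H.map (MulAut.conj g).toMonoidHom) ⊓ M = H) (hmaxH : IsCoatom (H.subgroupOf M)) (hmaxM : IsCoatom M) : Subgroup.normalClosure (H : Set G) ⊓ M = H := by
  exact normalClosure_inf_eq H M hHM hcl hmaxH hmaxM

end Cfsg.Agent.S3014
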