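import Cfsg.Statements.S3015
import Cfsg.Agent.S3014

set_option autoImplicit false
open Cfsg

namespace Cfsg.Agent.S3015

/-- Let G be a finite non-abelian simple group, M a maximal subgroup of G and H a normal subgroup of M of prime index in M. Then G is generated by H together with one of its conjugates. -/
theorem result {G : Type*} [Group G] [Finite G] [IsSimpleGroup G] (hG : ¬ IsMulCommutative G) (M H : Subgroup G) (hmaxM : IsCoatom M) (hHM : H ≤ M) (hHn : (H.subgroupOf M).Normal) (hidx : (H.relIndex M).Prime) : ∃ g : G, H ⊔ H.map (MulAut.conj g).toMonoidHom = ⊤ := by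
  classical
by_contra hno
push Not at hno
have hprime := hidx
have hMn : M ≠ ⊥ := by
  rintro rfl
  rw [Subgroup.relIndex_bot_right] at hidx
  exact Nat.not_prime_one hidx
have hMnn : ¬ M.Normal := fun h => by
  rcases IsSimpleGroup.eq_bot_or_eq_top_of_normal M h with h | h
  exacts [hMn h, hmaxM.1 h]
have hstab : ∀ g : G, H.map (MulAut.conj g).toMonoidHom ≤ M → g ∈ M ∨ H = ⊥ := by
  intro g hle
  set r := H.relIndex M with hr
  haveI : Fact r.Prime := ⟨hidx⟩
  by_cases hg : g ∈ M
  · exact Or.inl hg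
  right
  set H1 := H.map (MulAut.conj g).toMonoidHom with hH1
  have hcard : Nat.card H1 = Nat.card H :=
    (Nat.card_congr (H.equivMapOfInjective _ (MulAut.conj g).injective).toEquiv).symm
  have hidx1 : H1.relIndex M = r := by
    have e1 := (H1.subgroupOf M).card_mul_index
    have e2 := (H.subgroupOf M).card_mul_index
    rw [Nat.card_congr (Subgroup.subgroupOfEquivOfLe hle).toEquiv, hcard] at e1
    rw [Nat.card_congr (Subgroup.subgroupOfEquivOfLe hHM).toEquiv] at e2
    exact Nat.eq_of_mul_eq_mul_left Nat.card_pos (e1.trans e2.symm)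
  -- the `r`-elements of the two subgroups
  set SH : Set G := {x | x ∈ H ∧ ∃ a, orderOf x = r ^ a} with hSH
  set S1 : Set G := {x | x ∈ H1 ∧ ∃ a, orderOf x = r ^ a} with hS1
  have hconjo : ∀ (y x : G), orderOf (y * x * y⁻¹) = orderOf x := fun y x =>
    orderOf_injective (MulAut.conj y).toMonoidHom (MulAut.conj y).injective x
  have hS1n : ∀ y ∈ M, ∀ x ∈ S1, y * x * y⁻¹ ∈ S1 := by
    rintro y hy x ⟨hx, a, ha⟩
    refine ⟨?_, a, by rw [hconjo, ha]⟩
    have hxp : IsPGroup r (Subgroup.zpowers (⟨x, hle hx⟩ : M)) :=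
      IsPGroup.of_card (n := a) (by rw [Nat.card_zpowers, Subgroup.orderOf_mk, ha])
    haveI : Finite (M ⧸ H1.subgroupOf M) := inferInstance
    have hmod := hxp.card_modEq_card_fixedPoints (M ⧸ H1.subgroupOf M)
    rw [← Subgroup.index_eq_card, show (H1.subgroupOf M).index = r from hidx1] at hmod
    set F := MulAction.fixedPoints (Subgroup.zpowers (⟨x, hle hx⟩ : M)) (M ⧸ H1.subgroupOf M)
    have hne : (((1 : M)) : M ⧸ H1.subgroupOf M) ∈ F := by
      intro t
      show (((t : M) * 1 : M) : M ⧸ H1.subgroupOf M) = _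
      rw [mul_one, QuotientGroup.eq, mul_one]
      exact Subgroup.inv_mem _ (Subgroup.zpowers_le.mpr (show (⟨x, hle hx⟩ : M) ∈ H1.subgroupOf M
        from hx) t.2)
    haveI : Nonempty F := ⟨⟨_, hne⟩⟩
    have hFle : Nat.card F ≤ r := by
      rw [← hidx1]; exact Nat.card_le_card_of_injective (fun w : F => w.1) Subtype.val_injective
    have hFr : Nat.card F = r := by
      have h0 : r ∣ Nat.card F := by
        rw [← Nat.modEq_zero_iff_dvd]
        exact hmod.symm.trans (by rw [Nat.modEq_zero_iff_dvd])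
      exact le_antisymm hFle (Nat.le_of_dvd Nat.card_pos h0)
    have hall : F = Set.univ := Set.eq_of_subset_of_ncard_le (Set.subset_univ _) (by
      rw [Set.ncard_univ, ← Subgroup.index_eq_card, show (H1.subgroupOf M).index = r from hidx1,
        ← hFr, Nat.card_coe_set_eq])
    have h2 : (((⟨y, hy⟩⁻¹ : M)) : M ⧸ H1.subgroupOf M) ∈ F := hall ▸ Set.mem_univ _
    have h3 := h2 ⟨_, Subgroup.mem_zpowers _⟩
    change (((⟨x, hle hx⟩ : M) * ⟨y, hy⟩⁻¹ : M) : M ⧸ H1.subgroupOf M) = _ at h3
    rw [QuotientGroup.eq, Subgroup.mem_subgroupOf] at h3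
    simp only [mul_inv_rev, inv_inv, Subgroup.coe_mul, Subgroup.coe_inv] at h3
    simpa [mul_assoc] using H1.inv_mem h3
  set T := Subgroup.closure S1 with hT
  have hTM : ∀ y ∈ M, ∀ x ∈ T, y * x * y⁻¹ ∈ T := by
    intro y hy x hx
    induction hx using Subgroup.closure_induction with
    | mem z hz => exact Subgroup.subset_closure (hS1n y hy z hz)
    | one => simp
    | mul a b _ _ ha hb => rw [← conj_mul]; exact T.mul_mem ha hb
    | inv a _ ha => rw [← conj_inv]; exact T.inv_mem ha
  have hTg : ∀ y ∈ M, ∀ x ∈ T, (g * y * g⁻¹) * x * (g * y * g⁻¹)⁻¹ ∈ T := by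
    intro y hy x hx
    induction hx using Subgroup.closure_induction with
    | mem z hz =>
      obtain ⟨⟨h, hh, rfl⟩, a, ha⟩ := hz
      refine Subgroup.subset_closure ⟨⟨y * h * y⁻¹, ?_, ?_⟩, a, ?_⟩
      · exact hHn.conj_mem ⟨h, hHM hh⟩ hh ⟨y, hy⟩
      · simp [mul_assoc]
      · rw [hconjo, ha]
    | one => simp
    | mul a b _ _ ha hb => rw [← conj_mul]; exact T.mul_mem ha hb
    | inv a _ ha => rw [← conj_inv]; exact T.inv_mem ha
  have hTn : T.Normal := by
    have hMN : M ≤ Subgroup.normalizer (T : Set G) := by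
      intro y hy
      rw [Subgroup.mem_normalizer_iff]
      refine fun x => ⟨hTM y hy x, fun h => ?_⟩
      have := hTM y⁻¹ (M.inv_mem hy) _ h
      rwa [show y⁻¹ * (y * x * y⁻¹) * y⁻¹⁻¹ = x by group] at this
    rw [← Subgroup.normalizer_eq_top_iff]
    refine hmaxM.2 _ (lt_of_le_of_ne hMN fun e => hMnn ?_)
    have hgM : M.map (MulAut.conj g).toMonoidHom ≤ M := by
      rintro _ ⟨y, hy, rfl⟩
      show g * y * g⁻¹ ∈ M
      rw [e]
      show g * y * g⁻¹ ∈ _
      rw [Subgroup.mem_normalizer_iff]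
      refine fun x => ⟨hTg y hy x, fun h => ?_⟩
      have := hTg y⁻¹ (M.inv_mem hy) _ h
      rwa [show g * y⁻¹ * g⁻¹ * (g * y * g⁻¹ * x * (g * y * g⁻¹)⁻¹) * (g * y⁻¹ * g⁻¹)⁻¹ = x by group]
        at this
    have heq : M.map (MulAut.conj g).toMonoidHom = M := Subgroup.eq_of_le_of_card_ge hgM (by
      rw [← Nat.card_congr (M.equivMapOfInjective _ (MulAut.conj g).injective).toEquiv])
    rw [← Subgroup.normalizer_eq_top_iff]
    refine hmaxM.2 _ (lt_of_le_of_ne Subgroup.le_normalizer fun e' => hg ?_)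
    rw [e', Subgroup.mem_normalizer_iff]
    intro y
    conv_rhs => rw [← heq]
    rw [Subgroup.mem_map_equiv, MulAut.conj_symm_apply, show g⁻¹ * (g * y * g⁻¹) * g = y by group]
  have hTbot : T = ⊥ := by
    refine (IsSimpleGroup.eq_bot_or_eq_top_of_normal T hTn).resolve_right fun h => hmaxM.1 ?_
    exact top_le_iff.mp (h ▸ (Subgroup.closure_le M).mpr fun x hx => hle hx.1)
  -- `H` is an `r'`-group, so `H ^ g ≤ H`
  have hrH : ¬ r ∣ Nat.card H1 := by
    intro hd
    obtain ⟨x, hx⟩ := exists_prime_orderOf_dvd_card' r hd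
    have : (x : G) ∈ T := Subgroup.subset_closure ⟨x.2, 1, by rw [Subgroup.orderOf_coe, hx, pow_one]⟩
    rw [hTbot, Subgroup.mem_bot] at this
    rw [show x = 1 from Subtype.ext this, orderOf_one] at hx
    exact hidx.ne_one hx.symm
  have hH1H : H1 ≤ H := by
    intro x hx
    haveI := hHn
    have h1 : orderOf (QuotientGroup.mk' (H.subgroupOf M) ⟨x, hle hx⟩) ∣ r := by
      have := orderOf_dvd_natCard (QuotientGroup.mk' (H.subgroupOf M) ⟨x, hle hx⟩)
      rwa [← Subgroup.index_eq_card, show (H.subgroupOf M).index = r from rfl] at this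
    have h2 : orderOf (QuotientGroup.mk' (H.subgroupOf M) ⟨x, hle hx⟩) ∣ Nat.card H1 :=
      (orderOf_map_dvd _ _).trans (by rw [Subgroup.orderOf_mk]; exact Subgroup.orderOf_dvd_natCard H1 hx)
    have h3 := Nat.eq_one_of_dvd_coprimes (hidx.coprime_iff_not_dvd.mpr hrH) h1 h2
    exact (QuotientGroup.eq_one_iff (⟨x, hle hx⟩ : M)).mp (orderOf_eq_one_iff.mp h3)
  by_contra hH
  apply hg
  have heq : H1 = H := Subgroup.eq_of_le_of_card_ge hH1H hcard.ge
  have hgN : g ∈ Subgroup.normalizer (H : Set G) := by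
    rw [Subgroup.mem_normalizer_iff]
    intro y
    conv_rhs => rw [← heq, hH1]
    rw [Subgroup.mem_map_equiv, MulAut.conj_symm_apply, show g⁻¹ * (g * y * g⁻¹) * g = y by group]
  have hMH : M ≤ Subgroup.normalizer (H : Set G) :=
    (Subgroup.normal_subgroupOf_iff_le_normalizer hHM).mp hHn
  rcases eq_or_lt_of_le hMH with e | e
  · exact e ▸ hgN
  · have := Subgroup.normalizer_eq_top_iff.mp (hmaxM.2 _ e)
    rcases IsSimpleGroup.eq_bot_or_eq_top_of_normal H this with h | h
    · exact absurd h hH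
    · exact absurd (top_le_iff.mp (h ▸ hHM)) hmaxM.1
have hcoatom : IsCoatom (H.subgroupOf M) := by
  refine ⟨fun e => hidx.ne_one (by rw [Subgroup.relIndex, e, Subgroup.index_top]), fun K hK => ?_⟩
  rcases (Nat.dvd_prime hidx).mp (Subgroup.index_dvd_of_le hK.le) with h | h
  · exact Subgroup.index_eq_one.mp h
  · exfalso
    have h1 := Subgroup.relIndex_mul_index hK.le
    rw [h] at h1
    have h2 : (H.subgroupOf M).relIndex K = 1 :=
      Nat.eq_of_mul_eq_mul_right hidx.pos (h1.trans (one_mul _).symm)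
    exact hK.not_ge (Subgroup.relIndex_eq_one.mp h2)
have hcl : ∀ g : G, (H ⊔ H.map (MulAut.conj g).toMonoidHom) ⊓ M = H := by
  intro g
  by_contra hne
  set L := H ⊔ H.map (MulAut.conj g).toMonoidHom
  have hHle : H ≤ L ⊓ M := le_inf le_sup_left hHM
  have htop : (L ⊓ M).subgroupOf M = ⊤ := hcoatom.2 _ (lt_of_le_of_ne
    (Subgroup.comap_mono hHle) fun e => hne
      (le_antisymm (fun x hx => show (⟨x, hx.2⟩ : M) ∈ H.subgroupOf M from e ▸ hx) hHle))
  have hML : M ≤ L := fun x hx => (Subgroup.subgroupOf_eq_top.mp htop hx).1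
  have hLM : L = M := (eq_or_lt_of_le hML).elim Eq.symm fun h => absurd (hmaxM.2 _ h) (hno g)
  rcases hstab g (le_sup_right.trans hLM.le) with hg | hg
  · apply hne
    have hMH : M ≤ Subgroup.normalizer (H : Set G) :=
      (Subgroup.normal_subgroupOf_iff_le_normalizer hHM).mp hHn
    have : H.map (MulAut.conj g).toMonoidHom ≤ H := by
      rintro _ ⟨y, hy, rfl⟩
      exact (Subgroup.mem_normalizer_iff.mp (hMH hg) y).mp hy
    rw [show L = H from sup_eq_left.mpr this, inf_eq_left.mpr hHM]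
  · apply hne
    subst hg
    simp [L]
have hmain := Cfsg.Agent.S3014.normalClosure_inf_eq H M hHM hcl hcoatom hmaxM
rcases IsSimpleGroup.eq_bot_or_eq_top_of_normal _
    (Subgroup.normalClosure_normal (s := (H : Set G))) with h | h
· -- `H` is trivial: `G` has a transfer of `M` onto its prime order
  have hHbot : H = ⊥ := le_bot_iff.mp (h ▸ Subgroup.le_normalClosure)
  subst hHbot
  rw [Subgroup.relIndex_bot_left] at hidx
  exact Cfsg.Agent.S3014.false_of_prime_maximal hG M hmaxM hidx
· rw [h, top_inf_eq] at hmain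
  exact hcoatom.1 (by rw [← hmain, Subgroup.subgroupOf_self])

end Cfsg.Agent.S3015
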