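import Mathlib
import Cfsg.Statements.S3020
import Cfsg.Agent.Lib.Transfer.Basic
import Cfsg.Agent.Lib.Transfer.Sylow

set_option autoImplicit false
set_option linter.style.haveILetI false
set_option linter.unusedVariables false
open Cfsg

namespace Cfsg.Agent.S3020

/-- Let G be a finite group, p a prime and H an abelian p-subgroup of G that is extremely closed (for every g, the subgroup generated by H and g H g⁻¹ meets N_G(H) exactly in H). Then for every g ∈ G, the subgroup T generated by H and g H g⁻¹ is the product of H with O_{p'}(T), and H meets O_{p'}(T) trivially; that is, O_{p'}(T) is a normal p-complement of H in T. -/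
theorem result {G : Type*} [Group G] [Finite G] {p : ℕ} [Fact p.Prime] (H : Subgroup G) (hHp : IsPGroup p H) (hHab : IsMulCommutative H) (hcl : Cfsg.IsExtremelyClosed H) (g : G) (T : Subgroup G) (hT : T = H ⊔ H.map (MulAut.conj g).toMonoidHom) : H ⊔ (Cfsg.pPrimeCore p ↥T).map T.subtype = T ∧ H ⊓ (Cfsg.pPrimeCore p ↥T).map T.subtype = ⊥ := by
  subst hT
  set T := H ⊔ H.map (MulAut.conj g).toMonoidHom with hT
  have hHT : H ≤ T := le_sup_left
  set H' := H.subgroupOf T with hH'
  obtain ⟨P, hP⟩ := (hHp.comap_of_injective _ T.subtype_injective : IsPGroup p H').exists_le_sylow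
  have hnorm : Subgroup.normalizer (H' : Set T) ≤ H' := by
    intro u hu
    refine (hcl g).le ⟨u.2, Subgroup.mem_normalizer_fintype fun a ha => ?_⟩
    exact (Subgroup.mem_normalizer_iff.mp hu ⟨a, hHT ha⟩).mp ha
  have heq : H' = (P : Subgroup T) := by
    by_contra hne
    exact (CfsgLib.Transfer.lt_inf_normalizer P.2 (lt_of_le_of_ne hP hne)).not_ge (inf_le_right.trans hnorm)
  have hc : Cfsg.HasNormalPComplement p T := by
    refine CfsgLib.Transfer.hasNormalPComplement_of_normalizer_le_centralizer P ?_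
    rw [show ((P : Sylow p T) : Set T) = (H' : Set T) by rw [heq]; rfl]
    refine hnorm.trans fun u hu => Subgroup.mem_centralizer_iff.mpr fun v hv => Subtype.ext ?_
    exact congrArg (fun z : H => (z : G)) (hHab.is_comm.comm (⟨v, hv⟩ : H) ⟨u, hu⟩)
  refine ⟨le_antisymm (sup_le hHT (Subgroup.map_subtype_le _)) ?_, ?_⟩
  · intro t ht
    have h1 : (⟨t, ht⟩ : T) ∈ H' ⊔ Cfsg.pPrimeCore p T := by
      rw [CfsgLib.Transfer.pPrimeCore_eq_pResidual hc, heq, CfsgLib.Transfer.sylow_sup_pResidual]; trivial
    have h2 := Subgroup.mem_map_of_mem T.subtype h1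
    rw [Subgroup.map_sup, hH', Subgroup.map_subgroupOf_eq_of_le hHT] at h2
    exact h2
  · rw [eq_bot_iff]
    rintro x ⟨hxH, y, hy, rfl⟩
    refine Subgroup.mem_bot.mpr ?_
    obtain ⟨k, hk⟩ := IsPGroup.iff_card.mp hHp
    have h1 := CfsgLib.Transfer.coprime_orderOf_of_mem (CfsgLib.Transfer.pPrimeCore_coprime (G := T) p) hy
    rw [← Subgroup.orderOf_coe] at h1
    exact orderOf_eq_one_iff.mp (Nat.eq_one_of_dvd_coprimes (h1.pow_right k) dvd_rfl (hk ▸ H.orderOf_dvd_natCard hxH))

end Cfsg.Agent.S3020
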