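import Mathlib
import Cfsg.Statements.S3021
import Cfsg.Agent.Lib.Transfer.Sylow

set_option autoImplicit false
set_option linter.style.haveILetI false
set_option linter.unusedVariables false
open Cfsg

namespace Cfsg.Agent.S3021

/-- Let G be a finite group, p a prime and H a p-subgroup of G that is extremely closed (for every g, the subgroup generated by H and g H g⁻¹ meets N_G(H) exactly in H). Then every p-subgroup Q of G containing H has N_G(Q) ≤ N_G(H); in particular every Sylow p-subgroup P of G containing H normalizes H, and H is strongly closed in P with respect to G. -/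
theorem result {G : Type*} [Group G] [Finite G] {p : ℕ} [Fact p.Prime] (H : Subgroup G) (hHp : IsPGroup p H) (hcl : Cfsg.IsExtremelyClosed H) : (∀ Q : Subgroup G, IsPGroup p Q → H ≤ Q → Subgroup.normalizer (Q : Set G) ≤ Subgroup.normalizer (H : Set G)) ∧ ∀ P : Sylow p G, H ≤ (P : Subgroup G) → (P : Subgroup G) ≤ Subgroup.normalizer (H : Set G) ∧ Cfsg.IsStronglyClosed H (P : Subgroup G) := by
  have part1 : ∀ Q : Subgroup G, IsPGroup p Q → H ≤ Q → Q ≤ Subgroup.normalizer (H : Set G) := by
    intro Q hQ hHQ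
    by_contra hne
    set R := Q ⊓ Subgroup.normalizer (H : Set G) with hR
    have hRQ : R < Q := lt_of_le_of_ne inf_le_left fun e => hne (e ▸ inf_le_right)
    obtain ⟨x, ⟨hxQ, hxN⟩, hxR⟩ := SetLike.exists_of_lt (CfsgLib.Transfer.lt_inf_normalizer hQ hRQ)
    have hHR : H ≤ R := le_inf hHQ Subgroup.le_normalizer
    have hx : H.map (MulAut.conj x).toMonoidHom ≤ R := by
      rintro _ ⟨h, hh, rfl⟩
      exact (Subgroup.mem_normalizer_iff.mp hxN h).mp (hHR hh)
    apply hxR
    refine ⟨hxQ, CfsgLib.Transfer.map_conj_eq_self_iff.mp (Subgroup.eq_of_le_of_card_ge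
      ((le_inf le_sup_right (hx.trans inf_le_right)).trans (hcl x).le)
      (by rw [Subgroup.card_map_of_injective (MulAut.conj x).injective]))⟩
  have step : ∀ (Q : Subgroup G), IsPGroup p Q → H ≤ Q → ∀ g : G, ∀ a ∈ H, g * a * g⁻¹ ∈ Q → g * a * g⁻¹ ∈ H :=
    fun Q hQ hHQ g a ha hga => (hcl g).le ⟨Subgroup.mem_sup_right ⟨a, ha, rfl⟩, part1 Q hQ hHQ hga⟩
  refine ⟨fun Q hQ hHQ g hg => ?_, fun P hHP => ⟨part1 P P.2 hHP, hHP, fun a ha g hga => step P P.2 hHP g a ha hga⟩⟩
  refine Subgroup.mem_normalizer_fintype fun a ha => ?_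
  exact step Q hQ hHQ g a ha ((Subgroup.mem_normalizer_iff.mp hg a).mp (hHQ ha))

end Cfsg.Agent.S3021
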