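import Cfsg.Statements.S3025
import Cfsg.Agent.Lib.ZStar.Recognize

set_option autoImplicit false
set_option linter.style.haveILetI false

set_option autoImplicit false
open Cfsg

namespace Cfsg.Agent.S3025

/-- Let F be a finite group and H a nontrivial subgroup of F that is contained in every nontrivial subgroup of F which H normalizes. Then F has a nontrivial normal subgroup N contained in every nontrivial normal subgroup of F (a unique minimal normal subgroup), N is simple, and one of the following holds: C_F(N) = 1; or H = N has prime order p, C_F(N) is cyclic of order a power of p, and F/C_F(N) is cyclic of order dividing p − 1; or H = N has order 2, N is central in F, and F is a generalized quaternion group. -/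
theorem result {F : Type*} [Group F] [Finite F] (H : Subgroup F) (hH : H ≠ ⊥)
    (hmin : ∀ R : Subgroup F, R ≠ ⊥ → H ≤ Subgroup.normalizer (R : Set F) → H ≤ R) :
    ∃ N : Subgroup F, N.Normal ∧ N ≠ ⊥ ∧ (∀ M : Subgroup F, M.Normal → M ≠ ⊥ → N ≤ M) ∧ IsSimpleGroup ↥N ∧
      (Subgroup.centralizer (N : Set F) = ⊥ ∨
       (H = N ∧ (Nat.card N).Prime ∧ IsCyclic ↥(Subgroup.centralizer (N : Set F)) ∧
          (∃ k : ℕ, 1 ≤ k ∧ Nat.card ↥(Subgroup.centralizer (N : Set F)) = Nat.card N ^ k) ∧
          (∃ g : F, Subgroup.centralizer (N : Set F) ⊔ Subgroup.zpowers g = ⊤) ∧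
          (Subgroup.centralizer (N : Set F)).index ∣ Nat.card N - 1) ∨
       (H = N ∧ Nat.card N = 2 ∧ Subgroup.centralizer (N : Set F) = ⊤ ∧
          ∃ k : ℕ, 1 ≤ k ∧ Nonempty (F ≃* QuaternionGroup (2 ^ k)))) := by
  classical
  set N := Subgroup.normalClosure (H : Set F) with hN
  haveI hNn : N.Normal := Subgroup.normalClosure_normal
  have hHN : H ≤ N := Subgroup.le_normalClosure
  have hNb : N ≠ ⊥ := fun e => hH (le_bot_iff.mp (e ▸ hHN))
  have hNmin : ∀ M : Subgroup F, M.Normal → M ≠ ⊥ → N ≤ M := fun M hM hM1 =>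
    Subgroup.normalClosure_le_normal (hmin M hM1 (by rw [Subgroup.normalizer_eq_top_iff.mpr hM]; exact le_top))
  have hsimple : IsSimpleGroup N := by
    haveI : Nontrivial N := (Subgroup.nontrivial_iff_ne_bot N).mpr hNb
    refine ⟨fun K hK => ?_⟩
    by_cases hK1 : K = ⊥
    · exact Or.inl hK1
    refine Or.inr (Subgroup.map_injective N.subtype_injective ?_)
    rw [← MonoidHom.range_eq_map, Subgroup.range_subtype]
    refine le_antisymm (Subgroup.map_subtype_le K) ?_
    set M := (K.map N.subtype).normalCore with hM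
    have hHM : H ≤ M := by
      intro h hh g
      obtain ⟨k, hk, hk1⟩ : ∃ k ∈ K, k ≠ 1 := by
        obtain ⟨k, hk⟩ := Subgroup.ne_bot_iff_exists_ne_one.mp hK1
        exact ⟨k, k.2, fun e => hk (Subtype.ext e)⟩
      let R := (K.map N.subtype).map (MulAut.conj g⁻¹).toMonoidHom
      have hR : H ≤ R := by
        refine hmin R ?_ ?_
        · intro e
          apply hk1
          have : (MulAut.conj g⁻¹).toMonoidHom (k : F) ∈ (⊥ : Subgroup F) := e ▸ ⟨(k : F), ⟨k, hk, rfl⟩, rfl⟩
          rw [Subgroup.mem_bot] at this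
          exact Subtype.ext ((MulAut.conj g⁻¹).injective (by simpa using this))
        · intro x hx
          have hxN : g * x * g⁻¹ ∈ N := hNn.conj_mem x (hHN hx) g
          refine Subgroup.mem_normalizer_iff.mpr fun w => ?_
          have key : ∀ y : N, ∀ w ∈ R, (g⁻¹ * y * g) * w * (g⁻¹ * y * g)⁻¹ ∈ R := by
            rintro y _ ⟨_, ⟨k', hk', rfl⟩, rfl⟩
            refine ⟨_, ⟨y * k' * y⁻¹, hK.conj_mem k' hk' y, rfl⟩, ?_⟩
            show g⁻¹ * ((y : F) * k' * (y : F)⁻¹) * g⁻¹⁻¹ = g⁻¹ * y * g * (g⁻¹ * k' * g⁻¹⁻¹) * (g⁻¹ * y * g)⁻¹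
            group
          constructor
          · intro hw
            have := key ⟨_, hxN⟩ w hw
            rwa [show g⁻¹ * (g * x * g⁻¹) * g = x by group] at this
          · intro hw
            have := key ⟨_, hxN⟩⁻¹ _ hw
            simp only [Subgroup.coe_inv] at this
            rwa [show g⁻¹ * (g * x * g⁻¹)⁻¹ * g * (x * w * x⁻¹) * (g⁻¹ * (g * x * g⁻¹)⁻¹ * g)⁻¹ = w by group] at this
      obtain ⟨w, hw, e⟩ := hR hh
      have : g * h * g⁻¹ = w := by
        rw [← e]; show g * (g⁻¹ * w * g⁻¹⁻¹) * g⁻¹ = w; group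
      rw [this]; exact hw
    exact (Subgroup.normalClosure_le_normal hHM).trans (Subgroup.normalCore_le _)
  refine ⟨N, hNn, hNb, hNmin, hsimple, ?_⟩
  set C := Subgroup.centralizer (N : Set F) with hC
  by_cases hC1 : C = ⊥
  · exact Or.inl hC1
  haveI hCn : C.Normal := by rw [hC]; infer_instance
  have hHC : H ≤ C := hmin C hC1 (by rw [Subgroup.normalizer_eq_top_iff.mpr hCn]; exact le_top)
  have hNC : N ≤ C := hNmin C hCn hC1
  have hcom : ∀ a ∈ N, ∀ b ∈ N, a * b = b * a := fun a ha b hb =>
    Subgroup.mem_centralizer_iff.mp (hNC hb) a ha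
  haveI := hsimple
  letI : CommGroup N := { (inferInstance : Group N) with mul_comm := fun a b => Subtype.ext (hcom a a.2 b b.2) }
  have hq : (Nat.card N).Prime := IsSimpleGroup.prime_card
  set q := Nat.card N with hqdef
  haveI : Fact q.Prime := ⟨hq⟩
  have hHeq : H = N := by
    refine Subgroup.eq_of_le_of_card_ge hHN ?_
    rcases hq.eq_one_or_self_of_dvd _ (Subgroup.card_dvd_of_le hHN) with e | e
    · exact absurd (Subgroup.eq_bot_of_card_eq H e) hH
    · exact e.ge
  have hRN : ∀ R : Subgroup F, R ≠ ⊥ → R ≤ C → N ≤ R := by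
    intro R hR hRC
    rw [← hHeq]
    refine hmin R hR fun x hx => Subgroup.mem_normalizer_iff.mpr fun w => ?_
    have key : ∀ w ∈ C, x * w * x⁻¹ = w := fun w hw => by
      rw [Subgroup.mem_centralizer_iff.mp hw x (hHN hx), mul_inv_cancel_right]
    constructor
    · intro hw; rwa [key w (hRC hw)]
    · intro hw
      have h1 := key _ (hRC hw)
      have h2 : x * w * x⁻¹ = w := by
        calc x * w * x⁻¹ = x⁻¹ * (x * (x * w * x⁻¹) * x⁻¹) * x := by group
          _ = x⁻¹ * (x * w * x⁻¹) * x := by rw [h1]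
          _ = w := by group
      rwa [h2] at hw
  have hord : ∀ x : C, ∀ r : ℕ, r.Prime → orderOf x = r → r = q ∧ Subgroup.zpowers (x : F) = N := by
    intro x r hr hx
    have hx' : orderOf (x : F) = r := by rw [Subgroup.orderOf_coe, hx]
    have hle : N ≤ Subgroup.zpowers (x : F) := hRN _ (by
      rw [Ne, Subgroup.zpowers_eq_bot]
      intro e; rw [e, orderOf_one] at hx'; exact hr.ne_one hx'.symm) (Subgroup.zpowers_le.mpr x.2)
    have hdvd := Subgroup.card_dvd_of_le hle
    rw [Nat.card_zpowers, hx', ← hqdef] at hdvd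
    have he := (Nat.prime_dvd_prime_iff_eq hq hr).mp hdvd
    refine ⟨he.symm, (Subgroup.eq_of_le_of_card_ge hle ?_).symm⟩
    rw [Nat.card_zpowers, hx', ← hqdef, he]
  have hCp : IsPGroup q C := by
    rw [IsPGroup.iff_card]
    refine ⟨(Nat.card C).primeFactorsList.length, Nat.eq_prime_pow_of_unique_prime_dvd Nat.card_pos.ne' ?_⟩
    intro d hd hdvd
    haveI : Fact d.Prime := ⟨hd⟩
    obtain ⟨x, hx⟩ := exists_prime_orderOf_dvd_card' d hdvd
    exact (hord x d hd hx).1
  obtain ⟨k, hk⟩ := IsPGroup.iff_card.mp hCp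
  have hk1 : 1 ≤ k := by
    rcases Nat.eq_zero_or_pos k with rfl | h
    · exact absurd (Subgroup.eq_bot_of_card_eq C (by rw [hk, pow_zero])) hC1
    · exact h
  let φ : F →* MulAut N := MulAut.conjNormal
  have hker : φ.ker = C := by
    ext g
    rw [MonoidHom.mem_ker, hC, Subgroup.mem_centralizer_iff]
    constructor
    · intro h a ha
      have h2 : g * a * g⁻¹ = a := by simpa [φ] using congrArg Subtype.val (DFunLike.congr_fun h (⟨a, ha⟩ : N))
      exact (mul_inv_eq_iff_eq_mul.mp h2).symm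
    · intro h
      ext a
      show g * (a : F) * g⁻¹ = (a : F)
      rw [← h a a.2, mul_inv_cancel_right]
  haveI : IsCyclic N := isCyclic_of_prime_card hqdef.symm
  have e : MulAut N ≃* (ZMod q)ˣ := IsCyclic.mulAutMulEquiv N
  haveI : IsCyclic (MulAut N) := isCyclic_of_surjective e.symm.toMonoidHom e.symm.surjective
  have hgen : ∃ g : F, C ⊔ Subgroup.zpowers g = ⊤ := by
    obtain ⟨⟨_, g, rfl⟩, hg⟩ := IsCyclic.exists_generator (α := φ.range)
    refine ⟨g, (Subgroup.eq_top_iff' _).mpr fun x => ?_⟩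
    obtain ⟨i, hi⟩ := Subgroup.mem_zpowers_iff.mp (hg ⟨φ x, x, rfl⟩)
    have hi' : φ g ^ i = φ x := by simpa using congrArg Subtype.val hi
    have hmem : x * (g ^ i)⁻¹ ∈ C := by
      rw [← hker, MonoidHom.mem_ker, map_mul, map_inv, map_zpow, hi', mul_inv_cancel]
    have := Subgroup.mul_mem_sup hmem (Subgroup.mem_zpowers_iff.mpr ⟨i, rfl⟩ : g ^ i ∈ Subgroup.zpowers g)
    rwa [inv_mul_cancel_right] at this
  have hidx : C.index ∣ q - 1 := by
    rw [← hker, Subgroup.index_ker]
    refine (Subgroup.card_subgroup_dvd_card φ.range).trans ?_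
    rw [Nat.card_congr e.toEquiv, Nat.card_eq_fintype_card, ZMod.card_units_eq_totient, Nat.totient_prime hq]
  by_cases hq2 : q = 2
  · have hCtop : C = ⊤ := by
      refine Subgroup.index_eq_one.mp (Nat.dvd_one.mp ?_)
      rw [hq2] at hidx; exact hidx
    have huniq : ∀ x y : C, orderOf x = 2 → orderOf y = 2 → x = y := by
      intro x y hx hy
      have h1 := (hord x 2 Nat.prime_two hx).2
      have h2 := (hord y 2 Nat.prime_two hy).2
      have hm : (y : F) ∈ Subgroup.zpowers (x : F) := by rw [h1, ← h2]; exact Subgroup.mem_zpowers _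
      obtain ⟨i, hi⟩ := Subgroup.mem_zpowers_iff.mp hm
      have hx2 : (x : F) * x = 1 := by rw [← pow_two, ← hx, ← Subgroup.orderOf_coe, pow_orderOf_eq_one]
      rcases Int.even_or_odd' i with ⟨c, rfl | rfl⟩
      · rw [zpow_mul, zpow_two, hx2, one_zpow] at hi
        exact absurd hy (by rw [show y = 1 from Subtype.ext hi.symm, orderOf_one]; norm_num)
      · rw [zpow_add, zpow_mul, zpow_two, hx2, one_zpow, one_mul, zpow_one] at hi
        exact Subtype.ext hi
    by_cases hcyc : IsCyclic C
    · exact Or.inr (Or.inl ⟨hHeq, hq, hcyc, ⟨k, hk1, hk⟩, hgen, hidx⟩)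
    refine Or.inr (Or.inr ⟨hHeq, hq2, hCtop, ?_⟩)
    rcases CfsgLib.ZStar.cyclic_or_quaternion (hq2 ▸ hCp) huniq with h | ⟨n, ⟨f⟩⟩
    · exact absurd h hcyc
    refine ⟨n, Nat.one_le_iff_ne_zero.mpr ?_, ⟨?_⟩⟩
    · rintro rfl
      haveI : NeZero (2 ^ 0 : ℕ) := ⟨one_ne_zero⟩
      apply hcyc
      have h4 : orderOf (QuaternionGroup.xa 0 : QuaternionGroup (2 ^ 0)) = Nat.card (QuaternionGroup (2 ^ 0)) := by
        rw [QuaternionGroup.orderOf_xa, Nat.card_eq_fintype_card, QuaternionGroup.card]
        norm_num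
      haveI := isCyclic_of_orderOf_eq_card _ h4
      exact isCyclic_of_surjective f.symm.toMonoidHom f.symm.surjective
    · exact (Subgroup.topEquiv.symm.trans (MulEquiv.subgroupCongr hCtop.symm)).trans f
  · refine Or.inr (Or.inl ⟨hHeq, hq, ?_, ⟨k, hk1, hk⟩, hgen, hidx⟩)
    refine CfsgLib.ZStar.cyclic_of_unique_subgroup hq2 hCp fun A B hA hB => ?_
    have key : ∀ A : Subgroup C, Nat.card A = q → A.map C.subtype = N := by
      intro A hA
      refine (Subgroup.eq_of_le_of_card_ge (hRN _ ?_ (Subgroup.map_subtype_le A)) ?_).symm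
      · intro e
        have := congrArg (fun K : Subgroup F => Nat.card K) e
        simp only [Subgroup.card_map_of_injective C.subtype_injective, hA, Subgroup.card_bot] at this
        exact hq.ne_one this
      · rw [Subgroup.card_map_of_injective C.subtype_injective, hA]
    exact Subgroup.map_injective C.subtype_injective ((key A hA).trans (key B hB).symm)

end Cfsg.Agent.S3025
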