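import Cfsg.Statements.S3027

set_option autoImplicit false
set_option linter.style.haveILetI false
set_option linter.unusedVariables false
open Cfsg

open scoped commutatorElement

namespace Cfsg.Agent.S3027

theorem commutator_sup {X : Type*} [Group X] {N₁ N₂ D : Subgroup X} [D.Normal]
    (h₁ : N₁ ⊔ D = ⊤) (h₂ : N₂ ⊔ D = ⊤) (hperf : ⁅(⊤ : Subgroup X), (⊤ : Subgroup X)⁆ ⊔ D = ⊤) :
    ⁅N₁, N₂⁆ ⊔ D = ⊤ := by
  have hs := QuotientGroup.mk'_surjective D
  have key : ∀ N : Subgroup X, N ⊔ D = ⊤ ↔ N.map (QuotientGroup.mk' D) = ⊤ := by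
    intro N
    rw [← (Subgroup.comap_injective hs).eq_iff, Subgroup.comap_map_eq, QuotientGroup.ker_mk',
      Subgroup.comap_top]
  rw [key] at h₁ h₂ hperf ⊢
  rw [Subgroup.map_commutator] at hperf ⊢
  rw [Subgroup.map_top_of_surjective _ hs] at hperf
  rw [h₁, h₂, hperf]

/-- Let G be a finite group and D a normal subgroup of G such that G/D is perfect (that is, G = G′D). Then among the subnormal subgroups B of G with BD = G there is a least one, and it is normal in G. -/
theorem result {G : Type*} [Group G] [Finite G] (D : Subgroup G) [D.Normal] (hperf : ⁅(⊤ : Subgroup G), (⊤ : Subgroup G)⁆ ⊔ D = ⊤) :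
    ∃ B : Subgroup G, B.Normal ∧ B ⊔ D = ⊤ ∧ ∀ B' : Subgroup G, B'.IsSubnormal → B' ⊔ D = ⊤ → B ≤ B' := by
  obtain ⟨B, ⟨hBn, hBD⟩, hmin⟩ := (Set.toFinite {B : Subgroup G | B.Normal ∧ B ⊔ D = ⊤}).exists_minimal
    ⟨⊤, inferInstance, top_sup_eq D⟩
  have hleast : ∀ C : Subgroup G, C.Normal → C ⊔ D = ⊤ → B ≤ C := by
    intro C hC hCD
    have hmem : ⁅B, C⁆ ∈ {B : Subgroup G | B.Normal ∧ B ⊔ D = ⊤} :=
      ⟨Subgroup.commutator_normal B C, commutator_sup hBD hCD hperf⟩
    exact (hmin hmem (Subgroup.commutator_le_left B C)).trans (Subgroup.commutator_le_right B C)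
  have hBperf : ⁅B, B⁆ = B :=
    le_antisymm (Subgroup.commutator_le_left B B)
      (hleast _ (Subgroup.commutator_normal B B) (commutator_sup hBD hBD hperf))
  refine ⟨B, hBn, hBD, fun B' hB' => ?_⟩
  induction hB' with
  | top => exact fun _ => le_top
  | step H K hle _ hN ih =>
    intro hHD
    have hBK : B ≤ K := ih (top_le_iff.mp (hHD ▸ sup_le_sup_right hle D))
    set E := B ⊓ H with hE
    have hBnH : B ≤ Subgroup.normalizer (H : Set G) :=
      hBK.trans ((Subgroup.normal_subgroupOf_iff_le_normalizer hle).mp hN)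
    -- every conjugate of `E` supplements `B ⊓ D` in `B`
    have hperfB : ⁅(⊤ : Subgroup B), (⊤ : Subgroup B)⁆ ⊔ D.subgroupOf B = ⊤ := by
      have : ⁅(⊤ : Subgroup B), (⊤ : Subgroup B)⁆ = ⊤ := by
        apply Subgroup.map_injective B.subtype_injective
        rw [Subgroup.map_commutator, ← MonoidHom.range_eq_map, Subgroup.range_subtype, hBperf]
      rw [this, top_sup_eq]
    have hEB : E.subgroupOf B ⊔ D.subgroupOf B = ⊤ := by
      have h2 : ⁅(⊤ : Subgroup B), (⊤ : Subgroup B)⁆ ≤ E.subgroupOf B ⊔ D.subgroupOf B := by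
        refine Subgroup.commutator_le.mpr fun b₁ _ b₂ _ => ?_
        obtain ⟨h', hh', d, hd, e⟩ := Subgroup.mem_sup_of_normal_right.mp
          (show (b₂ : G) ∈ H ⊔ D by rw [hHD]; trivial)
        have h3 : ⁅(b₁ : G), h'⁆ ∈ E := by
          refine ⟨?_, ?_⟩
          · exact Subgroup.commutator_le_left B ⊤
              (Subgroup.commutator_mem_commutator b₁.2 (Subgroup.mem_top h'))
          · rw [commutatorElement_def]
            exact H.mul_mem ((Subgroup.mem_normalizer_iff.mp (hBnH b₁.2) _).mp hh') (H.inv_mem hh')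
        have h4 : h' * ⁅(b₁ : G), d⁆ * h'⁻¹ ∈ B ⊓ D := by
          refine ⟨?_, ?_⟩
          · exact hBn.conj_mem _ (Subgroup.commutator_le_left B ⊤
              (Subgroup.commutator_mem_commutator b₁.2 (Subgroup.mem_top d))) h'
          · exact Subgroup.Normal.conj_mem inferInstance _ (Subgroup.commutator_le_right ⊤ D
              (Subgroup.commutator_mem_commutator (Subgroup.mem_top (b₁ : G)) hd)) h'
        have e2 : ⁅b₁, b₂⁆ = (⟨_, h3.1⟩ : B) * ⟨_, h4.1⟩ := by
          apply Subtype.ext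
          change ⁅(b₁ : G), (b₂ : G)⁆ = ⁅(b₁ : G), h'⁆ * (h' * ⁅(b₁ : G), d⁆ * h'⁻¹)
          rw [← e]
          simp only [commutatorElement_def]
          group
        rw [e2]
        exact Subgroup.mul_mem _ (Subgroup.mem_sup_left h3) (Subgroup.mem_sup_right h4.2)
      exact top_le_iff.mp (hperfB.ge.trans (sup_le h2 le_sup_right))
    set conjE := fun g : G => (E.map (MulAut.conj g).toMonoidHom).subgroupOf B with hconjE
    have hconj : ∀ g : G, conjE g ⊔ D.subgroupOf B = ⊤ := by
      intro g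
      refine top_le_iff.mp fun b _ => ?_
      have hb : g⁻¹ * (b : G) * g ∈ B := by simpa using hBn.conj_mem _ b.2 g⁻¹
      obtain ⟨e', he', d', hd', e⟩ := Subgroup.mem_sup_of_normal_right.mp
        (show (⟨_, hb⟩ : B) ∈ E.subgroupOf B ⊔ D.subgroupOf B by rw [hEB]; trivial)
      have h1 : g * (e' : G) * g⁻¹ ∈ B := hBn.conj_mem _ e'.2 g
      have h2 : g * (d' : G) * g⁻¹ ∈ B := hBn.conj_mem _ d'.2 g
      have hb' : b = (⟨_, h1⟩ : B) * ⟨_, h2⟩ := by
        apply Subtype.ext
        change (b : G) = g * (e' : G) * g⁻¹ * (g * (d' : G) * g⁻¹)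
        rw [show (b : G) = g * (g⁻¹ * (b : G) * g) * g⁻¹ by group]
        have e0 : (e' : G) * (d' : G) = g⁻¹ * (b : G) * g := congrArg Subtype.val e
        rw [← e0]
        group
      rw [hb']
      refine Subgroup.mul_mem _ (Subgroup.mem_sup_left ⟨_, he', rfl⟩) (Subgroup.mem_sup_right ?_)
      exact Subgroup.Normal.conj_mem ‹D.Normal› _ hd' g
    haveI : (E.subgroupOf B).Normal := by
      rw [hE, Subgroup.normal_subgroupOf_iff_le_normalizer inf_le_left]
      intro b hb
      rw [Subgroup.mem_normalizer_iff]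
      intro y
      constructor
      · rintro ⟨h1, h2⟩
        exact ⟨hBn.conj_mem _ h1 b, (Subgroup.mem_normalizer_iff.mp (hBnH hb) y).mp h2⟩
      · rintro ⟨h1, h2⟩
        exact ⟨by simpa [mul_assoc] using hBn.conj_mem _ h1 b⁻¹,
          (Subgroup.mem_normalizer_iff.mp (hBnH hb) y).mpr h2⟩
    have hnorm : ∀ g : G, (conjE g).Normal := by
      intro g
      refine ⟨fun x hx c => ?_⟩
      obtain ⟨y, hy, e⟩ := hx
      have hc : g⁻¹ * (c : G) * g ∈ B := by simpa using hBn.conj_mem _ c.2 g⁻¹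
      refine ⟨g⁻¹ * c * g * y * (g⁻¹ * c * g)⁻¹, ?_, ?_⟩
      · exact Subgroup.Normal.conj_mem ‹(E.subgroupOf B).Normal› (⟨y, hy.1⟩ : B) hy ⟨_, hc⟩
      · change g * (g⁻¹ * (c : G) * g * y * (g⁻¹ * c * g)⁻¹) * g⁻¹ = (c : G) * (x : G) * (c : G)⁻¹
        rw [show (x : G) = g * y * g⁻¹ from e.symm]
        group
    haveI := fun g => hnorm g
    have hfin : ∀ T : Set G, T.Finite →
        (⨅ g ∈ T, conjE g) ⊔ D.subgroupOf B = ⊤ ∧ (⨅ g ∈ T, conjE g).Normal := by
      intro T hT
      induction T, hT using Set.Finite.induction_on with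
      | empty => simpa using Subgroup.normal_of_subsingleton_quotient_or_top (G := B)
      | @insert a t _ _ ih =>
        rw [iInf_insert]
        haveI := ih.2
        refine ⟨top_le_iff.mp ?_, inferInstance⟩
        rw [← commutator_sup (hconj a) ih.1 hperfB]
        exact sup_le_sup_right (le_inf (Subgroup.commutator_le_left _ _)
          (Subgroup.commutator_le_right _ _)) _
    obtain ⟨hcore, hcn⟩ := hfin Set.univ (Set.toFinite _)
    -- the core of `E`
    have hcore' : E.normalCore ⊔ D = ⊤ := by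
      refine top_le_iff.mp (hBD.ge.trans (sup_le (fun b hb => ?_) le_sup_right))
      obtain ⟨e', he', d', hd', e⟩ := Subgroup.mem_sup_of_normal_right.mp
        (show (⟨b, hb⟩ : B) ∈ (⨅ g ∈ (Set.univ : Set G), conjE g) ⊔ D.subgroupOf B by
          rw [hcore]; trivial)
      rw [show b = (e' : G) * (d' : G) from (congrArg Subtype.val e).symm]
      refine Subgroup.mul_mem _ (Subgroup.mem_sup_left ?_) (Subgroup.mem_sup_right hd')
      intro g
      simp only [Subgroup.mem_iInf] at he'
      obtain ⟨y, hy, e3⟩ := he' g⁻¹ (Set.mem_univ _)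
      have e4 : g⁻¹ * y * g⁻¹⁻¹ = (e' : G) := e3
      rw [← e4]
      simpa [mul_assoc] using hy
    exact (hleast _ E.normalCore_normal hcore').trans
      ((Subgroup.normalCore_le E).trans inf_le_right)

end Cfsg.Agent.S3027
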