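import Cfsg.Statements.S3033
import Cfsg.Agent.S0044
import Cfsg.Agent.S0071
import Cfsg.Agent.S0526
import Cfsg.Agent.S0527
import Cfsg.Agent.S0579
import Cfsg.Agent.Lib.Fitting.Basic
import Cfsg.Agent.Lib.HSub.Supersolvable
import Cfsg.Agent.Lib.Huppert.Supersolvable

set_option autoImplicit false
open Cfsg

namespace Cfsg.Agent.S3033

open scoped commutatorElement

universe u v

theorem le_of_prime_power {G : Type*} [Group G] [Finite G] (H K : Subgroup G)
    (h : ∀ (p : ℕ), p.Prime → ∀ x ∈ H, (∃ a, orderOf x = p ^ a) → x ∈ K) : H ≤ K := by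
  rw [← Subgroup.subgroupOf_eq_top]
  apply Subgroup.eq_top_of_card_eq
  refine Nat.dvd_antisymm (Subgroup.card_subgroup_dvd_card _) ?_
  rw [Nat.dvd_iff_prime_pow_dvd_dvd]
  intro p k hp hd
  haveI : Fact p.Prime := ⟨hp⟩
  obtain ⟨P, hP⟩ := Sylow.exists_subgroup_card_pow_prime p hd
  rw [← hP]
  refine Subgroup.card_dvd_of_le fun x hx => ?_
  obtain ⟨a, ha⟩ := (IsPGroup.iff_orderOf.mp (IsPGroup.of_card hP)) ⟨x, hx⟩
  refine h p hp x x.2 ⟨a, ?_⟩
  rw [← ha, Subgroup.orderOf_mk]
  exact (Subgroup.orderOf_coe x)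

theorem exists_pow_of_mem_zpowers {G : Type*} [Group G] [Finite G] {x y : G}
    (h : y ∈ Subgroup.zpowers x) : ∃ n : ℕ, y = x ^ n := by
  obtain ⟨n, hn⟩ := (isOfFinOrder_of_finite x).mem_powers_iff_mem_zpowers.mpr h
  exact ⟨n, hn.symm⟩

section Core

variable {M : Type u} {N : Type v} [Group M] [Finite M] [CommGroup N] [Finite N] {q : ℕ}
  [hqf : Fact q.Prime]

theorem mem_of_zpowers_eq (hexp : ∀ w : N, w ^ q = 1) {y w : N} (hy : y ≠ 1)
    (h : y ∈ Subgroup.zpowers w) : w ∈ Subgroup.zpowers y := by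
  have hw : w ≠ 1 := by rintro rfl; simp at h; exact hy h
  have := Subgroup.eq_of_le_of_card_ge (Subgroup.zpowers_le.mpr h)
    (by rw [Nat.card_zpowers, Nat.card_zpowers, orderOf_eq_prime (hexp y) hy,
      orderOf_eq_prime (hexp w) hw])
  rw [this]; exact Subgroup.mem_zpowers w

theorem modEq_of_pow (hexp : ∀ w : N, w ^ q = 1) {a : N} (ha : a ≠ 1) {i j : ℕ}
    (h : a ^ i = a ^ j) (w : N) : w ^ i = w ^ j := by
  rcases eq_or_ne w 1 with rfl | hw
  · simp
  rw [pow_eq_pow_iff_modEq, orderOf_eq_prime (hexp w) hw]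
  rwa [pow_eq_pow_iff_modEq, orderOf_eq_prime (hexp a) ha] at h

/-- A map sending each element of a subgroup of exponent `q` to a power of itself is a power map. -/
theorem exists_power (hexp : ∀ w : N, w ^ q = 1) (σ : N →* N) (S : Subgroup N)
    (h : ∀ w ∈ S, σ w ∈ Subgroup.zpowers w) : ∃ e : ℕ, ∀ w ∈ S, σ w = w ^ e := by
  by_cases hS : ∀ w ∈ S, w = 1
  · exact ⟨0, fun w hw => by simp [hS w hw]⟩
  push Not at hS
  obtain ⟨a, haS, ha⟩ := hS
  obtain ⟨e, he⟩ := exists_pow_of_mem_zpowers (h a haS)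
  refine ⟨e, fun u hu => ?_⟩
  by_cases hua : u ∈ Subgroup.zpowers a
  · obtain ⟨n, rfl⟩ := exists_pow_of_mem_zpowers hua
    rw [map_pow, he, ← pow_mul, ← pow_mul, mul_comm]
  obtain ⟨j, hj⟩ := exists_pow_of_mem_zpowers (h u hu)
  obtain ⟨k, hk⟩ := exists_pow_of_mem_zpowers (h (a * u) (S.mul_mem haS hu))
  rw [map_mul, he, hj, mul_pow] at hk
  have hk' : u ^ j / u ^ k = a ^ k / a ^ e := by
    rw [div_eq_div_iff_mul_eq_mul, mul_comm (u ^ j), hk, mul_comm]
  by_cases hy : u ^ j / u ^ k = 1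
  · have e1 : u ^ j = u ^ k := div_eq_one.mp hy
    rw [hy, eq_comm, div_eq_one] at hk'
    rw [hj, e1]
    exact modEq_of_pow hexp ha hk' u
  · exfalso
    have h1 : u ∈ Subgroup.zpowers (u ^ j / u ^ k) :=
      mem_of_zpowers_eq hexp hy (Subgroup.div_mem _ (Subgroup.pow_mem _ (Subgroup.mem_zpowers u) _)
        (Subgroup.pow_mem _ (Subgroup.mem_zpowers u) _))
    refine hua (Subgroup.zpowers_le.mpr ?_ h1)
    rw [hk']
    exact Subgroup.div_mem _ (Subgroup.pow_mem _ (Subgroup.mem_zpowers a) _)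
      (Subgroup.pow_mem _ (Subgroup.mem_zpowers a) _)

variable (φ : M →* MulAut N)

/-- Elements acting as power maps. -/
def powGroup : Subgroup M where
  carrier := {m | ∃ e : ℕ, ∀ w : N, φ m w = w ^ e}
  one_mem' := ⟨1, fun w => by simp⟩
  mul_mem' := fun {a b} ⟨i, hi⟩ ⟨j, hj⟩ => ⟨i * j, fun w => by
    rw [map_mul, MulAut.mul_apply, hj, map_pow, hi, pow_mul]⟩
  inv_mem' := fun {a} ⟨i, hi⟩ => by
    obtain ⟨n, hn⟩ := exists_pow_of_mem_zpowers (inv_mem (Subgroup.mem_zpowers a))
    refine ⟨i ^ n, fun w => ?_⟩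
    rw [hn]
    clear hn
    induction n generalizing w with
    | zero => simp
    | succ n ih => rw [pow_succ', map_mul, MulAut.mul_apply, ih, map_pow, hi, pow_succ', pow_mul]

theorem commute_of_powGroup (hinj : Function.Injective φ) {m : M} (hm : m ∈ powGroup φ) (k : M) :
    Commute m k := by
  obtain ⟨e, he⟩ := hm
  apply hinj
  ext w
  rw [map_mul, map_mul, MulAut.mul_apply, MulAut.mul_apply, he, he, map_pow]

omit hqf [Finite M] in
theorem one_of_fix_all (hinj : Function.Injective φ) {m : M} (h : ∀ w : N, φ m w = w) : m = 1 :=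
  hinj (by ext w; rw [h, map_one, MulAut.one_apply])

theorem mem_powGroup_of_fpf (hexp : ∀ w : N, w ^ q = 1) {y : M}
    (hy : ∀ v : N, φ y (v / φ y v) ∈ Subgroup.zpowers (v / φ y v))
    (hf : ∀ w : N, φ y w = w → w = 1) : y ∈ powGroup φ := by
  let c : N →* N := MonoidHom.mk' (fun v => v / φ y v)
    (fun a b => by rw [map_mul, div_mul_div_comm])
  have hc : Function.Surjective c := by
    refine Finite.injective_iff_surjective.mp ((injective_iff_map_eq_one c).mpr fun a ha => ?_)
    exact hf a (div_eq_one.mp ha).symm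
  obtain ⟨e, he⟩ := exists_power hexp (φ y).toMonoidHom ⊤ fun w _ => by
    obtain ⟨v, rfl⟩ := hc w; exact hy v
  exact ⟨e, fun w => he w (Subgroup.mem_top w)⟩

theorem dichotomy (hexp : ∀ w : N, w ^ q = 1) (hinj : Function.Injective φ) {p : ℕ}
    (hp : p.Prime) (hkey : ∀ y : M, (∃ a, orderOf y = p ^ a) → ∀ v : N,
      φ y (v / φ y v) ∈ Subgroup.zpowers (v / φ y v))
    {x z : M} (hx : x ∈ powGroup φ) (hxo : orderOf x = p) (hxf : ∀ w : N, φ x w = w → w = 1)
    (hz : ∃ a, orderOf z = p ^ a) : z ∈ powGroup φ ∨ (p = 2 ∧ z * z = 1) := by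
  by_contra hc
  push Not at hc
  obtain ⟨hzP, hz2⟩ := hc
  have hord : ∀ i : ℕ, ∃ a, orderOf (z * x ^ i) = p ^ a := by
    intro i
    obtain ⟨a, ha⟩ := hz
    obtain ⟨b, -, hb⟩ := (Nat.dvd_prime_pow hp).mp (orderOf_dvd_of_pow_eq_one
      (show (z * x ^ i) ^ (p ^ (a + 1)) = 1 by
        rw [((commute_of_powGroup φ hinj hx z).symm.pow_right i).mul_pow, pow_succ, pow_mul, ← ha,
          pow_orderOf_eq_one, one_pow, one_mul, ← pow_mul, mul_comm i, pow_mul, mul_comm _ p,
          pow_mul, ← hxo, pow_orderOf_eq_one, one_pow, one_pow]))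
    exact ⟨b, hb⟩
  have hfix : ∀ i : ℕ, ∃ w : N, w ≠ 1 ∧ φ (z * x ^ i) w = w := by
    intro i
    by_contra hno
    push Not at hno
    refine hzP ?_
    have h1 := mem_powGroup_of_fpf φ hexp (hkey _ (hord i)) fun w hw => by
      by_contra hw1; exact hno w hw1 hw
    have h2 := Subgroup.mul_mem _ h1 (Subgroup.inv_mem _ (Subgroup.pow_mem _ hx i))
    rwa [mul_inv_cancel_right] at h2
  obtain ⟨u, hu⟩ := Subgroup.inv_mem _ hx
  let c : N →* N := MonoidHom.mk' (fun v => v / φ z v)
    (fun a b => by rw [map_mul, div_mul_div_comm])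
  have hcv : ∀ v, c v = v / φ z v := fun v => rfl
  obtain ⟨e, he⟩ := exists_power hexp (φ z).toMonoidHom c.range fun w hw => by
    obtain ⟨v, rfl⟩ := hw; exact hkey z hz v
  have he' : ∀ w ∈ c.range, φ z w = w ^ e := he
  have hrange : ∀ (a : N) (s : ℕ), φ z a = a ^ s → a ^ s ≠ a → a ∈ c.range := by
    intro a s hs hne
    have h1 : c a ≠ 1 := by
      rw [hcv, hs]; exact fun h => hne (div_eq_one.mp h).symm
    refine Subgroup.zpowers_le.mpr (MonoidHom.mem_range.mpr ⟨a, rfl⟩) (mem_of_zpowers_eq hexp h1 ?_)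
    rw [hcv, hs]
    exact Subgroup.div_mem _ (Subgroup.mem_zpowers a) (Subgroup.pow_mem _ (Subgroup.mem_zpowers a) _)
  have hxinv : ∀ w : N, φ x⁻¹ w = w → w = 1 := fun w hw => hxf w (by
    conv_lhs => rw [← hw, ← MulAut.mul_apply, ← map_mul, mul_inv_cancel, map_one, MulAut.one_apply])
  obtain ⟨a, ha1, ha⟩ := hfix 1
  have hza : φ z a = a ^ u := by
    have : z = (z * x ^ 1) * x⁻¹ := by rw [pow_one, mul_inv_cancel_right]
    rw [this, map_mul, MulAut.mul_apply, hu, map_pow, ha]
  have haR : a ∈ c.range := hrange a u hza fun h => ha1 (hxinv a (by rw [hu, h]))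
  have heu : ∀ w : N, w ^ e = w ^ u :=
    fun w => modEq_of_pow hexp ha1 (by rw [← he' a haR, hza]) w
  by_cases h2 : p = 2
  · refine hz2 h2 (one_of_fix_all φ hinj fun v => ?_)
    have hxx : x⁻¹ = x := inv_eq_of_mul_eq_one_right (by
      rw [← sq, ← h2, ← hxo, pow_orderOf_eq_one])
    have hinvmap : ∀ w : N, φ x w = w⁻¹ := fun w => by
      have h3 : φ x (w * φ x w) = w * φ x w := by
        have hxxw : φ x (φ x w) = w := by
          rw [← MulAut.mul_apply, ← map_mul]
          nth_rw 1 [← hxx]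
          rw [inv_mul_cancel, map_one, MulAut.one_apply]
        rw [map_mul, hxxw, mul_comm]
      exact eq_inv_of_mul_eq_one_right (hxf _ h3)
    have h3 : φ z (c v) = (c v)⁻¹ := by
      rw [he' _ ⟨v, rfl⟩, heu, ← hu, hxx, hinvmap]
    rw [hcv, map_div, inv_div, div_right_inj] at h3
    rwa [map_mul, MulAut.mul_apply]
  obtain ⟨b, hb1, hb⟩ := hfix 2
  have hzb : φ z b = b ^ (u * u) := by
    have : z = (z * x ^ 2) * (x⁻¹ * x⁻¹) := by rw [sq]; group
    have hxx2 : φ (x⁻¹ * x⁻¹) b = b ^ (u * u) := by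
      rw [map_mul, MulAut.mul_apply, hu b, hu, pow_mul]
    rw [this, map_mul, MulAut.mul_apply, hxx2, map_pow, hb]
  have hbR : b ∈ c.range := hrange b (u * u) hzb fun h => hb1 (by
    have hsq : φ x⁻¹ (φ x⁻¹ b) = b := by rw [hu b, hu, ← pow_mul, h]
    apply hxinv
    obtain ⟨k, hk⟩ := hp.odd_of_ne_two h2
    have hit : ∀ n : ℕ, φ ((x⁻¹ * x⁻¹) ^ n) b = b := by
      intro n
      induction n with
      | zero => simp
      | succ n ih => rw [pow_succ', map_mul, MulAut.mul_apply, ih, map_mul, MulAut.mul_apply, hsq]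
    have hxk : (x⁻¹ * x⁻¹) ^ (k + 1) = x⁻¹ := by
      rw [← sq, ← pow_mul, show 2 * (k + 1) = p + 1 by omega, pow_succ]
      have : x⁻¹ ^ p = 1 := by rw [inv_pow, ← hxo, pow_orderOf_eq_one, inv_one]
      rw [this, one_mul]
    rw [← hxk]; exact hit _)
  have h4 : b ^ u = b ^ (u * u) := by rw [← heu, ← he' b hbR, hzb]
  have h5 : φ x⁻¹ b = 1 := hxinv _ (by
    calc φ x⁻¹ (φ x⁻¹ b) = b ^ (u * u) := by rw [hu b, hu, pow_mul]
      _ = φ x⁻¹ b := by rw [← h4, hu])
  exact hb1 ((map_eq_one_iff _ (φ x⁻¹).injective).mp h5)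

theorem core [Group.IsSolvable M] (hexp : ∀ w : N, w ^ q = 1) (hinj : Function.Injective φ)
    (hNp : IsPGroup q N) [Nontrivial N] (hss : Cfsg.IsSupersolvable M)
    (hirr : ∀ S : Subgroup N, (∀ m : M, ∀ w ∈ S, φ m w ∈ S) → S = ⊥ ∨ S = ⊤)
    (hkey : ∀ p : ℕ, p.Prime → p ≠ q → ∀ y : M, (∃ a, orderOf y = p ^ a) → ∀ v : N,
      φ y (v / φ y v) ∈ Subgroup.zpowers (v / φ y v)) :
    Nat.card N = q := by
  let fixS : Set M → Subgroup N := fun T =>
    { carrier := {w | ∀ r ∈ T, φ r w = w}
      one_mem' := fun r _ => map_one _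
      mul_mem' := fun {a b} ha hb r hr => by rw [map_mul, ha r hr, hb r hr]
      inv_mem' := fun {a} ha r hr => by rw [map_inv, ha r hr] }
  have hfixS : ∀ T : Set M, (∀ m : M, ∀ r ∈ T, m⁻¹ * r * m ∈ Subgroup.closure T) →
      (∀ w, (∀ r ∈ T, φ r w = w) → w = 1) ∨ (∀ r ∈ T, r = 1) := by
    intro T hT
    rcases hirr (fixS T) (fun m w hw r hr => by
      have hcl : ∀ r' ∈ Subgroup.closure T, φ r' w = w := by
        intro r' hr'
        induction hr' using Subgroup.closure_induction with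
        | mem y hy => exact hw y hy
        | one => simp
        | mul a b _ _ ha hb => rw [map_mul, MulAut.mul_apply, hb, ha]
        | inv a _ ha =>
          conv_lhs => rw [← ha, ← MulAut.mul_apply, ← map_mul, inv_mul_cancel, map_one,
            MulAut.one_apply]
      have := hcl _ (hT m r hr)
      conv_rhs => rw [← this, ← MulAut.mul_apply, ← map_mul, show m * (m⁻¹ * r * m) = r * m by group]
      rw [← MulAut.mul_apply, ← map_mul]) with h | h
    · exact Or.inl fun w hw => by
        have : w ∈ fixS T := hw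
        rwa [h, Subgroup.mem_bot] at this
    · exact Or.inr fun r hr => one_of_fix_all φ hinj fun w =>
        (h ▸ Subgroup.mem_top w : w ∈ fixS T) r hr
  have hF : Cfsg.fittingSubgroup M ≤ powGroup φ := by
    refine le_of_prime_power _ _ fun p hp z hz hzo => ?_
    haveI : Fact p.Prime := ⟨hp⟩
    haveI : Group.IsNilpotent (Cfsg.fittingSubgroup M) :=
      CfsgLib.Fitting.fittingSubgroup_isNilpotent
    haveI : (Cfsg.fittingSubgroup M).Normal := CfsgLib.Fitting.fittingSubgroup_normal
    set zF : Cfsg.fittingSubgroup M := ⟨z, hz⟩ with hzF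
    have hzFp : IsPGroup p (Subgroup.zpowers zF) := by
      obtain ⟨a, ha⟩ := hzo
      refine IsPGroup.of_card (n := a) ?_
      rw [Nat.card_zpowers, hzF, Subgroup.orderOf_mk, ha]
    obtain ⟨Q, hQ⟩ := hzFp.exists_le_sylow
    haveI hQn : (Q : Subgroup (Cfsg.fittingSubgroup M)).Normal :=
      Sylow.normal_of_normalizerCondition Group.normalizerCondition_of_isNilpotent Q
    haveI : (Q : Subgroup (Cfsg.fittingSubgroup M)).Characteristic :=
      Sylow.characteristic_of_normal Q hQn
    set R : Subgroup M := (Q : Subgroup (Cfsg.fittingSubgroup M)).map (Subgroup.subtype _) with hR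
    haveI hRn : R.Normal := by rw [hR]; infer_instance
    have hRp : IsPGroup p R := Q.2.map _
    have hzR : z ∈ R := ⟨zF, hQ (Subgroup.mem_zpowers zF), rfl⟩
    rcases eq_or_ne z 1 with rfl | hz1
    · exact one_mem _
    have hRne : R ≠ ⊥ := fun h => hz1 (by rw [h] at hzR; exact hzR)
    have hTR : ∀ m : M, ∀ r ∈ (R : Set M), m⁻¹ * r * m ∈ Subgroup.closure (R : Set M) := by
      intro m r hr
      rw [Subgroup.closure_eq]
      simpa using hRn.conj_mem r hr m⁻¹
    have hpq : p ≠ q := by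
      rintro rfl
      obtain ⟨w, hw1, hw⟩ := CfsgLib.HSub.exists_fixed_ne_one hNp (R.map φ) (hRp.map φ)
      rcases hfixS R hTR with h | h
      · exact hw1 (h w fun r hr => hw _ ⟨r, hr, rfl⟩)
      · exact hz1 (h z hzR)
    obtain ⟨L, hLn, hLR, hLc⟩ := CfsgLib.Supersolvable.exists_normal_prime_card_le hss R hRne
    obtain ⟨x, hxL, hx1⟩ := L.bot_or_exists_ne_one.resolve_left (by
      rintro rfl; rw [Subgroup.card_bot] at hLc; exact Nat.not_prime_one hLc)
    have hxo : orderOf x = p := by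
      obtain ⟨i, hi⟩ := IsPGroup.iff_card.mp (hRp.to_le hLR)
      have h1 : Nat.card L = p := by rw [hi] at hLc ⊢; rw [Nat.Prime.eq_one_of_pow hLc, pow_one]
      exact (((Nat.dvd_prime hp).mp (h1 ▸ Subgroup.orderOf_dvd_natCard L hxL)).resolve_left
        (mt orderOf_eq_one_iff.mp hx1))
    have hxf : ∀ w : N, φ x w = w → w = 1 := by
      have hLx : Subgroup.closure ({x} : Set M) = L := by
        rw [← Subgroup.zpowers_eq_closure]
        refine Subgroup.eq_of_le_of_card_ge (Subgroup.zpowers_le.mpr hxL) ?_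
        obtain ⟨i, hi⟩ := IsPGroup.iff_card.mp (hRp.to_le hLR)
        rw [Nat.card_zpowers, hxo]
        rw [hi] at hLc ⊢; rw [Nat.Prime.eq_one_of_pow hLc, pow_one]
      rcases hfixS {x} (fun m r hr => by
        rw [Set.mem_singleton_iff] at hr
        subst hr
        rw [hLx]
        simpa using hLn.conj_mem r hxL m⁻¹) with h | h
      · exact fun w hw => h w fun r hr => by rw [Set.mem_singleton_iff.mp hr]; exact hw
      · exact absurd (h x rfl) hx1
    have hxP : x ∈ powGroup φ :=
      mem_powGroup_of_fpf φ hexp (hkey p hp hpq x ⟨1, by rw [hxo, pow_one]⟩) hxf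
    have hd := fun (y : M) (hy : ∃ a, orderOf y = p ^ a) =>
      dichotomy φ hexp hinj hp (hkey p hp hpq) hxP hxo hxf hy
    have hcent : ∀ m : M, Commute z m := by
      rcases hd z hzo with h | ⟨rfl, hzz⟩
      · exact fun m => commute_of_powGroup φ hinj h m
      intro m
      have hle : (⊤ : Subgroup M) ≤ Subgroup.centralizer {z} := by
        refine le_of_prime_power _ _ fun r hr y _ hyo => ?_
        rw [Subgroup.mem_centralizer_singleton_iff]
        haveI : Fact r.Prime := ⟨hr⟩
        by_cases hr2 : r = 2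
        · subst hr2
          have hsup : IsPGroup 2 (Subgroup.zpowers y ⊔ R : Subgroup M) := by
            obtain ⟨a, ha⟩ := hyo
            exact IsPGroup.to_sup_of_normal_right
              (IsPGroup.of_card (n := a) (by rw [Nat.card_zpowers, ha])) hRp
          have hyz : ∃ a, orderOf (y * z) = 2 ^ a := by
            obtain ⟨a, ha⟩ := IsPGroup.iff_orderOf.mp hsup ⟨y * z,
              mul_mem (Subgroup.mem_sup_left (Subgroup.mem_zpowers y)) (Subgroup.mem_sup_right hzR)⟩
            exact ⟨a, by rw [← ha, Subgroup.orderOf_mk]⟩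
          rcases hd y hyo with h | ⟨-, hyy⟩
          · exact (commute_of_powGroup φ hinj h z).eq
          rcases hd (y * z) hyz with h | ⟨-, h⟩
          · have := (commute_of_powGroup φ hinj h y).eq
            rw [mul_assoc] at this
            exact (mul_left_cancel this).symm
          · calc y * z = (y * z)⁻¹ := eq_inv_of_mul_eq_one_left h
              _ = z⁻¹ * y⁻¹ := mul_inv_rev y z
              _ = z * y := by rw [inv_eq_of_mul_eq_one_right hzz, inv_eq_of_mul_eq_one_right hyy]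
        · obtain ⟨a, ha⟩ := hyo
          exact CfsgLib.Huppert.commute_of_supersolvable 2 _ M R rfl hss hRn hRp y y y
            (Or.inr (by simp))
            (by rw [ha]; exact Nat.Coprime.pow_left _ ((Nat.coprime_primes hr Nat.prime_two).mpr hr2))
            z hzR
      exact (Subgroup.mem_centralizer_singleton_iff.mp (hle (Subgroup.mem_top m))).symm
    rcases hfixS {z} (fun m r hr => by
      rw [Set.mem_singleton_iff] at hr
      subst hr
      rw [mul_assoc, (hcent m).eq, inv_mul_cancel_left]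
      exact Subgroup.subset_closure rfl) with h | h
    · exact mem_powGroup_of_fpf φ hexp (hkey p hp hpq z hzo) fun w hw =>
        h w fun r hr => by rw [Set.mem_singleton_iff.mp hr]; exact hw
    · exact absurd (h z rfl) hz1
  obtain ⟨w, hw⟩ := exists_ne (1 : N)
  have hall : ∀ m : M, m ∈ powGroup φ := fun m =>
    hF (Cfsg.Agent.S0044.result (Subgroup.mem_centralizer_iff.mpr fun f hf =>
      (commute_of_powGroup φ hinj (hF hf) m).eq))
  rcases hirr (Subgroup.zpowers w) (fun m y hy => by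
    obtain ⟨e, he⟩ := hall m
    rw [he]
    exact Subgroup.pow_mem _ hy e) with h | h
  · exact absurd (Subgroup.zpowers_eq_bot.mp h) hw
  · rw [← Subgroup.card_top (G := N), ← h, Nat.card_zpowers, orderOf_eq_prime (hexp w) hw]

end Core

/-- The hypothesis of the theorem. -/
def PairCond (G : Type*) [Group G] : Prop :=
  ∀ (p q : ℕ), p.Prime → q.Prime → p ≠ q → ∀ (x g : G), (∃ a : ℕ, orderOf x = p ^ a) →
    (∃ b : ℕ, orderOf g = q ^ b) →
    ¬ q ^ 2 ∣ Nat.card ↥(Subgroup.zpowers x ⊔ Subgroup.zpowers (g * x * g⁻¹))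

theorem exists_prime_power_lift {G H : Type*} [Group G] [Finite G] [Group H] (f : G →* H)
    {p : ℕ} (hp : p.Prime) (y : G) {a : ℕ} (hy : orderOf (f y) = p ^ a) :
    ∃ x : G, f x = f y ∧ ∃ b, orderOf x = p ^ b := by
  haveI : Fact p.Prime := ⟨hp⟩
  obtain ⟨e, m, hm, hem⟩ := Nat.exists_eq_pow_mul_and_not_dvd (orderOf_pos y).ne' p hp.ne_one
  have hcop : m.Coprime (p ^ a) :=
    Nat.Coprime.pow_right _ ((hp.coprime_iff_not_dvd.mpr hm).symm)
  obtain ⟨t, ht⟩ := exists_pow_eq_self_of_coprime (x := f y) (n := m) (by rwa [hy])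
  refine ⟨y ^ (m * t), ?_, ?_⟩
  · rw [map_pow, pow_mul, ht]
  · obtain ⟨b, -, hb⟩ := (Nat.dvd_prime_pow hp).mp (orderOf_dvd_of_pow_eq_one
      (show (y ^ (m * t)) ^ (p ^ e) = 1 by
        rw [← pow_mul, show m * t * p ^ e = p ^ e * m * t by ring, ← hem, pow_mul,
          pow_orderOf_eq_one, one_pow]))
    exact ⟨b, hb⟩

theorem pairCond_subgroup {G : Type*} [Group G] (h : PairCond G) (H : Subgroup G) :
    PairCond H := by
  intro p q hp hq hpq x g ⟨a, ha⟩ ⟨b, hb⟩ hd
  refine h p q hp hq hpq x g ⟨a, by rw [Subgroup.orderOf_coe, ha]⟩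
    ⟨b, by rw [Subgroup.orderOf_coe, hb]⟩ ?_
  rwa [Nat.card_congr ((Subgroup.zpowers x ⊔ Subgroup.zpowers (g * x * g⁻¹)).equivMapOfInjective
    H.subtype H.subtype_injective).toEquiv, Subgroup.map_sup, MonoidHom.map_zpowers,
    MonoidHom.map_zpowers] at hd

theorem pairCond_of_surjective {G H : Type*} [Group G] [Finite G] [Group H] (h : PairCond G)
    (f : G →* H) (hf : Function.Surjective f) : PairCond H := by
  intro p q hp hq hpq x g ⟨a, ha⟩ ⟨b, hb⟩ hd
  obtain ⟨x, rfl⟩ := hf x
  obtain ⟨g, rfl⟩ := hf g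
  obtain ⟨x', hx', hxo⟩ := exists_prime_power_lift f hp x ha
  obtain ⟨g', hg', hgo⟩ := exists_prime_power_lift f hq g hb
  refine h p q hp hq hpq x' g' hxo hgo (hd.trans ?_)
  have := Subgroup.card_map_dvd f (H := Subgroup.zpowers x' ⊔ Subgroup.zpowers (g' * x' * g'⁻¹))
  rwa [Subgroup.map_sup, MonoidHom.map_zpowers, MonoidHom.map_zpowers, map_mul, map_mul, map_inv,
    hx', hg'] at this

theorem main (n : ℕ) : ∀ (G : Type u) [Group G] [Finite G], Nat.card G = n → PairCond G →
    Cfsg.IsSupersolvable G := by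
  induction n using Nat.strong_induction_on with
  | _ n IH =>
  intro G _ _ hn h
  subst hn
  rcases subsingleton_or_nontrivial G with hs | hs
  · exact CfsgLib.Supersolvable.of_subsingleton
  have hproper : ∀ H : Subgroup G, H ≠ ⊤ → Cfsg.IsSupersolvable H := fun H hH =>
    IH _ (lt_of_le_of_ne (Nat.le_of_dvd Nat.card_pos (Subgroup.card_subgroup_dvd_card H))
      fun e => hH (Subgroup.eq_top_of_card_eq H e)) H rfl (pairCond_subgroup h H)
  have hquot : ∀ (R : Subgroup G) [R.Normal], R ≠ ⊥ → Cfsg.IsSupersolvable (G ⧸ R) := by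
    intro R _ hR
    refine IH _ ?_ (G ⧸ R) rfl (pairCond_of_surjective h _ (QuotientGroup.mk'_surjective R))
    rw [Subgroup.card_eq_card_quotient_mul_card_subgroup R]
    exact lt_mul_of_one_lt_right Nat.card_pos (R.one_lt_card_iff_ne_bot.mpr hR)
  have hsolv : ∀ (K : Type u) [Group K] [Finite K], Cfsg.IsSupersolvable K → Group.IsSolvable K := by
    intro K _ _ hK
    haveI := Cfsg.Agent.S0526.result hK
    haveI : Group.IsSolvable (commutator K) := inferInstance
    haveI : Group.IsSolvable (K ⧸ commutator K) := Group.isSolvable_of_comm fun a b => by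
      induction a using QuotientGroup.induction_on with
      | H a =>
        induction b using QuotientGroup.induction_on with
        | H b =>
          rw [← QuotientGroup.mk_mul, ← QuotientGroup.mk_mul, QuotientGroup.eq]
          exact (show (a * b)⁻¹ * (b * a) = ⁅b⁻¹, a⁻¹⁆ by group) ▸
            Subgroup.commutator_mem_commutator (Subgroup.mem_top _) (Subgroup.mem_top _)
    exact (Group.isSolvable_iff_subgroup_quotient (commutator K)).mpr ⟨inferInstance, inferInstance⟩
  -- solubility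
  haveI : Group.IsSolvable G := by
    obtain ⟨p, hp, hpd⟩ : ∃ p, p.Prime ∧ p = (Nat.card G).minFac :=
      ⟨_, Nat.minFac_prime (Finite.one_lt_card (α := G)).ne', rfl⟩
    haveI : Fact p.Prime := ⟨hp⟩
    obtain ⟨P⟩ : Nonempty (Sylow p G) := inferInstance
    by_cases hN : ∀ U : Subgroup G, IsPGroup p U → U.Normal → U = ⊥
    · obtain ⟨K, hKn, hKP⟩ := (Cfsg.Agent.S0071.result P).mpr (by
        intro U hUP g hg hgc
        rcases eq_or_ne U ⊥ with rfl | hU
        · simp [Subgroup.mem_centralizer_iff]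
        have hNU : Subgroup.normalizer (U : Set G) ≠ ⊤ := fun e =>
          hU (hN U (P.2.to_le hUP) (Subgroup.normalizer_eq_top_iff.mp e))
        set X := Subgroup.normalizer (U : Set G)
        haveI : (U.subgroupOf X).Normal := Subgroup.normal_in_normalizer
        -- an element of order prime to `p - 1` is a `(p - 1)`-th power
        have hcop : (orderOf g).Coprime (p - 1) := by
          refine Nat.coprime_of_dvd fun r hr hrg hr1 => ?_
          have h1 : p ≤ r := hpd ▸ Nat.minFac_le_of_dvd hr.two_le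
            (hrg.trans (orderOf_dvd_natCard g))
          have h2 := Nat.le_of_dvd (by have := hp.two_le; omega) hr1
          have := hp.two_le
          omega
        obtain ⟨t, ht⟩ := exists_pow_eq_self_of_coprime hcop.symm
        rw [Subgroup.mem_centralizer_iff]
        intro y hy
        have hgX : g ∈ X := hg
        have := CfsgLib.Huppert.commute_of_supersolvable p _ X (U.subgroupOf X) rfl (hproper X hNU)
          inferInstance ((P.2.to_le hUP).comap_of_injective _ X.subtype_injective)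
          (⟨g, hgX⟩ ^ t) 1 ⟨g, hgX⟩
          (Or.inr (Subtype.ext (by
            rw [SubmonoidClass.coe_pow, SubmonoidClass.coe_pow, ← pow_mul, mul_comm, pow_mul, ht])))
          (by rw [Subgroup.orderOf_mk]; exact hgc) ⟨y, Subgroup.le_normalizer hy⟩ hy
        exact (congrArg Subtype.val this).symm)
      have hPK : (P : Subgroup G) ≠ ⊥ := P.ne_bot_of_dvd_card (hpd ▸ Nat.minFac_dvd _)
      have hKtop : K ≠ ⊤ := fun e => hPK (Subgroup.eq_bot_of_card_eq _ (by
        have := hKP.card_mul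
        rw [e, Subgroup.card_top] at this
        exact (Nat.mul_eq_left Nat.card_pos.ne').mp this))
      haveI := hKn
      haveI := hsolv K (hproper K hKtop)
      haveI : Group.IsNilpotent (G ⧸ K) := by
        refine IsPGroup.isNilpotent (p := p) ?_
        obtain ⟨a, ha⟩ := IsPGroup.iff_card.mp P.2
        refine IsPGroup.of_card (n := a) ?_
        rw [← Subgroup.index_eq_card, hKP.symm.index_eq_card, ha]
      exact (Group.isSolvable_iff_subgroup_quotient K).mpr ⟨inferInstance, inferInstance⟩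
    · push Not at hN
      obtain ⟨U, hUp, hUn, hU⟩ := hN
      haveI := hsolv _ (hquot U hU)
      haveI : Group.IsNilpotent U := hUp.isNilpotent
      exact (Group.isSolvable_iff_subgroup_quotient U).mpr ⟨inferInstance, inferInstance⟩
  refine Cfsg.Agent.S0579.result fun Mx hM => ?_
  by_cases hcore : Mx.normalCore = ⊥
  case neg =>
    have hle : Mx.normalCore ≤ Mx := Subgroup.normalCore_le Mx
    have hmk := QuotientGroup.mk'_surjective Mx.normalCore
    have he : (Mx.map (QuotientGroup.mk' Mx.normalCore)).comap (QuotientGroup.mk' Mx.normalCore)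
        = Mx := Subgroup.comap_map_eq_self (by rw [QuotientGroup.ker_mk']; exact hle)
    rw [← he, Subgroup.index_comap_of_surjective _ hmk]
    refine Cfsg.Agent.S0527.result (hquot _ hcore) _ ⟨fun e => hM.1 ?_, fun K hK => ?_⟩
    · rw [← he, e, Subgroup.comap_top]
    · have : Mx < K.comap (QuotientGroup.mk' Mx.normalCore) :=
        lt_of_eq_of_lt he.symm ((Subgroup.comap_lt_comap_of_surjective hmk).mpr hK)
      exact Subgroup.comap_injective hmk ((hM.2 _ this).trans (Subgroup.comap_top _).symm)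
  haveI : Finite (Subgroup G) := Finite.of_injective (fun K => (K : Set G)) SetLike.coe_injective
  obtain ⟨N, ⟨hNn, hNne⟩, hNmin⟩ := (Set.toFinite {N : Subgroup G | N.Normal ∧ N ≠ ⊥}).exists_minimal
    ⟨⊤, inferInstance, top_ne_bot⟩
  haveI := hNn
  have hmin : ∀ R : Subgroup G, R.Normal → R ≤ N → R ≠ ⊥ → R = N := fun R h1 h2 h3 =>
    le_antisymm h2 (hNmin ⟨h1, h3⟩ h2)
  have hNc : IsMulCommutative N := by
    have h1 : ⁅N, N⁆ = ⊥ := by
      by_contra hne
      exact (Group.IsSolvable.commutator_lt_of_ne_bot hNne).ne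
        (hmin _ inferInstance (Subgroup.commutator_le_self N) hne)
    exact ⟨⟨fun a b => Subtype.ext ((Subgroup.mem_centralizer_iff.mp
      ((Subgroup.commutator_eq_bot_iff_le_centralizer.mp h1) b.2)) a a.2)⟩⟩
  letI : CommGroup N := { (inferInstance : Group N) with mul_comm := hNc.is_comm.comm }
  haveI : Nontrivial N := (Subgroup.nontrivial_iff_ne_bot N).mpr hNne
  obtain ⟨q, hq, hqd⟩ := Nat.exists_prime_and_dvd (Finite.one_lt_card (α := N)).ne'
  haveI : Fact q.Prime := ⟨hq⟩
  have hexp : ∀ w : N, w ^ q = 1 := by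
    let E : Subgroup N :=
      { carrier := {w | w ^ q = 1}
        one_mem' := one_pow _
        mul_mem' := fun {a b} ha hb => by
          show (a * b) ^ q = 1
          rw [mul_pow, ha, hb, one_mul]
        inv_mem' := fun {a} ha => by
          show a⁻¹ ^ q = 1
          rw [inv_pow, ha, inv_one] }
    have hEn : (E.map N.subtype).Normal := ⟨by
      rintro _ ⟨w, hw, rfl⟩ g
      refine ⟨MulAut.conjNormal g w, ?_, MulAut.conjNormal_apply g w⟩
      show MulAut.conjNormal g w ^ q = 1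
      rw [← map_pow, hw, map_one]⟩
    obtain ⟨w0, hw0⟩ := exists_prime_orderOf_dvd_card' q hqd
    have hne : E.map N.subtype ≠ ⊥ := fun e => by
      have h1 : (w0 : G) ∈ E.map N.subtype :=
        ⟨w0, (show w0 ^ q = 1 by rw [← hw0]; exact pow_orderOf_eq_one w0), rfl⟩
      rw [e, Subgroup.mem_bot] at h1
      rw [show w0 = 1 from Subtype.ext h1, orderOf_one] at hw0
      exact hq.ne_one hw0.symm
    intro w
    have : (w : G) ∈ E.map N.subtype := by
      rw [hmin _ hEn (Subgroup.map_subtype_le E) hne]; exact w.2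
    obtain ⟨w', hw', he⟩ := this
    rwa [Subtype.ext he] at hw'
  have hNp : IsPGroup q N := fun w => ⟨1, by rw [pow_one]; exact hexp w⟩
  have hNM : ¬ N ≤ Mx := fun hle => hNne (le_bot_iff.mp (hcore ▸
    (Subgroup.normal_le_normalCore.mpr hle)))
  have hsup : N ⊔ Mx = ⊤ := hM.2 _ (lt_of_le_of_ne le_sup_right fun e => hNM (by
    calc N ≤ N ⊔ Mx := le_sup_left
      _ = Mx := e.symm))
  have hnormal : ∀ R : Subgroup G, (∀ w ∈ N, ∀ r ∈ R, w * r * w⁻¹ ∈ R) →
      (∀ m ∈ Mx, ∀ r ∈ R, m * r * m⁻¹ ∈ R) → R.Normal := by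
    intro R h1 h2
    refine ⟨fun r hr g => ?_⟩
    obtain ⟨w, hw, m, hm, rfl⟩ := Subgroup.mem_sup_of_normal_left.mp
      (hsup ▸ Subgroup.mem_top g : g ∈ N ⊔ Mx)
    rw [show w * m * r * (w * m)⁻¹ = w * (m * r * m⁻¹) * w⁻¹ by group]
    exact h1 w hw _ (h2 m hm r hr)
  have hcomm : ∀ w ∈ N, ∀ r ∈ N, w * r * w⁻¹ = r := fun w hw r hr => by
    rw [show w * r = r * w from congrArg Subtype.val (hNc.is_comm.comm ⟨w, hw⟩ ⟨r, hr⟩),
      mul_inv_cancel_right]
  have hinf : N ⊓ Mx = ⊥ := by
    by_contra hne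
    exact hNM ((hmin _ (hnormal (N ⊓ Mx) (fun w hw r hr => by rw [hcomm w hw r hr.1]; exact hr)
      (fun m hm r hr => ⟨hNn.conj_mem r hr.1 m,
        Mx.mul_mem (Mx.mul_mem hm hr.2) (Mx.inv_mem hm)⟩)) inf_le_left hne).ge.trans inf_le_right)
  have hcompl : N.IsComplement' Mx := Subgroup.isComplement'_of_disjoint_and_mul_eq_univ
    (disjoint_iff.mpr hinf) (by
      rw [← Subgroup.normal_mul, hsup, Subgroup.coe_top])
  rw [hcompl.index_eq_card]
  set φ : Mx →* MulAut N := (MulAut.conjNormal (H := N)).comp Mx.subtype with hφ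
  have hφa : ∀ (m : Mx) (w : N), (φ m w : G) = m * w * (m : G)⁻¹ := fun m w =>
    MulAut.conjNormal_apply _ _
  have hinj : Function.Injective φ := by
    refine (injective_iff_map_eq_one φ).mpr fun m hm => ?_
    have hC : (Mx ⊓ Subgroup.centralizer (N : Set G)).Normal := hnormal _
      (fun w hw r hr => by
        have : w * r = r * w := Subgroup.mem_centralizer_iff.mp hr.2 w hw
        rw [this, mul_inv_cancel_right]; exact hr)
      (fun k hk r hr => ⟨Mx.mul_mem (Mx.mul_mem hk hr.1) (Mx.inv_mem hk),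
        (inferInstance : (Subgroup.centralizer (N : Set G)).Normal).conj_mem r hr.2 k⟩)
    have h1 : Mx ⊓ Subgroup.centralizer (N : Set G) = ⊥ :=
      le_bot_iff.mp (hcore ▸ (Subgroup.normal_le_normalCore.mpr inf_le_left))
    refine Subtype.ext (Subgroup.mem_bot.mp (h1 ▸ ⟨m.2, ?_⟩ : (m : G) ∈ (⊥ : Subgroup G)))
    refine Subgroup.mem_centralizer_iff.mpr ?_
    intro w hw
    have := hφa m ⟨w, hw⟩
    rw [hm, MulAut.one_apply] at this
    exact mul_inv_eq_iff_eq_mul.mp this.symm |>.symm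
  have hMss : Cfsg.IsSupersolvable Mx := hproper Mx hM.1
  haveI := hsolv Mx hMss
  rw [core φ hexp hinj hNp hMss ?_ ?_]
  · exact hq
  · intro S hS
    have hSn : (S.map N.subtype).Normal := hnormal _
      (fun w hw r hr => by rw [hcomm w hw r (Subgroup.map_subtype_le S hr)]; exact hr)
      (fun m hm r hr => by
        obtain ⟨w, hw, rfl⟩ := hr
        exact ⟨φ ⟨m, hm⟩ w, hS _ w hw, hφa _ w⟩)
    rcases eq_or_ne (S.map N.subtype) ⊥ with h1 | h1
    · exact Or.inl ((Subgroup.map_eq_bot_iff_of_injective _ N.subtype_injective).mp h1)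
    · refine Or.inr (Subgroup.map_injective N.subtype_injective ?_)
      rw [hmin _ hSn (Subgroup.map_subtype_le S) h1, ← MonoidHom.range_eq_map, Subgroup.range_subtype]
  · intro p hp hpq y ⟨a, ha⟩ v
    set w := v / φ y v with hw
    by_contra hno
    set A : Subgroup N := Subgroup.zpowers w ⊔ Subgroup.zpowers (φ y w) with hA
    obtain ⟨b, hb⟩ := IsPGroup.iff_orderOf.mp hNp v
    have hwg : (w : G) = (v : G) * y * (v : G)⁻¹ * (y : G)⁻¹ := by
      rw [hw, div_eq_mul_inv, Subgroup.coe_mul, Subgroup.coe_inv, hφa]; group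
    set H := Subgroup.zpowers (y : G) ⊔ Subgroup.zpowers ((v : G) * y * (v : G)⁻¹) with hH
    have hy : (y : G) ∈ H := Subgroup.mem_sup_left (Subgroup.mem_zpowers _)
    have hwH : (w : G) ∈ H := by
      rw [hwg]
      exact H.mul_mem (Subgroup.mem_sup_right (Subgroup.mem_zpowers _)) (H.inv_mem hy)
    have hAH : A.map N.subtype ≤ H := by
      rw [hA, Subgroup.map_sup, MonoidHom.map_zpowers, MonoidHom.map_zpowers]
      refine sup_le (Subgroup.zpowers_le.mpr hwH) (Subgroup.zpowers_le.mpr ?_)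
      show ((φ y w : N) : G) ∈ H
      rw [hφa]
      exact H.mul_mem (H.mul_mem hy hwH) (H.inv_mem hy)
    obtain ⟨k, hk⟩ := IsPGroup.iff_card.mp (hNp.to_subgroup A)
    refine h p q hp hq hpq (y : G) (v : G) ⟨a, by rw [Subgroup.orderOf_coe, ha]⟩
      ⟨b, by rw [Subgroup.orderOf_coe, hb]⟩ ?_
    refine dvd_trans ?_ (Subgroup.card_dvd_of_le hAH)
    rw [← Nat.card_congr (A.equivMapOfInjective _ N.subtype_injective).toEquiv, hk]
    refine pow_dvd_pow q ?_
    by_contra hk2
    apply hno
    rcases eq_or_ne w 1 with h1 | h1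
    · rw [h1, map_one]; exact one_mem _
    have : A ≤ Subgroup.zpowers w := by
      refine (Subgroup.eq_of_le_of_card_ge (le_sup_left : Subgroup.zpowers w ≤ A) ?_).ge
      rw [hk, Nat.card_zpowers, orderOf_eq_prime (hexp w) h1]
      exact le_of_le_of_eq (Nat.pow_le_pow_right hq.pos (by omega : k ≤ 1)) (pow_one q)
    exact this (Subgroup.mem_sup_right (Subgroup.mem_zpowers _))


/-- Let G be a finite group such that for every pair of distinct primes p and q, every p-element x and every q-element g of G, the order of the subgroup generated by x and g x g⁻¹ is not divisible by q². Then G is supersolvable. -/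
theorem result {G : Type*} [Group G] [Finite G]
    (h : ∀ (p q : ℕ), p.Prime → q.Prime → p ≠ q → ∀ (x g : G), (∃ a : ℕ, orderOf x = p ^ a) → (∃ b : ℕ, orderOf g = q ^ b) →
      ¬ q ^ 2 ∣ Nat.card ↥(Subgroup.zpowers x ⊔ Subgroup.zpowers (g * x * g⁻¹))) :
    Cfsg.IsSupersolvable G := by
  exact main _ G rfl h

end Cfsg.Agent.S3033
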