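import Cfsg.Statements.S3036
import Cfsg.Agent.Lib.CD.Basic

set_option autoImplicit false
set_option linter.style.haveILetI false
set_option linter.unusedVariables false
open Cfsg

open Pointwise

namespace Cfsg.Agent.S3036

/-- Let G be a finite non-abelian simple group and A a proper nontrivial subgroup of G. Then |G| > |A| · |C_G(A)|. In particular |G| > |A|² for every nontrivial abelian subgroup A of G. -/
theorem result {G : Type*} [Group G] [Finite G] [IsSimpleGroup G] (hG : ¬ IsMulCommutative G) (A : Subgroup G) (hA1 : A ≠ ⊥) (hA2 : A ≠ ⊤) : Nat.card A * Nat.card ↥(Subgroup.centralizer (A : Set G)) < Nat.card G := by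
  by_contra hlt
  have hle : Nat.card G ≤ CfsgLib.CD.meas A := Nat.not_lt.mp hlt
  haveI : Nontrivial G := inferInstance
  have hZ : Subgroup.centralizer ((⊤ : Subgroup G) : Set G) = ⊥ := by
    rw [Subgroup.coe_top, Subgroup.centralizer_univ]
    refine (IsSimpleGroup.eq_bot_or_eq_top_of_normal _ inferInstance).resolve_right fun h => hG ?_
    exact ⟨⟨fun a b => (Subgroup.mem_center_iff.mp (h ▸ Subgroup.mem_top b) a)⟩⟩
  have htop : CfsgLib.CD.meas (⊤ : Subgroup G) = Nat.card G := by
    rw [CfsgLib.CD.meas, hZ, Subgroup.card_bot, mul_one, Subgroup.card_top]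
  have hbot : CfsgLib.CD.meas (⊥ : Subgroup G) ≤ Nat.card G := by
    rw [CfsgLib.CD.meas, Subgroup.card_bot, one_mul]
    exact Subgroup.card_le_card_group _
  -- a proper nontrivial large subgroup
  obtain ⟨R, hR, hR1, hR2⟩ : ∃ R : Subgroup G,
      Cfsg.IsCentralizerLarge R ∧ R ≠ ⊥ ∧ R ≠ ⊤ := by
    obtain ⟨R, hR⟩ := CfsgLib.CD.exists_large (P := G)
    by_cases hAl : Cfsg.IsCentralizerLarge A
    · exact ⟨A, hAl, hA1, hA2⟩
    · have h3 : CfsgLib.CD.meas A < Cfsg.maxCentralizerProduct G :=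
        lt_of_le_of_ne (CfsgLib.CD.le_max A) hAl
      have h4 : CfsgLib.CD.meas R = Cfsg.maxCentralizerProduct G := hR
      refine ⟨R, hR, fun h => ?_, fun h => ?_⟩
      · rw [h] at h4; omega
      · rw [h] at h4; omega
  obtain ⟨M, ⟨hM, hMtop⟩, hmax⟩ :=
    (Set.toFinite {Q : Subgroup G | Cfsg.IsCentralizerLarge Q ∧ Q ≠ ⊤}).exists_maximal ⟨R, hR, hR2⟩
  have hconj : ∀ g : G, M.map (MulAut.conj g).toMonoidHom = M := by
    intro g
    set M' := M.map (MulAut.conj g).toMonoidHom with hM'
    have hcard : ∀ X : Subgroup G, Nat.card (X.map (MulAut.conj g).toMonoidHom : Subgroup G) =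
        Nat.card X := fun X => Subgroup.card_map_of_injective (MulAut.conj g).injective
    have hC : Subgroup.centralizer (M' : Set G) =
        (Subgroup.centralizer (M : Set G)).map (MulAut.conj g).toMonoidHom := by
      rw [hM', Subgroup.coe_map]
      refine le_antisymm (fun x hx => ?_) (Subgroup.map_centralizer_le_centralizer_image _ _)
      refine ⟨(MulAut.conj g).symm x, fun m hm => ?_, (MulAut.conj g).apply_symm_apply x⟩
      have h1 := hx ((MulAut.conj g).toMonoidHom m) ⟨m, hm, rfl⟩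
      apply (MulAut.conj g).injective
      rw [map_mul, map_mul, MulEquiv.apply_symm_apply]
      exact h1
    have hM'l : Cfsg.IsCentralizerLarge M' := by
      rw [Cfsg.IsCentralizerLarge, hC, hM', hcard, hcard]
      exact hM
    obtain ⟨hsup, -, hset, -⟩ := CfsgLib.CD.large_pair hM hM'l
    rcases eq_or_ne (M ⊔ M') ⊤ with h | h
    · exfalso
      have hg : g⁻¹ ∈ (M : Set G) * (M' : Set G) := by rw [← hset, h]; trivial
      obtain ⟨a, ha, _, ⟨b, hb, rfl⟩, e⟩ := hg
      have hgM : g ∈ M := by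
        have h1 : g = a⁻¹ * b⁻¹ := by
          change a * (g * b * g⁻¹) = g⁻¹ at e
          have h2 : a * g * b = 1 := by
            calc a * g * b = a * (g * b * g⁻¹) * g := by group
              _ = 1 := by rw [e, inv_mul_cancel]
          calc g = a⁻¹ * (a * g * b) * b⁻¹ := by group
            _ = a⁻¹ * b⁻¹ := by rw [h2, mul_one]
        exact h1 ▸ M.mul_mem (M.inv_mem ha) (M.inv_mem hb)
      refine hMtop ?_
      rw [← h, sup_eq_left.mpr]
      rintro _ ⟨c, hc, rfl⟩
      exact M.mul_mem (M.mul_mem hgM hc) (M.inv_mem hgM)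
    · have h2 : M' ≤ M := le_sup_right.trans (hmax ⟨hsup, h⟩ le_sup_left)
      exact Subgroup.eq_of_le_of_card_ge h2 (hcard M).ge
  have hMn : M.Normal := ⟨fun x hx g => (hconj g) ▸ Subgroup.mem_map_of_mem _ hx⟩
  have hMbot : M = ⊥ := (IsSimpleGroup.eq_bot_or_eq_top_of_normal M hMn).resolve_right hMtop
  obtain ⟨hsup, -⟩ := CfsgLib.CD.large_pair hM hR
  refine hR1 (le_bot_iff.mp ?_)
  rw [← hMbot]
  exact le_sup_right.trans (hmax ⟨hsup, by rw [hMbot, bot_sup_eq]; exact hR2⟩ le_sup_left)

end Cfsg.Agent.S3036
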