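import Mathlib
import Cfsg.Statements.S3037
import Cfsg.Agent.Lib.CD.Basic

set_option autoImplicit false
set_option linter.style.haveILetI false
set_option linter.unusedVariables false
open Cfsg

namespace Cfsg.Agent.S3037

theorem key {X : Type*} [Group X] [Finite X] (V A B : Subgroup X) (α : ℝ) (hα : 0 < α) :
    ((Nat.card A : ℝ) ^ α * (Nat.card ↥(V ⊓ Subgroup.centralizer (A : Set X)) : ℝ)) *
      ((Nat.card B : ℝ) ^ α * (Nat.card ↥(V ⊓ Subgroup.centralizer (B : Set X)) : ℝ)) ≤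
    ((Nat.card ↥(A ⊔ B) : ℝ) ^ α * (Nat.card ↥(V ⊓ Subgroup.centralizer ((A ⊔ B : Subgroup X) : Set X)) : ℝ)) *
      ((Nat.card ↥(A ⊓ B) : ℝ) ^ α * (Nat.card ↥(V ⊓ Subgroup.centralizer ((A ⊓ B : Subgroup X) : Set X)) : ℝ)) := by
  have h1 : (Nat.card A : ℝ) ^ α * (Nat.card B : ℝ) ^ α ≤
      (Nat.card ↥(A ⊔ B) : ℝ) ^ α * (Nat.card ↥(A ⊓ B) : ℝ) ^ α := by
    rw [← Real.mul_rpow (by positivity) (by positivity), ← Real.mul_rpow (by positivity) (by positivity)]
    exact Real.rpow_le_rpow (by positivity) (by exact_mod_cast CfsgLib.CD.card_mul_le A B) hα.le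
  set P := V ⊓ Subgroup.centralizer (A : Set X) with hP
  set Q := V ⊓ Subgroup.centralizer (B : Set X) with hQ
  have h2 : Nat.card P * Nat.card Q ≤
      Nat.card ↥(V ⊓ Subgroup.centralizer ((A ⊔ B : Subgroup X) : Set X)) *
      Nat.card ↥(V ⊓ Subgroup.centralizer ((A ⊓ B : Subgroup X) : Set X)) := by
    refine (CfsgLib.CD.card_mul_le P Q).trans ?_
    rw [mul_comm]
    refine Nat.mul_le_mul ?_ ?_
    · refine Subgroup.card_le_of_le ?_
      rw [CfsgLib.CD.centralizer_sup]
      exact le_inf (inf_le_left.trans inf_le_left) (le_inf (inf_le_left.trans inf_le_right) (inf_le_right.trans inf_le_right))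
    · refine Subgroup.card_le_of_le ?_
      exact sup_le (le_inf inf_le_left (inf_le_right.trans (le_sup_left.trans (CfsgLib.CD.sup_centralizer_le A B))))
        (le_inf inf_le_left (inf_le_right.trans (le_sup_right.trans (CfsgLib.CD.sup_centralizer_le A B))))
  have h2' : (Nat.card P : ℝ) * (Nat.card Q : ℝ) ≤
      (Nat.card ↥(V ⊓ Subgroup.centralizer ((A ⊔ B : Subgroup X) : Set X)) : ℝ) *
      (Nat.card ↥(V ⊓ Subgroup.centralizer ((A ⊓ B : Subgroup X) : Set X)) : ℝ) := by exact_mod_cast h2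
  calc _ = ((Nat.card A : ℝ) ^ α * (Nat.card B : ℝ) ^ α) * ((Nat.card P : ℝ) * (Nat.card Q : ℝ)) := by ring
    _ ≤ _ := mul_le_mul h1 h2' (by positivity) (by positivity)
    _ = _ := by ring

/-- Let V and G be subgroups of a finite group with V an elementary abelian p-group (p prime) on which G acts faithfully and irreducibly by conjugation: G normalizes V, G ∩ C(V) = 1, and the only subgroups of V normalized by G are 1 and V. If for some nontrivial subgroup A of G and some real α > 0 one has |V| ≤ |A|^α · |C_V(A)|, then |V| ≤ |G|^α. -/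
theorem result {X : Type*} [Group X] [Finite X] {p : ℕ} [Fact p.Prime] (V G : Subgroup X) (hV : Cfsg.IsElementaryAbelian p V)
    (hGV : G ≤ Subgroup.normalizer (V : Set X)) (hfaith : G ⊓ Subgroup.centralizer (V : Set X) = ⊥)
    (hirr : ∀ W : Subgroup X, W ≤ V → G ≤ Subgroup.normalizer (W : Set X) → W = ⊥ ∨ W = V)
    (A : Subgroup X) (hA : A ≤ G) (hA1 : A ≠ ⊥) (α : ℝ) (hα : 0 < α)
    (hbig : (Nat.card V : ℝ) ≤ (Nat.card A : ℝ) ^ α * (Nat.card ↥(V ⊓ Subgroup.centralizer (A : Set X)) : ℝ)) :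
    (Nat.card V : ℝ) ≤ (Nat.card G : ℝ) ^ α := by
  classical
  set f : Subgroup X → ℝ := fun B => (Nat.card B : ℝ) ^ α * (Nat.card ↥(V ⊓ Subgroup.centralizer (B : Set X)) : ℝ) with hf
  have hpos : ∀ B, 0 < f B := fun B => by
    refine mul_pos (Real.rpow_pos_of_pos ?_ _) ?_ <;> exact_mod_cast Nat.card_pos
  obtain ⟨M₀, hM₀, hmax⟩ := Set.exists_max_image {B : Subgroup X | B ≤ G} f (Set.toFinite _) ⟨⊥, show (⊥ : Subgroup X) ≤ G from bot_le⟩
  have hsup : ∀ C D : Subgroup X, C ≤ G → D ≤ G → f C = f M₀ → f D = f M₀ → f (C ⊔ D) = f M₀ := by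
    intro C D hC hD eC eD
    refine le_antisymm (hmax _ (sup_le hC hD)) ?_
    have := key V C D α hα
    change f C * f D ≤ f (C ⊔ D) * f (C ⊓ D) at this
    rw [eC, eD] at this
    exact le_of_mul_le_mul_right (this.trans (mul_le_mul_of_nonneg_left (hmax (C ⊓ D) (inf_le_left.trans hC)) (hpos _).le)) (hpos _)
  obtain ⟨B, ⟨hBG, hBf⟩, hBmax⟩ := Set.exists_max_image {B : Subgroup X | B ≤ G ∧ f B = f M₀} (fun B => Nat.card B) (Set.toFinite _) ⟨M₀, hM₀, rfl⟩
  have hgreat : ∀ C ≤ G, f C = f M₀ → C ≤ B := fun C hC eC => by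
    have := hBmax (C ⊔ B) ⟨sup_le hC hBG, hsup C B hC hBG eC hBf⟩
    exact le_sup_left.trans (Subgroup.eq_of_le_of_card_ge le_sup_right this).symm.le
  have hbot : f ⊥ = Nat.card V := by
    have : V ⊓ Subgroup.centralizer ((⊥ : Subgroup X) : Set X) = V := inf_eq_left.mpr fun v _ =>
      Subgroup.mem_centralizer_iff.mpr fun y hy => by rw [(Subgroup.mem_bot.mp hy)]; simp
    simp only [hf, this, Subgroup.card_bot, Nat.cast_one, Real.one_rpow, one_mul]
  have hB1 : B ≠ ⊥ := by
    rintro rfl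
    have hAf : f A = f M₀ := le_antisymm (hmax A hA) (by rw [← hBf, hbot]; exact hbig)
    exact hA1 (le_bot_iff.mp (hgreat A hA hAf))
  have hfconj : ∀ g ∈ G, ∀ C : Subgroup X, f (C.map (MulAut.conj g).toMonoidHom) = f C := by
    intro g hg C
    have e : V ⊓ Subgroup.centralizer ((C.map (MulAut.conj g).toMonoidHom : Subgroup X) : Set X) =
        (V ⊓ Subgroup.centralizer (C : Set X)).map (MulAut.conj g).toMonoidHom := by
      ext y
      have hn := Subgroup.mem_normalizer_iff.mp (hGV hg)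
      simp only [Subgroup.mem_inf, Subgroup.mem_map, Subgroup.mem_centralizer_iff, Subgroup.coe_map, Set.forall_mem_image]
      constructor
      · rintro ⟨hy, hyc⟩
        refine ⟨g⁻¹ * y * g, ⟨(hn _).mpr (by simpa [mul_assoc] using hy), fun c hc => ?_⟩, by simp [mul_assoc]⟩
        have := congrArg (fun z => g⁻¹ * z * g) (hyc hc)
        simpa [mul_assoc] using this
      · rintro ⟨z, ⟨hz, hzc⟩, rfl⟩
        refine ⟨(hn z).mp hz, fun c hc => ?_⟩
        rw [← map_mul, ← map_mul]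
        exact congrArg _ (hzc c hc)
    simp only [hf]
    rw [e, Subgroup.card_map_of_injective (MulAut.conj g).injective, Subgroup.card_map_of_injective (MulAut.conj g).injective]
  have hnorm : G ≤ Subgroup.normalizer (B : Set X) := by
    intro g hg
    refine Subgroup.mem_normalizer_fintype fun b hb => ?_
    refine hgreat (B.map (MulAut.conj g).toMonoidHom) ?_ ((hfconj g hg B).trans hBf) ⟨b, hb, rfl⟩
    rintro _ ⟨c, hc, rfl⟩
    exact G.mul_mem (G.mul_mem hg (hBG hc)) (G.inv_mem hg)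
  have hWG : G ≤ Subgroup.normalizer ((V ⊓ Subgroup.centralizer (B : Set X) : Subgroup X) : Set X) := by
    intro g hg
    refine Subgroup.mem_normalizer_fintype fun w hw => ⟨(Subgroup.mem_normalizer_iff.mp (hGV hg) w).mp hw.1, ?_⟩
    refine Subgroup.mem_centralizer_iff.mpr fun b hb => ?_
    have hb' : g⁻¹ * b * g ∈ B := by
      have := (Subgroup.mem_normalizer_iff.mp (hnorm (G.inv_mem hg)) b).mp hb
      rwa [inv_inv] at this
    have := congrArg (fun z => g * z * g⁻¹) (Subgroup.mem_centralizer_iff.mp hw.2 _ hb')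
    simpa [mul_assoc] using this
  rcases hirr _ inf_le_left hWG with h | h
  · have hge : f ⊥ ≤ f B := hBf ▸ hmax ⊥ (show (⊥ : Subgroup X) ≤ G from bot_le)
    rw [hbot] at hge
    simp only [hf, h, Subgroup.card_bot, Nat.cast_one, mul_one] at hge
    exact hge.trans (Real.rpow_le_rpow (by positivity) (by exact_mod_cast Subgroup.card_le_of_le hBG) hα.le)
  · refine absurd (le_bot_iff.mp (hfaith ▸ le_inf hBG ?_)) hB1
    exact Subgroup.le_centralizer_iff.mp (inf_eq_left.mp h)

end Cfsg.Agent.S3037
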