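import Cfsg.Statements.S3038
import Cfsg.Agent.Lib.IsolatedRankTwo.SylowStructure

set_option autoImplicit false
open Cfsg

namespace Cfsg.Agent.S3038

/-- Let G be a finite group and p an odd prime with O_{p'}(G) = 1. Suppose that G has p-rank at most 2 and that some element x of order p is isolated in G and not central. Then F*(G) is a non-abelian simple group, and for every Sylow p-subgroup P of F*(G), either no conjugate of x lies in P and P is cyclic, or some conjugate of x lies in P and either P is extraspecial of order p³ and exponent p, or p = 3 and P has order 3^{2k+1} for some k ≥ 2 and is of maximal class (nilpotency class 2k). Since O_{p'}(G) = 1, such an x is not central modulo O_{p'}(G): the hypotheses describe a counterexample to the Z*_p statement in p-rank at most 2, and the conclusion records the structure it would have. -/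
theorem result {G : Type*} [Group G] [Finite G] {p : ℕ} [Fact p.Prime] (hp : p ≠ 2) (hcore : Cfsg.pPrimeCore p G = ⊥)
    (hrank : Cfsg.PRankLE p 2 G) (x : G) (hx : orderOf x = p) (hiso : Cfsg.IsIsolated x) (hnc : x ∉ Subgroup.center G) :
    IsSimpleGroup ↥(Cfsg.generalizedFittingSubgroup G) ∧ ¬ IsMulCommutative ↥(Cfsg.generalizedFittingSubgroup G) ∧
    ∀ P : Sylow p ↥(Cfsg.generalizedFittingSubgroup G),
      ((∀ g : G, g * x * g⁻¹ ∉ ((P : Subgroup ↥(Cfsg.generalizedFittingSubgroup G)).map (Cfsg.generalizedFittingSubgroup G).subtype)) ∧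
          IsCyclic ↥(P : Subgroup ↥(Cfsg.generalizedFittingSubgroup G))) ∨
      ((∃ g : G, g * x * g⁻¹ ∈ ((P : Subgroup ↥(Cfsg.generalizedFittingSubgroup G)).map (Cfsg.generalizedFittingSubgroup G).subtype)) ∧
        ((Cfsg.IsExtraspecial p ↥(P : Subgroup ↥(Cfsg.generalizedFittingSubgroup G)) ∧
            Nat.card (P : Subgroup ↥(Cfsg.generalizedFittingSubgroup G)) = p ^ 3 ∧
            ∀ y ∈ (P : Subgroup ↥(Cfsg.generalizedFittingSubgroup G)), y ^ p = 1) ∨
         (p = 3 ∧ ∃ k : ℕ, 2 ≤ k ∧ Nat.card (P : Subgroup ↥(Cfsg.generalizedFittingSubgroup G)) = 3 ^ (2 * k + 1) ∧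
            ∃ _ : Group.IsNilpotent ↥(P : Subgroup ↥(Cfsg.generalizedFittingSubgroup G)),
              Group.nilpotencyClass ↥(P : Subgroup ↥(Cfsg.generalizedFittingSubgroup G)) = 2 * k))) := by
  obtain ⟨hsimp, hnc'⟩ := CfsgLib.IsolatedRankTwo.main hp hcore hrank hx hiso hnc
  refine ⟨hsimp, hnc', ?_⟩
  revert hsimp hnc'
  generalize Cfsg.generalizedFittingSubgroup G = F
  intro hsimp hnc' P
  by_cases hno : ∀ g : G, g * x * g⁻¹ ∉ ((P : Subgroup ↥F).map F.subtype)
  · refine Or.inl ⟨hno, ?_⟩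
    haveI := CfsgLib.IsolatedRankTwo.cyclic_of_no_conj hp hrank hx hiso (P.2.map F.subtype) hno
    exact isCyclic_of_surjective
      ((P : Subgroup ↥F).equivMapOfInjective F.subtype F.subtype_injective).symm
      (MulEquiv.surjective _)
  push Not at hno
  refine Or.inr ⟨hno, ?_⟩
  obtain ⟨g, Y₀, hY₀, hY₀e⟩ := hno
  have hL : commutator ↥F = ⊤ := by
    refine (hsimp.eq_bot_or_eq_top_of_normal (commutator ↥F) inferInstance).resolve_left ?_
    intro h
    refine hnc' ⟨⟨fun a b => commutatorElement_eq_one_iff_mul_comm.mp ?_⟩⟩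
    rw [← Subgroup.mem_bot, ← h, commutator_def]
    exact Subgroup.commutator_mem_commutator (Subgroup.mem_top a) (Subgroup.mem_top b)
  have hyiso : IsIsolated (g * x * g⁻¹) := CfsgLib.IsolatedRankTwo.isIsolated_conj hiso g
  have hyo := CfsgLib.IsolatedRankTwo.orderOf_conj_eq hx g
  have hY₀' : (Y₀ : G) = g * x * g⁻¹ := hY₀e
  have hPG : IsPGroup p ((P : Subgroup ↥F).map F.subtype) := P.2.map _
  have hyP : g * x * g⁻¹ ∈ (P : Subgroup ↥F).map F.subtype := ⟨Y₀, hY₀, hY₀e⟩
  have hcomm : ∀ b ∈ (P : Subgroup ↥F), Commute (b : G) (g * x * g⁻¹) := fun b hb =>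
    CfsgLib.IsolatedRankTwo.commute_of_mem_pGroup hyiso hPG hyP ⟨b, hb, rfl⟩
  let Y : ↥(P : Subgroup ↥F) := ⟨Y₀, hY₀⟩
  have hYo : orderOf Y = p := by
    rw [← Subgroup.orderOf_coe, ← Subgroup.orderOf_coe]
    show orderOf (Y₀ : G) = p
    rw [hY₀', hyo]
  refine CfsgLib.IsolatedRankTwo.structure_of_fixed hp hL P
    (CfsgLib.BG.prankLE_of_injective (F.subtype.comp (P : Subgroup ↥F).subtype)
      (F.subtype_injective.comp (P : Subgroup ↥F).subtype_injective) hrank)
    Y (fun e => ?_) (orderOf_dvd_iff_pow_eq_one.mp hYo.dvd) (Subgroup.mem_center_iff.mpr fun b => ?_)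
    (fun n hn => Subtype.ext ?_)
  · rw [e, orderOf_one] at hYo
    exact (Fact.out : p.Prime).ne_one hYo.symm
  · refine Subtype.ext (Subtype.ext ?_)
    show ((b : ↥F) : G) * (Y₀ : G) = (Y₀ : G) * ((b : ↥F) : G)
    rw [hY₀']
    exact (hcomm b b.2).eq
  · have h1 := (Subgroup.mem_normalizer_iff.mp hn Y₀).mp hY₀
    have h2 := hcomm _ h1
    show (n : G) * (Y₀ : G) * (n : G)⁻¹ = (Y₀ : G)
    simp only [Subgroup.coe_mul, Subgroup.coe_inv] at h2
    rw [hY₀'] at h2 ⊢
    exact hyiso (n : G) h2.symm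

end Cfsg.Agent.S3038
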