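import Cfsg.Statements.S3044
import Cfsg.Agent.Lib.IsolatedPMin.Quotient
-- import your own Cfsg.Agent.* helpers here

set_option autoImplicit false
open Cfsg

namespace Cfsg.Agent.S3044

/-- Let G be a finite group, p a prime, S a Sylow p-subgroup of G and P a p-minimal subgroup of G containing S (S is not normal in P and lies in exactly one maximal subgroup of P). Let L be the subgroup generated by N_G(S) and all p-minimal subgroups of G containing S other than P, and suppose P is isolated: O_p(L) is not contained in O_p(P). Put Y for the normal closure of O^p(P) in G. Then G = YL; P is again isolated in the subgroup YS (the subgroup L₀ generated by N_{YS}(S) and the p-minimal subgroups of YS containing S other than P has O_p(L₀) not contained in O_p(P)); and either Y = O^p(P), or p divides |Y/O_p(Y)|, Y/O_p(Y) is generated by its components (a central product of quasisimple groups), and S permutes these components transitively by conjugation. -/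
theorem result {G : Type*} [Group G] [Finite G] {p : ℕ} [Fact p.Prime] (S : Sylow p G) (P : Subgroup G) (hSP : (S : Subgroup G) ≤ P) (hPmin : Cfsg.IsPMinimal p ↥P)
    (L Y : Subgroup G)
    (hL : L = Subgroup.normalizer ((S : Subgroup G) : Set G) ⊔ ⨆ P' : {P' : Subgroup G // (S : Subgroup G) ≤ P' ∧ Cfsg.IsPMinimal p ↥P' ∧ P' ≠ P}, (P' : Subgroup G))
    (hiso : ¬ (Cfsg.pCore p ↥L).map L.subtype ≤ (Cfsg.pCore p ↥P).map P.subtype)
    (hY : Y = Subgroup.normalClosure (((Cfsg.pResidual p ↥P).map P.subtype : Subgroup G) : Set G)) :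
    Y ⊔ L = ⊤ ∧
    ¬ (Cfsg.pCore p ↥((Subgroup.normalizer ((S : Subgroup G) : Set G) ⊓ (Y ⊔ (S : Subgroup G))) ⊔
          ⨆ P' : {P' : Subgroup G // (S : Subgroup G) ≤ P' ∧ P' ≤ Y ⊔ (S : Subgroup G) ∧ Cfsg.IsPMinimal p ↥P' ∧ P' ≠ P}, (P' : Subgroup G))).map
        (Subgroup.subtype _) ≤ (Cfsg.pCore p ↥P).map P.subtype ∧
    ((Cfsg.pResidual p ↥P).map P.subtype = Y ∨
     ∃ _ : (Cfsg.pCore p ↥Y).Normal,
       p ∣ Nat.card (↥Y ⧸ Cfsg.pCore p ↥Y) ∧ Cfsg.layer (↥Y ⧸ Cfsg.pCore p ↥Y) = ⊤ ∧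
       ∀ K₁ K₂ : Subgroup (↥Y ⧸ Cfsg.pCore p ↥Y), Cfsg.IsComponent K₁ → Cfsg.IsComponent K₂ →
         ∃ s ∈ (S : Subgroup G), ((K₂.comap (QuotientGroup.mk' (Cfsg.pCore p ↥Y))).map Y.subtype) = (((K₁.comap (QuotientGroup.mk' (Cfsg.pCore p ↥Y))).map Y.subtype)).map (MulAut.conj s).toMonoidHom) := by
  have d : CfsgLib.IsolatedPMin.Data S P L Y := ⟨hSP, hPmin, hL, hiso, hY⟩
  haveI := CfsgLib.Fitting.pCore_normal (G := G) p
  haveI hYp := CfsgLib.Fitting.pCore_normal (G := ↥Y) p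
  refine ⟨CfsgLib.IsolatedPMin.closure_sup_L d, ?_, ?_⟩
  · set L₀ := (Subgroup.normalizer ((S : Subgroup G) : Set G) ⊓ (Y ⊔ (S : Subgroup G))) ⊔
      ⨆ P' : {P' : Subgroup G // (S : Subgroup G) ≤ P' ∧ P' ≤ Y ⊔ (S : Subgroup G) ∧ Cfsg.IsPMinimal p ↥P' ∧ P' ≠ P},
        (P' : Subgroup G) with hL₀
    intro hle
    apply hiso
    refine le_trans ?_ hle
    have h1 : L₀ ≤ L := by
      rw [hL]
      refine sup_le (le_sup_of_le_left inf_le_left) (iSup_le ?_)
      rintro ⟨P', a, b, c, e⟩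
      exact le_sup_of_le_right (le_iSup_of_le ⟨P', a, c, e⟩ le_rfl)
    have h2 : (S : Subgroup G) ≤ L₀ := le_sup_of_le_left (le_inf Subgroup.le_normalizer le_sup_right)
    set R := (Cfsg.pCore p ↥L).map L.subtype with hR
    have h3 : R ≤ L₀ := (CfsgLib.IsolatedPMin.core_L_le d).trans h2
    have h4 : R.subgroupOf L₀ ≤ Cfsg.pCore p ↥L₀ := by
      refine CfsgLib.Fitting.le_pCore ((Subgroup.normal_subgroupOf_iff_le_normalizer h3).mpr
        (h1.trans (CfsgLib.IsolatedPMin.core_L_normalized L))) ?_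
      exact ((CfsgLib.Fitting.pCore_isPGroup p).map L.subtype).of_equiv (Subgroup.subgroupOfEquivOfLe h3).symm
    intro x hx
    exact ⟨⟨x, h3 hx⟩, h4 hx, rfl⟩
  · rcases CfsgLib.IsolatedPMin.structure_thm d with h | h
    · exact Or.inl h.1
    · exact Or.inr ⟨hYp, h⟩


end Cfsg.Agent.S3044
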