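import Cfsg.Statements.S3045
import Cfsg.Agent.Lib.IsolatedPMin.Quotient
-- import your own Cfsg.Agent.* helpers here

set_option autoImplicit false
open Cfsg

namespace Cfsg.Agent.S3045

/-- Let G be a finite group, p a prime, S a Sylow p-subgroup of G and P a p-minimal subgroup of G containing S. Let L be the subgroup generated by N_G(S) and all p-minimal subgroups of G containing S other than P, and suppose O_p(L) is not contained in O_p(P). Put Y for the normal closure of O^p(P) in G. Then O^p(P) is contained in the preimage in G of F*(G/O_p(G)); and if Y is solvable, then Y = O^p(P) and Y/O_p(Y) is a t-group of nilpotency class at most 2 for some prime t ≠ p. -/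
theorem result {G : Type*} [Group G] [Finite G] {p : ℕ} [Fact p.Prime] (S : Sylow p G) (P : Subgroup G) (hSP : (S : Subgroup G) ≤ P) (hPmin : Cfsg.IsPMinimal p ↥P)
    (L Y : Subgroup G)
    (hL : L = Subgroup.normalizer ((S : Subgroup G) : Set G) ⊔ ⨆ P' : {P' : Subgroup G // (S : Subgroup G) ≤ P' ∧ Cfsg.IsPMinimal p ↥P' ∧ P' ≠ P}, (P' : Subgroup G))
    (hiso : ¬ (Cfsg.pCore p ↥L).map L.subtype ≤ (Cfsg.pCore p ↥P).map P.subtype)
    (hY : Y = Subgroup.normalClosure (((Cfsg.pResidual p ↥P).map P.subtype : Subgroup G) : Set G)) [hn : (Cfsg.pCore p G).Normal] :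
    (Cfsg.pResidual p ↥P).map P.subtype ≤ (Cfsg.generalizedFittingSubgroup (G ⧸ Cfsg.pCore p G)).comap (QuotientGroup.mk' (Cfsg.pCore p G)) ∧
    (Group.IsSolvable ↥Y → (Cfsg.pResidual p ↥P).map P.subtype = Y ∧
       ∃ _ : (Cfsg.pCore p ↥Y).Normal, ∃ t : ℕ, t.Prime ∧ t ≠ p ∧ IsPGroup t (↥Y ⧸ Cfsg.pCore p ↥Y) ∧
         ∃ _ : Group.IsNilpotent (↥Y ⧸ Cfsg.pCore p ↥Y), Group.nilpotencyClass (↥Y ⧸ Cfsg.pCore p ↥Y) ≤ 2) := by
  have d : CfsgLib.IsolatedPMin.Data S P L Y := ⟨hSP, hPmin, hL, hiso, hY⟩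
  haveI hYp := CfsgLib.Fitting.pCore_normal (G := ↥Y) p
  haveI hYn := CfsgLib.IsolatedPMin.closure_normal d
  haveI hmapn : (Y.map (QuotientGroup.mk' (Cfsg.pCore p G))).Normal :=
    hYn.map _ (QuotientGroup.mk'_surjective _)
  refine ⟨?_, fun hsol => ?_⟩
  · refine (CfsgLib.IsolatedPMin.residual_le_Y d).trans (Subgroup.map_le_iff_le_comap.mp ?_)
    set Yb := Y.map (QuotientGroup.mk' (Cfsg.pCore p G)) with hYb
    by_cases h : (Nat.card Yb).Coprime p
    · obtain ⟨-, -, hcl⟩ := CfsgLib.IsolatedPMin.pPrime_case (CfsgLib.IsolatedPMin.setting d) h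
      refine le_trans ?_ CfsgLib.Layer.fittingSubgroup_le_generalizedFitting
      refine CfsgLib.Fitting.le_fittingSubgroup hmapn ((Subgroup.isNilpotent_iff_lowerCentralSeries Yb).mpr ⟨2, ?_⟩)
      rw [Subgroup.lowerCentralSeries_succ, Subgroup.lowerCentralSeries_succ,
        Subgroup.lowerCentralSeries_zero, hcl]
    · have hlay := CfsgLib.IsolatedPMin.layer_eq_top (CfsgLib.IsolatedPMin.setting d) h
      have h1 := CfsgLib.Layer.map_layer_le (H := Yb) (Subgroup.Normal.isSubnormal hmapn)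
      rw [hlay, ← MonoidHom.range_eq_map, Subgroup.range_subtype] at h1
      exact h1.trans le_sup_left
  · rcases CfsgLib.IsolatedPMin.structure_thm d with ⟨hKY, ⟨t, ht, htp, htG⟩, hcl⟩ | ⟨hp', hlay, -⟩
    · refine ⟨hKY, hYp, t, ht, htp, htG, ?_⟩
      haveI hnil : Group.IsNilpotent (↥Y ⧸ Cfsg.pCore p ↥Y) :=
        Subgroup.nilpotent_iff_lowerCentralSeries.mpr ⟨2, hcl⟩
      exact ⟨hnil, Subgroup.lowerCentralSeries_eq_bot_iff_nilpotencyClass_le.mp hcl⟩
    · exfalso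
      have hperf : ⁅(⊤ : Subgroup (↥Y ⧸ Cfsg.pCore p ↥Y)), (⊤ : Subgroup (↥Y ⧸ Cfsg.pCore p ↥Y))⁆ = ⊤ := by
        have := CfsgLib.Layer.commutator_layer_self (G := ↥Y ⧸ Cfsg.pCore p ↥Y)
        rwa [hlay] at this
      have hsolQ : Group.IsSolvable (↥Y ⧸ Cfsg.pCore p ↥Y) := inferInstance
      obtain ⟨n, hn⟩ := hsolQ
      have hall : ∀ m, derivedSeries (↥Y ⧸ Cfsg.pCore p ↥Y) m = ⊤ := fun m => by
        induction m with
        | zero => rfl
        | succ m ih => rw [derivedSeries_succ, ih, hperf]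
      have htriv : (⊤ : Subgroup (↥Y ⧸ Cfsg.pCore p ↥Y)) = ⊥ := (hall n).symm.trans hn
      have h1 : Nat.card (↥Y ⧸ Cfsg.pCore p ↥Y) = 1 := by
        rw [← Subgroup.card_top, htriv, Subgroup.card_bot]
      exact (Fact.out : p.Prime).not_dvd_one (h1 ▸ hp')


end Cfsg.Agent.S3045
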