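import Cfsg.Statements.S3048
import Cfsg.Agent.S3011
import Cfsg.Agent.S3012
import Cfsg.Agent.Lib.ThreeTransp.Classes
import Cfsg.Agent.Lib.ZJ.RealElements
import Cfsg.Agent.Lib.Layer.Basic

set_option autoImplicit false
universe u
open Cfsg

namespace Cfsg.Agent.S3048

set_option linter.style.haveILetI false

section
variable {G : Type u} [Group G] [Finite G]

/-- A `2`-group normal in a normal subgroup is trivial. -/
theorem eq_bot_of_normalized (hO : Cfsg.pCore 2 G = ⊥) {N T : Subgroup G} [N.Normal] (hTN : T ≤ N)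
    (hNT : N ≤ Subgroup.normalizer (T : Set G)) (hT : IsPGroup 2 T) : T = ⊥ :=
  le_bot_iff.1 (hO ▸ CfsgLib.ThreeTransp.le_pCore_of_normalized hTN hNT hT)

theorem pCore_normal_eq_bot (hO : Cfsg.pCore 2 G = ⊥) (N : Subgroup G) [N.Normal] :
    Cfsg.pCore 2 N = ⊥ := by
  haveI := CfsgLib.Fitting.pCore_normal (G := N) 2
  rw [← Subgroup.map_eq_bot_iff_of_injective _ N.subtype_injective]
  refine eq_bot_of_normalized hO (Subgroup.map_subtype_le _) (fun n hn => ?_)
    ((CfsgLib.Fitting.pCore_isPGroup 2).map N.subtype)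
  rw [Subgroup.mem_normalizer_iff]
  intro x
  constructor
  · rintro ⟨y, hy, rfl⟩
    exact ⟨⟨n, hn⟩ * y * ⟨n, hn⟩⁻¹, Subgroup.Normal.conj_mem inferInstance y hy _, rfl⟩
  · rintro ⟨y, hy, hy'⟩
    refine ⟨⟨n, hn⟩⁻¹ * y * ⟨n, hn⟩⁻¹⁻¹, Subgroup.Normal.conj_mem inferInstance y hy _, ?_⟩
    have hy'' : (y : G) = n * x * n⁻¹ := hy'
    show n⁻¹ * (y : G) * n⁻¹⁻¹ = x
    rw [hy'']; group

/-- An element of the `2`-core of `H` commutes with a subgroup of `H` normalized by `H` without normal `2`-subgroups. -/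
theorem commute_of_core {H S : Subgroup G} (hSH : S ≤ H) (hHS : H ≤ Subgroup.normalizer (S : Set G))
    (hS2 : ∀ T : Subgroup G, T ≤ S → S ≤ Subgroup.normalizer (T : Set G) → IsPGroup 2 T → T = ⊥)
    {u : G} (hu : u ∈ (Cfsg.pCore 2 H).map H.subtype) {n : G} (hn : n ∈ S) : u * n = n * u := by
  haveI := CfsgLib.Fitting.pCore_normal (G := H) 2
  set C := (Cfsg.pCore 2 H).map H.subtype with hC
  have hCn : ∀ y ∈ C, ∀ g ∈ H, g * y * g⁻¹ ∈ C := by
    rintro _ ⟨y, hy, rfl⟩ g hg
    exact ⟨⟨g, hg⟩ * y * ⟨g, hg⟩⁻¹, Subgroup.Normal.conj_mem inferInstance y hy _, rfl⟩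
  have hC2 : IsPGroup 2 C := (CfsgLib.Fitting.pCore_isPGroup 2).map H.subtype
  have hT : C ⊓ S = ⊥ := by
    refine hS2 _ inf_le_right (fun s hs => ?_) (hC2.to_le inf_le_left)
    refine Subgroup.mem_normalizer_iff.2 fun x => ⟨fun hx => ⟨hCn x hx.1 s (hSH hs),
      S.mul_mem (S.mul_mem hs hx.2) (S.inv_mem hs)⟩, fun hx => ?_⟩
    have h1 := hCn _ hx.1 s⁻¹ (H.inv_mem (hSH hs))
    have h2 := S.mul_mem (S.mul_mem (S.inv_mem hs) hx.2) hs
    exact ⟨by simpa [mul_assoc] using h1, by simpa [mul_assoc] using h2⟩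
  have huH : u ∈ H := Subgroup.map_subtype_le _ hu
  have hk : u * n * u⁻¹ * n⁻¹ ∈ C ⊓ S := by
    refine ⟨?_, S.mul_mem ((Subgroup.mem_normalizer_iff.1 (hHS huH) n).1 hn) (S.inv_mem hn)⟩
    have := C.mul_mem hu (hCn _ (C.inv_mem hu) n (hSH hn))
    simpa [mul_assoc] using this
  rw [hT, Subgroup.mem_bot] at hk
  calc u * n = (u * n * u⁻¹ * n⁻¹) * n * u := by group
    _ = n * u := by rw [hk, one_mul]

theorem eq_one_of_inv_fixed {h : G} (ho : Odd (orderOf h)) (h2 : h ^ 2 = 1) : h = 1 := by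
  rw [← orderOf_eq_one_iff]
  exact Nat.eq_one_of_dvd_coprimes (Nat.coprime_two_left.mpr ho) (orderOf_dvd_of_pow_eq_one h2) dvd_rfl

theorem commute_of_commute_sq {h w : G} (ho : Odd (orderOf h)) (hw : Commute w (h ^ 2)) : Commute w h := by
  obtain ⟨j, hj⟩ := exists_pow_eq_self_of_coprime (x := h) (n := 2) (Nat.coprime_two_left.mpr ho)
  exact hj ▸ hw.pow_right j

end

open scoped Classical in
/-- Minimal counterexample reduction for the Sidki pair problem. Let G be a finite group and V a nontrivial elementary abelian 2-subgroup satisfying the Sidki pair condition with V ∩ O₂(G) = 1. Suppose that for every finite group H of smaller order, every nontrivial elementary abelian 2-subgroup W of H satisfying the Sidki pair condition meets O₂(H) nontrivially, and that the same holds in G for every such subgroup W of order smaller than that of V. Then the generalized Fitting subgroup F*(G) is a non-abelian simple group and G = V F*(G). -/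
theorem result {G : Type u} [Group G] [Finite G] (V : Subgroup G) (hV : Cfsg.IsElementaryAbelian 2 V) (hV1 : V ≠ ⊥) (hS : Cfsg.IsSidkiPair V) (hVO : V ⊓ Cfsg.pCore 2 G = ⊥) (hminG : ∀ (H : Type u) [Group H] [Finite H] (W : Subgroup H), Nat.card H < Nat.card G → Cfsg.IsElementaryAbelian 2 W → W ≠ ⊥ → Cfsg.IsSidkiPair W → W ⊓ Cfsg.pCore 2 H ≠ ⊥) (hminV : ∀ W : Subgroup G, Nat.card W < Nat.card V → Cfsg.IsElementaryAbelian 2 W → W ≠ ⊥ → Cfsg.IsSidkiPair W → W ⊓ Cfsg.pCore 2 G ≠ ⊥) : IsSimpleGroup ↥(Cfsg.generalizedFittingSubgroup G) ∧ ¬ IsMulCommutative ↥(Cfsg.generalizedFittingSubgroup G) ∧ V ⊔ Cfsg.generalizedFittingSubgroup G = ⊤ := by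
  haveI : Fact (Nat.Prime 2) := ⟨Nat.prime_two⟩
  have hsq : ∀ a ∈ V, a * a = 1 := fun a ha => by rw [← pow_two]; exact hV.2 a ha
  have hVc : ∀ a ∈ V, ∀ b ∈ V, a * b = b * a := fun a ha b hb => by
    haveI := hV.1
    exact congrArg Subtype.val (mul_comm' (⟨a, ha⟩ : V) ⟨b, hb⟩)
  have hinvV : ∀ a ∈ V, a⁻¹ = a := fun a ha => inv_eq_of_mul_eq_one_right (hsq a ha)
  -- the minimality in a proper subgroup
  have meet : ∀ H W : Subgroup G, H ≠ ⊤ → W ≤ H → W ≤ V → W ≠ ⊥ →
      (∀ h ∈ H, ∀ v ∈ W, Odd (orderOf h) → v * h * v⁻¹ = h⁻¹ → ∃ w ∈ W, w ≠ 1 ∧ w * h = h * w) →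
      ∃ u ∈ W, u ≠ 1 ∧ u ∈ (Cfsg.pCore 2 H).map H.subtype := by
    intro H W hH hWH hWV hW1 hWS
    have hne := hminG ↥H (W.subgroupOf H) ?_ ⟨?_, ?_⟩ ?_ ?_
    · obtain ⟨u, hu, hu1⟩ := (Subgroup.ne_bot_iff_exists_ne_one).1 hne |>.imp (fun x => (fun hx : x ≠ 1 => And.intro x.2 hx))
      exact ⟨(u : H).1, Subgroup.mem_subgroupOf.1 hu.1, fun e => hu1 (Subtype.ext (Subtype.ext e)), ⟨_, hu.2, rfl⟩⟩
    · refine lt_of_le_of_ne (Subgroup.card_le_card_group H) fun e => hH ?_
      exact Subgroup.eq_top_of_card_eq _ e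
    · exact ⟨⟨fun a b => Subtype.ext (Subtype.ext (hVc _ (hWV a.2) _ (hWV b.2)))⟩⟩
    · exact fun a ha => Subtype.ext (hV.2 _ (hWV ha))
    · intro e
      rw [Subgroup.subgroupOf_eq_bot] at e
      exact hW1 (le_bot_iff.1 (fun x hx => e.le_bot ⟨hx, hWH hx⟩))
    · intro h v hv ho hi
      obtain ⟨w, hw, hw1, hwh⟩ := hWS h h.2 v hv (by rwa [Subgroup.orderOf_coe]) (congrArg Subtype.val hi)
      exact ⟨⟨w, hWH hw⟩, hw, fun e => hw1 (congrArg Subtype.val e), Subtype.ext hwh⟩
  -- `O₂(G) = 1`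
  have hO : Cfsg.pCore 2 G = ⊥ := by
    by_contra hne
    haveI := CfsgLib.Fitting.pCore_normal (G := G) 2
    refine hminG (G ⧸ Cfsg.pCore 2 G) (V.map (QuotientGroup.mk' _)) ?_ ⟨?_, ?_⟩ ?_
      (Cfsg.Agent.S3012.result V _ hV hV1 hS hVO) ?_
    · have h1 := Subgroup.card_eq_card_quotient_mul_card_subgroup (Cfsg.pCore 2 G)
      rw [h1]
      exact lt_mul_of_one_lt_right Nat.card_pos ((Subgroup.one_lt_card_iff_ne_bot _).2 hne)
    · refine ⟨⟨?_⟩⟩
      rintro ⟨_, a, ha, rfl⟩ ⟨_, b, hb, rfl⟩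
      exact Subtype.ext (by show _ * _ = _ * _; rw [← map_mul, ← map_mul, hVc a ha b hb])
    · rintro _ ⟨a, ha, rfl⟩
      rw [← map_pow, hV.2 a ha, map_one]
    · rw [Ne, Subgroup.map_eq_bot_iff, QuotientGroup.ker_mk']
      exact fun h => hV1 (by rwa [inf_eq_left.2 h] at hVO)
    · rw [le_bot_iff.1 CfsgLib.ZJ.pCore_quotient_pCore_le_bot, inf_bot_eq]
  have hnormal2 : ∀ K : Subgroup G, K.Normal → IsPGroup 2 K → K = ⊥ := fun K hn hp =>
    le_bot_iff.1 (hO ▸ CfsgLib.Fitting.le_pCore hn hp)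
  have hnocentral : ∀ a ∈ V, a ∈ Subgroup.center G → a = 1 := fun a ha hc => by
    haveI : (Subgroup.zpowers a).Normal := ⟨fun x hx g => by
      have hxc : x ∈ Subgroup.center G := Subgroup.zpowers_le.2 hc hx
      rwa [Subgroup.mem_center_iff.1 hxc g, mul_inv_cancel_right]⟩
    have hp2 : IsPGroup 2 (Subgroup.zpowers a) :=
      IsPGroup.to_le (fun x => ⟨1, Subtype.ext (hV.2 x x.2)⟩ : IsPGroup 2 V) (Subgroup.zpowers_le.2 ha)
    exact Subgroup.mem_bot.1 (hnormal2 _ inferInstance hp2 ▸ Subgroup.mem_zpowers a)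
  -- the normal 2-group statement inside a normal subgroup
  have hN2 : ∀ N : Subgroup G, N.Normal → ∀ T : Subgroup G, T ≤ N → N ≤ Subgroup.normalizer (T : Set G) →
      IsPGroup 2 T → T = ⊥ := fun N _ T => eq_bot_of_normalized hO
  -- every nontrivial normal subgroup supplements `V`
  have hsupp : ∀ N : Subgroup G, N.Normal → N ≠ ⊥ → V ⊔ N = ⊤ := by
    intro N hNn hN1
    haveI := hNn
    by_contra hlt
    have hnorm : ∀ H : Subgroup G, H ≤ Subgroup.normalizer (N : Set G) := fun H => by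
      rw [Subgroup.normalizer_eq_top]; exact le_top
    obtain ⟨u, huV, hu1, huO⟩ := meet (V ⊔ N) V hlt le_sup_left le_rfl hV1
      (fun h _ v hv ho hi => hS h v hv ho hi)
    have huN : ∀ n ∈ N, u * n = n * u := fun n hn =>
      commute_of_core le_sup_right (hnorm _) (hN2 N hNn) huO hn
    set D := Subgroup.centralizer (N : Set G) with hD
    by_cases hDtop : D = ⊤
    · -- `N` central
      have hNc : N ≤ Subgroup.center G := fun n hn => Subgroup.mem_center_iff.2 fun g =>
        ((Subgroup.mem_centralizer_iff.1 (hDtop ▸ Subgroup.mem_top g : g ∈ D)) n hn).symm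
      have hVN : V ⊓ N = ⊥ := (Subgroup.eq_bot_iff_forall _).2 fun a ha => hnocentral a ha.1 (hNc ha.2)
      have h1 := hminG (G ⧸ N) (V.map (QuotientGroup.mk' N)) (by
          rw [Subgroup.card_eq_card_quotient_mul_card_subgroup N]
          exact lt_mul_of_one_lt_right Nat.card_pos ((Subgroup.one_lt_card_iff_ne_bot _).2 hN1))
        ⟨⟨⟨by
          rintro ⟨_, a, ha, rfl⟩ ⟨_, b, hb, rfl⟩
          exact Subtype.ext (by show _ * _ = _ * _; rw [← map_mul, ← map_mul, hVc a ha b hb])⟩⟩, by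
          rintro _ ⟨a, ha, rfl⟩
          rw [← map_pow, hV.2 a ha, map_one]⟩
        (by
          rw [Ne, Subgroup.map_eq_bot_iff, QuotientGroup.ker_mk']
          exact fun h => hV1 (by rwa [inf_eq_left.2 h] at hVN))
        (Cfsg.Agent.S3012.result V _ hV hV1 hS hVN)
      apply h1
      refine (Subgroup.eq_bot_iff_forall _).2 ?_
      rintro _ ⟨⟨a, ha, rfl⟩, haO⟩
      have ha1 : a = 1 := by
        by_contra ha1
        obtain ⟨h, hh1, ho, hi⟩ := Cfsg.Agent.S3011.exists_odd (hsq a ha)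
          (fun e => ha1 (Subgroup.mem_bot.1 (hO ▸ e)))
        set π := QuotientGroup.mk' N
        haveI := CfsgLib.Fitting.pCore_normal (G := G ⧸ N) 2
        have hk : π (h ^ 2) ∈ Cfsg.pCore 2 (G ⧸ N) := by
          have h4 := (Cfsg.pCore 2 (G ⧸ N)).mul_mem (Subgroup.Normal.conj_mem inferInstance _ haO (π h))
            ((Cfsg.pCore 2 (G ⧸ N)).inv_mem haO)
          rw [← map_inv, ← map_inv, ← map_mul, ← map_mul, ← map_mul] at h4
          convert h4 using 2
          calc h ^ 2 = h * (h⁻¹)⁻¹ := by rw [inv_inv, sq]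
            _ = h * (a * h * a⁻¹)⁻¹ := by rw [hi]
            _ = h * a * h⁻¹ * a⁻¹ := by group
        obtain ⟨k, hk'⟩ := IsPGroup.iff_orderOf.1 (CfsgLib.Fitting.pCore_isPGroup 2) ⟨_, hk⟩
        rw [← Subgroup.orderOf_coe] at hk'
        have hd : orderOf (π (h ^ 2)) ∣ orderOf h := (orderOf_map_dvd π _).trans (orderOf_pow_dvd 2)
        have h5 : π (h ^ 2) = 1 := by
          rw [← orderOf_eq_one_iff]
          exact Nat.eq_one_of_dvd_coprimes ((Nat.coprime_two_left.mpr ho).pow_left k) (dvd_of_eq hk') hd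
        have h6 : h ^ 2 ∈ Subgroup.center G := hNc ((QuotientGroup.eq_one_iff _).1 h5)
        have h7 : a * h ^ 2 * a⁻¹ = h ^ 2 := by
          rw [Subgroup.mem_center_iff.1 h6 a, mul_inv_cancel_right]
        rw [← conj_pow, hi, inv_pow, inv_eq_iff_mul_eq_one, ← pow_add] at h7
        apply hh1
        have h8 : h ^ 2 = 1 := eq_one_of_inv_fixed (ho.of_dvd_nat (orderOf_pow_dvd 2)) (by rw [← pow_mul]; exact h7)
        exact eq_one_of_inv_fixed ho h8
      rw [ha1, map_one]
    · haveI : D.Normal := by rw [hD]; infer_instance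
      have huD : u ∈ D := Subgroup.mem_centralizer_iff.2 fun n hn => (huN n hn).symm
      obtain ⟨a, ha, ha1, haO⟩ := meet D (V ⊓ D) hDtop inf_le_right inf_le_left
        (fun e => hu1 (Subgroup.mem_bot.1 (e ▸ Subgroup.mem_inf.2 ⟨huV, huD⟩))) (by
        intro h hhD v hv ho hi
        by_cases hh : h = 1
        · exact ⟨u, ⟨huV, huD⟩, hu1, by rw [hh, one_mul, mul_one]⟩
        obtain ⟨w₀, hw₀, hw₀1, hw₀h⟩ := hS h v hv.1 ho hi
        set V₁ := V ⊓ Subgroup.centralizer ({h} : Set G) with hV₁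
        have hH1 : N ⊔ V₁ ≠ ⊤ := fun e => hlt (top_le_iff.1 (e ▸ sup_le le_sup_right (inf_le_left.trans le_sup_left)))
        have hcv : ∀ x ∈ N ⊔ V₁, v * x = x * v ∧ h * x = x * h := by
          have hle : N ⊔ V₁ ≤ Subgroup.centralizer ({v, h} : Set G) := by
            refine sup_le (fun n hn => ?_) (fun b hb => ?_) <;> rw [Subgroup.mem_centralizer_iff]
            · rintro z (rfl | rfl)
              · exact (Subgroup.mem_centralizer_iff.1 hv.2 n hn).symm
              · exact (Subgroup.mem_centralizer_iff.1 hhD n hn).symm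
            · rintro z (rfl | rfl)
              · exact hVc _ hv.1 _ hb.1
              · exact (Subgroup.mem_centralizer_singleton_iff.1 hb.2).symm
          exact fun x hx => ⟨Subgroup.mem_centralizer_iff.1 (hle hx) v (Or.inl rfl),
            Subgroup.mem_centralizer_iff.1 (hle hx) h (Or.inr rfl)⟩
        obtain ⟨b, hb, hb1, hbO⟩ := meet (N ⊔ V₁) V₁ hH1 le_sup_right inf_le_left
          (fun e => hw₀1 (Subgroup.mem_bot.1 (e ▸ Subgroup.mem_inf.2
            ⟨hw₀, Subgroup.mem_centralizer_singleton_iff.2 hw₀h⟩))) (by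
          intro x hx a ha hox hia
          obtain ⟨hvx, hhx⟩ := hcv x hx
          have hah : a * h = h * a := Subgroup.mem_centralizer_singleton_iff.1 ha.2
          have hoy : Odd (orderOf (h * x)) :=
            (ho.mul hox).of_dvd_nat ((Commute.orderOf_mul_dvd_mul_orderOf hhx))
          have hiy : (a * v) * (h * x) * (a * v)⁻¹ = (h * x)⁻¹ := by
            have e1 : (a * v) * h * (a * v)⁻¹ = h⁻¹ := by
              calc (a * v) * h * (a * v)⁻¹ = a * (v * h * v⁻¹) * a⁻¹ := by group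
                _ = (a * h * a⁻¹)⁻¹ := by rw [hi]; group
                _ = h⁻¹ := by rw [hah, mul_inv_cancel_right]
            have e2 : (a * v) * x * (a * v)⁻¹ = x⁻¹ := by
              calc (a * v) * x * (a * v)⁻¹ = a * (v * x * v⁻¹) * a⁻¹ := by group
                _ = x⁻¹ := by rw [hvx, mul_inv_cancel_right, hia]
            calc (a * v) * (h * x) * (a * v)⁻¹
                = ((a * v) * h * (a * v)⁻¹) * ((a * v) * x * (a * v)⁻¹) := by group
              _ = (x * h)⁻¹ := by rw [e1, e2, mul_inv_rev]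
              _ = (h * x)⁻¹ := by rw [hhx]
          obtain ⟨w, hw, hw1, hwy⟩ := hS _ _ (V.mul_mem ha.1 hv.1) hoy hiy
          have hcy : Commute w (h * x) := hwy
          have hcy' : Commute w (h⁻¹ * x) := by
            have e : h⁻¹ * x = v * (h * x) * v⁻¹ := by
              calc h⁻¹ * x = (v * h * v⁻¹) * (v * x * v⁻¹) := by rw [hi, hvx, mul_inv_cancel_right]
                _ = _ := by group
            rw [e]
            exact ((Commute.mul_right (hVc w hw v hv.1 : Commute w v) hcy).mul_right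
              (show Commute w v from hVc w hw v hv.1).inv_right)
          have hch : Commute w h := by
            refine commute_of_commute_sq ho ?_
            have e : h ^ 2 = (h * x) * (h⁻¹ * x)⁻¹ := by rw [sq]; group
            rw [e]
            exact hcy.mul_right hcy'.inv_right
          refine ⟨w, ⟨hw, Subgroup.mem_centralizer_singleton_iff.2 hch⟩, hw1, ?_⟩
          have e : x = h⁻¹ * (h * x) := by group
          rw [e]
          exact hch.inv_right.mul_right hcy)
        refine ⟨b, ⟨hb.1, Subgroup.mem_centralizer_iff.2 fun n hn => ?_⟩, hb1,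
          Subgroup.mem_centralizer_singleton_iff.1 hb.2⟩
        exact (commute_of_core le_sup_left (hnorm _) (hN2 N hNn) hbO hn).symm)
      rw [pCore_normal_eq_bot hO D, Subgroup.map_bot, Subgroup.mem_bot] at haO
      exact ha1 haO
  -- a minimal normal subgroup
  haveI : Nontrivial G := by
    obtain ⟨a, ha⟩ := Subgroup.ne_bot_iff_exists_ne_one.1 hV1
    exact ⟨⟨(a : G), 1, fun e => ha (Subtype.ext e)⟩⟩
  obtain ⟨N, hN⟩ := (Set.toFinite {N : Subgroup G | N.Normal ∧ N ≠ ⊥}).exists_minimal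
    ⟨⊤, inferInstance, top_ne_bot⟩
  obtain ⟨hNn, hN1⟩ := hN.prop
  haveI := hNn
  have hmin : ∀ B : Subgroup G, B.Normal → B ≤ N → B = ⊥ ∨ B = N := fun B hB hBN => by
    by_cases hB1 : B = ⊥
    · exact Or.inl hB1
    · exact Or.inr (le_antisymm hBN (hN.le_of_le ⟨hB, hB1⟩ hBN))
  have hVN := hsupp N hNn hN1
  have hdec : ∀ g : G, ∃ v ∈ V, ∃ n ∈ N, g = v * n := fun g => by
    have h1 : g ∈ ((V ⊔ N : Subgroup G) : Set G) := by rw [hVN]; exact Subgroup.mem_top g
    rw [Subgroup.mul_normal] at h1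
    obtain ⟨v, hv, n, hn, rfl⟩ := h1
    exact ⟨v, hv, n, hn, rfl⟩
  have hcentV : ∀ a ∈ V, (∀ n ∈ N, a * n = n * a) → a = 1 := fun a ha hc => by
    refine hnocentral a ha (Subgroup.mem_center_iff.2 fun g => ?_)
    obtain ⟨v, hv, n, hn, rfl⟩ := hdec g
    rw [mul_assoc, ← hc n hn, ← mul_assoc, ← hVc a ha v hv, mul_assoc]
  have hnab : ¬ ∀ x ∈ N, ∀ y ∈ N, x * y = y * x := by
    intro hab
    have hodd : ∀ x ∈ N, x * x = 1 → x = 1 := by
      let B : Subgroup G :=
        { carrier := {x | x ∈ N ∧ x * x = 1}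
          one_mem' := ⟨N.one_mem, one_mul 1⟩
          mul_mem' := fun {x y} hx hy => ⟨N.mul_mem hx.1 hy.1, by
            calc x * y * (x * y) = x * (y * x) * y := by group
              _ = (x * x) * (y * y) := by rw [hab y hy.1 x hx.1]; group
              _ = 1 := by rw [hx.2, hy.2, one_mul]⟩
          inv_mem' := fun {x} hx => ⟨N.inv_mem hx.1, by rw [← mul_inv_rev, hx.2, inv_one]⟩ }
      have hB : B = ⊥ := hnormal2 B ⟨fun x hx g => ⟨hNn.conj_mem x hx.1 g, by
          calc g * x * g⁻¹ * (g * x * g⁻¹) = g * (x * x) * g⁻¹ := by group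
            _ = 1 := by rw [hx.2]; group⟩⟩ fun x => ⟨1, Subtype.ext (by
          show (x : G) ^ 2 ^ 1 = 1
          rw [pow_one, sq]; exact x.2.2)⟩
      exact fun x hx hx2 => Subgroup.mem_bot.1 (hB ▸ (⟨hx, hx2⟩ : x ∈ B))
    have hinvert : ∀ a ∈ V, a ≠ 1 → ∀ n ∈ N, a * n * a⁻¹ = n⁻¹ := by
      intro a ha ha1 n hn
      set B := N ⊓ Subgroup.centralizer ({a} : Set G) with hB
      have hBn : B.Normal := by
        refine ⟨fun x hx g => ⟨hNn.conj_mem x hx.1 g, Subgroup.mem_centralizer_singleton_iff.2 ?_⟩⟩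
        obtain ⟨v, hv, m, hm, rfl⟩ := hdec g
        have e : v * m * x * (v * m)⁻¹ = v * x * v⁻¹ := by
          rw [mul_assoc v m x, hab m hm x hx.1]; group
        rw [e]
        exact (Commute.mul_left (Commute.mul_left (hVc v hv a ha : Commute v a)
          (Subgroup.mem_centralizer_singleton_iff.1 hx.2)) (show Commute v a from hVc v hv a ha).inv_left).eq
      have hB1 : B = ⊥ := (hmin B hBn inf_le_left).resolve_right fun e => ha1 (hcentV a ha fun m hm =>
        (Subgroup.mem_centralizer_singleton_iff.1 ((e.ge hm).2)).symm)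
      have han : a * n * a⁻¹ ∈ N := hNn.conj_mem n hn a
      have hk : n * (a * n * a⁻¹) ∈ B := ⟨N.mul_mem hn han, Subgroup.mem_centralizer_singleton_iff.2 (by
        symm
        calc a * (n * (a * n * a⁻¹)) = (a * n * a⁻¹) * ((a * a) * n * (a * a)⁻¹) * a := by group
          _ = (a * n * a⁻¹) * n * a := by rw [hsq a ha]; group
          _ = n * (a * n * a⁻¹) * a := by rw [hab _ han n hn])⟩
      rw [hB1, Subgroup.mem_bot] at hk
      exact eq_inv_of_mul_eq_one_right hk
    obtain ⟨n, hn1⟩ := Subgroup.ne_bot_iff_exists_ne_one.1 hN1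
    obtain ⟨a, ha1⟩ := Subgroup.ne_bot_iff_exists_ne_one.1 hV1
    have ha1' : (a : G) ≠ 1 := fun e => ha1 (Subtype.ext e)
    have hno : Odd (orderOf (n : G)) := by
      rw [Nat.odd_iff, ← Nat.two_dvd_ne_zero]
      intro h2
      have h3 := orderOf_pow_of_dvd (Nat.div_pos (Nat.le_of_dvd (orderOf_pos _) h2) two_pos).ne' (Nat.div_dvd_of_dvd h2)
      rw [Nat.div_div_self h2 (orderOf_pos _).ne'] at h3
      have h4 := hodd _ (N.pow_mem n.2 _) (by rw [← pow_two, ← h3]; exact pow_orderOf_eq_one _)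
      rw [h4, orderOf_one] at h3
      omega
    obtain ⟨w, hw, hw1, hwn⟩ := hS n a a.2 hno (hinvert a a.2 ha1' n n.2)
    have h5 := hinvert w hw hw1 n n.2
    rw [hwn, mul_inv_cancel_right] at h5
    exact hn1 (Subtype.ext (eq_one_of_inv_fixed hno (by rw [sq]; nth_rewrite 1 [h5]; exact inv_mul_cancel _)))
  -- a minimal normal subgroup of `N`
  obtain ⟨S, hSm⟩ := (Set.toFinite {S : Subgroup G | S ≤ N ∧ S ≠ ⊥ ∧ N ≤ Subgroup.normalizer (S : Set G)}).exists_minimal
    ⟨N, le_rfl, hN1, Subgroup.le_normalizer⟩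
  obtain ⟨hSN, hS1, hNS⟩ := hSm.prop
  have hSmin : ∀ T : Subgroup G, T ≤ S → N ≤ Subgroup.normalizer (T : Set G) → T = ⊥ ∨ T = S := fun T hT hNT => by
    by_cases hT1 : T = ⊥
    · exact Or.inl hT1
    · exact Or.inr (le_antisymm hT (hSm.le_of_le ⟨hT.trans hSN, hT1, hNT⟩ hT))
  let cj : G → Subgroup G := fun g => S.map (MulAut.conj g).toMonoidHom
  have hcjN : ∀ g, cj g ≤ N := fun g => by
    rintro _ ⟨s, hs, rfl⟩
    exact hNn.conj_mem s (hSN hs) g
  have hcjnorm : ∀ g, N ≤ Subgroup.normalizer (cj g : Set G) := fun g n hn => by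
    have h1 := hNS (hNn.conj_mem n hn g⁻¹)
    rw [inv_inv] at h1
    rw [Subgroup.mem_normalizer_iff]
    intro x
    simp only [cj, Subgroup.mem_map_equiv, MulAut.conj_symm_apply]
    rw [Subgroup.mem_normalizer_iff.1 h1 (g⁻¹ * x * g)]
    simp only [mul_inv_rev, inv_inv, mul_assoc, mul_inv_cancel_left]
  have hdistinct : ∀ g, cj g ≠ S → ∀ x ∈ S, ∀ y ∈ cj g, x * y = y * x := by
    intro g hg x hx y hy
    have hT : S ⊓ cj g = ⊥ := by
      refine (hSmin _ inf_le_left ((le_inf hNS (hcjnorm g)).trans ?_)).resolve_right fun e => hg ?_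
      · exact fun n hn => Subgroup.mem_normalizer_iff.2 fun z =>
          and_congr (Subgroup.mem_normalizer_iff.1 hn.1 z) (Subgroup.mem_normalizer_iff.1 hn.2 z)
      · exact (Subgroup.eq_of_le_of_card_ge (inf_eq_left.1 e) (Subgroup.card_map_of_injective (MulEquiv.injective _)).le).symm
    have hk : x * y * x⁻¹ * y⁻¹ ∈ S ⊓ cj g := by
      refine ⟨?_, (cj g).mul_mem ((Subgroup.mem_normalizer_iff.1 (hcjnorm g (hSN hx)) y).1 hy) ((cj g).inv_mem hy)⟩
      have := S.mul_mem hx ((Subgroup.mem_normalizer_iff.1 (hNS (hcjN g hy)) x⁻¹).1 (S.inv_mem hx))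
      simpa [mul_assoc] using this
    rw [hT, Subgroup.mem_bot] at hk
    calc x * y = (x * y * x⁻¹ * y⁻¹) * y * x := by group
      _ = y * x := by rw [hk, one_mul]
  have hcjmul : ∀ g n, n ∈ N → cj (g * n) = cj g := fun g n hn => by
    have h1 : S.map (MulAut.conj n).toMonoidHom = S := CfsgLib.Transfer.map_conj_eq_self_iff.2 (hNS hn)
    show S.map (MulAut.conj (g * n)).toMonoidHom = S.map (MulAut.conj g).toMonoidHom
    conv_rhs => rw [← h1, Subgroup.map_map]
    congr 1
    ext z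
    simp [mul_assoc]
  have hgen : ∀ K : Subgroup G, (∀ a ∈ V, cj a ≤ K) → N ≤ K := fun K hK => by
    have hle : N ≤ ⨆ a : V, cj a := by
      set U := ⨆ a : V, cj a
      have hUn : U.Normal := by
        have hall : ∀ g, cj g ≤ U := fun g => by
          obtain ⟨a, ha, n, hn, rfl⟩ := hdec g
          rw [hcjmul a n hn]
          exact le_iSup (fun a : V => cj a) ⟨a, ha⟩
        refine ⟨fun x hx g => ?_⟩
        suffices h : U ≤ U.comap (MulAut.conj g).toMonoidHom from h hx
        refine iSup_le fun a => ?_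
        rintro _ ⟨s, hs, rfl⟩
        exact hall (g * a) ⟨s, hs, by simp [mul_assoc]⟩
      refine ((hmin U hUn (iSup_le fun a => hcjN a)).resolve_left fun e => hS1 ?_).ge
      refine le_bot_iff.1 (e ▸ le_trans ?_ (le_iSup (fun a : V => cj a) (1 : V)))
      exact fun s hs => ⟨s, hs, by simp⟩
    exact hle.trans (iSup_le fun a => hK a a.2)
  have hcjS : ∀ g, cj g = S ↔ g ∈ Subgroup.normalizer (S : Set G) := fun g => CfsgLib.Transfer.map_conj_eq_self_iff
  have hSnab : ¬ ∀ x ∈ S, ∀ y ∈ S, x * y = y * x := by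
    intro hab
    apply hnab
    have hc1 : ∀ g, ∀ x ∈ S, ∀ y ∈ cj g, x * y = y * x := fun g x hx y hy => by
      by_cases hg : cj g = S
      · exact hab x hx y (hg ▸ hy)
      · exact hdistinct g hg x hx y hy
    have hc2 : N ≤ Subgroup.centralizer (N : Set G) := hgen _ fun a ha => by
      rintro _ ⟨s, hs, rfl⟩
      have hle : N ≤ Subgroup.centralizer ({a * s * a⁻¹} : Set G) := hgen _ fun b hb => by
        rintro _ ⟨t, ht, rfl⟩
        rw [Subgroup.mem_centralizer_singleton_iff]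
        have h1 := hc1 (a⁻¹ * b) s hs (a⁻¹ * b * t * (a⁻¹ * b)⁻¹) ⟨t, ht, rfl⟩
        show b * t * b⁻¹ * (a * s * a⁻¹) = a * s * a⁻¹ * (b * t * b⁻¹)
        calc b * t * b⁻¹ * (a * s * a⁻¹) = a * ((a⁻¹ * b * t * (a⁻¹ * b)⁻¹) * s) * a⁻¹ := by group
          _ = _ := by rw [← h1]; group
      exact Subgroup.mem_centralizer_iff.2 fun n hn => Subgroup.mem_centralizer_singleton_iff.1 (hle hn)
    exact fun x hx y hy => (Subgroup.mem_centralizer_iff.1 (hc2 hy) x hx)
  have hS2' : ∀ T : Subgroup G, T ≤ S → S ≤ Subgroup.normalizer (T : Set G) → IsPGroup 2 T → T = ⊥ := by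
    intro T hT hST hT2
    have h1 : T.subgroupOf N ≤ Cfsg.pCore 2 N := @CfsgLib.ThreeTransp.le_pCore_of_normalized N _ _ 2 _ (S.subgroupOf N) (T.subgroupOf N) (Subgroup.normal_subgroupOf_of_le_normalizer hNS)
      (Subgroup.comap_mono hT) (fun s hs => Subgroup.mem_normalizer_iff.2 fun z =>
        Subgroup.mem_normalizer_iff.1 (hST hs) z) (hT2.comap_of_injective _ N.subtype_injective)
    rw [pCore_normal_eq_bot hO N, le_bot_iff, Subgroup.subgroupOf_eq_bot] at h1
    exact le_bot_iff.1 fun x hx => h1.le_bot ⟨hx, hSN (hT hx)⟩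
  have hScent : ∀ x ∈ S, (∀ y ∈ S, x * y = y * x) → x = 1 := by
    have hT : S ⊓ Subgroup.centralizer (S : Set G) = ⊥ := by
      refine (hSmin _ inf_le_left fun n hn => ?_).resolve_right fun e => hSnab fun x hx y hy =>
        (Subgroup.mem_centralizer_iff.1 (e.ge hy).2 x hx)
      refine Subgroup.mem_normalizer_iff.2 fun z => and_congr (Subgroup.mem_normalizer_iff.1 (hNS hn) z) ?_
      have h1 := Subgroup.mem_normalizer_iff.1 (hNS hn)
      constructor <;> intro hz <;> refine Subgroup.mem_centralizer_iff.2 fun s hs => ?_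
      · have h2 := Subgroup.mem_centralizer_iff.1 hz (n⁻¹ * s * n) ((h1 _).2 (by simpa [mul_assoc] using hs))
        calc s * (n * z * n⁻¹) = n * ((n⁻¹ * s * n) * z) * n⁻¹ := by group
          _ = _ := by rw [h2]; group
      · have h2 := Subgroup.mem_centralizer_iff.1 hz (n * s * n⁻¹) ((h1 s).1 hs)
        calc s * z = n⁻¹ * ((n * s * n⁻¹) * (n * z * n⁻¹)) * n := by group
          _ = _ := by rw [h2]; group
    exact fun x hx hc => Subgroup.mem_bot.1 (hT ▸ Subgroup.mem_inf.2
      ⟨hx, Subgroup.mem_centralizer_iff.2 fun y hy => (hc y hy).symm⟩)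
  -- `V` normalises `S`
  have hV0 : V ≤ Subgroup.normalizer (S : Set G) := by
    by_contra hnot
    set V₀ := V ⊓ Subgroup.normalizer (S : Set G) with hV₀
    by_cases hbot : V₀ = ⊥
    · have hfree : ∀ a ∈ V, a ≠ 1 → cj a ≠ S := fun a ha ha1 e =>
        ha1 (Subgroup.mem_bot.1 (hbot ▸ Subgroup.mem_inf.2 ⟨ha, (hcjS a).1 e⟩))
      obtain ⟨t, ht1⟩ := Subgroup.ne_bot_iff_exists_ne_one.1 hV1
      have ht : (t : G) ≠ 1 := fun e => ht1 (Subtype.ext e)
      obtain ⟨s, hs, hs1, hso⟩ : ∃ s ∈ S, s ≠ 1 ∧ Odd (orderOf s) := by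
        by_contra hno
        push Not at hno
        refine hS1 (hS2' S le_rfl Subgroup.le_normalizer fun x => ?_)
        obtain ⟨k, m, hm, hkm⟩ := Nat.exists_eq_two_pow_mul_odd (orderOf_pos (x : G)).ne'
        refine ⟨k, Subtype.ext ?_⟩
        by_contra hne
        refine hno ((x : G) ^ 2 ^ k) (S.pow_mem x.2 _) hne ?_
        rw [orderOf_pow_of_dvd (Nat.two_pow_pos k).ne' ⟨m, hkm⟩, hkm, Nat.mul_div_cancel_left _ (Nat.two_pow_pos k)]
        exact hm
      set s' := (t : G) * s⁻¹ * (t : G)⁻¹ with hs'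
      have hs'mem : s' ∈ cj t := ⟨s⁻¹, S.inv_mem hs, rfl⟩
      have hcomm : Commute s s' := hdistinct t (hfree t t.2 ht) s hs s' hs'mem
      have ho : Odd (orderOf (s * s')) := by
        refine (hso.mul ?_).of_dvd_nat hcomm.orderOf_mul_dvd_mul_orderOf
        rwa [hs', show orderOf ((t : G) * s⁻¹ * (t : G)⁻¹) = orderOf s⁻¹ from
          orderOf_injective (MulAut.conj (t : G)).toMonoidHom (MulEquiv.injective _) _, orderOf_inv]
      have hi : (t : G) * (s * s') * (t : G)⁻¹ = (s * s')⁻¹ := by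
        calc (t : G) * (s * s') * (t : G)⁻¹
            = ((t : G) * s * (t : G)⁻¹) * (((t : G) * t) * s⁻¹ * ((t : G) * t)⁻¹) := by rw [hs']; group
          _ = (s * s')⁻¹ := by rw [hsq t t.2, hs']; group
      obtain ⟨w, hw, hw1, hwc⟩ := hS _ t t.2 ho hi
      by_cases hwt : w = t
      · rw [← hwt, hwc, mul_inv_cancel_right] at hi
        have h1 : s * s' = 1 := eq_one_of_inv_fixed ho (by rw [sq]; nth_rewrite 1 [hi]; exact inv_mul_cancel _)
        refine hs1 (hScent s hs fun y hy => ?_)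
        have h2 : s ∈ cj t := by
          rw [eq_inv_of_mul_eq_one_left h1]; exact (cj t).inv_mem hs'mem
        exact (hdistinct t (hfree t t.2 ht) y hy s h2).symm
      · apply hs1
        refine hScent s hs fun y hy => ?_
        have hy' : w * y * w⁻¹ ∈ cj w := ⟨y, hy, rfl⟩
        have c1 : Commute (w * y * w⁻¹) s := (hdistinct w (hfree w hw hw1) s hs _ hy').symm
        have c2 : Commute (w * y * w⁻¹) s' := by
          have hne : cj ((t : G)⁻¹ * w) ≠ S := hfree _ (V.mul_mem (V.inv_mem t.2) hw) fun e =>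
            hwt (inv_mul_eq_one.1 e).symm
          have h3 := hdistinct _ hne s⁻¹ (S.inv_mem hs) _ (⟨y, hy, rfl⟩ : (t : G)⁻¹ * w * y * ((t : G)⁻¹ * w)⁻¹ ∈ cj _)
          show w * y * w⁻¹ * s' = s' * (w * y * w⁻¹)
          calc w * y * w⁻¹ * s' = (t : G) * (((t : G)⁻¹ * w * y * ((t : G)⁻¹ * w)⁻¹) * s⁻¹) * (t : G)⁻¹ := by
                rw [hs']; group
            _ = _ := by rw [← h3, hs']; group
        have c3 : (w * y * w⁻¹) * (s * s') = (s * s') * (w * y * w⁻¹) := c1.mul_right c2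
        have c4 : Commute y (s * s') := by
          show y * (s * s') = s * s' * y
          calc y * (s * s') = w⁻¹ * ((w * y * w⁻¹) * (w * (s * s') * w⁻¹)) * w := by group
            _ = w⁻¹ * ((s * s') * (w * y * w⁻¹)) * w := by rw [hwc, mul_inv_cancel_right, c3]
            _ = w⁻¹ * ((w * (s * s') * w⁻¹) * (w * y * w⁻¹)) * w := by rw [hwc, mul_inv_cancel_right]
            _ = _ := by group
        have c5 : Commute y s' := hdistinct t (hfree t t.2 ht) y hy s' hs'mem
        have := c4.mul_right c5.inv_right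
        rw [mul_inv_cancel_right] at this
        exact this.eq.symm
    · set H := S ⊔ V₀ with hH
      have hHn : H ≤ Subgroup.normalizer (S : Set G) := sup_le Subgroup.le_normalizer inf_le_right
      have hHtop : H ≠ ⊤ := fun e => hnot (fun a _ => hHn (e ▸ Subgroup.mem_top a))
      obtain ⟨b, hb, hb1, hbO⟩ := meet H V₀ hHtop le_sup_right inf_le_left hbot (by
        intro x hx a ha ho hi
        by_cases hx1 : x = 1
        · obtain ⟨c, hc1⟩ := Subgroup.ne_bot_iff_exists_ne_one.1 hbot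
          exact ⟨c, c.2, fun e => hc1 (Subtype.ext e), by rw [hx1, one_mul, mul_one]⟩
        obtain ⟨w, hw, hw1, hwx⟩ := hS x a ha.1 ho hi
        refine ⟨w, ⟨hw, ?_⟩, hw1, hwx⟩
        have hxS : x ∈ S := by
          have hx2 : x ^ 2 ∈ S := by
            have h1 : x ∈ ((S ⊔ V₀ : Subgroup G) : Set G) := hx
            rw [Subgroup.coe_mul_of_right_le_normalizer_left S V₀ inf_le_right] at h1
            obtain ⟨s, hs, c, hc, rfl⟩ := h1
            have e : (s * c) ^ 2 = s * (c * s * c⁻¹) * (c * c) := by rw [sq]; group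
            rw [e, hsq c hc.1, mul_one]
            exact S.mul_mem hs ((Subgroup.mem_normalizer_iff.1 hc.2 s).1 hs)
          obtain ⟨j, hj⟩ := exists_pow_eq_self_of_coprime (x := x) (n := 2) (Nat.coprime_two_left.mpr ho)
          exact hj ▸ S.pow_mem hx2 j
        by_contra hwn
        refine hx1 (hScent x hxS fun y hy => (hdistinct w (fun e => hwn ((hcjS w).1 e)) y hy x ?_).symm)
        exact ⟨x, hxS, by show w * x * w⁻¹ = x; rw [hwx, mul_inv_cancel_right]⟩)
      refine hb1 (hcentV b hb.1 fun n hn => ?_)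
      have hle : N ≤ Subgroup.centralizer ({b} : Set G) := hgen _ fun a ha => by
        rintro _ ⟨s, hs, rfl⟩
        rw [Subgroup.mem_centralizer_singleton_iff]
        have h1 : Commute b s := commute_of_core le_sup_left hHn hS2' hbO hs
        have h2 : Commute b a := hVc b hb.1 a ha
        exact ((h2.mul_right h1).mul_right h2.inv_right).eq.symm
      exact (Subgroup.mem_centralizer_singleton_iff.1 (hle hn)).symm
  have hSeq : S = N := by
    refine le_antisymm hSN (hgen S fun a ha => ((hcjS a).2 (hV0 ha)).le)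
  haveI hsimple : IsSimpleGroup N := by
    haveI : Nontrivial N := (Subgroup.nontrivial_iff_ne_bot N).2 hN1
    refine ⟨fun K hK => ?_⟩
    have hKn : N ≤ Subgroup.normalizer (K.map N.subtype : Set G) := by
      intro n hn
      refine Subgroup.mem_normalizer_iff.2 fun z => ⟨?_, ?_⟩
      · rintro ⟨y, hy, rfl⟩
        exact ⟨⟨n, hn⟩ * y * ⟨n, hn⟩⁻¹, hK.conj_mem y hy _, rfl⟩
      · rintro ⟨y, hy, hyz⟩
        refine ⟨⟨n, hn⟩⁻¹ * y * ⟨n, hn⟩⁻¹⁻¹, hK.conj_mem y hy _, ?_⟩
        have hyz' : (y : G) = n * z * n⁻¹ := hyz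
        show n⁻¹ * (y : G) * n⁻¹⁻¹ = z
        rw [hyz']; group
    rcases hSmin (K.map N.subtype) (hSeq ▸ Subgroup.map_subtype_le K) hKn with h1 | h1
    · exact Or.inl ((Subgroup.map_eq_bot_iff_of_injective _ N.subtype_injective).1 h1)
    · exact Or.inr (Subgroup.map_injective N.subtype_injective (by rw [h1, hSeq, ← MonoidHom.range_eq_map, Subgroup.range_subtype]))
  have hNnc : ¬ IsMulCommutative N := fun h => hnab fun x hx y hy => by
    haveI := h
    exact congrArg Subtype.val (mul_comm' (⟨x, hx⟩ : N) ⟨y, hy⟩)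
  have hperf : commutator N = ⊤ := by
    refine ((inferInstance : (commutator N).Normal).eq_bot_or_eq_top).resolve_left fun e => hNnc ⟨⟨fun a b => ?_⟩⟩
    exact (Subgroup.commutator_eq_bot_iff_le_centralizer.1 e (Subgroup.mem_top b)) a (Subgroup.mem_top a)
  have hZN : Subgroup.center N = ⊥ :=
    ((inferInstance : (Subgroup.center N).Normal).eq_bot_or_eq_top).resolve_right fun e => hNnc ⟨⟨fun a b =>
      (Subgroup.mem_center_iff.1 (e ▸ Subgroup.mem_top a) b).symm⟩⟩
  have hcomp : Cfsg.IsComponent N := by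
    refine ⟨hNn.isSubnormal, Group.isPerfect_def.2 hperf, ?_⟩
    exact ((QuotientGroup.quotientMulEquivOfEq hZN).trans QuotientGroup.quotientBot).isSimpleGroup
  have hcommG : commutator G ≤ N := by
    rw [commutator_def, Subgroup.commutator_le]
    intro x _ y _
    rw [← QuotientGroup.eq_one_iff, ← QuotientGroup.mk'_apply, map_commutatorElement, commutatorElement_eq_one_iff_mul_comm]
    obtain ⟨a, ha, n, hn, rfl⟩ := hdec x
    obtain ⟨b, hb, m, hm, rfl⟩ := hdec y
    have en : ∀ n ∈ N, QuotientGroup.mk' N n = 1 := fun n hn => (QuotientGroup.eq_one_iff n).2 hn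
    rw [map_mul, map_mul, en n hn, en m hm, mul_one, mul_one, ← map_mul, ← map_mul, hVc a ha b hb]
  have hF : Cfsg.generalizedFittingSubgroup G = N := by
    refine le_antisymm (sup_le (sSup_le fun K hK => ?_) (sSup_le ?_))
      (CfsgLib.Layer.le_generalizedFitting_of_isComponent hcomp)
    · haveI := hK.2.1
      rw [← Subgroup.commutator_eq_self (H := K)]
      exact (Subgroup.commutator_mono le_top le_top).trans hcommG
    · rintro K ⟨hKn, hKnil⟩
      rcases hmin (K ⊓ N) inferInstance inf_le_right with h1 | h1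
      · haveI := hKn
        refine (hnormal2 K hKn fun x => ?_).le.trans bot_le
        refine ⟨1, Subtype.ext ?_⟩
        show (x : G) ^ 2 ^ 1 = 1
        obtain ⟨a, ha, n, hn, hxe⟩ := hdec x
        have hx2 : (x : G) ^ 2 ∈ N := by
          rw [hxe, show (a * n) ^ 2 = (a * n * a⁻¹) * (a * a) * n by rw [sq]; group, hsq a ha, mul_one]
          exact N.mul_mem (hNn.conj_mem n hn a) hn
        rw [pow_one]
        exact Subgroup.mem_bot.1 (h1 ▸ Subgroup.mem_inf.2 ⟨K.pow_mem x.2 2, hx2⟩)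
      · exfalso
        apply hNnc
        haveI : Group.IsNilpotent K := hKnil
        have hle : N ≤ K := h1 ▸ inf_le_left
        haveI : Group.IsNilpotent N :=
          Group.nilpotent_of_mulEquiv (Subgroup.subgroupOfEquivOfLe hle)
        haveI : Nontrivial N := (Subgroup.nontrivial_iff_ne_bot N).2 hN1
        exact absurd (inferInstance : Group.IsSolvable N) fun hsol => by
          have := (Group.isPerfect_def.2 hperf : Group.IsPerfect N)
          exact Group.IsPerfect.not_isSolvable N hsol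
  rw [hF]
  exact ⟨hsimple, hNnc, hVN⟩

end Cfsg.Agent.S3048
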