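import Cfsg.Statements.S3050
import Cfsg.Agent.Lib.SL2Fpf.Split

set_option autoImplicit false
open Cfsg
open scoped IsMulCommutative

namespace Cfsg.Agent.S3050

/-- Let G be a finite group with a normal 2-subgroup Q such that G/Q is isomorphic to SL(2, 2ⁿ) with n ≥ 2, and suppose some element of G of order 3 fixes no nonidentity element of Q under conjugation. Then Q is elementary abelian and is the direct product of normal subgroups of G on each of which G acts as SL(2, 2ⁿ) acts on its natural two-dimensional module (a Galois twist of the natural action allowed). -/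
theorem result {G : Type*} [Group G] [Finite G]
    (Q : Subgroup G) [Q.Normal] (hQ : IsPGroup 2 ↥Q) (n : ℕ) (hn : 2 ≤ n)
    (K : Type*) [Field K] [Fintype K] (hK : Fintype.card K = 2 ^ n)
    (e : G ⧸ Q ≃* Matrix.SpecialLinearGroup (Fin 2) K)
    (x : G) (hx : orderOf x = 3) (hfpf : ∀ q ∈ Q, x * q * x⁻¹ = q → q = 1) :
    Cfsg.IsElementaryAbelian 2 Q ∧
      ∃ (k : ℕ) (V : Fin k → Subgroup G), (∀ i, V i ≤ Q ∧ (V i).Normal ∧
        Cfsg.ActsAsSL2OnSection K ⊤ ⊤ (V i) ⊥) ∧ iSupIndep V ∧ ⨆ i, V i = Q := by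
  haveI : Fact (Nat.Prime 2) := ⟨Nat.prime_two⟩
  haveI : CharP K 2 := by
    refine CharTwo.of_one_ne_zero_of_two_eq_zero one_ne_zero ?_
    have h := FiniteField.cast_card_eq_zero K
    rw [hK] at h
    push_cast at h
    exact eq_zero_of_pow_eq_zero h
  obtain ⟨c, hc0, hc1⟩ : ∃ c : K, c ≠ 0 ∧ c ≠ 1 := by
    classical
    by_contra h
    push Not at h
    have : Fintype.card K ≤ 2 := by
      rw [← Finset.card_univ]
      refine (Finset.card_le_card (t := {0, 1}) fun c _ => ?_).trans Finset.card_le_two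
      rcases eq_or_ne c 0 with h0 | h0 <;> simp [h0, h c]
    have : 2 ^ 2 ≤ 2 ^ n := Nat.pow_le_pow_right (by norm_num) hn
    omega
  obtain ⟨hab, hsq⟩ := CfsgLib.SL2Fpf.elementary_aux hc0 hc1 _ G rfl Q hQ e x hx hfpf
  haveI : IsMulCommutative Q := ⟨⟨fun a b => Subtype.ext (hab a a.2 b b.2)⟩⟩
  have hc : ∀ q ∈ Q, ∀ l ∈ Q, q * l * q⁻¹ = l := fun q hq l hl => by
    rw [hab q hq l hl, mul_inv_cancel_right]
  obtain ⟨co⟩ := (CfsgLib.SL2Fpf.fpf_actHom Q e Q hc hsq hx (CfsgLib.SL2Fpf.not_mem_of_fpf hx hfpf)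
    hfpf).nonempty_coords
  exact ⟨⟨inferInstance, fun a ha => by rw [pow_two]; exact hsq a ha⟩,
    CfsgLib.SL2Fpf.exists_split Q e hc co⟩

end Cfsg.Agent.S3050
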