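import Cfsg.Statements.S3053
import Cfsg.Agent.Lib.OddOmega.Basic
import Cfsg.Agent.Lib.Transfer.Sylow
import Cfsg.Agent.Lib.Coprime.Action

set_option autoImplicit false
open Cfsg CfsgLib
open scoped commutatorElement

namespace Cfsg.Agent.S3053

/-- Let p be an odd prime and G a finite group with a Sylow p-subgroup P that is extraspecial of order p³ and exponent p². Then the centre of P is strongly closed in P with respect to G: a G-conjugate of an element of Z(P) that lies in P already lies in Z(P). In particular a nontrivial central element of P is conjugate in G to no noncentral element of P. -/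
theorem result {G : Type*} [Group G] [Finite G]
    {p : ℕ} [Fact p.Prime] (hp : p ≠ 2) (P : Sylow p G) (hE : Cfsg.IsExtraspecial p ↥P)
    (hcard : Nat.card P = p ^ 3) (hexp : Monoid.exponent ↥P = p ^ 2) :
    Cfsg.IsStronglyClosed ((Subgroup.center ↥P).map (P : Subgroup G).subtype) (P : Subgroup G) := by
  have hpp := (Fact.out : p.Prime)
  obtain ⟨⟨-, hΦ, hD⟩, hZc⟩ := hE
  -- the power map
  have hcp : ∀ c ∈ Subgroup.center ↥P, c ^ p = 1 := fun c hc =>
    orderOf_dvd_iff_pow_eq_one.mp (((Subgroup.center ↥P).orderOf_dvd_natCard hc).trans (dvd_of_eq hZc))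
  have hpow : ∀ a b : P, (a * b) ^ p = a ^ p * b ^ p := by
    intro a b
    have hc : b * a * b⁻¹ * a⁻¹ ∈ Subgroup.center ↥P := by
      rw [← hD, commutator_def, show b * a * b⁻¹ * a⁻¹ = ⁅b, a⁆ from rfl]
      exact Subgroup.commutator_mem_commutator (Subgroup.mem_top _) (Subgroup.mem_top _)
    have hyx : b * a = (b * a * b⁻¹ * a⁻¹) * (a * b) := by group
    rw [OddOmega.mul_pow_of_central a b _ hc hyx p]
    obtain ⟨j, hj⟩ := hpp.dvd_choose_self two_ne_zero (lt_of_le_of_ne hpp.two_le (Ne.symm hp))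
    rw [hj, pow_mul, hcp _ hc, one_pow, one_mul]
  let φ : P →* P := MonoidHom.mk' (· ^ p) hpow
  have hrange : φ.range ≤ Subgroup.center ↥P := by
    rintro _ ⟨a, rfl⟩
    rw [← hΦ]
    exact OddOmega.pow_mem_frattini P.2 a
  have hrne : φ.range ≠ ⊥ := by
    intro e
    have h1 : Monoid.exponent ↥P ∣ p := Monoid.exponent_dvd_iff_forall_pow_eq_one.mpr fun a =>
      Subgroup.mem_bot.mp (e ▸ ⟨a, rfl⟩ : a ^ p ∈ (⊥ : Subgroup ↥P))
    rw [hexp] at h1
    have := Nat.le_of_dvd hpp.pos h1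
    nlinarith [hpp.two_le]
  have hrc : Nat.card φ.range = p := by
    rcases (Nat.dvd_prime hpp).mp (hZc ▸ Subgroup.card_dvd_of_le hrange) with e | e
    · exact absurd (Subgroup.card_eq_one.mp e) hrne
    · exact e
  have hK0 : Nat.card φ.ker = p ^ 2 := by
    have h := φ.ker.card_mul_index
    rw [Subgroup.index_ker, hrc, show Nat.card (P : Subgroup G) = p ^ 3 from hcard, pow_succ p 2] at h
    exact Nat.eq_of_mul_eq_mul_right hpp.pos h
  haveI hK0c : IsMulCommutative φ.ker :=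
    ⟨⟨fun a b => IsPGroup.commutative_of_card_eq_prime_sq hK0 a b⟩⟩
  set Zs := (Subgroup.center ↥P).map (P : Subgroup G).subtype with hZs
  set K := φ.ker.map (P : Subgroup G).subtype with hK
  have hmemK : ∀ w : G, w ∈ K ↔ w ∈ (P : Subgroup G) ∧ w ^ p = 1 := by
    intro w
    constructor
    · rintro ⟨w, hw, rfl⟩
      exact ⟨w.2, congrArg Subtype.val (show w ^ p = 1 from hw)⟩
    · rintro ⟨hw, hwp⟩
      exact ⟨⟨w, hw⟩, Subtype.ext hwp, rfl⟩
  have hKc : ∀ a ∈ K, ∀ b ∈ K, Commute a b := by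
    rintro _ ⟨a, ha, rfl⟩ _ ⟨b, hb, rfl⟩
    exact congrArg (fun w : φ.ker => ((w : P) : G)) (mul_comm' (⟨a, ha⟩ : φ.ker) ⟨b, hb⟩)
  have hZK : Zs ≤ K := by
    rintro _ ⟨c, hc, rfl⟩
    exact ⟨c, hcp c hc, rfl⟩
  have hZcard : Nat.card Zs = p := by
    rw [hZs, Subgroup.card_map_of_injective (P : Subgroup G).subtype_injective]; exact hZc
  refine ⟨Subgroup.map_subtype_le _, ?_⟩
  rintro x hxZ g hgP
  by_contra hy
  set y := g * x * g⁻¹ with hydef
  have hx1 : x ≠ 1 := fun e => hy (by rw [hydef, e, mul_one, mul_inv_cancel]; exact one_mem _)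
  have hgen : ∀ z ∈ Zs, z ≠ 1 → Subgroup.zpowers z = Zs := fun z hz hz1 =>
    Subgroup.eq_of_le_of_card_ge (Subgroup.zpowers_le.mpr hz) (by
      rw [hZcard, Nat.card_zpowers]
      rcases (Nat.dvd_prime hpp).mp (hZcard ▸ Zs.orderOf_dvd_natCard hz) with e | e
      · exact absurd (orderOf_eq_one_iff.mp e) hz1
      · exact e.ge)
  have hyK : y ∈ K := (hmemK y).mpr ⟨hgP, by
    rw [hydef, conj_pow, ((hmemK x).mp (hZK hxZ)).2]; group⟩
  -- a Sylow subgroup containing `K` and centralizing `y`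
  have hPC : ((g • P : Sylow p G) : Subgroup G) ≤ Subgroup.centralizer ({y} : Set G) := by
    intro w hw
    rw [Sylow.coe_subgroup_smul, Subgroup.mem_pointwise_smul_iff_inv_smul_mem] at hw
    have hw' : g⁻¹ * w * g ∈ (P : Subgroup G) := by simpa [MulAut.smul_def, MulAut.conj_apply] using hw
    obtain ⟨c, hc, rfl⟩ := hxZ
    have h1 : g⁻¹ * w * g * c = c * (g⁻¹ * w * g) :=
      congrArg Subtype.val (Subgroup.mem_center_iff.mp hc ⟨_, hw'⟩)
    rw [Subgroup.mem_centralizer_singleton_iff, hydef]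
    calc w * (g * (c : G) * g⁻¹) = g * (g⁻¹ * w * g * c) * g⁻¹ := by group
      _ = g * (c * (g⁻¹ * w * g)) * g⁻¹ := by rw [h1]
      _ = g * (c : G) * g⁻¹ * w := by group
  have hKC : K ≤ Subgroup.centralizer ({y} : Set G) := fun w hw =>
    Subgroup.mem_centralizer_singleton_iff.mpr (hKc w hw y hyK)
  have hKp : IsPGroup p (K.subgroupOf (Subgroup.centralizer ({y} : Set G))) :=
    (P.2.to_le (Subgroup.map_subtype_le _)).comap_of_injective _ (Subgroup.subtype_injective _)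
  obtain ⟨k, hk⟩ := Transfer.exists_map_conj_le_sylow hKp ((g • P).subtype hPC)
  set h := (k : G)⁻¹ * g with hdef
  have hyh : h * x * h⁻¹ = y := by
    have h1 : (k : G) * y = y * k := Subgroup.mem_centralizer_singleton_iff.mp k.2
    calc h * x * h⁻¹ = (k : G)⁻¹ * (g * x * g⁻¹) * k := by rw [hdef]; group
      _ = (k : G)⁻¹ * (y * k) := by rw [← hydef, mul_assoc]
      _ = y := by rw [← h1, inv_mul_cancel_left]
  have hKh : ∀ w ∈ K, h⁻¹ * w * h ∈ K := by
    intro w hw
    rw [hmemK]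
    refine ⟨?_, ?_⟩
    · have h1 : (k : G) * w * (k : G)⁻¹ ∈ ((g • P : Sylow p G) : Subgroup G) :=
        hk ⟨⟨w, hKC hw⟩, hw, rfl⟩
      rw [Sylow.coe_subgroup_smul, Subgroup.mem_pointwise_smul_iff_inv_smul_mem] at h1
      simpa [hdef, MulAut.smul_def, MulAut.conj_apply, mul_assoc] using h1
    · calc (h⁻¹ * w * h) ^ p = h⁻¹ * w ^ p * h := by simpa using (conj_pow (a := h⁻¹) (b := w) (i := p))
        _ = 1 := by rw [((hmemK w).mp hw).2]; group
  have hmapK : K.map (MulAut.conj h⁻¹).toMonoidHom = K := Subgroup.eq_of_le_of_card_ge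
    (by rintro _ ⟨w, hw, rfl⟩; simpa [MulAut.conj_apply] using hKh w hw)
    (Subgroup.card_map_of_injective (MulAut.conj h⁻¹).injective).ge
  have hhN : h ∈ Subgroup.normalizer (K : Set G) := by
    simpa using inv_mem (Transfer.map_conj_eq_self_iff.mp hmapK)
  have hPN : (P : Subgroup G) ≤ Subgroup.normalizer (K : Set G) := by
    refine (Subgroup.normal_subgroupOf_iff_le_normalizer (Subgroup.map_subtype_le _)).mp ?_
    rw [Subgroup.subgroupOf, Subgroup.comap_map_eq_self_of_injective (P : Subgroup G).subtype_injective]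
    infer_instance
  -- an element outside `K`
  obtain ⟨u, hu⟩ : ∃ u : P, u ∉ φ.ker := by
    by_contra hc
    push Not at hc
    refine hrne ?_
    rw [eq_bot_iff]
    rintro _ ⟨a, rfl⟩
    exact Subgroup.mem_bot.mpr (hc a)
  have hcu : ∀ w ∈ K, Commute (u : G) w → w ∈ Zs := by
    rintro _ ⟨w, hw, rfl⟩ hcw
    refine Subgroup.mem_map_of_mem _ (Subgroup.mem_center_iff.mpr fun a => ?_)
    set S := Subgroup.centralizer ({w} : Set P) with hS
    have h1 : φ.ker < S := lt_of_le_of_ne (fun b hb => Subgroup.mem_centralizer_singleton_iff.mpr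
      (congrArg Subtype.val (mul_comm' (⟨b, hb⟩ : φ.ker) ⟨w, hw⟩)))
      fun e => hu (e ▸ Subgroup.mem_centralizer_singleton_iff.mpr (Subtype.ext hcw.eq))
    have h2 : S = ⊤ := by
      have hd : Nat.card S ∣ p ^ 3 := hcard ▸ Subgroup.card_subgroup_dvd_card S
      obtain ⟨j, hj, hj'⟩ := (Nat.dvd_prime_pow hpp).mp hd
      refine Subgroup.eq_top_of_card_eq S ?_
      rw [show Nat.card (P : Subgroup G) = p ^ 3 from hcard, hj']
      congr 1
      have : φ.ker.map (MonoidHom.id _) ≤ S := by simpa using h1.le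
      have h3 : p ^ 2 < p ^ j := by
        rw [← hK0, ← hj']
        refine lt_of_le_of_ne (Subgroup.card_le_of_le h1.le) fun e => ?_
        exact h1.ne (Subgroup.eq_of_le_of_card_ge h1.le e.ge)
      have := (Nat.pow_lt_pow_iff_right hpp.one_lt).mp h3
      omega
    exact Subgroup.mem_centralizer_singleton_iff.mp (h2 ▸ Subgroup.mem_top a : a ∈ S)
  have hcomZ : ∀ w ∈ K, ∀ a : P, (a : G) * w * (a : G)⁻¹ * w⁻¹ ∈ Zs := by
    rintro _ ⟨w, hw, rfl⟩ a
    refine ⟨⁅a, w⁆, ?_, rfl⟩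
    rw [← hD, commutator_def]
    exact Subgroup.commutator_mem_commutator (Subgroup.mem_top _) (Subgroup.mem_top _)
  -- the two transvections
  have hfix : ∀ w ∈ Zs, ∀ a ∈ (P : Subgroup G), a * w * a⁻¹ = w := by
    rintro _ ⟨c, hc, rfl⟩ a ha
    have h1 : a * (c : G) = c * a := congrArg Subtype.val (Subgroup.mem_center_iff.mp hc ⟨a, ha⟩)
    show a * (c : G) * a⁻¹ = c
    rw [h1, mul_inv_cancel_right]
  have hyZ : Subgroup.zpowers y = Zs.map (MulAut.conj h).toMonoidHom := by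
    rw [← hgen x hxZ hx1, MonoidHom.map_zpowers]
    exact congrArg Subgroup.zpowers hyh.symm
  have hxy : Subgroup.zpowers y ⊓ Zs = ⊥ := by
    rw [Subgroup.eq_bot_iff_forall]
    rintro w ⟨hw, hwZ⟩
    by_contra hw1
    apply hy
    rw [← hgen w hwZ hw1]
    have hwy : Subgroup.zpowers w = Subgroup.zpowers y :=
      Subgroup.eq_of_le_of_card_ge (Subgroup.zpowers_le.mpr hw) (by
        rw [hgen w hwZ hw1, hyZ, Subgroup.card_map_of_injective (MulAut.conj h).injective])
    rw [hwy]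
    exact Subgroup.mem_zpowers y
  set z := x with hz
  set y1 := (h * u * h⁻¹ * z * (h * u * h⁻¹)⁻¹ * z⁻¹)⁻¹ with hy1
  have hzK : z ∈ K := hZK hxZ
  have hzh : h⁻¹ * z * h ∈ K := hKh z hzK
  have hy1mem : y1 ∈ Subgroup.zpowers y := by
    rw [hy1, hyZ, Subgroup.inv_mem_iff]
    refine ⟨(u : G) * (h⁻¹ * z * h) * (u : G)⁻¹ * (h⁻¹ * z * h)⁻¹, hcomZ _ hzh u, ?_⟩
    show h * _ * h⁻¹ = _
    group
  have hy1ne : y1 ≠ 1 := by
    intro e
    rw [hy1, inv_eq_one, mul_inv_eq_one, mul_inv_eq_iff_eq_mul] at e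
    have h1 : h⁻¹ * z * h ∈ Zs := hcu _ hzh (by
      show (u : G) * (h⁻¹ * z * h) = h⁻¹ * z * h * u
      calc (u : G) * (h⁻¹ * z * h) = h⁻¹ * (h * u * h⁻¹ * z) * h := by group
        _ = h⁻¹ * (z * (h * u * h⁻¹)) * h := by rw [e]
        _ = h⁻¹ * z * h * u := by group)
    have h2 : z ∈ Subgroup.zpowers y := by
      rw [hyZ]
      exact ⟨_, h1, by show h * (h⁻¹ * z * h) * h⁻¹ = z; group⟩
    exact hx1 (Subgroup.mem_bot.mp (hxy ▸ ⟨h2, hxZ⟩))
  have hy1K : y1 ∈ K := Subgroup.zpowers_le.mpr hyK hy1mem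
  have hy1Z : y1 ∉ Zs := fun e => hy1ne (Subgroup.mem_bot.mp (hxy ▸ ⟨hy1mem, e⟩))
  set m := (u : G) * y1 * (u : G)⁻¹ * y1⁻¹ with hm
  have hmne : m ≠ 1 := fun e => hy1Z (hcu _ hy1K (by
    rw [hm, mul_inv_eq_one, mul_inv_eq_iff_eq_mul] at e
    exact e))
  obtain ⟨i, hi⟩ : ∃ i : ℕ, m ^ i = z := by
    have h1 : z ∈ Subgroup.zpowers m := by rw [hgen m (hcomZ _ hy1K u) hmne]; exact hxZ
    exact mem_powers_iff_mem_zpowers.mpr h1
  have hu1 : ∀ j : ℕ, (u : G) ^ j * y1 * ((u : G) ^ j)⁻¹ = m ^ j * y1 := by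
    intro j
    induction j with
    | zero => simp
    | succ j ih =>
      have h1 : (u : G) * m ^ j * (u : G)⁻¹ = m ^ j := hfix _ (pow_mem (hcomZ _ hy1K u) j) _ u.2
      calc (u : G) ^ (j + 1) * y1 * ((u : G) ^ (j + 1))⁻¹
          = (u : G) * ((u : G) ^ j * y1 * ((u : G) ^ j)⁻¹) * (u : G)⁻¹ := by rw [pow_succ']; group
        _ = ((u : G) * m ^ j * (u : G)⁻¹) * ((u : G) * y1 * (u : G)⁻¹) := by rw [ih]; group
        _ = m ^ j * (m * y1) := by rw [h1, show m * y1 = (u : G) * y1 * (u : G)⁻¹ from inv_mul_cancel_right _ _]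
        _ = m ^ (j + 1) * y1 := by rw [pow_succ]; exact (mul_assoc _ _ _).symm
  set A := MulAut.conj ((u : G) ^ i) with hA
  set B := MulAut.conj (h * u * h⁻¹) with hB
  have hAz : A z = z := hfix z hxZ _ (pow_mem u.2 i)
  have hAy : A y1 = z * y1 := by rw [hA, MulAut.conj_apply, hu1, hi]
  have hBy : B y1 = y1 := by
    obtain ⟨j, hj⟩ : y1 ∈ Zs.map (MulAut.conj h).toMonoidHom := hyZ ▸ hy1mem
    rw [← hj.2]
    show h * u * h⁻¹ * (h * j * h⁻¹) * (h * u * h⁻¹)⁻¹ = h * j * h⁻¹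
    calc h * u * h⁻¹ * (h * j * h⁻¹) * (h * u * h⁻¹)⁻¹ = h * (u * j * (u : G)⁻¹) * h⁻¹ := by group
      _ = h * j * h⁻¹ := by rw [hfix j hj.1 _ u.2]
  have hBz : B z = y1⁻¹ * z := by rw [hy1, inv_inv, inv_mul_cancel_right, hB, MulAut.conj_apply]
  set s := (u : G) ^ i * (h * u * h⁻¹) * (u : G) ^ i with hs
  have hszy : Commute z y1 := hKc z hzK y1 hy1K
  have hS : ∀ w, MulAut.conj s w = A (B (A w)) := fun w => by
    rw [hs, map_mul, map_mul]; rfl
  have hsz : MulAut.conj s z = y1⁻¹ := by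
    rw [hS, hAz, hBz, map_mul, map_inv, hAy, hAz]
    rw [mul_inv_rev, mul_assoc, inv_mul_cancel, mul_one]
  have hsy : MulAut.conj s y1 = z := by
    rw [hS, hAy, map_mul, hBz, hBy, mul_assoc, hszy.eq, inv_mul_cancel_left, hAz]
  set a := s * s with ha
  have hsN : s ∈ Subgroup.normalizer (K : Set G) :=
    mul_mem (mul_mem (pow_mem (hPN u.2) i) (mul_mem (mul_mem hhN (hPN u.2)) (inv_mem hhN)))
      (pow_mem (hPN u.2) i)
  have hinv : ∀ w ∈ K, MulAut.conj a w = w⁻¹ := by
    have hle : K ≤ Subgroup.closure {z, y1} := by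
      set L := Subgroup.closure ({z, y1} : Set G) with hL
      have hLK : L ≤ K := (Subgroup.closure_le _).mpr (by
        rintro w (rfl | rfl); exacts [hzK, hy1K])
      obtain ⟨j, hj, hj'⟩ := (Nat.dvd_prime_pow hpp).mp
        (show Nat.card L ∣ p ^ 2 by
          rw [← hK0, ← Subgroup.card_map_of_injective (P : Subgroup G).subtype_injective]
          exact Subgroup.card_dvd_of_le hLK)
      have hlt : Zs < L := lt_of_le_of_ne
        (by rw [← hgen z hxZ hx1, Subgroup.zpowers_le]; exact Subgroup.subset_closure (Set.mem_insert _ _))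
        fun e => hy1Z (e ▸ Subgroup.subset_closure (Set.mem_insert_of_mem _ rfl))
      have h1 : p ^ 1 < p ^ j := by
        rw [pow_one, ← hj']
        refine lt_of_eq_of_lt hZcard.symm ?_
        exact lt_of_le_of_ne (Subgroup.card_le_of_le hlt.le)
          fun e => hlt.ne (Subgroup.eq_of_le_of_card_ge hlt.le e.ge)
      have := (Nat.pow_lt_pow_iff_right hpp.one_lt).mp h1
      refine (Subgroup.eq_of_le_of_card_ge hLK ?_).ge
      rw [hK, Subgroup.card_map_of_injective (P : Subgroup G).subtype_injective, hK0, hj',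
        show j = 2 by omega]
    intro w hw
    have hw' := hle hw
    clear hw
    have hwK : ∀ w ∈ Subgroup.closure ({z, y1} : Set G), w ∈ K := fun w hw =>
      (Subgroup.closure_le _).mpr (by rintro w (rfl | rfl); exacts [hzK, hy1K]) hw
    induction hw' using Subgroup.closure_induction with
    | mem w hw =>
      rcases hw with rfl | rfl
      · rw [ha, map_mul, MulAut.mul_apply, hsz, map_inv, hsy]
      · rw [ha, map_mul, MulAut.mul_apply, hsy, hsz]
    | one => rw [map_one, inv_one]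
    | mul b c hb hc ihb ihc =>
      rw [map_mul, ihb, ihc, mul_inv_rev, ((hKc b (hwK b hb) c (hwK c hc)).inv_inv).eq]
    | inv b hb ih => rw [map_inv, ih]
  -- adjust `a` to normalize `P`
  set C := Subgroup.centralizer (K : Set G) with hC
  have haN : a ∈ Subgroup.normalizer (K : Set G) := mul_mem hsN hsN
  have hPC' : (P : Subgroup G) ≤ Subgroup.normalizer (C : Set G) :=
    Coprime.le_normalizer_centralizer hPN
  set U := (P : Subgroup G) ⊔ C with hU
  have haU : ((a • P : Sylow p G) : Subgroup G) ≤ U := by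
    intro w hw
    rw [Sylow.coe_subgroup_smul, Subgroup.mem_pointwise_smul_iff_inv_smul_mem] at hw
    have hv : a⁻¹ * w * a ∈ (P : Subgroup G) := by simpa [MulAut.smul_def, MulAut.conj_apply] using hw
    set v := a⁻¹ * w * a with hvdef
    have hd : v⁻¹ * w ∈ C := by
      intro b hb
      have hb' : v * b * v⁻¹ ∈ K := (Subgroup.mem_normalizer_iff.mp (hPN hv) b).mp hb
      have e1 : a⁻¹ * b * a = b⁻¹ := by
        have h := hinv _ (K.inv_mem hb)
        rw [inv_inv, MulAut.conj_apply] at h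
        conv_lhs => rw [← h]
        group
      have e2 : a * (v * b⁻¹ * v⁻¹) * a⁻¹ = v * b * v⁻¹ := by
        have h := hinv _ (K.inv_mem hb')
        rw [inv_inv, MulAut.conj_apply] at h
        conv_rhs => rw [← h]
        group
      have h3 : w * b * w⁻¹ = v * b * v⁻¹ := by
        calc w * b * w⁻¹ = a * (v * (a⁻¹ * b * a) * v⁻¹) * a⁻¹ := by rw [hvdef]; group
          _ = v * b * v⁻¹ := by rw [e1, e2]
      calc b * (v⁻¹ * w) = v⁻¹ * (v * b * v⁻¹) * w := by group
        _ = v⁻¹ * (w * b * w⁻¹) * w := by rw [h3]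
        _ = v⁻¹ * w * b := by group
    have := U.mul_mem (Subgroup.mem_sup_left hv : v ∈ U) (Subgroup.mem_sup_right hd)
    rwa [mul_inv_cancel_left] at this
  obtain ⟨e, he⟩ := MulAction.exists_smul_eq U ((a • P).subtype haU) (P.subtype le_sup_left)
  rw [Sylow.smul_subtype] at he
  have he1 : (e : G) • (a • P) = P := Sylow.subtype_injective he
  have heU : (e : G) ∈ (P : Subgroup G) ⊔ C := e.2
  rw [← SetLike.mem_coe, Subgroup.coe_mul_of_left_le_normalizer_right _ C hPC'] at heU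
  obtain ⟨v, hv, c, hc, hvc⟩ := heU
  simp only at hvc
  set b := c * a with hb
  have hbN : b • P = P := by
    have h1 : v • (b • P) = P := by rw [← mul_smul, hb, ← mul_assoc, hvc, mul_smul]; exact he1
    have h2 : v⁻¹ • P = P := Sylow.smul_eq_iff_mem_normalizer.mpr (Subgroup.le_normalizer (inv_mem hv))
    conv_rhs => rw [← h2, ← h1, ← mul_smul, inv_mul_cancel, one_smul]
  have hbP : b ∈ Subgroup.normalizer ((P : Subgroup G) : Set G) :=
    Sylow.smul_eq_iff_mem_normalizer.mp hbN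
  have hbinv : ∀ w ∈ K, b * w * b⁻¹ = w⁻¹ := by
    intro w hw
    calc b * w * b⁻¹ = c * (MulAut.conj a w) * c⁻¹ := by rw [hb, MulAut.conj_apply]; group
      _ = w⁻¹ := by rw [hinv w hw, ← hc _ (K.inv_mem hw), mul_inv_cancel_right]
  -- contradiction
  set w := b * u * b⁻¹ * (u : G)⁻¹ with hw
  have hwP : w ∈ (P : Subgroup G) :=
    mul_mem ((Subgroup.mem_normalizer_iff.mp hbP _).mp u.2) (inv_mem u.2)
  have hwC : ∀ k ∈ K, w * k * w⁻¹ = k := by
    intro k hk
    have h1 : (u : G)⁻¹ * k * u ∈ K := (Subgroup.mem_normalizer_iff''.mp (hPN u.2) k).mp hk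
    have e2 : b⁻¹ * ((u : G)⁻¹ * k * u) * b = ((u : G)⁻¹ * k * u)⁻¹ := by
      have h := hbinv _ (K.inv_mem h1)
      rw [inv_inv] at h
      conv_lhs => rw [← h]
      group
    calc w * k * w⁻¹ = b * (u * (b⁻¹ * ((u : G)⁻¹ * k * u) * b) * (u : G)⁻¹) * b⁻¹ := by rw [hw]; group
      _ = b * k⁻¹ * b⁻¹ := by rw [e2]; group
      _ = k := by rw [hbinv _ (K.inv_mem hk), inv_inv]
  have hwK : (⟨w, hwP⟩ : P) ∈ φ.ker := by
    by_contra hne
    apply hy1Z
    obtain ⟨q, hq, hq'⟩ := hy1K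
    rw [← hq']
    refine Subgroup.mem_map_of_mem _ (Subgroup.mem_center_iff.mpr fun a => ?_)
    set S := Subgroup.centralizer ({q} : Set P) with hS
    have h1 : φ.ker < S := lt_of_le_of_ne (fun b hb => Subgroup.mem_centralizer_singleton_iff.mpr
      (congrArg Subtype.val (mul_comm' (⟨b, hb⟩ : φ.ker) ⟨q, hq⟩)))
      fun e => hne (e ▸ Subgroup.mem_centralizer_singleton_iff.mpr (Subtype.ext
        (mul_inv_eq_iff_eq_mul.mp (hwC _ ⟨q, hq, rfl⟩))))
    have h2 : S = ⊤ := by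
      obtain ⟨j, hj, hj'⟩ := (Nat.dvd_prime_pow hpp).mp (hcard ▸ Subgroup.card_subgroup_dvd_card S : Nat.card S ∣ p ^ 3)
      refine Subgroup.eq_top_of_card_eq S ?_
      rw [show Nat.card (P : Subgroup G) = p ^ 3 from hcard, hj']
      congr 1
      have h3 : p ^ 2 < p ^ j := by
        rw [← hK0, ← hj']
        exact lt_of_le_of_ne (Subgroup.card_le_of_le h1.le)
          fun e => h1.ne (Subgroup.eq_of_le_of_card_ge h1.le e.ge)
      have := (Nat.pow_lt_pow_iff_right hpp.one_lt).mp h3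
      omega
    exact Subgroup.mem_centralizer_singleton_iff.mp (h2 ▸ Subgroup.mem_top a : a ∈ S)
  have hup : (u : G) ^ p ∈ K := hZK ⟨u ^ p, hrange ⟨u, rfl⟩, rfl⟩
  have h1 : (b * u * b⁻¹) ^ p = (u : G) ^ p := by
    have h := congrArg Subtype.val (hpow ⟨w, hwP⟩ u)
    change (w * (u : G)) ^ p = w ^ p * (u : G) ^ p at h
    rw [show b * u * b⁻¹ = w * u by rw [hw, inv_mul_cancel_right], h,
      show w ^ p = 1 from congrArg Subtype.val (show (⟨w, hwP⟩ : P) ^ p = 1 from hwK), one_mul]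
  rw [conj_pow, hbinv _ hup] at h1
  have h2 : ((u : G) ^ p) ^ 2 = 1 := by
    rw [pow_two]
    nth_rewrite 1 [← h1]
    exact inv_mul_cancel _
  refine hu (Subtype.ext ?_)
  show ((u : G)) ^ p = 1
  exact orderOf_eq_one_iff.mp (Nat.eq_one_of_dvd_coprimes
    ((Nat.coprime_primes hpp Nat.prime_two).mpr hp)
    (orderOf_dvd_of_pow_eq_one ((hmemK _).mp hup).2) (orderOf_dvd_of_pow_eq_one h2))

end Cfsg.Agent.S3053
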