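import Mathlib
import Cfsg.Statements.S3054
import Cfsg.Agent.Lib.Extra3.Torus

set_option autoImplicit false
open Cfsg Cfsg.Agent.Extra3Torus
open scoped commutatorElement

namespace Cfsg.Agent.S3054

/-- Let p be an odd prime and G a finite group with a Sylow p-subgroup P that is extraspecial of order p³ and exponent p. Suppose P contains three distinct subgroups A of order p² (each is elementary abelian of rank 2) such that every automorphism of A of order p is induced by conjugation by an element of G; equivalently the automorphism group induced on A by its normalizer contains the special linear group of A. Then p ≤ 13. -/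
theorem result {G : Type*} [Group G] [Finite G]
    {p : ℕ} [Fact p.Prime] (hp : p ≠ 2) (P : Sylow p G) (hE : Cfsg.IsExtraspecial p ↥P)
    (hcard : Nat.card P = p ^ 3) (hexp : Monoid.exponent ↥P = p)
    (A : Fin 3 → Subgroup G) (hA : Function.Injective A) (hAP : ∀ i, A i ≤ (P : Subgroup G))
    (hAcard : ∀ i, Nat.card ↥(A i) = p ^ 2)
    (hSL : ∀ i, ∀ φ : MulAut ↥(A i), orderOf φ = p → ∃ g : G, ∀ a : ↥(A i), (φ a : G) = g * (a : G) * g⁻¹) :
    p ≤ 13 := by
  classical
  by_contra hp13
  have hpp : p.Prime := Fact.out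
  have hp17 : 17 ≤ p := by
    by_contra h
    interval_cases p <;> (revert hpp; norm_num)
  obtain ⟨z, hzo, hzP, hzc, hcenter, hPP, hexp'⟩ := setup P hE hexp
  have hz1 : z ≠ 1 := fun h => by rw [h, orderOf_one] at hzo; exact hpp.one_lt.ne hzo
  have hnotc : ∀ c : G, (∀ q ∈ (P : Subgroup G), q * c = c * q) → c ∈ (P : Subgroup G) → c ∈ Subgroup.zpowers z :=
    fun c h hc => (hcenter ⟨c, hc⟩).mp (Subgroup.mem_center_iff.mpr fun q => Subtype.ext (h q q.2))
  have hzA : ∀ i, z ∈ A i := by
    intro i
    by_contra hzi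
    haveI hAc : IsMulCommutative (A i) := IsPGroup.isMulCommutative_of_card_eq_prime_sq (hAcard i)
    have hle : A i ⊔ Subgroup.zpowers z ≤ (P : Subgroup G) := sup_le (hAP i) (Subgroup.zpowers_le.mpr hzP)
    have hlt : A i < A i ⊔ Subgroup.zpowers z :=
      lt_of_le_of_ne le_sup_left fun h => hzi (h.ge (Subgroup.mem_sup_right (Subgroup.mem_zpowers z)))
    have htop : A i ⊔ Subgroup.zpowers z = (P : Subgroup G) := by
      refine Subgroup.eq_of_le_of_card_ge hle ?_
      obtain ⟨k, -, hk⟩ := (Nat.dvd_prime_pow hpp).mp (hcard ▸ Subgroup.card_dvd_of_le hle)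
      have h2 : 2 < k := by
        have h3 : Nat.card (A i) < Nat.card (A i ⊔ Subgroup.zpowers z : Subgroup G) := by
          refine lt_of_le_of_ne (Subgroup.card_le_of_le hlt.le) fun h => hlt.ne (Subgroup.eq_of_le_of_card_ge hlt.le h.ge)
        rw [hAcard, hk] at h3
        exact (Nat.pow_lt_pow_iff_right hpp.one_lt).mp h3
      rw [hk]
      exact le_trans (le_of_eq hcard) (Nat.pow_le_pow_right hpp.pos h2)
    have hcen : A i ≤ Subgroup.zpowers z := fun b hb => hnotc b (fun q hq => by
      rw [← htop] at hq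
      have hle' : A i ⊔ Subgroup.zpowers z ≤ Subgroup.centralizer ({b} : Set G) := by
        refine sup_le (fun c hc => ?_) (Subgroup.zpowers_le.mpr ?_)
        · exact Subgroup.mem_centralizer_singleton_iff.mpr (congrArg Subtype.val (hAc.is_comm.comm (⟨c, hc⟩ : A i) ⟨b, hb⟩))
        · exact Subgroup.mem_centralizer_singleton_iff.mpr (hzc b (hAP i hb)).symm
      exact Subgroup.mem_centralizer_singleton_iff.mp (hle' hq)) (hAP i hb)
    have := Subgroup.card_le_of_le hcen
    rw [hAcard, Nat.card_zpowers, hzo] at this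
    nlinarith [hpp.two_le]
  refine torus_bound P hcard hzo hzP hzc hcenter hPP hexp' (m' := 6) (by omega) A hA hAP hAcard hzA
    (fun i a haA hna => shear_of_aut (hAcard i) (hexp' z hzP) (hexp' a (hAP i haA)) (hzA i) haA hz1 hna
      (hzc a (hAP i haA)) (hSL i)) fun j hj0 hj6 hd => ?_
  have := Nat.le_of_dvd (by omega) hd
  omega

end Cfsg.Agent.S3054
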