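import Mathlib
import Cfsg.Statements.S3055
import Cfsg.Agent.Lib.Extra3.Torus

set_option autoImplicit false
open Cfsg Cfsg.Agent.Extra3Torus
open scoped commutatorElement

namespace Cfsg.Agent.S3055

/-- An element moving `a` into `a⟨z⟩` gives all shears. -/
theorem exists_shear {G : Type*} [Group G] {p : ℕ} [hp : Fact p.Prime] {z a y : G} (hzo : orderOf z = p)
    (hyz : y * z = z * y) (haz : a * z = z * a) (hc : ⁅y, a⁆ ∈ Subgroup.zpowers z) (hc1 : ⁅y, a⁆ ≠ 1) :
    ∀ s : ZMod p, ∃ g : G, g * z * g⁻¹ = z ∧ g * a * g⁻¹ = a * z ^ s.val := by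
  obtain ⟨e, he⟩ := Subgroup.mem_zpowers_iff.mp hc
  have hzp : z ^ p = 1 := hzo ▸ pow_orderOf_eq_one z
  have he0 : (e : ZMod p) ≠ 0 := fun h => by
    rw [ZMod.intCast_zmod_eq_zero_iff_dvd, ← hzo, orderOf_dvd_iff_zpow_eq_one, he] at h
    exact hc1 h
  set d := (e : ZMod p).val
  have hed : ⁅y, a⁆ = z ^ d := by
    rw [← he, ← zpow_natCast, zpow_eq_zpow_iff_modEq, hzo, ← ZMod.intCast_eq_intCast_iff]
    simp [d]
  have h1 : y * a * y⁻¹ = a * z ^ d := by
    rw [((show Commute a z from haz).pow_right d).eq, ← hed, commutatorElement_def]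
    group
  have hyz' : y * z * y⁻¹ = z := by rw [hyz, mul_inv_cancel_right]
  have hm : ∀ m : ℕ, y ^ m * a * (y ^ m)⁻¹ = a * z ^ (d * m) := by
    intro m
    induction m with
    | zero => simp
    | succ m ih =>
      rw [pow_succ', show y * y ^ m * a * (y * y ^ m)⁻¹ = y * (y ^ m * a * (y ^ m)⁻¹) * y⁻¹ by group, ih,
        show y * (a * z ^ (d * m)) * y⁻¹ = (y * a * y⁻¹) * (y * z ^ (d * m) * y⁻¹) by group, h1, ← conj_pow, hyz',
        mul_assoc, ← pow_add]
      congr 2; ring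
  intro s
  refine ⟨y ^ (s * (e : ZMod p)⁻¹).val, ?_, ?_⟩
  · rw [((show Commute y z from hyz).pow_left _).eq, mul_inv_cancel_right]
  · rw [hm]
    congr 1
    refine pow_eq_of_cast_eq hzp ?_
    simp [d]
    field_simp

/-- Let p be an odd prime and G a finite group with a Sylow p-subgroup P that is extraspecial of order p³ and exponent p. If all nonidentity elements of P are conjugate in G, then p ≤ 7. -/
theorem result {G : Type*} [Group G] [Finite G]
    {p : ℕ} [Fact p.Prime] (hp : p ≠ 2) (P : Sylow p G) (hE : Cfsg.IsExtraspecial p ↥P)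
    (hcard : Nat.card P = p ^ 3) (hexp : Monoid.exponent ↥P = p)
    (hconj : ∀ x y : ↥P, x ≠ 1 → y ≠ 1 → ∃ g : G, g * (x : G) * g⁻¹ = (y : G)) :
    p ≤ 7 := by
  classical
  by_contra hp7
  have hpp : p.Prime := Fact.out
  have hp11 : 11 ≤ p := by
    by_contra h
    interval_cases p <;> (revert hpp; norm_num)
  obtain ⟨z, hzo, hzP, hzc, hcenter, hPP, hexp'⟩ := setup P hE hexp
  have hz1 : z ≠ 1 := fun h => by rw [h, orderOf_one] at hzo; exact hpp.one_lt.ne hzo
  have hord : ∀ b ∈ (P : Subgroup G), b ∉ Subgroup.zpowers z → orderOf b = p := fun b hb hn =>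
    orderOf_eq_prime (hexp' b hb) fun h => hn (h ▸ one_mem _)
  -- noncentral elements move
  have hmove : ∀ b ∈ (P : Subgroup G), b ∉ Subgroup.zpowers z → ∃ y ∈ (P : Subgroup G), ⁅y, b⁆ ≠ 1 := by
    intro b hb hn
    by_contra! h
    exact hn ((hcenter ⟨b, hb⟩).mp (Subgroup.mem_center_iff.mpr fun q =>
      Subtype.ext (commutatorElement_eq_one_iff_mul_comm.mp (h q q.2))))
  -- shears
  have hSh : ∀ a ∈ (P : Subgroup G), a ∉ Subgroup.zpowers z →
      (∀ s : ZMod p, ∃ g : G, g * z * g⁻¹ = z ∧ g * a * g⁻¹ = a * z ^ s.val) ∧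
      (∀ s : ZMod p, ∃ g : G, g * a * g⁻¹ = a ∧ g * z * g⁻¹ = z * a ^ s.val) := by
    intro a haP hna
    obtain ⟨y, hy, hya⟩ := hmove a haP hna
    refine ⟨exists_shear hzo (hzc y hy) (hzc a haP) (hPP y hy a haP) hya, ?_⟩
    obtain ⟨g, hg⟩ := hconj ⟨z, hzP⟩ ⟨a, haP⟩ (fun h => hz1 (congrArg Subtype.val h))
      (fun h => hna (by rw [show a = 1 from congrArg Subtype.val h]; exact one_mem _))
    change g * z * g⁻¹ = a at hg
    -- move the conjugate Sylow subgroup around `z` inside the centralizer of `a`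
    set C : Subgroup G := Subgroup.centralizer {a}
    have hRC : ((g • P : Sylow p G) : Subgroup G) ≤ C := by
      rw [Sylow.coe_subgroup_smul]
      rintro _ ⟨q, hq, rfl⟩
      show g * q * g⁻¹ ∈ C
      rw [Subgroup.mem_centralizer_singleton_iff, ← hg, show g * q * g⁻¹ * (g * z * g⁻¹) = g * (q * z) * g⁻¹ by group,
        show g * z * g⁻¹ * (g * q * g⁻¹) = g * (z * q) * g⁻¹ by group, hzc q hq]
    have hzC : z ∈ C := Subgroup.mem_centralizer_singleton_iff.mpr (hzc a haP).symm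
    obtain ⟨Q0, hQ0⟩ := (IsPGroup.of_card (p := p) (G := Subgroup.zpowers (⟨z, hzC⟩ : C)) (n := 1) (by
      rw [Nat.card_zpowers, ← Subgroup.orderOf_coe, hzo, pow_one])).exists_le_sylow
    obtain ⟨c, hc⟩ := MulAction.exists_smul_eq C ((g • P).subtype hRC) Q0
    rw [← hc] at hQ0
    have hz' : (⟨z, hzC⟩ : C) ∈ (c • (g • P).subtype hRC : Sylow p C).toSubgroup := hQ0 (Subgroup.mem_zpowers _)
    rw [Sylow.smul_subtype, Sylow.coe_subtype, Subgroup.mem_subgroupOf] at hz'
    change z ∈ (((c : G) • g • P : Sylow p G) : Subgroup G) at hz'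
    rw [← mul_smul, Sylow.coe_subgroup_smul] at hz'
    obtain ⟨z', hz'P, hzz'⟩ := hz'
    set h := (c : G) * g
    change h * z' * h⁻¹ = z at hzz'
    have hha : h * z * h⁻¹ = a := by
      rw [show h * z * h⁻¹ = (c : G) * (g * z * g⁻¹) * (c : G)⁻¹ by simp only [h]; group, hg,
        Subgroup.mem_centralizer_singleton_iff.mp c.2, mul_inv_cancel_right]
    have hz'n : z' ∉ Subgroup.zpowers z := by
      intro hm
      obtain ⟨j, rfl⟩ := Subgroup.mem_zpowers_iff.mp hm
      rw [← conj_zpow, hha] at hzz'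
      exact hna (mem_zpowers_of_prime_card (p := p) (by rw [Nat.card_zpowers, hord a haP hna]) (g := (⟨z, Subgroup.mem_zpowers_iff.mpr ⟨j, hzz'⟩⟩ : Subgroup.zpowers a))
        (g' := ⟨a, Subgroup.mem_zpowers a⟩) (fun h => hz1 (congrArg Subtype.val h)) |> fun h => by
          obtain ⟨i, hi⟩ := Subgroup.mem_zpowers_iff.mp h
          exact Subgroup.mem_zpowers_iff.mpr ⟨i, congrArg Subtype.val hi⟩)
    obtain ⟨y1, hy1, hy1z⟩ := hmove z' hz'P hz'n
    have hcomm : ⁅h * y1 * h⁻¹, z⁆ = h * ⁅y1, z'⁆ * h⁻¹ := by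
      rw [← hzz']; simp only [commutatorElement_def]; group
    refine fun s => ?_
    obtain ⟨g', h1, h2⟩ := exists_shear (z := a) (a := z) (y := h * y1 * h⁻¹) (hord a haP hna)
      (by rw [← hha, show h * y1 * h⁻¹ * (h * z * h⁻¹) = h * (y1 * z) * h⁻¹ by group, hzc y1 hy1]; group)
      (hzc a haP).symm
      (by
        obtain ⟨j, hj⟩ := Subgroup.mem_zpowers_iff.mp (hPP y1 hy1 z' hz'P)
        exact Subgroup.mem_zpowers_iff.mpr ⟨j, by rw [hcomm, ← hj, ← conj_zpow, hha]⟩)
      (by rw [hcomm]; intro h'; exact hy1z (conj_eq_one_iff.mp h')) s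
    exact ⟨g', h1, h2⟩
  -- the maximal subgroups
  obtain ⟨a, haP, hna⟩ : ∃ a ∈ (P : Subgroup G), a ∉ Subgroup.zpowers z := by
    by_contra! h
    have := Subgroup.card_le_of_le (show (P : Subgroup G) ≤ Subgroup.zpowers z from h)
    rw [Nat.card_zpowers, hzo] at this
    have h2 : p ^ 1 < p ^ 3 := Nat.pow_lt_pow_right hpp.one_lt (by norm_num)
    rw [pow_one] at h2
    exact absurd (hcard ▸ this : p ^ 3 ≤ p) (by omega)
  obtain ⟨x, hxP, hxa⟩ := hmove a haP hna
  have hccz : Commute ⁅a, x⁆ a ∧ Commute ⁅a, x⁆ x := by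
    obtain ⟨j, hj⟩ := Subgroup.mem_zpowers_iff.mp (hPP a haP x hxP)
    rw [← hj]
    exact ⟨((show Commute z a from (hzc a haP).symm)).zpow_left j, ((show Commute z x from (hzc x hxP).symm)).zpow_left j⟩
  have hax : ⁅a, x⁆ ≠ 1 := by
    rw [← commutatorElement_inv, inv_ne_one]; exact hxa
  have hcco : orderOf ⁅a, x⁆ = p := orderOf_eq_prime (hexp' _ (by
    rw [commutatorElement_def]
    exact mul_mem (mul_mem (mul_mem haP hxP) (inv_mem haP)) (inv_mem hxP))) hax
  let el : Fin (p + 1) → G := fun i => if (i : ℕ) < p then a * x ^ (i : ℕ) else x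
  have hel : ∀ i, el i ∈ (P : Subgroup G) := fun i => by
    simp only [el]; split_ifs
    exacts [mul_mem haP (pow_mem hxP _), hxP]
  have hnc : ∀ i j, el i * el j = el j * el i → i = j := by
    intro i j h
    have hform := fun m => comm_pow_formula (a := a) (x := x) (c := ⁅a, x⁆) (by rw [commutatorElement_def]; group)
      hccz.1.eq hccz.2.eq 1 m
    simp only [pow_one, one_mul] at hform
    have hone : ¬ a * x = x * a := fun h' => hax (commutatorElement_eq_one_iff_mul_comm.mpr h')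
    simp only [el] at h
    split_ifs at h with h1 h2 h3
    · have e1 := hform (j : ℕ)
      have e2 := hform (i : ℕ)
      have e3 : x ^ (i : ℕ) * (a * x ^ (j : ℕ)) = x ^ (j : ℕ) * (a * x ^ (i : ℕ)) :=
        mul_left_cancel (a := a) (by rw [← mul_assoc, h, mul_assoc])
      rw [e1, e2, (hccz.2.pow_pow _ _).symm.left_comm, (hccz.2.pow_pow _ _).symm.left_comm, ← mul_assoc (x ^ (i : ℕ)),
        ← mul_assoc (x ^ (j : ℕ)), ← pow_add, ← pow_add, Nat.add_comm (i : ℕ) (j : ℕ)] at e3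
      have e4 := mul_right_cancel e3
      rw [pow_eq_pow_iff_modEq, hcco, Nat.ModEq, Nat.mod_eq_of_lt h1, Nat.mod_eq_of_lt h2] at e4
      exact Fin.ext e4.symm
    · refine (hone (mul_right_cancel (b := x ^ (i : ℕ)) ?_)).elim
      calc a * x * x ^ (i : ℕ) = a * x ^ (i : ℕ) * x := by rw [mul_assoc, ← pow_succ', pow_succ, mul_assoc]
        _ = x * a * x ^ (i : ℕ) := by rw [h, mul_assoc]
    · refine (hone (mul_right_cancel (b := x ^ (j : ℕ)) ?_)).elim
      calc a * x * x ^ (j : ℕ) = a * x ^ (j : ℕ) * x := by rw [mul_assoc, ← pow_succ', pow_succ, mul_assoc]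
        _ = x * a * x ^ (j : ℕ) := by rw [← h, mul_assoc]
    · exact Fin.ext (by omega)
  have heln : ∀ i, el i ∉ Subgroup.zpowers z := by
    intro i hi
    obtain ⟨k, hk⟩ := Subgroup.mem_zpowers_iff.mp hi
    have hall : ∀ j, el i * el j = el j * el i := fun j => by
      rw [← hk]; exact (((show Commute z (el j) from (hzc _ (hel j)).symm)).zpow_left k).eq
    have h0 := hnc i ⟨0, by omega⟩ (hall _)
    have h1 := hnc i ⟨1, by omega⟩ (hall _)
    exact absurd (congrArg Fin.val (h0.symm.trans h1)) (by norm_num)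
  let A : Fin (p + 1) → Subgroup G := fun i => Subgroup.closure {z, el i}
  have hAcomm : ∀ i, ∀ u ∈ A i, ∀ v ∈ A i, u * v = v * u := by
    intro i u hu v hv
    have hgen : ∀ u ∈ ({z, el i} : Set G), ∀ v ∈ ({z, el i} : Set G), u * v = v * u := by
      rintro u (rfl | rfl) v (rfl | rfl) <;> first | rfl | exact hzc _ (hel i) | exact (hzc _ (hel i)).symm
    haveI := Subgroup.isMulCommutative_closure hgen
    exact congrArg Subtype.val (mul_comm' (⟨u, hu⟩ : A i) ⟨v, hv⟩)
  have helA : ∀ i, el i ∈ A i := fun i => Subgroup.subset_closure (Or.inr rfl)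
  have hzA : ∀ i, z ∈ A i := fun i => Subgroup.subset_closure (Or.inl rfl)
  have hAP : ∀ i, A i ≤ (P : Subgroup G) := fun i => (Subgroup.closure_le _).mpr (by
    rintro u (rfl | rfl)
    exacts [hzP, hel i])
  have hAcard : ∀ i, Nat.card (A i) = p ^ 2 := by
    intro i
    obtain ⟨k, hk3, hk⟩ := (Nat.dvd_prime_pow hpp).mp (hcard ▸ Subgroup.card_dvd_of_le (hAP i))
    have hlt : Nat.card (Subgroup.zpowers z) < Nat.card (A i) :=
      lt_of_le_of_ne (Subgroup.card_le_of_le (Subgroup.zpowers_le.mpr (hzA i))) fun h =>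
        heln i ((Subgroup.eq_of_le_of_card_ge (Subgroup.zpowers_le.mpr (hzA i)) h.ge).ge (helA i))
    rw [Nat.card_zpowers, hzo, hk] at hlt
    have h1 : 1 < k := (Nat.pow_lt_pow_iff_right hpp.one_lt).mp (by rwa [pow_one])
    have h3 : k ≠ 3 := by
      intro h
      have heq : A i = (P : Subgroup G) := Subgroup.eq_of_le_of_card_ge (hAP i) (by rw [hk, h]; exact hcard.le)
      exact hxa (commutatorElement_eq_one_iff_mul_comm.mpr (hAcomm i x (heq ▸ hxP) a (heq ▸ haP)))
    rw [hk, show k = 2 by omega]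
  have hA : Function.Injective A := fun i j h => hnc i j (hAcomm i _ (helA i) _ (h ▸ helA j))
  have hshA := fun (i : Fin (p + 1)) (b : G) (hb : b ∈ A i) (hn : b ∉ Subgroup.zpowers z) => hSh b (hAP i hb) hn
  rcases (show p = 11 ∨ p = 13 ∨ 17 ≤ p by
    rcases Nat.lt_or_ge p 17 with h | h
    · interval_cases p <;> first | omega | (revert hpp; norm_num)
    · omega) with h | h | h
  · refine torus_bound P hcard hzo hzP hzc hcenter hPP hexp' (m' := 6) (by omega) A hA hAP hAcard hzA hshA fun j hj0 hj6 hd => ?_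
    rw [show p - 1 = 10 by omega] at hd; omega
  · refine torus_bound P hcard hzo hzP hzc hcenter hPP hexp' (m' := 4) (by omega) A hA hAP hAcard hzA hshA fun j hj0 hj6 hd => ?_
    rw [show p - 1 = 12 by omega] at hd; omega
  · refine torus_bound P hcard hzo hzP hzc hcenter hPP hexp' (m' := 6) (by omega) A hA hAP hAcard hzA hshA fun j hj0 hj6 hd => ?_
    have := Nat.le_of_dvd (by omega) hd
    omega

end Cfsg.Agent.S3055
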