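import Cfsg.Statements.S3057
import Cfsg.Agent.S3056
import Cfsg.Agent.Lib.Strong.Conj
import Cfsg.Agent.Lib.Transfer.SylowCore
import Cfsg.Agent.Lib.ZStar.Recognize
import Cfsg.Agent.Lib.PSolvable.Core
import Cfsg.Agent.Lib.Coprime.Generation

set_option autoImplicit false
open Cfsg
set_option linter.style.haveILetI false

namespace Cfsg.Agent.S3057

/-- Let p be a prime and G a finite p-solvable group of order divisible by p, with Sylow p-subgroup P. Then the Sylow p-subgroups of G fail to be chain-connected through nontrivial intersections (equivalently, G has a strongly p-embedded subgroup) if and only if O_p(G) = 1 and P is cyclic or, for p = 2, generalized quaternion. -/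
theorem result {G : Type*} [Group G] [Finite G]
    (p : ℕ) [Fact p.Prime] (hdiv : p ∣ Nat.card G) (hsol : Cfsg.IsPSolvable p G) (P : Sylow p G) :
    ¬ Cfsg.IsSylowChainConnected p G ↔
      Cfsg.pCore p G = ⊥ ∧ (IsCyclic ↥P ∨ (p = 2 ∧ ∃ n : ℕ, Nonempty (↥P ≃* QuaternionGroup (2 ^ n)))) := by
  haveI := CfsgLib.Transfer.pPrimeCore_normal p G
  rw [Cfsg.Agent.S3056.result p]
  constructor
  · rintro ⟨H, hH, hpH, hi⟩
    have hN := CfsgLib.Strong.forall_not_dvd_iff.mp hi
    have hC := fun (x : G) (h1 : x ∈ H) (h2 : orderOf x = p) =>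
      CfsgLib.Strong.centralizer_le_of_normalizer hN h1 h2
    obtain ⟨x, hx⟩ := exists_prime_orderOf_dvd_card' (G := H) p hpH
    have hxo : orderOf (x : G) = p := (Subgroup.orderOf_coe x).trans hx
    obtain ⟨T, hT⟩ := (CfsgLib.Transfer.isPGroup_zpowers (p := p) (x := (x : G))
      ⟨1, by rw [hxo, pow_one]⟩).exists_le_sylow
    have hTH : (T : Subgroup G) ≤ H :=
      CfsgLib.Strong.sylow_le_of_normalizer hN T (hT (Subgroup.mem_zpowers _)) x.2 hxo
    refine ⟨?_, ?_⟩
    · by_contra hne
      haveI := CfsgLib.Fitting.pCore_normal (G := G) p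
      have h1 := hN _ (CfsgLib.Fitting.pCore_isPGroup p)
        (((CfsgLib.Fitting.pCore_isPGroup p).le_sylow_of_normal T).trans hTH) hne
      rw [Subgroup.normalizer_eq_top] at h1
      exact hH (top_le_iff.mp h1)
    · -- no noncyclic elementary subgroup in `T`
      have huniq : ∀ a b : T, orderOf a = p → orderOf b = p → b ∈ Subgroup.zpowers a := by
        by_contra hn
        push Not at hn
        obtain ⟨a, b, ha, hb, hab⟩ := hn
        haveI : Nontrivial (T : Subgroup G) := ⟨a, 1, fun h => by
          rw [h, orderOf_one] at ha; exact (Fact.out : p.Prime).ne_one ha.symm⟩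
        haveI := T.2.center_nontrivial
        obtain ⟨z, hzc, hz⟩ := CfsgLib.Strong.exists_orderOf_eq_of_ne_bot
          (T.2.to_subgroup (Subgroup.center (T : Subgroup G)))
          ((Subgroup.nontrivial_iff_ne_bot _).mp inferInstance)
        obtain ⟨c, hc, hcz⟩ : ∃ c : T, orderOf c = p ∧ c ∉ Subgroup.zpowers z := by
          by_cases haz : a ∈ Subgroup.zpowers z
          · refine ⟨b, hb, fun hbz => hab ?_⟩
            have he : Subgroup.zpowers a = Subgroup.zpowers z := Subgroup.eq_of_le_of_card_ge
              (Subgroup.zpowers_le.mpr haz) (by rw [Nat.card_zpowers, Nat.card_zpowers, ha, hz])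
            rw [he]
            exact hbz
          · exact ⟨a, ha, haz⟩
        set B := Subgroup.closure ({(z : G), (c : G)} : Set G) with hB
        have hzcc : (z : G) * c = c * z :=
          congrArg Subtype.val (Subgroup.mem_center_iff.mp hzc c).symm
        haveI : IsMulCommutative B := Subgroup.isMulCommutative_closure (by
          rintro u (rfl | rfl) v (rfl | rfl) <;> first | rfl | exact hzcc | exact hzcc.symm)
        have hzB : (z : G) ∈ B := Subgroup.subset_closure (Or.inl rfl)
        have hcB : (c : G) ∈ B := Subgroup.subset_closure (Or.inr rfl)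
        have hzp : orderOf (z : G) = p := (Subgroup.orderOf_coe z).trans hz
        have hcp : orderOf (c : G) = p := (Subgroup.orderOf_coe c).trans hc
        have hBp : ∀ g ∈ B, g ^ p = 1 := by
          intro g hg
          induction hg using Subgroup.closure_induction with
          | mem u hu =>
            rcases hu with rfl | rfl
            · exact orderOf_dvd_iff_pow_eq_one.mp hzp.dvd
            · exact orderOf_dvd_iff_pow_eq_one.mp hcp.dvd
          | one => exact one_pow _
          | mul u v hu hv ihu ihv =>
            rw [(show Commute u v from congrArg Subtype.val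
              (mul_comm' (⟨u, hu⟩ : B) ⟨v, hv⟩)).mul_pow, ihu, ihv, one_mul]
          | inv u hu ihu => rw [inv_pow, ihu, inv_one]
        have hBT : B ≤ (T : Subgroup G) := by
          rw [hB, Subgroup.closure_le]
          rintro u (rfl | rfl)
          · exact z.2
          · exact c.2
        have hBnc : ¬ IsCyclic B := by
          refine CfsgLib.Coprime.not_isCyclic_of_exponent hBp (Fact.out : p.Prime).pos ?_
          have hlt : Subgroup.zpowers (z : G) < B := lt_of_le_of_ne (Subgroup.zpowers_le.mpr hzB)
            fun e => hcz (by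
              obtain ⟨k, hk⟩ := e.ge hcB
              exact ⟨k, Subtype.ext hk⟩)
          have h1 : Nat.card (Subgroup.zpowers (z : G)) < Nat.card B :=
            Nat.lt_of_not_ge fun hge => hlt.ne (Subgroup.eq_of_le_of_card_ge hlt.le hge)
          rwa [Nat.card_zpowers, hzp] at h1
        set D := Cfsg.pPrimeCore p G with hD
        have hDH : D ≤ H := by
          refine CfsgLib.Coprime.le_of_centralizer_le hBnc Subgroup.le_normalizer_of_normal ?_
            fun g hg hg1 => inf_le_right.trans (hC g (hTH (hBT hg)) (orderOf_eq_prime (hBp g hg) hg1))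
          obtain ⟨k, hk⟩ := IsPGroup.iff_card.mp (T.2.to_le hBT)
          rw [hk]
          exact ((CfsgLib.Transfer.pPrimeCore_coprime p).pow_right k).symm
        have hR : (T : Subgroup G) ⊓ Cfsg.pPrimePCore p G ≠ ⊥ := by
          intro hR
          have hsol' : Cfsg.IsPSolvable p (G ⧸ D) :=
            CfsgLib.PSolvable.isPSolvable_of_surjective _ (QuotientGroup.mk'_surjective D) hsol
          have hOq : Cfsg.pPrimeCore p (G ⧸ D) = ⊥ :=
            CfsgLib.PSolvable.pPrimeCore_eq_bot_of_ker (QuotientGroup.mk'_surjective D)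
              (QuotientGroup.ker_mk' D)
          haveI := CfsgLib.Fitting.pCore_normal (G := G ⧸ D) p
          have hpc : Cfsg.pCore p (G ⧸ D) = ⊥ := by
            rw [eq_bot_iff]
            intro y hy
            obtain ⟨t, ht, rfl⟩ := ((CfsgLib.Fitting.pCore_isPGroup p).le_sylow_of_normal
              (T.mapSurjective (QuotientGroup.mk'_surjective D))) hy
            have h2 : t ∈ (T : Subgroup G) ⊓ Cfsg.pPrimePCore p G := ⟨ht, hy⟩
            rw [hR, Subgroup.mem_bot] at h2
            rw [Subgroup.mem_bot, h2, map_one]
          have hall := CfsgLib.PSolvable.centralizer_pCore_le hsol' hOq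
          rw [hpc, le_bot_iff] at hall
          have hzD : (z : G) ∈ D := by
            rw [← QuotientGroup.eq_one_iff, ← Subgroup.mem_bot, ← hall]
            intro u hu
            rw [Subgroup.coe_bot, Set.mem_singleton_iff] at hu
            rw [hu, one_mul, mul_one]
          have h3 := CfsgLib.PSolvable.eq_one_of_mem_of_mem T.2
            (CfsgLib.Transfer.pPrimeCore_coprime p) z.2 hzD
          rw [h3, orderOf_one] at hzp
          exact (Fact.out : p.Prime).ne_one hzp.symm
        refine hH (top_le_iff.mp fun g _ => ?_)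
        obtain ⟨d, hd, n, hn, rfl⟩ := CfsgLib.Transfer.exists_normalizer_mul T g
        exact mul_mem (hDH hd) (hN _ (T.2.to_le inf_le_left) (inf_le_left.trans hTH) hR hn)
      have hsub : ∀ H₁ H₂ : Subgroup T, Nat.card H₁ = p → Nat.card H₂ = p → H₁ = H₂ := by
        intro H₁ H₂ h1 h2
        obtain ⟨⟨a, haH⟩, ha⟩ := exists_prime_orderOf_dvd_card' (G := H₁) p h1.symm.dvd
        rw [← Subgroup.orderOf_coe] at ha
        refine (Subgroup.eq_of_le_of_card_ge ?_ (by rw [h1, h2])).symm
        intro b hb
        by_cases hb1 : b = 1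
        · rw [hb1]; exact one_mem _
        · have hbp : orderOf b = p := by
            have h3 : orderOf b ∣ p := (Subgroup.orderOf_dvd_natCard H₂ hb).trans h2.dvd
            exact ((Nat.dvd_prime Fact.out).mp h3).resolve_left
              (fun h => hb1 (orderOf_eq_one_iff.mp h))
          exact (Subgroup.zpowers_le.mpr haH) (huniq a b ha hbp)
      by_cases hp2 : p = 2
      · subst hp2
        rcases CfsgLib.ZStar.cyclic_or_quaternion T.2 (fun a b ha hb => by
          obtain ⟨k, hk⟩ := huniq a b ha hb
          rcases Int.emod_two_eq_zero_or_one k with h | h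
          · exfalso
            change a ^ k = b at hk
            rw [← zpow_mod_orderOf, ha, show k % ((2 : ℕ) : ℤ) = 0 from h, zpow_zero] at hk
            rw [← hk, orderOf_one] at hb
            exact absurd hb (by norm_num)
          · change a ^ k = b at hk
            rwa [← zpow_mod_orderOf, ha, show k % ((2 : ℕ) : ℤ) = 1 from h, zpow_one] at hk) with h | ⟨n, ⟨e⟩⟩
        · exact Or.inl ((MulEquiv.isCyclic (T.equiv P)).mp h)
        · exact Or.inr ⟨rfl, n, ⟨(P.equiv T).trans e⟩⟩
      · exact Or.inl ((MulEquiv.isCyclic (T.equiv P)).mp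
          (CfsgLib.ZStar.cyclic_of_unique_subgroup hp2 T.2 hsub))
  · rintro ⟨hO, hP⟩
    -- `P` has a unique subgroup of order `p`
    have huniqP : ∀ a b : P, orderOf a = p → orderOf b = p → b ∈ Subgroup.zpowers a := by
      rcases hP with hc | ⟨hp2, n, ⟨e⟩⟩
      · haveI := hc
        intro a b ha hb
        set D := Subgroup.zpowers a ⊔ Subgroup.zpowers b with hD
        have hDp : ∀ d ∈ D, d ^ p = 1 := by
          intro d hd
          letI := IsCyclic.commGroup (α := P)
          rw [hD, Subgroup.mem_sup] at hd
          obtain ⟨u, ⟨i, rfl⟩, v, ⟨j, rfl⟩, rfl⟩ := hd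
          have e : ∀ c : P, orderOf c = p → ∀ i : ℤ, (c ^ i) ^ p = 1 := fun c hc i => by
            rw [← zpow_natCast (c ^ i), ← zpow_mul, mul_comm, zpow_mul, zpow_natCast,
              orderOf_dvd_iff_pow_eq_one.mp hc.dvd, one_zpow]
          show (a ^ i * b ^ j) ^ p = 1
          rw [mul_pow, e a ha, e b hb, one_mul]
        have hle : Nat.card D ≤ p := Nat.le_of_not_lt fun h =>
          CfsgLib.Coprime.not_isCyclic_of_exponent hDp (Fact.out : p.Prime).pos h inferInstance
        have he : Subgroup.zpowers a = D := Subgroup.eq_of_le_of_card_ge le_sup_left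
          (by rw [Nat.card_zpowers, ha]; exact hle)
        rw [he]
        exact Subgroup.mem_sup_right (Subgroup.mem_zpowers b)
      · intro a b ha hb
        have key : ∀ q : QuaternionGroup (2 ^ n), orderOf q = 2 →
            q = QuaternionGroup.a ((2 ^ n : ℕ) : ZMod (2 * 2 ^ n)) := by
          intro q hq
          cases q with
          | xa i =>
            haveI : NeZero (2 ^ n) := ⟨by positivity⟩
            rw [QuaternionGroup.orderOf_xa] at hq
            omega
          | a i =>
            haveI : NeZero (2 ^ n) := ⟨by positivity⟩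
            rw [QuaternionGroup.orderOf_a] at hq
            have hg : Nat.gcd (2 * 2 ^ n) i.val = 2 ^ n := by
              have h1 := Nat.div_mul_cancel (Nat.gcd_dvd_left (2 * 2 ^ n) i.val)
              rw [hq] at h1
              omega
            obtain ⟨m, hm⟩ : 2 ^ n ∣ i.val := hg ▸ Nat.gcd_dvd_right _ _
            have hlt := i.val_lt
            have hm1 : m = 1 := by
              rcases Nat.lt_or_ge m 2 with h | h
              · rcases Nat.eq_zero_or_pos m with rfl | h0
                · rw [hm, mul_zero, Nat.gcd_zero_right] at hg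
                  have := Nat.two_pow_pos n
                  omega
                · omega
              · have := Nat.mul_le_mul_left (2 ^ n) h
                omega
            rw [hm1, mul_one] at hm
            refine congrArg QuaternionGroup.a ?_
            conv_lhs => rw [← ZMod.natCast_zmod_val i, hm]
        have h1 := key (e a) (by rw [MulEquiv.orderOf_eq, ha, hp2])
        have h2 := key (e b) (by rw [MulEquiv.orderOf_eq, hb, hp2])
        rw [e.injective (h2.trans h1.symm)]
        exact Subgroup.mem_zpowers a
    have huniqU : ∀ U : Subgroup G, IsPGroup p U → ∀ a ∈ U, ∀ b ∈ U, orderOf a = p →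
        orderOf b = p → b ∈ Subgroup.zpowers a := by
      intro U hU a ha b hb hoa hob
      obtain ⟨g, hg⟩ := CfsgLib.Transfer.exists_map_conj_le_sylow hU P
      have h1 := huniqP ⟨_, hg (Subgroup.mem_map_of_mem _ ha)⟩ ⟨_, hg (Subgroup.mem_map_of_mem _ hb)⟩
        (by rw [← Subgroup.orderOf_coe]; exact (CfsgLib.Transfer.orderOf_conj g a).trans hoa)
        (by rw [← Subgroup.orderOf_coe]; exact (CfsgLib.Transfer.orderOf_conj g b).trans hob)
      obtain ⟨k, hk⟩ := h1
      refine ⟨k, (MulAut.conj g).injective ?_⟩
      have hk' := congrArg Subtype.val hk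
      simp only [Subgroup.coe_zpow] at hk'
      rw [map_zpow]
      exact hk'
    have hpP : p ∣ Nat.card (P : Subgroup G) := P.dvd_card_of_dvd_card hdiv
    obtain ⟨z, hz⟩ := exists_prime_orderOf_dvd_card' (G := (P : Subgroup G)) p hpP
    have hzo : orderOf (z : G) = p := (Subgroup.orderOf_coe z).trans hz
    set Z := Subgroup.zpowers (z : G) with hZ
    set H := Subgroup.normalizer (Z : Set G) with hH
    have hzH : (z : G) ∈ H := Subgroup.le_normalizer (Subgroup.mem_zpowers _)
    refine ⟨H, fun h => ?_, ?_, fun g hg hd => hg ?_⟩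
    · haveI : Z.Normal := Subgroup.normalizer_eq_top_iff.mp h
      have h1 := CfsgLib.Fitting.le_pCore (N := Z) inferInstance
        (CfsgLib.Transfer.isPGroup_zpowers ⟨1, by rw [hzo, pow_one]⟩)
      rw [hO, le_bot_iff, Subgroup.zpowers_eq_bot] at h1
      rw [h1, orderOf_one] at hzo
      exact (Fact.out : p.Prime).ne_one hzo.symm
    · rw [← hzo, ← Subgroup.orderOf_mk (z : G) hzH]
      exact orderOf_dvd_natCard _
    · obtain ⟨⟨y, hyH, w, hw, hwy⟩, hy⟩ := exists_prime_orderOf_dvd_card' p hd
      rw [← Subgroup.orderOf_coe] at hy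
      have hwy' : g * w * g⁻¹ = y := hwy
      have memZ : ∀ v ∈ H, orderOf v = p → Subgroup.zpowers v = Z := by
        intro v hv hvo
        have hU : IsPGroup p ↥(Z ⊔ Subgroup.zpowers v) :=
          (CfsgLib.Transfer.isPGroup_zpowers ⟨1, by rw [hzo, pow_one]⟩).to_sup_of_normal_left'
            (CfsgLib.Transfer.isPGroup_zpowers ⟨1, by rw [hvo, pow_one]⟩) (Subgroup.zpowers_le.mpr hv)
        exact Subgroup.eq_of_le_of_card_ge (Subgroup.zpowers_le.mpr (huniqU _ hU _
          (Subgroup.mem_sup_left (Subgroup.mem_zpowers _)) v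
          (Subgroup.mem_sup_right (Subgroup.mem_zpowers _)) hzo hvo))
          (by rw [Nat.card_zpowers, Nat.card_zpowers, hvo, hzo])
      have e1 := memZ y hyH hy
      have e2 := memZ w hw (by
        rw [← CfsgLib.Transfer.orderOf_conj g w, hwy']
        exact hy)
      rw [hH, ← CfsgLib.Transfer.map_conj_eq_self_iff]
      conv_lhs => rw [← e2]
      rw [MonoidHom.map_zpowers]
      show Subgroup.zpowers (g * w * g⁻¹) = Z
      rw [hwy', e1]

end Cfsg.Agent.S3057
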