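import Cfsg.Statements.S3058
import Cfsg.Agent.Lib.Coprime.Generation
import Cfsg.Agent.Lib.Strong.Basic

set_option autoImplicit false
set_option linter.style.haveILetI false
set_option linter.unusedVariables false
open Cfsg

open scoped commutatorElement

namespace Cfsg.Agent.S3058

open CfsgLib.Transfer in
/-- A disconnected Sylow graph gives a proper subgroup which is "strongly embedded". -/
theorem exists_strongly_embedded {G : Type*} [Group G] [Finite G] {p : ℕ} [Fact p.Prime]
    (hG : ¬ Cfsg.IsSylowChainConnected p G) :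
    ∃ (H : Subgroup G) (S : Sylow p G), H ≠ ⊤ ∧ (S : Subgroup G) ≤ H ∧
      (∀ U : Subgroup G, U ≤ (S : Subgroup G) → U ≠ ⊥ → Subgroup.normalizer (U : Set G) ≤ H) ∧
      ∀ (y g : G), y ∈ H → orderOf y = p → g * y * g⁻¹ ∈ H → g ∈ H := by
  classical
  let edge : Sylow p G → Sylow p G → Prop := fun A B =>
    A ≠ B ∧ (A : Subgroup G) ⊓ (B : Subgroup G) ≠ ⊥
  let reach := Relation.ReflTransGen edge
  have hpath : ∀ A B, reach A B → ∃ (n : ℕ) (c : Fin (n + 1) → Sylow p G),
      c 0 = A ∧ c (Fin.last n) = B ∧ ∀ i : Fin n, edge (c i.castSucc) (c i.succ) := by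
    intro A B h
    induction h using Relation.ReflTransGen.head_induction_on with
    | refl => exact ⟨0, fun _ => B, rfl, rfl, fun i => i.elim0⟩
    | @head a b hab _ ih =>
      obtain ⟨n, c, h0, hl, he⟩ := ih
      refine ⟨n + 1, Fin.cons a c, rfl, ?_, fun i => ?_⟩
      · rw [← Fin.succ_last, Fin.cons_succ, hl]
      · refine Fin.cases ?_ ?_ i
        · simpa [h0] using hab
        · intro j
          simpa [← Fin.succ_castSucc] using he j
  obtain ⟨S, T, hST⟩ : ∃ S T, ¬ reach S T := by
    by_contra hall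
    push Not at hall
    refine hG fun S T => ?_
    by_cases hbot : (S : Subgroup G) ⊓ (T : Subgroup G) = ⊥
    · obtain ⟨n, c, h0, hl, he⟩ := hpath S T (hall S T)
      exact ⟨n, c, h0, hl, fun i => hbot ▸ bot_le, he⟩
    by_cases heq : S = T
    · subst heq
      exact ⟨0, fun _ => S, rfl, rfl, fun i => inf_le_left, fun i => i.elim0⟩
    · refine ⟨1, ![S, T], rfl, rfl, fun i => ?_, fun i => ?_⟩
      · fin_cases i
        · exact inf_le_left
        · exact inf_le_right
      · fin_cases i
        exact ⟨heq, hbot⟩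
  have hsymm : ∀ A B, reach A B → reach B A := fun A B h => by
    induction h with
    | refl => exact Relation.ReflTransGen.refl
    | tail _ hbc ih =>
      exact Relation.ReflTransGen.head ⟨hbc.1.symm, by rw [inf_comm]; exact hbc.2⟩ ih
  have hsmul : ∀ (g : G) (A B), reach A B → reach (g • A) (g • B) := fun g A B h => by
    refine h.lift (fun R => g • R) fun a b hab => ⟨fun e => hab.1 (MulAction.injective g e), ?_⟩
    rw [smul_sylow_coe, smul_sylow_coe, ← Subgroup.map_inf _ _ _ (MulAut.conj g).injective]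
    exact fun e => hab.2 ((Subgroup.map_eq_bot_iff_of_injective _ (MulAut.conj g).injective).mp e)
  let H : Subgroup G :=
    { carrier := {g | reach S (g • S)}
      one_mem' := by
        show reach S ((1 : G) • S)
        rw [one_smul]
      mul_mem' := fun {a b} ha hb => by
        show reach S ((a * b) • S)
        have h2 := hsmul a _ _ hb
        rw [← mul_smul] at h2
        exact Relation.ReflTransGen.trans ha h2
      inv_mem' := fun {a} ha => by
        show reach S (a⁻¹ • S)
        have h2 := hsmul a⁻¹ _ _ ha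
        rw [← mul_smul, inv_mul_cancel, one_smul] at h2
        exact hsymm _ _ h2 }
  have hmeet : ∀ (A B : Sylow p G) (x : G), x ∈ (A : Subgroup G) → x ∈ (B : Subgroup G) → x ≠ 1 →
      reach A B := by
    intro A B x hA hB hx
    by_cases h : A = B
    · subst h; exact Relation.ReflTransGen.refl
    · refine Relation.ReflTransGen.single ⟨h, fun e => hx ?_⟩
      have : x ∈ (A : Subgroup G) ⊓ (B : Subgroup G) := ⟨hA, hB⟩
      rwa [e, Subgroup.mem_bot] at this
  have hSH : (S : Subgroup G) ≤ H := fun s hs => by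
    show reach S (s • S)
    rw [S.smul_eq_iff_mem_normalizer.mpr (Subgroup.le_normalizer hs)]
  refine ⟨H, S, fun htop => hST ?_, hSH, fun U hU hne g hg => ?_, fun y g hy hyp hgy => ?_⟩
  · obtain ⟨g, rfl⟩ := MulAction.exists_smul_eq G S T
    exact (show g ∈ H by rw [htop]; trivial : g ∈ H)
  · obtain ⟨u, hu, hu1⟩ := (Subgroup.bot_or_exists_ne_one U).resolve_left hne
    show reach S (g • S)
    refine hmeet S (g • S) (g * u * g⁻¹) (hU ((Subgroup.mem_normalizer_iff.mp hg u).mp hu)) ?_
      (fun e => hu1 (conj_eq_one_iff.mp e))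
    rw [smul_sylow_coe]
    exact Subgroup.mem_map_of_mem _ (hU hu)
  · have inSyl : ∀ v : G, v ∈ H → (∃ k : ℕ, orderOf v = p ^ k) →
        ∃ h ∈ H, v ∈ ((h • S : Sylow p G) : Subgroup G) := by
      intro v hv hvp
      obtain ⟨k, hk⟩ := exists_map_conj_le_sylow (isPGroup_zpowers (p := p) (x := (⟨v, hv⟩ : H))
        (by obtain ⟨k, hk⟩ := hvp; exact ⟨k, by rw [← Subgroup.orderOf_coe]; exact hk⟩)) (S.subtype hSH)
      refine ⟨(k : G)⁻¹, H.inv_mem k.2, ?_⟩
      rw [smul_sylow_coe, mem_conj_map_iff, inv_inv]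
      exact hk ⟨_, Subgroup.mem_zpowers _, rfl⟩
    have hgyp : orderOf (g * y * g⁻¹) = p := (CfsgLib.Transfer.orderOf_conj g y).trans hyp
    obtain ⟨h, hh, hyh⟩ := inSyl y hy ⟨1, by rw [pow_one, hyp]⟩
    obtain ⟨h', hh', hyh'⟩ := inSyl _ hgy ⟨1, by rw [pow_one, hgyp]⟩
    have hne : g * y * g⁻¹ ≠ 1 := fun e => by
      rw [e, orderOf_one] at hgyp
      exact (Fact.out : p.Prime).ne_one hgyp.symm
    have h1 : reach (h' • S) ((g * h) • S) := by
      refine hmeet _ _ _ hyh' ?_ hne
      rw [mul_smul, smul_sylow_coe g]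
      exact Subgroup.mem_map_of_mem _ hyh
    have h2 : g * h ∈ H := Relation.ReflTransGen.trans hh' h1
    simpa [mul_assoc] using H.mul_mem h2 (H.inv_mem hh)

/-- Let p be a prime and G a finite group whose Sylow p-subgroups are not chain-connected through nontrivial intersections (so G has a strongly p-embedded subgroup). If N and M are normal subgroups of G whose orders are both divisible by p, then the order of N ∩ M is divisible by p. Consequently, among the normal subgroups of G whose order is divisible by p there is a smallest one (the intersection of all of them). -/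
theorem result {G : Type*} [Group G] [Finite G]
    (p : ℕ) [Fact p.Prime] (hG : ¬ Cfsg.IsSylowChainConnected p G)
    (N M : Subgroup G) [N.Normal] [M.Normal] (hN : p ∣ Nat.card N) (hM : p ∣ Nat.card M) :
    p ∣ Nat.card ↥(N ⊓ M) := by
  by_contra hD
  obtain ⟨H, S, hHtop, hSH, hU, hkey⟩ := exists_strongly_embedded hG
  -- elements of order `p` of `N` and `M` in `S`
  have getx : ∀ (K : Subgroup G), K.Normal → p ∣ Nat.card K →
      ∃ x ∈ (S : Subgroup G), x ∈ K ∧ orderOf x = p := by
    intro K hK hpK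
    obtain ⟨x, hx⟩ := exists_prime_orderOf_dvd_card' (G := K) p hpK
    rw [← Subgroup.orderOf_coe] at hx
    obtain ⟨k, hk⟩ := CfsgLib.Transfer.exists_map_conj_le_sylow
      (CfsgLib.Transfer.isPGroup_zpowers (p := p) (x := (x : G)) ⟨1, by rw [pow_one, hx]⟩) S
    exact ⟨k * x * k⁻¹, hk ⟨_, Subgroup.mem_zpowers _, rfl⟩, hK.conj_mem _ x.2 k,
      (CfsgLib.Transfer.orderOf_conj k (x : G)).trans hx⟩
  obtain ⟨x, hxS, hxN, hxp⟩ := getx N inferInstance hN
  obtain ⟨y, hyS, hyM, hyp⟩ := getx M inferInstance hM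
  have hp1 := (Fact.out : p.Prime).one_lt
  have hxy : x * y = y * x := by
    have h1 : x * y * x⁻¹ * y⁻¹ ∈ N ⊓ M := ⟨by
      rw [show x * y * x⁻¹ * y⁻¹ = x * (y * x⁻¹ * y⁻¹) by group]
      exact N.mul_mem hxN (Subgroup.Normal.conj_mem inferInstance _ (N.inv_mem hxN) y),
      M.mul_mem (Subgroup.Normal.conj_mem inferInstance _ hyM x) (M.inv_mem hyM)⟩
    have h2 : x * y * x⁻¹ * y⁻¹ ∈ (S : Subgroup G) :=
      Subgroup.mul_mem _ (Subgroup.mul_mem _ (Subgroup.mul_mem _ hxS hyS) (Subgroup.inv_mem _ hxS))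
        (Subgroup.inv_mem _ hyS)
    obtain ⟨k, hk⟩ := IsPGroup.iff_orderOf.mp S.2 ⟨_, h2⟩
    rw [← Subgroup.orderOf_coe] at hk
    rcases Nat.eq_zero_or_pos k with rfl | hk0
    · rw [pow_zero, orderOf_eq_one_iff] at hk
      exact mul_inv_eq_iff_eq_mul.mp (mul_inv_eq_one.mp hk)
    · exact absurd (((dvd_pow_self p hk0.ne').trans hk.symm.dvd).trans
        ((N ⊓ M).orderOf_dvd_natCard h1)) hD
  set E := Subgroup.closure ({x, y} : Set G) with hE
  haveI hEc : IsMulCommutative E := Subgroup.isMulCommutative_closure (by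
    rintro a (rfl | rfl) b (rfl | rfl) <;> first | rfl | exact hxy | exact hxy.symm)
  have hES : E ≤ (S : Subgroup G) := (Subgroup.closure_le _).mpr (by
    rintro a (rfl | rfl) <;> assumption)
  have hexp : ∀ a ∈ E, a ^ p = 1 := by
    intro a ha
    induction ha using Subgroup.closure_induction with
    | mem b hb =>
      rcases hb with rfl | rfl
      · rw [← hxp]; exact pow_orderOf_eq_one _
      · rw [← hyp]; exact pow_orderOf_eq_one _
    | one => exact one_pow p
    | mul b c hb hc hb' hc' =>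
      have : Commute b c := congrArg Subtype.val (hEc.is_comm.comm (⟨b, hb⟩ : E) ⟨c, hc⟩)
      rw [this.mul_pow, hb', hc', one_mul]
    | inv b _ hb' => rw [inv_pow, hb', inv_one]
  have hnc : ¬ IsCyclic E := by
    refine CfsgLib.Coprime.not_isCyclic_of_exponent hexp (Fact.out : p.Prime).pos ?_
    have hle : Subgroup.zpowers x ≤ E :=
      Subgroup.zpowers_le.mpr (Subgroup.subset_closure (Set.mem_insert _ _))
    rw [← hxp, ← Nat.card_zpowers]
    refine lt_of_le_of_ne (Subgroup.card_le_of_le hle) fun e => hD ?_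
    have h2 := Subgroup.eq_of_le_of_card_ge hle e.ge
    have hy' : y ∈ Subgroup.zpowers x :=
      h2 ▸ Subgroup.subset_closure (Set.mem_insert_of_mem _ rfl)
    rw [← hyp]
    exact (N ⊓ M).orderOf_dvd_natCard ⟨Subgroup.zpowers_le.mpr hxN hy', hyM⟩
  have hDH : N ⊓ M ≤ H := by
    refine CfsgLib.Coprime.le_of_centralizer_le hnc (fun a _ => ?_) ?_ fun e he he1 => ?_
    · haveI : (N ⊓ M).Normal := inferInstance
      rw [Subgroup.normalizer_eq_top]
      trivial
    · obtain ⟨k, hk⟩ := IsPGroup.iff_card.mp (S.2.to_le hES)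
      rw [hk]
      exact ((Fact.out : p.Prime).coprime_iff_not_dvd.mpr hD).pow_left k
    · refine inf_le_right.trans ((CfsgLib.Strong.centralizer_singleton_le_normalizer e).trans
        (hU _ (Subgroup.zpowers_le.mpr (hES he)) fun h => he1 (Subgroup.zpowers_eq_bot.mp h)))
  have hNH : N ≤ H := by
    intro n hn
    have h1 : n * y * n⁻¹ * y⁻¹ ∈ H := by
      refine hDH ⟨?_, M.mul_mem (Subgroup.Normal.conj_mem inferInstance _ hyM n) (M.inv_mem hyM)⟩
      rw [show n * y * n⁻¹ * y⁻¹ = n * (y * n⁻¹ * y⁻¹) by group]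
      exact N.mul_mem hn (Subgroup.Normal.conj_mem inferInstance _ (N.inv_mem hn) y)
    exact hkey y n (hSH hyS) hyp (by simpa using H.mul_mem h1 (hSH hyS))
  exact hHtop (top_le_iff.mp fun g _ =>
    hkey x g (hSH hxS) hxp (hNH (Subgroup.Normal.conj_mem inferInstance _ hxN g)))

end Cfsg.Agent.S3058
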