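import Mathlib
import Cfsg.Statements.S3059
import Cfsg.Agent.Lib.Transfer.Basic
import Cfsg.Agent.Lib.Transfer.Sylow
import Cfsg.Agent.Lib.Strong.Basic

set_option autoImplicit false
set_option linter.style.haveILetI false
set_option linter.unusedVariables false
open Cfsg

namespace Cfsg.Agent.S3059

/-- Let p be a prime and H a strongly p-embedded subgroup of the finite group G in the classical sense: H is proper, p divides the order of H, and H ∩ gHg⁻¹ has order prime to p for every g outside H. Then for every normal subgroup N of G of order divisible by p, G = H · O^p(N), where O^p(N) is the subgroup generated by the elements of N of order prime to p. -/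
theorem result {G : Type*} [Group G] [Finite G]
    (p : ℕ) [Fact p.Prime] (H : Subgroup G) (hH : H ≠ ⊤) (hpH : p ∣ Nat.card H)
    (hse : ∀ g : G, g ∉ H → ¬ p ∣ Nat.card ↥(H ⊓ H.map (MulAut.conj g).toMonoidHom))
    (N : Subgroup G) [N.Normal] (hN : p ∣ Nat.card N) :
    H ⊔ Subgroup.closure {g : G | g ∈ N ∧ (orderOf g).Coprime p} = ⊤ := by
  obtain ⟨P₀⟩ := (inferInstance : Nonempty (Sylow p H))
  set S₀ := (P₀ : Subgroup H).map H.subtype with hS₀
  have hS₀p : IsPGroup p S₀ := P₀.2.map _
  have hN0 : ∀ R : Subgroup G, R ≤ H → p ∣ Nat.card R → Subgroup.normalizer (R : Set G) ≤ H := by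
    intro R hRH hd g hg
    by_contra hgH
    refine hse g hgH (hd.trans (Subgroup.card_dvd_of_le (le_inf hRH ?_)))
    conv_lhs => rw [← CfsgLib.Transfer.map_conj_eq_self_iff.mpr hg]
    exact Subgroup.map_mono hRH
  have hdS₀ : p ∣ Nat.card S₀ := by
    rw [Subgroup.card_map_of_injective H.subtype_injective]
    exact P₀.dvd_card_of_dvd_card hpH
  obtain ⟨S, hS⟩ := hS₀p.exists_le_sylow
  have hSeq : S₀ = (S : Subgroup G) := by
    by_contra hne
    have hlt := CfsgLib.Transfer.lt_inf_normalizer S.2 (lt_of_le_of_ne hS hne)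
    set B := (S : Subgroup G) ⊓ Subgroup.normalizer (S₀ : Set G) with hB
    have hBH : B ≤ H := inf_le_right.trans (hN0 S₀ (Subgroup.map_subtype_le _) hdS₀)
    have heq : B.subgroupOf H = (P₀ : Subgroup H) :=
      P₀.3 ((S.2.to_le inf_le_left).comap_of_injective _ H.subtype_injective) fun u hu =>
        hlt.le ⟨u, hu, rfl⟩
    refine hlt.ne ?_
    rw [hS₀, ← heq, Subgroup.map_subgroupOf_eq_of_le hBH]
  have hSH : (S : Subgroup G) ≤ H := hSeq ▸ Subgroup.map_subtype_le _
  have hidx : ¬ p ∣ ((S : Subgroup G).subgroupOf N).index := fun h =>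
    S.not_dvd_index (h.trans (CfsgLib.Transfer.relIndex_dvd_index_of_normal _ _))
  let Q : Sylow p N := (S.2.comap_of_injective _ N.subtype_injective).toSylow hidx
  set QG := (Q : Subgroup N).map N.subtype with hQG
  have hQH : QG ≤ H := (Subgroup.map_comap_le _ _).trans hSH
  have hdQ : p ∣ Nat.card QG := by
    rw [Subgroup.card_map_of_injective N.subtype_injective]
    exact Q.dvd_card_of_dvd_card hN
  set K := Subgroup.closure {g : G | g ∈ N ∧ (orderOf g).Coprime p} with hK
  have hNle : N ≤ H ⊔ K := by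
    have h1 : ((Q : Subgroup N) ⊔ Cfsg.pResidual p N).map N.subtype ≤ H ⊔ K := by
      rw [Subgroup.map_sup]
      refine sup_le (hQH.trans le_sup_left) ((le_of_eq (MonoidHom.map_closure _ _)).trans
        ((Subgroup.closure_mono ?_).trans le_sup_right))
      rintro _ ⟨u, hu, rfl⟩
      exact ⟨u.2, by rw [Subgroup.coe_subtype, Subgroup.orderOf_coe]; exact hu⟩
    rw [CfsgLib.Transfer.sylow_sup_pResidual, ← MonoidHom.range_eq_map, Subgroup.range_subtype] at h1
    exact h1
  rw [eq_top_iff, ← Sylow.normalizer_sup_eq_top Q]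
  exact sup_le ((hN0 QG hQH hdQ).trans le_sup_left) hNle

end Cfsg.Agent.S3059
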