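import Cfsg.Statements.S3062
import Cfsg.Agent.Lib.Fusion.DStarDef

set_option autoImplicit false
open Cfsg

namespace Cfsg.Agent.S3062

/-- Let S be a finite p-group, J(S) the subgroup generated by the abelian subgroups of S of largest order and Z(J(S)) its centre. Then Z(S) ≤ D*(S) ≤ Z(J(S)), and every maximal normal abelian subgroup of S contains D*(S). -/
theorem result {S : Type*} [Group S] [Finite S] {p : ℕ} [Fact p.Prime]
    (hS : IsPGroup p S) :
    Subgroup.center S ≤ Cfsg.dStar S ∧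
    Cfsg.dStar S ≤ Cfsg.thompsonSubgroupA S ⊓ Subgroup.centralizer (Cfsg.thompsonSubgroupA S : Set S) ∧
    ∀ A : Subgroup S, A.Normal → IsMulCommutative A →
      (∀ B : Subgroup S, B.Normal → IsMulCommutative B → A ≤ B → B = A) → Cfsg.dStar S ≤ A := by
  classical
  haveI : Group.IsNilpotent S := hS.isNilpotent
  haveI : Group.IsNilpotent (⊤ : Subgroup S) := Group.isNilpotent_top.2 inferInstance
  have hD := CfsgLib.DStar.dStar_eq S
  have hmax : ∀ A ∈ Cfsg.maxAbelianSubgroups S, Cfsg.dStar S ≤ A := by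
    rintro A ⟨hA, hmax⟩
    rw [hD]
    exact CfsgLib.DStar.dStar_le_of_maxAbExp (hS.to_subgroup ⊤) _ A rfl
      ⟨le_top, ⟨hA, fun a _ => pow_zero a⟩, fun B _ hB => hmax B hB.1⟩
  refine ⟨CfsgLib.DStar.center_le_dStar S, le_inf ?_ ?_, ?_⟩
  · obtain ⟨A, hA, hAmax⟩ := Set.exists_max_image {A : Subgroup S | IsMulCommutative A}
      (fun A => Nat.card A) (Set.toFinite _) ⟨⊥, ⟨⟨fun a b => Subsingleton.elim _ _⟩⟩⟩
    exact (hmax A ⟨hA, hAmax⟩).trans (le_sSup ⟨hA, hAmax⟩)
  · intro d hd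
    have hle : Cfsg.thompsonSubgroupA S ≤ Subgroup.centralizer {d} :=
      sSup_le fun A hA => by
        intro a ha
        refine Subgroup.mem_centralizer_iff.2 fun z hz => ?_
        rw [Set.mem_singleton_iff] at hz
        subst hz
        exact congrArg Subtype.val (@mul_comm' _ _ hA.1 (⟨z, hmax A hA hd⟩ : A) ⟨a, ha⟩)
    exact Subgroup.mem_centralizer_iff.2 fun a ha =>
      (Subgroup.mem_centralizer_iff.1 (hle ha) d rfl).symm
  · intro A hAn hA hAmax
    haveI := hAn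
    set D := CfsgLib.DStar.dStar (⊤ : Subgroup S)
    have hDI := CfsgLib.DStar.inD_dStar (⊤ : Subgroup S)
    have hAc : ∀ x ∈ A, ∀ y ∈ A, Commute x y := fun x hx y hy =>
      congrArg Subtype.val (mul_comm' (⟨x, hx⟩ : A) ⟨y, hy⟩)
    have hDA := hDI.commute_of_abelian (N := A) le_top
      (by rw [Subgroup.normalizer_eq_top]) hAc
    haveI hDn : D.Normal := Subgroup.normalizer_eq_top_iff.1 (top_le_iff.1
      ((Subgroup.le_normalizer (H := (⊤ : Subgroup S))).trans
        (CfsgLib.DStar.normalizer_le_normalizer_dStar _)))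
    have hle : ∀ a ∈ A ⊔ D, ∀ b ∈ A ⊔ D, Commute a b := by
      intro a ha b hb
      obtain ⟨a₁, ha₁, d₁, hd₁, rfl⟩ := Subgroup.mem_sup_of_normal_left.1 ha
      obtain ⟨a₂, ha₂, d₂, hd₂, rfl⟩ := Subgroup.mem_sup_of_normal_left.1 hb
      exact (((hAc a₁ ha₁ a₂ ha₂).mul_right (hDA d₂ hd₂ a₁ ha₁).symm).mul_left
        ((hDA d₁ hd₁ a₂ ha₂).mul_right (CfsgLib.DStar.dStar_comm _ d₁ hd₁ d₂ hd₂)))
    have heq := hAmax (A ⊔ D) inferInstance ⟨⟨fun a b => Subtype.ext (hle a a.2 b b.2)⟩⟩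
      le_sup_left
    rw [hD, ← heq]
    exact le_sup_right

end Cfsg.Agent.S3062
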