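import Cfsg.Statements.S3063
import Cfsg.Agent.Lib.Transfer.Sylow
import Cfsg.Agent.Lib.Transfer.Alperin

set_option autoImplicit false
open Cfsg
set_option linter.style.haveILetI false

namespace Cfsg.Agent.S3063

/-- A weak replacement Theorem for metabelian p-groups: let S be a finite p-group whose derived subgroup is abelian and A an abelian subgroup of S of largest possible order. Then the normal closure of A in S contains an abelian subgroup B of the same order as A that is normal in S. -/
theorem result {S : Type*} [Group S] [Finite S] {p : ℕ} [Fact p.Prime]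
    (hS : IsPGroup p S) (hmeta : IsMulCommutative ↥(commutator S))
    (A : Subgroup S) (hA : A ∈ Cfsg.maxAbelianSubgroups S) :
    ∃ B ∈ Cfsg.maxAbelianSubgroups S, B.Normal ∧ B ≤ Subgroup.normalClosure (A : Set S) := by
  classical
  haveI : Finite (Subgroup S) := Finite.of_injective (fun K => (K : Set S)) SetLike.coe_injective
  set T₀ : Set (Subgroup S) :=
    {B | B ∈ Cfsg.maxAbelianSubgroups S ∧ B ≤ Subgroup.normalClosure (A : Set S)} with hT₀
  obtain ⟨B, ⟨hBmax, hBA⟩, hBbest⟩ := Set.exists_max_image T₀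
    (fun B => Nat.card ↥(B ⊓ commutator S)) (Set.toFinite T₀)
    ⟨A, hA, Subgroup.le_normalClosure⟩
  refine ⟨B, hBmax, ?_, hBA⟩
  by_contra hnB
  set N := Subgroup.normalizer (B : Set S) with hN
  have hNtop : N ≠ ⊤ := fun h => hnB (Subgroup.normalizer_eq_top_iff.mp h)
  haveI : Group.IsNilpotent S := hS.isNilpotent
  obtain ⟨x, hxN, hx⟩ := SetLike.exists_of_lt
    (Group.normalizerCondition_of_isNilpotent (G := S) N (lt_top_iff_ne_top.mpr hNtop))
  set B' := B.map (MulAut.conj x).toMonoidHom with hB'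
  have hB'B : B' ≠ B := fun h => hx (CfsgLib.Transfer.map_conj_eq_self_iff.mp h)
  have hB'N : B' ≤ N := by
    refine (Subgroup.map_mono Subgroup.le_normalizer).trans (le_of_eq ?_)
    exact CfsgLib.Transfer.map_conj_eq_self_iff.mpr hxN
  have hBN' : B ≤ Subgroup.normalizer (B' : Set S) := by
    rw [hB', CfsgLib.Transfer.normalizer_map_conj, CfsgLib.Transfer.map_conj_eq_self_iff.mpr hxN]
    exact Subgroup.le_normalizer
  set T := B ⊔ B' with hT
  set C := (T ⊓ commutator S) ⊔ (B ⊓ B') with hC
  have hBcomm : ∀ a ∈ B, ∀ b ∈ B, a * b = b * a := fun a ha b hb =>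
    congrArg Subtype.val (hBmax.1.is_comm.comm ⟨a, ha⟩ ⟨b, hb⟩)
  have hB'comm : ∀ a ∈ B', ∀ b ∈ B', a * b = b * a := by
    rintro _ ⟨a, ha, rfl⟩ _ ⟨b, hb, rfl⟩
    rw [← map_mul, ← map_mul, hBcomm a ha b hb]
  have hDT : B ⊓ B' ≤ Subgroup.centralizer (T : Set S) := by
    rw [Subgroup.le_centralizer_iff, hT]
    exact sup_le (fun b hb d hd => (hBcomm b hb d hd.1).symm)
      (fun b hb d hd => (hB'comm b hb d hd.2).symm)
  have hCT : C ≤ T := sup_le inf_le_left (inf_le_left.trans le_sup_left)
  have hCab : IsMulCommutative C := by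
    have hle : C ≤ Subgroup.centralizer (C : Set S) := by
      refine sup_le ?_ (hDT.trans (Subgroup.centralizer_le hCT))
      rw [Subgroup.le_centralizer_iff]
      refine sup_le (fun a ha b hb => ?_) (hDT.trans (Subgroup.centralizer_le inf_le_left))
      exact congrArg Subtype.val (hmeta.is_comm.comm ⟨b, hb.2⟩ ⟨a, ha.2⟩)
    exact ⟨⟨fun a b => Subtype.ext (hle b.2 (a : S) a.2)⟩⟩
  have hgen : B ⊔ C = T := by
    refine le_antisymm (sup_le le_sup_left hCT) (sup_le le_sup_left ?_)
    rintro _ ⟨b, hb, rfl⟩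
    have hbx : x * b * x⁻¹ ∈ T := Subgroup.mem_sup_right (Subgroup.mem_map_of_mem _ hb)
    have h1 : x * b * x⁻¹ * b⁻¹ ∈ T ⊓ commutator S := by
      refine ⟨T.mul_mem hbx (T.inv_mem (Subgroup.mem_sup_left hb)), ?_⟩
      rw [← commutatorElement_def, commutator_def]
      exact Subgroup.commutator_mem_commutator (Subgroup.mem_top x) (Subgroup.mem_top b)
    have h2 := mul_mem (Subgroup.mem_sup_right (S := B) (Subgroup.mem_sup_left h1) :
      _ ∈ B ⊔ C) (Subgroup.mem_sup_left hb : b ∈ B ⊔ C)
    rwa [inv_mul_cancel_right] at h2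
  have hTN : T ≤ N := sup_le Subgroup.le_normalizer hB'N
  have hrel : ∀ X : Subgroup S, B ⊔ X = T → B.relIndex X = B.relIndex T := by
    intro X hX
    haveI : (B.subgroupOf T).Normal := Subgroup.normal_subgroupOf_of_le_normalizer hTN
    have hXT : X ≤ T := hX ▸ le_sup_right
    rw [← Subgroup.relIndex_subgroupOf hXT, ← Subgroup.relIndex_subgroupOf (le_refl T),
      ← Subgroup.relIndex_sup_left, ← Subgroup.subgroupOf_sup (le_sup_left : B ≤ T) hXT, hX]
  have hcard : Nat.card B ≤ Nat.card C := by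
    have e0 : Nat.card B' = Nat.card B := CfsgLib.Transfer.card_conj_map x B
    have e1 := Subgroup.relIndex_mul_relIndex ⊥ (B ⊓ C) C bot_le inf_le_right
    have e2 := Subgroup.relIndex_mul_relIndex ⊥ (B ⊓ B') B' bot_le inf_le_right
    rw [Subgroup.inf_relIndex_right] at e1 e2
    simp only [Subgroup.relIndex_bot_left] at e1 e2
    rw [hrel C hgen] at e1
    rw [hrel B' rfl] at e2
    rw [← e0, ← e1, ← e2]
    exact Nat.mul_le_mul_right _ (Subgroup.card_le_of_le
      (le_inf inf_le_left le_sup_right))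
  have hTA : T ≤ Subgroup.normalClosure (A : Set S) := by
    refine sup_le hBA ?_
    rintro _ ⟨b, hb, rfl⟩
    exact Subgroup.Normal.conj_mem inferInstance b (hBA hb) x
  have hCmem : C ∈ T₀ := ⟨⟨hCab, fun D hD => (hBmax.2 D hD).trans hcard⟩, hCT.trans hTA⟩
  have heq : B ⊓ commutator S = T ⊓ commutator S := by
    refine Subgroup.eq_of_le_of_card_ge (inf_le_inf_right _ le_sup_left) ?_
    refine le_trans ?_ (hBbest C hCmem)
    exact Subgroup.card_le_of_le (le_inf le_sup_left inf_le_right)
  have hB'le : B' ≤ B := by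
    have h1 : T ≤ B := by
      rw [← hgen, hC]
      exact sup_le le_rfl (sup_le (heq.ge.trans inf_le_left) inf_le_left)
    exact le_sup_right.trans h1
  exact hB'B (Subgroup.eq_of_le_of_card_ge hB'le (by rw [CfsgLib.Transfer.card_conj_map]))

end Cfsg.Agent.S3063
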