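import Cfsg.Statements.S3068
import Cfsg.Agent.Lib.Conjugacy.ThompsonDegree
import Cfsg.Agent.Lib.Conjugacy.KInfTransfer
import Cfsg.Agent.Lib.Fusion.ThompsonControl
import Cfsg.Agent.Lib.Transfer.HallWielandt

set_option autoImplicit false
open Cfsg

namespace Cfsg.Agent.S3068

universe u

open CfsgLib in
/-- `N(J)` controls transfer for `p` at least seven. -/
theorem okJ {p : ℕ} [Fact p.Prime] (hp : 7 ≤ p) (G : Type u) [Group G] [Finite G] :
    Conjugacy.Ok.{u} p {Fusion.jFunctor} G := by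
  have h𝓦 : ∀ W ∈ ({Fusion.jFunctor} : Set (∀ (Q : Type u) [Group Q], Subgroup Q)),
      Cfsg.IsCharPFunctor.{u} p W := by
    rintro W rfl
    exact ⟨Fusion.jFunctor_ne_bot, Fusion.jFunctor_map⟩
  refine Conjugacy.ok_of_core (G₀ := G) h𝓦
    (fun X _ _ _ T => Conjugacy.derived_le_focalJoin h𝓦 ⟨_, rfl⟩ T.2)
    (fun X _ _ _ hIH _ T => ?_) (Conjugacy.Sect.refl G)
  haveI := Fitting.pCore_normal (G := X) p
  have hDp : IsPGroup p (Cfsg.pCore p X) := Fitting.pCore_isPGroup p
  have hDT : Cfsg.pCore p X ≤ (T : Subgroup X) := IsPGroup.le_sylow_of_normal hDp T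
  have hind : Cfsg.inducedFunctor Fusion.jFunctor (T : Subgroup X) =
      Transfer.thompsonJ 0 (T : Subgroup X) :=
    (Fusion.functorOf_jFunctor _).trans (Transfer.thompsonSubgroupAOf_eq _)
  by_contra hbad
  by_cases hle : Transfer.thompsonJ 0 (T : Subgroup X) ≤ Cfsg.pCore p X
  · have heq : Transfer.thompsonJ 0 (T : Subgroup X) = Transfer.thompsonJ 0 (Cfsg.pCore p X) := by
      obtain ⟨A, hA⟩ := Transfer.thompsonJ_nonempty 0 (T : Subgroup X)
      have hall : ∀ B ∈ Transfer.maxAbExp 0 (T : Subgroup X), B ≤ Cfsg.pCore p X := fun B hB =>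
        (le_sSup hB).trans hle
      exact le_antisymm (sSup_le fun B hB => le_sSup ⟨hall B hB, hB.2.1, fun E hE hEe =>
          hB.2.2 E (hE.trans hDT) hEe⟩)
        (sSup_le fun B hB => le_sSup ⟨hB.1.trans hDT, hB.2.1, fun E hE hEe =>
          (hA.2.2 E hE hEe).trans (hB.2.2 A (hall A hA) hA.2.1)⟩)
    refine hbad (le_trans ?_ (Conjugacy.le_focalJoin (Set.mem_singleton _) _))
    have hnorm : Subgroup.normalizer (Cfsg.inducedFunctor Fusion.jFunctor (T : Subgroup X) : Set X) = ⊤ := by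
      rw [hind, heq, eq_top_iff]
      exact (Subgroup.normalizer_eq_top _).ge.trans (Transfer.normalizer_le_normalizer_thompsonJ 0 _)
    rw [hnorm]
    exact le_inf ((Subgroup.commutator_le_left (Cfsg.pCore p X) ⊤).trans hDT)
      (Subgroup.commutator_mono le_top le_rfl)
  obtain ⟨g, hgT, hgD, hg⟩ := Conjugacy.JDeg.exists_sextic T (Cfsg.pCore p X) hDp hle
  refine Conjugacy.no_engel h𝓦 ⟨_, rfl⟩ hIH T hbad hgT hgD fun U V hUV hUD => ?_
  haveI := hUV.2.1
  exact (PStable.iterCommutator_antitone (show 6 ≤ p - 1 by omega)).trans (hg U V hUV hUD)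

/-- Let p ≥ 7 be a prime, S a Sylow p-subgroup of the finite group G, J(S) the subgroup generated by the abelian subgroups of S of largest order and M = N_G(J(S)). Then G/O^p(G) ≅ M/O^p(M): the largest p-factor group of G is that of M (here O^p(X) is the subgroup generated by the elements of X of order prime to p). -/
theorem result {G : Type*} [Group G] [Finite G] {p : ℕ} [Fact p.Prime]
    (hp : 7 ≤ p) (S : Sylow p G)
    [hn : (Cfsg.pResidual p G).Normal]
    [hm : (Cfsg.pResidual p ↥(Subgroup.normalizer (Cfsg.thompsonSubgroupAOf (S : Subgroup G) : Set G))).Normal] :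
    Nonempty (G ⧸ Cfsg.pResidual p G ≃*
      ↥(Subgroup.normalizer (Cfsg.thompsonSubgroupAOf (S : Subgroup G) : Set G)) ⧸
        Cfsg.pResidual p ↥(Subgroup.normalizer (Cfsg.thompsonSubgroupAOf (S : Subgroup G) : Set G))) := by
  set N := Subgroup.normalizer (Cfsg.thompsonSubgroupAOf (S : Subgroup G) : Set G) with hN
  have hind : Cfsg.inducedFunctor CfsgLib.Fusion.jFunctor (S : Subgroup G) =
      Cfsg.thompsonSubgroupAOf (S : Subgroup G) := CfsgLib.Fusion.functorOf_jFunctor _
  have hfoc := CfsgLib.Conjugacy.inf_commutator_eq_of_ok (okJ hp G) S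
  rw [hind] at hfoc
  have hSN : (S : Subgroup G) ≤ N := by
    rw [hN, CfsgLib.Transfer.thompsonSubgroupAOf_eq]
    exact Subgroup.le_normalizer.trans (CfsgLib.Transfer.normalizer_le_normalizer_thompsonJ 0 _)
  have hres := CfsgLib.Transfer.pResidualOf_eq_of_focal S hSN (hfoc.le.trans inf_le_right)
  set f : ↥N →* G ⧸ Cfsg.pResidual p G := (QuotientGroup.mk' _).comp N.subtype with hf
  have hker : f.ker = Cfsg.pResidual p ↥N := by
    apply Subgroup.map_injective N.subtype_injective
    refine Eq.trans ?_ hres.symm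
    ext x
    constructor
    · rintro ⟨y, hy, rfl⟩
      exact ⟨(QuotientGroup.eq_one_iff _).mp hy, y.2⟩
    · rintro ⟨hx, hxN⟩
      exact ⟨⟨x, hxN⟩, (QuotientGroup.eq_one_iff _).mpr hx, rfl⟩
  have hsurj : Function.Surjective f := by
    intro q
    obtain ⟨x, rfl⟩ := QuotientGroup.mk'_surjective _ q
    obtain ⟨a, ha, b, hb, rfl⟩ := Subgroup.mem_sup_of_normal_right.mp
      ((CfsgLib.Transfer.sylow_sup_pResidual S).ge (Subgroup.mem_top x))
    refine ⟨⟨a, hSN ha⟩, ?_⟩
    rw [map_mul, show QuotientGroup.mk' (Cfsg.pResidual p G) b = 1 from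
      (QuotientGroup.eq_one_iff b).mpr hb, mul_one]
    rfl
  exact ⟨((QuotientGroup.quotientMulEquivOfEq hker.symm).trans
    (QuotientGroup.quotientKerEquivOfSurjective f hsurj)).symm⟩

end Cfsg.Agent.S3068
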