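import Cfsg.Statements.S3070
import Cfsg.Agent.Lib.Conjugacy.JFive
import Cfsg.Agent.Lib.Conjugacy.Complement
import Cfsg.Agent.Lib.Conjugacy.KInfComplement
import Cfsg.Agent.Lib.Fusion.ThompsonControl
import Cfsg.Agent.Lib.Transfer.Frobenius

set_option autoImplicit false
open Cfsg

namespace Cfsg.Agent.S3070

universe u

open CfsgLib CfsgLib.Transfer in
theorem hyp_of_centralizes {p : ℕ} [Fact p.Prime] {G : Type u} [Group G] [Finite G] (S : Sylow p G)
    (h : ∀ g ∈ Subgroup.normalizer (thompsonJ 0 (S : Subgroup G) : Set G), (orderOf g).Coprime p →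
      g ∈ Subgroup.centralizer (thompsonJ 0 (S : Subgroup G) : Set G)) :
    Conjugacy.Hyp p Fusion.jFunctor (S : Subgroup G) := by
  have hind : Cfsg.inducedFunctor Fusion.jFunctor (S : Subgroup G) =
      thompsonJ 0 (S : Subgroup G) :=
    (Fusion.functorOf_jFunctor _).trans (thompsonSubgroupAOf_eq _)
  unfold Conjugacy.Hyp
  rw [hind]
  set K := thompsonJ 0 (S : Subgroup G) with hK
  set N := Subgroup.normalizer (K : Set G) with hN
  have hKS : K ≤ (S : Subgroup G) := thompsonJ_le 0 _
  have hSN : (S : Subgroup G) ≤ N :=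
    Subgroup.le_normalizer.trans (normalizer_le_normalizer_thompsonJ 0 _)
  set C := (Subgroup.centralizer (K : Set G)).subgroupOf N with hC
  have hinN : ∀ x ∈ Subgroup.centralizer (K : Set G), x ∈ (S : Subgroup G) → x ∈ K := fun x hx hxS => by
    obtain ⟨A, hA⟩ := thompsonJ_nonempty 0 (S : Subgroup G)
    have hAK : A ≤ K := le_sSup hA
    exact hAK (ZJ.mem_of_commute hA hxS (pow_zero x) fun a ha => hx a (hAK ha))
  obtain ⟨P⟩ : Nonempty (Sylow p C) := inferInstance
  have hPK : ∀ x : C, x ∈ (P : Subgroup C) → ((x : N) : G) ∈ K := by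
    intro x hx
    set R := ((P : Subgroup C).map C.subtype).map N.subtype ⊔ K with hR
    have hPc : ((P : Subgroup C).map C.subtype).map N.subtype ≤ Subgroup.centralizer (K : Set G) := by
      rintro _ ⟨_, ⟨y, -, rfl⟩, rfl⟩
      exact y.2
    have hRp : IsPGroup p R := IsPGroup.to_sup_of_normal_right' ((P.2.map _).map _) (S.2.to_le hKS)
      (hPc.trans (Subgroup.centralizer_le_normalizer _))
    have hRN : R ≤ N := sup_le (Subgroup.map_subtype_le _) (hKS.trans hSN)
    obtain ⟨n, hn, hnR⟩ := Conjugacy.exists_cj_le_of_relIndex hSN S.2 (S.subtype hSN).not_dvd_index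
      hRN hRp
    have hxR : ((x : N) : G) ∈ R :=
      Subgroup.mem_sup_left (Subgroup.mem_map_of_mem _ (Subgroup.mem_map_of_mem _ hx))
    have h1 : n * ((x : N) : G) * n⁻¹ ∈ Subgroup.centralizer (K : Set G) := fun k hk => by
      have hk' : n⁻¹ * k * n ∈ K := (Subgroup.mem_normalizer_iff''.mp hn k).mp hk
      have e : n⁻¹ * k * n * ((x : N) : G) = ((x : N) : G) * (n⁻¹ * k * n) :=
        (x.2 : ((x : N) : G) ∈ Subgroup.centralizer (K : Set G)) _ hk'
      calc k * (n * ((x : N) : G) * n⁻¹) = n * ((n⁻¹ * k * n) * ((x : N) : G)) * n⁻¹ := by group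
        _ = n * (((x : N) : G) * (n⁻¹ * k * n)) * n⁻¹ := by rw [e]
        _ = n * ((x : N) : G) * n⁻¹ * k := by group
    exact (Subgroup.mem_normalizer_iff.mp hn _).mpr
      (hinN _ h1 (hnR (Conjugacy.conj_mem_cj hxR)))
  have hCnpc : Cfsg.HasNormalPComplement p C := by
    refine hasNormalPComplement_of_normalizer_le_centralizer P fun g _ x hx => ?_
    exact Subtype.ext (Subtype.ext ((g.2 : ((g : N) : G) ∈ Subgroup.centralizer (K : Set G)) _
      (hPK x hx)))
  rw [hasNormalPComplement_iff_pResidual] at hCnpc ⊢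
  intro hd
  refine hCnpc (hd.trans ?_)
  rw [← Subgroup.card_map_of_injective C.subtype_injective]
  refine Subgroup.card_dvd_of_le ?_
  rw [Cfsg.pResidual, Subgroup.closure_le]
  intro y hy
  have hyC : y ∈ C := h (y : G) y.2 (by rwa [Subgroup.orderOf_coe])
  exact ⟨⟨y, hyC⟩, mem_pResidual_of_coprime (by
    rw [← Subgroup.orderOf_coe]
    exact hy), rfl⟩

open CfsgLib CfsgLib.Transfer in
theorem complement_of_hyp {p : ℕ} [Fact p.Prime] (hp : 5 ≤ p) {G : Type u} [Group G] [Finite G]
    (S : Sylow p G) (h : Conjugacy.Hyp p Fusion.jFunctor (S : Subgroup G)) :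
    Cfsg.HasNormalPComplement p G := by
  refine Conjugacy.hasNormalPComplement_of_critical ⟨Fusion.jFunctor_ne_bot, Fusion.jFunctor_map⟩ S h
    fun X _ _ T _ hX => ?_
  haveI hDn := Fitting.pCore_normal (G := X) p
  have hDT : Cfsg.pCore p X ≤ (T : Subgroup X) :=
    IsPGroup.le_sylow_of_normal (Fitting.pCore_isPGroup p) T
  have hle := Conjugacy.JFive.thompsonJ_le_pCore hp T hX.constrained hX.abelian
  have heq : thompsonJ 0 (T : Subgroup X) = thompsonJ 0 (Cfsg.pCore p X) := by
    obtain ⟨A, hA⟩ := thompsonJ_nonempty 0 (T : Subgroup X)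
    have hall : ∀ B ∈ maxAbExp 0 (T : Subgroup X), B ≤ Cfsg.pCore p X := fun B hB =>
      (le_sSup hB).trans hle
    exact le_antisymm (sSup_le fun B hB => le_sSup ⟨hall B hB, hB.2.1, fun E hE hEe =>
        hB.2.2 E (hE.trans hDT) hEe⟩)
      (sSup_le fun B hB => le_sSup ⟨hB.1.trans hDT, hB.2.1, fun E hE hEe =>
        (hA.2.2 E hE hEe).trans (hB.2.2 A (hall A hA) hA.2.1)⟩)
  refine hasNPC_top.mp (hasNPC_of_le ?_ hX.hyp)
  rw [show Cfsg.inducedFunctor Fusion.jFunctor (T : Subgroup X) = thompsonJ 0 (T : Subgroup X) from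
    (Fusion.functorOf_jFunctor _).trans (thompsonSubgroupAOf_eq _), heq]
  exact (Subgroup.normalizer_eq_top _).ge.trans (normalizer_le_normalizer_thompsonJ 0 _)

/-- Let p ≥ 5 be a prime, S a Sylow p-subgroup of the finite group G and J(S) the subgroup generated by the abelian subgroups of S of largest order. Then G has a normal p-complement if and only if N_G(J(S))/C_G(J(S)) is a p-group (every element of N_G(J(S)) of order prime to p centralizes J(S)). -/
theorem result {G : Type*} [Group G] [Finite G] {p : ℕ} [Fact p.Prime]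
    (hp : 5 ≤ p) (S : Sylow p G) :
    Cfsg.HasNormalPComplement p G ↔
      ∀ g ∈ Subgroup.normalizer (Cfsg.thompsonSubgroupAOf (S : Subgroup G) : Set G), (orderOf g).Coprime p →
        g ∈ Subgroup.centralizer (Cfsg.thompsonSubgroupAOf (S : Subgroup G) : Set G) := by
  open CfsgLib CfsgLib.Transfer in
  constructor
  · intro hG g hg hgo
    rw [CfsgLib.Transfer.hasNormalPComplement_iff_pResidual] at hG
    haveI := CfsgLib.Transfer.pResidual_normal p G
    have hR : g ∈ Cfsg.pResidual p G := CfsgLib.Transfer.mem_pResidual_of_coprime hgo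
    have hRc : (Nat.card (Cfsg.pResidual p G)).Coprime p :=
      ((Fact.out : p.Prime).coprime_iff_not_dvd.mpr hG).symm
    have hJp : IsPGroup p (Cfsg.thompsonSubgroupAOf (S : Subgroup G)) := by
      rw [CfsgLib.Transfer.thompsonSubgroupAOf_eq]
      exact S.2.to_le (CfsgLib.Transfer.thompsonJ_le 0 _)
    intro j hj
    have h1 : g * j * g⁻¹ * j⁻¹ ∈ Cfsg.thompsonSubgroupAOf (S : Subgroup G) :=
      mul_mem ((Subgroup.mem_normalizer_iff.mp hg j).mp hj) (inv_mem hj)
    have h2 : g * j * g⁻¹ * j⁻¹ ∈ Cfsg.pResidual p G := by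
      rw [show g * j * g⁻¹ * j⁻¹ = g * (j * g⁻¹ * j⁻¹) by group]
      exact mul_mem hR (Subgroup.Normal.conj_mem inferInstance _ (inv_mem hR) j)
    have h3 := CfsgLib.PSolvable.eq_one_of_mem_of_mem hJp hRc h1 h2
    rw [mul_inv_eq_one, mul_inv_eq_iff_eq_mul] at h3
    exact h3.symm
  · intro h
    rw [CfsgLib.Transfer.thompsonSubgroupAOf_eq] at h
    exact complement_of_hyp hp S (hyp_of_centralizes S h)

end Cfsg.Agent.S3070
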