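import Cfsg.Statements.S3074
import Cfsg.Agent.Lib.Qd.Upper

set_option autoImplicit false
open Cfsg

namespace Cfsg.Agent.S3074

/-- Let p be an odd prime. A Sylow p-subgroup of Qd(p), the split extension of an elementary abelian group of order p² by SL₂(p) acting naturally, is extraspecial of order p³ and exponent p. -/
theorem result (p : ℕ) [Fact p.Prime] (hp : p ≠ 2) (P : Sylow p ↥(Cfsg.qd p)) :
    Cfsg.IsExtraspecial p ↥P ∧ Nat.card P = p ^ 3 ∧ Monoid.exponent ↥P = p := by
  obtain ⟨g, hg⟩ := CfsgLib.Qd.exists_equiv_upper P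
  let e : CfsgLib.Qd.upper p ≃* ↥(P : Subgroup ↥(Cfsg.qd p)) :=
    ((CfsgLib.Qd.upper p).equivMapOfInjective _ (MulAut.conj g).injective).trans
      (MulEquiv.subgroupCongr hg)
  obtain ⟨⟨hp', hfr, hcm⟩, hc⟩ := CfsgLib.Qd.isExtraspecial_upper (p := p) hp
  have hcen : (Subgroup.center ↥(CfsgLib.Qd.upper p)).map e.toMonoidHom = Subgroup.center P := by
    ext x
    rw [Subgroup.mem_map_equiv, Subgroup.mem_center_iff, Subgroup.mem_center_iff]
    refine ⟨fun h y => e.symm.injective (by rw [map_mul, map_mul]; exact h _), fun h y => e.injective ?_⟩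
    rw [map_mul, map_mul, e.apply_symm_apply]
    exact h _
  have hfrm : (frattini ↥(CfsgLib.Qd.upper p)).map e.toMonoidHom = frattini P := by
    refine le_antisymm (Subgroup.map_le_iff_le_comap.mpr
      (frattini_le_comap_frattini_of_surjective e.surjective)) fun x hx => ?_
    exact Subgroup.mem_map_equiv.mpr (frattini_le_comap_frattini_of_surjective (φ := e.symm.toMonoidHom) e.symm.surjective hx)
  show Cfsg.IsExtraspecial p ↥(P : Subgroup ↥(Cfsg.qd p)) ∧
    Nat.card ↥(P : Subgroup ↥(Cfsg.qd p)) = p ^ 3 ∧ Monoid.exponent ↥(P : Subgroup ↥(Cfsg.qd p)) = p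
  refine ⟨⟨⟨P.2, ?_, ?_⟩, ?_⟩, ?_, ?_⟩
  · rw [← hfrm, hfr, hcen]
  · rw [← hcen, ← hcm, commutator_def, commutator_def, Subgroup.map_commutator,
      Subgroup.map_top_of_surjective _ e.surjective]
  · rw [← hcen, Subgroup.card_map_of_injective e.injective, hc]
  · rw [← Nat.card_congr e.toEquiv, CfsgLib.Qd.card_upper]
  · rw [← Monoid.exponent_eq_of_mulEquiv e, CfsgLib.Qd.exponent_upper hp]

end Cfsg.Agent.S3074
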