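import Mathlib
import Cfsg.Statements.S3075

set_option autoImplicit false
set_option linter.style.haveILetI false
set_option linter.unusedVariables false
open Cfsg

open scoped commutatorElement

namespace Cfsg.Agent.S3075

theorem commutator_centralizes_of_cyclic {N : Type*} [Group N] {f : N}
    (hn : ∀ n : N, n * f * n⁻¹ ∈ Subgroup.zpowers f) (a b : N) :
    a * b * f * (a * b)⁻¹ = b * a * f * (b * a)⁻¹ := by
  obtain ⟨i, hi⟩ := hn a
  obtain ⟨j, hj⟩ := hn b
  change f ^ i = _ at hi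
  change f ^ j = _ at hj
  calc a * b * f * (a * b)⁻¹ = a * (b * f * b⁻¹) * a⁻¹ := by group
    _ = (f ^ i) ^ j := by rw [← hj, ← conj_zpow, hi]
    _ = (f ^ j) ^ i := by rw [← zpow_mul, ← zpow_mul, mul_comm]
    _ = b * (a * f * a⁻¹) * b⁻¹ := by rw [← hi, ← conj_zpow, hj]
    _ = _ := by group

/-- Let p be an odd prime and N a finite group with a normal elementary abelian subgroup A of order p² that is its own centralizer in N, such that N/A is isomorphic to SL₂(p) (over any field F with p elements). Then N splits over A: some subgroup U of N satisfies A ∩ U = 1 and AU = N. -/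
theorem result {N : Type*} [Group N] [Finite N] {p : ℕ} [Fact p.Prime] (hp : p ≠ 2)
    (A : Subgroup N) [A.Normal] (hAcomm : IsMulCommutative A) (hAcard : Nat.card A = p ^ 2) (hAexp : Monoid.exponent ↥A = p)
    (hAself : Subgroup.centralizer (A : Set N) = A)
    {F : Type*} [Field F] [Fintype F] (hF : Fintype.card F = p) (e : N ⧸ A ≃* Matrix.SpecialLinearGroup (Fin 2) F) :
    ∃ U : Subgroup N, A ⊓ U = ⊥ ∧ A ⊔ U = ⊤ := by
  classical
  have hA : ∀ a ∈ A, ∀ b ∈ A, a * b = b * a := fun a ha b hb =>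
    congrArg Subtype.val (hAcomm.is_comm.comm (⟨a, ha⟩ : A) ⟨b, hb⟩)
  have hAp : ∀ a ∈ A, a ^ p = 1 := fun a ha => by
    have := Monoid.pow_exponent_eq_one (⟨a, ha⟩ : A)
    rw [hAexp] at this
    simpa using congrArg Subtype.val this
  have hodd : Odd p := (Fact.out : p.Prime).odd_of_ne_two hp
  have hsqA : ∀ a ∈ A, a * a = 1 → a = 1 := by
    intro a ha h
    obtain ⟨k, hk⟩ := hodd
    have h1 := hAp a ha
    rwa [hk, pow_succ, pow_mul, pow_two, h, one_pow, one_mul] at h1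
  have hF2 : (2 : F) ≠ 0 := by
    intro h
    have h1 : ringChar F = 2 := by
      rcases (Nat.dvd_prime Nat.prime_two).mp (ringChar.dvd (R := F) (x := 2) (by exact_mod_cast h)) with h1 | h1
      · exact absurd h1 CharP.ringChar_ne_one
      · exact h1
    obtain ⟨n, -, hn⟩ := FiniteField.card F (ringChar F)
    rw [h1, hF] at hn
    rw [hn] at hodd
    exact absurd hodd (Nat.not_odd_iff_even.mpr (Nat.even_pow.mpr ⟨even_two, n.ne_zero⟩))
  set c : Matrix.SpecialLinearGroup (Fin 2) F := -1 with hc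
  have hc1 : c ≠ 1 := by
    intro h
    have := congrArg (fun M : Matrix.SpecialLinearGroup (Fin 2) F => (M : Matrix (Fin 2) (Fin 2) F) 0 0) h
    simp [hc] at this
    exact hF2 (by linear_combination -this)
  have hc2 : c * c = 1 := by rw [hc]; simp
  have hcc : ∀ x : Matrix.SpecialLinearGroup (Fin 2) F, x * c = c * x := fun x => by rw [hc]; simp
  obtain ⟨n₀, hn₀⟩ := QuotientGroup.mk_surjective (e.symm c)
  obtain ⟨k, hk⟩ := hodd
  set τ := n₀ ^ p with hτ
  have hq2 : ∀ x : N, e (x : N ⧸ A) = c → x * x ∈ A := fun x hx => by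
    rw [← QuotientGroup.eq_one_iff, QuotientGroup.mk_mul]
    exact e.injective (by rw [map_mul, hx, hc2, map_one])
  have hn₀c : e (n₀ : N ⧸ A) = c := by rw [hn₀, MulEquiv.apply_symm_apply]
  have hτc : e (τ : N ⧸ A) = c := by
    rw [hτ, QuotientGroup.mk_pow, map_pow, hn₀c, hk, pow_succ, pow_mul, pow_two, hc2, one_pow, one_mul]
  have hττ : τ * τ = 1 := by
    rw [hτ, ← pow_two, ← pow_mul, mul_comm, pow_mul, pow_two]
    exact hAp _ (hq2 n₀ hn₀c)
  have hτi : τ⁻¹ = τ := inv_eq_of_mul_eq_one_right hττ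
  have hτA : τ ∉ A := fun h => hc1 (by
    rw [← hτc, (QuotientGroup.eq_one_iff _).mpr h, map_one])
  have hcong : ∀ n : N, τ⁻¹ * (n⁻¹ * τ * n) ∈ A := fun n => by
    rw [← QuotientGroup.eq_one_iff]
    simp only [QuotientGroup.mk_mul, QuotientGroup.mk_inv]
    apply e.injective
    rw [map_one, map_mul, map_mul, map_mul, map_inv, map_inv, hτc, mul_assoc (e _)⁻¹, ← hcc,
      inv_mul_cancel_left, inv_mul_cancel]
  -- conjugation by `τ` commutes with conjugation on `A`
  have hequiv : ∀ n : N, ∀ a ∈ A, τ * (n * a * n⁻¹) * τ⁻¹ = n * (τ * a * τ⁻¹) * n⁻¹ := by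
    intro n a ha
    obtain ⟨d, hd, hdn⟩ : ∃ d ∈ A, n⁻¹ * τ * n = τ * d :=
      ⟨_, hcong n, by group⟩
    have h2 : d * a * d⁻¹ = a := by rw [hA d hd a ha]; group
    calc τ * (n * a * n⁻¹) * τ⁻¹ = n * ((n⁻¹ * τ * n) * a * (n⁻¹ * τ * n)⁻¹) * n⁻¹ := by group
      _ = n * (τ * (d * a * d⁻¹) * τ⁻¹) * n⁻¹ := by rw [hdn]; group
      _ = _ := by rw [h2]
  let K : Subgroup N :=
    { carrier := {a | a ∈ A ∧ τ * a * τ⁻¹ = a}
      one_mem' := ⟨A.one_mem, by group⟩
      mul_mem' := fun {a b} ha hb => ⟨A.mul_mem ha.1 hb.1, by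
        calc τ * (a * b) * τ⁻¹ = (τ * a * τ⁻¹) * (τ * b * τ⁻¹) := by group
          _ = a * b := by rw [ha.2, hb.2]⟩
      inv_mem' := fun {a} ha => ⟨A.inv_mem ha.1, by
        calc τ * a⁻¹ * τ⁻¹ = (τ * a * τ⁻¹)⁻¹ := by group
          _ = a⁻¹ := by rw [ha.2]⟩ }
  let I : Subgroup N :=
    { carrier := {a | a ∈ A ∧ τ * a * τ⁻¹ = a⁻¹}
      one_mem' := ⟨A.one_mem, by group⟩
      mul_mem' := fun {a b} ha hb => ⟨A.mul_mem ha.1 hb.1, by
        calc τ * (a * b) * τ⁻¹ = (τ * a * τ⁻¹) * (τ * b * τ⁻¹) := by group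
          _ = a⁻¹ * b⁻¹ := by rw [ha.2, hb.2]
          _ = (a * b)⁻¹ := by rw [mul_inv_rev, hA _ (A.inv_mem ha.1) _ (A.inv_mem hb.1)]⟩
      inv_mem' := fun {a} ha => ⟨A.inv_mem ha.1, by
        calc τ * a⁻¹ * τ⁻¹ = (τ * a * τ⁻¹)⁻¹ := by group
          _ = a⁻¹⁻¹ := by rw [ha.2]⟩ }
  have hKI : ∀ a ∈ K, a ∈ I → a = 1 := fun a ha hb => hsqA a ha.1 (by
    have h : a = a⁻¹ := ha.2.symm.trans hb.2
    nth_rw 1 [h]
    group)
  -- squares split
  have hsplit : ∀ a ∈ A, ∃ b ∈ K, ∃ d ∈ I, a = b * d := by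
    intro a ha
    have hta : τ * a * τ⁻¹ ∈ A := Subgroup.Normal.conj_mem inferInstance a ha τ
    have hinv2 : τ * (τ * a * τ⁻¹) * τ⁻¹ = a := by
      rw [hτi]
      calc τ * (τ * a * τ) * τ = (τ * τ) * a * (τ * τ) := by group
        _ = a := by rw [hττ]; group
    set u := τ * a * τ⁻¹ with hu
    have hb : a * u ∈ K := ⟨A.mul_mem ha hta, by
      rw [conj_mul.symm, ← hu, hinv2, hA _ hta _ ha]⟩
    have hd : a * u⁻¹ ∈ I := ⟨A.mul_mem ha (A.inv_mem hta), by
      rw [conj_mul.symm, ← hu, ← conj_inv, hinv2, mul_inv_rev, inv_inv]⟩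
    refine ⟨(a * u) ^ (k + 1), K.pow_mem hb _, (a * u⁻¹) ^ (k + 1), I.pow_mem hd _, ?_⟩
    have hc' : Commute (a * u) (a * u⁻¹) := hA _ hb.1 _ hd.1
    rw [← hc'.mul_pow]
    have e1 : a * u * (a * u⁻¹) = a ^ 2 := by
      rw [hA _ ha _ hta, mul_assoc, ← mul_assoc a a, hA _ (A.mul_mem ha ha) _ (A.inv_mem hta),
        mul_inv_cancel_left, pow_two]
    rw [e1, ← pow_mul, show 2 * (k + 1) = (2 * k + 1) + 1 by ring, ← hk, pow_succ, hAp a ha, one_mul]
  have hK : ∀ a ∈ K, a = 1 := by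
    by_contra hcon
    push Not at hcon
    obtain ⟨f, hf, hf1⟩ := hcon
    haveI := Fintype.ofFinite N
    have hKle : K ≤ A := fun a ha => ha.1
    have hIle : I ≤ A := fun a ha => ha.1
    have hKA : K ≠ A := fun h => by
      refine hτA (hAself ▸ Subgroup.mem_centralizer_iff.mpr fun a ha => ?_)
      have : a ∈ K := by rw [h]; exact ha
      exact (mul_inv_eq_iff_eq_mul.mp this.2).symm
    obtain ⟨g, hg, hg1⟩ : ∃ g ∈ I, g ≠ 1 := by
      by_contra h
      push Not at h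
      refine hKA (le_antisymm hKle fun a ha => ?_)
      obtain ⟨b, hb, d, hd, rfl⟩ := hsplit a ha
      rw [h d hd, mul_one]
      exact hb
    have hcyc : ∀ (J : Subgroup N) (x : N), x ∈ J → x ≠ 1 → J ≤ A → J ≠ A →
        J = Subgroup.zpowers x := by
      intro J x hx hx1 hle hne
      have hJp : Nat.card J = p := by
        have hd := Subgroup.card_dvd_of_le hle
        rw [hAcard] at hd
        obtain ⟨i, hi, hJ⟩ := (Nat.dvd_prime_pow (Fact.out : p.Prime)).mp hd
        interval_cases i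
        · exfalso
          rw [pow_zero, Subgroup.card_eq_one] at hJ
          rw [hJ, Subgroup.mem_bot] at hx
          exact hx1 hx
        · rw [hJ, pow_one]
        · exact absurd (Subgroup.eq_of_le_of_card_ge hle (by rw [hJ, hAcard])) hne
      refine (Subgroup.eq_of_le_of_card_ge (Subgroup.zpowers_le.mpr hx) ?_).symm
      rw [hJp, Nat.card_zpowers, orderOf_eq_prime (hAp x (hle hx)) hx1]
    have hIA : I ≠ A := fun h => hf1 (hKI f hf (by rw [h]; exact hf.1))
    have eK := hcyc K f hf hf1 hKle hKA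
    have eI := hcyc I g hg hg1 hIle hIA
    have hKn : ∀ n : N, n * f * n⁻¹ ∈ Subgroup.zpowers f := fun n => eK ▸
      (show n * f * n⁻¹ ∈ K from ⟨Subgroup.Normal.conj_mem inferInstance f hf.1 n, by
        rw [hequiv n f hf.1, hf.2]⟩)
    have hIn : ∀ n : N, n * g * n⁻¹ ∈ Subgroup.zpowers g := fun n => eI ▸
      (show n * g * n⁻¹ ∈ I from ⟨Subgroup.Normal.conj_mem inferInstance g hg.1 n, by
        rw [hequiv n g hg.1, hg.2]; group⟩)
    have hall : ∀ a b : N, (a * b)⁻¹ * (b * a) ∈ A := by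
      intro a b
      have key : ∀ v : N, a * b * v * (a * b)⁻¹ = b * a * v * (b * a)⁻¹ →
          Commute ((a * b)⁻¹ * (b * a)) v := by
        intro v h
        calc (a * b)⁻¹ * (b * a) * v = (a * b)⁻¹ * (b * a * v * (b * a)⁻¹) * (b * a) := by group
          _ = (a * b)⁻¹ * (a * b * v * (a * b)⁻¹) * (b * a) := by rw [h]
          _ = _ := by group
      have h1 := key f (commutator_centralizes_of_cyclic hKn a b)
      have h2 := key g (commutator_centralizes_of_cyclic hIn a b)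
      rw [← hAself]
      refine Subgroup.mem_centralizer_iff.mpr fun x hx => ?_
      obtain ⟨u, hu, w, hw, rfl⟩ := hsplit x hx
      rw [eK] at hu
      rw [eI] at hw
      obtain ⟨i, rfl⟩ := hu
      obtain ⟨j, rfl⟩ := hw
      exact ((h1.zpow_right i).mul_right (h2.zpow_right j)).eq.symm
    -- `SL(2, F)` is not abelian
    obtain ⟨x, hx⟩ := QuotientGroup.mk_surjective
      (e.symm (⟨!![1, 1; 0, 1], by simp [Matrix.det_fin_two]⟩ : Matrix.SpecialLinearGroup (Fin 2) F))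
    obtain ⟨y, hy⟩ := QuotientGroup.mk_surjective
      (e.symm (⟨!![1, 0; 1, 1], by simp [Matrix.det_fin_two]⟩ : Matrix.SpecialLinearGroup (Fin 2) F))
    have h := congrArg e (QuotientGroup.eq.mpr (hall x y))
    rw [QuotientGroup.mk_mul, QuotientGroup.mk_mul, map_mul, map_mul, hx, hy] at h
    erw [MulEquiv.apply_symm_apply, MulEquiv.apply_symm_apply] at h
    have h' := congrArg (fun M : Matrix.SpecialLinearGroup (Fin 2) F => (M : Matrix (Fin 2) (Fin 2) F) 0 0) h
    change (!![1, 1; 0, 1] * !![1, 0; 1, 1] : Matrix (Fin 2) (Fin 2) F) 0 0 =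
      (!![1, 0; 1, 1] * !![1, 1; 0, 1] : Matrix (Fin 2) (Fin 2) F) 0 0 at h'
    simp [Matrix.mul_apply, Fin.sum_univ_two] at h'
  refine ⟨Subgroup.centralizer ({τ} : Set N), ?_, top_le_iff.mp fun n _ => ?_⟩
  · rw [eq_bot_iff]
    rintro a ⟨ha, haC⟩
    refine Subgroup.mem_bot.mpr (hK a ⟨ha, ?_⟩)
    rw [← Subgroup.mem_centralizer_singleton_iff.mp haC, mul_inv_cancel_right]
  · have hinvA : ∀ a ∈ A, τ * a * τ⁻¹ = a⁻¹ := by
      intro a ha
      obtain ⟨b, hb, d, hd, rfl⟩ := hsplit a ha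
      rw [hK b hb, one_mul]
      exact hd.2
    obtain ⟨a, ha, hna⟩ : ∃ a ∈ A, n * τ * n⁻¹ = a * τ := by
      refine ⟨n * τ * n⁻¹ * τ⁻¹, ?_, by group⟩
      have h := Subgroup.Normal.conj_mem (inferInstance : A.Normal) _
        (Subgroup.Normal.conj_mem (inferInstance : A.Normal) _ (A.inv_mem (hcong n)) n) τ
      convert h using 1
      group
    set b := a ^ (k + 1) with hb
    have hbb : b * b = a := by
      rw [hb, ← pow_add, show k + 1 + (k + 1) = 2 * k + 1 + 1 by ring, ← hk, pow_succ, hAp a ha, one_mul]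
    have hbA : b ∈ A := A.pow_mem ha _
    have h1 : b * τ * b⁻¹ = n * τ * n⁻¹ := by
      have h2 := hinvA b⁻¹ (A.inv_mem hbA)
      rw [inv_inv] at h2
      calc b * τ * b⁻¹ = b * (τ * b⁻¹ * τ⁻¹) * τ := by group
        _ = a * τ := by rw [h2, hbb]
        _ = _ := hna.symm
    have h3 : b⁻¹ * n ∈ Subgroup.centralizer ({τ} : Set N) := by
      refine Subgroup.mem_centralizer_singleton_iff.mpr ?_
      calc b⁻¹ * n * τ = b⁻¹ * (n * τ * n⁻¹) * n := by group
        _ = b⁻¹ * (b * τ * b⁻¹) * n := by rw [h1]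
        _ = _ := by group
    have := Subgroup.mul_mem_sup hbA h3
    rwa [mul_inv_cancel_left] at this

end Cfsg.Agent.S3075
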