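import Cfsg.Statements.S3076
import Cfsg.Agent.Lib.PSolvable.Core
import Cfsg.Agent.Lib.Layer.CharPSubnormal

set_option autoImplicit false
open Cfsg
set_option linter.style.haveILetI false

namespace Cfsg.Agent.S3076

theorem core {A : Type*} [Group A] [Finite A] {p : ℕ} [Fact p.Prime] (P : Sylow p A) (H C : Subgroup A)
    [H.Normal] [C.Normal] (hC : C = Subgroup.centralizer (H : Set A)) (hH : IsPGroup p H) :
    (H ≤ (Cfsg.pCore p (A ⧸ C)).comap (QuotientGroup.mk' C) ∧
      ¬ p ∣ H.relIndex ((Cfsg.pCore p (A ⧸ C)).comap (QuotientGroup.mk' C))) ↔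
    ((P : Subgroup A) ⊓ C ≤ H ∧ Cfsg.pPrimePCore p A = H ⊔ C) := by
  set R := (Cfsg.pCore p (A ⧸ C)).comap (QuotientGroup.mk' C) with hR
  set K := Cfsg.pPrimeCore p A with hK
  haveI := CfsgLib.Transfer.pPrimeCore_normal p A
  haveI := CfsgLib.Fitting.pCore_normal (G := A ⧸ C) p
  haveI : R.Normal := Subgroup.Normal.comap inferInstance _
  have hCR : C ≤ R := (QuotientGroup.ker_mk' C).ge.trans (Subgroup.ker_le_comap _ _)
  have hHP : H ≤ P := IsPGroup.le_sylow_of_normal hH P
  have hKC : K ≤ C := by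
    rw [hC]
    intro k hk
    rw [Subgroup.mem_centralizer_iff]
    intro h hh
    exact Subgroup.commute_of_normal_of_disjoint H K inferInstance inferInstance
      (Subgroup.disjoint_def.mpr fun {x} hx hx' => CfsgLib.PSolvable.eq_one_of_mem_of_mem hH
        (CfsgLib.Transfer.pPrimeCore_coprime p) hx hx') h k hh hk
  have hRC : ∀ r ∈ R, ∃ n : ℕ, r ^ p ^ n ∈ C := by
    intro r hr
    obtain ⟨n, hn⟩ := CfsgLib.Fitting.pCore_isPGroup p
      (⟨QuotientGroup.mk' C r, hr⟩ : Cfsg.pCore p (A ⧸ C))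
    refine ⟨n, (QuotientGroup.eq_one_iff _).mp ?_⟩
    rw [QuotientGroup.mk_pow]
    exact congrArg Subtype.val hn
  have hppc : (P : Subgroup A) ⊓ C ≤ H → Cfsg.pPrimePCore p A = R := by
    intro hPC
    have hCK : ∀ c ∈ C, ∃ n : ℕ, c ^ p ^ n ∈ K := by
      obtain ⟨Q⟩ := (inferInstance : Nonempty (Sylow p C))
      have hQH : ∀ q ∈ (Q : Subgroup C), (q : A) ∈ H := by
        obtain ⟨Q', hQ'⟩ := IsPGroup.exists_le_sylow (Q.2.map C.subtype)
        obtain ⟨g, hg⟩ := MulAction.exists_smul_eq A P Q'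
        intro q hq
        have h1 : (q : A) ∈ ((g • P : Sylow p A) : Subgroup A) := hg ▸ hQ' ⟨q, hq, rfl⟩
        rw [Sylow.coe_subgroup_smul] at h1
        obtain ⟨x, hx, hxq⟩ := h1
        have hxq' : g * x * g⁻¹ = (q : A) := hxq
        have hxC : x ∈ C := by
          have := (inferInstance : C.Normal).conj_mem _ q.2 g⁻¹
          rw [← hxq'] at this
          simpa [mul_assoc] using this
        rw [← hxq']
        exact (inferInstance : H.Normal).conj_mem _ (hPC ⟨hx, hxC⟩) g
      have hnc := CfsgLib.Transfer.hasNormalPComplement_of_normalizer_le_centralizer Q (by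
        intro c _
        rw [Subgroup.mem_centralizer_iff]
        intro q hq
        apply Subtype.ext
        have h2 : (c : A) ∈ Subgroup.centralizer (H : Set A) := hC ▸ c.2
        exact Subgroup.mem_centralizer_iff.mp h2 _ (hQH q hq))
      haveI := CfsgLib.Transfer.pResidual_normal p C
      intro c hc
      obtain ⟨n, hn⟩ := CfsgLib.Transfer.isPGroup_quotient_pResidual (p := p) (G := C)
        ((⟨c, hc⟩ : C) : C ⧸ Cfsg.pResidual p C)
      refine ⟨n, CfsgLib.PSolvable.map_pPrimeCore_le C ⟨⟨c, hc⟩ ^ p ^ n, ?_, rfl⟩⟩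
      rw [CfsgLib.Transfer.pPrimeCore_eq_pResidual hnc]
      exact (QuotientGroup.eq_one_iff _).mp hn
    apply le_antisymm
    · intro x hx
      have hle : (Cfsg.pPrimePCore p A).map (QuotientGroup.mk' C) ≤ Cfsg.pCore p (A ⧸ C) := by
        haveI := CfsgLib.Fitting.pCore_normal (G := A ⧸ K) p
        refine CfsgLib.Fitting.le_pCore ((Subgroup.Normal.comap inferInstance _ :
          (Cfsg.pPrimePCore p A).Normal).map _ (QuotientGroup.mk'_surjective C)) ?_
        rintro ⟨_, y, hy, rfl⟩
        obtain ⟨n, hn⟩ := CfsgLib.Fitting.pCore_isPGroup p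
          (⟨QuotientGroup.mk' K y, hy⟩ : Cfsg.pCore p (A ⧸ K))
        refine ⟨n, Subtype.ext ?_⟩
        have hyK : y ^ p ^ n ∈ K := (QuotientGroup.eq_one_iff _).mp (by
          rw [QuotientGroup.mk_pow]; exact congrArg Subtype.val hn)
        change (QuotientGroup.mk' C y) ^ p ^ n = 1
        rw [← map_pow]
        exact (QuotientGroup.eq_one_iff _).mpr (hKC hyK)
      exact hle ⟨x, hx, rfl⟩
    · intro r hr
      have hle : R.map (QuotientGroup.mk' K) ≤ Cfsg.pCore p (A ⧸ K) := by
        refine CfsgLib.Fitting.le_pCore ((inferInstance : R.Normal).map _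
          (QuotientGroup.mk'_surjective K)) ?_
        rintro ⟨_, y, hy, rfl⟩
        obtain ⟨n, hn⟩ := hRC y hy
        obtain ⟨m, hm⟩ := hCK _ hn
        refine ⟨n + m, Subtype.ext ?_⟩
        change (QuotientGroup.mk' K y) ^ p ^ (n + m) = 1
        rw [← map_pow, pow_add, pow_mul]
        exact (QuotientGroup.eq_one_iff _).mpr hm
      exact hle ⟨r, hr, rfl⟩
  constructor
  · rintro ⟨hHR, hnd⟩
    have hPR : (P : Subgroup A) ⊓ R ≤ H := by
      have hmul := Subgroup.relIndex_mul_relIndex H ((P : Subgroup A) ⊓ R) R (le_inf hHP hHR) inf_le_right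
      obtain ⟨k, hk⟩ := (P.2.to_le (inf_le_left : (P : Subgroup A) ⊓ R ≤ P)).index (H.subgroupOf _)
      rw [← Subgroup.relIndex_eq_one]
      change H.relIndex _ = p ^ k at hk
      cases k with
      | zero => simpa using hk
      | succ k =>
        exact absurd (dvd_trans ⟨p ^ k, by rw [hk, pow_succ']⟩ (Dvd.intro _ hmul)) hnd
    have hPC : (P : Subgroup A) ⊓ C ≤ H := (inf_le_inf_left _ hCR).trans hPR
    refine ⟨hPC, (hppc hPC).trans (le_antisymm ?_ (sup_le hHR hCR))⟩
    rw [← Subgroup.relIndex_eq_one]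
    have hd1 : (H ⊔ C).relIndex R ∣ H.relIndex R :=
      Dvd.intro_left _ (Subgroup.relIndex_mul_relIndex _ _ _ le_sup_left (sup_le hHR hCR))
    have hd2 : (H ⊔ C).relIndex R ∣ C.relIndex R :=
      Dvd.intro_left _ (Subgroup.relIndex_mul_relIndex _ _ _ le_sup_right (sup_le hHR hCR))
    have hp2 : ∃ k, C.relIndex R = p ^ k := by
      haveI : (C.subgroupOf R).Normal := inferInstance
      have : IsPGroup p (R ⧸ C.subgroupOf R) := by
        intro q
        induction q using QuotientGroup.induction_on with | H r => ?_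
        obtain ⟨n, hn⟩ := hRC r r.2
        exact ⟨n, by rw [← QuotientGroup.mk_pow]; exact (QuotientGroup.eq_one_iff _).mpr hn⟩
      exact IsPGroup.iff_card.mp this
    obtain ⟨k, hk⟩ := hp2
    have hcop : (H.relIndex R).Coprime (p ^ k) :=
      (((Fact.out : p.Prime).coprime_iff_not_dvd.mpr hnd).symm).pow_right k
    exact Nat.eq_one_of_dvd_coprimes hcop hd1 (hk ▸ hd2)
  · rintro ⟨hPC, hEq⟩
    rw [hppc hPC] at hEq
    refine ⟨hEq ▸ le_sup_left, ?_⟩
    have hPR : (P : Subgroup A) ⊓ R = H := by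
      refine le_antisymm ?_ (le_inf hHP (hEq ▸ le_sup_left))
      intro x hx
      have hx2 : x ∈ H ⊔ C := hEq ▸ hx.2
      obtain ⟨h, hh, c, hc, rfl⟩ := Subgroup.mem_sup_of_normal_left.mp hx2
      exact H.mul_mem hh (hPC ⟨((P : Subgroup A).mul_mem_cancel_left (hHP hh)).mp hx.1, hc⟩)
    rw [← hPR, Subgroup.inf_relIndex_right]
    exact CfsgLib.CharCore.not_dvd_relIndex_of_isSubnormal (Subgroup.Normal.isSubnormal inferInstance) P


/-- Let P be a Sylow p-subgroup of the finite group G and H ≤ P a subgroup with N_P(H) a Sylow p-subgroup of N_G(H). Let N be the preimage in N_G(H) of O_p(N_G(H)/C_G(H)). Then H is a Sylow p-subgroup of N if and only if C_P(H) ≤ H and O_{p',p}(N_G(H)) = H·C_G(H). -/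
theorem result {G : Type*} [Group G] [Finite G] {p : ℕ} [Fact p.Prime]
    (P : Sylow p G) (H : Subgroup G) (hHP : H ≤ (P : Subgroup G))
    (hSyl : ¬ p ∣ ((P : Subgroup G) ⊓ Subgroup.normalizer (H : Set G)).relIndex (Subgroup.normalizer (H : Set G)))
    [hC : ((Subgroup.centralizer (H : Set G)).subgroupOf (Subgroup.normalizer (H : Set G))).Normal] :
    (H ≤ ((Cfsg.pCore p (↥(Subgroup.normalizer (H : Set G)) ⧸
              (Subgroup.centralizer (H : Set G)).subgroupOf (Subgroup.normalizer (H : Set G)))).comap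
            (QuotientGroup.mk' _)).map (Subgroup.normalizer (H : Set G)).subtype ∧
      ¬ p ∣ H.relIndex (((Cfsg.pCore p (↥(Subgroup.normalizer (H : Set G)) ⧸
              (Subgroup.centralizer (H : Set G)).subgroupOf (Subgroup.normalizer (H : Set G)))).comap
            (QuotientGroup.mk' _)).map (Subgroup.normalizer (H : Set G)).subtype)) ↔
    ((P : Subgroup G) ⊓ Subgroup.centralizer (H : Set G) ≤ H ∧
      (Cfsg.pPrimePCore p ↥(Subgroup.normalizer (H : Set G))).map (Subgroup.normalizer (H : Set G)).subtype =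
        H ⊔ Subgroup.centralizer (H : Set G)) := by
  set N := Subgroup.normalizer (H : Set G) with hN
  set C' := (Subgroup.centralizer (H : Set G)).subgroupOf N with hC'
  set R := (Cfsg.pCore p (↥N ⧸ C')).comap (QuotientGroup.mk' _) with hR
  set A := ((P : Subgroup G) ⊓ N).subgroupOf N with hA
  have hHN : H ≤ N := Subgroup.le_normalizer
  have hCN : Subgroup.centralizer (H : Set G) ≤ N := by
    intro c hc
    rw [hN, Subgroup.mem_normalizer_iff]
    intro x
    constructor
    · intro hx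
      rw [← Subgroup.mem_centralizer_iff.mp hc x hx]
      simpa using hx
    · intro hx
      have h1 := Subgroup.mem_centralizer_iff.mp hc _ hx
      have h2 : c * x * c⁻¹ = x := by
        have : c * x = c * (c * x * c⁻¹) := by rw [← h1]; group
        exact (mul_left_cancel this).symm
      rwa [h2] at hx
  have hAp : IsPGroup p A :=
    (P.2.to_le inf_le_left).of_equiv (Subgroup.subgroupOfEquivOfLe inf_le_right).symm
  let P' : Sylow p N := hAp.toSylow hSyl
  haveI : (H.subgroupOf N).Normal := Subgroup.normal_in_normalizer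
  have hHp : IsPGroup p (H.subgroupOf N) :=
    (P.2.to_le hHP).of_equiv (Subgroup.subgroupOfEquivOfLe hHN).symm
  have hCeq : C' = Subgroup.centralizer ((H.subgroupOf N : Subgroup N) : Set N) := by
    ext x
    rw [hC', Subgroup.mem_subgroupOf, Subgroup.mem_centralizer_iff, Subgroup.mem_centralizer_iff]
    constructor
    · exact fun h y hy => Subtype.ext (h (y : G) hy)
    · exact fun h y hy => congrArg Subtype.val (h ⟨y, hHN hy⟩ hy)
  have key := core P' (H.subgroupOf N) C' hCeq hHp
  have hinf : (P' : Subgroup N) ⊓ C' ≤ H.subgroupOf N ↔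
      (P : Subgroup G) ⊓ Subgroup.centralizer (H : Set G) ≤ H := by
    constructor
    · intro h x hx
      exact h (x := ⟨x, hCN hx.2⟩) ⟨⟨hx.1, hCN hx.2⟩, hx.2⟩
    · intro h x hx
      exact h ⟨hx.1.1, hx.2⟩
  have hmapH : (H.subgroupOf N).map N.subtype = H := by
    rw [Subgroup.subgroupOf_map_subtype, inf_eq_left.mpr hHN]
  have hmapC : C'.map N.subtype = Subgroup.centralizer (H : Set G) := by
    rw [hC', Subgroup.subgroupOf_map_subtype, inf_eq_left.mpr hCN]
  constructor
  · rintro ⟨h1, h2⟩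
    have h1' : H.subgroupOf N ≤ R := by
      rw [← Subgroup.map_le_map_iff_of_injective N.subtype_injective, hmapH]
      exact h1
    have h2' : ¬ p ∣ (H.subgroupOf N).relIndex R := by
      rwa [← Subgroup.relIndex_map_map_of_injective _ _ N.subtype_injective, hmapH]
    obtain ⟨k1, k2⟩ := key.mp ⟨h1', h2'⟩
    exact ⟨hinf.mp k1, by rw [k2, Subgroup.map_sup, hmapH, hmapC]⟩
  · rintro ⟨k1, k2⟩
    have k2' : Cfsg.pPrimePCore p N = H.subgroupOf N ⊔ C' := by
      apply Subgroup.map_injective N.subtype_injective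
      rw [k2, Subgroup.map_sup, hmapH, hmapC]
    obtain ⟨h1', h2'⟩ := key.mpr ⟨hinf.mpr k1, k2'⟩
    refine ⟨?_, ?_⟩
    · have := Subgroup.map_mono (f := N.subtype) h1'
      rwa [hmapH] at this
    · rwa [← Subgroup.relIndex_map_map_of_injective _ _ N.subtype_injective, hmapH] at h2'

end Cfsg.Agent.S3076
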