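import Cfsg.Statements.S3079
import Cfsg.Agent.Lib.ZJ.Centers

set_option autoImplicit false
open Cfsg

namespace Cfsg.Agent.S3079

/-- Glauberman's ZJ-Theorem for strongly closed subgroups, p odd. Let G be a finite group that is p-stable in the normalizer form (for every p-subgroup U and g ∈ N_G(U) with [U, g, g] = 1, the image of g lies in O_p(N_G(U)/C_G(U))), with C_G(O_p(G)) ≤ O_p(G), let P be a Sylow p-subgroup and D a subgroup of P strongly closed in P with respect to G. Then Z(J(D)) is normal in G, where J(D) is generated by the abelian subgroups of D of largest order; and so is Ω₁(Z(J_e(D))), where J_e(D) is generated by the elementary abelian subgroups of D of largest order. -/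
theorem result {G : Type*} [Group G] [Finite G] {p : ℕ} [Fact p.Prime] (hp : p ≠ 2) (P : Sylow p G) (D : Subgroup G) (hD : Cfsg.IsStronglyClosed D (P : Subgroup G)) (hst : Cfsg.IsNormalizerPStable p G) (hc : Subgroup.centralizer ((Cfsg.pCore p G : Subgroup G) : Set G) ≤ Cfsg.pCore p G) : (Cfsg.centerThompsonAOf D).Normal ∧ (Cfsg.omegaOne p (Cfsg.centerThompsonOf p D)).Normal := by
  have hs : CfsgLib.ZJ.StableAt p (P : Subgroup G) := by
    intro W hWn hW a _ hq
    haveI := hWn
    set N := Subgroup.normalizer (W : Set G) with hN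
    have hNtop : N = ⊤ := Subgroup.normalizer_eq_top W
    have h1 := hst W hW a (show a ∈ N from hNtop ▸ Subgroup.mem_top a) hq
    let ψ : N ⧸ (Subgroup.centralizer (W : Set G)).subgroupOf N →*
        G ⧸ Subgroup.centralizer (W : Set G) := QuotientGroup.map _ _ N.subtype le_rfl
    have hψ : Function.Surjective ψ := fun x => by
      obtain ⟨g, rfl⟩ := QuotientGroup.mk'_surjective _ x
      exact ⟨QuotientGroup.mk ⟨g, hNtop ▸ Subgroup.mem_top g⟩, rfl⟩
    rw [CfsgLib.ZJ.mem_opMod]
    exact CfsgLib.Fitting.le_pCore ((CfsgLib.Fitting.pCore_normal p).map ψ hψ)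
      ((CfsgLib.Fitting.pCore_isPGroup p).map ψ) ⟨_, h1, rfl⟩
  constructor
  · rw [CfsgLib.ZJ.centerThompsonAOf_eq]
    exact CfsgLib.ZJ.normal_of_constrained_closed hp (Or.inl rfl) P hc hs hD.1 hD.2
      inf_le_left inf_le_right (CfsgLib.ZJ.normalizer_thompsonJ_le_zJ 0 D)
  · rw [CfsgLib.ZJ.centerThompsonOf_eq]
    exact CfsgLib.ZJ.normal_of_constrained_closed hp (Or.inr rfl) P hc hs hD.1 hD.2
      ((CfsgLib.ZJ.omegaOne_le p _).trans inf_le_left)
      ((CfsgLib.ZJ.omegaOne_le p _).trans inf_le_right)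
      ((CfsgLib.ZJ.normalizer_thompsonJ_le_zJ p _).trans (CfsgLib.ZJ.normalizer_le_normalizer_omegaOne p _))

end Cfsg.Agent.S3079
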