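import Cfsg.Statements.S3080
import Cfsg.Agent.Lib.ZJ.StableMarked

set_option autoImplicit false
open Cfsg

namespace Cfsg.Agent.S3080

/-- Let p be an odd prime, G a finite group that is p-stable in the normalizer form, P a Sylow p-subgroup such that N_G(U) is p-constrained for every nontrivial subgroup U of P, and D a subgroup of P strongly closed in P with respect to G. Then N_G(Z(J(D))) controls strong G-fusion in P (for every subset A of P and every g ∈ G with gAg⁻¹ ⊆ P, some element of that normalizer acts on A exactly as g does; J(D) is generated by the abelian subgroups of D of largest order), and so does N_G(Ω₁(Z(J_e(D)))) (J_e(D) generated by the elementary abelian subgroups of largest order). -/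
theorem result {G : Type*} [Group G] [Finite G] {p : ℕ} [Fact p.Prime] (hp : p ≠ 2) (P : Sylow p G) (D : Subgroup G) (hD : Cfsg.IsStronglyClosed D (P : Subgroup G)) (hst : Cfsg.IsNormalizerPStable p G) (hc : ∀ U : Subgroup G, U ≤ (P : Subgroup G) → U ≠ ⊥ → Cfsg.IsPConstrained p ↥(Subgroup.normalizer (U : Set G))) : (∀ A : Set G, A ⊆ (P : Subgroup G) → Cfsg.ControlsStrongFusionOf (Subgroup.normalizer ((Cfsg.centerThompsonAOf D) : Set G)) (P : Subgroup G) A) ∧ (∀ A : Set G, A ⊆ (P : Subgroup G) → Cfsg.ControlsStrongFusionOf (Subgroup.normalizer ((Cfsg.omegaOne p (Cfsg.centerThompsonOf p D)) : Set G)) (P : Subgroup G) A) := by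
  refine ⟨?_, ?_⟩
  · have h := CfsgLib.ZJ.controlsStrongFusionOf_marked_stable hp (e := 0) (Or.inl rfl) P hst hc hD
      (fun E => CfsgLib.ZJ.zJ 0 E) (fun E => inf_le_left) (fun E => inf_le_right)
      (fun E => CfsgLib.ZJ.normalizer_thompsonJ_le_zJ 0 E) (fun f E hf => CfsgLib.ZJ.map_zJ 0 f hf)
    simp only [CfsgLib.ZJ.centerThompsonAOf_eq]
    exact h
  · have h := CfsgLib.ZJ.controlsStrongFusionOf_marked_stable hp (e := p) (Or.inr rfl) P hst hc hD
      (fun E => Cfsg.omegaOne p (CfsgLib.ZJ.zJ p E))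
      (fun E => (CfsgLib.ZJ.omegaOne_le p _).trans inf_le_left)
      (fun E => (CfsgLib.ZJ.omegaOne_le p _).trans inf_le_right)
      (fun E => (CfsgLib.ZJ.normalizer_thompsonJ_le_zJ p E).trans
        (CfsgLib.ZJ.normalizer_le_normalizer_omegaOne p _))
      (fun f E hf => (CfsgLib.ZJ.map_omegaOne p f (hf.mono (CfsgLib.ZJ.zJ_le p E))).trans
        (congrArg _ (CfsgLib.ZJ.map_zJ p f hf)))
    simp only [CfsgLib.ZJ.centerThompsonOf_eq]
    exact h
end Cfsg.Agent.S3080
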