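import Cfsg.Statements.S3082
import Cfsg.Prelude.Def_TwoFusion
import Cfsg.Agent.Lib.Fusion.StronglyClosedControl
import Cfsg.Agent.Lib.ZJ.Centers
import Cfsg.Agent.Lib.Transfer.Frobenius

set_option autoImplicit false
open Cfsg

namespace Cfsg.Agent.S3082

theorem aux {G : Type*} [Group G] [Finite G] {p : ℕ} [Fact p.Prime] (hp : p ≠ 2) (P : Sylow p G)
    (D : Subgroup G) (hD : Cfsg.IsStronglyClosed D (P : Subgroup G)) {e : ℕ} (he : e = 0 ∨ e = p)
    (h : Cfsg.HasNormalPComplement p ↥(Subgroup.normalizer (CfsgLib.ZJ.zJ e D : Set G))) :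
    Cfsg.HasNormalPComplement p G := by
  set F := Cfsg.groupFusionSystem (P : Subgroup G) with hF
  set W := CfsgLib.ZJ.zJ e D with hW
  set N := Subgroup.normalizer (W : Set G) with hN
  have hPN : (P : Subgroup G) ≤ N := ((CfsgLib.ZJ.sylow_le_normalizer_of_closed P hD.1 hD.2).trans
    (CfsgLib.Transfer.normalizer_le_normalizer_thompsonJ e D)).trans
    (CfsgLib.ZJ.normalizer_thompsonJ_le_zJ e D)
  have hsc : F.StronglyClosed D := ⟨hD.1, fun R hR φ hφ x => by
    obtain ⟨-, hφS, g, hg⟩ := hφ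
    rw [hg]; exact hD.2 x (hR x.2) g (hg x ▸ hφS x)⟩
  have hfix : CfsgLib.Fusion.FixPGroup F p W := by
    intro A hA _ a ha haW hac
    have := CfsgLib.Fusion.finite_mulAut A
    have haI := (CfsgLib.Fusion.mem_autGroup_iff hA a).1 ha
    obtain ⟨-, -, g, hg⟩ := CfsgLib.Fusion.isMap_group_iff.1 haI.isMap
    have hWA : W ≤ A := by assumption
    have hgN : g ∈ N := Subgroup.mem_normalizer_fintype fun w hw => by
      have h1 := haW.subset ⟨w, hw, rfl⟩
      rwa [hg w (hWA hw)] at h1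
    have hgA : ∀ (j : ℕ) (x : A), ((a ^ j) x : G) = g ^ j * x * (g ^ j)⁻¹ := by
      intro j
      induction j with
      | zero => intro x; simp
      | succ j ih =>
        intro x
        have h2 : ((a x : A) : G) = g * x * g⁻¹ := by
          rw [← hg x x.2, CfsgLib.Fusion.autFun_apply a x.2]
        rw [pow_succ, MulAut.mul_apply, ih, h2, pow_succ]; group
    -- replace `g` by its `p'`-part
    obtain ⟨i, m, -, -, hco, -⟩ := CfsgLib.Transfer.exists_pow_coprime_part (p := p) g
    obtain ⟨k, hk⟩ := exists_pow_eq_self_of_coprime (x := a) (n := p ^ i) (hac.symm.pow_left i)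
    have hgi : g ^ p ^ i ∈ N := pow_mem hgN _
    have hfixA : ∀ x : A, (g ^ p ^ i) * (x : G) * (g ^ p ^ i)⁻¹ = x := by
      intro x
      set y : N := ⟨g ^ p ^ i, hgi⟩
      set xN : N := ⟨x, hPN (hA x.2)⟩
      have hy : (orderOf y).Coprime p := by rw [← Subgroup.orderOf_coe]; exact hco
      have h1 : y ∈ Cfsg.pResidual p N := CfsgLib.Transfer.mem_pResidual_of_coprime hy
      have h2 : y * xN * y⁻¹ * xN⁻¹ ∈ Cfsg.pResidual p N := by
        haveI := CfsgLib.Transfer.pResidual_normal p N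
        rw [show y * xN * y⁻¹ * xN⁻¹ = y * (xN * y⁻¹ * xN⁻¹) by group]
        exact mul_mem h1 ((CfsgLib.Transfer.pResidual_normal p N).conj_mem _ (inv_mem h1) _)
      have h3 : ((y * xN * y⁻¹ * xN⁻¹ : N) : G) ∈ (P : Subgroup G) := by
        show g ^ p ^ i * (x : G) * (g ^ p ^ i)⁻¹ * (x : G)⁻¹ ∈ _
        rw [← hgA]
        exact mul_mem (hA (SetLike.coe_mem _)) (inv_mem (hA x.2))
      have h4 : (orderOf (y * xN * y⁻¹ * xN⁻¹)).Coprime p := by
        refine Nat.Coprime.coprime_dvd_left ?_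
          (((Fact.out : p.Prime).coprime_iff_not_dvd.2
            (CfsgLib.Transfer.hasNormalPComplement_iff_pResidual.1 h)).symm)
        simpa using orderOf_dvd_natCard (⟨_, h2⟩ : Cfsg.pResidual p N)
      obtain ⟨l, hl⟩ := P.2 ⟨_, h3⟩
      have h5 : y * xN * y⁻¹ * xN⁻¹ = 1 := CfsgLib.Fusion.pow_eq_one_of_coprime h4 (k := l)
        (Subtype.ext (by rw [SubgroupClass.coe_pow]; exact congrArg Subtype.val hl))
      exact mul_inv_eq_one.1 (congrArg Subtype.val h5)
    have h6 : a ^ p ^ i = 1 := MulEquiv.ext fun x => Subtype.ext (by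
      rw [hgA]; exact hfixA x)
    rw [← hk, h6, one_pow]
  have haut := CfsgLib.Fusion.autsPGroup_of_stronglyClosed_zj hp he _ F rfl P.2
    (CfsgLib.Fusion.isSaturated_group P) D hsc hfix
  refine CfsgLib.Transfer.hasNormalPComplement_of_pAutomizers
    (CfsgLib.Transfer.pAutomizers_of_sylow P fun Q hQ g hg hgc => ?_)
  have h1 : Q.normalizerMonoidHom ⟨g, hg⟩ ∈ F.autGroup Q := by
    refine (CfsgLib.Fusion.mem_autGroup_iff hQ _).2 ⟨CfsgLib.Fusion.isMap_group_iff.2
      ⟨hQ, fun x hx => hQ (CfsgLib.Fusion.autFun_mem _ hx), g, fun x hx => ?_⟩, ?_⟩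
    · rw [CfsgLib.Fusion.autFun_apply _ hx]; rfl
    · ext z
      constructor
      · rintro ⟨x, hx, rfl⟩; exact CfsgLib.Fusion.autFun_mem _ hx
      · intro hz
        refine ⟨g⁻¹ * z * g, (Subgroup.mem_normalizer_iff''.1 hg z).1 hz, ?_⟩
        rw [CfsgLib.Fusion.autFun_apply _ ((Subgroup.mem_normalizer_iff''.1 hg z).1 hz)]
        show g * (g⁻¹ * z * g) * g⁻¹ = z
        group
  have h2 : (orderOf (Q.normalizerMonoidHom ⟨g, hg⟩)).Coprime p :=
    hgc.coprime_dvd_left ((orderOf_map_dvd _ _).trans (by rw [Subgroup.orderOf_mk]))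
  obtain ⟨l, hl⟩ := haut Q hQ ⟨_, h1⟩
  have h3 := CfsgLib.Fusion.pow_eq_one_of_coprime h2 (k := l) (congrArg Subtype.val hl)
  intro q hq
  have h4 := congrArg (fun (f : MulAut Q) => ((f ⟨q, hq⟩ : Q) : G)) h3
  exact (mul_inv_eq_iff_eq_mul.1 h4).symm


/-- The Glauberman–Thompson normal p-complement criterion for strongly closed subgroups, p odd. Let G be a finite group, P a Sylow p-subgroup and D a subgroup of P strongly closed in P with respect to G. If N_G(Z(J(D))) has a normal p-complement (J(D) generated by the abelian subgroups of D of largest order), or N_G(Ω₁(Z(J_e(D)))) has one (J_e(D) generated by the elementary abelian subgroups of largest order), then G has a normal p-complement. -/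
theorem result {G : Type*} [Group G] [Finite G] {p : ℕ} [Fact p.Prime] (hp : p ≠ 2) (P : Sylow p G) (D : Subgroup G) (hD : Cfsg.IsStronglyClosed D (P : Subgroup G)) (h : Cfsg.HasNormalPComplement p ↥(Subgroup.normalizer ((Cfsg.centerThompsonAOf D) : Set G)) ∨ Cfsg.HasNormalPComplement p ↥(Subgroup.normalizer ((Cfsg.omegaOne p (Cfsg.centerThompsonOf p D)) : Set G))) : Cfsg.HasNormalPComplement p G := by
  rcases h with h | h
  · exact aux hp P D hD (e := 0) (Or.inl rfl) (CfsgLib.ZJ.centerThompsonAOf_eq D ▸ h)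
  · refine aux hp P D hD (e := p) (Or.inr rfl) ?_
    rw [CfsgLib.ZJ.centerThompsonOf_eq] at h
    exact CfsgLib.Transfer.hasNormalPComplement_of_injective
      (Subgroup.inclusion (CfsgLib.ZJ.normalizer_le_normalizer_omegaOne p (CfsgLib.ZJ.zJ p D)))
      (Subgroup.inclusion_injective _) h
end Cfsg.Agent.S3082
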