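import Cfsg.Statements.S3084
import Cfsg.Agent.Lib.Extraspecial.PlusRep
-- import your own Cfsg.Agent.* helpers here

set_option autoImplicit false
set_option maxHeartbeats 1000000
open Cfsg

namespace Cfsg.Agent.S3084

open CfsgLib.Extraspecial

/-- Hyperbolic coordinates for a form of plus type. -/
theorem exists_coords {U : Type*} [AddCommGroup U] [Module (ZMod 2) U] [Module.Finite (ZMod 2) U]
    (n : ℕ) (hn : Module.finrank (ZMod 2) U = 2 * n) (q : QuadraticForm (ZMod 2) U)
    (hnd : (QuadraticMap.polarBilin q).Nondegenerate)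
    (W : Submodule (ZMod 2) U) (hW : Module.finrank (ZMod 2) ↥W = n) (hWq : ∀ w ∈ W, q w = 0) :
    ∃ L : Coord n ≃ₗ[ZMod 2] U, ∀ v, q (L v) = sqForm (0 : Fin n → ZMod 2) v := by
  classical
  set B := QuadraticMap.polarBilin q with hB
  have hadd : ∀ x y, q (x + y) = q x + q y + B x y := fun x y => QuadraticMap.map_add q x y
  have hBsymm : ∀ x y, B x y = B y x := fun x y => QuadraticMap.polar_comm q x y
  have hBW : ∀ x ∈ W, ∀ y ∈ W, B x y = 0 := fun x hx y hy => by
    have := hadd x y
    rw [hWq x hx, hWq y hy, hWq _ (W.add_mem hx hy), zero_add, zero_add] at this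
    exact this.symm
  let b := (Module.finBasisOfFinrankEq (ZMod 2) ↥W hW)
  let w : Fin n → U := fun i => (b i : U)
  have hBinj : Function.Injective B := (injective_iff_map_eq_zero B).mpr fun x hx =>
    hnd.1 x fun y => LinearMap.congr_fun hx y
  have hBsurj : Function.Surjective B :=
    (LinearMap.injective_iff_surjective_of_finrank_eq_finrank
      (Subspace.dual_finrank_eq (K := ZMod 2) (V := U)).symm).mp hBinj
  have hu : ∀ j, ∃ u : U, ∀ i, B u (w i) = if i = j then 1 else 0 := by
    intro j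
    obtain ⟨f, hf⟩ := Subspace.dualRestrict_surjective (W := W) (b.coord j)
    obtain ⟨u, hu⟩ := hBsurj f
    refine ⟨u, fun i => ?_⟩
    rw [hu]
    have := LinearMap.congr_fun hf (b i)
    simp only [Submodule.dualRestrict_apply, Module.Basis.coord_apply, Module.Basis.repr_self,
      Finsupp.single_apply] at this
    exact this
  choose u hu using hu
  let c : Fin n → Fin n → ZMod 2 := fun j i =>
    if i = j then q (u j) else if j < i then B (u i) (u j) else 0
  let u' : Fin n → U := fun j => u j + ∑ i, c j i • w i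
  have hwW : ∀ i, w i ∈ W := fun i => (b i).2
  have hsumW : ∀ d : Fin n → ZMod 2, ∑ i, d i • w i ∈ W := fun d =>
    W.sum_mem fun i _ => W.smul_mem _ (hwW i)
  have hBu : ∀ j (d : Fin n → ZMod 2), B (u j) (∑ i, d i • w i) = d j := fun j d => by
    simp [map_sum, hu]
  have hBw : ∀ (d : Fin n → ZMod 2) k, B (∑ i, d i • w i) (w k) = 0 := fun d k =>
    hBW _ (hsumW d) _ (hwW k)
  have hqu : ∀ j, q (u' j) = 0 := fun j => by
    show q (u j + _) = 0
    rw [hadd, hWq _ (hsumW _), hBu, add_zero]
    simp only [c, if_true]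
    exact CharTwo.add_self_eq_zero _
  have hBu'w : ∀ j i, B (u' j) (w i) = if i = j then 1 else 0 := fun j i => by
    show B (u j + _) (w i) = _
    rw [map_add, LinearMap.add_apply, hu, hBw, add_zero]
  have hBu' : ∀ i j, i < j → B (u' i) (u' j) = 0 := fun i j hij => by
    show B (u i + _) (u j + _) = 0
    simp only [map_add, LinearMap.add_apply, hBu,
      hBW _ (hsumW (c i)) _ (hsumW (c j))]
    rw [hBsymm (∑ k, c i k • w k) (u j), hBu]
    simp only [c, hij.ne, hij.ne', if_false, hij, not_lt.mpr hij.le, if_true, add_zero]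
    rw [hBsymm]
    exact CharTwo.add_self_eq_zero _
  let L0 : Coord n →ₗ[ZMod 2] U :=
    { toFun := fun v => (∑ i, (v i).1 • w i) + ∑ i, (v i).2 • u' i
      map_add' := fun v v' => by
        simp only [Pi.add_apply, Prod.fst_add, Prod.snd_add, add_smul, Finset.sum_add_distrib]
        abel
      map_smul' := fun r v => by
        simp only [Pi.smul_apply, Prod.smul_fst, Prod.smul_snd, smul_assoc, RingHom.id_apply,
          smul_add, Finset.smul_sum] }
  have hBu'' : ∀ i j, i ≠ j → B (u' i) (u' j) = 0 := fun i j hij => by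
    rcases lt_or_gt_of_ne hij with h | h
    · exact hBu' i j h
    · rw [hBsymm]; exact hBu' j i h
  have hBself : ∀ j, B (u' j) (u' j) = 0 := fun j => by
    have := hadd (u' j) (u' j)
    rw [hqu, zero_add, zero_add] at this
    rw [← this, ← two_smul (ZMod 2) (u' j), show (2 : ZMod 2) = 0 from rfl, zero_smul, QuadraticMap.map_zero]
  have hBall : ∀ i j, B (u' i) (u' j) = 0 := fun i j => by
    rcases eq_or_ne i j with rfl | h
    · exact hBself i
    · exact hBu'' i j h
  have hqs : ∀ (d : Fin n → ZMod 2) (s : Finset (Fin n)), q (∑ i ∈ s, d i • u' i) = 0 := by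
    intro d s
    induction s using Finset.induction_on with
    | empty => simp
    | insert a s ha ih =>
      rw [Finset.sum_insert ha, hadd, ih, QuadraticMap.map_smul, hqu]
      simp [map_sum, hBall]
  have hpair : ∀ v, q (L0 v) = sqForm (0 : Fin n → ZMod 2) v := fun v => by
    show q ((∑ i, (v i).1 • w i) + ∑ i, (v i).2 • u' i) = _
    rw [hadd, hWq _ (hsumW _), hqs, zero_add, zero_add]
    have hmid : ∀ i j, B (w i) (u' j) = if i = j then 1 else 0 := fun i j => by
      rw [hBsymm, hBu'w]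
    simp [map_sum, hmid, sqForm, cocycle, planeForm, mul_comm]
  have hinj : Function.Injective L0 := (injective_iff_map_eq_zero L0).mpr fun v hv => by
    have h2 : ∀ k, (v k).2 = 0 := fun k => by
      have := congrArg (fun x => B x (w k)) hv
      simp only [LinearMap.coe_mk, AddHom.coe_mk, L0, map_add, LinearMap.add_apply, map_zero,
        LinearMap.zero_apply, hBw, zero_add] at this
      simpa [map_sum, hBu'w] using this
    have h1 : ∀ k, (v k).1 = 0 := fun k => by
      have := congrArg (fun x => B x (u' k)) hv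
      have hmid : ∀ i j, B (w i) (u' j) = if i = j then 1 else 0 := fun i j => by
        rw [hBsymm, hBu'w]
      simp only [LinearMap.coe_mk, AddHom.coe_mk, L0, h2, zero_smul, Finset.sum_const_zero,
        add_zero, map_zero, LinearMap.zero_apply] at this
      simpa [map_sum, hmid] using this
    exact funext fun k => Prod.ext (h1 k) (h2 k)
  have hfr : Module.finrank (ZMod 2) (Coord n) = Module.finrank (ZMod 2) U := by
    rw [hn, Module.finrank_pi_fintype]
    simp [Module.finrank_prod, mul_comm]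
  exact ⟨LinearEquiv.ofBijective L0
    ⟨hinj, (LinearMap.injective_iff_surjective_of_finrank_eq_finrank hfr).mp hinj⟩, hpair⟩

/-- The group of pairs of an orthogonal matrix and an isometry inducing the same automorphism. -/
theorem exists_extension (n : ℕ) (Kr : Subgroup (isoGrp (0 : Fin n → ZMod 2))) :
    ∃ (R : Type) (_ : Group R) (_ : Finite R) (pr : R →* ↥Kr)
      (Φ : Model (0 : Fin n → ZMod 2) ≃* ↥pr.ker),
      Function.Surjective pr ∧ ∀ r, ∃ α : MulAut (Model (0 : Fin n → ZMod 2)),
        Model.autHom α = (pr r : isoGrp (0 : Fin n → ZMod 2)) ∧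
        ∀ x, ((Φ (α x) : ↥pr.ker) : R) = r * (Φ x : ↥pr.ker) * r⁻¹ := by
  classical
  let O := ↥(Matrix.orthogonalGroup (Fin n → ZMod 2) ℝ)
  let Rs : Subgroup (O × ↥Kr) :=
    { carrier := {r | ∃ α : MulAut (Model (0 : Fin n → ZMod 2)),
        Model.autHom α = (r.2 : isoGrp (0 : Fin n → ZMod 2)) ∧
        ∀ x, r.1 * PlusRep.repHom x = PlusRep.repHom (α x) * r.1}
      one_mem' := ⟨1, map_one _, fun x => by simp⟩
      mul_mem' := fun {r s} ⟨α, hα, hr⟩ ⟨β, hβ, hs⟩ => ⟨α * β, by rw [map_mul, hα, hβ]; rfl,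
        fun x => by
          rw [Prod.fst_mul, mul_assoc, hs, ← mul_assoc, hr, mul_assoc]
          rfl⟩
      inv_mem' := fun {r} ⟨α, hα, hr⟩ => ⟨α⁻¹, by rw [map_inv, hα]; rfl, fun x => by
          rw [Prod.fst_inv, inv_mul_eq_iff_eq_mul, ← mul_assoc, hr, MulAut.apply_inv_self,
            mul_inv_cancel_right]⟩ }
  let pr : ↥Rs →* ↥Kr := (MonoidHom.snd O ↥Kr).comp Rs.subtype
  have hpr : Function.Surjective pr := fun k => by
    obtain ⟨α, hα⟩ := Model.autHom_surjective (k : isoGrp (0 : Fin n → ZMod 2))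
    obtain ⟨M, hM⟩ := PlusRep.exists_intertwiner α
    exact ⟨⟨(M, k), α, hα, hM⟩, rfl⟩
  let ι : Model (0 : Fin n → ZMod 2) →* ↥pr.ker :=
    { toFun := fun x => ⟨⟨(PlusRep.repHom x, 1), MulAut.conj x, by
          rw [show Model.autHom (MulAut.conj x) = 1 from
            MonoidHom.mem_ker.mp (Model.ker_autHom.ge ⟨x, rfl⟩)]
          rfl, fun y => by
          rw [MulAut.conj_apply, ← map_mul, ← map_mul, inv_mul_cancel_right]⟩, rfl⟩
      map_one' := Subtype.ext (Subtype.ext (Prod.ext (map_one _) rfl))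
      map_mul' := fun x y => Subtype.ext (Subtype.ext (Prod.ext (map_mul _ x y) (one_mul 1).symm)) }
  have hι : Function.Bijective ι := by
    refine ⟨fun x y h => PlusRep.repHom_injective
      (congrArg (fun z : ↥pr.ker => ((z : ↥Rs) : O × ↥Kr).1) h), ?_⟩
    rintro ⟨⟨⟨M, k⟩, α, hα, hM⟩, hk⟩
    obtain rfl : k = 1 := hk
    have : α ∈ Model.autHom.ker := MonoidHom.mem_ker.mpr hα
    rw [Model.ker_autHom] at this
    obtain ⟨g, rfl⟩ := this
    obtain ⟨z, hz⟩ := PlusRep.mem_range_of_commute ((PlusRep.repHom g)⁻¹ * M) fun x => by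
      rw [mul_assoc, hM, MulAut.conj_apply, map_mul, map_mul, map_inv]
      simp only [mul_assoc, inv_mul_cancel_left]
    refine ⟨g * z, Subtype.ext (Subtype.ext (Prod.ext ?_ rfl))⟩
    show PlusRep.repHom (g * z) = M
    rw [map_mul, hz, mul_inv_cancel_left]
  let Φ : Model (0 : Fin n → ZMod 2) ≃* ↥pr.ker := MulEquiv.ofBijective ι hι
  haveI : Finite (Coord n ≃ₗ[ZMod 2] Coord n) :=
    Finite.of_injective (fun f => (f : Coord n → Coord n)) DFunLike.coe_injective
  haveI : Finite ↥Kr := inferInstance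
  haveI : Finite ↥pr.ker := Finite.of_equiv _ Φ.toEquiv
  haveI : Finite (↥Rs ⧸ pr.ker) :=
    Finite.of_equiv _ (QuotientGroup.quotientKerEquivOfSurjective pr hpr).symm.toEquiv
  haveI : Finite ↥Rs := Finite.of_equiv _ (Subgroup.groupEquivQuotientProdSubgroup (s := pr.ker)).symm
  refine ⟨↥Rs, inferInstance, inferInstance, pr, Φ, hpr, ?_⟩
  rintro ⟨⟨M, k⟩, α, hα, hM⟩
  refine ⟨α, hα, fun x => Subtype.ext (Prod.ext ?_ ?_)⟩
  · show PlusRep.repHom (α x) = M * PlusRep.repHom x * M⁻¹
    rw [hM, mul_inv_cancel_right]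
  · show (1 : ↥Kr) = k * 1 * k⁻¹
    rw [mul_one, mul_inv_cancel]

theorem frattini_center {A B : Type*} [Group A] [Group B] [Finite A] (Φ : A ≃* B)
    (h : Cfsg.IsExtraspecial 2 A) :
    frattini B = Subgroup.center B ∧ commutator B = Subgroup.center B ∧
      Nat.card (Subgroup.center B) = 2 := by
  have hc : (Subgroup.center A).map (Φ : A →* B) = Subgroup.center B := by
    ext b
    obtain ⟨a, rfl⟩ := Φ.surjective b
    constructor
    · rintro ⟨a', ha', e⟩
      obtain rfl := Φ.injective e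
      rw [Subgroup.mem_center_iff]
      intro g
      obtain ⟨g, rfl⟩ := Φ.surjective g
      rw [← map_mul, ← map_mul, Subgroup.mem_center_iff.mp ha' g]
    · intro hb
      refine ⟨a, Subgroup.mem_center_iff.mpr fun g => Φ.injective ?_, rfl⟩
      rw [map_mul, map_mul]
      exact Subgroup.mem_center_iff.mp hb _
  have hd : (commutator A).map (Φ : A →* B) = commutator B := by
    rw [commutator_def, Subgroup.map_commutator, Subgroup.map_top_of_surjective _ Φ.surjective,
      commutator_def]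
  have hf : (frattini A).map (Φ : A →* B) = frattini B := by
    refine le_antisymm ?_ ?_
    · exact Subgroup.map_le_iff_le_comap.mpr (frattini_le_comap_frattini_of_surjective Φ.surjective)
    · intro b hb
      refine ⟨Φ.symm b, ?_, Φ.apply_symm_apply b⟩
      exact frattini_le_comap_frattini_of_surjective (φ := (Φ.symm : B →* A)) Φ.symm.surjective hb
  refine ⟨by rw [← hf, h.1.2.1, hc], by rw [← hd, h.1.2.2, hc], ?_⟩
  rw [← hc, ← h.2]
  exact (Nat.card_congr ((Subgroup.center A).equivMapOfInjective _ Φ.injective).toEquiv).symm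


/-- The statement, once the isometry group `Kr` is given abstractly. -/
theorem of_extension {K : Type*} [Group K] {U : Type*} [AddCommGroup U] [Module (ZMod 2) U]
    (n : ℕ) (hn1 : 1 ≤ n) (ρ : Representation (ZMod 2) K U) (q : QuadraticForm (ZMod 2) U)
    (L : Coord n ≃ₗ[ZMod 2] U) (hL : ∀ v, q (L v) = sqForm (0 : Fin n → ZMod 2) v)
    (Kr : Subgroup (isoGrp (0 : Fin n → ZMod 2))) (ε : ↥Kr ≃* K)
    (hκ : ∀ (k : ↥Kr) (v : Coord n), L ((k : isoGrp (0 : Fin n → ZMod 2)).1 v) = ρ (ε k) (L v))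
    (R : Type) [instR : Group R] [finR : Finite R] (pr : R →* ↥Kr)
    (Φ : Model (0 : Fin n → ZMod 2) ≃* ↥pr.ker) (hpr : Function.Surjective pr)
    (hconj : ∀ r, ∃ α : MulAut (Model (0 : Fin n → ZMod 2)),
        Model.autHom α = (pr r : isoGrp (0 : Fin n → ZMod 2)) ∧
        ∀ x, ((Φ (α x) : ↥pr.ker) : R) = r * (Φ x : ↥pr.ker) * r⁻¹) :
    ∃ (Q : Subgroup R) (hN : Q.Normal) (e : R ⧸ Q ≃* K) (χ : ↥Q →* Multiplicative U), Cfsg.IsExtraspecial 2 ↥Q ∧ Nat.card ↥Q = 2 ^ (2 * n + 1) ∧ Function.Surjective χ ∧ χ.ker = Subgroup.center ↥Q ∧ (∀ (r : R) (a : ↥Q), χ ⟨r * a * r⁻¹, hN.conj_mem (a : R) a.2 r⟩ = Multiplicative.ofAdd (ρ (e (r : R ⧸ Q)) (Multiplicative.toAdd (χ a)))) ∧ ∀ a : ↥Q, a * a = 1 ↔ q (Multiplicative.toAdd (χ a)) = 0 := by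
  classical
  haveI : Fact (Nat.Prime 2) := ⟨Nat.prime_two⟩
  let e : R ⧸ pr.ker ≃* K := (QuotientGroup.quotientKerEquivOfSurjective pr hpr).trans ε
  let χ : ↥pr.ker →* Multiplicative U :=
    (L.toLinearMap.toAddMonoidHom.toMultiplicative).comp (Model.proj.comp Φ.symm.toMonoidHom)
  have hχ : ∀ y, χ (Φ y) = Multiplicative.ofAdd (L y.v) := fun y =>
    congrArg (fun z => Multiplicative.ofAdd (L (Model.v z))) (Φ.symm_apply_apply y)
  have he : ∀ r, e (QuotientGroup.mk r) = ε (pr r) := fun r => rfl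
  refine ⟨pr.ker, MonoidHom.normal_ker pr, e, χ, ?_, ?_, ?_, ?_, ?_, ?_⟩
  · exact ⟨⟨IsPGroup.of_card (n := 2 * n + 1) ((Nat.card_congr Φ.symm.toEquiv).trans Model.card),
      (Cfsg.Agent.S3084.frattini_center Φ (Model.isExtraspecial hn1)).1,
      (Cfsg.Agent.S3084.frattini_center Φ (Model.isExtraspecial hn1)).2.1⟩,
      (Cfsg.Agent.S3084.frattini_center Φ (Model.isExtraspecial hn1)).2.2⟩
  · exact (Nat.card_congr Φ.symm.toEquiv).trans Model.card
  · intro u
    refine ⟨Φ ⟨L.symm u.toAdd, 0⟩, ?_⟩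
    show Multiplicative.ofAdd (L (Φ.symm (Φ _)).v) = u
    rw [Φ.symm_apply_apply, L.apply_symm_apply]
    rfl
  · ext a
    rw [MonoidHom.mem_ker]
    constructor
    · intro h
      have h1 : (Φ.symm a).v = 0 := L.injective (by rw [map_zero]; exact h)
      rw [Subgroup.mem_center_iff]
      intro g
      apply Φ.symm.injective
      rw [map_mul, map_mul]
      exact Subgroup.mem_center_iff.mp ((Model.mem_center_iff _).mpr h1) _
    · intro h
      have h1 : Φ.symm a ∈ Subgroup.center (Model (0 : Fin n → ZMod 2)) := by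
        rw [Subgroup.mem_center_iff]
        intro g
        apply Φ.injective
        rw [map_mul, map_mul, Φ.apply_symm_apply]
        exact Subgroup.mem_center_iff.mp h _
      show Multiplicative.ofAdd (L (Φ.symm a).v) = 1
      rw [(Model.mem_center_iff _).mp h1, map_zero]
      rfl
  · intro r a
    obtain ⟨α, hα, hc⟩ := hconj r
    obtain ⟨x, rfl⟩ := Φ.surjective a
    have h1 : ∀ h, (⟨r * (Φ x : ↥pr.ker) * r⁻¹, h⟩ : ↥pr.ker) = Φ (α x) := fun h =>
      Subtype.ext (hc x).symm
    rw [h1, hχ, hχ, toAdd_ofAdd]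
    refine congrArg Multiplicative.ofAdd ?_
    have h : L ((α x).v) = ρ (e (QuotientGroup.mk r)) (L x.v) := by
      have h2 := LinearEquiv.congr_fun (congrArg Subtype.val hα) x.v
      rw [he]
      exact (congrArg (fun z => L z) ((Model.aut_v α x).trans h2)).trans (hκ (pr r) x.v)
    exact h
  · intro a
    have h1 : χ a = Multiplicative.ofAdd (L (Φ.symm a).v) := rfl
    have h2 : a * a = 1 ↔ Φ.symm a * Φ.symm a = 1 := by
      rw [← map_mul, EmbeddingLike.map_eq_one_iff]
    rw [h2, h1, toAdd_ofAdd, hL, ← pow_two, Model.sq_mem]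
    exact ⟨fun h => congrArg Model.a h, fun h => Model.ext rfl h⟩


/-- Let K be a group acting faithfully and linearly on a finite-dimensional vector space U of dimension 2n ≥ 2 over the field with two elements, preserving a quadratic form q whose polar bilinear form is non-degenerate and which vanishes on some n-dimensional subspace (a non-singular form of plus type). Then there is a finite group R with a normal extraspecial 2-subgroup Q of order 2^(2n+1), an isomorphism of R/Q with K, and a surjective homomorphism χ from Q onto (the additive group of) U with kernel the centre of Q, such that χ carries conjugation by any r in R to the action of the image of r in K, and an element a of Q squares to the identity exactly when q vanishes at χ(a). -/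
theorem result {K : Type*} [Group K] {U : Type*} [AddCommGroup U] [Module (ZMod 2) U] [Module.Finite (ZMod 2) U] (n : ℕ) (hn1 : 1 ≤ n) (hn : Module.finrank (ZMod 2) U = 2 * n) (ρ : Representation (ZMod 2) K U) (hρ : Function.Injective ρ) (q : QuadraticForm (ZMod 2) U) (hq : ∀ (k : K) (u : U), q (ρ k u) = q u) (hnd : (QuadraticMap.polarBilin q).Nondegenerate) (hplus : ∃ W : Submodule (ZMod 2) U, Module.finrank (ZMod 2) ↥W = n ∧ ∀ w ∈ W, q w = 0) : ∃ (R : Type) (_ : Group R) (_ : Finite R) (Q : Subgroup R) (hN : Q.Normal) (e : R ⧸ Q ≃* K) (χ : ↥Q →* Multiplicative U), Cfsg.IsExtraspecial 2 ↥Q ∧ Nat.card ↥Q = 2 ^ (2 * n + 1) ∧ Function.Surjective χ ∧ χ.ker = Subgroup.center ↥Q ∧ (∀ (r : R) (a : ↥Q), χ ⟨r * a * r⁻¹, hN.conj_mem (a : R) a.2 r⟩ = Multiplicative.ofAdd (ρ (e (r : R ⧸ Q)) (Multiplicative.toAdd (χ a)))) ∧ ∀ a : ↥Q, a * a = 1 ↔ q (Multiplicative.toAdd (χ a)) = 0 := by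
  classical
  haveI : Fact (Nat.Prime 2) := ⟨Nat.prime_two⟩
  obtain ⟨W, hW, hWq⟩ := hplus
  obtain ⟨L, hL⟩ := exists_coords n hn q hnd W hW hWq
  let κ : K →* isoGrp (0 : Fin n → ZMod 2) :=
    { toFun := fun k => ⟨LinearEquiv.ofLinear
          (L.symm.toLinearMap ∘ₗ ρ k ∘ₗ L.toLinearMap)
          (L.symm.toLinearMap ∘ₗ ρ k⁻¹ ∘ₗ L.toLinearMap)
          (LinearMap.ext fun v => by simp)
          (LinearMap.ext fun v => by simp),
        fun v => by
          show sqForm _ (L.symm (ρ k (L v))) = _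
          rw [← hL, L.apply_symm_apply, hq, hL]⟩
      map_one' := Subtype.ext (LinearEquiv.ext fun v => by simp)
      map_mul' := fun a b => Subtype.ext (LinearEquiv.ext fun v => by simp) }
  have hκinj : Function.Injective κ := fun a b h => hρ (LinearMap.ext fun u => by
    have := LinearEquiv.congr_fun (congrArg Subtype.val h) (L.symm u)
    simpa [κ] using this)
  obtain ⟨R, instR, finR, pr, Φ, hpr, hconj⟩ := exists_extension n κ.range
  have hκv : ∀ k v, L ((κ k).1 v) = ρ k (L v) := fun k v => L.apply_symm_apply _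
  refine ⟨R, instR, finR, of_extension n hn1 ρ q L hL κ.range
    (MonoidHom.ofInjective hκinj).symm (fun k v => ?_) R pr Φ hpr hconj⟩
  obtain ⟨_, k, rfl⟩ := k
  rw [show (MonoidHom.ofInjective hκinj).symm ⟨κ k, k, rfl⟩ = k from
    (MulEquiv.symm_apply_eq _).mpr (Subtype.ext rfl)]
  exact hκv k v

end Cfsg.Agent.S3084
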