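import Cfsg.Statements.S3085
import Cfsg.Agent.Lib.ExtraAut.Embed

set_option autoImplicit false
set_option linter.style.haveILetI false
open Cfsg

namespace Cfsg.Agent.S3085

open CfsgLib.ExtraAut

variable {Q : Type*} [Group Q]

theorem gen_lt {f : ℕ → ℕ} (hf : ∀ x < 128, f x < 128 ∧ ∃ y < 128, f y = x) {i : ℕ} (hi : i < 128) :
    ∀ x < 128, f (cj i x) < 128 := fun x hx =>
  (hf _ (mu_lt _ (mu_lt _ hi _ hx) _ (ivx_spec i hi).1)).1

theorem iterate_emb (d : Pairs Q) {φ ψ : Q ≃* Q} {f g : ℕ → ℕ} (hf : ∀ x < 128, f x < 128)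
    (hg : ∀ x < 128, g x < 128) (hφ : ∀ x < 128, φ (d.emb x) = d.emb (f x))
    (hψ : ∀ x < 128, ψ (d.emb x) = d.emb (g x)) :
    (∀ x < 128, (φ * φ * φ * φ * φ * φ : MulAut Q) (d.emb x) = d.emb (relB f x) ∧ relB f x < 128) ∧
      (∀ x < 128, (φ * φ * ψ * ψ * ψ * φ * φ * ψ * ψ * ψ : MulAut Q) (d.emb x) =
        d.emb (relAB f g x) ∧ relAB f g x < 128) := by
  constructor
  · intro x hx
    simp only [MulAut.mul_apply, relB]
    have h1 := hf x hx
    have h2 := hf _ h1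
    have h3 := hf _ h2
    have h4 := hf _ h3
    have h5 := hf _ h4
    exact ⟨by rw [hφ x hx, hφ _ h1, hφ _ h2, hφ _ h3, hφ _ h4, hφ _ h5], hf _ h5⟩
  · intro x hx
    simp only [MulAut.mul_apply, relAB]
    have h1 := hg x hx
    have h2 := hg _ h1
    have h3 := hg _ h2
    have h4 := hf _ h3
    have h5 := hf _ h4
    have h6 := hg _ h5
    have h7 := hg _ h6
    have h8 := hg _ h7
    have h9 := hf _ h8
    exact ⟨by rw [hψ x hx, hψ _ h1, hψ _ h2, hφ _ h3, hφ _ h4, hψ _ h5, hψ _ h6, hψ _ h7,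
      hφ _ h8, hφ _ h9], hf _ h9⟩

theorem conj_emb (d : Pairs Q) {m x : ℕ} (hm : m < 128) (hx : x < 128) :
    d.emb (cj m x) = d.emb m * d.emb x * (d.emb m)⁻¹ := by
  obtain ⟨h0, h1, -⟩ := ivx_spec m hm
  rw [cj, d.emb_mul (mu_lt _ hm _ hx) h0, d.emb_mul hm hx,
    eq_inv_of_mul_eq_one_right (a := d.emb m) (b := d.emb (ivx m))
      (by rw [← d.emb_mul hm h0, h1, d.emb_zero])]

theorem exists_lift (d : Pairs Q) (L : Subgroup (MulAut Q)) (hL : (Cfsg.Inn Q).IsComplement' L)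
    (f : ℕ → ℕ) (φ : Q ≃* Q) (hφ : ∀ x < 128, φ (d.emb x) = d.emb (f x)) :
    ∃ l ∈ L, ((φ : MulAut Q))⁻¹ * l ∈ Cfsg.Inn Q ∧
      ∃ i < 128, ∀ x < 128, l (d.emb x) = d.emb (f (cj i x)) := by
  obtain ⟨⟨⟨_, u, rfl⟩, ⟨l, hl⟩⟩, he, -⟩ := hL.existsUnique (φ : MulAut Q)
  change MulAut.conj u * l = φ at he
  have hl' : l = φ * MulAut.conj (φ.symm u⁻¹) := by
    rw [eq_inv_mul_of_mul_eq he]
    refine MulEquiv.ext fun y => ?_
    simp [MulAut.mul_apply, MulAut.conj_apply, mul_assoc]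
  refine ⟨l, hl, ⟨φ.symm u⁻¹, by rw [hl', inv_mul_cancel_left]⟩, ?_⟩
  obtain ⟨i, hi, r, hr, hdec⟩ := d.exists_decomp (φ.symm u⁻¹)
  refine ⟨i, hi, fun x hx => ?_⟩
  have hlt : cj i x < 128 := mu_lt _ (mu_lt _ hi _ hx) _ (ivx_spec i hi).1
  rw [hl', MulAut.mul_apply, MulAut.conj_apply, hdec, ← hφ _ hlt, conj_emb d hi hx]
  congr 1
  calc d.emb i * r * d.emb x * (d.emb i * r)⁻¹
      = d.emb i * (r * d.emb x) * r⁻¹ * (d.emb i)⁻¹ := by group
    _ = d.emb i * (d.emb x * r) * r⁻¹ * (d.emb i)⁻¹ := by rw [hr x hx]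
    _ = _ := by group

theorem eq_conj_of_agree (d : Pairs Q) {χ : MulAut Q} {h : ℕ → ℕ}
    (hemb : ∀ x < 128, χ (d.emb x) = d.emb (h x)) (hh : ∀ x < 128, h x = cj 19 x)
    (hfix : ∀ r, d.Fix r → χ r = r) : χ = MulAut.conj (d.emb 19) := by
  refine MulEquiv.ext fun g => ?_
  obtain ⟨m, hm, r, hr, rfl⟩ := d.exists_decomp g
  rw [map_mul, map_mul, hemb m hm, hh m hm, hfix r hr, MulAut.conj_apply, MulAut.conj_apply,
    conj_emb d (by norm_num) hm, show d.emb 19 * r * (d.emb 19)⁻¹ = r by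
      rw [← hr 19 (by norm_num), mul_inv_cancel_right]]

theorem main (d : Pairs Q) (L : Subgroup (MulAut Q)) : ¬ (Cfsg.Inn Q).IsComplement' L := by
  intro hL
  obtain ⟨φ, hφ, hφr⟩ := d.exists_extend autA autA_hom autA_range autA_central
  obtain ⟨ψ, hψ, hψr⟩ := d.exists_extend autB autB_hom autB_range autB_central
  obtain ⟨la, hla, ha, i, hi, hai⟩ := exists_lift d L hL autA φ hφ
  obtain ⟨lb, hlb, hb, j, hj, hbj⟩ := exists_lift d L hL autB ψ hψ
  have hr1 : (ψ * ψ * ψ * ψ * ψ * ψ : MulAut Q) = MulAut.conj (d.emb 19) :=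
    eq_conj_of_agree d (fun x hx => ((iterate_emb d (fun x hx => (autB_range x hx).1)
      (fun x hx => (autB_range x hx).1) hψ hψ).1 x hx).1) relB_inner
      (fun r hr => by simp only [MulAut.mul_apply, hψr r hr])
  have hr2 : (φ * φ * ψ * ψ * ψ * φ * φ * ψ * ψ * ψ : MulAut Q) = MulAut.conj (d.emb 19) :=
    eq_conj_of_agree d (fun x hx => ((iterate_emb d (fun x hx => (autA_range x hx).1)
      (fun x hx => (autB_range x hx).1) hφ hψ).2 x hx).1) relAB_inner
      (fun r hr => by simp only [MulAut.mul_apply, hψr r hr, hφr r hr])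
  have qa : (QuotientGroup.mk' (Cfsg.Inn Q)) la = QuotientGroup.mk' (Cfsg.Inn Q) (φ : MulAut Q) :=
    (QuotientGroup.eq.mpr ha).symm
  have qb : (QuotientGroup.mk' (Cfsg.Inn Q)) lb = QuotientGroup.mk' (Cfsg.Inn Q) (ψ : MulAut Q) :=
    (QuotientGroup.eq.mpr hb).symm
  have hdisj : ∀ w ∈ L, w ∈ Cfsg.Inn Q → w = 1 := fun w h1 h2 =>
    Subgroup.disjoint_def.mp hL.disjoint h2 h1
  have hinner : MulAut.conj (d.emb 19) ∈ Cfsg.Inn Q := ⟨_, rfl⟩
  have hone1 : lb * lb * lb * lb * lb * lb = 1 := by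
    refine hdisj _ (L.mul_mem (L.mul_mem (L.mul_mem (L.mul_mem (L.mul_mem hlb hlb) hlb) hlb) hlb) hlb) ((QuotientGroup.eq_one_iff _).mp ?_)
    show QuotientGroup.mk' (Cfsg.Inn Q) _ = 1
    simp only [map_mul, qb]
    simp only [← map_mul, hr1]
    exact (QuotientGroup.eq_one_iff _).mpr hinner
  have hone2 : la * la * lb * lb * lb * la * la * lb * lb * lb = 1 := by
    refine hdisj _ (L.mul_mem (L.mul_mem (L.mul_mem (L.mul_mem (L.mul_mem (L.mul_mem (L.mul_mem (L.mul_mem (L.mul_mem hla hla) hlb) hlb) hlb) hla) hla) hlb) hlb) hlb) ((QuotientGroup.eq_one_iff _).mp ?_)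
    show QuotientGroup.mk' (Cfsg.Inn Q) _ = 1
    simp only [map_mul, qa, qb]
    simp only [← map_mul, hr2]
    exact (QuotientGroup.eq_one_iff _).mpr hinner
  obtain ⟨h1, h2⟩ := iterate_emb d (φ := la) (ψ := lb) (f := genA i) (g := genB j)
    (gen_lt autA_range hi) (gen_lt autB_range hj) hai hbj
  obtain ⟨h3, -⟩ := iterate_emb d (φ := lb) (ψ := lb) (f := genB j) (g := genB j)
    (gen_lt autB_range hj) (gen_lt autB_range hj) hbj hbj
  have hpow : ∀ k < 6, 2 ^ k < 128 := fun k hk =>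
    lt_of_le_of_lt (Nat.pow_le_pow_right two_pos (Nat.le_of_lt_succ hk)) (by norm_num)
  refine certificate j hj (fun k hk => ?_) i hi (fun k hk => ?_)
  · obtain ⟨e, hlt⟩ := h3 _ (hpow k hk)
    rw [hone1, MulAut.one_apply] at e
    exact (d.emb_injective (hpow k hk) hlt e).symm
  · obtain ⟨e, hlt⟩ := h2 _ (hpow k hk)
    rw [hone2, MulAut.one_apply] at e
    exact (d.emb_injective (hpow k hk) hlt e).symm

/-- Let Q be an extraspecial 2-group of order 2^(2n+1) with n ≥ 3 that is of plus type (it contains an elementary abelian subgroup of order 2^(n+1)). Then the group of inner automorphisms of Q has no complement in the full automorphism group of Q: the extension of the inner automorphism group (elementary abelian of order 2^(2n)) by the outer automorphism group (the orthogonal group of plus type) does not split. -/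
theorem result {Q : Type*} [Group Q] [Finite Q] (n : ℕ) (hn : 3 ≤ n) (hQ : Cfsg.IsExtraspecial 2 Q) (hcard : Nat.card Q = 2 ^ (2 * n + 1)) (hplus : ∃ E : Subgroup Q, Cfsg.IsElementaryAbelian 2 E ∧ Nat.card ↥E = 2 ^ (n + 1)) (L : Subgroup (MulAut Q)) : ¬ (Cfsg.Inn Q).IsComplement' L := by
  obtain ⟨d⟩ := exists_pairs hn hQ hplus
  exact main d L

end Cfsg.Agent.S3085
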