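import Mathlib
import Cfsg.Statements.S3087

set_option autoImplicit false
set_option linter.style.haveILetI false
set_option linter.unusedVariables false
open Cfsg

namespace Cfsg.Agent.S3087

/-- Let p be a prime, G a finite group acting linearly on a finite vector space V over the field with p elements, W a G-invariant subspace, and A a subgroup of G with |A|·|C_V(A)| ≥ |B|·|C_V(B)| for every subgroup B of A. Then |A|·|C_W(A)| ≥ |B|·|C_W(B)| for every subgroup B of A that contains C_A(W); that is, the image of A in the group induced on W satisfies the same maximality condition. -/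
theorem result {G V : Type*} [Group G] [Finite G] [AddCommGroup V] [Finite V] (p : ℕ) [Fact p.Prime] [Module (ZMod p) V]
    (ρ : Representation (ZMod p) G V) (W : Submodule (ZMod p) V) (hW : ∀ g : G, ∀ w ∈ W, ρ g w ∈ W)
    (A : Subgroup G)
    (hP : ∀ B : Subgroup G, B ≤ A →
      Nat.card ↥B * Nat.card {v : V // ∀ b ∈ B, ρ b v = v} ≤ Nat.card ↥A * Nat.card {v : V // ∀ a ∈ A, ρ a v = v})
    (B : Subgroup G) (hBA : B ≤ A) (hCB : ∀ a ∈ A, (∀ w ∈ W, ρ a w = w) → a ∈ B) :
    Nat.card ↥B * Nat.card {w : W // ∀ b ∈ B, ρ b w = w} ≤ Nat.card ↥A * Nat.card {w : W // ∀ a ∈ A, ρ a w = w} := by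
  let fix : Subgroup G → AddSubgroup V := fun X =>
    { carrier := {v | ∀ b ∈ X, ρ b v = v}
      zero_mem' := fun b _ => map_zero _
      add_mem' := fun {u v} hu hv b hb => by rw [map_add, hu b hb, hv b hb]
      neg_mem' := fun {u} hu b hb => by rw [map_neg, hu b hb] }
  set X := fix B with hX
  set Y := fix A with hY
  set WA := W.toAddSubgroup ⊓ Y with hWA
  set WB := W.toAddSubgroup ⊓ X with hWB
  have e : ∀ C : Subgroup G, Nat.card {w : W // ∀ b ∈ C, ρ b w = w} = Nat.card ↥(W.toAddSubgroup ⊓ fix C) :=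
    fun C => Nat.card_congr
      { toFun := fun w => ⟨w.1.1, w.1.2, w.2⟩
        invFun := fun v => ⟨⟨v.1, v.2.1⟩, v.2.2⟩
        left_inv := fun w => rfl
        right_inv := fun v => rfl }
  rw [e B, e A]
  have h0 : Nat.card B * Nat.card X ≤ Nat.card A * Nat.card Y := hP B hBA
  have hYX : Y ≤ X := fun v hv b hb => hv b (hBA hb)
  have hWAB : Y ⊓ WB = WA := le_antisymm (le_inf (inf_le_right.trans inf_le_left) inf_le_left)
    (le_inf inf_le_right (le_inf inf_le_left (inf_le_right.trans hYX)))
  have h1 : Nat.card WB = Nat.card WA * Y.relIndex WB := by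
    have h := AddSubgroup.relIndex_mul_relIndex ⊥ (Y ⊓ WB) WB bot_le inf_le_right
    rw [AddSubgroup.relIndex_bot_left, AddSubgroup.relIndex_bot_left, AddSubgroup.inf_relIndex_right, hWAB] at h
    exact h.symm
  have h2 : Nat.card X = Nat.card Y * Y.relIndex X := by
    rw [← AddSubgroup.relIndex_bot_left, ← AddSubgroup.relIndex_bot_left]
    exact (AddSubgroup.relIndex_mul_relIndex _ _ _ bot_le hYX).symm
  have hle : Y.relIndex WB ≤ Y.relIndex X := AddSubgroup.relIndex_le_of_le_right inf_le_right
    (by
      intro h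
      rw [h, mul_zero] at h2
      exact Nat.card_pos.ne' h2)
  change Nat.card B * Nat.card WB ≤ Nat.card A * Nat.card WA
  rw [h1]
  refine le_of_mul_le_mul_left ?_ (Nat.card_pos (α := Y))
  calc Nat.card Y * (Nat.card B * (Nat.card WA * Y.relIndex WB))
      ≤ Nat.card Y * (Nat.card B * (Nat.card WA * Y.relIndex X)) := by gcongr
    _ = Nat.card WA * (Nat.card B * Nat.card X) := by rw [h2]; ring
    _ ≤ Nat.card WA * (Nat.card A * Nat.card Y) := by gcongr
    _ = _ := by ring

end Cfsg.Agent.S3087
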