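import Cfsg.Statements.S3103
import Cfsg.Agent.Lib.Classical.GLFourTwo
import Cfsg.Agent.Lib.PSolvable.Core
import Cfsg.Agent.Lib.PSolvable.Constrained
import Cfsg.Agent.Lib.PSolvable.Omega
import Cfsg.Agent.Lib.Coprime.Action

set_option autoImplicit false
set_option linter.style.haveILetI false
open Cfsg

namespace Cfsg.Agent.S3103

/-- Automorphisms of an elementary abelian group of order at most sixteen embed in `A₈`. -/
theorem exists_embedding {V : Type*} [Group V] [Finite V] (h2 : ∀ v : V, v ^ 2 = 1)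
    (hc : IsMulCommutative V) (hcard : Nat.card V ≤ 2 ^ 4) :
    ∃ f : MulAut V →* alternatingGroup (Fin 8), Function.Injective f := by
  classical
  letI : CommGroup V := { ‹Group V› with mul_comm := fun a b => hc.is_comm.comm a b }
  haveI := Fact.mk Nat.prime_two
  letI : Module (ZMod 2) (Additive V) := AddCommGroup.zmodModule (fun v => by
    show Additive.ofMul (v.toMul ^ 2) = 0
    rw [h2]; rfl)
  haveI : Module.Finite (ZMod 2) (Additive V) := Module.Finite.of_finite
  set k := Module.finrank (ZMod 2) (Additive V)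
  have hk : k ≤ 4 := by
    have h := Module.natCard_eq_pow_finrank (K := ZMod 2) (V := Additive V)
    rw [Nat.card_zmod, ← Nat.card_congr (Additive.ofMul : V ≃ Additive V)] at h
    exact (Nat.pow_le_pow_iff_right (by norm_num)).mp (h ▸ hcard)
  let e : (Additive V × (Fin (4 - k) → ZMod 2)) ≃ₗ[ZMod 2] (Fin 4 → ZMod 2) :=
    LinearEquiv.ofFinrankEq _ _ (by rw [Module.finrank_prod, Module.finrank_fin_fun, Module.finrank_fin_fun]; omega)
  let g : MulAut V →* LinearMap.GeneralLinearGroup (ZMod 2) (Fin 4 → ZMod 2) :=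
    { toFun := fun α => LinearMap.GeneralLinearGroup.ofLinearEquiv
        (e.symm ≪≫ₗ (LinearEquiv.prodCongr ((MulEquiv.toAdditive α).toLinearEquiv
          (fun c x => ZMod.map_smul (MulEquiv.toAdditive α).toAddMonoidHom c x)) (LinearEquiv.refl _ _)) ≪≫ₗ e)
      map_one' := Units.ext (LinearMap.ext fun x => e.apply_symm_apply x)
      map_mul' := fun α β => Units.ext (LinearMap.ext fun x => by
        simp [LinearMap.GeneralLinearGroup.ofLinearEquiv]
        rfl) }
  have hg : Function.Injective g := fun α β h => by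
    refine MulEquiv.ext fun v => ?_
    have h1 := DFunLike.congr_fun (congrArg Units.val h) (e (Additive.ofMul v, 0))
    simp [g, LinearMap.GeneralLinearGroup.ofLinearEquiv] at h1
    exact h1
  obtain ⟨a⟩ := CfsgLib.Classical.GLFourTwo.gl_equiv_alt (F := ZMod 2) (ZMod.card 2)
  exact ⟨(a.toMonoidHom.comp (Matrix.GeneralLinearGroup.toLin.symm.toMonoidHom)).comp g,
    (a.injective.comp Matrix.GeneralLinearGroup.toLin.symm.injective).comp hg⟩

/-- Let X be a finite 2-constrained group with no nontrivial normal subgroup of odd order such that O₂(X) has sectional 2-rank at most 4. Then X/O₂(X) is isomorphic to a subgroup of the alternating group of degree 8. -/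
theorem result {X : Type*} [Group X] [Finite X] (hc : Cfsg.IsPConstrained 2 X) (hO : Cfsg.oddCore X = ⊥)
    (h4 : Cfsg.SectionalPRankLE 2 4 ↥(Cfsg.pCore 2 X)) :
    ∃ f : X ⧸ Cfsg.pCore 2 X →* ↥(alternatingGroup (Fin 8)), Function.Injective f := by
  haveI := Fact.mk Nat.prime_two
  set P := Cfsg.pCore 2 X with hPdef
  haveI hPn : P.Normal := CfsgLib.Fitting.pCore_normal 2
  have hP : IsPGroup 2 P := CfsgLib.Fitting.pCore_isPGroup 2
  haveI := CfsgLib.Transfer.pPrimeCore_normal 2 X
  have hC : Subgroup.centralizer (P : Set X) ≤ P := by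
    have hc' := CfsgLib.PSolvable.isPConstrained_iff.mp hc
    let e : X ≃* X ⧸ Cfsg.pPrimeCore 2 X := ((QuotientGroup.quotientMulEquivOfEq hO).trans QuotientGroup.quotientBot).symm
    intro x hx
    have h1 : e x ∈ Cfsg.pCore 2 (X ⧸ Cfsg.pPrimeCore 2 X) := by
      refine hc' (Subgroup.mem_centralizer_iff.mpr fun y hy => ?_)
      obtain ⟨u, rfl⟩ := e.surjective y
      have hu : u ∈ P := by
        haveI := CfsgLib.Fitting.pCore_normal (G := X ⧸ Cfsg.pPrimeCore 2 X) 2
        exact CfsgLib.Fitting.le_pCore ((inferInstance : (Cfsg.pCore 2 (X ⧸ Cfsg.pPrimeCore 2 X)).Normal).comap e.toMonoidHom)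
          ((CfsgLib.Fitting.pCore_isPGroup 2).comap_of_injective _ e.injective) hy
      rw [← map_mul, ← map_mul, Subgroup.mem_centralizer_iff.mp hx u hu]
    haveI := CfsgLib.Fitting.pCore_normal (G := X ⧸ Cfsg.pPrimeCore 2 X) 2
    exact CfsgLib.Fitting.le_pCore ((inferInstance : (Cfsg.pCore 2 (X ⧸ Cfsg.pPrimeCore 2 X)).Normal).comap e.toMonoidHom)
      ((CfsgLib.Fitting.pCore_isPGroup 2).comap_of_injective _ e.injective) h1
  set V := P ⧸ frattini P
  have hV2 : ∀ v : V, v ^ 2 = 1 := by
    intro v
    obtain ⟨v, rfl⟩ := QuotientGroup.mk'_surjective _ v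
    rw [← map_pow, QuotientGroup.mk'_apply, QuotientGroup.eq_one_iff]
    exact (CfsgLib.PSolvable.commutator_le_frattini hP).2 v
  have hVc : IsMulCommutative V := ⟨⟨fun a b => by
    have hi : ∀ v : V, v⁻¹ = v := fun v => inv_eq_of_mul_eq_one_right (by rw [← pow_two]; exact hV2 v)
    rw [← hi (a * b), mul_inv_rev, hi, hi]⟩⟩
  obtain ⟨f, hf⟩ : ∃ f : MulAut V →* alternatingGroup (Fin 8), Function.Injective f := by
    refine exists_embedding hV2 hVc ?_
    have h := h4 ⊤ ((frattini P).comap Subgroup.topEquiv.toMonoidHom)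
    let e : ↥(⊤ : Subgroup P) ⧸ (frattini P).comap Subgroup.topEquiv.toMonoidHom ≃* V :=
      QuotientGroup.congr _ _ Subgroup.topEquiv (Subgroup.map_comap_eq_self_of_surjective
        Subgroup.topEquiv.surjective _)
    have h1 := h ⊤ ⟨⟨fun a b => Subtype.ext (e.injective (by
      rw [Subgroup.coe_mul, Subgroup.coe_mul, map_mul, map_mul]; exact hVc.is_comm.comm _ _))⟩⟩
      (fun a _ => e.injective (by rw [map_pow, hV2, map_one]))
    rw [Subgroup.card_top, Nat.card_congr e.toEquiv] at h1
    exact h1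
  let φ : MulAut P →* MulAut V :=
    { toFun := fun α => QuotientGroup.congr (frattini P) (frattini P) α
        ((Subgroup.characteristic_iff_map_eq.mp inferInstance) α)
      map_one' := MulEquiv.ext fun v => by
        obtain ⟨v, rfl⟩ := QuotientGroup.mk'_surjective _ v
        rfl
      map_mul' := fun α β => MulEquiv.ext fun v => by
        obtain ⟨v, rfl⟩ := QuotientGroup.mk'_surjective _ v
        rfl }
  set ρ : X →* MulAut V := φ.comp MulAut.conjNormal with hρ
  have hker : ρ.ker = P := by
    refine le_antisymm (CfsgLib.Fitting.le_pCore inferInstance ?_) fun p hp => ?_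
    · refine CfsgLib.PSolvable.isPGroup_of_forall_coprime fun x hx hxp => ?_
      have htriv : ∀ k : P, k⁻¹ * MulAut.conjNormal x k ∈ frattini P := fun k => by
        rw [← QuotientGroup.eq]
        exact (DFunLike.congr_fun hx (QuotientGroup.mk' _ k)).symm
      have h1 := CfsgLib.Coprime.mulAut_eq_one_of_frattini (MulAut.conjNormal x : MulAut P) ?_ htriv
      · have hxC : x ∈ Subgroup.centralizer (P : Set X) := Subgroup.mem_centralizer_iff.mpr fun p hp => by
          have h2 := congrArg Subtype.val (DFunLike.congr_fun h1 ⟨p, hp⟩)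
          rw [MulAut.conjNormal_apply, MulAut.one_apply] at h2
          exact (mul_inv_eq_iff_eq_mul.mp h2).symm
        obtain ⟨k, hk⟩ := hP ⟨x, hC hxC⟩
        have hk' : x ^ 2 ^ k = 1 := congrArg Subtype.val hk
        rw [← orderOf_eq_one_iff]
        exact Nat.eq_one_of_dvd_coprimes (hxp.pow_right k) dvd_rfl (orderOf_dvd_of_pow_eq_one hk')
      · obtain ⟨k, hk⟩ := IsPGroup.iff_card.mp (hP.to_subgroup (frattini P))
        rw [hk]
        exact (hxp.coprime_dvd_left (orderOf_map_dvd _ _)).pow_right k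
    · refine MulEquiv.ext fun v => ?_
      obtain ⟨v, rfl⟩ := QuotientGroup.mk'_surjective _ v
      show QuotientGroup.mk' (frattini P) (MulAut.conjNormal p v) = QuotientGroup.mk' (frattini P) v
      rw [show MulAut.conjNormal p v = ⟨p, hp⟩ * v * ⟨p, hp⟩⁻¹ from Subtype.ext (MulAut.conjNormal_apply p v),
        map_mul, map_mul, map_inv, hVc.is_comm.comm (QuotientGroup.mk' (frattini P) ⟨p, hp⟩), mul_inv_cancel_right]
  refine ⟨f.comp ((QuotientGroup.kerLift ρ).comp (QuotientGroup.quotientMulEquivOfEq hker.symm).toMonoidHom), ?_⟩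
  exact hf.comp ((QuotientGroup.kerLift_injective ρ).comp (MulEquiv.injective _))

end Cfsg.Agent.S3103
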