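import Cfsg.Statements.S3105
import Cfsg.Agent.Lib.RankFourLinear.Apply

set_option autoImplicit false
open Cfsg

namespace Cfsg.Agent.S3105

/-- Let X be a finite nonsolvable 2-constrained group with no nontrivial normal subgroup of odd order and of sectional 2-rank at most 4, and suppose X/O₂(X) is isomorphic to the projective special linear group of dimension 3 over the field with 2 elements. Then O₂(X) is elementary abelian of order 8 or 16, or is isomorphic to the direct product of a cyclic group of order 4 and an elementary abelian group of order 8. -/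
theorem result {X : Type*} [Group X] [Finite X] (hns : ¬ Group.IsSolvable X) (hc : Cfsg.IsPConstrained 2 X) (hO : Cfsg.oddCore X = ⊥)
    (h4 : Cfsg.SectionalPRankLE 2 4 X) {F : Type*} [Field F] [Fintype F] (hF : Fintype.card F = 2)
    (hQ : Nonempty (X ⧸ Cfsg.pCore 2 X ≃* Matrix.ProjectiveSpecialLinearGroup (Fin 3) F)) :
    (Cfsg.IsElementaryAbelian 2 (Cfsg.pCore 2 X) ∧ (Nat.card ↥(Cfsg.pCore 2 X) = 8 ∨ Nat.card ↥(Cfsg.pCore 2 X) = 16)) ∨
      Nonempty (↥(Cfsg.pCore 2 X) ≃* Multiplicative (ZMod 4) × (Fin 3 → Multiplicative (ZMod 2))) := by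
  haveI := CfsgLib.Fitting.pCore_normal (G := X) 2
  set Q := Cfsg.pCore 2 X with hQdef
  obtain ⟨e⟩ := hQ
  obtain ⟨hs, hcard⟩ := CfsgLib.RankFourLinear.psl_three_two hF
  haveI := hs
  have C := CfsgLib.RankFourLinear.cfg_of_quotient (Q := Q) (CfsgLib.Fitting.pCore_isPGroup 2)
    (CfsgLib.RankFourLinear.centralizer_pCore_le hc hO) h4 e.isSimpleGroup
    (by rw [Nat.card_congr e.toEquiv, hcard])
  rcases C.shape with ⟨hsq, hcQ⟩ | ⟨hab, hcQ, x, hx, hx2, hx4, hall⟩
  · refine Or.inl ⟨⟨⟨⟨fun a b => Subtype.ext ?_⟩⟩, fun a ha => ?_⟩, hcQ⟩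
    · show (a : X) * b = b * a
      calc (a : X) * b = ((a : X) * b)⁻¹ := (inv_eq_of_mul_eq_one_right (hsq _ (mul_mem a.2 b.2))).symm
        _ = b * a := by
          rw [_root_.mul_inv_rev, inv_eq_of_mul_eq_one_right (hsq _ a.2),
            inv_eq_of_mul_eq_one_right (hsq _ b.2)]
    · rw [pow_two]; exact hsq a ha
  · exact Or.inr (CfsgLib.RankFourLinear.nonempty_four_eight hab hcQ hx hx2 hx4 hall)

end Cfsg.Agent.S3105
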