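import Cfsg.Statements.S3106
import Cfsg.Agent.Lib.RankFourRadical.Apply
import Cfsg.Agent.Lib.SectRank.CenterConjugate
import Cfsg.Agent.Lib.PSolvable.Constrained
import Cfsg.Agent.Lib.Fitting.Basic

set_option autoImplicit false
open Cfsg

namespace Cfsg.Agent.S3106

/-- Let X be a finite nonsolvable 2-constrained group with no nontrivial normal subgroup of odd order and of sectional 2-rank at most 4, and suppose X/O₂(X) contains a subgroup isomorphic to the alternating group of degree 5. Then O₂(X) is elementary abelian of order 16, or O₂(X) is a central product of a quaternion group of order 8 and a dihedral group of order 8 (it has order 32 and is generated by two elementwise-commuting subgroups, one quaternion of order 8 and one dihedral of order 8, meeting in the centre). -/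
theorem result {X : Type*} [Group X] [Finite X] (hns : ¬ Group.IsSolvable X) (hc : Cfsg.IsPConstrained 2 X) (hO : Cfsg.oddCore X = ⊥)
    (h4 : Cfsg.SectionalPRankLE 2 4 X)
    (hQ : ∃ A : Subgroup (X ⧸ Cfsg.pCore 2 X), Nonempty (↥A ≃* ↥(alternatingGroup (Fin 5)))) :
    (Cfsg.IsElementaryAbelian 2 (Cfsg.pCore 2 X) ∧ Nat.card ↥(Cfsg.pCore 2 X) = 16) ∨
      (Nat.card ↥(Cfsg.pCore 2 X) = 32 ∧ ∃ A B : Subgroup ↥(Cfsg.pCore 2 X),
        Nonempty (↥A ≃* QuaternionGroup 2) ∧ Nonempty (↥B ≃* DihedralGroup 4) ∧ (∀ a ∈ A, ∀ b ∈ B, a * b = b * a) ∧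
          A ⊔ B = ⊤ ∧ A ⊓ B = Subgroup.center ↥(Cfsg.pCore 2 X)) := by
  haveI := CfsgLib.Fitting.pCore_normal (G := X) 2
  set Q := Cfsg.pCore 2 X with hQdef
  have hQ2 : IsPGroup 2 Q := CfsgLib.Fitting.pCore_isPGroup 2
  have hC : Subgroup.centralizer (Q : Set X) ≤ Q := by
    haveI := CfsgLib.Transfer.pPrimeCore_normal 2 X
    have hc' := CfsgLib.PSolvable.isPConstrained_iff.mp hc
    let e : X ≃* X ⧸ Cfsg.pPrimeCore 2 X :=
      ((QuotientGroup.quotientMulEquivOfEq hO).trans QuotientGroup.quotientBot).symm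
    haveI := CfsgLib.Fitting.pCore_normal (G := X ⧸ Cfsg.pPrimeCore 2 X) 2
    have hle : (Cfsg.pCore 2 (X ⧸ Cfsg.pPrimeCore 2 X)).comap e.toMonoidHom ≤ Q :=
      CfsgLib.Fitting.le_pCore (Subgroup.Normal.comap inferInstance e.toMonoidHom)
        ((CfsgLib.Fitting.pCore_isPGroup 2).comap_of_injective _ e.injective)
    intro x hx
    refine hle (hc' (Subgroup.mem_centralizer_iff.mpr fun y hy => ?_))
    obtain ⟨u, rfl⟩ := e.surjective y
    show e u * e x = e x * e u
    rw [← map_mul, ← map_mul, Subgroup.mem_centralizer_iff.mp hx u (hle hy)]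
  obtain ⟨A, ⟨eA⟩⟩ := hQ
  set X1 := A.comap (QuotientGroup.mk' Q)
  have hQX : Q ≤ X1 := fun q hq => by
    show QuotientGroup.mk' Q q ∈ A
    rw [show QuotientGroup.mk' Q q = 1 from (QuotientGroup.eq_one_iff q).2 hq]
    exact one_mem A
  let f : X1 →* ↥(alternatingGroup (Fin 5)) :=
    eA.toMonoidHom.comp ((QuotientGroup.mk' Q).subgroupComap A)
  have hf : Function.Surjective f := eA.surjective.comp
    (MonoidHom.subgroupComap_surjective_of_surjective _ _ (QuotientGroup.mk'_surjective Q))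
  have hker : f.ker = Q.subgroupOf X1 := by
    ext x
    rw [MonoidHom.mem_ker, Subgroup.mem_subgroupOf]
    show eA _ = 1 ↔ _
    rw [map_eq_one_iff _ eA.injective, Subtype.ext_iff]
    exact QuotientGroup.eq_one_iff _
  have eQ := Subgroup.subgroupOfEquivOfLe hQX
  have hshape := (CfsgLib.RankFourRadical.shape_of_alternating (Q.subgroupOf X1)
    (hQ2.of_equiv eQ.symm) (fun x hx => by
      refine hC (Subgroup.mem_centralizer_iff.2 fun q hq => ?_)
      exact congrArg Subtype.val (Subgroup.mem_centralizer_iff.1 hx ⟨q, hQX hq⟩ hq))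
    (CfsgLib.CenterPair.sectional_subgroup h4 X1) f hf hker).transfer eQ
  rcases hshape with ⟨h1, h2, h3⟩ | h
  · refine Or.inl ⟨⟨⟨⟨fun a b => h1 a b⟩⟩, fun a ha => ?_⟩, h3⟩
    rw [pow_two]
    exact congrArg Subtype.val (h2 ⟨a, ha⟩)
  · exact Or.inr h

end Cfsg.Agent.S3106
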