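import Cfsg.Statements.S3154
import Cfsg.Agent.Lib.LFourElemCover.Cover

set_option autoImplicit false
open Cfsg

namespace Cfsg.Agent.S3154

open CfsgLib

/-- Let X be a finite quasisimple group whose centre is an elementary abelian 2-group and whose central quotient is isomorphic to the projective special linear group of dimension 3 over the field with 4 elements. Let T be a Sylow 2-subgroup of X and H ≠ K subgroups of T containing the centre Z(X) whose images in X/Z(X) are elementary abelian of order 16 (the two such subgroups of a Sylow 2-subgroup of the quotient). Then H and K are elementary abelian, H ∩ K is the centre of the subgroup they generate, and each of N_X(H), N_X(K) is a split extension of H, respectively K, by the projective special linear group of dimension 2 over the field with 4 elements (there is a complement isomorphic to that group). -/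
theorem result {X : Type*} [Group X] [Finite X] (hq : Cfsg.IsQuasisimple X) (hZ : Cfsg.IsElementaryAbelian 2 (Subgroup.center X))
    {F : Type*} [Field F] [Fintype F] (hF : Fintype.card F = 4) (hXL : Nonempty ((X ⧸ Subgroup.center X) ≃* Matrix.ProjectiveSpecialLinearGroup (Fin 3) F))
    (T : Sylow 2 X) (H K : Subgroup X) (hHK : H ≠ K) (hHT : H ≤ T) (hKT : K ≤ T) (hZH : Subgroup.center X ≤ H) (hZK : Subgroup.center X ≤ K)
    (hH : Cfsg.IsElementaryAbelian 2 (H.map (QuotientGroup.mk' (Subgroup.center X))) ∧ Nat.card ↥(H.map (QuotientGroup.mk' (Subgroup.center X))) = 16)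
    (hK : Cfsg.IsElementaryAbelian 2 (K.map (QuotientGroup.mk' (Subgroup.center X))) ∧ Nat.card ↥(K.map (QuotientGroup.mk' (Subgroup.center X))) = 16) :
    Cfsg.IsElementaryAbelian 2 H ∧ Cfsg.IsElementaryAbelian 2 K ∧
      H ⊓ K = (Subgroup.center ↥(H ⊔ K)).map (H ⊔ K).subtype ∧
      (∃ C : Subgroup X, C ≤ Subgroup.normalizer (H : Set X) ∧ C ⊓ H = ⊥ ∧ H ⊔ C = Subgroup.normalizer (H : Set X) ∧
        Nonempty (↥C ≃* Matrix.ProjectiveSpecialLinearGroup (Fin 2) F)) ∧
      (∃ C : Subgroup X, C ≤ Subgroup.normalizer (K : Set X) ∧ C ⊓ K = ⊥ ∧ K ⊔ C = Subgroup.normalizer (K : Set X) ∧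
        Nonempty (↥C ≃* Matrix.ProjectiveSpecialLinearGroup (Fin 2) F)) := by
  classical
  obtain ⟨e⟩ := hXL
  haveI : Fact (Nat.Prime 2) := ⟨Nat.prime_two⟩
  set σ₀ := e.toMonoidHom.comp (QuotientGroup.mk' (Subgroup.center X)) with hσ₀
  have hs₀ : Function.Surjective σ₀ := e.surjective.comp (QuotientGroup.mk'_surjective _)
  have hker₀ : ∀ x, σ₀ x = 1 ↔ x ∈ Subgroup.center X := fun x =>
    (map_eq_one_iff e e.injective).trans (QuotientGroup.eq_one_iff x)
  have h2 := CfsgLib.Classical.PSLThreeFour.two_eq_zero hF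
  have hcardU : Nat.card (LFourElemCover.U : Subgroup (Matrix.ProjectiveSpecialLinearGroup (Fin 3) F)) =
      2 ^ (Nat.card (Matrix.ProjectiveSpecialLinearGroup (Fin 3) F)).factorization 2 := by
    rw [LFourElemCover.card_U, Nat.card_eq_fintype_card (α := F), hF,
      CfsgLib.Schur.LThreeFour.card_PSL_three_four hF, show (20160 : ℕ) = 2 ^ 6 * 315 by norm_num,
      Nat.factorization_mul (by norm_num) (by norm_num), Finsupp.add_apply,
      Nat.prime_two.factorization_pow, Finsupp.single_eq_same,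
      Nat.factorization_eq_zero_of_not_dvd (by norm_num : ¬ 2 ∣ 315)]
    norm_num
  obtain ⟨g, hg⟩ := MulAction.exists_smul_eq (Matrix.ProjectiveSpecialLinearGroup (Fin 3) F)
    (T.mapSurjective hs₀) (Sylow.ofCard _ hcardU)
  set σ := (MulAut.conj g).toMonoidHom.comp σ₀ with hσ
  have hs : Function.Surjective σ := (MulAut.conj g).surjective.comp hs₀
  have hker : ∀ x, σ x = 1 ↔ x ∈ Subgroup.center X := fun x =>
    (map_eq_one_iff (MulAut.conj g) (MulAut.conj g).injective).trans (hker₀ x)
  have hc : σ.ker ≤ Subgroup.center X := fun x hx => (hker x).mp hx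
  have hk : ∀ z ∈ σ.ker, z * z = 1 := fun z hz => by rw [← sq]; exact hZ.2 z (hc hz)
  have hTU : ∀ x ∈ (T : Subgroup X), σ x ∈ LFourElemCover.U := by
    intro x hx
    have h := congrArg (fun P : Sylow 2 _ => (P : Subgroup (Matrix.ProjectiveSpecialLinearGroup (Fin 3) F))) hg
    simp only [Sylow.coe_subgroup_smul] at h
    rw [show ((Sylow.ofCard _ hcardU : Sylow 2 _) : Subgroup (Matrix.ProjectiveSpecialLinearGroup (Fin 3) F)) = LFourElemCover.U from rfl] at h
    rw [← h]
    exact Subgroup.smul_mem_pointwise_smul _ _ _ ⟨x, hx, rfl⟩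
  -- the two preimages
  have hclass : ∀ E : Subgroup X, E ≤ T → Subgroup.center X ≤ E →
      Cfsg.IsElementaryAbelian 2 (E.map (QuotientGroup.mk' (Subgroup.center X))) ∧
        Nat.card ↥(E.map (QuotientGroup.mk' (Subgroup.center X))) = 16 →
      E = LFourElemCover.A₁.comap σ ∨ E = LFourElemCover.A₂.comap σ := by
    intro E hET hZE ⟨⟨hEc, hE2⟩, hE16⟩
    let f := (MulAut.conj g).toMonoidHom.comp e.toMonoidHom
    have hf : Function.Injective f := (MulAut.conj g).injective.comp e.injective
    have hmap : E.map σ = (E.map (QuotientGroup.mk' (Subgroup.center X))).map f := by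
      rw [Subgroup.map_map]; rfl
    have hEeq : E = (E.map σ).comap σ := by
      rw [Subgroup.comap_map_eq, sup_eq_left.mpr (hc.trans hZE)]
    have h := LFourElemCover.eq_A₁_or_eq_A₂ h2 (E := E.map σ) ?_ ?_ ?_ ?_
    · exact h.imp (fun h => hEeq.trans (by rw [h])) (fun h => hEeq.trans (by rw [h]))
    · rintro _ ⟨x, hx, rfl⟩; exact hTU x (hET hx)
    · rw [hmap]
      rintro _ ⟨x, hx, rfl⟩ _ ⟨y, hy, rfl⟩
      haveI := hEc
      rw [← map_mul, ← map_mul, show x * y = y * x from congrArg Subtype.val (mul_comm' (⟨x, hx⟩ : Subgroup.map _ E) ⟨y, hy⟩)]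
    · rw [hmap]
      rintro _ ⟨x, hx, rfl⟩
      rw [← map_mul, ← sq, hE2 x hx, map_one]
    · rw [hmap, Subgroup.card_map_of_injective hf, hE16, Nat.card_eq_fintype_card (α := F), hF]
  -- the second is the first for the twisted homomorphism
  set σ' := (LFourElemCover.flip : MulAut (Matrix.ProjectiveSpecialLinearGroup (Fin 3) F)).toMonoidHom.comp σ
  have hA₂ : LFourElemCover.A₂.comap σ = LFourElemCover.A₁.comap σ' := by
    rw [show LFourElemCover.A₁.comap σ' = (LFourElemCover.A₁.comap
      (LFourElemCover.flip : MulAut (Matrix.ProjectiveSpecialLinearGroup (Fin 3) F)).toMonoidHom).comap σ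
      from (Subgroup.comap_comap _ _ _).symm, LFourElemCover.comap_flip_A₁]
  have hker' : σ'.ker ≤ σ.ker := fun x hx =>
    (map_eq_one_iff (LFourElemCover.flip : MulAut _) (MulEquiv.injective _)).mp hx
  have s₁ := LFourElemCover.side hF σ hs hc hk
  have s₂ := LFourElemCover.side hF σ'
    ((LFourElemCover.flip : MulAut (Matrix.ProjectiveSpecialLinearGroup (Fin 3) F)).surjective.comp hs) (hker'.trans hc)
    (fun z hz => hk z (hker' hz))
  rw [← hA₂] at s₂
  have hmeet : LFourElemCover.A₁.comap σ ⊓ LFourElemCover.A₂.comap σ =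
      (Subgroup.center ↥(LFourElemCover.A₁.comap σ ⊔ LFourElemCover.A₂.comap σ)).map
        (LFourElemCover.A₁.comap σ ⊔ LFourElemCover.A₂.comap σ).subtype := by
    haveI := s₁.1.1; haveI := s₂.1.1
    refine le_antisymm (fun z hz => ?_) ?_
    · refine ⟨⟨z, Subgroup.mem_sup_left hz.1⟩, Subgroup.mem_center_iff.mpr fun w => Subtype.ext ?_, rfl⟩
      have hle : LFourElemCover.A₁.comap σ ⊔ LFourElemCover.A₂.comap σ ≤ Subgroup.centralizer {z} := by
        refine sup_le (fun x hx => ?_) fun x hx => ?_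
        · exact Subgroup.mem_centralizer_singleton_iff.mpr
            (congrArg Subtype.val (mul_comm' (⟨x, hx⟩ : LFourElemCover.A₁.comap σ) ⟨z, hz.1⟩))
        · exact Subgroup.mem_centralizer_singleton_iff.mpr
            (congrArg Subtype.val (mul_comm' (⟨x, hx⟩ : LFourElemCover.A₂.comap σ) ⟨z, hz.2⟩))
      exact Subgroup.mem_centralizer_singleton_iff.mp (hle w.2)
    · rintro _ ⟨z, hz, rfl⟩
      have hU : σ (z : X) ∈ LFourElemCover.U := (sup_le (Subgroup.comap_mono LFourElemCover.A₁_le)
        (Subgroup.comap_mono LFourElemCover.A₂_le) : _ ≤ LFourElemCover.U.comap σ) z.2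
      obtain ⟨a, b, c, hzc⟩ := hU
      obtain ⟨x, hx⟩ := hs (LFourElemCover.pm 1 0 0)
      obtain ⟨y, hy⟩ := hs (LFourElemCover.pm 0 1 0)
      have h1 := congrArg σ (congrArg Subtype.val (Subgroup.mem_center_iff.mp hz
        ⟨x, Subgroup.mem_sup_left (show σ x ∈ LFourElemCover.A₁ from ⟨1, 0, hx⟩)⟩))
      have h3 := congrArg σ (congrArg Subtype.val (Subgroup.mem_center_iff.mp hz
        ⟨y, Subgroup.mem_sup_right (show σ y ∈ LFourElemCover.A₂ from ⟨1, 0, hy⟩)⟩))
      simp only [Subgroup.coe_mul, map_mul, hzc, hx, hy, LFourElemCover.pm_mul] at h1 h3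
      obtain ⟨-, -, e1⟩ := LFourElemCover.pm_inj h1
      obtain ⟨-, -, e3⟩ := LFourElemCover.pm_inj h3
      have hb : b = 0 := by linear_combination e1
      have ha : a = 0 := by linear_combination -e3
      exact Subgroup.mem_inf.mpr ⟨⟨a, c, by rw [Subgroup.coe_subtype, hzc, hb]⟩,
        ⟨b, c, by rw [Subgroup.coe_subtype, hzc, ha]⟩⟩
  rcases hclass H hHT hZH hH with rfl | rfl <;> rcases hclass K hKT hZK hK with rfl | rfl
  · exact absurd rfl hHK
  · exact ⟨s₁.1, s₂.1, hmeet, s₁.2, s₂.2⟩
  · refine ⟨s₂.1, s₁.1, ?_, s₂.2, s₁.2⟩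
    rw [inf_comm, hmeet, sup_comm]
  · exact absurd rfl hHK

end Cfsg.Agent.S3154
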