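import Cfsg.Statements.S3155
import Mathlib

set_option autoImplicit false
open Cfsg

namespace Cfsg.Agent.S3155

/-- Let B be the direct product of three cyclic groups of order 4. Then the automorphism of B inverting every element is not the square of any automorphism of B. -/
theorem result {B : Type*} [CommGroup B] [Finite B] (hB : Nonempty (B ≃* Multiplicative (ZMod 4 × ZMod 4 × ZMod 4)))
    (τ : B ≃* B) : τ.trans τ ≠ MulEquiv.inv B := by
  intro h
  obtain ⟨e⟩ := hB
  let f : (ZMod 4 × ZMod 4 × ZMod 4) →+ (ZMod 4 × ZMod 4 × ZMod 4) :=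
    AddMonoidHom.mk' (fun x => Multiplicative.toAdd (e (τ (e.symm (Multiplicative.ofAdd x)))))
      (fun a b => by simp only [ofAdd_add, map_mul, toAdd_mul])
  have hf : ∀ x, f (f x) = -x := fun x => by
    show Multiplicative.toAdd (e (τ (e.symm (Multiplicative.ofAdd (Multiplicative.toAdd
      (e (τ (e.symm (Multiplicative.ofAdd x))))))))) = -x
    rw [ofAdd_toAdd, MulEquiv.symm_apply_apply]
    have h' := DFunLike.congr_fun h (e.symm (Multiplicative.ofAdd x))
    simp only [MulEquiv.trans_apply, MulEquiv.inv_apply] at h'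
    rw [h', map_inv, MulEquiv.apply_symm_apply]
    rfl
  have hL : (f.toZModLinearMap 4) ∘ₗ (f.toZModLinearMap 4) = (-1 : ZMod 4) • LinearMap.id := by
    refine LinearMap.ext fun x => ?_
    simp only [LinearMap.comp_apply, AddMonoidHom.coe_toZModLinearMap, LinearMap.smul_apply,
      LinearMap.id_apply, neg_smul, one_smul]
    exact hf x
  have hd := congrArg LinearMap.det hL
  rw [LinearMap.det_comp, LinearMap.det_smul, LinearMap.det_id] at hd
  have : Fact (1 < 4) := ⟨by norm_num⟩
  have h3 : Module.finrank (ZMod 4) (ZMod 4 × ZMod 4 × ZMod 4) = 3 := by simp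
  rw [h3, mul_one] at hd
  generalize LinearMap.det (f.toZModLinearMap 4) = d at hd
  revert d
  decide

end Cfsg.Agent.S3155
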