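import Cfsg.Statements.S3315
import Cfsg.Agent.Lib.Classical.UnitaryRootGroup

set_option autoImplicit false
set_option linter.style.haveILetI false
open Cfsg

namespace Cfsg.Agent.S3315

open CfsgLib.Classical CfsgLib.Classical.URoot
open CfsgLib.ClassicalAut (Unitary.Conj)

variable {F : Type*} [Field F] [Finite F] {q : ℕ} (K : Unitary.Conj F q)

/-- The fixed elements of the conjugation. -/
def fixA : AddSubgroup F where
  carrier := {c | K.bar c = c}
  zero_mem' := map_zero _
  add_mem' := by intro a b (ha : K.bar a = a) (hb : K.bar b = b); simp [ha, hb]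
  neg_mem' := by intro a (ha : K.bar a = a); simp [ha]

/-- The norm. -/
def nrm (a : F) : fixA K := ⟨K.bar a * a, by
  show K.bar (K.bar a * a) = K.bar a * a
  rw [map_mul, K.bar_bar, mul_comm]⟩

/-- The trace pairing. -/
def bil (a : F) : F →+ fixA K where
  toFun b := ⟨K.bar a * b + K.bar b * a, by
    show K.bar _ = _
    simp only [map_add, map_mul, K.bar_bar]
    ring⟩
  map_zero' := Subtype.ext (by simp)
  map_add' b b' := Subtype.ext (by simp; ring)

theorem add_self (h2 : (2 : F) = 0) (x : F) : x + x = 0 := by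
  rw [← two_mul, h2, zero_mul]

/-- The key algebraic fact: a pair of compatible involutory additive maps is trivial on the fixed field. -/
theorem trivial_on_fixed (h2 : (2 : F) = 0) {n : ℕ} (hq : q = 2 ^ n) (L : F →+ F)
    (M : fixA K →+ fixA K) (hL : ∀ a, L (L a) = a) (hM : ∀ w, M (M w) = w)
    (hN : ∀ a, M (nrm K a) = nrm K (L a)) : ∀ w, M w = w := by
  classical
  have hW : ∀ w : fixA K, w + w = 0 := fun w => Subtype.ext (add_self h2 (w : F))
  have hsub : ∀ x y : F, x + y = 0 → x = y := fun x y h => by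
    linear_combination h - y * h2
  have hB : ∀ a b, M (bil K a b) = bil K (L a) (L b) := by
    intro a b
    have key : ∀ x y, nrm K (x + y) = nrm K x + nrm K y + bil K x y := fun x y =>
      Subtype.ext (by simp [nrm, bil]; ring)
    have h := hN (a + b)
    rw [key, map_add, map_add, hN, hN, map_add, key] at h
    exact add_left_cancel h
  let D : F →+ F := L + AddMonoidHom.id F
  let E : fixA K →+ fixA K := M + AddMonoidHom.id (fixA K)
  have hDD : D.range ≤ D.ker := by
    rintro _ ⟨y, rfl⟩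
    show L (L y + y) + (L y + y) = 0
    rw [map_add, hL]
    linear_combination (L y + y) * h2
  have hEE : E.range ≤ E.ker := by
    rintro _ ⟨w, rfl⟩
    show M (M w + w) + (M w + w) = 0
    rw [map_add, hM, add_comm w (M w)]
    exact hW _
  intro w0
  by_contra hw0
  set I := E.range with hI
  set Wf := E.ker
  set U := D.ker
  set U0 := D.range
  have hi : ∃ i ∈ I, i ≠ 0 := by
    refine ⟨E w0, ⟨w0, rfl⟩, fun h => hw0 ?_⟩
    have h' : M w0 + w0 = 0 := h
    exact Subtype.ext (hsub _ _ (congrArg Subtype.val h'))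
  obtain ⟨i0, hi0, hi0n⟩ := hi
  have hi0' : (i0 : F) ≠ 0 := fun h => hi0n (Subtype.ext h)
  -- cardinalities
  have cW : Nat.card (fixA K) = q := card_fix K
  have cWf : Nat.card Wf * Nat.card I = q := by
    refine Eq.trans ?_ cW
    rw [AddSubgroup.card_eq_card_quotient_mul_card_addSubgroup Wf,
      Nat.card_congr (QuotientAddGroup.quotientKerEquivRange E).toEquiv, mul_comm]
  have cU : Nat.card U * Nat.card U0 = q ^ 2 := by
    refine Eq.trans ?_ K.card
    rw [AddSubgroup.card_eq_card_quotient_mul_card_addSubgroup U,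
      Nat.card_congr (QuotientAddGroup.quotientKerEquivRange D).toEquiv, mul_comm]
  have cU0 : Nat.card U0 ≤ Nat.card U := AddSubgroup.card_le_of_le hDD
  have hUq : q ≤ Nat.card U := by nlinarith
  -- the pairing with a fixed vector
  have hD0 : ∀ a ∈ U, L a = a := fun a ha => hsub _ _ ha
  have hsurj : ∀ a : F, a ≠ 0 → ∀ w : fixA K, ∃ y, bil K a y = w := by
    intro a ha w
    obtain ⟨y, hy⟩ := K.exists_trace
    have hn : K.bar a * a ≠ 0 := mul_ne_zero ((map_ne_zero K.bar).2 ha) ha
    refine ⟨a * ((w : F) / (K.bar a * a) * (y / (y + K.bar y))), Subtype.ext ?_⟩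
    have hw : K.bar (w : F) = w := w.2
    show K.bar a * _ + K.bar _ * a = (w : F)
    simp only [map_mul, map_div₀, map_add, K.bar_bar, hw, add_comm (K.bar y) y]
    field_simp
    exact mul_div_cancel_left₀ _ ((map_ne_zero K.bar).2 ha)
  have hBI : ∀ a ∈ U, a ≠ 0 → U0.map (bil K a) = I := by
    intro a ha han
    have e : ∀ y, bil K a (D y) = E (bil K a y) := by
      intro y
      show bil K a (L y + y) = M (bil K a y) + bil K a y
      rw [map_add, hB, hD0 a ha]
    ext w
    constructor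
    · rintro ⟨_, ⟨y, rfl⟩, rfl⟩
      exact ⟨_, (e y).symm⟩
    · rintro ⟨v, rfl⟩
      obtain ⟨y, rfl⟩ := hsurj a han v
      exact ⟨_, ⟨y, rfl⟩, e y⟩
  have hBW : ∀ a ∈ U, ∀ b ∈ U, bil K a b ∈ Wf := by
    intro a ha b hb
    show M (bil K a b) + bil K a b = 0
    rw [hB, hD0 a ha, hD0 b hb]
    exact hW _
  -- the stabiliser of the image
  let Kc : Set F := {c | K.bar c = c ∧ ∀ i ∈ I, ∃ j ∈ I, (j : F) = c * i}
  have hKcard : Nat.card Kc ≤ Nat.card I := by
    have hj : ∀ c : Kc, ∃ j : I, ((j : fixA K) : F) = (c : F) * i0 := fun c => by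
      obtain ⟨j, hj, e⟩ := c.2.2 i0 hi0
      exact ⟨⟨j, hj⟩, e⟩
    choose f hf using hj
    refine Nat.card_le_card_of_injective f fun c d h => Subtype.ext ?_
    have := hf c
    rw [h, hf d] at this
    exact (mul_right_cancel₀ hi0' this).symm
  have hSK : ∀ a ∈ U, a ≠ 0 → ∀ c : F, K.bar c = c → c * a ∈ U → c ∈ Kc := by
    intro a ha han c hc hca
    by_cases hc0 : c = 0
    · subst hc0
      exact ⟨hc, fun i _ => ⟨0, I.zero_mem, by simp⟩⟩
    refine ⟨hc, fun i hiI => ?_⟩
    rw [← hBI a ha han] at hiI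
    obtain ⟨y, hy, rfl⟩ := hiI
    refine ⟨bil K (c * a) y, ?_, ?_⟩
    · rw [← hBI _ hca (mul_ne_zero hc0 han)]; exact ⟨y, hy, rfl⟩
    · show K.bar (c * a) * y + K.bar y * (c * a) = c * (K.bar a * y + K.bar y * a)
      rw [map_mul, hc]; ring
  have hcount : ∀ a ∈ U, a ≠ 0 →
      Nat.card U ≤ Nat.card Kc * Nat.card ↥(U.map (bil K a)) := by
    intro a ha han
    let f : U →+ fixA K := (bil K a).comp U.subtype
    rw [AddSubgroup.card_eq_card_quotient_mul_card_addSubgroup f.ker,
      Nat.card_congr (QuotientAddGroup.quotientKerEquivRange f).toEquiv, mul_comm]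
    refine Nat.mul_le_mul ?_ (le_of_eq ?_)
    · have hmem : ∀ y : f.ker, ((y : U) : F) / a ∈ Kc := by
        intro y
        have h : bil K a ((y : U) : F) = 0 := y.2
        have h' : K.bar a * ((y : U) : F) + K.bar ((y : U) : F) * a = 0 := congrArg Subtype.val h
        refine hSK a ha han _ ?_ ?_
        · have hab : K.bar a ≠ 0 := (map_ne_zero K.bar).2 han
          rw [map_div₀, div_eq_div_iff hab han]
          linear_combination h' - K.bar a * ((y : U) : F) * h2
        · rw [div_mul_cancel₀ _ han]; exact (y : U).2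
      refine Nat.card_le_card_of_injective (fun y => (⟨_, hmem y⟩ : Kc)) fun y z h => ?_
      have h' : ((y : U) : F) / a = ((z : U) : F) / a := congrArg Subtype.val h
      exact Subtype.ext (Subtype.ext ((div_left_inj' han).mp h'))
    · rw [AddMonoidHom.range_eq_map, ← AddSubgroup.map_map, ← AddMonoidHom.range_eq_map,
        AddSubgroup.range_subtype]
  obtain ⟨a, haU, han⟩ : ∃ a ∈ U, a ≠ (0 : F) := by
    by_contra h
    push Not at h
    have : U = ⊥ := (AddSubgroup.eq_bot_iff_forall _).mpr h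
    rw [this, AddSubgroup.card_bot] at hUq
    have := K.two_le
    omega
  have hmapWf : U.map (bil K a) ≤ Wf := by
    rintro _ ⟨b, hb, rfl⟩
    exact hBW a haU b hb
  have hWfpos : 0 < Nat.card Wf := Nat.card_pos
  have hc1 := hcount a haU han
  have hc2 := AddSubgroup.card_le_of_le hmapWf
  have hUe : Nat.card U = q := by nlinarith
  have hU0 : U0 = U := AddSubgroup.eq_of_le_of_card_ge hDD (by
    have hq0 : 0 < q := by have := K.two_le; omega
    nlinarith)
  have hWI : U.map (bil K a) = I := by rw [← hU0]; exact hBI a haU han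
  rw [hWI] at hc1
  have hIpos : 0 < Nat.card I := Nat.card_pos
  have hIW : I = Wf := AddSubgroup.eq_of_le_of_card_ge hEE (by
    by_contra hlt
    push Not at hlt
    nlinarith)
  have hIq : Nat.card I * Nat.card I = q := (by rw [hIW] : Nat.card I * Nat.card I = Nat.card Wf * Nat.card I).trans cWf
  have hKI : Nat.card Kc = Nat.card I := le_antisymm hKcard (by nlinarith)
  -- every element of the image is a multiple of `i0` by an element of the stabiliser
  have hscal : ∀ i ∈ I, ∃ c ∈ Kc, (i : F) = c * i0 := by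
    have hj : ∀ c : Kc, ∃ j : I, ((j : fixA K) : F) = (c : F) * i0 := fun c => by
      obtain ⟨j, hj, e⟩ := c.2.2 i0 hi0
      exact ⟨⟨j, hj⟩, e⟩
    choose f hf using hj
    have hfi : Function.Injective f := fun c d h => by
      have := hf c
      rw [h, hf d] at this
      exact Subtype.ext (mul_right_cancel₀ hi0' this).symm
    intro i hi
    obtain ⟨c, hc⟩ := ((Nat.bijective_iff_injective_and_card f).mpr ⟨hfi, hKI⟩).2 ⟨i, hi⟩
    exact ⟨c, c.2, by rw [← hf c, hc]⟩
  -- the stabiliser is a subfield of order `|I|`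
  let KF : Subfield F :=
    { carrier := Kc
      one_mem' := ⟨map_one _, fun i hi => ⟨i, hi, by simp⟩⟩
      mul_mem' := fun {c d} hc hd => ⟨by rw [map_mul, hc.1, hd.1], fun i hi => by
        obtain ⟨j, hj, ej⟩ := hd.2 i hi
        obtain ⟨l, hl, el⟩ := hc.2 j hj
        exact ⟨l, hl, by rw [el, ej, mul_assoc]⟩⟩
      zero_mem' := ⟨map_zero _, fun i _ => ⟨0, I.zero_mem, by simp⟩⟩
      add_mem' := fun {c d} hc hd => ⟨by rw [map_add, hc.1, hd.1], fun i hi => by
        obtain ⟨j, hj, ej⟩ := hd.2 i hi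
        obtain ⟨l, hl, el⟩ := hc.2 i hi
        exact ⟨l + j, I.add_mem hl hj, by simp [el, ej, add_mul]⟩⟩
      neg_mem' := fun {c} hc => ⟨by rw [map_neg, hc.1], fun i hi => by
        obtain ⟨j, hj, ej⟩ := hc.2 i hi
        exact ⟨-j, I.neg_mem hj, by simp [ej]⟩⟩
      inv_mem' := fun c hc => ⟨by rw [map_inv₀, hc.1], fun i hi => by
        by_cases hc0 : c = 0
        · exact ⟨0, I.zero_mem, by simp [hc0]⟩
        have hj : ∀ i : I, ∃ j : I, ((j : fixA K) : F) = c * ((i : fixA K) : F) := fun i => by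
          obtain ⟨j, hj, e⟩ := hc.2 i i.2
          exact ⟨⟨j, hj⟩, e⟩
        choose g hg using hj
        have hgi : Function.Injective g := fun x y h => by
          have := hg x
          rw [h, hg y] at this
          exact Subtype.ext (Subtype.ext (mul_left_cancel₀ hc0 this).symm)
        obtain ⟨l, hl⟩ := Finite.injective_iff_surjective.mp hgi ⟨i, hi⟩
        refine ⟨l, l.2, ?_⟩
        have := hg l
        rw [hl] at this
        show ((l : fixA K) : F) = c⁻¹ * (i : F)
        rw [show (i : F) = c * ((l : fixA K) : F) from this, inv_mul_cancel_left₀ hc0]⟩ }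
  set k := Nat.card I with hk
  have hpow : ∀ c ∈ Kc, c ^ k = c := by
    intro c hc
    have := Fintype.ofFinite KF
    have h := FiniteField.pow_card (⟨c, hc⟩ : KF)
    rw [← Nat.card_eq_fintype_card, show Nat.card KF = k from hKI] at h
    exact congrArg Subtype.val h
  obtain ⟨j, -, hj⟩ := (Nat.dvd_prime_pow Nat.prime_two).mp
    (show k ∣ 2 ^ n from ⟨k, by rw [← hq, hIq]⟩)
  haveI : CharP F 2 := CharTwo.of_one_ne_zero_of_two_eq_zero one_ne_zero h2
  haveI : Fact (Nat.Prime 2) := ⟨Nat.prime_two⟩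
  -- two fixed vectors spanning a hyperbolic pair give a root of a quadratic equation over the subfield
  obtain ⟨b, hbU, hb⟩ : i0 ∈ U.map (bil K a) := hWI.symm ▸ hi0
  have hNW : ∀ x ∈ U, nrm K x ∈ I := fun x hx => by
    rw [hIW]
    show M (nrm K x) + nrm K x = 0
    rw [hN, hD0 x hx]
    exact hW _
  obtain ⟨α, hα, eα⟩ := hscal _ (hNW a haU)
  obtain ⟨β, hβ, eβ⟩ := hscal _ (hNW b hbU)
  change K.bar a * a = α * (i0 : F) at eα
  change K.bar b * b = β * (i0 : F) at eβ
  have eB : K.bar a * b + K.bar b * a = (i0 : F) := congrArg Subtype.val hb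
  have hab : K.bar a ≠ 0 := (map_ne_zero K.bar).2 han
  have hα0 : α ≠ 0 := fun h => by
    rw [h, zero_mul] at eα
    exact mul_ne_zero hab han eα
  set u := b / a with hu
  have hs : α * (u + K.bar u) = 1 := by
    refine mul_right_cancel₀ hi0' ?_
    rw [one_mul, mul_right_comm, ← eα, ← eB, hu, map_div₀]
    field_simp
  have hp : α * (u * K.bar u) = β := by
    refine mul_right_cancel₀ hi0' ?_
    rw [mul_right_comm, ← eα, ← eβ, hu, map_div₀]
    field_simp
  set v := u ^ k with hv
  have hv1 : α * v ^ 2 + v + β = 0 := by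
    have h0 : α * u ^ 2 + u + β = 0 := by
      rw [← hp]
      linear_combination -u * hs + (α * (u * K.bar u) + α * u ^ 2) * h2
    have h : (α * u ^ 2 + u + β) ^ k = (0 : F) ^ k := by rw [h0]
    rw [hj, add_pow_char_pow, add_pow_char_pow, mul_pow, ← pow_mul, mul_comm 2, pow_mul,
      zero_pow (pow_ne_zero _ two_ne_zero), ← hj, hpow α hα, hpow β hβ] at h
    exact h
  have hv2 : v = u ∨ v = K.bar u := by
    have : (v - u) * (v - K.bar u) = 0 := by
      refine (mul_right_inj' hα0).mp ?_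
      rw [mul_zero]
      linear_combination hv1 + (-v) * hs + hp - v * h2
    rcases mul_eq_zero.mp this with h | h
    · exact Or.inl (sub_eq_zero.mp h)
    · exact Or.inr (sub_eq_zero.mp h)
  have hfix : u ^ q = u := by
    rw [← hIq, pow_mul]
    rcases hv2 with h | h
    · rw [show u ^ k = u from h, show u ^ k = u from h]
    · rw [show u ^ k = K.bar u from h, ← map_pow, show u ^ k = K.bar u from h, K.bar_bar]
  have hu2 : K.bar u = u := by rw [K.bar_apply, hfix]
  rw [hu2] at hs
  exact one_ne_zero (show (1 : F) = 0 by linear_combination -hs + α * u * h2)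


/-- Let S be a Sylow 2-subgroup of SU₃(2ⁿ), n ≥ 2 (realised over the field with 4ⁿ elements). If a finite 2-group R contains a subgroup S' of index 2 isomorphic to S, then the centre of S' is contained in the centre of R. -/
theorem result {R : Type*} [Group R] [Finite R]
    (hR : IsPGroup 2 R) (n : ℕ) (hn : 2 ≤ n) {F : Type*} [Field F] [Fintype F] (hF : Fintype.card F = 4 ^ n)
    (P : Sylow 2 ↥(Cfsg.SU 3 F (2 ^ n))) (S' : Subgroup R) (hS : Nonempty (↥S' ≃* ↥(P : Subgroup ↥(Cfsg.SU 3 F (2 ^ n)))))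
    (hidx : S'.index = 2) :
    (Subgroup.center ↥S').map S'.subtype ≤ Subgroup.center R := by
  classical
  haveI : Finite F := Finite.of_fintype F
  haveI : Fact (Nat.Prime 2) := ⟨Nat.prime_two⟩
  have hF2 : Fintype.card F = (2 ^ n) ^ 2 := by
    rw [hF, ← pow_mul, show (4 : ℕ) = 2 ^ 2 from rfl, ← pow_mul, mul_comm]
  obtain ⟨K⟩ := Herm.exists_conj_of_card (F := F) (q := 2 ^ n) hF2
  have h2 : (2 : F) = 0 := by
    have h := FiniteField.cast_card_eq_zero F
    rw [hF2, ← pow_mul] at h
    push_cast at h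
    exact pow_eq_zero_iff (by omega) |>.mp h
  -- the Sylow subgroup of `SU` maps isomorphically to one of `PSU`
  let mk : Cfsg.SU 3 F (2 ^ n) →* Cfsg.PSU 3 F (2 ^ n) := QuotientGroup.mk' _
  have hmks : Function.Surjective mk := QuotientGroup.mk'_surjective _
  have hinj : Function.Injective (mk.comp (P : Subgroup ↥(Cfsg.SU 3 F (2 ^ n))).subtype) := by
    rw [← MonoidHom.ker_eq_bot_iff, Subgroup.eq_bot_iff_forall]
    intro x hx
    have hxz : (x : ↥(Cfsg.SU 3 F (2 ^ n))) ∈ Subgroup.center ↥(Cfsg.SU 3 F (2 ^ n)) :=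
      (QuotientGroup.eq_one_iff _).mp hx
    have d1 : orderOf (x : ↥(Cfsg.SU 3 F (2 ^ n))) ∣ 3 :=
      (Subgroup.orderOf_dvd_natCard _ hxz).trans
        (Herm.card_center K (n := 3) (by norm_num) ▸ Nat.gcd_dvd_left 3 _)
    obtain ⟨j, hj⟩ := P.2 x
    have d2 : orderOf (x : ↥(Cfsg.SU 3 F (2 ^ n))) ∣ 2 ^ j := by
      rw [Subgroup.orderOf_coe]; exact orderOf_dvd_of_pow_eq_one hj
    have := Nat.eq_one_of_dvd_coprimes (Nat.Coprime.pow_right j (by norm_num : Nat.Coprime 3 2)) d1 d2
    exact Subtype.ext (orderOf_eq_one_iff.mp this)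
  let Q : Sylow 2 (Cfsg.PSU 3 F (2 ^ n)) := P.mapSurjective hmks
  obtain ⟨ψ0, hψ0⟩ := exists_coord K (by omega) rfl h2 Q
  obtain ⟨e⟩ := hS
  let e2 : ↥S' ≃* ↥(Q : Subgroup (Cfsg.PSU 3 F (2 ^ n))) :=
    (e.trans (MonoidHom.ofInjective hinj)).trans (MulEquiv.subgroupCongr (by
      rw [MonoidHom.range_eq_map, ← Subgroup.map_map, ← MonoidHom.range_eq_map,
        Subgroup.range_subtype]
      rfl))
  let ψ : Par K → ↥S' := fun x => e2.symm (ψ0 x)
  have hψ : IsCoord K ψ :=
    ⟨e2.symm.bijective.comp hψ0.1, fun x y => by simp only [ψ, ← map_mul, hψ0.2]⟩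
  haveI := Subgroup.normal_of_index_eq_two hidx
  -- central elements of `S'` commute with every element of `R`
  rintro _ ⟨z, hz, rfl⟩
  rw [Subgroup.mem_center_iff]
  intro r
  by_cases hr : r ∈ S'
  · exact congrArg Subtype.val (Subgroup.mem_center_iff.mp hz ⟨r, hr⟩)
  have hr2 : r ^ 2 ∈ S' := by
    have := Subgroup.pow_index_mem S' r
    rwa [hidx] at this
  let σ : ↥S' ≃* ↥S' := MulAut.conjNormal r
  have hσ : ∀ s : ↥S', (σ s : R) = r * s * r⁻¹ := fun s => MulAut.conjNormal_apply _ _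
  have hσσ : ∀ s : ↥S', σ (σ s) = ⟨r ^ 2, hr2⟩ * s * ⟨r ^ 2, hr2⟩⁻¹ := fun s => Subtype.ext (by
    simp only [hσ, Subgroup.coe_mul, Subgroup.coe_inv, pow_two]; group)
  let π : ↥S' → F := fun s => (Function.surjInv hψ.1.2 s).1.1
  have hπ : ∀ x, π (ψ x) = x.1.1 := fun x => by
    show (Function.surjInv hψ.1.2 (ψ x)).1.1 = _
    rw [hψ.1.1 (Function.surjInv_eq hψ.1.2 (ψ x))]
  have hπm : ∀ s t, π (s * t) = π s + π t := by
    intro s t
    obtain ⟨x, rfl⟩ := hψ.1.2 s
    obtain ⟨y, rfl⟩ := hψ.1.2 t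
    rw [hψ.2, hπ, hπ, hπ]; rfl
  have hπ1 : π 1 = 0 := by rw [← coord_one K hψ, hπ]; rfl
  have hπi : ∀ s, π s⁻¹ = -π s := fun s => by
    have := hπm s s⁻¹
    rw [mul_inv_cancel, hπ1] at this
    linear_combination -this
  have hπc : ∀ s, π s = 0 ↔ s ∈ Subgroup.center ↥S' := fun s => by
    obtain ⟨x, rfl⟩ := hψ.1.2 s
    rw [hπ, coord_fix K hψ]
  have hσc : ∀ s ∈ Subgroup.center ↥S', σ s ∈ Subgroup.center ↥S' := fun s hs => by
    rw [Subgroup.mem_center_iff] at hs ⊢
    intro u
    obtain ⟨v, rfl⟩ := σ.surjective u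
    rw [← map_mul, ← map_mul, hs v]
  have hb : ∀ a : F, ∃ b : F, a * K.bar a + b + K.bar b = 0 := fun a => by
    obtain ⟨y, hy⟩ := K.exists_trace
    refine ⟨-(a * K.bar a) * y / (y + K.bar y), ?_⟩
    simp only [map_div₀, map_mul, map_neg, map_add, K.bar_bar, add_comm (K.bar y) y]
    field_simp
    ring
  choose sec hsec using hb
  let lift : F → ↥S' := fun a => ψ ⟨(a, sec a), hsec a⟩
  have hlift : ∀ a, π (lift a) = a := fun a => hπ _
  have hwd : ∀ s t, π s = π t → π (σ s) = π (σ t) := by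
    intro s t h
    have h' : π (s⁻¹ * t) = 0 := by rw [hπm, hπi, h, neg_add_cancel]
    have h'' := (hπc _).mpr (hσc _ ((hπc _).mp h'))
    rw [map_mul, map_inv, hπm, hπi] at h''
    linear_combination -h''
  let L : F →+ F :=
    { toFun := fun a => π (σ (lift a))
      map_zero' := by
        rw [hwd (lift 0) 1 (by rw [hlift, hπ1]), map_one, hπ1]
      map_add' := fun a b => by
        rw [← hπm, ← map_mul]
        exact hwd _ _ (by rw [hlift, hπm, hlift, hlift]) }
  have hL : ∀ s, L (π s) = π (σ s) := fun s => hwd _ _ (hlift _)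
  have hLL : ∀ a, L (L a) = a := fun a => by
    show L (π (σ (lift a))) = a
    rw [hL, hσσ, hπm, hπm, hπi, hlift]
    ring
  -- the action on the centre
  have hz0 : ∀ w : fixA K, ((0 : F) * K.bar 0 + (w : F) + K.bar (w : F)) = 0 := fun w => by
    rw [show K.bar (w : F) = w from w.2]
    linear_combination (w : F) * h2
  let cz : fixA K → ↥S' := fun w => ψ ⟨(0, (w : F)), hz0 w⟩
  have hczc : ∀ w, cz w ∈ Subgroup.center ↥S' := fun w => (coord_fix K hψ _).mpr rfl
  have hcz : ∀ s ∈ Subgroup.center ↥S', ∃ w, cz w = s := by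
    intro s hs
    obtain ⟨⟨⟨a, b⟩, hab⟩, rfl⟩ := hψ.1.2 s
    have ha : a = 0 := (coord_fix K hψ _).mp hs
    subst ha
    simp at hab
    exact ⟨⟨b, show K.bar b = b by linear_combination hab - b * h2⟩, rfl⟩
  have hczi : Function.Injective cz := fun v w h =>
    Subtype.ext (congrArg (fun x : Par K => x.1.2) (hψ.1.1 h))
  have hczm : ∀ v w, cz v * cz w = cz (v + w) := fun v w => by
    show ψ _ * ψ _ = _
    rw [hψ.2]
    exact congrArg ψ (Subtype.ext (Prod.ext (by simp [pmul]) (by simp [pmul])))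
  choose M0 hM0 using fun w => hcz _ (hσc _ (hczc w))
  let M : fixA K →+ fixA K := AddMonoidHom.mk' M0 fun v w => hczi (by
    rw [hM0, ← hczm, ← hczm, hM0, hM0, map_mul])
  have hMM : ∀ w, M (M w) = w := fun w => hczi (by
    show cz (M0 (M0 w)) = _
    rw [hM0, hM0, hσσ, Subgroup.mem_center_iff.mp (hczc w) ⟨r ^ 2, hr2⟩, mul_inv_cancel_right])
  have hsq : ∀ x : Par K, ψ x * ψ x = cz (nrm K x.1.1) := fun x => by
    rw [hψ.2]
    refine congrArg ψ (Subtype.ext (Prod.ext ?_ ?_))
    · simp [pmul]; linear_combination x.1.1 * h2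
    · simp [pmul, nrm]; linear_combination (x.1.2 - K.bar x.1.1 * x.1.1) * h2
  have hMN : ∀ a, M (nrm K a) = nrm K (L a) := fun a => hczi (by
    show cz (M0 _) = _
    obtain ⟨y, hy⟩ := hψ.1.2 (σ (lift a))
    have hya : y.1.1 = L a := by rw [← hπ y, hy]; rfl
    rw [hM0, ← hya, ← hsq y, hy, ← map_mul]
    exact congrArg σ (hsq ⟨(a, sec a), hsec a⟩).symm)
  have htriv := trivial_on_fixed K h2 rfl L M hLL hMM hMN
  obtain ⟨w, rfl⟩ := hcz z hz
  have hfix : σ (cz w) = cz w := by rw [← hM0]; exact congrArg cz (htriv w)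
  have h := congrArg Subtype.val hfix
  rw [hσ, mul_inv_eq_iff_eq_mul] at h
  exact h

end Cfsg.Agent.S3315
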