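import Cfsg.Statements.S3156
import Cfsg.Agent.S3315

set_option autoImplicit false
set_option linter.style.haveILetI false
open Cfsg

namespace Cfsg.Agent.S3156

open CfsgLib.Classical CfsgLib.Classical.URoot
open CfsgLib.ClassicalAut (Unitary.Conj)
open Cfsg.Agent.S3315 (fixA nrm bil trivial_on_fixed)

variable {F : Type*} [Field F] [Finite F] {q : ℕ} (K : Unitary.Conj F q)

/-- The maps induced by an automorphism on the quotient by the centre and on the centre. -/
theorem exists_induced {G : Type*} [Group G] {ψ : Par K → G} (hψ : IsCoord K ψ) (h2 : (2 : F) = 0) :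
    ∃ (L : MulAut G → F →+ F) (M : MulAut G → fixA K →+ fixA K) (π : G → F) (cz : fixA K → G),
      (∀ s t, π (s * t) = π s + π t) ∧ Function.Surjective π ∧
      (∀ σ s, π (σ s) = L σ (π s)) ∧ (∀ σ w, σ (cz w) = cz (M σ w)) ∧ Function.Injective cz ∧
      (∀ s, π s = 0 → ∃ w, cz w = s) ∧ (∀ v w, cz v * cz w = cz (v + w)) ∧
      (∀ σ a, M σ (nrm K a) = nrm K (L σ a)) := by
  classical
  let π : G → F := fun s => (Function.surjInv hψ.1.2 s).1.1
  have hπ : ∀ x, π (ψ x) = x.1.1 := fun x => by
    show (Function.surjInv hψ.1.2 (ψ x)).1.1 = _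
    rw [hψ.1.1 (Function.surjInv_eq hψ.1.2 (ψ x))]
  have hπm : ∀ s t, π (s * t) = π s + π t := by
    intro s t
    obtain ⟨x, rfl⟩ := hψ.1.2 s
    obtain ⟨y, rfl⟩ := hψ.1.2 t
    rw [hψ.2, hπ, hπ, hπ]; rfl
  have hπ1 : π 1 = 0 := by rw [← coord_one K hψ, hπ]; rfl
  have hπi : ∀ s, π s⁻¹ = -π s := fun s => by
    have := hπm s s⁻¹
    rw [mul_inv_cancel, hπ1] at this
    linear_combination -this
  have hπc : ∀ s, π s = 0 ↔ s ∈ Subgroup.center G := fun s => by
    obtain ⟨x, rfl⟩ := hψ.1.2 s
    rw [hπ, coord_fix K hψ]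
  have hσc : ∀ (σ : MulAut G), ∀ s ∈ Subgroup.center G, σ s ∈ Subgroup.center G := fun σ s hs => by
    rw [Subgroup.mem_center_iff] at hs ⊢
    intro u
    obtain ⟨v, rfl⟩ := σ.surjective u
    rw [← map_mul, ← map_mul, hs v]
  have hb : ∀ a : F, ∃ b : F, a * K.bar a + b + K.bar b = 0 := fun a => by
    obtain ⟨y, hy⟩ := K.exists_trace
    refine ⟨-(a * K.bar a) * y / (y + K.bar y), ?_⟩
    simp only [map_div₀, map_mul, map_neg, map_add, K.bar_bar, add_comm (K.bar y) y]
    field_simp
    ring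
  choose sec hsec using hb
  let lift : F → G := fun a => ψ ⟨(a, sec a), hsec a⟩
  have hlift : ∀ a, π (lift a) = a := fun a => hπ _
  have hwd : ∀ (σ : MulAut G) s t, π s = π t → π (σ s) = π (σ t) := by
    intro σ s t h
    have h' : π (s⁻¹ * t) = 0 := by rw [hπm, hπi, h, neg_add_cancel]
    have h'' := (hπc _).mpr (hσc σ _ ((hπc _).mp h'))
    rw [map_mul, map_inv, hπm, hπi] at h''
    linear_combination -h''
  let L : MulAut G → F →+ F := fun σ => AddMonoidHom.mk' (fun a => π (σ (lift a))) fun a b => by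
    rw [← hπm, ← map_mul]
    exact hwd σ _ _ (by rw [hlift, hπm, hlift, hlift])
  have hz0 : ∀ w : fixA K, ((0 : F) * K.bar 0 + (w : F) + K.bar (w : F)) = 0 := fun w => by
    rw [show K.bar (w : F) = w from w.2]
    linear_combination (w : F) * h2
  let cz : fixA K → G := fun w => ψ ⟨(0, (w : F)), hz0 w⟩
  have hcz : ∀ s, π s = 0 → ∃ w, cz w = s := by
    intro s hs
    obtain ⟨⟨⟨a, b⟩, hab⟩, rfl⟩ := hψ.1.2 s
    rw [hπ] at hs
    simp only at hs
    subst hs
    simp at hab
    exact ⟨⟨b, show K.bar b = b by linear_combination hab - b * h2⟩, rfl⟩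
  have hczi : Function.Injective cz := fun v w h =>
    Subtype.ext (congrArg (fun x : Par K => x.1.2) (hψ.1.1 h))
  have hczm : ∀ v w, cz v * cz w = cz (v + w) := fun v w => by
    show ψ _ * ψ _ = _
    rw [hψ.2]
    exact congrArg ψ (Subtype.ext (Prod.ext (by simp [pmul]) (by simp [pmul])))
  choose M0 hM0 using fun (σ : MulAut G) (w : fixA K) =>
    hcz _ ((hπc _).mpr (hσc σ _ ((hπc _).mp (hπ ⟨(0, (w : F)), hz0 w⟩))))
  let M : MulAut G → fixA K →+ fixA K := fun σ => AddMonoidHom.mk' (M0 σ) fun v w => hczi (by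
    rw [hM0, ← hczm, hM0, hM0, ← map_mul]; exact congrArg σ (hczm v w).symm)
  refine ⟨L, M, π, cz, hπm, fun a => ⟨_, hlift a⟩, fun σ s => (hwd σ _ _ (hlift _)).symm,
    fun σ w => (hM0 σ w).symm, hczi, hcz, hczm, fun σ a => hczi ?_⟩
  have hsq : ∀ x : Par K, ψ x * ψ x = cz (nrm K x.1.1) := fun x => by
    rw [hψ.2]
    refine congrArg ψ (Subtype.ext (Prod.ext ?_ ?_))
    · simp [pmul]; linear_combination x.1.1 * h2
    · simp [pmul, nrm]; linear_combination (x.1.2 - K.bar x.1.1 * x.1.1) * h2
  show cz (M0 σ _) = _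
  obtain ⟨y, hy⟩ := hψ.1.2 (σ (lift a))
  have hya : y.1.1 = L σ a := by rw [← hπ y, hy]; rfl
  rw [hM0, ← hya, ← hsq y, hy, ← map_mul]
  exact congrArg σ (hsq ⟨(a, sec a), hsec a⟩).symm

/-- A norm preserving additive map of order dividing three is trivial when `q = 4`. -/
theorem eq_id_of_cube (h2 : (2 : F) = 0) (hq : q = 4) (L : F →+ F) (h3 : ∀ a, L (L (L a)) = a)
    (hN : ∀ a, nrm K (L a) = nrm K a) : ∀ a, L a = a := by
  have hn : ∀ a, K.bar (L a) * L a = K.bar a * a := fun a => congrArg Subtype.val (hN a)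
  have hB : ∀ a b, K.bar (L a) * L b + K.bar (L b) * L a = K.bar a * b + K.bar b * a := by
    intro a b
    have h := hn (a + b)
    rw [map_add, map_add, map_add] at h
    linear_combination h - hn a - hn b
  intro y
  by_contra hne
  have hy : y ≠ 0 := fun h => hne (by rw [h, map_zero])
  have hyb : K.bar y ≠ 0 := (map_ne_zero K.bar).2 hy
  set u := L y / y with hu
  have hLy : L y = u * y := by rw [hu, div_mul_cancel₀ _ hy]
  have huu : K.bar u * u = 1 := by
    have := hn y
    rw [hLy, map_mul] at this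
    exact mul_right_cancel₀ (mul_ne_zero hyb hy) (by linear_combination this)
  set w := K.bar y * L y + K.bar (L y) * y with hw
  have hw0 : w ≠ 0 := by
    intro h
    have huf : K.bar u = u := by
      rw [hw, hLy, map_mul] at h
      refine mul_right_cancel₀ (mul_ne_zero hyb hy) ?_
      linear_combination h - u * (K.bar y * y) * h2
    rw [huf] at huu
    have : u = 1 := by
      have h' : (u + 1) ^ 2 = 0 := by linear_combination huu + (u + 1) * h2
      linear_combination (pow_eq_zero_iff two_ne_zero).mp h' - h2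
    exact hne (by rw [hLy, this, one_mul])
  set z := L (L y) with hz
  have e1 : K.bar z * L y + K.bar (L y) * z = w := by
    have := hB y (L y)
    rw [← hz] at this
    linear_combination this + (0 : F) * h2
  have e2 : K.bar y * z + K.bar z * y = w := by
    have := hB y z
    rw [hz, h3] at this
    rw [hz]
    linear_combination -this
  have hzs : z = y + L y := by
    refine mul_right_cancel₀ hw0 ?_
    rw [hw] at e1 e2 ⊢
    linear_combination y * e1 + L y * e2 - K.bar z * y * L y * h2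
  have hn2 : K.bar z * z = K.bar y * y := (hn _).trans (hn y)
  rw [hzs, hLy, map_add, map_mul] at hn2
  have hs : u + K.bar u = 1 := by
    refine mul_right_cancel₀ (mul_ne_zero hyb hy) ?_
    linear_combination hn2 - K.bar y * y * huu - K.bar y * y * h2
  have hu3 : u ^ 4 = u := by
    have h' : u ^ 2 + u + 1 = 0 := by linear_combination u * hs - huu + u * h2
    linear_combination (u ^ 2 - u) * h'
  have huf : K.bar u = u := by rw [K.bar_apply, hq, hu3]
  rw [huf] at hs
  exact one_ne_zero (show (1 : F) = 0 by linear_combination -hs + u * h2)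


/-- If a finite group T is isomorphic to a Sylow 2-subgroup of the projective special unitary group of dimension 3 with parameter 4 (realised over the field with 16 elements), then no subgroup of the automorphism group of T is isomorphic to the symmetric group of degree 3. -/
theorem result {T : Type*} [Group T] [Finite T] (hT : (∃ (F : Type) (_ : Field F) (_ : Fintype F), Fintype.card F = 16 ∧ ∃ S : Sylow 2 (Cfsg.PSU 3 F 4), Nonempty (T ≃* ↥(S : Subgroup (Cfsg.PSU 3 F 4))))) (H : Subgroup (MulAut T)) : ¬ Nonempty (↥H ≃* Equiv.Perm (Fin 3)) := by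
  classical
  rintro ⟨e⟩
  obtain ⟨F, _, _, hF, S, ⟨eT⟩⟩ := hT
  haveI : Finite F := Finite.of_fintype F
  obtain ⟨K⟩ := Herm.exists_conj_of_card (F := F) (q := 4) (by rw [hF]; norm_num)
  have h2 : (2 : F) = 0 := by
    have h := FiniteField.cast_card_eq_zero F
    rw [hF] at h
    have h' : (2 : F) ^ 4 = 0 := by norm_num at h ⊢; exact h
    exact pow_eq_zero_iff (by norm_num) |>.mp h'
  obtain ⟨ψ0, hψ0⟩ := exists_coord K (n := 2) (by norm_num) rfl h2 S
  have hψ : IsCoord K (fun x => eT.symm (ψ0 x)) :=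
    ⟨eT.symm.bijective.comp hψ0.1, fun x y => by simp only [← map_mul, hψ0.2]⟩
  obtain ⟨L, M, π, cz, hπm, hπs, hL, hM, hczi, hcz, hczm, hMN⟩ := exists_induced K hψ h2
  set r : MulAut T := (e.symm (finRotate 3 : Equiv.Perm (Fin 3))).1 with hr
  set x : MulAut T := (e.symm (Equiv.swap (0 : Fin 3) 1)).1 with hx
  have hr3 : r * r * r = 1 := by
    rw [hr, ← Subgroup.coe_mul, ← Subgroup.coe_mul, ← map_mul, ← map_mul,
      show (finRotate 3 : Equiv.Perm (Fin 3)) * finRotate 3 * finRotate 3 = 1 by decide, map_one]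
    rfl
  have hx2 : x * x = 1 := by
    rw [hx, ← Subgroup.coe_mul, ← map_mul, Equiv.swap_mul_self, map_one]
    rfl
  have hxr : x * r * x = r * r := by
    simp only [hr, hx, ← Subgroup.coe_mul, ← map_mul]
    congr 2
    decide
  have hr1 : r ≠ 1 := by
    intro h
    have h' : e.symm (finRotate 3 : Equiv.Perm (Fin 3)) = 1 := Subtype.ext h
    rw [← map_one e.symm] at h'
    exact absurd (e.symm.injective h') (by decide)
  have hLm : ∀ (σ τ : MulAut T) a, L (σ * τ) a = L σ (L τ a) := by
    intro σ τ a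
    obtain ⟨s, rfl⟩ := hπs a
    rw [← hL, ← hL, ← hL]; rfl
  have hMm : ∀ (σ τ : MulAut T) w, M (σ * τ) w = M σ (M τ w) := fun σ τ w => hczi (by
    rw [← hM, ← hM, ← hM]; rfl)
  have hL1 : ∀ a, L 1 a = a := fun a => by
    obtain ⟨s, rfl⟩ := hπs a
    rw [← hL]; rfl
  have hM1 : ∀ w, M 1 w = w := fun w => hczi (by rw [← hM]; rfl)
  have hMx : ∀ w, M x w = w := trivial_on_fixed K h2 (n := 2) rfl (L x) (M x)
    (fun a => by rw [← hLm, hx2, hL1]) (fun w => by rw [← hMm, hx2, hM1]) (hMN x)
  have hMr : ∀ w, M r w = w := fun w => by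
    have h := hMm (x * r) x w
    rw [hxr, hMm x r, hMx, hMx, hMm] at h
    have h3' : M r (M r (M r w)) = w := by rw [← hMm, ← hMm, hr3, hM1]
    rw [h, h] at h3'
    exact h3'
  have hLr : ∀ a, L r a = a := eq_id_of_cube K h2 rfl (L r)
    (fun a => by rw [← hLm, ← hLm, hr3, hL1]) (fun a => by rw [← hMN, hMr])
  -- `r` moves elements by central ones only, hence trivially
  refine hr1 (MulEquiv.ext fun s => ?_)
  have hπ1 : π 1 = 0 := by
    have h := hπm 1 1
    rw [mul_one] at h
    linear_combination -h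
  have hc : π (s⁻¹ * r s) = 0 := by
    rw [hπm, hL, hLr, ← hπm, inv_mul_cancel, hπ1]
  obtain ⟨w, hw⟩ := hcz _ hc
  have hrs : r s = s * cz w := by rw [hw, mul_inv_cancel_left]
  have hrw : r (cz w) = cz w := by rw [hM, hMr]
  have h3 : (r * r * r) s = s * cz w * cz w * cz w := by
    simp only [MulAut.mul_apply, hrs, map_mul, hrw]
  rw [hr3] at h3
  have hww : cz w * cz w = 1 := by
    rw [hczm, show w + w = 0 from Subtype.ext (by
      show (w : F) + (w : F) = 0
      linear_combination (w : F) * h2)]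
    have h := hczm 0 0
    rw [add_zero] at h
    exact mul_eq_left.mp h
  rw [mul_assoc, mul_assoc, hww, mul_one] at h3
  show r s = s
  rw [hrs]
  exact h3.symm

end Cfsg.Agent.S3156
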