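import Cfsg.Statements.S3158
import Cfsg.Agent.Lib.Critical.Basic

set_option autoImplicit false
open Cfsg

namespace Cfsg.Agent.S3158

/-- Let U be a group of order q² with q = 2^n ≥ 2, and y an automorphism of U of order q − 1 all of whose nontrivial powers fix only the identity. Let V be a proper normal y-invariant subgroup of U such that V and U/V are elementary abelian 2-groups and there is an isomorphism from V to U/V commuting with the actions of y. Then U is abelian. -/
theorem result {U : Type*} [Group U] [Finite U] (n : ℕ) (hn : 1 ≤ n) (hU : Nat.card U = (2 ^ n) ^ 2)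
    (y : MulAut U) (hy : orderOf y = 2 ^ n - 1) (hfp : ∀ k : ℕ, y ^ k ≠ 1 → ∀ u : U, (y ^ k) u = u → u = 1)
    (V : Subgroup U) [V.Normal] (hV : V ≠ ⊤) (hyV : ∀ v ∈ V, y v ∈ V)
    (hVe : ∀ v ∈ V, v ^ 2 = 1) (hQe : ∀ u : U, u ^ 2 ∈ V) (hQc : ∀ u w : U, u * w * u⁻¹ * w⁻¹ ∈ V)
    (φ : ↥V ≃* U ⧸ V) (hφ : ∀ (v : ↥V) (u : U), (QuotientGroup.mk u : U ⧸ V) = φ v → φ ⟨y v, hyV v v.2⟩ = QuotientGroup.mk (y u)) :
    IsMulCommutative U := by
  classical
  haveI := Fact.mk Nat.prime_two
  have hVcard : Nat.card V = 2 ^ n := by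
    have h := V.card_mul_index
    rw [Subgroup.index, ← Nat.card_congr φ.toEquiv, hU, pow_two] at h
    exact Nat.mul_self_inj.mp h
  have h2n : 2 ≤ 2 ^ n := Nat.le_self_pow (by omega) 2
  have hUp : IsPGroup 2 U := IsPGroup.of_card (n := n * 2) (by rw [hU, ← pow_mul])
  have hyk : ∀ k : ℕ, ∀ v ∈ V, (y ^ k) v ∈ V := by
    intro k
    induction k with
    | zero => intro v hv; simpa using hv
    | succ k ih => intro v hv; rw [pow_succ, MulAut.mul_apply]; exact ih _ (hyV v hv)
  let pw : ℕ → V → V := fun k v => ⟨(y ^ k) v, hyk k v v.2⟩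
  have hlift : ∀ (k : ℕ) (v : V) (u : U), (QuotientGroup.mk u : U ⧸ V) = φ v →
      φ (pw k v) = QuotientGroup.mk ((y ^ k) u) := by
    intro k
    induction k with
    | zero =>
      intro v u hu
      rw [pow_zero]
      show φ (pw 0 v) = QuotientGroup.mk u
      rw [hu]
      exact congrArg φ (Subtype.ext (by show (y ^ 0) (v : U) = v; rw [pow_zero]; rfl))
    | succ k ih =>
      intro v u hu
      have h := hφ (pw k v) ((y ^ k) u) (ih v u hu).symm
      rw [pow_succ', MulAut.mul_apply, ← h]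
      exact congrArg φ (Subtype.ext (by show (y ^ (k + 1)) (v : U) = y ((y ^ k) v); rw [pow_succ', MulAut.mul_apply]))
  -- the powers of `y` are transitive on the nontrivial elements of `V`
  have htrans : ∀ v w : V, v ≠ 1 → w ≠ 1 → ∃ k, pw k v = w := by
    intro v w hv hw
    have hv1 : (v : U) ≠ 1 := fun h => hv (Subtype.ext h)
    let g : Fin (2 ^ n - 1) → {w : V // w ≠ 1} := fun k => ⟨pw k v, fun h => hv (Subtype.ext
      ((y ^ (k : ℕ)).injective ((congrArg Subtype.val h).trans (map_one _).symm)))⟩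
    have hinj : ∀ a b : ℕ, a ≤ b → b < 2 ^ n - 1 → (y ^ a) (v : U) = (y ^ b) v → a = b := by
      intro a b hab hb h
      by_contra hne
      refine hv1 (hfp (b - a) (fun h1 => ?_) v ((y ^ a).injective ?_))
      · have := Nat.le_of_dvd (by omega) (hy ▸ orderOf_dvd_of_pow_eq_one h1)
        omega
      · rw [← MulAut.mul_apply, ← pow_add, show a + (b - a) = b by omega, h]
    have hg : Function.Injective g := fun a b h => by
      have h' : (y ^ (a : ℕ)) (v : U) = (y ^ (b : ℕ)) v :=
        congrArg (fun x : {w : V // w ≠ 1} => ((x.1 : V) : U)) h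
      rcases le_total (a : ℕ) b with hab | hab
      · exact Fin.ext (hinj a b hab b.2 h')
      · exact Fin.ext (hinj b a hab a.2 h'.symm).symm
    have hcard : Nat.card (Fin (2 ^ n - 1)) = Nat.card {w : V // w ≠ 1} := by
      haveI := Fintype.ofFinite V
      rw [Nat.card_fin, Nat.card_eq_fintype_card, Fintype.card_subtype_compl, Fintype.card_subtype_eq,
        ← Nat.card_eq_fintype_card, hVcard]
    obtain ⟨k, hk⟩ := ((Nat.bijective_iff_injective_and_card _).mpr ⟨hg, hcard⟩).surjective ⟨w, hw⟩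
    exact ⟨k, congrArg Subtype.val hk⟩
  have hVne : V ≠ ⊥ := fun h => by rw [h, Subgroup.card_bot] at hVcard; omega
  haveI : Group.IsNilpotent U := hUp.isNilpotent
  obtain ⟨c, hc, hc1⟩ := (Subgroup.bot_or_exists_ne_one _).resolve_left (CfsgLib.Critical.inf_center_ne_bot V hVne)
  have hcent : ∀ v ∈ V, ∀ u : U, u * v = v * u := by
    intro v hv u
    by_cases hv1 : v = 1
    · rw [hv1, one_mul, mul_one]
    obtain ⟨k, hk⟩ := htrans ⟨c, hc.1⟩ ⟨v, hv⟩ (fun h => hc1 (congrArg Subtype.val h)) (fun h => hv1 (congrArg Subtype.val h))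
    have hk' : (y ^ k) c = v := congrArg Subtype.val hk
    rw [← hk']
    obtain ⟨u', rfl⟩ := (y ^ k).surjective u
    rw [← map_mul, ← map_mul, Subgroup.mem_center_iff.mp hc.2 u']
  -- squaring is multiplicative
  obtain ⟨v₀, hv₀⟩ : ∃ v₀ : V, v₀ ≠ 1 := by
    by_contra h
    push Not at h
    exact hVne ((Subgroup.eq_bot_iff_forall _).mpr fun x hx => congrArg Subtype.val (h ⟨x, hx⟩))
  obtain ⟨u₀, hu₀⟩ := QuotientGroup.mk_surjective (φ v₀)
  have hsq : ∀ (u : U) (k : ℕ), φ (pw k v₀) = QuotientGroup.mk u → u ^ 2 = (y ^ k) (u₀ ^ 2) := by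
    intro u k hk
    rw [hlift k v₀ u₀ hu₀, QuotientGroup.eq] at hk
    set w := ((y ^ k) u₀)⁻¹ * u with hw
    have hu : u = (y ^ k) u₀ * w := by rw [hw]; group
    rw [hu, (show Commute ((y ^ k) u₀) w from hcent w hk _).mul_pow, hVe w hk, mul_one, map_pow]
  have hmul : ∀ u w : U, (u * w) ^ 2 = u ^ 2 * w ^ 2 := by
    have hcase : ∀ u : U, u ∈ V ∨ ∃ k, φ (pw k v₀) = QuotientGroup.mk u := by
      intro u
      by_cases h : u ∈ V
      · exact Or.inl h
      · refine Or.inr ?_
        obtain ⟨k, hk⟩ := htrans v₀ (φ.symm (QuotientGroup.mk u)) hv₀ (fun he => h ((QuotientGroup.eq_one_iff u).mp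
          (by rw [← φ.apply_symm_apply (QuotientGroup.mk u), he, map_one])))
        exact ⟨k, by rw [hk, MulEquiv.apply_symm_apply]⟩
    by_cases h0 : u₀ ^ 2 = 1
    · have hall : ∀ u : U, u ^ 2 = 1 := fun u => by
        rcases hcase u with h | ⟨k, hk⟩
        · exact hVe u h
        · rw [hsq u k hk, h0, map_one]
      intro u w
      rw [hall, hall, hall, one_mul]
    obtain ⟨j, hj⟩ := htrans v₀ ⟨u₀ ^ 2, hQe u₀⟩ hv₀ (fun h => h0 (congrArg Subtype.val h))
    have hj' : (y ^ j) (v₀ : U) = u₀ ^ 2 := congrArg Subtype.val hj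
    have hform : ∀ u : U, u ^ 2 = (y ^ j) ((φ.symm (QuotientGroup.mk u) : V) : U) := by
      intro u
      rcases hcase u with h | ⟨k, hk⟩
      · rw [hVe u h, (QuotientGroup.eq_one_iff u).mpr h, map_one, OneMemClass.coe_one, map_one]
      · rw [hsq u k hk, ← hk, MulEquiv.symm_apply_apply, ← hj']
        show (y ^ k) ((y ^ j) (v₀ : U)) = (y ^ j) ((y ^ k) v₀)
        rw [← MulAut.mul_apply, ← MulAut.mul_apply, ← pow_add, ← pow_add, add_comm]
    intro u w
    rw [hform, hform u, hform w, QuotientGroup.mk_mul, map_mul, Subgroup.coe_mul, map_mul]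
  refine ⟨⟨fun u w => ?_⟩⟩
  have h := hmul u w
  rw [pow_two, pow_two, pow_two] at h
  have h' : w * u = u * w := by
    refine mul_right_cancel (b := w) (mul_left_cancel (a := u) ?_)
    calc u * (w * u * w) = u * w * (u * w) := by group
      _ = u * u * (w * w) := h
      _ = u * (u * w * w) := by group
  exact h'.symm
end Cfsg.Agent.S3158
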