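import Cfsg.Statements.S3161
import Cfsg.Agent.Lib.PGroup.SingerFixed
import Cfsg.Agent.Lib.PGroup.QuadModels

set_option autoImplicit false
set_option linter.style.haveILetI false
open Cfsg

namespace Cfsg.Agent.S3161

/-- Let Q be a non-abelian finite 2-group admitting commuting automorphisms α of order 2 and ρ of order 2^n − 1, where n ≥ 2, such that the fixed points of α form an elementary abelian subgroup of order 2^n on whose nonidentity elements the group generated by ρ acts transitively. Then Q is isomorphic to a Sylow 2-subgroup of the projective special unitary group of dimension 3 with parameter 2^n (realised over the field with 4^n elements) or of the projective special linear group of dimension 3 over the field with 2^n elements. -/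
theorem result {Q : Type*} [Group Q] [Finite Q] (hQ : IsPGroup 2 Q) (hna : ¬ IsMulCommutative Q) (n : ℕ) (hn : 2 ≤ n)
    (α ρ : MulAut Q) (hα : orderOf α = 2) (hρ : orderOf ρ = 2 ^ n - 1) (hc : Commute α ρ)
    (C : Subgroup Q) (hC : ∀ x : Q, x ∈ C ↔ α x = x) (hCE : Cfsg.IsElementaryAbelian 2 C ∧ Nat.card ↥C = 2 ^ n)
    (htr : ∀ x y : Q, x ∈ C → y ∈ C → x ≠ 1 → y ≠ 1 → ∃ k : ℕ, (ρ ^ k) x = y) :
    (∃ (F : Type) (_ : Field F) (_ : Fintype F), Fintype.card F = 4 ^ n ∧
        ∃ S : Sylow 2 (Cfsg.PSU 3 F (2 ^ n)), Nonempty (Q ≃* ↥(S : Subgroup (Cfsg.PSU 3 F (2 ^ n))))) ∨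
      (∃ (F : Type) (_ : Field F) (_ : Fintype F), Fintype.card F = 2 ^ n ∧
        ∃ S : Sylow 2 (Matrix.ProjectiveSpecialLinearGroup (Fin 3) F), Nonempty (Q ≃* ↥(S : Subgroup (Matrix.ProjectiveSpecialLinearGroup (Fin 3) F)))) := by
  classical
  haveI : Fact (Nat.Prime 2) := ⟨Nat.prime_two⟩
  have hαα : ∀ x, α (α x) = x := fun x => by
    have h := MulEquiv.congr_fun (show α ^ 2 = 1 by rw [← hα]; exact pow_orderOf_eq_one α) x
    simpa [pow_two, MulAut.mul_apply] using h
  haveI : Nontrivial Q := by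
    have h : 1 < Nat.card Q := by
      have h1 := hCE.2
      have h2 := C.card_le_card_group
      have h3 : 2 ^ 2 ≤ 2 ^ n := Nat.pow_le_pow_right two_pos hn
      omega
    exact Finite.one_lt_card_iff_nontrivial.mp h
  haveI := hQ.center_nontrivial
  obtain ⟨j, hj0, hj⟩ := (hQ.to_subgroup (Subgroup.center Q)).nontrivial_iff_card.mp inferInstance
  have hZ : ∀ (e : MulAut Q), ∀ z ∈ Subgroup.center Q, e z ∈ Subgroup.center Q := fun e z hz => by
    rw [Subgroup.mem_center_iff]
    intro g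
    obtain ⟨g, rfl⟩ := e.surjective g
    rw [← map_mul, ← map_mul, Subgroup.mem_center_iff.mp hz]
  obtain ⟨z, hz, hzC, hz1⟩ : ∃ z ∈ Subgroup.center Q, z ∈ C ∧ z ≠ 1 := by
    by_contra hcon
    push Not at hcon
    let σ : Equiv.Perm (Subgroup.center Q) :=
      { toFun := fun u => ⟨α u, hZ α u u.2⟩
        invFun := fun u => ⟨α u, hZ α u u.2⟩
        left_inv := fun u => Subtype.ext (hαα u)
        right_inv := fun u => Subtype.ext (hαα u) }
    have hm := CfsgLib.CentralFour.fixed_mod σ (p := 2) (n := 1) (Equiv.ext fun u => by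
      simp only [pow_one, pow_two, Equiv.Perm.mul_apply]; exact σ.left_inv u)
    rw [hj] at hm
    haveI : Subsingleton {x : Subgroup.center Q // σ x = x} := ⟨fun x y => by
      have hx : (x.1 : Q) = 1 := hcon x.1 x.1.2 ((hC _).mpr (congrArg Subtype.val x.2))
      have hy : (y.1 : Q) = 1 := hcon y.1 y.1.2 ((hC _).mpr (congrArg Subtype.val y.2))
      exact Subtype.ext (Subtype.ext (hx.trans hy.symm))⟩
    haveI : Nonempty {x : Subgroup.center Q // σ x = x} := ⟨⟨1, Subtype.ext (map_one α)⟩⟩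
    rw [Nat.card_eq_one_iff_unique.mpr ⟨inferInstance, inferInstance⟩] at hm
    obtain ⟨i, rfl⟩ : ∃ i, j = i + 1 := ⟨j - 1, by omega⟩
    unfold Nat.ModEq at hm
    rw [pow_succ] at hm
    omega
  have hcen : ∀ v : Q, α v = v → ∀ g : Q, g * v = v * g := by
    intro v hv g
    rcases eq_or_ne v 1 with rfl | hv1
    · simp
    obtain ⟨k, hk⟩ := htr z v hzC ((hC v).mpr hv) hz1 hv1
    exact Subgroup.mem_center_iff.mp (hk ▸ hZ (ρ ^ k) z hz) g
  have h : CfsgLib.SingerFixed.Hyp α ρ n := by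
    refine ⟨hQ, hn, hαα, hρ ▸ pow_orderOf_eq_one ρ, fun x => MulEquiv.congr_fun hc.eq x, ?_, ?_, hcen,
      fun v w hv hw hv1 hw1 => htr v w ((hC v).mpr hv) ((hC w).mpr hw) hv1 hw1⟩
    · rw [← hCE.2]
      exact Nat.card_congr (Equiv.subtypeEquivRight fun x => (hC x).symm)
    · intro x hx
      rw [← pow_two]
      exact hCE.1.2 x ((hC x).mpr hx)
  obtain ⟨F, _, _, cV, μ, c, hF⟩ := h.exists_coord
  obtain ⟨a, b, d, hd, ⟨X⟩⟩ := h.sqExt c (by
    by_contra hcon
    push Not at hcon
    exact hna ⟨⟨hcon⟩⟩)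
  exact CfsgLib.QuadModels.sylow_iso (by omega) hF hd X

end Cfsg.Agent.S3161
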