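import Cfsg.Statements.S3162
import Cfsg.Agent.Lib.PGroup.NormAut

set_option autoImplicit false
set_option linter.style.haveILetI false
open Cfsg CfsgLib.SqExtTwo CfsgLib.NormAut
open CfsgLib.Classical.Herm
open CfsgLib.ClassicalAut (Unitary.Conj)
open CfsgLib.Classical.URegGen (HB exists_hb)
open CfsgLib.Classical.URoot (Par pmul pinv pone)

namespace Cfsg.Agent.S3162

/-- Transport of an extension. -/
def transport {P Q A B : Type*} [Group P] [Group Q] [AddCommGroup A] [AddCommGroup B] {q : A → B}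
    (e : Q ≃* P) (X : SqExt₂ P q) : SqExt₂ Q q where
  j := X.j.comp e.toMonoidHom
  ι := e.symm.toMonoidHom.comp X.ι
  surj := X.surj.comp e.surjective
  inj := e.symm.injective.comp X.inj
  exact := fun p => by
    show X.j (e p) = 1 ↔ _
    rw [X.exact]
    constructor
    · rintro ⟨u, hu⟩
      exact ⟨u, (congrArg e.symm hu).trans (e.symm_apply_apply p)⟩
    · rintro ⟨u, rfl⟩
      exact ⟨u, (e.apply_symm_apply _).symm⟩
  central := fun t p => e.injective (by simpa using X.central t (e p))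
  sq := fun p => e.injective (by simpa using X.sq (e p))

/-- Let S be a Sylow 2-subgroup of the special unitary group of dimension 3 with parameter q = 2^n (n ≥ 2; realised over the field with q² elements). Then the largest normal 2-subgroup of the automorphism group of S is elementary abelian of order 2^(2n²), and the automorphism group has order 2^(2n²) · 2n(q² − 1). -/
theorem result {S : Type*} [Group S] [Finite S] (n : ℕ) (hn : 2 ≤ n) {F : Type*} [Field F] [Fintype F] (hF : Fintype.card F = 4 ^ n)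
    (P : Sylow 2 ↥(Cfsg.SU 3 F (2 ^ n))) (hS : Nonempty (S ≃* ↥(P : Subgroup ↥(Cfsg.SU 3 F (2 ^ n))))) :
    Cfsg.IsElementaryAbelian 2 (Cfsg.pCore 2 (MulAut S)) ∧ Nat.card ↥(Cfsg.pCore 2 (MulAut S)) = 2 ^ (2 * n ^ 2) ∧
      Nat.card (MulAut S) = 2 ^ (2 * n ^ 2) * (2 * n * ((2 ^ n) ^ 2 - 1)) := by
  classical
  haveI : Fact (Nat.Prime 2) := ⟨Nat.prime_two⟩
  have hn0 : n ≠ 0 := by omega
  have hF2 : Fintype.card F = 2 ^ (n * 2) := by
    rw [hF, show (4 : ℕ) = 2 ^ 2 from rfl, ← pow_mul, mul_comm]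
  haveI : CharP F 2 := charP_of_card_eq_prime_pow hF2
  have hcard : Nat.card F = (2 ^ n) ^ 2 := by rw [Nat.card_eq_fintype_card, hF2, pow_mul]
  obtain ⟨K⟩ := CfsgLib.ClassicalAut.Unitary.exists_conj (F := F) (q := 2 ^ n) (p := 2) rfl hcard
  obtain ⟨B⟩ := exists_hb K 1
  have hB : B.E 0 ≠ 0 := fun h => by
    have := B.fe 0 0 one_pos one_pos
    rw [h, h_zero_right K, if_pos rfl] at this
    exact zero_ne_one this
  choose φ hφ using fun x : Par K => CfsgLib.Classical.URegGen.exists_sgE K B le_rfl x.2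
  have hone : φ (pone K) = 1 := by
    refine CfsgLib.Classical.Elation.sg_unique K (hφ _) ?_
    simpa [pone] using CfsgLib.Classical.Elation.sg_one K (B.ee 0 0)
  have hmul : ∀ x y, φ x * φ y = φ (pmul K x y) := by
    intro x y
    refine CfsgLib.Classical.Elation.sg_unique K ?_ (hφ _)
    have := CfsgLib.Classical.Elation.sg_mul K (hφ x) (hφ y)
    rw [h_smul_left K, h_smul_right K, B.zz, ← add_smul] at this
    convert this using 2
    · simp [pmul]; ring
    · simp [pmul, K.bar_bar]
  have hinv : ∀ x, (φ x)⁻¹ = φ (pinv K x) := by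
    intro x
    refine CfsgLib.Classical.Elation.sg_unique K ?_ (hφ _)
    convert CfsgLib.Classical.Elation.sg_inv K (hφ x) using 2
    · simp [pinv]
    · rfl
  have hφi : Function.Injective φ := by
    intro x y he
    obtain ⟨-, hf, hz'⟩ := CfsgLib.Classical.URegGen.appE K B (hφ x)
    obtain ⟨-, hf', hz''⟩ := CfsgLib.Classical.URegGen.appE K B (hφ y)
    rw [he, hf'] at hf
    rw [he, hz''] at hz'
    have ha : y.1.1 = x.1.1 := smul_left_injective F hB (add_left_cancel hz')
    rw [ha] at hf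
    exact Subtype.ext (Prod.ext ha (smul_left_injective F hB (add_left_cancel hf))).symm
  let U : Subgroup ↥(Cfsg.SU 3 F (2 ^ n)) :=
    { carrier := Set.range φ
      one_mem' := ⟨pone K, hone⟩
      mul_mem' := by
        rintro _ _ ⟨x, rfl⟩ ⟨y, rfl⟩
        exact ⟨pmul K x y, (hmul x y).symm⟩
      inv_mem' := by
        rintro _ ⟨x, rfl⟩
        exact ⟨pinv K x, (hinv x).symm⟩ }
  let ψ : Par K ≃ U := Equiv.ofInjective _ hφi
  have hψm : ∀ u v : U, ψ.symm (u * v) = pmul K (ψ.symm u) (ψ.symm v) := fun u v => by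
    rw [Equiv.symm_apply_eq]
    apply Subtype.ext
    show (u : ↥(Cfsg.SU 3 F (2 ^ n))) * v = φ _
    rw [← hmul]
    show _ = (ψ (ψ.symm u) : ↥(Cfsg.SU 3 F (2 ^ n))) * (ψ (ψ.symm v) : ↥(Cfsg.SU 3 F (2 ^ n)))
    rw [ψ.apply_symm_apply, ψ.apply_symm_apply]
  have hW : Nat.card (W K.bar) = 2 ^ n := CfsgLib.Classical.URoot.card_fix K
  let cpar : W K.bar → Par K := fun u => ⟨(0, (u : F)), by
    show (0 : F) * K.bar 0 + (u : F) + K.bar (u : F) = 0
    rw [show K.bar (u : F) = u from u.2, zero_mul, zero_add, CharTwo.add_self_eq_zero]⟩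
  let ι : Multiplicative (W K.bar) →* U := MonoidHom.mk' (fun z => ψ (cpar z.toAdd)) fun z z' => by
    apply ψ.symm.injective
    rw [hψm, ψ.symm_apply_apply, ψ.symm_apply_apply, ψ.symm_apply_apply]
    apply Subtype.ext
    simp [cpar, pmul]
  have hιs : ∀ z, ψ.symm (ι z) = cpar z.toAdd := fun z => ψ.symm_apply_apply _
  let j : U →* Multiplicative F := MonoidHom.mk'
    (fun u => Multiplicative.ofAdd (ψ.symm u).1.1) fun u v => by
      rw [← ofAdd_add, hψm]
      rfl
  have Y : SqExt₂ U (nm (β := K.bar) K.bar_bar) := by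
    refine ⟨j, ι, ?_, ?_, ?_, ?_, ?_⟩
    · intro z
      obtain ⟨y, hy⟩ := K.exists_trace
      obtain ⟨e, he⟩ : ∃ e, e = z.toAdd := ⟨_, rfl⟩
      obtain ⟨v, hv⟩ : ∃ v, v = -(e * K.bar e) * y / (y + K.bar y) := ⟨_, rfl⟩
      have hv' : e * K.bar e + v + K.bar v = 0 := by
        rw [hv]
        simp only [map_div₀, map_mul, map_neg, map_add, K.bar_bar, add_comm (K.bar y) y]
        field_simp
        ring
      refine ⟨ψ ⟨(e, v), hv'⟩, ?_⟩
      show Multiplicative.ofAdd _ = z
      rw [ψ.symm_apply_apply]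
      show Multiplicative.ofAdd e = z
      rw [he]
      rfl
    · intro z z' e
      exact Multiplicative.toAdd.injective (Subtype.ext (congrArg (fun x : Par K => x.1.2) (ψ.injective e)))
    · intro u
      constructor
      · intro e
        have e' : (ψ.symm u).1.1 = 0 := congrArg Multiplicative.toAdd e
        have hw : K.bar (ψ.symm u).1.2 = (ψ.symm u).1.2 := by
          have := (ψ.symm u).2
          rw [e', zero_mul, zero_add, CharTwo.add_eq_zero] at this
          exact this.symm
        refine ⟨Multiplicative.ofAdd ⟨(ψ.symm u).1.2, hw⟩, ?_⟩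
        apply ψ.symm.injective
        rw [hιs]
        exact Subtype.ext (Prod.ext e'.symm rfl)
      · rintro ⟨z, rfl⟩
        show Multiplicative.ofAdd _ = 1
        rw [hιs]
        rfl
    · intro z u
      apply ψ.symm.injective
      rw [hψm, hψm, hιs]
      apply Subtype.ext
      simp only [cpar, pmul, map_zero, zero_mul, mul_zero, sub_zero, zero_add, add_zero]
      exact Prod.ext rfl (add_comm _ _)
    · intro u
      apply ψ.symm.injective
      rw [hψm, hιs]
      apply Subtype.ext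
      show ((ψ.symm u).1.1 + (ψ.symm u).1.1, (ψ.symm u).1.2 + (ψ.symm u).1.2 -
        K.bar (ψ.symm u).1.1 * (ψ.symm u).1.1) = ((0 : F), (ψ.symm u).1.1 * K.bar (ψ.symm u).1.1)
      rw [CharTwo.add_self_eq_zero, CharTwo.add_self_eq_zero, zero_sub, CharTwo.neg_eq, mul_comm]
  have hUc : Nat.card U = 2 ^ (n * 3) := by
    rw [pow_mul, ← CfsgLib.ModuleIndex.UThree.card_par K]
    exact (Nat.card_congr ψ).symm
  have hidx : ¬ 2 ∣ U.index := by
    intro hd
    have h := Subgroup.index_mul_card U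
    obtain ⟨q, hq⟩ : ∃ q, q = 2 ^ n := ⟨_, rfl⟩
    rw [CfsgLib.ModuleIndex.UThree.card_SU_three K, hUc, pow_mul] at h
    generalize U.index = ix at h hd
    rw [← hq, mul_comm ix] at h
    have hq0 : 0 < q := hq ▸ pow_pos two_pos _
    have h2 := Nat.eq_of_mul_eq_mul_left (pow_pos hq0 3) h
    rw [h2] at hd
    have hpn : 2 ∣ q := hq ▸ dvd_pow_self 2 hn0
    rcases Nat.prime_two.dvd_mul.mp hd with h4 | h4
    · have := hpn.trans (dvd_pow_self _ two_ne_zero)
      have := Nat.one_le_pow 2 q hq0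
      omega
    · have := hpn.trans (dvd_pow_self _ (three_ne_zero))
      omega
  obtain ⟨f⟩ := hS
  have g : S ≃* U := f.trans (Sylow.equiv P ((IsPGroup.of_card hUc).toSylow hidx))
  exact CfsgLib.NormAut.aut_structure hn0 hcard K.bar_apply K.bar_bar hW (transport g Y)

end Cfsg.Agent.S3162
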