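import Cfsg.Statements.S3163


set_option autoImplicit false
open Cfsg

namespace Cfsg.Agent.S3163

/-- Let S be a non-abelian finite 2-group which is the product S = AB of two elementary abelian subgroups A and B, and suppose that the centralizer in S of every element of A outside B is exactly A. Then the centralizer of every element of B outside A is exactly B; A and B are maximal elementary abelian subgroups of S and the only ones; the centre of S is A ∩ B; and every element of S outside A ∪ B has centralizer of order at most min(|A|, |B|). -/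
theorem result {S : Type*} [Group S] [Finite S] (hS : IsPGroup 2 S) (hna : ¬ IsMulCommutative S) (A B : Subgroup S)
    (hA : Cfsg.IsElementaryAbelian 2 A) (hB : Cfsg.IsElementaryAbelian 2 B) (hAB : ∀ s : S, ∃ a ∈ A, ∃ b ∈ B, s = a * b)
    (hC : ∀ a ∈ A, a ∉ B → Subgroup.centralizer ({a} : Set S) = A) :
    (∀ b ∈ B, b ∉ A → Subgroup.centralizer ({b} : Set S) = B) ∧
      (∀ E : Subgroup S, Cfsg.IsElementaryAbelian 2 E → (∀ E' : Subgroup S, Cfsg.IsElementaryAbelian 2 E' → E ≤ E' → E' = E) → E = A ∨ E = B) ∧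
      (∀ E' : Subgroup S, Cfsg.IsElementaryAbelian 2 E' → A ≤ E' → E' = A) ∧ (∀ E' : Subgroup S, Cfsg.IsElementaryAbelian 2 E' → B ≤ E' → E' = B) ∧
      Subgroup.center S = A ⊓ B ∧
      (∀ x : S, x ∉ A → x ∉ B → Nat.card ↥(Subgroup.centralizer ({x} : Set S)) ≤ min (Nat.card ↥A) (Nat.card ↥B)) := by
  have hcA : ∀ a ∈ A, ∀ a' ∈ A, a * a' = a' * a := fun a ha a' ha' =>
    congrArg Subtype.val (hA.1.is_comm.comm (⟨a, ha⟩ : A) ⟨a', ha'⟩)
  have hcB : ∀ b ∈ B, ∀ b' ∈ B, b * b' = b' * b := fun b hb b' hb' =>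
    congrArg Subtype.val (hB.1.is_comm.comm (⟨b, hb⟩ : B) ⟨b', hb'⟩)
  have hCA : ∀ a ∈ A, a ∉ B → ∀ c : S, c * a = a * c → c ∈ A := fun a ha hab c hc => by
    rw [← hC a ha hab]; exact Subgroup.mem_centralizer_singleton_iff.mpr hc
  obtain ⟨a₀, ha₀, ha₀'⟩ : ∃ a ∈ A, a ∉ B := by
    by_contra h
    push Not at h
    refine hna ⟨⟨fun s t => ?_⟩⟩
    obtain ⟨a, ha, b, hb, rfl⟩ := hAB s
    obtain ⟨a', ha', b', hb', rfl⟩ := hAB t
    exact hcB _ (mul_mem (h a ha) hb) _ (mul_mem (h a' ha') hb')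
  obtain ⟨b₀, hb₀, hb₀'⟩ : ∃ b ∈ B, b ∉ A := by
    by_contra h
    push Not at h
    refine hna ⟨⟨fun s t => ?_⟩⟩
    obtain ⟨a, ha, b, hb, rfl⟩ := hAB s
    obtain ⟨a', ha', b', hb', rfl⟩ := hAB t
    exact hcA _ (mul_mem ha (h b hb)) _ (mul_mem ha' (h b' hb'))
  have hCB : ∀ b ∈ B, b ∉ A → ∀ c : S, c * b = b * c → c ∈ B := by
    intro b hb hbA c hc
    obtain ⟨a, ha, b', hb', rfl⟩ := hAB c
    have hab : a * b = b * a := by
      refine mul_right_cancel (b := b') ?_
      rw [mul_assoc a b b', hcB b hb b' hb', ← mul_assoc, hc, mul_assoc]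
    refine mul_mem ?_ hb'
    by_contra h
    exact hbA (hCA a ha h b hab.symm)
  have hCBe : ∀ b ∈ B, b ∉ A → Subgroup.centralizer ({b} : Set S) = B := fun b hb hbA =>
    le_antisymm (fun c hc => hCB b hb hbA c (Subgroup.mem_centralizer_singleton_iff.mp hc))
      (fun c hc => Subgroup.mem_centralizer_singleton_iff.mpr (hcB c hc b hb))
  have hcE : ∀ E : Subgroup S, Cfsg.IsElementaryAbelian 2 E → ∀ u ∈ E, ∀ v ∈ E, u * v = v * u :=
    fun E hE u hu v hv => congrArg Subtype.val (hE.1.is_comm.comm (⟨u, hu⟩ : E) ⟨v, hv⟩)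
  have hmA : ∀ E' : Subgroup S, Cfsg.IsElementaryAbelian 2 E' → A ≤ E' → E' = A := fun E' hE' hle =>
    le_antisymm (fun e he => hCA a₀ ha₀ ha₀' e (hcE E' hE' e he a₀ (hle ha₀))) hle
  have hmB : ∀ E' : Subgroup S, Cfsg.IsElementaryAbelian 2 E' → B ≤ E' → E' = B := fun E' hE' hle =>
    le_antisymm (fun e he => hCB b₀ hb₀ hb₀' e (hcE E' hE' e he b₀ (hle hb₀))) hle
  have hinv : ∀ x : S, x ^ 2 = 1 → x ∈ A ∨ x ∈ B := by
    intro x hx
    obtain ⟨a, ha, b, hb, rfl⟩ := hAB x
    have haa : a * a = 1 := by rw [← pow_two]; exact hA.2 a ha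
    have hbb : b * b = 1 := by rw [← pow_two]; exact hB.2 b hb
    have hab : a * b = b * a := by
      rw [pow_two] at hx
      calc a * b = (a * b)⁻¹ := (inv_eq_of_mul_eq_one_right hx).symm
        _ = b * a := by rw [mul_inv_rev, inv_eq_of_mul_eq_one_right haa, inv_eq_of_mul_eq_one_right hbb]
    by_cases h : a ∈ B
    · exact Or.inr (mul_mem h hb)
    · exact Or.inl (mul_mem ha (hCA a ha h b hab.symm))
  refine ⟨hCBe, fun E hE hmax => ?_, hmA, hmB, ?_, ?_⟩
  · by_cases h1 : ∃ e ∈ E, e ∈ A ∧ e ∉ B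
    · obtain ⟨e, he, heA, heB⟩ := h1
      exact Or.inl (hmax A hA fun u hu => hCA e heA heB u (hcE E hE u hu e he)).symm
    · push Not at h1
      exact Or.inr (hmax B hB fun u hu => (hinv u (hE.2 u hu)).elim (h1 u hu) id).symm
  · refine le_antisymm (fun z hz => ?_) (fun z hz => Subgroup.mem_center_iff.mpr fun s => ?_)
    · rw [Subgroup.mem_center_iff] at hz
      exact Subgroup.mem_inf.mpr ⟨hCA a₀ ha₀ ha₀' z (hz a₀).symm, hCB b₀ hb₀ hb₀' z (hz b₀).symm⟩
    · obtain ⟨a, ha, b, hb, rfl⟩ := hAB s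
      rw [mul_assoc, hcB b hb z hz.2, ← mul_assoc, hcA a ha z hz.1, mul_assoc]
  · intro x hxA hxB
    have key : ∀ P Q : Subgroup S, (∀ s : S, ∃ q ∈ Q, ∃ r ∈ P, s = q * r) →
        Subgroup.centralizer ({x} : Set S) ⊓ P ≤ Q →
        Nat.card ↥(Subgroup.centralizer ({x} : Set S)) ≤ Nat.card Q := by
      intro P Q hPQ hCP
      set C := Subgroup.centralizer ({x} : Set S)
      have h1 : P.relIndex C ≤ P.relIndex Q := by
        refine le_trans (b := P.index) ?_ ?_
        · rw [← P.relIndex_top_right]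
          exact Subgroup.relIndex_le_of_le_right le_top
            (by rw [P.relIndex_top_right]; exact Subgroup.index_ne_zero_of_finite)
        refine Nat.card_le_card_of_surjective
          (fun q : Q ⧸ P.subgroupOf Q => (QuotientGroup.mk ((q.out : Q) : S) : S ⧸ P)) fun y => ?_
        obtain ⟨s, rfl⟩ := QuotientGroup.mk_surjective y
        obtain ⟨q, hq, r, hr, rfl⟩ := hPQ s
        refine ⟨QuotientGroup.mk ⟨q, hq⟩, ?_⟩
        obtain ⟨w, hw⟩ := QuotientGroup.mk_out_eq_mul (P.subgroupOf Q) ⟨q, hq⟩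
        show QuotientGroup.mk ((Quotient.out (QuotientGroup.mk (⟨q, hq⟩ : Q) : Q ⧸ P.subgroupOf Q) : Q) : S) = _
        rw [hw, QuotientGroup.eq, Subgroup.coe_mul]
        have : ((w : Q) : S) ∈ P := w.2
        simpa [mul_assoc] using mul_mem (inv_mem this) hr
      calc Nat.card C = Nat.card ↥(P.subgroupOf C) * P.relIndex C := (Subgroup.card_mul_index _).symm
        _ ≤ Nat.card ↥(P.subgroupOf Q) * P.relIndex Q := by
          refine Nat.mul_le_mul (Nat.card_le_card_of_injective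
            (fun c => ⟨⟨((c : C) : S), hCP (Subgroup.mem_inf.mpr ⟨(c : C).2, c.2⟩)⟩, c.2⟩) fun c d h => ?_) h1
          exact Subtype.ext (Subtype.ext (congrArg (fun w : P.subgroupOf Q => ((w : Q) : S)) h))
        _ = Nat.card Q := Subgroup.card_mul_index _
    refine le_min (key B A (fun s => ?_) fun c hc => ?_) (key A B (fun s => ?_) fun c hc => ?_)
    · exact hAB s
    · by_contra h
      exact hxB (hCB c hc.2 h x (Subgroup.mem_centralizer_singleton_iff.mp hc.1).symm)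
    · obtain ⟨a, ha, b, hb, h⟩ := hAB s⁻¹
      exact ⟨b⁻¹, inv_mem hb, a⁻¹, inv_mem ha, by rw [← mul_inv_rev, ← h, inv_inv]⟩
    · by_contra h
      exact hxA (hCA c hc.2 h x (Subgroup.mem_centralizer_singleton_iff.mp hc.1).symm)
end Cfsg.Agent.S3163
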