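import Cfsg.Statements.S3164
import Cfsg.Agent.Lib.Layer.StandardRankOne
import Cfsg.Agent.Lib.Layer.FStar
import Cfsg.Agent.Lib.Layer.CommutatorSplit
import Cfsg.Agent.Lib.Layer.CharP
import Cfsg.Agent.Lib.Fitting.Basic
import Cfsg.Agent.Lib.Transfer.Basic

set_option autoImplicit false
set_option linter.style.haveILetI false
set_option linter.unusedSectionVars false
open Cfsg CfsgLib
open scoped commutatorElement

namespace Cfsg.Agent.S3164

section Aux

variable {G : Type*} [Group G] [Finite G]

theorem unique_involution_of_cyclic {K : Subgroup G}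
    (hcyc : ∀ R : Sylow 2 ↥K, IsCyclic ↥(R : Subgroup ↥K)) {e f : G}
    (he : e ∈ K) (hf : f ∈ K) (he2 : orderOf e = 2) (hf2 : orderOf f = 2)
    (hef : Commute e f) : e = f := by
  classical
  haveI := Fact.mk Nat.prime_two
  set a : ↥K := ⟨e, he⟩
  set b : ↥K := ⟨f, hf⟩
  have ha : orderOf a = 2 := by rw [← Subgroup.orderOf_coe]; exact he2
  have hb : orderOf b = 2 := by rw [← Subgroup.orderOf_coe]; exact hf2
  have hab : Commute a b := Subtype.ext hef
  have hP : IsPGroup 2 ↥(Subgroup.zpowers a ⊔ Subgroup.zpowers b : Subgroup ↥K) := by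
    refine IsPGroup.to_sup_of_normal_right' (IsPGroup.of_card (n := 1) ?_)
      (IsPGroup.of_card (n := 1) ?_) ?_
    · rw [Nat.card_zpowers, ha, pow_one]
    · rw [Nat.card_zpowers, hb, pow_one]
    · refine (Subgroup.zpowers_le.mpr ?_).trans (Subgroup.centralizer_le_normalizer _)
      rw [Subgroup.mem_centralizer_iff]
      rintro _ ⟨k, rfl⟩
      exact ((hab.symm.zpow_left k)).eq
  obtain ⟨S, hS⟩ := hP.exists_le_sylow
  haveI := hcyc S
  let a' : ↥(S : Subgroup ↥K) := ⟨a, hS (Subgroup.mem_sup_left (Subgroup.mem_zpowers a))⟩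
  let b' : ↥(S : Subgroup ↥K) := ⟨b, hS (Subgroup.mem_sup_right (Subgroup.mem_zpowers b))⟩
  have ha' : orderOf a' = 2 := by rw [← Subgroup.orderOf_coe]; exact ha
  have hb' : orderOf b' = 2 := by rw [← Subgroup.orderOf_coe]; exact hb
  haveI : Fintype ↥(S : Subgroup ↥K) := Fintype.ofFinite _
  have h1 := IsCyclic.card_orderOf_eq_totient (α := ↥(S : Subgroup ↥K))
    (d := 2) (ha'.symm.dvd.trans orderOf_dvd_card)
  rw [Nat.totient_two, Finset.card_eq_one] at h1
  obtain ⟨c, hc⟩ := h1
  have hac : a' = c := Finset.mem_singleton.mp (hc ▸ by simp [ha'])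
  have hbc : b' = c := Finset.mem_singleton.mp (hc ▸ by simp [hb'])
  exact congrArg (fun z : ↥(S : Subgroup ↥K) => ((z : ↥K) : G)) (hac.trans hbc.symm)

/-- A normal subgroup not containing `A` meets the normalizer of `A` in `C(A)`. -/
theorem mem_centralizer_of_normal {A N : Subgroup G} [N.Normal] (hq : IsQuasisimple A)
    (hAN : ¬ A ≤ N) {v : G} (hv : v ∈ N) (hvA : v ∈ Subgroup.normalizer (A : Set G)) :
    v ∈ Subgroup.centralizer (A : Set G) := by
  have hcen : N.subgroupOf A ≤ Subgroup.center ↥A :=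
    (Layer.eq_top_or_le_center_of_normal hq _).resolve_left
      fun h => hAN (Subgroup.subgroupOf_eq_top.mp h)
  set C := Subgroup.zpowers v
  have hCN : C ≤ N := Subgroup.zpowers_le.mpr hv
  have hCA : C ≤ Subgroup.normalizer (A : Set G) := Subgroup.zpowers_le.mpr hvA
  have h1 : ⁅A, C⁆ ≤ A := Coprime.commutator_le_left_of_le_normalizer hCA
  have h2 : ⁅A, C⁆ ≤ N :=
    (Subgroup.commutator_mono le_rfl hCN).trans (Subgroup.commutator_le_right A N)
  have h3 : ⁅⁅A, C⁆, A⁆ = ⊥ := by
    rw [Subgroup.commutator_eq_bot_iff_le_centralizer]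
    intro x hx
    rw [Subgroup.mem_centralizer_iff]
    intro y hy
    exact congrArg Subtype.val (Subgroup.mem_center_iff.mp
      (hcen (x := ⟨x, h1 hx⟩) (Subgroup.mem_subgroupOf.mpr (h2 hx))) ⟨y, hy⟩)
  have h4 := Layer.commutator_eq_bot_of_perfect (Subgroup.isPerfect_iff.mp hq.1) h3
  rw [Subgroup.commutator_comm, Subgroup.commutator_eq_bot_iff_le_centralizer] at h4
  exact h4 (Subgroup.mem_zpowers v)

theorem eq_one_of_conj_inv {V : Subgroup G} (hV : Odd (Nat.card V)) {i x : G} (hi : i ∈ V)
    (hx : x ∈ V) (h : i⁻¹ * x * i = x⁻¹) : x = 1 := by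
  have h2 : Commute (i * i) x := by
    have h' : i⁻¹ * x⁻¹ * i = x := by
      have := congrArg (·⁻¹) h
      simpa [mul_inv_rev, mul_assoc] using this
    have h'' : x * (i * i) = i * i * x := by
      calc x * (i * i) = i * (i⁻¹ * x * i) * i := by group
        _ = i * x⁻¹ * i := by rw [h]
        _ = i * i * (i⁻¹ * x⁻¹ * i) := by group
        _ = i * i * x := by rw [h']
    exact h''.symm
  have hodd : Odd (orderOf i) := hV.of_dvd_nat (Subgroup.orderOf_dvd_natCard V hi)
  obtain ⟨k, hk⟩ := hodd
  have hic : Commute i x := by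
    have hp : i = (i * i) ^ (k + 1) := by
      rw [← pow_two, ← pow_mul, show 2 * (k + 1) = orderOf i + 1 by omega, pow_succ,
        pow_orderOf_eq_one, one_mul]
    rw [hp]; exact h2.pow_left _
  have hx2 : x ^ 2 = 1 := by
    have h5 : i⁻¹ * x * i = x := by rw [mul_assoc, ← hic.eq, inv_mul_cancel_left]
    rw [h5] at h
    rw [pow_two]; exact mul_eq_one_iff_eq_inv.mpr h
  have hd : orderOf x ∣ Nat.gcd 2 (Nat.card V) :=
    Nat.dvd_gcd (orderOf_dvd_of_pow_eq_one hx2) (Subgroup.orderOf_dvd_natCard V hx)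
  rw [(Nat.coprime_two_left.mpr hV).gcd_eq_one, Nat.dvd_one, orderOf_eq_one_iff] at hd
  exact hd

/-- An involution acting on an odd group splits it. -/
theorem exists_split {V : Subgroup G} (hVn : V.Normal) (hV : Odd (Nat.card V)) {s v : G}
    (hs : s * s = 1) (hv : v ∈ V) :
    ∃ c ∈ V, ∃ i ∈ V, v = c * i ∧ s * c * s = c ∧ s * i * s = i⁻¹ := by
  have hsinv : s⁻¹ = s := inv_eq_of_mul_eq_one_right hs
  have hsv : s * v * s ∈ V := by simpa [hsinv] using hVn.conj_mem v hv s
  set u := (s * v * s)⁻¹ * v
  have hu : u ∈ V := mul_mem (inv_mem hsv) hv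
  have hsu : s * u * s = u⁻¹ := by
    simp only [u, mul_inv_rev, inv_inv, hsinv]
    simp only [← mul_assoc, hs, one_mul]
  obtain ⟨k, hk⟩ : Odd (orderOf u) := hV.of_dvd_nat (Subgroup.orderOf_dvd_natCard V hu)
  set i := u ^ (k + 1)
  have hi : i ∈ V := pow_mem hu _
  have hii : i * i = u := by
    rw [← pow_add, show k + 1 + (k + 1) = orderOf u + 1 by omega, pow_succ, pow_orderOf_eq_one,
      one_mul]
  have hsi : s * i * s = i⁻¹ := by
    have hc : s * i * s = (s * u * s) ^ (k + 1) := by
      conv_rhs => rw [show s * u * s = s * u * s⁻¹ by rw [hsinv]]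
      rw [conj_pow, hsinv]
    rw [hc, hsu, inv_pow]
  refine ⟨v * i⁻¹, mul_mem hv (inv_mem hi), i, hi, by group, ?_, hsi⟩
  have h1 : s * i⁻¹ * s = i := by
    have := congrArg (·⁻¹) hsi
    simpa [mul_inv_rev, hsinv, mul_assoc] using this
  calc s * (v * i⁻¹) * s = (s * v * s) * (s * i⁻¹ * s) := by
        simp only [mul_assoc]; rw [← mul_assoc s s, hs, one_mul]
    _ = v * u⁻¹ * i := by rw [h1]; simp only [u]; group
    _ = v * i⁻¹ := by rw [← hii]; group

/-- Commuting involutions `t`, `a`: if both `C_V(t)` and `C_V(a t)` centralize `a`, so does `V`. -/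
theorem four_group_fix {V : Subgroup G} (hVn : V.Normal) (hV : Odd (Nat.card V)) {a t : G}
    (ha : a * a = 1) (ht : t * t = 1) (hat : Commute a t)
    (h1 : ∀ v ∈ V, t * v * t = v → a * v * a = v)
    (h2 : ∀ v ∈ V, (a * t) * v * (a * t) = v → a * v * a = v) :
    ∀ v ∈ V, a * v * a = v := by
  intro v hv
  obtain ⟨c, hc, i, hi, rfl, htc, hti⟩ := exists_split hVn hV ht hv
  have has : (a * t) * (a * t) = 1 := by
    calc a * t * (a * t) = a * (t * a) * t := by simp only [mul_assoc]
      _ = a * (a * t) * t := by rw [hat.eq]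
      _ = 1 := by rw [← mul_assoc, ha, one_mul, ht]
  suffices hai : a * i * a = i by
    calc a * (c * i) * a = (a * c * a) * (a * i * a) := by
          simp only [mul_assoc]; rw [← mul_assoc a a, ha, one_mul]
      _ = c * i := by rw [h1 c hc htc, hai]
  obtain ⟨d, hd, j, hj, hij, hdc, hjc⟩ := exists_split hVn hV has hi
  have had : a * d * a = d := h2 d hd hdc
  have htd : t * d * t = d := by
    calc t * d * t = t * (a * d * a) * t := by rw [had]
      _ = (t * a) * d * (a * t) := by simp only [mul_assoc]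
      _ = (a * t) * d * (a * t) := by rw [hat.eq]
      _ = d := hdc
  have htj : t * j * t = d⁻¹ * j⁻¹ * d⁻¹ := by
    calc t * j * t = t * (d⁻¹ * i) * t := by rw [hij, inv_mul_cancel_left]
      _ = (t * d * t)⁻¹ * (t * i * t) := by
          rw [mul_inv_rev, mul_inv_rev, inv_eq_of_mul_eq_one_right ht]
          simp only [mul_assoc]; rw [← mul_assoc t t, ht, one_mul]
      _ = d⁻¹ * j⁻¹ * d⁻¹ := by rw [htd, hti, hij, mul_inv_rev, mul_assoc]
  have haj : a * j * a = d * j * d := by
    have h3 : a * j * a = t * ((a * t) * j * (a * t)) * t := by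
      calc a * j * a = (t * t) * (a * j * a) * (t * t) := by rw [ht, one_mul, mul_one]
        _ = t * ((t * a) * j * (a * t)) * t := by simp only [mul_assoc]
        _ = _ := by rw [← hat.eq]
    rw [h3, hjc]
    calc t * j⁻¹ * t = (t * j * t)⁻¹ := by
          rw [mul_inv_rev, mul_inv_rev, inv_eq_of_mul_eq_one_right ht, mul_assoc]
      _ = d * j * d := by rw [htj]; simp [mul_inv_rev, mul_assoc]
  -- apply `a` to `t j t`
  have hkey : d⁻¹ * j * d⁻¹ = d * j * d := by
    have e1 : a * (t * j * t) * a = (a * t) * j * (a * t) := by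
      calc a * (t * j * t) * a = (a * t) * j * (t * a) := by simp only [mul_assoc]
        _ = _ := by rw [hat.eq]
    have e2 : a * (t * j * t) * a = d⁻¹ * (a * j * a)⁻¹ * d⁻¹ := by
      have had' : a * d⁻¹ * a = d⁻¹ := by
        conv_rhs => rw [← had]
        rw [mul_inv_rev, mul_inv_rev, inv_eq_of_mul_eq_one_right ha, mul_assoc]
      rw [htj]
      calc a * (d⁻¹ * j⁻¹ * d⁻¹) * a
          = (a * d⁻¹ * a) * (a * j⁻¹ * a) * (a * d⁻¹ * a) := by
            simp only [mul_assoc]; rw [← mul_assoc a a, ha, one_mul, ← mul_assoc a a, ha, one_mul]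
        _ = d⁻¹ * (a * j * a)⁻¹ * d⁻¹ := by
            rw [had', mul_inv_rev, mul_inv_rev, inv_eq_of_mul_eq_one_right ha, mul_assoc a j⁻¹]
    have e3 := e1.symm.trans e2
    rw [hjc, haj, mul_inv_rev, mul_inv_rev] at e3
    -- `j⁻¹ = d⁻² j⁻¹ d⁻²`
    have e4 : j = d * d * j * (d * d) := by
      have := congrArg (·⁻¹) e3
      simpa [mul_inv_rev, mul_assoc] using this
    calc d⁻¹ * j * d⁻¹ = d⁻¹ * (d * d * j * (d * d)) * d⁻¹ := by rw [← e4]
      _ = d * j * d := by group
  have hdd : d * d = 1 := by
    refine eq_one_of_conj_inv hV hj (mul_mem hd hd) ?_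
    calc j⁻¹ * (d * d) * j = j⁻¹ * d * (d * j * d) * d⁻¹ := by group
      _ = j⁻¹ * d * (d⁻¹ * j * d⁻¹) * d⁻¹ := by rw [hkey]
      _ = (d * d)⁻¹ := by group
  have hd1 : d = 1 := by
    refine eq_one_of_conj_inv hV (one_mem V) hd ?_
    rw [inv_one, one_mul, mul_one]
    exact (inv_eq_of_mul_eq_one_right hdd).symm
  rw [hd1, one_mul] at hij
  subst hij
  rw [haj, hd1, one_mul, mul_one]

end Aux

set_option maxHeartbeats 1000000 in
theorem result {G : Type*} [Group G] [Finite G] (A : Subgroup G) (hA : Cfsg.IsStandardSubgroup A)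
    (hcyc : ∀ R : Sylow 2 ↥(Subgroup.centralizer (A : Set G)), IsCyclic ↥(R : Subgroup ↥(Subgroup.centralizer (A : Set G)))) (t : G) (ht : orderOf t = 2) (htA : t ∈ Subgroup.centralizer (A : Set G))
    (R : Subgroup G) (hR2 : IsPGroup 2 ↥R) (hRX : R ≤ Subgroup.normalClosure (A : Set G)) (hRt : ∀ r ∈ R, t * r * t⁻¹ ∈ R)
    (hc1 : ⁅R, Subgroup.zpowers t⁆ ≠ ⊥) (hc2 : ⁅R, Subgroup.zpowers t⁆ ≤ A) :
    Cfsg.layer ↥(Subgroup.normalClosure (A : Set G)) = ⊤ ∧ Odd (Nat.card ↥(Subgroup.center ↥(Subgroup.normalClosure (A : Set G)))) := by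
  classical
  haveI := Fact.mk Nat.prime_two
  set K := Subgroup.centralizer (A : Set G) with hK
  have ht2 : t * t = 1 := by rw [← pow_two, ← ht]; exact pow_orderOf_eq_one t
  have htinv : t⁻¹ = t := inv_eq_of_mul_eq_one_right ht2
  have ht1 : t ≠ 1 := fun h => by simp [h] at ht
  have huniq : ∀ e ∈ K, orderOf e = 2 → Commute e t → e = t := fun e he he2 hc =>
    unique_involution_of_cyclic hcyc he htA he2 ht hc
  have hfix : ∀ (N : Subgroup G), N.Normal → ¬ A ≤ N → ∀ v ∈ N, Commute v t → v ∈ K := by
    intro N hN hAN v hv hc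
    exact mem_centralizer_of_normal hA.1 hAN hv
      (StandardRankOne.centralizer_involution_le A hA htA ht hc.eq)
  -- the involution `a = [r, t]`
  obtain ⟨r, hr, hrt⟩ : ∃ r ∈ R, ⁅r, t⁆ ≠ 1 := by
    by_contra h
    push Not at h
    refine hc1 (le_bot_iff.mp (Subgroup.commutator_le.mpr fun r hr y hy => ?_))
    obtain ⟨k, rfl⟩ := hy
    exact Subgroup.mem_bot.mpr (commutatorElement_eq_one_iff_commute.mpr
      ((commutatorElement_eq_one_iff_commute.mp (h r hr)).zpow_right k))
  set a := ⁅r, t⁆ with hadef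
  have haA : a ∈ A := hc2 (Subgroup.commutator_mem_commutator hr (Subgroup.mem_zpowers t))
  have hat : Commute a t := Subgroup.mem_centralizer_iff.mp htA a haA
  have hconj : r * t * r⁻¹ = a * t := by rw [hadef, commutatorElement_def]; group
  have haa : a * a = 1 := by
    have h : a * t * (a * t) = 1 := by
      rw [← hconj]
      calc r * t * r⁻¹ * (r * t * r⁻¹) = r * (t * t) * r⁻¹ := by group
        _ = 1 := by rw [ht2]; group
    calc a * a = a * a * (t * t) := by rw [ht2, mul_one]
      _ = a * (a * t) * t := by simp only [mul_assoc]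
      _ = a * (t * a) * t := by rw [hat.eq]
      _ = a * t * (a * t) := by simp only [mul_assoc]
      _ = 1 := h
  have haord : orderOf a = 2 := orderOf_eq_prime (by rw [pow_two, haa]) hrt
  have haK : a ∉ K := by
    intro h
    have h' := huniq a h haord hat
    rw [h', ht2] at hconj
    exact ht1 (by simpa [mul_assoc] using congrArg (fun z => r⁻¹ * z * r) hconj)
  have hnc : ¬ ∀ g : G, g * t = t * g := by
    intro h
    exact hrt (commutatorElement_eq_one_iff_commute.mpr (h r))
  -- `O₂(G) = 1`
  have hQ : pCore 2 G = ⊥ := by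
    by_contra hne
    set Q := pCore 2 G
    haveI : Q.Normal := Fitting.pCore_normal (G := G) 2
    have hQp : IsPGroup 2 Q := Fitting.pCore_isPGroup 2
    have hAQ : ¬ A ≤ Q := fun h => Layer.not_isSolvable_of_isQuasisimple hA.1 (by
      haveI := (hQp.to_le h).isNilpotent
      infer_instance)
    have hTp : IsPGroup 2 ↥(Q ⊔ Subgroup.zpowers t : Subgroup G) :=
      IsPGroup.to_sup_of_normal_left' hQp
        (IsPGroup.of_card (n := 1) (by rw [Nat.card_zpowers, ht, pow_one]))
        Subgroup.le_normalizer_of_normal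
    obtain ⟨z, hzQ, hz2, hzc⟩ := CharCore.exists_central_orderOf (p := 2) hTp hne le_sup_left
      Subgroup.le_normalizer_of_normal
    have hzt : Commute z t := (hzc t (Subgroup.mem_sup_right (Subgroup.mem_zpowers t))).symm
    have hzeq := huniq z (hfix Q inferInstance hAQ z hzQ hzt) hz2 hzt
    subst hzeq
    have hQK : ∀ v ∈ Q, v ∈ K ∧ Commute v z := by
      intro v hv
      have h : Commute v z := hzc v (Subgroup.mem_sup_left hv)
      exact ⟨hfix Q inferInstance hAQ v hv h, h⟩
    refine hnc fun g => ?_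
    have hg : g * z * g⁻¹ ∈ Q := Subgroup.Normal.conj_mem inferInstance z hzQ g
    have h := huniq _ (hQK _ hg).1 (by
      rw [show g * z * g⁻¹ = MulAut.conj g z from rfl,
        MulEquiv.orderOf_eq]; exact ht) (hQK _ hg).2
    calc g * z = g * z * g⁻¹ * g := by group
      _ = z * g := by rw [h]
  -- `A` centralizes the odd core
  set O := oddCore G
  haveI hOn : O.Normal := Transfer.pPrimeCore_normal 2 G
  have hOodd : Odd (Nat.card O) :=
    Nat.coprime_two_right.mp (Transfer.pPrimeCore_coprime (G := G) 2)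
  have hAO : ¬ A ≤ O := fun h => by
    have h2 := Subgroup.orderOf_dvd_natCard O (h haA)
    rw [haord] at h2
    exact (Nat.not_even_iff_odd.mpr hOodd) (even_iff_two_dvd.mpr h2)
  have haO : ∀ v ∈ O, a * v * a = v := by
    have hmk : ∀ (s v : G), s * s = 1 → (s * v * s = v ↔ Commute v s) := by
      intro s v hs
      constructor
      · intro h
        calc v * s = s * v * s * s := by rw [h]
          _ = s * v := by rw [mul_assoc, hs, mul_one]
      · intro h
        rw [mul_assoc, h.eq, ← mul_assoc, hs, one_mul]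
    have hsub : O ⊓ Subgroup.centralizer ({t} : Set G) ≤
        O ⊓ Subgroup.centralizer ({a * t} : Set G) := by
      rintro v ⟨hv, hvt⟩
      have hvt' : Commute v t := Subgroup.mem_centralizer_singleton_iff.mp hvt
      have hvK := hfix O hOn hAO v hv hvt'
      have hva : Commute v a := (Subgroup.mem_centralizer_iff.mp hvK a haA).symm
      exact ⟨hv, Subgroup.mem_centralizer_singleton_iff.mpr (hva.mul_right hvt').eq⟩
    have hmap : (O ⊓ Subgroup.centralizer ({t} : Set G)).map (MulAut.conj r).toMonoidHom =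
        O ⊓ Subgroup.centralizer ({a * t} : Set G) := by
      rw [← hconj]
      ext v
      constructor
      · rintro ⟨w, ⟨hw, hwt⟩, rfl⟩
        have hwt' : Commute w t := Subgroup.mem_centralizer_singleton_iff.mp hwt
        refine ⟨hOn.conj_mem w hw r, Subgroup.mem_centralizer_singleton_iff.mpr ?_⟩
        change r * w * r⁻¹ * (r * t * r⁻¹) = r * t * r⁻¹ * (r * w * r⁻¹)
        calc r * w * r⁻¹ * (r * t * r⁻¹) = r * (w * t) * r⁻¹ := by group
          _ = r * (t * w) * r⁻¹ := by rw [hwt'.eq]
          _ = _ := by group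
      · rintro ⟨hv, hvt⟩
        have hvt' := Subgroup.mem_centralizer_singleton_iff.mp hvt
        refine ⟨r⁻¹ * v * r, ⟨by simpa using hOn.conj_mem v hv r⁻¹,
          Subgroup.mem_centralizer_singleton_iff.mpr ?_⟩, by simp [mul_assoc]⟩
        calc r⁻¹ * v * r * t = r⁻¹ * (v * (r * t * r⁻¹)) * r := by group
          _ = r⁻¹ * (r * t * r⁻¹ * v) * r := by rw [hvt']
          _ = t * (r⁻¹ * v * r) := by group
    have heq := Subgroup.eq_of_le_of_card_ge hsub (by
      rw [← hmap, Subgroup.card_map_of_injective (MulAut.conj r).injective])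
    refine four_group_fix hOn hOodd haa ht2 hat (fun v hv h => ?_) (fun v hv h => ?_)
    · have hvK := hfix O hOn hAO v hv ((hmk t v ht2).mp h)
      exact (hmk a v haa).mpr (Subgroup.mem_centralizer_iff.mp hvK a haA).symm
    · have hh : Commute v (a * t) := (hmk (a * t) v (by
        rw [← hconj]
        calc r * t * r⁻¹ * (r * t * r⁻¹) = r * (t * t) * r⁻¹ := by group
          _ = 1 := by rw [ht2]; group)).mp h
      have hv2 : v ∈ O ⊓ Subgroup.centralizer ({t} : Set G) :=
        heq ▸ ⟨hv, Subgroup.mem_centralizer_singleton_iff.mpr hh.eq⟩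
      have hvK := hfix O hOn hAO v hv (Subgroup.mem_centralizer_singleton_iff.mp hv2.2)
      exact (hmk a v haa).mpr (Subgroup.mem_centralizer_iff.mp hvK a haA).symm
  haveI : (Subgroup.centralizer (O : Set G)).Normal := Subgroup.normal_centralizer
  have hAOc : A ≤ Subgroup.centralizer (O : Set G) := by
    by_contra h
    refine haK (mem_centralizer_of_normal hA.1 h ?_ (Subgroup.le_normalizer haA))
    rw [Subgroup.mem_centralizer_iff]
    intro v hv
    calc v * a = a * v * a * a := by rw [haO v hv]
      _ = a * v := by rw [mul_assoc, haa, mul_one]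
  -- `A` lies in the layer
  set E := layer G
  haveI hEn : E.Normal := Layer.layer_normal
  have hFodd : ¬ 2 ∣ Nat.card (fittingSubgroup G) := Layer.CommutatorSplit.not_dvd_card_fitting hQ
  have hFO : fittingSubgroup G ≤ O :=
    Transfer.le_pPrimeCore (Fitting.fittingSubgroup_normal (G := G))
      (((Nat.Prime.coprime_iff_not_dvd Nat.prime_two).mpr hFodd).symm)
  have hAE : A ≤ E := by
    by_contra hAE
    have hEodd : ¬ 2 ∣ Nat.card E := by
      intro hd
      obtain ⟨S, htS⟩ := (IsPGroup.of_card (n := 1)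
        (by rw [Nat.card_zpowers, ht, pow_one]) : IsPGroup 2 ↥(Subgroup.zpowers t)).exists_le_sylow
      have hne : (S : Subgroup G) ⊓ E ≠ ⊥ := by
        obtain ⟨e, he⟩ := exists_prime_orderOf_dvd_card' (G := ↥E) 2 hd
        obtain ⟨S', hS'⟩ := (IsPGroup.of_card (n := 1) (G := ↥(Subgroup.zpowers (e : G)))
          (by rw [Nat.card_zpowers, Subgroup.orderOf_coe, he, pow_one])).exists_le_sylow
        obtain ⟨g, hg⟩ := MulAction.exists_smul_eq G S' S
        intro hbot
        have hmem : g * (e : G) * g⁻¹ ∈ (S : Subgroup G) ⊓ E := by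
          refine ⟨?_, hEn.conj_mem _ e.2 g⟩
          rw [← hg]
          exact ⟨e, hS' (Subgroup.mem_zpowers _), by simp⟩
        rw [hbot, Subgroup.mem_bot, conj_eq_one_iff, OneMemClass.coe_eq_one] at hmem
        rw [hmem, orderOf_one] at he
        exact absurd he (by norm_num)
      obtain ⟨z, ⟨-, hzE⟩, hz2, hzc⟩ := CharCore.exists_central_orderOf (p := 2) S.2 hne inf_le_left
        (fun s hs => Subgroup.mem_normalizer_fintype fun x hx =>
          ⟨(S : Subgroup G).mul_mem ((S : Subgroup G).mul_mem hs hx.1) ((S : Subgroup G).inv_mem hs),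
            hEn.conj_mem x hx.2 s⟩)
      have htS' : t ∈ (S : Subgroup G) := htS (Subgroup.mem_zpowers t)
      have hzt : Commute z t := (hzc t htS').symm
      have hzeq := huniq z (hfix E hEn hAE z hzE hzt) hz2 hzt
      subst hzeq
      have hSE : ((S : Subgroup G) ⊓ E) ≤ K := fun v hv =>
        hfix E hEn hAE v hv.2 (hzc v hv.1)
      -- every 2-subgroup of `E` is cyclic
      have hEcyc : ∀ P : Sylow 2 ↥E, IsCyclic ↥(P : Subgroup ↥E) := by
        intro P
        set P' := (P : Subgroup ↥E).map E.subtype with hP'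
        obtain ⟨S', hS'⟩ := (P.2.map E.subtype).exists_le_sylow
        obtain ⟨g, hg⟩ := MulAction.exists_smul_eq G S' S
        have hle : P'.map (MulAut.conj g).toMonoidHom ≤ K := by
          rintro _ ⟨x, hx, rfl⟩
          refine hSE ⟨?_, hEn.conj_mem x (Subgroup.map_subtype_le _ hx) g⟩
          rw [← hg]
          exact ⟨x, hS' hx, by simp⟩
        set P'' := (P'.map (MulAut.conj g).toMonoidHom)
        have hp2 : IsPGroup 2 ↥(P''.subgroupOf K) :=
          ((P.2.map E.subtype).map _).of_equiv (Subgroup.subgroupOfEquivOfLe hle).symm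
        obtain ⟨U, hU⟩ := hp2.exists_le_sylow
        haveI := hcyc U
        haveI : IsCyclic ↥(P''.subgroupOf K) :=
          isCyclic_of_injective (Subgroup.inclusion hU) (Subgroup.inclusion_injective hU)
        have e1 := ((P : Subgroup ↥E).equivMapOfInjective E.subtype E.subtype_injective).trans
          ((P'.equivMapOfInjective (MulAut.conj g).toMonoidHom (MulAut.conj g).injective).trans
            (Subgroup.subgroupOfEquivOfLe hle).symm)
        exact isCyclic_of_injective e1.toMonoidHom e1.injective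
      haveI : Group.IsPerfect ↥E := Layer.layer_isPerfect
      let P : Sylow 2 ↥E := default
      have hmin : (Nat.card ↥E).minFac = 2 := (Nat.minFac_eq_two_iff _).mpr hd
      have hcomp := (hEcyc P).isComplement' hmin
      set φ := MonoidHom.transferSylow P ((hEcyc P).normalizer_le_centralizer hmin)
      have hker : φ.ker = ⊤ := by
        rw [eq_top_iff, ← Group.IsPerfect.commutator_eq_top (G := ↥E), commutator_def,
          Subgroup.commutator_le]
        intro x _ y _
        rw [MonoidHom.mem_ker, map_commutatorElement, commutatorElement_eq_one_iff_commute]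
        haveI := hEcyc P
        exact IsMulCommutative.is_comm.comm _ _
      rw [hker, Subgroup.isComplement'_top_left] at hcomp
      exact P.ne_bot_of_dvd_card hd hcomp
    have hEO : E ≤ O := Transfer.le_pPrimeCore hEn
      (((Nat.Prime.coprime_iff_not_dvd Nat.prime_two).mpr hEodd).symm)
    have hF : generalizedFittingSubgroup G ≤ O := sup_le hEO hFO
    exact hAO ((hAOc.trans (Subgroup.centralizer_le hF)).trans
      (Layer.centralizer_generalizedFitting_le.trans hF))
  -- semisimplicity
  set X := Subgroup.normalClosure (A : Set G)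
  have hXE : X ≤ E := Subgroup.normalClosure_le_normal hAE
  have hXperf : X ≤ ⁅X, X⁆ := by
    haveI : (⁅X, X⁆ : Subgroup G).Normal := Subgroup.commutator_normal X X
    refine Subgroup.normalClosure_le_normal ((Subgroup.isPerfect_iff.mp hA.1.1).ge.trans ?_)
    exact Subgroup.commutator_mono Subgroup.le_normalClosure Subgroup.le_normalClosure
  set L := (layer ↥X).map X.subtype
  have hXsub : X.IsSubnormal := (inferInstance : X.Normal).isSubnormal
  haveI : L.Normal := by
    haveI : (layer ↥X).Characteristic := Layer.layer_characteristic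
    exact ConjAct.normal_of_characteristic_of_normal
  haveI : (Subgroup.centralizer (X : Set G)).Normal := Subgroup.normal_centralizer
  have hELC : E ≤ L ⊔ Subgroup.centralizer (X : Set G) := by
    refine sSup_le fun C hC => ?_
    rcases Layer.le_or_commutator_eq_bot hC hXsub with h | h
    · exact (Layer.le_map_layer hC h).trans le_sup_left
    · exact (Subgroup.commutator_eq_bot_iff_le_centralizer.mp h).trans le_sup_right
  have hLX : L ≤ X := Subgroup.map_subtype_le _
  have hXL : X ≤ L := by
    refine hXperf.trans (Subgroup.commutator_le.mpr fun x hx y hy => ?_)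
    obtain ⟨l, hl, c, hc, rfl⟩ := Subgroup.mem_sup_of_normal_left.mp (hELC (hXE hx))
    obtain ⟨l', hl', c', hc', rfl⟩ := Subgroup.mem_sup_of_normal_left.mp (hELC (hXE hy))
    have hcX : c ∈ X := by
      have := mul_mem (inv_mem (hLX hl)) hx
      rwa [inv_mul_cancel_left] at this
    rw [Subgroup.mem_centralizer_iff] at hc hc'
    have e1 : ⁅l * c, l' * c'⁆ = ⁅l, l'⁆ := by
      have h1 : Commute c (l' * c') := (hc (l' * c') hy).symm
      have h2 : Commute c' l := (hc' l (hLX hl)).symm
      calc ⁅l * c, l' * c'⁆ = l * (c * (l' * c') * c⁻¹) * l⁻¹ * (l' * c')⁻¹ := by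
            rw [commutatorElement_def]; group
        _ = l * (l' * c') * l⁻¹ * (l' * c')⁻¹ := by
            rw [h1.eq, mul_inv_cancel_right]
        _ = l * l' * (c' * l⁻¹ * c'⁻¹) * l'⁻¹ := by group
        _ = ⁅l, l'⁆ := by
            rw [h2.inv_right.eq, mul_inv_cancel_right, commutatorElement_def]
    rw [e1, commutatorElement_def]
    exact mul_mem (mul_mem (mul_mem hl hl') (inv_mem hl)) (inv_mem hl')
  refine ⟨?_, ?_⟩
  · apply Subgroup.map_injective X.subtype_injective
    rw [← MonoidHom.range_eq_map, Subgroup.range_subtype]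
    exact le_antisymm hLX hXL
  · rw [← Nat.not_even_iff_odd, even_iff_two_dvd]
    intro hd
    refine hFodd (hd.trans ?_)
    have hle : (Subgroup.center ↥X).map X.subtype ≤ fittingSubgroup G := by
      haveI : (Subgroup.center ↥X).Characteristic := Subgroup.centerCharacteristic
      haveI : ((Subgroup.center ↥X).map X.subtype).Normal :=
        ConjAct.normal_of_characteristic_of_normal
      haveI : Group.IsNilpotent ↥(Subgroup.center ↥X) := by
        open scoped IsMulCommutative in infer_instance
      refine Fitting.le_fittingSubgroup inferInstance ?_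
      exact Group.nilpotent_of_mulEquiv
        ((Subgroup.center ↥X).equivMapOfInjective X.subtype X.subtype_injective)
    have := Subgroup.card_dvd_of_le hle
    rwa [Subgroup.card_map_of_injective X.subtype_injective] at this

end Cfsg.Agent.S3164
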