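import Cfsg.Statements.S3166
import Mathlib


set_option autoImplicit false
open Cfsg

namespace Cfsg.Agent.S3166

/-- Let q = 2^n with n ≥ 1. If q⁴ − q³ + q² − q + 1 is a power p^m of a prime p, then m = 1: the value is never a prime power with exponent greater than 1. -/
theorem result (n p m : ℕ) (hn : 1 ≤ n) (hp : p.Prime) (h : (2 ^ n) ^ 4 - (2 ^ n) ^ 3 + (2 ^ n) ^ 2 - 2 ^ n + 1 = p ^ m) : m = 1 := by
  obtain ⟨q, hqdef⟩ : ∃ q, q = 2 ^ n := ⟨_, rfl⟩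
  rw [← hqdef] at h
  have hq2 : 2 ≤ q := by rw [hqdef]; exact Nat.le_self_pow (by omega) 2
  have h43 : q ^ 3 ≤ q ^ 4 := Nat.pow_le_pow_right (by omega) (by norm_num)
  have h32 : q ≤ q ^ 2 := Nat.le_self_pow two_ne_zero q
  have hval : (p : ℤ) ^ m = (q : ℤ) ^ 4 - q ^ 3 + q ^ 2 - q + 1 := by
    have h' : q ^ 4 - q ^ 3 + q ^ 2 - q + 1 + q ^ 3 + q = q ^ 4 + q ^ 2 + 1 := by omega
    rw [h] at h'
    have : ((p ^ m + q ^ 3 + q : ℕ) : ℤ) = ((q ^ 4 + q ^ 2 + 1 : ℕ) : ℤ) := by rw [h']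
    push_cast at this
    linarith
  have hqZ : (2 : ℤ) ≤ q := by exact_mod_cast hq2
  obtain ⟨r, hr⟩ : ∃ r, q = 2 * r := ⟨2 ^ (n - 1), by rw [hqdef, ← pow_succ', Nat.sub_add_cancel hn]⟩
  have hrZ : (q : ℤ) = 2 * r := by exact_mod_cast hr
  have hodd : Odd m := by
    by_contra he
    obtain ⟨j, rfl⟩ := Nat.not_odd_iff_even.mp he
    set s : ℤ := (p : ℤ) ^ j
    set A : ℤ := (q : ℤ) ^ 2 - r
    have hs0 : 0 ≤ s := by positivity
    have hA0 : 0 ≤ A := by simp only [A]; nlinarith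
    have hss : s * s = (q : ℤ) ^ 4 - q ^ 3 + q ^ 2 - q + 1 := by rw [← hval, pow_add]
    have h1 : A * A < s * s := by rw [hss]; simp only [A]; nlinarith
    have h2 : s * s < (A + 1) * (A + 1) := by rw [hss]; simp only [A]; nlinarith
    rcases le_or_gt s A with h3 | h3
    · nlinarith
    · nlinarith [show A + 1 ≤ s by omega]
  obtain ⟨j, rfl⟩ := hodd
  -- `p ≡ 1` modulo `2 ^ n`
  have hG : Odd (∑ i ∈ Finset.range (2 * j + 1), (p : ℤ) ^ i) := by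
    have hp : Odd (p : ℤ) := by
      rcases Int.even_or_odd (p : ℤ) with ⟨c, hc⟩ | h'
      · exfalso
        have h1 : Even ((p : ℤ) ^ (2 * j + 1)) := ⟨c * p ^ (2 * j), by rw [pow_succ', hc]; ring⟩
        rw [hval] at h1
        obtain ⟨w, hw⟩ := h1
        rw [hrZ] at hw
        have h2 : (1 : ℤ) = 2 * (w - (8 * (r : ℤ) ^ 4 - 4 * r ^ 3 + 2 * r ^ 2 - r)) := by linarith
        omega
      · exact h'
    have hall : ∀ i : ℕ, Odd (∑ l ∈ Finset.range i, (p : ℤ) ^ l) ↔ Odd i := by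
      intro i
      induction i with
      | zero => simp
      | succ i ih =>
        rw [Finset.sum_range_succ, Int.odd_add, ih, Nat.odd_add_one]
        simp [Int.not_even_iff_odd.mpr (hp.pow (n := i))]
    exact (hall _).mpr (odd_two_mul_add_one j)
  have hdvd : (q : ℤ) ∣ (p : ℤ) - 1 := by
    have hmul : ((p : ℤ) - 1) * (∑ i ∈ Finset.range (2 * j + 1), (p : ℤ) ^ i) =
        (q : ℤ) * ((q : ℤ) ^ 3 - q ^ 2 + q - 1) := by
      rw [mul_comm ((p : ℤ) - 1), geom_sum_mul, hval]; ring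
    refine IsCoprime.dvd_of_dvd_mul_right ?_ ⟨_, hmul⟩
    rw [hqdef]; push_cast
    refine IsCoprime.pow_left ?_
    obtain ⟨w, hw⟩ := hG
    exact ⟨-w, 1, by rw [hw]; ring⟩
  obtain ⟨k, hk⟩ := hdvd
  have hp1 : (2 : ℤ) ≤ p := by exact_mod_cast hp.two_le
  have hk0 : 1 ≤ k := by nlinarith
  have hkp : (q : ℤ) + 1 ≤ p := by nlinarith
  have hj : j ≤ 1 := by
    by_contra hj
    have h1 : ((q : ℤ) + 1) ^ 4 ≤ (p : ℤ) ^ (2 * j + 1) :=
      (pow_le_pow_left₀ (by linarith) hkp 4).trans (pow_le_pow_right₀ (by linarith) (by omega))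
    rw [hval] at h1
    nlinarith
  interval_cases j
  · rfl
  exfalso
  have hp' : (p : ℤ) = (q : ℤ) * k + 1 := by linarith
  rw [show 2 * 1 + 1 = 3 from rfl, hp'] at hval
  have h3 : (q : ℤ) * (3 * k + 3 * q * k ^ 2 + q ^ 2 * k ^ 3 - (q ^ 3 - q ^ 2 + q - 1)) = 0 := by
    linarith
  have h4 := (mul_eq_zero.mp h3).resolve_left (by linarith)
  obtain ⟨c, hc⟩ : (q : ℤ) ∣ 3 * k + 1 :=
    ⟨(q : ℤ) ^ 2 - q + 1 - 3 * k ^ 2 - q * k ^ 3, by linarith⟩
  have hc0 : 1 ≤ c := by nlinarith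
  have h5 : (q : ℤ) ≤ 3 * k + 1 := by nlinarith
  rcases eq_or_lt_of_le hk0 with rfl | hk2
  · -- `k = 1`
    have : (q : ℤ) ≤ 4 := by linarith
    interval_cases (q : ℤ) <;> norm_num at h4
  · have hk2' : (2 : ℤ) ≤ k := hk2
    nlinarith [mul_le_mul h5 (le_refl ((q : ℤ) ^ 2)) (by positivity) (by linarith),
      mul_le_mul (mul_le_mul hk2' hk2' (by norm_num) (by linarith)) (le_refl (k * (q : ℤ) ^ 2)) (by positivity) (by positivity)]
end Cfsg.Agent.S3166
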