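import Cfsg.Statements.S3174
import Cfsg.Agent.Lib.PGroup.FourteenCoord

set_option autoImplicit false
open Cfsg

namespace Cfsg.Agent.S3174

/-- Let T be a finite 2-group of order at least 2^14 in which the fourth term of the upper central series has order 16. Let W be the centralizer in T of the third term Z₃(T), and suppose the Frattini subgroup of W has order at most 8 and lies in every subgroup of W of index at most 16. Then T has order exactly 2^14; the derived subgroup of W and the Frattini subgroup of W both equal Z₃(T), which is elementary abelian of order 8; the centre of W has order 8; W is normal in T with quotient dihedral of order 8; and W modulo its derived subgroup is elementary abelian of order 2^8. -/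
theorem result {T : Type*} [Group T] [Finite T]
    (hT : IsPGroup 2 T) (ha : 2 ^ 14 ≤ Nat.card T) (hb : Nat.card ↥(Subgroup.upperCentralSeries T 4) = 16)
    (W : Subgroup T) (hW : W = Subgroup.centralizer ((Subgroup.upperCentralSeries T 3 : Subgroup T) : Set T))
    (hc : Nat.card ↥(frattini ↥W) ≤ 8) (hd : ∀ U : Subgroup ↥W, U.index ≤ 16 → frattini ↥W ≤ U) :
    Nat.card T = 2 ^ 14 ∧
      (commutator ↥W).map W.subtype = Subgroup.upperCentralSeries T 3 ∧
      (frattini ↥W).map W.subtype = Subgroup.upperCentralSeries T 3 ∧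
      Nat.card ↥(Subgroup.center ↥W) = 8 ∧
      Nat.card ↥(Subgroup.upperCentralSeries T 3) = 8 ∧ (∀ z ∈ Subgroup.upperCentralSeries T 3, z ^ 2 = 1) ∧
      (∃ (_ : W.Normal), Nonempty (T ⧸ W ≃* DihedralGroup 4)) ∧
      Nat.card (↥W ⧸ commutator ↥W) = 2 ^ 8 ∧ (∀ x : ↥W ⧸ commutator ↥W, x ^ 2 = 1) := by
  classical
  have H : CfsgLib.Fourteen.Hyp T W := ⟨hT, ha, hb, hW, hc, hd⟩
  obtain ⟨h14, hq, hP8, hW11, -⟩ := H.tight
  have hZ := H.phi_eq
  refine ⟨h14, H.commutator_eq.trans hZ, hZ, ?_, by rw [H.card_Z (by omega)]; norm_num,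
    fun z hz => by rw [pow_two]; exact H.three_elem hz, H.dihedral, ?_, ?_⟩
  · have hcen : (Subgroup.center ↥W).map W.subtype = CfsgLib.Fourteen.phi W := by
      refine le_antisymm ?_ fun y hy => ⟨⟨y, H.phi_le hy⟩, Subgroup.mem_center_iff.2 fun g =>
        Subtype.ext (H.comm_phi g.2 hy), rfl⟩
      rintro _ ⟨⟨y, hy⟩, hyc, rfl⟩
      exact H.center_le hy fun w hw =>
        (congrArg Subtype.val (Subgroup.mem_center_iff.1 hyc ⟨w, hw⟩)).symm
    rw [← Subgroup.card_map_of_injective W.subtype_injective, hcen, hP8]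
  · have h1 := Subgroup.card_eq_card_quotient_mul_card_subgroup (commutator ↥W)
    rw [← Subgroup.card_map_of_injective (K := commutator ↥W) W.subtype_injective, H.commutator_eq, hP8, hW11] at h1
    omega
  · intro x
    obtain ⟨w, rfl⟩ := QuotientGroup.mk_surjective x
    rw [← QuotientGroup.mk_pow, QuotientGroup.eq_one_iff]
    have h2 : ((w ^ 2 : W) : T) ∈ (commutator ↥W).map W.subtype := by
      rw [H.commutator_eq, Subgroup.coe_pow, pow_two]; exact H.sq_mem w.2
    obtain ⟨y, hy, hyw⟩ := h2
    rwa [show y = w ^ 2 from Subtype.ext hyw] at hy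

end Cfsg.Agent.S3174
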