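import Cfsg.Statements.S3175
import Cfsg.Agent.Lib.PGroup.FourteenAut

set_option autoImplicit false
open Cfsg

namespace Cfsg.Agent.S3175

/-- Let G be a finite group whose Sylow 2-subgroup T has order at least 2^14 and whose upper central series has fourth term of order 16; let W be the centralizer in T of the third term, and suppose the Frattini subgroup of W has order at most 8 and lies in every subgroup of W of index at most 16. Then the normalizer of T in G has a normal 2-complement, and W is weakly closed in T with respect to G. -/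
theorem result {G : Type*} [Group G] [Finite G]
    (T : Sylow 2 G) (ha : 2 ^ 14 ≤ Nat.card ↥(T : Subgroup G))
    (hb : Nat.card ↥(Subgroup.upperCentralSeries ↥(T : Subgroup G) 4) = 16)
    (W : Subgroup ↥(T : Subgroup G))
    (hW : W = Subgroup.centralizer ((Subgroup.upperCentralSeries ↥(T : Subgroup G) 3 : Subgroup ↥(T : Subgroup G)) : Set ↥(T : Subgroup G)))
    (hc : Nat.card ↥(frattini ↥W) ≤ 8)
    (hd : ∀ U : Subgroup ↥W, U.index ≤ 16 → frattini ↥W ≤ U) :
    Cfsg.HasNormalPComplement 2 ↥(Subgroup.normalizer ((T : Subgroup G) : Set G)) ∧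
      Cfsg.IsWeaklyClosed (W.map (T : Subgroup G).subtype) (T : Subgroup G) := by
  classical
  haveI : Fact (Nat.Prime 2) := ⟨Nat.prime_two⟩
  have H : CfsgLib.Fourteen.Hyp ↥(T : Subgroup G) W := ⟨T.isPGroup', ha, hb, hW, hc, hd⟩
  obtain ⟨-, -, hP8, hW11, -⟩ := H.tight
  refine ⟨?_, Subgroup.map_subtype_le W, ?_⟩
  · -- normal complement in the normalizer
    let T1 := T.subtype (N := Subgroup.normalizer ((T : Subgroup G) : Set G)) Subgroup.le_normalizer
    haveI hn : (T1 : Subgroup ↥(Subgroup.normalizer ((T : Subgroup G) : Set G))).Normal :=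
      Subgroup.normal_in_normalizer
    obtain ⟨K, hK⟩ := Subgroup.exists_left_complement'_of_coprime T1.card_coprime_index
    have hodd : Odd (Nat.card K) := by
      rw [← Nat.coprime_two_left, ← hK.index_eq_card]
      exact (Nat.prime_two.coprime_iff_not_dvd).2 T1.not_dvd_index
    refine ⟨T1, K, ?_, hK⟩
    -- the complement centralizes the Sylow subgroup
    have hfix : ∀ k ∈ K, ∀ t ∈ (T1 : Subgroup ↥(Subgroup.normalizer ((T : Subgroup G) : Set G))),
        k * t * k⁻¹ = t := by
      intro k hk t ht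
      have hkn : k ^ Nat.card K = 1 := by
        have := pow_card_eq_one' (x := (⟨k, hk⟩ : K))
        exact congrArg Subtype.val this
      have h1 := H.aut_odd (α := (T : Subgroup G).normalizerMonoidHom k) hodd
        (by rw [← map_pow, hkn, map_one]) ⟨(t : G), ht⟩
      have h2 := congrArg Subtype.val h1
      exact Subtype.ext h2
    refine ⟨fun n hn' g => ?_⟩
    obtain ⟨⟨⟨k, hk⟩, ⟨t, ht⟩⟩, rfl⟩ := hK.2 g
    have h2 : t * n * t⁻¹ = n := by
      have := hfix n hn' t ht
      rw [← mul_inv_eq_iff_eq_mul.1 this, mul_inv_cancel_right]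
    change k * t * n * (k * t)⁻¹ ∈ K
    rw [show k * t * n * (k * t)⁻¹ = k * (t * n * t⁻¹) * k⁻¹ by group, h2]
    exact K.mul_mem (K.mul_mem hk hn') (K.inv_mem hk)
  · intro g hg
    have hmem : ∀ w : W, g * ((w : ↥(T : Subgroup G)) : G) * g⁻¹ ∈ (T : Subgroup G) := fun w =>
      hg ⟨_, ⟨(w : ↥(T : Subgroup G)), w.2, rfl⟩, rfl⟩
    let ψ : W →* ↥(T : Subgroup G) :=
      (((MulAut.conj g).toMonoidHom.comp (T : Subgroup G).subtype).comp W.subtype).codRestrict _ hmem
    have hψ : Function.Injective ψ := by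
      intro a b hab
      have h1 : g * ((a : ↥(T : Subgroup G)) : G) * g⁻¹ = g * ((b : ↥(T : Subgroup G)) : G) * g⁻¹ :=
        congrArg Subtype.val hab
      exact Subtype.ext (Subtype.ext (mul_left_cancel (mul_right_cancel h1)))
    have hkey : ψ.range = W := by
      refine H.weakly (P1 := (frattini ↥W).map ψ) ?_ (Subgroup.map_le_range ψ _) ?_ ?_ ?_ ?_
      · rw [← Nat.card_congr (MonoidHom.ofInjective hψ).toEquiv, hW11]
      · rw [Subgroup.card_map_of_injective (K := frattini ↥W) hψ, ← hP8]
        exact (Subgroup.card_map_of_injective (K := frattini ↥W) W.subtype_injective).symm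
      · rintro _ ⟨a, rfl⟩ _ ⟨b, hb', rfl⟩
        rw [← map_mul, ← map_mul]
        exact congrArg ψ (Subtype.ext (H.comm_phi a.2 ⟨b, hb', rfl⟩))
      · rintro _ ⟨a, rfl⟩ _ ⟨b, rfl⟩
        rw [← map_commutatorElement]
        obtain ⟨c, hc', hcab⟩ := H.comm_mem a.2 b.2
        exact ⟨c, hc', congrArg ψ (Subtype.ext (hcab.trans (map_commutatorElement W.subtype a b).symm))⟩
      · intro U hU hcard
        rw [Subgroup.map_le_iff_le_comap]
        refine hd _ ?_
        have h1 := Subgroup.card_mul_index (U.comap ψ)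
        have h2 : Nat.card (U.comap ψ) = Nat.card U := by
          rw [← Subgroup.card_map_of_injective (K := U.comap ψ) hψ, Subgroup.map_comap_eq_self hU]
        rw [h2, hW11] at h1
        have : Nat.card U * (U.comap ψ).index ≤ Nat.card U * 16 := by omega
        exact Nat.le_of_mul_le_mul_left this Nat.card_pos
    conv_rhs => rw [← hkey]
    rw [MonoidHom.map_range, Subgroup.map_map]
    ext x
    constructor
    · rintro ⟨w, hw, rfl⟩
      exact ⟨⟨w, hw⟩, rfl⟩
    · rintro ⟨w, rfl⟩
      exact ⟨(w : ↥(T : Subgroup G)), w.2, rfl⟩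

end Cfsg.Agent.S3175
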