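import Mathlib
import Cfsg.Statements.S3178
import Cfsg.Agent.Lib.Transfer.Frobenius

set_option autoImplicit false
open Cfsg

namespace Cfsg.Agent.S3178

/-- An automorphism of odd order fixing a central-by-cyclic layer pointwise is trivial. -/
theorem commute_of_cyclic_layer {G : Type*} [Group G] {Q : Subgroup G} {g c : G} {m : ℕ}
    (hg : g ∈ Subgroup.normalizer (Q : Set G)) (hodd : Odd (orderOf g)) (hc : c ∈ Q)
    (V : Subgroup G) (hVn : ∀ q ∈ Q, ∀ v ∈ V, q * v * q⁻¹ ∈ V)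
    (hV2 : ∀ v ∈ V, v * v = 1) (hfix : ∀ v ∈ V, v ∈ Q → g * v * g⁻¹ = v)
    (hgen : ∀ q ∈ Q, ∃ i : ℤ, ∃ v ∈ V, v ∈ Q ∧ q = c ^ i * v) (hpow : c ^ (2 ^ m) = 1) :
    g * c * g⁻¹ = c := by
  have hgQ : ∀ q ∈ Q, g * q * g⁻¹ ∈ Q := fun q hq => (Subgroup.mem_normalizer_iff.mp hg q).mp hq
  let W : Subgroup Q := V.subgroupOf Q
  haveI : W.Normal := ⟨fun v hv q => hVn q q.2 _ hv⟩
  let π := QuotientGroup.mk' W
  obtain ⟨r, v, hv, hvQ, hr⟩ := hgen _ (hgQ c hc)
  let θ : Q →* Q :=
    { toFun := fun q => ⟨g * q * g⁻¹, hgQ q q.2⟩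
      map_one' := Subtype.ext (by simp)
      map_mul' := fun p q => Subtype.ext (by simp [mul_assoc]) }
  let cQ : Q := ⟨c, hc⟩
  have hθc : π (θ cQ) = π cQ ^ r := by
    have : θ cQ = cQ ^ r * ⟨v, hvQ⟩ := Subtype.ext hr
    rw [this, map_mul, map_zpow, show π ⟨v, hvQ⟩ = 1 from (QuotientGroup.eq_one_iff _).mpr hv,
      mul_one]
  have hθV : ∀ x : Q, x ∈ W → θ x = x := fun x hx => Subtype.ext (hfix _ hx x.2)
  have hiter : ∀ (j : ℕ) (q : Q), ((θ^[j]) q : G) = g ^ j * q * (g ^ j)⁻¹ := fun j q => by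
    induction j with
    | zero => simp
    | succ j ih =>
      rw [Function.iterate_succ_apply']
      show g * _ * g⁻¹ = _
      rw [ih, pow_succ']
      group
  have hk : ∀ q : Q, (θ^[orderOf g]) q = q := fun q => Subtype.ext (by
    rw [hiter, pow_orderOf_eq_one]; simp)
  have hπ : ∀ j : ℕ, π ((θ^[j]) cQ) = π cQ ^ (r ^ j) := fun j => by
    induction j with
    | zero => simp
    | succ j ih =>
      rw [Function.iterate_succ_apply']
      obtain ⟨w, hw, hwe⟩ : ∃ w : Q, w ∈ W ∧ (θ^[j]) cQ = cQ ^ (r ^ j) * w :=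
        ⟨(cQ ^ (r ^ j))⁻¹ * (θ^[j]) cQ, (QuotientGroup.eq_one_iff _).mp (show π _ = 1 by
          rw [map_mul, map_inv, map_zpow, ih, inv_mul_cancel]), by rw [mul_inv_cancel_left]⟩
      rw [hwe, map_mul, map_mul, map_zpow, map_zpow, hθc, hθV w hw,
        show π w = 1 from (QuotientGroup.eq_one_iff _).mpr hw, mul_one, ← zpow_mul, pow_succ',]
  have hd : (orderOf (π cQ) : ℤ) ∣ r ^ orderOf g - 1 := by
    refine orderOf_dvd_iff_zpow_eq_one.mpr ?_
    rw [zpow_sub, zpow_one, ← hπ, hk, mul_inv_cancel]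
  have h2 : orderOf (π cQ) ∣ 2 ^ m := orderOf_dvd_of_pow_eq_one (by
    rw [← map_pow, show cQ ^ 2 ^ m = 1 from Subtype.ext (by simpa using hpow), map_one])
  obtain ⟨e, -, he⟩ := (Nat.dvd_prime_pow Nat.prime_two).mp h2
  rw [he] at hd
  have hr1 : ((2 ^ e : ℕ) : ℤ) ∣ r - 1 := by
    rw [← ZMod.intCast_zmod_eq_zero_iff_dvd] at hd ⊢
    push_cast at hd ⊢
    rw [sub_eq_zero] at hd ⊢
    rcases Nat.eq_zero_or_pos e with rfl | he0
    · exact Subsingleton.elim (α := ZMod 1) _ _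
    obtain ⟨u, hu⟩ : IsUnit (r : ZMod (2 ^ e)) :=
      IsUnit.of_pow_eq_one hd (Nat.pos_of_ne_zero fun h => by simp [h] at hodd).ne'
    rw [← hu, Units.val_eq_one, ← orderOf_eq_one_iff]
    haveI : NeZero (2 ^ e) := ⟨by positivity⟩
    have h3 : orderOf u ∣ orderOf g := orderOf_dvd_of_pow_eq_one (Units.ext (by simpa [hu] using hd))
    have h4 : orderOf u ∣ 2 ^ (e - 1) := by
      have := orderOf_dvd_natCard u
      rwa [Nat.card_eq_fintype_card, ZMod.card_units_eq_totient, Nat.totient_prime_pow Nat.prime_two he0,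
        show (2 : ℕ) - 1 = 1 from rfl, mul_one] at this
    exact Nat.eq_one_of_dvd_coprimes (Nat.Coprime.pow_left _
      (Nat.prime_two.coprime_iff_not_dvd.mpr hodd.not_two_dvd_nat)) h4 h3
  have h1 : π (θ cQ) = π cQ := by
    have : π cQ ^ (r - 1) = 1 := orderOf_dvd_iff_zpow_eq_one.mp (he ▸ hr1)
    rw [hθc, show r = r - 1 + 1 by ring, zpow_add, this, zpow_one, one_mul]
  obtain ⟨w, hw, hwe⟩ : ∃ w : Q, w ∈ W ∧ θ cQ = cQ * w :=
    ⟨cQ⁻¹ * θ cQ, (QuotientGroup.eq_one_iff _).mp (show π _ = 1 by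
      rw [map_mul, map_inv, h1, inv_mul_cancel]), by rw [mul_inv_cancel_left]⟩
  have hwj : ∀ j : ℕ, (θ^[j]) cQ = cQ * w ^ j := fun j => by
    induction j with
    | zero => simp
    | succ j ih =>
      rw [Function.iterate_succ_apply', ih, map_mul, map_pow, hwe, hθV w hw, pow_succ', mul_assoc]
  have hcm : (w : G) ^ orderOf g = 1 := by
    have := (hwj (orderOf g)).symm.trans (hk cQ)
    simpa using congrArg Subtype.val (mul_eq_left.mp this)
  have hw1 : orderOf (w : G) = 1 :=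
    Nat.eq_one_of_dvd_coprimes (Nat.prime_two.coprime_iff_not_dvd.mpr hodd.not_two_dvd_nat)
      (orderOf_dvd_of_pow_eq_one (by rw [pow_two]; exact hV2 _ hw)) (orderOf_dvd_of_pow_eq_one hcm)
  have := congrArg Subtype.val hwe
  rw [Subgroup.coe_mul, orderOf_eq_one_iff.mp hw1, mul_one] at this
  exact this

/-- Groups with a modular Sylow 2-subgroup have a normal 2-complement. Let S, of order 2^(n+1) with n ≥ 3, be a Sylow 2-subgroup of a finite group G, and suppose S contains an element a of order 2^n and an involution b with b a b⁻¹ = a^(2^(n-1) + 1); so S is the non-abelian 2-group with a cyclic subgroup of index 2 that is neither dihedral, semidihedral nor generalized quaternion. Then G has a normal 2-complement. -/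
theorem result {G : Type*} [Group G] [Finite G]
    (S : Sylow 2 G) (n : ℕ) (hn : 3 ≤ n) (hS : Nat.card ↥(S : Subgroup G) = 2 ^ (n + 1))
    (a b : G) (ha : a ∈ (S : Subgroup G)) (hb : b ∈ (S : Subgroup G))
    (hao : orderOf a = 2 ^ n) (hbo : orderOf b = 2) (hrel : b * a * b⁻¹ = a ^ (2 ^ (n - 1) + 1)) :
    Cfsg.HasNormalPComplement 2 G := by
  classical
  haveI : Fact (Nat.Prime 2) := ⟨Nat.prime_two⟩
  obtain ⟨p, rfl⟩ : ∃ p, n = p + 3 := ⟨n - 3, by omega⟩
  rw [show p + 3 - 1 = p + 2 by omega] at hrel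
  set A := Subgroup.zpowers a with hA
  have hAS : A ≤ (S : Subgroup G) := Subgroup.zpowers_le.mpr ha
  have hAcard : Nat.card A = 2 ^ (p + 3) := by rw [hA, Nat.card_zpowers, hao]
  have hbb : b * b = 1 := by rw [← pow_two, ← hbo, pow_orderOf_eq_one]
  have hb1 : b ≠ 1 := by rintro rfl; simp at hbo
  have haz : ∀ i j : ℤ, a ^ i = a ^ j ↔ ((2 : ℤ) ^ (p + 3)) ∣ i - j := fun i j => by
    rw [← mul_inv_eq_one, ← zpow_sub, ← orderOf_dvd_iff_zpow_eq_one, hao]
    norm_num
  have haz1 : ∀ i : ℤ, a ^ i = 1 ↔ ((2 : ℤ) ^ (p + 3)) ∣ i := fun i => by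
    simpa using haz i 0
  have hbA : b ∉ A := by
    rintro hb'
    obtain ⟨i, hi⟩ := Subgroup.mem_zpowers_iff.mp hb'
    have : b * a * b⁻¹ = a := by rw [← hi]; group
    rw [this] at hrel
    have h2 : a ^ (2 ^ (p + 2)) = 1 := by
      rw [pow_succ] at hrel
      exact mul_eq_right.mp hrel.symm
    have := orderOf_dvd_of_pow_eq_one h2
    rw [hao, Nat.pow_dvd_pow_iff_le_right (by norm_num)] at this
    omega
  -- commutation
  have hcj : ∀ i : ℤ, b * a ^ i * b⁻¹ = a ^ (i * (2 ^ (p + 2) + 1)) := fun i => by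
    rw [← conj_zpow, hrel, ← zpow_natCast, ← zpow_mul]
    congr 1
    push_cast
    ring
  have hbinv : b⁻¹ = b := inv_eq_of_mul_eq_one_right hbb
  have hevenc : ∀ i : ℤ, Even i → b * a ^ i = a ^ i * b := fun i ⟨k, hk⟩ => by
    rw [← mul_inv_eq_iff_eq_mul, hcj, haz]
    exact ⟨k, by rw [hk]; ring⟩
  have hsq : ∀ i : ℤ, a ^ i * b * (a ^ i * b) = a ^ (i * (2 ^ (p + 2) + 2)) := fun i => by
    rw [show a ^ i * b * (a ^ i * b) = a ^ i * (b * a ^ i * b) by group,
      show b * a ^ i * b = b * a ^ i * b⁻¹ by rw [hbinv], hcj, ← zpow_add]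
    congr 1
    ring
  have helem : ∀ x ∈ (S : Subgroup G), ∃ i : ℤ, x = a ^ i ∨ x = a ^ i * b := by
    intro x hx
    let A' : Subgroup (S : Subgroup G) := A.subgroupOf S
    have hidx : A'.index = 2 := by
      have h := A'.card_mul_index
      rw [Nat.card_congr (Subgroup.subgroupOfEquivOfLe hAS).toEquiv, hAcard, hS, pow_succ _ (p + 3)] at h
      exact Nat.eq_of_mul_eq_mul_left (by positivity) h
    by_cases hxA : x ∈ A
    · obtain ⟨i, hi⟩ := Subgroup.mem_zpowers_iff.mp hxA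
      exact ⟨i, Or.inl hi.symm⟩
    · have h := (Subgroup.mul_mem_iff_of_index_two hidx (a := ⟨x, hx⟩) (b := ⟨b, hb⟩)).mpr
        (by simp [A', Subgroup.mem_subgroupOf, hxA, hbA])
      obtain ⟨i, hi⟩ := Subgroup.mem_zpowers_iff.mp h
      refine ⟨i, Or.inr ?_⟩
      rw [hi]
      show x = x * b * b
      rw [mul_assoc, hbb, mul_one]
  set z := a ^ ((2 : ℤ) ^ (p + 2)) with hz
  have hz1 : z ≠ 1 := fun h => by
    rw [hz, haz1, pow_succ _ (p + 2)] at h
    have h2 := Int.le_of_dvd (by positivity) h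
    have : (0 : ℤ) < 2 ^ (p + 2) := by positivity
    linarith
  have hzz : z * z = 1 := by
    rw [hz, ← zpow_add, haz1]
    exact ⟨1, by ring⟩
  have hzb : z * b = b * z := (hevenc _ ⟨2 ^ (p + 1), by ring⟩).symm
  -- the involutions
  have hinvol : ∀ x ∈ (S : Subgroup G), x * x = 1 → x = 1 ∨ x = z ∨ x = b ∨ x = z * b := by
    intro x hx h2
    have hhalf : ∀ i : ℤ, (2 : ℤ) ^ (p + 2) ∣ i → a ^ i = 1 ∨ a ^ i = z := by
      rintro i ⟨k, rfl⟩
      rcases Int.even_or_odd' k with ⟨j, rfl | rfl⟩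
      · left; rw [haz1]; exact ⟨j, by ring⟩
      · right; rw [hz, haz]; exact ⟨j, by ring⟩
    obtain ⟨i, rfl | rfl⟩ := helem x hx
    · rw [← zpow_add, haz1] at h2
      have : (2 : ℤ) ^ (p + 2) ∣ i := by
        obtain ⟨k, hk⟩ := h2
        exact ⟨k, by rw [show (2 : ℤ) ^ (p + 3) * k = 2 * (2 ^ (p + 2) * k) by ring] at hk; linarith⟩
      rcases hhalf i this with h | h <;> simp [h]
    · rw [hsq, haz1] at h2
      have : (2 : ℤ) ^ (p + 2) ∣ i := by
        have h3 : (2 : ℤ) ^ (p + 2) ∣ i * (2 ^ (p + 1) + 1) := by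
          obtain ⟨k, hk⟩ := h2
          exact ⟨k, by
            rw [show i * (2 ^ (p + 2) + 2) = 2 * (i * (2 ^ (p + 1) + 1)) by ring,
              show (2 : ℤ) ^ (p + 3) * k = 2 * (2 ^ (p + 2) * k) by ring] at hk
            linarith⟩
        refine IsCoprime.dvd_of_dvd_mul_right ?_ h3
        exact IsCoprime.pow_left ⟨-(2 : ℤ) ^ p, 1, by ring⟩
      rcases hhalf i this with h | h <;> simp [h]
  -- squares lie in `A`
  have hsqA : ∀ x ∈ (S : Subgroup G), x * x ∈ A := fun x hx => by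
    obtain ⟨i, rfl | rfl⟩ := helem x hx
    · exact mul_mem (zpow_mem (Subgroup.mem_zpowers a) i) (zpow_mem (Subgroup.mem_zpowers a) i)
    · rw [hsq]; exact zpow_mem (Subgroup.mem_zpowers a) _
  -- the four-group
  let V : Subgroup G :=
    { carrier := {x | x = 1 ∨ x = z ∨ x = b ∨ x = z * b}
      one_mem' := Or.inl rfl
      mul_mem' := by
        have e1 : b * z = z * b := hzb.symm
        have e2 : z * (z * b) = b := by rw [← mul_assoc, hzz, one_mul]
        have e3 : z * b * b = z := by rw [mul_assoc, hbb, mul_one]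
        have e4 : b * (z * b) = z := by rw [← mul_assoc, e1, e3]
        have e5 : z * b * z = b := by rw [mul_assoc, e1, e2]
        have e6 : z * b * (z * b) = 1 := by rw [← mul_assoc, e5, hbb]
        rintro x y (rfl | rfl | rfl | rfl) (rfl | rfl | rfl | rfl) <;>
          simp [hzz, hbb, e1, e2, e3, e4, e5, e6]
      inv_mem' := by
        have e6 : (z * b)⁻¹ = z * b := by
          rw [mul_inv_rev, hbinv, inv_eq_of_mul_eq_one_right hzz, hzb]
        rintro x (rfl | rfl | rfl | rfl)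
        · exact Or.inl inv_one
        · exact Or.inr (Or.inl (inv_eq_of_mul_eq_one_right hzz))
        · exact Or.inr (Or.inr (Or.inl hbinv))
        · exact Or.inr (Or.inr (Or.inr e6)) }
  have hVz : z ∈ V := Or.inr (Or.inl rfl)
  have hVb : b ∈ V := Or.inr (Or.inr (Or.inl rfl))
  have hVS : V ≤ (S : Subgroup G) := by
    rintro x (rfl | rfl | rfl | rfl)
    · exact one_mem _
    · exact hAS (zpow_mem (Subgroup.mem_zpowers a) _)
    · exact hb
    · exact mul_mem (hAS (zpow_mem (Subgroup.mem_zpowers a) _)) hb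
  have hV2 : ∀ v ∈ V, v * v = 1 := by
    rintro x (rfl | rfl | rfl | rfl)
    · simp
    · exact hzz
    · exact hbb
    · rw [mul_assoc, ← mul_assoc b, ← hzb, mul_assoc z b b, hbb, mul_one, hzz]
  have hVn : ∀ q ∈ (S : Subgroup G), ∀ v ∈ V, q * v * q⁻¹ ∈ V := fun q hq v hv =>
    hinvol _ (mul_mem (mul_mem hq (hVS hv)) (inv_mem hq)) (by
      rw [show q * v * q⁻¹ * (q * v * q⁻¹) = q * (v * v) * q⁻¹ by group, hV2 v hv]; simp)
  have hSV : (S : Subgroup G) ≤ Subgroup.normalizer (V : Set G) := fun q hq => by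
    rw [Subgroup.mem_normalizer_iff]
    refine fun v => ⟨hVn q hq v, fun h => ?_⟩
    have := hVn q⁻¹ (inv_mem hq) _ h
    simpa [mul_assoc] using this
  have hnotA : ∀ v ∈ V, v ≠ 1 → v ≠ z → v ∉ A := by
    rintro x (rfl | rfl | rfl | rfl) h1 h2 hxA
    · exact h1 rfl
    · exact h2 rfl
    · exact hbA hxA
    · exact hbA (by
        have := mul_mem (inv_mem (zpow_mem (Subgroup.mem_zpowers a) ((2 : ℤ) ^ (p + 2)))) hxA
        rwa [← hz, inv_mul_cancel_left] at this)
  -- an element normalizing the four-group fixes `z`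
  have hfixz : ∀ g ∈ Subgroup.normalizer (V : Set G), g * z * g⁻¹ = z := by
    intro g hg
    set N := Subgroup.normalizer (V : Set G)
    set C := Subgroup.centralizer (V : Set G) with hC
    have hCN : C ≤ N := Subgroup.centralizer_le_normalizer _
    obtain ⟨P, hP⟩ := IsPGroup.exists_le_sylow (P := ((S : Subgroup G) ⊓ C).subgroupOf C)
      ((S.2.to_le inf_le_left).of_equiv (Subgroup.subgroupOfEquivOfLe inf_le_right).symm)
    let P' : Subgroup G := (P : Subgroup C).map C.subtype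
    have hP'C : P' ≤ C := Subgroup.map_subtype_le _
    have hle : Nat.card P' ≤ Nat.card ((S : Subgroup G) ⊓ C : Subgroup G) := by
      obtain ⟨Q, hQ⟩ := IsPGroup.exists_le_sylow (P := P'.subgroupOf N)
        ((P.2.map _).of_equiv (Subgroup.subgroupOfEquivOfLe (hP'C.trans hCN)).symm)
      obtain ⟨m, hm⟩ := MulAction.exists_smul_eq N Q (S.subtype hSV)
      refine le_trans (le_of_eq (Subgroup.card_map_of_injective (K := P')
        (f := (MulAut.conj (m : G)).toMonoidHom) (MulAut.conj (m : G)).injective).symm)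
        (Subgroup.card_le_of_le ?_)
      rintro _ ⟨x, hx, rfl⟩
      refine ⟨?_, ?_⟩
      · have h : MulAut.conj m ⟨x, hCN (hP'C hx)⟩ ∈ (S.subtype hSV : Sylow 2 N) := by
          rw [← hm]
          exact ⟨_, hQ (show (⟨x, hCN (hP'C hx)⟩ : N) ∈ P'.subgroupOf N from hx), rfl⟩
        exact h
      · have hCn : ((m : G) * x * (m : G)⁻¹) ∈ C := by
          rw [hC, Subgroup.mem_centralizer_iff]
          intro v hv
          have hv' : (m : G)⁻¹ * v * (m : G) ∈ V := by
            have := (Subgroup.mem_normalizer_iff.mp (inv_mem m.2) v).mp hv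
            simpa using this
          have := Subgroup.mem_centralizer_iff.mp (hP'C hx) _ hv'
          calc v * ((m : G) * x * (m : G)⁻¹) = (m : G) * ((m : G)⁻¹ * v * m * x) * (m : G)⁻¹ := by group
            _ = (m : G) * (x * ((m : G)⁻¹ * v * m)) * (m : G)⁻¹ := by rw [this]
            _ = (m : G) * x * (m : G)⁻¹ * v := by group
        exact hCn
    have hPeq : (S : Subgroup G) ⊓ C = P' := Subgroup.eq_of_le_of_card_ge (fun x hx =>
      ⟨⟨x, hx.2⟩, hP (show (⟨x, hx.2⟩ : C) ∈ _ from hx), rfl⟩) hle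
    set x₀ := a ^ ((2 : ℤ) ^ (p + 1)) with hx0
    have hx0z : x₀ * x₀ = z := by rw [hx0, hz, ← zpow_add]; congr 1; ring
    have hx0A : x₀ ∈ A := zpow_mem (Subgroup.mem_zpowers a) _
    have hx0C : x₀ ∈ C := by
      rw [hC, Subgroup.mem_centralizer_iff]
      have e1 : b * x₀ = x₀ * b := hevenc _ ⟨2 ^ p, by ring⟩
      have e2 : z * x₀ = x₀ * z := by rw [hz, hx0, ← zpow_add, ← zpow_add, add_comm]
      rintro v (rfl | rfl | rfl | rfl)
      · simp
      · exact e2
      · exact e1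
      · rw [mul_assoc, e1, ← mul_assoc, e2, mul_assoc]
    set y := g * x₀ * g⁻¹ with hy
    have hyC : y ∈ C := by
      rw [hC, Subgroup.mem_centralizer_iff]
      intro v hv
      have hv' : g⁻¹ * v * g ∈ V := by
        have := (Subgroup.mem_normalizer_iff.mp (inv_mem hg) v).mp hv
        simpa using this
      calc v * y = g * (g⁻¹ * v * g * x₀) * g⁻¹ := by rw [hy]; group
        _ = g * (x₀ * (g⁻¹ * v * g)) * g⁻¹ := by rw [Subgroup.mem_centralizer_iff.mp hx0C _ hv']
        _ = y * v := by rw [hy]; group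
    have hy2 : IsPGroup 2 (Subgroup.zpowers (⟨y, hyC⟩ : C)) := by
      refine (IsPGroup.iff_card).mpr ?_
      rw [Nat.card_zpowers, ← Subgroup.orderOf_coe]
      obtain ⟨k, -, hk⟩ := (Nat.dvd_prime_pow Nat.prime_two).mp
        ((orderOf_dvd_natCard (⟨x₀, hAS hx0A⟩ : (S : Subgroup G))).trans hS.dvd)
      refine ⟨k, ?_⟩
      rw [← hk, Subgroup.orderOf_mk]
      exact (SemiconjBy.orderOf_eq g (x := x₀) (y := y) (by simp [SemiconjBy, hy, mul_assoc])).symm
    obtain ⟨P₂, hP₂⟩ := hy2.exists_le_sylow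
    obtain ⟨c, hc⟩ := MulAction.exists_smul_eq C P₂ P
    have hmem : (c : G) * y * (c : G)⁻¹ ∈ (S : Subgroup G) ⊓ C := by
      rw [hPeq]
      refine ⟨MulAut.conj c ⟨y, hyC⟩, ?_, rfl⟩
      rw [← hc]
      exact ⟨_, hP₂ (Subgroup.mem_zpowers _), rfl⟩
    have hyy : (c : G) * y * (c : G)⁻¹ * ((c : G) * y * (c : G)⁻¹) = g * z * g⁻¹ := by
      have hcz : (c : G) * (g * z * g⁻¹) = g * z * g⁻¹ * c :=
        (Subgroup.mem_centralizer_iff.mp c.2 _ ((Subgroup.mem_normalizer_iff.mp hg z).mp hVz)).symm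
      calc (c : G) * y * (c : G)⁻¹ * ((c : G) * y * (c : G)⁻¹)
          = (c : G) * (g * (x₀ * x₀) * g⁻¹) * (c : G)⁻¹ := by rw [hy]; group
        _ = g * z * g⁻¹ := by rw [hx0z, hcz, mul_inv_cancel_right]
    have hmA := hsqA _ hmem.1
    rw [hyy] at hmA
    by_contra hne
    exact hnotA _ ((Subgroup.mem_normalizer_iff.mp hg z).mp hVz)
      (fun h => hz1 (by simpa using h)) hne hmA
  refine CfsgLib.Transfer.hasNormalPComplement_of_pAutomizers
    (CfsgLib.Transfer.pAutomizers_of_sylow S fun Q hQS g hg hgc => ?_)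
  have hodd : Odd (orderOf g) := Nat.odd_iff.mpr (Nat.two_dvd_ne_zero.mp fun h =>
    (Nat.prime_two.coprime_iff_not_dvd.mp hgc.symm) h)
  have hgQ : ∀ q ∈ Q, g * q * g⁻¹ ∈ Q := fun q hq => (Subgroup.mem_normalizer_iff.mp hg q).mp hq
  have hconj : ∀ {x y : G}, x * x = 1 → g * x * g⁻¹ = y → g * y * g⁻¹ = x → g * x * g⁻¹ = x := by
    intro x y hx h1 h2
    have hsq : Commute (g * g) x := by
      show g * g * x = x * (g * g)
      refine mul_inv_eq_iff_eq_mul.mp ?_
      rw [show g * g * x * (g * g)⁻¹ = g * (g * x * g⁻¹) * g⁻¹ by group, h1, h2]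
    obtain ⟨k, hk⟩ := hodd
    have hgk : g = (g * g) ^ (k + 1) := by
      rw [← pow_two, ← pow_mul, show 2 * (k + 1) = orderOf g + 1 by omega, pow_add, pow_orderOf_eq_one,
        pow_one, one_mul]
    have := (hsq.pow_left (k + 1)).eq
    rw [← hgk] at this
    rw [this, mul_inv_cancel_right]
  -- `g` fixes the involutions in `Q`
  have hfix : ∀ v ∈ V, v ∈ Q → g * v * g⁻¹ = v := by
    intro v hv hvQ
    by_cases hv1 : v = 1
    · simp [hv1]
    have himg : ∀ x ∈ V, x ∈ Q → g * x * g⁻¹ ∈ V := fun x hx hxQ =>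
      hinvol _ (hQS (hgQ x hxQ)) (by
        rw [show g * x * g⁻¹ * (g * x * g⁻¹) = g * (x * x) * g⁻¹ by group, hV2 x hx]; simp)
    by_cases hzQ : z ∈ Q ∧ b ∈ Q
    · have hVQ : V ≤ Q := by
        rintro x (rfl | rfl | rfl | rfl)
        exacts [one_mem _, hzQ.1, hzQ.2, mul_mem hzQ.1 hzQ.2]
      have hgV : g ∈ Subgroup.normalizer (V : Set G) :=
        Subgroup.mem_normalizer_fintype fun x hx => himg x hx (hVQ hx)
      have h1 := hfixz g hgV
      rcases hv with e | e | e | e <;> rw [e]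
      · simp
      · exact h1
      · rcases himg b hVb hzQ.2 with h | h | h | h
        · exact absurd h (fun h' => hb1 (by simpa using h'))
        · exact absurd (h.trans h1.symm) fun h' => hbA (by
            rw [mul_left_cancel (mul_right_cancel h'), hz]; exact zpow_mem (Subgroup.mem_zpowers a) _)
        · exact h
        · refine hconj hbb h ?_
          rw [show g * (z * b) * g⁻¹ = g * z * g⁻¹ * (g * b * g⁻¹) by group, h1, h, ← mul_assoc, hzz,
            one_mul]
      · have hb' : g * b * g⁻¹ = b := by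
          rcases himg b hVb hzQ.2 with h | h | h | h
          · exact absurd h (fun h' => hb1 (by simpa using h'))
          · exact absurd (h.trans h1.symm) fun h' => hbA (by
              rw [mul_left_cancel (mul_right_cancel h'), hz]; exact zpow_mem (Subgroup.mem_zpowers a) _)
          · exact h
          · refine hconj hbb h ?_
            rw [show g * (z * b) * g⁻¹ = g * z * g⁻¹ * (g * b * g⁻¹) by group, h1, h, ← mul_assoc, hzz,
              one_mul]
        rw [show g * (z * b) * g⁻¹ = g * z * g⁻¹ * (g * b * g⁻¹) by group, h1, hb']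
    · by_contra hne
      have hv' := himg v hv hvQ
      have hvQ' := hgQ v hvQ
      have hprod : v * (g * v * g⁻¹) ∈ Q := mul_mem hvQ hvQ'
      have hv1' : g * v * g⁻¹ ≠ 1 := fun h => hv1 (by simpa using h)
      generalize g * v * g⁻¹ = w at hv' hvQ' hne hprod hv1'
      apply hzQ
      have e1 : b * z = z * b := hzb.symm
      have e2 : z * (z * b) = b := by rw [← mul_assoc, hzz, one_mul]
      have e3 : z * b * b = z := by rw [mul_assoc, hbb, mul_one]
      have e4 : b * (z * b) = z := by rw [← mul_assoc, e1, e3]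
      have e5 : z * b * z = b := by rw [mul_assoc, e1, e2]
      have hzbQ : ∀ {x y : G}, x ∈ Q → y = x → y ∈ Q := fun h e => e ▸ h
      rcases hv with rfl | rfl | rfl | rfl <;> rcases hv' with rfl | rfl | rfl | rfl <;>
        first
        | exact absurd rfl hv1
        | exact absurd rfl hv1'
        | exact absurd rfl hne
        | exact ⟨hvQ, hvQ'⟩
        | exact ⟨hvQ', hvQ⟩
        | exact ⟨hvQ, e2 ▸ hprod⟩
        | exact ⟨hvQ', e5 ▸ hprod⟩
        | exact ⟨e4 ▸ hprod, hvQ⟩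
        | exact ⟨e3 ▸ hprod, hvQ'⟩
  -- a generator of `Q` modulo the involutions
  obtain ⟨c, hcQ, hgen⟩ : ∃ c ∈ Q, ∀ q ∈ Q, ∃ i : ℤ, ∃ v ∈ V, v ∈ Q ∧ q = c ^ i * v := by
    let W : Subgroup (S : Subgroup G) := V.subgroupOf S
    haveI : W.Normal := ⟨fun v hv q => hVn q q.2 _ hv⟩
    let aS : (S : Subgroup G) := ⟨a, ha⟩
    let π := QuotientGroup.mk' W
    haveI : IsCyclic ((S : Subgroup G) ⧸ W) := ⟨π aS, fun x => by
      obtain ⟨⟨s, hs⟩, rfl⟩ := QuotientGroup.mk'_surjective W x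
      obtain ⟨i, h | h⟩ := helem s hs <;> refine Subgroup.mem_zpowers_iff.mpr ⟨i, ?_⟩ <;>
        rw [← map_zpow] <;> refine (QuotientGroup.eq).mpr ?_ <;> show (aS ^ i)⁻¹ * _ ∈ W <;>
        show (((aS ^ i)⁻¹ * ⟨s, hs⟩ : (S : Subgroup G)) : G) ∈ V
      · simp [aS, h]
      · simp [aS, h]; exact hVb⟩
    obtain ⟨⟨d, ⟨⟨c, hcS⟩, hcQ', rfl⟩⟩, hd⟩ :=
      IsCyclic.exists_generator (α := ((Q.subgroupOf (S : Subgroup G)).map π : Subgroup _))
    refine ⟨c, hcQ', fun q hq => ?_⟩
    obtain ⟨i, hi⟩ := Subgroup.mem_zpowers_iff.mp (hd ⟨π ⟨q, hQS hq⟩, _, hq, rfl⟩)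
    refine ⟨i, (c ^ i)⁻¹ * q, ?_, mul_mem (inv_mem (zpow_mem hcQ' i)) hq, by group⟩
    have hi' : π (⟨c, hcS⟩ ^ i) = π ⟨q, hQS hq⟩ := by
      rw [map_zpow]; exact congrArg Subtype.val hi
    have := (QuotientGroup.eq).mp hi'
    exact this
  have hc : g * c * g⁻¹ = c := commute_of_cyclic_layer (m := p + 3 + 1) hg hodd hcQ V
    (fun q hq => hVn q (hQS hq)) hV2 hfix hgen (by
      have := pow_card_eq_one' (x := (⟨c, hQS hcQ⟩ : (S : Subgroup G)))
      rw [hS] at this
      simpa using congrArg Subtype.val this)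
  rw [Subgroup.mem_centralizer_iff]
  intro q hq
  obtain ⟨i, v, hv, hvQ, rfl⟩ := hgen q hq
  refine (mul_inv_eq_iff_eq_mul.mp ?_).symm
  rw [show g * (c ^ i * v) * g⁻¹ = (g * c * g⁻¹) ^ i * (g * v * g⁻¹) by rw [conj_zpow]; group, hc,
    hfix v hv hvQ]
end Cfsg.Agent.S3178
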