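import Cfsg.Statements.S3180
import Mathlib

set_option autoImplicit false
open Cfsg

namespace Cfsg.Agent.S3180

/-- Let P be a Sylow p-subgroup of a finite group J and P₁ a subgroup of P that is weakly closed in P with respect to J. If J acts on a set and two points, each fixed by every element of P₁, lie in one J-orbit, then they lie in one orbit of the normalizer of P₁ in J. -/
theorem result {J : Type*} [Group J] [Finite J]
    {p : ℕ} [Fact p.Prime] (P : Sylow p J) (P₁ : Subgroup J) (hW : Cfsg.IsWeaklyClosed P₁ (P : Subgroup J))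
    {Ω : Type*} [MulAction J Ω] (x y : Ω) (hx : ∀ g ∈ P₁, g • x = x) (hy : ∀ g ∈ P₁, g • y = y)
    (hc : ∃ g : J, g • x = y) :
    ∃ g ∈ Subgroup.normalizer (P₁ : Set J), g • x = y := by
  classical
  obtain ⟨g, rfl⟩ := hc
  let S := MulAction.stabilizer J (g • x)
  have hp1 : IsPGroup p P₁ := P.isPGroup'.to_le hW.1
  let A : Subgroup J := P₁.map (MulAut.conj g).toMonoidHom
  have hA : IsPGroup p A := hp1.map _
  have hAS : A ≤ S := by
    rintro _ ⟨u, hu, rfl⟩
    show (g * u * g⁻¹) • g • x = g • x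
    rw [mul_smul, inv_smul_smul, mul_smul, hx u hu]
  have hPS : P₁ ≤ S := fun u hu => hy u hu
  obtain ⟨Q, hQ⟩ := (hp1.of_equiv (Subgroup.subgroupOfEquivOfLe hPS).symm).exists_le_sylow
  obtain ⟨Q', hQ'⟩ := (hA.of_equiv (Subgroup.subgroupOfEquivOfLe hAS).symm).exists_le_sylow
  obtain ⟨h, hh⟩ := MulAction.exists_smul_eq S Q' Q
  obtain ⟨R, hR⟩ := (Q.isPGroup'.map S.subtype).exists_le_sylow
  obtain ⟨c, hcR⟩ := MulAction.exists_smul_eq J P R
  have hconj : ∀ u : J, u ∈ (R : Subgroup J) → c⁻¹ * u * c ∈ (P : Subgroup J) := by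
    intro u hu
    rw [← hcR, Sylow.coe_subgroup_smul, Subgroup.mem_pointwise_smul_iff_inv_smul_mem] at hu
    simpa using hu
  have hsub1 : ∀ u ∈ P₁, u ∈ (R : Subgroup J) := fun u hu =>
    hR ⟨⟨u, hPS hu⟩, hQ hu, rfl⟩
  have hsub2 : ∀ u ∈ P₁, ((h : J) * g) * u * ((h : J) * g)⁻¹ ∈ (R : Subgroup J) := by
    intro u hu
    have hm : (⟨g * u * g⁻¹, hAS ⟨u, hu, rfl⟩⟩ : S) ∈ (Q' : Subgroup S) := hQ' ⟨u, hu, rfl⟩
    have hm' : h * (⟨g * u * g⁻¹, hAS ⟨u, hu, rfl⟩⟩ : S) * h⁻¹ ∈ (Q : Subgroup S) := by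
      rw [← hh, Sylow.coe_subgroup_smul, Subgroup.mem_pointwise_smul_iff_inv_smul_mem]
      simpa [mul_assoc] using hm
    have := hR ⟨_, hm', rfl⟩
    simpa [mul_assoc] using this
  have key : ∀ a : J, (∀ u ∈ P₁, a * u * a⁻¹ ∈ (P : Subgroup J)) →
      P₁.map (MulAut.conj a).toMonoidHom = P₁ := fun a ha =>
    hW.2 a (by rintro _ ⟨u, hu, rfl⟩; exact ha u hu)
  have k1 := key c⁻¹ (fun u hu => by simpa using hconj u (hsub1 u hu))
  have k2 := key (c⁻¹ * ((h : J) * g)) (fun u hu => by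
    simpa [mul_assoc] using hconj _ (hsub2 u hu))
  have n1 : c⁻¹ ∈ Subgroup.normalizer (P₁ : Set J) := by
    rw [Subgroup.mem_normalizer_iff]
    intro u
    constructor
    · intro hu
      exact k1 ▸ (Subgroup.mem_map.2 ⟨u, hu, rfl⟩)
    · intro hu
      rw [← k1] at hu
      obtain ⟨w, hw, hwu⟩ := hu
      simp only [MulEquiv.coe_toMonoidHom, MulAut.conj_apply, mul_left_inj, mul_right_inj] at hwu
      exact hwu ▸ hw
  have n2 : c⁻¹ * ((h : J) * g) ∈ Subgroup.normalizer (P₁ : Set J) := by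
    rw [Subgroup.mem_normalizer_iff]
    intro u
    constructor
    · intro hu
      exact k2 ▸ (Subgroup.mem_map.2 ⟨u, hu, rfl⟩)
    · intro hu
      rw [← k2] at hu
      obtain ⟨w, hw, hwu⟩ := hu
      simp only [MulEquiv.coe_toMonoidHom, MulAut.conj_apply, mul_left_inj, mul_right_inj] at hwu
      exact hwu ▸ hw
  refine ⟨(h : J) * g, ?_, ?_⟩
  · simpa using mul_mem (inv_mem n1) n2
  · rw [mul_smul]; exact h.2

end Cfsg.Agent.S3180
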