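import Cfsg.Statements.S3183


set_option autoImplicit false
open Cfsg

namespace Cfsg.Agent.S3183

/-- Let G be a finite group in which the intersection of any two distinct Sylow 2-subgroups is contained in the centre of some Sylow 2-subgroup, and let S be a Sylow 2-subgroup. Then for every x in S the centralizer of x in S is a Sylow 2-subgroup of the centralizer of x in G (no 2-subgroup centralizing x is larger), and for every other Sylow 2-subgroup T the intersection S ∩ T lies in both the centre of S and the centre of T. -/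
theorem result {G : Type*} [Group G] [Finite G]
    (hCI : ∀ S T : Sylow 2 G, S ≠ T → ∃ U : Sylow 2 G,
      (S : Subgroup G) ⊓ (T : Subgroup G) ≤ (Subgroup.center ↥(U : Subgroup G)).map (U : Subgroup G).subtype)
    (S : Sylow 2 G) :
    (∀ x ∈ (S : Subgroup G), ∀ P : Subgroup G, IsPGroup 2 ↥P → P ≤ Subgroup.centralizer ({x} : Set G) →
        Nat.card ↥P ≤ Nat.card ↥((S : Subgroup G) ⊓ Subgroup.centralizer ({x} : Set G))) ∧
    (∀ T : Sylow 2 G, T ≠ S →
        (S : Subgroup G) ⊓ (T : Subgroup G) ≤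
          (Subgroup.center ↥(S : Subgroup G)).map (S : Subgroup G).subtype ⊓
            (Subgroup.center ↥(T : Subgroup G)).map (T : Subgroup G).subtype) := by
  classical
  haveI := Fact.mk Nat.prime_two
  have hzmem : ∀ (U : Sylow 2 G) (x : G),
      x ∈ (Subgroup.center ↥(U : Subgroup G)).map (U : Subgroup G).subtype ↔
        x ∈ (U : Subgroup G) ∧ ∀ a ∈ (U : Subgroup G), a * x = x * a := by
    intro U x
    constructor
    · rintro ⟨y, hy, rfl⟩
      exact ⟨y.2, fun a ha => congrArg Subtype.val (Subgroup.mem_center_iff.mp hy ⟨a, ha⟩)⟩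
    · rintro ⟨hx, h⟩
      exact ⟨⟨x, hx⟩, Subgroup.mem_center_iff.mpr fun a => Subtype.ext (h a a.2), rfl⟩
  -- a central element of some Sylow subgroup is central in each one containing it
  have key : ∀ (U W : Sylow 2 G) (x : G), x ∈ (W : Subgroup G) →
      x ∈ (Subgroup.center ↥(U : Subgroup G)).map (U : Subgroup G).subtype →
      x ∈ (Subgroup.center ↥(W : Subgroup G)).map (W : Subgroup G).subtype := by
    intro U W x hxW hxU
    obtain ⟨hxU', hUx⟩ := (hzmem U x).mp hxU
    set C := Subgroup.centralizer ({x} : Set G)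
    have hUC : (U : Subgroup G) ≤ C := fun a ha => Subgroup.mem_centralizer_singleton_iff.mpr (hUx a ha)
    -- a Sylow subgroup centralizing `x` and containing `C_W(x)`
    have hp : IsPGroup 2 ↥(((W : Subgroup G) ⊓ C).subgroupOf C) :=
      (W.2.to_le inf_le_left).comap_of_injective C.subtype C.subtype_injective
    obtain ⟨Q, hQ⟩ := hp.exists_le_sylow
    obtain ⟨c, hc⟩ := MulAction.exists_smul_eq C (U.subtype hUC) Q
    set U' := (c : G) • U
    have hU'C : ∀ a ∈ (U' : Subgroup G), a * x = x * a := by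
      intro a ha
      obtain ⟨b, hb, rfl⟩ := ha
      show (c : G) * b * (c : G)⁻¹ * x = x * ((c : G) * b * (c : G)⁻¹)
      exact (Subgroup.mem_centralizer_singleton_iff.mp (mul_mem (mul_mem c.2 (hUC hb)) (inv_mem c.2)) :)
    have hWU : (W : Subgroup G) ⊓ C ≤ (U' : Subgroup G) := by
      intro a ha
      have h1 : (⟨a, ha.2⟩ : C) ∈ Q := hQ ha
      rw [← hc] at h1
      obtain ⟨b, hb, hb'⟩ := h1
      exact ⟨(b : G), hb, congrArg Subtype.val hb'⟩
    by_cases hWU' : U' = W
    · exact (hzmem W x).mpr ⟨hxW, fun a ha => hU'C a (hWU' ▸ ha)⟩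
    refine (hzmem W x).mpr ⟨hxW, fun a ha => ?_⟩
    by_contra hax
    set D := (W : Subgroup G) ⊓ (U' : Subgroup G)
    have hDC : D = (W : Subgroup G) ⊓ C := le_antisymm
      (fun b hb => Subgroup.mem_inf.mpr ⟨hb.1, Subgroup.mem_centralizer_singleton_iff.mpr (hU'C b hb.2)⟩)
      (le_inf inf_le_left hWU)
    obtain ⟨V, hV⟩ := hCI W U' (Ne.symm hWU')
    have hVD : ∀ v ∈ (V : Subgroup G), ∀ b ∈ D, v * b = b * v := fun v hv b hb =>
      ((hzmem V b).mp (hV hb)).2 v hv
    have hVN : (V : Subgroup G) ≤ Subgroup.normalizer (D : Set G) := fun v hv => by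
      rw [Subgroup.mem_normalizer_iff]
      intro b
      refine ⟨fun hb => ?_, fun hb => ?_⟩
      · rwa [hVD v hv b hb, mul_inv_cancel_right]
      · have h1 := hVD v hv _ hb
        have : v * b * v⁻¹ = b := by
          calc v * b * v⁻¹ = v⁻¹ * (v * (v * b * v⁻¹)) := by group
            _ = v⁻¹ * (v * b * v⁻¹ * v) := by rw [h1]
            _ = b := by group
        rwa [this] at hb
    haveI : Group.IsNilpotent (W : Subgroup G) := W.2.isNilpotent
    have hlt : D.subgroupOf (W : Subgroup G) < ⊤ := lt_top_iff_ne_top.mpr fun h => hax (by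
      have : a ∈ D := Subgroup.subgroupOf_eq_top.mp h ha
      exact hU'C a this.2)
    obtain ⟨⟨s, hsW⟩, hsN, hsD⟩ := SetLike.exists_of_lt (Group.normalizerCondition_of_isNilpotent _ hlt)
    rw [Subgroup.mem_normalizer_iff] at hsN
    have hsN' : s ∈ Subgroup.normalizer (D : Set G) := by
      rw [Subgroup.mem_normalizer_iff]
      intro b
      refine ⟨fun hb => (hsN ⟨b, hb.1⟩).mp hb, fun hb => ?_⟩
      have hbW : b ∈ (W : Subgroup G) := by
        have := mul_mem (mul_mem (inv_mem hsW) hb.1) hsW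
        simpa [mul_assoc] using this
      exact (hsN ⟨b, hbW⟩).mpr hb
    set N := Subgroup.normalizer (D : Set G)
    obtain ⟨R, hR⟩ := ((W.2.to_le (Subgroup.zpowers_le.mpr hsW)).comap_of_injective N.subtype
      N.subtype_injective).exists_le_sylow
    obtain ⟨m, hm⟩ := MulAction.exists_smul_eq N (V.subtype hVN) R
    have h1 : (⟨s, hsN'⟩ : N) ∈ R := hR (show s ∈ Subgroup.zpowers s from Subgroup.mem_zpowers s)
    rw [← hm] at h1
    obtain ⟨v, hv, hv'⟩ := h1
    have hvs : (m : G) * v * (m : G)⁻¹ = s := congrArg Subtype.val hv'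
    refine hsD (show s ∈ D from hDC ▸ Subgroup.mem_inf.mpr ⟨hsW, Subgroup.mem_centralizer_singleton_iff.mpr ?_⟩)
    have hxD : x ∈ D := hDC ▸ Subgroup.mem_inf.mpr ⟨hxW, Subgroup.mem_centralizer_singleton_iff.mpr rfl⟩
    have hxm : (m : G)⁻¹ * x * m ∈ D := by
      have := (Subgroup.mem_normalizer_iff.mp (inv_mem m.2) x).mp hxD
      rwa [inv_inv] at this
    have h2 := hVD v hv _ hxm
    rw [← hvs]
    calc (m : G) * v * (m : G)⁻¹ * x = m * ((v : G) * ((m : G)⁻¹ * x * m)) * (m : G)⁻¹ := by group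
      _ = m * ((m : G)⁻¹ * x * m * v) * (m : G)⁻¹ := by rw [h2]
      _ = x * ((m : G) * v * (m : G)⁻¹) := by group
  refine ⟨fun x hx P hP hPC => ?_, fun T hT a ha => ?_⟩
  · set C := Subgroup.centralizer ({x} : Set G)
    have hPx : IsPGroup 2 ↥(P ⊔ Subgroup.zpowers x) :=
      hP.to_sup_of_normal_right' (S.2.to_le (Subgroup.zpowers_le.mpr hx)) fun p hp => by
        rw [Subgroup.mem_normalizer_iff]
        intro b
        have hcomm : ∀ c ∈ Subgroup.zpowers x, p * c * p⁻¹ = c := fun c hc => by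
          obtain ⟨k, rfl⟩ := hc
          exact mul_inv_eq_iff_eq_mul.mpr
            ((show Commute p x from Subgroup.mem_centralizer_singleton_iff.mp (hPC hp)).zpow_right k).eq
        refine ⟨fun hb => by rwa [hcomm b hb], fun hb => ?_⟩
        have : b = p * b * p⁻¹ := mul_left_cancel (a := p) (mul_right_cancel (hcomm _ hb).symm)
        rwa [this]
    obtain ⟨T, hT⟩ := hPx.exists_le_sylow
    by_cases hTS : T = S
    · exact Subgroup.card_le_of_le (le_inf (hTS ▸ le_sup_left.trans hT) hPC)
    · obtain ⟨U, hU⟩ := hCI S T (Ne.symm hTS)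
      have hxc := key U S x hx (hU (Subgroup.mem_inf.mpr ⟨hx, hT (Subgroup.mem_sup_right (Subgroup.mem_zpowers x))⟩))
      have hSC : (S : Subgroup G) ≤ C := fun s hs =>
        Subgroup.mem_centralizer_singleton_iff.mpr (((hzmem S x).mp hxc).2 s hs)
      rw [inf_eq_left.mpr hSC]
      calc Nat.card P ≤ Nat.card (T : Subgroup G) := Subgroup.card_le_of_le (le_sup_left.trans hT)
        _ = Nat.card (S : Subgroup G) := by rw [T.card_eq_multiplicity, S.card_eq_multiplicity]
  · obtain ⟨U, hU⟩ := hCI S T (Ne.symm hT)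
    exact Subgroup.mem_inf.mpr ⟨key U S a ha.1 (hU ha), key U T a ha.2 (hU ha)⟩
end Cfsg.Agent.S3183
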