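import Cfsg.Statements.S3184
import Cfsg.Agent.Lib.ZStar.Main
import Cfsg.Agent.Lib.Invol.Dihedral

set_option autoImplicit false
open Cfsg
open scoped Pointwise

namespace Cfsg.Agent.S3184

/-- Let G be a finite group in which the intersection of any two distinct Sylow 2-subgroups is contained in the centre of some Sylow 2-subgroup, and let S be a Sylow 2-subgroup. If C is a nontrivial cyclic characteristic subgroup of S, then the involution of C is central modulo the largest normal subgroup of odd order of G: each of its conjugates has the same image in G/O(G). -/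
theorem result {G : Type*} [Group G] [Finite G]
    (hCI : ∀ S T : Sylow 2 G, S ≠ T → ∃ U : Sylow 2 G,
      (S : Subgroup G) ⊓ (T : Subgroup G) ≤ (Subgroup.center ↥(U : Subgroup G)).map (U : Subgroup G).subtype)
    (S : Sylow 2 G) (C : Subgroup ↥(S : Subgroup G)) (hC : C ≠ ⊥) (hCc : IsCyclic ↥C) (hCh : C.Characteristic)
    (c : ↥(S : Subgroup G)) (hc : c ∈ C) (hc2 : orderOf c = 2) :
    ∀ g : G, (QuotientGroup.mk (s := Cfsg.oddCore G) (g * (c : G) * g⁻¹)) =
      QuotientGroup.mk (s := Cfsg.oddCore G) (c : G) := by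
  classical
  obtain ⟨z, hzdef⟩ : ∃ z : G, z = (c : G) := ⟨_, rfl⟩
  rw [← hzdef]
  have hz : orderOf z = 2 := by rw [hzdef, Subgroup.orderOf_coe, hc2]
  have huniqC : ∀ x ∈ C, orderOf x = 2 → x = c := by
    intro x hx hx2
    obtain ⟨⟨a, ha⟩, hgen⟩ := hCc.exists_generator
    obtain ⟨i, hi⟩ := Subgroup.mem_zpowers_iff.mp (hgen ⟨x, hx⟩)
    obtain ⟨j, hj⟩ := Subgroup.mem_zpowers_iff.mp (hgen ⟨c, hc⟩)
    have hi' : a ^ i = x := congrArg Subtype.val hi
    have hj' : a ^ j = c := congrArg Subtype.val hj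
    have hpow : ∀ k : ℤ, orderOf (a ^ k) = 2 → ∃ m : ℕ, orderOf a = 2 * m ∧ a ^ k = a ^ m := by
      intro k hk
      have h0 : (a ^ k) ^ 2 = 1 := orderOf_dvd_iff_pow_eq_one.mp (dvd_of_eq hk)
      have h1 : (orderOf a : ℤ) ∣ 2 * k := by
        rw [orderOf_dvd_iff_zpow_eq_one, mul_comm, zpow_mul, zpow_two, ← pow_two]; exact h0
      obtain ⟨l, hl⟩ := h1
      rcases Int.even_or_odd l with ⟨l', rfl⟩ | ⟨l', rfl⟩
      · have : k = (orderOf a : ℤ) * l' := by linarith
        rw [this, zpow_mul, zpow_natCast, pow_orderOf_eq_one, one_zpow, orderOf_one] at hk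
        omega
      · have h2 : (2 : ℤ) ∣ (orderOf a : ℤ) :=
          ⟨k - (orderOf a : ℤ) * l', by linarith⟩
        obtain ⟨m, hm⟩ := Int.natCast_dvd_natCast.mp (by exact_mod_cast h2 : ((2 : ℕ) : ℤ) ∣ _)
        refine ⟨m, hm, ?_⟩
        have hm' : (orderOf a : ℤ) = 2 * m := by exact_mod_cast hm
        have : k = (orderOf a : ℤ) * l' + m := by rw [hm'] at hl ⊢; linarith
        rw [this, zpow_add, zpow_mul, zpow_natCast, pow_orderOf_eq_one, one_zpow, one_mul,
          zpow_natCast]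
    obtain ⟨m, hm, e⟩ := hpow i (hi'.symm ▸ hx2)
    obtain ⟨m', hm', e'⟩ := hpow j (hj'.symm ▸ hc2)
    rw [← hi', ← hj', e, e', show m = m' by omega]
  have hN : ∀ n ∈ Subgroup.normalizer ((S : Subgroup G) : Set G), n * z * n⁻¹ = z := by
    intro n hn
    have hmem : ∀ (m : G), m ∈ Subgroup.normalizer ((S : Subgroup G) : Set G) →
        ∀ s : ↥(S : Subgroup G), m * (s : G) * m⁻¹ ∈ (S : Subgroup G) :=
      fun m hm s => (Subgroup.mem_normalizer_iff.mp hm _).mp s.2
    let φ : ↥(S : Subgroup G) ≃* ↥(S : Subgroup G) :=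
      { toFun := fun s => ⟨n * (s : G) * n⁻¹, hmem n hn s⟩
        invFun := fun s => ⟨n⁻¹ * (s : G) * n, by
          simpa using hmem n⁻¹ (inv_mem hn) s⟩
        left_inv := fun s => Subtype.ext (by simp [mul_assoc])
        right_inv := fun s => Subtype.ext (by simp [mul_assoc])
        map_mul' := fun s t => Subtype.ext (by simp [mul_assoc]) }
    have hφ : φ c ∈ C := by
      have := hCh.fixed φ
      rw [← this] at hc
      exact hc
    have := huniqC (φ c) hφ ((orderOf_injective φ.toMonoidHom φ.injective c).trans hc2)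
    rw [hzdef]
    exact congrArg Subtype.val this
  have hzS : z ∈ (S : Subgroup G) := hzdef ▸ c.2
  have hconjS : ∀ (a x : G), x ∈ (a • S : Sylow 2 G) ↔ a⁻¹ * x * a ∈ (S : Subgroup G) := by
    intro a x
    change x ∈ MulAut.conj a • (S : Subgroup G) ↔ _
    rw [Subgroup.mem_pointwise_smul_iff_inv_smul_mem]
    simp
  have hcentU : ∀ a : G, a * z * a⁻¹ ∈
      Subgroup.centralizer (((a • S : Sylow 2 G) : Subgroup G) : Set G) := by
    intro a s hs
    have := hN _ (Subgroup.le_normalizer ((hconjS a s).mp hs))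
    calc s * (a * z * a⁻¹) = a * (a⁻¹ * s * a * z * (a⁻¹ * s * a)⁻¹) * a⁻¹ * s := by group
      _ = a * z * a⁻¹ * s := by rw [this]
  have hkey : ∀ (U : Sylow 2 G) (a g : G), U = a • S →
      g * z * g⁻¹ ∈ Subgroup.centralizer ((U : Subgroup G) : Set G) →
      g * z * g⁻¹ = a * z * a⁻¹ := by
    rintro U a g rfl hg
    obtain ⟨n, hn, he⟩ := Sylow.conj_eq_normalizer_conj_of_mem_centralizer (a • S)
      (a * z * a⁻¹) (g * a⁻¹)⁻¹ (hcentU a)
      (by rwa [show (g * a⁻¹)⁻¹⁻¹ * (a * z * a⁻¹) * (g * a⁻¹)⁻¹ = g * z * g⁻¹ by group])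
    rw [show (g * a⁻¹)⁻¹⁻¹ * (a * z * a⁻¹) * (g * a⁻¹)⁻¹ = g * z * g⁻¹ by group] at he
    have hna : a⁻¹ * n⁻¹ * a ∈ Subgroup.normalizer ((S : Subgroup G) : Set G) := by
      refine Sylow.smul_eq_iff_mem_normalizer.mp ?_
      rw [mul_smul, mul_smul, Sylow.smul_eq_iff_mem_normalizer.mpr (inv_mem hn), inv_smul_smul]
    have := hN _ hna
    calc g * z * g⁻¹ = n⁻¹ * (a * z * a⁻¹) * n := he
      _ = a * (a⁻¹ * n⁻¹ * a * z * (a⁻¹ * n⁻¹ * a)⁻¹) * a⁻¹ := by group
      _ = a * z * a⁻¹ := by rw [this]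
  have hiso : IsIsolatedInvolution z := by
    refine CfsgLib.Invol.isolated_of_sylow S hz hzS fun g hg => ?_
    obtain ⟨T, hT⟩ : ∃ T : Sylow 2 G, T = g • S := ⟨_, rfl⟩
    obtain ⟨K, hK⟩ : ∃ K, K = Subgroup.centralizer ({g * z * g⁻¹} : Set G) := ⟨_, rfl⟩
    have hTK : (T : Subgroup G) ≤ K := fun s hs => by
      rw [hK, Subgroup.mem_centralizer_singleton_iff]
      subst hT
      exact hcentU g s hs
    have hzK : z ∈ K := by
      rw [hK, Subgroup.mem_centralizer_singleton_iff]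
      exact (mul_inv_eq_iff_eq_mul.mp (hN _ (Subgroup.le_normalizer hg))).symm
    have hz2 : IsPGroup 2 (Subgroup.zpowers (⟨z, hzK⟩ : K)) :=
      IsPGroup.of_card (n := 1)
        (by rw [Nat.card_zpowers, ← Subgroup.orderOf_coe, hz, pow_one])
    obtain ⟨Q, hQ⟩ := hz2.exists_le_sylow
    obtain ⟨k, hkQ⟩ := MulAction.exists_smul_eq K Q (T.subtype hTK)
    have hk : (k : G) * z * (k : G)⁻¹ ∈ (T : Subgroup G) := by
      have hmem : k * ⟨z, hzK⟩ * k⁻¹ ∈ (T.subtype hTK : Subgroup K) := by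
        rw [← hkQ]
        exact Subgroup.smul_mem_pointwise_smul _ (MulAut.conj k) _ (hQ (Subgroup.mem_zpowers _))
      exact hmem
    subst hT
    have hgk : (k : G)⁻¹ * g * z * ((k : G)⁻¹ * g)⁻¹ = g * z * g⁻¹ := by
      have hk2 : (k : G) ∈ K := k.2
      simp only [hK] at hk2
      have h1 := Subgroup.mem_centralizer_singleton_iff.mp hk2
      calc (k : G)⁻¹ * g * z * ((k : G)⁻¹ * g)⁻¹ = (k : G)⁻¹ * (g * z * g⁻¹ * k) := by group
        _ = g * z * g⁻¹ := by rw [← h1, inv_mul_cancel_left]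
    have hzT : z ∈ (((k : G)⁻¹ * g) • S : Sylow 2 G) := by
      rw [hconjS]
      have := (hconjS g _).mp hk
      rwa [show ((k : G)⁻¹ * g)⁻¹ * z * ((k : G)⁻¹ * g) =
        g⁻¹ * ((k : G) * z * (k : G)⁻¹) * g by group]
    have hcT : g * z * g⁻¹ ∈ (((k : G)⁻¹ * g) • S : Sylow 2 G) := by
      rw [hconjS, ← hgk]
      simpa [mul_assoc] using hzS
    by_cases heq : S = ((k : G)⁻¹ * g) • S
    · rw [← hgk]
      exact hN _ (Sylow.smul_eq_iff_mem_normalizer.mp heq.symm)
    · obtain ⟨U, hU⟩ := hCI S _ heq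
      obtain ⟨a, ha⟩ := MulAction.exists_smul_eq G S U
      have hcen : ∀ x, x ∈ (S : Subgroup G) → x ∈ (((k : G)⁻¹ * g) • S : Sylow 2 G) →
          x ∈ Subgroup.centralizer ((U : Subgroup G) : Set G) := by
        intro x h1 h2 s hs
        obtain ⟨u, hu, rfl⟩ := hU (Subgroup.mem_inf.mpr ⟨h1, h2⟩)
        exact congrArg Subtype.val (Subgroup.mem_center_iff.mp hu ⟨s, hs⟩)
      have h1 := hkey U a g ha.symm (hcen _ hg hcT)
      have h2 := hkey U a 1 ha.symm (by simpa using hcen z hzS hzT)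
      simp only [one_mul, inv_one, mul_one] at h2
      rw [h1, ← h2]
  intro g
  have h := CfsgLib.ZStar.commutatorsInCore_of_isolated hiso g⁻¹
  haveI := CfsgLib.Transfer.pPrimeCore_normal 2 G
  rw [QuotientGroup.eq]
  have he : (g * z * g⁻¹)⁻¹ * z = g * (z * g⁻¹ * z⁻¹ * g⁻¹⁻¹) * g⁻¹ := by
    rw [CfsgLib.Invol.inv_of_orderOf_two hz]; simp [mul_assoc, CfsgLib.Invol.inv_of_orderOf_two hz]
  rw [he]
  exact Subgroup.Normal.conj_mem (CfsgLib.Transfer.pPrimeCore_normal 2 G) _ h g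
end Cfsg.Agent.S3184
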