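import Cfsg.Statements.S3190
import Cfsg.Agent.Lib.Critical.Basic


set_option autoImplicit false
open Cfsg

namespace Cfsg.Agent.S3190

/-- Let p be an odd prime and, inside a finite group, let P be a p-subgroup normalized by a Klein four-group T. Let R be a subgroup of P, normal in P and normalized by T, such that P is the product of R with the centralizer of T in P. If T centralizes the centre of P, then T centralizes the centre of R. -/
theorem result {X : Type*} [Group X] [Finite X]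
    {p : ℕ} (hp : p.Prime) (hodd : Odd p) (P T R : Subgroup X) (hP : IsPGroup p ↥P) (hT : IsKleinFour ↥T)
    (hTP : T ≤ Subgroup.normalizer (P : Set X)) (hRP : R ≤ P) (hRn : (R.subgroupOf P).Normal)
    (hTR : T ≤ Subgroup.normalizer (R : Set X)) (hfac : R ⊔ (P ⊓ Subgroup.centralizer (T : Set X)) = P)
    (hZ : T ≤ Subgroup.centralizer (((Subgroup.center ↥P).map P.subtype : Subgroup X) : Set X)) :
    T ≤ Subgroup.centralizer (((Subgroup.center ↥R).map R.subtype : Subgroup X) : Set X) := by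
  classical
  haveI := Fact.mk hp
  haveI := hT
  rintro t ht
  rw [Subgroup.mem_centralizer_iff]
  rintro v₀ hv₀
  set V := (Subgroup.center ↥R).map R.subtype with hV
  have hVR : ∀ v ∈ V, v ∈ R ∧ ∀ r ∈ R, r * v = v * r := by
    rintro _ ⟨y, hy, rfl⟩
    exact ⟨y.2, fun r hr => congrArg Subtype.val (Subgroup.mem_center_iff.mp hy ⟨r, hr⟩)⟩
  have hVmem : ∀ v ∈ R, (∀ r ∈ R, r * v = v * r) → v ∈ V := fun v hv h =>
    ⟨⟨v, hv⟩, Subgroup.mem_center_iff.mpr fun r => Subtype.ext (h r r.2), rfl⟩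
  have htt : t * t = 1 := congrArg Subtype.val (IsKleinFour.mul_self (⟨t, ht⟩ : T))
  have hti : t⁻¹ = t := inv_eq_of_mul_eq_one_right htt
  have hconjV : ∀ g ∈ Subgroup.normalizer (R : Set X), ∀ v ∈ V, g * v * g⁻¹ ∈ V := by
    intro g hg v hv
    refine hVmem _ ((Subgroup.mem_normalizer_iff.mp hg v).mp (hVR v hv).1) fun r hr => ?_
    have hr' : g⁻¹ * r * g ∈ R := (Subgroup.mem_normalizer_iff.mp hg _).mpr (by simpa [mul_assoc] using hr)
    have h1 := (hVR v hv).2 _ hr'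
    calc r * (g * v * g⁻¹) = g * (g⁻¹ * r * g * v) * g⁻¹ := by group
      _ = g * (v * (g⁻¹ * r * g)) * g⁻¹ := by rw [h1]
      _ = g * v * g⁻¹ * r := by group
  have hcV : ∀ v ∈ V, ∀ w ∈ V, v * w = w * v := fun v hv w hw => (hVR w hw).2 v (hVR v hv).1
  -- the elements of `V` inverted by `t`
  let M : Subgroup X :=
    { carrier := {v | v ∈ V ∧ t * v * t⁻¹ = v⁻¹}
      one_mem' := ⟨one_mem V, by simp⟩
      mul_mem' := fun {a b} ha hb => ⟨mul_mem ha.1 hb.1, by
        rw [show t * (a * b) * t⁻¹ = t * a * t⁻¹ * (t * b * t⁻¹) by group, ha.2, hb.2, ← mul_inv_rev,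
          hcV b hb.1 a ha.1]⟩
      inv_mem' := fun {a} ha => ⟨inv_mem ha.1, by
        rw [show t * a⁻¹ * t⁻¹ = (t * a * t⁻¹)⁻¹ by group, ha.2]⟩ }
  have hMP : M ≤ P := fun v hv => hRP (hVR v hv.1).1
  haveI hn : (M.subgroupOf P).Normal := by
    refine ⟨fun m hm g => ?_⟩
    obtain ⟨hmV, hmi⟩ := hm
    have hgP : (g : X) ∈ R ⊔ (P ⊓ Subgroup.centralizer (T : Set X)) := hfac.symm ▸ g.2
    have hRN : ∀ a ∈ P, a ∈ Subgroup.normalizer (R : Set X) := fun a ha => by
      rw [Subgroup.mem_normalizer_iff]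
      intro r
      refine ⟨fun hr => hRn.conj_mem ⟨r, hRP hr⟩ hr ⟨a, ha⟩, fun hr => ?_⟩
      have := hRn.conj_mem ⟨a * r * a⁻¹, hRP hr⟩ hr ⟨a⁻¹, inv_mem ha⟩
      simpa [Subgroup.mem_subgroupOf, mul_assoc] using this
    have key : ∀ a ∈ R ⊔ (P ⊓ Subgroup.centralizer (T : Set X)), ∀ v ∈ M, a * v * a⁻¹ ∈ M := by
      intro a ha
      rw [Subgroup.sup_eq_closure] at ha
      induction ha using Subgroup.closure_induction'' with
      | mem a ha =>
        intro v hv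
        rcases ha with ha | ha
        · rw [(hVR v hv.1).2 a ha, mul_inv_cancel_right]; exact hv
        · refine ⟨hconjV a (hRN a ha.1) v hv.1, ?_⟩
          have hat : Commute a t := (Subgroup.mem_centralizer_iff.mp ha.2 t ht).symm
          calc t * (a * v * a⁻¹) * t⁻¹ = (t * a) * v * (t * a)⁻¹ := by group
            _ = (a * t) * v * (a * t)⁻¹ := by rw [hat.eq]
            _ = a * (t * v * t⁻¹) * a⁻¹ := by group
            _ = (a * v * a⁻¹)⁻¹ := by rw [hv.2]; group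
      | inv_mem a ha =>
        intro v hv
        rcases ha with ha | ha
        · rw [(hVR v hv.1).2 a⁻¹ (inv_mem ha), mul_inv_cancel_right]; exact hv
        · refine ⟨hconjV a⁻¹ (hRN _ (inv_mem ha.1)) v hv.1, ?_⟩
          have hat : Commute a⁻¹ t := (show Commute a t from (Subgroup.mem_centralizer_iff.mp ha.2 t ht).symm).inv_left
          calc t * (a⁻¹ * v * a⁻¹⁻¹) * t⁻¹ = (t * a⁻¹) * v * (t * a⁻¹)⁻¹ := by group
            _ = (a⁻¹ * t) * v * (a⁻¹ * t)⁻¹ := by rw [hat.eq]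
            _ = a⁻¹ * (t * v * t⁻¹) * a := by group
            _ = (a⁻¹ * v * a⁻¹⁻¹)⁻¹ := by rw [hv.2]; group
      | one => intro v hv; simpa using hv
      | mul a b _ _ iha ihb =>
        intro v hv
        rw [show a * b * v * (a * b)⁻¹ = a * (b * v * b⁻¹) * a⁻¹ by group]
        exact iha _ (ihb v hv)
    exact key g hgP m ⟨hmV, hmi⟩
  have hodd2 : ∀ v ∈ M, v * v = 1 → v = 1 := fun v hv h => by
    obtain ⟨k, hk⟩ := hP.exists_orderOf_eq_pow (⟨v, hMP hv⟩ : P)
    rw [Subgroup.orderOf_mk] at hk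
    have h2 : orderOf v ∣ 2 := orderOf_dvd_of_pow_eq_one (by rw [pow_two]; exact h)
    rw [hk] at h2
    rcases (Nat.dvd_prime Nat.prime_two).mp h2 with h3 | h3
    · rw [← orderOf_eq_one_iff, hk, h3]
    · have := (hodd.pow (n := k))
      rw [h3] at this
      exact absurd this (by decide)
  have hMbot : M.subgroupOf P = ⊥ := by
    by_contra h
    haveI : Group.IsNilpotent P := hP.isNilpotent
    refine CfsgLib.Critical.inf_center_ne_bot (M.subgroupOf P) h ((Subgroup.eq_bot_iff_forall _).mpr ?_)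
    rintro w ⟨hwM, hwZ⟩
    obtain ⟨hwV, hwi⟩ : (w : X) ∈ M := hwM
    have hzt : t * (w : X) = (w : X) * t :=
      (Subgroup.mem_centralizer_iff.mp (hZ ht) (w : X) ⟨w, hwZ, rfl⟩).symm
    refine Subtype.ext (hodd2 _ ⟨hwV, hwi⟩ ?_)
    rw [hzt, mul_inv_cancel_right] at hwi
    exact mul_eq_one_iff_eq_inv.mpr hwi
  have hw : t * v₀ * t⁻¹ * v₀⁻¹ ∈ M := by
    have hv' := hconjV t (hTR ht) v₀ hv₀
    refine ⟨mul_mem hv' (inv_mem hv₀), ?_⟩
    calc t * (t * v₀ * t⁻¹ * v₀⁻¹) * t⁻¹ = (t * t) * v₀ * (t * t)⁻¹ * (t * v₀⁻¹ * t⁻¹) := by group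
      _ = v₀ * (t * v₀⁻¹ * t⁻¹) := by rw [htt]; simp
      _ = (t * v₀ * t⁻¹ * v₀⁻¹)⁻¹ := by group
  have : (⟨_, hMP hw⟩ : P) ∈ M.subgroupOf P := hw
  rw [hMbot, Subgroup.mem_bot] at this
  have h1 : t * v₀ * t⁻¹ * v₀⁻¹ = 1 := congrArg Subtype.val this
  exact (mul_inv_eq_iff_eq_mul.mp (mul_inv_eq_one.mp h1)).symm
end Cfsg.Agent.S3190
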