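import Cfsg.Statements.S3191
import Cfsg.Agent.Lib.AltInvClasses.Transport

set_option autoImplicit false
open Cfsg

namespace Cfsg.Agent.S3191

/-- Let n ≥ 1 and r = 2 or 3, and let H be the centralizer in the alternating group of degree 4n + r of an involution moving exactly 4n points (a product of 2n disjoint transpositions). Let G be a finite group that has no normal subgroup of index 2 and that contains an involution t which is central in some Sylow 2-subgroup of G and whose centralizer is isomorphic to H. Then G has exactly n conjugacy classes of involutions. -/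
theorem result (n r : ℕ) (hn : 1 ≤ n) (hr : r = 2 ∨ r = 3)
    (α : ↥(alternatingGroup (Fin (4 * n + r)))) (hα : orderOf α = 2)
    (hα4 : (α : Equiv.Perm (Fin (4 * n + r))).support.card = 4 * n)
    {G : Type*} [Group G] [Finite G] (h2 : ∀ H : Subgroup G, H.Normal → H.index ≠ 2)
    (t : G) (ht : orderOf t = 2) (S : Sylow 2 G) (htS : t ∈ (S : Subgroup G))
    (htZ : ∀ s ∈ (S : Subgroup G), s * t = t * s)
    (hiso : Nonempty (↥(Subgroup.centralizer ({t} : Set G)) ≃*
      ↥(Subgroup.centralizer ({α} : Set ↥(alternatingGroup (Fin (4 * n + r))))))) :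
    Nat.card {c : ConjClasses G // ∃ x ∈ c.carrier, orderOf x = 2} = n := by
  classical
  obtain ⟨e⟩ := hiso
  obtain ⟨r', hr', rfl⟩ : ∃ r', r' ≤ 1 ∧ r = r' + 2 := ⟨r - 2, by omega, by omega⟩
  have hα2 : α * α = 1 := (pow_two α).symm.trans (orderOf_dvd_iff_pow_eq_one.mp hα.dvd)
  obtain ⟨e'⟩ := CfsgLib.AltInvClasses.nonempty_mulEquiv_centralizer (n := n) (r := r') rfl α hα2 hα4
  let f : CfsgLib.AltInvClasses.C0 n r' ≃* ↥(Subgroup.centralizer ({t} : Set G)) := e'.trans e.symm
  have htC : t ∈ Subgroup.centralizer ({t} : Set G) := Subgroup.mem_centralizer_singleton_iff.mpr rfl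
  obtain ⟨c, hc⟩ : ∃ c, f c = ⟨t, htC⟩ := f.surjective _
  have htt : t * t = 1 := by rw [← pow_two, ← ht, pow_orderOf_eq_one]
  have hceq := CfsgLib.AltInvClasses.central_eq hr' (c := c)
    (f.injective (by rw [map_mul, map_one, hc]; exact Subtype.ext htt))
    (fun h => by
      rw [h, map_one] at hc
      have h1 : (1 : G) = t := congrArg Subtype.val hc
      rw [← h1, orderOf_one] at ht
      omega)
    (fun u => f.injective (by
      rw [map_mul, map_mul, hc]
      exact Subtype.ext (Subgroup.mem_centralizer_singleton_iff.mp (f u).2)))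
  have hS : (S : Subgroup G) ≤ Subgroup.centralizer ({t} : Set G) := fun s hs =>
    Subgroup.mem_centralizer_singleton_iff.mpr (htZ s hs)
  haveI := Fact.mk Nat.prime_two
  let X : CfsgLib.AltInvClasses.Ctx n r' G :=
    { ι := (Subgroup.centralizer ({t} : Set G)).subtype.comp f.toMonoidHom
      t := t
      inj := Subtype.val_injective.comp f.injective
      hr := hr'
      range_eq := le_antisymm (by rintro _ ⟨x, rfl⟩; exact (f x).2)
        fun g hg => ⟨f.symm ⟨g, hg⟩, congrArg Subtype.val (f.apply_symm_apply _)⟩
      t_eq := by rw [← hceq]; exact (congrArg Subtype.val hc).symm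
      odd := by
        rw [Nat.odd_iff, ← Nat.two_dvd_ne_zero]
        exact fun h => S.not_dvd_index (h.trans (Subgroup.index_dvd_of_le hS))
      noTwo := h2 }
  exact X.card_classes S hS

end Cfsg.Agent.S3191
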