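import Cfsg.Statements.S3195
import Cfsg.Agent.Lib.Baer.Basic
import Cfsg.Agent.Lib.Invol.Dihedral

set_option autoImplicit false
open Cfsg

namespace Cfsg.Agent.S3195

/-- Let A be a Klein four-subgroup of a finite group G. If every G-conjugate of every involution of A commutes with some involution of A (its centralizer meets A nontrivially), then A meets the largest normal 2-subgroup O₂(G) nontrivially. -/
theorem result {G : Type*} [Group G] [Finite G]
    (A : Subgroup G) (hA : IsKleinFour ↥A)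
    (h : ∀ a ∈ A, a ≠ 1 → ∀ g : G, A ⊓ Subgroup.centralizer ({g * a * g⁻¹} : Set G) ≠ ⊥) :
    A ⊓ Cfsg.pCore 2 G ≠ ⊥ := by
  classical
  haveI := Fact.mk Nat.prime_two
  haveI := hA
  have hsq : ∀ x ∈ A, x * x = 1 := fun x hx => congrArg Subtype.val (IsKleinFour.mul_self (⟨x, hx⟩ : A))
  have hcomm : ∀ x ∈ A, ∀ y ∈ A, x * y = y * x := fun x hx y hy => by
    have h1 := hsq _ (mul_mem hx hy)
    calc x * y = x * (x * y * (x * y)) * y := by rw [h1, mul_one]
      _ = (x * x) * (y * x) * (y * y) := by group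
      _ = y * x := by rw [hsq x hx, hsq y hy, one_mul, mul_one]
  have hinv : ∀ x ∈ A, x⁻¹ = x := fun x hx => inv_eq_of_mul_eq_one_right (hsq x hx)
  have hthird : ∀ x ∈ A, ∀ y ∈ A, ∀ z ∈ A, x ≠ 1 → y ≠ 1 → z ≠ 1 → x ≠ y → z ≠ x → z ≠ y → z = x * y := by
    intro x hx y hy z hz hx1 hy1 hz1 hxy hzx hzy
    have h1 : (⟨z, hz⟩ : A) = ⟨x, hx⟩ * ⟨y, hy⟩ := IsKleinFour.eq_mul_of_ne_all
      (fun e => hx1 (congrArg Subtype.val e)) (fun e => hy1 (congrArg Subtype.val e))
      (fun e => hxy (congrArg Subtype.val e)) (fun e => hz1 (congrArg Subtype.val e))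
      (fun e => hzx (congrArg Subtype.val e)) (fun e => hzy (congrArg Subtype.val e))
    exact congrArg Subtype.val h1
  -- an odd element inverted by an involution of `A` commutes with another one
  have hclaim : ∀ a ∈ A, a ≠ 1 → ∀ r : G, Odd (orderOf r) → r ≠ 1 → a * r * a = r⁻¹ →
      ∃ x ∈ A, x ≠ 1 ∧ x ≠ a ∧ x * r = r * x := by
    intro a ha ha1 r hr hr1 har
    obtain ⟨m, hm⟩ := hr
    set s := r ^ (m + 1) with hs
    have hss : s * s = r := by
      rw [hs, ← pow_add, show m + 1 + (m + 1) = orderOf r + 1 by omega, pow_add, pow_orderOf_eq_one,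
        one_mul, pow_one]
    have has : a * s * a = s⁻¹ := by
      have h1 : (a * r * a⁻¹) ^ (m + 1) = a * s * a⁻¹ := by rw [conj_pow]
      rw [hinv a ha] at h1
      rw [← h1, har, inv_pow]
    have hconj : s⁻¹ * a * s⁻¹⁻¹ = a * r := by
      rw [inv_inv, ← hss, ← has]
      calc a * s * a * a * s = a * s * (a * a) * s := by group
        _ = a * (s * s) := by rw [hsq a ha]; group
    obtain ⟨x, hx, hx1⟩ := (Subgroup.bot_or_exists_ne_one _).resolve_left (h a ha ha1 s⁻¹)
    rw [hconj] at hx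
    obtain ⟨hxA, hxc⟩ := Subgroup.mem_inf.mp hx
    have hxc := Subgroup.mem_centralizer_singleton_iff.mp hxc
    have hxr : x * r = r * x := by
      refine mul_left_cancel (a := a) ?_
      calc a * (x * r) = a * x * r := (mul_assoc _ _ _).symm
        _ = x * (a * r) := by rw [hcomm a ha x hxA, mul_assoc]
        _ = a * r * x := hxc
        _ = a * (r * x) := mul_assoc _ _ _
    refine ⟨x, hxA, hx1, fun e => ?_, hxr⟩
    subst e
    rw [hxr, mul_assoc, hsq x hxA, mul_one] at har
    have hrr : r * r = 1 := by nth_rw 1 [har]; exact inv_mul_cancel r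
    exact hr1 (CfsgLib.Invol.eq_one_of_odd_of_sq ⟨m, hm⟩ hrr)
  -- two different involutions cannot both occur as centralizing ones
  have hunique : ∀ a ∈ A, ∀ b ∈ A, a ≠ 1 → b ≠ 1 → a ≠ b → ∀ r s : G, Odd (orderOf r) → r ≠ 1 →
      Odd (orderOf s) → s ≠ 1 → b * r = r * b → a * r * a = r⁻¹ → a * s = s * a → b * s * b = s⁻¹ → False := by
    intro a ha b hb ha1 hb1 hab r s hro hr1 hso hs1 hbr har has hbs
    have hodd_eq : ∀ t : G, Odd (orderOf t) → t = t⁻¹ → t = 1 := fun t ht e =>
      CfsgLib.Invol.eq_one_of_odd_of_sq ht (by nth_rw 1 [e]; exact inv_mul_cancel t)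
    set t := s⁻¹ * r * s with ht
    have hto : orderOf t = orderOf r := by
      exact (SemiconjBy.orderOf_eq s⁻¹ (x := r) (y := t) (by simp [SemiconjBy, ht, mul_assoc])).symm
    have has' : a * s⁻¹ = s⁻¹ * a := (show Commute a s from has).inv_right.eq
    have hat : a * t * a = t⁻¹ := by
      calc a * t * a = (a * s⁻¹) * r * (s * a) := by rw [ht]; group
        _ = s⁻¹ * (a * r * a) * s := by rw [has', ← has]; group
        _ = t⁻¹ := by rw [har, ht]; group
    obtain ⟨x, hx, hx1, hxa, hxt⟩ := hclaim a ha ha1 t (hto ▸ hro) (fun e => hr1 (by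
      rw [e, orderOf_one] at hto; exact orderOf_eq_one_iff.mp hto.symm)) hat
    -- the conjugate of `x` by `s⁻¹` is `x * s ^ (-2)`
    have hxs : x * s * x = s⁻¹ := by
      by_cases hxb : x = b
      · rw [hxb]; exact hbs
      · rw [hthird a ha b hb x hx ha1 hb1 hx1 hab hxa hxb]
        calc a * b * s * (a * b) = a * (b * s * b) * (b * (a * b)) := by
              rw [show a * (b * s * b) * (b * (a * b)) = a * (b * s * (b * b)) * (a * b) by group,
                hsq b hb, mul_one]
              group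
          _ = a * s⁻¹ * a := by rw [hbs, hcomm a ha b hb, ← mul_assoc b, hsq b hb, one_mul]
          _ = s⁻¹ := by rw [has', mul_assoc, hsq a ha, mul_one]
    have hrs : Commute r s := by
      have h1 : Commute r (x * (s⁻¹ * s⁻¹)) := by
        have h2 : s * x * s⁻¹ = x * (s⁻¹ * s⁻¹) := by
          calc s * x * s⁻¹ = (x * x) * s * x * s⁻¹ := by rw [hsq x hx, one_mul]
            _ = x * (x * s * x) * s⁻¹ := by group
            _ = x * (s⁻¹ * s⁻¹) := by rw [hxs, mul_assoc]
        rw [← h2]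
        show r * (s * x * s⁻¹) = s * x * s⁻¹ * r
        calc r * (s * x * s⁻¹) = s * (t * x) * s⁻¹ := by rw [ht]; group
          _ = s * (x * t) * s⁻¹ := by rw [hxt]
          _ = s * x * s⁻¹ * r := by rw [ht]; group
      have h4 : Commute r ((s⁻¹ * s⁻¹) * (s⁻¹ * s⁻¹)) := by
        by_cases hxb : x = b
        · subst hxb
          have h5 : Commute r (x⁻¹ * (x * (s⁻¹ * s⁻¹))) :=
            (show Commute r x from hbr.symm).inv_right.mul_right h1
          rw [inv_mul_cancel_left] at h5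
          exact h5.mul_right h5
        · have hxr : x * r * x⁻¹ = r⁻¹ := by
            rw [hthird a ha b hb x hx ha1 hb1 hx1 hab hxa hxb,
              show a * b * r * (a * b)⁻¹ = a * (b * r * b⁻¹) * a⁻¹ by group, hbr, mul_inv_cancel_right,
              hinv a ha, har]
          set w := s⁻¹ * s⁻¹ with hw
          have h5 : w * r * w⁻¹ = r⁻¹ := by
            have h6 := h1.eq
            have h7 : x * w * r * (x * w)⁻¹ = r := by rw [← h6, mul_inv_cancel_right]
            calc w * r * w⁻¹ = x⁻¹ * (x * w * r * (x * w)⁻¹) * x := by group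
              _ = x * r * x⁻¹ := by rw [h7, hinv x hx]
              _ = r⁻¹ := hxr
          show r * (w * w) = w * w * r
          refine (mul_inv_eq_iff_eq_mul.mp ?_).symm
          rw [show w * w * r * (w * w)⁻¹ = w * (w * r * w⁻¹) * w⁻¹ by group, h5, ← conj_inv, h5, inv_inv]
      obtain ⟨k, hk⟩ := hso
      have hco : Nat.Coprime 4 (orderOf s⁻¹) := by
        rw [orderOf_inv]
        exact (Nat.coprime_two_left.mpr ⟨k, hk⟩).pow_left 2
      rw [show (s⁻¹ * s⁻¹) * (s⁻¹ * s⁻¹) = s⁻¹ ^ 4 by group] at h4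
      obtain ⟨j, hj⟩ := exists_pow_eq_self_of_coprime hco
      have h8 := h4.pow_right j
      rw [hj] at h8
      simpa using h8.inv_right
    have hab1 : a * b ≠ 1 := fun e => hab (by rw [mul_eq_one_iff_eq_inv.mp e, hinv b hb])
    have hrs_inv : a * b * (r * s) * (a * b) = (r * s)⁻¹ := by
      calc a * b * (r * s) * (a * b) = a * (b * r) * s * (a * b) := by group
        _ = a * r * (b * s * b) * a := by rw [hbr, hcomm a ha b hb]; group
        _ = a * r * (s⁻¹ * a) := by rw [hbs]; group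
        _ = (a * r * a) * s⁻¹ := by rw [← has']; group
        _ = (r * s)⁻¹ := by rw [har, mul_inv_rev]; exact hrs.inv_inv.eq
    obtain ⟨y, hy, hy1, hyab, hyc⟩ := hclaim (a * b) (mul_mem ha hb) hab1 (r * s) (by
      refine Odd.of_dvd_nat ?_ (hrs.orderOf_mul_dvd_lcm.trans (Nat.lcm_dvd_mul _ _))
      exact hro.mul hso) (fun e => hr1 (by
        have e1 : r = s⁻¹ := eq_inv_of_mul_eq_one_left e
        refine hodd_eq r hro ?_
        have e2 : a * r = r * a := by rw [e1]; exact has'
        rw [e2, mul_assoc, hsq a ha, mul_one] at har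
        exact har)) hrs_inv
    by_cases hya : y = a
    · subst hya
      have hc : y * r = r * y := by
        refine mul_right_cancel (b := s) ?_
        rw [mul_assoc, hyc, mul_assoc, ← has]
        group
      rw [hc, mul_assoc, hsq y hy, mul_one] at har
      exact hr1 (hodd_eq r hro har)
    · by_cases hyb : y = b
      · subst hyb
        have hc : y * s = s * y := by
          refine mul_left_cancel (a := r) ?_
          rw [← mul_assoc, ← hbr, mul_assoc, hyc]
          group
        rw [hc, mul_assoc, hsq y hy, mul_one] at hbs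
        exact hs1 (hodd_eq s hso hbs)
      · exact hyab (hthird a ha b hb y hy ha1 hb1 hy1 hab hya hyb)
  -- some involution inverts no element of odd order
  obtain ⟨y, hy, hy1, hyfree⟩ : ∃ y ∈ A, y ≠ 1 ∧
      ∀ r : G, Odd (orderOf r) → y * r * y = r⁻¹ → r = 1 := by
    by_contra hno
    push Not at hno
    obtain ⟨a₀, ha₀, ha₀1⟩ : ∃ a ∈ A, a ≠ 1 := by
      by_contra hne
      push Not at hne
      have := IsKleinFour.card_four (G := A)
      rw [(Subgroup.eq_bot_iff_forall _).mpr hne, Subgroup.card_bot] at this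
      omega
    obtain ⟨r, hro, har, hr1⟩ := hno a₀ ha₀ ha₀1
    obtain ⟨b, hb, hb1, hba, hbr⟩ := hclaim a₀ ha₀ ha₀1 r hro hr1 har
    obtain ⟨s, hso, hbs, hs1⟩ := hno b hb hb1
    obtain ⟨x, hx, hx1, hxb, hxs⟩ := hclaim b hb hb1 s hso hs1 hbs
    refine hunique x hx b hb hx1 hb1 hxb r s hro hr1 hso hs1 hbr ?_ hxs hbs
    by_cases hxa : x = a₀
    · rw [hxa]; exact har
    · rw [hthird a₀ ha₀ b hb x hx ha₀1 hb1 hx1 hba.symm hxa hxb]
      calc a₀ * b * r * (a₀ * b) = a₀ * (b * r) * (a₀ * b) := by group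
        _ = a₀ * r * (b * b) * a₀ := by rw [hbr, hcomm a₀ ha₀ b hb]; group
        _ = r⁻¹ := by rw [hsq b hb, mul_one, har]
  -- hence it lies in the 2-core
  have hyo : orderOf y = 2 := CfsgLib.Invol.orderOf_two_of_mul_self (hsq y hy) hy1
  have hy2 : IsPGroup 2 (Subgroup.zpowers y) :=
    IsPGroup.of_card (n := 1) (by rw [Nat.card_zpowers, hyo, pow_one])
  intro hbot
  have hcore : y ∈ Cfsg.pCore 2 G := by
    by_contra hyc
    obtain ⟨g, hg⟩ := CfsgLib.Baer.exists_conj_not_isPGroup hy2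
      fun N hN hNp hyN => hyc ((le_sSup ⟨hN, hNp⟩ : N ≤ Cfsg.pCore 2 G) hyN)
    refine hg fun w => ?_
    have hgo : orderOf (g * y * g⁻¹) = 2 := CfsgLib.Invol.conj_orderOf_two hyo g
    set v := y * (g * y * g⁻¹) with hv
    obtain ⟨e, m, hm, hem⟩ : ∃ e m : ℕ, Odd m ∧ orderOf v = 2 ^ e * m :=
      ⟨_, _, Nat.odd_iff.mpr (Nat.two_dvd_ne_zero.mp (Nat.not_dvd_ordCompl Nat.prime_two (orderOf_pos v).ne')),
        (Nat.ordProj_mul_ordCompl_eq_self _ 2).symm⟩
    have hr : v ^ 2 ^ e = 1 := by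
      refine hyfree _ ?_ ?_
      · exact hm.of_dvd_nat (orderOf_dvd_of_pow_eq_one (by rw [← pow_mul, ← hem, pow_orderOf_eq_one]))
      · have h1 := CfsgLib.Invol.conj_prod hyo hgo
        rw [← hv] at h1
        calc y * v ^ 2 ^ e * y = y * v ^ 2 ^ e * y⁻¹ := by rw [hinv y hy]
          _ = (v ^ 2 ^ e)⁻¹ := by rw [← conj_pow, h1, inv_pow]
    obtain ⟨k, hk | hk⟩ := (CfsgLib.Invol.mem_closure_pair_iff hyo hgo).mp w.2
    · refine ⟨e, Subtype.ext ?_⟩
      rw [SubmonoidClass.coe_pow, hk, ← hv, ← zpow_natCast, ← zpow_mul, mul_comm, zpow_mul,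
        zpow_natCast, hr, one_zpow]
      rfl
    · refine ⟨1, Subtype.ext ?_⟩
      rw [SubmonoidClass.coe_pow, hk, pow_one, pow_two,
        CfsgLib.Invol.left_mul_zpow_mul_self hyo hgo, sub_self, zpow_zero]
      rfl
  exact hy1 (Subgroup.mem_bot.mp (hbot ▸ Subgroup.mem_inf.mpr ⟨hy, hcore⟩))
end Cfsg.Agent.S3195
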