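import Cfsg.Statements.S3196


set_option autoImplicit false
open Cfsg

namespace Cfsg.Agent.S3196

/-- Let p be a prime and K a set of subgroups of order p of a finite group G, closed under conjugation, such that at least two distinct members of K commute elementwise, and whenever two distinct members X, Y of K commute: every subgroup of order p of the group XY they generate belongs to K, and every member W of K has centralizer meeting XY nontrivially. Then some member V of K commutes elementwise with every member of K and lies in O_p(G); in particular G is not simple. -/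
theorem result {G : Type*} [Group G] [Finite G]
    {p : ℕ} (hp : p.Prime) (K : Set (Subgroup G)) (hK : ∀ X ∈ K, Nat.card ↥X = p)
    (hKc : ∀ X ∈ K, ∀ g : G, X.map (MulAut.conj g).toMonoidHom ∈ K)
    (hex : ∃ X ∈ K, ∃ Y ∈ K, X ≠ Y ∧ ∀ x ∈ X, ∀ y ∈ Y, x * y = y * x)
    (ha : ∀ X ∈ K, ∀ Y ∈ K, X ≠ Y → (∀ x ∈ X, ∀ y ∈ Y, x * y = y * x) →
      ∀ Z : Subgroup G, Z ≤ X ⊔ Y → Nat.card ↥Z = p → Z ∈ K)
    (hb : ∀ X ∈ K, ∀ Y ∈ K, X ≠ Y → (∀ x ∈ X, ∀ y ∈ Y, x * y = y * x) →
      ∀ W ∈ K, (X ⊔ Y) ⊓ Subgroup.centralizer (W : Set G) ≠ ⊥) :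
    (∃ V ∈ K, (∀ W ∈ K, ∀ v ∈ V, ∀ w ∈ W, v * w = w * v) ∧ V ≤ Cfsg.pCore p G) ∧ ¬ IsSimpleGroup G := by
  classical
  haveI : Fact p.Prime := ⟨hp⟩
  let C : Subgroup G → Subgroup G → Prop := fun U W => U ≤ Subgroup.centralizer (W : Set G)
  have hCiff : ∀ {U W : Subgroup G}, C U W ↔ ∀ u ∈ U, ∀ w ∈ W, u * w = w * u := fun {U W} =>
    ⟨fun h u hu w hw => (Subgroup.mem_centralizer_iff.mp (h hu) w hw).symm,
      fun h u hu => Subgroup.mem_centralizer_iff.mpr fun w hw => (h u hu w hw).symm⟩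
  have hsymm : ∀ {U W : Subgroup G}, C U W → C W U := fun {U W} h =>
    hCiff.mpr fun w hw u hu => (hCiff.mp h u hu w hw).symm
  have hrefl : ∀ U ∈ K, C U U := fun U hU => by
    haveI : IsCyclic U := isCyclic_of_prime_card (hK U hU)
    exact hCiff.mpr fun u hu w hw => congrArg Subtype.val
      (IsCyclic.commGroup.mul_comm (⟨u, hu⟩ : U) ⟨w, hw⟩)
  -- distinct members meet trivially
  have heq : ∀ U ∈ K, ∀ W ∈ K, ∀ x ∈ U, x ≠ 1 → x ∈ W → U = W := by
    intro U hU W hW x hxU hx1 hxW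
    have h1 : ∀ V ∈ K, x ∈ V → Subgroup.zpowers x = V := fun V hV hxV => by
      refine Subgroup.eq_of_le_of_card_ge (Subgroup.zpowers_le.mpr hxV) ?_
      rw [hK V hV, Nat.card_zpowers]
      refine Nat.le_of_dvd (orderOf_pos x) ?_
      rcases (Nat.dvd_prime hp).mp ((hK V hV) ▸ V.orderOf_dvd_natCard hxV) with h | h
      · exact absurd (orderOf_eq_one_iff.mp h) hx1
      · rw [h]
    rw [← h1 U hU hxU, h1 W hW hxW]
  -- the product of two commuting members
  have hcard : ∀ U ∈ K, ∀ W ∈ K, U ≠ W → C U W →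
      Nat.card (U ⊔ W : Subgroup G) = p * p := by
    intro U hU W hW hne hc
    let f : U × W →* G := MonoidHom.noncommCoprod U.subtype W.subtype
      fun u w => hCiff.mp hc u u.2 w w.2
    have hf : Function.Injective f := (injective_iff_map_eq_one f).mpr fun ⟨u, w⟩ h => by
      have h' : (u : G) * (w : G) = 1 := h
      have hu : (u : G) = 1 := by
        by_contra hu
        exact hne (heq U hU W hW u u.2 hu ((mul_eq_one_iff_eq_inv.mp h') ▸ inv_mem w.2))
      rw [hu, one_mul] at h'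
      exact Prod.ext (Subtype.ext hu) (Subtype.ext h')
    have hr : f.range = U ⊔ W := by
      refine (MonoidHom.noncommCoprod_range _ _ _).trans ?_
      rw [Subgroup.range_subtype, Subgroup.range_subtype]
    rw [← hr, ← Nat.card_congr (MonoidHom.ofInjective hf).toEquiv, Nat.card_prod, hK U hU, hK W hW]
  -- every member commutes with some member in every line
  have hline : ∀ U ∈ K, ∀ W ∈ K, U ≠ W → C U W → ∀ Z ∈ K, ∃ P ∈ K, P ≤ U ⊔ W ∧ C P Z := by
    intro U hU W hW hne hc Z hZ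
    set I := (U ⊔ W) ⊓ Subgroup.centralizer (Z : Set G) with hI
    have hI1 : I ≠ ⊥ := hb U hU W hW hne (hCiff.mp hc) Z hZ
    have hdvd : p ∣ Nat.card I := by
      have h1 : Nat.card I ∣ p ^ 2 := by
        rw [pow_two, ← hcard U hU W hW hne hc]
        exact Subgroup.card_dvd_of_le inf_le_left
      obtain ⟨i, -, hi⟩ := (Nat.dvd_prime_pow hp).mp h1
      rcases i with _ | i
      · exact absurd (Subgroup.card_eq_one.mp (by simpa using hi)) hI1
      · rw [hi]; exact dvd_pow_self p i.succ_ne_zero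
    obtain ⟨x, hx⟩ := exists_prime_orderOf_dvd_card' (G := I) p hdvd
    have hcardP : Nat.card (Subgroup.zpowers (x : G)) = p := by
      rw [Nat.card_zpowers, Subgroup.orderOf_coe, hx]
    exact ⟨Subgroup.zpowers (x : G), ha U hU W hW hne (hCiff.mp hc) _
      (Subgroup.zpowers_le.mpr (Subgroup.mem_inf.mp x.2).1) hcardP,
      Subgroup.zpowers_le.mpr (Subgroup.mem_inf.mp x.2).1,
      Subgroup.zpowers_le.mpr (Subgroup.mem_inf.mp x.2).2⟩
  -- commuting with two points of a line means commuting with all of it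
  have htwo : ∀ U ∈ K, ∀ W ∈ K, U ≠ W → C U W → ∀ P ∈ K, ∀ Q ∈ K, P ≤ U ⊔ W → Q ≤ U ⊔ W →
      P ≠ Q → ∀ R ≤ U ⊔ W, ∀ Z, C P Z → C Q Z → C R Z := by
    intro U hU W hW hne hc P hP Q hQ hPl hQl hPQ R hR Z hPZ hQZ
    have hcc : C P Q := by
      refine hCiff.mpr fun x hx y hy => ?_
      have hab : U ⊔ W ≤ Subgroup.centralizer ((U ⊔ W : Subgroup G) : Set G) := by
        refine sup_le ?_ ?_ <;> rw [Subgroup.le_centralizer_iff] <;>
          refine sup_le ?_ ?_
        exacts [hrefl U hU, hsymm hc, hc, hrefl W hW]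
      exact (Subgroup.mem_centralizer_iff.mp (hab (hPl hx)) y (hQl hy)).symm
    have he : P ⊔ Q = U ⊔ W := Subgroup.eq_of_le_of_card_ge (sup_le hPl hQl)
      (by rw [hcard P hP Q hQ hPQ hcc, hcard U hU W hW hne hc])
    exact (hR.trans he.ge).trans (sup_le hPZ hQZ)
  -- every member has a distinct partner
  have hpartner : ∀ X ∈ K, ∃ P ∈ K, P ≠ X ∧ C P X := by
    intro X hX
    obtain ⟨A, hA, B, hB, hAB, hABc⟩ := hex
    have hABc' : C A B := hCiff.mpr hABc
    obtain ⟨P, hP, hPl, hPX⟩ := hline A hA B hB hAB hABc' X hX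
    by_cases h : P = X
    · subst h
      by_cases hAP : A = P
      · exact ⟨B, hB, fun e => hAB (hAP.trans e.symm), hAP ▸ hsymm hABc'⟩
      · exact ⟨A, hA, hAP, htwo A hA B hB hAB hABc' A hA B hB le_sup_left le_sup_right hAB P hPl A
          (hrefl A hA) (hsymm hABc') |> hsymm⟩
    · exact ⟨P, hP, h, hPX⟩
  have hmap : ∀ {U W : Subgroup G} (g : G), C U W →
      C (U.map (MulAut.conj g).toMonoidHom) (W.map (MulAut.conj g).toMonoidHom) := fun {U W} g h =>
    hCiff.mpr (by
      rintro _ ⟨u, hu, rfl⟩ _ ⟨w, hw, rfl⟩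
      rw [← map_mul, ← map_mul, hCiff.mp h u hu w hw])
  have hfixed : ∀ {W : Subgroup G} (g : G), (∀ w ∈ W, g * w = w * g) →
      W.map (MulAut.conj g).toMonoidHom = W := fun {W} g h => by
    ext y
    constructor
    · rintro ⟨w, hw, rfl⟩
      simpa [h w hw] using hw
    · exact fun hy => ⟨y, hy, by simp [h y hy]⟩
  -- some member commutes with all of them
  obtain ⟨V, hV, huniv⟩ : ∃ V ∈ K, ∀ W ∈ K, C V W := by
    by_contra hno
    push Not at hno
    haveI : Nonempty K := by obtain ⟨A, hA, -⟩ := hex; exact ⟨⟨A, hA⟩⟩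
    obtain ⟨⟨U, hU⟩, hUmax⟩ := Finite.exists_max fun U : K =>
      Nat.card {W : Subgroup G // W ∈ K ∧ C U.1 W}
    obtain ⟨X, hX, hUX⟩ := hno U hU
    have hmax : ∀ V ∈ K, (∀ W ∈ K, C U W → C V W) → ¬ C V X := by
      intro V hV hle hVX
      refine absurd (hUmax ⟨V, hV⟩) (not_le.mpr ?_)
      show Nat.card {W | W ∈ K ∧ C U W} < Nat.card {W | W ∈ K ∧ C V W}
      rw [Nat.card_coe_set_eq, Nat.card_coe_set_eq]
      refine Set.ncard_lt_ncard ⟨fun W hW => ⟨hW.1, hle W hW.1 hW.2⟩, fun h => hUX (h ⟨hX, hVX⟩).2⟩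
        (Set.toFinite _)
    -- it suffices to have another member commuting with everything `U` commutes with
    have hgoal : ∀ U' ∈ K, U' ≠ U → C U U' → (∀ W ∈ K, C U W → C U' W) → False := by
      intro U' hU' hne hc hle
      obtain ⟨Q, hQ, hQl, hQX⟩ := hline U hU U' hU' hne.symm hc X hX
      exact hmax Q hQ (fun W hW hUW => htwo U hU U' hU' hne.symm hc U hU U' hU' le_sup_left
        le_sup_right hne.symm Q hQl W hUW (hle W hW hUW)) hQX
    obtain ⟨X₁, hX₁, hX₁X, hX₁c⟩ := hpartner X hX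
    obtain ⟨Y, hY, hYl, hYU⟩ := hline X hX X₁ hX₁ hX₁X.symm (hsymm hX₁c) U hU
    have hYX : C Y X := htwo X hX X₁ hX₁ hX₁X.symm (hsymm hX₁c) X hX X₁ hX₁ le_sup_left le_sup_right
      hX₁X.symm Y hYl X (hrefl X hX) hX₁c
    have hYneX : Y ≠ X := by rintro rfl; exact hUX (hsymm hYU)
    have hYneU : Y ≠ U := by rintro rfl; exact hUX hYX
    haveI : Nontrivial X := Finite.one_lt_card_iff_nontrivial.mp (by rw [hK X hX]; exact hp.one_lt)
    obtain ⟨⟨x, hxX⟩, hx⟩ := exists_ne (1 : X)
    haveI : Nontrivial Y := Finite.one_lt_card_iff_nontrivial.mp (by rw [hK Y hY]; exact hp.one_lt)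
    obtain ⟨⟨y, hyY⟩, hy⟩ := exists_ne (1 : Y)
    have hx1 : x ≠ 1 := fun h => hx (Subtype.ext h)
    have hy1 : y ≠ 1 := fun h => hy (Subtype.ext h)
    have hxy : x * y ≠ 1 := fun h =>
      hYneX (heq Y hY X hX y hyY hy1 ((eq_inv_of_mul_eq_one_right h) ▸ inv_mem hxX))
    have hzl : x * y ∈ Y ⊔ X := mul_mem (Subgroup.mem_sup_right hxX) (Subgroup.mem_sup_left hyY)
    have hzc : Nat.card (Subgroup.zpowers (x * y)) = p := by
      have hpow : ∀ W ∈ K, ∀ w ∈ W, w ^ p = 1 := fun W hW w hw =>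
        orderOf_dvd_iff_pow_eq_one.mp (hK W hW ▸ W.orderOf_dvd_natCard hw)
      rw [Nat.card_zpowers]
      refine orderOf_eq_prime ?_ hxy
      rw [Commute.mul_pow (show Commute x y from (hCiff.mp hYX y hyY x hxX).symm),
        hpow X hX x hxX, hpow Y hY y hyY, one_mul]
    set Z := Subgroup.zpowers (x * y) with hZ
    have hZK : Z ∈ K := ha Y hY X hX hYneX (hCiff.mp hYX) Z (Subgroup.zpowers_le.mpr hzl) hzc
    have hZne : Z ≠ X := fun h => by
      have h1 : x * y ∈ X := h ▸ Subgroup.mem_zpowers _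
      exact hYneX (heq Y hY X hX y hyY hy1 (by simpa using mul_mem (inv_mem hxX) h1))
    set U' := U.map (MulAut.conj x).toMonoidHom with hU'
    have hU'K : U' ∈ K := hKc U hU x
    have hU'z : U.map (MulAut.conj (x * y)).toMonoidHom = U' := by
      conv_rhs => rw [hU', ← hfixed (W := U) y (fun u hu => hCiff.mp hYU y hyY u hu), Subgroup.map_map]
      exact congrArg (fun f => U.map f) (MonoidHom.ext fun u => by simp [mul_assoc])
    have hne : U' ≠ U := by
      intro h
      -- `x` would centralize `U`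
      haveI : Nontrivial U := Finite.one_lt_card_iff_nontrivial.mp (by rw [hK U hU]; exact hp.one_lt)
      let φ : U →* U :=
        { toFun := fun u => ⟨x * u * x⁻¹, by
            have : x * (u : G) * x⁻¹ ∈ U' := ⟨u, u.2, rfl⟩
            rwa [h] at this⟩
          map_one' := Subtype.ext (by simp)
          map_mul' := fun u v => Subtype.ext (by simp [mul_assoc]) }
      haveI : IsCyclic U := isCyclic_of_prime_card (hK U hU)
      obtain ⟨r, hr⟩ := φ.map_cyclic
      obtain ⟨⟨u, hu⟩, hgen⟩ := IsCyclic.exists_generator (α := U)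
      have hou : orderOf u = p := by
        rw [← hK U hU, ← orderOf_eq_card_of_forall_mem_zpowers hgen, Subgroup.orderOf_mk]
      have hxp : x ^ p = 1 := orderOf_dvd_iff_pow_eq_one.mp (hK X hX ▸ X.orderOf_dvd_natCard hxX)
      have hconj : x * u * x⁻¹ = u ^ r := by
        show ((φ ⟨u, hu⟩ : U) : G) = _
        rw [hr]
        rfl
      have hiter : ∀ j : ℕ, x ^ j * u * (x ^ j)⁻¹ = u ^ (r ^ j) := fun j => by
        induction j with
        | zero => simp
        | succ j ih =>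
          rw [pow_succ' x, show x * x ^ j * u * (x * x ^ j)⁻¹ = x * (x ^ j * u * (x ^ j)⁻¹) * x⁻¹ by group,
            ih, ← conj_zpow, hconj, ← zpow_mul, pow_succ']
      have h1 := hiter p
      rw [hxp] at h1
      have hd : (p : ℤ) ∣ r - 1 := by
        have h2 : u ^ (r ^ p - 1) = 1 := by rw [zpow_sub, zpow_one, ← h1]; simp
        rw [← orderOf_dvd_iff_zpow_eq_one, hou, ← ZMod.intCast_zmod_eq_zero_iff_dvd] at h2
        rw [← ZMod.intCast_zmod_eq_zero_iff_dvd]
        push_cast [ZMod.pow_card] at h2 ⊢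
        exact h2
      refine hUX (hCiff.mpr fun a ha' w hw => ?_)
      have hcomm : x * u = u * x := by
        refine mul_inv_eq_iff_eq_mul.mp ?_
        have : u ^ (r - 1) = 1 := orderOf_dvd_iff_zpow_eq_one.mp (hou ▸ hd)
        rw [hconj, show r = r - 1 + 1 by ring, zpow_add, this, one_mul, zpow_one]
      obtain ⟨i, hi⟩ := Subgroup.mem_zpowers_iff.mp (hgen ⟨a, ha'⟩)
      have hi' : u ^ i = a := by simpa using congrArg Subtype.val hi
      obtain ⟨j, rfl⟩ : ∃ j : ℤ, x ^ j = w := Subgroup.mem_zpowers_iff.mp (show w ∈ Subgroup.zpowers x by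
        rwa [Subgroup.eq_of_le_of_card_ge (Subgroup.zpowers_le.mpr hxX) (le_of_eq (by
          rw [hK X hX, Nat.card_zpowers]; exact (orderOf_eq_prime hxp hx1).symm))])
      rw [← hi']
      exact ((show Commute u x from hcomm.symm).zpow_zpow i j).eq
    -- `U'` inherits the neighbours of `U` fixed by `x` or by `x * y`
    have hinh : ∀ Q ∈ K, C U Q → (C Q X ∨ C Q Z) → C U' Q := by
      intro Q _ hUQ h
      rcases h with h | h
      · rw [← hfixed (W := Q) x (fun q hq => (hCiff.mp h q hq x hxX).symm)]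
        exact hmap x hUQ
      · rw [← hU'z, ← hfixed (W := Q) (x * y)
          (fun q hq => (hCiff.mp h q hq _ (Subgroup.mem_zpowers _)).symm)]
        exact hmap _ hUQ
    have hUU : ∀ P ∈ K, P ≠ U → C U P → ∀ R ≤ U ⊔ P, C U R := fun P hP hne' hc R hR =>
      hsymm (htwo U hU P hP hne'.symm hc U hU P hP le_sup_left le_sup_right hne'.symm R hR U
        (hrefl U hU) (hsymm hc))
    by_cases hcU : C U U'
    · refine hgoal U' hU'K hne hcU fun P hP hUP => ?_
      by_cases hPU : P = U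
      · exact hPU ▸ hsymm hcU
      obtain ⟨Q, hQ, hQl, hQX⟩ := hline U hU P hP (Ne.symm hPU) hUP X hX
      exact hsymm (htwo U hU P hP (Ne.symm hPU) hUP U hU Q hQ le_sup_left hQl
        (fun h => hUX (h ▸ hQX)) P le_sup_right U' hcU
        (hsymm (hinh Q hQ (hUU P hP hPU hUP Q hQl) (Or.inl hQX))))
    · refine hgoal Y hY hYneU (hsymm hYU) fun P hP hUP => ?_
      by_cases hPU : P = U
      · exact hPU ▸ hYU
      obtain ⟨Q, hQ, hQl, hQX⟩ := hline U hU P hP (Ne.symm hPU) hUP X hX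
      obtain ⟨Q₂, hQ₂, hQ₂l, hQ₂Z⟩ := hline U hU P hP (Ne.symm hPU) hUP Z hZK
      by_cases hQQ : Q = Q₂
      · subst hQQ
        have hQY : C Q Y := hsymm (htwo Y hY X hX hYneX hYX X hX Z hZK le_sup_right
          (Subgroup.zpowers_le.mpr hzl) hZne.symm Y le_sup_left Q (hsymm hQX) (hsymm hQ₂Z))
        exact hsymm (htwo U hU P hP (Ne.symm hPU) hUP U hU Q hQ le_sup_left hQl
          (fun h => hUX (h ▸ hQX)) P le_sup_right Y (hsymm hYU) hQY)
      · exact absurd (htwo U hU P hP (Ne.symm hPU) hUP Q hQ Q₂ hQ₂ hQl hQ₂l hQQ U le_sup_left U'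
          (hsymm (hinh Q hQ (hUU P hP hPU hUP Q hQl) (Or.inl hQX)))
          (hsymm (hinh Q₂ hQ₂ (hUU P hP hPU hUP Q₂ hQ₂l) (Or.inr hQ₂Z)))) hcU
  -- the normal closure of `V` is an abelian p-group
  let N : Subgroup G := ⨆ g : G, V.map (MulAut.conj g).toMonoidHom
  have hNc : N ≤ Subgroup.centralizer (N : Set G) := by
    have huniv' : ∀ g : G, ∀ W ∈ K, C (V.map (MulAut.conj g).toMonoidHom) W := fun g W hW => by
      have := hmap g (huniv _ (hKc W hW g⁻¹))
      rwa [Subgroup.map_map, show ((MulAut.conj g).toMonoidHom.comp (MulAut.conj g⁻¹).toMonoidHom) =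
        MonoidHom.id G from MonoidHom.ext fun w => by simp [mul_assoc], Subgroup.map_id] at this
    refine iSup_le fun g => ?_
    rw [Subgroup.le_centralizer_iff]
    exact iSup_le fun g' => huniv' g' _ (hKc V hV g)
  haveI hNn : N.Normal := ⟨fun n hn g => by
    have : N.map (MulAut.conj g).toMonoidHom ≤ N := by
      rw [Subgroup.map_iSup]
      refine iSup_le fun g' => ?_
      rw [Subgroup.map_map]
      refine le_trans (le_of_eq ?_) (le_iSup (fun h : G => V.map (MulAut.conj h).toMonoidHom) (g * g'))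
      exact congrArg (fun f => V.map f) (MonoidHom.ext fun v => by simp [mul_assoc])
    exact this ⟨n, hn, rfl⟩⟩
  have hNp : IsPGroup p N := by
    intro n
    refine ⟨1, Subtype.ext ?_⟩
    rw [pow_one, SubmonoidClass.coe_pow, OneMemClass.coe_one]
    have hle : N ≤ Subgroup.closure {a : G | a ∈ N ∧ a ^ p = 1} := iSup_le fun g a ha' =>
      Subgroup.subset_closure ⟨le_iSup (fun g : G => V.map (MulAut.conj g).toMonoidHom) g ha',
        orderOf_dvd_iff_pow_eq_one.mp (hK _ (hKc V hV g) ▸ Subgroup.orderOf_dvd_natCard _ ha')⟩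
    suffices h : ∀ a ∈ Subgroup.closure {a : G | a ∈ N ∧ a ^ p = 1}, a ∈ N ∧ a ^ p = 1 from
      (h _ (hle n.2)).2
    intro a ha'
    induction ha' using Subgroup.closure_induction with
    | mem a ha' => exact ha'
    | one => exact ⟨one_mem _, one_pow _⟩
    | mul a b _ _ iha ihb => exact ⟨mul_mem iha.1 ihb.1, by
        rw [Commute.mul_pow (show Commute a b from
          (Subgroup.mem_centralizer_iff.mp (hNc iha.1) b ihb.1).symm), iha.2, ihb.2, one_mul]⟩
    | inv a _ iha => exact ⟨inv_mem iha.1, by rw [inv_pow, iha.2, inv_one]⟩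
  have hNcore : N ≤ Cfsg.pCore p G := le_sSup ⟨hNn, hNp⟩
  have hVN : V ≤ N := le_trans (le_of_eq (hfixed (W := V) 1 (fun w _ => by simp)).symm)
    (le_iSup (fun g : G => V.map (MulAut.conj g).toMonoidHom) 1)
  refine ⟨⟨V, hV, fun W hW => hCiff.mp (huniv W hW), hVN.trans hNcore⟩, fun hs => ?_⟩
  obtain ⟨X, hX, Y, hY, hXY, -⟩ := hex
  rcases hNn.eq_bot_or_eq_top with h | h
  · have h1 := hK V hV
    rw [eq_bot_iff.mpr (hVN.trans h.le), Subgroup.card_bot] at h1
    exact hp.one_lt.ne h1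
  · have hab : ∀ a b : G, a * b = b * a := fun a b => by
      have ha' : a ∈ Subgroup.centralizer (N : Set G) := hNc (h ▸ Subgroup.mem_top a)
      exact (Subgroup.mem_centralizer_iff.mp ha' b (h ▸ Subgroup.mem_top b)).symm
    haveI hXn : X.Normal := ⟨fun x hx g => by rw [hab g x, mul_inv_cancel_right]; exact hx⟩
    rcases hXn.eq_bot_or_eq_top with h' | h'
    · have h1 := hK X hX
      rw [h', Subgroup.card_bot] at h1
      exact hp.one_lt.ne h1
    · refine hXY (Subgroup.eq_of_le_of_card_ge (h' ▸ le_top) (by rw [hK X hX, hK Y hY])).symm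
end Cfsg.Agent.S3196
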