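import Cfsg.Statements.S3200
import Cfsg.Agent.Lib.Hall.Basic
import Cfsg.Agent.Lib.Char.Burnside

set_option autoImplicit false
open Cfsg

namespace Cfsg.Agent.S3200

universe u

/-- An abelian subgroup of odd order and 2-power index. -/
def HasAbelianOdd (H : Type u) [Group H] : Prop :=
  ∃ D : Subgroup H, IsMulCommutative D ∧ Odd (Nat.card D) ∧ ∃ j, D.index = 2 ^ j

theorem complement_of {H : Type u} [Group H] [Finite H] (h : HasAbelianOdd H) :
    ∀ P : Sylow 2 H, ∃ D : Subgroup H, IsMulCommutative D ∧ Subgroup.IsComplement' (P : Subgroup H) D := by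
  haveI := Fact.mk Nat.prime_two
  obtain ⟨D, hD, hodd, j, hj⟩ := h
  intro P
  refine ⟨D, hD, ?_⟩
  have hcard := D.card_mul_index
  rw [hj] at hcard
  have hP : Nat.card (P : Subgroup H) = 2 ^ j := by
    rw [P.card_eq_multiplicity, ← hcard, Nat.factorization_mul Nat.card_pos.ne' (by positivity),
      Finsupp.add_apply, Nat.factorization_eq_zero_of_not_dvd (by
        intro h; exact (Nat.not_even_iff_odd.mpr hodd) (even_iff_two_dvd.mpr h)),
      Nat.Prime.factorization_pow Nat.prime_two, Finsupp.single_eq_same, zero_add]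
  refine Subgroup.isComplement'_of_coprime ?_ ?_
  · rw [hP, mul_comm, hcard]
  · rw [hP]; exact (Nat.coprime_two_left.mpr hodd).pow_left j

theorem of_quotient {H : Type u} [Group H] [Finite H] (h : HasAbelianOdd H) (N : Subgroup H) [N.Normal] :
    HasAbelianOdd (H ⧸ N) := by
  obtain ⟨D, hD, hodd, j, hj⟩ := h
  refine ⟨D.map (QuotientGroup.mk' N), ?_, hodd.of_dvd_nat (Subgroup.card_map_dvd _ _), ?_⟩
  · refine ⟨⟨fun a b => ?_⟩⟩
    obtain ⟨_, x, hx, rfl⟩ := a
    obtain ⟨_, y, hy, rfl⟩ := b
    refine Subtype.ext ?_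
    show QuotientGroup.mk' N x * QuotientGroup.mk' N y = QuotientGroup.mk' N y * QuotientGroup.mk' N x
    have hxy : x * y = y * x := congrArg Subtype.val (hD.is_comm.comm (⟨x, hx⟩ : D) ⟨y, hy⟩)
    rw [← map_mul, ← map_mul, hxy]
  · obtain ⟨i, -, hi⟩ := (Nat.dvd_prime_pow Nat.prime_two).mp
      (hj ▸ D.index_map_dvd (QuotientGroup.mk'_surjective N))
    exact ⟨i, hi⟩

theorem of_normal {H : Type u} [Group H] [Finite H] (h : HasAbelianOdd H) (N : Subgroup H) [N.Normal] :
    HasAbelianOdd N := by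
  obtain ⟨D, hD, hodd, j, hj⟩ := h
  refine ⟨D.subgroupOf N, ⟨⟨fun a b => Subtype.ext (Subtype.ext ?_)⟩⟩,
    hodd.of_dvd_nat (Subgroup.card_comap_dvd_of_injective _ _ N.subtype_injective), ?_⟩
  · show ((a : N) : H) * ((b : N) : H) = ((b : N) : H) * ((a : N) : H)
    exact congrArg Subtype.val (hD.is_comm.comm (⟨((a : N) : H), a.2⟩ : D) ⟨((b : N) : H), b.2⟩)
  · have h1 : D.relIndex N ∣ D.index := by
      refine ⟨(D ⊔ N).index, ?_⟩
      have e0 : N.relIndex (D ⊔ N) = N.relIndex D := Subgroup.relIndex_sup_right D N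
      have e1 := Subgroup.relIndex_mul_relIndex (D ⊓ N) D (D ⊔ N) inf_le_left le_sup_left
      have e2 := Subgroup.relIndex_mul_relIndex (D ⊓ N) N (D ⊔ N) inf_le_right le_sup_right
      rw [Subgroup.inf_relIndex_left] at e1
      rw [e0, Subgroup.inf_relIndex_right, ← e1, mul_comm] at e2
      have hpos : 0 < N.relIndex D := Nat.pos_of_ne_zero Subgroup.index_ne_zero_of_finite
      rw [Nat.eq_of_mul_eq_mul_left hpos e2, Subgroup.relIndex_mul_index le_sup_left]
    obtain ⟨i, -, hi⟩ := (Nat.dvd_prime_pow Nat.prime_two).mp (hj ▸ h1)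
    exact ⟨i, hi⟩

theorem solvable_aux : ∀ n, ∀ (H : Type u) [Group H] [Finite H], Nat.card H = n → HasAbelianOdd H →
    Group.IsSolvable H := by
  intro n
  induction n using Nat.strong_induction_on with
  | _ n ih =>
    intro H _ _ hn hH
    rcases subsingleton_or_nontrivial H with hs | hs
    · infer_instance
    by_cases hsimple : IsSimpleGroup H
    · obtain ⟨D, hD, hodd, j, hj⟩ := hH
      by_cases hD1 : D = ⊥
      · rw [hD1, Subgroup.index_bot] at hj
        haveI := Fact.mk Nat.prime_two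
        haveI := (IsPGroup.of_card hj).isNilpotent
        infer_instance
      · obtain ⟨c, hc, hc1⟩ := (Subgroup.bot_or_exists_ne_one D).resolve_left hD1
        have hle : D ≤ Subgroup.centralizer ({c} : Set H) := fun d hd =>
          Subgroup.mem_centralizer_singleton_iff.mpr (congrArg Subtype.val (hD.is_comm.comm (⟨d, hd⟩ : D) ⟨c, hc⟩))
        obtain ⟨i, -, hi⟩ := (Nat.dvd_prime_pow Nat.prime_two).mp (hj ▸ Subgroup.index_dvd_of_le hle)
        have hp := CfsgLib.Char.prime_card_of_prime_power_class 2 i Nat.prime_two c hc1 hi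
        haveI := Fact.mk hp
        haveI := isCyclic_of_prime_card (α := H) rfl
        exact Group.isSolvable_of_comm fun a b => by
          obtain ⟨g, hg⟩ := IsCyclic.exists_generator (α := H)
          obtain ⟨p, rfl⟩ := hg a
          obtain ⟨q, rfl⟩ := hg b
          show g ^ p * g ^ q = g ^ q * g ^ p
          rw [← zpow_add, ← zpow_add, add_comm]
    · obtain ⟨N, hN, hN0, hN1⟩ : ∃ N : Subgroup H, N.Normal ∧ N ≠ ⊥ ∧ N ≠ ⊤ := by
        by_contra hh
        push Not at hh
        exact hsimple ⟨fun N hN => or_iff_not_imp_left.mpr (hh N hN)⟩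
      haveI := hN
      have h1 : Nat.card N < n := hn ▸ lt_of_le_of_ne (Subgroup.card_le_card_group N)
        (fun e => hN1 (Subgroup.eq_top_of_card_eq N e))
      have h2 : Nat.card (H ⧸ N) < n := by
        have h3 := N.card_mul_index
        have h4 : 1 < Nat.card N := Finite.one_lt_card_iff_nontrivial.mpr ((Subgroup.nontrivial_iff_ne_bot N).mpr hN0)
        have h5 : 0 < N.index := Nat.pos_of_ne_zero Subgroup.index_ne_zero_of_finite
        show N.index < n
        nlinarith
      haveI := ih _ h1 N rfl (of_normal hH N)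
      haveI := ih _ h2 (H ⧸ N) rfl (of_quotient hH N)
      exact Group.isSolvable_of_ker_le_range N.subtype (QuotientGroup.mk' N)
        (by rw [QuotientGroup.ker_mk', Subgroup.range_subtype])


/-- Let H be a finite group in which a Sylow 2-subgroup has an abelian complement (an abelian subgroup meeting it trivially whose product with it is all of H). Then H is solvable, and every subgroup and every quotient group of H again has a Sylow 2-subgroup with an abelian complement. -/
theorem result {H : Type*} [Group H] [Finite H]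
    (S : Sylow 2 H) (C : Subgroup H) (hC : IsMulCommutative ↥C) (hSC : Subgroup.IsComplement' (S : Subgroup H) C) :
    Group.IsSolvable H ∧
    (∀ L : Subgroup H, ∃ (P : Sylow 2 ↥L) (D : Subgroup ↥L), IsMulCommutative ↥D ∧ Subgroup.IsComplement' (P : Subgroup ↥L) D) ∧
    (∀ (N : Subgroup H) [N.Normal], ∃ (P : Sylow 2 (H ⧸ N)) (D : Subgroup (H ⧸ N)),
      IsMulCommutative ↥D ∧ Subgroup.IsComplement' (P : Subgroup (H ⧸ N)) D) := by
  classical
  haveI := Fact.mk Nat.prime_two
  have hidx : C.index = Nat.card (S : Subgroup H) := hSC.index_eq_card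
  have hodd : Odd (Nat.card C) := by
    rw [← hSC.symm.index_eq_card]
    exact Nat.not_even_iff_odd.mp fun h => S.not_dvd_index (even_iff_two_dvd.mp h)
  obtain ⟨j, hj⟩ := IsPGroup.iff_card.mp S.2
  have hA : HasAbelianOdd H := ⟨C, hC, hodd, j, hidx.trans hj⟩
  have hsol := solvable_aux _ H rfl hA
  refine ⟨hsol, fun L => ?_, fun N _ => ⟨default, complement_of (of_quotient hA N) default⟩⟩
  haveI := hsol
  refine ⟨default, complement_of ?_ default⟩
  let P : Sylow 2 L := default
  have hLco : Nat.Coprime (P : Subgroup L).index (Nat.card (P : Subgroup L)) := by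
    obtain ⟨i, hi⟩ := IsPGroup.iff_card.mp P.2
    rw [hi]
    exact ((Nat.prime_two.coprime_iff_not_dvd).mpr P.not_dvd_index).symm.pow_right i
  haveI : Group.IsSolvable L := Group.isSolvable_of_isSolvable_injective L.subtype_injective
  obtain ⟨E, hE⟩ := CfsgLib.Hall.exists_hall (G := L)
    (m := (P : Subgroup L).index) (n := Nat.card (P : Subgroup L))
    (by rw [mul_comm]; exact ((P : Subgroup L).card_mul_index).symm) hLco
  have hEodd : Odd (Nat.card E) := by
    rw [hE]; exact Nat.not_even_iff_odd.mp fun h => P.not_dvd_index (even_iff_two_dvd.mp h)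
  obtain ⟨g, hg⟩ := CfsgLib.Hall.exists_conj_le (G := H) (m := Nat.card C) (n := C.index)
    C.card_mul_index.symm (by rw [hidx, hj]; exact (Nat.coprime_two_right.mpr hodd).pow_right j)
    (H := C) rfl (K := E.map L.subtype) (by
      rw [Subgroup.card_map_of_injective L.subtype_injective, hidx, hj]
      exact (Nat.coprime_two_right.mpr hEodd).pow_right j)
  refine ⟨E, ⟨⟨fun a b => ?_⟩⟩, hEodd, ?_⟩
  · obtain ⟨x, hx, hxa⟩ := hg ⟨a, a.2, rfl⟩
    obtain ⟨y, hy, hyb⟩ := hg ⟨b, b.2, rfl⟩
    refine Subtype.ext (Subtype.ext ?_)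
    show L.subtype (a : L) * L.subtype (b : L) = L.subtype (b : L) * L.subtype (a : L)
    rw [← hxa, ← hyb]
    show g * x * g⁻¹ * (g * y * g⁻¹) = g * y * g⁻¹ * (g * x * g⁻¹)
    have hxy : x * y = y * x := congrArg Subtype.val (hC.is_comm.comm (⟨x, hx⟩ : C) ⟨y, hy⟩)
    rw [conj_mul, conj_mul, hxy]
  · obtain ⟨i, hi⟩ := IsPGroup.iff_card.mp P.2
    refine ⟨i, ?_⟩
    have h1 := E.card_mul_index
    rw [hE, ← (P : Subgroup L).card_mul_index, hi, mul_comm (2 ^ i)] at h1
    exact Nat.eq_of_mul_eq_mul_left (Nat.pos_of_ne_zero Subgroup.index_ne_zero_of_finite) h1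
end Cfsg.Agent.S3200
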