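import Cfsg.Statements.S3201
import Cfsg.Agent.Lib.ZStar.Recognize

set_option autoImplicit false
open Cfsg

namespace Cfsg.Agent.S3201

theorem quaternion_unique (m : ℕ) [NeZero m] (x : QuaternionGroup m) (hx : orderOf x = 2) :
    x = QuaternionGroup.a (m : ZMod (2 * m)) := by
  rcases x with i | i
  · have h1 : (QuaternionGroup.a i) ^ 2 = 1 := by
      have h1 := pow_orderOf_eq_one (QuaternionGroup.a i)
      simpa only [hx] using h1
    rw [pow_two, QuaternionGroup.a_mul_a, QuaternionGroup.one_def] at h1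
    have h3 : i + i = 0 := QuaternionGroup.a.inj h1
    have h4 : i ≠ 0 := fun e0 => by
      rw [e0, ← QuaternionGroup.one_def, orderOf_one] at hx
      omega
    congr 1
    rw [← ZMod.natCast_zmod_val i, ← Nat.cast_add, ZMod.natCast_eq_zero_iff] at h3
    rw [← ZMod.natCast_zmod_val i]
    congr 1
    have h5 := ZMod.val_lt i
    have h6 : i.val ≠ 0 := fun e0 => h4 ((ZMod.val_eq_zero i).mp e0)
    obtain ⟨c, hc⟩ := h3
    rcases c with _ | _ | c
    · omega
    · omega
    · nlinarith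
  · rw [QuaternionGroup.orderOf_xa] at hx
    omega


/-- Let S be a finite 2-group whose centre Z(S) has n ≥ 2 distinct maximal subgroups C₁, …, Cₙ with trivial intersection such that each quotient S/Cᵢ is a non-abelian group with exactly one involution (a generalized quaternion group). Then S is the internal direct product of an elementary abelian subgroup and a non-abelian subgroup with exactly one involution. -/
theorem result {S : Type*} [Group S] [Finite S]
    (hS : IsPGroup 2 S) (n : ℕ) (hn : 2 ≤ n) (C : Fin n → Subgroup ↥(Subgroup.center S))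
    (hCmax : ∀ i, IsCoatom (C i)) (hCinj : Function.Injective C) (hCint : ⨅ i, C i = ⊥)
    (hCq : ∀ i, ∃ (_ : ((C i).map (Subgroup.center S).subtype).Normal),
      ¬ IsMulCommutative (S ⧸ (C i).map (Subgroup.center S).subtype) ∧
      ∃! x : S ⧸ (C i).map (Subgroup.center S).subtype, orderOf x = 2) :
    ∃ E Q : Subgroup S, Cfsg.IsInternalDirectProduct E Q ⊤ ∧ Cfsg.IsElementaryAbelian 2 E ∧
      ¬ IsMulCommutative ↥Q ∧ ∃! x : ↥Q, orderOf x = 2 := by
  classical
  haveI := Fact.mk Nat.prime_two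
  let K : Fin n → Subgroup S := fun i => (C i).map (Subgroup.center S).subtype
  haveI hKn : ∀ i, (K i).Normal := fun i => (hCq i).1
  have hq : ∀ i, ¬ IsMulCommutative (S ⧸ K i) ∧ ∃! x : S ⧸ K i, orderOf x = 2 := fun i => (hCq i).2
  have hKZ : ∀ i, K i ≤ (Subgroup.center S) := fun i => Subgroup.map_subtype_le _
  have hKint : ∀ x : S, (∀ i, x ∈ K i) → x = 1 := by
    intro x hx
    obtain ⟨z, -, rfl⟩ := hx ⟨0, by omega⟩
    have hz : z ∈ ⨅ i, C i := Subgroup.mem_iInf.mpr fun i => by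
      obtain ⟨w, hw, hwz⟩ := hx i
      rwa [← (Subgroup.center S).subtype_injective hwz]
    rw [hCint, Subgroup.mem_bot] at hz
    rw [hz, map_one]
  have hindex : ∀ i, (C i).index = 2 := fun i => by
    haveI : Group.IsNilpotent (Subgroup.center S) := (hS.to_subgroup (Subgroup.center S)).isNilpotent
    haveI : (C i).Normal := ⟨fun c hc g => by
      rw [show g * c * g⁻¹ = c from mul_inv_eq_iff_eq_mul.mpr (Subtype.ext (Subgroup.mem_center_iff.mp c.2 g))]
      exact hc⟩
    obtain ⟨k, hk⟩ := IsPGroup.iff_card.mp ((hS.to_subgroup (Subgroup.center S)).to_quotient (C i))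
    haveI : IsSimpleGroup ((Subgroup.center S) ⧸ C i) := by
      haveI : Nontrivial ((Subgroup.center S) ⧸ C i) := QuotientGroup.nontrivial_iff.mpr (hCmax i).1
      refine ⟨fun H _ => ?_⟩
      rcases eq_or_lt_of_le (QuotientGroup.le_comap_mk' (C i) H) with h | h
      · left
        rw [← Subgroup.map_comap_eq_self_of_surjective (QuotientGroup.mk'_surjective (C i)) H, ← h,
          QuotientGroup.map_mk'_self]
      · right
        rw [← Subgroup.map_comap_eq_self_of_surjective (QuotientGroup.mk'_surjective (C i)) H, (hCmax i).2 _ h,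
          Subgroup.map_top_of_surjective _ (QuotientGroup.mk'_surjective (C i))]
    haveI hab : IsMulCommutative ((Subgroup.center S) ⧸ C i) := ⟨⟨fun a b => by
      obtain ⟨a, rfl⟩ := QuotientGroup.mk_surjective a
      obtain ⟨b, rfl⟩ := QuotientGroup.mk_surjective b
      rw [← QuotientGroup.mk_mul, ← QuotientGroup.mk_mul]
      exact congrArg _ (Subtype.ext (Subgroup.mem_center_iff.mp b.2 a))⟩⟩
    obtain ⟨x, hx⟩ := exists_prime_orderOf_dvd_card' (G := (Subgroup.center S) ⧸ C i) 2 (by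
      rw [hk]
      refine dvd_pow_self 2 fun h0 => ?_
      rw [h0, pow_zero] at hk
      exact (Finite.one_lt_card (α := (Subgroup.center S) ⧸ C i)).ne' hk)
    haveI : (Subgroup.zpowers x).Normal := ⟨fun a ha g => by
      rw [(hab.is_comm.comm g a), mul_inv_cancel_right]; exact ha⟩
    rcases (inferInstance : (Subgroup.zpowers x).Normal).eq_bot_or_eq_top with h | h
    · rw [Subgroup.zpowers_eq_bot.mp h, orderOf_one] at hx; omega
    · rw [Subgroup.index, ← Subgroup.card_top (G := (Subgroup.center S) ⧸ C i), ← h, Nat.card_zpowers, hx]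
  have hZK : ∀ i, ∀ w ∈ (Subgroup.center S), w * w ∈ K i := fun i w hw =>
    ⟨⟨w, hw⟩ * ⟨w, hw⟩, Subgroup.mul_self_mem_of_index_two (hindex i) _, rfl⟩
  have hZout : ∀ i, ∃ w ∈ (Subgroup.center S), w ∉ K i := fun i => by
    obtain ⟨w, hw⟩ : ∃ w, w ∉ C i := by
      by_contra h
      push Not at h
      exact (hCmax i).1 (eq_top_iff.mpr fun x _ => h x)
    exact ⟨(w : S), w.2, fun ⟨v, hv, hvw⟩ => hw ((Subgroup.center S).subtype_injective hvw ▸ hv)⟩
  -- an element whose square lies in a kernel is central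
  have hinv : ∀ i, ∀ x : S, x * x ∈ K i → x ∈ (Subgroup.center S) := by
    intro i x hx
    obtain ⟨w, hw, hwK⟩ := hZout i
    by_cases h : x ∈ K i
    · exact hKZ i h
    have ho : ∀ y : S, y * y ∈ K i → y ∉ K i → orderOf (QuotientGroup.mk y : S ⧸ K i) = 2 := fun y hy hy' =>
      orderOf_eq_prime (by rw [pow_two, ← QuotientGroup.mk_mul, QuotientGroup.eq_one_iff]; exact hy)
        (by rwa [Ne, QuotientGroup.eq_one_iff])
    have := ((hq i).2).unique (ho x hx h) (ho w (hZK i w hw) hwK)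
    rw [QuotientGroup.eq] at this
    have hx' : x = w * (x⁻¹ * w)⁻¹ := by group
    rw [hx']
    exact mul_mem hw (inv_mem (hKZ i this))
  have hZ2 : ∀ i, ∀ v w : S, v ∈ (Subgroup.center S) → w ∈ (Subgroup.center S) → v ∉ K i → w ∉ K i → v⁻¹ * w ∈ K i := by
    intro i v w hv hw hv' hw'
    refine ⟨⟨v, hv⟩⁻¹ * ⟨w, hw⟩, ?_, rfl⟩
    rw [SetLike.mem_coe, Subgroup.mul_mem_iff_of_index_two (hindex i)]
    refine iff_of_false (fun h => hv' ?_) (fun h => hw' ⟨_, h, rfl⟩)
    exact ⟨⟨v, hv⟩, inv_mem_iff.mp h, rfl⟩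
  -- generators from the first quotient
  let i₀ : Fin n := ⟨0, by omega⟩
  have hp0 : IsPGroup 2 (S ⧸ K i₀) := hS.to_quotient _
  rcases CfsgLib.ZStar.cyclic_or_quaternion hp0 (fun x y hx hy => (hq i₀).2.unique hx hy) with hc | ⟨k, ⟨e⟩⟩
  · exfalso
    haveI := hc
    exact (hq i₀).1 ⟨⟨fun x y => by
      obtain ⟨g, hg⟩ := IsCyclic.exists_generator (α := S ⧸ K i₀)
      obtain ⟨p, rfl⟩ := hg x
      obtain ⟨q, rfl⟩ := hg y
      show g ^ p * g ^ q = g ^ q * g ^ p
      rw [← zpow_add, ← zpow_add, add_comm]⟩⟩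
  haveI : NeZero (2 ^ k) := ⟨by positivity⟩
  have hk : 1 ≤ k := by
    by_contra hk
    obtain rfl : k = 0 := by omega
    haveI : IsCyclic (QuaternionGroup (2 ^ 0)) := QuaternionGroup.quaternionGroup_one_isCyclic
    refine (hq i₀).1 ⟨⟨fun x y => e.injective ?_⟩⟩
    obtain ⟨g, hg⟩ := IsCyclic.exists_generator (α := QuaternionGroup (2 ^ 0))
    obtain ⟨p, hp⟩ := hg (e x)
    obtain ⟨q, hq'⟩ := hg (e y)
    rw [map_mul, map_mul, ← show g ^ p = _ from hp, ← show g ^ q = _ from hq', ← zpow_add, ← zpow_add, add_comm]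
  obtain ⟨a, ha⟩ := QuotientGroup.mk_surjective (e.symm (QuaternionGroup.a 1))
  obtain ⟨b, hb⟩ := QuotientGroup.mk_surjective (e.symm (QuaternionGroup.xa 0))
  set π := QuotientGroup.mk' (K i₀) with hπ
  have hea : e (π a) = QuaternionGroup.a 1 := by
    show e (QuotientGroup.mk a) = _; rw [ha, MulEquiv.apply_symm_apply]
  have heb : e (π b) = QuaternionGroup.xa 0 := by
    show e (QuotientGroup.mk b) = _; rw [hb, MulEquiv.apply_symm_apply]
  set m := 2 ^ (k - 1) with hm
  have h2m : 2 ^ k = 2 * m := by rw [hm, ← pow_succ', Nat.sub_add_cancel hk]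
  have hpiZ : ∀ x : S, e (π x) * e (π x) = 1 → x ∈ (Subgroup.center S) := fun x hx => hinv i₀ x (by
    rw [← map_mul, ← map_mul, ← map_one e] at hx
    exact (QuotientGroup.eq_one_iff _).mp (e.injective hx))
  have hab : a * b ≠ b * a := by
    intro h
    have h' := congrArg (fun x => e (π x)) h
    simp only [map_mul, hea, heb, QuaternionGroup.a_mul_xa, QuaternionGroup.xa_mul_a] at h'
    have h2 : ((2 : ℕ) : ZMod (2 * 2 ^ k)) = 0 := by
      have h3 : (0 : ZMod (2 * 2 ^ k)) - 1 = 0 + 1 := QuaternionGroup.xa.inj h'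
      rw [Nat.cast_ofNat, show (2 : ZMod (2 * 2 ^ k)) = (0 + 1) - (0 - 1) by ring, h3, sub_self]
    rw [ZMod.natCast_eq_zero_iff] at h2
    have := Nat.le_of_dvd (by norm_num) h2
    have : 2 ^ 1 ≤ 2 ^ k := Nat.pow_le_pow_right two_pos hk
    omega
  have hamZ : a ^ m ∉ (Subgroup.center S) := by
    intro h
    have hc := congrArg (fun x => e (π x)) (Subgroup.mem_center_iff.mp h b)
    simp only [map_mul, map_pow, hea, heb, QuaternionGroup.a_one_pow, QuaternionGroup.a_mul_xa,
      QuaternionGroup.xa_mul_a] at hc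
    have h2 : ((2 * m : ℕ) : ZMod (2 * 2 ^ k)) = 0 := by
      have h3 : (0 : ZMod (2 * 2 ^ k)) + (m : ZMod (2 * 2 ^ k)) = 0 - m := QuaternionGroup.xa.inj hc
      rw [Nat.cast_mul, Nat.cast_ofNat, show (2 : ZMod (2 * 2 ^ k)) * m = (0 + m) - (0 - m) by ring, h3, sub_self]
    rw [ZMod.natCast_eq_zero_iff] at h2
    have := Nat.le_of_dvd (by positivity) h2
    have : 0 < m := by positivity
    omega
  have hbZ : b ∉ (Subgroup.center S) := fun h => hab (Subgroup.mem_center_iff.mp h a)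
  set ζ := b * b with hζ
  have hζe : e (π ζ) = QuaternionGroup.a ((2 ^ k : ℕ) : ZMod (2 * 2 ^ k)) := by
    rw [hζ, map_mul, map_mul, heb, QuaternionGroup.xa_mul_xa]
    simp
  have ha2 : a ^ (2 * m) ∈ (Subgroup.center S) := hpiZ _ (by
    rw [map_pow, map_pow, hea, QuaternionGroup.a_one_pow, QuaternionGroup.a_mul_a, ← Nat.cast_add,
      show 2 * m + 2 * m = 2 * 2 ^ k by omega, ZMod.natCast_self, QuaternionGroup.one_def])
  have hζZ : ζ ∈ (Subgroup.center S) := hpiZ _ (by
    rw [hζe, QuaternionGroup.a_mul_a, ← Nat.cast_add, show 2 ^ k + 2 ^ k = 2 * 2 ^ k by omega,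
      ZMod.natCast_self, QuaternionGroup.one_def])
  have hrelZ : b * a * b⁻¹ * a ∈ (Subgroup.center S) := hpiZ _ (by
    have h : e (π (b * a)) = e (π (a⁻¹ * b)) := by
      rw [map_mul, map_mul, map_mul, map_mul, map_inv, map_inv, hea, heb, QuaternionGroup.xa_mul_a,
        eq_inv_mul_iff_mul_eq, QuaternionGroup.a_mul_xa]
      congr 1
      ring
    have this : e (π (b * a * b⁻¹ * a)) = 1 := by
      rw [show b * a * b⁻¹ * a = (b * a) * (a⁻¹ * b)⁻¹ by group, map_mul, map_mul, map_inv, map_inv, h,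
        mul_inv_cancel]
    rw [this, one_mul])
  -- nontrivial image of a square
  have hsq : ∀ i, ∀ x : S, x ∉ (Subgroup.center S) → x * x ∉ K i := fun i x hx h => hx (hinv i x h)
  have hzall : ∀ x : S, x ∉ (Subgroup.center S) → x * x ∈ (Subgroup.center S) → x * x = ζ := by
    intro x hx hxx
    refine (inv_mul_eq_one.mp (hKint ((x * x)⁻¹ * ζ) fun i => hZ2 i _ _ hxx hζZ (hsq i x hx) (hsq i b hbZ)))
  have haζ : a ^ (2 * m) = ζ := by
    rw [two_mul, pow_add]
    exact hzall _ hamZ (by rwa [← pow_add, ← two_mul])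
  have hrel : b * a * b⁻¹ * a = 1 := by
    refine hKint _ fun i => ?_
    by_contra hc
    have h1 : (b * a) * (b * a) ∈ K i := by
      have h := hZ2 i _ _ hrelZ hζZ hc (hsq i b hbZ)
      have e1 : (b * a) * (b * a) = b * a * b⁻¹ * (ζ * a) := by rw [hζ]; group
      rw [e1, ← Subgroup.mem_center_iff.mp hζZ a, ← mul_assoc]
      have : b * a * b⁻¹ * a * ζ = (b * a * b⁻¹ * a) * (b * a * b⁻¹ * a) * ((b * a * b⁻¹ * a)⁻¹ * ζ) := by group
      rw [this]
      exact mul_mem (hZK i _ hrelZ) h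
    have hba := Subgroup.mem_center_iff.mp (hinv i _ h1) a
    refine hab (mul_right_cancel (b := a) ?_)
    rw [mul_assoc, hba, mul_assoc]
  have hζ1 : ζ ≠ 1 := fun h => hsq i₀ b hbZ (by rw [← hζ, h]; exact one_mem _)
  have hao : orderOf a = 2 * (2 * m) := by
    have h4 : a ^ (2 * (2 * m)) = 1 := by
      rw [two_mul (2 * m), pow_add, haζ]
      refine hKint _ fun i => hZK i ζ hζZ
    have h2 : a ^ (2 * m) ≠ 1 := by rw [haζ]; exact hζ1
    rw [← h2m] at h2 h4 ⊢
    rw [← pow_succ'] at h4 ⊢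
    exact orderOf_eq_prime_pow h2 h4
  haveI : NeZero (2 * m) := ⟨by positivity⟩
  obtain ⟨f, hf, hfr⟩ := CfsgLib.Classical.exists_quaternion_hom (n := 2 * m) (a := a) (w := b) hao
    haζ.symm (eq_inv_of_mul_eq_one_left hrel) (fun h => by
      obtain ⟨j, rfl⟩ := Subgroup.mem_zpowers_iff.mp h
      exact hab ((Commute.refl a).zpow_right j).eq)
  set Q := Subgroup.closure ({a, b} : Set S)
  have hQu : ∀ x ∈ Q, orderOf x = 2 → x = ζ := by
    intro x hx hxo
    obtain ⟨y, rfl⟩ : x ∈ f.range := hfr ▸ hx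
    obtain ⟨z, hz⟩ : ζ ∈ f.range := hfr ▸ mul_mem (Subgroup.subset_closure (by simp)) (Subgroup.subset_closure (by simp))
    rw [← hz]
    have hzo : orderOf (f z) = 2 := by
      rw [hz]
      exact orderOf_eq_prime (by rw [pow_two]; exact hKint _ fun i => hZK i ζ hζZ) hζ1
    rw [orderOf_injective f hf] at hxo hzo
    rw [quaternion_unique _ y hxo, quaternion_unique _ z hzo]
  have hQ2 : ∃ x : Q, orderOf x = 2 := ⟨⟨ζ, mul_mem (Subgroup.subset_closure (by simp)) (Subgroup.subset_closure (by simp))⟩, by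
    rw [Subgroup.orderOf_mk]
    exact orderOf_eq_prime (by rw [pow_two]; exact hKint _ fun i => hZK i ζ hζZ) hζ1⟩
  refine ⟨K i₀, Q, ⟨le_top, le_top, fun x hx y _ => (Subgroup.mem_center_iff.mp (hKZ i₀ hx) y).symm, ?_, ?_⟩, ⟨⟨⟨fun x y => ?_⟩⟩, ?_⟩, ?_, ?_⟩
  · rw [Subgroup.eq_bot_iff_forall]
    rintro x ⟨hxK, hxQ⟩
    by_contra hx1
    have hxo : orderOf x = 2 := orderOf_eq_prime
      (by rw [pow_two]; exact hKint _ fun i => hZK i x (hKZ i₀ hxK)) hx1
    exact hsq i₀ b hbZ (by rw [← hζ, ← hQu x hxQ hxo]; exact hxK)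
  · refine eq_top_iff.mpr fun x _ => ?_
    have hsurj : ∀ q : QuaternionGroup (2 ^ k), ∃ y ∈ Q, e (π y) = q := by
      rintro (j | j)
      · refine ⟨a ^ j.val, pow_mem (Subgroup.subset_closure (by simp)) _, ?_⟩
        rw [map_pow, map_pow, hea, QuaternionGroup.a_one_pow, ZMod.natCast_zmod_val]
      · refine ⟨b * a ^ j.val, mul_mem (Subgroup.subset_closure (by simp)) (pow_mem (Subgroup.subset_closure (by simp)) _), ?_⟩
        rw [map_mul, map_mul, map_pow, map_pow, hea, heb, QuaternionGroup.a_one_pow, QuaternionGroup.xa_mul_a,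
          ZMod.natCast_zmod_val, zero_add]
    obtain ⟨y, hy, hye⟩ := hsurj (e (π x))
    have hd : x⁻¹ * y ∈ K i₀ := QuotientGroup.eq.mp (e.injective hye).symm
    rw [show x = y * (x⁻¹ * y)⁻¹ by group]
    exact mul_mem (Subgroup.mem_sup_right hy) (Subgroup.mem_sup_left (inv_mem hd))
  · exact Subtype.ext ((Subgroup.mem_center_iff.mp (hKZ i₀ y.2) x))
  · intro x hx
    rw [pow_two]
    exact hKint _ fun i => hZK i x (hKZ i₀ hx)
  · intro h
    exact hab (congrArg Subtype.val (h.is_comm.comm (⟨a, Subgroup.subset_closure (by simp)⟩ : Q) ⟨b, Subgroup.subset_closure (by simp)⟩))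
  · obtain ⟨x, hx⟩ := hQ2
    refine ⟨x, hx, fun y hy => Subtype.ext ?_⟩
    rw [hQu (y : S) y.2 (by rwa [Subgroup.orderOf_coe]), hQu (x : S) x.2 (by rwa [Subgroup.orderOf_coe])]
end Cfsg.Agent.S3201
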