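import Cfsg.Statements.S3202
import Cfsg.Agent.Lib.ZStar.Recognize

set_option autoImplicit false
open Cfsg

namespace Cfsg.Agent.S3202

/-- Let S be a finite 2-group of 2-rank exactly 2 and D a maximal subgroup of the centre of S such that S/D is a non-abelian group with exactly one involution (a generalized quaternion group). Then S has a nontrivial cyclic characteristic subgroup. -/
theorem result {S : Type*} [Group S]
    [Finite S] (hS : IsPGroup 2 S) (hr2 : Cfsg.PRankLE 2 2 S) (hr1 : ¬ Cfsg.PRankLE 2 1 S)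
    (D : Subgroup ↥(Subgroup.center S)) (hD : IsCoatom D)
    (hq : ∃ (_ : (D.map (Subgroup.center S).subtype).Normal),
      ¬ IsMulCommutative (S ⧸ D.map (Subgroup.center S).subtype) ∧
      ∃! x : S ⧸ D.map (Subgroup.center S).subtype, orderOf x = 2) :
    ∃ C : Subgroup S, C ≠ ⊥ ∧ IsCyclic ↥C ∧ C.Characteristic := by
  classical
  haveI := Fact.mk Nat.prime_two
  obtain ⟨hn, hna, hu⟩ := hq
  set K := D.map (Subgroup.center S).subtype
  haveI := hn
  have hKc : ∀ d ∈ K, ∀ x : S, x * d = d * x := fun d hd x =>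
    Subgroup.mem_center_iff.mp (Subgroup.map_subtype_le D hd) x
  rcases CfsgLib.ZStar.cyclic_or_quaternion (hS.to_quotient K) (fun x y hx hy => hu.unique hx hy) with hc | ⟨k, ⟨e⟩⟩
  · exfalso
    haveI := hc
    refine hna ⟨⟨fun x y => ?_⟩⟩
    obtain ⟨g, hg⟩ := IsCyclic.exists_generator (α := S ⧸ K)
    obtain ⟨p, rfl⟩ := hg x
    obtain ⟨q, rfl⟩ := hg y
    show g ^ p * g ^ q = g ^ q * g ^ p
    rw [← zpow_add, ← zpow_add, add_comm]
  haveI : NeZero (2 ^ k) := ⟨by positivity⟩
  obtain ⟨a, ha⟩ := QuotientGroup.mk_surjective (e.symm (QuaternionGroup.a 1))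
  obtain ⟨b, hb⟩ := QuotientGroup.mk_surjective (e.symm (QuaternionGroup.xa 0))
  have hea : e (QuotientGroup.mk a) = QuaternionGroup.a 1 := by rw [ha, MulEquiv.apply_symm_apply]
  have heb : e (QuotientGroup.mk b) = QuaternionGroup.xa 0 := by rw [hb, MulEquiv.apply_symm_apply]
  have hclo : Subgroup.closure ({a, b} ∪ (K : Set S)) = ⊤ := by
    refine eq_top_iff.mpr fun x _ => ?_
    obtain ⟨y, hy, hye⟩ : ∃ y ∈ Subgroup.closure ({a, b} ∪ (K : Set S)), e (QuotientGroup.mk y) = e (QuotientGroup.mk x) := by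
      rcases e (QuotientGroup.mk x) with j | j
      · refine ⟨a ^ j.val, pow_mem (Subgroup.subset_closure (by simp)) _, ?_⟩
        rw [QuotientGroup.mk_pow, map_pow, hea, QuaternionGroup.a_one_pow, ZMod.natCast_zmod_val]
      · refine ⟨b * a ^ j.val, mul_mem (Subgroup.subset_closure (by simp)) (pow_mem (Subgroup.subset_closure (by simp)) _), ?_⟩
        rw [QuotientGroup.mk_mul, QuotientGroup.mk_pow, map_mul, map_pow, hea, heb, QuaternionGroup.a_one_pow,
          QuaternionGroup.xa_mul_a, ZMod.natCast_zmod_val, zero_add]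
    rw [show x = y * (y⁻¹ * x) by group]
    exact mul_mem hy (Subgroup.subset_closure (Or.inr (QuotientGroup.eq.mp (e.injective hye))))
  -- the commutator of the generators
  obtain ⟨d, hd, hbab⟩ : ∃ d ∈ K, b * a * b⁻¹ = a⁻¹ * d := by
    refine ⟨a * (b * a * b⁻¹), ?_, by group⟩
    refine (QuotientGroup.eq_one_iff _).mp (e.injective ?_)
    have h : e (QuotientGroup.mk (a * b * a)) = e (QuotientGroup.mk b) := by
      rw [QuotientGroup.mk_mul, QuotientGroup.mk_mul, map_mul, map_mul, hea, heb, QuaternionGroup.a_mul_xa,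
        QuaternionGroup.xa_mul_a]
      congr 1
      ring
    rw [show a * (b * a * b⁻¹) = a * b * a * b⁻¹ by group, QuotientGroup.mk_mul, map_mul, h, ← map_mul,
      ← QuotientGroup.mk_mul, mul_inv_cancel, QuotientGroup.mk_one]
  set c := a * b * a⁻¹ * b⁻¹ with hc
  have hc2 : c = a * a * d⁻¹ := by
    calc c = a * (b * a * b⁻¹)⁻¹ := by rw [hc]; group
      _ = a * (d⁻¹ * a) := by rw [hbab]; group
      _ = a * (a * d⁻¹) := by rw [hKc _ (inv_mem hd) a]
      _ = a * a * d⁻¹ := by group
  have hac : a * c * a⁻¹ = c := by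
    rw [hc2, mul_inv_eq_iff_eq_mul, mul_assoc (a * a), ← hKc _ (inv_mem hd) a]; group
  have hbc : b * c * b⁻¹ = c⁻¹ := by
    rw [hc2]
    calc b * (a * a * d⁻¹) * b⁻¹ = (b * a * b⁻¹) * (b * a * b⁻¹) * (b * d⁻¹ * b⁻¹) := by group
      _ = a⁻¹ * d * (a⁻¹ * d) * d⁻¹ := by rw [hbab, mul_inv_eq_iff_eq_mul.mpr (hKc _ (inv_mem hd) b)]
      _ = a⁻¹ * (d * a⁻¹) := by group
      _ = a⁻¹ * (a⁻¹ * d) := by rw [hKc _ hd a⁻¹]
      _ = (d⁻¹ * (a * a))⁻¹ := by group
      _ = (a * a * d⁻¹)⁻¹ := by rw [hKc _ (inv_mem hd) (a * a)]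
  set N := Subgroup.zpowers c with hN
  haveI hNn : N.Normal := by
    rw [← Subgroup.normalizer_eq_top_iff, eq_top_iff, ← hclo, Subgroup.closure_le]
    intro x hx
    have key : (x * c * x⁻¹ = c ∨ x * c * x⁻¹ = c⁻¹) := by
      rcases hx with (rfl | rfl) | hx
      · exact Or.inl hac
      · exact Or.inr hbc
      · exact Or.inl (mul_inv_eq_iff_eq_mul.mpr (hKc x hx c).symm)
    rw [SetLike.mem_coe, Subgroup.mem_normalizer_iff]
    intro y
    constructor
    · rintro ⟨j, rfl⟩
      show x * c ^ j * x⁻¹ ∈ N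
      rw [← conj_zpow]
      rcases key with h | h <;> rw [h]
      · exact zpow_mem (Subgroup.mem_zpowers c) j
      · exact zpow_mem (inv_mem (Subgroup.mem_zpowers c)) j
    · intro hy
      obtain ⟨j, hj⟩ := hy
      have hj' : c ^ j = x * y * x⁻¹ := hj
      have : y = (x⁻¹ * c * x) ^ j := by
        have h2 : (x⁻¹ * c * x⁻¹⁻¹) ^ j = x⁻¹ * c ^ j * x⁻¹⁻¹ := conj_zpow
        rw [inv_inv] at h2
        rw [h2, hj']; group
      rw [this]
      refine zpow_mem ?_ j
      rcases key with h | h
      · rw [show x⁻¹ * c * x = x⁻¹ * (x * c * x⁻¹) * x by rw [h]]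
        rw [show x⁻¹ * (x * c * x⁻¹) * x = c by group]
        exact Subgroup.mem_zpowers c
      · have h1 : x⁻¹ * c * x = c⁻¹ := by
          calc x⁻¹ * c * x = x⁻¹ * (c⁻¹)⁻¹ * x := by rw [inv_inv]
            _ = x⁻¹ * (x * c * x⁻¹)⁻¹ * x := by rw [h]
            _ = c⁻¹ := by group
        rw [h1]
        exact inv_mem (Subgroup.mem_zpowers c)
  have hcomm : commutator S = N := by
    refine le_antisymm ?_ (Subgroup.zpowers_le.mpr ?_)
    · rw [commutator_def, Subgroup.commutator_le]
      intro x _ y _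
      rw [commutatorElement_def, ← QuotientGroup.eq_one_iff (N := N)]
      simp only [QuotientGroup.mk_mul, QuotientGroup.mk_inv]
      have hgen : ∀ u v : S, u ∈ ({a, b} ∪ (K : Set S)) → v ∈ ({a, b} ∪ (K : Set S)) →
          Commute (QuotientGroup.mk u : S ⧸ N) (QuotientGroup.mk v) := by
        intro u v hu hv
        have hcK : ∀ d ∈ K, ∀ x : S, Commute (QuotientGroup.mk x : S ⧸ N) (QuotientGroup.mk d) := fun d hd x => by
          show (QuotientGroup.mk x : S ⧸ N) * _ = _
          rw [← QuotientGroup.mk_mul, hKc d hd x, QuotientGroup.mk_mul]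
        have hab : Commute (QuotientGroup.mk a : S ⧸ N) (QuotientGroup.mk b) := by
          show (QuotientGroup.mk a : S ⧸ N) * _ = _
          rw [← QuotientGroup.mk_mul, ← QuotientGroup.mk_mul, QuotientGroup.eq]
          have : (a * b)⁻¹ * (b * a) = (b⁻¹ * a⁻¹) * c⁻¹ * (b⁻¹ * a⁻¹)⁻¹ := by rw [hc]; group
          rw [this]
          exact hNn.conj_mem _ (inv_mem (Subgroup.mem_zpowers c)) _
        rcases hu with (rfl | rfl) | hu <;> rcases hv with (rfl | rfl) | hv
        all_goals first
          | exact Commute.refl _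
          | exact hab
          | exact hab.symm
          | exact hcK _ hv _
          | exact (hcK _ hu _).symm
      have hall : Commute (QuotientGroup.mk x : S ⧸ N) (QuotientGroup.mk y) := by
        have h1 : ∀ u ∈ ({a, b} ∪ (K : Set S)), ∀ y : S, Commute (QuotientGroup.mk u : S ⧸ N) (QuotientGroup.mk y) := by
          intro u hu y
          have hy : y ∈ Subgroup.closure ({a, b} ∪ (K : Set S)) := hclo ▸ Subgroup.mem_top y
          induction hy using Subgroup.closure_induction with
          | mem v hv => exact hgen u v hu hv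
          | one => exact Commute.one_right _
          | mul v w _ _ hv hw => rw [QuotientGroup.mk_mul]; exact hv.mul_right hw
          | inv v _ hv => rw [QuotientGroup.mk_inv]; exact hv.inv_right
        suffices h2 : ∀ x ∈ Subgroup.closure ({a, b} ∪ (K : Set S)),
            Commute (QuotientGroup.mk x : S ⧸ N) (QuotientGroup.mk y) from h2 x (hclo ▸ Subgroup.mem_top x)
        intro v hv
        induction hv using Subgroup.closure_induction with
        | mem v hv => exact h1 v hv y
        | one => exact Commute.one_left _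
        | mul v w _ _ hv hw => rw [QuotientGroup.mk_mul]; exact hv.mul_left hw
        | inv v _ hv => rw [QuotientGroup.mk_inv]; exact hv.inv_left
      rw [hall.eq]; group
    · rw [hc, commutator_def]
      exact Subgroup.commutator_mem_commutator (Subgroup.mem_top a) (Subgroup.mem_top b)
  refine ⟨commutator S, fun h => hna ⟨⟨fun x y => ?_⟩⟩, hcomm ▸ inferInstanceAs (IsCyclic (Subgroup.zpowers c)),
    inferInstance⟩
  obtain ⟨x, rfl⟩ := QuotientGroup.mk_surjective x
  obtain ⟨y, rfl⟩ := QuotientGroup.mk_surjective y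
  rw [← QuotientGroup.mk_mul, ← QuotientGroup.mk_mul]
  have hxy : x * y * x⁻¹ * y⁻¹ = 1 := Subgroup.mem_bot.mp (h ▸
    Subgroup.commutator_mem_commutator (Subgroup.mem_top x) (Subgroup.mem_top y))
  congr 1
  exact mul_inv_eq_iff_eq_mul.mp (mul_inv_eq_one.mp hxy)
end Cfsg.Agent.S3202
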