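import Cfsg.Statements.S3203
import Cfsg.Agent.Lib.Transfer.Frobenius

set_option autoImplicit false
open Cfsg

namespace Cfsg.Agent.S3203

universe u

theorem elem_map {X Y : Type u} [Group X] [Group Y] (f : X →* Y) {A : Subgroup X}
    (hA : Cfsg.IsElementaryAbelian 2 A) : Cfsg.IsElementaryAbelian 2 (A.map f) := by
  refine ⟨⟨⟨fun u v => ?_⟩⟩, ?_⟩
  · obtain ⟨_, y, hy, rfl⟩ := u
    obtain ⟨_, w, hw, rfl⟩ := v
    refine Subtype.ext ?_
    show f y * f w = f w * f y
    have h : y * w = w * y := congrArg Subtype.val (hA.1.is_comm.comm (⟨y, hy⟩ : A) ⟨w, hw⟩)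
    rw [← map_mul, ← map_mul, h]
  · rintro _ ⟨y, hy, rfl⟩
    rw [← map_pow, hA.2 y hy, map_one]

theorem elem_comap {X Y : Type u} [Group X] [Group Y] (f : X →* Y) (hf : Function.Injective f)
    {A : Subgroup Y} (hA : Cfsg.IsElementaryAbelian 2 A) : Cfsg.IsElementaryAbelian 2 (A.comap f) :=
  ⟨⟨⟨fun u v => Subtype.ext (hf (by
    show f (u * v : X) = f (v * u : X)
    rw [map_mul, map_mul]
    exact congrArg Subtype.val (hA.1.is_comm.comm (⟨f u, u.2⟩ : A) ⟨f v, v.2⟩)))⟩⟩,
    fun a ha => hf (by rw [map_pow, map_one]; exact hA.2 (f a) ha)⟩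

theorem map_conj_conj {X : Type u} [Group X] (A : Subgroup X) (g h : X) :
    (A.map (MulAut.conj h).toMonoidHom).map (MulAut.conj g).toMonoidHom = A.map (MulAut.conj (g * h)).toMonoidHom := by
  rw [Subgroup.map_map]; congr 1; ext x; simp


/-- Let S be a Sylow 2-subgroup of a finite group G having exactly two subgroups A ≠ B that are maximal among its elementary abelian subgroups, with S = AB. Then A and B are each weakly closed in S with respect to G, and the normalizer of S normalizes both A and B. -/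
theorem result {G : Type*} [Group G] [Finite G] (S : Sylow 2 G)
    (A B : Subgroup ↥(S : Subgroup G)) (hAB : A ≠ B)
    (hA : Cfsg.IsElementaryAbelian 2 A ∧ ∀ C : Subgroup ↥(S : Subgroup G), Cfsg.IsElementaryAbelian 2 C → A ≤ C → C = A)
    (hB : Cfsg.IsElementaryAbelian 2 B ∧ ∀ C : Subgroup ↥(S : Subgroup G), Cfsg.IsElementaryAbelian 2 C → B ≤ C → C = B)
    (honly : ∀ C : Subgroup ↥(S : Subgroup G), Cfsg.IsElementaryAbelian 2 C →
      (∀ D : Subgroup ↥(S : Subgroup G), Cfsg.IsElementaryAbelian 2 D → C ≤ D → D = C) → C = A ∨ C = B)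
    (hprod : ∀ s : ↥(S : Subgroup G), ∃ a ∈ A, ∃ b ∈ B, a * b = s)
    (A' B' : Subgroup G) (hA' : A' = A.map (S : Subgroup G).subtype) (hB' : B' = B.map (S : Subgroup G).subtype) :
    Cfsg.IsWeaklyClosed A' (S : Subgroup G) ∧ Cfsg.IsWeaklyClosed B' (S : Subgroup G) ∧
      Subgroup.normalizer ((S : Subgroup G) : Set G) ≤ Subgroup.normalizer (A' : Set G) ⊓ Subgroup.normalizer (B' : Set G) := by
  classical
  haveI := Fact.mk Nat.prime_two
  -- both subgroups are normal in `S`
  have hnorm : ∀ A B : Subgroup ↥(S : Subgroup G), A ≠ B → Cfsg.IsElementaryAbelian 2 A →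
      (∀ C, Cfsg.IsElementaryAbelian 2 C → A ≤ C → C = A) →
      (∀ C, Cfsg.IsElementaryAbelian 2 C → (∀ D, Cfsg.IsElementaryAbelian 2 D → C ≤ D → D = C) → C = A ∨ C = B) →
      (∀ s : ↥(S : Subgroup G), ∃ a ∈ A, ∃ b ∈ B, a * b = s) → A.Normal := by
    intro A B hAB hA hAm honly hprod
    refine ⟨fun x hx s => ?_⟩
    obtain ⟨a, ha, b, hb, rfl⟩ := hprod s
    have h1 : b * x * b⁻¹ ∈ A := by
      have hmax : ∀ D, Cfsg.IsElementaryAbelian 2 D → A.map (MulAut.conj b).toMonoidHom ≤ D →
          D = A.map (MulAut.conj b).toMonoidHom := by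
        intro D hD hle
        have h := hAm _ (elem_map (MulAut.conj b⁻¹).toMonoidHom hD)
          fun y hy => ⟨b * y * b⁻¹, hle ⟨y, hy, rfl⟩, by simp [mul_assoc]⟩
        rw [← h, map_conj_conj, mul_inv_cancel]
        ext d; simp
      rcases honly _ (elem_map _ hA) hmax with h | h
      · exact h ▸ (⟨x, hx, rfl⟩ : b * x * b⁻¹ ∈ A.map (MulAut.conj b).toMonoidHom)
      · exfalso
        refine hAB (hAm B (h ▸ elem_map _ hA) fun y hy => ?_).symm
        have h2 : b * y * b⁻¹ ∈ B := h ▸ (⟨y, hy, rfl⟩ : b * y * b⁻¹ ∈ A.map (MulAut.conj b).toMonoidHom)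
        have := mul_mem (mul_mem (inv_mem hb) h2) hb
        simpa [mul_assoc] using this
    rw [show a * b * x * (a * b)⁻¹ = a * (b * x * b⁻¹) * a⁻¹ by group]
    exact mul_mem (mul_mem ha h1) (inv_mem ha)
  have honly' : ∀ C, Cfsg.IsElementaryAbelian 2 C → (∀ D, Cfsg.IsElementaryAbelian 2 D → C ≤ D → D = C) →
      C = B ∨ C = A := fun C h1 h2 => (honly C h1 h2).symm
  have hprod' : ∀ s : ↥(S : Subgroup G), ∃ b ∈ B, ∃ a ∈ A, b * a = s := fun s => by
    obtain ⟨a, ha, b, hb, h⟩ := hprod s⁻¹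
    exact ⟨b⁻¹, inv_mem hb, a⁻¹, inv_mem ha, by rw [← mul_inv_rev, h, inv_inv]⟩
  haveI hAn : A.Normal := hnorm A B hAB hA.1 hA.2 honly hprod
  haveI hBn : B.Normal := hnorm B A (Ne.symm hAB) hB.1 hB.2 honly' hprod'
  subst hA' hB'
  set A' := A.map (S : Subgroup G).subtype with hA'
  set B' := B.map (S : Subgroup G).subtype with hB'
  have hne : A' ≠ B' := fun h => hAB (Subgroup.map_injective (S : Subgroup G).subtype_injective h)
  have hext : ∀ W : Subgroup G, W ≤ (S : Subgroup G) → Cfsg.IsElementaryAbelian 2 W → W ≤ A' ∨ W ≤ B' := by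
    intro W hWS hW
    have hW0 := elem_comap (S : Subgroup G).subtype (S : Subgroup G).subtype_injective hW
    obtain ⟨D, hD, hDmax⟩ := Set.Finite.exists_maximal (s := {D : Subgroup ↥(S : Subgroup G) |
      Cfsg.IsElementaryAbelian 2 D ∧ W.comap (S : Subgroup G).subtype ≤ D}) (Set.toFinite _) ⟨_, hW0, le_rfl⟩
    have hWD : W ≤ D.map (S : Subgroup G).subtype := fun w hw => ⟨⟨w, hWS hw⟩, hD.2 hw, rfl⟩
    rcases honly D hD.1 fun E hE hle => le_antisymm (hDmax ⟨hE, hD.2.trans hle⟩ hle) hle with h | h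
    · exact Or.inl (by rwa [h] at hWD)
    · exact Or.inr (by rwa [h] at hWD)
  have hSN : ∀ C : Subgroup ↥(S : Subgroup G), C.Normal →
      (S : Subgroup G) ≤ Subgroup.normalizer ((C.map (S : Subgroup G).subtype : Subgroup G) : Set G) := by
    intro C hC s hs
    rw [Subgroup.mem_normalizer_iff]
    intro w
    refine ⟨?_, fun hw => ?_⟩
    · rintro ⟨c, hc, rfl⟩
      exact ⟨⟨s, hs⟩ * c * ⟨s, hs⟩⁻¹, hC.conj_mem c hc _, rfl⟩
    · obtain ⟨c, hc, hcw⟩ := hw
      refine ⟨⟨s, hs⟩⁻¹ * c * ⟨s, hs⟩, by simpa using hC.conj_mem c hc (⟨s, hs⟩⁻¹), ?_⟩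
      show s⁻¹ * (c : G) * s = w
      rw [show (c : G) = s * w * s⁻¹ from hcw]; group
  have hcard : ∀ (W : Subgroup G) (g : G), Nat.card ↥(W.map (MulAut.conj g).toMonoidHom) = Nat.card W :=
    fun W g => Subgroup.card_map_of_injective (MulAut.conj g).injective
  have hback : ∀ (W : Subgroup G) (g : G),
      (W.map (MulAut.conj g).toMonoidHom).map (MulAut.conj g⁻¹).toMonoidHom = W := fun W g => by
    rw [map_conj_conj, inv_mul_cancel]; ext d; simp
  have hmax : ∀ C : Subgroup ↥(S : Subgroup G), (∀ D, Cfsg.IsElementaryAbelian 2 D → C ≤ D → D = C) →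
      ∀ W : Subgroup G, W ≤ (S : Subgroup G) → Cfsg.IsElementaryAbelian 2 W →
        C.map (S : Subgroup G).subtype ≤ W → W = C.map (S : Subgroup G).subtype := by
    intro C hC W hWS hW hle
    refine le_antisymm (fun w hw => ?_) hle
    have h := hC _ (elem_comap (S : Subgroup G).subtype (S : Subgroup G).subtype_injective hW)
      fun c hc => hle ⟨c, hc, rfl⟩
    exact ⟨⟨w, hWS hw⟩, h ▸ hw, rfl⟩
  -- a conjugate of a member is one of the members if the conjugating element fixes `S`
  have hperm : ∀ C : Subgroup ↥(S : Subgroup G), Cfsg.IsElementaryAbelian 2 C →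
      (∀ D, Cfsg.IsElementaryAbelian 2 D → C ≤ D → D = C) →
      ∀ n ∈ Subgroup.normalizer ((S : Subgroup G) : Set G),
      (C.map (S : Subgroup G).subtype).map (MulAut.conj n).toMonoidHom = A' ∨
        (C.map (S : Subgroup G).subtype).map (MulAut.conj n).toMonoidHom = B' := by
    intro C hC hCm n hn
    set C' := C.map (S : Subgroup G).subtype with hC'
    have hW : C'.map (MulAut.conj n).toMonoidHom ≤ (S : Subgroup G) := by
      rintro _ ⟨c, hc, rfl⟩
      exact (Subgroup.mem_normalizer_iff.mp hn c).mp (Subgroup.map_subtype_le C hc)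
    have step : ∀ D : Subgroup ↥(S : Subgroup G), Cfsg.IsElementaryAbelian 2 D →
        C'.map (MulAut.conj n).toMonoidHom ≤ D.map (S : Subgroup G).subtype →
        C'.map (MulAut.conj n).toMonoidHom = D.map (S : Subgroup G).subtype := by
      intro D hD hle
      have h1 := hmax C hCm ((D.map (S : Subgroup G).subtype).map (MulAut.conj n⁻¹).toMonoidHom) ?_
        (elem_map _ (elem_map _ hD)) ?_
      · have h2 : C'.map (MulAut.conj n).toMonoidHom =
            ((D.map (S : Subgroup G).subtype).map (MulAut.conj n⁻¹).toMonoidHom).map (MulAut.conj n).toMonoidHom :=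
          congrArg (Subgroup.map (MulAut.conj n).toMonoidHom) h1.symm
        rw [h2, map_conj_conj, mul_inv_cancel]; ext d; simp
      · rintro _ ⟨d, hd, rfl⟩
        exact (Subgroup.mem_normalizer_iff.mp (inv_mem hn) d).mp (Subgroup.map_subtype_le D hd)
      · calc C' = _ := (hback C' n).symm
          _ ≤ _ := Subgroup.map_mono hle
    exact (hext _ hW (elem_map _ (elem_map _ hC))).imp (step A hA.1) (step B hB.1)
  have hNS : Subgroup.normalizer ((S : Subgroup G) : Set G) ≤
      Subgroup.normalizer (A' : Set G) ⊓ Subgroup.normalizer (B' : Set G) := by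
    intro n hn
    have hinj := Subgroup.map_injective (f := (MulAut.conj n).toMonoidHom) (MulAut.conj n).injective
    have fixes : A'.map (MulAut.conj n).toMonoidHom = A' := by
      refine (hperm A hA.1 hA.2 n hn).resolve_right fun hswap => ?_
      have hswap' : B'.map (MulAut.conj n).toMonoidHom = A' :=
        (hperm B hB.1 hB.2 n hn).resolve_right fun h => hne (hinj (hswap.trans h.symm))
      obtain ⟨e, m, hm, -, -, hpart⟩ := CfsgLib.Transfer.exists_pow_coprime_part (p := 2) n
      have hk : ∀ k, A'.map (MulAut.conj (n ^ k)).toMonoidHom = if Even k then A' else B' := by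
        intro k
        induction k with
        | zero => ext d; simp
        | succ k ih =>
          rw [pow_succ', ← map_conj_conj, ih]
          by_cases hk : Even k
          · rw [if_pos hk, if_neg (fun h => (Nat.even_add_one.mp h) hk)]; exact hswap
          · rw [if_neg hk, if_pos (Nat.even_add_one.mpr hk)]; exact hswap'
      have hmS : n ^ m ∈ (S : Subgroup G) := by
        have h2 := (CfsgLib.Transfer.isPGroup_zpowers (p := 2) ⟨e, hpart⟩).to_sup_of_normal_right'
          S.2 (Subgroup.zpowers_le.mpr (pow_mem hn m))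
        rw [← S.is_maximal' h2 le_sup_right]
        exact Subgroup.mem_sup_left (Subgroup.mem_zpowers _)
      have h := hk m
      rw [if_neg (fun h => hm (even_iff_two_dvd.mp h))] at h
      refine hne (le_antisymm ?_ ?_)
      · intro w hw
        rw [← h]
        refine ⟨(n ^ m)⁻¹ * w * n ^ m, ?_, show n ^ m * ((n ^ m)⁻¹ * w * n ^ m) * (n ^ m)⁻¹ = w by group⟩
        have := (Subgroup.mem_normalizer_iff.mp (inv_mem (hSN A hAn hmS)) w).mp hw
        rwa [inv_inv] at this
      · rw [← h]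
        rintro _ ⟨w, hw, rfl⟩
        exact (Subgroup.mem_normalizer_iff.mp (hSN A hAn hmS) w).mp hw
    have fixesB : B'.map (MulAut.conj n).toMonoidHom = B' :=
      (hperm B hB.1 hB.2 n hn).resolve_left fun h => hne (hinj (fixes.trans h.symm))
    exact Subgroup.mem_inf.mpr
      ⟨Subgroup.mem_normalizer_iff.mpr fun w =>
        ⟨fun hw => fixes ▸ ⟨w, hw, rfl⟩, fun hw => by
          obtain ⟨v, hv, h⟩ := fixes.symm ▸ hw
          rwa [← mul_left_cancel (mul_right_cancel h)]⟩,
      Subgroup.mem_normalizer_iff.mpr fun w =>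
        ⟨fun hw => fixesB ▸ ⟨w, hw, rfl⟩, fun hw => by
          obtain ⟨v, hv, h⟩ := fixesB.symm ▸ hw
          rwa [← mul_left_cancel (mul_right_cancel h)]⟩⟩
  have weak : ∀ A B : Subgroup ↥(S : Subgroup G), A.Normal → B.Normal →
      Cfsg.IsElementaryAbelian 2 A → Cfsg.IsElementaryAbelian 2 B →
      (∀ C, Cfsg.IsElementaryAbelian 2 C → A ≤ C → C = A) →
      A.map (S : Subgroup G).subtype ≠ B.map (S : Subgroup G).subtype →
      (∀ W : Subgroup G, W ≤ (S : Subgroup G) → Cfsg.IsElementaryAbelian 2 W →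
        W ≤ A.map (S : Subgroup G).subtype ∨ W ≤ B.map (S : Subgroup G).subtype) →
      Subgroup.normalizer ((S : Subgroup G) : Set G) ≤
        Subgroup.normalizer ((A.map (S : Subgroup G).subtype : Subgroup G) : Set G) →
      Cfsg.IsWeaklyClosed (A.map (S : Subgroup G).subtype) (S : Subgroup G) := by
    intro A B hAn hBn hA hB hAm hne hext hN
    set A' := A.map (S : Subgroup G).subtype with hA'
    set B' := B.map (S : Subgroup G).subtype with hB'
    refine ⟨Subgroup.map_subtype_le _, fun g hg => ?_⟩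
    rcases hext _ hg (elem_map _ (elem_map _ hA)) with h | h
    · exact Subgroup.eq_of_le_of_card_ge h (hcard A' g).ge
    exfalso
    set M := Subgroup.normalizer (A' : Set G) with hM
    set C := B'.map (MulAut.conj g⁻¹).toMonoidHom with hC
    have hAC : A' ≤ C := by rw [← hback A' g]; exact Subgroup.map_mono h
    have hCe : Cfsg.IsElementaryAbelian 2 C := elem_map _ (elem_map _ hB)
    have hCM : C ≤ M := fun c hc => by
      rw [hM, Subgroup.mem_normalizer_iff]
      intro w
      have hc' : ∀ v ∈ C, c * v * c⁻¹ = v := fun v hv => mul_inv_eq_iff_eq_mul.mpr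
        (congrArg Subtype.val (hCe.1.is_comm.comm (⟨c, hc⟩ : C) ⟨v, hv⟩))
      refine ⟨fun hw => by rwa [hc' w (hAC hw)], fun hw => ?_⟩
      have : w = c * w * c⁻¹ := mul_left_cancel (a := c) (mul_right_cancel (hc' _ (hAC hw)).symm)
      rwa [this]
    obtain ⟨R, hR⟩ := ((S.2.to_le (Subgroup.map_subtype_le B)).map (MulAut.conj g⁻¹).toMonoidHom
      |>.comap_of_injective M.subtype M.subtype_injective).exists_le_sylow
    obtain ⟨k, hk⟩ := MulAction.exists_smul_eq M R (S.subtype (hSN A hAn))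
    have hkS : C.map (MulAut.conj (k : G)).toMonoidHom ≤ (S : Subgroup G) := by
      rintro _ ⟨c, hc, rfl⟩
      have h1 : k * ⟨c, hCM hc⟩ * k⁻¹ ∈ (S.subtype (hSN A hAn) : Subgroup M) := by
        rw [← hk]; exact ⟨_, hR hc, rfl⟩
      exact h1
    have h3 := hmax A hAm _ hkS (elem_map _ hCe) fun w hw => ⟨(k : G)⁻¹ * w * k, hAC (by
      have := (Subgroup.mem_normalizer_iff.mp (inv_mem k.2) w).mp hw
      rwa [inv_inv] at this), by simp [mul_assoc]⟩
    have hc1 : Nat.card B' = Nat.card A' := by rw [← hcard B' g⁻¹, ← hC, ← hcard C (k : G), h3]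
    have hW : A'.map (MulAut.conj g).toMonoidHom = B' :=
      Subgroup.eq_of_le_of_card_ge h (by rw [hcard, hc1])
    -- fuse inside the normalizer of `B'`
    set N := Subgroup.normalizer (B' : Set G) with hNdef
    have hgS : ((g • S : Sylow 2 G) : Subgroup G) ≤ N := by
      rintro _ ⟨s, hs, rfl⟩
      show g * s * g⁻¹ ∈ N
      rw [hNdef, Subgroup.mem_normalizer_iff]
      intro w
      have hsN := Subgroup.mem_normalizer_iff.mp (hSN A hAn hs) (g⁻¹ * w * g)
      have e1 : ∀ v, v ∈ B' ↔ g⁻¹ * v * g ∈ A' := fun v => by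
        rw [← hW, Subgroup.mem_map_equiv, MulAut.conj_symm_apply]
      rw [e1 w, e1 (g * s * g⁻¹ * w * (g * s * g⁻¹)⁻¹), hsN]
      group
      exact Iff.rfl
    obtain ⟨l, hl⟩ := MulAction.exists_smul_eq N ((g • S).subtype hgS) (S.subtype (hSN B hBn))
    have hfix : ((l : G) * g) • S = S := by
      rw [mul_smul]
      refine Sylow.subtype_injective (hP := ?_) (hQ := hSN B hBn) ?_
      rotate_left
      · rw [← hl]; exact (Sylow.smul_subtype hgS l).symm
    have hn := hN (Sylow.smul_eq_iff_mem_normalizer.mp hfix)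
    refine hne (le_antisymm (fun w hw => ?_) (fun w hw => ?_))
    · have h4 := (Subgroup.mem_normalizer_iff.mp (inv_mem hn) w).mp hw
      rw [inv_inv] at h4
      have h5 : g * (((l : G) * g)⁻¹ * w * ((l : G) * g)) * g⁻¹ ∈ B' := hW ▸ ⟨_, h4, rfl⟩
      rw [show g * (((l : G) * g)⁻¹ * w * ((l : G) * g)) * g⁻¹ = (l : G)⁻¹ * w * ((l : G)⁻¹)⁻¹ by group] at h5
      exact (Subgroup.mem_normalizer_iff.mp (inv_mem l.2) w).mpr h5
    · have h4 := (Subgroup.mem_normalizer_iff.mp (inv_mem l.2) w).mp hw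
      rw [← hW] at h4
      obtain ⟨v, hv, hv'⟩ := h4
      have hw' : w = ((l : G) * g) * v * ((l : G) * g)⁻¹ := by
        rw [show ((l : G) * g) * v * ((l : G) * g)⁻¹ = (l : G) * (g * v * g⁻¹) * (l : G)⁻¹ by group,
          show g * v * g⁻¹ = (l : G)⁻¹ * w * ((l : G)⁻¹)⁻¹ from hv']
        group
      rw [hw']
      exact (Subgroup.mem_normalizer_iff.mp hn v).mp hv
  exact ⟨weak A B hAn hBn hA.1 hB.1 hA.2 hne hext fun n hn => (hNS hn).1,
    weak B A hBn hAn hB.1 hA.1 hB.2 (Ne.symm hne) (fun W h1 h2 => (hext W h1 h2).symm) fun n hn => (hNS hn).2,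
    hNS⟩
end Cfsg.Agent.S3203
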