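import Cfsg.Statements.S3206
import Cfsg.Agent.Lib.AutPSL.ReeTypeRigid

set_option autoImplicit false
open Cfsg

namespace Cfsg.Agent.S3206

/-- Let G be a non-abelian finite simple group with abelian Sylow 2-subgroups, and let t be an involution of G whose centralizer is a maximal subgroup of G and is the direct product of the subgroup generated by t with a subgroup E having a normal subgroup isomorphic to PSL(2, q), q odd and greater than 3, with trivial centralizer in E. Then every finite perfect group having a central 2-subgroup with quotient isomorphic to G has that central subgroup trivial (G has no nontrivial perfect central extension by a 2-group), and every automorphism of G of 2-power order that fixes every element of some Sylow 2-subgroup of G is inner. -/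
theorem result {G : Type*} [Group G] [Finite G] [IsSimpleGroup G]
    (hG : ¬ IsMulCommutative G) (hab : ∀ S : Sylow 2 G, IsMulCommutative ↥(S : Subgroup G))
    (t : G) (ht : orderOf t = 2) (hmax : IsCoatom (Subgroup.centralizer ({t} : Set G)))
    (E : Subgroup G) (hE : Cfsg.IsInternalDirectProduct (Subgroup.zpowers t) E (Subgroup.centralizer ({t} : Set G)))
    {F : Type*} [Field F] [Fintype F] (hFo : Odd (Fintype.card F)) (hF3 : 3 < Fintype.card F)
    (N : Subgroup ↥E) [N.Normal] (hN : Nonempty (↥N ≃* Matrix.ProjectiveSpecialLinearGroup (Fin 2) F))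
    (hNc : Subgroup.centralizer (N : Set ↥E) = ⊥) :
    (∀ (L : Type) (_ : Group L) (_ : Finite L) (Z : Subgroup L) (_ : Z.Normal), commutator L = ⊤ → Z ≤ Subgroup.center L →
        IsPGroup 2 ↥Z → Nonempty (L ⧸ Z ≃* G) → Z = ⊥) ∧
    (∀ (φ : G ≃* G) (k : ℕ), φ ^ (2 ^ k) = 1 → (∃ S : Sylow 2 G, ∀ s ∈ (S : Subgroup G), φ s = s) →
        ∃ g : G, ∀ x : G, φ x = g * x * g⁻¹) := by
  classical
  obtain ⟨e⟩ := hN
  obtain ⟨hzC, hEC, hcomm, hinf, hsup⟩ := hE
  set C := Subgroup.centralizer ({t} : Set G) with hCdef
  have htC : ∀ c ∈ C, c * t = t * c := fun c hc => Subgroup.mem_centralizer_singleton_iff.mp hc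
  have hperf : commutator G = ⊤ := by
    refine ((inferInstance : (commutator G).Normal).eq_bot_or_eq_top).resolve_left fun h => hG ?_
    exact ⟨⟨fun a b => commutatorElement_eq_one_iff_mul_comm.mp (by
      rw [← Subgroup.mem_bot, ← h]
      exact Subgroup.commutator_mem_commutator (Subgroup.mem_top a) (Subgroup.mem_top b))⟩⟩
  have hdec : ∀ c ∈ C, ∃ x : ↥E, c = x ∨ c = t * x := by
    intro c hc
    rw [← hsup] at hc
    have hle : Subgroup.zpowers t ≤ Subgroup.normalizer (E : Set G) := by
      refine le_trans (fun a ha => Subgroup.mem_centralizer_iff.mpr fun x hx => (hcomm a ha x hx).symm)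
        (Subgroup.centralizer_le_normalizer _)
    have h2 : c ∈ ((Subgroup.zpowers t ⊔ E : Subgroup G) : Set G) := hc
    rw [Subgroup.coe_mul_of_left_le_normalizer_right _ _ hle] at h2
    obtain ⟨a, ha, x, hx, rfl⟩ := h2
    obtain ⟨i, rfl⟩ := Subgroup.mem_zpowers_iff.mp ha
    have htt : t ^ (2 : ℤ) = 1 := by
      have := pow_orderOf_eq_one t
      rw [ht] at this
      exact_mod_cast this
    rcases Int.even_or_odd i with ⟨j, rfl⟩ | ⟨j, rfl⟩
    · exact ⟨⟨x, hx⟩, Or.inl (by show t ^ (j + j) * x = x; rw [← two_mul, zpow_mul, htt, one_zpow, one_mul])⟩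
    · exact ⟨⟨x, hx⟩, Or.inr (by show t ^ (2 * j + 1) * x = t * x; rw [zpow_add, zpow_mul, htt, one_zpow, one_mul, zpow_one])⟩
  let ι : Matrix.ProjectiveSpecialLinearGroup (Fin 2) F →* G :=
    E.subtype.comp (N.subtype.comp e.symm.toMonoidHom)
  have hcomm_t : ∀ x : ↥E, t * (x : G) = (x : G) * t := fun x =>
    hcomm t (Subgroup.mem_zpowers t) x x.2
  have hnotE : t ∉ E := by
    intro hmem
    have h1 : t ∈ Subgroup.zpowers t ⊓ E := ⟨Subgroup.mem_zpowers t, hmem⟩
    rw [hinf, Subgroup.mem_bot] at h1
    rw [h1, orderOf_one] at ht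
    omega
  have hrange : ∀ y : ↥E, y ∈ N → (y : G) ∈ ι.range := fun y hy =>
    ⟨e ⟨y, hy⟩, by simp [ι]⟩
  let d : CfsgLib.ReeType.Setup G F :=
    { perfect := hperf
      abelian := hab
      nab := hG
      odd := by rwa [Nat.card_eq_fintype_card]
      big := by rwa [Nat.card_eq_fintype_card]
      t := t
      ht := ht
      C := C
      hC := hCdef
      ι := ι
      inj := by
        intro x y h
        exact e.symm.injective (Subtype.ext (Subtype.ext h))
      le := by
        rintro _ ⟨x, rfl⟩
        exact hEC ((e.symm x : ↥E)).2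
      norm := by
        intro c hc x
        obtain ⟨y, rfl | rfl⟩ := hdec c hc
        · exact hrange (y * (e.symm x : ↥E) * y⁻¹) ((inferInstance : N.Normal).conj_mem _ (e.symm x).2 y)
        · have h2 := hrange (y * (e.symm x : ↥E) * y⁻¹)
            ((inferInstance : N.Normal).conj_mem _ (e.symm x).2 y)
          have h3 : t * (y : G) * ι x * (t * (y : G))⁻¹ = ((y * (e.symm x : ↥E) * y⁻¹ : ↥E) : G) := by
            calc t * (y : G) * ι x * (t * (y : G))⁻¹
                = t * ((y * (e.symm x : ↥E) * y⁻¹ : ↥E) : G) * t⁻¹ := by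
                  simp [ι, mul_assoc]
              _ = _ := by rw [hcomm_t, mul_inv_cancel_right]
          exact h3 ▸ h2
      notmem := fun ⟨x, hx⟩ => hnotE (hx ▸ ((e.symm x : ↥E)).2)
      cent := by
        intro c hc h
        obtain ⟨y, hy⟩ := hdec c hc
        have hy1 : y = 1 := by
          rw [← Subgroup.mem_bot, ← hNc]
          refine Subgroup.mem_centralizer_iff.mpr fun n hn => Subtype.ext ?_
          have := h (e ⟨n, hn⟩)
          simp only [ι, MonoidHom.comp_apply, MulEquiv.coe_toMonoidHom, MulEquiv.symm_apply_apply,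
            Subgroup.coe_subtype] at this
          rcases hy with rfl | rfl
          · exact this.symm
          · rw [mul_assoc, ← mul_assoc (n : G) t, ← hcomm_t n, mul_assoc] at this
            exact (mul_left_cancel this).symm
        rcases hy with rfl | rfl
        · exact Or.inl (by rw [hy1]; rfl)
        · exact Or.inr (by rw [hy1]; exact mul_one t) }
  refine ⟨fun L _ _ Z _ hL hZ hp hiso => ?_, fun φ k hk ⟨S, hS⟩ => d.inner hmax φ k hk S hS⟩
  obtain ⟨f⟩ := hiso
  let π : L →* G := f.toMonoidHom.comp (QuotientGroup.mk' Z)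
  have hker : π.ker = Z := by
    ext x
    simp [π]
  rw [← hker]
  exact d.multiplier hL π (f.surjective.comp (QuotientGroup.mk'_surjective Z)) (hker.le.trans hZ) (hker.symm ▸ hp)

end Cfsg.Agent.S3206
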