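import Cfsg.Statements.S3208
import Mathlib


set_option autoImplicit false
open Cfsg

namespace Cfsg.Agent.S3208

/-- Let j be an involution of a finite group G, H a subgroup of G, and T a Sylow 2-subgroup of H ∩ C_G(j) containing j such that ⟨j⟩ is a characteristic subgroup of T. Then T is a Sylow 2-subgroup of H. -/
theorem result {G : Type*} [Group G] [Finite G]
    (j : G) (hj : orderOf j = 2) (H T : Subgroup G) (hT : T ≤ H ⊓ Subgroup.centralizer ({j} : Set G)) (h2 : IsPGroup 2 ↥T)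
    (hSyl : ¬ 2 ∣ T.relIndex (H ⊓ Subgroup.centralizer ({j} : Set G))) (hjT : j ∈ T)
    (hchar : ((Subgroup.zpowers j).subgroupOf T).Characteristic) :
    ¬ 2 ∣ T.relIndex H := by
  haveI := Fact.mk Nat.prime_two
  have hTH : T ≤ H := hT.trans inf_le_left
  intro hdvd
  have hp : IsPGroup 2 ↥(T.subgroupOf H) := h2.of_equiv (Subgroup.subgroupOfEquivOfLe hTH).symm
  obtain ⟨P, hP⟩ := hp.exists_le_sylow
  have hlt : (T.subgroupOf H).subgroupOf (P : Subgroup H) < ⊤ := lt_top_iff_ne_top.mpr fun h => by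
    have hPT : (P : Subgroup H) = T.subgroupOf H := le_antisymm (Subgroup.subgroupOf_eq_top.mp h) hP
    exact P.not_dvd_index (by rw [hPT]; exact hdvd)
  haveI : Group.IsNilpotent (P : Subgroup H) := P.2.isNilpotent
  obtain ⟨⟨⟨g, hgH⟩, hgP⟩, hgN, hgT⟩ :=
    SetLike.exists_of_lt (Group.normalizerCondition_of_isNilpotent _ hlt)
  rw [Subgroup.mem_normalizer_iff] at hgN
  have hgT' : ∀ a, a ∈ T ↔ g * a * g⁻¹ ∈ T := fun a => by
    refine ⟨fun ha => (hgN ⟨⟨a, hTH ha⟩, hP ha⟩).mp ha, fun ha => ?_⟩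
    have haP : (⟨g, hgH⟩ : H)⁻¹ * ⟨g * a * g⁻¹, hTH ha⟩ * ⟨g, hgH⟩ ∈ (P : Subgroup H) :=
      mul_mem (mul_mem (inv_mem hgP) (hP ha)) hgP
    have h1 := (hgN ⟨_, haP⟩).mpr
      (show g * (g⁻¹ * (g * a * g⁻¹) * g) * g⁻¹ ∈ T by simpa [mul_assoc] using ha)
    change g⁻¹ * (g * a * g⁻¹) * g ∈ T at h1
    simpa [mul_assoc] using h1
  -- conjugation by `g` on `T` fixes `j`
  let φ : MulAut T :=
    { toFun := fun a => ⟨g * a * g⁻¹, (hgT' a).mp a.2⟩
      invFun := fun a => ⟨g⁻¹ * a * g, (hgT' _).mpr (by simp [mul_assoc])⟩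
      left_inv := fun a => Subtype.ext (by simp [mul_assoc])
      right_inv := fun a => Subtype.ext (by simp [mul_assoc])
      map_mul' := fun a b => Subtype.ext (by simp [mul_assoc]) }
  have hj1 : j ≠ 1 := fun e => by rw [e, orderOf_one] at hj; omega
  have h1 : (⟨j, hjT⟩ : T) ∈ ((Subgroup.zpowers j).subgroupOf T).comap φ.toMonoidHom := by
    rw [hchar.fixed φ]; exact Subgroup.mem_zpowers j
  have h2' : g * j * g⁻¹ ∈ Subgroup.zpowers j := h1
  obtain ⟨k, hk⟩ := Subgroup.mem_zpowers_iff.mp h2'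
  have hcomm : g * j * g⁻¹ = j := by
    rw [← hk]
    rcases Int.even_or_odd' k with ⟨i, rfl | rfl⟩
    · exfalso
      rw [zpow_mul, zpow_two, ← pow_two, ← hj, pow_orderOf_eq_one, one_zpow] at hk
      exact hj1 (by simpa using conj_eq_one_iff.mp hk.symm)
    · rw [zpow_add, zpow_mul, zpow_two, ← pow_two, ← hj, pow_orderOf_eq_one, one_zpow, one_mul, zpow_one]
  -- so `g` lies in `H ⊓ C(j)` and normalizes `T`, a Sylow subgroup there
  set K := H ⊓ Subgroup.centralizer ({j} : Set G)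
  have hgK : g ∈ K := Subgroup.mem_inf.mpr
    ⟨hgH, Subgroup.mem_centralizer_singleton_iff.mpr (mul_inv_eq_iff_eq_mul.mp hcomm)⟩
  let Q : Sylow 2 K := (h2.of_equiv (Subgroup.subgroupOfEquivOfLe hT).symm).toSylow hSyl
  have hle : T.subgroupOf K ≤ ((P : Subgroup H).map H.subtype).subgroupOf K := fun a ha => by
    exact ⟨⟨(a : G), hTH ha⟩, hP ha, rfl⟩
  have hPK : IsPGroup 2 ↥(((P : Subgroup H).map H.subtype).subgroupOf K) :=
    (P.2.map H.subtype).comap_of_injective K.subtype K.subtype_injective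
  have heq := Q.is_maximal' hPK hle
  refine hgT ?_
  have : (⟨g, hgK⟩ : K) ∈ (Q : Subgroup K) := heq ▸ (⟨⟨g, hgH⟩, hgP, rfl⟩ : g ∈ (P : Subgroup H).map H.subtype)
  exact this
end Cfsg.Agent.S3208
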