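import Cfsg.Statements.S3209
import Cfsg.Agent.Lib.SL2.Facts

set_option autoImplicit false
open Cfsg

namespace Cfsg.Agent.S3209

open CfsgLib.SL2 Matrix
open scoped MatrixGroups

/-- The facts about square roots of `1` and `j` in a copy of `SL(2, q)`, `q` odd, containing the involution `j`. -/
theorem facts {G : Type*} [Group G] {K : Type*} [Field K] [Fintype K] (hK : Odd (Fintype.card K))
    (L : Subgroup G) (e : ↥L ≃* SL(2, K)) {j : G} (hj : orderOf j = 2) (hjL : j ∈ L) :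
    (∀ a ∈ L, a * a = 1 → a = 1 ∨ a = j) ∧ (∃ a ∈ L, a * a = j) ∧
      (∀ a ∈ L, ∀ a' ∈ L, a * a = j → a' * a' = j → ∃ g ∈ L, g * a * g⁻¹ = a') := by
  have h2 : (2 : K) ≠ 0 := odd_card_two_ne_zero (by rwa [Nat.card_eq_fintype_card])
  have hej : e ⟨j, hjL⟩ = -1 := by
    have ho : orderOf (e ⟨j, hjL⟩) = 2 := by rw [MulEquiv.orderOf_eq, Subgroup.orderOf_mk, hj]
    refine eq_neg_one_of_mul_self h2 ?_ fun h => ?_
    · rw [← pow_two]; exact orderOf_dvd_iff_pow_eq_one.mp ho.dvd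
    · rw [h, orderOf_one] at ho; omega
  refine ⟨fun a ha h => ?_, ?_, fun a ha a' ha' h h' => ?_⟩
  · by_cases h1 : a = 1
    · exact Or.inl h1
    · refine Or.inr (congrArg Subtype.val (e.injective ((eq_neg_one_of_mul_self h2 ?_ ?_).trans hej.symm) :
        (⟨a, ha⟩ : L) = ⟨j, hjL⟩))
      · rw [← map_mul, show (⟨a, ha⟩ : L) * ⟨a, ha⟩ = 1 from Subtype.ext h, map_one]
      · intro h'
        exact h1 (congrArg Subtype.val (e.injective (h'.trans (map_one e).symm) : (⟨a, ha⟩ : L) = 1))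
  · let w : SL(2, K) := ⟨!![0, -1; 1, 0], by simp⟩
    have hw : w * w = -1 := by
      apply Subtype.ext
      show (!![0, -1; 1, 0] : Matrix (Fin 2) (Fin 2) K) * !![0, -1; 1, 0] = ((-1 : SL(2, K)) : Matrix (Fin 2) (Fin 2) K)
      rw [Matrix.SpecialLinearGroup.coe_neg, Matrix.SpecialLinearGroup.coe_one]
      ext i k
      fin_cases i <;> fin_cases k <;> simp
    refine ⟨e.symm w, (e.symm w).2, ?_⟩
    have : e.symm w * e.symm w = ⟨j, hjL⟩ := by rw [← map_mul, hw, ← hej, MulEquiv.symm_apply_apply]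
    exact congrArg Subtype.val this
  · have key : ∀ (c : G) (hc : c ∈ L), c * c = j → e ⟨c, hc⟩ * e ⟨c, hc⟩ = -1 := by
      intro c hc hcc
      rw [← map_mul, ← hej]
      exact congrArg e (Subtype.ext hcc)
    have hx := key a ha h
    have hy := key a' ha' h'
    obtain ⟨g, hg⟩ : ∃ g, g * e ⟨a, ha⟩ * g⁻¹ = e ⟨a', ha'⟩ := by
      refine isConj_of_trace (regular_of_mul_self h2 hx).nonScalar (regular_of_mul_self h2 hy).nonScalar ?_
        (Or.inl (regular_of_mul_self h2 hx))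
      rw [trace_eq_zero_of_mul_self h2 hx, trace_eq_zero_of_mul_self h2 hy]
    refine ⟨e.symm g, (e.symm g).2, ?_⟩
    have := congrArg e.symm hg
    simp only [map_mul, map_inv, MulEquiv.symm_apply_apply] at this
    exact congrArg Subtype.val this

/-- Let L₁ ≅ SL₂(q₁) and L₂ ≅ SL₂(q₂), q₁ and q₂ odd, be elementwise-commuting subgroups of a finite group meeting in ⟨j⟩ for an involution j. Then L₁L₂ has exactly two conjugacy classes of involutions: the central involution j, and one further class (there is an involution x ≠ j in L₁L₂, and every involution of L₁L₂ other than j is conjugate to x by an element of L₁L₂). -/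
theorem result {G : Type*} [Group G] [Finite G]
    {F₁ : Type*} [Field F₁] [Fintype F₁] {F₂ : Type*} [Field F₂] [Fintype F₂]
    (hF₁ : Odd (Fintype.card F₁)) (hF₂ : Odd (Fintype.card F₂)) (L₁ L₂ : Subgroup G)
    (e₁ : ↥L₁ ≃* Matrix.SpecialLinearGroup (Fin 2) F₁) (e₂ : ↥L₂ ≃* Matrix.SpecialLinearGroup (Fin 2) F₂)
    (hc : ∀ x ∈ L₁, ∀ y ∈ L₂, x * y = y * x) (j : G) (hj : orderOf j = 2) (hm : L₁ ⊓ L₂ = Subgroup.zpowers j) :
    ∃ x ∈ L₁ ⊔ L₂, orderOf x = 2 ∧ x ≠ j ∧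
      ∀ y ∈ L₁ ⊔ L₂, orderOf y = 2 → y = j ∨ ∃ g ∈ L₁ ⊔ L₂, g * x * g⁻¹ = y := by
  classical
  have hjm : j ∈ L₁ ⊓ L₂ := hm.ge (Subgroup.mem_zpowers j)
  obtain ⟨sq₁, ⟨a₀, ha₀, ha₀'⟩, conj₁⟩ := facts hF₁ L₁ e₁ hj hjm.1
  obtain ⟨sq₂, ⟨b₀, hb₀, hb₀'⟩, conj₂⟩ := facts hF₂ L₂ e₂ hj hjm.2
  have hjj : j * j = 1 := by rw [← pow_two]; exact orderOf_dvd_iff_pow_eq_one.mp hj.dvd
  have hj1 : j ≠ 1 := fun h => by rw [h, orderOf_one] at hj; omega
  have hJ : ∀ c, c ∈ L₁ → c ∈ L₂ → c = 1 ∨ c = j := by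
    intro c h1 h2
    refine sq₁ c h1 ?_
    obtain ⟨i, rfl⟩ := Subgroup.mem_zpowers_iff.mp (hm.le (Subgroup.mem_inf.mpr ⟨h1, h2⟩))
    rw [← (Commute.refl j).mul_zpow i, hjj, _root_.one_zpow]
  have hsq : ∀ a ∈ L₁, ∀ b ∈ L₂, a * b * (a * b) = a * a * (b * b) := fun a ha b hb => by
    calc a * b * (a * b) = a * (b * a) * b := by group
      _ = a * (a * b) * b := by rw [hc a ha b hb]
      _ = a * a * (b * b) := by group
  have hne : ∀ k, k ∈ L₁ ⊓ L₂ → a₀ * b₀ ≠ k := by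
    intro k hk h
    have h1 : a₀ ∈ L₁ ⊓ L₂ := by
      refine Subgroup.mem_inf.mpr ⟨ha₀, ?_⟩
      rw [eq_mul_inv_of_mul_eq h]
      exact mul_mem hk.2 (inv_mem hb₀)
    rcases hJ a₀ h1.1 h1.2 with h2 | h2 <;> rw [h2] at ha₀'
    · exact hj1 (by rw [← ha₀', mul_one])
    · exact hj1 (by rw [← hjj, ha₀'])
  refine ⟨a₀ * b₀, mul_mem (Subgroup.mem_sup_left ha₀) (Subgroup.mem_sup_right hb₀), ?_, hne j hjm, ?_⟩
  · refine orderOf_eq_prime ?_ (hne 1 (one_mem _))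
    rw [pow_two, hsq a₀ ha₀ b₀ hb₀, ha₀', hb₀', hjj]
  intro y hy hy2
  obtain ⟨a, ha, b, hb, rfl⟩ : ∃ a ∈ L₁, ∃ b ∈ L₂, y = a * b := by
    rw [Subgroup.sup_eq_closure] at hy
    clear hy2
    induction hy using Subgroup.closure_induction with
    | mem x hx =>
      rcases hx with hx | hx
      · exact ⟨x, hx, 1, one_mem _, (mul_one x).symm⟩
      · exact ⟨1, one_mem _, x, hx, (one_mul x).symm⟩
    | one => exact ⟨1, one_mem _, 1, one_mem _, (one_mul 1).symm⟩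
    | mul x y _ _ hx hy =>
      obtain ⟨a, ha, b, hb, rfl⟩ := hx
      obtain ⟨a', ha', b', hb', rfl⟩ := hy
      refine ⟨a * a', mul_mem ha ha', b * b', mul_mem hb hb', ?_⟩
      calc a * b * (a' * b') = a * (b * a') * b' := by group
        _ = a * (a' * b) * b' := by rw [hc a' ha' b hb]
        _ = a * a' * (b * b') := by group
    | inv x _ hx =>
      obtain ⟨a, ha, b, hb, rfl⟩ := hx
      exact ⟨a⁻¹, inv_mem ha, b⁻¹, inv_mem hb, by rw [_root_.mul_inv_rev, hc _ (inv_mem ha) _ (inv_mem hb)]⟩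
  have h1 : a * a * (b * b) = 1 := by
    rw [← hsq a ha b hb, ← pow_two]; exact orderOf_dvd_iff_pow_eq_one.mp hy2.dvd
  have hbb : b * b = (a * a)⁻¹ := eq_inv_of_mul_eq_one_right h1
  have haL2 : a * a ∈ L₂ := by
    have := inv_mem (mul_mem hb hb)
    rwa [hbb, inv_inv] at this
  rcases hJ _ (mul_mem ha ha) haL2 with h | h
  · left
    rw [h, inv_one] at hbb
    rcases sq₁ a ha h with rfl | rfl <;> rcases sq₂ b hb hbb with rfl | rfl
    · rw [mul_one, orderOf_one] at hy2; omega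
    · exact one_mul _
    · exact mul_one _
    · rw [hjj, orderOf_one] at hy2; omega
  · right
    rw [h, inv_eq_of_mul_eq_one_right hjj] at hbb
    obtain ⟨g₁, hg₁, hg₁'⟩ := conj₁ a₀ ha₀ a ha ha₀' h
    obtain ⟨g₂, hg₂, hg₂'⟩ := conj₂ b₀ hb₀ b hb hb₀' hbb
    refine ⟨g₁ * g₂, mul_mem (Subgroup.mem_sup_left hg₁) (Subgroup.mem_sup_right hg₂), ?_⟩
    calc g₁ * g₂ * (a₀ * b₀) * (g₁ * g₂)⁻¹ = g₁ * ((g₂ * a₀) * b₀ * g₂⁻¹) * g₁⁻¹ := by group
      _ = g₁ * ((a₀ * g₂) * b₀ * g₂⁻¹) * g₁⁻¹ := by rw [hc a₀ ha₀ g₂ hg₂]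
      _ = g₁ * a₀ * ((g₂ * b₀ * g₂⁻¹) * g₁⁻¹) := by group
      _ = g₁ * a₀ * (g₁⁻¹ * b) := by rw [hg₂', hc g₁⁻¹ (inv_mem hg₁) b hb]
      _ = (g₁ * a₀ * g₁⁻¹) * b := by group
      _ = a * b := by rw [hg₁']
end Cfsg.Agent.S3209
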