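import Cfsg.Statements.S3210
import Cfsg.Agent.Lib.SL2.Facts

set_option autoImplicit false
open Cfsg

namespace Cfsg.Agent.S3210

open CfsgLib.SL2 Matrix
open scoped MatrixGroups

universe u v

variable {F : Type v} [Field F]

/-- The upper unipotent element. -/
def up : SL(2, F) := ⟨!![1, 1; 0, 1], by simp⟩

/-- The lower unipotent element. -/
def dn : SL(2, F) := ⟨!![1, 0; 1, 1], by simp⟩

theorem up_val : ((up : SL(2, F)) : Matrix (Fin 2) (Fin 2) F) = !![1, 1; 0, 1] := rfl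

theorem dn_val : ((dn : SL(2, F)) : Matrix (Fin 2) (Fin 2) F) = !![1, 0; 1, 1] := rfl

theorem up_dn_ne : (up : SL(2, F)) * dn ≠ dn * up := by
  intro h
  have h0 := congrArg Subtype.val h
  rw [Matrix.SpecialLinearGroup.coe_mul, Matrix.SpecialLinearGroup.coe_mul, up_val, dn_val] at h0
  have h' := congrFun (congrFun h0 0) 0
  simp [Matrix.mul_apply, Fin.sum_univ_two] at h'

theorem up_pow (k : ℕ) : ((up : SL(2, F)) ^ k : SL(2, F)).1 = !![1, (k : F); 0, 1] := by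
  induction k with
  | zero => simp [Matrix.one_fin_two]
  | succ k ih => rw [pow_succ, Matrix.SpecialLinearGroup.coe_mul, ih]; simp [up, Matrix.mul_fin_two, add_comm]

theorem dn_pow (k : ℕ) : ((dn : SL(2, F)) ^ k : SL(2, F)).1 = !![1, 0; (k : F), 1] := by
  induction k with
  | zero => simp [Matrix.one_fin_two]
  | succ k ih => rw [pow_succ, Matrix.SpecialLinearGroup.coe_mul, ih]; simp [dn, Matrix.mul_fin_two]

theorem unipotent_odd [Fintype F] (hF : Odd (Fintype.card F)) :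
    Odd (orderOf (up : SL(2, F))) ∧ Odd (orderOf (dn : SL(2, F))) := by
  constructor
  · refine hF.of_dvd_nat (orderOf_dvd_of_pow_eq_one (Subtype.ext ?_))
    rw [up_pow, FiniteField.cast_card_eq_zero, Matrix.SpecialLinearGroup.coe_one, Matrix.one_fin_two]
  · refine hF.of_dvd_nat (orderOf_dvd_of_pow_eq_one (Subtype.ext ?_))
    rw [dn_pow, FiniteField.cast_card_eq_zero, Matrix.SpecialLinearGroup.coe_one, Matrix.one_fin_two]

theorem central_of_commute {b : SL(2, F)} (h1 : b * up = up * b) (h2 : b * dn = dn * b) :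
    b ∈ Subgroup.center SL(2, F) := by
  rw [mem_center_iff_not_nonScalar, nonScalar_iff]
  have h1' := congrArg Subtype.val h1
  have h2' := congrArg Subtype.val h2
  rw [Matrix.SpecialLinearGroup.coe_mul, Matrix.SpecialLinearGroup.coe_mul, up_val] at h1'
  rw [Matrix.SpecialLinearGroup.coe_mul, Matrix.SpecialLinearGroup.coe_mul, dn_val] at h2'
  have e1 := congrFun (congrFun h1' 0) 0
  have e2 := congrFun (congrFun h1' 0) 1
  have e3 := congrFun (congrFun h2' 0) 0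
  simp [Matrix.mul_apply, Fin.sum_univ_two] at e1 e2 e3
  push Not
  refine ⟨?_, ?_, ?_⟩
  · linear_combination e3
  · linear_combination e1
  · linear_combination e2

theorem factor_central {N M : Subgroup SL(2, F)} (hc : ∀ n ∈ N, ∀ m ∈ M, n * m = m * n)
    (hprod : ∀ g, ∃ n ∈ N, ∃ m ∈ M, n * m = g) :
    N ≤ Subgroup.center SL(2, F) ∨ M ≤ Subgroup.center SL(2, F) := by
  by_contra h
  push Not at h
  obtain ⟨n, hn, hn'⟩ := SetLike.not_le_iff_exists.mp h.1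
  obtain ⟨m, hm, hm'⟩ := SetLike.not_le_iff_exists.mp h.2
  rw [mem_center_iff_not_nonScalar, not_not] at hn' hm'
  obtain ⟨a, ha, b, hb, hab⟩ := hprod up
  obtain ⟨c, hcN, d, hd, hcd⟩ := hprod dn
  apply up_dn_ne (F := F)
  rw [← hab, ← hcd]
  have hbd : b * d = d * b := cent_comm hn' (mem_cent_iff.mpr (hc n hn b hb)) (mem_cent_iff.mpr (hc n hn d hd))
  have hac : a * c = c * a :=
    cent_comm hm' (mem_cent_iff.mpr (hc a ha m hm).symm) (mem_cent_iff.mpr (hc c hcN m hm).symm)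
  exact ((Commute.mul_right hac (hc a ha d hd)).mul_left (Commute.mul_right (hc c hcN b hb).symm hbd)).eq

theorem central_mem {G : Type u} [Group G] {K : Type*} [Field K] [Fintype K] (hK : Odd (Fintype.card K))
    (L : Subgroup G) (e : ↥L ≃* SL(2, K)) {j : G} (hj : orderOf j = 2) (hjL : j ∈ L) (g : L)
    (hg : e g ∈ Subgroup.center SL(2, K)) : (g : G) ∈ Subgroup.zpowers j := by
  have h2 : (2 : K) ≠ 0 := odd_card_two_ne_zero (by rwa [Nat.card_eq_fintype_card])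
  have hej : e ⟨j, hjL⟩ = -1 := by
    have ho : orderOf (e ⟨j, hjL⟩) = 2 := by rw [MulEquiv.orderOf_eq, Subgroup.orderOf_mk, hj]
    refine eq_neg_one_of_mul_self h2 ?_ fun h => ?_
    · rw [← pow_two]; exact orderOf_dvd_iff_pow_eq_one.mp ho.dvd
    · rw [h, orderOf_one] at ho; omega
  rcases eq_one_or_eq_neg_one_of_mem_center _ hg with h | h
  · rw [show g = 1 from e.injective (h.trans (map_one e).symm)]; exact one_mem _
  · rw [show g = ⟨j, hjL⟩ from e.injective (h.trans hej.symm)]; exact Subgroup.mem_zpowers j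

theorem not_abelian {G : Type u} [Group G] {K : Type*} [Field K] (M : Subgroup G) (e : M ≃* SL(2, K)) :
    ¬ ∀ x ∈ M, ∀ y ∈ M, x * y = y * x := by
  intro h
  refine up_dn_ne (F := K) ?_
  have := congrArg e (Subtype.ext (h _ (e.symm up).2 _ (e.symm dn).2) : e.symm up * e.symm dn = e.symm dn * e.symm up)
  simpa using this

/-- One factor of a central product of two copies of `SL(2)` lies in a factor of any other decomposition. -/
theorem le_factor {G : Type u} [Group G] [Finite G] {F₁ : Type*} [Field F₁] [Fintype F₁]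
    {F₂ : Type*} [Field F₂] [Fintype F₂] (hF₁ : Odd (Fintype.card F₁)) (hF₂ : Odd (Fintype.card F₂))
    (L₁ L₂ M₁ M₂ : Subgroup G) (e₁ : ↥L₁ ≃* SL(2, F₁)) (e₂ : ↥L₂ ≃* SL(2, F₂))
    (hc : ∀ x ∈ L₁, ∀ y ∈ L₂, x * y = y * x) (hc' : ∀ x ∈ M₁, ∀ y ∈ M₂, x * y = y * x)
    (j : G) (hj : orderOf j = 2) (hm : L₁ ⊓ L₂ = Subgroup.zpowers j) (hj1 : j ∈ M₁) (hj2 : j ∈ M₂)
    (hLM : ∀ g, (∃ a ∈ L₁, ∃ b ∈ L₂, g = a * b) ↔ (∃ c ∈ M₁, ∃ d ∈ M₂, g = c * d)) :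
    L₁ ≤ M₁ ∨ L₁ ≤ M₂ := by
  classical
  have hjm : j ∈ L₁ ⊓ L₂ := hm.ge (Subgroup.mem_zpowers j)
  have hJc : ∀ κ ∈ L₁ ⊓ L₂, ∀ y ∈ L₂, κ * y = y * κ := fun κ hκ y hy => hc κ hκ.1 y hy
  -- both components of an element of `L₁` lie in `L₁`
  have key : ∀ x ∈ L₁, ∃ c ∈ M₁ ⊓ L₁, ∃ d ∈ M₂ ⊓ L₁, c * d = x := by
    intro x hx
    obtain ⟨c, hcM, d, hdM, hxcd⟩ := (hLM x).mp ⟨x, hx, 1, one_mem _, (mul_one x).symm⟩
    obtain ⟨a₁, ha₁, b₁, hb₁, hc1⟩ := (hLM c).mpr ⟨c, hcM, 1, one_mem _, (mul_one c).symm⟩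
    obtain ⟨a₂, ha₂, b₂, hb₂, hd2⟩ := (hLM d).mpr ⟨1, one_mem _, d, hdM, (one_mul d).symm⟩
    have mulmul : ∀ a ∈ L₁, ∀ b ∈ L₂, ∀ a' ∈ L₁, ∀ b' ∈ L₂, a * b * (a' * b') = a * a' * (b * b') :=
      fun a _ b hb a' ha' b' _ => by
        calc a * b * (a' * b') = a * (b * a') * b' := by group
          _ = a * (a' * b) * b' := by rw [hc a' ha' b hb]
          _ = a * a' * (b * b') := by group
    have hsplit : ∀ a ∈ L₁, ∀ b ∈ L₂, ∀ a' ∈ L₁, ∀ b' ∈ L₂, a * b = a' * b' → b' * b⁻¹ ∈ L₁ ⊓ L₂ := by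
      intro a ha b hb a' ha' b' hb' h
      refine Subgroup.mem_inf.mpr ⟨?_, mul_mem hb' (inv_mem hb)⟩
      rw [show b' * b⁻¹ = a'⁻¹ * a by
        calc b' * b⁻¹ = a'⁻¹ * (a' * b') * b⁻¹ := by group
          _ = a'⁻¹ * a := by rw [← h]; group]
      exact mul_mem (inv_mem ha') ha
    have hcommJ : ∀ a ∈ L₁, ∀ b ∈ L₂, ∀ a' ∈ L₁, ∀ b' ∈ L₂, a * b * (a' * b') = a' * b' * (a * b) →
        b * b' * b⁻¹ * b'⁻¹ ∈ L₁ ⊓ L₂ := by
      intro a ha b hb a' ha' b' hb' h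
      rw [mulmul a ha b hb a' ha' b' hb', mulmul a' ha' b' hb' a ha b hb] at h
      have := hsplit _ (mul_mem ha' ha) _ (mul_mem hb' hb) _ (mul_mem ha ha') _ (mul_mem hb hb') h.symm
      rwa [show b * b' * (b' * b)⁻¹ = b * b' * b⁻¹ * b'⁻¹ by group] at this
    -- `b₁ b₂` lies in the intersection
    have hκ : b₁ * b₂ ∈ L₁ ⊓ L₂ := by
      have h : x * 1 = a₁ * a₂ * (b₁ * b₂) := by rw [mul_one, hxcd, hc1, hd2, mulmul a₁ ha₁ b₁ hb₁ a₂ ha₂ b₂ hb₂]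
      simpa using hsplit x hx 1 (one_mem _) _ (mul_mem ha₁ ha₂) _ (mul_mem hb₁ hb₂) h
    have hbs : ∀ y ∈ L₂, b₁ * y * b₁⁻¹ * y⁻¹ ∈ L₁ ⊓ L₂ := by
      intro y hy
      obtain ⟨c', hc'M, d', hd'M, hy'⟩ := (hLM y).mp ⟨1, one_mem _, y, hy, (one_mul y).symm⟩
      obtain ⟨α', hα', β', hβ', hc'e⟩ := (hLM c').mpr ⟨c', hc'M, 1, one_mem _, (mul_one c').symm⟩
      obtain ⟨α, hα, β, hβ, hd'e⟩ := (hLM d').mpr ⟨1, one_mem _, d', hd'M, (one_mul d').symm⟩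
      have h1 : b₁ * β * b₁⁻¹ * β⁻¹ ∈ L₁ ⊓ L₂ :=
        hcommJ a₁ ha₁ b₁ hb₁ α hα β hβ (by rw [← hc1, ← hd'e]; exact hc' c hcM d' hd'M)
      have h2 : b₂ * β' * b₂⁻¹ * β'⁻¹ ∈ L₁ ⊓ L₂ :=
        hcommJ a₂ ha₂ b₂ hb₂ α' hα' β' hβ' (by rw [← hd2, ← hc'e]; exact (hc' c' hc'M d hdM).symm)
      have hy2 : β' * β * y⁻¹ ∈ L₁ ⊓ L₂ := by
        refine hsplit 1 (one_mem _) y hy (α' * α) (mul_mem hα' hα) (β' * β) (mul_mem hβ' hβ) ?_
        rw [one_mul, hy', hc'e, hd'e, mulmul α' hα' β' hβ' α hα β hβ]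
      have h2' : b₁ * β' * b₁⁻¹ * β'⁻¹ ∈ L₁ ⊓ L₂ := by
        set κ := b₁ * b₂ with hκdef
        have hb1 : b₁ = κ * b₂⁻¹ := by rw [hκdef]; group
        have hinv : b₂⁻¹ * β' * b₂ * β'⁻¹ = (b₂ * β' * b₂⁻¹ * β'⁻¹)⁻¹ := by
          have hz := hJc _ h2 b₂ hb₂
          calc b₂⁻¹ * β' * b₂ * β'⁻¹ = b₂⁻¹ * ((b₂ * β' * b₂⁻¹ * β'⁻¹)⁻¹ * b₂) := by group
            _ = b₂⁻¹ * (b₂ * (b₂ * β' * b₂⁻¹ * β'⁻¹)⁻¹) := by
              rw [hJc _ (inv_mem h2) b₂ hb₂]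
            _ = _ := by group
        have hmem : b₂⁻¹ * β' * b₂ ∈ L₂ := mul_mem (mul_mem (inv_mem hb₂) hβ') hb₂
        have : b₁ * β' * b₁⁻¹ * β'⁻¹ = b₂⁻¹ * β' * b₂ * β'⁻¹ := by
          calc b₁ * β' * b₁⁻¹ * β'⁻¹ = κ * (b₂⁻¹ * β' * b₂) * κ⁻¹ * β'⁻¹ := by rw [hb1]; group
            _ = _ := by rw [hJc κ hκ _ hmem, mul_inv_cancel_right]
        rw [this, hinv]
        exact inv_mem h2
      have h3 : b₁ * (β' * β) * b₁⁻¹ * (β' * β)⁻¹ ∈ L₁ ⊓ L₂ := by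
        rw [show b₁ * (β' * β) * b₁⁻¹ * (β' * β)⁻¹ =
          (b₁ * β' * b₁⁻¹ * β'⁻¹) * (β' * (b₁ * β * b₁⁻¹ * β⁻¹) * β'⁻¹) by group]
        exact mul_mem h2' (by rw [← hJc _ h1 β' hβ', mul_inv_cancel_right]; exact h1)
      set κ := β' * β * y⁻¹ with hκ2
      have : b₁ * (β' * β) * b₁⁻¹ * (β' * β)⁻¹ = b₁ * y * b₁⁻¹ * y⁻¹ := by
        rw [show β' * β = κ * y by rw [hκ2]; group]
        calc b₁ * (κ * y) * b₁⁻¹ * (κ * y)⁻¹ = (b₁ * κ) * y * b₁⁻¹ * y⁻¹ * κ⁻¹ := by group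
          _ = (κ * b₁) * y * b₁⁻¹ * y⁻¹ * κ⁻¹ := by rw [hJc κ hy2 b₁ hb₁]
          _ = κ * (b₁ * y * b₁⁻¹ * y⁻¹) * κ⁻¹ := by group
          _ = _ := by
            rw [hJc κ hy2 _ (mul_mem (mul_mem (mul_mem hb₁ hy) (inv_mem hb₁)) (inv_mem hy)), mul_inv_cancel_right]
      rwa [this] at h3
    have hcodd : ∀ y : L₂, Odd (orderOf y) → (⟨b₁, hb₁⟩ : L₂) * y = y * ⟨b₁, hb₁⟩ := by
      intro y hy
      set κ := b₁ * (y : G) * b₁⁻¹ * (y : G)⁻¹ with hκdef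
      have hκJ := hbs y y.2
      have h1 : (κ * (y : G)) ^ orderOf y = 1 := by
        rw [show κ * (y : G) = b₁ * y * b₁⁻¹ by rw [hκdef]; group, conj_pow,
          ← SubmonoidClass.coe_pow, pow_orderOf_eq_one]; simp
      rw [(show Commute κ (y : G) from hJc κ hκJ y y.2).mul_pow, ← SubmonoidClass.coe_pow,
        pow_orderOf_eq_one, OneMemClass.coe_one, mul_one] at h1
      obtain ⟨i, hi⟩ := Subgroup.mem_zpowers_iff.mp (hm.le hκJ)
      have hκ2' : κ ^ 2 = 1 := by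
        rw [← show j ^ i = κ from hi, ← zpow_natCast (j ^ i), ← _root_.zpow_mul, mul_comm, _root_.zpow_mul, zpow_natCast,
          orderOf_dvd_iff_pow_eq_one.mp hj.dvd, _root_.one_zpow]
      obtain ⟨k, hk⟩ := hy
      rw [hk, pow_succ, pow_mul, hκ2', one_pow, one_mul] at h1
      exact Subtype.ext (mul_inv_eq_iff_eq_mul.mp (mul_inv_eq_one.mp h1))
    have hb1c : e₂ ⟨b₁, hb₁⟩ ∈ Subgroup.center SL(2, F₂) := by
      have h1 := hcodd (e₂.symm up) (by rw [MulEquiv.orderOf_eq]; exact (unipotent_odd hF₂).1)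
      have h2 := hcodd (e₂.symm dn) (by rw [MulEquiv.orderOf_eq]; exact (unipotent_odd hF₂).2)
      refine central_of_commute ?_ ?_
      · simpa using congrArg e₂ h1
      · simpa using congrArg e₂ h2
    have hb1J : b₁ ∈ L₁ := (hm.ge (central_mem hF₂ L₂ e₂ hj hjm.2 ⟨b₁, hb₁⟩ hb1c)).1
    have hcL : c ∈ L₁ := hc1 ▸ mul_mem ha₁ hb1J
    have hdL : d ∈ L₁ := by
      have : d = c⁻¹ * x := by rw [hxcd, inv_mul_cancel_left]
      exact this ▸ mul_mem (inv_mem hcL) hx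
    exact ⟨c, Subgroup.mem_inf.mpr ⟨hcM, hcL⟩, d, Subgroup.mem_inf.mpr ⟨hdM, hdL⟩, hxcd.symm⟩
  rcases factor_central (N := ((M₁.subgroupOf L₁).map e₁.toMonoidHom)) (M := ((M₂.subgroupOf L₁).map e₁.toMonoidHom))
    (by
      rintro _ ⟨n, hn, rfl⟩ _ ⟨m, hm', rfl⟩
      rw [← map_mul, ← map_mul]
      exact congrArg _ (Subtype.ext (hc' _ hn _ hm')))
    (fun g => by
      obtain ⟨c, hc, d, hd, hcd⟩ := key _ (e₁.symm g).2
      exact ⟨_, ⟨⟨c, hc.2⟩, hc.1, rfl⟩, _, ⟨⟨d, hd.2⟩, hd.1, rfl⟩, by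
        show e₁ ⟨c, hc.2⟩ * e₁ ⟨d, hd.2⟩ = g
        rw [← map_mul, ← MulEquiv.eq_symm_apply]; exact Subtype.ext hcd⟩) with h | h
  · refine Or.inr fun x hx => ?_
    obtain ⟨c, hc, d, hd, rfl⟩ := key x hx
    exact mul_mem ((Subgroup.zpowers_le.mpr hj2) (central_mem hF₁ L₁ e₁ hj hjm.1 ⟨c, hc.2⟩ (h ⟨_, hc.1, rfl⟩))) hd.1
  · refine Or.inl fun x hx => ?_
    obtain ⟨c, hc, d, hd, rfl⟩ := key x hx
    exact mul_mem hc.1 ((Subgroup.zpowers_le.mpr hj1) (central_mem hF₁ L₁ e₁ hj hjm.1 ⟨d, hd.2⟩ (h ⟨_, hd.1, rfl⟩)))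


/-- Let G be a finite group with subgroups L₁ ≅ SL₂(q₁) and L₂ ≅ SL₂(q₂), q₁ and q₂ odd prime powers, which commute elementwise and meet in ⟨j⟩ for an involution j, and suppose L₁L₂ has index 2 in C_G(j). Then every element n of C_G(j) outside L₁L₂ either normalizes both L₁ and L₂, or conjugates L₁ onto L₂; in the second case q₁ = q₂ and there is an element n′ of C_G(j) outside L₁L₂ conjugating L₁ onto L₂ with n′² ∈ ⟨j⟩. -/
theorem result {G : Type*} [Group G] [Finite G]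
    {F₁ : Type*} [Field F₁] [Fintype F₁] {F₂ : Type*} [Field F₂] [Fintype F₂]
    (hF₁ : Odd (Fintype.card F₁)) (hF₂ : Odd (Fintype.card F₂)) (L₁ L₂ : Subgroup G)
    (e₁ : ↥L₁ ≃* Matrix.SpecialLinearGroup (Fin 2) F₁) (e₂ : ↥L₂ ≃* Matrix.SpecialLinearGroup (Fin 2) F₂)
    (hc : ∀ x ∈ L₁, ∀ y ∈ L₂, x * y = y * x) (j : G) (hj : orderOf j = 2) (hm : L₁ ⊓ L₂ = Subgroup.zpowers j)
    (hle : L₁ ⊔ L₂ ≤ Subgroup.centralizer ({j} : Set G)) (hi : (L₁ ⊔ L₂).relIndex (Subgroup.centralizer ({j} : Set G)) = 2) (n : G) (hn : n ∈ Subgroup.centralizer ({j} : Set G)) (hn' : n ∉ L₁ ⊔ L₂) :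
    (L₁.map (MulAut.conj n).toMonoidHom = L₁ ∧ L₂.map (MulAut.conj n).toMonoidHom = L₂) ∨
      (L₁.map (MulAut.conj n).toMonoidHom = L₂ ∧ Fintype.card F₁ = Fintype.card F₂ ∧
        ∃ n' ∈ Subgroup.centralizer ({j} : Set G), n' ∉ L₁ ⊔ L₂ ∧ L₁.map (MulAut.conj n').toMonoidHom = L₂ ∧ n' ^ 2 ∈ Subgroup.zpowers j) := by
  classical
  set C := Subgroup.centralizer ({j} : Set G)
  set L := L₁ ⊔ L₂ with hL
  have hjm : j ∈ L₁ ⊓ L₂ := hm.ge (Subgroup.mem_zpowers j)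
  have hmem : ∀ g, g ∈ L ↔ ∃ a ∈ L₁, ∃ b ∈ L₂, g = a * b := by
    intro g
    constructor
    · intro hg
      rw [hL, Subgroup.sup_eq_closure] at hg
      induction hg using Subgroup.closure_induction with
      | mem x hx =>
        rcases hx with hx | hx
        · exact ⟨x, hx, 1, one_mem _, (mul_one x).symm⟩
        · exact ⟨1, one_mem _, x, hx, (one_mul x).symm⟩
      | one => exact ⟨1, one_mem _, 1, one_mem _, (one_mul 1).symm⟩
      | mul x y _ _ hx hy =>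
        obtain ⟨a, ha, b, hb, rfl⟩ := hx
        obtain ⟨a', ha', b', hb', rfl⟩ := hy
        refine ⟨a * a', mul_mem ha ha', b * b', mul_mem hb hb', ?_⟩
        calc a * b * (a' * b') = a * (b * a') * b' := by group
          _ = a * (a' * b) * b' := by rw [hc a' ha' b hb]
          _ = a * a' * (b * b') := by group
      | inv x _ hx =>
        obtain ⟨a, ha, b, hb, rfl⟩ := hx
        exact ⟨a⁻¹, inv_mem ha, b⁻¹, inv_mem hb, by rw [_root_.mul_inv_rev, hc _ (inv_mem ha) _ (inv_mem hb)]⟩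
    · rintro ⟨a, ha, b, hb, rfl⟩
      exact mul_mem (Subgroup.mem_sup_left ha) (Subgroup.mem_sup_right hb)
  have hLn : ∀ g, g ∈ L ↔ n * g * n⁻¹ ∈ L := by
    intro g
    have hnor : (L.subgroupOf C).Normal := Subgroup.normal_of_index_eq_two hi
    refine ⟨fun hg => hnor.conj_mem ⟨g, hle hg⟩ hg ⟨n, hn⟩, fun hg => ?_⟩
    have := hnor.conj_mem ⟨n * g * n⁻¹, hle hg⟩ hg ⟨n, hn⟩⁻¹
    simpa [Subgroup.mem_subgroupOf, mul_assoc] using this
  have hnj : n * j * n⁻¹ = j := mul_inv_eq_iff_eq_mul.mpr (Subgroup.mem_centralizer_singleton_iff.mp hn)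
  set f := (MulAut.conj n).toMonoidHom
  set M₁ := L₁.map f with hM₁
  set M₂ := L₂.map f with hM₂
  have hc' : ∀ x ∈ M₁, ∀ y ∈ M₂, x * y = y * x := by
    rintro _ ⟨x, hx, rfl⟩ _ ⟨y, hy, rfl⟩
    rw [← map_mul, ← map_mul, hc x hx y hy]
  have hj1 : j ∈ M₁ := ⟨j, hjm.1, hnj⟩
  have hj2 : j ∈ M₂ := ⟨j, hjm.2, hnj⟩
  have hLM : ∀ g, (∃ a ∈ L₁, ∃ b ∈ L₂, g = a * b) ↔ (∃ c ∈ M₁, ∃ d ∈ M₂, g = c * d) := by
    intro g
    rw [← hmem]
    constructor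
    · intro hg
      have h1 : n⁻¹ * g * n ∈ L := (hLn _).mpr (by simpa [mul_assoc] using hg)
      obtain ⟨a, ha, b, hb, hab⟩ := (hmem _).mp h1
      refine ⟨_, ⟨a, ha, rfl⟩, _, ⟨b, hb, rfl⟩, ?_⟩
      rw [← map_mul, ← hab]
      show g = n * (n⁻¹ * g * n) * n⁻¹
      group
    · rintro ⟨_, ⟨a, ha, rfl⟩, _, ⟨b, hb, rfl⟩, rfl⟩
      rw [← map_mul]
      exact (hLn _).mp ((hmem _).mpr ⟨a, ha, b, hb, rfl⟩)
  have hm2 : L₂ ⊓ L₁ = Subgroup.zpowers j := by rw [inf_comm, hm]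
  have h1 := le_factor hF₁ hF₂ L₁ L₂ M₁ M₂ e₁ e₂ hc hc' j hj hm hj1 hj2 hLM
  have h2 := le_factor hF₂ hF₁ L₂ L₁ M₁ M₂ e₂ e₁ (fun x hx y hy => (hc y hy x hx).symm) hc' j hj hm2 hj1 hj2
    (fun g => by
      rw [← hLM g]
      constructor
      · rintro ⟨a, ha, b, hb, rfl⟩; exact ⟨b, hb, a, ha, (hc b hb a ha).symm⟩
      · rintro ⟨a, ha, b, hb, rfl⟩; exact ⟨b, hb, a, ha, hc a ha b hb⟩)
  have hinj : Function.Injective f := (MulAut.conj n).injective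
  have hcard1 : Nat.card M₁ = Nat.card L₁ := Subgroup.card_map_of_injective hinj
  have hcard2 : Nat.card M₂ = Nat.card L₂ := Subgroup.card_map_of_injective hinj
  have hboth : ∀ M N : Subgroup G, L₁ ≤ M → L₂ ≤ M → (∀ x ∈ N, ∀ y ∈ M, x * y = y * x) →
      (∀ x ∈ N, ∃ a ∈ L₁, ∃ b ∈ L₂, x = a * b) → ∀ x ∈ N, ∀ y ∈ N, x * y = y * x := by
    intro M N h1 h2 hcm hdec x hx y hy
    obtain ⟨a, ha, b, hb, rfl⟩ := hdec y hy
    exact hcm x hx _ (mul_mem (h1 ha) (h2 hb))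
  rcases h1 with h1 | h1
  · left
    have e1 : M₁ = L₁ := (Subgroup.eq_of_le_of_card_ge h1 hcard1.le).symm
    rcases h2 with h2 | h2
    · exfalso
      refine not_abelian M₂ ((L₂.equivMapOfInjective f hinj).symm.trans e₂) (hboth M₁ M₂ h1 h2 (fun x hx y hy => (hc' y hy x hx).symm) fun x hx => ?_)
      exact (hLM x).mpr ⟨1, one_mem _, x, hx, (one_mul x).symm⟩
    · exact ⟨e1, (Subgroup.eq_of_le_of_card_ge h2 hcard2.le).symm⟩
  · right
    rcases h2 with h2 | h2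
    swap
    · exfalso
      refine not_abelian M₁ ((L₁.equivMapOfInjective f hinj).symm.trans e₁) (hboth M₂ M₁ h1 h2 hc' fun x hx => ?_)
      exact (hLM x).mpr ⟨x, hx, 1, one_mem _, (mul_one x).symm⟩
    have hle12 : Nat.card L₁ ≤ Nat.card L₂ := hcard2 ▸ Subgroup.card_le_of_le h1
    have hle21 : Nat.card L₂ ≤ Nat.card L₁ := hcard1 ▸ Subgroup.card_le_of_le h2
    have e1 : M₁ = L₂ := (Subgroup.eq_of_le_of_card_ge h2 (by omega)).symm
    have e2 : M₂ = L₁ := (Subgroup.eq_of_le_of_card_ge h1 (by omega)).symm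
    refine ⟨e1, ?_, ?_⟩
    · have h : Nat.card L₁ = Nat.card L₂ := by omega
      rw [Nat.card_congr e₁.toEquiv, Nat.card_congr e₂.toEquiv, card_SL_two', card_SL_two',
        Nat.card_eq_fintype_card, Nat.card_eq_fintype_card] at h
      have hmono : ∀ p q : ℕ, 0 < p → p < q → p * ((p - 1) * (p + 1)) < q * ((q - 1) * (q + 1)) := fun p q hp hpq =>
        Nat.mul_lt_mul'' hpq (Nat.mul_lt_mul'' (by omega) (by omega))
      rcases lt_trichotomy (Fintype.card F₁) (Fintype.card F₂) with hlt | he | hgt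
      · exact absurd h (hmono _ _ Fintype.card_pos hlt).ne
      · exact he
      · exact absurd h (hmono _ _ Fintype.card_pos hgt).ne'
    · have hn2 : n * n ∈ L := by
        have := Subgroup.mul_self_mem_of_index_two (H := L.subgroupOf C) hi ⟨n, hn⟩
        exact this
      obtain ⟨a, ha, b, hb, hab⟩ := (hmem _).mp hn2
      have hai : n * a⁻¹ * n⁻¹ ∈ L₂ := e1 ▸ ⟨a⁻¹, inv_mem ha, rfl⟩
      set n' := a⁻¹ * n with hn'def
      have hconj : ∀ x ∈ L₁, n' * x * n'⁻¹ ∈ L₂ := fun x hx => by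
        have hx' : n * x * n⁻¹ ∈ L₂ := e1 ▸ ⟨x, hx, rfl⟩
        rw [show n' * x * n'⁻¹ = a⁻¹ * (n * x * n⁻¹) * a by rw [hn'def]; group, hc _ (inv_mem ha) _ hx']
        simpa using hx'
      have hsq : n' ^ 2 ∈ L₂ := by
        rw [show n' ^ 2 = a⁻¹ * (n * a⁻¹ * n⁻¹) * (n * n) by rw [hn'def, pow_two]; group, hab,
          hc _ (inv_mem ha) _ hai, mul_assoc, ← mul_assoc a⁻¹ a b, inv_mul_cancel, one_mul]
        exact mul_mem hai hb
      refine ⟨n', mul_mem (inv_mem (hle (Subgroup.mem_sup_left ha))) hn,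
        fun h => hn' (by simpa [hn'def] using mul_mem (Subgroup.mem_sup_left ha : a ∈ L) h), ?_, ?_⟩
      · refine Subgroup.eq_of_le_of_card_ge (by rintro _ ⟨x, hx, rfl⟩; exact hconj x hx) ?_
        rw [Subgroup.card_map_of_injective (MulAut.conj n').injective]; omega
      · rw [← hm]
        refine Subgroup.mem_inf.mpr ⟨?_, hsq⟩
        have himg : L₁.map (MulAut.conj n').toMonoidHom = L₂ := by
          refine Subgroup.eq_of_le_of_card_ge (by rintro _ ⟨x, hx, rfl⟩; exact hconj x hx) ?_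
          rw [Subgroup.card_map_of_injective (MulAut.conj n').injective]; omega
        obtain ⟨x, hx, hxe⟩ := himg.ge hsq
        have : n' * x * n'⁻¹ = n' ^ 2 := hxe
        rw [show n' ^ 2 = x by
          calc n' ^ 2 = n'⁻¹ * n' ^ 2 * n' := by group
            _ = n'⁻¹ * (n' * x * n'⁻¹) * n' := by rw [this]
            _ = x := by group]
        exact hx
end Cfsg.Agent.S3210
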