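import Cfsg.Statements.S3211
import Cfsg.Agent.Lib.Invol.SwapPair
import Cfsg.Agent.Lib.SL2.Facts
import Cfsg.Agent.Lib.SL2.Conj

set_option autoImplicit false
open Cfsg

namespace Cfsg.Agent.S3211

/-- Let G be a finite group with subgroups L₁ ≅ SL₂(q₁) and L₂ ≅ SL₂(q₂), q₁ and q₂ odd prime powers, which commute elementwise and meet in ⟨j⟩ for an involution j, and suppose L₁L₂ has index 2 in C_G(j). If some n ∈ C_G(j) with n² = j interchanges L₁ and L₂ under conjugation (so that C_G(j) = L₁L₂⟨n⟩), then G = C_G(j)O(G). -/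
theorem result {G : Type*} [Group G] [Finite G]
    {F₁ : Type*} [Field F₁] [Fintype F₁] {F₂ : Type*} [Field F₂] [Fintype F₂]
    (hF₁ : Odd (Fintype.card F₁)) (hF₂ : Odd (Fintype.card F₂)) (L₁ L₂ : Subgroup G)
    (e₁ : ↥L₁ ≃* Matrix.SpecialLinearGroup (Fin 2) F₁) (e₂ : ↥L₂ ≃* Matrix.SpecialLinearGroup (Fin 2) F₂)
    (hc : ∀ x ∈ L₁, ∀ y ∈ L₂, x * y = y * x) (j : G) (hj : orderOf j = 2) (hm : L₁ ⊓ L₂ = Subgroup.zpowers j)
    (hle : L₁ ⊔ L₂ ≤ Subgroup.centralizer ({j} : Set G)) (hi : (L₁ ⊔ L₂).relIndex (Subgroup.centralizer ({j} : Set G)) = 2) (n : G) (hn : n ∈ Subgroup.centralizer ({j} : Set G))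
    (hn2 : n ^ 2 = j) (hswap : L₁.map (MulAut.conj n).toMonoidHom = L₂) :
    Subgroup.centralizer ({j} : Set G) ⊔ Cfsg.oddCore G = ⊤ := by
  classical
  let SLF := Matrix.SpecialLinearGroup (Fin 2) F₁
  have h2 : (2 : F₁) ≠ 0 := CfsgLib.SL2.odd_card_two_ne_zero (by rwa [Nat.card_eq_fintype_card])
  have hjj : j * j = 1 := by rw [← pow_two, ← hj, pow_orderOf_eq_one]
  have hjne : j ≠ 1 := fun e => by
    rw [e, orderOf_one] at hj
    omega
  have hjL : j ∈ L₁ ⊓ L₂ := hm ▸ Subgroup.mem_zpowers j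
  obtain ⟨hj1, hj2⟩ := Subgroup.mem_inf.1 hjL
  -- read off the facts on the first copy
  have hej : e₁ ⟨j, hj1⟩ = -1 := CfsgLib.SL2.eq_neg_one_of_mul_self h2
    (by rw [← map_mul, show (⟨j, hj1⟩ : L₁) * ⟨j, hj1⟩ = 1 from Subtype.ext hjj, map_one])
    (fun e => hjne (congrArg Subtype.val (e₁.injective (e.trans (map_one e₁).symm))))
  have hu : ∀ x ∈ L₁, x * x = 1 → x = 1 ∨ x = j := by
    intro x hx hxx
    by_cases hx1 : x = 1
    · exact Or.inl hx1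
    · have h1 : e₁ ⟨x, hx⟩ = -1 := CfsgLib.SL2.eq_neg_one_of_mul_self h2
        (by rw [← map_mul, show (⟨x, hx⟩ : L₁) * ⟨x, hx⟩ = 1 from Subtype.ext hxx, map_one])
        (fun e => hx1 (congrArg Subtype.val (e₁.injective (e.trans (map_one e₁).symm))))
      exact Or.inr (congrArg Subtype.val (e₁.injective (h1.trans hej.symm)))
  let w : SLF := ⟨!![0, -1; 1, 0], by simp [Matrix.det_fin_two_of]⟩
  have hwt : (w : Matrix (Fin 2) (Fin 2) F₁).trace = 0 := by simp [w, Matrix.trace_fin_two_of]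
  have hw2 : w * w = -1 := CfsgLib.SL2.mul_self_eq_neg_one_of_trace hwt
  have hwr := CfsgLib.SL2.regular_of_trace_zero h2 hwt
  set a : G := ((e₁.symm w : L₁) : G) with hadef
  have ha : a ∈ L₁ := (e₁.symm w).2
  have hea : e₁ ⟨a, ha⟩ = w := by simp [hadef]
  have ha2 : a * a = j := by
    have : e₁ (⟨a, ha⟩ * ⟨a, ha⟩) = e₁ ⟨j, hj1⟩ := by rw [map_mul, hea, hw2, hej]
    exact congrArg Subtype.val (e₁.injective this)
  have hcj : ∀ x ∈ L₁, x * x = j → ∃ g ∈ L₁, g * a * g⁻¹ = x := by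
    intro x hx hxx
    have hX : e₁ ⟨x, hx⟩ * e₁ ⟨x, hx⟩ = -1 := by
      rw [← map_mul, show (⟨x, hx⟩ : L₁) * ⟨x, hx⟩ = ⟨j, hj1⟩ from Subtype.ext hxx, hej]
    have hXt := CfsgLib.SL2.trace_eq_zero_of_mul_self h2 hX
    obtain ⟨k, hk⟩ := (CfsgLib.SL2.isConj_of_trace hwr.nonScalar
      (CfsgLib.SL2.regular_of_trace_zero h2 hXt).nonScalar (hwt.trans hXt.symm) (Or.inl hwr))
    refine ⟨_, (e₁.symm k).2, ?_⟩
    have : e₁ (e₁.symm k * ⟨a, ha⟩ * (e₁.symm k)⁻¹) = e₁ ⟨x, hx⟩ := by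
      rw [map_mul, map_mul, map_inv, hea, MulEquiv.apply_symm_apply, hk]
    exact congrArg Subtype.val (e₁.injective this)
  have hcent : ∀ x ∈ L₁, ∀ y ∈ L₁, x * a = a * x → y * a = a * y → x * y = y * x := by
    intro x hx y hy hxa hya
    have hX : e₁ ⟨x, hx⟩ ∈ CfsgLib.SL2.cent w := by
      rw [CfsgLib.SL2.mem_cent_iff, ← hea, ← map_mul, ← map_mul]
      exact congrArg e₁ (Subtype.ext hxa.symm)
    have hY : e₁ ⟨y, hy⟩ ∈ CfsgLib.SL2.cent w := by
      rw [CfsgLib.SL2.mem_cent_iff, ← hea, ← map_mul, ← map_mul]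
      exact congrArg e₁ (Subtype.ext hya.symm)
    have := CfsgLib.SL2.cent_comm hwr.nonScalar hX hY
    rw [← map_mul, ← map_mul] at this
    exact congrArg Subtype.val (e₁.injective this)
  have hsw : ∀ x ∈ L₁, n * x * n⁻¹ ∈ L₂ := fun x hx => hswap ▸ ⟨x, hx, rfl⟩
  have hnj : n * n = j := by rw [← pow_two, hn2]
  have hn12 : n ∉ L₁ ⊔ L₂ := by
    intro hn'
    have hnorm : L₁ ⊔ L₂ ≤ Subgroup.normalizer (L₁ : Set G) := by
      refine sup_le Subgroup.le_normalizer fun z hz => Subgroup.mem_normalizer_iff.2 fun u => ?_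
      constructor
      · intro hu'
        rw [← hc u hu' z hz, mul_inv_cancel_right]
        exact hu'
      · intro hu'
        have h9 := hc _ hu' z hz
        have h8 : z * u * z⁻¹ = u := by
          calc z * u * z⁻¹ = z⁻¹ * (z * (z * u * z⁻¹)) := by group
            _ = z⁻¹ * (z * u * z⁻¹ * z) := by rw [h9]
            _ = u := by group
        rwa [h8] at hu'
    have h3 : n * a * n⁻¹ ∈ L₁ := (Subgroup.mem_normalizer_iff.1 (hnorm hn') a).1 ha
    have h4 : n * a * n⁻¹ ∈ L₁ ⊓ L₂ := Subgroup.mem_inf.2 ⟨h3, hsw a ha⟩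
    have h5 : n * a * n⁻¹ * (n * a * n⁻¹) = j := by
      calc n * a * n⁻¹ * (n * a * n⁻¹) = n * (a * a) * n⁻¹ := by group
        _ = j := by rw [ha2, ← hnj]; group
    rw [hm] at h4
    obtain ⟨k, hk⟩ := h4
    simp only at hk
    rw [← hk, ← zpow_add, show k + k = 2 * k by ring, zpow_mul, zpow_ofNat, pow_two, hjj, one_zpow] at h5
    exact hjne h5.symm
  have hmem : ∀ u ∈ L₁ ⊔ L₂, ∃ x ∈ L₁, ∃ y ∈ L₁, u = x * (n * y * n⁻¹) := by
    intro u hu'
    have hl : L₂ ≤ Subgroup.normalizer (L₁ : Set G) := by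
      intro z hz
      refine Subgroup.mem_normalizer_iff.2 fun v => ⟨fun hv => ?_, fun hv => ?_⟩
      · rw [← hc v hv z hz, mul_inv_cancel_right]
        exact hv
      · have h9 := hc _ hv z hz
        have h8 : z * v * z⁻¹ = v := by
          calc z * v * z⁻¹ = z⁻¹ * (z * (z * v * z⁻¹)) := by group
            _ = z⁻¹ * (z * v * z⁻¹ * z) := by rw [h9]
            _ = v := by group
        rwa [h8] at hv
    rw [← SetLike.mem_coe, Subgroup.coe_mul_of_right_le_normalizer_left _ _ hl] at hu'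
    obtain ⟨x, hx, z, hz, rfl⟩ := hu'
    rw [SetLike.mem_coe, ← hswap] at hz
    obtain ⟨y, hy, rfl⟩ := hz
    exact ⟨x, hx, y, hy, rfl⟩
  have hC : ∀ c : G, c * j = j * c →
      ∃ x ∈ L₁, ∃ y ∈ L₁, c = x * (n * y * n⁻¹) ∨ c = x * (n * y * n⁻¹) * n := by
    intro c hcc
    have hcC : c ∈ Subgroup.centralizer ({j} : Set G) := Subgroup.mem_centralizer_singleton_iff.2 hcc
    by_cases hcL : c ∈ L₁ ⊔ L₂
    · obtain ⟨x, hx, y, hy, he⟩ := hmem c hcL
      exact ⟨x, hx, y, hy, Or.inl he⟩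
    · have h3 := Subgroup.mul_mem_iff_of_index_two hi (a := (⟨c, hcC⟩ : Subgroup.centralizer ({j} : Set G)))
        (b := (⟨n, hn⟩ : Subgroup.centralizer ({j} : Set G))⁻¹)
      simp only [Subgroup.mem_subgroupOf, Subgroup.coe_mul, Subgroup.coe_inv, inv_mem_iff] at h3
      obtain ⟨x, hx, y, hy, he⟩ := hmem _ (h3.2 (iff_of_false hcL hn12))
      exact ⟨x, hx, y, hy, Or.inr (mul_inv_eq_iff_eq_mul.1 he)⟩
  exact CfsgLib.SwapPair.centralizer_sup_core (CfsgLib.SwapPair.Setup.isolated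
    (L1 := L₁) (L2 := L₂) (n := n) (a := a)
    ⟨hj, hj1, hj2, hm, hc, hnj, hsw, hC, hu, ha, ha2, hcj, hcent⟩)

end Cfsg.Agent.S3211
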