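import Mathlib
import Cfsg.Statements.S3213
import Cfsg.Agent.Lib.Classical.Card

set_option autoImplicit false
set_option linter.style.haveILetI false
open scoped MatrixGroups
open Cfsg
open Module LinearMap

namespace Cfsg.Agent.S3213

theorem cube_sub_one {R : Type*} [Ring R] (X : R) :
    (X - 1) * (X - 1) * (X - 1) = X * X * X - 1 + ((X - X * X) + (X - X * X) + (X - X * X)) := by
  noncomm_ring

theorem semi_conj {R : Type*} [Ring R] {X W : R} (h : W * X = X * X * W) :
    W * (X - 1) = (X - 1) * ((X + 1) * W) ∧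
      W * ((X - 1) * (X - 1)) = (X - 1) * (X - 1) * ((X + 1) * ((X + 1) * W)) := by
  have h1 : W * (X - 1) = (X - 1) * ((X + 1) * W) := by
    rw [mul_sub, mul_one, h]; noncomm_ring
  refine ⟨h1, ?_⟩
  rw [← mul_assoc W, h1, mul_assoc (X - 1), mul_assoc (X + 1), h1]
  noncomm_ring

variable {F : Type*} [Field F] [Fintype F]

/-- A space over the field of three elements with a map of square `-1` has even dimension. -/
theorem even_finrank (hF : Fintype.card F = 3) {V : Type*} [AddCommGroup V] [Module F V]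
    [FiniteDimensional F V] (f : Module.End F V) (hf : ∀ v, f (f v) = -v) :
    Even (finrank F V) := by
  by_contra hodd
  rw [Nat.not_even_iff_odd] at hodd
  have h1 : f * f = -1 := LinearMap.ext fun v => by simp [Module.End.mul_apply, hf]
  have h2 : LinearMap.det f * LinearMap.det f = -1 := by
    rw [← map_mul, h1, show (-1 : Module.End F V) = (-1 : F) • 1 by simp, LinearMap.det_smul,
      map_one, mul_one, hodd.neg_one_pow]
  have hns : ∀ x : F, x * x ≠ -1 := by
    intro x hx
    rcases eq_or_ne x 0 with rfl | hx0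
    · simp at hx
    · have h := FiniteField.pow_card_sub_one_eq_one x hx0
      rw [hF] at h
      have h3 : x * x = 1 := by rw [← pow_two]; exact h
      have h4 : (2 : F) = 0 := by linear_combination h3.symm.trans hx
      obtain ⟨p, hp⟩ := CharP.exists F
      haveI := hp
      have hd : p ∣ 2 := (CharP.cast_eq_zero_iff F p 2).mp (by exact_mod_cast h4)
      have hd3 : p ∣ 3 := (CharP.cast_eq_zero_iff F p 3).mp (by rw [← hF]; exact FiniteField.cast_card_eq_zero F)
      have := Nat.dvd_sub hd3 hd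
      exact CharP.char_ne_one F p (Nat.dvd_one.mp this)
  exact hns _ h2

/-- No element of order five acts on a space of dimension at most three. -/
theorem eq_one_of_pow_five (hF : Fintype.card F = 3) {V : Type*} [AddCommGroup V] [Module F V]
    [FiniteDimensional F V] (hd : finrank F V ≤ 3) (f : Module.End F V) (hf : f ^ 5 = 1) : f = 1 := by
  classical
  let b := Module.finBasis F V
  let M := LinearMap.toMatrixAlgEquiv b f
  have hM : M ^ 5 = 1 := by rw [← map_pow, hf, map_one]
  obtain ⟨u, hu⟩ : IsUnit M := IsUnit.of_pow_eq_one hM (by norm_num)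
  have hu5 : u ^ 5 = 1 := Units.ext (by rw [Units.val_pow_eq_pow_val, hu, hM]; rfl)
  haveI := Fact.mk Nat.prime_five
  have h1 : orderOf u ∣ 5 := orderOf_dvd_of_pow_eq_one hu5
  have h2 : orderOf u ∣ Nat.card (GL (Fin (finrank F V)) F) := orderOf_dvd_natCard u
  rw [Matrix.card_GL_field, hF] at h2
  have h3 : orderOf u = 1 := by
    rcases (Nat.dvd_prime Nat.prime_five).mp h1 with h | h
    · exact h
    · exfalso
      rw [h] at h2
      clear_value M
      generalize finrank F V = n at h2 hd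
      interval_cases n <;> revert h2 <;> decide
  have : M = 1 := by rw [← hu, orderOf_eq_one_iff.mp h3]; rfl
  exact (LinearMap.toMatrixAlgEquiv b).injective (this.trans (map_one _).symm)

variable {K : Type*} [Field K] [Fintype K]

local notation "SLK" => Matrix.SpecialLinearGroup (Fin 2) K

theorem exists_inverting (hK : Fintype.card K = 5) (x : SLK) (hx : orderOf x = 3) :
    ∃ w : SLK, w * w = -1 ∧ w * x * w⁻¹ = x⁻¹ := by
  haveI : Fact (Nat.Prime 3) := ⟨Nat.prime_three⟩
  let x0 : SLK := ⟨!![0, -1; 1, -1], by rw [Matrix.det_fin_two_of]; ring⟩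
  let w0 : SLK := ⟨!![0, 2; 2, 0], by
    have h5 : ((5 : ℕ) : K) = 0 := hK ▸ FiniteField.cast_card_eq_zero K
    rw [Matrix.det_fin_two_of]; push_cast at h5; linear_combination -h5⟩
  have h5 : (5 : K) = 0 := by
    have h5 : ((5 : ℕ) : K) = 0 := hK ▸ FiniteField.cast_card_eq_zero K
    exact_mod_cast h5
  have hx03 : orderOf x0 = 3 := by
    refine orderOf_eq_prime ?_ ?_
    · apply Subtype.ext
      rw [Matrix.SpecialLinearGroup.coe_pow]
      simp [x0, pow_succ, Matrix.mul_fin_two, Matrix.one_fin_two]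
    · intro h
      have := congrArg (fun g : SLK => (g : Matrix (Fin 2) (Fin 2) K) 0 0) h
      simp [x0] at this
  have hw0 : w0 * w0 = -1 := by
    apply Subtype.ext
    simp only [Matrix.SpecialLinearGroup.coe_mul, Matrix.SpecialLinearGroup.coe_inv, Matrix.SpecialLinearGroup.coe_neg, Matrix.SpecialLinearGroup.coe_one]
    ext i j
    fin_cases i <;> fin_cases j <;> simp [w0, Matrix.mul_fin_two] <;> linear_combination h5
  have hwx : w0 * x0 * w0⁻¹ = x0⁻¹ := by
    rw [mul_inv_eq_iff_eq_mul]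
    apply eq_inv_mul_of_mul_eq
    apply Subtype.ext
    simp only [Matrix.SpecialLinearGroup.coe_mul, Matrix.SpecialLinearGroup.coe_inv, Matrix.SpecialLinearGroup.coe_neg, Matrix.SpecialLinearGroup.coe_one]
    ext i j
    fin_cases i <;> fin_cases j <;> simp [w0, x0, Matrix.mul_fin_two] <;>
      first | ring1 | linear_combination h5 | linear_combination -h5
  have hcard : Nat.card SLK = 120 := by
    rw [CfsgLib.Classical.card_SL_two, hK]; norm_num
  have hsyl : ∀ y : SLK, orderOf y = 3 → IsPGroup 3 (Subgroup.zpowers y) ∧ ¬ 3 ∣ (Subgroup.zpowers y).index := by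
    intro y hy
    refine ⟨IsPGroup.of_card (n := 1) (by rw [Nat.card_zpowers, hy, pow_one]), ?_⟩
    have := (Subgroup.zpowers y).index_mul_card
    rw [Nat.card_zpowers, hy, hcard] at this
    omega
  obtain ⟨g, hg⟩ := MulAction.exists_smul_eq SLK ((hsyl x0 hx03).1.toSylow (hsyl x0 hx03).2)
    ((hsyl x hx).1.toSylow (hsyl x hx).2)
  have hmem : x ∈ (Subgroup.zpowers x0).map (MulAut.conj g).toMonoidHom := by
    have h1 := congrArg (fun P : Sylow 3 SLK => (P : Subgroup SLK)) hg
    simp only [Sylow.coe_subgroup_smul, IsPGroup.toSylow_coe] at h1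
    have h2 : x ∈ Subgroup.zpowers x := Subgroup.mem_zpowers x
    rw [← h1] at h2
    exact h2
  obtain ⟨y, hy, rfl⟩ := hmem
  obtain ⟨k, rfl⟩ := Subgroup.mem_zpowers_iff.mp hy
  refine ⟨g * w0 * g⁻¹, ?_, ?_⟩
  · calc g * w0 * g⁻¹ * (g * w0 * g⁻¹) = g * (w0 * w0) * g⁻¹ := by group
      _ = -1 := by rw [hw0]; apply Subtype.ext; simp [← Matrix.mul_adjugate, Matrix.adjugate_fin_two]
  · have h1 : w0 * x0 ^ k * w0⁻¹ = (x0 ^ k)⁻¹ := by rw [← conj_zpow, hwx, inv_zpow]
    calc g * w0 * g⁻¹ * (MulAut.conj g).toMonoidHom (x0 ^ k) * (g * w0 * g⁻¹)⁻¹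
        = g * (w0 * x0 ^ k * w0⁻¹) * g⁻¹ := by
          show g * w0 * g⁻¹ * (g * x0 ^ k * g⁻¹) * (g * w0 * g⁻¹)⁻¹ = _
          group
      _ = (g * x0 ^ k * g⁻¹)⁻¹ := by rw [h1]; group

theorem result {F : Type*} [Field F] [Fintype F] (hF : Fintype.card F = 3)
    {K : Type*} [Field K] [Fintype K] (hK : Fintype.card K = 5)
    (φ : Matrix.SpecialLinearGroup (Fin 2) K →* ↥(Matrix.symplecticGroup (Fin 2) F)) (hφ : Function.Injective φ)
    (x : Matrix.SpecialLinearGroup (Fin 2) K) (hx : orderOf x = 3) :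
    Module.finrank F ↥(LinearMap.ker (Matrix.toLin' ((φ x : Matrix (Fin 2 ⊕ Fin 2) (Fin 2 ⊕ Fin 2) F)) - LinearMap.id)) = 2 ∧
      ∀ v w : Fin 2 ⊕ Fin 2 → F, (φ x : Matrix (Fin 2 ⊕ Fin 2) (Fin 2 ⊕ Fin 2) F).mulVec v = v →
        (φ x : Matrix (Fin 2 ⊕ Fin 2) (Fin 2 ⊕ Fin 2) F).mulVec w = w →
          dotProduct v ((Matrix.J (Fin 2) F).mulVec w) = 0 := by
  classical
  let ρ : Matrix.SpecialLinearGroup (Fin 2) K →* Module.End F (Fin 2 ⊕ Fin 2 → F) :=
    (Matrix.toLinAlgEquiv' (R := F) (n := Fin 2 ⊕ Fin 2)).toAlgHom.toRingHom.toMonoidHom.comp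
      ((Submonoid.subtype _).comp φ)
  have hρ : Function.Injective ρ := fun a b h => hφ (Subtype.ext
    ((Matrix.toLinAlgEquiv' (R := F) (n := Fin 2 ⊕ Fin 2)).injective h))
  have hV : finrank F (Fin 2 ⊕ Fin 2 → F) = 4 := by simp
  have hone : ∀ g, ρ g = 1 → g = 1 := fun g h => hρ (h.trans (map_one ρ).symm)
  have h5 : (5 : K) = 0 := by
    have h5 : ((5 : ℕ) : K) = 0 := hK ▸ FiniteField.cast_card_eq_zero K
    exact_mod_cast h5
  -- the central involution acts as `-1`
  set z : Matrix.SpecialLinearGroup (Fin 2) K := -1 with hz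
  have hzz : z * z = 1 := by rw [hz, neg_mul_neg, one_mul]
  have hzc : ∀ g, g * z = z * g := fun g => by rw [hz, mul_neg, neg_mul, mul_one, one_mul]
  have hz1 : z ≠ 1 := by
    intro h
    have h1 : ((z : Matrix.SpecialLinearGroup (Fin 2) K) : Matrix (Fin 2) (Fin 2) K) 0 0 = 1 := by
      rw [h]; simp
    simp [hz] at h1
    have : (2 : K) = 0 := by linear_combination -h1
    exact one_ne_zero (α := K) (by linear_combination h5 - 2 * this)
  have h2F : (2 : F) ≠ 0 := by
    intro h
    have h3 : ((3 : ℕ) : F) = 0 := hF ▸ FiniteField.cast_card_eq_zero F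
    push_cast at h3
    exact one_ne_zero (α := F) (by linear_combination h3 - h)
  have hneg : ρ z = -1 := by
    by_contra hne
    obtain ⟨g, hg⟩ := @exists_prime_orderOf_dvd_card' (Matrix.SpecialLinearGroup (Fin 2) K) _ _ 5
      ⟨Nat.prime_five⟩ (by rw [CfsgLib.Classical.card_SL_two, hK]; norm_num)
    have hg5 : ρ g ^ 5 = 1 := by rw [← map_pow, ← hg, pow_orderOf_eq_one, map_one]
    have hcomm : ρ z * ρ g = ρ g * ρ z := by rw [← map_mul, ← map_mul, hzc]
    have hZZ : ρ z * ρ z = 1 := by rw [← map_mul, hzz, map_one]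
    have fix : ∀ s : F, s * s = 1 → LinearMap.ker (ρ z - s • 1) ≠ ⊤ →
        ∀ v ∈ LinearMap.ker (ρ z - s • 1), ρ g v = v := by
      intro s _ htop v hv
      set E := LinearMap.ker (ρ z - s • 1)
      have hE : ∀ u ∈ E, ρ g u ∈ E := by
        intro u hu
        simp only [E, LinearMap.mem_ker, LinearMap.sub_apply, LinearMap.smul_apply,
          Module.End.one_apply, sub_eq_zero] at hu ⊢
        calc ρ z (ρ g u) = ρ g (ρ z u) := LinearMap.congr_fun hcomm u
          _ = s • ρ g u := by rw [hu, map_smul]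
      have hpow : ∀ n : ℕ, ∀ u : E, ((((ρ g).restrict hE) ^ n) u : Fin 2 ⊕ Fin 2 → F) = (ρ g ^ n) u := by
        intro n
        induction n with
        | zero => intro u; simp
        | succ n ih =>
          intro u
          rw [pow_succ, pow_succ, Module.End.mul_apply, ih, Module.End.mul_apply]
          rfl
      have h1 : (ρ g).restrict hE = 1 := by
        refine eq_one_of_pow_five hF ?_ _ (LinearMap.ext fun u => Subtype.ext ?_)
        · have := Submodule.finrank_lt htop
          omega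
        · rw [hpow, hg5]; rfl
      exact congrArg Subtype.val (LinearMap.congr_fun h1 ⟨v, hv⟩)
    have hp : LinearMap.ker (ρ z - (1 : F) • 1) ≠ ⊤ := by
      intro h
      apply hz1
      apply hone
      rw [LinearMap.ker_eq_top, one_smul, sub_eq_zero] at h
      exact h
    have hm : LinearMap.ker (ρ z - (-1 : F) • 1) ≠ ⊤ := by
      intro h
      apply hne
      rw [LinearMap.ker_eq_top, sub_eq_zero] at h
      rw [h]; exact neg_one_smul F (1 : Module.End F (Fin 2 ⊕ Fin 2 → F))
    have hall : ρ g = 1 := by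
      refine LinearMap.ext fun v => ?_
      have hvv : v = (2 : F)⁻¹ • (v + ρ z v) + (2 : F)⁻¹ • (v - ρ z v) := by
        rw [← smul_add, show v + ρ z v + (v - ρ z v) = (2 : F) • v by rw [two_smul]; abel,
          smul_smul, inv_mul_cancel₀ h2F, one_smul]
      have hZv : ρ z (ρ z v) = v := LinearMap.congr_fun hZZ v
      have e1 : ρ g (v + ρ z v) = v + ρ z v := fix 1 (one_mul 1) hp _ (by
        simp [hZv, add_comm])
      have e2 : ρ g (v - ρ z v) = v - ρ z v := fix (-1) (by ring) hm _ (by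
        simp [hZv])
      rw [Module.End.one_apply, hvv, map_add, map_smul, map_smul, e1, e2]
    have := hone g hall
    rw [this, orderOf_one] at hg
    norm_num at hg
  -- the nilpotent part
  obtain ⟨w, hww, hwx⟩ := exists_inverting hK x hx
  set X := ρ x with hX
  set N : Module.End F (Fin 2 ⊕ Fin 2 → F) := X - 1 with hN
  have hWW : ∀ v, ρ w (ρ w v) = -v := fun v => by
    have h : ρ w * ρ w = -1 := by rw [← map_mul, hww, ← hz, hneg]
    exact LinearMap.congr_fun h v
  have h3F : (3 : F) = 0 := by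
    have h3 : ((3 : ℕ) : F) = 0 := hF ▸ FiniteField.cast_card_eq_zero F
    exact_mod_cast h3
  have hX3 : X ^ 3 = 1 := by rw [hX, ← map_pow, ← hx, pow_orderOf_eq_one, map_one]
  have hN3 : N ^ 3 = 0 := by
    have h : N ^ 3 = X ^ 3 - 1 + (3 : F) • (X - X * X) := by
      rw [show (3 : F) • (X - X * X) = (X - X * X) + (X - X * X) + (X - X * X) by module, hN,
        pow_three', pow_three']
      exact cube_sub_one X
    rw [h, hX3, h3F, zero_smul, sub_self, add_zero]
  have hwX : ρ w * X = X ^ 2 * ρ w := by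
    rw [hX, ← map_pow, ← map_mul, ← map_mul]
    congr 1
    have hx2 : x ^ 2 = x⁻¹ := eq_inv_of_mul_eq_one_left (by rw [← pow_succ]; simpa [hx] using pow_orderOf_eq_one x)
    rw [hx2, ← hwx]; group
  obtain ⟨hwN, hwN2⟩ := semi_conj (R := Module.End F (Fin 2 ⊕ Fin 2 → F)) (X := X) (W := ρ w)
    (by rw [hwX, pow_two])
  rw [← hN] at hwN hwN2
  have keven : ∀ M : Module.End F (Fin 2 ⊕ Fin 2 → F),
      (∀ v, ∃ u, ρ w (M v) = M u) → Even (finrank F (LinearMap.range M)) := by
    intro M hM
    refine even_finrank hF ((ρ w).restrict (p := LinearMap.range M) (q := LinearMap.range M) ?_)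
      fun v => Subtype.ext (hWW v)
    rintro _ ⟨v, rfl⟩
    obtain ⟨u, hu⟩ := hM v
    exact ⟨u, hu.symm⟩
  have eN : Even (finrank F (LinearMap.range N)) :=
    keven N fun v => ⟨_, LinearMap.congr_fun hwN v⟩
  have eN2 : Even (finrank F (LinearMap.range (N * N))) :=
    keven (N * N) fun v => ⟨_, LinearMap.congr_fun hwN2 v⟩
  have hN0 : N ≠ 0 := by
    intro h
    have : X = 1 := sub_eq_zero.mp h
    rw [hone x this, orderOf_one] at hx
    norm_num at hx
  have hdrop : ∀ W : Submodule F (Fin 2 ⊕ Fin 2 → F), W ≠ ⊥ → (∀ v ∈ W, N v ∈ W) →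
      finrank F (W.map N) < finrank F W := by
    intro W hW hWN
    refine Submodule.finrank_lt_finrank_of_lt (lt_of_le_of_ne ?_ ?_)
    · rintro _ ⟨v, hv, rfl⟩
      exact hWN v hv
    · intro h
      apply hW
      have h3 : ((W.map N).map N).map N = W := by rw [h, h, h]
      rw [← h3, ← Submodule.map_comp, ← Submodule.map_comp, eq_bot_iff]
      rintro _ ⟨v, -, rfl⟩
      rw [Submodule.mem_bot]
      show N (N (N v)) = 0
      have := LinearMap.congr_fun hN3 v
      simpa [pow_succ, Module.End.mul_apply] using this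
  have hr0 : finrank F (LinearMap.range N) ≠ 0 := by
    rw [ne_eq, Submodule.finrank_eq_zero, LinearMap.range_eq_bot]
    exact hN0
  have hr4 : finrank F (LinearMap.range N) < 4 := by
    have := hdrop ⊤ top_ne_bot (fun v _ => trivial)
    rwa [Submodule.map_top, finrank_top, hV] at this
  have hr : finrank F (LinearMap.range N) = 2 := by
    obtain ⟨k, hk⟩ := eN
    omega
  have hN2 : N * N = 0 := by
    have h := hdrop (LinearMap.range N) (fun h => hN0 (LinearMap.range_eq_bot.mp h))
      (fun v _ => ⟨v, rfl⟩)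
    have h' : (LinearMap.range N).map N = LinearMap.range (N * N) := (LinearMap.range_comp N N).symm
    rw [h', hr] at h
    obtain ⟨k, hk⟩ := eN2
    exact LinearMap.range_eq_bot.mp (Submodule.finrank_eq_zero.mp (by omega))
  have hker : finrank F (LinearMap.ker N) = 2 := by
    have := LinearMap.finrank_range_add_finrank_ker N
    rw [hr, hV] at this
    omega
  have hle : LinearMap.range N ≤ LinearMap.ker N := by
    rintro _ ⟨u, rfl⟩
    exact LinearMap.congr_fun hN2 u
  have heq := Submodule.eq_of_le_of_finrank_le hle (by omega)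
  refine ⟨hker, fun v v' hv hv' => ?_⟩
  have hvN : v ∈ LinearMap.ker N := by
    rw [LinearMap.mem_ker]
    show (φ x : Matrix (Fin 2 ⊕ Fin 2) (Fin 2 ⊕ Fin 2) F).mulVec v - v = 0
    rw [hv, sub_self]
  rw [← heq] at hvN
  obtain ⟨u, rfl⟩ := hvN
  set Mx := (φ x : Matrix (Fin 2 ⊕ Fin 2) (Fin 2 ⊕ Fin 2) F)
  show dotProduct (Mx.mulVec u - u) _ = 0
  have hsymp := SymplecticGroup.mem_iff'.mp (φ x).2
  have e : dotProduct (Mx.mulVec u) ((Matrix.J (Fin 2) F).mulVec (Mx.mulVec v')) =
      dotProduct u ((Matrix.J (Fin 2) F).mulVec v') := by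
    conv_rhs => rw [← hsymp, ← Matrix.mulVec_mulVec, ← Matrix.mulVec_mulVec, Matrix.dotProduct_mulVec, Matrix.vecMul_transpose]
  rw [hv'] at e
  rw [sub_dotProduct, e, sub_self]

end Cfsg.Agent.S3213
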