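import Cfsg.Statements.S3215
import Cfsg.Agent.Lib.FrobCompl.Noncyclic
import Cfsg.Agent.Lib.PSolvable.Core
import Cfsg.Agent.Lib.Fitting.Basic
import Cfsg.Agent.Lib.Coprime.Action
import Cfsg.Agent.Lib.Transfer.Basic
import Cfsg.Agent.Lib.Critical.Basic

set_option autoImplicit false
open Cfsg

namespace Cfsg.Agent.S3215

open CfsgLib
open scoped commutatorElement

/-- In a group with a normal 2-complement, elements of odd order centralize normal 2-subgroups. -/
theorem commute_of_npc {K : Type*} [Group K] [Finite K] (h : Cfsg.HasNormalPComplement 2 K)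
    (R : Subgroup K) [R.Normal] (hR : IsPGroup 2 R) {x y : K} (hx : Odd (orderOf x)) (hy : y ∈ R) :
    x * y = y * x := by
  haveI := Fact.mk Nat.prime_two
  haveI := Transfer.pResidual_normal 2 K
  have h2 := Transfer.hasNormalPComplement_iff_pResidual.mp h
  have hd : Disjoint (Cfsg.pResidual 2 K) R := by
    obtain ⟨n, hn⟩ := IsPGroup.iff_card.mp hR
    rw [disjoint_iff]
    refine Subgroup.inf_eq_bot_of_coprime ?_
    rw [hn]
    exact Nat.Coprime.pow_right n (Nat.prime_two.coprime_iff_not_dvd.mpr h2).symm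
  exact (Subgroup.commute_of_normal_of_disjoint _ _ inferInstance inferInstance hd x y
    (Transfer.mem_pResidual_of_coprime (Nat.coprime_two_right.mpr hx)) hy).eq

variable {H : Type*} [Group H] [Finite H]

/-- An element of odd order commuting with an involution centralizes the fixed points of the involution on the 2-core. -/
theorem commute_fixed (hI : ∀ t : H, orderOf t = 2 → Cfsg.HasNormalPComplement 2 ↥(Subgroup.centralizer ({t} : Set H)))
    {t x y : H} (ht : orderOf t = 2) (hx : Odd (orderOf x)) (hxt : x * t = t * x)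
    (hy : y ∈ Cfsg.pCore 2 H) (hyt : y * t = t * y) : x * y = y * x := by
  haveI := Fitting.pCore_normal (G := H) 2
  have h := commute_of_npc (hI t ht) ((Cfsg.pCore 2 H).subgroupOf _)
    ((Fitting.pCore_isPGroup (G := H) 2).comap_of_injective _ (Subgroup.subtype_injective _))
    (x := ⟨x, Subgroup.mem_centralizer_singleton_iff.mpr hxt⟩)
    (y := ⟨y, Subgroup.mem_centralizer_singleton_iff.mpr hyt⟩) (by rwa [Subgroup.orderOf_mk]) hy
  exact congrArg Subtype.val h

theorem exists_involution_pow {y : H} (hy : IsPGroup 2 (Subgroup.zpowers y)) (hy1 : y ≠ 1) :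
    ∃ t ∈ Subgroup.zpowers y, orderOf t = 2 := by
  haveI := Fact.mk Nat.prime_two
  have h2 : 2 ∣ Nat.card (Subgroup.zpowers y) := by
    obtain ⟨n, hn⟩ := IsPGroup.iff_card.mp hy
    rcases n with _ | n
    · exact absurd (Subgroup.zpowers_eq_bot.mp (Subgroup.card_eq_one.mp (by simpa using hn))) hy1
    · rw [hn, pow_succ']; exact dvd_mul_right _ _
  obtain ⟨t, ht⟩ := exists_prime_orderOf_dvd_card' 2 h2
  exact ⟨t, t.2, by rw [Subgroup.orderOf_coe, ht]⟩

/-- Elements of odd order act fixed point freely on the 2-core. -/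
theorem fpf (hC : Subgroup.centralizer (Cfsg.pCore 2 H : Set H) ≤ Cfsg.pCore 2 H)
    (hI : ∀ t : H, orderOf t = 2 → Cfsg.HasNormalPComplement 2 ↥(Subgroup.centralizer ({t} : Set H)))
    {x y : H} (hx : Odd (orderOf x)) (hx1 : x ≠ 1) (hy : y ∈ Cfsg.pCore 2 H) (hy1 : y ≠ 1) :
    x * y ≠ y * x := by
  haveI := Fact.mk Nat.prime_two
  haveI := Fitting.pCore_normal (G := H) 2
  intro hxy
  have hR := Fitting.pCore_isPGroup (G := H) 2
  obtain ⟨t, hty, ht⟩ := exists_involution_pow (hR.to_le (Subgroup.zpowers_le.mpr hy)) hy1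
  have hxt : x * t = t * x := by
    obtain ⟨i, rfl⟩ := Subgroup.mem_zpowers_iff.mp hty
    exact (Commute.zpow_right hxy i).eq
  have hQ := Coprime.pxq (p := 2) (P := Subgroup.zpowers t) (Q := Subgroup.zpowers x)
    (Transfer.isPGroup_zpowers ⟨1, by rw [ht, pow_one]⟩)
    (by rw [Nat.card_zpowers]; exact Nat.coprime_two_right.mpr hx)
    (Subgroup.zpowers_le.mpr (Coprime.mem_centralizer_singleton_zpowers
      (Subgroup.mem_centralizer_singleton_iff.mpr hxt.symm)))
    hR (Subgroup.normalizer_eq_top (H := Cfsg.pCore 2 H) ▸ le_top) (Subgroup.normalizer_eq_top (H := Cfsg.pCore 2 H) ▸ le_top)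
    (by
      rintro u ⟨hu, hu'⟩
      refine Coprime.mem_centralizer_singleton_zpowers (Subgroup.mem_centralizer_singleton_iff.mpr ?_)
      exact (commute_fixed hI ht hx hxt hu (hu' t (Subgroup.mem_zpowers t)).symm).symm)
  have hxR : x ∈ Cfsg.pCore 2 H := hC (hQ (Subgroup.mem_zpowers x))
  obtain ⟨n, hn⟩ := IsPGroup.iff_orderOf.mp hR ⟨x, hxR⟩
  rw [Subgroup.orderOf_mk] at hn
  rcases n with _ | n
  · exact hx1 (orderOf_eq_one_iff.mp (by simpa using hn))
  · rw [hn, pow_succ] at hx; exact absurd hx (Nat.not_odd_iff_even.mpr (even_two.mul_left _))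

/-- A 2-element acting trivially modulo the 2-core on an element of odd order lies in the 2-core. -/
theorem mem_core_of_centralize (hC : Subgroup.centralizer (Cfsg.pCore 2 H : Set H) ≤ Cfsg.pCore 2 H)
    (hI : ∀ t : H, orderOf t = 2 → Cfsg.HasNormalPComplement 2 ↥(Subgroup.centralizer ({t} : Set H)))
    {f k : H} (hf : Odd (orderOf f)) (hf1 : f ≠ 1) (hk : IsPGroup 2 (Subgroup.zpowers k))
    (hfk : k⁻¹ * (f * k * f⁻¹) ∈ Cfsg.pCore 2 H) : k ∈ Cfsg.pCore 2 H := by
  haveI := Fact.mk Nat.prime_two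
  haveI hn := Fitting.pCore_normal (G := H) 2
  have hR := Fitting.pCore_isPGroup (G := H) 2
  by_contra hkR
  set K := Cfsg.pCore 2 H ⊔ Subgroup.zpowers k with hK
  have hK2 : IsPGroup 2 K := hR.to_sup_of_normal_left hk
  set A := Subgroup.zpowers f with hA
  have hAR : A ≤ Subgroup.normalizer (Cfsg.pCore 2 H : Set H) := by rw [Subgroup.normalizer_eq_top]; exact le_top
  have hAK : A ≤ Subgroup.normalizer (K : Set H) := by
    rw [hA, Subgroup.zpowers_le, Subgroup.mem_normalizer_iff_map_conj_eq]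
    have hle : K ≤ K.comap (MulAut.conj f).toMonoidHom := by
      rw [hK, sup_le_iff]
      refine ⟨fun r hr => Subgroup.mem_sup_left (hn.conj_mem r hr f), Subgroup.zpowers_le.mpr ?_⟩
      show f * k * f⁻¹ ∈ K
      rw [show f * k * f⁻¹ = k * (k⁻¹ * (f * k * f⁻¹)) by group]
      exact mul_mem (Subgroup.mem_sup_right (Subgroup.mem_zpowers k)) (Subgroup.mem_sup_left hfk)
    exact Subgroup.eq_of_le_of_card_ge (Subgroup.map_le_iff_le_comap.mpr hle)
      (Nat.card_congr (K.equivMapOfInjective _ (MulAut.conj f).injective).toEquiv).le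
  have hfix : ∀ a ∈ A, k⁻¹ * (a * k * a⁻¹) ∈ Cfsg.pCore 2 H := by
    intro a ha
    let π : H →* H ⧸ Cfsg.pCore 2 H := QuotientGroup.mk' _
    have hc : π f * π k = π k * π f := by
      have h1 : π (k⁻¹ * (f * k * f⁻¹)) = 1 := (QuotientGroup.eq_one_iff _).mpr hfk
      rw [map_mul, map_inv, inv_mul_eq_one, map_mul, map_mul, map_inv, eq_mul_inv_iff_mul_eq] at h1
      exact h1.symm
    obtain ⟨i, rfl⟩ := Subgroup.mem_zpowers_iff.mp ha
    refine (QuotientGroup.eq_one_iff _).mp (show π _ = 1 from ?_)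
    rw [map_mul, map_inv, inv_mul_eq_one, map_mul, map_mul, map_inv, map_zpow, eq_mul_inv_iff_mul_eq]
    exact (Commute.zpow_left hc i).eq.symm
  have hcop : (Nat.card A).Coprime (Nat.card K) := by
    obtain ⟨n, hn'⟩ := IsPGroup.iff_card.mp hK2
    rw [hn', Nat.card_zpowers]
    exact Nat.Coprime.pow_right n (Nat.coprime_two_right.mpr hf)
  haveI := hK2.isNilpotent
  obtain ⟨c, hc, hck⟩ := Coprime.exists_centralizer_mem_coset hAK hcop (Or.inr inferInstance) le_sup_left hAR
    (Subgroup.mem_sup_right (Subgroup.mem_zpowers k)) hfix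
  have hcf : f * c = c * f := hc.2 f (Subgroup.mem_zpowers f)
  have hc1 : c ≠ 1 := fun h => hkR (by rw [h, mul_one] at hck; exact inv_mem_iff.mp hck)
  obtain ⟨t, htc, ht⟩ := exists_involution_pow (hK2.to_le (Subgroup.zpowers_le.mpr hc.1)) hc1
  have hft : f * t = t * f := by
    obtain ⟨i, rfl⟩ := Subgroup.mem_zpowers_iff.mp htc
    exact (Commute.zpow_right hcf i).eq
  have hRne : Cfsg.pCore 2 H ≠ ⊥ := fun h => hf1 (by
    have : f ∈ Cfsg.pCore 2 H := hC (by simp [h, Subgroup.mem_centralizer_iff])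
    rw [h, Subgroup.mem_bot] at this
    exact this)
  have hnb : (Cfsg.pCore 2 H).subgroupOf K ≠ ⊥ := by
    rw [Ne, Subgroup.subgroupOf_eq_bot, disjoint_iff, inf_eq_left.mpr le_sup_left]
    exact hRne
  obtain ⟨y, hy, hy1⟩ := (Subgroup.bot_or_exists_ne_one _).resolve_left (Critical.inf_center_ne_bot _ hnb)
  have hyt : (y : H) * t = t * y :=
    congrArg Subtype.val (Subgroup.mem_center_iff.mp hy.2 ⟨t, (Subgroup.zpowers_le.mpr hc.1) htc⟩).symm
  exact fpf hC hI hf hf1 hy.1 (fun h => hy1 (Subtype.ext h)) (commute_fixed hI ht hf hft hy.1 hyt)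

/-- Let H be a finite solvable group with no nontrivial normal subgroup of odd order in which the centralizer of every involution has a normal 2-complement. Let X be a Hall 2'-subgroup of H (odd order, index a power of 2) and Y = O₂(H). Then no non-identity element of X commutes with a non-identity element of Y (so for X ≠ 1 the group XY is a Frobenius group with kernel Y), every Sylow subgroup of X is cyclic, XY is normal in H, and H/XY is a cyclic 2-group. -/
theorem result {H : Type*} [Group H] [Finite H] (hsol : Group.IsSolvable H)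
    (hO : Cfsg.oddCore H = ⊥)
    (hI : ∀ t : H, orderOf t = 2 → Cfsg.HasNormalPComplement 2 ↥(Subgroup.centralizer ({t} : Set H)))
    (X : Subgroup H) (hXodd : Odd (Nat.card X)) (hXidx : ∃ k : ℕ, X.index = 2 ^ k) :
    (∀ x ∈ X, x ≠ 1 → ∀ y ∈ Cfsg.pCore 2 H, y ≠ 1 → x * y ≠ y * x) ∧
      (∀ (p : ℕ) [Fact p.Prime] (P : Sylow p ↥X), IsCyclic ↥(P : Subgroup ↥X)) ∧
      (X ⊔ Cfsg.pCore 2 H).Normal ∧
      ∀ hN : (X ⊔ Cfsg.pCore 2 H).Normal, IsCyclic (H ⧸ (X ⊔ Cfsg.pCore 2 H)) ∧ IsPGroup 2 (H ⧸ (X ⊔ Cfsg.pCore 2 H)) := by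
  classical
  haveI := Fact.mk Nat.prime_two
  haveI := hsol
  haveI hn := Fitting.pCore_normal (G := H) 2
  set R := Cfsg.pCore 2 H with hR'
  have hR : IsPGroup 2 R := Fitting.pCore_isPGroup 2
  have hC : Subgroup.centralizer (R : Set H) ≤ R :=
    PSolvable.centralizer_pCore_le (PSolvable.isPSolvable_of_isSolvable hsol) hO
  have hodd : ∀ x ∈ X, Odd (orderOf x) := fun x hx => by
    refine hXodd.of_dvd_nat ?_
    rw [← Subgroup.orderOf_mk (H := X) x hx]
    exact orderOf_dvd_natCard _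
  have part1 : ∀ x ∈ X, x ≠ 1 → ∀ y ∈ R, y ≠ 1 → x * y ≠ y * x :=
    fun x hx hx1 y hy hy1 => fpf hC hI (hodd x hx) hx1 hy hy1
  -- cyclic Sylow subgroups
  have part2 : ∀ (p : ℕ) [Fact p.Prime] (P : Sylow p ↥X), IsCyclic ↥(P : Subgroup ↥X) := by
    intro p _ P
    by_cases hR1 : R = ⊥
    · haveI : Subsingleton X := ⟨fun a b => by
        have : ∀ z : X, z = 1 := fun z => by
          have := hC (show (z : H) ∈ _ by simp [hR1, Subgroup.mem_centralizer_iff])
          rw [hR1, Subgroup.mem_bot] at this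
          exact Subtype.ext this
        rw [this a, this b]⟩
      infer_instance
    by_cases hp2 : p = 2
    · subst hp2
      haveI : Subsingleton (P : Subgroup X) := by
        rw [← Finite.card_le_one_iff_subsingleton]
        obtain ⟨n, hn'⟩ := IsPGroup.iff_card.mp P.2
        rcases n with _ | n
        · exact hn'.le
        · exfalso
          have h1 := (P : Subgroup X).card_subgroup_dvd_card
          rw [hn', pow_succ'] at h1
          exact absurd ((dvd_mul_right 2 (2 ^ n)).trans h1) (by rw [← even_iff_two_dvd, Nat.not_even_iff_odd]; exact hXodd)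
      infer_instance
    set V := (Subgroup.center R).map R.subtype with hV
    haveI : IsMulCommutative V := Subgroup.map_isMulCommutative _ _
    have hV1 : V ≠ ⊥ := by
      haveI : Nontrivial R := (Subgroup.nontrivial_iff_ne_bot R).mpr hR1
      haveI := hR.center_nontrivial
      rw [hV, Ne, Subgroup.map_eq_bot_iff_of_injective _ R.subtype_injective]
      exact (Subgroup.nontrivial_iff_ne_bot _).mp inferInstance
    haveI : V.Normal := ConjAct.normal_of_characteristic_of_normal
    have hcyc := (FrobCompl.sylow_structure (G := H) (p := p) (P := (P : Subgroup X).map X.subtype) (A := X) (V := V) hV1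
      (by rw [Subgroup.normalizer_eq_top]; exact le_top)
      (fun e he he1 => (Subgroup.eq_bot_iff_forall _).mpr fun v hv => by
        by_contra hv1
        exact part1 e he he1 v (Subgroup.map_subtype_le _ hv.1) hv1 (Subgroup.mem_centralizer_singleton_iff.mp hv.2).symm)
      (P.2.map _) (Subgroup.map_subtype_le _)).1 hp2
    exact isCyclic_of_surjective ((P : Subgroup X).equivMapOfInjective _ X.subtype_injective).symm
      ((P : Subgroup X).equivMapOfInjective _ X.subtype_injective).symm.surjective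
  refine ⟨part1, part2, ?_⟩
  -- pass to the quotient by the core
  let π : H →* H ⧸ R := QuotientGroup.mk' R
  have hπs : Function.Surjective π := QuotientGroup.mk'_surjective R
  have hker : π.ker = R := QuotientGroup.ker_mk' R
  haveI : Group.IsSolvable (H ⧸ R) := Group.isSolvable_of_surjective hπs
  set F := Cfsg.fittingSubgroup (H ⧸ R) with hF
  haveI hFn : F.Normal := Fitting.fittingSubgroup_normal
  haveI hFnil : Group.IsNilpotent F := Fitting.fittingSubgroup_isNilpotent
  have hFC : Subgroup.centralizer (F : Set (H ⧸ R)) ≤ F := PSolvable.centralizer_fittingSubgroup_le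
  have hcore : Cfsg.pCore 2 (H ⧸ R) ≤ ⊥ := by
    intro x hx
    obtain ⟨g, rfl⟩ := hπs x
    have h := Fitting.le_pCore ((Fitting.pCore_normal 2).comap π)
      ((Fitting.pCore_isPGroup (G := H ⧸ R) 2).comap_of_ker_isPGroup π (by rw [hker]; exact hR))
    exact Subgroup.mem_bot.mpr ((QuotientGroup.eq_one_iff g).mpr (h hx))
  have hFodd : (Nat.card F).Coprime 2 := by
    obtain ⟨S⟩ : Nonempty (Sylow 2 F) := inferInstance
    have h03 : ∀ (p : ℕ) (_ : Fact p.Prime) (P : Sylow p F), (P : Subgroup F).Normal :=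
      ((Group.isNilpotent_of_finite_tfae (G := F)).out 0 3).mp hFnil
    haveI : (S : Subgroup F).Characteristic := Sylow.characteristic_of_normal S (h03 2 inferInstance S)
    have h1 : (S : Subgroup F).map F.subtype = ⊥ :=
      le_bot_iff.mp ((Fitting.le_pCore ConjAct.normal_of_characteristic_of_normal (S.2.map _)).trans hcore)
    rw [Subgroup.map_eq_bot_iff_of_injective _ F.subtype_injective] at h1
    have := S.not_dvd_index
    rw [h1, Subgroup.index_bot] at this
    exact (Nat.prime_two.coprime_iff_not_dvd.mpr this).symm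
  set Xb := X.map π with hXb
  obtain ⟨k, hk⟩ := hXidx
  have hFX : F ≤ Xb := by
    have h1 : Xb.relIndex F ∣ Xb.index := Fitting.relIndex_dvd_index_of_normal_right Xb F
    have h2 : Xb.index ∣ 2 ^ k := hk ▸ Subgroup.index_map_dvd X hπs
    have h3 : Xb.relIndex F ∣ Nat.card F := Subgroup.index_dvd_card _
    exact Subgroup.relIndex_eq_one.mp (Nat.eq_one_of_dvd_coprimes (hFodd.pow_right k) h3 (h1.trans h2))
  haveI : IsZGroup X := ⟨fun p hp P => haveI := Fact.mk hp; part2 p P⟩
  haveI : IsZGroup Xb := IsZGroup.of_surjective (f := π.subgroupMap X) (π.subgroupMap_surjective X)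
  haveI : IsZGroup F := IsZGroup.of_injective (f := Subgroup.inclusion hFX) (Subgroup.inclusion_injective hFX)
  haveI hFc : IsCyclic F := inferInstance
  have hcomm : ∀ a b : H ⧸ R, ⁅a, b⁆ ∈ F := by
    intro a b
    refine hFC (Subgroup.mem_centralizer_iff.mpr fun f hf => ?_)
    let θ : H ⧸ R →* MulAut F := MulAut.conjNormal
    have hab : θ ⁅a, b⁆ = 1 := by
      rw [map_commutatorElement, commutatorElement_eq_one_iff_mul_comm]
      apply (IsCyclic.mulAutMulEquiv F).injective
      rw [map_mul, map_mul, mul_comm]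
    have h0 : θ ⁅a, b⁆ ⟨f, hf⟩ = ⟨f, hf⟩ := by rw [hab]; rfl
    have h : ⁅a, b⁆ * f * ⁅a, b⁆⁻¹ = f := congrArg Subtype.val h0
    exact (mul_inv_eq_iff_eq_mul.mp h).symm
  haveI hXbn : Xb.Normal := ⟨fun n hn' g => by
    have : g * n * g⁻¹ = ⁅g, n⁆ * n := by rw [commutatorElement_def]; group
    rw [this]; exact mul_mem (hFX (hcomm g n)) hn'⟩
  have hXR : X ⊔ R = Xb.comap π := by rw [hXb, Subgroup.comap_map_eq, hker]
  refine ⟨hXR ▸ hXbn.comap π, fun hN => ?_⟩
  let q : H →* H ⧸ (X ⊔ R) := QuotientGroup.mk' (X ⊔ R)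
  have hQ2 : IsPGroup 2 (H ⧸ (X ⊔ R)) := by
    obtain ⟨l, -, hl⟩ := (Nat.dvd_prime_pow Nat.prime_two).mp (hk ▸ Subgroup.index_dvd_of_le (le_sup_left : X ≤ X ⊔ R))
    exact IsPGroup.of_card (n := l) (by rw [← Subgroup.index_eq_card, hl])
  refine ⟨?_, hQ2⟩
  obtain ⟨T⟩ : Nonempty (Sylow 2 H) := inferInstance
  have hTs : ∀ z : H ⧸ (X ⊔ R), ∃ a ∈ (T : Subgroup H), q a = z := by
    have htop : (T.mapSurjective (QuotientGroup.mk'_surjective (X ⊔ R)) : Subgroup (H ⧸ (X ⊔ R))) = ⊤ :=
      ((T.mapSurjective (QuotientGroup.mk'_surjective (X ⊔ R))).is_maximal' (hQ2.to_subgroup ⊤) le_top).symm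
    intro z
    have : z ∈ (T : Subgroup H).map q := by
      rw [Sylow.coe_mapSurjective] at htop
      rw [show (T : Subgroup H).map q = ⊤ from htop]; trivial
    exact this
  by_cases hF1 : F = ⊥
  · have htop : X ⊔ R = ⊤ := by
      rw [hXR, eq_top_iff]
      intro g _
      have : π g ∈ F := hFC (by simp [hF1, Subgroup.mem_centralizer_iff])
      rw [hF1, Subgroup.mem_bot] at this
      exact Subgroup.mem_comap.mpr (this ▸ one_mem _)
    haveI : Subsingleton (H ⧸ (X ⊔ R)) := ⟨fun a b => by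
      obtain ⟨a, rfl⟩ := QuotientGroup.mk'_surjective _ a
      obtain ⟨b, rfl⟩ := QuotientGroup.mk'_surjective _ b
      exact QuotientGroup.eq.mpr (htop.symm ▸ Subgroup.mem_top _)⟩
    exact isCyclic_of_subsingleton
  have hcard : 1 < Nat.card F := (Subgroup.one_lt_card_iff_ne_bot F).mpr hF1
  obtain ⟨p, hp, hpd⟩ := Nat.exists_prime_and_dvd hcard.ne'
  haveI := Fact.mk hp
  obtain ⟨f, hf⟩ := exists_prime_orderOf_dvd_card' (G := F) p hpd
  have hf' : orderOf (f : H ⧸ R) = p := by rw [Subgroup.orderOf_coe, hf]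
  obtain ⟨f', hf'X, hff⟩ := hFX f.2
  set C0 := Subgroup.zpowers (f : H ⧸ R) with hC0
  haveI : C0.Normal := ⟨fun n hn' g => by
    obtain ⟨i, rfl⟩ := Subgroup.mem_zpowers_iff.mp hn'
    obtain ⟨m, hm⟩ := MonoidHom.map_cyclic (MulAut.conjNormal g : MulAut F).toMonoidHom
    have h : g * (f : H ⧸ R) * g⁻¹ = (f : H ⧸ R) ^ m := congrArg Subtype.val (hm f)
    rw [← conj_zpow, h, ← zpow_mul]
    exact zpow_mem (Subgroup.mem_zpowers _) _⟩
  haveI : IsCyclic (MulAut C0) := by
    haveI : IsCyclic (ZMod (Nat.card C0))ˣ := by rw [hC0, Nat.card_zpowers, hf']; infer_instance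
    exact isCyclic_of_surjective (IsCyclic.mulAutMulEquiv C0).symm (IsCyclic.mulAutMulEquiv C0).symm.surjective
  let θ : H →* MulAut C0 := (MulAut.conjNormal : H ⧸ R →* MulAut C0).comp π
  obtain ⟨⟨s, τ, hτ, rfl⟩, hgen⟩ := IsCyclic.exists_generator (α := (T : Subgroup H).map θ)
  refine ⟨⟨q τ, fun z => ?_⟩⟩
  obtain ⟨a, ha, rfl⟩ := hTs z
  obtain ⟨i, hi⟩ := Subgroup.mem_zpowers_iff.mp (hgen ⟨θ a, a, ha, rfl⟩)
  have hi' : θ τ ^ i = θ a := congrArg Subtype.val hi
  have hmem : a * (τ ^ i)⁻¹ ∈ R := by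
    set k := a * (τ ^ i)⁻¹ with hkdef
    have hk1 : θ k = 1 := by rw [hkdef, map_mul, map_inv, map_zpow, hi', mul_inv_cancel]
    refine mem_core_of_centralize hC hI (f := f') (hodd f' hf'X) (fun h => ?_)
      (T.2.to_le (Subgroup.zpowers_le.mpr (mul_mem ha (inv_mem (zpow_mem hτ i))))) ?_
    · rw [h, map_one] at hff; rw [← hff, orderOf_one] at hf'; exact hp.one_lt.ne hf'
    · have h0 : θ k ⟨f, Subgroup.mem_zpowers _⟩ = ⟨f, Subgroup.mem_zpowers _⟩ := by rw [hk1]; rfl
      have h : π k * (f : H ⧸ R) * (π k)⁻¹ = f := congrArg Subtype.val h0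
      refine (QuotientGroup.eq_one_iff _).mp (show π _ = 1 from ?_)
      rw [map_mul, map_mul, map_mul, map_inv, map_inv, hff]
      rw [mul_inv_eq_iff_eq_mul] at h
      rw [← h, mul_inv_cancel_right, inv_mul_cancel]
  refine ⟨i, ?_⟩
  show q τ ^ i = q a
  rw [← map_zpow]
  refine (mul_inv_eq_one.mp ?_).symm
  rw [← map_inv, ← map_mul]
  exact (QuotientGroup.eq_one_iff _).mpr (Subgroup.mem_sup_right hmem)

end Cfsg.Agent.S3215
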