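import Cfsg.Statements.S3219
import Cfsg.Agent.Lib.TwoPointStab.OddCases
import Cfsg.Agent.Lib.TwoPointStab.Elim
import Cfsg.Agent.Lib.TwoPointStab.Recognize
import Cfsg.Agent.Lib.TwoPointStab.Sixteen
import Cfsg.Agent.Lib.Invol.SwapPair

set_option autoImplicit false
open Cfsg

namespace Cfsg.Agent.S3219

/-- Let G be a finite doubly transitive permutation group on a set Ω in which the stabilizer of two points is isomorphic to the alternating group A₄. Then Ω has 6 points and G ≅ A₆, or Ω has 15 points and G ≅ A₇, or Ω has 16 points and G is isomorphic to the group of all affine transformations of the affine plane over the field with 4 elements, or G = C_G(J)O(G) for some involution J of G, where O(G) is the largest normal subgroup of G of odd order. -/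
theorem result {G : Type*} [Group G] [Finite G] {Ω : Type*} [Fintype Ω] [MulAction G Ω] [FaithfulSMul G Ω]
    (h2 : MulAction.IsMultiplyPretransitive G Ω 2) (a b : Ω) (hab : a ≠ b)
    (e : ↥(MulAction.stabilizer G a ⊓ MulAction.stabilizer G b) ≃* ↥(alternatingGroup (Fin 4))) :
    (Fintype.card Ω = 6 ∧ Nonempty (G ≃* ↥(alternatingGroup (Fin 6)))) ∨ (Fintype.card Ω = 15 ∧ Nonempty (G ≃* ↥(alternatingGroup (Fin 7)))) ∨
      (Fintype.card Ω = 16 ∧ ∃ (F : Type) (_ : Field F) (_ : Fintype F), Fintype.card F = 4 ∧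
        Nonempty (G ≃* ((Fin 2 → F) ≃ᵃ[F] (Fin 2 → F)))) ∨
      (∃ J : G, orderOf J = 2 ∧ Subgroup.centralizer ({J} : Set G) ⊔ Cfsg.oddCore G = ⊤) := by
  classical
  open CfsgLib.TwoPointStab in
  have h : Conf G Ω a b 3 6 := conf_of_iso (pairs_of_multiply h2)
    (fun g hg => eq_of_smul_eq_smul fun p : Ω => by rw [hg, one_smul]) hab altFacts_four (Or.inl ⟨rfl, rfl⟩) e
  obtain ⟨z, hz⟩ := h.exists_inv2
  obtain ⟨v, k⟩ := h.exists_klein hz
  rw [← Nat.card_eq_fintype_card]
  rcases Nat.mod_two_eq_zero_or_one (Nat.card Ω) with heven | hodd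
  · rcases h.even_cases k heven with ⟨-, hn⟩ | ⟨-, hn, hf, hfull, ht⟩ | ⟨-, hn, hf, hall⟩ | ⟨h', -⟩ | ⟨h', -⟩
    · refine Or.inl ⟨hn, CfsgLib.TwoPointStab.alt_of_card h.faithful hn ?_⟩
      rw [h.card_group, hn]
      rfl
    · exact Or.inr (Or.inr (Or.inl ⟨hn, h.sixteen k rfl hn hf hfull ht⟩))
    · exact (h.not_28 k rfl hn hf hall).elim
    · exact absurd h' (by norm_num)
    · exact absurd h' (by norm_num)
  · rcases h.odd_cases k hodd with ⟨t, ht, -⟩ | ⟨⟨-, ⟨hn, hf⟩ | ⟨hn, hf⟩⟩ | ⟨h', -⟩, hfull, hy⟩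
    · exact Or.inr (Or.inr (Or.inr ⟨t, ht.1, CfsgLib.SwapPair.centralizer_sup_core ht⟩))
    · exact Or.inr (Or.inl ⟨hn, h.fifteen k rfl hn hf hy⟩)
    · exact (h.not_91 k rfl hn hf hfull).elim
    · exact absurd h' (by norm_num)

end Cfsg.Agent.S3219
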