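import Cfsg.Statements.S3222
import Cfsg.Agent.Lib.TwoSymFour.Small
import Cfsg.Agent.Lib.TwoSymFour.Big

set_option autoImplicit false
set_option linter.style.haveILetI false
open Cfsg

namespace Cfsg.Agent.S3222

/-- Let G be a finite group of even order such that (1) some involution t lying in the centre of a Sylow 2-subgroup of G has C_G(t) ≅ Z₂ × S₄, and (2) every Sylow 2-subgroup S of G satisfies C_G(S′) = S, where S′ is the derived subgroup of S. Then G = C_G(t) if G is solvable, and G ≅ S₆ otherwise. -/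
theorem result {G : Type*} [Group G] [Finite G] (hev : Even (Nat.card G))
    (t : G) (ht : orderOf t = 2) (T : Sylow 2 G) (htT : t ∈ (T : Subgroup G)) (htc : ∀ s ∈ (T : Subgroup G), s * t = t * s)
    (e : ↥(Subgroup.centralizer ({t} : Set G)) ≃* (Multiplicative (ZMod 2) × Equiv.Perm (Fin 4)))
    (h2 : ∀ S : Sylow 2 G, Subgroup.centralizer ((⁅(S : Subgroup G), (S : Subgroup G)⁆ : Subgroup G) : Set G) = (S : Subgroup G)) :
    (Group.IsSolvable G → Subgroup.centralizer ({t} : Set G) = ⊤) ∧
      (¬ Group.IsSolvable G → Nonempty (G ≃* Equiv.Perm (Fin 6))) := by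
  classical
  haveI := Fact.mk Nat.prime_two
  obtain ⟨htt, ht1⟩ := CfsgLib.BSW.orderOf_two_iff.mp ht
  set tC : Subgroup.centralizer ({t} : Set G) := ⟨t, CfsgLib.BSW.mem_cent.mpr rfl⟩ with htC
  set ι : CfsgLib.TwoSymFour.Mdl →* G :=
    (Subgroup.centralizer ({t} : Set G)).subtype.comp e.symm.toMonoidHom with hι
  have hr : ι.range = Subgroup.centralizer ({t} : Set G) := by
    rw [hι, MonoidHom.range_comp, MonoidHom.range_eq_top.mpr e.symm.surjective, ← MonoidHom.range_eq_map,
      Subgroup.range_subtype]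
  have hinj : Function.Injective ι :=
    (Subgroup.centralizer ({t} : Set G)).subtype_injective.comp e.symm.injective
  have het : e tC = (CfsgLib.TwoSymFour.cc, 1) := by
    refine CfsgLib.TwoSymFour.central _ ?_ ?_ ?_
    · rw [← map_mul, show tC * tC = 1 from Subtype.ext htt, map_one]
    · exact fun h => ht1 (congrArg Subtype.val (e.injective (h.trans (map_one e).symm)))
    · intro q
      have hc := CfsgLib.BSW.mem_cent.mp (e.symm q).2
      conv_lhs => rw [← e.apply_symm_apply q]
      conv_rhs => rw [← e.apply_symm_apply q]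
      rw [← map_mul, ← map_mul]
      exact congrArg e (Subtype.ext hc.symm)
  have hιt : ι (CfsgLib.TwoSymFour.cc, 1) = t := by
    rw [← het]
    show ((e.symm (e tC) : Subgroup.centralizer ({t} : Set G)) : G) = t
    rw [e.symm_apply_apply]
  -- the centraliser of the central involution of a Sylow subgroup
  set z := ι (1, CfsgLib.TwoSymFour.z0) with hz
  let D : Subgroup G := (Subgroup.centralizer ({((1, CfsgLib.TwoSymFour.z0) : CfsgLib.TwoSymFour.Mdl)} :
    Set CfsgLib.TwoSymFour.Mdl)).map ι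
  have hD : Nat.card D = 16 := by
    rw [Subgroup.card_map_of_injective hinj, ← CfsgLib.TwoSymFour.card_cent_z,
      ← Fintype.card_subtype, ← Nat.card_eq_fintype_card]
    exact Nat.card_congr (Equiv.subtypeEquivRight fun p => CfsgLib.BSW.mem_cent)
  have hsyl : ∀ P : Sylow 2 G, Nat.card P = 16 := by
    obtain ⟨k, hk⟩ := T.isPGroup'.exists_card_eq
    have hT48 : Nat.card T ∣ 48 := by
      rw [← CfsgLib.TwoSymFour.card_mdl, Nat.card_congr (MonoidHom.ofInjective hinj).toEquiv, hr]
      exact Subgroup.card_dvd_of_le fun s hs => CfsgLib.BSW.mem_cent.mpr (htc s hs)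
    obtain ⟨Q, hQ⟩ := (IsPGroup.of_card (p := 2) (n := 4) (show Nat.card D = 2 ^ 4 by rw [hD]; rfl)).exists_le_sylow
    have h16 : 16 ∣ Nat.card T := by
      rw [← hD, T.card_eq_multiplicity, ← Q.card_eq_multiplicity]
      exact Subgroup.card_dvd_of_le hQ
    rw [hk] at hT48 h16
    have hk4 : k ≤ 4 := by
      by_contra hlt
      have : 32 ∣ 48 := ((pow_dvd_pow 2 (show 5 ≤ k by omega)).trans hT48)
      omega
    have hk4' : 4 ≤ k := (Nat.pow_dvd_pow_iff_le_right (by norm_num)).mp (show 2 ^ 4 ∣ 2 ^ k from h16)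
    obtain rfl : k = 4 := by omega
    intro P
    rw [P.card_eq_multiplicity, ← T.card_eq_multiplicity, hk]; rfl
  let S : Sylow 2 G := Sylow.ofCard D (by rw [hD, ← Sylow.card_eq_multiplicity T, hsyl])
  have hSD : (S : Subgroup G) = D := Sylow.coe_ofCard _ _
  have hcentz : ∀ g, g * z = z * g → g ∈ ι.range := by
    intro g hg
    have : g ∈ (S : Subgroup G) := by
      rw [← h2 S]
      have hle : ⁅(S : Subgroup G), (S : Subgroup G)⁆ ≤ Subgroup.centralizer ({g} : Set G) := by
        rw [Subgroup.commutator_le, hSD]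
        rintro _ ⟨p, hp, rfl⟩ _ ⟨q, hq, rfl⟩
        have e0 : ι p * ι q * (ι p)⁻¹ * (ι q)⁻¹ = ι (p * q * p⁻¹ * q⁻¹) := by
          simp only [map_mul, map_inv]
        rw [CfsgLib.BSW.mem_cent, commutatorElement_def, e0]
        rcases CfsgLib.TwoSymFour.commutator_cent_z p q (CfsgLib.BSW.mem_cent.mp hp)
          (CfsgLib.BSW.mem_cent.mp hq) with h | h <;> rw [h]
        · simp
        · exact hg.symm
      rw [Subgroup.mem_centralizer_iff]
      exact fun x hx => CfsgLib.BSW.mem_cent.mp (hle hx)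
    rw [hSD] at this
    obtain ⟨p, -, rfl⟩ := this
    exact ⟨p, rfl⟩
  have hB : CfsgLib.TwoSymFour.Base ι :=
    ⟨hinj, fun g => by rw [hιt, hr]; exact CfsgLib.BSW.mem_cent.symm, hcentz, hsyl⟩
  obtain ⟨ι', M, hB', hιt', hM, hidx, hmem⟩ := hB.exists_normalised
  rw [hιt] at hιt'
  rcases hB'.split M hM hidx hmem with ⟨hsimple, hcard, hconj⟩ | ⟨M₂, hle, hN, hi4, hM₂, hcard⟩
  · have hns := hB'.not_solvable M hmem hsimple
    refine ⟨fun hs => absurd hs hns, fun _ => ?_⟩
    exact hB'.iso_six M hM hidx hmem hsimple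
      (hcard.resolve_left (hB'.not_oneSixtyEight M hM hidx hmem hsimple hconj))
  · obtain ⟨htop, hsol⟩ := hB'.of_twelve M₂ hi4
      (hcard.resolve_right (hB'.not_sixty M hM hidx hmem M₂ hle hN hi4 hM₂))
    refine ⟨fun _ => ?_, fun hns => absurd hsol hns⟩
    rwa [hιt'] at htop

end Cfsg.Agent.S3222
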