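import Cfsg.Statements.S3225
import Cfsg.Agent.Lib.Transfer.Thompson

set_option autoImplicit false
open Cfsg

namespace Cfsg.Agent.S3225

/-- Let G be a finite group of even order with no subgroup of index 2, S a Sylow 2-subgroup of G and M a subgroup of index 2 in S such that, for some n ≥ 1, every element of S outside M has order greater than 2^(n−1). Then every element of S of order 2ⁿ is conjugate in G to an element of M. -/
theorem result {G : Type*} [Group G] [Finite G] (hev : Even (Nat.card G))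
    (hG : ∀ H : Subgroup G, H.index ≠ 2) (S : Sylow 2 G) (M : Subgroup G) (hMS : M ≤ (S : Subgroup G)) (hM : M.relIndex (S : Subgroup G) = 2)
    (n : ℕ) (hn : 1 ≤ n) (hord : ∀ y ∈ (S : Subgroup G), y ∉ M → 2 ^ (n - 1) < orderOf y)
    (x : G) (hx : x ∈ (S : Subgroup G)) (hxn : orderOf x = 2 ^ n) :
    ∃ g : G, g * x * g⁻¹ ∈ M := by
  classical
  haveI := Fact.mk Nat.prime_two
  by_contra hno
  push Not at hno
  set φ := CfsgLib.Transfer.sgnHom (M.subgroupOf (S : Subgroup G)) hM with hφ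
  haveI : (S : Subgroup G).FiniteIndex := inferInstance
  have hval : ∀ y : G, ∀ hy : y ∈ (S : Subgroup G), φ ⟨y, hy⟩ = 1 ↔ y ∈ M := fun y hy =>
    (CfsgLib.Transfer.sgnHom_eq_one_iff (Q := M.subgroupOf (S : Subgroup G)) (h := hM))
  have hxM : x ∉ M := fun h => hno 1 (by simpa using h)
  set ι := φ ⟨x, hx⟩
  have hι : ι ≠ 1 := fun h => hxM ((hval x hx).mp h)
  have hι2 : ι * ι = 1 := Int.units_mul_self ι
  suffices h : MonoidHom.transfer φ x ≠ 1 by
    obtain ⟨N, -, hN, -⟩ := CfsgLib.Transfer.exists_index_two_of_hom (MonoidHom.transfer φ) h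
    exact hG N hN
  let := (S : Subgroup G).fintypeQuotientOfFiniteIndex
  rw [MonoidHom.transfer_eq_prod_quotient_orbitRel_zpowers_quot]
  set f := fun q : MulAction.orbitRel.Quotient (Subgroup.zpowers x) (G ⧸ (S : Subgroup G)) =>
    Function.minimalPeriod (x • ·) q.out with hf
  have hdvd : ∀ q, f q ∣ 2 ^ n := fun q => by
    rw [hf, ← hxn]
    refine Function.IsPeriodicPt.minimalPeriod_dvd ?_
    show (x • ·)^[orderOf x] q.out = q.out
    rw [smul_iterate, pow_orderOf_eq_one]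
    exact one_smul G _
  have hidx : Odd (∑ q, f q) := by
    rw [← Subgroup.index_eq_sum_minimalPeriod]
    exact Nat.odd_iff.mpr (Nat.two_dvd_ne_zero.mp S.not_dvd_index)
  have key : ∀ (k : ℕ) (a : G) (h : a⁻¹ * x ^ k * a ∈ (S : Subgroup G)), k ∣ 2 ^ n →
      φ ⟨_, h⟩ = ι ^ k := by
    intro k a h hk
    obtain ⟨r, -, rfl⟩ := (Nat.dvd_prime_pow Nat.prime_two).mp hk
    rcases r with _ | r
    · have h1 : φ ⟨_, h⟩ ≠ 1 := fun e => hno a⁻¹ (by
        have := (hval _ _).mp e
        simpa using this)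
      rcases Int.units_eq_one_or ι with hi | hi
      · exact absurd hi hι
      · rw [(Int.units_eq_one_or _).resolve_left h1, pow_zero, pow_one, hi]
    · rw [show ι ^ 2 ^ (r + 1) = 1 by rw [pow_succ' 2 r, pow_mul, pow_two, hι2, one_pow], hval]
      by_contra hnot
      have h1 := hord _ h hnot
      have h2 : orderOf (a⁻¹ * x ^ 2 ^ (r + 1) * a) ≤ 2 ^ (n - 1) := by
        refine Nat.le_of_dvd (by positivity) (orderOf_dvd_of_pow_eq_one ?_)
        obtain ⟨m, rfl⟩ : ∃ m, n = m + 1 := ⟨n - 1, by omega⟩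
        rw [Nat.add_sub_cancel, show a⁻¹ * x ^ 2 ^ (r + 1) * a =
          a⁻¹ * x ^ 2 ^ (r + 1) * (a⁻¹)⁻¹ by rw [inv_inv], conj_pow, ← pow_mul,
          show 2 ^ (r + 1) * 2 ^ m = orderOf x * 2 ^ r by rw [hxn]; ring, pow_mul, pow_orderOf_eq_one,
          one_pow]
        simp
      omega
  have hone : ∀ q : MulAction.orbitRel.Quotient (Subgroup.zpowers x) (G ⧸ (S : Subgroup G)),
      φ ⟨q.out.out⁻¹ * x ^ f q * q.out.out,
        QuotientGroup.out_conj_pow_minimalPeriod_mem (S : Subgroup G) x q.out⟩ = ι ^ f q :=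
    fun q => key _ _ _ (hdvd q)
  rw [Fintype.prod_congr _ _ hone, Finset.prod_pow_eq_pow_sum]
  obtain ⟨k, hk⟩ := hidx
  rw [hk, pow_succ, pow_mul, pow_two, hι2, one_pow, one_mul]
  exact hι
end Cfsg.Agent.S3225
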