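import Cfsg.Statements.S3243
import Cfsg.Agent.Lib.OrderSix.IndexThree
import Cfsg.Agent.Lib.OrderSix.QuatCase
import Cfsg.Agent.Lib.OrderSix.KleinCase
import Cfsg.Agent.Lib.OrderSix.IndexSixty
import Cfsg.Agent.Lib.OrderSix.IndexBig

set_option autoImplicit false
open Cfsg

namespace Cfsg.Agent.S3243

/-- Let G be a finite non-abelian simple group with a single conjugacy class of involutions containing an element t of order 6 with C_G(t) = ⟨t⟩. Then G is isomorphic to L₂(11), L₂(13), L₃(3), the Mathieu group M₁₁, or the Janko group J₁. -/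
theorem result {G : Type*} [Group G] [Finite G] [IsSimpleGroup G]
    (hG : ¬ IsMulCommutative G) (h1 : ∀ x y : G, orderOf x = 2 → orderOf y = 2 → IsConj x y)
    (t : G) (ht : orderOf t = 6) (hC : Subgroup.centralizer ({t} : Set G) = Subgroup.zpowers t) :
    (∃ (F : Type) (_ : Field F) (_ : Fintype F), (Fintype.card F = 11 ∨ Fintype.card F = 13) ∧
        Nonempty (G ≃* Matrix.ProjectiveSpecialLinearGroup (Fin 2) F)) ∨
      (∃ (F : Type) (_ : Field F) (_ : Fintype F), Fintype.card F = 3 ∧ Nonempty (G ≃* Matrix.ProjectiveSpecialLinearGroup (Fin 3) F)) ∨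
      Cfsg.Spor.IsoM11 G ∨ Cfsg.Spor.IsoJ1 G := by
  have h6 : t ^ 6 = 1 := ht ▸ pow_orderOf_eq_one t
  have hc3 : (t ^ 4) ^ 3 = 1 := by rw [← pow_mul, show 4 * 3 = 6 * 2 from rfl, pow_mul, h6, one_pow]
  have h7 : t ^ 3 * t ^ 4 = t := by rw [← pow_add, pow_succ, h6, one_mul]
  have h : CfsgLib.OrderSix.Six (t ^ 3) (t ^ 4) := by
    refine ⟨inferInstance, hG, h1, ?_, ?_, pow_mul_comm t 3 4, fun g hu hc => ?_⟩
    · rw [orderOf_pow' t (by norm_num), ht]; rfl
    · rw [orderOf_pow' t (by norm_num), ht]; rfl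
    have hg : g ∈ Subgroup.zpowers t := by
      rw [← hC, Subgroup.mem_centralizer_singleton_iff, ← h7]
      exact (Commute.mul_right hu hc).eq
    obtain ⟨n, rfl⟩ := (Submonoid.mem_powers_iff _ _).mp (mem_powers_iff_mem_zpowers.mpr hg)
    refine ⟨n, ?_⟩
    rcases Nat.even_or_odd n with ⟨m, rfl⟩ | ⟨m, rfl⟩
    · left
      rw [← pow_mul, show 4 * (m + m) = (m + m) + 6 * m by ring, pow_add _ (m + m), pow_mul t 6, h6, one_pow,
        mul_one]
    · right
      rw [← pow_mul, ← pow_add, show 3 + 4 * (2 * m + 1) = (2 * m + 1) + 6 * (m + 1) by ring,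
        pow_add _ (2 * m + 1), pow_mul t 6, h6, one_pow, mul_one]
  rcases CfsgLib.OrderSix.idx_cases h with e | e | e | e
  · exact (h.index_three_false e).elim
  · by_cases hT : CfsgLib.OrderSix.cT (t ^ 3) = Subgroup.zpowers (t ^ 3)
    · exact Or.inl (h.index_six_klein e hT)
    · rcases h.index_six_quat e (CfsgLib.OrderSix.u_mem_cD h (Or.inr e) (Or.inr ⟨e, hT⟩)) with r | r
      · exact Or.inr (Or.inl r)
      · exact Or.inr (Or.inr (Or.inl r))
  · exact Or.inr (Or.inr (Or.inr (h.index_sixty e)))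
  · exact (h.index_big_false e).elim

end Cfsg.Agent.S3243
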