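import Cfsg.Statements.S3246
import Cfsg.Agent.Lib.PSolvable.LocalConstrained
import Cfsg.Agent.Lib.Coprime.Generation
import Cfsg.Agent.Lib.Critical.Basic

set_option autoImplicit false
open Cfsg

namespace Cfsg.Agent.S3246

/-- Let G be a finite group whose Sylow 2-subgroup S has a self-centralizing normal subgroup of rank at least 3. Suppose that either every maximal 2-local subgroup of G is 2-constrained with no nontrivial normal subgroup of odd order, or the centralizer of every involution of G is 2-constrained with no nontrivial normal subgroup of odd order. Then S normalizes no nontrivial subgroup of G of odd order and every 2-local subgroup of G is 2-constrained. -/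
theorem result {G : Type*} [Group G] [Finite G]
    (S : Sylow 2 G) (A : Subgroup G) (hA : Cfsg.IsSCN (S : Subgroup G) A) (hA3 : ¬ Cfsg.PRankLE 2 2 ↥A)
    (h : (∀ M : Subgroup G, Cfsg.IsMaximalTwoLocal M → Cfsg.IsPConstrained 2 ↥M ∧ Cfsg.oddCore ↥M = ⊥) ∨
      (∀ t : G, orderOf t = 2 → Cfsg.IsPConstrained 2 ↥(Subgroup.centralizer ({t} : Set G)) ∧
        Cfsg.oddCore ↥(Subgroup.centralizer ({t} : Set G)) = ⊥)) :
    (∀ X : Subgroup G, Odd (Nat.card ↥X) → (S : Subgroup G) ≤ Subgroup.normalizer (X : Set G) → X = ⊥) ∧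
      (∀ T : Subgroup G, IsPGroup 2 ↥T → T ≠ ⊥ → Cfsg.IsPConstrained 2 ↥(Subgroup.normalizer (T : Set G))) := by
  classical
  haveI : Fact (Nat.Prime 2) := ⟨Nat.prime_two⟩
  have hlocal : ∀ T : Subgroup G, IsPGroup 2 ↥T → T ≠ ⊥ →
      Cfsg.IsPConstrained 2 ↥(Subgroup.normalizer (T : Set G)) := by
    intro T hT hT1
    rcases h with h | h
    · obtain ⟨M, hNM, hM, hmax⟩ := Finite.exists_le_maximal (p := fun M : Subgroup G => Cfsg.IsTwoLocal M)
        (a := Subgroup.normalizer (T : Set G)) ⟨T, hT, hT1, rfl⟩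
      exact CfsgLib.PSolvable.isPConstrained_normalizer_of_le
        (h M ⟨hM, fun N hN hle => le_antisymm (hmax hN hle) hle⟩).1 hT hNM
    · exact CfsgLib.PSolvable.isPConstrained_normalizer_of_centralizers (fun t ht => (h t ht).1) hT hT1
  refine ⟨fun X hX hXS => ?_, hlocal⟩
  -- every involution centralizer lies in a constrained subgroup with trivial core
  have hover : ∀ v : G, orderOf v = 2 → ∃ M : Subgroup G,
      Subgroup.centralizer ({v} : Set G) ≤ M ∧
      Subgroup.centralizer (Cfsg.pCore 2 ↥M : Set ↥M) ≤ Cfsg.pCore 2 ↥M := by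
    intro v hv
    have hfrom : ∀ M : Subgroup G, Cfsg.IsPConstrained 2 ↥M → Cfsg.oddCore ↥M = ⊥ →
        Subgroup.centralizer (Cfsg.pCore 2 ↥M : Set ↥M) ≤ Cfsg.pCore 2 ↥M := fun M hc hO =>
      (CfsgLib.PSolvable.isPConstrained_iff_of_surjective (f := MonoidHom.id ↥M) (fun y => ⟨y, rfl⟩)
        (by rw [MonoidHom.ker_id]; exact hO.symm)).mp hc
    rcases h with h | h
    · have hV : IsPGroup 2 (Subgroup.zpowers v) :=
        IsPGroup.of_card (n := 1) (by rw [Nat.card_zpowers, hv, pow_one])
      have hV1 : Subgroup.zpowers v ≠ ⊥ := fun e => by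
        rw [Subgroup.zpowers_eq_bot] at e; simp [e] at hv
      obtain ⟨M, hNM, hM, hmax⟩ := Finite.exists_le_maximal (p := fun M : Subgroup G => Cfsg.IsTwoLocal M)
        (a := Subgroup.normalizer (Subgroup.zpowers v : Set G)) ⟨_, hV, hV1, rfl⟩
      obtain ⟨hc, hO⟩ := h M ⟨hM, fun N hN hle => le_antisymm (hmax hN hle) hle⟩
      refine ⟨M, le_trans ?_ hNM, hfrom M hc hO⟩
      rw [Subgroup.zpowers_eq_closure, ← Subgroup.centralizer_closure, ← Subgroup.zpowers_eq_closure]
      exact Subgroup.centralizer_le_normalizer _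
    · exact ⟨_, le_rfl, hfrom _ (h v hv).1 (h v hv).2⟩
  -- an involution with centralizer of index at most two in `S` acts fixed-point-freely
  have hkey : ∀ v : G, orderOf v = 2 →
      (∀ a ∈ (S : Subgroup G), ∀ b ∈ (S : Subgroup G), ¬ Commute a v → ¬ Commute b v → Commute (a * b) v) →
      X ⊓ Subgroup.centralizer ({v} : Set G) = ⊥ := by
    intro v hv hidx
    obtain ⟨M, hCM, hMc⟩ := hover v hv
    set T := (S : Subgroup G) ⊓ Subgroup.centralizer ({v} : Set G) with hT
    have hTM : T ≤ M := inf_le_right.trans hCM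
    have hST : Nat.card (S : Subgroup G) ≤ 2 * Nat.card T := by
      by_cases hall : ∀ a ∈ (S : Subgroup G), Commute a v
      · rw [show T = (S : Subgroup G) from inf_eq_left.mpr fun a ha =>
          Subgroup.mem_centralizer_singleton_iff.mpr (hall a ha)]
        omega
      · push Not at hall
        obtain ⟨a₀, ha₀, ha₀v⟩ := hall
        have hidx2 : (T.subgroupOf (S : Subgroup G)).index = 2 := by
          rw [Subgroup.index_eq_two_iff]
          refine ⟨⟨a₀, ha₀⟩, fun b => ?_⟩
          have hmem : ∀ c : (S : Subgroup G), c ∈ T.subgroupOf (S : Subgroup G) ↔ Commute (c : G) v :=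
            fun c => ⟨fun hc => Subgroup.mem_centralizer_singleton_iff.mp hc.2,
              fun hc => ⟨c.2, Subgroup.mem_centralizer_singleton_iff.mpr hc⟩⟩
          rw [hmem, hmem]
          by_cases hb : Commute (b : G) v
          · refine Or.inr ⟨hb, fun hc => ha₀v ?_⟩
            have := hb.inv_left.mul_left hc
            simpa using this
          · exact Or.inl ⟨hidx _ b.2 _ ha₀ hb ha₀v, hb⟩
        have h1 := (T.subgroupOf (S : Subgroup G)).card_mul_index
        rw [hidx2, Nat.card_congr (Subgroup.subgroupOfEquivOfLe (inf_le_left : T ≤ _)).toEquiv,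
          ← hT] at h1
        omega
    obtain ⟨R, hR⟩ := IsPGroup.exists_le_sylow (P := T.subgroupOf M)
      ((S.2.to_le inf_le_left).of_equiv (Subgroup.subgroupOfEquivOfLe hTM).symm)
    have hRS : Nat.card (R : Subgroup M) ≤ 2 * Nat.card T := by
      obtain ⟨P, hP⟩ := IsPGroup.exists_le_sylow (R.2.map M.subtype)
      calc Nat.card (R : Subgroup M) = Nat.card ((R : Subgroup M).map M.subtype) :=
            (Subgroup.card_map_of_injective M.subtype_injective).symm
        _ ≤ Nat.card (P : Subgroup G) := Subgroup.card_le_of_le hP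
        _ = Nat.card (S : Subgroup G) := by rw [P.card_eq_multiplicity, S.card_eq_multiplicity]
        _ ≤ 2 * Nat.card T := hST
    set Q := Cfsg.pCore 2 ↥M
    haveI : Q.Normal := CfsgLib.Fitting.pCore_normal 2
    have hQp : IsPGroup 2 Q := CfsgLib.Fitting.pCore_isPGroup 2
    have hQR : Q ≤ (R : Subgroup M) := by
      have h1 : IsPGroup 2 ↥((R : Subgroup M) ⊔ Q) := R.2.to_sup_of_normal_right hQp
      exact le_sup_right.trans (R.3 h1 le_sup_left).le
    -- two elements of `R` outside `T`
    have hmul : ∀ a ∈ (R : Subgroup M), ∀ b ∈ (R : Subgroup M), (a : G) ∉ T → (b : G) ∉ T →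
        (a : G) * b ∈ T := by
      intro a ha b hb haT hbT
      let T' : Subgroup (R : Subgroup M) := (T.subgroupOf M).subgroupOf (R : Subgroup M)
      have hcT : Nat.card T' = Nat.card T :=
        (Nat.card_congr (Subgroup.subgroupOfEquivOfLe hR).toEquiv).trans
          (Nat.card_congr (Subgroup.subgroupOfEquivOfLe hTM).toEquiv)
      have hidx2 : T'.index = 2 := by
        have h1 := T'.card_mul_index
        rw [hcT] at h1
        have h2 : T'.index ≠ 1 := fun h => haT
          (show (⟨a, ha⟩ : (R : Subgroup M)) ∈ T' from (Subgroup.index_eq_one.mp h) ▸ Subgroup.mem_top _)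
        have h3 : 0 < T'.index := Nat.pos_of_ne_zero Subgroup.index_ne_zero_of_finite
        have h4 : 0 < Nat.card T := Nat.card_pos
        have h5 : T'.index ≤ 2 := Nat.le_of_mul_le_mul_left
          (le_of_eq_of_le h1 (hRS.trans (Nat.mul_comm _ _).le)) h4
        omega
      exact (Subgroup.mul_mem_iff_of_index_two hidx2 (a := ⟨a, ha⟩) (b := ⟨b, hb⟩)).mpr
        ⟨fun h => absurd h haT, fun h => absurd h hbT⟩
    rw [Subgroup.eq_bot_iff_forall]
    intro y hy
    obtain ⟨hyX, hyv⟩ := Subgroup.mem_inf.mp hy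
    have hyM : y ∈ M := hCM hyv
    set Y := X ⊓ Subgroup.centralizer ({v} : Set G)
    have hYodd : (Nat.card Y).Coprime 2 :=
      (Nat.coprime_two_right.mpr hX).coprime_dvd_left (Subgroup.card_dvd_of_le inf_le_left)
    have hfix : ∀ q ∈ Q, (q : G) ∈ T → y * q = q * y := by
      intro q hq hqT
      obtain ⟨hqS, hqv⟩ := Subgroup.mem_inf.mp hqT
      have h1 : y * q * y⁻¹ * (q : G)⁻¹ ∈ Q.map M.subtype :=
        mul_mem ⟨⟨y, hyM⟩ * q * ⟨y, hyM⟩⁻¹, (inferInstance : Q.Normal).conj_mem q hq _, rfl⟩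
          (inv_mem ⟨q, hq, rfl⟩)
      have h2 : y * q * y⁻¹ * (q : G)⁻¹ ∈ Y := by
        rw [show y * q * y⁻¹ * (q : G)⁻¹ = y * (q * y⁻¹ * (q : G)⁻¹) by group]
        refine mul_mem hy ⟨(Subgroup.mem_normalizer_iff.mp (hXS hqS) _).mp (inv_mem hyX), ?_⟩
        exact Subgroup.mul_mem _ (Subgroup.mul_mem _ hqv (Subgroup.inv_mem _ hyv)) (Subgroup.inv_mem _ hqv)
      have h3 := CfsgLib.PSolvable.eq_one_of_mem_of_mem (hQp.map _) hYodd h1 h2
      exact mul_inv_eq_iff_eq_mul.mp (mul_inv_eq_one.mp h3)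
    have hall : ∀ q ∈ Q, y * q = q * y := by
      intro q hq
      by_cases hqT : (q : G) ∈ T
      · exact hfix q hq hqT
      set yM : M := ⟨y, hyM⟩
      set q' := yM * q * yM⁻¹
      have hq' : q' ∈ Q := (inferInstance : Q.Normal).conj_mem q hq yM
      have hq'T : (q' : G) ∉ T := fun h => hqT (by
        have e1 := hfix q' hq' h
        have e2 : (q' : G) = q := by
          refine mul_left_cancel (a := y) ?_
          rw [e1]
          show y * q * y⁻¹ * y = y * q
          group
        rwa [← e2])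
      set c := q⁻¹ * q'
      have hc : c ∈ Q := mul_mem (inv_mem hq) hq'
      have hcT : (c : G) ∈ T :=
        hmul q⁻¹ (inv_mem (hQR hq)) q' (hQR hq') (fun h => hqT (by simpa using inv_mem h)) hq'T
      have hyc : yM * c * yM⁻¹ = c := Subtype.ext (mul_inv_eq_iff_eq_mul.mpr (hfix c hc hcT))
      have hiter : ∀ j : ℕ, yM ^ j * q * (yM ^ j)⁻¹ = q * c ^ j := fun j => by
        induction j with
        | zero => simp
        | succ j ih =>
          rw [pow_succ' yM, show yM * yM ^ j * q * (yM * yM ^ j)⁻¹ =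
            yM * (yM ^ j * q * (yM ^ j)⁻¹) * yM⁻¹ by group, ih,
            show yM * (q * c ^ j) * yM⁻¹ = (yM * q * yM⁻¹) * (yM * c * yM⁻¹) ^ j by rw [conj_pow]; group,
            hyc, show yM * q * yM⁻¹ = q * c from (mul_inv_cancel_left q q').symm, pow_succ', mul_assoc]
      have hcj : c ^ orderOf y = 1 := by
        have := hiter (orderOf y)
        rw [← Subgroup.orderOf_mk y hyM, pow_orderOf_eq_one] at this
        simpa [yM] using this.symm
      have hyodd : (orderOf y).Coprime 2 :=
        (Nat.coprime_two_right.mpr hX).coprime_dvd_left (X.orderOf_dvd_natCard hyX)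
      have hc1 : c = 1 := by
        obtain ⟨k, hk⟩ := IsPGroup.iff_orderOf.mp hQp ⟨c, hc⟩
        rw [Subgroup.orderOf_mk] at hk
        exact orderOf_eq_one_iff.mp (Nat.eq_one_of_dvd_coprimes
          ((hyodd.symm.pow_left k)) (hk ▸ dvd_rfl) (orderOf_dvd_of_pow_eq_one hcj))
      have : q' = q := by rw [← mul_inv_cancel_left q q', show q⁻¹ * q' = 1 from hc1, mul_one]
      exact mul_inv_eq_iff_eq_mul.mp (congrArg Subtype.val this)
    have hyQ : (⟨y, hyM⟩ : M) ∈ Q := hMc (Subgroup.mem_centralizer_iff.mpr fun q hq =>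
      Subtype.ext (hall q hq).symm)
    exact CfsgLib.PSolvable.eq_one_of_mem_of_mem (hQp.map M.subtype) hYodd ⟨_, hyQ, rfl⟩ hy
  -- a normal four-group through a central involution
  obtain ⟨hAS, hAN, hAC⟩ := hA
  have hAab : ∀ a ∈ A, ∀ b ∈ A, a * b = b * a := fun a ha b hb =>
    (Subgroup.mem_centralizer_iff.mp (hAC.ge ha).2 b hb).symm
  let E : Subgroup G :=
    { carrier := {a | a ∈ A ∧ a * a = 1}
      one_mem' := ⟨one_mem A, one_mul 1⟩
      mul_mem' := fun {a b} ha hb => ⟨mul_mem ha.1 hb.1, by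
        rw [Commute.mul_mul_mul_comm (hAab b hb.1 a ha.1), ha.2, hb.2, one_mul]⟩
      inv_mem' := fun {a} ha => ⟨inv_mem ha.1, by rw [← mul_inv_rev, ha.2, inv_one]⟩ }
  have hE4 : 4 < Nat.card E := by
    simp only [Cfsg.PRankLE, not_forall, not_le, exists_prop] at hA3
    obtain ⟨B, hBc, hBe, hB⟩ := hA3
    have h1 : Nat.card B ≤ Nat.card E := Nat.card_le_card_of_injective
      (fun b : B => (⟨((b : A) : G), (b : A).2, by
        simpa [pow_two] using congrArg Subtype.val (hBe _ b.2)⟩ : E))
      fun b b' h => Subtype.ext (Subtype.ext (congrArg (fun e : E => (e : G)) h))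
    have h2 : (2 : ℕ) ^ 2 = 4 := rfl
    omega
  let ES : Subgroup (S : Subgroup G) := E.subgroupOf (S : Subgroup G)
  have hES : E ≤ (S : Subgroup G) := fun a ha => hAS ha.1
  haveI hESn : ES.Normal := ⟨fun a ha s => by
    obtain ⟨h1, h2⟩ := (ha : (a : G) ∈ E)
    refine ⟨(Subgroup.mem_normalizer_iff.mp (hAN s.2) _).mp h1, ?_⟩
    show (s : G) * a * (s : G)⁻¹ * ((s : G) * a * (s : G)⁻¹) = 1
    rw [show (s : G) * a * (s : G)⁻¹ * ((s : G) * a * (s : G)⁻¹) = s * ((a : G) * a) * (s : G)⁻¹ by group,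
      show (a : G) * a = 1 from h2]
    simp⟩
  haveI : Group.IsNilpotent (S : Subgroup G) := S.2.isNilpotent
  have hEScard : Nat.card ES = Nat.card E := Nat.card_congr (Subgroup.subgroupOfEquivOfLe hES).toEquiv
  obtain ⟨z, hz, hz1⟩ := (Subgroup.bot_or_exists_ne_one _).resolve_left
    (CfsgLib.Critical.inf_center_ne_bot ES fun e => by rw [e, Subgroup.card_bot] at hEScard; omega)
  obtain ⟨hzE, hzC⟩ := Subgroup.mem_inf.mp hz
  haveI : (Subgroup.zpowers z).Normal := ⟨fun w hw g => by
    obtain ⟨k, rfl⟩ := Subgroup.mem_zpowers_iff.mp hw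
    rw [Subgroup.mem_center_iff.mp (zpow_mem hzC k) g, mul_inv_cancel_right]
    exact hw⟩
  set π := QuotientGroup.mk' (Subgroup.zpowers z)
  haveI : (ES.map π).Normal := hESn.map π (QuotientGroup.mk'_surjective _)
  have hzz : z * z = 1 := Subtype.ext ((hzE : (z : G) ∈ E).2)
  have hzo : orderOf z = 2 := orderOf_eq_prime (by rw [pow_two]; exact hzz) hz1
  have hmem : ∀ w : (S : Subgroup G), w ∈ Subgroup.zpowers z → w = 1 ∨ w = z := fun w hw => by
    obtain ⟨k, rfl⟩ := Subgroup.mem_zpowers_iff.mp hw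
    rcases Int.even_or_odd' k with ⟨j, rfl | rfl⟩
    · left; rw [zpow_mul, zpow_two, hzz, one_zpow]
    · right; rw [zpow_add, zpow_mul, zpow_two, hzz, one_zpow, one_mul, zpow_one]
  haveI : Group.IsNilpotent ((S : Subgroup G) ⧸ Subgroup.zpowers z) := (S.2.to_quotient _).isNilpotent
  obtain ⟨ub, hub, hub1⟩ := (Subgroup.bot_or_exists_ne_one _).resolve_left
    (CfsgLib.Critical.inf_center_ne_bot (ES.map π) fun e => by
      rw [Subgroup.map_eq_bot_iff, QuotientGroup.ker_mk'] at e
      have h1 := Subgroup.card_le_of_le e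
      rw [Nat.card_zpowers, hzo] at h1
      omega)
  obtain ⟨⟨u, huE, rfl⟩, hubC⟩ := Subgroup.mem_inf.mp hub
  have hu1 : u ≠ 1 := fun e => hub1 (by rw [e, map_one])
  have huz : u ≠ z := fun e => hub1 ((QuotientGroup.eq_one_iff _).mpr (e ▸ Subgroup.mem_zpowers z))
  have hzs : ∀ s : (S : Subgroup G), s * z = z * s := fun s => Subgroup.mem_center_iff.mp hzC s
  have huu : u * u = 1 := Subtype.ext ((huE : (u : G) ∈ E).2)
  have hus : ∀ s : (S : Subgroup G), s * u * s⁻¹ = u ∨ s * u * s⁻¹ = u * z := fun s => by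
    have h1 := Subgroup.mem_center_iff.mp hubC (π s)
    rw [← map_mul, ← map_mul] at h1
    rcases hmem _ ((QuotientGroup.eq).mp h1.symm : (u * s)⁻¹ * (s * u) ∈ Subgroup.zpowers z) with e | e
    · left; rw [← inv_mul_eq_one.mp e, mul_inv_cancel_right]
    · right
      have e' : s * u = u * s * z := by rw [← e, mul_inv_cancel_left]
      rw [e', mul_assoc u s z, hzs, ← mul_assoc, mul_inv_cancel_right]
  have hzu : u * z = z * u := hzs u
  -- each involution of the four-group
  have hinv : ∀ v : (S : Subgroup G), v = u ∨ v = z ∨ v = u * z →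
      X ⊓ Subgroup.centralizer ({(v : G)} : Set G) = ⊥ := by
    intro v hv
    have hv1 : v ≠ 1 := by
      rcases hv with rfl | rfl | rfl
      · exact hu1
      · exact hz1
      · exact fun e => huz ((eq_inv_of_mul_eq_one_left e).trans (inv_eq_of_mul_eq_one_right hzz))
    have hvv : v * v = 1 := by
      rcases hv with rfl | rfl | rfl
      · exact huu
      · exact hzz
      · rw [Commute.mul_mul_mul_comm (show z * u = u * z from hzu.symm), huu, hzz, one_mul]
    refine hkey v ((Subgroup.orderOf_coe v).trans (orderOf_eq_prime (by rw [pow_two]; exact hvv) hv1))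
      fun a ha b hb ha' hb' => ?_
    have hcase : ∀ s : (S : Subgroup G), ¬ Commute (s : G) v → s * v * s⁻¹ = v * z := by
      intro s hs
      have hne : s * v * s⁻¹ ≠ v := fun e => hs (congrArg Subtype.val (mul_inv_eq_iff_eq_mul.mp e))
      rcases hv with rfl | rfl | rfl
      · exact (hus s).resolve_left hne
      · exact absurd (by rw [hzs s, mul_inv_cancel_right]) hne
      · have e1 : s * (u * z) * s⁻¹ = s * u * s⁻¹ * z := by
          rw [← mul_assoc, mul_assoc (s * u), ← hzs s⁻¹, ← mul_assoc]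
        rcases hus s with e | e
        · exact absurd (by rw [e1, e]) hne
        · rw [e1, e]
    refine (congrArg Subtype.val (mul_inv_eq_iff_eq_mul.mp ?_ :
      (⟨a, ha⟩ : (S : Subgroup G)) * ⟨b, hb⟩ * v = v * (⟨a, ha⟩ * ⟨b, hb⟩)))
    have e1 := hcase ⟨a, ha⟩ ha'
    have e2 := hcase ⟨b, hb⟩ hb'
    generalize (⟨a, ha⟩ : (S : Subgroup G)) = a' at e1 ⊢
    generalize (⟨b, hb⟩ : (S : Subgroup G)) = b' at e2 ⊢
    rw [show a' * b' * v * (a' * b')⁻¹ = a' * (b' * v * b'⁻¹) * a'⁻¹ by group, e2,
      show a' * (v * z) * a'⁻¹ = (a' * v * a'⁻¹) * (a' * z * a'⁻¹) by group, e1, hzs a',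
      mul_inv_cancel_right, mul_assoc, hzz, mul_one]
  let U : Subgroup G :=
    { carrier := {a | a = 1 ∨ a = (z : G) ∨ a = (u : G) ∨ a = (u : G) * z}
      one_mem' := Or.inl rfl
      mul_mem' := by
        have e0 : (z : G) * u = u * z := congrArg Subtype.val hzu.symm
        have e1 : (z : G) * z = 1 := congrArg Subtype.val hzz
        have e2 : (u : G) * u = 1 := congrArg Subtype.val huu
        have e3 : (u : G) * (u * z) = z := by rw [← mul_assoc, e2, one_mul]
        have e4 : (u : G) * z * z = u := by rw [mul_assoc, e1, mul_one]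
        have e5 : (z : G) * (u * z) = u := by rw [← mul_assoc, e0, e4]
        have e6 : (u : G) * z * u = z := by rw [mul_assoc, e0, e3]
        have e7 : (u : G) * z * (u * z) = 1 := by rw [← mul_assoc, e6, e1]
        rintro x y (rfl | rfl | rfl | rfl) (rfl | rfl | rfl | rfl) <;>
          simp [e0, e1, e2, e3, e4, e5, e6, e7]
      inv_mem' := by
        rintro x (rfl | rfl | rfl | rfl)
        · exact Or.inl inv_one
        · exact Or.inr (Or.inl (inv_eq_of_mul_eq_one_right (congrArg Subtype.val hzz)))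
        · exact Or.inr (Or.inr (Or.inl (inv_eq_of_mul_eq_one_right (congrArg Subtype.val huu))))
        · refine Or.inr (Or.inr (Or.inr (inv_eq_of_mul_eq_one_right ?_)))
          have := congrArg Subtype.val (show u * z * (u * z) = 1 by
            rw [Commute.mul_mul_mul_comm (show z * u = u * z from hzu.symm), huu, hzz, one_mul])
          exact this }
  have hUE : U ≤ E := by
    rintro x (rfl | rfl | rfl | rfl)
    exacts [one_mem E, hzE, huE, mul_mem (show (u : G) ∈ E from huE) (show (z : G) ∈ E from hzE)]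
  haveI : IsMulCommutative U := ⟨⟨fun a b => Subtype.ext (hAab a (hUE a.2).1 b (hUE b.2).1)⟩⟩
  have hUnc : ¬ IsCyclic U := by
    intro hc
    letI := Fintype.ofFinite U
    have hcount := IsCyclic.card_pow_eq_one_le (α := U) (n := 2) (by norm_num)
    have hsub : ({1, ⟨z, Or.inr (Or.inl rfl)⟩, ⟨u, Or.inr (Or.inr (Or.inl rfl))⟩} : Finset U) ⊆
        Finset.univ.filter fun a => a ^ 2 = 1 := by
      intro a ha
      simp only [Finset.mem_filter, Finset.mem_univ, true_and, pow_two]
      exact Subtype.ext (hUE a.2).2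
    have h3 := Finset.card_le_card hsub
    rw [Finset.card_insert_of_notMem (by
        simp only [Finset.mem_insert, Finset.mem_singleton, Subtype.ext_iff, OneMemClass.coe_one, not_or]
        exact ⟨fun e => hz1 (Subtype.ext e.symm), fun e => hu1 (Subtype.ext e.symm)⟩),
      Finset.card_insert_of_notMem (by
        simp only [Finset.mem_singleton, Subtype.ext_iff]
        exact fun e => huz (Subtype.ext e.symm)), Finset.card_singleton] at h3
    omega
  have hUS : U ≤ (S : Subgroup G) := hUE.trans hES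
  refine eq_bot_iff.mpr (CfsgLib.Coprime.le_of_centralizer_le hUnc (hUS.trans hXS) ?_ fun g hg hg1 => ?_)
  · obtain ⟨k, hk⟩ := IsPGroup.iff_card.mp (S.2.to_le hUS)
    rw [hk]
    exact (Nat.coprime_two_left.mpr hX).pow_left k
  · rcases hg with rfl | rfl | rfl | rfl
    · exact absurd rfl hg1
    · exact (hinv z (Or.inr (Or.inl rfl))).le
    · exact (hinv u (Or.inl rfl)).le
    · exact (hinv (u * z) (Or.inr (Or.inr rfl))).le
end Cfsg.Agent.S3246
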