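import Cfsg.Statements.S3257
import Cfsg.Agent.Lib.PairwiseLine.Gen
import Cfsg.Agent.Lib.PairwiseLine.Main

set_option autoImplicit false
open Cfsg
open scoped Pointwise
open CfsgLib CfsgLib.PairwiseLine

namespace Cfsg.Agent.S3257

/-- Let p be an odd prime and G a finite non-abelian group generated by a G-invariant set D of subgroups of order p such that any two distinct members of D generate a subgroup isomorphic to one fixed group of odd order. Then G/Z(G) is a Frobenius group of odd order. -/
theorem result {G : Type*} [Group G] [Finite G] (hG : ¬ IsMulCommutative G)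
    (p : ℕ) (hp : p.Prime) (hp2 : p ≠ 2) (D : Set (Subgroup G)) (hDp : ∀ A ∈ D, Nat.card ↥A = p)
    (hDinv : ∀ A ∈ D, ∀ g : G, A.map (MulAut.conj g).toMonoidHom ∈ D) (hDgen : sSup D = ⊤)
    {F : Type*} [Group F] [Finite F] (hF : Odd (Nat.card F)) (hpair : ∀ A ∈ D, ∀ B ∈ D, A ≠ B → Nonempty (↥(A ⊔ B) ≃* F)) :
    Odd (Nat.card (G ⧸ Subgroup.center G)) ∧ ∃ H : Subgroup (G ⧸ Subgroup.center G), Cfsg.IsFrobeniusComplement H := by
  classical
  have hconj : ∀ A ∈ D, ∀ g : G, MulAut.conj g • A ∈ D := hDinv
  have hcyc : ∀ A ∈ D, A ≤ Subgroup.centralizer (A : Set G) := by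
    intro A hA x hx y hy
    haveI := Fact.mk hp
    haveI : IsCyclic A := isCyclic_of_prime_card (hDp A hA)
    letI : CommGroup A := IsCyclic.commGroup
    exact congrArg Subtype.val (mul_comm (⟨y, hy⟩ : A) ⟨x, hx⟩)
  -- two members that do not commute
  obtain ⟨A, hA, B, hB, hAB⟩ : ∃ A ∈ D, ∃ B ∈ D, ¬ A ≤ Subgroup.centralizer (B : Set G) := by
    by_contra hcon
    push Not at hcon
    refine hG ⟨⟨fun x y => ?_⟩⟩
    have h1 : ∀ B ∈ D, B ≤ Subgroup.center G := fun B hB z hz => Subgroup.mem_center_iff.mpr fun w => by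
      have hle : sSup D ≤ Subgroup.centralizer {z} := sSup_le fun E hE =>
        fun e he => Subgroup.mem_centralizer_singleton_iff.mpr
          ((hcon E hE B hB he) z hz).symm
      exact Subgroup.mem_centralizer_singleton_iff.mp (hle (hDgen ▸ Subgroup.mem_top w))
    have htop : sSup D ≤ Subgroup.center G := sSup_le h1
    exact (Subgroup.mem_center_iff.mp (htop (hDgen ▸ Subgroup.mem_top y)) x)
  have hne : A ≠ B := fun e => hAB (e ▸ hcyc B hB)
  have hnc : ¬ IsMulCommutative F := fun hF' => hAB fun x hx y hy => by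
    obtain ⟨e⟩ := hpair A hA B hB hne
    have h1 : (⟨y, Subgroup.mem_sup_right hy⟩ : ↥(A ⊔ B)) * ⟨x, Subgroup.mem_sup_left hx⟩
        = ⟨x, Subgroup.mem_sup_left hx⟩ * ⟨y, Subgroup.mem_sup_right hy⟩ :=
      e.injective (by rw [map_mul, map_mul]; exact hF'.is_comm.comm _ _)
    exact congrArg Subtype.val h1
  obtain ⟨q, hgen⟩ := (Hyp.mk hp hp2 hDp hconj hDgen hnc hF hpair).gen_of_hyp hA hB hne
  have hodd : Odd (Nat.card G) := odd_card (p := p) (q := q) (Nat.card G) rfl hgen
  refine ⟨hodd.of_dvd_nat (Subgroup.card_quotient_dvd_card _), ?_⟩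
  have hclosed : Closed D ⊤ := by
    rw [Closed, ← hDgen]
    exact sSup_le_sSup fun E hE => ⟨hE, hDgen ▸ le_top⟩
  have hS := hgen.shape ⊤ (by rw [Subgroup.card_top]; exact hodd) hclosed A hA le_top
  have hfcen : ∀ r ∈ qPart q (⊤ : Subgroup G), MulAut.conj r • A = A → r ∈ Subgroup.center G :=
    fun r hr he => by
      have h1 := hgen.mem_centralizer_of_normalizes hA le_top hS hr he
      exact Subgroup.mem_center_iff.mpr fun w => h1 w (Subgroup.mem_top w)
  set f := QuotientGroup.mk' (Subgroup.center G) with hf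
  refine ⟨A.map f, ?_, ?_, fun g hg => ?_⟩
  · intro e
    rw [Subgroup.map_eq_bot_iff, QuotientGroup.ker_mk'] at e
    exact hAB (e.trans (Subgroup.center_le_centralizer _))
  · intro e
    have hle : B ≤ A ⊔ Subgroup.center G := by
      have h1 : (A.map f).comap f = ⊤ := by rw [e, Subgroup.comap_top]
      rw [Subgroup.comap_map_eq, QuotientGroup.ker_mk'] at h1
      rw [h1]; exact le_top
    exact hne (hgen.eq_of_centralizes hB hA (hle.trans (sup_le (hcyc A hA)
      (Subgroup.center_le_centralizer _)))).symm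
  · by_contra hbad
    haveI := Fact.mk hp
    have hcardH : Nat.card (A.map f) = p := by
      rcases (Nat.dvd_prime hp).mp (hDp A hA ▸ Subgroup.card_map_dvd A f) with h1 | h1
      · refine absurd ?_ hAB
        have h2 := (Subgroup.map_eq_bot_iff A).mp (Subgroup.card_eq_one.mp h1)
        rw [QuotientGroup.ker_mk'] at h2
        exact h2.trans (Subgroup.center_le_centralizer _)
      · exact h1
    have heq : MulAut.conj g • A.map f = A.map f := by
      have hc : Nat.card ↥(MulAut.conj g • A.map f) = p := by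
        rw [Coprime.card_conj_smul, hcardH]
      have h1 : Nat.card ↥(A.map f ⊓ MulAut.conj g • A.map f) = p := by
        rcases (Nat.dvd_prime hp).mp (hcardH ▸ Subgroup.card_dvd_of_le inf_le_left) with h2 | h2
        · exact absurd (Subgroup.card_eq_one.mp h2) hbad
        · exact h2
      exact (Subgroup.eq_of_le_of_card_ge inf_le_right (by rw [h1, hc])).symm.trans
        (Subgroup.eq_of_le_of_card_ge inf_le_left (by rw [h1, hcardH]))
    obtain ⟨x, rfl⟩ := QuotientGroup.mk'_surjective (Subgroup.center G) g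
    have hx : x ∈ qPart q (⊤ : Subgroup G) ⊔ A := hS.sup_eq.symm ▸ Subgroup.mem_top x
    rw [← SetLike.mem_coe, Subgroup.coe_mul_of_right_le_normalizer_left _ A
      (hgen.normalizer_qPart le_top)] at hx
    obtain ⟨r, hr, a, ha, rfl⟩ := hx
    simp only [map_mul] at heq hg
    have haA : MulAut.conj (f a) • A.map f = A.map f :=
      Coprime.conj_smul_eq_of_mem (Subgroup.mem_map_of_mem f ha)
    rw [mul_smul, ← hf, haA, ← Coprime.map_conj_smul] at heq
    have hle : MulAut.conj r • A ≤ A ⊔ Subgroup.center G := by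
      have h1 : MulAut.conj r • A ≤ ((MulAut.conj r • A).map f).comap f := Subgroup.le_comap_map _ _
      rwa [heq, Subgroup.comap_map_eq, QuotientGroup.ker_mk'] at h1
    have he := hgen.eq_of_centralizes (hconj A hA r) hA
      (hle.trans (sup_le (hcyc A hA) (Subgroup.center_le_centralizer _)))
    have hrc := hfcen r hr he
    refine hg ?_
    have h1 : f r = 1 := (QuotientGroup.eq_one_iff r).mpr hrc
    rw [← hf, h1, one_mul]
    exact Subgroup.mem_map_of_mem f ha

end Cfsg.Agent.S3257
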