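import Cfsg.Statements.S3260
import Cfsg.Agent.Lib.CoprimeQuad.Reduce
import Cfsg.Agent.Lib.ZJ.Centers
import Cfsg.Agent.Lib.BrauerTuan.Identify
import Cfsg.Agent.Lib.PSolvable.Core

set_option autoImplicit false
open Cfsg

namespace Cfsg.Agent.S3260

open CfsgLib CfsgLib.Transfer

/-- The `A`-fixed points of `G` map onto those of an equivariant quotient. -/
theorem exists_fixed_lift {G : Type*} [Group G] [Finite G] {A : Type*} [Group A] [Finite A]
    (φ : A →* MulAut G) (hcop : (Nat.card A).Coprime (Nat.card G)) (N : Subgroup G)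
    (hN : ∀ a : A, ∀ n ∈ N, φ a n ∈ N) {x : G} (hx : ∀ a : A, x⁻¹ * φ a x ∈ N) :
    ∃ c : G, (∀ a : A, φ a c = c) ∧ x⁻¹ * c ∈ N := by
  haveI : Finite (G ⋊[φ] A) := Finite.of_equiv _ SemidirectProduct.equivProd.symm
  set iG : G →* G ⋊[φ] A := SemidirectProduct.inl with hiG
  set K := iG.range with hK
  set A₁ := (SemidirectProduct.inr : A →* G ⋊[φ] A).range with hA₁
  have hAK : A₁ ≤ Subgroup.normalizer (K : Set (G ⋊[φ] A)) := by
    haveI : K.Normal := by
      rw [hK, hiG, SemidirectProduct.range_inl_eq_ker_rightHom]; infer_instance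
    exact Subgroup.le_normalizer_of_normal
  have e1 : Nat.card A₁ = Nat.card A :=
    (Nat.card_congr (MonoidHom.ofInjective SemidirectProduct.inr_injective).toEquiv).symm
  have e2 : Nat.card K = Nat.card G :=
    (Nat.card_congr (MonoidHom.ofInjective SemidirectProduct.inl_injective).toEquiv).symm
  have hsolv : Group.IsSolvable A₁ ∨ Group.IsSolvable K := by
    by_cases h : Odd (Nat.card A₁)
    · exact Or.inl (OddOrder.solvable_of_odd _ A₁ rfl h)
    · refine Or.inr (OddOrder.solvable_of_odd _ K rfl ?_)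
      rw [e1, Nat.not_odd_iff_even, even_iff_two_dvd] at h
      rw [e2, Nat.odd_iff, ← Nat.two_dvd_ne_zero]
      intro h'
      have := Nat.dvd_gcd h h'
      rw [hcop.gcd_eq_one] at this
      exact absurd this (by norm_num)
  have hact : ∀ (a : A) (g : G), SemidirectProduct.inr a * iG g * (SemidirectProduct.inr a)⁻¹ = iG (φ a g) :=
    fun a g => by rw [hiG, SemidirectProduct.inl_aut, map_inv]
  obtain ⟨c, hc, hcN⟩ := Coprime.exists_centralizer_mem_coset hAK (by rw [e1, e2]; exact hcop) hsolv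
    (N := N.map iG) (Subgroup.map_le_range _ _) (by
      rintro _ ⟨a, rfl⟩
      refine Subgroup.mem_normalizer_iff_map_conj_eq.mpr (Subgroup.eq_of_le_of_card_ge ?_
        (Subgroup.card_map_of_injective (MulAut.conj _).injective).ge)
      rintro _ ⟨_, ⟨n, hn, rfl⟩, rfl⟩
      exact ⟨φ a n, hN a n hn, (hact a n).symm⟩)
    (k := iG x) ⟨x, rfl⟩ (by
      rintro _ ⟨a, rfl⟩
      exact ⟨x⁻¹ * φ a x, hx a, by rw [map_mul, map_inv, hact]⟩)
  obtain ⟨⟨g, rfl⟩, hcA⟩ := hc
  refine ⟨g, fun a => SemidirectProduct.inl_injective (?_ : iG (φ a g) = iG g), ?_⟩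
  · rw [← hact, Subgroup.mem_centralizer_iff.mp hcA _ ⟨a, rfl⟩, mul_inv_cancel_right]
  · obtain ⟨n, hn, he⟩ := hcN
    rw [← map_inv, ← map_mul] at he
    exact SemidirectProduct.inl_injective he ▸ hn

/-- The `ZJ` theorem for a `p`-constrained group with trivial `p'`-core and a coprime group of
automorphisms whose fixed points do not involve `PSL(2, p)`. -/
theorem zJ_normal {Q : Type*} [Group Q] [Finite Q] (p : ℕ) [hp : Fact p.Prime] (hp5 : 5 ≤ p)
    (hc : Subgroup.centralizer (Cfsg.pCore p Q : Set Q) ≤ Cfsg.pCore p Q) (S : Sylow p Q)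
    (A : Subgroup (MulAut Q)) (hA : (Nat.card A).Coprime (Nat.card Q))
    (hfix : ∀ C : Subgroup Q, (∀ x ∈ C, ∀ a ∈ A, a x = x) →
      ¬ Cfsg.Involves (Matrix.ProjectiveSpecialLinearGroup (Fin 2) (ZMod p)) ↥C) :
    (ZJ.zJ 0 (S : Subgroup Q)).Normal := by
  classical
  by_cases hpQ : p ∣ Nat.card Q
  swap
  · have hS1 : (S : Subgroup Q) = ⊥ := by
      obtain ⟨j, hj⟩ := S.2.exists_card_eq
      refine Subgroup.eq_bot_of_card_eq _ ?_
      rcases j with - | j
      · simpa using hj
      · exact absurd ((hj ▸ dvd_pow_self p j.succ_ne_zero).trans (Subgroup.card_subgroup_dvd_card _)) hpQ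
    rw [le_bot_iff.mp ((ZJ.zJ_le 0 (S : Subgroup Q)).trans hS1.le)]
    infer_instance
  set X := Q ⋊[A.subtype] A
  haveI : Finite X := Finite.of_equiv _ SemidirectProduct.equivProd.symm
  set iQ : Q →* X := SemidirectProduct.inl with hiQ
  have hinj : Function.Injective iQ := SemidirectProduct.inl_injective
  set Q₁ := iQ.range with hQ₁
  haveI hQn : Q₁.Normal := by
    rw [hQ₁, hiQ, SemidirectProduct.range_inl_eq_ker_rightHom]; infer_instance
  set A₁ := (SemidirectProduct.inr : A →* X).range with hA₁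
  have e2 : Nat.card Q₁ = Nat.card Q := (Nat.card_congr (MonoidHom.ofInjective hinj).toEquiv).symm
  have eidx : Q₁.index = Nat.card A := by
    rw [hQ₁, hiQ, SemidirectProduct.range_inl_eq_ker_rightHom, Subgroup.index_ker,
      MonoidHom.range_eq_top.mpr SemidirectProduct.rightHom_surjective, Subgroup.card_top]
  have e1 : Nat.card A₁ = Nat.card A :=
    (Nat.card_congr (MonoidHom.ofInjective SemidirectProduct.inr_injective).toEquiv).symm
  have hpA : ¬ p ∣ Nat.card A := fun h => by
    have := Nat.dvd_gcd h hpQ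
    rw [hA.gcd_eq_one] at this
    exact hp.out.not_dvd_one this
  -- the Sylow subgroup
  have hidx : ¬ p ∣ ((S : Subgroup Q).map iQ).index := by
    rw [Subgroup.index_map_of_injective _ hinj, ← hQ₁, eidx]
    exact fun h => (hp.out.dvd_mul.mp h).elim S.not_dvd_index hpA
  let S₁ : Sylow p X := (S.2.map iQ).toSylow hidx
  have hS₁ : (S₁ : Subgroup X) = (S : Subgroup Q).map iQ := rfl
  -- constraint
  haveI := Fitting.pCore_normal (G := Q) p
  haveI : (Cfsg.pCore p Q).Characteristic := Signalizer.pCore_characteristic p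
  set U := (Cfsg.pCore p Q).map iQ with hU
  haveI hUn : U.Normal := by
    refine ⟨fun u hu x => ?_⟩
    obtain ⟨v, hv, rfl⟩ := hu
    refine ⟨x.left * ((x.right : MulAut Q) v) * x.left⁻¹, Subgroup.Normal.conj_mem inferInstance _ ?_ _, ?_⟩
    · exact Subgroup.characteristic_iff_map_le.mp inferInstance (x.right : MulAut Q) ⟨v, hv, rfl⟩
    · have h1 : iQ ((x.right : MulAut Q) v) = SemidirectProduct.inr x.right * iQ v * (SemidirectProduct.inr x.right)⁻¹ := by
        rw [hiQ]
        refine (SemidirectProduct.inl_aut (φ := A.subtype) x.right v).trans ?_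
        rw [map_inv]
      rw [map_mul, map_mul, map_inv, h1]
      conv_rhs => rw [← SemidirectProduct.inl_left_mul_inr_right x]
      rw [← hiQ]
      group
  have hUp : IsPGroup p U := (Fitting.pCore_isPGroup p).map iQ
  have hcX : Subgroup.centralizer (Cfsg.pCore p X : Set X) ≤ Cfsg.pCore p X := by
    refine (Subgroup.centralizer_le (Fitting.le_pCore hUn hUp)).trans (Fitting.le_pCore inferInstance ?_)
    set C := Subgroup.centralizer (U : Set X) with hC
    have hCQ : ∀ q : Q, iQ q ∈ C → q ∈ Cfsg.pCore p Q := fun q hq =>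
      hc fun v hv => hinj (by rw [map_mul, map_mul]; exact hq _ ⟨v, hv, rfl⟩)
    rintro ⟨y, hy⟩
    obtain ⟨i, m, -, -, hco, -⟩ := Transfer.exists_pow_coprime_part (p := p) y
    refine ⟨i, Subtype.ext ?_⟩
    set z := y ^ p ^ i with hz
    have hzC : z ∈ C := C.pow_mem hy _
    suffices hz1 : z = 1 by simpa using hz1
    have hcent : ∀ g : Q, z * iQ g * z⁻¹ = iQ g := by
      intro g
      obtain ⟨g', hg'⟩ : z * iQ g * z⁻¹ ∈ Q₁ := hQn.conj_mem _ ⟨g, rfl⟩ z
      set u := g⁻¹ * g' with hu
      have huC : iQ u ∈ C := by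
        rw [hu, map_mul, map_inv, hg', ← mul_assoc, ← mul_assoc]
        have h1 : (iQ g)⁻¹ * z * iQ g ∈ C := by
          have h2 := Subgroup.Normal.conj_mem (inferInstance : C.Normal) z hzC (iQ g)⁻¹
          rwa [inv_inv] at h2
        exact mul_mem h1 (inv_mem hzC)
      have huU : iQ u ∈ U := ⟨u, hCQ u huC, rfl⟩
      have hcomm : Commute z (iQ u) := (hzC _ huU).symm
      have hgu : z * iQ g * z⁻¹ = iQ g * iQ u := by rw [← map_mul, hu, mul_inv_cancel_left, hg']
      have hiter : ∀ n : ℕ, z ^ n * iQ g * (z ^ n)⁻¹ = iQ g * iQ u ^ n := by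
        intro n
        induction n with
        | zero => simp
        | succ n ih =>
          calc z ^ (n + 1) * iQ g * (z ^ (n + 1))⁻¹ = z * (z ^ n * iQ g * (z ^ n)⁻¹) * z⁻¹ := by
                rw [pow_succ', mul_inv_rev]; group
            _ = z * iQ g * (iQ u ^ n * z⁻¹) := by rw [ih]; group
            _ = z * iQ g * z⁻¹ * iQ u ^ n := by
                rw [((hcomm.inv_left).pow_right n).symm.eq, mul_assoc (z * iQ g)]
            _ = iQ g * iQ u ^ (n + 1) := by rw [hgu, pow_succ', mul_assoc]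
      have h1 := hiter (orderOf z)
      rw [pow_orderOf_eq_one, one_mul, inv_one, mul_one, left_eq_mul] at h1
      obtain ⟨j, hj⟩ := hUp ⟨_, huU⟩
      have hj' : (iQ u) ^ p ^ j = 1 := congrArg Subtype.val hj
      have : orderOf (iQ u) = 1 := Nat.eq_one_of_dvd_coprimes (hco.pow_right j)
        (orderOf_dvd_of_pow_eq_one h1) (orderOf_dvd_of_pow_eq_one hj')
      rw [hgu, orderOf_eq_one_iff.mp this, mul_one]
    set q := z.left with hq
    set α : MulAut Q := (z.right : MulAut Q) with hα
    have hgq : ∀ g, q * α g * q⁻¹ = g := fun g => by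
      have := congrArg SemidirectProduct.left (mul_inv_eq_iff_eq_mul.mp (hcent g))
      rw [SemidirectProduct.mul_left, SemidirectProduct.mul_left, hiQ, SemidirectProduct.left_inl,
        SemidirectProduct.right_inl, map_one, MulAut.one_apply, ← hq] at this
      change q * α g = g * q at this
      rw [this, mul_inv_cancel_right]
    have hαe : α = MulAut.conj q⁻¹ := MulEquiv.ext fun g => by
      rw [MulAut.conj_apply, inv_inv]
      conv_rhs => rw [← hgq g]
      group
    have hα1 : α = 1 := by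
      rw [← orderOf_eq_one_iff]
      refine Nat.eq_one_of_dvd_coprimes hA ?_ ?_
      · rw [hα, Subgroup.orderOf_coe]; exact orderOf_dvd_natCard _
      · rw [hαe]; exact (orderOf_map_dvd _ _).trans (orderOf_dvd_natCard _)
    have hz' : z = iQ q := SemidirectProduct.ext (by rw [hiQ, SemidirectProduct.left_inl])
      (Subtype.ext (by rw [← hα, hα1, hiQ, SemidirectProduct.right_inl, OneMemClass.coe_one]))
    have hqU : q ∈ Cfsg.pCore p Q := hCQ q (hz' ▸ hzC)
    obtain ⟨j, hj⟩ := hUp ⟨iQ q, q, hqU, rfl⟩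
    rw [← orderOf_eq_one_iff]
    refine Nat.eq_one_of_dvd_coprimes (hco.pow_right j) dvd_rfl (orderOf_dvd_of_pow_eq_one ?_)
    rw [hz']
    exact congrArg Subtype.val hj
  -- stability
  have hst : ZJ.StableAt p (S₁ : Subgroup X) := by
    intro W hWn hW a haS hq
    haveI := hWn
    by_contra ha
    have haQ : a ∈ Q₁ := by
      obtain ⟨q, -, rfl⟩ := haS
      exact ⟨q, rfl⟩
    have h := CfsgLib.CoprimeQuad.involves_of_notMem_opMod hp5 (Nat.card W) Q₁ A₁
      (by rw [e1, e2]; exact hA) W hW rfl a haQ hq ha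
    refine hfix ((Q₁ ⊓ Subgroup.centralizer (A₁ : Set X)).comap iQ) (fun x hx b hb => ?_) ?_
    · have h2 := Subgroup.mem_centralizer_iff.mp hx.2 (SemidirectProduct.inr ⟨b, hb⟩) ⟨⟨b, hb⟩, rfl⟩
      refine hinj ?_
      show iQ ((A.subtype ⟨b, hb⟩) x) = iQ x
      rw [hiQ, SemidirectProduct.inl_aut, h2, mul_assoc, ← map_mul, mul_inv_cancel, map_one, mul_one]
    · refine Offender.involves_of_surjective (iQ.subgroupComap _) (fun y => ?_) h
      obtain ⟨q, hq⟩ := y.2.1
      exact ⟨⟨q, show iQ q ∈ Q₁ ⊓ Subgroup.centralizer (A₁ : Set X) from hq ▸ y.2⟩, Subtype.ext hq⟩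
  have hn := ZJ.normal_of_constrained (e := 0) (by omega) (Or.inl rfl) S₁ hcX hst (X := ZJ.zJ 0 (S₁ : Subgroup X))
    inf_le_left inf_le_right (ZJ.normalizer_thompsonJ_le_zJ 0 _)
  rw [hS₁, ← ZJ.map_zJ 0 iQ (hinj.injOn)] at hn
  have := hn.comap iQ
  rwa [Subgroup.comap_map_eq_self_of_injective hinj] at this

/-- Let p ≥ 5 be a prime, G a finite p-constrained group with Sylow p-subgroup S, and A a group of automorphisms of G of order coprime to |G| whose fixed-point subgroup has no section isomorphic to PSL₂(p). Then G = O_{p'}(G) · N_G(Z(J(S))), where J(S) is the subgroup generated by the abelian subgroups of S of largest order. -/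
theorem result {G : Type*} [Group G] [Finite G] (p : ℕ) [hp : Fact p.Prime] (hp5 : 5 ≤ p)
    (hG : Cfsg.IsPConstrained p G) (S : Sylow p G) (A : Subgroup (MulAut G)) (hA : (Nat.card ↥A).Coprime (Nat.card G))
    (C : Subgroup G) (hC : ∀ g : G, g ∈ C ↔ ∀ a ∈ A, a g = g)
    {F : Type*} [Field F] [Fintype F] (hF : Fintype.card F = p)
    (hfix : ¬ Cfsg.Involves (Matrix.ProjectiveSpecialLinearGroup (Fin 2) F) ↥C) :
    Cfsg.pPrimeCore p G ⊔ Subgroup.normalizer (Cfsg.centerThompsonAOf (S : Subgroup G) : Set G) = ⊤ := by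
  classical
  rw [ZJ.centerThompsonAOf_eq]
  rw [PSolvable.isPConstrained_iff] at hG
  haveI := pPrimeCore_normal p G
  set f := QuotientGroup.mk' (Cfsg.pPrimeCore p G) with hf
  have hsurj : Function.Surjective f := QuotientGroup.mk'_surjective _
  have hker : (Nat.card f.ker).Coprime p := by
    rw [hf, QuotientGroup.ker_mk']; exact pPrimeCore_coprime p
  have hinj : Set.InjOn f ((S : Subgroup G) : Set G) := fun a ha b hb h => by
    refine inv_mul_eq_one.mp (PSolvable.eq_one_of_mem_of_mem S.2 hker (mul_mem (inv_mem ha) hb) ?_)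
    rw [MonoidHom.mem_ker, map_mul, map_inv, h, inv_mul_cancel]
  set Q := G ⧸ Cfsg.pPrimeCore p G
  let S' : Sylow p Q := S.mapSurjective hsurj
  have hS' : (S' : Subgroup Q) = (S : Subgroup G).map f := Sylow.coe_mapSurjective _ _
  have hinv : ∀ a : MulAut G, (Cfsg.pPrimeCore p G).map (a : G →* G) = Cfsg.pPrimeCore p G := fun a =>
    Subgroup.characteristic_iff_map_eq.mp inferInstance a
  let α : A →* MulAut Q :=
    { toFun := fun a => QuotientGroup.congr _ _ (a : MulAut G) (hinv _)
      map_one' := MulEquiv.ext fun x => by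
        obtain ⟨g, rfl⟩ := QuotientGroup.mk'_surjective _ x
        rfl
      map_mul' := fun a b => MulEquiv.ext fun x => by
        obtain ⟨g, rfl⟩ := QuotientGroup.mk'_surjective _ x
        rfl }
  have hn : (ZJ.zJ 0 (S' : Subgroup Q)).Normal := by
    refine zJ_normal p hp5 hG S' α.range ?_ fun D hD hinv' => hfix ?_
    · exact (hA.coprime_dvd_left (Subgroup.card_range_dvd α)).coprime_dvd_right
        (Subgroup.card_quotient_dvd_card _)
    · have hle : D ≤ C.map f := by
        intro y hy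
        obtain ⟨x, rfl⟩ := hsurj y
        obtain ⟨c, hc, hcx⟩ := exists_fixed_lift A.subtype hA (Cfsg.pPrimeCore p G)
          (fun a n hn => (hinv (a : MulAut G)) ▸ Subgroup.mem_map_of_mem _ hn) (x := x) fun a => by
            rw [← QuotientGroup.eq]
            exact (hD _ hy (α a) ⟨a, rfl⟩).symm
        refine ⟨c, (hC c).mpr fun a ha => hc ⟨a, ha⟩, ?_⟩
        exact (QuotientGroup.eq.mpr hcx).symm
      obtain ⟨e⟩ := BrauerTuan.psl_congr (F := ZMod p) (K := F) (by rw [ZMod.card, hF])
      obtain ⟨K, ψ, hψ⟩ := Offender.exists_hom_of_involves hinv'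
      have hD' : Cfsg.Involves (Matrix.ProjectiveSpecialLinearGroup (Fin 2) F) ↥D :=
        Offender.involves_of_hom (e.toMonoidHom.comp ψ) (e.surjective.comp hψ)
      exact Offender.involves_of_surjective _ (f.subgroupMap_surjective C)
        (Offender.involves_of_injective (Subgroup.inclusion hle) (Subgroup.inclusion_injective hle) hD')
  rw [hS', ← ZJ.map_zJ 0 f hinj] at hn
  have h : (Subgroup.normalizer (ZJ.zJ 0 (S : Subgroup G) : Set G)).map f = ⊤ := by
    rw [PSolvable.map_normalizer_eq hsurj hker (S.2.to_le (ZJ.zJ_le 0 _))]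
    exact Subgroup.normalizer_eq_top_iff.mpr hn
  have h2 := congrArg (Subgroup.comap f) h
  rwa [Subgroup.comap_map_eq, Subgroup.comap_top, hf, QuotientGroup.ker_mk', sup_comm] at h2

end Cfsg.Agent.S3260
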