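import Cfsg.Statements.S3262
import Cfsg.Agent.Lib.TwoPointStab.OddCases
import Cfsg.Agent.Lib.TwoPointStab.Elim
import Cfsg.Agent.Lib.TwoPointStab.Recognize
import Cfsg.Agent.Lib.TwoPointStab.Regular
import Cfsg.Agent.Lib.ZStar.Basic

set_option autoImplicit false
open Cfsg

namespace Cfsg.Agent.S3262

/-- Let G be a finite doubly transitive permutation group on a set Ω with no regular normal subgroup, in which the stabilizer of two points is isomorphic to the alternating group A₅. Then either Ω has 7 points and G ≅ A₇, or Ω has 12 points and G is isomorphic to the Mathieu group M₁₁. -/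
theorem result {G : Type*} [Group G] [Finite G] {Ω : Type*} [Fintype Ω] [MulAction G Ω] [FaithfulSMul G Ω]
    (h2 : MulAction.IsMultiplyPretransitive G Ω 2) (a b : Ω) (hab : a ≠ b)
    (hnr : ∀ N : Subgroup G, N.Normal → MulAction.IsPretransitive ↥N Ω → (∀ x : Ω, MulAction.stabilizer ↥N x = ⊥) → False)
    (e : ↥(MulAction.stabilizer G a ⊓ MulAction.stabilizer G b) ≃* ↥(alternatingGroup (Fin 5))) :
    (Fintype.card Ω = 7 ∧ Nonempty (G ≃* ↥(alternatingGroup (Fin 7)))) ∨ (Fintype.card Ω = 12 ∧ Cfsg.Spor.IsoM11 G) := by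
  classical
  open CfsgLib.TwoPointStab in
  have h : Conf G Ω a b 15 10 := conf_of_iso (pairs_of_multiply h2)
    (fun g hg => eq_of_smul_eq_smul fun p : Ω => by rw [hg, one_smul]) hab altFacts_five (Or.inr ⟨rfl, rfl⟩) e
  obtain ⟨z, hz⟩ := h.exists_inv2
  obtain ⟨v, k⟩ := h.exists_klein hz
  rw [← Nat.card_eq_fintype_card]
  rcases Nat.mod_two_eq_zero_or_one (Nat.card Ω) with heven | hodd
  · rcases h.even_cases k heven with ⟨h', -⟩ | ⟨h', -⟩ | ⟨h', -⟩ | ⟨-, hn⟩ | ⟨-, hn, hf, hall⟩
    · exact absurd h' (by norm_num)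
    · exact absurd h' (by norm_num)
    · exact absurd h' (by norm_num)
    · haveI : IsSimpleGroup ↥(alternatingGroup (Fin 5)) := alternatingGroup.isSimpleGroup (by simp)
      exact Or.inr ⟨hn, h.twelve rfl hn e.isSimpleGroup hnr⟩
    · exact (h.not_26 k rfl hn hf hall).elim
  · rcases h.odd_cases k hodd with ⟨t, ht, p, hp, hpu⟩ | ⟨⟨h', -⟩ | ⟨-, hn⟩, -, -⟩
    · exfalso
      haveI : (Cfsg.pPrimeCore 2 G).Normal := CfsgLib.Transfer.pPrimeCore_normal 2 G
      by_cases hO : Cfsg.pPrimeCore 2 G = ⊥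
      · have hall : ∀ g : G, g • p = p := fun g => hpu _ (by
          have hc := CfsgLib.ZStar.commute_of_commutatorsInCore hO
            (CfsgLib.ZStar.commutatorsInCore_of_isolated ht) g
          rw [← mul_smul, hc.eq, mul_smul, hp])
        obtain ⟨q, hq⟩ : ∃ q : Ω, q ≠ p := by
          by_cases hpa : a = p
          · exact ⟨b, fun e' => hab (hpa.trans e'.symm)⟩
          · exact ⟨a, hpa⟩
        obtain ⟨g, hg, -⟩ := h.pairs p q q p hq.symm hq
        exact hq ((hall g).symm.trans hg).symm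
      · obtain ⟨N, h1, h2', h3⟩ := CfsgLib.TwoPointStab.regular_of_odd_normal h.pairs h.faithful
          (Cfsg.pPrimeCore 2 G) CfsgLib.ZStar.odd_card_core hO
        exact hnr N h1 h2' h3
    · exact absurd h' (by norm_num)
    · refine Or.inl ⟨hn, CfsgLib.TwoPointStab.alt_of_card h.faithful hn ?_⟩
      rw [h.card_group, hn]
      rfl

end Cfsg.Agent.S3262
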