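import Cfsg.Statements.S3264
import Cfsg.Agent.Lib.OddInverted.Generation

set_option autoImplicit false
open Cfsg

namespace Cfsg.Agent.S3264

/-- Let G be a non-abelian finite simple group and X a conjugacy class of involutions of G. Form the graph on X in which two distinct involutions are joined when their product has odd order. Then this graph is connected. (By the Baer–Suzuki Theorem the graph has at least one edge; connectedness is the stronger statement.) -/
theorem result {G : Type*} [Group G] [Finite G] [IsSimpleGroup G]
    (hG : ¬ IsMulCommutative G) (t : G) (ht : orderOf t = 2) :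
    (SimpleGraph.fromRel fun x y : {x : G // IsConj t x} => Odd (orderOf (x.1 * y.1))).Connected := by
  classical
  have htt : t * t = 1 := by
    have h := pow_orderOf_eq_one t
    rwa [ht, pow_two] at h
  have ht1 : t ≠ 1 := fun e => by simp [e] at ht
  have hnc : Subgroup.normalClosure ({t} : Set G) = ⊤ :=
    (Subgroup.Normal.eq_bot_or_eq_top Subgroup.normalClosure_normal).resolve_left fun e =>
      ht1 (Subgroup.mem_bot.1 (e ▸ Subgroup.subset_normalClosure (Set.mem_singleton t)))
  have hgen := CfsgLib.OddInverted.closure_conj_odd (Nat.card G) G t le_rfl htt hnc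
  let Γ := SimpleGraph.fromRel fun x y : {x : G // IsConj t x} => Odd (orderOf (x.1 * y.1))
  let act : G → {x : G // IsConj t x} → {x : G // IsConj t x} := fun g x =>
    ⟨g * x.1 * g⁻¹, x.2.trans (isConj_iff.2 ⟨g, rfl⟩)⟩
  have act_one : ∀ x, act 1 x = x := fun x => Subtype.ext (by simp [act])
  have act_mul : ∀ g h x, act g (act h x) = act (g * h) x := fun g h x =>
    Subtype.ext (by simp [act, mul_assoc])
  have adj : ∀ (g : G) (x y : {x : G // IsConj t x}), Γ.Adj x y → Γ.Adj (act g x) (act g y) := by
    intro g x y hxy
    rw [SimpleGraph.fromRel_adj] at hxy ⊢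
    have key : ∀ a b : G, orderOf (g * a * g⁻¹ * (g * b * g⁻¹)) = orderOf (a * b) := fun a b => by
      rw [show g * a * g⁻¹ * (g * b * g⁻¹) = MulAut.conj g (a * b) by simp [mul_assoc], MulEquiv.orderOf_eq]
    refine ⟨fun e => hxy.1 (Subtype.ext (by
      have e' := congrArg Subtype.val e
      simpa [act] using e')), ?_⟩
    simp only [act, key]
    exact hxy.2
  have reach : ∀ (g : G) (x y : {x : G // IsConj t x}), Γ.Reachable x y →
      Γ.Reachable (act g x) (act g y) :=
    fun g x y h => h.map (⟨act g, fun {a b} h' => adj g a b h'⟩ : Γ →g Γ)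
  let t₀ : {x : G // IsConj t x} := ⟨t, IsConj.refl t⟩
  let St : Subgroup G :=
    { carrier := {g | Γ.Reachable t₀ (act g t₀)}
      one_mem' := by
        show Γ.Reachable t₀ (act 1 t₀)
        rw [act_one]
      mul_mem' := fun {g h} hg hh => by
        have h' := reach g _ _ hh
        rw [act_mul] at h'
        exact SimpleGraph.Reachable.trans hg h'
      inv_mem' := fun {g} hg => by
        have h' := reach g⁻¹ _ _ hg
        rw [act_mul, inv_mul_cancel, act_one] at h'
        exact h'.symm }
  have hself : ∀ a : {x : G // IsConj t x}, act a.1 a = a := fun a => Subtype.ext (by simp [act])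
  have hle : insert t {a | IsConj t a ∧ Odd (orderOf (a * t))} ⊆ (St : Set G) := by
    rintro a (rfl | ⟨ha, ho⟩)
    · show Γ.Reachable t₀ (act a t₀)
      rw [show act a t₀ = t₀ from hself t₀]
    · show Γ.Reachable t₀ (act a t₀)
      by_cases he : a = t
      · subst he
        rw [show act a t₀ = t₀ from hself t₀]
      · have h1 : Γ.Reachable t₀ ⟨a, ha⟩ := by
          refine SimpleGraph.Adj.reachable ?_
          rw [SimpleGraph.fromRel_adj]
          exact ⟨fun e => he (congrArg Subtype.val e).symm, Or.inr ho⟩
        have h2 := reach a _ _ h1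
        rw [show act a ⟨a, ha⟩ = (⟨a, ha⟩ : {x : G // IsConj t x}) from hself ⟨a, ha⟩] at h2
        exact h1.trans h2.symm
  have hall : ∀ x : {x : G // IsConj t x}, Γ.Reachable t₀ x := by
    rintro ⟨x, hx⟩
    obtain ⟨g, rfl⟩ := isConj_iff.1 hx
    have hg : g ∈ St := (Subgroup.closure_le St).2 hle (hgen ▸ Subgroup.mem_top g)
    exact hg
  haveI : Nonempty {x : G // IsConj t x} := ⟨t₀⟩
  exact SimpleGraph.Connected.mk fun x y => (hall x).symm.trans (hall y)

end Cfsg.Agent.S3264
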