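import Cfsg.Statements.S3266
import Cfsg.Agent.Lib.SL2.PSL
import Cfsg.Agent.Lib.Invol.OddGraph
import Cfsg.Agent.Lib.Classical.Transvection

set_option autoImplicit false
open Cfsg

namespace Cfsg.Agent.S3266

open CfsgLib CfsgLib.SL2 Matrix
open scoped MatrixGroups

variable {F : Type*} [Field F] [Fintype F]

/-- The product of two non-squares is a square. -/
theorem isSquare_mul {a b : F} (ha : ¬ IsSquare a) (hb : ¬ IsSquare b) : IsSquare (a * b) := by
  classical
  have ha0 : a ≠ 0 := fun h => ha (h ▸ IsSquare.zero)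
  have hb0 : b ≠ 0 := fun h => hb (h ▸ IsSquare.zero)
  rw [← quadraticChar_one_iff_isSquare (mul_ne_zero ha0 hb0), map_mul,
    quadraticChar_neg_one_iff_not_isSquare.mpr ha, quadraticChar_neg_one_iff_not_isSquare.mpr hb]
  norm_num

/-- For `q ≡ 3 (mod 4)`: a second coordinate of a common neighbour. -/
theorem exists_second (h2 : (2 : F) ≠ 0) (hm1 : ¬ IsSquare (-1 : F)) {β s d : F} (hd : d = 1 - β * β)
    (hd0 : d ≠ 0) (hds : IsSquare d) (hs : IsSquare (s * s - 1)) (hs0 : s * s - 1 ≠ 0) :
    ∃ u c : F, IsSquare (u * u - 1) ∧ c * c = d - s * s - u * u + 2 * β * s * u := by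
  classical
  by_contra hcon
  push Not at hcon
  obtain ⟨r, hr⟩ := hs
  obtain ⟨e, he⟩ := hds
  set a := d * (1 - s * s) with ha
  have ha0 : a ≠ 0 := mul_ne_zero hd0 (fun h => hs0 (by linear_combination -h))
  have hans : ¬ IsSquare a := by
    rintro ⟨g, hg⟩
    apply hm1
    have hr0 : r ≠ 0 := fun h => hs0 (by rw [hr, h, mul_zero])
    have he0 : e ≠ 0 := fun h => hd0 (by rw [he, h, mul_zero])
    refine ⟨g / (e * r), ?_⟩
    field_simp
    rw [ha, he] at hg
    linear_combination hg + e * e * hr
  let P : F → Finset (F × F) := fun v => Finset.univ.filter (fun w => w.1 * w.1 + w.2 * w.2 = v)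
  have hP : ∀ v w, w ∈ P v ↔ w.1 * w.1 + w.2 * w.2 = v := fun v w => by simp [P]
  let T : Finset F := Finset.univ.filter (fun u => ∃ g, g ≠ 0 ∧ 1 - u * u = g * g)
  have h4 : (0 : F) * 0 ≠ 4 := fun h => h2 (by
    have : (2 : F) * 2 = 0 := by linear_combination -h
    exact (mul_self_eq_zero.mp this))
  -- the first conic projects into `T`
  have hmap : ∀ w ∈ P a, w.1 + β * s ∈ T := by
    intro w hw
    rw [hP] at hw
    set u := w.1 + β * s with hu
    have hc : w.2 * w.2 = d - s * s - u * u + 2 * β * s * u := by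
      rw [hu]; rw [ha] at hw; linear_combination hw + s * s * (-1 : F) * hd
    have hn : ¬ IsSquare (u * u - 1) := fun h => hcon u w.2 h hc
    have hn' : IsSquare (1 - u * u) := by
      have := isSquare_mul hm1 hn
      rwa [neg_one_mul, neg_sub] at this
    obtain ⟨g, hg⟩ := hn'
    refine Finset.mem_filter.mpr ⟨Finset.mem_univ _, g, fun h0 => hn ⟨0, ?_⟩, hg⟩
    rw [h0, mul_zero] at hg
    linear_combination -hg
  have h1 : (P a).card ≤ 2 * T.card := by
    refine (Finset.card_le_mul_card_image_of_maps_to (f := fun w : F × F => w.1 + β * s) hmap 2 fun u _ => ?_)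
    by_cases hex : ∃ w ∈ P a, w.1 + β * s = u
    · obtain ⟨w, hw, hwu⟩ := hex
      refine (Finset.card_le_card (t := {w, (w.1, -w.2)}) fun x hx => ?_).trans (Finset.card_le_two)
      rw [Finset.mem_filter] at hx
      have hx1 : x.1 = w.1 := add_right_cancel (hx.2.trans hwu.symm)
      have h' : x.2 * x.2 = w.2 * w.2 := by
        have e1 := (hP a x).mp hx.1
        have e2 := (hP a w).mp hw
        rw [hx1] at e1
        linear_combination e1 - e2
      rw [Finset.mem_insert, Finset.mem_singleton]
      rcases mul_self_eq_mul_self_iff.mp h' with h'' | h''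
      · exact Or.inl (Prod.ext hx1 h'')
      · exact Or.inr (Prod.ext hx1 h'')
    · rw [Finset.filter_eq_empty_iff.mpr fun w hw e => hex ⟨w, hw, e⟩]
      simp
  have h3 : 2 * T.card + 2 ≤ (P 1).card := by
    let Q := (P 1).filter (fun w => w.2 ≠ 0)
    have hQ : Q.card + 2 ≤ (P 1).card := by
      rw [← Finset.card_filter_add_card_filter_not (s := P 1) (fun w => w.2 ≠ 0)]
      refine Nat.add_le_add_left ?_ _
      refine le_trans ?_ (Finset.card_le_card (s := {((1 : F), (0 : F)), ((-1 : F), (0 : F))}) ?_)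
      · rw [Finset.card_pair]
        intro h
        exact h2 (by have := congrArg Prod.fst h; linear_combination this)
      · intro w hw
        rcases Finset.mem_insert.mp hw with rfl | hw
        · simp [P]
        · rw [Finset.mem_singleton.mp hw]; simp [P]
    refine le_trans (Nat.add_le_add_right ?_ 2) hQ
    have hTQ : T ⊆ Q.image Prod.fst := fun u hu => by
      obtain ⟨g, hg0, hg⟩ := (Finset.mem_filter.mp hu).2
      exact Finset.mem_image.mpr ⟨(u, g), Finset.mem_filter.mpr ⟨(hP 1 _).mpr (by linear_combination -hg), hg0⟩, rfl⟩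
    refine (Nat.mul_le_mul_left 2 (Finset.card_le_card hTQ)).trans ?_
    refine Finset.mul_card_image_le_card (f := Prod.fst) Q 2 fun u hu => ?_
    obtain ⟨w, hw, rfl⟩ := Finset.mem_image.mp hu
    obtain ⟨hw1, hw2⟩ := Finset.mem_filter.mp hw
    refine le_trans (le_of_eq (Finset.card_pair (a := w) (b := (w.1, -w.2)) ?_).symm) (Finset.card_le_card ?_)
    · intro h
      have := congrArg Prod.snd h
      exact hw2 ((mul_eq_zero.mp (show (2 : F) * w.2 = 0 by linear_combination this)).resolve_left h2)
    · intro x hx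
      rcases Finset.mem_insert.mp hx with rfl | hx
      · exact Finset.mem_filter.mpr ⟨hw, rfl⟩
      · rw [Finset.mem_singleton.mp hx]
        exact Finset.mem_filter.mpr ⟨Finset.mem_filter.mpr ⟨(hP 1 _).mpr (by have := (hP 1 w).mp hw1; linear_combination this), neg_ne_zero.mpr hw2⟩, rfl⟩
  have h5 : (P 1).card ≤ (P a).card := by
    obtain ⟨m, n, hmn⟩ := exists_norm_eq (0 : F) a (Or.inl h4)
    refine Finset.card_le_card_of_injOn (fun w : F × F => (w.1 * m - w.2 * n, w.1 * n + w.2 * m)) ?_ ?_
    · intro w hw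
      rw [Finset.mem_coe, hP] at hw ⊢
      simp only
      linear_combination (m * m + n * n) * hw + hmn
    · intro x _ y _ h
      have e1 := congrArg Prod.fst h
      have e2 := congrArg Prod.snd h
      simp only at e1 e2
      refine Prod.ext ?_ ?_
      · exact mul_right_cancel₀ ha0 (by linear_combination m * e1 + n * e2 - (x.1 - y.1) * hmn)
      · exact mul_right_cancel₀ ha0 (by linear_combination m * e2 - n * e1 - (x.2 - y.2) * hmn)
  omega

theorem proj_mul_self (g : SL(2, F)) (h : g * g = -1) : proj g * proj g = 1 := by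
  rw [← map_mul, h, proj_eq_one_iff]; exact neg_one_mem_center

theorem orderOf_proj_eq_two (h2 : (2 : F) ≠ 0) (g : SL(2, F)) (h : g * g = -1) : orderOf (proj g) = 2 := by
  refine orderOf_eq_prime (by rw [pow_two]; exact proj_mul_self g h) fun e => ?_
  exact (mem_center_iff_not_nonScalar g).mp ((proj_eq_one_iff g).mp e) (regular_of_mul_self h2 h).nonScalar

/-- The lifts of the involutions in odd characteristic. -/
theorem exists_lift (h2 : (2 : F) ≠ 0) (w : Matrix.ProjectiveSpecialLinearGroup (Fin 2) F)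
    (hw : orderOf w = 2) : ∃ g : SL(2, F), g * g = -1 ∧ proj g = w := by
  obtain ⟨g, rfl⟩ := proj_surjective w
  refine ⟨g, ?_, rfl⟩
  have h1 : g * g ∈ Subgroup.center SL(2, F) := by
    have h := pow_orderOf_eq_one (proj g)
    rw [hw] at h
    rw [← proj_eq_one_iff, map_mul, ← pow_two]; exact h
  rcases eq_one_or_eq_neg_one_of_mem_center _ h1 with h | h
  · exfalso
    by_cases h1' : g = 1
    · rw [h1', map_one, orderOf_one] at hw; omega
    · rw [eq_neg_one_of_mul_self h2 h h1', (proj_eq_one_iff _).mpr neg_one_mem_center, orderOf_one] at hw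
      omega
  · exact h

theorem isConj_proj (h2 : (2 : F) ≠ 0) {g h : SL(2, F)} (hg : g * g = -1) (hh : h * h = -1) :
    IsConj (proj g) (proj h) :=
  proj.map_isConj (isConj_iff.mpr (isConj_of_trace (regular_of_mul_self h2 hg).nonScalar
    (regular_of_mul_self h2 hh).nonScalar
    (by rw [trace_eq_zero_of_mul_self h2 hg, trace_eq_zero_of_mul_self h2 hh])
    (Or.inl (regular_of_mul_self h2 hg))))

/-- Odd order criterion for products. -/
theorem odd_criterion (h2 : (2 : F) ≠ 0) {g h : SL(2, F)}
    (hd : (g * h).1.trace * (g * h).1.trace = 4 ∨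
      (¬ IsSquare (-1 : F) ∧ IsSquare ((g * h).1.trace * (g * h).1.trace - 4))) :
    Odd (orderOf (proj g * proj h)) := by
  rw [← map_mul]
  set W := g * h with hW
  by_cases hr : W.1.trace * W.1.trace = 4
  · obtain ⟨p, _⟩ := CharP.exists F
    haveI hp : Fact p.Prime := ⟨CharP.char_is_prime F p⟩
    have hpodd : Odd p := hp.out.odd_of_ne_two fun e => h2 (by subst e; exact CharP.cast_eq_zero F 2)
    exact hpodd.of_dvd_nat (orderOf_dvd_of_pow_eq_one (proj_pow_char_of_not_regular (fun hreg => hreg hr) p))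
  · obtain ⟨hm1, r, hsq⟩ := hd.resolve_left hr
    have hreg : Regular W := hr
    have hc := cent_split (g := W) (c := (W.1.trace + r) / 2)
      (by field_simp; linear_combination -hsq) hreg
    have hpow : W ^ (Nat.card F - 1) = 1 := by
      rw [← hc.2]
      exact congrArg Subtype.val (pow_card_eq_one' (x := (⟨W, self_mem_cent W⟩ : cent W)))
    have hq : Fintype.card F % 4 = 3 := not_not.mp fun h => hm1 (FiniteField.isSquare_neg_one_iff.mpr h)
    obtain ⟨k, hk⟩ : ∃ k, Nat.card F - 1 = (2 * k + 1) * 2 :=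
      ⟨Fintype.card F / 4, by rw [Nat.card_eq_fintype_card]; omega⟩
    rw [hk, pow_mul, pow_two] at hpow
    refine Odd.of_dvd_nat ⟨k, rfl⟩ (orderOf_dvd_of_pow_eq_one ?_)
    rw [← map_pow, proj_eq_one_iff]
    by_cases h1 : W ^ (2 * k + 1) = 1
    · rw [h1]; exact one_mem _
    · rw [eq_neg_one_of_mul_self h2 hpow h1]; exact neg_one_mem_center

/-- Common neighbours in odd characteristic. -/
theorem common_odd (h2 : (2 : F) ≠ 0) (hq : 4 ≤ Fintype.card F) {x y : SL(2, F)} (hx : x * x = -1)
    (hy : y * y = -1) (hne : proj x ≠ proj y) (hnadj : ¬ Odd (orderOf (proj x * proj y))) :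
    ∃ z : SL(2, F), z * z = -1 ∧ proj x ≠ proj z ∧ proj z ≠ proj y ∧
      Odd (orderOf (proj x * proj z)) ∧ Odd (orderOf (proj z * proj y)) := by
  classical
  have hxt := trace_eq_zero_of_mul_self h2 hx
  have hyt := trace_eq_zero_of_mul_self h2 hy
  rw [Matrix.trace_fin_two] at hxt hyt
  have hxd := x.2
  have hyd := y.2
  rw [Matrix.det_fin_two] at hxd hyd
  set β := -(x * y).1.trace / 2 with hβ
  have hβ' : (x * y).1.trace = -2 * β := by rw [hβ]; field_simp
  have hβ'' : x.1 0 0 * y.1 0 0 + x.1 0 1 * y.1 1 0 + x.1 1 0 * y.1 0 1 + x.1 1 1 * y.1 1 1 = -2 * β := by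
    rw [← hβ', Matrix.SpecialLinearGroup.coe_mul, Matrix.trace_fin_two, Matrix.mul_apply, Matrix.mul_apply,
      Fin.sum_univ_two, Fin.sum_univ_two]
    ring
  have hnot : ¬ ((x * y).1.trace * (x * y).1.trace = 4 ∨
      (¬ IsSquare (-1 : F) ∧ IsSquare ((x * y).1.trace * (x * y).1.trace - 4))) := fun h => hnadj (odd_criterion h2 h)
  push Not at hnot
  obtain ⟨hb4, hbs⟩ := hnot
  set d := 1 - β * β with hd
  have hd0 : d ≠ 0 := fun h => hb4 (by rw [hβ']; linear_combination (-4 : F) * h)
  -- the parameters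
  obtain ⟨s, u, c, hs, hu, hc, hex⟩ : ∃ s u c : F,
      ((s * s = 1) ∨ (¬ IsSquare (-1 : F) ∧ IsSquare (s * s - 1))) ∧
      ((u * u = 1) ∨ (¬ IsSquare (-1 : F) ∧ IsSquare (u * u - 1))) ∧
      c * c = d - s * s - u * u + 2 * β * s * u ∧ ¬ (s * s = 1 ∧ u * u = β * β) ∧ ¬ (u * u = 1 ∧ s * s = β * β) := by
    by_cases hm1 : IsSquare (-1 : F)
    · obtain ⟨i, hi⟩ := hm1
      refine ⟨1, 1, i * (1 - β), Or.inl (one_mul 1), Or.inl (one_mul 1), by rw [hd]; linear_combination -(1 - β) * (1 - β) * hi, ?_, ?_⟩ <;>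
        exact fun h => hd0 (by rw [hd]; linear_combination h.2)
    · have hds : IsSquare d := by
        have hns : ¬ IsSquare (β * β - 1) := by
          intro h
          obtain ⟨g, hg⟩ := h
          exact hbs hm1 ⟨2 * g, by rw [hβ']; linear_combination 4 * hg⟩
        have := isSquare_mul hm1 hns
        rwa [neg_one_mul, neg_sub] at this
      have h5 : 5 ≤ Fintype.card F := by
        have : Fintype.card F % 4 = 3 := not_not.mp fun h => hm1 (FiniteField.isSquare_neg_one_iff.mpr h)
        omega
      obtain ⟨t, ht⟩ : ∃ t : F, t ∉ ({0, 1, -1} : Finset F) := by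
        refine not_forall.mp fun h => ?_
        have := Finset.card_le_card (s := (Finset.univ : Finset F)) (t := {0, 1, -1}) fun z _ => h z
        rw [Finset.card_univ] at this
        have := Finset.card_le_three (a := (0 : F)) (b := 1) (c := -1)
        omega
      simp only [Finset.mem_insert, Finset.mem_singleton, not_or] at ht
      obtain ⟨ht0, ht1, ht2⟩ := ht
      set s := (t + t⁻¹) / 2 with hs
      have hsr : s * s - 1 = (t - t⁻¹) / 2 * ((t - t⁻¹) / 2) := by
        rw [hs]; field_simp; ring
      have hs0 : s * s - 1 ≠ 0 := by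
        rw [hsr]
        intro h
        have h' : t - t⁻¹ = 0 := (div_eq_zero_iff.mp (mul_self_eq_zero.mp h)).resolve_right h2
        have htt : t * t = 1 := by
          have e := sub_eq_zero.mp h'
          field_simp at e
          linear_combination e
        rcases mul_self_eq_one_iff.mp htt with h'' | h''
        · exact ht1 h''
        · exact ht2 h''
      obtain ⟨u, c, hu, hc⟩ := exists_second h2 hm1 hd hd0 hds ⟨_, hsr⟩ hs0
      refine ⟨s, u, c, Or.inr ⟨hm1, _, hsr⟩, Or.inr ⟨hm1, hu⟩, hc, fun h => hs0 (by linear_combination h.1), fun h => ?_⟩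
      have hb : IsSquare (β * β - 1) := ⟨(t - t⁻¹) / 2, by rw [← hsr, h.2]⟩
      obtain ⟨g, hg⟩ := hb
      exact hbs hm1 ⟨2 * g, by rw [hβ']; linear_combination 4 * hg⟩
  -- the neighbour
  set A := (s - β * u) / d with hA
  set B := (u - β * s) / d with hB
  set C := c / d with hC
  set N00 := x.1 0 0 * y.1 0 0 + x.1 0 1 * y.1 1 0 + β with hN00
  set N01 := x.1 0 0 * y.1 0 1 + x.1 0 1 * y.1 1 1 with hN01
  set N10 := x.1 1 0 * y.1 0 0 + x.1 1 1 * y.1 1 0 with hN10
  let Z : Matrix (Fin 2) (Fin 2) F := !![A * x.1 0 0 + B * y.1 0 0 + C * N00, A * x.1 0 1 + B * y.1 0 1 + C * N01;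
    A * x.1 1 0 + B * y.1 1 0 + C * N10, -(A * x.1 0 0 + B * y.1 0 0 + C * N00)]
  have hx11 : x.1 1 1 = -x.1 0 0 := by linear_combination hxt
  have hy11 : y.1 1 1 = -y.1 0 0 := by linear_combination hyt
  rw [hx11] at hxd hβ''
  rw [hy11] at hyd hβ''
  have hdet0 : Z.det = A * A + B * B + 2 * A * B * β + C * C * d := by
    simp only [Z, Matrix.det_fin_two_of, hN00, hN01, hN10, hx11, hy11, hd]
    linear_combination (A * A + C * C * (y.1 0 0 * -y.1 0 0 - y.1 0 1 * y.1 1 0)) * hxd + (B * B + C * C) * hyd +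
      (-(A * B) - A * C * x.1 0 0 - B * C * y.1 0 0 + C * C * (β - (x.1 0 0 * y.1 0 0 + x.1 0 1 * y.1 1 0 + β))) * hβ''
  have hdet : Z.det = 1 := by
    rw [hdet0, hA, hB, hC]
    field_simp
    rw [hd] at hc ⊢
    linear_combination (1 - β * β) * hc
  let z : SL(2, F) := ⟨Z, hdet⟩
  have hzz : z * z = -1 := mul_self_eq_neg_one_of_trace (by
    show Z.trace = 0
    simp [Z, Matrix.trace_fin_two])
  have htxz : (x * z).1.trace = -2 * s := by
    rw [Matrix.SpecialLinearGroup.coe_mul, Matrix.trace_fin_two, Matrix.mul_apply, Matrix.mul_apply,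
      Fin.sum_univ_two, Fin.sum_univ_two]
    simp only [z, Z, Matrix.of_apply, Matrix.cons_val_zero, Matrix.cons_val_one, hN00, hN01, hN10, hx11, hy11]
    have hs' : s = A + B * β := by rw [hA, hB]; field_simp; rw [hd]; ring
    rw [hs']
    linear_combination (-2 * A) * hxd + (B + C * x.1 0 0) * hβ''
  have htzy : (z * y).1.trace = -2 * u := by
    rw [Matrix.SpecialLinearGroup.coe_mul, Matrix.trace_fin_two, Matrix.mul_apply, Matrix.mul_apply,
      Fin.sum_univ_two, Fin.sum_univ_two]
    simp only [z, Z, Matrix.of_apply, Matrix.cons_val_zero, Matrix.cons_val_one, hN00, hN01, hN10, hx11, hy11]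
    have hu' : u = B + A * β := by rw [hA, hB]; field_simp; rw [hd]; ring
    rw [hu']
    linear_combination (-2 * B) * hyd + (A + C * y.1 0 0) * hβ''
  have hcrit : ∀ s : F, ((s * s = 1) ∨ (¬ IsSquare (-1 : F) ∧ IsSquare (s * s - 1))) →
      ((-2 * s) * (-2 * s) = 4 ∨ (¬ IsSquare (-1 : F) ∧ IsSquare ((-2 * s) * (-2 * s) - 4))) := by
    rintro s (h | ⟨h1, g, hg⟩)
    · exact Or.inl (by linear_combination 4 * h)
    · exact Or.inr ⟨h1, 2 * g, by linear_combination 4 * hg⟩
  have hpm : ∀ g h : SL(2, F), proj g = proj h → h = g ∨ h = -g := by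
    intro g h e
    have hm : g⁻¹ * h ∈ Subgroup.center SL(2, F) := by rw [← proj_eq_one_iff, map_mul, map_inv, e, inv_mul_cancel]
    rcases eq_one_or_eq_neg_one_of_mem_center _ hm with e' | e'
    · exact Or.inl (inv_mul_eq_one.mp e').symm
    · refine Or.inr ?_
      rw [inv_mul_eq_iff_eq_mul] at e'
      rw [e']
      exact Subtype.ext (by simp)
  have htxx : (x * x).1.trace = -2 := by rw [hx]; simp
  have htyy : (y * y).1.trace = -2 := by rw [hy]; simp
  have htneg : ∀ g h : SL(2, F), (g * -h).1.trace = -(g * h).1.trace ∧ (-g * h).1.trace = -(g * h).1.trace := fun g h => by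
    simp [Matrix.trace_neg]
  refine ⟨z, hzz, fun e => ?_, fun e => ?_, odd_criterion h2 (htxz ▸ hcrit s hs), odd_criterion h2 (htzy ▸ hcrit u hu)⟩
  · have h4 : (2 : F) * 2 ≠ 0 := mul_ne_zero h2 h2
    rcases hpm x z e with h | h <;> rw [h] at htxz htzy
    · rw [htxx] at htxz; rw [hβ'] at htzy
      exact hex.1 ⟨mul_left_cancel₀ h4 (by linear_combination (2 * s + 2) * htxz), mul_left_cancel₀ h4 (by linear_combination (2 * u + 2 * β) * htzy)⟩
    · rw [(htneg x x).1, htxx] at htxz; rw [(htneg x y).2, hβ'] at htzy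
      exact hex.1 ⟨mul_left_cancel₀ h4 (by linear_combination (2 * s - 2) * htxz), mul_left_cancel₀ h4 (by linear_combination (2 * u - 2 * β) * htzy)⟩
  · have h4 : (2 : F) * 2 ≠ 0 := mul_ne_zero h2 h2
    rcases hpm y z e.symm with h | h <;> rw [h] at htxz htzy
    · rw [hβ'] at htxz; rw [htyy] at htzy
      exact hex.2 ⟨mul_left_cancel₀ h4 (by linear_combination (2 * u + 2) * htzy), mul_left_cancel₀ h4 (by linear_combination (2 * s + 2 * β) * htxz)⟩
    · rw [(htneg x y).1, hβ'] at htxz; rw [(htneg y y).2, htyy] at htzy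
      exact hex.2 ⟨mul_left_cancel₀ h4 (by linear_combination (2 * u - 2) * htzy), mul_left_cancel₀ h4 (by linear_combination (2 * s - 2 * β) * htxz)⟩

/-- Let F be a finite field with at least 4 elements and let X be a conjugacy class of involutions of PSL(2, F). The graph on X joining two distinct involutions whose product has odd order is connected and has diameter exactly 2. -/
theorem result {F : Type*} [Field F] [Fintype F] (hF : 4 ≤ Fintype.card F)
    (t : Matrix.ProjectiveSpecialLinearGroup (Fin 2) F) (ht : orderOf t = 2) :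
    (SimpleGraph.fromRel fun x y : {x : Matrix.ProjectiveSpecialLinearGroup (Fin 2) F // IsConj t x} =>
        Odd (orderOf (x.1 * y.1))).Connected ∧
      (SimpleGraph.fromRel fun x y : {x : Matrix.ProjectiveSpecialLinearGroup (Fin 2) F // IsConj t x} =>
        Odd (orderOf (x.1 * y.1))).diam = 2 := by
  classical
  haveI : Nontrivial (Fin 2) := inferInstance
  set Γ := SimpleGraph.fromRel fun x y : {x : Matrix.ProjectiveSpecialLinearGroup (Fin 2) F // IsConj t x} =>
    Odd (orderOf (x.1 * y.1))
  have hord : ∀ x : {x : Matrix.ProjectiveSpecialLinearGroup (Fin 2) F // IsConj t x}, orderOf x.1 = 2 := fun x => by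
    obtain ⟨c, hc⟩ := isConj_iff.mp x.2
    rw [← hc, show c * t * c⁻¹ = MulAut.conj c t from rfl, MulEquiv.orderOf_eq, ht]
  have hsq : ∀ x : {x : Matrix.ProjectiveSpecialLinearGroup (Fin 2) F // IsConj t x}, x.1 * x.1 = 1 := fun x => by
    have h := pow_orderOf_eq_one x.1
    rw [hord x] at h
    rwa [← pow_two]
  have hadj : ∀ x y, Γ.Adj x y ↔ x ≠ y ∧ Odd (orderOf (x.1 * y.1)) := fun x y => by
    have hsymm : orderOf (y.1 * x.1) = orderOf (x.1 * y.1) := by
      rw [← orderOf_inv (x.1 * y.1), _root_.mul_inv_rev, inv_eq_of_mul_eq_one_right (hsq x), inv_eq_of_mul_eq_one_right (hsq y)]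
    simp [Γ, hsymm]
  refine CfsgLib.Invol.diam_eq_two Γ ?_ ?_
  all_goals rcases eq_or_ne (2 : F) 0 with h2 | h2
  -- the existence of common neighbours
  · intro u v huv hnadj
    rw [hadj] at hnadj
    push Not at hnadj
    have hab : ∀ z : Matrix.ProjectiveSpecialLinearGroup (Fin 2) F, orderOf z = 2 → ∀ a b, a * z = z * a → b * z = z * b →
        a * b = b * a := by
      intro z hz a b ha hb
      obtain ⟨g, rfl⟩ := proj_surjective z
      have hns : NonScalar g.1 := by
        by_contra hn
        rw [(proj_eq_one_iff g).mpr ((mem_center_iff_not_nonScalar g).mpr hn), orderOf_one] at hz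
        omega
      have hC := centralizer_proj_of_trace_ne (g := g) (Or.inr h2)
      obtain ⟨a', ha', rfl⟩ : a ∈ (cent g).map proj := hC ▸ Subgroup.mem_centralizer_singleton_iff.mpr ha
      obtain ⟨b', hb', rfl⟩ : b ∈ (cent g).map proj := hC ▸ Subgroup.mem_centralizer_singleton_iff.mpr hb
      rw [← map_mul, ← map_mul, cent_comm hns ha' hb']
    have huvc : u.1 * v.1 = v.1 * u.1 := by
      by_contra hne
      exact hnadj huv (CfsgLib.Invol.odd_orderOf_mul_of_abelian hab (hsq u) (hsq v) hne)
    haveI : IsSimpleGroup (Matrix.ProjectiveSpecialLinearGroup (Fin 2) F) := by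
      refine CfsgLib.Classical.isSimpleGroup_PSL (Or.inr ?_)
      by_contra hc
      push Not at hc
      have : (Finset.univ : Finset F) ⊆ {0, 1} := fun z _ => by
        by_cases hz : z = 0
        · simp [hz]
        · rcases sq_eq_one_iff.mp (hc z hz) with h | h
          · simp [h]
          · rw [h]
            have : (-1 : F) = 1 := by linear_combination -h2
            simp [this]
      have := Finset.card_le_card this
      rw [Finset.card_univ] at this
      have := this.trans Finset.card_le_two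
      omega
    obtain ⟨w, hw⟩ : ∃ w : {x : Matrix.ProjectiveSpecialLinearGroup (Fin 2) F // IsConj t x}, u.1 * w.1 ≠ w.1 * u.1 := by
      by_contra hall
      push Not at hall
      set N := Subgroup.closure {x : Matrix.ProjectiveSpecialLinearGroup (Fin 2) F | IsConj t x}
      haveI : N.Normal := Subgroup.Normal.mk fun n hn g => by
        refine Subgroup.closure_induction (p := fun n _ => g * n * g⁻¹ ∈ N) ?_ ?_ ?_ ?_ hn
        · exact fun x hx => Subgroup.subset_closure (hx.trans (isConj_iff.mpr ⟨g, rfl⟩))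
        · simp
        · intro a b _ _ ha hb; rw [conj_mul.symm]; exact mul_mem ha hb
        · intro a _ ha; rw [← conj_inv]; exact inv_mem ha
      rcases Subgroup.Normal.eq_bot_or_eq_top (inferInstance : N.Normal) with hN | hN
      · have : u.1 ∈ N := Subgroup.subset_closure u.2
        rw [hN, Subgroup.mem_bot] at this
        have := hord u
        simp_all
      · have hle : N ≤ Subgroup.centralizer ({u.1} : Set _) :=
          (Subgroup.closure_le _).mpr fun x hx => Subgroup.mem_centralizer_singleton_iff.mpr (hall ⟨x, hx⟩).symm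
        have htopC : ∀ a b : Matrix.ProjectiveSpecialLinearGroup (Fin 2) F, a * b = b * a := fun a b =>
          hab u.1 (hord u) a b (Subgroup.mem_centralizer_singleton_iff.mp (hle (hN ▸ Subgroup.mem_top a)))
            (Subgroup.mem_centralizer_singleton_iff.mp (hle (hN ▸ Subgroup.mem_top b)))
        let U1 : SL(2, F) := ⟨!![1, 1; 0, 1], by simp⟩
        let D1 : SL(2, F) := ⟨!![1, 0; 1, 1], by simp⟩
        have hm := (proj_eq_one_iff _).mp (show proj (U1 * D1 * (D1 * U1)⁻¹) = 1 by
          rw [map_mul, map_inv, map_mul, map_mul]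
          exact mul_inv_eq_one.mpr (htopC (proj U1) (proj D1)))
        rcases eq_one_or_eq_neg_one_of_mem_center _ hm with e | e
        · have e' : (U1 * D1).1 = (D1 * U1).1 := congrArg Subtype.val ((_root_.mul_inv_eq_one (G := SL(2, F))).mp e)
          rw [Matrix.SpecialLinearGroup.coe_mul, Matrix.SpecialLinearGroup.coe_mul] at e'
          have := congrFun (congrFun e' 0) 0
          simp [U1, D1, Matrix.mul_apply, Fin.sum_univ_two] at this
        · rw [mul_inv_eq_iff_eq_mul] at e
          have e' := congrArg Subtype.val e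
          rw [Matrix.SpecialLinearGroup.coe_mul, Matrix.SpecialLinearGroup.coe_mul, Matrix.SpecialLinearGroup.coe_mul,
            Matrix.SpecialLinearGroup.coe_neg, Matrix.SpecialLinearGroup.coe_one, neg_one_mul] at e'
          have := congrFun (congrFun e' 0) 0
          simp [U1, D1, Matrix.mul_apply, Fin.sum_univ_two] at this
          exact one_ne_zero (by linear_combination this - h2)
    have hwu : w.1 * v.1 ≠ v.1 * w.1 := fun h => hw (hab v.1 (hord v) u.1 w.1 huvc h)
    refine ⟨w, (hadj _ _).mpr ⟨fun e => hw (by rw [e]), CfsgLib.Invol.odd_orderOf_mul_of_abelian hab (hsq u) (hsq w) hw⟩,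
      (hadj _ _).mpr ⟨fun e => hwu (by rw [e]), CfsgLib.Invol.odd_orderOf_mul_of_abelian hab (hsq w) (hsq v) hwu⟩⟩
  · intro u v huv hnadj
    rw [hadj] at hnadj
    push Not at hnadj
    obtain ⟨gu, hgu, hu⟩ := exists_lift h2 _ (hord u)
    obtain ⟨gv, hgv, hv⟩ := exists_lift h2 _ (hord v)
    obtain ⟨z, hz, h1, h2', h3, h4⟩ := common_odd h2 hF hgu hgv
      (fun e => huv (Subtype.ext (by rw [← hu, ← hv, e]))) (by rw [hu, hv]; exact hnadj huv)
    refine ⟨⟨proj z, u.2.trans (hu ▸ isConj_proj h2 hgu hz)⟩, (hadj _ _).mpr ⟨?_, by show Odd (orderOf ((u.1) * proj z)); exact (congrArg (fun k => Odd (orderOf (k * proj z))) hu).mp h3⟩,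
      (hadj _ _).mpr ⟨?_, by show Odd (orderOf (proj z * v.1)); exact (congrArg (fun k => Odd (orderOf (proj z * k))) hv).mp h4⟩⟩
    · intro e; exact h1 (hu.trans (congrArg Subtype.val e))
    · intro e; exact h2' ((congrArg Subtype.val e).trans hv.symm)
  -- non-adjacent pairs
  · obtain ⟨g, rfl⟩ := proj_surjective t
    haveI : CharP F 2 := CharTwo.of_one_ne_zero_of_two_eq_zero one_ne_zero h2
    have hchar : ringChar F = 2 := ringChar.eq F 2
    have hns : NonScalar g.1 := by
      by_contra hn
      rw [(proj_eq_one_iff g).mpr ((mem_center_iff_not_nonScalar g).mpr hn), orderOf_one] at ht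
      omega
    have hgt : g.1.trace = 0 := by
      have h1 : g * g ∈ Subgroup.center SL(2, F) := by
        have h := pow_orderOf_eq_one (proj g)
        rw [ht] at h
        rw [← proj_eq_one_iff, map_mul, ← pow_two]; exact h
      have h11 : g * g = 1 := by
        rcases eq_one_or_eq_neg_one_of_mem_center _ h1 with e | e
        · exact e
        · rw [e]
          exact Subtype.ext (by
            rw [Matrix.SpecialLinearGroup.coe_neg, Matrix.SpecialLinearGroup.coe_one]
            ext i j
            rw [Matrix.neg_apply]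
            linear_combination -((1 : Matrix (Fin 2) (Fin 2) F) i j) * h2)
      have hv := congrArg Subtype.val h11
      rw [Matrix.SpecialLinearGroup.coe_mul, cayley, g.det_coe, Matrix.SpecialLinearGroup.coe_one, one_smul] at hv
      by_contra hne
      refine hns (2 / g.1.trace) ?_
      have hv' : g.1.trace • g.1 = (2 : F) • (1 : Matrix (Fin 2) (Fin 2) F) := by
        rw [sub_eq_iff_eq_add.mp hv, two_smul]
      rw [div_eq_inv_mul, ← smul_smul, ← hv', inv_smul_smul₀ hne]
    obtain ⟨μ, hμ1, hμ0⟩ : ∃ μ : F, μ ≠ 1 ∧ μ ≠ 0 := by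
      by_contra hc
      push Not at hc
      have : (Finset.univ : Finset F) ⊆ {0, 1} := fun z _ => by
        by_cases hz : z = 1
        · simp [hz]
        · simp [hc z hz]
      have := (Finset.card_le_card this).trans Finset.card_le_two
      rw [Finset.card_univ] at this
      omega
    let up : F → SL(2, F) := fun l => ⟨!![1, l; 0, 1], by simp⟩
    have hup : ∀ l : F, l ≠ 0 → IsConj (proj g) (proj (up l)) := fun l hl => by
      refine proj.map_isConj (isConj_iff.mpr (isConj_of_trace hns ?_ ?_ (Or.inr hchar)))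
      · rw [nonScalar_iff]; simp [up, hl]
      · rw [hgt]; simp [up, Matrix.trace_fin_two]; linear_combination -h2
    refine ⟨⟨proj (up 1), hup 1 one_ne_zero⟩, ⟨proj (up μ), hup μ hμ0⟩, ?_, ?_⟩
    · intro e
      have e1 : proj (up 1) = proj (up μ) := congrArg Subtype.val e
      have hm : (up 1)⁻¹ * up μ ∈ Subgroup.center SL(2, F) := by rw [← proj_eq_one_iff, map_mul, map_inv, e1, inv_mul_cancel]
      rcases eq_one_or_eq_neg_one_of_mem_center _ hm with e' | e'
      · have h' : (up 1).1 = (up μ).1 := congrArg Subtype.val ((_root_.inv_mul_eq_one (G := SL(2, F))).mp e')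
        exact hμ1 (congrFun (congrFun h' 0) 1).symm
      · rw [inv_mul_eq_iff_eq_mul] at e'
        have e'' := congrArg Subtype.val e'
        rw [Matrix.SpecialLinearGroup.coe_mul, Matrix.SpecialLinearGroup.coe_neg, Matrix.SpecialLinearGroup.coe_one, mul_neg, mul_one] at e''
        have := congrFun (congrFun e'' 0) 1
        simp [up] at this
        exact hμ1 (by linear_combination this + h2 * (-1 : F))
    · rw [hadj]
      push Not
      intro hne
      have hev : orderOf (proj (up 1) * proj (up μ)) = 2 := by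
        refine orderOf_eq_prime ?_ fun e => hne (Subtype.ext ?_)
        · rw [← map_mul, ← map_pow, proj_eq_one_iff]
          convert one_mem (Subgroup.center SL(2, F))
          apply Subtype.ext
          rw [Matrix.SpecialLinearGroup.coe_pow, Matrix.SpecialLinearGroup.coe_mul, pow_two, Matrix.SpecialLinearGroup.coe_one]
          simp [up, Matrix.one_fin_two]
          linear_combination (μ + 1) * h2
        · have := hsq ⟨proj (up 1), hup 1 one_ne_zero⟩
          exact mul_left_cancel (this.trans e.symm)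
      show ¬ Odd (orderOf (proj (up 1) * proj (up μ)))
      rw [hev]; decide
  · obtain ⟨g, hg, rfl⟩ := exists_lift h2 t ht
    obtain ⟨a, b, hab⟩ := exists_norm_eq (0 : F) (-1) (Or.inl fun h => h2 (mul_self_eq_zero.mp (by linear_combination -h)))
    let w : SL(2, F) := ⟨!![0, -1; 1, 0], by simp⟩
    let v : SL(2, F) := ⟨!![a, b; b, -a], by simp; linear_combination -hab⟩
    have hw : w * w = -1 := mul_self_eq_neg_one_of_trace (by simp [w, Matrix.trace_fin_two])
    have hv : v * v = -1 := mul_self_eq_neg_one_of_trace (by simp [v, Matrix.trace_fin_two])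
    have hwv : (w * v) * (w * v) = -1 := mul_self_eq_neg_one_of_trace (by
      rw [Matrix.SpecialLinearGroup.coe_mul]
      simp [w, v, Matrix.trace_fin_two, Matrix.mul_apply, Fin.sum_univ_two])
    have hev : orderOf (proj w * proj v) = 2 := by rw [← map_mul]; exact orderOf_proj_eq_two h2 _ hwv
    refine ⟨⟨proj w, isConj_proj h2 hg hw⟩, ⟨proj v, isConj_proj h2 hg hv⟩, fun e => ?_, ?_⟩
    · have e1 : proj w = proj v := congrArg Subtype.val e
      rw [e1, proj_mul_self v hv, orderOf_one] at hev
      omega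
    · rw [hadj]
      push Not
      intro _
      show ¬ Odd (orderOf (proj w * proj v))
      rw [hev]; decide
end Cfsg.Agent.S3266
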