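import Cfsg.Statements.S3269
import Cfsg.Agent.Lib.ZStar.Main

set_option autoImplicit false
open Cfsg

namespace CfsgLib.QuatFactor

variable {G : Type*} [Group G] {Q R S : Subgroup G}

theorem exists_mul (h : IsInternalDirectProduct Q R S) {s : G} (hs : s ∈ S) :
    ∃ x ∈ Q, ∃ r ∈ R, x * r = s := by
  rw [← h.2.2.2.2] at hs
  have hn : R ≤ Subgroup.normalizer (Q : Set G) := fun r hr => by
    rw [Subgroup.mem_normalizer_iff]
    intro y
    constructor
    · intro hy
      rwa [← h.2.2.1 y hy r hr, mul_inv_cancel_right]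
    · intro hy
      have := h.2.2.1 _ hy r hr
      rw [inv_mul_cancel_right] at this
      have e : r * y * r⁻¹ = y := by
        have := mul_left_cancel (a := r) (b := r * y * r⁻¹) (c := y) (by rw [← this])
        exact this
      rwa [e] at hy
  rw [← SetLike.mem_coe, Subgroup.coe_mul_of_right_le_normalizer_left Q R hn] at hs
  obtain ⟨x, hx, r, hr, rfl⟩ := hs
  exact ⟨x, hx, r, hr, rfl⟩

theorem mul_inj (h : IsInternalDirectProduct Q R S) {x x' r r' : G} (hx : x ∈ Q) (hx' : x' ∈ Q)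
    (hr : r ∈ R) (hr' : r' ∈ R) (e : x * r = x' * r') : x = x' ∧ r = r' := by
  have h1 : x'⁻¹ * x ∈ Q ⊓ R := Subgroup.mem_inf.mpr
    ⟨Q.mul_mem (Q.inv_mem hx') hx, by
      rw [show x'⁻¹ * x = r' * r⁻¹ by
        rw [inv_mul_eq_iff_eq_mul, eq_mul_inv_iff_mul_eq.mpr e, mul_assoc]]
      exact R.mul_mem hr' (R.inv_mem hr)⟩
  rw [h.2.2.2.1, Subgroup.mem_bot, inv_mul_eq_one] at h1
  subst h1
  exact ⟨rfl, mul_left_cancel e⟩

theorem mul_mul (h : IsInternalDirectProduct Q R S) {x x' r r' : G} (hx' : x' ∈ Q) (hr : r ∈ R) :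
    x * r * (x' * r') = x * x' * (r * r') := by
  simp only [mul_assoc]
  rw [← mul_assoc r x' r', ← h.2.2.1 x' hx' r hr, mul_assoc]

/-- A subgroup with a single involution `z`, that involution being a commutator. -/
def Quat (Q : Subgroup G) (z : G) : Prop :=
  z ∈ Q ∧ z ≠ 1 ∧ z * z = 1 ∧ (∀ x ∈ Q, x * x = 1 → x = 1 ∨ x = z) ∧
    (∀ x ∈ Q, x ≠ 1 → z ∈ Subgroup.zpowers x) ∧
    ∃ a ∈ Q, ∃ b ∈ Q, a * b * a⁻¹ * b⁻¹ = z

theorem Quat.central {z : G} (q : Quat Q z) {x : G} (hx : x ∈ Q) : x * z = z * x := by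
  obtain ⟨hz, hz1, hzz, huniq, -, -⟩ := q
  rcases huniq (x * z * x⁻¹) (mul_mem (mul_mem hx hz) (inv_mem hx))
      (by simp [mul_assoc]; rw [← mul_assoc z z, hzz, one_mul, mul_inv_cancel]) with e | e
  · exact absurd (conj_eq_one_iff.mp e) hz1
  · exact mul_inv_eq_iff_eq_mul.mp e

/-- Two direct factors of the same quaternion shape: their involutions are equal, or the second
lies in the complement of the first. -/
theorem key [Finite G] {Q₁ R₁ Q₂ R₂ : Subgroup G} {z₁ z₂ : G}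
    (h₁ : IsInternalDirectProduct Q₁ R₁ S) (h₂ : IsInternalDirectProduct Q₂ R₂ S)
    (hc : Nat.card Q₁ = Nat.card Q₂) (q₁ : Quat Q₁ z₁) (q₂ : Quat Q₂ z₂) :
    z₂ = z₁ ∨ z₂ ∈ R₁ := by
  by_cases hR : z₂ ∈ R₁
  · exact Or.inr hR
  left
  obtain ⟨hz2, hz21, hz2s, -, hpow, a, ha, b, hb, hab⟩ := q₂
  choose! π hπ ρ hρ hdec using fun s (hs : s ∈ S) => exists_mul h₁ hs
  have hQ2 : ∀ q ∈ Q₂, q ∈ S := fun q hq => h₂.1 hq
  have hmul : ∀ s ∈ S, ∀ t ∈ S, π (s * t) = π s * π t ∧ ρ (s * t) = ρ s * ρ t := by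
    intro s hs t ht
    refine mul_inj h₁ (hπ _ (mul_mem hs ht)) (mul_mem (hπ _ hs) (hπ _ ht)) (hρ _ (mul_mem hs ht))
      (mul_mem (hρ _ hs) (hρ _ ht)) ?_
    rw [hdec _ (mul_mem hs ht), ← mul_mul h₁ (hπ _ ht) (hρ _ hs), hdec _ hs, hdec _ ht]
  have hker : ∀ q ∈ Q₂, π q = 1 → q = 1 := by
    intro q hq hq1
    by_contra hne
    have hqR : q ∈ R₁ := by
      have hd := hdec q (hQ2 q hq)
      rw [hq1, one_mul] at hd
      exact hd ▸ hρ q (hQ2 q hq)
    exact hR ((Subgroup.zpowers_le.mpr hqR) (hpow q hq hne))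
  let φ : ↥Q₂ →* ↥Q₁ := MonoidHom.mk' (fun q => ⟨π q, hπ _ (hQ2 _ q.2)⟩)
    (fun q r => Subtype.ext (hmul _ (hQ2 _ q.2) _ (hQ2 _ r.2)).1)
  have hinj : Function.Injective φ := by
    rw [injective_iff_map_eq_one]
    intro q hq
    exact Subtype.ext (hker q q.2 (congrArg Subtype.val hq))
  have hsurj : Function.Surjective φ :=
    ((Nat.bijective_iff_injective_and_card φ).mpr ⟨hinj, hc.symm⟩).2
  have hρc : ∀ q ∈ Q₂, ∀ w ∈ R₁, ρ q * w = w * ρ q := by
    intro q hq w hw
    have hwS := h₁.2.1 hw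
    -- `w` centralizes `Q₂`
    obtain ⟨c, hc', u, hu, hcu⟩ := exists_mul h₂ hwS
    have hπu : π c * π u = 1 := by
      rw [← (hmul c (hQ2 c hc') u (h₂.2.1 hu)).1, hcu]
      have hd : π w * ρ w = 1 * w := by rw [hdec w hwS, one_mul]
      exact (mul_inj h₁ (hπ w hwS) (one_mem _) (hρ w hwS) hw hd).1
    have hcc : ∀ t ∈ Q₂, c * t = t * c := by
      intro t ht
      have e1 : π u * π t = π t * π u := by
        rw [← (hmul u (h₂.2.1 hu) t (hQ2 t ht)).1, ← (hmul t (hQ2 t ht) u (h₂.2.1 hu)).1,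
          h₂.2.2.1 t ht u hu]
      rw [eq_inv_of_mul_eq_one_right hπu] at e1
      have e2 : Commute (π c) (π t) := Commute.inv_left_iff.mp e1
      have e3 : φ (⟨c, hc'⟩ * ⟨t, ht⟩) = φ (⟨t, ht⟩ * ⟨c, hc'⟩) := by
        rw [map_mul, map_mul]
        exact Subtype.ext e2
      exact congrArg Subtype.val (hinj e3)
    have hwt : Commute w q := by
      rw [← hcu]
      exact Commute.mul_left (hcc q hq) (h₂.2.2.1 q hq u hu).symm
    have hπw : Commute w (π q) := (h₁.2.2.1 _ (hπ q (hQ2 q hq)) w hw).symm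
    have : Commute w ((π q)⁻¹ * q) := hπw.inv_right.mul_right hwt
    rw [show (π q)⁻¹ * q = ρ q by rw [inv_mul_eq_iff_eq_mul, hdec q (hQ2 q hq)]] at this
    exact this.eq.symm
  -- the involution is a commutator, so its component in `R₁` is trivial
  let ψ : ↥Q₂ →* G := MonoidHom.mk' (fun q => ρ q)
    (fun q r => (hmul _ (hQ2 _ q.2) _ (hQ2 _ r.2)).2)
  have hψ : ψ ⟨z₂, hz2⟩ = 1 := by
    have : (⟨z₂, hz2⟩ : ↥Q₂) = ⟨a, ha⟩ * ⟨b, hb⟩ * ⟨a, ha⟩⁻¹ * ⟨b, hb⟩⁻¹ := Subtype.ext hab.symm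
    rw [this, map_mul, map_mul, map_mul, map_inv, map_inv]
    have e : Commute (ρ a) (ρ b) := hρc a ha _ (hρ b (hQ2 b hb))
    show ρ a * ρ b * (ρ a)⁻¹ * (ρ b)⁻¹ = 1
    rw [e.eq, mul_inv_cancel_right, mul_inv_cancel]
  have hd := hdec z₂ (hQ2 z₂ hz2)
  rw [show ρ z₂ = 1 from hψ, mul_one] at hd
  rcases q₁.2.2.2.1 (π z₂) (hπ _ (hQ2 _ hz2)) (by rw [hd, hz2s]) with e | e
  · exact absurd (hd ▸ e) hz21
  · rw [← hd, e]

theorem Quat.map {z : G} (q : Quat Q z) (φ : G →* G) (hφ : Function.Injective φ) :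
    Quat (Q.map φ) (φ z) := by
  obtain ⟨hz, hz1, hzz, huniq, hpow, a, ha, b, hb, hab⟩ := q
  refine ⟨⟨z, hz, rfl⟩, fun e => hz1 (hφ (by rw [e, map_one])), by rw [← map_mul, hzz, map_one],
    ?_, ?_, φ a, ⟨a, ha, rfl⟩, φ b, ⟨b, hb, rfl⟩, by simp only [← map_mul, ← map_inv, hab]⟩
  · rintro _ ⟨x, hx, rfl⟩ h2
    rcases huniq x hx (hφ (by rw [map_mul, h2, map_one])) with e | e
    · exact Or.inl (by rw [e, map_one])
    · exact Or.inr (by rw [e])
  · rintro _ ⟨x, hx, rfl⟩ hne
    obtain ⟨k, hk⟩ := Subgroup.mem_zpowers_iff.mp (hpow x hx (fun e => hne (by rw [e, map_one])))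
    exact Subgroup.mem_zpowers_iff.mpr ⟨k, by rw [← map_zpow, hk]⟩

theorem map_prod {T : Subgroup G} {Q R : Subgroup G} (h : IsInternalDirectProduct Q R T)
    (φ : G →* G) (hφ : Function.Injective φ) :
    IsInternalDirectProduct (Q.map φ) (R.map φ) (T.map φ) := by
  refine ⟨Subgroup.map_mono h.1, Subgroup.map_mono h.2.1, ?_, ?_, ?_⟩
  · rintro _ ⟨a, ha, rfl⟩ _ ⟨b, hb, rfl⟩
    rw [← map_mul, ← map_mul, h.2.2.1 a ha b hb]
  · rw [← Subgroup.map_inf _ _ φ hφ, h.2.2.2.1, Subgroup.map_bot]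
  · rw [← Subgroup.map_sup, h.2.2.2.2]

open scoped Classical in
/-- The product of the involutions of the quaternion direct factors. -/
theorem exists_fixed [Finite G] {z : G} (h : IsInternalDirectProduct Q R S) (q : Quat Q z) :
    ∃ P : G, orderOf P = 2 ∧ P ∈ S ∧ P ∈ Subgroup.centralizer (S : Set G) ∧
      ∀ n ∈ Subgroup.normalizer (S : Set G), n * P * n⁻¹ = P := by
  let C : Subgroup G := S ⊓ Subgroup.centralizer (S : Set G)
  letI hC : CommGroup ↥C :=
    { (inferInstance : Group ↥C) with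
      mul_comm := fun a b => Subtype.ext
        (Subgroup.mem_centralizer_iff.mp b.2.2 _ a.2.1) }
  letI : Fintype ↥C := Fintype.ofFinite _
  let W : G → Prop := fun w => ∃ Q' R' : Subgroup G, IsInternalDirectProduct Q' R' S ∧
    Nat.card Q' = Nat.card Q ∧ Quat Q' w
  have hWC : ∀ w, W w → w ∈ C := by
    rintro w ⟨Q', R', h', -, q'⟩
    refine ⟨h'.1 q'.1, Subgroup.mem_centralizer_iff.mpr fun s hs => ?_⟩
    obtain ⟨x, hx, r, hr, rfl⟩ := exists_mul h' hs
    exact ((show Commute x w from q'.central hx).mul_left (h'.2.2.1 w q'.1 r hr).symm).eq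
  let F : Finset ↥C := Finset.univ.filter fun c => W (c : G)
  let P : ↥C := ∏ c ∈ F, c
  have hzW : W z := ⟨Q, R, h, rfl, q⟩
  let z' : ↥C := ⟨z, hWC z hzW⟩
  have hz' : z' ∈ F := Finset.mem_filter.mpr ⟨Finset.mem_univ _, hzW⟩
  have hrest : ((∏ c ∈ F.erase z', c : ↥C) : G) ∈ R := by
    have : (∏ c ∈ F.erase z', c : ↥C) ∈ R.comap C.subtype := by
      refine prod_mem fun c hc => ?_
      obtain ⟨hne, hcF⟩ := Finset.mem_erase.mp hc
      obtain ⟨-, Q', R', h', hcard, q'⟩ := Finset.mem_filter.mp hcF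
      exact (key h h' hcard.symm q q').resolve_left fun e => hne (Subtype.ext e)
    exact this
  have hP : P = z' * ∏ c ∈ F.erase z', c := (Finset.mul_prod_erase F (fun c => c) hz').symm
  have hP1 : P ≠ 1 := by
    intro e
    rw [hP, mul_eq_one_iff_eq_inv] at e
    have hzR : z ∈ R := by
      have he : z = ((∏ c ∈ F.erase z', c : ↥C) : G)⁻¹ := congrArg Subtype.val e
      rw [he]
      exact inv_mem hrest
    have : z ∈ Q ⊓ R := ⟨q.1, hzR⟩
    rw [h.2.2.2.1] at this
    exact q.2.1 this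
  have hPsq : P * P = 1 := by
    rw [← Finset.prod_mul_distrib]
    refine Finset.prod_eq_one fun c hc => ?_
    obtain ⟨-, Q', R', h', hcard, q'⟩ := Finset.mem_filter.mp hc
    exact Subtype.ext q'.2.2.1
  refine ⟨P, ?_, P.2.1, P.2.2, fun n hn => ?_⟩
  · refine orderOf_eq_prime ?_ fun e => hP1 (Subtype.ext e)
    rw [pow_two]
    exact congrArg Subtype.val hPsq
  · let φ : G →* G := (MulAut.conj n).toMonoidHom
    have hφ : Function.Injective φ := (MulAut.conj n).injective
    have hS : S.map φ = S := by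
      ext x
      rw [Subgroup.mem_map_equiv, MulAut.conj_symm_apply]
      exact (Subgroup.mem_normalizer_iff''.mp hn x).symm
    have hW : ∀ w, W w → W (φ w) := by
      rintro w ⟨Q', R', h', hcard, q'⟩
      refine ⟨Q'.map φ, R'.map φ, ?_, ?_, q'.map φ hφ⟩
      · have := map_prod h' φ hφ
        rwa [hS] at this
      · rw [← hcard]
        exact Subgroup.card_map_of_injective hφ
    have hmemC : ∀ c : ↥C, φ c ∈ C := by
      intro c
      refine ⟨hS ▸ ⟨c, c.2.1, rfl⟩, Subgroup.mem_centralizer_iff.mpr fun s hs => ?_⟩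
      rw [← hS] at hs
      obtain ⟨t, ht, rfl⟩ := hs
      rw [← map_mul, ← map_mul, Subgroup.mem_centralizer_iff.mp c.2.2 t ht]
    let ψ : ↥C →* ↥C := (φ.comp C.subtype).codRestrict C hmemC
    have hψ : Function.Injective ψ := fun c d e => Subtype.ext (hφ (congrArg Subtype.val e))
    have hFψ : F.image ψ = F := by
      refine Finset.eq_of_subset_of_card_le ?_ (by rw [Finset.card_image_of_injective _ hψ])
      intro c hc
      obtain ⟨d, hd, rfl⟩ := Finset.mem_image.mp hc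
      exact Finset.mem_filter.mpr ⟨Finset.mem_univ _, hW _ (Finset.mem_filter.mp hd).2⟩
    have hPψ : ψ P = P := by
      rw [_root_.map_prod ψ]
      conv_rhs => rw [show P = ∏ c ∈ F.image ψ, c by rw [hFψ], Finset.prod_image hψ.injOn]
    exact congrArg Subtype.val hPψ

end CfsgLib.QuatFactor

namespace Cfsg.Agent.S3269

open CfsgLib.QuatFactor

/-- Let G be a finite group whose Sylow 2-subgroup S is an internal direct product Q × R with Q generalized quaternion (of order at least 8) and R a subgroup all of whose involutions are central in R. Then G is not simple. In particular no finite simple group has a Sylow 2-subgroup that is a direct product of one or more generalized quaternion groups. -/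
theorem result {G : Type*} [Group G] [Finite G]
    (S : Sylow 2 G) (Q R : Subgroup G) (hQR : Cfsg.IsInternalDirectProduct Q R (S : Subgroup G))
    (n : ℕ) (hn : 1 ≤ n) (eQ : ↥Q ≃* QuaternionGroup (2 ^ n))
    (hR : ∀ r ∈ R, orderOf r = 2 → ∀ s ∈ R, r * s = s * r) :
    ¬ IsSimpleGroup G := by
  intro hsimple
  have hm : NeZero (2 ^ n) := ⟨by positivity⟩
  set m := 2 ^ n with hmdef
  have hm2 : 2 ≤ m := by
    calc (2:ℕ) = 2 ^ 1 := rfl
      _ ≤ 2 ^ n := Nat.pow_le_pow_right (by norm_num) hn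
  let z₀ : QuaternionGroup m := QuaternionGroup.a (m : ZMod (2 * m))
  let z : G := (eQ.symm z₀ : ↥Q)
  have hcard : Nat.card (QuaternionGroup m) = 2 ^ (n + 2) := by
    rw [Nat.card_eq_fintype_card, QuaternionGroup.card, hmdef]
    ring
  have huniq : ∀ x : QuaternionGroup m, x * x = 1 → x = 1 ∨ x = z₀ := by
    intro x hx
    cases x with
    | a i =>
      rw [QuaternionGroup.a_mul_a, QuaternionGroup.one_def, QuaternionGroup.a.injEq] at hx
      have h2 : ((i.val + i.val : ℕ) : ZMod (2 * m)) = 0 := by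
        rw [Nat.cast_add, ZMod.natCast_zmod_val, hx]
      rw [ZMod.natCast_eq_zero_iff] at h2
      have hlt : i.val < 2 * m := ZMod.val_lt i
      obtain ⟨c, hc⟩ := h2
      have hc2 : c < 2 := by
        by_contra hge
        have : 2 * m * 2 ≤ 2 * m * c := Nat.mul_le_mul_left _ (not_lt.mp hge)
        omega
      rcases Nat.lt_succ_iff.mp hc2 |>.eq_or_lt with e | e
      · right
        rw [e] at hc
        show QuaternionGroup.a i = QuaternionGroup.a _
        rw [← ZMod.natCast_zmod_val i, show i.val = m by omega]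
      · left
        rw [Nat.lt_one_iff.mp e] at hc
        rw [QuaternionGroup.one_def, ← ZMod.natCast_zmod_val i, show i.val = 0 by omega,
          Nat.cast_zero]
    | xa i =>
      exfalso
      have h4 := QuaternionGroup.orderOf_xa i
      have : orderOf (QuaternionGroup.xa i) ∣ 2 := orderOf_dvd_of_pow_eq_one (by rw [pow_two, hx])
      rw [h4] at this
      omega
  have hz0 : z₀ ≠ 1 := by
    intro e
    rw [QuaternionGroup.one_def, QuaternionGroup.a.injEq] at e
    have := Nat.le_of_dvd (by omega) ((ZMod.natCast_eq_zero_iff m (2 * m)).mp e)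
    omega
  have hz0s : z₀ * z₀ = 1 := by
    rw [QuaternionGroup.a_mul_a, QuaternionGroup.one_def, ← Nat.cast_add]
    congr 1
    rw [show m + m = 2 * m by ring, ZMod.natCast_self]
  have hpow0 : ∀ x : QuaternionGroup m, x ≠ 1 → z₀ ∈ Subgroup.zpowers x := by
    intro x hx
    have h2 : 2 ∣ orderOf x := by
      obtain ⟨j, -, hj⟩ := (Nat.dvd_prime_pow Nat.prime_two).mp (hcard ▸ orderOf_dvd_natCard x)
      rw [hj]
      refine dvd_pow_self 2 ?_
      rintro rfl
      exact hx (orderOf_eq_one_iff.mp (by rw [hj, pow_zero]))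
    have hw : orderOf (x ^ (orderOf x / 2)) = 2 := orderOf_pow_orderOf_div (orderOf_pos x).ne' h2
    have hww := pow_orderOf_eq_one (x ^ (orderOf x / 2))
    rw [hw, pow_two] at hww
    rcases huniq _ hww with e | e
    · rw [e, orderOf_one] at hw
      omega
    · exact e ▸ Subgroup.pow_mem _ (Subgroup.mem_zpowers x) _
  have hcomm : ∃ a b : QuaternionGroup m, a * b * a⁻¹ * b⁻¹ = z₀ := by
    obtain ⟨k, rfl⟩ : ∃ k, n = k + 1 := ⟨n - 1, by omega⟩
    refine ⟨QuaternionGroup.a ((2 ^ k : ℕ) : ZMod (2 * m)), QuaternionGroup.xa 0, ?_⟩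
    rw [mul_inv_eq_iff_eq_mul, mul_inv_eq_iff_eq_mul]
    simp only [z₀, QuaternionGroup.a_mul_xa, QuaternionGroup.xa_mul_a,
      QuaternionGroup.xa.injEq]
    have hcast : (m : ZMod (2 * m)) = ((2 ^ k : ℕ) : ZMod (2 * m)) + ((2 ^ k : ℕ) : ZMod (2 * m)) := by
      rw [← Nat.cast_add]
      congr 1
      rw [hmdef, pow_succ, mul_two]
    rw [hcast]
    ring
  have hq : Quat Q z := by
    have inj : ∀ x : ↥Q, (x : G) = 1 → x = 1 := fun x hx => Subtype.ext hx
    refine ⟨(eQ.symm z₀).2, fun e => hz0 ?_, ?_, fun x hx hxx => ?_, fun x hx hxne => ?_, ?_⟩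
    · simpa using congrArg eQ (inj _ e)
    · show ((eQ.symm z₀ * eQ.symm z₀ : ↥Q) : G) = 1
      rw [← map_mul, hz0s, map_one, Subgroup.coe_one]
    · rcases huniq (eQ ⟨x, hx⟩) (by rw [← map_mul, inj (⟨x, hx⟩ * ⟨x, hx⟩) hxx, map_one]) with e | e
      · exact Or.inl (by simpa using congrArg Subtype.val (congrArg eQ.symm e))
      · exact Or.inr (by simpa using congrArg Subtype.val (congrArg eQ.symm e))
    · have := hpow0 (eQ ⟨x, hx⟩) (fun e => hxne (by simpa using congrArg Subtype.val (congrArg eQ.symm e)))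
      obtain ⟨k, hk⟩ := Subgroup.mem_zpowers_iff.mp this
      refine Subgroup.mem_zpowers_iff.mpr ⟨k, ?_⟩
      have := congrArg Subtype.val (congrArg eQ.symm hk)
      simpa [map_zpow] using this
    · obtain ⟨a, b, hab⟩ := hcomm
      refine ⟨_, (eQ.symm a).2, _, (eQ.symm b).2, ?_⟩
      have := congrArg Subtype.val (congrArg eQ.symm hab)
      simpa [map_mul, map_inv] using this
  obtain ⟨P, hP2, hPS, hPc, hPfix⟩ := exists_fixed hQR hq
  -- every involution of `S` is central in `S`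
  have hinv : ∀ y ∈ (S : Subgroup G), y * y = 1 → y ∈ Subgroup.centralizer ((S : Subgroup G) : Set G) := by
    intro y hy hyy
    obtain ⟨x, hx, r, hr, rfl⟩ := exists_mul hQR hy
    rw [mul_mul hQR hx hr] at hyy
    obtain ⟨e1, e2⟩ := mul_inj hQR (mul_mem hx hx) (one_mem _) (mul_mem hr hr) (one_mem _)
      (by rw [hyy, one_mul])
    refine Subgroup.mem_centralizer_iff.mpr fun s hs => ?_
    obtain ⟨x', hx', r', hr', rfl⟩ := exists_mul hQR hs
    have c1 : Commute x' x := by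
      rcases hq.2.2.2.1 x hx e1 with e | e
      · rw [e]; exact Commute.one_right _
      · rw [e]; exact hq.central hx'
    have c2 : Commute r r' := by
      rcases eq_or_ne r 1 with e | e
      · rw [e]; exact Commute.one_left _
      · exact hR r hr (orderOf_eq_prime (by rw [pow_two, e2]) e) r' hr'
    rw [mul_mul hQR hx hr', mul_mul hQR hx' hr, c1.eq, c2.eq]
  have hiso : ∀ g : G, g * P * g⁻¹ ∈ S → g * P * g⁻¹ = P := by
    intro g hg
    have hPP : P * P = 1 := by rw [← pow_two, ← hP2, pow_orderOf_eq_one]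
    have hy := hinv _ hg (by
      rw [show g * P * g⁻¹ * (g * P * g⁻¹) = g * (P * P) * g⁻¹ by group, hPP, mul_one, mul_inv_cancel])
    haveI : Fact (Nat.Prime 2) := ⟨Nat.prime_two⟩
    obtain ⟨k, hk, e⟩ := Sylow.conj_eq_normalizer_conj_of_mem_centralizer S P g⁻¹ hPc
      (by rw [inv_inv]; exact hy)
    rw [inv_inv] at e
    rw [e]
    have := hPfix k⁻¹ (inv_mem hk)
    rwa [inv_inv] at this
  have hcore := CfsgLib.ZStar.commutatorsInCore_of_isolated
    (CfsgLib.Invol.isolated_of_sylow S hP2 hPS hiso)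
  have heven : 2 ∣ Nat.card G := hP2 ▸ orderOf_dvd_natCard P
  have hO : pPrimeCore 2 G = ⊥ := by
    haveI := CfsgLib.Transfer.pPrimeCore_normal 2 G
    refine (Subgroup.Normal.eq_bot_or_eq_top this).resolve_right fun e => ?_
    have := CfsgLib.ZStar.odd_card_core (G := G)
    rw [e, Subgroup.card_top, Nat.odd_iff] at this
    omega
  have hcen : P ∈ Subgroup.center G := Subgroup.mem_center_iff.mpr fun g =>
    (CfsgLib.ZStar.commute_of_commutatorsInCore hO hcore g).eq.symm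
  have htop : Subgroup.center G = ⊤ :=
    (Subgroup.Normal.eq_bot_or_eq_top inferInstance).resolve_left fun e => by
      rw [e, Subgroup.mem_bot] at hcen
      rw [hcen, orderOf_one] at hP2
      omega
  obtain ⟨-, hz1, -, -, -, a, ha, b, hb, hab⟩ := hq
  apply hz1
  rw [← hab]
  have hc : b * a = a * b := (Subgroup.mem_center_iff.mp (htop ▸ Subgroup.mem_top a)) b
  rw [← hc, mul_inv_cancel_right, mul_inv_cancel]


end Cfsg.Agent.S3269
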