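import Cfsg.Statements.S3277
import Cfsg.Agent.Lib.Invol.KleinCentralizer
import Cfsg.Agent.Lib.Invol.ElementaryPSL

set_option autoImplicit false
open Cfsg

namespace Cfsg.Agent.S3277

/-- Let G be a finite group containing an involution whose centralizer is elementary abelian of order 4. If G has no normal 2-complement and no normal elementary abelian 2-subgroup of order 2 or 4, then G is isomorphic to the alternating group of degree 5 (that is, to PSL(2, 5)). -/
theorem result {G : Type*} [Group G] [Finite G] (x : G) (hx : orderOf x = 2)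
    (hC4 : Nat.card ↥(Subgroup.centralizer ({x} : Set G)) = 4) (hCe : ∀ c ∈ Subgroup.centralizer ({x} : Set G), c ^ 2 = 1)
    (hnc : ¬ Cfsg.HasNormalPComplement 2 G)
    (hne : ∀ E : Subgroup G, E.Normal → Cfsg.IsElementaryAbelian 2 E → Nat.card ↥E ≠ 2 ∧ Nat.card ↥E ≠ 4) :
    Nonempty (G ≃* ↥(alternatingGroup (Fin 5))) := by
  classical
  haveI := Fact.mk Nat.prime_two
  set C := Subgroup.centralizer ({x} : Set G) with hC
  haveI : Nontrivial C := Finite.one_lt_card_iff_nontrivial.mp (by omega)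
  have hK : IsKleinFour C :=
    ⟨hC4, (Monoid.exponent_eq_prime_iff Nat.prime_two).mpr fun c hc =>
      orderOf_eq_prime (Subtype.ext (by rw [SubmonoidClass.coe_pow]; exact hCe c c.2)) hc⟩
  have hodd : ¬ 2 ∣ C.relIndex (Subgroup.centralizer ({x} : Set G)) := by
    rw [← hC, Subgroup.relIndex_self]; norm_num
  have hn : (C.subgroupOf (Subgroup.centralizer ({x} : Set G))).Normal := by
    rw [← hC, Subgroup.subgroupOf_self]; infer_instance
  obtain ⟨S, hS⟩ := (IsPGroup.of_card (p := 2) (G := C) (n := 2) (by rw [hC4]; norm_num)).exists_le_sylow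
  by_cases hne' : C = (S : Subgroup G)
  swap
  · obtain ⟨E, hE, hEe, hcard, -⟩ :=
      CfsgLib.Invol.exists_small_normal hx (le_refl _) hK hodd hn S hS hne'
    exfalso
    rcases hcard with h | h
    · exact (hne E hE hEe).1 h
    · exact (hne E hE hEe).2 h
  have hSK : IsKleinFour (S : Subgroup G) := hne' ▸ hK
  haveI := hSK
  have hcomm : ∀ a b : G, a ^ 2 = 1 → b ^ 2 = 1 → (a * b) ^ 2 = 1 → a * b = b * a := by
    intro a b ha hb hab
    rw [pow_two] at ha hb hab
    calc a * b = (a * b)⁻¹ := (inv_eq_of_mul_eq_one_right hab).symm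
      _ = b * a := by
        rw [mul_inv_rev, inv_eq_of_mul_eq_one_right ha, inv_eq_of_mul_eq_one_right hb]
  have hone := (CfsgLib.Invol.klein_complement_or_one_class S hSK).resolve_left
    fun ⟨N, hN, hc⟩ => hnc ⟨S, N, hN, hc⟩
  have hT : CfsgLib.Invol.ElemCent.Hyp S := by
    refine ⟨IsKleinFour.not_isCyclic, fun hnorm => ?_, fun t ht => ?_⟩
    · refine (hne (S : Subgroup G) hnorm ⟨IsKleinFour.isMulCommutative, fun a ha => ?_⟩).2
        IsKleinFour.card_four
      exact hCe a (hne' ▸ ha)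
    · obtain ⟨g, hg⟩ := isConj_iff.mp (hone x t hx ht)
      have hmem : ∀ c ∈ Subgroup.centralizer ({t} : Set G), c ^ 2 = 1 := fun c hc => by
        rw [Subgroup.mem_centralizer_singleton_iff, ← hg] at hc
        have h1 := hCe (g⁻¹ * c * g) (Subgroup.mem_centralizer_singleton_iff.mpr (by
          calc g⁻¹ * c * g * x = g⁻¹ * (c * (g * x * g⁻¹)) * g := by group
            _ = g⁻¹ * (g * x * g⁻¹ * c) * g := by rw [hc]
            _ = x * (g⁻¹ * c * g) := by group))
        calc c ^ 2 = g * (g⁻¹ * c * g) ^ 2 * g⁻¹ := by rw [pow_two, pow_two]; group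
          _ = 1 := by rw [h1]; group
      exact ⟨⟨⟨fun a b => Subtype.ext (hcomm _ _ (hmem _ a.2) (hmem _ b.2) (hmem _ (a * b).2))⟩⟩, hmem⟩
  have hcard : Nat.card (S : Subgroup G) = 4 := IsKleinFour.card_four
  haveI : FaithfulSMul G (G ⧸ CfsgLib.Invol.ElemCent.borel S) := ⟨fun {a b} h =>
    (inv_mul_eq_one.mp (CfsgLib.Invol.ElemCent.faithful hT fun y => by
      rw [mul_smul, h y, inv_smul_smul])).symm⟩
  refine CfsgLib.Invol.equiv_alternating_five (α := G ⧸ CfsgLib.Invol.ElemCent.borel S) ?_ ?_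
  · rw [CfsgLib.Invol.ElemCent.card_quotient hT]
    show Nat.card (S : Subgroup G) + 1 = 5
    omega
  · have h := CfsgLib.Invol.ElemCent.card_group hT
    rw [h, show Nat.card S = 4 from hcard]
end Cfsg.Agent.S3277
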