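import Cfsg.Statements.S3279
import Cfsg.Agent.Lib.ZStar.Main
import Cfsg.Agent.Lib.Invol.Dihedral

set_option autoImplicit false
open Cfsg
open scoped Pointwise

namespace Cfsg.Agent.S3279

/-- Let G be a finite simple group and x an involution of G whose centralizer contains at most three involutions. Then C_G(x) contains a Sylow 2-subgroup of G, and all involutions of G are conjugate. -/
theorem result {G : Type*} [Group G] [Finite G] [IsSimpleGroup G] (x : G) (hx : orderOf x = 2)
    (h3 : Nat.card {u : ↥(Subgroup.centralizer ({x} : Set G)) // orderOf u = 2} ≤ 3) :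
    (∃ S : Sylow 2 G, (S : Subgroup G) ≤ Subgroup.centralizer ({x} : Set G)) ∧
      ∀ u v : G, orderOf u = 2 → orderOf v = 2 → IsConj u v := by
  classical
  have hxx := CfsgLib.Invol.mul_self_of_orderOf_two hx
  have hcentral : ∀ c : G, c ≠ 1 → c ∈ Subgroup.center G → ∀ a b : G, a * b = b * a := by
    intro c hc hmem a b
    rcases (Subgroup.center G).normal_of_characteristic.eq_bot_or_eq_top with h | h
    · rw [h, Subgroup.mem_bot] at hmem; exact absurd hmem hc
    · exact Subgroup.mem_center_iff.mp (h ▸ Subgroup.mem_top b) a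
  by_cases hab : ∀ a b : G, a * b = b * a
  · have hzn : (Subgroup.zpowers x).Normal := ⟨fun n hn a => by
      rw [hab a n, mul_inv_cancel_right]; exact hn⟩
    have htop : Subgroup.zpowers x = ⊤ := by
      rcases hzn.eq_bot_or_eq_top with h | h
      · exact absurd (Subgroup.zpowers_eq_bot.mp h) (CfsgLib.Invol.ne_one_of_orderOf_two hx)
      · exact h
    have hone : ∀ u : G, orderOf u = 2 → u = x := by
      intro u hu
      obtain ⟨k, rfl⟩ := Subgroup.mem_zpowers_iff.mp (htop ▸ Subgroup.mem_top u)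
      rcases Int.even_or_odd k with ⟨m, rfl⟩ | ⟨m, rfl⟩
      · refine absurd ?_ (CfsgLib.Invol.ne_one_of_orderOf_two hu)
        rw [← two_mul, zpow_mul, zpow_two, hxx, one_zpow]
      · rw [zpow_add, zpow_one, zpow_mul, zpow_two, hxx, one_zpow, one_mul]
    exact ⟨⟨Classical.choice inferInstance, fun s _ =>
      Subgroup.mem_centralizer_singleton_iff.mpr (hab s x)⟩,
      fun u v hu hv => by rw [hone u hu, hone v hv]⟩
  obtain ⟨g, hg, hgne⟩ : ∃ g : G, Commute x (g * x * g⁻¹) ∧ g * x * g⁻¹ ≠ x := by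
    by_contra hno
    push Not at hno
    have hC := CfsgLib.ZStar.commutatorsInCore_of_isolated (z := x) ⟨hx, hno⟩
    rcases (CfsgLib.Transfer.pPrimeCore_normal 2 G).eq_bot_or_eq_top with h | h
    · refine hab (hcentral x (CfsgLib.Invol.ne_one_of_orderOf_two hx)
        (Subgroup.mem_center_iff.mpr fun a => ?_))
      have h1 := hC a
      rw [h, Subgroup.mem_bot, mul_inv_eq_one, mul_inv_eq_iff_eq_mul] at h1
      exact h1.symm
    · have h1 := CfsgLib.Transfer.pPrimeCore_coprime (G := G) 2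
      rw [h, Subgroup.card_top, Nat.coprime_two_right] at h1
      have h2 : 2 ∣ Nat.card G := hx ▸ orderOf_dvd_natCard x
      exact (Nat.not_even_iff_odd.mpr h1) (even_iff_two_dvd.mpr h2)
  obtain ⟨y, hy⟩ : ∃ y, y = g * x * g⁻¹ := ⟨_, rfl⟩
  rw [← hy] at hg hgne
  have hy2 : orderOf y = 2 := hy ▸ CfsgLib.Invol.conj_orderOf_two hx g
  have hyx : IsConj x y := isConj_iff.mpr ⟨g, hy.symm⟩
  have hz2 : orderOf (x * y) = 2 := by
    refine CfsgLib.Invol.orderOf_two_of_mul_self ?_ fun h => hgne ?_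
    · rw [hg.symm.mul_mul_mul_comm, hxx, CfsgLib.Invol.mul_self_of_orderOf_two hy2, one_mul]
    · exact (eq_inv_of_mul_eq_one_right h).trans (CfsgLib.Invol.inv_of_orderOf_two hx)
  have hzc : Commute x (x * y) := (Commute.refl x).mul_right hg
  have hset : ∀ u : G, orderOf u = 2 → Commute x u → u = x ∨ u = y ∨ u = x * y := by
    intro u hu hc
    by_contra hne
    push Not at hne
    obtain ⟨n1, n2, n3⟩ := hne
    have hxz : x ≠ x * y := fun h => CfsgLib.Invol.ne_one_of_orderOf_two hy2 (left_eq_mul.mp h)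
    have hyz : y ≠ x * y := fun h => CfsgLib.Invol.ne_one_of_orderOf_two hx (right_eq_mul.mp h)
    have hcard : ({x, y, x * y, u} : Finset G).card = 4 := by
      rw [Finset.card_insert_of_notMem (by simp [hgne.symm, hxz, n1.symm]),
        Finset.card_insert_of_notMem (by simp [hyz, n2.symm]),
        Finset.card_insert_of_notMem (by simp [n3.symm]), Finset.card_singleton]
    have hmem : ∀ a : ↥({x, y, x * y, u} : Finset G), orderOf (a : G) = 2 ∧ Commute x (a : G) := by
      rintro ⟨a, ha⟩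
      simp only [Finset.mem_insert, Finset.mem_singleton] at ha
      rcases ha with r | r | r | r <;> subst r
      exacts [⟨hx, Commute.refl a⟩, ⟨hy2, hg⟩, ⟨hz2, hzc⟩, ⟨hu, hc⟩]
    have := Nat.card_le_card_of_injective
      (fun a : ↥({x, y, x * y, u} : Finset G) =>
        (⟨⟨(a : G), Subgroup.mem_centralizer_singleton_iff.mpr (hmem a).2.eq.symm⟩,
          (Subgroup.orderOf_mk _ _).trans (hmem a).1⟩ :
          {u : ↥(Subgroup.centralizer ({x} : Set G)) // orderOf u = 2}))
      (fun a b h => Subtype.ext (congrArg (fun w => (w.1 : G)) h))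
    rw [Nat.card_eq_fintype_card, Fintype.card_coe, hcard] at this
    omega
  have hcj : ∀ (h u : G), orderOf u = 2 → Commute (h * x * h⁻¹) u →
      ∃ v, (v = x ∨ v = y ∨ v = x * y) ∧ u = h * v * h⁻¹ := by
    intro h u hu hc
    refine ⟨h⁻¹ * u * h, hset _ ?_ ?_, by group⟩
    · simpa using CfsgLib.Invol.conj_orderOf_two hu h⁻¹
    · calc x * (h⁻¹ * u * h) = h⁻¹ * (h * x * h⁻¹ * u) * h := by group
        _ = h⁻¹ * (u * (h * x * h⁻¹)) * h := by rw [hc.eq]
        _ = h⁻¹ * u * h * x := by group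
  have hconj : ∀ (h v : G), IsConj v (h * v * h⁻¹) := fun h v => isConj_iff.mpr ⟨h, rfl⟩
  have hzx : IsConj x (x * y) := by
    by_contra hnz
    have hkey : ∀ a : G, IsConj (x * y) a → Commute (x * y) a := by
      intro a ha
      have ha2 : orderOf a = 2 := by
        obtain ⟨h, rfl⟩ := isConj_iff.mp ha
        exact CfsgLib.Invol.conj_orderOf_two hz2 h
      have hax : ¬ IsConj x a := fun h => hnz (h.trans ha.symm)
      obtain ⟨w, hw, hwx, hwa⟩ := CfsgLib.Invol.exists_common_commuting_invol hx ha2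
        (CfsgLib.Invol.even_of_not_isConj hx ha2 hax)
      rcases hset w hw hwx.symm with h | h | h
      · rcases hset a ha2 (h ▸ hwa) with r | r | r
        · exact absurd (r ▸ IsConj.refl x) hax
        · exact absurd (r ▸ hyx) hax
        · exact r ▸ Commute.refl _
      · obtain ⟨v, hv, rfl⟩ := hcj g a ha2 (hy ▸ h ▸ hwa)
        obtain ⟨v', hv', hzv⟩ := hcj g (x * y) hz2
          (hy ▸ hg.symm.mul_right (Commute.refl y))
        have e : ∀ v, (v = x ∨ v = y ∨ v = x * y) → ¬ IsConj x (g * v * g⁻¹) → v = x * y := by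
          intro v hv hn
          rcases hv with r | r | r
          · exact absurd (r ▸ hconj g x) hn
          · exact absurd (r ▸ hyx.trans (hconj g y)) hn
          · exact r
        rw [e v' hv' (hzv ▸ hnz)] at hzv
        rw [e v hv hax, ← hzv]
      · exact h ▸ hwa
    have hle : Subgroup.normalClosure {x * y} ≤ Subgroup.centralizer {x * y} :=
      (Subgroup.closure_le _).mpr fun a ha => by
        obtain ⟨b, hb, hba⟩ := Group.mem_conjugatesOfSet_iff.mp ha
        rw [Set.mem_singleton_iff] at hb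
        exact Subgroup.mem_centralizer_singleton_iff.mpr (hkey a (hb ▸ hba)).eq.symm
    have hz1 := CfsgLib.Invol.ne_one_of_orderOf_two hz2
    rcases (Subgroup.normalClosure_normal (s := {x * y})).eq_bot_or_eq_top with h | h
    · exact hz1 (Subgroup.mem_bot.mp (h ▸ Subgroup.subset_normalClosure rfl))
    · exact hab (hcentral _ hz1 (Subgroup.mem_center_iff.mpr fun a =>
        Subgroup.mem_centralizer_singleton_iff.mp (hle (h ▸ Subgroup.mem_top a))))
  have hall : ∀ u : G, orderOf u = 2 → IsConj x u := by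
    have hthree : ∀ v, (v = x ∨ v = y ∨ v = x * y) → IsConj x v := by
      rintro v (r | r | r)
      · exact r ▸ IsConj.refl x
      · exact r ▸ hyx
      · exact r ▸ hzx
    intro u hu
    by_contra hnu
    obtain ⟨w, hw, hwx, hwu⟩ := CfsgLib.Invol.exists_common_commuting_invol hx hu
      (CfsgLib.Invol.even_of_not_isConj hx hu hnu)
    obtain ⟨h, hh⟩ := isConj_iff.mp (hthree w (hset w hw hwx.symm))
    obtain ⟨v, hv, rfl⟩ := hcj h u hu (hh ▸ hwu)
    exact hnu ((hthree v hv).trans (hconj h v))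
  refine ⟨?_, fun u v hu hv => (hall u hu).symm.trans (hall v hv)⟩
  obtain ⟨S⟩ : Nonempty (Sylow 2 G) := inferInstance
  have h2G : 2 ∣ Nat.card G := hx ▸ orderOf_dvd_natCard x
  haveI : Nontrivial ↥(S : Subgroup G) :=
    (Subgroup.nontrivial_iff_ne_bot _).mpr (S.ne_bot_of_dvd_card h2G)
  haveI := S.2.center_nontrivial
  obtain ⟨k, hk⟩ := (S.2.to_subgroup (Subgroup.center ↥(S : Subgroup G))).exists_card_eq
  have h2c : 2 ∣ Nat.card ↥(Subgroup.center ↥(S : Subgroup G)) := by
    have := Finite.one_lt_card (α := ↥(Subgroup.center ↥(S : Subgroup G)))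
    rw [hk] at this ⊢
    exact dvd_pow_self 2 fun h => by simp [h] at this
  obtain ⟨c, hc⟩ := exists_prime_orderOf_dvd_card' 2 h2c
  obtain ⟨h, hh⟩ := isConj_iff.mp (hall ((c : ↥(S : Subgroup G)) : G)
    (by rw [Subgroup.orderOf_coe, Subgroup.orderOf_coe, hc]))
  refine ⟨MulAut.conj h⁻¹ • S, fun a ha => ?_⟩
  change a ∈ MulAut.conj h⁻¹ • (S : Subgroup G) at ha
  rw [Subgroup.mem_pointwise_smul_iff_inv_smul_mem] at ha
  have ha' : h * a * h⁻¹ ∈ (S : Subgroup G) := by simpa [MulAut.smul_def] using ha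
  have hcomm : ((c : ↥(S : Subgroup G)) : G) * (h * a * h⁻¹) =
      (h * a * h⁻¹) * ((c : ↥(S : Subgroup G)) : G) :=
    (congrArg Subtype.val (Subgroup.mem_center_iff.mp c.2 ⟨_, ha'⟩)).symm
  rw [← hh] at hcomm
  rw [Subgroup.mem_centralizer_singleton_iff]
  calc a * x = h⁻¹ * (h * a * h⁻¹ * (h * x * h⁻¹)) * h := by group
    _ = h⁻¹ * (h * x * h⁻¹ * (h * a * h⁻¹)) * h := by rw [hcomm]
    _ = x * a := by group
end Cfsg.Agent.S3279
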