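import Cfsg.Statements.S3283
import Cfsg.Agent.Lib.ThreeSixCent.Main


set_option autoImplicit false
open Cfsg

namespace Cfsg.Agent.S3283

/-- Let G be a finite group with an involution z whose centralizer M has Q = O₂(M) extraspecial of order 2⁹ with C_M(Q) ≤ Q, and M/Q isomorphic to S₃ × A₆ or to S₃ × S₆. Then G is not simple. -/
theorem result {G : Type*} [Group G] [Finite G] (z : G) (hz : orderOf z = 2)
    (hQ : Cfsg.IsExtraspecial 2 ↥(Cfsg.pCore 2 ↥(Subgroup.centralizer ({z} : Set G)))) (hQ9 : Nat.card ↥(Cfsg.pCore 2 ↥(Subgroup.centralizer ({z} : Set G))) = 2 ^ 9)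
    (hCQ : Subgroup.centralizer ((Cfsg.pCore 2 ↥(Subgroup.centralizer ({z} : Set G))) : Set ↥(Subgroup.centralizer ({z} : Set G))) ≤ Cfsg.pCore 2 ↥(Subgroup.centralizer ({z} : Set G)))
    (hMQ : Nonempty (↥(Subgroup.centralizer ({z} : Set G)) ⧸ Cfsg.pCore 2 ↥(Subgroup.centralizer ({z} : Set G)) ≃* (Equiv.Perm (Fin 3) × ↥(alternatingGroup (Fin 6)))) ∨
      Nonempty (↥(Subgroup.centralizer ({z} : Set G)) ⧸ Cfsg.pCore 2 ↥(Subgroup.centralizer ({z} : Set G)) ≃* (Equiv.Perm (Fin 3) × Equiv.Perm (Fin 6)))) :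
    ¬ IsSimpleGroup G := by
  intro hs
  have hst := CfsgLib.ThreeSixCent.setting_of hz (Cfsg.pCore 2 ↥(Subgroup.centralizer ({z} : Set G))) hQ hCQ
  rcases hMQ with ⟨⟨e⟩⟩ | ⟨⟨e⟩⟩
  · refine CfsgLib.ThreeSixCent.not_simple_of _ hst hQ9 e
      (MonoidHom.prodMap (MonoidHom.id (Equiv.Perm (Fin 3))) (alternatingGroup (Fin 6)).subtype) ?_
      (fun m _ h2 => ⟨(m.1, ⟨m.2, h2⟩), rfl⟩) ⟨(Equiv.swap 0 1, 1), ⟨(Equiv.swap 0 1, 1), rfl⟩,
        Equiv.Perm.sign_swap (by decide)⟩ hs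
    intro a b h
    exact Prod.ext (congrArg Prod.fst h :) (Subtype.ext (congrArg Prod.snd h :))
  · exact CfsgLib.ThreeSixCent.not_simple_of _ hst hQ9 e (MonoidHom.id _) (fun _ _ h => h)
      (fun m _ _ => ⟨m, rfl⟩) ⟨(Equiv.swap 0 1, 1), ⟨_, rfl⟩, Equiv.Perm.sign_swap (by decide)⟩ hs

end Cfsg.Agent.S3283
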