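import Cfsg.Statements.S3285
import Cfsg.Agent.Lib.CentTwoAlt.Four
import Cfsg.Agent.Lib.CentTwoAlt.Five
import Cfsg.Agent.Lib.JOneUnique.Final
import Cfsg.Agent.Lib.J1.Simple
import Cfsg.Agent.S2131

set_option autoImplicit false
open Cfsg

namespace Cfsg.Agent.S3285

/-- Let G be a finite non-solvable group with no normal subgroup of index 2, and J an involution lying in the centre of a Sylow 2-subgroup of G whose centralizer is the internal direct product of ⟨J⟩ with a subgroup isomorphic to the alternating group of degree m. Then either m = 4 and G is isomorphic to the automorphism group PΓL(2, 8) of PSL(2, 8), or m = 5 and G is isomorphic to the first Janko group. -/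
theorem result {G : Type*} [Group G] [Finite G] (hns : ¬ Group.IsSolvable G) (h2 : ∀ N : Subgroup G, N.Normal → N.index ≠ 2)
    (J : G) (hJ : Cfsg.IsTwoCentralInvolution J) (m : ℕ) (T : Subgroup G)
    (hT : Nonempty (↥T ≃* ↥(alternatingGroup (Fin m))))
    (hd : Cfsg.IsInternalDirectProduct (Subgroup.zpowers J) T (Subgroup.centralizer ({J} : Set G))) :
    (m = 4 ∧ ∃ (F : Type) (_ : Field F) (_ : Fintype F), Fintype.card F = 8 ∧
        Nonempty (G ≃* MulAut (Matrix.ProjectiveSpecialLinearGroup (Fin 2) F))) ∨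
      (m = 5 ∧ Cfsg.Spor.IsoJ1 G) := by
  obtain ⟨hJo, P, hJP, hcomm⟩ := hJ
  obtain ⟨e⟩ := hT
  let H : CfsgLib.CentTwoAlt.Hyp G := ⟨J, T, m, e, P, hns, h2, hJo, hJP,
    fun x hx => Subgroup.mem_centralizer_singleton_iff.mpr (hcomm x hx), hd⟩
  rcases H.m_cases with h4 | h5
  · exact Or.inl ⟨h4, H.exists_equiv_four h4⟩
  · refine Or.inr ⟨h5, ?_⟩
    obtain ⟨hs, ⟨f⟩⟩ := H.exists_centEquiv_five h5
    haveI := hs
    obtain ⟨φ⟩ := CfsgLib.JOneUnique.equiv_pres J
      (CfsgLib.JOneUnique.twoCentral_of_abelian P H.P_elementary.1 hJo) f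
    haveI : IsSimpleGroup ↥Cfsg.Spor.J1 := CfsgLib.J1.isJ1.1
    obtain ⟨u, hu, ⟨g⟩⟩ := Cfsg.Agent.S2131.result
    obtain ⟨ψ⟩ := CfsgLib.JOneUnique.equiv_pres u
      (CfsgLib.JOneUnique.twoCentral_of_card CfsgLib.J1.isJ1.2 hu g) g
    exact ⟨φ.symm.trans ψ⟩

end Cfsg.Agent.S3285
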