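import Cfsg.Statements.S3294
import Cfsg.Agent.Lib.Invol.SolvableCore

set_option autoImplicit false
open Cfsg

namespace Cfsg.Agent.S3294

/-- A finite solvable group whose Sylow 2-subgroups are generalized quaternion of order at least 32 has a normal 2-complement. -/
theorem result {G : Type*} [Group G] [Finite G] (hsol : Group.IsSolvable G) (T : Sylow 2 G) (n : ℕ) (hn : 3 ≤ n) (hT : Nonempty ((T : Subgroup G) ≃* QuaternionGroup (2 ^ n))) : Cfsg.HasNormalPComplement 2 G := by
  classical
  haveI := Fact.mk Nat.prime_two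
  obtain ⟨e⟩ := hT
  haveI : NeZero (2 ^ n) := ⟨by positivity⟩
  haveI := CfsgLib.Transfer.pPrimeCore_normal 2 G
  set f := QuotientGroup.mk' (Cfsg.oddCore G) with hfdef
  have hf : Function.Surjective f := QuotientGroup.mk'_surjective _
  have hker : (Nat.card f.ker).Coprime 2 := by
    rw [QuotientGroup.ker_mk']; exact CfsgLib.Transfer.pPrimeCore_coprime 2
  -- a single involution
  have hone : ∀ x : QuaternionGroup (2 ^ n), orderOf x = 2 →
      x = QuaternionGroup.a ((2 ^ n : ℕ) : ZMod (2 * 2 ^ n)) := by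
    rintro (i | i) hx
    · have h1 : (QuaternionGroup.a i) ^ 2 = 1 := by
        have h1 := pow_orderOf_eq_one (QuaternionGroup.a i)
        simpa only [hx] using h1
      rw [pow_two, QuaternionGroup.a_mul_a, QuaternionGroup.one_def] at h1
      have h3 : i + i = 0 := QuaternionGroup.a.inj h1
      have h4 : i ≠ 0 := fun e0 => by
        rw [e0, ← QuaternionGroup.one_def, orderOf_one] at hx
        omega
      congr 1
      rw [← ZMod.natCast_zmod_val i, ← Nat.cast_add, ZMod.natCast_eq_zero_iff] at h3
      rw [← ZMod.natCast_zmod_val i]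
      congr 1
      have h5 := ZMod.val_lt i
      have h6 : i.val ≠ 0 := fun e0 => h4 ((ZMod.val_eq_zero i).mp e0)
      obtain ⟨c, hc⟩ := h3
      rcases c with _ | _ | c
      · omega
      · omega
      · nlinarith
    · rw [QuaternionGroup.orderOf_xa] at hx
      omega
  have hinj : Set.InjOn f (T : Subgroup G) := fun a ha b hb hab => by
    refine mul_inv_eq_one.mp (CfsgLib.PSolvable.eq_one_of_mem_of_mem T.2 hker (mul_mem ha (inv_mem hb)) ?_)
    rw [MonoidHom.mem_ker, map_mul, map_inv, hab, mul_inv_cancel]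
  set T' := T.mapSurjective hf
  have hcard : Nat.card (T' : Subgroup (G ⧸ Cfsg.oddCore G)) = 4 * 2 ^ n := by
    show Nat.card ((T : Subgroup G).map f) = _
    have hi : Function.Injective (f.comp (T : Subgroup G).subtype) := fun a b h => Subtype.ext (hinj a.2 b.2 h)
    have h1 : ((T : Subgroup G).map f) = (f.comp (T : Subgroup G).subtype).range := by
      rw [MonoidHom.range_comp, Subgroup.range_subtype]
    rw [h1, ← Nat.card_congr (MonoidHom.ofInjective hi).toEquiv, Nat.card_congr e.toEquiv,
      Nat.card_eq_fintype_card, QuaternionGroup.card]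
  have hC' := CfsgLib.Invol.solvable_centralizer_core_le hsol
  have hR := CfsgLib.Fitting.pCore_isPGroup (G := G ⧸ Cfsg.oddCore G) 2
  set R := Cfsg.pCore 2 (G ⧸ Cfsg.oddCore G)
  haveI : R.Normal := CfsgLib.Fitting.pCore_normal 2
  have huniq : ∀ x y : R, orderOf x = 2 → orderOf y = 2 → x = y := by
    intro x y hx hy
    have hRT : R ≤ (T' : Subgroup (G ⧸ Cfsg.oddCore G)) := IsPGroup.le_sylow_of_normal hR T'
    obtain ⟨a, ha, hax⟩ := hRT x.2
    obtain ⟨b, hb, hby⟩ := hRT y.2
    have lift : ∀ (a : G) (ha : a ∈ (T : Subgroup G)) (x : R), f a = x → orderOf x = 2 →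
        orderOf (e ⟨a, ha⟩) = 2 := by
      intro a ha x hax hx
      rw [MulEquiv.orderOf_eq, Subgroup.orderOf_mk]
      refine orderOf_eq_prime (hinj (pow_mem ha 2) (one_mem _) ?_) ?_
      · rw [map_pow, hax, ← SubmonoidClass.coe_pow, ← hx, pow_orderOf_eq_one, OneMemClass.coe_one, map_one]
      · intro h1
        rw [h1, map_one] at hax
        have : x = 1 := Subtype.ext hax.symm
        rw [this, orderOf_one] at hx
        omega
    have := e.injective ((hone _ (lift a ha x hax hx)).trans (hone _ (lift b hb y hby hy)).symm)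
    exact Subtype.ext (by rw [← hax, ← hby, Subtype.mk.inj this])
  rcases CfsgLib.Invol.mulAut_or_quaternion_eight hR huniq with hA | hg
  · have h2 := CfsgLib.Invol.isPGroup_of_mulAut hR hC' hA
    have htop : (⊤ : Subgroup (G ⧸ Cfsg.oddCore G)) = T' := T'.is_maximal' (h2.of_equiv Subgroup.topEquiv.symm) le_top
    refine ⟨T, Cfsg.oddCore G, inferInstance, Subgroup.isComplement'_of_coprime ?_ ?_⟩
    · rw [← (Cfsg.oddCore G).card_mul_index]
      congr 1
      rw [Subgroup.index, ← Subgroup.card_top (G := G ⧸ Cfsg.oddCore G), htop, hcard,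
        Nat.card_congr e.toEquiv, Nat.card_eq_fintype_card, QuaternionGroup.card]
    · obtain ⟨k, hk⟩ := IsPGroup.iff_card.mp T.2
      rw [hk]
      exact (CfsgLib.Transfer.pPrimeCore_coprime 2).pow_right k
  · exfalso
    obtain ⟨g⟩ := hg
    have h6 := (CfsgLib.SmallTwo.relIndex_quaternion_dvd R g).2
    rw [sup_eq_left.mpr hC', Subgroup.normalizer_eq_top_iff.mpr inferInstance, Subgroup.relIndex_top_right] at h6
    have h8 : Nat.card R = 8 := by
      rw [Nat.card_congr g.toEquiv, Nat.card_eq_fintype_card, QuaternionGroup.card]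
    have h48 : Nat.card (G ⧸ Cfsg.oddCore G) ∣ 48 := by
      rw [← R.card_mul_index, h8]
      exact mul_dvd_mul_left 8 h6
    have h32 : 32 ∣ Nat.card (G ⧸ Cfsg.oddCore G) := by
      refine dvd_trans ?_ (Subgroup.card_subgroup_dvd_card (T' : Subgroup (G ⧸ Cfsg.oddCore G)))
      rw [hcard]
      obtain ⟨m, rfl⟩ := Nat.exists_eq_add_of_le hn
      exact ⟨2 ^ m, by rw [pow_add]; ring⟩
    have := Nat.dvd_trans h32 h48
    norm_num at this
end Cfsg.Agent.S3294
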