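import Cfsg.Statements.S3303
import Cfsg.Agent.Lib.Invol.SolvableCore

set_option autoImplicit false
open Cfsg

namespace Cfsg.Agent.S3303

/-- Let G be a finite solvable group in which the intersection of any two distinct Sylow 2-subgroups is cyclic. Then G/O(G) has a normal Sylow 2-subgroup, where O(G) is the largest normal subgroup of odd order. -/
theorem result {G : Type*} [Group G] [Finite G] (hs : Group.IsSolvable G)
    (hC : ∀ S T : Sylow 2 G, S ≠ T → IsCyclic ↥((S : Subgroup G) ⊓ (T : Subgroup G))) :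
    ∃ P : Sylow 2 (G ⧸ Cfsg.oddCore G), (P : Subgroup (G ⧸ Cfsg.oddCore G)).Normal := by
  classical
  haveI := Fact.mk Nat.prime_two
  have hker : (Nat.card (QuotientGroup.mk' (Cfsg.oddCore G)).ker).Coprime 2 := by
    rw [QuotientGroup.ker_mk']; exact CfsgLib.Transfer.pPrimeCore_coprime 2
  have hC' := CfsgLib.Invol.solvable_centralizer_core_le hs
  have hR := CfsgLib.Fitting.pCore_isPGroup (G := G ⧸ Cfsg.oddCore G) 2
  haveI : (Cfsg.pCore 2 (G ⧸ Cfsg.oddCore G)).Normal := CfsgLib.Fitting.pCore_normal 2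
  set f := QuotientGroup.mk' (Cfsg.oddCore G)
  have hf : Function.Surjective f := QuotientGroup.mk'_surjective _
  obtain ⟨P, hP⟩ := CfsgLib.PSolvable.exists_map_eq hf hR hker
  set D := (P : Subgroup ((Cfsg.pCore 2 (G ⧸ Cfsg.oddCore G)).comap f)).map
    ((Cfsg.pCore 2 (G ⧸ Cfsg.oddCore G)).comap f).subtype
  have hD : IsPGroup 2 D := P.2.map _
  set N := Subgroup.normalizer (D : Set G)
  let h : N →* G ⧸ Cfsg.oddCore G := f.comp N.subtype
  have hh : Function.Surjective h := fun y => by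
    have hy : y ∈ N.map f := by
      rw [CfsgLib.PSolvable.map_normalizer_eq hf hker hD, hP, Subgroup.normalizer_eq_top_iff.mpr inferInstance]
      exact Subgroup.mem_top y
    obtain ⟨n, hn, rfl⟩ := hy
    exact ⟨⟨n, hn⟩, rfl⟩
  let Q : Sylow 2 N := default
  refine ⟨Q.mapSurjective hh, ?_⟩
  by_contra hnn
  obtain ⟨y, hy⟩ : ∃ y, y ∉ Subgroup.normalizer ((Q.mapSurjective hh : Subgroup (G ⧸ Cfsg.oddCore G)) : Set (G ⧸ Cfsg.oddCore G)) := by
    by_contra hall
    push Not at hall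
    exact hnn (Subgroup.normalizer_eq_top_iff.mp (eq_top_iff.mpr fun y _ => hall y))
  obtain ⟨n, rfl⟩ := hh y
  have hDQ : ∀ Q : Sylow 2 N, D ≤ (Q : Subgroup N).map N.subtype := fun Q d hd => by
    have hdn : d ∈ N := Subgroup.le_normalizer hd
    haveI : (D.comap N.subtype).Normal := Subgroup.normal_in_normalizer
    exact ⟨⟨d, hdn⟩, IsPGroup.le_sylow_of_normal (hD.comap_of_injective N.subtype N.subtype_injective) Q hd, rfl⟩
  obtain ⟨S, hS⟩ := (Q.2.map N.subtype).exists_le_sylow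
  obtain ⟨T, hT⟩ := ((n • Q).2.map N.subtype).exists_le_sylow
  have hST : S ≠ T := by
    intro e
    subst e
    have e1 : (S : Subgroup G).map f = Q.mapSurjective hh :=
      (Q.mapSurjective hh).is_maximal' (S.2.map f) (by
        rintro _ ⟨q, hq, rfl⟩
        exact ⟨(q : G), hS ⟨q, hq, rfl⟩, rfl⟩)
    have e2 : (S : Subgroup G).map f = (n • Q).mapSurjective hh :=
      ((n • Q).mapSurjective hh).is_maximal' (S.2.map f) (by
        rintro _ ⟨q, hq, rfl⟩
        exact ⟨(q : G), hT ⟨q, hq, rfl⟩, rfl⟩)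
    refine hy (Sylow.smul_eq_iff_mem_normalizer.mp (Sylow.ext ?_))
    rw [← e1, e2, Sylow.coe_subgroup_smul, Sylow.coe_mapSurjective, Sylow.coe_mapSurjective, Sylow.coe_subgroup_smul]
    ext z
    simp only [Subgroup.mem_smul_pointwise_iff_exists, Subgroup.mem_map]
    constructor
    · rintro ⟨_, ⟨a, ha, rfl⟩, rfl⟩
      exact ⟨_, ⟨a, ha, rfl⟩, by simp [MulAut.conj_apply]⟩
    · rintro ⟨_, ⟨a, ha, rfl⟩, rfl⟩
      exact ⟨_, ⟨a, ha, rfl⟩, by simp [MulAut.conj_apply]⟩
  haveI := hC S T hST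
  haveI hDc : IsCyclic D := Subgroup.isCyclic_of_le (le_inf ((hDQ Q).trans hS) ((hDQ (n • Q)).trans hT))
  haveI : IsCyclic (Cfsg.pCore 2 (G ⧸ Cfsg.oddCore G)) := by
    rw [← hP]
    exact isCyclic_of_surjective (f.subgroupMap D) (f.subgroupMap_surjective D)
  have h2 := CfsgLib.Invol.isPGroup_of_mulAut hR hC'
    (CfsgLib.SmallTwo.isPGroup_mulAut_cyclic hR inferInstance)
  refine hnn ?_
  rw [← (Q.mapSurjective hh).is_maximal' (h2.of_equiv Subgroup.topEquiv.symm) le_top]
  infer_instance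
end Cfsg.Agent.S3303
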