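import Cfsg.Statements.S3305


set_option autoImplicit false
open Cfsg

namespace Cfsg.Agent.S3305

/-- If any two distinct Sylow 2-subgroups of the finite group G intersect in a cyclic group, then the same holds in every quotient group G/H, H a normal subgroup of G. -/
theorem result {G : Type*} [Group G] [Finite G]
    (hC : ∀ S T : Sylow 2 G, S ≠ T → IsCyclic ↥((S : Subgroup G) ⊓ (T : Subgroup G))) (H : Subgroup G) [H.Normal] :
    ∀ S T : Sylow 2 (G ⧸ H), S ≠ T → IsCyclic ↥((S : Subgroup (G ⧸ H)) ⊓ (T : Subgroup (G ⧸ H))) := by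
  classical
  haveI : Fact (Nat.Prime 2) := ⟨Nat.prime_two⟩
  have hf : Function.Surjective (QuotientGroup.mk' H) := QuotientGroup.mk'_surjective H
  intro S T hST
  set M : Subgroup (G ⧸ H) := (S : Subgroup (G ⧸ H)) ⊓ (T : Subgroup (G ⧸ H)) with hM
  have hMp : IsPGroup 2 M := S.2.to_le inf_le_left
  let f : (M.comap (QuotientGroup.mk' H)) →* M := (QuotientGroup.mk' H).subgroupComap M
  have hfs : Function.Surjective f := by
    rintro ⟨m, hm⟩
    obtain ⟨g, rfl⟩ := hf m
    exact ⟨⟨g, hm⟩, rfl⟩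
  obtain ⟨R⟩ : Nonempty (Sylow 2 (M.comap (QuotientGroup.mk' H))) := inferInstance
  have hRM : ((R.mapSurjective hfs : Sylow 2 M) : Subgroup M) = ⊤ :=
    ((R.mapSurjective hfs).3 (hMp.of_equiv Subgroup.topEquiv.symm) le_top).symm
  let RG : Subgroup G := (R : Subgroup (M.comap (QuotientGroup.mk' H))).map (Subgroup.subtype _)
  -- a Sylow subgroup upstairs containing `RG`, over a given one downstairs
  have hlift : ∀ U : Sylow 2 (G ⧸ H), M ≤ (U : Subgroup (G ⧸ H)) →
      ∃ P : Sylow 2 G, RG ≤ P ∧ (P : Subgroup G).map (QuotientGroup.mk' H) = U := by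
    intro U hMU
    let K : Subgroup G := (U : Subgroup (G ⧸ H)).comap (QuotientGroup.mk' H)
    obtain ⟨P₀, hP₀⟩ := Sylow.mapSurjective_surjective hf 2 U
    have hP₀K : (P₀ : Subgroup G) ≤ K := fun x hx => by
      show QuotientGroup.mk' H x ∈ (U : Subgroup (G ⧸ H))
      rw [← hP₀]; exact ⟨x, hx, rfl⟩
    have hRK : RG ≤ K := fun x hx => by
      obtain ⟨y, -, rfl⟩ := hx
      exact hMU y.2
    obtain ⟨Q, hQ⟩ := IsPGroup.exists_le_sylow (P := RG.subgroupOf K)
      ((R.2.map _).of_equiv (Subgroup.subgroupOfEquivOfLe hRK).symm)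
    obtain ⟨P, hP⟩ := IsPGroup.exists_le_sylow (Q.2.map K.subtype)
    have hcard : Nat.card (P : Subgroup G) ≤ Nat.card ((Q : Subgroup K).map K.subtype : Subgroup G) := by
      rw [Subgroup.card_map_of_injective K.subtype_injective, Sylow.card_eq_multiplicity P,
        ← Sylow.card_eq_multiplicity P₀]
      calc Nat.card (P₀ : Subgroup G)
          = Nat.card ((P₀.subtype hP₀K : Sylow 2 K) : Subgroup K) :=
            (Nat.card_congr (Subgroup.subgroupOfEquivOfLe hP₀K).toEquiv).symm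
        _ ≤ Nat.card (Q : Subgroup K) := le_of_eq (by
            rw [Sylow.card_eq_multiplicity (P₀.subtype hP₀K), Sylow.card_eq_multiplicity Q])
    have hPQ := Subgroup.eq_of_le_of_card_ge hP hcard
    refine ⟨P, fun x hx => ?_, ?_⟩
    · rw [← hPQ]
      exact ⟨⟨x, hRK hx⟩, hQ (by simpa [Subgroup.mem_subgroupOf] using hx), rfl⟩
    · refine (P.mapSurjective hf).3 U.2 ?_ |>.symm
      rintro _ ⟨x, hx, rfl⟩
      obtain ⟨y, -, rfl⟩ := hPQ.ge hx
      exact y.2
  obtain ⟨P, hP, hPS⟩ := hlift S inf_le_left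
  obtain ⟨P', hP', hPT⟩ := hlift T inf_le_right
  have hne : P ≠ P' := fun e => hST (Sylow.ext (by rw [← hPS, ← hPT, e]))
  haveI := hC P P' hne
  haveI : IsCyclic RG := isCyclic_of_injective (Subgroup.inclusion (le_inf hP hP'))
    (Subgroup.inclusion_injective _)
  haveI : IsCyclic (R : Subgroup (M.comap (QuotientGroup.mk' H))) :=
    ((R : Subgroup (M.comap (QuotientGroup.mk' H))).equivMapOfInjective _
      (Subgroup.subtype_injective _)).isCyclic.mpr ‹_›
  have hs : Function.Surjective (f.comp (R : Subgroup (M.comap (QuotientGroup.mk' H))).subtype) :=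
    fun m => by
      obtain ⟨x, hx, hxm⟩ := (hRM.ge (Subgroup.mem_top m) : m ∈ (R.mapSurjective hfs : Sylow 2 M))
      exact ⟨⟨x, hx⟩, hxm⟩
  exact isCyclic_of_surjective _ hs
end Cfsg.Agent.S3305
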