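import Cfsg.Statements.S3306
import Cfsg.Agent.Lib.CyclicMeet.Main

set_option autoImplicit false
open Cfsg

namespace Cfsg.Agent.S3306

/-- Let G be a finite nonsolvable group in which any two distinct Sylow 2-subgroups intersect in a cyclic group, and let N be a solvable normal subgroup of G. Then the image of N in G/O(G) is a cyclic 2-group contained in the centre of G/O(G) (O(G) the largest normal subgroup of odd order). In other words the solvable radical of G is V·O(G) with V a cyclic 2-group central modulo O(G). -/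
theorem result {G : Type*} [Group G] [Finite G] (hns : ¬ Group.IsSolvable G)
    (hC : ∀ S T : Sylow 2 G, S ≠ T → IsCyclic ↥((S : Subgroup G) ⊓ (T : Subgroup G)))
    (N : Subgroup G) [N.Normal] (hN : Group.IsSolvable ↥N) :
    IsCyclic ↥(N.map (QuotientGroup.mk' (Cfsg.oddCore G))) ∧ IsPGroup 2 ↥(N.map (QuotientGroup.mk' (Cfsg.oddCore G))) ∧
      N.map (QuotientGroup.mk' (Cfsg.oddCore G)) ≤ Subgroup.center (G ⧸ Cfsg.oddCore G) := by
  haveI : Fact (Nat.Prime 2) := ⟨Nat.prime_two⟩
  haveI : (Cfsg.oddCore G).Normal := CfsgLib.Transfer.pPrimeCore_normal 2 G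
  let f := QuotientGroup.mk' (Cfsg.oddCore G)
  have hf : Function.Surjective f := QuotientGroup.mk'_surjective _
  have hns' : ¬ Group.IsSolvable (G ⧸ Cfsg.oddCore G) := by
    intro hs
    haveI := hs
    haveI : Group.IsSolvable ↥(Cfsg.oddCore G) :=
      CfsgLib.OddOrder.odd_order_solvable
        (Nat.coprime_two_right.mp (CfsgLib.Transfer.pPrimeCore_coprime 2))
    exact hns (Group.isSolvable_of_ker_le_range (Cfsg.oddCore G).subtype f
      (by rw [QuotientGroup.ker_mk', Subgroup.range_subtype]))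
  have hCI : CfsgLib.CyclicMeet.CI (G ⧸ Cfsg.oddCore G) :=
    CfsgLib.CyclicMeet.CI.map hC f hf
  have hO : Cfsg.pPrimeCore 2 (G ⧸ Cfsg.oddCore G) = ⊥ :=
    CfsgLib.PSolvable.pPrimeCore_eq_bot_of_ker hf (QuotientGroup.ker_mk' _)
  obtain ⟨T, hT⟩ := CfsgLib.CyclicMeet.exists_ne_sylow hns' default
  have hV := CfsgLib.CyclicMeet.pCore_cyclic_of_ne hCI hT
  haveI : (N.map f).Normal := Subgroup.Normal.map inferInstance f hf
  have hle : N.map f ≤ Cfsg.pCore 2 (G ⧸ Cfsg.oddCore G) :=
    CfsgLib.CyclicMeet.solvable_le_pCore hV hO _ (CfsgLib.Coprime.isSolvable_map f hN)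
  exact ⟨CfsgLib.CyclicMeet.cyclic_of_le hle hV,
    (CfsgLib.Fitting.pCore_isPGroup 2).to_le hle,
    hle.trans (CfsgLib.CyclicMeet.claim _ _ rfl hCI hns' hO).1⟩

end Cfsg.Agent.S3306
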