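import Cfsg.Statements.S3312
import Cfsg.Agent.Lib.WeakCentre.Fusion
import Cfsg.Agent.Lib.Blocks.SectionOrth
import Cfsg.Agent.Lib.ZStar.Basic
import Cfsg.Agent.Lib.Blocks.BrauerFeit

set_option autoImplicit false
open Cfsg
open scoped CfsgLib.Char

namespace Cfsg.Agent.S3312

/-- A non-simplicity criterion by weak closure. Let T be a Sylow 2-subgroup of a finite group G, W a nontrivial subgroup of the centre of T that is weakly closed in T with respect to G, and t an involution of T outside W. Suppose that for every involution x in the coset Wt, W lies in O_{2',2}(C_G(x)), the preimage of O₂ of C_G(x)/O_{2'}(C_G(x)). Then G is not simple. -/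
theorem result {G : Type*} [Group G] [Finite G]
    (T : Sylow 2 G) (W : Subgroup G) (hW1 : W ≠ ⊥) (hWZ : W ≤ (T : Subgroup G) ⊓ Subgroup.centralizer ((T : Subgroup G) : Set G))
    (hwc : Cfsg.IsWeaklyClosed W (T : Subgroup G)) (t : G) (ht : orderOf t = 2) (htT : t ∈ (T : Subgroup G)) (htW : t ∉ W)
    (hcos : ∀ w ∈ W, orderOf (w * t) = 2 →
      W.subgroupOf (Subgroup.centralizer ({w * t} : Set G)) ≤ Cfsg.pPrimePCore 2 ↥(Subgroup.centralizer ({w * t} : Set G))) :
    ¬ IsSimpleGroup G := by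
  classical
  intro hsimple
  haveI : Fact (Nat.Prime 2) := ⟨Nat.prime_two⟩
  haveI := Fintype.ofFinite G
  obtain ⟨M, hM⟩ := CfsgLib.Blocks.exists_isPModular (p := 2) Nat.prime_two
  have := CfsgLib.Blocks.isPrime_of_isPModular hM
  have S : CfsgLib.WeakCentre.Setting T W := ⟨hWZ, hwc⟩
  -- an involution of `W`
  obtain ⟨z, hzW, hz2⟩ : ∃ z ∈ W, orderOf z = 2 := by
    obtain ⟨n, hn⟩ := IsPGroup.iff_card.mp (T.isPGroup'.to_le S.le)
    have h2 : 2 ∣ Nat.card W := by
      rw [hn]
      exact dvd_pow_self 2 fun h0 => hW1 (Subgroup.card_eq_one.mp (by rw [hn, h0, pow_zero]))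
    obtain ⟨z, hz⟩ := exists_prime_orderOf_dvd_card' (G := W) 2 h2
    exact ⟨z, z.2, by rw [Subgroup.orderOf_coe]; exact hz⟩
  set B := Finset.univ.filter fun χ : IrrCharacter G => χ ∈ principalBlock M G with hB
  set lam : IrrCharacter G → ℂ := fun χ => (χ : G → ℂ) z / (χ : G → ℂ) 1 with hlam
  -- the moments vanish
  have hzero : ∀ (n : ℕ) (w : G), w ∈ W → orderOf (w * t) = 2 →
      ∑ χ ∈ B, (χ : G → ℂ) 1 * lam χ ^ n * (χ : G → ℂ) (w * t) = 0 := by
    intro n
    induction n with
    | zero =>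
      intro w _ hw2
      have h := CfsgLib.Blocks.sum_block_conj_eq_zero_of_section hM (B := principalBlock M G)
        CfsgLib.Blocks.isPBlock_principalBlock (x := w * t) (g := 1) ⟨1, by rw [hw2, pow_one]⟩
        fun k _ hk hc => by
          rw [isConj_one_left, mul_eq_one_iff_eq_inv'] at hc
          exact hk (by rw [hc, orderOf_inv, hw2])
      refine (Finset.sum_congr rfl fun χ _ => ?_).trans h
      rw [(CfsgLib.Blocks.irr_degree_eq χ).1, map_natCast]
      ring
    | succ n ih =>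
      intro w hw hw2
      have hn : (Nat.card G : ℂ) ≠ 0 := Nat.cast_ne_zero.mpr Nat.card_pos.ne'
      apply mul_left_cancel₀ hn
      rw [mul_zero, Finset.mul_sum]
      calc _ = ∑ χ ∈ B, ∑ g : G, (χ : G → ℂ) 1 * lam χ ^ n * (χ : G → ℂ) (g * z * g⁻¹ * (w * t)) :=
            Finset.sum_congr rfl fun χ _ => by
              rw [← Finset.mul_sum, CfsgLib.Blocks.sum_conj_mul_irr, hlam, pow_succ]
              ring
        _ = ∑ g : G, ∑ χ ∈ B, (χ : G → ℂ) 1 * lam χ ^ n * (χ : G → ℂ) (g * z * g⁻¹ * (w * t)) :=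
            Finset.sum_comm
        _ = 0 := Finset.sum_eq_zero fun g _ => by
              obtain ⟨w', hw', hw'2, hv⟩ := S.value_product htT htW hcos hzW hz2 hM hw hw2 g
              refine (Finset.sum_congr rfl fun χ hχ => ?_).trans (ih w' hw' hw'2)
              rw [hv χ (Finset.mem_filter.mp hχ).2]
  -- only the trivial character has value `lam = 1`
  set q : Polynomial ℂ :=
    ∏ χ ∈ B.erase (CfsgLib.Blocks.trivIrr G), (Polynomial.X - Polynomial.C (lam χ)) with hq
  have hq1 : q.eval 1 ≠ 0 := by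
    rw [hq, Polynomial.eval_prod, Finset.prod_ne_zero_iff]
    intro χ hχ
    rw [Polynomial.eval_sub, Polynomial.eval_X, Polynomial.eval_C, sub_ne_zero]
    intro h1
    have h3 : (χ : G → ℂ) z = (χ : G → ℂ) 1 := (eq_of_div_eq_one h1.symm)
    obtain ⟨K, hK, hKtop, hzK⟩ :=
      CfsgLib.ZStar.exists_normal_of_value_eq (Finset.mem_erase.mp hχ).1 h3
    rcases hK.eq_bot_or_eq_top with h | h
    · rw [h, Subgroup.mem_bot] at hzK
      rw [hzK, orderOf_one] at hz2
      omega
    · exact hKtop h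
  have hsum : ∑ χ ∈ B, (χ : G → ℂ) 1 * q.eval (lam χ) * (χ : G → ℂ) t = 0 := by
    calc _ = ∑ χ ∈ B, ∑ n ∈ Finset.range (q.natDegree + 1),
          q.coeff n * ((χ : G → ℂ) 1 * lam χ ^ n * (χ : G → ℂ) t) :=
          Finset.sum_congr rfl fun χ _ => by
            rw [Polynomial.eval_eq_sum_range, Finset.mul_sum, Finset.sum_mul]
            exact Finset.sum_congr rfl fun n _ => by ring
      _ = ∑ n ∈ Finset.range (q.natDegree + 1),
          ∑ χ ∈ B, q.coeff n * ((χ : G → ℂ) 1 * lam χ ^ n * (χ : G → ℂ) t) := Finset.sum_comm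
      _ = 0 := Finset.sum_eq_zero fun n _ => by
          rw [← Finset.mul_sum]
          have h := hzero n 1 (one_mem _) (by rwa [one_mul])
          rw [one_mul] at h
          rw [h, mul_zero]
  have htriv : CfsgLib.Blocks.trivIrr G ∈ B :=
    Finset.mem_filter.mpr ⟨Finset.mem_univ _, CfsgLib.Blocks.trivIrr_mem_principalBlock G⟩
  rw [Finset.sum_eq_single_of_mem _ htriv fun χ hχ hne => ?_] at hsum
  · exact hq1 (by simpa [CfsgLib.Blocks.trivIrr, hlam] using hsum)
  · rw [hq, Polynomial.eval_prod,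
      Finset.prod_eq_zero (Finset.mem_erase.mpr ⟨hne, hχ⟩) (by simp), mul_zero, zero_mul]

end Cfsg.Agent.S3312
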