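import Cfsg.Statements.S3313
import Cfsg.Agent.Lib.J2Order.Count
import Cfsg.Agent.Lib.Layer.Basic
import Cfsg.Agent.Lib.Fitting.Basic
import Cfsg.Agent.Lib.PSolvable.Omega

set_option autoImplicit false
open Cfsg

namespace Cfsg.Agent.S3313

/-- The order of a simple group with the involution pattern of the Hall–Janko group. Let G be a non-abelian finite simple group with exactly two conjugacy classes of involutions, represented by z and t, such that: F*(C_G(z)) is an extraspecial 2-group; Q = O₂(C_G(z)) has order 32 and C_G(z) is the semidirect product of Q by a subgroup isomorphic to A₅; every involution of Q is conjugate to z and every other involution of C_G(z) is conjugate to t; C_G(t) is an internal direct product V × B with V a four-group containing t and B ≅ A₅; every involution of B is conjugate to z and every other involution of C_G(t) is conjugate to t. Then |G| = 604800. -/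
theorem result {G : Type*} [Group G] [Finite G]
    [IsSimpleGroup G] (hna : ¬ IsMulCommutative G) (z t : G) (hz : orderOf z = 2) (ht : orderOf t = 2)
    (hzt : ¬ IsConj z t) (hcl : ∀ x : G, orderOf x = 2 → IsConj x z ∨ IsConj x t)
    (hex : Cfsg.IsExtraspecial 2 ↥(Cfsg.generalizedFittingSubgroup ↥(Subgroup.centralizer ({z} : Set G))))
    (hQ : Nat.card ↥(Cfsg.pCore 2 ↥(Subgroup.centralizer ({z} : Set G))) = 32)
    (K : Subgroup G) (hK : Nonempty (↥K ≃* alternatingGroup (Fin 5)))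
    (hKC : K ⊔ (Cfsg.pCore 2 ↥(Subgroup.centralizer ({z} : Set G))).map (Subgroup.centralizer ({z} : Set G)).subtype = Subgroup.centralizer ({z} : Set G))
    (hKQ : K ⊓ (Cfsg.pCore 2 ↥(Subgroup.centralizer ({z} : Set G))).map (Subgroup.centralizer ({z} : Set G)).subtype = ⊥)
    (hQz : ∀ x ∈ (Cfsg.pCore 2 ↥(Subgroup.centralizer ({z} : Set G))).map (Subgroup.centralizer ({z} : Set G)).subtype, orderOf x = 2 → IsConj x z)
    (hCz : ∀ x ∈ Subgroup.centralizer ({z} : Set G), orderOf x = 2 →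
      x ∉ (Cfsg.pCore 2 ↥(Subgroup.centralizer ({z} : Set G))).map (Subgroup.centralizer ({z} : Set G)).subtype → IsConj x t)
    (V B : Subgroup G) (hVB : Cfsg.IsInternalDirectProduct V B (Subgroup.centralizer ({t} : Set G)))
    (hV : Nat.card ↥V = 4) (hV2 : ∀ v ∈ V, v ^ 2 = 1) (htV : t ∈ V) (hB : Nonempty (↥B ≃* alternatingGroup (Fin 5)))
    (hBz : ∀ x ∈ B, orderOf x = 2 → IsConj x z)
    (hCt : ∀ x ∈ Subgroup.centralizer ({t} : Set G), orderOf x = 2 → x ∉ B → IsConj x t) :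
    Nat.card G = 604800 := by
  classical
  haveI := Fintype.ofFinite G
  haveI : Fact (Nat.Prime 2) := ⟨Nat.prime_two⟩
  set C := Subgroup.centralizer ({z} : Set G) with hC
  set O := Cfsg.pCore 2 ↥C with hO
  set Q := O.map C.subtype with hQdef
  have hF : Cfsg.generalizedFittingSubgroup ↥C = O := by
    refine le_antisymm (le_sSup ⟨CfsgLib.Layer.generalizedFitting_normal, hex.1.1⟩) ?_
    exact (CfsgLib.Fitting.pCore_le_fittingSubgroup 2).trans le_sup_right
  rw [hF] at hex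
  obtain ⟨⟨hp, hfr, hder⟩, hcard2⟩ := hex
  obtain ⟨hz1, hz2⟩ := CfsgLib.J2Order.orderTwo hz
  have memC : ∀ g : G, g ∈ C ↔ g * z = z * g := fun g => Subgroup.mem_centralizer_singleton_iff
  let zC : ↥C := ⟨z, (memC z).2 rfl⟩
  have hzO : zC ∈ O := by
    have hn : (Subgroup.zpowers zC).Normal := ⟨fun n hn g => by
      obtain ⟨k, rfl⟩ := Subgroup.mem_zpowers_iff.1 hn
      have hcm : Commute g zC := Subtype.ext ((memC g.1).1 g.2)
      rw [(hcm.zpow_right k).eq, mul_inv_cancel_right]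
      exact Subgroup.zpow_mem _ (Subgroup.mem_zpowers _) k⟩
    have hzp : IsPGroup 2 (Subgroup.zpowers zC) := by
      refine IsPGroup.of_card (n := 1) ?_
      rw [Nat.card_zpowers, pow_one, ← Subgroup.orderOf_coe zC]
      exact hz
    exact (le_sSup ⟨hn, hzp⟩ : Subgroup.zpowers zC ≤ O) (Subgroup.mem_zpowers _)
  let zO : ↥O := ⟨zC, hzO⟩
  have hzc : zO ∈ Subgroup.center ↥O := Subgroup.mem_center_iff.2 fun g =>
    Subtype.ext (Subtype.ext ((memC (g : ↥C).1).1 (g : ↥C).2))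
  have hcases : ∀ q : ↥O, q ∈ Subgroup.center ↥O → q = 1 ∨ q = zO := by
    intro q hq
    by_cases h1 : q = 1
    · exact Or.inl h1
    refine Or.inr ?_
    obtain ⟨y, -, huniq⟩ := (Nat.card_eq_two_iff' (1 : Subgroup.center ↥O)).1 hcard2
    have a := huniq ⟨q, hq⟩ fun h => h1 (congrArg Subtype.val h)
    have b := huniq ⟨zO, hzc⟩ fun h => hz1
      (congrArg (fun t : Subgroup.center ↥O => (((t : ↥O) : ↥C) : G)) h)
    exact congrArg Subtype.val (a.trans b.symm)
  have memQ : ∀ {g : G}, g ∈ Q ↔ ∃ q : ↥O, ((q : ↥C) : G) = g := by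
    intro g
    constructor
    · rintro ⟨c, hc, rfl⟩
      exact ⟨⟨c, hc⟩, rfl⟩
    · rintro ⟨q, rfl⟩
      exact ⟨q, q.2, rfl⟩
  have hconj : ∀ c ∈ C, ∀ q ∈ Q, c * q * c⁻¹ ∈ Q := by
    intro c hc q hq
    obtain ⟨q, rfl⟩ := memQ.1 hq
    exact memQ.2 ⟨⟨(⟨c, hc⟩ : ↥C) * q * (⟨c, hc⟩ : ↥C)⁻¹,
      (CfsgLib.Fitting.pCore_normal 2).conj_mem _ q.2 _⟩, rfl⟩
  have hQC : Q ≤ C := Subgroup.map_subtype_le _
  have hKC' : K ≤ C := le_sup_left.trans hKC.le
  have hdec : ∀ c ∈ C, ∃ q ∈ Q, ∃ k ∈ K, c = q * k := by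
    intro c hc
    let H : Subgroup G :=
    { carrier := {g | ∃ q ∈ Q, ∃ k ∈ K, g = q * k}
      one_mem' := ⟨1, Q.one_mem, 1, K.one_mem, (one_mul 1).symm⟩
      mul_mem' := by
        rintro _ _ ⟨q, hq, k, hk, rfl⟩ ⟨r, hr, l, hl, rfl⟩
        exact ⟨q * (k * r * k⁻¹), Q.mul_mem hq (hconj k (hKC' hk) r hr), k * l, K.mul_mem hk hl, by group⟩
      inv_mem' := by
        rintro _ ⟨q, hq, k, hk, rfl⟩
        exact ⟨k⁻¹ * q⁻¹ * k⁻¹⁻¹, hconj _ (C.inv_mem (hKC' hk)) _ (Q.inv_mem hq), k⁻¹, K.inv_mem hk,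
          by group⟩ }
    have : K ⊔ Q ≤ H := sup_le (fun k hk => ⟨1, Q.one_mem, k, hk, (one_mul k).symm⟩)
      (fun q hq => ⟨q, hq, 1, K.one_mem, (mul_one q).symm⟩)
    exact this (hKC.ge hc)
  have hfaith : ∀ k ∈ K, (∀ q ∈ Q, k * q = q * k) → k = 1 := by
    intro k hk hcq
    have h1 : (⟨k, hKC' hk⟩ : ↥C) ∈ Subgroup.centralizer
        (Cfsg.generalizedFittingSubgroup ↥C : Set ↥C) := by
      rw [hF, Subgroup.mem_centralizer_iff]
      intro q hq
      exact Subtype.ext (hcq q.1 (memQ.2 ⟨⟨q, hq⟩, rfl⟩)).symm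
    have h2 := CfsgLib.Layer.centralizer_generalizedFitting_le h1
    rw [hF] at h2
    have h3 : k ∈ K ⊓ Q := ⟨hk, memQ.2 ⟨⟨_, h2⟩, rfl⟩⟩
    rwa [hKQ, Subgroup.mem_bot] at h3
  have S : CfsgLib.J2Order.Setup z Q K C :=
  { z_mem := memQ.2 ⟨zO, rfl⟩
    z_sq := hz2
    z_ne := hz1
    z_cen := fun c hc => (memC c).1 hc
    Q_le := hQC
    K_le := hKC'
    conj_mem := hconj
    cardQ := by
      rw [← hQ]
      exact Nat.card_congr (Subgroup.equivMapOfInjective O C.subtype C.subtype_injective).symm.toEquiv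
    comm := by
      intro a ha b hb
      obtain ⟨a, rfl⟩ := memQ.1 ha
      obtain ⟨b, rfl⟩ := memQ.1 hb
      have hc : a * b * a⁻¹ * b⁻¹ ∈ Subgroup.center ↥O := by
        rw [← hder, commutator_def]
        exact Subgroup.commutator_mem_commutator (Subgroup.mem_top a) (Subgroup.mem_top b)
      rcases hcases _ hc with h | h
      · left
        rw [mul_inv_eq_one, mul_inv_eq_iff_eq_mul] at h
        exact congrArg (fun t : ↥O => ((t : ↥C) : G)) h
      · right
        rw [mul_inv_eq_iff_eq_mul, mul_inv_eq_iff_eq_mul, mul_assoc] at h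
        exact congrArg (fun t : ↥O => ((t : ↥C) : G)) h
    sq := by
      intro a ha
      obtain ⟨a, rfl⟩ := memQ.1 ha
      have hc : a * a ∈ Subgroup.center ↥O := by
        rw [← hfr, ← pow_two]
        exact (CfsgLib.PSolvable.commutator_le_frattini hp).2 a
      rcases hcases _ hc with h | h
      · exact Or.inl (congrArg (fun t : ↥O => ((t : ↥C) : G)) h)
      · exact Or.inr (congrArg (fun t : ↥O => ((t : ↥C) : G)) h)
    cen := by
      intro a ha hall
      obtain ⟨a, rfl⟩ := memQ.1 ha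
      have hc : a ∈ Subgroup.center ↥O := Subgroup.mem_center_iff.2 fun b =>
        Subtype.ext (Subtype.ext (hall _ (memQ.2 ⟨b, rfl⟩)).symm)
      rcases hcases _ hc with h | h
      · exact Or.inl (congrArg (fun t : ↥O => ((t : ↥C) : G)) h)
      · exact Or.inr (congrArg (fun t : ↥O => ((t : ↥C) : G)) h)
    equivK := hK
    inf := hKQ
    faith := hfaith
    decomp := hdec }
  obtain ⟨hVC, hBC, hVBc, hVBi, hVBs⟩ := hVB
  obtain ⟨e⟩ := hB
  obtain ⟨eK⟩ := hK
  have hA5 : Nat.card (alternatingGroup (Fin 5)) = 60 := by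
    rw [nat_card_alternatingGroup, Nat.card_eq_fintype_card, Fintype.card_fin]; decide
  have hCz' : Nat.card ↥C = 1920 := by
    have hbij : Function.Bijective fun p : ↥Q × ↥K =>
        (⟨(p.1 : G) * p.2, C.mul_mem (hQC p.1.2) (hKC' p.2.2)⟩ : ↥C) := by
      refine ⟨fun p r h => ?_, fun c => ?_⟩
      · have h' := congrArg Subtype.val h
        simp only at h'
        have hmem : (p.2 : G) * (r.2 : G)⁻¹ ∈ K ⊓ Q := by
          refine ⟨K.mul_mem p.2.2 (K.inv_mem r.2.2), ?_⟩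
          rw [show (p.2 : G) * (r.2 : G)⁻¹ = (p.1 : G)⁻¹ * r.1 by
            rw [eq_inv_mul_iff_mul_eq, ← mul_assoc, h', mul_inv_cancel_right]]
          exact Q.mul_mem (Q.inv_mem p.1.2) r.1.2
        rw [hKQ, Subgroup.mem_bot, mul_inv_eq_one] at hmem
        rw [hmem] at h'
        exact Prod.ext (Subtype.ext (mul_right_cancel h')) (Subtype.ext hmem)
      · obtain ⟨q, hq, k, hk, h⟩ := hdec c c.2
        exact ⟨(⟨q, hq⟩, ⟨k, hk⟩), Subtype.ext h.symm⟩
    rw [← Nat.card_eq_of_bijective _ hbij, Nat.card_prod, S.cardQ, Nat.card_congr eK.toEquiv, hA5]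
  have hV2' : ∀ v ∈ V, v * v = 1 := fun v hv => by rw [← pow_two]; exact hV2 v hv
  have hCt' : Nat.card ↥(Subgroup.centralizer ({t} : Set G)) = 240 := by
    have hbij : Function.Bijective fun p : ↥V × ↥B =>
        (⟨(p.1 : G) * p.2, Subgroup.mul_mem _ (hVC p.1.2) (hBC p.2.2)⟩ :
          ↥(Subgroup.centralizer ({t} : Set G))) := by
      refine ⟨fun p r h => ?_, fun c => ?_⟩
      · have h' := congrArg Subtype.val h
        simp only at h'
        have hmem : (p.2 : G) * (r.2 : G)⁻¹ ∈ V ⊓ B := by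
          refine ⟨?_, B.mul_mem p.2.2 (B.inv_mem r.2.2)⟩
          rw [show (p.2 : G) * (r.2 : G)⁻¹ = (p.1 : G)⁻¹ * r.1 by
            rw [eq_inv_mul_iff_mul_eq, ← mul_assoc, h', mul_inv_cancel_right]]
          exact V.mul_mem (V.inv_mem p.1.2) r.1.2
        rw [hVBi, Subgroup.mem_bot, mul_inv_eq_one] at hmem
        rw [hmem] at h'
        exact Prod.ext (Subtype.ext (mul_right_cancel h')) (Subtype.ext hmem)
      · let H : Subgroup G :=
        { carrier := {g | ∃ v ∈ V, ∃ b ∈ B, g = v * b}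
          one_mem' := ⟨1, V.one_mem, 1, B.one_mem, (one_mul 1).symm⟩
          mul_mem' := by
            rintro _ _ ⟨v, hv, b, hb, rfl⟩ ⟨w, hw, d, hd, rfl⟩
            refine ⟨v * w, V.mul_mem hv hw, b * d, B.mul_mem hb hd, ?_⟩
            rw [mul_assoc v b, ← mul_assoc b w, ← hVBc w hw b hb]; group
          inv_mem' := by
            rintro _ ⟨v, hv, b, hb, rfl⟩
            exact ⟨v⁻¹, V.inv_mem hv, b⁻¹, B.inv_mem hb, by
              rw [mul_inv_rev, hVBc _ (V.inv_mem hv) _ (B.inv_mem hb)]⟩ }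
        have hle : V ⊔ B ≤ H := sup_le (fun v hv => ⟨v, hv, 1, B.one_mem, (mul_one v).symm⟩)
          (fun b hb => ⟨1, V.one_mem, b, hb, (one_mul b).symm⟩)
        obtain ⟨v, hv, b, hb, h⟩ := hle (hVBs.ge c.2)
        exact ⟨(⟨v, hv⟩, ⟨b, hb⟩), Subtype.ext h.symm⟩
    rw [← Nat.card_eq_of_bijective _ hbij, Nat.card_prod, hV, Nat.card_congr e.toEquiv, hA5]
  rw [Nat.card_eq_fintype_card, CfsgLib.J2Order.order_formula z t hz ht hzt hcl,
    S.card_pairs_z memC hz ht hzt hQz hCz,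
    CfsgLib.J2Order.card_pairs_t (fun g => Subgroup.mem_centralizer_singleton_iff) hz ht hzt hVC hBC
      hVBc hVBi hVBs hV2' htV e hBz hCt, hCz', hCt']

end Cfsg.Agent.S3313
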