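import Cfsg.Statements.S3322
import Cfsg.Agent.Lib.DGroup.Reduce
import Cfsg.Agent.Lib.DGroup.AbelianCase
import Cfsg.Agent.Lib.DGroup.ElementaryCase
import Cfsg.Agent.Lib.DGroup.HcTwo
import Cfsg.Agent.Lib.DGroup.Identify

set_option autoImplicit false
open Cfsg CfsgLib.DGroup

namespace Cfsg.Agent.S3322

/-- Call a group a D-group when it has a proper subgroup outside of which every element x satisfies x² = 1 (for instance a dihedral group, or an elementary abelian 2-group). Let G be a finite group with a subgroup H that is a D-group (witnessed by a proper subgroup A of H) of order divisible by 4, such that H = C_G(j) for every involution j in the centre of H. If G is not solvable, then G has a normal subgroup N whose order is odd or twice an odd number with G/N isomorphic to PSL(2, q) or PGL(2, q) for some prime power q > 3 (q may be even). -/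
theorem result
    {G : Type*} [Group G] [Finite G] (H A : Subgroup G) (hAH : A < H) (hD : ∀ x ∈ H, x ∉ A → x ^ 2 = 1)
    (h4 : 4 ∣ Nat.card ↥H)
    (hC : ∀ j ∈ H, orderOf j = 2 → (∀ h ∈ H, h * j = j * h) → Subgroup.centralizer ({j} : Set G) = H)
    (hns : ¬ Group.IsSolvable G) :
    ∃ (N : Subgroup G) (_ : N.Normal), (Odd (Nat.card ↥N) ∨ ∃ m : ℕ, Odd m ∧ Nat.card ↥N = 2 * m) ∧
      ∃ (F : Type) (_ : Field F) (_ : Fintype F), 3 < Fintype.card F ∧
        (Nonempty (G ⧸ N ≃* Matrix.ProjectiveSpecialLinearGroup (Fin 2) F) ∨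
          Nonempty (G ⧸ N ≃* Matrix.ProjGenLinGroup (Fin 2) F)) := by
  have := Fact.mk Nat.prime_two
  by_cases hE : ∀ y ∈ H, y * y = 1
  · refine elementary_case hns H hE h4 fun y hy hy1 => hC y hy
      (orderOf_eq_prime (by rw [pow_two, hE y hy]) hy1) fun g hg => ?_
    calc g * y = (g * y)⁻¹ := eq_inv_iff_mul_eq_one.2 (hE _ (mul_mem hg hy))
      _ = y * g := by
        rw [mul_inv_rev, inv_eq_of_mul_eq_one_right (hE y hy), inv_eq_of_mul_eq_one_right (hE g hg)]
  obtain ⟨B, x, h⟩ := exists_hyp H A hAH hD h4 hC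
  obtain ⟨t, ht, ht2⟩ := h.exists_invol
  by_cases huniq : ∀ a ∈ B, a * a = 1 → a = 1 ∨ a = t
  swap
  · push Not at huniq
    obtain ⟨s, hs, hss, hs1, hst⟩ := huniq
    exact noncyclic_case hns h hE hs (orderOf_eq_prime (by rw [pow_two, hss]) hs1) ht ht2 hst
  have : (oddCore G).Normal := CfsgLib.Transfer.pPrimeCore_normal 2 G
  obtain ⟨hQ, htQ, ht2Q, huQ⟩ := h.quotient ht ht2 huniq
  have hcore : oddCore (G ⧸ oddCore G) = ⊥ := CfsgLib.Invol.oddCore_quotient_eq_bot
  have hnsQ := not_solvable_quotient hns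
  refine ⟨oddCore G, inferInstance,
    Or.inl (Nat.coprime_two_right.1 (CfsgLib.Transfer.pPrimeCore_coprime 2)), ?_⟩
  rcases setup hcore hnsQ hQ htQ ht2Q huQ with hone | ⟨G₀, htwo⟩
  · exact identify hnsQ hcore hone.cent fun v hv Y hY hYv => hone.normalizer_le hv hY hYv
  · exact identify hnsQ hcore htwo.cent fun v hv Y hY hYv => htwo.normalizer_le hv hY hYv

end Cfsg.Agent.S3322
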