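import Cfsg.Statements.S3324
import Cfsg.Agent.Lib.RootCent.Local

set_option autoImplicit false
open Cfsg

namespace Cfsg.Agent.S3324

/-- Let p be an odd prime and q = pⁿ with q ≡ 3 (mod 4), and let C₀ be the centralizer in PSp(4, q) of an element x of order p lying in the centre of a Sylow p-subgroup. Let G be a finite group with an element α of order p such that C_G(α) ≅ C₀, such that C_G(z) = C_G(α) for every nontrivial z in the centre of C_G(α), and in which not all elements of order p that are central in some Sylow p-subgroup are conjugate. Let P be a Sylow p-subgroup of G contained in C_G(α) (P has order q⁴) and M an elementary abelian subgroup of P of order q³. If N_G(M) does not have a normal Sylow p-subgroup, then M has a complement J in N_G(M) with J isomorphic to PGL(2, q) × C, C cyclic of order (q − 1)/2. -/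
theorem result
    {G : Type*} [Group G] [Finite G] {F : Type*} [Field F] [Fintype F] (p n : ℕ) [Fact p.Prime] (hp : p ≠ 2)
    (hn : 1 ≤ n) (hq4 : p ^ n % 4 = 3) (hF : Fintype.card F = p ^ n)
    (x : Cfsg.PSp 2 F) (hx : orderOf x = p) (Px : Sylow p (Cfsg.PSp 2 F)) (hxP : x ∈ (Px : Subgroup (Cfsg.PSp 2 F)))
    (hxc : ∀ y ∈ (Px : Subgroup (Cfsg.PSp 2 F)), y * x = x * y)
    (α : G) (hα : orderOf α = p)
    (e : ↥(Subgroup.centralizer ({α} : Set G)) ≃* ↥(Subgroup.centralizer ({x} : Set (Cfsg.PSp 2 F))))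
    (hb : ∀ z ∈ Subgroup.centralizer ({α} : Set G), z ≠ 1 → (∀ c ∈ Subgroup.centralizer ({α} : Set G), c * z = z * c) →
      Subgroup.centralizer ({z} : Set G) = Subgroup.centralizer ({α} : Set G))
    (hc : ∃ (u v : G) (Pu Pv : Sylow p G), orderOf u = p ∧ orderOf v = p ∧
      u ∈ (Pu : Subgroup G) ∧ (∀ y ∈ (Pu : Subgroup G), y * u = u * y) ∧
      v ∈ (Pv : Subgroup G) ∧ (∀ y ∈ (Pv : Subgroup G), y * v = v * y) ∧ ∀ g : G, g * u * g⁻¹ ≠ v)
    (P : Sylow p G) (hP : (P : Subgroup G) ≤ Subgroup.centralizer ({α} : Set G))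
    (M : Subgroup G) (hMP : M ≤ P) (hMc : IsMulCommutative ↥M) (hMe : ∀ m ∈ M, m ^ p = 1) (hMcard : Nat.card ↥M = p ^ (3 * n))
    (hnc : ∃ Q R : Sylow p ↥(Subgroup.normalizer (M : Set G)), Q ≠ R) :
    ∃ J : Subgroup G, J ≤ Subgroup.normalizer (M : Set G) ∧ M ⊔ J = Subgroup.normalizer (M : Set G) ∧ M ⊓ J = ⊥ ∧
      Nonempty (↥J ≃* (Matrix.ProjGenLinGroup (Fin 2) F × Multiplicative (ZMod ((p ^ n - 1) / 2)))) := by
  have hchar : CharP F p := charP_of_card_eq_prime_pow hF
  have hq : Nat.card F = p ^ n := by rw [Nat.card_eq_fintype_card, hF]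
  obtain ⟨φ⟩ := CfsgLib.RootCent.exists_equiv hp Px hx hxP hxc
  let e' := φ.trans e.symm
  let ψ : CfsgLib.RootCent.AS F →* G :=
    (Subgroup.centralizer ({α} : Set G)).subtype.comp e'.toMonoidHom
  have hψ : Function.Injective ψ := Subtype.val_injective.comp e'.injective
  have hrange : ψ.range = Subgroup.centralizer ({α} : Set G) := by
    refine le_antisymm (by rintro _ ⟨y, rfl⟩; exact (e' y).2) fun g hg => ⟨e'.symm ⟨g, hg⟩, ?_⟩
    show ((e' (e'.symm ⟨g, hg⟩) : Subgroup.centralizer ({α} : Set G)) : G) = g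
    rw [MulEquiv.apply_symm_apply]
  have hzc : ∀ (d : F) (y : CfsgLib.RootCent.AS F),
      y * CfsgLib.RootCent.AS.zc d = CfsgLib.RootCent.AS.zc d * y := fun d y => by
    ext <;> simp [CfsgLib.RootCent.AS.zc] <;> ring
  have hcen : ∀ d : F, d ≠ 0 →
      Subgroup.centralizer ({ψ (CfsgLib.RootCent.AS.zc d)} : Set G) = ψ.range := fun d hd => by
    rw [hrange]
    refine hb _ (e' _).2 (fun h => hd ?_) (fun c hc' => ?_)
    · have h1 : CfsgLib.RootCent.AS.zc d = 1 := hψ (h.trans ψ.map_one.symm)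
      exact congrArg CfsgLib.RootCent.AS.z h1
    · rw [← hrange] at hc'
      obtain ⟨y, rfl⟩ := hc'
      rw [← map_mul, ← map_mul, hzc]
  rw [← hq] at hq4 ⊢
  have hMcard' : Nat.card M = Nat.card F ^ 3 := by rw [hMcard, hq, ← pow_mul, mul_comm]
  exact CfsgLib.RootCent.exists_setup p hp hq4 ψ hψ hcen hc P (hrange ▸ hP) M hMP hMc hMcard' hnc

end Cfsg.Agent.S3324
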