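import Cfsg.Statements.S3333
import Cfsg.Agent.Lib.NineTI.DihedralSix
-- import your own Cfsg.Agent.* helpers here

set_option autoImplicit false
open Cfsg

namespace Cfsg.Agent.S3333

/-- Let G be a finite group with a Sylow 3-subgroup S of order 9 that is its own centralizer, with N_G(S)/S dihedral of order 8, and such that C_G(x) ≤ N_G(S) for every non-identity x in S. Then S is normal in G or G is isomorphic to the symmetric group of degree 6. -/
theorem result {G : Type*} [Group G] [Finite G]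
    (P : Sylow 3 G) (S : Subgroup G) (hSP : S = P) (hcard : Nat.card S = 9)
    (hC : Subgroup.centralizer (S : Set G) = S)
    (eN : Subgroup.normalizer (S : Set G) ⧸ S.subgroupOf (Subgroup.normalizer (S : Set G)) ≃* DihedralGroup 4)
    (hcent : ∀ x ∈ S, x ≠ 1 → Subgroup.centralizer ({x} : Set G) ≤ Subgroup.normalizer (S : Set G)) :
    S.Normal ∨ Nonempty (G ≃* Equiv.Perm (Fin 6)) := by
  classical
  haveI : Fact (Nat.Prime 2) := ⟨Nat.prime_two⟩
  haveI : Fact (Nat.Prime 3) := ⟨Nat.prime_three⟩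
  let N : Subgroup G := Subgroup.normalizer (S : Set G)
  haveI : (S.subgroupOf N).Normal := Subgroup.normal_in_normalizer
  have hcomm : ∀ p ∈ S, ∀ q ∈ S, p * q = q * p := fun p hp q hq =>
    Subgroup.mem_centralizer_iff.mp (show q ∈ Subgroup.centralizer (S : Set G) by rw [hC]; exact hq) p hp
  -- the subgroup is not cyclic
  have hcube : ∀ m ∈ S, m ^ 3 = 1 := by
    intro m hm
    by_contra hm3
    have ho : orderOf (⟨m, hm⟩ : S) = 9 := by
      have hd : orderOf (⟨m, hm⟩ : S) ∣ 3 ^ 2 := by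
        rw [show (3 : ℕ) ^ 2 = Nat.card S by rw [hcard]; norm_num]
        exact orderOf_dvd_natCard _
      obtain ⟨k, hk, e⟩ := (Nat.dvd_prime_pow Nat.prime_three).mp hd
      interval_cases k
      · exact absurd (by rw [show m = 1 by simpa using congrArg Subtype.val (orderOf_eq_one_iff.mp e), one_pow]) hm3
      · exact absurd (by
          have := congrArg Subtype.val (e ▸ pow_orderOf_eq_one (⟨m, hm⟩ : S) : (⟨m, hm⟩ : S) ^ (3 ^ 1) = 1)
          simpa using this) hm3
      · rw [e]; norm_num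
    have hgen : ∀ x ∈ S, ∃ i : ℤ, m ^ i = x := by
      intro x hx
      have : (⟨x, hx⟩ : S) ∈ Subgroup.zpowers (⟨m, hm⟩ : S) := by
        rw [Subgroup.eq_top_of_card_eq (Subgroup.zpowers (⟨m, hm⟩ : S)) (by rw [Nat.card_zpowers, ho, hcard])]
        trivial
      obtain ⟨i, hi⟩ := this
      exact ⟨i, by simpa using congrArg Subtype.val hi⟩
    have key : ∀ a b : N, ((a * b * a⁻¹ * b⁻¹ : N) : G) ∈ S := by
      intro a b
      obtain ⟨i, hi⟩ := hgen _ ((Subgroup.mem_normalizer_iff.mp a.2 m).mp hm)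
      obtain ⟨j, hj⟩ := hgen _ ((Subgroup.mem_normalizer_iff.mp b.2 m).mp hm)
      have h1 : ((a * b : N) : G) * m * ((a * b : N) : G)⁻¹ = ((b * a : N) : G) * m * ((b * a : N) : G)⁻¹ := by
        simp only [Subgroup.coe_mul]
        rw [show (a : G) * b * m * ((a : G) * b)⁻¹ = (a : G) * ((b : G) * m * (b : G)⁻¹) * (a : G)⁻¹ by group,
          show (b : G) * a * m * ((b : G) * a)⁻¹ = (b : G) * ((a : G) * m * (a : G)⁻¹) * (b : G)⁻¹ by group,
          ← hi, ← hj, ← conj_zpow, ← conj_zpow, ← hi, ← hj, ← zpow_mul, ← zpow_mul, mul_comm]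
      have hfix : ((a * b * a⁻¹ * b⁻¹ : N) : G) * m = m * ((a * b * a⁻¹ * b⁻¹ : N) : G) := by
        refine mul_inv_eq_iff_eq_mul.mp ?_
        calc ((a * b * a⁻¹ * b⁻¹ : N) : G) * m * ((a * b * a⁻¹ * b⁻¹ : N) : G)⁻¹
            = ((a * b : N) : G) * (((b * a : N) : G)⁻¹ * m * ((b * a : N) : G)) * ((a * b : N) : G)⁻¹ := by
              simp only [Subgroup.coe_mul, Subgroup.coe_inv]; group
          _ = m := by
              have hb : ((b * a : N) : G)⁻¹ * m * ((b * a : N) : G) ∈ S := by
                have := (Subgroup.mem_normalizer_iff.mp (inv_mem (b * a).2) m).mp hm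
                rwa [inv_inv] at this
              obtain ⟨k, hk⟩ := hgen _ hb
              rw [← hk, ← conj_zpow, h1, conj_zpow, hk]
              group
      rw [← hC]
      refine Subgroup.mem_centralizer_iff.mpr fun x hx => ?_
      obtain ⟨k, rfl⟩ := hgen x hx
      exact ((show Commute ((a * b * a⁻¹ * b⁻¹ : N) : G) m from hfix).zpow_right k).eq.symm
    have hab : ∀ u v : DihedralGroup 4, u * v * u⁻¹ * v⁻¹ = 1 := by
      intro u v
      obtain ⟨u', rfl⟩ := eN.surjective u
      obtain ⟨v', rfl⟩ := eN.surjective v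
      obtain ⟨a, rfl⟩ := QuotientGroup.mk'_surjective (S.subgroupOf N) u'
      obtain ⟨b, rfl⟩ := QuotientGroup.mk'_surjective (S.subgroupOf N) v'
      rw [← map_inv eN, ← map_inv eN, ← map_mul, ← map_mul, ← map_mul, ← map_inv, ← map_inv, ← map_mul,
        ← map_mul, ← map_mul, show QuotientGroup.mk' (S.subgroupOf N) (a * b * a⁻¹ * b⁻¹) = 1 from
          (QuotientGroup.eq_one_iff _).mpr (Subgroup.mem_subgroupOf.mpr (key a b)), map_one]
    exact absurd (hab (.r 1) (.sr 0)) (by decide)
  have h : CfsgLib.NineTI.Hyp S :=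
    { card := hcard
      comm := hcomm
      cube := hcube
      maximal := fun Q hQ hle => by
        subst hSP
        exact P.3 hQ hle
      self := hC
      loc := hcent }
  have hN : Nat.card N = 72 := by
    rw [← (S.subgroupOf N).card_mul_index,
      Nat.card_congr (Subgroup.subgroupOfEquivOfLe (Subgroup.le_normalizer (H := S))).toEquiv,
      Subgroup.index_eq_card, Nat.card_congr eN.toEquiv, DihedralGroup.nat_card, hcard]
  obtain ⟨T⟩ := (inferInstance : Nonempty (Sylow 2 N))
  have hT8 : Nat.card (T : Subgroup N) = 8 := by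
    rw [T.card_eq_multiplicity, hN, show (72 : ℕ) = 2 ^ 3 * 9 by norm_num,
      Nat.factorization_mul (by norm_num) (by norm_num), Nat.Prime.factorization_pow Nat.prime_two,
      Finsupp.add_apply, Nat.factorization_eq_zero_of_not_dvd (n := 9) (by norm_num)]
    simp
  let f : (T : Subgroup N) →* N ⧸ S.subgroupOf N :=
    (QuotientGroup.mk' (S.subgroupOf N)).comp (T : Subgroup N).subtype
  have hf : Function.Injective f := by
    rw [injective_iff_map_eq_one]
    intro s hs
    have hsM : ((s : N) : G) ∈ S := Subgroup.mem_subgroupOf.mp ((QuotientGroup.eq_one_iff _).mp hs)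
    have h3 : orderOf s ∣ 3 := orderOf_dvd_of_pow_eq_one (Subtype.ext (Subtype.ext (by simpa using hcube _ hsM)))
    have h8 : orderOf s ∣ 8 := hT8 ▸ orderOf_dvd_natCard s
    exact orderOf_eq_one_iff.mp (Nat.eq_one_of_dvd_coprimes (show Nat.Coprime 3 8 by norm_num) h3 h8)
  have hfb : Function.Bijective f := (Nat.bijective_iff_injective_and_card f).mpr
    ⟨hf, by rw [hT8, Nat.card_congr eN.toEquiv, DihedralGroup.nat_card]⟩
  let eP : DihedralGroup 4 ≃* ((T : Subgroup N).map N.subtype) :=
    eN.symm.trans ((MulEquiv.ofBijective f hfb).symm.trans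
      ((T : Subgroup N).equivMapOfInjective N.subtype N.subtype_injective))
  have hdec : ∀ n ∈ N, ∃ m ∈ S, ∃ p ∈ (T : Subgroup N).map N.subtype, n = m * p := by
    intro n hn
    have hTN : Nat.card (S.subgroupOf N) = 9 := by
      rw [Nat.card_congr (Subgroup.subgroupOfEquivOfLe (Subgroup.le_normalizer (H := S))).toEquiv, hcard]
    have hc : Subgroup.IsComplement' (S.subgroupOf N) (T : Subgroup N) := by
      refine Subgroup.isComplement'_of_coprime ?_ ?_ <;> rw [hTN, hT8]
      · rw [hN]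
      · norm_num
    obtain ⟨⟨⟨m, hm⟩, ⟨s, hs⟩⟩, he⟩ := hc.2 (⟨n, hn⟩ : N)
    exact ⟨m, Subgroup.mem_subgroupOf.mp hm, s, ⟨s, hs, rfl⟩, (congrArg Subtype.val he).symm⟩
  obtain ⟨ψ, hψ⟩ := CfsgLib.NineTI.exists_equiv_model h _ (Subgroup.map_subtype_le _) eP hdec
  exact CfsgLib.NineTI.normal_or_six (⟨h, ψ, hψ⟩ : CfsgLib.NineTI.DData S)

end Cfsg.Agent.S3333
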