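import Cfsg.Statements.S3342
import Cfsg.Agent.Lib.PSpFourThree.Eight.SmallFinal
import Cfsg.Agent.Lib.PSpFourThree.Eight.BigFinal
import Cfsg.Agent.Lib.PSpFourThree.KindTwo
import Cfsg.Agent.Lib.PSpFourThree.KindTwoCent

set_option autoImplicit false
open Cfsg

namespace Cfsg.Agent.S3342

/-- Let G be a finite group and a ∈ G an element of order 3 whose centralizer C has O₃(C) extraspecial of order 27 and exponent 3 with C/O₃(C) isomorphic to SL(2,3), and suppose some elementary abelian J ≤ C of order 27 normalizes no non-trivial subgroup of G of order prime to 3. If a is not conjugate to its inverse, then G has a normal subgroup of index 3 or G is isomorphic to PSp(4,3). If a is conjugate to its inverse, then ⟨a⟩ is normal in G, or G is isomorphic to the full automorphism group of PSp(4,3), or G is isomorphic to Sp(6,2). -/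
theorem result {G : Type*} [Group G] [Finite G]
    (a : G) (ha : orderOf a = 3) (C : Subgroup G) (hC : C = Subgroup.centralizer ({a} : Set G))
    (hR : Cfsg.IsExtraspecial 3 (Cfsg.pCore 3 C)) (hRcard : Nat.card (Cfsg.pCore 3 C) = 27)
    (hRexp : ∀ r ∈ Cfsg.pCore 3 C, r ^ 3 = 1)
    (e : C ⧸ Cfsg.pCore 3 C ≃* Matrix.SpecialLinearGroup (Fin 2) (ZMod 3))
    (J : Subgroup G) (hJC : J ≤ C) (hJcomm : IsMulCommutative J) (hJexp : ∀ j ∈ J, j ^ 3 = 1) (hJcard : Nat.card J = 27)
    (hJsig : ∀ K : Subgroup G, (Nat.card K).Coprime 3 → (∀ j ∈ J, K.map (MulAut.conj j).toMonoidHom = K) → K = ⊥)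
    (F : Type*) [Field F] [Fintype F] (hF : Fintype.card F = 3)
    (F₂ : Type*) [Field F₂] [Fintype F₂] (hF₂ : Fintype.card F₂ = 2) :
    ((∀ g : G, g * a * g⁻¹ ≠ a⁻¹) →
      (∃ N : Subgroup G, N.Normal ∧ N.index = 3) ∨ Nonempty (G ≃* Cfsg.PSp 2 F)) ∧
    ((∃ g : G, g * a * g⁻¹ = a⁻¹) →
      Subgroup.normalizer (Subgroup.zpowers a : Set G) = ⊤ ∨ Nonempty (G ≃* MulAut (Cfsg.PSp 2 F)) ∨
        Nonempty (G ≃* Matrix.symplecticGroup (Fin 3) F₂)) := by
  classical
  subst hC
  obtain ⟨hK, hcen⟩ := hR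
  set R0 := Cfsg.pCore 3 ↥(Subgroup.centralizer ({a} : Set G))
  let X : CfsgLib.PSpFourThree.Ctx G :=
    { a := a
      R := R0.map (Subgroup.centralizer ({a} : Set G)).subtype
      J := J
      φ := e.toMonoidHom.comp (QuotientGroup.mk' R0)
      ha := ha
      surj := e.surjective.comp (QuotientGroup.mk'_surjective R0)
      hker := fun x => by
        show e (QuotientGroup.mk' R0 x) = 1 ↔ _
        rw [MulEquiv.map_eq_one_iff]
        exact ⟨fun h => ⟨x, (QuotientGroup.eq_one_iff x).mp h, rfl⟩, fun ⟨y, hy, hyx⟩ =>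
          (QuotientGroup.eq_one_iff x).mpr (Subtype.ext hyx ▸ hy)⟩
      R_le := Subgroup.map_subtype_le _
      card_R := by rw [Subgroup.card_map_of_injective (Subgroup.subtype_injective _)]; exact hRcard
      center_R := by
        rw [← Nat.card_congr (Subgroup.centerCongr
          (R0.equivMapOfInjective _ (Subgroup.subtype_injective _))).toEquiv]
        exact hcen
      exp_R := by
        rintro _ ⟨r, hr, rfl⟩
        rw [← map_pow, hRexp r hr, map_one]
      J_le := hJC
      comm := fun x hx y hy => congrArg Subtype.val (hJcomm.is_comm.comm ⟨x, hx⟩ ⟨y, hy⟩)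
      cube := hJexp
      card_J := hJcard
      sig := fun K hK hn => hJsig K hK fun j hj =>
        Subgroup.mem_normalizer_iff_map_conj_eq.mp (hn hj) }
  obtain ⟨U⟩ := X.exists_coord
  have hk : U.k = 0 ∨ U.k = 1 ∨ U.k = 2 ∨ U.k = 3 := by
    have h : ∀ k : Fin 4, k = 0 ∨ k = 1 ∨ k = 2 ∨ k = 3 := by decide
    exact h _
  have hinvertible : U.k = 1 ∨ U.k = 3 → ∃ g : G, g * a * g⁻¹ = a⁻¹ := by
    intro h
    have h129 : CfsgLib.SymNineThree.Mon.of 129 ∈ CfsgLib.SymNineThree.Mon.Kd U.k := by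
      rcases h with h | h <;> rw [h] <;>
        exact CfsgLib.SymNineThree.mem_Kd_of (by norm_num) (by decide +kernel)
    refine ⟨U.f (CfsgLib.SymNineThree.Mon.of 129), ?_⟩
    show _ * X.a * _ = X.a⁻¹
    rw [U.inv_a, ← U.ι_thirteen, CfsgLib.PSpFourThree.Coord.ι, CfsgLib.PSpFourThree.Coord.ι,
      ← U.f_conj h129 (CfsgLib.SymNineThree.tr_mem (by norm_num))]
    exact congrArg U.f (by decide +kernel)
  refine ⟨fun hno => ?_, fun ⟨g, hg⟩ => ?_⟩
  · rcases hk with h | h | h | h
    · exact Or.inl (U.index_three h hno)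
    · obtain ⟨g, hg⟩ := hinvertible (Or.inl h)
      exact absurd hg (hno g)
    · obtain ⟨e1⟩ := U.iso_of_four h
      obtain ⟨e2⟩ := CfsgLib.PSpFourRecog.exists_iso (F := F) hF
      exact Or.inr ⟨e1.trans e2.symm⟩
    · obtain ⟨g, hg⟩ := hinvertible (Or.inr h)
      exact absurd hg (hno g)
  · rcases U.kind_odd (g := g) hg with h | h
    · exact Or.inl (U.normalizer_eq_top h)
    · rcases U.small_or_big h with hs | ⟨⟨B⟩⟩
      · exact Or.inr (Or.inl ((CfsgLib.PSpFourThree.Small.mk h hs).iso_aut F hF))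
      · exact Or.inr (Or.inr (B.iso_symp F₂ hF₂))

end Cfsg.Agent.S3342
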