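import Cfsg.Statements.S3346
import Cfsg.Agent.Lib.HSUniq.Endgame
-- import your own Cfsg.Agent.* helpers here

set_option autoImplicit false
open Cfsg

namespace Cfsg.Agent.S3346

/-- A characterization of the Higman–Sims group. Let G be a finite group with an involution t, H = C_G(t) and R = O₂(H). Suppose R is the central product of a cyclic group of order 4 with an extraspecial group of order 32 (R = CE with C cyclic of order 4 central in R, E extraspecial of order 32, and C ∩ E = Z(E)), and H/R is isomorphic to Sym(5). Suppose further that V ≤ R is elementary abelian of order 8 with M = N_G(V) satisfying O₂(M) ≅ C₄ × C₄ × C₄ and M/O₂(M) ≅ GL(3,2). Then G is isomorphic to the Higman–Sims group. -/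
theorem result {G : Type*} [Group G] [Finite G]
    (t : G) (ht : orderOf t = 2) (H : Subgroup G) (hH : H = Subgroup.centralizer ({t} : Set G))
    (R : Subgroup G) (hR : R = (Cfsg.pCore 2 H).map H.subtype)
    (Cy E : Subgroup G) (hCy : IsCyclic Cy) (hCycard : Nat.card Cy = 4)
    (hCyle : Cy ≤ R ⊓ Subgroup.centralizer (R : Set G))
    (hEle : E ≤ R) (hEex : Cfsg.IsExtraspecial 2 E) (hEcard : Nat.card E = 32)
    (hprod : Cy ⊔ E = R) (hmeet : Cy ⊓ E = E ⊓ Subgroup.centralizer (E : Set G))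
    (eH : H ⧸ Cfsg.pCore 2 H ≃* Equiv.Perm (Fin 5))
    (V : Subgroup G) (hVcomm : IsMulCommutative V) (hVexp : ∀ v ∈ V, v ^ 2 = 1) (hVcard : Nat.card V = 8)
    (hVR : V ≤ R) (M : Subgroup G) (hM : M = Subgroup.normalizer (V : Set G))
    (eOM : Cfsg.pCore 2 M ≃* Multiplicative (ZMod 4 × ZMod 4 × ZMod 4))
    (eM : M ⧸ Cfsg.pCore 2 M ≃* GL (Fin 3) (ZMod 2)) :
    Cfsg.Spor.IsoHS G := by
  obtain S := CfsgLib.HSUniq.exists_setup ht hH hR hCy hCycard hCyle hEle hEex hEcard hprod hmeet eH hVcomm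
    hVexp hVcard hVR hM eOM eM
  obtain ⟨c, s, r, w, var, L⟩ := CfsgLib.HSUniq.exists_local S
  obtain ⟨rfl, x, img, i, k, O⟩ := CfsgLib.HSUniq.exists_outer_data S L
  obtain ⟨w', x', L', O'⟩ := CfsgLib.HSUniq.exists_normal S L O
  have D : CfsgLib.HSUniq.HData t H R V M _ c s r w' x' := ⟨S, L', O'⟩
  obtain ⟨f, hf, hgen⟩ := CfsgLib.HSUniq.exists_embedding D
  have I : CfsgLib.HSUniq.Img c s r w' x' f.range := ⟨fun n => ⟨_, hgen n⟩, by
    rw [← Nat.card_congr (MonoidHom.ofInjective hf).toEquiv]; exact CfsgLib.HS.natCard_G⟩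
  have htop := CfsgLib.HSUniq.top_of_img D I (CfsgLib.HSUniq.t_not_u D hf hgen)
  obtain ⟨e⟩ := CfsgLib.HN.nonempty_equiv_spor
  exact ⟨(MulEquiv.ofBijective f ⟨hf, MonoidHom.range_eq_top.1 htop⟩).symm.trans e⟩

end Cfsg.Agent.S3346
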