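import Cfsg.Statements.S3349
import Cfsg.Agent.Lib.Extraspecial.Basics

set_option autoImplicit false
open Cfsg
open scoped commutatorElement

namespace Cfsg.Agent.S3349

/-- Let Q be a finite extraspecial p-group and α an automorphism of Q fixing every element of some maximal abelian subgroup of Q. Then the order of α is a power of p. -/
theorem result {Q : Type*} [Group Q] [Finite Q]
    (p : ℕ) [Fact p.Prime] (hQ : Cfsg.IsExtraspecial p Q) (α : MulAut Q)
    (A : Subgroup Q) (hA : IsMulCommutative A) (hmax : ∀ B : Subgroup Q, A ≤ B → IsMulCommutative B → B = A)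
    (hfix : ∀ a ∈ A, α a = a) :
    ∃ k : ℕ, orderOf α = p ^ k := by
  have hp : p.Prime := Fact.out
  haveI := hA
  have hC : Subgroup.centralizer (A : Set Q) ≤ A := by
    intro x hx
    set B := Subgroup.closure (insert x (A : Set Q))
    have hgen : ∀ a ∈ insert x (A : Set Q), ∀ b ∈ insert x (A : Set Q), a * b = b * a := by
      rintro a (rfl | ha) b (rfl | hb)
      · rfl
      · exact (hx b hb).symm
      · exact hx a ha
      · exact congrArg Subtype.val (hA.is_comm.comm ⟨a, ha⟩ ⟨b, hb⟩)
    have := hmax B (fun a ha => Subgroup.subset_closure (Set.mem_insert_of_mem x ha))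
      (Subgroup.isMulCommutative_closure hgen)
    rw [← this]
    exact Subgroup.subset_closure (Set.mem_insert x _)
  haveI : A.Normal := ⟨fun a ha g => by
    have hZ : ⁅g, a⁆ ∈ A := hC fun b _ => Subgroup.mem_center_iff.mp
      (CfsgLib.Extraspecial.comm_mem hQ g a) b
    rw [show g * a * g⁻¹ = ⁅g, a⁆ * a by rw [commutatorElement_def]; group]
    exact mul_mem hZ ha⟩
  obtain ⟨k, r, hr, hord⟩ := Nat.exists_eq_pow_mul_and_not_dvd (orderOf_pos α).ne' p hp.ne_one
  refine ⟨k, ?_⟩
  have hcop : (orderOf (α ^ p ^ k)).Coprime p := by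
    rw [orderOf_pow' α (pow_ne_zero k hp.ne_zero), hord, Nat.gcd_mul_right_left,
      Nat.mul_div_cancel_left r (pow_pos hp.pos k)]
    exact (Nat.coprime_comm.mp (hp.coprime_iff_not_dvd.mpr hr))
  have hfix' : ∀ m : ℕ, ∀ a ∈ A, (α ^ m) a = a := by
    intro m
    induction m with
    | zero => simp
    | succ m ih => intro a ha; rw [pow_succ, MulAut.mul_apply, hfix a ha, ih a ha]
  have h1 := CfsgLib.Critical.mulAut_eq_one (p := p) hQ.1.1 A hC (α ^ p ^ k) hcop (hfix' _)
  exact Nat.dvd_antisymm (orderOf_dvd_of_pow_eq_one h1) (hord ▸ dvd_mul_right _ _)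

end Cfsg.Agent.S3349
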