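import Cfsg.Statements.S3356
import Cfsg.Agent.Lib.Perm.HalfTransitiveAut

set_option autoImplicit false
open Cfsg

namespace Cfsg.Agent.S3356

/-- Let G be a finite 3/2-transitive permutation group: G acts faithfully and transitively on a finite set, the point stabilizers are non-trivial, and for each point a all orbits of G_a on the remaining points have the same size. Suppose G has a regular normal subgroup N and G is not a Frobenius group (some two-point stabilizer is non-trivial). Then N is an elementary abelian p-group for some prime p, and every non-trivial normal subgroup of G contains N (so N is the unique minimal normal subgroup). -/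
theorem result {G Ω : Type*} [Group G] [Finite G]
    [MulAction G Ω] [FaithfulSMul G Ω] [Finite Ω] (htrans : MulAction.IsPretransitive G Ω)
    (hne : ∀ a : Ω, MulAction.stabilizer G a ≠ ⊥)
    (hhalf : ∀ a b c : Ω, b ≠ a → c ≠ a →
      Nat.card (MulAction.orbit (MulAction.stabilizer G a) b) = Nat.card (MulAction.orbit (MulAction.stabilizer G a) c))
    (N : Subgroup G) [hN : N.Normal] (hNt : MulAction.IsPretransitive N Ω) (hNr : ∀ a : Ω, MulAction.stabilizer N a = ⊥)
    (hnotF : ∃ a b : Ω, a ≠ b ∧ MulAction.stabilizer G a ⊓ MulAction.stabilizer G b ≠ ⊥) :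
    (∃ p : ℕ, p.Prime ∧ IsMulCommutative N ∧ ∀ x ∈ N, x ^ p = 1) ∧
    (∀ M : Subgroup G, M.Normal → M ≠ ⊥ → N ≤ M) := by
  classical
  obtain ⟨a, b₀, hab, hab₀⟩ := hnotF
  set H := MulAction.stabilizer G a with hH
  have hnorm : ∀ h ∈ H, ∀ v ∈ N, h * v * h⁻¹ ∈ N := fun h _ v hv => hN.conj_mem v hv h
  have hNinj : ∀ v ∈ N, ∀ w ∈ N, v • a = w • a → v = w := by
    intro v hv w hw h
    have hm : (⟨w⁻¹ * v, N.mul_mem (N.inv_mem hw) hv⟩ : N) ∈ MulAction.stabilizer N a := by
      show (w⁻¹ * v) • a = a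
      rw [mul_smul, h, inv_smul_smul]
    rw [hNr a, Subgroup.mem_bot] at hm
    exact (inv_mul_eq_one.1 (congrArg Subtype.val hm)).symm
  have hmove : ∀ v ∈ N, v ≠ 1 → v • a ≠ a := fun v hv hv1 h =>
    hv1 (hNinj v hv 1 N.one_mem (by rw [h, one_smul]))
  have hcent : ∀ v ∈ N, CfsgLib.HalfTransitiveAut.cent H v = H ⊓ MulAction.stabilizer G (v • a) := by
    intro v hv
    ext h
    rw [CfsgLib.HalfTransitiveAut.mem_cent, Subgroup.mem_inf, MulAction.mem_stabilizer_iff]
    refine and_congr_right fun hh => ?_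
    have hh' : h • a = a := hh
    have hkey : h • v • a = (h * v * h⁻¹) • a := by
      rw [← mul_smul, mul_smul (h * v) h⁻¹, show h⁻¹ • a = a from
        inv_smul_eq_iff.2 hh'.symm]
    rw [MulAction.mem_stabilizer_iff, hkey, ← mul_inv_eq_iff_eq_mul]
    exact ⟨fun e => by rw [e], fun e => hNinj _ (hnorm h hh v hv) v hv e⟩
  have hall : ∀ x : Ω, ∃ v ∈ N, v • a = x := fun x => by
    obtain ⟨v, hv⟩ := MulAction.exists_smul_eq N a x
    exact ⟨v, v.2, hv⟩
  obtain ⟨u₀, hu₀, hu₀a⟩ := hall b₀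
  have hu₀1 : u₀ ≠ 1 := fun h => hab (by rw [← hu₀a, h, one_smul])
  set d := Nat.card (MulAction.orbit H b₀) with hd₀
  have horb : ∀ x : Ω, Nat.card (MulAction.orbit H x) *
      Nat.card ↥(H ⊓ MulAction.stabilizer G x) = Nat.card H := by
    intro x
    rw [← Nat.card_congr (MulAction.orbitProdStabilizerEquivGroup H x), Nat.card_prod]
    congr 1
    exact Nat.card_congr
      ⟨fun h => ⟨⟨(h : G), (Subgroup.mem_inf.1 h.2).1⟩, (Subgroup.mem_inf.1 h.2).2⟩,
       fun h => ⟨((h : H) : G), Subgroup.mem_inf.2 ⟨(h : H).2, h.2⟩⟩, fun h => rfl, fun h => rfl⟩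
  have hdc : ∀ v ∈ N, v ≠ 1 →
      d * Nat.card (CfsgLib.HalfTransitiveAut.cent H v) = Nat.card H := by
    intro v hv hv1
    rw [hcent v hv, hd₀, hhalf a b₀ (v • a) (Ne.symm hab) (hmove v hv hv1)]
    exact horb _
  set c := Nat.card (CfsgLib.HalfTransitiveAut.cent H u₀) with hc₀
  have hd0 : 0 < d := by
    rw [hd₀]
    haveI : Nonempty (MulAction.orbit H b₀) := ⟨⟨b₀, MulAction.mem_orbit_self b₀⟩⟩
    exact Nat.card_pos
  have hc : ∀ v ∈ N, v ≠ 1 → Nat.card (CfsgLib.HalfTransitiveAut.cent H v) = c := fun v hv hv1 =>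
    Nat.eq_of_mul_eq_mul_left hd0 ((hdc v hv hv1).trans (hdc u₀ hu₀ hu₀1).symm)
  -- the orbit length divides `|N| - 1`
  have hNcard : Nat.card N = Nat.card Ω := by
    refine Nat.card_congr (Equiv.ofBijective (fun v : N => (v : G) • a)
      ⟨fun v w h => Subtype.ext (hNinj _ v.2 _ w.2 h), fun x => ?_⟩)
    obtain ⟨v, hv, hvx⟩ := hall x
    exact ⟨⟨v, hv⟩, hvx⟩
  let S : Set Ω := {x | x ≠ a}
  let act : MulAction H S :=
    { smul := fun h x => ⟨(h : G) • (x : Ω), fun e => x.2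
        (smul_left_cancel (h : G) (e.trans (show (h : G) • a = a from h.2).symm))⟩
      one_smul := fun x => Subtype.ext (one_smul G (x : Ω))
      mul_smul := fun h h' x => Subtype.ext (mul_smul (h : G) (h' : G) (x : Ω)) }
  have hdS : d ∣ Nat.card S := by
    haveI : Fintype S := Fintype.ofFinite _
    rw [Nat.card_congr (MulAction.selfEquivSigmaOrbits H S), Nat.card_sigma]
    refine Finset.dvd_sum fun ω _ => dvd_of_eq ?_
    rw [hd₀, hhalf a b₀ (ω.out : S) (Ne.symm hab) (ω.out).2]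
    refine Nat.card_congr (Equiv.ofBijective
      (fun x : MulAction.orbit H ((ω.out : S) : Ω) => (⟨⟨(x : Ω), ?_⟩, ?_⟩ : MulAction.orbit H (ω.out : S)))
      ⟨fun x y e => ?_, fun x => ?_⟩)
    · obtain ⟨h, hx⟩ := x.2
      rw [← hx]
      exact (h • (ω.out : S)).2
    · obtain ⟨h, hx⟩ := x.2
      exact ⟨h, Subtype.ext hx⟩
    · exact Subtype.ext (congrArg (fun z : MulAction.orbit H (ω.out : S) => ((z : S) : Ω)) e)
    · obtain ⟨h, hx⟩ := x.2
      exact ⟨⟨((x : S) : Ω), h, congrArg Subtype.val hx⟩, Subtype.ext (Subtype.ext rfl)⟩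
  have hScard : Nat.card S + 1 = Nat.card Ω := by
    rw [Nat.card_coe_set_eq, show S = ({a} : Set Ω)ᶜ from rfl]
    have := Set.ncard_add_ncard_compl ({a} : Set Ω)
    rw [Set.ncard_singleton] at this
    omega
  have hd : ∀ d' : ℕ, c * d' = Nat.card H → d'.Coprime (Nat.card N) := by
    intro d' h
    have hdd : d' = d := Nat.eq_of_mul_eq_mul_left (show 0 < c from Nat.card_pos)
      (h.trans (by rw [mul_comm]; exact (hdc u₀ hu₀ hu₀1).symm))
    rw [hdd, hNcard, ← hScard]
    obtain ⟨k, hk⟩ := hdS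
    rw [hk, Nat.coprime_mul_left_add_right, Nat.coprime_one_right_eq_true]
    trivial
  have hne : ∃ u ∈ N, ∃ v ∈ N, u ≠ 1 ∧ v ≠ 1 ∧ CfsgLib.HalfTransitiveAut.cent H u ≠
      CfsgLib.HalfTransitiveAut.cent H v := by
    by_contra hcon
    push Not at hcon
    refine hab₀ (eq_bot_iff.2 fun h hh => Subgroup.mem_bot.2 (eq_of_smul_eq_smul fun x : Ω => ?_))
    rw [one_smul]
    obtain ⟨v, hv, rfl⟩ := hall x
    rcases eq_or_ne v 1 with rfl | hv1
    · rw [one_smul]; exact (Subgroup.mem_inf.1 hh).1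
    · have hmem : h ∈ CfsgLib.HalfTransitiveAut.cent H v := by
        rw [← hcon u₀ hu₀ v hv hu₀1 hv1, hcent u₀ hu₀, hu₀a]
        exact hh
      rw [hcent v hv] at hmem
      exact (Subgroup.mem_inf.1 hmem).2
  obtain ⟨p, hp, hexp⟩ :=
    CfsgLib.HalfTransitiveAut.exists_prime_exponent H N hnorm c hc hd hne
  have hcomm : IsMulCommutative N := ⟨⟨fun x y => Subtype.ext
    (CfsgLib.HalfTransitiveAut.comm H N hnorm c hc hd hne x x.2 y y.2)⟩⟩
  refine ⟨⟨p, hp, hcomm, hexp⟩, fun M hM hM1 => ?_⟩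
  have hself : ∀ g : G, (∀ v ∈ N, g * v = v * g) → g ∈ N := by
    intro g hg
    obtain ⟨v, hv, hva⟩ := hall (g • a)
    have hgv : g = v := by
      refine eq_of_smul_eq_smul fun x : Ω => ?_
      obtain ⟨w, hw, rfl⟩ := hall x
      rw [← mul_smul, hg w hw, mul_smul, ← hva, ← mul_smul, ← mul_smul,
        CfsgLib.HalfTransitiveAut.comm H N hnorm c hc hd hne w hw v hv]
    rw [hgv]; exact hv
  by_contra hNM
  have hL : M ⊓ N = ⊥ := by
    by_contra h
    refine hNM ?_
    rw [← CfsgLib.HalfTransitiveAut.eq_of_invariant H N hnorm c hc hd hne (M ⊓ N) inf_le_right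
      (fun k hk v hv => Subgroup.mem_inf.2 ⟨hM.conj_mem v (Subgroup.mem_inf.1 hv).1 k,
        hnorm k hk v (Subgroup.mem_inf.1 hv).2⟩) h]
    exact inf_le_left
  refine hM1 (eq_bot_iff.2 fun g hg => ?_)
  rw [← hL]
  refine Subgroup.mem_inf.2 ⟨hg, hself g fun v hv => ?_⟩
  exact (Subgroup.commute_of_normal_of_disjoint M N hM hN (disjoint_iff.2 hL) g v hg hv).eq

end Cfsg.Agent.S3356
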