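import Cfsg.Statements.S3379
import Mathlib

set_option autoImplicit false
open Cfsg
open scoped commutatorElement

namespace Cfsg.Agent.S3379

/-- Let G be a finite group all of whose Sylow subgroups are cyclic. Then G is generated by two elements x and y of coprime orders n and m with x⁻¹yx = y^r, where gcd(r − 1, m) = 1 and r^n ≡ 1 (mod m). -/
theorem result {G : Type*} [Group G] [Finite G]
    (hZ : ∀ (p : ℕ) [Fact p.Prime] (P : Sylow p G), IsCyclic (P : Subgroup G)) :
    ∃ (x y : G) (n m r : ℕ), Subgroup.closure {x, y} = ⊤ ∧ orderOf x = n ∧ orderOf y = m ∧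
      x⁻¹ * y * x = y ^ r ∧ Nat.Coprime (r - 1) m ∧ Nat.Coprime n m ∧ 1 ≤ r ∧ r ^ n % m = 1 % m := by
  classical
  haveI : IsZGroup G := ⟨fun p hp P => by haveI := Fact.mk hp; exact hZ p P⟩
  have hco := IsZGroup.coprime_commutator_index (G := G)
  obtain ⟨H, hH⟩ := Subgroup.exists_right_complement'_of_coprime hco
  haveI : IsCyclic (commutator G) := IsZGroup.isCyclic_commutator G
  haveI : IsCyclic (G ⧸ commutator G) := (inferInstance : IsCyclic (Abelianization G))
  haveI : IsCyclic H := isCyclic_of_surjective _ (hH.symm.QuotientMulEquiv).surjective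
  obtain ⟨y₀, hy₀⟩ := IsCyclic.exists_generator (α := commutator G)
  obtain ⟨x₀, hx₀⟩ := IsCyclic.exists_generator (α := H)
  set y : G := (y₀ : G)
  set x : G := (x₀ : G)
  have hgen : ∀ z ∈ commutator G, z ∈ Subgroup.zpowers y := fun z hz => by
    obtain ⟨k, hk⟩ := hy₀ ⟨z, hz⟩
    exact ⟨k, congrArg Subtype.val hk⟩
  have hgenx : ∀ z ∈ H, z ∈ Subgroup.zpowers x := fun z hz => by
    obtain ⟨k, hk⟩ := hx₀ ⟨z, hz⟩
    exact ⟨k, congrArg Subtype.val hk⟩
  have hm : orderOf y = Nat.card (commutator G) := by
    rw [Subgroup.orderOf_coe]; exact orderOf_eq_card_of_forall_mem_zpowers hy₀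
  have hn : orderOf x = (commutator G).index := by
    rw [Subgroup.orderOf_coe, orderOf_eq_card_of_forall_mem_zpowers hx₀, hH.symm.index_eq_card]
  obtain ⟨r, hr1, hr⟩ : ∃ r : ℕ, 1 ≤ r ∧ x⁻¹ * y * x = y ^ r := by
    have h1 : x⁻¹ * y * x ∈ commutator G := by
      simpa using (inferInstance : (commutator G).Normal).conj_mem y y₀.2 x⁻¹
    obtain ⟨k, hk⟩ := ((isOfFinOrder_of_finite y).mem_powers_iff_mem_zpowers).mpr (hgen _ h1)
    refine ⟨k + orderOf y, by have := orderOf_pos y; omega, ?_⟩
    rw [pow_add, pow_orderOf_eq_one, mul_one]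
    exact hk.symm
  have htop : Subgroup.closure ({x, y} : Set G) = ⊤ := by
    rw [eq_top_iff, ← hH.sup_eq_top, sup_le_iff]
    constructor
    · intro z hz
      exact Subgroup.zpowers_le.mpr (Subgroup.subset_closure (by simp)) (hgen z hz)
    · intro z hz
      exact Subgroup.zpowers_le.mpr (Subgroup.subset_closure (by simp)) (hgenx z hz)
  refine ⟨x, y, orderOf x, orderOf y, r, htop, rfl, rfl, hr, ?_, by rw [hn, hm]; exact hco.symm,
    hr1, ?_⟩
  · -- the commutator subgroup is generated by `y ^ (r - 1)`
    set C := Subgroup.zpowers (y ^ (r - 1))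
    have hxyC : Subgroup.closure ({x, y} : Set G) ≤ Subgroup.normalizer (C : Set G) := by
      rw [Subgroup.closure_le]
      have hconj : ∀ g : G, (g * y ^ (r - 1) * g⁻¹ ∈ C) → g ∈ Subgroup.normalizer (C : Set G) := by
        intro g hg
        rw [Subgroup.mem_normalizer_iff]
        have hmap : C.map (MulAut.conj g).toMonoidHom = C := by
          refine Subgroup.eq_of_le_of_card_ge ?_ ?_
          · rw [Subgroup.map_le_iff_le_comap, Subgroup.zpowers_le]
            exact hg
          · rw [Subgroup.card_map_of_injective (MulAut.conj g).injective]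
        intro z
        constructor
        · intro hz
          rw [← hmap]
          exact ⟨z, hz, by simp⟩
        · intro hz
          rw [← hmap] at hz
          obtain ⟨w, hw, he⟩ := hz
          simp only [MulEquiv.toMonoidHom_eq_coe, MonoidHom.coe_coe, MulAut.conj_apply, mul_left_inj,
            mul_right_inj] at he
          exact he ▸ hw
      rintro g (rfl | rfl)
      · rw [SetLike.mem_coe, ← inv_inv x, inv_mem_iff]
        refine hconj _ ?_
        rw [inv_inv]
        have : x⁻¹ * y ^ (r - 1) * x = (x⁻¹ * y * x) ^ (r - 1) := by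
          simpa using (MulAut.conj x⁻¹).toMonoidHom.map_pow y (r - 1)
        rw [this, hr, ← pow_mul, mul_comm, pow_mul]
        exact Subgroup.pow_mem _ (Subgroup.mem_zpowers _) r
      · refine hconj _ ?_
        rw [← pow_succ', pow_succ, mul_inv_cancel_right]
        exact Subgroup.mem_zpowers _
    haveI hCn : C.Normal := Subgroup.normalizer_eq_top_iff.mp (eq_top_iff.mpr (htop ▸ hxyC))
    have hxy : QuotientGroup.mk' C x * QuotientGroup.mk' C y =
        QuotientGroup.mk' C y * QuotientGroup.mk' C x := by
      rw [← map_mul, ← map_mul]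
      refine (QuotientGroup.eq_iff_div_mem).mpr ?_
      have e1 : y * x = x * y ^ r := by rw [← hr]; group
      rw [e1, div_eq_mul_inv]
      have e2 : x * y * (x * y ^ r)⁻¹ = x * (y ^ (r - 1))⁻¹ * x⁻¹ := by
        obtain ⟨r, rfl⟩ : ∃ s, r = s + 1 := ⟨r - 1, by omega⟩
        rw [Nat.add_sub_cancel, pow_succ]
        group
      rw [e2]
      exact hCn.conj_mem _ (inv_mem (Subgroup.mem_zpowers _)) x
    have hcomm : commutator G ≤ C := by
      have hgq : Subgroup.closure ({QuotientGroup.mk' C x, QuotientGroup.mk' C y} : Set (G ⧸ C)) = ⊤ := by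
        rw [← Set.image_pair, ← MonoidHom.map_closure, htop,
          Subgroup.map_top_of_surjective _ (QuotientGroup.mk'_surjective C)]
      have hcom : ∀ a b : G ⧸ C, a * b = b * a := by
        intro a b
        have hle : Subgroup.closure ({QuotientGroup.mk' C x, QuotientGroup.mk' C y} : Set (G ⧸ C)) ≤
            Subgroup.centralizer ({QuotientGroup.mk' C x, QuotientGroup.mk' C y} : Set (G ⧸ C)) := by
          rw [Subgroup.closure_le]
          rintro g (rfl | rfl) <;> rw [SetLike.mem_coe, Subgroup.mem_centralizer_iff] <;>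
            rintro h (rfl | rfl) <;> first | rfl | exact hxy | exact hxy.symm
        rw [hgq] at hle
        have hcen : ∀ g : G ⧸ C, g ∈ Subgroup.center (G ⧸ C) := by
          have : Subgroup.closure ({QuotientGroup.mk' C x, QuotientGroup.mk' C y} : Set (G ⧸ C)) ≤
              Subgroup.center (G ⧸ C) := by
            rw [Subgroup.closure_le]
            intro g hg
            rw [SetLike.mem_coe, Subgroup.mem_center_iff]
            intro k
            exact ((Subgroup.mem_centralizer_iff.mp (hle (Subgroup.mem_top k))) g hg).symm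
          intro g; rw [hgq] at this; exact this (Subgroup.mem_top g)
        exact ((Subgroup.mem_center_iff.mp (hcen b)) a)
      rw [commutator_def, Subgroup.commutator_le]
      intro a _ b _
      have e : QuotientGroup.mk' C (⁅a, b⁆ : G) = 1 := by
        rw [map_commutatorElement, commutatorElement_def, hcom (QuotientGroup.mk' C a)]
        group
      exact (QuotientGroup.eq_one_iff _).mp e
    have hy : y ∈ C := hcomm y₀.2
    have hcard : orderOf (y ^ (r - 1)) = orderOf y := by
      refine Nat.dvd_antisymm (orderOf_pow_dvd _) ?_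
      exact orderOf_dvd_of_mem_zpowers hy
    rcases Nat.eq_zero_or_pos (r - 1) with h0 | h0
    · rw [h0, pow_zero, orderOf_one] at hcard
      rw [← hcard]
      exact Nat.coprime_one_right _
    · rw [orderOf_pow' _ h0.ne'] at hcard
      have hg := Nat.gcd_dvd_left (orderOf y) (r - 1)
      have h1 : Nat.gcd (orderOf y) (r - 1) = 1 := by
        obtain ⟨t, ht⟩ := hg
        have hpos : 0 < Nat.gcd (orderOf y) (r - 1) := Nat.gcd_pos_of_pos_right _ h0
        have htpos : 0 < t := by
          rcases Nat.eq_zero_or_pos t with h | h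
          · rw [h, mul_zero] at ht; exact absurd ht (orderOf_pos y).ne'
          · exact h
        have h2 : orderOf y / Nat.gcd (orderOf y) (r - 1) = t := by
          conv_lhs => arg 1; rw [ht]
          exact Nat.mul_div_cancel_left t hpos
        rw [h2] at hcard
        refine Nat.eq_of_mul_eq_mul_right htpos ?_
        rw [one_mul]
        exact ht.symm.trans hcard.symm
      exact Nat.Coprime.symm h1
  · have hpow : ∀ j : ℕ, (x ^ j)⁻¹ * y * x ^ j = y ^ (r ^ j) := by
      intro j
      induction j with
      | zero => simp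
      | succ j ih =>
        have : x⁻¹ * y ^ (r ^ j) * x = (x⁻¹ * y * x) ^ (r ^ j) := by
          simpa using (MulAut.conj x⁻¹).toMonoidHom.map_pow y (r ^ j)
        calc (x ^ (j + 1))⁻¹ * y * x ^ (j + 1) = x⁻¹ * ((x ^ j)⁻¹ * y * x ^ j) * x := by
              rw [pow_succ]; group
          _ = y ^ (r ^ (j + 1)) := by rw [ih, this, hr, ← pow_mul, pow_succ, mul_comm]
    have h1 := hpow (orderOf x)
    rw [pow_orderOf_eq_one, inv_one, one_mul, mul_one] at h1
    exact pow_eq_pow_iff_modEq.mp (h1.symm.trans (pow_one y).symm)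

end Cfsg.Agent.S3379
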