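import Cfsg.Statements.S3358
import Cfsg.Agent.Lib.PerfectCompl.ZPres
import Cfsg.Agent.Lib.PerfectCompl.Solvable
import Cfsg.Agent.S3379

set_option autoImplicit false
open Cfsg
open CfsgLib.PerfectCompl CfsgLib.FrobCompl

namespace Cfsg.Agent.S3358

/-- Structure of solvable Frobenius complements. Let G be a finite solvable group that occurs as a Frobenius complement. Then G has a normal subgroup G₀ such that G/G₀ is isomorphic to a subgroup of Sym(4) (G₀ is the kernel of a homomorphism to Sym(4)), all Sylow subgroups of G₀ are cyclic, and G₀ has a presentation ⟨x, y | x^n = 1, y^m = 1, x⁻¹ y x = y^r⟩ with n, m ≥ 1, gcd(r − 1, m) = gcd(n, m) = 1 and r^(n/n′) ≡ 1 (mod m), where n′ is the product of the distinct primes dividing n. -/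
theorem result {G : Type*} [Group G] [Finite G] (hsol : Group.IsSolvable G)
    (hFC : ∃ (L : Type) (_ : Group L) (_ : Finite L) (H : Subgroup L), Cfsg.IsFrobeniusComplement H ∧ Nonempty (G ≃* H)) :
    ∃ G₀ : Subgroup G, G₀.Normal ∧
      (∃ f : G →* Equiv.Perm (Fin 4), f.ker = G₀) ∧
      (∀ (p : ℕ) [Fact p.Prime] (P : Sylow p G₀), IsCyclic P) ∧
      ∃ n m r : ℕ, 0 < n ∧ 0 < m ∧ Nat.Coprime (r - 1) m ∧ Nat.Coprime n m ∧ 1 ≤ r ∧
        r ^ (n / ∏ p ∈ n.primeFactors, p) % m = 1 % m ∧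
        Nonempty (G₀ ≃* PresentedGroup
          ({FreeGroup.of (0 : Fin 2) ^ n, FreeGroup.of (1 : Fin 2) ^ m,
            (FreeGroup.of (0 : Fin 2))⁻¹ * FreeGroup.of 1 * FreeGroup.of 0 * (FreeGroup.of (1 : Fin 2) ^ r)⁻¹} :
            Set (FreeGroup (Fin 2)))) := by
  classical
  obtain ⟨L, _, _, H, hH, ⟨e⟩⟩ := hFC
  have hG : HasFpf G := hasFpf_of_complement hH e
  have pres : ∀ N : Subgroup G, ZSylow N → ∃ n m r : ℕ, 0 < n ∧ 0 < m ∧ Nat.Coprime (r - 1) m ∧ Nat.Coprime n m ∧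
      1 ≤ r ∧ r ^ (n / ∏ p ∈ n.primeFactors, p) % m = 1 % m ∧ Nonempty (N ≃* PresentedGroup (metaRels n m r)) := by
    intro N hN
    obtain ⟨x, y, n, m, r, hgen, hx, hy, hr, hc1, hc2, hr1, -⟩ := Cfsg.Agent.S3379.result (G := N) hN
    exact ⟨n, m, r, hx ▸ orderOf_pos x, hy ▸ orderOf_pos y, hc1, hc2, hr1,
      fpf_pow_condition (hG.of_injective N.subtype N.subtype_injective) hx hy hc2 hr1 hr,
      metacyclic_iso hgen hx hy hc2 hr⟩
  by_cases hP : ∀ P : Sylow 2 G, IsCyclic (P : Subgroup G)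
  · have hz : ZSylow (⊤ : Subgroup G) := by
      intro p hp Q
      by_cases hp2 : p = 2
      · subst hp2
        have hi : IsPGroup 2 ((Q : Subgroup (⊤ : Subgroup G)).map (Subgroup.subtype _)) := Q.2.map _
        obtain ⟨R, hR⟩ := hi.exists_le_sylow
        haveI := hP R
        haveI := Subgroup.isCyclic_of_le hR
        exact (Subgroup.equivMapOfInjective _ _ (Subgroup.subtype_injective _)).isCyclic.mpr inferInstance
      · exact cyclic_sylow_odd hG hp2 Q
    exact ⟨⊤, inferInstance, ⟨1, MonoidHom.ker_one⟩, hz, pres ⊤ hz⟩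
  push Not at hP
  obtain ⟨P, hP⟩ := hP
  obtain ⟨N, hNn, hNz, -, hf, -⟩ := solvable_structure hG hsol
    (fun Q h => hP ((Q.equiv P).isCyclic.mp h))
  exact ⟨N, hNn, hf, hNz, pres N hNz⟩

end Cfsg.Agent.S3358
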