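import Cfsg.Statements.S3362
import Cfsg.Agent.Lib.Ternary.M12Explicit
-- import your own Cfsg.Agent.* helpers here

set_option autoImplicit false
open Cfsg

namespace Cfsg.Agent.S3362

/-- An explicit construction of the Mathieu groups of degrees 11 and 12. On the points 0, …, 11 let s = (3 4 5)(6 7 8)(9 10 11), t = (3 6 9)(4 7 10)(5 8 11), u = (4 6 5 9)(7 8 11 10), v = (4 7 5 11)(6 10 9 8), w = (4 10 5 8)(6 11 9 7), x₁ = (0 3)(6 7)(8 10)(9 11), x₂ = (0 1)(6 9)(7 10)(8 11), x₃ = (1 2)(6 11)(7 9)(8 10) (each written as a product of transpositions). Then the group M₁₂ generated by all eight permutations is sharply 5-transitive on the 12 points and has order 95040, and the group M₁₁ generated by the first seven has order 7920 and is the stabilizer of the point 2 in M₁₂. -/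
theorem result
    (s t u v w x₁ x₂ x₃ : Equiv.Perm (Fin 12))
    (hs : s = Equiv.swap (3 : Fin 12) 5 * Equiv.swap (3 : Fin 12) 4 * Equiv.swap (6 : Fin 12) 8 * Equiv.swap (6 : Fin 12) 7 * Equiv.swap (9 : Fin 12) 11 * Equiv.swap (9 : Fin 12) 10) (ht : t = Equiv.swap (3 : Fin 12) 9 * Equiv.swap (3 : Fin 12) 6 * Equiv.swap (4 : Fin 12) 10 * Equiv.swap (4 : Fin 12) 7 * Equiv.swap (5 : Fin 12) 11 * Equiv.swap (5 : Fin 12) 8)
    (hu : u = Equiv.swap (4 : Fin 12) 9 * Equiv.swap (4 : Fin 12) 5 * Equiv.swap (4 : Fin 12) 6 * Equiv.swap (7 : Fin 12) 10 * Equiv.swap (7 : Fin 12) 11 * Equiv.swap (7 : Fin 12) 8) (hv : v = Equiv.swap (4 : Fin 12) 11 * Equiv.swap (4 : Fin 12) 5 * Equiv.swap (4 : Fin 12) 7 * Equiv.swap (6 : Fin 12) 8 * Equiv.swap (6 : Fin 12) 9 * Equiv.swap (6 : Fin 12) 10) (hw : w = Equiv.swap (4 : Fin 12) 8 * Equiv.swap (4 : Fin 12) 5 * Equiv.swap (4 : Fin 12) 10 * Equiv.swap (6 : Fin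 12) 7 * Equiv.swap (6 : Fin 12) 9 * Equiv.swap (6 : Fin 12) 11)
    (hx₁ : x₁ = Equiv.swap (0 : Fin 12) 3 * Equiv.swap (6 : Fin 12) 7 * Equiv.swap (8 : Fin 12) 10 * Equiv.swap (9 : Fin 12) 11) (hx₂ : x₂ = Equiv.swap (0 : Fin 12) 1 * Equiv.swap (6 : Fin 12) 9 * Equiv.swap (7 : Fin 12) 10 * Equiv.swap (8 : Fin 12) 11)
    (hx₃ : x₃ = Equiv.swap (1 : Fin 12) 2 * Equiv.swap (6 : Fin 12) 11 * Equiv.swap (7 : Fin 12) 9 * Equiv.swap (8 : Fin 12) 10)
    (M₁₂ M₁₁ : Subgroup (Equiv.Perm (Fin 12))) (hM₁₂ : M₁₂ = Subgroup.closure {s, t, u, v, w, x₁, x₂, x₃})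
    (hM₁₁ : M₁₁ = Subgroup.closure {s, t, u, v, w, x₁, x₂}) :
    MulAction.IsMultiplyPretransitive M₁₂ (Fin 12) 5 ∧ (∀ y : Fin 5 ↪ Fin 12, MulAction.stabilizer M₁₂ y = ⊥) ∧
    Nat.card M₁₂ = 95040 ∧ Nat.card M₁₁ = 7920 ∧
    M₁₁ = M₁₂ ⊓ MulAction.stabilizer (Equiv.Perm (Fin 12)) (2 : Fin 12) := by
  have hset : ({s, t, u, v, w, x₁, x₂, x₃} : Set (Equiv.Perm (Fin 12))) = Set.range CfsgLib.Ternary.M12.gen := by
    subst hs ht hu hv hw hx₁ hx₂ hx₃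
    ext z
    simp only [CfsgLib.Ternary.M12.gen, Matrix.range_cons, Matrix.range_empty, Set.mem_insert_iff, Set.mem_singleton_iff, Set.mem_union, Set.mem_empty_iff_false, or_false, or_assoc]
  have hset' : ({s, t, u, v, w, x₁, x₂} : Set (Equiv.Perm (Fin 12))) = Set.range CfsgLib.Ternary.M12.gen7 := by
    subst hs ht hu hv hw hx₁ hx₂ hx₃
    ext z
    simp only [Set.mem_range, Fin.exists_fin_succ, IsEmpty.exists_iff, or_false, Set.mem_insert_iff, Set.mem_singleton_iff]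
    simp only [CfsgLib.Ternary.M12.gen7, CfsgLib.Ternary.M12.gen, Fin.castSucc_zero, Fin.castSucc_succ]
    simp [eq_comm]
  have e12 : M₁₂ = CfsgLib.Ternary.M12.K12 := by rw [hM₁₂, hset]; rfl
  have e11 : M₁₁ = CfsgLib.Ternary.M12.K11 := by rw [hM₁₁, hset']; rfl
  subst e12 e11
  exact ⟨CfsgLib.Ternary.M12.pretransitive12, CfsgLib.Ternary.M12.stabilizer12, CfsgLib.Ternary.M12.natCard12,
    CfsgLib.Ternary.M12.natCard11, CfsgLib.Ternary.M12.K11_eq⟩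

end Cfsg.Agent.S3362
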