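import Cfsg.Statements.S3365
import Cfsg.Agent.Lib.FixityFour.TwoThree
import Cfsg.Agent.Lib.FixityFour.FourCases
import Cfsg.Agent.Lib.FixityFour.OddBranch
import Cfsg.Agent.Lib.FixityFour.ThreeCore

set_option autoImplicit false
set_option linter.style.haveILetI false
open Cfsg

namespace Cfsg.Agent.S3365

/-- Finite simple groups acting with fixity 4. Let G be a finite non-abelian simple group acting faithfully and transitively on a finite set so that every non-identity element fixes at most 4 points and some non-identity element fixes exactly 4 (fixity 4). Let P be a Sylow 3-subgroup, S a Sylow 2-subgroup, f the largest number of fixed points of an involution of G, and a a point. Then one of the following holds: (1) f ≥ 1 and G has a strongly embedded subgroup; (2) 1 ≤ f ≤ 3 and S is dihedral or semidihedral; (3) f = 4 and G has sectional 2-rank at most 4; (4) the point stabilizer G_a has odd order divisible by 3 and either G has a strongly 3-embedded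 subgroup (a proper subgroup H of order divisible by 3 such that H ∩ gHg⁻¹ has order prime to 3 for every element g outside H), or |P| = 3 and a Sylow 2-subgroup of N_G(P) has order at most 4, or P is elementary abelian of order 9, or P is extraspecial of order 27 and exponent 3, or P is isomorphic to a Sylow 3-subgroup of Sym(9) (the wreath product C₃ ≀ C₃); (5) G_a has order prime to 6. -/
theorem result {G Ω : Type*} [Group G] [Finite G] [IsSimpleGroup G] (hna : ¬ IsMulCommutative G)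
    [MulAction G Ω] [FaithfulSMul G Ω] [Finite Ω] (htrans : MulAction.IsPretransitive G Ω)
    (hfix : ∀ g : G, g ≠ 1 → Nat.card (MulAction.fixedBy Ω g) ≤ 4)
    (hfix4 : ∃ g : G, g ≠ 1 ∧ Nat.card (MulAction.fixedBy Ω g) = 4)
    (P : Sylow 3 G) (S : Sylow 2 G) (f : ℕ)
    (hf : ∀ g : G, orderOf g = 2 → Nat.card (MulAction.fixedBy Ω g) ≤ f)
    (hf' : ∃ g : G, orderOf g = 2 ∧ Nat.card (MulAction.fixedBy Ω g) = f) (a : Ω) :
    (1 ≤ f ∧ ∃ H : Subgroup G, Cfsg.IsStronglyEmbedded H) ∨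
    (1 ≤ f ∧ f ≤ 3 ∧ ((∃ n : ℕ, Nonempty ((S : Subgroup G) ≃* DihedralGroup n)) ∨ Cfsg.IsQuasiDihedral (S : Subgroup G))) ∨
    (f = 4 ∧ Cfsg.SectionalPRankLE 2 4 G) ∨
    (Odd (Nat.card (MulAction.stabilizer G a)) ∧ 3 ∣ Nat.card (MulAction.stabilizer G a) ∧
      ((∃ H : Subgroup G, H ≠ ⊤ ∧ 3 ∣ Nat.card H ∧ ∀ g : G, g ∉ H → ¬ 3 ∣ Nat.card ↥(H ⊓ H.map (MulAut.conj g).toMonoidHom)) ∨
       (Nat.card P = 3 ∧ ∀ T : Sylow 2 (Subgroup.normalizer ((P : Subgroup G) : Set G)), Nat.card T ≤ 4) ∨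
       (Nat.card P = 9 ∧ ∀ x ∈ (P : Subgroup G), x ^ 3 = 1) ∨
       (Nat.card P = 27 ∧ Cfsg.IsExtraspecial 3 (P : Subgroup G) ∧ ∀ x ∈ (P : Subgroup G), x ^ 3 = 1) ∨
       (∃ T : Sylow 3 (Equiv.Perm (Fin 9)), Nonempty ((P : Subgroup G) ≃* (T : Subgroup (Equiv.Perm (Fin 9))))))) ∨
    (Nat.card (MulAction.stabilizer G a)).Coprime 6 := by
  classical
  haveI : Fact (Nat.Prime 2) := ⟨Nat.prime_two⟩
  haveI : Fact (Nat.Prime 3) := ⟨Nat.prime_three⟩
  have B : CfsgLib.FixityFour.Fixity G Ω := ⟨hna, htrans, hfix⟩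
  obtain ⟨g₀, hg₀, hg₀f⟩ := hf'
  have hf4 : f ≤ 4 := hg₀f ▸ hfix g₀ (fun h => by rw [h, orderOf_one] at hg₀; omega)
  rcases Nat.eq_zero_or_pos f with hf0 | hf1
  · -- no involution has fixed points
    have hodd : Odd (Nat.card (MulAction.stabilizer G a)) := by
      by_contra h
      rw [Nat.not_odd_iff_even] at h
      obtain ⟨u, hu⟩ := exists_prime_orderOf_dvd_card' 2 (even_iff_two_dvd.mp h)
      have h1 := hf (u : G) (by rwa [Subgroup.orderOf_coe])
      have h2 : (MulAction.fixedBy Ω (u : G)).Nonempty := ⟨a, u.2⟩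
      rw [hf0, Nat.card_coe_set_eq] at h1
      have h3 := (Set.ncard_pos (Set.toFinite _)).mpr h2
      omega
    by_cases h3 : 3 ∣ Nat.card (MulAction.stabilizer G a)
    · refine Or.inr (Or.inr (Or.inr (Or.inl ⟨hodd, h3, ?_⟩)))
      rcases CfsgLib.FixityFour.odd_branch B a hodd h3 with h | ⟨P₀, y, hyP, hy, hC, hinv⟩
      · exact Or.inl h
      let e : (P₀ : Subgroup G) ≃* (P : Subgroup G) := Sylow.equiv P₀ P
      rcases CfsgLib.FixityFour.three_core hna P₀ hyP hy hC hinv with ⟨h9, hexp⟩ | ⟨T, ⟨eT⟩⟩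
      · refine Or.inr (Or.inr (Or.inl ⟨(Nat.card_congr e.toEquiv).symm.trans h9, fun x hx => ?_⟩))
        have h1 : e.symm ⟨x, hx⟩ ^ 3 = 1 := Subtype.ext (by simpa using hexp _ (e.symm ⟨x, hx⟩).2)
        rw [← map_pow] at h1
        have h2 := e.symm.injective (h1.trans e.symm.map_one.symm)
        simpa using congrArg Subtype.val h2
      · exact Or.inr (Or.inr (Or.inr (Or.inr ⟨T, ⟨e.symm.trans eT⟩⟩)))
    · refine Or.inr (Or.inr (Or.inr (Or.inr ?_)))
      rw [show (6 : ℕ) = 2 * 3 from rfl, Nat.coprime_mul_iff_right]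
      exact ⟨Nat.coprime_two_right.mpr hodd, (Nat.prime_three.coprime_iff_not_dvd.mpr h3).symm⟩
  · rcases Nat.lt_or_ge f 4 with hf3 | hf4'
    · rcases CfsgLib.FixityFour.small_f B hf1 (Nat.le_of_lt_succ hf3) hf ⟨g₀, hg₀, hg₀f⟩ S a with h | h | h
      · exact Or.inl ⟨hf1, h⟩
      · exact Or.inr (Or.inl ⟨hf1, Nat.le_of_lt_succ hf3, Or.inl h⟩)
      · exact Or.inr (Or.inl ⟨hf1, Nat.le_of_lt_succ hf3, Or.inr h⟩)
    · obtain rfl : f = 4 := by omega
      rcases CfsgLib.FixityFour.four_cases B S hf ⟨g₀, hg₀, hg₀f⟩ with h | h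
      · exact Or.inl ⟨hf1, h⟩
      · exact Or.inr (Or.inr (Or.inl ⟨rfl, CfsgLib.FixityFour.sectional_of_sylow S h⟩))

end Cfsg.Agent.S3365
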