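import Cfsg.Statements.S3366
import Cfsg.Agent.Lib.Classical.SympTrans
import Cfsg.Agent.Lib.Classical.SympOrder
import Cfsg.Agent.Lib.FormRep.Symplectic
import Cfsg.Agent.Lib.Fitting.Basic

set_option autoImplicit false
set_option linter.style.haveILetI false
open Cfsg

namespace Cfsg.Agent.S3366

open scoped commutatorElement

/-- The module. -/
abbrev V3 : Type := Fin 2 → ZMod 3

/-- The group acting. -/
abbrev H3 : Type := Matrix.SpecialLinearGroup (Fin 2) (ZMod 3)

/-- The alternating form. -/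
def om (v w : V3) : ZMod 3 := v 0 * w 1 - v 1 * w 0

/-- The action on vectors. -/
def act (h : H3) (v : V3) : V3 := (h : Matrix (Fin 2) (Fin 2) (ZMod 3)).mulVec v

/-- The laws of the extension. -/
structure Law {Y : Type*} [Group Y] (ι : V3 → Y) (zp : ZMod 3 → Y) (θ : H3 →* Y) : Prop where
  zadd : ∀ k l, zp k * zp l = zp (k + l)
  zι : ∀ k v, zp k * ι v = ι v * zp k
  zθ : ∀ k h, zp k * θ h = θ h * zp k
  mul : ∀ v w, ι v * ι w = ι (v + w) * zp (2 * om v w)
  conj : ∀ h v, θ h * ι v = ι (act h v) * θ h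

/-- The normal form. -/
def nf {Y : Type*} [Group Y] (ι : V3 → Y) (zp : ZMod 3 → Y) (θ : H3 →* Y)
    (t : V3 × ZMod 3 × H3) : Y := ι t.1 * zp t.2.1 * θ t.2.2

theorem Law.nf_mul {Y : Type*} [Group Y] {ι : V3 → Y} {zp : ZMod 3 → Y} {θ : H3 →* Y}
    (L : Law ι zp θ) (v w : V3) (k l : ZMod 3) (h g : H3) :
    nf ι zp θ (v, k, h) * nf ι zp θ (w, l, g) =
      nf ι zp θ (v + act h w, k + l + 2 * om v (act h w), h * g) := by
  simp only [nf, map_mul]
  obtain ⟨u, hu⟩ : ∃ u, act h w = u := ⟨_, rfl⟩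
  rw [hu]
  calc ι v * zp k * θ h * (ι w * zp l * θ g) = ι v * zp k * (θ h * ι w) * zp l * θ g := by group
    _ = ι v * zp k * ι u * (θ h * zp l) * θ g := by rw [L.conj, hu]; group
    _ = ι v * (zp k * ι u) * zp l * θ h * θ g := by rw [← L.zθ]; group
    _ = ι v * ι u * (zp k * zp l) * θ h * θ g := by rw [L.zι]; group
    _ = ι (v + u) * (zp (2 * om v u) * zp (k + l)) * θ h * θ g := by rw [L.mul, L.zadd]; group
    _ = ι (v + u) * zp (k + l + 2 * om v u) * (θ h * θ g) := by
        rw [L.zadd, add_comm (2 * om v u)]; group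

/-- Two groups with the laws. -/
theorem exists_hom {X Y : Type*} [Group X] [Group Y] {ι : V3 → X} {zp : ZMod 3 → X} {θ : H3 →* X}
    {ι' : V3 → Y} {zp' : ZMod 3 → Y} {θ' : H3 →* Y} (L : Law ι zp θ) (L' : Law ι' zp' θ')
    (hb : Function.Bijective (nf ι zp θ)) (hi : Function.Injective (nf ι' zp' θ')) :
    ∃ φ : X →* Y, Function.Injective φ ∧ ∀ t, φ (nf ι zp θ t) = nf ι' zp' θ' t := by
  let e := Equiv.ofBijective _ hb
  have hφ : ∀ t, e.symm (nf ι zp θ t) = t := e.symm_apply_apply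
  refine ⟨MonoidHom.mk' (fun x => nf ι' zp' θ' (e.symm x)) fun x y => ?_,
    hi.comp e.symm.injective, fun t => congrArg (fun s => nf ι' zp' θ' s) (hφ t)⟩
  obtain ⟨⟨v, k, h⟩, rfl⟩ := hb.2 x
  obtain ⟨⟨w, l, g⟩, rfl⟩ := hb.2 y
  rw [L.nf_mul, hφ, hφ, hφ, L'.nf_mul]

theorem three_eq_zero : (3 : ZMod 3) = 0 := rfl

theorem zmod3_cases : ∀ d : ZMod 3, d = 0 ∨ d = 1 ∨ d = -1 := by decide

theorem two_ne : (2 : ZMod 3) ≠ 0 := by decide

theorem one_ne : (1 : ZMod 3) ≠ 0 := by decide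

theorem om_twice : om (![1, 0] + ![1, 0] : V3) ![0, 1] ≠ 0 := by unfold om; decide

theorem sl_two_squares : ∀ g : H3, ∃ a b : H3, g = a * a * (b * b) := by decide +kernel

theorem sl_normal_minus : ∀ g : H3, g ≠ 1 →
    ∃ h : H3, g = -1 ∨ g * g = -1 ∨ g * g * g = -1 ∨
      g * h * g⁻¹ * h⁻¹ * (g * h * g⁻¹ * h⁻¹) = -1 ∨ g * h * g⁻¹ * h⁻¹ = -1 := by decide +kernel

theorem sl_fix_card : ∀ a : V3, a ≠ 0 →
    (Finset.univ.filter fun h : H3 => act h a = a).card ≤ 3 := by
  unfold act; decide +kernel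

/-- The rotation. -/
def rot : H3 := ⟨!![0, -1; 1, 0], by decide⟩

theorem rot_facts : rot * rot = -1 ∧ rot ^ 4 = 1 ∧ (-1 : H3) ≠ 1 ∧ Fintype.card H3 = 24 := by
  decide +kernel

theorem om_nondeg : ∀ v : V3, om v ![1, 0] = 0 → om v ![0, 1] = 0 → v = 0 := by
  unfold om; decide +kernel

theorem det_of_om (A : Matrix (Fin 2) (Fin 2) (ZMod 3))
    (h : om (A.mulVec ![1, 0]) (A.mulVec ![0, 1]) = om ![1, 0] ![0, 1]) : A.det = 1 := by
  simp [om, Matrix.mulVec, dotProduct, Fin.sum_univ_two] at h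
  rw [Matrix.det_fin_two, ← h]
  ring

set_option maxHeartbeats 8000000 in
/-- The abstract group carries the laws. -/
theorem exists_law {X : Type*} [Group X] [Finite X]
    (hR : Cfsg.IsExtraspecial 3 (Cfsg.pCore 3 X)) (hRcard : Nat.card (Cfsg.pCore 3 X) = 27)
    (hRexp : ∀ r ∈ Cfsg.pCore 3 X, r ^ 3 = 1)
    (e : X ⧸ Cfsg.pCore 3 X ≃* Matrix.SpecialLinearGroup (Fin 2) (ZMod 3))
    (hO2 : Cfsg.pCore 2 X = ⊥)
    (hE : ∃ E : Subgroup X, IsMulCommutative E ∧ (∀ a ∈ E, a ^ 3 = 1) ∧ Nat.card E = 27) :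
    ∃ (ι : V3 → X) (zp : ZMod 3 → X) (θ : H3 →* X), Law ι zp θ ∧
      Function.Bijective (nf ι zp θ) := by
  classical
  haveI : Fact (Nat.Prime 3) := ⟨Nat.prime_three⟩
  set R := Cfsg.pCore 3 X with hRdef
  haveI hRn : R.Normal := CfsgLib.Fitting.pCore_normal 3
  have hX : Nat.card X = 648 := by
    have h1 := Subgroup.card_eq_card_quotient_mul_card_subgroup R
    rw [hRcard, Nat.card_congr e.toEquiv, Nat.card_eq_fintype_card (α := H3), rot_facts.2.2.2] at h1
    omega
  let π : X →* H3 := e.toMonoidHom.comp (QuotientGroup.mk' R)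
  have hπ : Function.Surjective π := e.surjective.comp (QuotientGroup.mk'_surjective R)
  have hπR : ∀ x, π x = 1 ↔ x ∈ R := fun x => by
    show e (QuotientGroup.mk x) = 1 ↔ _
    rw [← map_one e, e.injective.eq_iff, QuotientGroup.eq_one_iff]
  have hR3 : ∀ r ∈ R, r * r * r = 1 := fun r hr => by
    have := hRexp r hr; rwa [pow_succ, pow_two] at this
  -- the centre of `R`
  set Z := (Subgroup.center R).map R.subtype with hZdef
  haveI hZn : Z.Normal := ConjAct.normal_of_characteristic_of_normal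
  have hZR : Z ≤ R := Subgroup.map_subtype_le _
  have hZ3 : Nat.card Z = 3 := by
    rw [hZdef, Subgroup.card_map_of_injective R.subtype_injective]; exact hR.2
  have hZc : ∀ z ∈ Z, ∀ r ∈ R, z * r = r * z := by
    rintro _ ⟨z, hz, rfl⟩ r hr
    exact congrArg R.subtype ((Subgroup.mem_center_iff.mp hz ⟨r, hr⟩).symm)
  have hmemZ : ∀ x ∈ R, (∀ r ∈ R, x * r = r * x) → x ∈ Z := fun x hx h =>
    ⟨⟨x, hx⟩, Subgroup.mem_center_iff.mpr fun r => Subtype.ext (h r r.2).symm, rfl⟩
  have hZcent : ∀ z ∈ Z, ∀ g : X, z * g = g * z := by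
    -- the action on a group of order three is trivial
    intro z hz g
    rcases eq_or_ne z 1 with rfl | hz1
    · rw [one_mul, mul_one]
    have hgen : ∀ w ∈ Z, w = 1 ∨ w = z ∨ w = z * z := by
      intro w hw
      have h1 : (⟨w, hw⟩ : Z) ∈ Subgroup.zpowers (⟨z, hz⟩ : Z) :=
        mem_zpowers_of_prime_card hZ3 (fun h => hz1 (congrArg Subtype.val h))
      obtain ⟨i, hi⟩ := mem_powers_iff_mem_zpowers.mpr h1
      have hi' : z ^ i = w := congrArg Subtype.val hi
      rw [← hi', ← Nat.mod_add_div i 3, pow_add, pow_mul, hRexp z (hZR hz), one_pow, mul_one]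
      have : i % 3 = 0 ∨ i % 3 = 1 ∨ i % 3 = 2 := by omega
      rcases this with h | h | h <;> rw [h] <;> simp [pow_two]
    have hz3 := hR3 z (hZR hz)
    have hsq : ∀ x : X, x * x * z = z * (x * x) := by
      intro x
      rcases hgen _ (hZn.conj_mem z hz x) with h | h | h
      · exact absurd (conj_eq_one_iff.mp h) hz1
      · have h' : x * z = z * x := mul_inv_eq_iff_eq_mul.mp h
        calc x * x * z = x * (x * z) := by group
          _ = x * z * x := by rw [h', ← mul_assoc]; rw [h']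
          _ = z * (x * x) := by rw [h']; group
      · calc x * x * z = x * (x * z * x⁻¹) * x⁻¹ * (x * x) := by group
          _ = x * z * x⁻¹ * (x * z * x⁻¹) * (x * x) := by
              rw [show x * (x * z * x⁻¹) * x⁻¹ = x * (z * z) * x⁻¹ by rw [h]]; group
          _ = z * z * z * z * (x * x) := by rw [h]; group
          _ = z * (x * x) := by rw [hz3, one_mul]
    obtain ⟨a, b, hab⟩ := sl_two_squares (π g)
    obtain ⟨x, rfl⟩ := hπ a
    obtain ⟨y, rfl⟩ := hπ b
    have hr : (x * x * (y * y))⁻¹ * g ∈ R := by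
      rw [← hπR, map_mul, map_inv, hab, map_mul, map_mul, map_mul, inv_mul_cancel]
    have h1 : Commute z (x * x * (y * y)) :=
      (show Commute z (x * x) from (hsq x).symm).mul_right (show Commute z (y * y) from (hsq y).symm)
    have := h1.mul_right (show Commute z _ from hZc z hz _ hr)
    rwa [mul_inv_cancel_left] at this
  -- the involution
  obtain ⟨g₁, hg₁⟩ := hπ rot
  set y := g₁ ^ 9 with hy
  have hg12 : g₁ ^ 12 = 1 := by
    have h1 : g₁ ^ 4 ∈ R := by rw [← hπR, map_pow, hg₁, rot_facts.2.1]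
    have h2 := hRexp _ h1
    rwa [← pow_mul] at h2
  have hy4 : y ^ 4 = 1 := by
    rw [hy, ← pow_mul, show 9 * 4 = 12 * 3 from rfl, pow_mul, hg12, one_pow]
  have hπy : π y = rot := by
    rw [hy, map_pow, hg₁, show 9 = 4 + 4 + 1 from rfl, pow_succ, pow_add, rot_facts.2.1, one_mul, one_mul]
  obtain ⟨t, ht⟩ : ∃ t, t = y * y := ⟨_, rfl⟩
  have ht2 : t * t = 1 := by rw [ht, ← hy4]; simp [pow_succ, mul_assoc]
  have hti : t⁻¹ = t := inv_eq_of_mul_eq_one_right ht2
  have hπt : π t = -1 := by rw [ht, map_mul, hπy, rot_facts.1]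
  have hconjR : ∀ g : X, ∀ r ∈ R, g * r * g⁻¹ ∈ R := fun g r hr => hRn.conj_mem r hr g
  have htR : ∀ r ∈ R, t * r * t ∈ R := fun r hr => by
    have := hconjR t r hr; rwa [hti] at this
  -- `t` does not centralize `R`
  have hnc : ¬ ∀ r ∈ R, t * r = r * t := by
    intro hall
    have hN : (Subgroup.zpowers t).Normal := by
      have hc : ∀ g : X, g * t * g⁻¹ = t := by
        intro g
        have hm : g * t * g⁻¹ * t ∈ R := by
          rw [← hπR, map_mul, map_mul, map_mul, map_inv, hπt]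
          simp
        set r := g * t * g⁻¹ * t with hr
        have h1 : r * t = g * t * g⁻¹ := by rw [hr, mul_assoc, ht2, mul_one]
        have h2 : r * t * (r * t) = 1 := by
          rw [h1, show g * t * g⁻¹ * (g * t * g⁻¹) = g * (t * t) * g⁻¹ by group, ht2]; group
        have h3 : r * r = 1 := by
          rw [mul_assoc, ← mul_assoc t, hall r hm, mul_assoc r t, ht2, mul_one] at h2
          exact h2
        have h4 : r = 1 := by
          have := hR3 r hm
          rwa [h3, one_mul] at this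
        rw [← h1, h4, one_mul]
      refine ⟨fun w hw g => ?_⟩
      obtain ⟨i, rfl⟩ := Subgroup.mem_zpowers_iff.mp hw
      rw [← conj_zpow, hc]
      exact zpow_mem (Subgroup.mem_zpowers t) i
    have ho : orderOf t = 2 := orderOf_eq_prime (by rw [pow_two, ht2]) fun h => rot_facts.2.2.1
      (by rw [← hπt, h, map_one])
    have h2 : IsPGroup 2 (Subgroup.zpowers t) :=
      IsPGroup.of_card (n := 1) (by rw [Nat.card_zpowers, ho, pow_one])
    have h3 := CfsgLib.Fitting.le_pCore hN h2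
    rw [hO2, Subgroup.zpowers_le, Subgroup.mem_bot] at h3
    rw [h3, orderOf_one] at ho
    omega
  have hyt : y * t = t * y := by rw [ht, mul_assoc]
  -- the fixed points of `t` in `R`
  have hfix : ∀ x ∈ R, t * x = x * t → x ∈ Z := by
    intro x hx hxt
    by_contra hxZ
    set D := R ⊓ Subgroup.centralizer ({t} : Set X) with hD
    have hxD : x ∈ D := ⟨hx, Subgroup.mem_centralizer_singleton_iff.mpr hxt.symm⟩
    have hZD : Z ≤ D := fun z hz =>
      ⟨hZR hz, Subgroup.mem_centralizer_singleton_iff.mpr (hZcent z hz t)⟩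
    have hdvd : Nat.card D ∣ 3 ^ 3 := by
      rw [show (3 : ℕ) ^ 3 = 27 from rfl, ← hRcard]
      exact Subgroup.card_dvd_of_le inf_le_left
    obtain ⟨i, hi, hDc⟩ := (Nat.dvd_prime_pow Nat.prime_three).mp hdvd
    have hgt : 3 < Nat.card D := by
      rw [← hZ3]
      refine lt_of_le_of_ne (Nat.le_of_dvd Nat.card_pos (Subgroup.card_dvd_of_le hZD)) fun h => hxZ ?_
      rw [Subgroup.eq_of_le_of_card_ge hZD h.ge]; exact hxD
    have hlt : Nat.card D < 27 := by
      rw [← hRcard]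
      refine lt_of_le_of_ne (Nat.le_of_dvd Nat.card_pos (Subgroup.card_dvd_of_le inf_le_left)) fun h => hnc ?_
      intro r hr
      have := (Subgroup.eq_of_le_of_card_ge (inf_le_left : D ≤ R) h.ge).ge hr
      exact (Subgroup.mem_centralizer_singleton_iff.mp this.2).symm
    have h9 : Nat.card D = 9 := by
      rw [hDc] at hgt hlt ⊢
      interval_cases i <;> omega
    have hidx : D.relIndex R = 3 := by
      have := Subgroup.relIndex_mul_relIndex ⊥ D R bot_le inf_le_left
      rw [Subgroup.relIndex_bot_left, Subgroup.relIndex_bot_left, h9, hRcard] at this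
      omega
    haveI hDn : (D.subgroupOf R).Normal := by
      haveI : Fact (Nat.Prime 3) := ⟨Nat.prime_three⟩
      refine Subgroup.normal_of_index_eq_minFac_card ?_
      rw [show (D.subgroupOf R).index = 3 from hidx, hRcard]
      norm_num
    have hyD : ∀ d ∈ D, y * d * y⁻¹ ∈ D := fun d hd => by
      refine ⟨hconjR y d hd.1, Subgroup.mem_centralizer_singleton_iff.mpr ?_⟩
      have hd2 := Subgroup.mem_centralizer_singleton_iff.mp hd.2
      have hy' : y⁻¹ * t = t * y⁻¹ := ((show Commute y t from hyt).inv_left).eq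
      calc y * d * y⁻¹ * t = y * (d * t) * y⁻¹ := by rw [mul_assoc _ y⁻¹, hy']; group
        _ = y * t * d * y⁻¹ := by rw [hd2]; group
        _ = t * (y * d * y⁻¹) := by rw [hyt]; group
    apply hnc
    intro r hr
    -- the square of `y` acts trivially on `R` modulo `D`
    have hsq : t * r * t⁻¹ * r⁻¹ ∈ D := by
      have hq : Nat.card (R ⧸ D.subgroupOf R) = 3 := hidx
      let q : R →* R ⧸ D.subgroupOf R := QuotientGroup.mk' _
      let r' : R := ⟨r, hr⟩
      let r1 : R := ⟨y * r * y⁻¹, hconjR y r hr⟩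
      let r2 : R := ⟨t * r * t⁻¹, hconjR t r hr⟩
      have hmem : ∀ w : R, (w : X) ∈ D → q w = 1 := fun w hw => (QuotientGroup.eq_one_iff w).mpr hw
      rcases eq_or_ne (q r') 1 with h | h
      · have h' : r ∈ D := (QuotientGroup.eq_one_iff r').mp h
        have h'' := Subgroup.mem_centralizer_singleton_iff.mp h'.2
        rw [← h'', mul_inv_cancel_right, mul_inv_cancel]
        exact one_mem D
      obtain ⟨i, hi⟩ := mem_powers_iff_mem_zpowers.mpr (mem_zpowers_of_prime_card (g' := q r1) hq h)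
      have hi' : q (r' ^ i) = q r1 := (map_pow q r' i).trans hi
      have hd1 : (r ^ i)⁻¹ * (y * r * y⁻¹) ∈ D :=
        (QuotientGroup.eq (s := D.subgroupOf R) (a := r' ^ i) (b := r1)).mp hi'
      have e2 : q r2 = q r1 ^ i := by
        rw [← map_pow]
        refine (QuotientGroup.eq.mpr ?_).symm
        show (((r1 ^ i)⁻¹ * r2 : R) : X) ∈ D
        simp only [Subgroup.coe_mul, Subgroup.coe_inv, Subgroup.coe_pow, r1, r2]
        have h1 := hyD _ hd1
        rw [show y * ((r ^ i)⁻¹ * (y * r * y⁻¹)) * y⁻¹ =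
          (y * r ^ i * y⁻¹)⁻¹ * (t * r * t⁻¹) by rw [ht]; group, ← conj_pow] at h1
        exact h1
      rw [← hi, ← pow_mul] at e2
      have hne : ¬ 3 ∣ i := fun hd => by
        obtain ⟨j, rfl⟩ := hd
        have h1 : q r1 = 1 := by
          rw [← hi]
          show q r' ^ (3 * j) = 1
          rw [pow_mul, ← map_pow, show r' ^ 3 = 1 from Subtype.ext (hRexp r hr), map_one, one_pow]
        have h2 : y * r * y⁻¹ ∈ D := (QuotientGroup.eq_one_iff r1).mp h1
        have h3 := hyD _ (hyD _ (hyD _ h2))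
        rw [show y * (y * (y * (y * r * y⁻¹) * y⁻¹) * y⁻¹) * y⁻¹ = y ^ 4 * r * (y ^ 4)⁻¹ by simp only [pow_succ, pow_zero]; group,
          hy4, one_mul, inv_one, mul_one] at h3
        exact h (hmem r' h3)
      have h33 : q r' ^ 3 = 1 := by
        rw [← map_pow, show r' ^ 3 = 1 from Subtype.ext (hRexp r hr), map_one]
      have h1 : q r2 = q r' := by
        rw [e2, ← Nat.mod_add_div (i * i) 3, pow_add, pow_mul, h33, one_pow, mul_one]
        have : i * i % 3 = 1 := by
          rw [Nat.mul_mod]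
          have : i % 3 = 1 ∨ i % 3 = 2 := by omega
          rcases this with h | h <;> rw [h]
        rw [this, pow_one]
      have h4 : (r2 : X) * (r' : X)⁻¹ ∈ D :=
        (QuotientGroup.eq_one_iff (r2 * r'⁻¹)).mp (by
          show q (r2 * r'⁻¹) = 1
          rw [map_mul, map_inv]
          exact mul_inv_eq_one.mpr h1)
      exact h4
    set d := t * r * t⁻¹ * r⁻¹ with hd
    have hdt := Subgroup.mem_centralizer_singleton_iff.mp hsq.2
    have h1 : d * d = 1 := by
      have e1 : t * (d * r) * t⁻¹ = r := by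
        rw [hd, show t * (t * r * t⁻¹ * r⁻¹ * r) * t⁻¹ = (t * t) * r * (t * t)⁻¹ by group, ht2]; group
      rw [show t * (d * r) * t⁻¹ = (t * d) * r * t⁻¹ by group, ← hdt,
        show d * t * r * t⁻¹ = d * (t * r * t⁻¹ * r⁻¹) * r by group, ← hd] at e1
      exact mul_eq_right.mp e1
    have h2 : d = 1 := by
      have := hR3 d hsq.1
      rwa [h1, one_mul] at this
    exact mul_inv_eq_iff_eq_mul.mp (mul_inv_eq_one.mp h2)
  -- inverted elements
  let I : X → Prop := fun x => x ∈ R ∧ t * x * t = x⁻¹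
  have hI : ∀ x ∈ R, ∃ w ∈ Z, I (x * w) := by
    intro x hx
    set w := x * (t * x * t) with hw
    have hwR : w ∈ R := mul_mem hx (htR x hx)
    set c := (t * x * t) * x with hc
    have htw : t * w * t = c := by
      rw [hw, hc, show t * (x * (t * x * t)) * t = t * x * t * x * (t * t) by group, ht2, mul_one]
    have hwc : c⁻¹ * w ∈ Z := by
      refine hmemZ _ (mul_mem (inv_mem (mul_mem (htR x hx) hx)) hwR) ?_
      -- commutators are central
      have hD : commutator R ≤ Subgroup.center R := le_of_eq hR.1.2.2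
      have h1 : (⁅(⟨x, hx⟩ : R)⁻¹, (⟨t * x * t, htR x hx⟩ : R)⁻¹⁆ : R) ∈ Subgroup.center R :=
        hD (Subgroup.commutator_mem_commutator (Subgroup.mem_top _) (Subgroup.mem_top _))
      intro r hr
      have h2 := congrArg R.subtype (Subgroup.mem_center_iff.mp h1 ⟨r, hr⟩)
      simp only [map_mul, map_commutatorElement, map_inv, Subgroup.coe_subtype, commutatorElement_def,
        inv_inv] at h2
      rw [hc, hw, mul_inv_rev]
      simp only [← mul_assoc] at h2 ⊢
      exact h2.symm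
    set a := c⁻¹ * w with ha
    have hwfix : t * w = w * t := by
      have h3 : t * a * t = a := by rw [← hZcent a hwc t, mul_assoc, ht2, mul_one]
      have h4 : t * c * t = w := by
        rw [← htw, show t * (t * w * t) * t = t * t * w * (t * t) by group, ht2, one_mul, mul_one]
      have h5 : t * w * t = w * a := by
        conv_lhs => rw [show w = c * a by rw [ha, mul_inv_cancel_left]]
        rw [show t * (c * a) * t = (t * c * t) * (t⁻¹ * a * t) by group, hti, h4, h3]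
      have h6 : a * a = 1 := by
        have h7 : t * (t * w * t) * t = w * a * a := by
          rw [h5, show t * (w * a) * t = (t * w * t) * (t⁻¹ * a * t) by group, hti, h3, h5]
        rw [show t * (t * w * t) * t = t * t * w * (t * t) by group, ht2, one_mul, mul_one,
          mul_assoc] at h7
        exact mul_eq_left.mp h7.symm
      have h7 : a = 1 := by have := hR3 a (hZR hwc); rwa [h6, one_mul] at this
      rw [h7, mul_one] at h5
      calc t * w = t * w * t * t := by rw [mul_assoc _ t t, ht2, mul_one]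
        _ = w * t := by rw [h5]
    have hwZ := hfix w hwR hwfix
    refine ⟨w, hwZ, mul_mem hx hwR, ?_⟩
    rw [show t * (x * w) * t = (t * x * t) * (t⁻¹ * w * t) by group, hti,
      show t * w * t = w by rw [← hZcent w hwZ t, mul_assoc, ht2, mul_one], mul_inv_rev,
      show t * x * t = x⁻¹ * w by rw [hw]; group, mul_assoc x⁻¹,
      show w * w = w⁻¹ from eq_inv_of_mul_eq_one_left (hR3 w hwR)]
    exact (hZcent _ (inv_mem hwZ) _).symm
  have hIuniq : ∀ x z, I x → I (x * z) → z ∈ Z → z = 1 := by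
    intro x z hx hxz hz
    have h1 := hxz.2
    rw [show t * (x * z) * t = (t * x * t) * (t⁻¹ * z * t) by group, hti, hx.2,
      show t * z * t = z by rw [← hZcent z hz t, mul_assoc, ht2, mul_one], mul_inv_rev,
      hZcent _ (inv_mem hz)] at h1
    have h2 : z * z = 1 := by
      have h3 : z = z⁻¹ := mul_left_cancel h1
      nth_rw 1 [h3]
      exact inv_mul_cancel z
    have := hR3 z (hZR hz)
    rwa [h2, one_mul] at this
  choose! wc hwcZ hwcI using hI
  let ρ : X → X := fun x => x * wc x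
  -- generators
  obtain ⟨r1, hr1, hr1Z⟩ : ∃ r ∈ R, r ∉ Z := by
    by_contra hall
    push Not at hall
    have := Nat.le_of_dvd Nat.card_pos (Subgroup.card_dvd_of_le (fun x hx => hall x hx : R ≤ Z))
    omega
  obtain ⟨r2, hr2, h12⟩ : ∃ r ∈ R, r1 * r ≠ r * r1 := by
    by_contra hall
    push Not at hall
    exact hr1Z (hmemZ r1 hr1 hall)
  set z := ⁅r1, r2⁆ with hzdef
  have hcommZ : ∀ a ∈ R, ∀ b ∈ R, ⁅a, b⁆ ∈ Z := fun a ha b hb =>
    ⟨⁅(⟨a, ha⟩ : R), ⟨b, hb⟩⁆, (le_of_eq hR.1.2.2)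
      (Subgroup.commutator_mem_commutator (Subgroup.mem_top _) (Subgroup.mem_top _)), rfl⟩
  have hzZ : z ∈ Z := hcommZ r1 hr1 r2 hr2
  have hz1 : z ≠ 1 := fun h => h12 (commutatorElement_eq_one_iff_mul_comm.mp h)
  let zp : ZMod 3 → X := fun k => z ^ k.val
  have hzpow : ∀ n : ℕ, z ^ n = zp (n : ZMod 3) := fun n => by
    show _ = z ^ ((n : ZMod 3)).val
    rw [ZMod.val_natCast]
    conv_lhs => rw [← Nat.mod_add_div n 3, pow_add, pow_mul, hRexp z (hZR hzZ), one_pow, mul_one]
  have hzpn : ∀ k : ZMod 3, zp k = zp (k.val : ZMod 3) := fun k => by rw [ZMod.natCast_zmod_val]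
  have hzadd : ∀ k l, zp k * zp l = zp (k + l) := fun k l => by
    show z ^ k.val * z ^ l.val = _
    rw [← pow_add, hzpow, Nat.cast_add, ZMod.natCast_zmod_val, ZMod.natCast_zmod_val]
  have hzpinj : Function.Injective zp := by
    intro k l hkl
    have ho : orderOf z = 3 := orderOf_eq_prime (hRexp z (hZR hzZ)) hz1
    exact ZMod.val_injective 3 (pow_injOn_Iio_orderOf (by rw [ho]; exact k.val_lt)
      (by rw [ho]; exact l.val_lt) hkl)
  have hzpZ : ∀ k, zp k ∈ Z := fun k => pow_mem hzZ _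
  let pv : V3 → X := fun v => r1 ^ (v 0).val * r2 ^ (v 1).val
  have hpvR : ∀ v, pv v ∈ R := fun v => mul_mem (pow_mem hr1 _) (pow_mem hr2 _)
  have hcm : ∀ a ∈ R, ∀ b ∈ R, ∀ c ∈ R, ⁅a, b * c⁆ = ⁅a, b⁆ * ⁅a, c⁆ := by
    intro a ha b hb c hc
    calc ⁅a, b * c⁆ = ⁅a, b⁆ * (b * ⁅a, c⁆ * b⁻¹) := by simp only [commutatorElement_def]; group
      _ = _ := by rw [← hZcent _ (hcommZ a ha c hc) b, mul_inv_cancel_right]
  have hcmL : ∀ a ∈ R, ∀ b ∈ R, ∀ c ∈ R, ⁅a * b, c⁆ = ⁅a, c⁆ * ⁅b, c⁆ := by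
    intro a ha b hb c hc
    calc ⁅a * b, c⁆ = a * ⁅b, c⁆ * a⁻¹ * ⁅a, c⁆ := by simp only [commutatorElement_def]; group
      _ = ⁅b, c⁆ * ⁅a, c⁆ := by rw [← hZcent _ (hcommZ b hb c hc) a, mul_inv_cancel_right]
      _ = _ := hZcent _ (hcommZ b hb c hc) _
  have hcpow : ∀ a ∈ R, ∀ b ∈ R, ∀ n : ℕ, ⁅a, b ^ n⁆ = ⁅a, b⁆ ^ n ∧ ⁅a ^ n, b⁆ = ⁅a, b⁆ ^ n := by
    intro a ha b hb n
    induction n with
    | zero => simp
    | succ n ih =>
      exact ⟨by rw [pow_succ, hcm a ha _ (pow_mem hb n) b hb, ih.1, pow_succ],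
        by rw [pow_succ, hcmL _ (pow_mem ha n) a ha b hb, ih.2, pow_succ]⟩
  have hcomm_pv : ∀ v w, ⁅pv v, pv w⁆ = zp (om v w) := by
    intro v w
    have h21 : ⁅r2, r1⁆ = zp (2 : ZMod 3) := by
      rw [← commutatorElement_inv r1 r2, ← hzdef]
      refine inv_eq_of_mul_eq_one_right ?_
      have := hR3 z (hZR hzZ)
      rw [show zp 2 = z ^ 2 from rfl, pow_two, ← mul_assoc]
      exact this
    simp only [pv]
    rw [hcmL _ (pow_mem hr1 _) _ (pow_mem hr2 _) _ (mul_mem (pow_mem hr1 _) (pow_mem hr2 _)),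
      hcm _ (pow_mem hr1 _) _ (pow_mem hr1 _) _ (pow_mem hr2 _),
      hcm _ (pow_mem hr2 _) _ (pow_mem hr1 _) _ (pow_mem hr2 _),
      (hcpow r1 hr1 _ (pow_mem hr1 _) _).2, (hcpow r1 hr1 r1 hr1 _).1,
      (hcpow r1 hr1 _ (pow_mem hr2 _) _).2, (hcpow r1 hr1 r2 hr2 _).1,
      (hcpow r2 hr2 _ (pow_mem hr1 _) _).2, (hcpow r2 hr2 r1 hr1 _).1,
      (hcpow r2 hr2 _ (pow_mem hr2 _) _).2, (hcpow r2 hr2 r2 hr2 _).1, h21,
      commutatorElement_self, commutatorElement_self]
    simp only [one_pow, one_mul, mul_one, ← hzdef, ← pow_mul]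
    rw [hzpow, show zp (2 : ZMod 3) = z ^ 2 from rfl, ← pow_mul, hzpow, hzadd]
    congr 1
    simp only [om, Nat.cast_mul, Nat.cast_ofNat, ZMod.natCast_zmod_val]
    linear_combination (v 1 * w 0) * three_eq_zero
  let ι : V3 → X := fun v => ρ (pv v)
  have hιR : ∀ v, ι v ∈ R := fun v => mul_mem (hpvR v) (hZR (hwcZ _ (hpvR v)))
  have hιI : ∀ v, I (ι v) := fun v => hwcI _ (hpvR v)
  have hcι : ∀ v w, ⁅ι v, ι w⁆ = zp (om v w) := by
    intro v w
    have hone : ∀ a ∈ Z, ∀ b ∈ R, ⁅a, b⁆ = 1 ∧ ⁅b, a⁆ = 1 := fun a ha b hb =>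
      ⟨commutatorElement_eq_one_iff_mul_comm.mpr (hZc a ha b hb),
        commutatorElement_eq_one_iff_mul_comm.mpr (hZc a ha b hb).symm⟩
    show ⁅pv v * wc (pv v), pv w * wc (pv w)⁆ = _
    rw [hcmL _ (hpvR v) _ (hZR (hwcZ _ (hpvR v))) _ (mul_mem (hpvR w) (hZR (hwcZ _ (hpvR w)))),
      (hone _ (hwcZ _ (hpvR v)) _ (mul_mem (hpvR w) (hZR (hwcZ _ (hpvR w))))).1, mul_one,
      hcm _ (hpvR v) _ (hpvR w) _ (hZR (hwcZ _ (hpvR w))), (hone _ (hwcZ _ (hpvR w)) _ (hpvR v)).2,
      mul_one, hcomm_pv]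
  -- bijection with `R`
  have hinj : Function.Injective fun q : V3 × ZMod 3 => ι q.1 * zp q.2 := by
    rintro ⟨v, k⟩ ⟨w, l⟩ h
    have h' : ι v * zp k = ι w * zp l := h
    have hvw : v = w := by
      have hu : ∀ u, om v u = om w u := fun u => by
        apply hzpinj
        have e : ∀ a k', a ∈ R → ⁅a * zp k', ι u⁆ = ⁅a, ι u⁆ := fun a k' ha => by
          rw [hcmL a ha _ (hZR (hzpZ k')) _ (hιR u),
            commutatorElement_eq_one_iff_mul_comm.mpr (hZc _ (hzpZ k') _ (hιR u)), mul_one]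
        rw [← hcι, ← hcι, ← e _ k (hιR v), ← e _ l (hιR w), h']
      refine sub_eq_zero.mp (om_nondeg _ ?_ ?_)
      · have := hu ![1, 0]; simp only [om, Pi.sub_apply] at this ⊢; linear_combination this
      · have := hu ![0, 1]; simp only [om, Pi.sub_apply] at this ⊢; linear_combination this
    subst hvw
    rw [hzpinj (mul_left_cancel h')]
  have hsurjR : ∀ x ∈ R, ∃ v k, ι v * zp k = x := by
    let f : V3 × ZMod 3 → R := fun q => ⟨ι q.1 * zp q.2, mul_mem (hιR _) (hZR (hzpZ _))⟩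
    have hb : Function.Bijective f := (Nat.bijective_iff_injective_and_card f).mpr
      ⟨fun a b h => hinj (congrArg Subtype.val h), by
        rw [hRcard, Nat.card_prod, Nat.card_fun, Nat.card_zmod, Nat.card_fin]; norm_num⟩
    intro x hx
    obtain ⟨⟨v, k⟩, hq⟩ := hb.2 ⟨x, hx⟩
    exact ⟨v, k, congrArg Subtype.val hq⟩
  have hIι : ∀ x, I x → ∃ v, ι v = x := by
    intro x hx
    obtain ⟨v, k, rfl⟩ := hsurjR x hx.1
    refine ⟨v, ?_⟩
    rw [hIuniq (ι v) (zp k) (hιI v) hx (hzpZ k), mul_one]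
  have hmul : ∀ v w, ι v * ι w = ι (v + w) * zp (2 * om v w) := by
    intro v w
    obtain ⟨u, k, huk⟩ := hsurjR _ (mul_mem (hιR v) (hιR w))
    have hu : u = v + w := by
      have hu' : ∀ s, om u s = om (v + w) s := fun s => by
        have e : ⁅ι v * ι w, ι s⁆ = ⁅ι u * zp k, ι s⁆ := by rw [huk]
        rw [hcmL _ (hιR v) _ (hιR w) _ (hιR s), hcmL _ (hιR u) _ (hZR (hzpZ k)) _ (hιR s), hcι, hcι,
          hcι, commutatorElement_eq_one_iff_mul_comm.mpr (hZc _ (hzpZ k) _ (hιR s)), mul_one, hzadd] at e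
        rw [← hzpinj e]
        simp only [om, Pi.add_apply]; ring
      refine sub_eq_zero.mp (om_nondeg _ ?_ ?_)
      · have := hu' ![1, 0]; simp only [om, Pi.sub_apply] at this ⊢; linear_combination this
      · have := hu' ![0, 1]; simp only [om, Pi.sub_apply] at this ⊢; linear_combination this
    subst hu
    have hk : k = 2 * om v w := by
      have h1 : ι w * ι v * zp (om v w) = ι v * ι w := by
        rw [← hcι, ← hZcent _ (hcommZ _ (hιR v) _ (hιR w))]
        simp only [commutatorElement_def]; group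
      have h2 : ι w * ι v = ι (v + w) * zp (-k) := by
        have h3 : t * (ι v * ι w) * t = (t * ι v * t) * (t⁻¹ * ι w * t) := by group
        rw [hti, (hιI v).2, (hιI w).2, ← huk,
          show t * (ι (v + w) * zp k) * t = (t * ι (v + w) * t) * (t⁻¹ * zp k * t) by group, hti,
          (hιI (v + w)).2, show t * zp k * t = zp k by
            rw [← hZcent _ (hzpZ k) t, mul_assoc, ht2, mul_one], ← mul_inv_rev] at h3
        rw [← inv_inv (ι w * ι v), ← h3, mul_inv_rev, inv_inv,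
          show (zp k)⁻¹ = zp (-k) from inv_eq_of_mul_eq_one_right (by
            rw [hzadd, add_neg_cancel]; show z ^ (0 : ZMod 3).val = 1; simp)]
        exact hZcent _ (hzpZ _) _
      rw [h2, ← huk, mul_assoc, hzadd] at h1
      have h4 := hzpinj (mul_left_cancel h1)
      linear_combination h4 + (k - om v w) * three_eq_zero
    rw [← huk, hk]
  -- the action
  have hA : ∀ g : X, ∀ v, ∃ v', ∃ k, ι v' * zp k = g * ι v * g⁻¹ := fun g v =>
    hsurjR _ (hconjR g _ (hιR v))
  choose A kA hAk using hA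
  have hconjom : ∀ g v w, om (A g v) (A g w) = om v w := by
    intro g v w
    apply hzpinj
    have h1 : ⁅g * ι v * g⁻¹, g * ι w * g⁻¹⁆ = g * zp (om v w) * g⁻¹ := by
      rw [← hcι]; simp only [commutatorElement_def]; group
    rw [← hAk, ← hAk, hcmL _ (hιR _) _ (hZR (hzpZ _)) _ (mul_mem (hιR _) (hZR (hzpZ _))),
      hcm _ (hιR _) _ (hιR _) _ (hZR (hzpZ _)), hcι,
      commutatorElement_eq_one_iff_mul_comm.mpr (hZc _ (hzpZ _) _ (hιR _)).symm,
      commutatorElement_eq_one_iff_mul_comm.mpr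
        (hZc _ (hzpZ _) _ (mul_mem (hιR _) (hZR (hzpZ _)))), mul_one, mul_one,
      ← hZcent _ (hzpZ _) g, mul_inv_cancel_right] at h1
    exact h1
  have hcoord : ∀ v w k l, ι v * zp k = ι w * zp l → v = w := fun v w k l h =>
    congrArg Prod.fst (hinj (a₁ := (v, k)) (a₂ := (w, l)) h)
  have hAadd : ∀ g v w, A g (v + w) = A g v + A g w := by
    intro g v w
    refine hcoord _ _ (kA g (v + w) + 2 * om v w)
      (kA g v + kA g w + 2 * om (A g v) (A g w)) ?_
    have h1 : g * ι v * g⁻¹ * (g * ι w * g⁻¹) = g * (ι v * ι w) * g⁻¹ := by group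
    rw [← hAk, ← hAk, hmul, show g * (ι (v + w) * zp (2 * om v w)) * g⁻¹ =
      (g * ι (v + w) * g⁻¹) * (g * zp (2 * om v w) * g⁻¹) by group, ← hAk,
      ← hZcent _ (hzpZ _) g, mul_inv_cancel_right, mul_assoc (ι (A g (v + w))), hzadd] at h1
    rw [← h1]
    calc ι (A g v) * zp (kA g v) * (ι (A g w) * zp (kA g w))
        = ι (A g v) * (zp (kA g v) * ι (A g w)) * zp (kA g w) := by group
      _ = ι (A g v) * ι (A g w) * (zp (kA g v) * zp (kA g w)) := by
          rw [hZcent _ (hzpZ _) (ι (A g w))]; group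
      _ = _ := by rw [hmul, mul_assoc, hzadd, hzadd, add_comm (2 * _)]
  let L : X → (V3 →ₗ[ZMod 3] V3) := fun g => (AddMonoidHom.mk' (A g) (hAadd g)).toZModLinearMap 3
  let M : X → H3 := fun g => ⟨LinearMap.toMatrix' (L g), det_of_om _ (by
    rw [LinearMap.toMatrix'_mulVec, LinearMap.toMatrix'_mulVec]; exact hconjom g _ _)⟩
  have hM : ∀ g v, act (M g) v = A g v := fun g v => LinearMap.toMatrix'_mulVec (L g) v
  have hMmul : ∀ g h, M (g * h) = M g * M h := by
    intro g h
    apply Subtype.ext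
    refine Matrix.ext_of_mulVec_single fun i => ?_
    set v : V3 := Pi.single i 1
    show act (M (g * h)) v = (((M g * M h : H3)) : Matrix _ _ _).mulVec v
    rw [Matrix.SpecialLinearGroup.coe_mul, ← Matrix.mulVec_mulVec]
    show _ = act (M g) (act (M h) v)
    rw [hM, hM, hM]
    refine hcoord _ _ (kA (g * h) v) (kA g (A h v) + kA h v) ?_
    rw [hAk, show g * h * ι v * (g * h)⁻¹ = g * (h * ι v * h⁻¹) * g⁻¹ by group, ← hAk h v,
      show g * (ι (A h v) * zp (kA h v)) * g⁻¹ = g * ι (A h v) * g⁻¹ * (g * zp (kA h v) * g⁻¹) by group,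
      ← hAk, ← hZcent _ (hzpZ _) g, mul_inv_cancel_right, mul_assoc, hzadd]
  let Φ : X →* H3 := MonoidHom.mk' M hMmul
  have hΦR : ∀ g ∈ R, Φ g = 1 := by
    intro g hg
    apply Subtype.ext
    refine Matrix.ext_of_mulVec_single fun i => ?_
    set v : V3 := Pi.single i 1
    show act (M g) v = _
    rw [hM]
    simp only [Matrix.SpecialLinearGroup.coe_one, Matrix.one_mulVec]
    obtain ⟨l, hl⟩ : ∃ l, ⁅g, ι v⁆ = zp l := by
      obtain ⟨u, k, rfl⟩ := hsurjR g hg
      exact ⟨om u v, by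
        rw [hcmL _ (hιR u) _ (hZR (hzpZ k)) _ (hιR v), hcι,
          commutatorElement_eq_one_iff_mul_comm.mpr (hZc _ (hzpZ k) _ (hιR v)), mul_one]⟩
    refine hcoord _ _ (kA g v) l ?_
    rw [hAk, ← hl, ← hZcent _ (hcommZ g hg _ (hιR v))]
    simp only [commutatorElement_def]; group
  have hΦt : Φ t ≠ 1 := by
    intro h
    have h1 : ∀ v, A t v = v := fun v => by
      rw [← hM]; show (((Φ t : H3)) : Matrix _ _ _).mulVec v = v
      rw [h, Matrix.SpecialLinearGroup.coe_one, Matrix.one_mulVec]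
    have h2 := hAk t ![1, 0]
    rw [h1, hti, (hιI _).2] at h2
    have h3 : ι ![1, 0] * ι ![1, 0] ∈ Z := by
      have h4 : ι ![1, 0] * ι ![1, 0] = (zp (kA t ![1, 0]))⁻¹ := by
        apply eq_inv_of_mul_eq_one_left
        rw [mul_assoc, h2, mul_inv_cancel]
      rw [h4]; exact inv_mem (hzpZ _)
    rw [hmul] at h3
    have h5 : ι (![1, 0] + ![1, 0]) ∈ Z := (Subgroup.mul_mem_cancel_right Z (hzpZ _)).mp h3
    have h6 : om (![1, 0] + ![1, 0]) ![0, 1] = 0 := by
      apply hzpinj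
      rw [← hcι, commutatorElement_eq_one_iff_mul_comm.mpr (hZc _ h5 _ (hιR _))]
      show (1 : X) = z ^ (0 : ZMod 3).val
      simp
    exact om_twice h6
  have hker : ∀ g, Φ g = 1 → g ∈ R := by
    intro g hg
    by_contra hgR
    have hne : π g ≠ 1 := fun h => hgR ((hπR g).mp h)
    obtain ⟨h, hh⟩ := sl_normal_minus (π g) hne
    obtain ⟨x, rfl⟩ := hπ h
    have key : ∀ w, π w = -1 → Φ w = 1 → False := fun w h1 h2 => by
      apply hΦt
      have hr : w⁻¹ * t ∈ R := by rw [← hπR, map_mul, map_inv, h1, hπt, inv_mul_cancel]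
      have := hΦR _ hr
      rwa [map_mul, map_inv, h2, inv_one, one_mul] at this
    rcases hh with h1 | h1 | h1 | h1 | h1
    · exact key g h1 hg
    · exact key (g * g) (by rw [map_mul]; exact h1) (by rw [map_mul, hg, one_mul])
    · exact key (g * g * g) (by rw [map_mul, map_mul]; exact h1) (by rw [map_mul, map_mul, hg, one_mul, one_mul])
    · exact key (g * x * g⁻¹ * x⁻¹ * (g * x * g⁻¹ * x⁻¹)) (by simp only [map_mul, map_inv]; exact h1)
        (by simp [map_mul, map_inv, hg])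
    · exact key (g * x * g⁻¹ * x⁻¹) (by simp only [map_mul, map_inv]; exact h1)
        (by simp [map_mul, map_inv, hg])
  -- the centralizer of `t`
  set C := Subgroup.centralizer ({t} : Set X) with hC
  have hCmem : ∀ g, g ∈ C ↔ t * g = g * t := fun g => by
    rw [hC, Subgroup.mem_centralizer_singleton_iff, eq_comm]
  have hCI : ∀ c ∈ C, ∀ v, c * ι v * c⁻¹ = ι (A c v) := by
    intro c hc v
    have hIc : I (c * ι v * c⁻¹) := by
      refine ⟨hconjR c _ (hιR v), ?_⟩
      have h1 := (hCmem c).mp hc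
      have h2 : c⁻¹ * t = t * c⁻¹ := ((show Commute t c from h1).inv_right).symm.eq
      calc t * (c * ι v * c⁻¹) * t = t * c * ι v * (c⁻¹ * t) := by group
        _ = c * (t * ι v * t) * c⁻¹ := by rw [h1, h2]; group
        _ = _ := by rw [(hιI v).2]; group
    obtain ⟨u, hu⟩ := hIι _ hIc
    rw [← hu]
    congr 1
    refine hcoord _ _ 0 (kA c v) ?_
    rw [hAk, ← hu]; show ι u * z ^ (0 : ZMod 3).val = _; simp
  have hCsurj : ∀ g, ∃ c ∈ C, Φ c = Φ g := by
    intro g
    obtain ⟨r, hr⟩ : ∃ r, r = g * t * g⁻¹ * t := ⟨_, rfl⟩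
    have hrR : r ∈ R := by rw [← hπR, hr]; simp [map_mul, map_inv, hπt]
    have h1 : r * t = g * t * g⁻¹ := by rw [hr, mul_assoc, ht2, mul_one]
    have hrI : t * r * t = r⁻¹ := by
      apply eq_inv_of_mul_eq_one_left
      calc t * r * t * r = t * (r * t * (r * t)) * t⁻¹ := by group
        _ = 1 := by rw [h1, show g * t * g⁻¹ * (g * t * g⁻¹) = g * (t * t) * g⁻¹ by group, ht2]; group
    have hs : t * (r * r)⁻¹ = r * r * t := by
      have h2 : t * r⁻¹ = r * t := by
        rw [← hrI]; rw [← mul_assoc, ← mul_assoc, ht2, one_mul]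
      rw [mul_inv_rev, ← mul_assoc, h2, mul_assoc r t, h2, mul_assoc]
    refine ⟨(r * r)⁻¹ * g, ?_, ?_⟩
    · rw [hCmem]
      calc t * ((r * r)⁻¹ * g) = r * r * t * g := by rw [← mul_assoc, hs]
        _ = (r * r)⁻¹ * (r * t * g) := by
            rw [eq_inv_mul_iff_mul_eq]
            calc r * r * (r * r * t * g) = r * r * r * (r * t * g) := by group
              _ = r * t * g := by rw [hR3 r hrR, one_mul]
        _ = (r * r)⁻¹ * g * t := by rw [h1]; group
    · rw [map_mul, map_inv, hΦR _ (mul_mem hrR hrR), inv_one, one_mul]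
  have hZC : ∀ w ∈ Z, w ∈ C := fun w hw => (hCmem w).mpr (hZcent w hw t).symm
  have hΦsurj : Function.Surjective Φ := by
    have hk : Φ.ker = R := le_antisymm (fun g hg => hker g hg) (fun g hg => hΦR g hg)
    have h1 := Φ.ker.card_mul_index
    rw [Subgroup.index_ker, hk, hRcard, hX] at h1
    rw [← MonoidHom.range_eq_top]
    refine Subgroup.eq_top_of_card_eq _ ?_
    rw [Nat.card_eq_fintype_card (α := H3), rot_facts.2.2.2]
    omega
  -- an element of order three in `C`
  obtain ⟨E, hEc, hEexp, hEcard⟩ := hE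
  haveI := hEc
  have hcommE : ∀ a ∈ E, ∀ b ∈ E, a * b = b * a := fun a ha b hb =>
    congrArg Subtype.val (mul_comm' (⟨a, ha⟩ : E) ⟨b, hb⟩)
  set B := E ⊓ R with hB
  have hEnR : ¬ E ≤ R := fun h => h12 (by
    have h1 := Subgroup.eq_of_le_of_card_ge h (by rw [hEcard, hRcard])
    exact hcommE _ (h1.ge hr1) _ (h1.ge hr2))
  have hΦE : ∀ x ∈ E, Φ x ^ 3 = 1 := fun x hx => by rw [← map_pow, hEexp x hx, map_one]
  have hB9 : 9 ≤ Nat.card B := by
    have hk := (E.map Φ).card_dvd_of_le le_top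
    have h2 : Nat.card (E.map Φ) ∣ 27 := hEcard ▸ Subgroup.card_map_dvd E Φ
    rw [Subgroup.card_top, Nat.card_eq_fintype_card (α := H3), rot_facts.2.2.2] at hk
    have h3 : Nat.card (E.map Φ) ∣ 3 := (Nat.dvd_gcd h2 hk)
    have h4 : B.relIndex E ∣ 3 := by
      have : Φ.ker = R := le_antisymm (fun g hg => hker g hg) (fun g hg => hΦR g hg)
      rw [hB, Subgroup.inf_relIndex_left, ← this, Subgroup.relIndex_ker]
      exact h3
    have h5 := Subgroup.relIndex_mul_relIndex ⊥ B E bot_le inf_le_left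
    rw [Subgroup.relIndex_bot_left, Subgroup.relIndex_bot_left, hEcard] at h5
    have h6 : B.relIndex E ≤ 3 := Nat.le_of_dvd (by norm_num) h4
    nlinarith
  obtain ⟨b, hbB, hbZ⟩ : ∃ b ∈ B, b ∉ Z := by
    by_contra hall
    push Not at hall
    have := Nat.le_of_dvd Nat.card_pos (Subgroup.card_dvd_of_le (fun x hx => hall x hx : B ≤ Z))
    omega
  obtain ⟨bv, bk, hb⟩ := hsurjR b hbB.2
  have hbv : bv ≠ 0 := by
    intro h
    refine hbZ (hmemZ b hbB.2 fun r hr => ?_)
    obtain ⟨u, k, rfl⟩ := hsurjR r hr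
    rw [← hb, h]
    apply commutatorElement_eq_one_iff_mul_comm.mp
    rw [hcmL _ (hιR _) _ (hZR (hzpZ _)) _ (mul_mem (hιR u) (hZR (hzpZ k))), hcm _ (hιR _) _ (hιR u) _
      (hZR (hzpZ k)), hcι, commutatorElement_eq_one_iff_mul_comm.mpr (hZc _ (hzpZ k) _ (hιR _)).symm,
      commutatorElement_eq_one_iff_mul_comm.mpr
        (hZc _ (hzpZ _) _ (mul_mem (hιR u) (hZR (hzpZ k)))), show om 0 u = 0 by simp [om]]
    show z ^ (0 : ZMod 3).val * 1 * 1 = 1
    simp
  set CB := Subgroup.centralizer ({b} : Set X) with hCB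
  have hECB : E ≤ CB := fun x hx =>
    Subgroup.mem_centralizer_singleton_iff.mpr (hcommE x hx b hbB.1)
  have hCBle : Nat.card CB ≤ 27 := by
    have h1 : ∀ x ∈ CB, act (Φ x) bv = bv := by
      intro x hx
      have hc := Subgroup.mem_centralizer_singleton_iff.mp hx
      show act (M x) bv = bv
      rw [hM]
      refine hcoord _ _ (kA x bv + bk) bk ?_
      rw [← hzadd, ← mul_assoc, hAk, show x * ι bv * x⁻¹ * zp bk = x * (ι bv * zp bk) * x⁻¹ by
        rw [mul_assoc _ x⁻¹, ← (show Commute x⁻¹ (zp bk) from (Commute.inv_left (hZcent _ (hzpZ bk) x).symm)).eq.symm]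
        group, hb, hc, mul_inv_cancel_right]
    have h2 : Nat.card (CB.map Φ) ≤ 3 := by
      refine le_trans ?_ (sl_fix_card bv hbv)
      rw [← Nat.card_eq_finsetCard]
      exact Nat.card_le_card_of_injective
        (fun q => ⟨q.1, by
          obtain ⟨x, hx, hq⟩ := q.2
          simp only [Finset.mem_filter, Finset.mem_univ, true_and]
          rw [← hq]; exact h1 x hx⟩)
        (fun a b h => Subtype.ext (congrArg (fun u => u.1) h))
    have hk : Φ.ker = R := le_antisymm (fun g hg => hker g hg) (fun g hg => hΦR g hg)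
    have h3 : Nat.card ↥(CB ⊓ R : Subgroup X) ≤ 9 := by
      have hdvd : Nat.card ↥(CB ⊓ R : Subgroup X) ∣ 3 ^ 3 :=
        by rw [show (3 : ℕ) ^ 3 = 27 from rfl, ← hRcard]; exact Subgroup.card_dvd_of_le inf_le_right
      obtain ⟨i, hi, he⟩ := (Nat.dvd_prime_pow Nat.prime_three).mp hdvd
      rw [he]
      by_contra hbig
      push Not at hbig
      have : i = 3 := by
        interval_cases i <;> omega
      subst this
      apply hbZ
      refine hmemZ b hbB.2 fun r hr => ?_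
      have h4 := Subgroup.eq_of_le_of_card_ge (inf_le_right : CB ⊓ R ≤ R) (by rw [he, hRcard]; norm_num)
      exact (Subgroup.mem_centralizer_singleton_iff.mp (h4.ge hr).1).symm
    have h5 := Subgroup.relIndex_mul_relIndex ⊥ (CB ⊓ R) CB bot_le inf_le_left
    rw [Subgroup.relIndex_bot_left, Subgroup.relIndex_bot_left, Subgroup.inf_relIndex_left, ← hk,
      Subgroup.relIndex_ker, hk] at h5
    nlinarith
  have hCBE : CB = E := (Subgroup.eq_of_le_of_card_ge hECB (by rw [hEcard]; exact hCBle)).symm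
  have hZE : Z ≤ E := fun w hw => hCBE.le
    (Subgroup.mem_centralizer_singleton_iff.mpr (hZc w hw b hbB.2))
  have htE : ∀ x ∈ E, t * x * t ∈ E := by
    intro x hx
    refine hCBE.le (Subgroup.mem_centralizer_singleton_iff.mpr ?_)
    obtain ⟨w, hw, hwI⟩ : ∃ w ∈ Z, t * b * t = b⁻¹ * w := by
      obtain ⟨hw1, hw2⟩ := hwcI b hbB.2
      refine ⟨(wc b)⁻¹ * (wc b)⁻¹, mul_mem (inv_mem (hwcZ b hbB.2)) (inv_mem (hwcZ b hbB.2)), ?_⟩
      set w := wc b
      rw [show t * (b * w) * t = t * b * t * (t⁻¹ * w * t) by group, hti,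
        show t * w * t = w by rw [← hZcent w (hwcZ b hbB.2) t, mul_assoc, ht2, mul_one],
        mul_inv_rev] at hw2
      rw [eq_mul_inv_of_mul_eq hw2, hZcent _ (inv_mem (hwcZ b hbB.2))]
      simp only [w]
      group
    have hbc : Commute x (b⁻¹ * w) :=
      (show Commute x b⁻¹ from hcommE x hx _ (inv_mem hbB.1)).mul_right
        (hcommE x hx w (hZE hw) : Commute x w)
    calc t * x * t * b = t * x * (t * b * t) * t⁻¹ := by group
      _ = t * (t * b * t) * x * t⁻¹ := by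
          rw [hwI, mul_assoc t, hbc.eq]; group
      _ = b * (t * x * t) := by
          rw [hti, show t * (t * b * t) = t * t * b * t by group, ht2, one_mul]; group
  obtain ⟨e₀, he₀, he₀R⟩ := SetLike.not_le_iff_exists.mp hEnR
  set e₁ := e₀ * (t * e₀ * t) with he₁
  have he₁E : e₁ ∈ E := mul_mem he₀ (htE _ he₀)
  have he₁C : e₁ ∈ C := by
    rw [hCmem, he₁]
    calc t * (e₀ * (t * e₀ * t)) = t * e₀ * t * e₀ * t := by group
      _ = e₀ * (t * e₀ * t) * t := by rw [hcommE _ (htE _ he₀) _ he₀]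
  have hπe₁ : π e₁ = π e₀ * π e₀ := by
    rw [he₁]; simp only [map_mul, hπt]; simp
  have he₁R : e₁ ∉ R := fun h => he₀R ((hπR e₀).mp (by
    have h1 : π e₀ * π e₀ = 1 := by rw [← hπe₁]; exact (hπR e₁).mpr h
    have h2 : π e₀ ^ 3 = 1 := by rw [← map_pow, hEexp e₀ he₀, map_one]
    rwa [pow_succ, pow_two, h1, one_mul] at h2))
  -- the transfer
  haveI hZCn : (C ⊓ R).Normal ∨ True := Or.inr trivial
  set T := (E ⊓ C).subgroupOf C with hT
  haveI : IsMulCommutative T := ⟨⟨fun a b => Subtype.ext (Subtype.ext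
    (hcommE _ a.2.1 _ b.2.1))⟩⟩
  let W : Subgroup T := Subgroup.zpowers ⟨⟨e₁, he₁C⟩, ⟨he₁E, he₁C⟩⟩
  letI : CommGroup T := { (inferInstance : Group T) with mul_comm := fun a b => mul_comm' a b }
  let q : T →* T ⧸ W := QuotientGroup.mk' W
  let χ : C →* T ⧸ W := MonoidHom.transfer q
  have hkC : ∀ c : C, (c : X) ∈ R → ∃ k, (c : X) = zp k := by
    intro c hc
    have h1 := hfix _ hc ((hCmem _).mp c.2)
    obtain ⟨u, k, huk⟩ := hsurjR _ hc
    refine ⟨k, ?_⟩
    have h2 : ι u ∈ Z := by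
      rw [← huk] at h1
      exact (Subgroup.mul_mem_cancel_right Z (hzpZ k)).mp h1
    have h3 : ι u = 1 := by
      have hI1 : I 1 := ⟨one_mem R, by rw [mul_one, ht2, inv_one]⟩
      exact hIuniq 1 (ι u) hI1 (by rw [one_mul]; exact hιI u) h2
    rw [← huk, h3, one_mul]
  have hidx : T.index = 8 := by
    have hC72 : Nat.card C = 72 := by
      let Φ' : C →* H3 := Φ.comp C.subtype
      have hs : Function.Surjective Φ' := fun h => by
        obtain ⟨g, rfl⟩ := hΦsurj h
        obtain ⟨c, hc, hcg⟩ := hCsurj g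
        exact ⟨⟨c, hc⟩, hcg⟩
      have hk : Nat.card Φ'.ker = 3 := by
        refine Eq.trans (Nat.card_congr (β := Z) ⟨fun c => ⟨(c.1 : X), ?_⟩, fun w => ⟨⟨w, hZC _ w.2⟩, hΦR _ (hZR w.2)⟩,
          fun _ => rfl, fun _ => rfl⟩) hZ3
        obtain ⟨k, hk⟩ := hkC c.1 (hker _ c.2)
        rw [hk]; exact hzpZ k
      have h1 := Φ'.ker.card_mul_index
      rw [Subgroup.index_ker, MonoidHom.range_eq_top.mpr hs, Subgroup.card_top, hk,
        Nat.card_eq_fintype_card (α := H3), rot_facts.2.2.2] at h1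
      omega
    have hT9 : Nat.card T = 9 := by
      rw [hT, Nat.card_congr (Subgroup.subgroupOfEquivOfLe inf_le_right).toEquiv]
      have hdvd : Nat.card ↥(E ⊓ C : Subgroup X) ∣ 3 ^ 3 :=
        by rw [show (3 : ℕ) ^ 3 = 27 from rfl, ← hEcard]; exact Subgroup.card_dvd_of_le inf_le_left
      obtain ⟨i, hi, he⟩ := (Nat.dvd_prime_pow Nat.prime_three).mp hdvd
      have hgt : 3 < Nat.card ↥(E ⊓ C : Subgroup X) := by
        rw [← hZ3]
        refine lt_of_le_of_ne (Nat.le_of_dvd Nat.card_pos (Subgroup.card_dvd_of_le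
          (le_inf hZE hZC))) fun h => he₁R ?_
        exact hZR ((Subgroup.eq_of_le_of_card_ge (le_inf hZE hZC : Z ≤ E ⊓ C) h.ge).ge ⟨he₁E, he₁C⟩)
      have hd72 : Nat.card ↥(E ⊓ C : Subgroup X) ∣ 72 := hC72 ▸ Subgroup.card_dvd_of_le inf_le_right
      rw [he] at hgt hd72 ⊢
      interval_cases i <;> first | omega | norm_num at hd72
    have := T.card_mul_index
    rw [hC72, hT9] at this
    omega
  have hχZ : ∀ k, χ ⟨zp k, hZC _ (hzpZ k)⟩ = 1 → k = 0 := by
    intro k hk
    have hz' : ∀ g : C, (⟨zp k, hZC _ (hzpZ k)⟩ : C) * g = g * ⟨zp k, hZC _ (hzpZ k)⟩ := fun g =>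
      Subtype.ext (hZcent _ (hzpZ k) (g : X))
    rw [show χ = MonoidHom.transfer q from rfl, MonoidHom.transfer_eq_pow q _ (fun n g₀ hn => by
      have : Commute ((⟨zp k, hZC _ (hzpZ k)⟩ : C) ^ n) g₀ := Commute.pow_left (hz' g₀) n
      rw [mul_assoc, this.eq, inv_mul_cancel_left])] at hk
    have h1 := (QuotientGroup.eq_one_iff _).mp hk
    obtain ⟨i, hi⟩ := mem_powers_iff_mem_zpowers.mpr h1
    have h2 : e₁ ^ i = zp k ^ T.index := congrArg (fun u : T => ((u : C) : X)) hi
    rw [hidx] at h2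
    have h3 : e₁ ^ i ∈ R := h2 ▸ pow_mem (hZR (hzpZ k)) _
    have h4 : 3 ∣ i := by
      by_contra hni
      apply he₁R
      have h5 : e₁ ^ (i % 3) ∈ R := by
        rwa [← Nat.mod_add_div i 3, pow_add, pow_mul, hEexp e₁ he₁E, one_pow, mul_one] at h3
      have : i % 3 = 1 ∨ i % 3 = 2 := by omega
      rcases this with h6 | h6 <;> rw [h6] at h5
      · rwa [pow_one] at h5
      · have := mul_mem h5 h5
        rwa [← pow_add, show 2 + 2 = 3 + 1 from rfl, pow_succ, hEexp e₁ he₁E, one_mul] at this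
    obtain ⟨j, rfl⟩ := h4
    rw [pow_mul, hEexp e₁ he₁E, one_pow] at h2
    have h7 : zp (8 * k) = zp 0 := by
      rw [show zp (8 * k) = zp k ^ 8 by
        show z ^ _ = (z ^ k.val) ^ 8
        rw [← pow_mul, hzpow, hzpow]; congr 1; simp; ring, ← h2]
      show (1 : X) = z ^ (0 : ZMod 3).val
      simp
    have h8 := hzpinj h7
    linear_combination h8 * 2 + (-5 * k) * three_eq_zero
  set H := χ.ker with hH
  let ψ : H →* H3 := Φ.comp (C.subtype.comp H.subtype)
  have hψi : Function.Injective ψ := by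
    rw [← MonoidHom.ker_eq_bot_iff, eq_bot_iff]
    intro c hc
    obtain ⟨k, hk⟩ := hkC c.1 (hker _ hc)
    have h1 : χ ⟨zp k, hZC _ (hzpZ k)⟩ = 1 := by
      rw [show (⟨zp k, hZC _ (hzpZ k)⟩ : C) = c.1 from Subtype.ext hk.symm]
      exact c.2
    rw [Subgroup.mem_bot]
    refine Subtype.ext (Subtype.ext ?_)
    rw [hk, hχZ k h1]
    show z ^ (0 : ZMod 3).val = 1
    simp
  have hψs : Function.Surjective ψ := by
    intro h
    obtain ⟨g, rfl⟩ := hΦsurj h
    obtain ⟨c, hc, hcg⟩ := hCsurj g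
    -- adjust by the centre
    have hex : ∃ k, χ ⟨zp k, hZC _ (hzpZ k)⟩ = χ ⟨c, hc⟩ := by
      have hinjχ : Function.Injective fun k => χ ⟨zp k, hZC _ (hzpZ k)⟩ := by
        intro k l hkl
        have h1 : χ (⟨zp (k - l), hZC _ (hzpZ _)⟩ : C) * χ ⟨zp l, hZC _ (hzpZ l)⟩ =
            χ ⟨zp l, hZC _ (hzpZ l)⟩ := by
          rw [← map_mul]
          refine Eq.trans ?_ hkl
          congr 1
          exact Subtype.ext (by rw [Subgroup.coe_mul, hzadd, sub_add_cancel])
        exact sub_eq_zero.mp (hχZ _ (mul_eq_right.mp h1))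
      have hW : Nat.card (T ⧸ W) ≤ 3 := by
        have h1 := Subgroup.card_eq_card_quotient_mul_card_subgroup W
        have hT9 : Nat.card T ≤ 9 := by
          rw [hT, Nat.card_congr (Subgroup.subgroupOfEquivOfLe inf_le_right).toEquiv]
          have hlt : Nat.card ↥(E ⊓ C : Subgroup X) < 27 := by
            rw [← hEcard]
            refine lt_of_le_of_ne (Nat.le_of_dvd Nat.card_pos (Subgroup.card_dvd_of_le inf_le_left))
              fun h => hbZ ?_
            exact hfix b hbB.2 ((hCmem b).mp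
              ((Subgroup.eq_of_le_of_card_ge (inf_le_left : E ⊓ C ≤ E) h.ge).ge hbB.1).2)
          obtain ⟨i, hi, he⟩ := (Nat.dvd_prime_pow Nat.prime_three).mp
            (show Nat.card ↥(E ⊓ C : Subgroup X) ∣ 3 ^ 3 from
              by rw [show (3 : ℕ) ^ 3 = 27 from rfl, ← hEcard]; exact Subgroup.card_dvd_of_le inf_le_left)
          rw [he] at hlt ⊢
          interval_cases i <;> omega
        have hW3 : Nat.card W = 3 := by
          rw [Nat.card_zpowers, ← Subgroup.orderOf_coe, ← Subgroup.orderOf_coe]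
          exact orderOf_eq_prime (hEexp e₁ he₁E) fun h => he₁R (by rw [show e₁ = 1 from h]; exact one_mem R)
        rw [hW3] at h1
        omega
      have hbij : Function.Bijective fun k => χ ⟨zp k, hZC _ (hzpZ k)⟩ :=
        (Nat.bijective_iff_injective_and_card _).mpr ⟨hinjχ, le_antisymm
          (Nat.card_le_card_of_injective _ hinjχ) (by rw [Nat.card_zmod]; exact hW)⟩
      exact hbij.2 _
    obtain ⟨k, hk⟩ := hex
    refine ⟨⟨(⟨zp k, hZC _ (hzpZ k)⟩ : C)⁻¹ * ⟨c, hc⟩, by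
      rw [hH, MonoidHom.mem_ker, map_mul, map_inv, hk, inv_mul_cancel]⟩, ?_⟩
    show Φ (((⟨zp k, hZC _ (hzpZ k)⟩ : C)⁻¹ * ⟨c, hc⟩ : C) : X) = _
    rw [Subgroup.coe_mul, Subgroup.coe_inv, map_mul, map_inv, hΦR _ (hZR (hzpZ k)), inv_one, one_mul]
    exact hcg
  let eH := MulEquiv.ofBijective ψ ⟨hψi, hψs⟩
  let θ : H3 →* X := (C.subtype.comp H.subtype).comp eH.symm.toMonoidHom
  have hθΦ : ∀ h, Φ (θ h) = h := fun h => eH.apply_symm_apply h
  have hθC : ∀ h, θ h ∈ C := fun h => (eH.symm h).1.2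
  refine ⟨ι, zp, θ, ⟨hzadd, fun k v => hZcent _ (hzpZ k) _, fun k h => hZcent _ (hzpZ k) _, hmul,
    fun h v => ?_⟩, ?_⟩
  · have h1 := hCI _ (hθC h) v
    rw [← hM, show M (θ h) = h from hθΦ h] at h1
    rw [← h1]; group
  · refine (Nat.bijective_iff_injective_and_card _).mpr ⟨?_, ?_⟩
    · rintro ⟨v, k, h⟩ ⟨w, l, g⟩ heq
      simp only [nf] at heq
      have h1 := congrArg Φ heq
      simp only [map_mul, hθΦ, hΦR _ (hιR _), hΦR _ (hZR (hzpZ _)), one_mul] at h1
      subst h1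
      have h2 := hinj (a₁ := (v, k)) (a₂ := (w, l)) (mul_right_cancel heq)
      simp only [Prod.mk.injEq] at h2
      rw [h2.1, h2.2]
    · rw [Nat.card_prod, Nat.card_prod, Nat.card_fun, Nat.card_zmod, Nat.card_fin, hX,
        Nat.card_eq_fintype_card (α := H3), rot_facts.2.2.2]
      norm_num

section target

open Matrix

variable {F : Type*} [Field F]

/-- The unipotent matrices. -/
def nmat (a b c : F) : Matrix (Fin 2 ⊕ Fin 2) (Fin 2 ⊕ Fin 2) F :=
  fromBlocks !![1, -b; 0, 1] !![c, a; a, 0] 0 !![1, 0; b, 1]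

/-- The Levi matrices. -/
def lmat (p q r s : F) : Matrix (Fin 2 ⊕ Fin 2) (Fin 2 ⊕ Fin 2) F :=
  fromBlocks !![1, 0; 0, p] !![0, 0; 0, q] !![0, 0; 0, r] !![1, 0; 0, s]

theorem nmat_mem (a b c : F) : nmat a b c ∈ symplecticGroup (Fin 2) F := by
  rw [SymplecticGroup.mem_iff, nmat, Matrix.J, fromBlocks_transpose, fromBlocks_multiply,
    fromBlocks_multiply, Matrix.fromBlocks_inj]
  refine ⟨?_, ?_, ?_, ?_⟩ <;> ext i j <;> fin_cases i <;> fin_cases j <;>
    simp [Matrix.mul_apply, Fin.sum_univ_two, Matrix.vecMul, dotProduct]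
  all_goals ring

theorem lmat_mem {p q r s : F} (h : p * s - q * r = 1) :
    lmat p q r s ∈ symplecticGroup (Fin 2) F := by
  rw [SymplecticGroup.mem_iff, lmat, Matrix.J, fromBlocks_transpose, fromBlocks_multiply,
    fromBlocks_multiply, Matrix.fromBlocks_inj]
  refine ⟨?_, ?_, ?_, ?_⟩ <;> ext i j <;> fin_cases i <;> fin_cases j <;>
    simp [Matrix.mul_apply, Fin.sum_univ_two, Matrix.vecMul, dotProduct]
  all_goals first | ring1 | linear_combination h | linear_combination -h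

theorem nmat_mul (a b c a' b' c' : F) :
    nmat a b c * nmat a' b' c' = nmat (a + a') (b + b') (c + c' + (a * b' - b * a')) := by
  rw [nmat, nmat, nmat, fromBlocks_multiply, Matrix.fromBlocks_inj]
  refine ⟨?_, ?_, ?_, ?_⟩ <;> ext i j <;> fin_cases i <;> fin_cases j <;>
    simp [Matrix.mul_apply, Fin.sum_univ_two, Matrix.vecMul, dotProduct] <;> ring

theorem lmat_mul (p q r s p' q' r' s' : F) :
    lmat p q r s * lmat p' q' r' s' =
      lmat (p * p' + q * r') (p * q' + q * s') (r * p' + s * r') (r * q' + s * s') := by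
  rw [lmat, lmat, lmat, fromBlocks_multiply, Matrix.fromBlocks_inj]
  refine ⟨?_, ?_, ?_, ?_⟩ <;> ext i j <;> fin_cases i <;> fin_cases j <;>
    simp [Matrix.mul_apply, Fin.sum_univ_two, Matrix.vecMul, dotProduct]

theorem lmat_nmat {p q r s : F} (a b : F) (h : p * s - q * r = 1) :
    lmat p q r s * nmat a b 0 = nmat (p * a + q * b) (r * a + s * b) 0 * lmat p q r s := by
  rw [nmat, nmat, lmat, fromBlocks_multiply, fromBlocks_multiply, Matrix.fromBlocks_inj]
  refine ⟨?_, ?_, ?_, ?_⟩ <;> ext i j <;> fin_cases i <;> fin_cases j <;>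
    simp [Matrix.mul_apply, Fin.sum_univ_two, Matrix.vecMul, dotProduct]
  all_goals first | ring1 | linear_combination b * h | linear_combination -b * h | linear_combination a * h | linear_combination -a * h

theorem nmat_comm (a b c p q r s : F) :
    nmat 0 0 c * nmat a b 0 = nmat a b 0 * nmat 0 0 c ∧
      nmat 0 0 c * lmat p q r s = lmat p q r s * nmat 0 0 c := by
  refine ⟨by rw [nmat_mul, nmat_mul]; congr 1 <;> ring, ?_⟩
  rw [nmat, lmat, fromBlocks_multiply, fromBlocks_multiply, Matrix.fromBlocks_inj]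
  refine ⟨?_, ?_, ?_, ?_⟩ <;> ext i j <;> fin_cases i <;> fin_cases j <;>
    simp [Matrix.mul_apply, Fin.sum_univ_two, Matrix.vecMul, dotProduct]

theorem lmat_one : lmat (1 : F) 0 0 1 = 1 := by
  ext (i | i) (j | j) <;> fin_cases i <;> fin_cases j <;> simp [lmat]

end target

open CfsgLib.Classical.SympTrans in
/-- The centralizer of a transvection in `PSp(4,3)` is small. -/
theorem card_centralizer_le {F : Type*} [Field F] [Fintype F] (hF : Fintype.card F = 3)
    (v : Fin 2 ⊕ Fin 2 → F) (hv : v ≠ 0) (c : F) (hc : c ≠ 0) :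
    Nat.card (Subgroup.centralizer
      ({(QuotientGroup.mk (T v c) : Cfsg.PSp 2 F)} : Set (Cfsg.PSp 2 F))) ≤ 648 ∧
      Nat.card (Cfsg.PSp 2 F) = 25920 := by
  classical
  haveI : Fact (Nat.Prime 3) := ⟨Nat.prime_three⟩
  let φ : ZMod 3 ≃+* F := ZMod.ringEquivOfPrime F Nat.prime_three hF
  have h3 : (3 : F) = 0 := by rw [← map_ofNat φ 3, show (3 : ZMod 3) = 0 from rfl, map_zero]
  have hall : ∀ a : F, a = 0 ∨ a = 1 ∨ a = -1 := by
    intro a
    obtain ⟨d, rfl⟩ := φ.surjective a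
    rcases zmod3_cases d with rfl | rfl | rfl <;> simp
  set G := Matrix.symplecticGroup (Fin 2) F with hG
  set Z := Subgroup.center G with hZ
  have hcard : Nat.card G = 51840 := by
    rw [hG, card_symplectic, Nat.card_eq_fintype_card (α := F), hF]
    norm_num [Finset.prod_range_succ]
  have hm1 : (-1 : F) ≠ 1 := fun h => by
    have h2 : (2 : F) = 0 := by linear_combination -h
    exact one_ne_zero (α := F) (by linear_combination h3 - h2)
  have hscal : ∀ g : G, g ∈ Z → (g : Matrix (Fin 2 ⊕ Fin 2) (Fin 2 ⊕ Fin 2) F) = 1 ∨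
      (g : Matrix (Fin 2 ⊕ Fin 2) (Fin 2 ⊕ Fin 2) F) = (-1 : F) • 1 := by
    intro g hg
    obtain ⟨a, ha⟩ := (CfsgLib.FormRep.Symplectic.center_iff g).mp hg
    rcases hall a with rfl | rfl | rfl
    · exfalso
      have h1 := SymplecticGroup.mem_iff.mp g.2
      rw [ha, zero_smul, zero_mul, zero_mul] at h1
      have h2 := congrFun (congrFun h1 (Sum.inl 0)) (Sum.inr 0)
      simp [Matrix.J] at h2
    · exact Or.inl (by rw [ha, one_smul])
    · exact Or.inr ha
  have hneg : ((-1 : F) • (1 : Matrix (Fin 2 ⊕ Fin 2) (Fin 2 ⊕ Fin 2) F)) ∈ G := by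
    rw [hG, SymplecticGroup.mem_iff]
    simp
  have hZ2 : Nat.card Z = 2 := by
    rw [Nat.card_eq_two_iff]
    refine ⟨1, ⟨⟨_, hneg⟩, (CfsgLib.FormRep.Symplectic.center_iff _).mpr ⟨-1, rfl⟩⟩, ?_, ?_⟩
    · intro h
      have h1 := congrFun (congrFun (congrArg (fun u : Z => u.1.1) h) (Sum.inl 0)) (Sum.inl 0)
      simp at h1
      exact hm1 h1.symm
    · refine Set.eq_univ_of_forall fun u => ?_
      rcases hscal _ u.2 with h | h
      · exact Or.inl (Subtype.ext (Subtype.ext h))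
      · exact Or.inr (Subtype.ext (Subtype.ext h))
  have hP : Nat.card (Cfsg.PSp 2 F) = 25920 := by
    have h1 := Subgroup.card_eq_card_quotient_mul_card_subgroup Z
    rw [hcard, hZ2] at h1
    show Nat.card (G ⧸ Z) = 25920
    omega
  refine ⟨?_, hP⟩
  set C := Subgroup.centralizer ({(QuotientGroup.mk (T v c) : Cfsg.PSp 2 F)} : Set (Cfsg.PSp 2 F))
  choose mv hmv using fun u : {u : Fin 2 ⊕ Fin 2 → F // u ≠ 0} => exists_app_eq hv u.2
  let f : {u : Fin 2 ⊕ Fin 2 → F // u ≠ 0} → (Cfsg.PSp 2 F) ⧸ C := fun u =>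
    QuotientGroup.mk (QuotientGroup.mk (mv u) : Cfsg.PSp 2 F)
  have hf : ∀ u w, f u = f w → u.1 = w.1 ∨ u.1 = -w.1 := by
    intro u w h
    have h1 := QuotientGroup.eq.mp h
    rw [Subgroup.mem_centralizer_singleton_iff, ← QuotientGroup.mk_inv, ← QuotientGroup.mk_mul,
      ← QuotientGroup.mk_mul, ← QuotientGroup.mk_mul] at h1
    have h2 : (QuotientGroup.mk (mv w * T v c * (mv w)⁻¹) : Cfsg.PSp 2 F) =
        QuotientGroup.mk (mv u * T v c * (mv u)⁻¹) := by
      rw [show mv w * T v c * (mv w)⁻¹ = mv u * ((mv u)⁻¹ * mv w * T v c) * (mv w)⁻¹ by group,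
        QuotientGroup.mk_mul, QuotientGroup.mk_mul, h1, ← QuotientGroup.mk_mul, ← QuotientGroup.mk_mul]
      congr 1; group
    rw [conj_T, conj_T, hmv, hmv] at h2
    have h4 := QuotientGroup.eq.mp h2
    have hT3 : ∀ x : Fin 2 ⊕ Fin 2 → F, T x c ^ 3 = 1 := fun x => by
      rw [pow_succ, pow_two, T_mul, T_mul, show c + c + c = 0 by linear_combination c * h3, T_zero]
    have h5 : T w.1 c = T u.1 c := by
      set d := (T w.1 c)⁻¹ * T u.1 c with hd
      have hd' : T u.1 c = T w.1 c * d := by rw [hd, mul_inv_cancel_left]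
      have hcd : Commute (T w.1 c) d := (Subgroup.mem_center_iff.mp h4 (T w.1 c))
      have hd3 : d ^ 3 = 1 := by
        have h6 := hT3 u.1
        rwa [hd', hcd.mul_pow, hT3, one_mul] at h6
      rcases hscal d h4 with h7 | h7
      · rw [hd', show d = 1 from Subtype.ext h7, mul_one]
      · exfalso
        have h8 := congrFun (congrFun (congrArg (fun g : G => g.1) hd3) (Sum.inl 0)) (Sum.inl 0)
        simp [h7, pow_succ] at h8
        exact hm1 h8
    have h9 : ∀ x, (c * sympForm 2 F x w.1) • w.1 = (c * sympForm 2 F x u.1) • u.1 := fun x => by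
      have h10 := congrArg (fun g => app g x) h5
      simp only [app_T] at h10
      exact add_left_cancel h10
    obtain ⟨a, ha⟩ : ∃ a : F, u.1 = a • w.1 := by
      by_contra hne
      push Not at hne
      obtain ⟨x, hx, hx'⟩ := exists_perp_f_ne hne
      have h10 := h9 x
      rw [f_swap w.1 x, show sympForm 2 F w.1 x = 0 from hx, neg_zero, mul_zero, zero_smul,
        eq_comm, smul_eq_zero] at h10
      rcases h10 with h11 | h11
      · rw [f_swap u.1 x, mul_neg, neg_eq_zero] at h11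
        rcases mul_eq_zero.mp h11 with h12 | h12
        · exact hc h12
        · exact hx' h12
      · exact u.2 h11
    rcases hall a with rfl | rfl | rfl
    · exact absurd (by rw [ha, zero_smul]) u.2
    · exact Or.inl (by rw [ha, one_smul])
    · exact Or.inr (by rw [ha, neg_one_smul])
  haveI : Fintype ((Cfsg.PSp 2 F) ⧸ C) := Fintype.ofFinite _
  have hfib := Finset.card_le_mul_card_image (f := f) Finset.univ 2 fun b _ => by
    by_cases hb : ∃ u, f u = b
    · obtain ⟨u, rfl⟩ := hb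
      refine le_trans (Finset.card_le_card (t := ({u, ⟨-u.1, neg_ne_zero.mpr u.2⟩} : Finset _)) ?_) Finset.card_le_two
      intro w hw
      simp only [Finset.mem_filter] at hw
      rcases hf w u hw.2 with h | h <;> simp [Subtype.ext_iff, h]
    · push Not at hb
      rw [Finset.filter_false_of_mem fun u _ => hb u, Finset.card_empty]
      exact Nat.zero_le _
  have h80 : (Finset.univ : Finset {u : Fin 2 ⊕ Fin 2 → F // u ≠ 0}).card = 80 := by
    rw [Finset.card_univ, Fintype.card_subtype_compl, Fintype.card_subtype_eq, Fintype.card_fun,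
      Fintype.card_sum, Fintype.card_fin, hF]
    norm_num
  rw [h80] at hfib
  have him : (Finset.univ.image f).card ≤ C.index := by
    rw [Subgroup.index_eq_card, Nat.card_eq_fintype_card]; exact Finset.card_le_univ _
  have hm := C.card_mul_index
  rw [hP] at hm
  nlinarith

open CfsgLib.Classical.SympTrans in
/-- The target carries the laws. -/
theorem target_law {F : Type*} [Field F] [Fintype F] (hF : Fintype.card F = 3) :
    ∃ (ι : V3 → Cfsg.PSp 2 F) (zp : ZMod 3 → Cfsg.PSp 2 F) (θ : H3 →* Cfsg.PSp 2 F),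
      Law ι zp θ ∧ Function.Injective (nf ι zp θ) ∧
      ∃ v : Fin 2 ⊕ Fin 2 → F, v ≠ 0 ∧ zp 1 = QuotientGroup.mk (T v 2) := by
  classical
  haveI : Fact (Nat.Prime 3) := ⟨Nat.prime_three⟩
  let φ : ZMod 3 ≃+* F := ZMod.ringEquivOfPrime F Nat.prime_three hF
  have h3 : (3 : F) = 0 := by rw [← map_ofNat φ 3, show (3 : ZMod 3) = 0 from rfl, map_zero]
  let N : F → F → F → Matrix.symplecticGroup (Fin 2) F := fun a b c => ⟨nmat a b c, nmat_mem a b c⟩
  have hdet : ∀ h : H3, φ (h.1 0 0) * φ (h.1 1 1) - φ (h.1 0 1) * φ (h.1 1 0) = 1 := fun h => by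
    have := h.2
    rw [Matrix.det_fin_two] at this
    rw [← map_mul, ← map_mul, ← map_sub, this, map_one]
  let L : H3 → Matrix.symplecticGroup (Fin 2) F := fun h =>
    ⟨lmat (φ (h.1 0 0)) (φ (h.1 0 1)) (φ (h.1 1 0)) (φ (h.1 1 1)), lmat_mem (hdet h)⟩
  let Lh : H3 →* Matrix.symplecticGroup (Fin 2) F := MonoidHom.mk' L fun g h => by
    refine Subtype.ext (Eq.trans ?_ (lmat_mul _ _ _ _ _ _ _ _).symm)
    show lmat _ _ _ _ = _
    simp [Matrix.SpecialLinearGroup.coe_mul, Matrix.mul_apply, Fin.sum_univ_two]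
  let mk := QuotientGroup.mk' (Subgroup.center (Matrix.symplecticGroup (Fin 2) F))
  refine ⟨fun v => mk (N (φ (v 0)) (φ (v 1)) 0), fun k => mk (N 0 0 (φ (2 * k))),
    mk.comp Lh, ⟨?_, ?_, ?_, ?_, ?_⟩, ?_, Pi.single (Sum.inl 0) 1, ?_, ?_⟩
  · intro k l
    rw [← map_mul]; congr 1; apply Subtype.ext
    show nmat _ _ _ * nmat _ _ _ = nmat _ _ _
    rw [nmat_mul, mul_add, map_add]; congr 1 <;> ring
  · intro k v
    rw [← map_mul, ← map_mul]; congr 1; apply Subtype.ext
    exact (nmat_comm _ _ _ (0 : F) 0 0 0).1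
  · intro k h
    show mk _ * mk (Lh h) = mk (Lh h) * mk _
    rw [← map_mul, ← map_mul]; congr 1; apply Subtype.ext
    exact (nmat_comm (0 : F) 0 _ _ _ _ _).2
  · intro v w
    rw [← map_mul, ← map_mul]; congr 1; apply Subtype.ext
    show nmat _ _ _ * nmat _ _ _ = nmat _ _ _ * nmat _ _ _
    rw [nmat_mul, nmat_mul]
    simp only [om, Pi.add_apply, map_add, map_mul, map_sub, map_ofNat]
    congr 1
    · ring
    · ring
    · linear_combination (φ (v 1) * φ (w 0) - φ (v 0) * φ (w 1)) * h3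
  · intro h v
    show mk (Lh h) * mk _ = mk _ * mk (Lh h)
    rw [← map_mul, ← map_mul]; congr 1; apply Subtype.ext
    show lmat _ _ _ _ * nmat _ _ _ = nmat _ _ _ * lmat _ _ _ _
    rw [lmat_nmat _ _ (hdet h)]
    simp [act, Matrix.mulVec, dotProduct, Fin.sum_univ_two]
  · rintro ⟨v, k, h⟩ ⟨w, l, g⟩ heq
    change mk _ * mk _ * mk (Lh h) = mk _ * mk _ * mk (Lh g) at heq
    rw [← map_mul, ← map_mul, ← map_mul, ← map_mul] at heq
    obtain ⟨c, hc⟩ := (CfsgLib.FormRep.Symplectic.center_iff _).mp (QuotientGroup.eq.mp heq)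
    set P := N (φ (v 0)) (φ (v 1)) 0 * N 0 0 (φ (2 * k)) * Lh h with hP
    set Q := N (φ (w 0)) (φ (w 1)) 0 * N 0 0 (φ (2 * l)) * Lh g with hQ
    have hQP : (Q : Matrix (Fin 2 ⊕ Fin 2) (Fin 2 ⊕ Fin 2) F) = c • (P : Matrix _ _ F) := by
      have h1 : Q = P * (P⁻¹ * Q) := (mul_inv_cancel_left P Q).symm
      have h2 := congrArg Subtype.val h1
      simp only [Submonoid.coe_mul] at h2
      rw [h2]
      change P.1 * (P⁻¹ * Q).1 = _
      rw [hc, Matrix.mul_smul, mul_one]
    have hP' : (P : Matrix (Fin 2 ⊕ Fin 2) (Fin 2 ⊕ Fin 2) F) =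
        nmat (φ (v 0)) (φ (v 1)) (φ (2 * k)) * lmat (φ (h.1 0 0)) (φ (h.1 0 1)) (φ (h.1 1 0)) (φ (h.1 1 1)) := by
      rw [hP]; show nmat _ _ _ * nmat _ _ _ * lmat _ _ _ _ = _
      rw [nmat_mul]; congr 2 <;> ring
    have hQ' : (Q : Matrix (Fin 2 ⊕ Fin 2) (Fin 2 ⊕ Fin 2) F) =
        nmat (φ (w 0)) (φ (w 1)) (φ (2 * l)) * lmat (φ (g.1 0 0)) (φ (g.1 0 1)) (φ (g.1 1 0)) (φ (g.1 1 1)) := by
      rw [hQ]; show nmat _ _ _ * nmat _ _ _ * lmat _ _ _ _ = _
      rw [nmat_mul]; congr 2 <;> ring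
    rw [hP', hQ'] at hQP
    have ent := fun i j => congrFun (congrFun hQP i) j
    have e1 := ent (Sum.inl 0) (Sum.inl 0)
    simp [nmat, lmat, Matrix.fromBlocks_multiply, Matrix.mul_apply, Fin.sum_univ_two] at e1
    subst e1
    rw [one_smul] at hQP
    have e2 := congrFun (congrFun hQP (Sum.inl 0)) (Sum.inr 0)
    have e3 := congrFun (congrFun hQP (Sum.inl 1)) (Sum.inr 0)
    have e4 := congrFun (congrFun hQP (Sum.inr 1)) (Sum.inr 0)
    have e5 := congrFun (congrFun hQP (Sum.inl 1)) (Sum.inl 1)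
    have e6 := congrFun (congrFun hQP (Sum.inl 1)) (Sum.inr 1)
    have e7 := congrFun (congrFun hQP (Sum.inr 1)) (Sum.inl 1)
    have e8 := congrFun (congrFun hQP (Sum.inr 1)) (Sum.inr 1)
    simp [nmat, lmat, Matrix.fromBlocks_multiply, Matrix.mul_apply, Fin.sum_univ_two, ← map_mul]
      at e2 e3 e4 e5 e6 e7 e8
    have hk : k = l := (e2.resolve_right two_ne).symm
    have hg : g = h := Subtype.ext (by ext i j; fin_cases i <;> fin_cases j <;> assumption)
    have hvw : v = w := by funext i; fin_cases i; exacts [e3.symm, e4.symm]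
    rw [hvw, hk, hg]
  · intro h
    have := congrFun h (Sum.inl 0)
    simp at this
  · show mk (N 0 0 (φ (2 * 1))) = mk (T _ 2)
    congr 1
    refine ext_app fun x => ?_
    rw [app_T]
    funext i
    have hw : sympForm 2 F x (Pi.single (Sum.inl 0) 1) = x (Sum.inr 0) := f_inl x 0
    rw [hw]
    simp only [app, N, nmat, Matrix.mulVec, dotProduct, Fintype.sum_sum_type, Fin.sum_univ_two]
    rcases i with i | i <;> fin_cases i <;> simp [map_mul, map_ofNat] <;> ring

/-- A finite group of shape 3^{1+2}.SL(2,3) with trivial 2-core and an elementary abelian subgroup of order 27 is the centralizer of a 3-central element of order 3 in PSp(4,3). -/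
theorem result {X : Type*} [Group X] [Finite X]
    (hR : Cfsg.IsExtraspecial 3 (Cfsg.pCore 3 X)) (hRcard : Nat.card (Cfsg.pCore 3 X) = 27)
    (hRexp : ∀ r ∈ Cfsg.pCore 3 X, r ^ 3 = 1)
    (e : X ⧸ Cfsg.pCore 3 X ≃* Matrix.SpecialLinearGroup (Fin 2) (ZMod 3))
    (hO2 : Cfsg.pCore 2 X = ⊥)
    (hE : ∃ E : Subgroup X, IsMulCommutative E ∧ (∀ a ∈ E, a ^ 3 = 1) ∧ Nat.card E = 27)
    (F : Type*) [Field F] [Fintype F] (hF : Fintype.card F = 3) :
    ∃ (c : Cfsg.PSp 2 F) (S : Sylow 3 (Cfsg.PSp 2 F)), orderOf c = 3 ∧ c ∈ (S : Subgroup (Cfsg.PSp 2 F)) ∧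
      c ∈ Subgroup.centralizer ((S : Subgroup (Cfsg.PSp 2 F)) : Set (Cfsg.PSp 2 F)) ∧
      Nonempty (X ≃* Subgroup.centralizer ({c} : Set (Cfsg.PSp 2 F))) := by
  classical
  haveI : Fact (Nat.Prime 3) := ⟨Nat.prime_three⟩
  obtain ⟨ι, zp, θ, L, hb⟩ := exists_law hR hRcard hRexp e hO2 hE
  obtain ⟨ι', zp', θ', L', hi, v, hv, hz⟩ := target_law hF
  obtain ⟨φ, hφ, hφn⟩ := exists_hom L L' hb hi
  set c := zp' 1 with hc
  have hc2 : (2 : F) ≠ 0 := fun h => by
    let ψ : ZMod 3 ≃+* F := ZMod.ringEquivOfPrime F Nat.prime_three hF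
    have : ψ 2 = ψ 0 := by rw [map_ofNat, map_zero, h]
    exact two_ne (ψ.injective this)
  obtain ⟨hle, hP⟩ := card_centralizer_le hF v hv 2 hc2
  rw [← hz] at hle
  set C := Subgroup.centralizer ({c} : Set (Cfsg.PSp 2 F)) with hC
  have hrange : φ.range ≤ C := by
    rintro _ ⟨x, rfl⟩
    obtain ⟨⟨w, k, h⟩, rfl⟩ := hb.2 x
    rw [hC, Subgroup.mem_centralizer_singleton_iff, hφn]
    exact (((show Commute c (ι' w) from L'.zι 1 w).mul_right
      (show Commute c (zp' k) by
        show zp' 1 * zp' k = zp' k * zp' 1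
        rw [L'.zadd, L'.zadd, add_comm])).mul_right (show Commute c (θ' h) from L'.zθ 1 h)).symm.eq
  have hX : Nat.card X = 648 := by
    rw [← Nat.card_congr (Equiv.ofBijective _ hb), Nat.card_prod, Nat.card_prod, Nat.card_fun,
      Nat.card_zmod, Nat.card_fin, Nat.card_eq_fintype_card (α := H3), rot_facts.2.2.2]
    norm_num
  have hrc : Nat.card φ.range = 648 := by
    rw [← hX]; exact (Nat.card_congr (MonoidHom.ofInjective hφ).toEquiv).symm
  have heq : φ.range = C := Subgroup.eq_of_le_of_card_ge hrange (by rw [hrc]; exact hle)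
  have hzero : zp' 0 = 1 := mul_eq_left.mp (show zp' 0 * zp' 0 = zp' 0 by rw [L'.zadd, add_zero])
  have hc3 : orderOf c = 3 := by
    refine orderOf_eq_prime ?_ fun h => ?_
    · rw [pow_succ, pow_two, L'.zadd, L'.zadd, show (1 + 1 + 1 : ZMod 3) = 0 from rfl, hzero]
    · have h1 : nf ι' zp' θ' (0, 1, 1) = nf ι' zp' θ' (0, 0, 1) := by
        simp only [nf]; rw [← hc, h, hzero]
      exact one_ne (congrArg (fun t => t.2.1) (hi h1))
  obtain ⟨S₀⟩ := (inferInstance : Nonempty (Sylow 3 C))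
  have hcC : c ∈ C := by rw [hC, Subgroup.mem_centralizer_singleton_iff]
  have hidx : C.index = 40 := by
    have h1 := C.card_mul_index
    rw [hP, ← heq, hrc] at h1
    rw [← heq]
    omega
  have hS₀ : ¬ 3 ∣ ((S₀ : Subgroup C).map C.subtype).index := by
    rw [Subgroup.index_map, Subgroup.ker_subtype, sup_bot_eq, Subgroup.range_subtype, hidx]
    intro h
    rcases (Nat.Prime.dvd_mul Nat.prime_three).mp h with h' | h'
    · exact S₀.not_dvd_index h'
    · omega
  let S : Sylow 3 (Cfsg.PSp 2 F) := (S₀.2.map C.subtype).toSylow hS₀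
  refine ⟨c, S, hc3, ?_, ?_, ⟨(MonoidHom.ofInjective hφ).trans (MulEquiv.subgroupCongr heq)⟩⟩
  · have hcen : (⟨c, hcC⟩ : C) ∈ Subgroup.center C := Subgroup.mem_center_iff.mpr fun g =>
      Subtype.ext (Subgroup.mem_centralizer_singleton_iff.mp g.2)
    have hp : IsPGroup 3 (Subgroup.zpowers (⟨c, hcC⟩ : C)) :=
      IsPGroup.of_card (n := 1) (by rw [Nat.card_zpowers, Subgroup.orderOf_mk, hc3, pow_one])
    haveI : (Subgroup.zpowers (⟨c, hcC⟩ : C)).Normal :=
      ⟨fun w hw g => by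
        have hwc : w ∈ Subgroup.center C := (Subgroup.zpowers_le.mpr hcen) hw
        rwa [Subgroup.mem_center_iff.mp hwc g, mul_inv_cancel_right]⟩
    have h1 := IsPGroup.le_sylow_of_normal hp S₀
    exact ⟨⟨c, hcC⟩, h1 (Subgroup.mem_zpowers _), rfl⟩
  · rintro _ ⟨g, -, rfl⟩
    exact Subgroup.mem_centralizer_singleton_iff.mp g.2

end Cfsg.Agent.S3366
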