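import Cfsg.Statements.S3371
import Cfsg.Agent.Lib.HalfTransP.Dihedral
import Cfsg.Agent.Lib.HalfTransP.Monomial
-- import your own Cfsg.Agent.* helpers here

set_option autoImplicit false
open Cfsg

namespace Cfsg.Agent.S3371

/-- Let q be a prime, V a non-trivial finite vector space over the field with q elements, and G a finite p-group (p prime) acting faithfully and linearly on V such that all G-orbits on the non-zero vectors have the same size. Then one of the following holds: G is cyclic or generalized quaternion and acts semiregularly on the non-zero vectors; or V has q² elements with q = 2^m − 1 and G is dihedral of order 2^(m+1) or semidihedral of order 2^(m+2); or V has q² elements with q = 2^m + 1 and, in suitable coordinates V = F_q², G is exactly the group of maps (x, y) ↦ (a x, ± a⁻¹ y) and (x, y) ↦ (± a⁻¹ y, a x) with a ≠ 0; or V has 81 elements (q = 3) and G is a 2-group. -/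
theorem result (q : ℕ) [Fact q.Prime] {V : Type*} [AddCommGroup V] [Module (ZMod q) V] [Finite V] [Nontrivial V]
    {G : Type*} [Group G] [Finite G] (p : ℕ) [Fact p.Prime] (hG : IsPGroup p G)
    (ρ : G →* (V ≃ₗ[ZMod q] V)) (hρ : Function.Injective ρ)
    (hhalf : ∀ v w : V, v ≠ 0 → w ≠ 0 → Nat.card {u : V | ∃ g : G, ρ g v = u} = Nat.card {u : V | ∃ g : G, ρ g w = u}) :
    ((IsCyclic G ∨ ∃ n : ℕ, Nonempty (G ≃* QuaternionGroup n)) ∧ ∀ v : V, v ≠ 0 → ∀ g : G, ρ g v = v → g = 1) ∨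
    (Nat.card V = q ^ 2 ∧ ∃ m : ℕ, q = 2 ^ m - 1 ∧
      (Nonempty (G ≃* DihedralGroup (2 ^ m)) ∨ (Cfsg.IsQuasiDihedral G ∧ Nat.card G = 2 ^ (m + 2)))) ∨
    (Nat.card V = q ^ 2 ∧ (∃ m : ℕ, q = 2 ^ m + 1) ∧
      ∃ e : V ≃ₗ[ZMod q] (Fin 2 → ZMod q), ∀ f : (Fin 2 → ZMod q) ≃ₗ[ZMod q] (Fin 2 → ZMod q),
        (∃ g : G, f = e.symm.trans ((ρ g).trans e)) ↔
        ∃ a s : ZMod q, a ≠ 0 ∧ (s = 1 ∨ s = -1) ∧
          ((∀ v, f v = ![a * v 0, s * a⁻¹ * v 1]) ∨ (∀ v, f v = ![s * a⁻¹ * v 1, a * v 0]))) ∨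
    (Nat.card V = 81 ∧ q = 3 ∧ p = 2) := by
  classical
  have hst := fun v w hv hw => CfsgLib.HalfTransP.card_St_eq ρ hhalf (v := v) (w := w) hv hw
  by_cases hreg : ∀ v : V, v ≠ 0 → ∀ g : G, ρ g v = v → g = 1
  · exact Or.inl ⟨CfsgLib.HalfTransP.regular_case ρ hG hρ hreg, hreg⟩
  right
  push Not at hreg
  obtain ⟨v0, hv0, g0, hg0, hg01⟩ := hreg
  have hne : ∀ v : V, v ≠ 0 → CfsgLib.HalfTransP.St ρ v ≠ ⊥ := by
    intro v hv h
    have h1 : CfsgLib.HalfTransP.St ρ v0 = ⊥ := by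
      apply Subgroup.eq_bot_of_card_eq
      rw [hst v0 v hv0 hv, h, Subgroup.card_bot]
    exact hg01 ((Subgroup.eq_bot_iff_forall _).mp h1 g0 hg0)
  have hpq := CfsgLib.HalfTransP.ne_char ρ hG hρ hst hne
  have hirr := CfsgLib.HalfTransP.irreducible_of_nonregular ρ hG hρ hst hne
  -- central elements fixing nothing
  have hncomm : ∀ x : G, x ∈ CfsgLib.HalfTransP.St ρ v0 → (∀ g, g * x = x * g) → x = 1 :=
    fun x hx hxc => CfsgLib.HalfTransP.eq_one_of_central ρ hρ hirr hxc hv0 hx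
  have hnab : ¬ ∀ a b : G, a * b = b * a := fun h => hg01 (hncomm g0 hg0 fun g => h g g0)
  have hnc : ¬ IsCyclic G := fun h => hnab fun a b =>
    (IsCyclic.isMulCommutative : IsMulCommutative G).is_comm.comm a b
  have hnq : ∀ n : ℕ, ¬ Nonempty (G ≃* QuaternionGroup n) := by
    rintro n ⟨e⟩
    rcases Nat.eq_zero_or_pos n with rfl | hn
    · haveI : Finite (QuaternionGroup 0) := Finite.of_equiv _ e.toEquiv
      haveI : Finite ℤ := Finite.of_injective (fun i : ℤ => (QuaternionGroup.a i : QuaternionGroup 0))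
        fun u v h => QuaternionGroup.a.inj h
      exact (not_finite ℤ).elim
    haveI : NeZero n := ⟨hn.ne'⟩
    have hp2 : p = 2 := by
      have h2 : 2 ∣ Nat.card G := by
        rw [Nat.card_congr e.toEquiv, Nat.card_eq_fintype_card, QuaternionGroup.card]
        exact dvd_mul_of_dvd_left (by norm_num) n
      obtain ⟨k, hk⟩ := IsPGroup.iff_card.mp hG
      exact ((Nat.prime_dvd_prime_iff_eq Nat.prime_two Fact.out).mp
        (Nat.prime_two.dvd_of_dvd_pow (hk ▸ h2))).symm
    obtain ⟨k, hk⟩ := IsPGroup.iff_card.mp (hG.to_subgroup (CfsgLib.HalfTransP.St ρ v0))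
    have hk0 : k ≠ 0 := fun h => hne v0 hv0 (Subgroup.eq_bot_of_card_eq _ (by rw [hk, h, pow_zero]))
    obtain ⟨x, hx⟩ := exists_prime_orderOf_dvd_card' (G := CfsgLib.HalfTransP.St ρ v0) p
      (hk ▸ dvd_pow_self p hk0)
    have hx2 : (x : G) * x = 1 := by
      rw [← pow_two, ← hp2, ← hx, ← Subgroup.orderOf_coe, pow_orderOf_eq_one]
    have h1 : (x : G) = 1 := hncomm x x.2 fun g => e.injective (by
      rw [map_mul, map_mul]
      exact CfsgLib.HalfTransP.quaternion_central (e x) (by rw [← map_mul, hx2, map_one]) (e g))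
    rw [← Subgroup.orderOf_coe, h1, orderOf_one] at hx
    exact (Fact.out : p.Prime).ne_one hx.symm
  by_cases hd : ∃ n, Nonempty (G ≃* DihedralGroup n)
  · left
    obtain ⟨n, ⟨e⟩⟩ := hd
    rcases Nat.eq_zero_or_pos n with rfl | hn
    · haveI : Finite (DihedralGroup 0) := Finite.of_equiv _ e.toEquiv
      haveI : Finite ℤ := Finite.of_injective (fun i : ℤ => (DihedralGroup.r i : DihedralGroup 0))
        fun u v h => DihedralGroup.r.inj h
      exact (not_finite ℤ).elim
    haveI : NeZero n := ⟨hn.ne'⟩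
    obtain ⟨k, hk⟩ := IsPGroup.iff_card.mp hG
    rw [Nat.card_congr e.toEquiv, DihedralGroup.nat_card] at hk
    have hp2 : p = 2 := ((Nat.prime_dvd_prime_iff_eq Nat.prime_two Fact.out).mp
        (Nat.prime_two.dvd_of_dvd_pow (hk ▸ Dvd.intro n rfl : 2 ∣ p ^ k))).symm
    subst hp2
    obtain ⟨a, -, rfl⟩ := (Nat.dvd_prime_pow Nat.prime_two).mp (hk ▸ Dvd.intro_left 2 rfl : n ∣ 2 ^ k)
    rcases a with _ | _ | a
    · exfalso
      exact hnab fun x y => e.injective (by
        rw [map_mul, map_mul]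
        generalize e x = u
        generalize e y = w
        revert u w
        show ∀ u w : DihedralGroup 1, u * w = w * u
        decide)
    · exfalso
      exact hnab fun x y => e.injective (by
        rw [map_mul, map_mul]
        generalize e x = u
        generalize e y = w
        revert u w
        show ∀ u w : DihedralGroup 2, u * w = w * u
        decide)
    obtain ⟨hV, hq⟩ := CfsgLib.HalfTransP.dihedral_case ρ hρ (Ne.symm hpq) hirr hne e
    exact ⟨hV, a + 2, by omega, Or.inl ⟨e⟩⟩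
  by_cases hsd : Cfsg.IsQuasiDihedral G
  · left
    obtain ⟨n, hn, hG', x, y, hx, hy, hxy⟩ := id hsd
    have hp2 : p = 2 := by
      obtain ⟨k, hk⟩ := IsPGroup.iff_card.mp hG
      have h2 : 2 ∣ Nat.card G := hG' ▸ dvd_pow_self 2 (Nat.succ_ne_zero n)
      exact ((Nat.prime_dvd_prime_iff_eq Nat.prime_two Fact.out).mp
        (Nat.prime_two.dvd_of_dvd_pow (hk ▸ h2))).symm
    subst hp2
    obtain ⟨a, rfl⟩ := Nat.exists_eq_add_of_le' hn
    obtain ⟨hV, hq⟩ := CfsgLib.HalfTransP.semidihedral_case ρ hρ (Ne.symm hpq) hirr hne hG' hx hy hxy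
    exact ⟨hV, a + 2, by omega, Or.inr ⟨hsd, hG'⟩⟩
  right
  obtain ⟨H, W, hidx, htop, hind, hinv, hker, hperm⟩ := Cfsg.Agent.S3380.result q p hG ρ hρ hirr hnc hnq
    (fun n h => hd ⟨n, h⟩) hsd
  exact CfsgLib.HalfTransP.imprimitive_case ρ hG hρ hst hne hpq H W hidx htop hind
    hinv (fun i => by obtain ⟨h, a, b, c⟩ := hker i; exact ⟨h, a, b, c⟩) hperm

end Cfsg.Agent.S3371
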