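import Cfsg.Statements.S3374
import Cfsg.Agent.Lib.PerfectCompl.Cover
import Cfsg.Agent.Lib.FrobCompl.Basic
import Cfsg.Agent.Lib.SL2.Facts
import Cfsg.Agent.S2543
import Cfsg.Agent.Lib.SL2.MinimalSimple

set_option autoImplicit false
set_option maxHeartbeats 800000
set_option linter.style.haveILetI false
open Cfsg

namespace Cfsg.Agent.S3374

open scoped MatrixGroups

instance : Fact (Nat.Prime 11) := ⟨by norm_num⟩

/-- SL(2,5) is a (non-solvable) Frobenius complement: it is isomorphic to a Frobenius complement of some finite Frobenius group. -/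
theorem result :
    ∃ (L : Type) (_ : Group L) (_ : Finite L) (H : Subgroup L),
      Cfsg.IsFrobeniusComplement H ∧ Nonempty (H ≃* Matrix.SpecialLinearGroup (Fin 2) (ZMod 5)) := by
  classical
  obtain ⟨-, A, -, ⟨eA⟩, -⟩ := Cfsg.Agent.S2543.result (F := ZMod 11) (ZMod.card 11)
  set π := QuotientGroup.mk' (Subgroup.center SL(2, ZMod 11))
  have hπ : Function.Surjective π := QuotientGroup.mk'_surjective _
  set P := A.comap π with hPdef
  have h2 : (2 : ZMod 11) ≠ 0 := by decide
  have hneg : (-1 : SL(2, ZMod 11)) ∈ P := by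
    show π (-1) ∈ A
    rw [show π (-1) = 1 from (QuotientGroup.eq_one_iff _).mpr CfsgLib.SL2.neg_one_mem_center]
    exact one_mem A
  have hAcard : Nat.card A = 60 := by
    rw [Nat.card_congr eA.toEquiv, Nat.card_eq_fintype_card]
    decide +kernel
  let f : P →* A := (π.comp P.subtype).codRestrict A fun x => x.2
  have hf : Function.Surjective f := fun a => by
    obtain ⟨x, hx⟩ := hπ a
    exact ⟨⟨x, show π x ∈ A from hx ▸ a.2⟩, Subtype.ext hx⟩
  have hPcard : Nat.card P = 120 := by
    have h1 := P.card_mul_index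
    have h2' := A.card_mul_index
    have h3 := Subgroup.card_eq_card_quotient_mul_card_subgroup (Subgroup.center SL(2, ZMod 11))
    rw [hPdef, Subgroup.index_comap_of_surjective _ hπ, h3, ← h2', hAcard,
      CfsgLib.Classical.card_center_SL, Fintype.card_fin, Nat.card_zmod, show Nat.gcd 2 (11 - 1) = 2 from rfl] at h1
    rw [hPdef]
    have hpos : 0 < A.index := Nat.pos_of_ne_zero Subgroup.index_ne_zero_of_finite
    nlinarith
  set z : P := ⟨-1, hneg⟩ with hzdef
  have hz : orderOf z = 2 := by rw [hzdef, Subgroup.orderOf_mk, CfsgLib.SL2.orderOf_neg_one h2]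
  have hzc : ∀ x : P, Commute z x := fun x =>
    Subtype.ext (Subgroup.mem_center_iff.mp CfsgLib.SL2.neg_one_mem_center (x : SL(2, ZMod 11))).symm
  have hperfA : commutator A = ⊤ := by
    have hA : commutator (alternatingGroup (Fin 5)) = ⊤ := by
      haveI : IsSimpleGroup (alternatingGroup (Fin 5)) := alternatingGroup.isSimpleGroup_five
      rcases (inferInstance : (commutator (alternatingGroup (Fin 5))).Normal).eq_bot_or_eq_top with h | h
      · exfalso
        exact CfsgLib.SL2.not_isSolvable_alternating_five ⟨⟨1, by rw [derivedSeries_one, h]⟩⟩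
      · exact h
    rw [commutator_def, ← Subgroup.map_top_of_surjective eA.symm.toMonoidHom eA.symm.surjective,
      ← Subgroup.map_commutator, ← commutator_def, hA]
  have hmap : (commutator P).map f = ⊤ := by
    rw [commutator_def, Subgroup.map_commutator, Subgroup.map_top_of_surjective _ hf, ← commutator_def, hperfA]
  have hfcard : Nat.card f.ker = 2 := by
    have h := Subgroup.card_eq_card_quotient_mul_card_subgroup f.ker
    rw [Nat.card_congr (QuotientGroup.quotientKerEquivOfSurjective f hf).toEquiv, hPcard, hAcard] at h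
    omega
  have hzk : z ∈ f.ker := Subtype.ext ((QuotientGroup.eq_one_iff _).mpr CfsgLib.SL2.neg_one_mem_center)
  have hkerz : f.ker = Subgroup.zpowers z :=
    (Subgroup.eq_of_le_of_card_ge (Subgroup.zpowers_le.mpr hzk) (by rw [Nat.card_zpowers, hz, hfcard])).symm
  have hzD : z ∈ commutator P := by
    obtain ⟨t, ht⟩ := exists_prime_orderOf_dvd_card' (G := commutator P) (p := 2) (by
      have h := Subgroup.card_map_dvd (commutator P) f
      rw [hmap, Subgroup.card_top, hAcard] at h
      exact (show 2 ∣ 60 by norm_num).trans h)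
    have ht2 : (((t : P) : SL(2, ZMod 11)) : SL(2, ZMod 11)) * ((t : P) : SL(2, ZMod 11)) = 1 := by
      have := pow_orderOf_eq_one t
      rw [ht, pow_two] at this
      exact congrArg (fun w : commutator P => ((w : P) : SL(2, ZMod 11))) this
    have ht1 : ((t : P) : SL(2, ZMod 11)) ≠ 1 := fun e => by
      have : orderOf t = 1 := orderOf_eq_one_iff.mpr (Subtype.ext (Subtype.ext e))
      omega
    rw [show z = (t : P) from Subtype.ext (CfsgLib.SL2.eq_neg_one_of_mul_self h2 ht2 ht1).symm]
    exact t.2
  have hperf : commutator P = ⊤ := by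
    rw [eq_top_iff]
    intro x _
    obtain ⟨d, hd, he⟩ := hmap.ge (Subgroup.mem_top (f x))
    have hk : d⁻¹ * x ∈ f.ker := by rw [MonoidHom.mem_ker, map_mul, map_inv, he, inv_mul_cancel]
    rw [hkerz] at hk
    have h := mul_mem (SetLike.mem_coe.mp hd) (Subgroup.zpowers_le.mpr hzD hk)
    rwa [mul_inv_cancel_left] at h
  obtain ⟨e⟩ := CfsgLib.PerfectCompl.iso_SL25 hperf hPcard hz hzc
  haveI : Nontrivial P := Finite.one_lt_card_iff_nontrivial.mp (by omega)
  obtain ⟨L, iL, fL, C, hC, ⟨e'⟩⟩ := CfsgLib.FrobCompl.exists_isFrobeniusComplement (H := P) (V := Fin 2 → ZMod 11)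
    (fun g v => ((g : SL(2, ZMod 11)) : Matrix (Fin 2) (Fin 2) (ZMod 11)).mulVec v) (fun v => by simp)
    (fun g h v => (Matrix.mulVec_mulVec v _ _).symm) (fun g v w => Matrix.mulVec_add _ v w) (fun g hg v hv => by
      by_contra hv0
      set X : Matrix (Fin 2) (Fin 2) (ZMod 11) := ((g : SL(2, ZMod 11)) : Matrix (Fin 2) (Fin 2) (ZMod 11)) with hX
      have hdet : (X - 1).det = 0 :=
        Matrix.exists_mulVec_eq_zero_iff.mp ⟨v, hv0, by rw [Matrix.sub_mulVec, hv, Matrix.one_mulVec, sub_self]⟩
      have hd1 : X.det = 1 := (g : SL(2, ZMod 11)).2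
      have htr : X 0 0 + X 1 1 = 2 := by
        rw [Matrix.det_fin_two] at hdet hd1
        simp at hdet
        linear_combination -hdet + hd1
      have hsq : (X - 1) * (X - 1) = 0 := by
        rw [Matrix.det_fin_two] at hd1
        ext i j
        fin_cases i <;> fin_cases j <;> simp [Matrix.mul_apply, Fin.sum_univ_two]
        · linear_combination (X 0 0) * htr - hd1
        · linear_combination (X 0 1) * htr
        · linear_combination (X 1 0) * htr
        · linear_combination (X 1 1) * htr - hd1
      have h11 : (g : SL(2, ZMod 11)) ^ 11 = 1 := by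
        apply Subtype.ext
        rw [Matrix.SpecialLinearGroup.coe_pow, Matrix.SpecialLinearGroup.coe_one, ← hX, ← sub_eq_zero]
        have h := sub_pow_char_of_commute (R := Matrix (Fin 2) (Fin 2) (ZMod 11)) 11 (x := X) (y := 1) (Commute.one_right _)
        rw [one_pow] at h
        rw [← h, show (X - 1) ^ 11 = ((X - 1) * (X - 1)) * (X - 1) ^ 9 by rw [← pow_two, ← pow_add], hsq, zero_mul]
      have ho : orderOf g ∣ 11 := orderOf_dvd_of_pow_eq_one (Subtype.ext (by simpa using h11))
      have ho' : orderOf g ∣ 120 := hPcard ▸ orderOf_dvd_natCard g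
      exact hg (orderOf_eq_one_iff.mp (Nat.eq_one_of_dvd_coprimes (by norm_num : Nat.Coprime 11 120) ho ho')))
  exact ⟨L, iL, fL, C, hC, ⟨e'.symm.trans e⟩⟩

end Cfsg.Agent.S3374
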