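import Cfsg.Statements.S3375
import Mathlib
-- import your own Cfsg.Agent.* helpers here

set_option autoImplicit false
open Cfsg

namespace Cfsg.Agent.S3375

/-- Let γ be an automorphism of order 2 of a finite group H. (i) If γ fixes only the identity, then H is abelian and γ inverts every element. (ii) If γ has exactly two fixed points and H has a subgroup of index 2, then H has a γ-invariant abelian subgroup of index 2 on which γ acts by inversion. -/
theorem result {H : Type*} [Group H] [Finite H] (γ : MulAut H) (hγ : orderOf γ = 2) :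
    ((∀ h : H, γ h = h → h = 1) → (∀ a b : H, a * b = b * a) ∧ ∀ h : H, γ h = h⁻¹) ∧
    ((Nat.card {h : H // γ h = h} = 2 ∧ ∃ M : Subgroup H, M.index = 2) →
      ∃ A : Subgroup H, A.index = 2 ∧ IsMulCommutative A ∧ (∀ a ∈ A, γ a ∈ A) ∧ ∀ a ∈ A, γ a = a⁻¹) := by
  classical
  have hγ2 : ∀ h, γ (γ h) = h := fun h => by
    have := DFunLike.congr_fun (orderOf_dvd_iff_pow_eq_one.mp (dvd_of_eq hγ)) h
    simpa [pow_two, MulAut.mul_apply] using this
  let φ : H → H := fun h => h⁻¹ * γ h
  have hinv : ∀ h, γ (φ h) = (φ h)⁻¹ := fun h => by simp [φ, hγ2]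
  have hfib : ∀ h k, φ h = φ k ↔ γ (h * k⁻¹) = h * k⁻¹ := fun h k => by
    simp only [φ, map_mul, map_inv]
    constructor
    · intro e
      rw [show γ h = h * (k⁻¹ * γ k) by rw [← e]; group]; group
    · intro e
      rw [show γ h = h * k⁻¹ * γ k by rw [← e]; group]; group
  refine ⟨fun hf => ?_, ?_⟩
  · have hinj : Function.Injective φ := fun h k e => mul_inv_eq_one.mp (hf _ ((hfib h k).mp e))
    have hall : ∀ h, γ h = h⁻¹ := fun h => by
      obtain ⟨k, rfl⟩ := Finite.injective_iff_surjective.mp hinj h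
      exact hinv k
    refine ⟨fun a b => ?_, hall⟩
    have h := hall (a * b)
    rw [map_mul, hall, hall, mul_inv_rev] at h
    calc a * b = (b⁻¹ * a⁻¹)⁻¹ := by group
      _ = (a⁻¹ * b⁻¹)⁻¹ := by rw [h]
      _ = b * a := by group
  · rintro ⟨hfix, M₀, hM₀⟩
    obtain ⟨M, hM, hMγ⟩ : ∃ M : Subgroup H, M.index = 2 ∧ ∀ h, γ h ∈ M ↔ h ∈ M := by
      by_cases hinv' : ∀ h, γ h ∈ M₀ ↔ h ∈ M₀
      · exact ⟨M₀, hM₀, hinv'⟩
      push Not at hinv'
      obtain ⟨a, ha⟩ := hinv'
      have hmul := fun x y => Subgroup.mul_mem_iff_of_index_two hM₀ (a := x) (b := y)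
      let K : Subgroup H :=
        { carrier := {h | γ h ∈ M₀ ↔ h ∈ M₀}
          mul_mem' := fun {x y} hx hy => by
            simp only [Set.mem_setOf_eq, map_mul, hmul] at hx hy ⊢; tauto
          one_mem' := by simp
          inv_mem' := fun {x} hx => by simpa using hx }
      refine ⟨K, Subgroup.index_eq_two_iff.mpr ⟨a, fun b => ?_⟩, fun h => ?_⟩
      · show Xor' (γ (b * a) ∈ M₀ ↔ b * a ∈ M₀) (γ b ∈ M₀ ↔ b ∈ M₀)
        simp only [map_mul, hmul, xor_def]; tauto
      · show (γ (γ h) ∈ M₀ ↔ γ h ∈ M₀) ↔ (γ h ∈ M₀ ↔ h ∈ M₀)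
        rw [hγ2]; exact iff_comm
    have hsub : Set.range φ ⊆ (M : Set H) := by
      rintro _ ⟨h, rfl⟩
      show h⁻¹ * γ h ∈ M
      rw [Subgroup.mul_mem_iff_of_index_two hM, inv_mem_iff, hMγ]
    have : Fintype H := Fintype.ofFinite H
    have hcard : Fintype.card H ≤ 2 * (Set.range φ).ncard := by
      rw [← Finset.card_univ, show (Set.range φ).ncard = (Finset.univ.image φ).card by
        rw [← Set.ncard_coe_finset]; simp]
      refine Finset.card_le_mul_card_image _ 2 fun y hy => ?_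
      obtain ⟨k, -, rfl⟩ := Finset.mem_image.mp hy
      refine le_of_le_of_eq (Finset.card_le_card_of_injOn (t := Finset.univ.filter fun x => γ x = x)
        (fun h => h * k⁻¹) (fun h hh => ?_) (fun x _ y _ e => mul_right_cancel e)) ?_
      · simp only [Finset.coe_filter, Set.mem_setOf_eq, Finset.mem_univ, true_and] at hh ⊢
        exact (hfib h k).mp hh
      · rw [← hfix, Nat.card_eq_fintype_card, Fintype.card_subtype]
    have hMcard := M.card_mul_index
    rw [hM, Nat.card_eq_fintype_card (α := H)] at hMcard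
    have heq : Set.range φ = (M : Set H) := Set.eq_of_subset_of_ncard_le hsub
      (by rw [← Nat.card_coe_set_eq]; change Nat.card M ≤ _; omega) (Set.toFinite _)
    have hall : ∀ a ∈ M, γ a = a⁻¹ := fun a ha => by
      obtain ⟨h, rfl⟩ := heq.ge ha
      exact hinv h
    refine ⟨M, hM, ⟨⟨fun a b => Subtype.ext ?_⟩⟩, fun a ha => (hMγ a).mpr ha, hall⟩
    have h := hall _ (mul_mem a.2 b.2)
    rw [map_mul, hall _ a.2, hall _ b.2, mul_inv_rev] at h
    show (a : H) * b = b * a
    calc (a : H) * b = ((b : H)⁻¹ * (a : H)⁻¹)⁻¹ := by group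
      _ = ((a : H)⁻¹ * (b : H)⁻¹)⁻¹ := by rw [h]
      _ = (b : H) * a := by group

end Cfsg.Agent.S3375
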