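import Cfsg.Statements.S3381
import Mathlib
-- import your own Cfsg.Agent.* helpers here

set_option autoImplicit false
open Cfsg

namespace Cfsg.Agent.S3381

open Module

variable {q : ℕ} [Fact q.Prime] {V : Type*} [AddCommGroup V] [Module (ZMod q) V] [Finite V]
  {G : Type*} [Group G]

/-- The fixed space of a group element. -/
def fixSp (ρ : G →* (V ≃ₗ[ZMod q] V)) (g : G) : Submodule (ZMod q) V :=
  LinearMap.ker ((ρ g : V →ₗ[ZMod q] V) - LinearMap.id)

theorem mem_fixSp (ρ : G →* (V ≃ₗ[ZMod q] V)) (g : G) (v : V) : v ∈ fixSp ρ g ↔ ρ g v = v := by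
  simp [fixSp, sub_eq_zero]

theorem apply_mul (ρ : G →* (V ≃ₗ[ZMod q] V)) (g h : G) (v : V) : ρ (g * h) v = ρ g (ρ h v) := by
  rw [map_mul]; rfl

theorem apply_one' (ρ : G →* (V ≃ₗ[ZMod q] V)) (v : V) : ρ 1 v = v := by
  rw [map_one]; rfl


/-- Let G be a finite group acting faithfully and linearly on a non-trivial finite vector space V over the field with q elements (q prime) so that every non-zero vector has a stabilizer of order 2, and suppose G has a central involution. Then V has q^(2r) elements for some r and G contains exactly q^r + 1 non-central involutions. -/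
theorem result
    (q : ℕ) [Fact q.Prime] {V : Type*} [AddCommGroup V] [Module (ZMod q) V] [Finite V] [Nontrivial V]
    {G : Type*} [Group G] [Finite G] (ρ : G →* (V ≃ₗ[ZMod q] V)) (hρ : Function.Injective ρ)
    (hstab : ∀ v : V, v ≠ 0 → Nat.card {g : G // ρ g v = v} = 2)
    (z : G) (hz : orderOf z = 2) (hzc : z ∈ Subgroup.center G) :
    ∃ r : ℕ, Nat.card V = q ^ (2 * r) ∧
      Nat.card {g : G // orderOf g = 2 ∧ g ∉ Subgroup.center G} = q ^ r + 1 := by
  classical
  have hsq : ∀ g : G, orderOf g = 2 → g * g = 1 := fun g hg => by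
    rw [← pow_two, ← hg]; exact pow_orderOf_eq_one g
  have hexist : ∀ v : V, v ≠ 0 → ∃ t : G, orderOf t = 2 ∧ ρ t v = v := by
    intro v hv
    let S : Subgroup G :=
      { carrier := {g | ρ g v = v}
        one_mem' := apply_one' ρ v
        mul_mem' := fun {a b} ha hb => by
          show ρ (a * b) v = v
          rw [apply_mul, hb, ha]
        inv_mem' := fun {a} ha => by
          show ρ a⁻¹ v = v
          conv_lhs => rw [← (show ρ a v = v from ha)]
          rw [← apply_mul, inv_mul_cancel, apply_one'] }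
    have hS : Nat.card S = 2 := hstab v hv
    haveI : Fact (Nat.Prime 2) := ⟨Nat.prime_two⟩
    obtain ⟨t, ht⟩ := exists_prime_orderOf_dvd_card' (G := S) 2 (by rw [hS])
    exact ⟨t, by rw [← ht, Subgroup.orderOf_coe], t.2⟩
  have huniq : ∀ v : V, v ≠ 0 → ∀ a b : G, a ≠ 1 → b ≠ 1 → ρ a v = v → ρ b v = v → a = b := by
    intro v hv a b ha hb hav hbv
    by_contra hab
    have h3 : ({1, a, b} : Set G).ncard = 3 := by
      rw [Set.ncard_eq_three]
      exact ⟨1, a, b, ha.symm, hb.symm, hab, rfl⟩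
    have h2 : {g : G | ρ g v = v}.ncard = 2 := by
      rw [← Nat.card_coe_set_eq]; exact hstab v hv
    have := Set.ncard_le_ncard (s := ({1, a, b} : Set G)) (t := {g : G | ρ g v = v}) (by
      rintro x (rfl | rfl | rfl)
      · exact apply_one' ρ v
      · exact hav
      · exact hbv) (Set.toFinite _)
    omega
  have hz1 : z ≠ 1 := fun h => by simp [h] at hz
  have hcom : ∀ g, ρ z ∘ ρ g = (fun v => ρ g (ρ z v)) := fun g => funext fun v => by
    show ρ z (ρ g v) = _
    rw [← apply_mul, ← apply_mul, Subgroup.mem_center_iff.mp hzc g]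
  have hcom' : ∀ g v, ρ z (ρ g v) = ρ g (ρ z v) := fun g v => congrFun (hcom g) v
  have hne1 : ∀ g : G, g ≠ 1 → ∃ v, ρ g v ≠ v := by
    intro g hg
    by_contra h
    push Not at h
    exact hg (hρ (LinearEquiv.ext fun v => by rw [apply_one']; exact h v))
  -- characteristic two is impossible
  have hq2 : q ≠ 2 := by
    rintro rfl
    have htwo : ∀ v : V, v + v = 0 := fun v => by
      rw [← two_smul (ZMod 2) v, show (2 : ZMod 2) = 0 from rfl, zero_smul]
    obtain ⟨u, hu⟩ := hne1 z hz1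
    obtain ⟨w0, hw0, hw0z⟩ : ∃ w, w ≠ 0 ∧ ρ z w = w := by
      refine ⟨ρ z u + u, fun h => hu ?_, by rw [map_add, ← apply_mul, hsq z hz, apply_one', add_comm]⟩
      exact (eq_neg_of_add_eq_zero_left h).trans (neg_eq_of_add_eq_zero_left (htwo u))
    have hu0 : u ≠ 0 := fun h => hu (by rw [h, map_zero])
    obtain ⟨t, ht, htu⟩ := hexist u hu0
    have ht1 : t ≠ 1 := fun h => by simp [h] at ht
    obtain ⟨w, hw, hwz, hwt⟩ : ∃ w, w ≠ 0 ∧ ρ z w = w ∧ ρ t w = w := by
      by_cases h : ρ t w0 = w0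
      · exact ⟨w0, hw0, hw0z, h⟩
      · refine ⟨ρ t w0 + w0, fun h' => h ?_, ?_, ?_⟩
        · exact (eq_neg_of_add_eq_zero_left h').trans (neg_eq_of_add_eq_zero_left (htwo w0))
        · rw [map_add, hcom', hw0z]
        · rw [map_add, ← apply_mul, hsq t ht, apply_one', add_comm]
    exact hu (huniq w hw z t hz1 ht1 hwz hwt ▸ htu)
  have h2 : (2 : ZMod q) ≠ 0 := fun h => hq2 (by
    have h' : ((2 : ℕ) : ZMod q) = 0 := by exact_mod_cast h
    rw [ZMod.natCast_eq_zero_iff] at h'
    exact (Nat.prime_dvd_prime_iff_eq Fact.out Nat.prime_two).mp h')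
  have hhalf : ∀ v : V, v + v = 0 → v = 0 := fun v h => by
    rw [← two_smul (ZMod q) v] at h
    exact (smul_eq_zero.mp h).resolve_left h2
  -- the central involution is `-1`
  have hzneg : ∀ v, ρ z v = -v := by
    intro v
    by_contra hv
    set w := v + ρ z v with hw
    have hw0 : w ≠ 0 := fun h => hv (eq_neg_of_add_eq_zero_right (hw ▸ h))
    have hwz : ρ z w = w := by rw [hw, map_add, ← apply_mul, hsq z hz, apply_one', add_comm]
    obtain ⟨u, hu⟩ := hne1 z hz1
    set u' := u - ρ z u with hu'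
    have hu'0 : u' ≠ 0 := fun h => hu (sub_eq_zero.mp (hu' ▸ h)).symm
    have hu'z : ρ z u' = -u' := by rw [hu', map_sub, ← apply_mul, hsq z hz, apply_one', neg_sub]
    have hx0 : w + u' ≠ 0 := fun h => hw0 (hhalf w (by
      have := congrArg (ρ z) h
      rw [map_add, hwz, hu'z, map_zero] at this
      calc w + w = (w + u') + (w + -u') := by abel
        _ = 0 := by rw [h, this, add_zero]))
    obtain ⟨g, hg, hgx⟩ := hexist (w + u') hx0
    have hg1 : g ≠ 1 := fun h => by simp [h] at hg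
    have e1 : ρ g w + ρ g u' = w + u' := by rw [← map_add]; exact hgx
    have e2 : ρ g w - ρ g u' = w - u' := by
      have := congrArg (ρ z) hgx
      rw [hcom', map_add, hwz, hu'z, map_add, map_neg, ← sub_eq_add_neg, ← sub_eq_add_neg] at this
      exact this
    have e3 : ρ g w = w := sub_eq_zero.mp (hhalf _ (by
      calc (ρ g w - w) + (ρ g w - w) = (ρ g w + ρ g u') + (ρ g w - ρ g u') - w - w := by abel
        _ = 0 := by rw [e1, e2]; abel))
    have e4 : ρ g u' = u' := by rw [e3] at e1; exact add_left_cancel e1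
    rw [huniq w hw0 g z hg1 hz1 e3 hwz, hu'z] at e4
    exact hu'0 (hhalf _ (by nth_rewrite 1 [← e4]; exact neg_add_cancel u'))
  have hzfix : ∀ v : V, ρ z v = v → v = 0 := fun v h => hhalf v (by
    nth_rewrite 1 [← h]; rw [hzneg, neg_add_cancel])
  have hzt : ∀ (t : G) (v : V), ρ (z * t) v = v ↔ ρ t v = -v := fun t v => by
    rw [apply_mul, hzneg, neg_eq_iff_eq_neg]
  -- `T` : involutions other than `z`
  let T : Set G := {t | orderOf t = 2 ∧ t ≠ z}
  have hTne : ∀ t ∈ T, t ≠ 1 := fun t ht h => by simp [h] at ht; simp [T] at ht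
  have hTmul : ∀ t ∈ T, z * t ∈ T := by
    intro t ht
    refine ⟨orderOf_eq_prime ?_ ?_, fun h => hTne t ht (mul_eq_left.mp h)⟩
    · rw [pow_two, mul_assoc, ← mul_assoc t z t, Subgroup.mem_center_iff.mp hzc t, mul_assoc z t t,
        hsq t ht.1, mul_one, hsq z hz]
    · intro h
      exact ht.2 (mul_left_cancel (h.trans (hsq z hz).symm))
  have hTfix : ∀ t ∈ T, fixSp ρ t ≠ ⊥ := by
    intro t ht hb
    refine ht.2 (hρ (LinearEquiv.ext fun v => ?_))
    rw [hzneg]
    have : v + ρ t v ∈ fixSp ρ t := by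
      rw [mem_fixSp, map_add, ← apply_mul, hsq t ht.1, apply_one', add_comm]
    rw [hb, Submodule.mem_bot] at this
    exact eq_neg_of_add_eq_zero_right this
  have hdisj : ∀ s ∈ T, ∀ t ∈ T, s ≠ t → fixSp ρ s ⊓ fixSp ρ t = ⊥ := by
    intro s hs t ht hst
    rw [eq_bot_iff]
    rintro v ⟨h1, h2'⟩
    rw [Submodule.mem_bot]
    by_contra hv
    exact hst (huniq v hv s t (hTne s hs) (hTne t ht) ((mem_fixSp ρ s v).mp h1) ((mem_fixSp ρ t v).mp h2'))
  have hcompl : ∀ t ∈ T, finrank (ZMod q) (fixSp ρ t) + finrank (ZMod q) (fixSp ρ (z * t))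
      = finrank (ZMod q) V := by
    intro t ht
    refine Submodule.finrank_add_eq_of_isCompl ⟨disjoint_iff.mpr
      (hdisj t ht _ (hTmul t ht) fun h => hz1 (mul_eq_right.mp h.symm)), ?_⟩
    rw [codisjoint_iff, eq_top_iff]
    intro v _
    refine Submodule.mem_sup.mpr ⟨(2 : ZMod q)⁻¹ • (v + ρ t v), ?_, (2 : ZMod q)⁻¹ • (v - ρ t v), ?_, ?_⟩
    · rw [mem_fixSp, map_smul, map_add, ← apply_mul, hsq t ht.1, apply_one', add_comm]
    · rw [mem_fixSp, hzt, map_smul, map_sub, ← apply_mul, hsq t ht.1, apply_one', ← smul_neg, neg_sub]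
    · rw [← smul_add, show v + ρ t v + (v - ρ t v) = v + v by abel, ← two_smul (ZMod q) v, smul_smul,
        inv_mul_cancel₀ h2, one_smul]
  have hadd : ∀ s ∈ T, ∀ t ∈ T, s ≠ t → finrank (ZMod q) (fixSp ρ s) + finrank (ZMod q) (fixSp ρ t)
      ≤ finrank (ZMod q) V := by
    intro s hs t ht hst
    have := Submodule.finrank_sup_add_finrank_inf_eq (fixSp ρ s) (fixSp ρ t)
    rw [hdisj s hs t ht hst, finrank_bot, add_zero] at this
    rw [← this]
    exact Submodule.finrank_le _
  obtain ⟨v0, hv0⟩ : ∃ v : V, v ≠ 0 := exists_ne 0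
  obtain ⟨t0, ht0, ht0v⟩ := hexist v0 hv0
  have ht0T : t0 ∈ T := ⟨ht0, fun h => hv0 (hzfix v0 (h ▸ ht0v))⟩
  -- a third involution
  obtain ⟨s0, hs0, hs0a, hs0b⟩ : ∃ s ∈ T, s ≠ t0 ∧ s ≠ z * t0 := by
    obtain ⟨a, ha, ha0⟩ := Submodule.exists_mem_ne_zero_of_ne_bot (hTfix t0 ht0T)
    obtain ⟨b, hb, hb0⟩ := Submodule.exists_mem_ne_zero_of_ne_bot (hTfix _ (hTmul t0 ht0T))
    rw [mem_fixSp] at ha hb
    rw [hzt] at hb
    have hab : ρ t0 (a + b) = a - b := by rw [map_add, ha, hb, sub_eq_add_neg]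
    have hne : a + b ≠ 0 := by
      intro h
      rw [h, map_zero] at hab
      exact ha0 (hhalf a (by calc a + a = (a + b) + (a - b) := by abel
                              _ = 0 := by rw [h, ← hab, add_zero]))
    obtain ⟨s, hs, hsv⟩ := hexist _ hne
    refine ⟨s, ⟨hs, fun h => hne (hzfix _ (h ▸ hsv))⟩, fun h => ?_, fun h => ?_⟩
    · rw [h, hab] at hsv
      exact hb0 (hhalf b (by calc b + b = (a + b) - (a - b) := by abel
                              _ = 0 := by rw [hsv, sub_self]))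
    · rw [h, hzt, hab] at hsv
      exact ha0 (hhalf a (by calc a + a = (a + b) + (a - b) := by abel
                              _ = 0 := by rw [hsv, add_neg_cancel]))
  have hdim : ∀ t ∈ T, 2 * finrank (ZMod q) (fixSp ρ t) = finrank (ZMod q) V := by
    intro t ht
    -- compare with a pair not containing `t`
    obtain ⟨s, hs, hs1, hs2⟩ : ∃ s ∈ T, t ≠ s ∧ t ≠ z * s := by
      by_cases h : t = t0 ∨ t = z * t0
      · refine ⟨s0, hs0, ?_, ?_⟩ <;> rintro rfl <;> rcases h with h | h
        · exact hs0a h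
        · exact hs0b h
        · exact hs0b (by rw [← h, ← mul_assoc, hsq z hz, one_mul])
        · exact hs0a (mul_left_cancel h)
      · push Not at h
        exact ⟨t0, ht0T, h.1, h.2⟩
    have hzz : ∀ x, z * (z * x) = x := fun x => by rw [← mul_assoc, hsq z hz, one_mul]
    have a1 := hadd t ht s hs hs1
    have a2 := hadd t ht _ (hTmul s hs) hs2
    have a3 := hadd _ (hTmul t ht) s hs (fun h => hs2 (by rw [← h, hzz]))
    have a4 := hadd _ (hTmul t ht) _ (hTmul s hs) (fun h => hs1 (mul_left_cancel h))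
    have c1 := hcompl t ht
    have c2 := hcompl s hs
    omega
  set r := finrank (ZMod q) (fixSp ρ t0) with hr
  have hd : finrank (ZMod q) V = 2 * r := (hdim t0 ht0T).symm
  have hV : Nat.card V = q ^ (2 * r) := by
    rw [Module.natCard_eq_pow_finrank (K := ZMod q), Nat.card_zmod, hd]
  refine ⟨r, hV, ?_⟩
  have hset : {g : G | orderOf g = 2 ∧ g ∉ Subgroup.center G} = T := by
    ext t
    constructor
    · rintro ⟨h1, h2'⟩
      exact ⟨h1, fun h => h2' (h ▸ hzc)⟩
    · intro ht
      refine ⟨ht.1, fun hc => ?_⟩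
      obtain ⟨a, ha, ha0⟩ := Submodule.exists_mem_ne_zero_of_ne_bot (hTfix t ht)
      obtain ⟨b, hb, hb0⟩ := Submodule.exists_mem_ne_zero_of_ne_bot (hTfix _ (hTmul t ht))
      rw [mem_fixSp] at ha hb
      rw [hzt] at hb
      have hne : a + b ≠ 0 := by
        intro h
        have := congrArg (ρ t) h
        rw [map_add, ha, hb, map_zero] at this
        exact ha0 (hhalf a (by calc a + a = (a + b) + (a + -b) := by abel
                                _ = 0 := by rw [h, this, add_zero]))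
      obtain ⟨g, hg, hgx⟩ := hexist _ hne
      have hg1 : g ≠ 1 := fun h => by simp [h] at hg
      have hc' : ∀ v, ρ t (ρ g v) = ρ g (ρ t v) := fun v => by
        rw [← apply_mul, ← apply_mul, Subgroup.mem_center_iff.mp hc g]
      rw [map_add] at hgx
      have e2 : ρ g a - ρ g b = a - b := by
        have := congrArg (ρ t) hgx
        rw [map_add, hc', hc', ha, hb, map_neg, map_add, ha, hb, ← sub_eq_add_neg, ← sub_eq_add_neg] at this
        exact this
      have e3 : ρ g a = a := sub_eq_zero.mp (hhalf _ (by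
        calc (ρ g a - a) + (ρ g a - a) = (ρ g a + ρ g b) + (ρ g a - ρ g b) - a - a := by abel
          _ = 0 := by rw [hgx, e2]; abel))
      have e4 : ρ g b = b := by rw [e3] at hgx; exact add_left_cancel hgx
      rw [huniq a ha0 g t hg1 (hTne t ht) e3 ha, hb] at e4
      exact hb0 (hhalf _ (by nth_rewrite 1 [← e4]; exact neg_add_cancel b))
  rw [show Nat.card {g : G // orderOf g = 2 ∧ g ∉ Subgroup.center G} = Nat.card T from by rw [← hset]; rfl]
  -- the fixed spaces partition the non-zero vectors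
  let e : (Σ t : T, {v : fixSp ρ t // v ≠ 0}) ≃ {v : V // v ≠ 0} := Equiv.ofBijective
    (fun x => ⟨(x.2.1 : V), fun h => x.2.2 (Subtype.ext h)⟩) ⟨by
      rintro ⟨⟨s, hs⟩, ⟨⟨v, hv⟩, hv0'⟩⟩ ⟨⟨t, ht⟩, ⟨⟨w, hw⟩, hw0'⟩⟩ h
      simp only [Subtype.mk.injEq] at h
      subst h
      have : s = t := huniq v (fun h => hv0' (Subtype.ext h)) s t (hTne s hs) (hTne t ht)
        ((mem_fixSp ρ s v).mp hv) ((mem_fixSp ρ t v).mp hw)
      subst this
      rfl, by
      rintro ⟨v, hv⟩
      obtain ⟨t, ht, htv⟩ := hexist v hv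
      have htT : t ∈ T := ⟨ht, fun h => hv (hzfix v (h ▸ htv))⟩
      exact ⟨⟨⟨t, htT⟩, ⟨⟨v, (mem_fixSp ρ t v).mpr htv⟩, fun h => hv (congrArg Subtype.val h)⟩⟩, rfl⟩⟩
  have hcount := Nat.card_congr e
  haveI : Fintype T := Fintype.ofFinite _
  rw [Nat.card_sigma] at hcount
  have hsub : ∀ (W : Type _) [Finite W] (o : W), Nat.card {v : W // v ≠ o} = Nat.card W - 1 := by
    intro W _ o
    haveI := Fintype.ofFinite W
    simp only [Nat.card_eq_fintype_card, Fintype.card_subtype_compl, Fintype.card_subtype_eq]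
  have hfix : ∀ t : T, Nat.card {v : fixSp ρ t // v ≠ 0} = q ^ r - 1 := fun t => by
    rw [hsub, Module.natCard_eq_pow_finrank (K := ZMod q), Nat.card_zmod]
    have := hdim t t.2
    rw [hd] at this
    rw [show finrank (ZMod q) (fixSp ρ t) = r by omega]
  rw [Finset.sum_congr rfl (fun t _ => hfix t), Finset.sum_const, Finset.card_univ, smul_eq_mul,
    ← Nat.card_eq_fintype_card, hsub, hV] at hcount
  have hr0 : 0 < r := by
    rw [hr]
    by_contra h
    exact hTfix t0 ht0T (Submodule.finrank_eq_zero.mp (by omega))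
  have hqr : 1 < q ^ r := Nat.one_lt_pow hr0.ne' (Fact.out : q.Prime).one_lt
  refine Nat.eq_of_mul_eq_mul_right (show 0 < q ^ r - 1 by omega) ?_
  rw [hcount, ← Nat.sq_sub_sq, one_pow, ← pow_mul, mul_comm r 2]

end Cfsg.Agent.S3381
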