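import Cfsg.Statements.S3382
import Mathlib
-- import your own Cfsg.Agent.* helpers here

set_option autoImplicit false
open Cfsg

namespace Cfsg.Agent.S3382

/-- An automorphism of odd order fixing `h` and moving `x` only by the 2-element `h` fixes `x`. -/
lemma monoAutAux_fix {T : Type*} [Group T] (β : MulAut T) (r : ℕ) (hr : Odd r) (hβ : β ^ r = 1)
    (e : ℕ) (he : ∀ x : T, x ^ 2 ^ e = 1) (x : T) (h : β (x⁻¹ * β x) = x⁻¹ * β x) : β x = x := by
  have hi : ∀ i : ℕ, (β ^ i) x = x * (x⁻¹ * β x) ^ i := by
    intro i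
    induction i with
    | zero => simp
    | succ i ih =>
      rw [pow_succ', MulAut.mul_apply, ih, map_mul, map_pow, h,
        pow_succ' (x⁻¹ * β x), ← mul_assoc x, mul_inv_cancel_left]
  have h1 := hi r
  rw [hβ, MulAut.one_apply, left_eq_mul] at h1
  have h2 : x⁻¹ * β x = 1 := by
    have hd := Nat.dvd_gcd (orderOf_dvd_of_pow_eq_one h1) (orderOf_dvd_of_pow_eq_one (he (x⁻¹ * β x)))
    rw [Nat.Coprime.gcd_eq_one (hr.coprime_two_right.pow_right e), Nat.dvd_one, orderOf_eq_one_iff] at hd
    exact hd
  exact (inv_mul_eq_one.1 h2).symm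

/-- A group in which every element of odd order in the automorphism group is trivial. -/
lemma monoAutAux_pgroup {T : Type*} [Group T] [Finite T]
    (h : ∀ (β : MulAut T) (r : ℕ), Odd r → β ^ r = 1 → β = 1) : IsPGroup 2 (MulAut T) := by
  intro a
  obtain ⟨k, r, hr, heq⟩ := Nat.exists_eq_two_pow_mul_odd (orderOf_pos a).ne'
  refine ⟨k, h _ r hr ?_⟩
  rw [← pow_mul, ← heq, pow_orderOf_eq_one]

/-- Let q = 2^m + 1 be a prime other than 5. Then the automorphism group of the group of linear maps of F_q² of the forms (x, y) ↦ (a x, ± a⁻¹ y) and (x, y) ↦ (± a⁻¹ y, a x) with a ≠ 0 is itself a 2-group. -/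
theorem result (q m : ℕ) [Fact q.Prime] (hq : q = 2 ^ m + 1) (hq5 : q ≠ 5)
    (T : Subgroup ((Fin 2 → ZMod q) ≃ₗ[ZMod q] (Fin 2 → ZMod q)))
    (hT : ∀ f, f ∈ T ↔ ∃ a s : ZMod q, a ≠ 0 ∧ (s = 1 ∨ s = -1) ∧
      ((∀ v, f v = ![a * v 0, s * a⁻¹ * v 1]) ∨ (∀ v, f v = ![s * a⁻¹ * v 1, a * v 0]))) :
    IsPGroup 2 (MulAut T) := by
  classical
  let IsD : T → ZMod q → ZMod q → Prop := fun f a s => a ≠ 0 ∧ (s = 1 ∨ s = -1) ∧
    ∀ v, (f : (Fin 2 → ZMod q) ≃ₗ[ZMod q] (Fin 2 → ZMod q)) v = ![a * v 0, s * a⁻¹ * v 1]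
  let IsA : T → ZMod q → ZMod q → Prop := fun f a s => a ≠ 0 ∧ (s = 1 ∨ s = -1) ∧
    ∀ v, (f : (Fin 2 → ZMod q) ≃ₗ[ZMod q] (Fin 2 → ZMod q)) v = ![s * a⁻¹ * v 1, a * v 0]
  have cases' : ∀ f : T, (∃ a s, IsD f a s) ∨ ∃ a s, IsA f a s := by
    intro f
    obtain ⟨a, s, ha, hs, h | h⟩ := (hT f.1).1 f.2
    · exact Or.inl ⟨a, s, ha, hs, h⟩
    · exact Or.inr ⟨a, s, ha, hs, h⟩
  have sgn : ∀ {s t : ZMod q}, (s = 1 ∨ s = -1) → (t = 1 ∨ t = -1) → (s * t = 1 ∨ s * t = -1) := by
    rintro s t (rfl | rfl) (rfl | rfl) <;> simp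
  have sgn2 : ∀ {s : ZMod q}, (s = 1 ∨ s = -1) → s ^ 2 = 1 := by
    rintro s (rfl | rfl) <;> simp
  have sgn0 : ∀ {s : ZMod q}, (s = 1 ∨ s = -1) → s ≠ 0 := by
    rintro s (rfl | rfl) <;> simp
  have extT : ∀ f g : T, (∀ v, (f : (Fin 2 → ZMod q) ≃ₗ[ZMod q] (Fin 2 → ZMod q)) v
      = (g : (Fin 2 → ZMod q) ≃ₗ[ZMod q] (Fin 2 → ZMod q)) v) → f = g :=
    fun f g h => Subtype.ext (LinearEquiv.ext h)
  have injD : ∀ {f g : T} {a s : ZMod q}, IsD f a s → IsD g a s → f = g :=
    fun hf hg => extT _ _ fun v => by rw [hf.2.2 v, hg.2.2 v]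
  have injA : ∀ {f g : T} {a s : ZMod q}, IsA f a s → IsA g a s → f = g :=
    fun hf hg => extT _ _ fun v => by rw [hf.2.2 v, hg.2.2 v]
  have uniqD : ∀ {f : T} {a s b t : ZMod q}, IsD f a s → IsD f b t → a = b ∧ s = t := by
    intro f a s b t hf hg
    have h0 := congrFun ((hf.2.2 ![1, 0]).symm.trans (hg.2.2 ![1, 0])) 0
    have h1 := congrFun ((hf.2.2 ![0, 1]).symm.trans (hg.2.2 ![0, 1])) 1
    simp at h0 h1
    subst h0
    exact ⟨rfl, mul_right_cancel₀ (inv_ne_zero hf.1) h1⟩
  have uniqA : ∀ {f : T} {a s b t : ZMod q}, IsA f a s → IsA f b t → a = b ∧ s = t := by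
    intro f a s b t hf hg
    have h0 := congrFun ((hf.2.2 ![1, 0]).symm.trans (hg.2.2 ![1, 0])) 1
    have h1 := congrFun ((hf.2.2 ![0, 1]).symm.trans (hg.2.2 ![0, 1])) 0
    simp at h0 h1
    subst h0
    exact ⟨rfl, mul_right_cancel₀ (inv_ne_zero hf.1) h1⟩
  have notDA : ∀ {f : T} {a s b t : ZMod q}, IsD f a s → IsA f b t → False := by
    intro f a s b t hf hg
    have h0 := congrFun ((hf.2.2 ![1, 0]).symm.trans (hg.2.2 ![1, 0])) 0
    simp at h0
    exact hf.1 h0
  have mulDD : ∀ {f g : T} {a s b t : ZMod q}, IsD f a s → IsD g b t → IsD (f * g) (a * b) (s * t) := by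
    intro f g a s b t hf hg
    refine ⟨mul_ne_zero hf.1 hg.1, sgn hf.2.1 hg.2.1, fun v => ?_⟩
    show (f : (Fin 2 → ZMod q) ≃ₗ[ZMod q] (Fin 2 → ZMod q))
      ((g : (Fin 2 → ZMod q) ≃ₗ[ZMod q] (Fin 2 → ZMod q)) v) = _
    rw [hg.2.2, hf.2.2]
    funext i
    fin_cases i <;> simp <;> ring
  have mulAA : ∀ {f g : T} {a s b t : ZMod q}, IsA f a s → IsA g b t →
      IsD (f * g) (s * a⁻¹ * b) (s * t) := by
    intro f g a s b t hf hg
    refine ⟨mul_ne_zero (mul_ne_zero (sgn0 hf.2.1) (inv_ne_zero hf.1)) hg.1, sgn hf.2.1 hg.2.1,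
      fun v => ?_⟩
    show (f : (Fin 2 → ZMod q) ≃ₗ[ZMod q] (Fin 2 → ZMod q))
      ((g : (Fin 2 → ZMod q) ≃ₗ[ZMod q] (Fin 2 → ZMod q)) v) = _
    rw [hg.2.2, hf.2.2]
    funext i
    have hs : s⁻¹ = s := by rcases hf.2.1 with rfl | rfl <;> simp [inv_neg]
    have hss : s * s = 1 := by rw [← sq]; exact sgn2 hf.2.1
    fin_cases i
    · simp; ring
    · simp [mul_inv, hs]
      linear_combination (-(t * a * b⁻¹ * v 1)) * hss
  have mulAD : ∀ {f g : T} {a s b t : ZMod q}, IsA f a s → IsD g b t → IsA (f * g) (a * b) (s * t) := by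
    intro f g a s b t hf hg
    refine ⟨mul_ne_zero hf.1 hg.1, sgn hf.2.1 hg.2.1, fun v => ?_⟩
    show (f : (Fin 2 → ZMod q) ≃ₗ[ZMod q] (Fin 2 → ZMod q))
      ((g : (Fin 2 → ZMod q) ≃ₗ[ZMod q] (Fin 2 → ZMod q)) v) = _
    rw [hg.2.2, hf.2.2]
    funext i
    fin_cases i <;> simp <;> ring
  have mulDA : ∀ {f g : T} {a s b t : ZMod q}, IsD f a s → IsA g b t →
      IsA (f * g) (s * a⁻¹ * b) (s * t) := by
    intro f g a s b t hf hg
    refine ⟨mul_ne_zero (mul_ne_zero (sgn0 hf.2.1) (inv_ne_zero hf.1)) hg.1, sgn hf.2.1 hg.2.1,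
      fun v => ?_⟩
    show (f : (Fin 2 → ZMod q) ≃ₗ[ZMod q] (Fin 2 → ZMod q))
      ((g : (Fin 2 → ZMod q) ≃ₗ[ZMod q] (Fin 2 → ZMod q)) v) = _
    rw [hg.2.2, hf.2.2]
    funext i
    have hs : s⁻¹ = s := by rcases hf.2.1 with rfl | rfl <;> simp [inv_neg]
    have hss : s * s = 1 := by rw [← sq]; exact sgn2 hf.2.1
    fin_cases i
    · simp [mul_inv, hs]
      linear_combination (-(t * a * b⁻¹ * v 1)) * hss
    · simp
      ring
  have isOne : IsD 1 1 1 := ⟨one_ne_zero, Or.inl rfl, fun v => by
    funext i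
    fin_cases i <;> simp⟩
  have powD : ∀ {f : T} {a s : ZMod q}, IsD f a s → ∀ k : ℕ, IsD (f ^ k) (a ^ k) (s ^ k) := by
    intro f a s hf k
    induction k with
    | zero => simpa using isOne
    | succ k ih => rw [pow_succ, pow_succ, pow_succ]; exact mulDD ih hf
  have powA : ∀ {f : T} {a s : ZMod q}, IsA f a s → IsD (f ^ 2) s 1 := by
    intro f a s hf
    have := mulAA hf hf
    rw [mul_assoc, inv_mul_cancel₀ hf.1, mul_one, ← sq, ← sq, sgn2 hf.2.1] at this
    exact this
  have powA4 : ∀ {f : T} {a s : ZMod q}, IsA f a s → f ^ 4 = 1 := by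
    intro f a s hf
    have := powD (powA hf) 2
    rw [sgn2 hf.2.1, one_pow, ← pow_mul] at this
    exact injD this isOne
  have exD : ∀ (a s : ZMod q), a ≠ 0 → (s = 1 ∨ s = -1) → ∃ f : T, IsD f a s := by
    intro a s ha hs
    let L : (Fin 2 → ZMod q) ≃ₗ[ZMod q] (Fin 2 → ZMod q) :=
      LinearEquiv.piCongrRight fun i : Fin 2 =>
        LinearEquiv.smulOfUnit (![Units.mk0 a ha, Units.mk0 (s * a⁻¹) (mul_ne_zero (sgn0 hs) (inv_ne_zero ha))] i)
    have hL : ∀ v, L v = ![a * v 0, s * a⁻¹ * v 1] := by
      intro v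
      funext i
      fin_cases i <;> simp [L, LinearEquiv.smulOfUnit, Units.smul_def]
    exact ⟨⟨L, (hT L).2 ⟨a, s, ha, hs, Or.inl hL⟩⟩, ha, hs, hL⟩
  have hm : m ≠ 2 := by
    rintro rfl
    exact hq5 (by omega)
  have hunit : ∀ a : ZMod q, a ≠ 0 → a ^ 2 ^ m = 1 := by
    intro a ha
    have := ZMod.pow_card_sub_one_eq_one ha
    rwa [show q - 1 = 2 ^ m from by rw [hq, Nat.add_sub_cancel]] at this
  have hexp : ∀ x : T, x ^ 2 ^ (m + 2) = 1 := by
    intro x
    rcases cases' x with ⟨a, s, h⟩ | ⟨a, s, h⟩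
    · refine injD (powD h _) ?_
      rw [show 2 ^ (m + 2) = 2 ^ m * 2 * 2 by ring, pow_mul s (2 ^ m * 2) 2, ← pow_mul,
        mul_assoc, pow_mul a, hunit a h.1, one_pow, mul_comm (2 ^ m), pow_mul s, mul_comm 2 2,
        pow_mul s 2 2, sgn2 h.2.1, one_pow, one_pow]
      exact isOne
    · rw [show 2 ^ (m + 2) = 4 * 2 ^ m by ring, pow_mul, powA4 h, one_pow]
  have : Finite T := Finite.of_injective
    (fun f : T => ⇑(f : (Fin 2 → ZMod q) ≃ₗ[ZMod q] (Fin 2 → ZMod q)))
    (fun f g h => extT f g (congrFun h))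
  apply monoAutAux_pgroup
  intro β r hr hβ
  have fixx : ∀ x : T, β (x⁻¹ * β x) = x⁻¹ * β x → β x = x :=
    fun x => monoAutAux_fix β r hr hβ (m + 2) hexp x
  -- it suffices to fix the diagonal subgroup
  suffices hD : (∀ {f : T} {a s : ZMod q}, IsD f a s → ∃ b t, IsD (β f) b t) ∧
      ∀ {f : T} {a s : ZMod q}, IsD f a s → β f = f by
    obtain ⟨-, hfix⟩ := hD
    apply MulEquiv.ext
    intro x
    show β x = x
    rcases cases' x with ⟨a, s, h⟩ | ⟨a, s, h⟩
    · exact hfix h
    · apply fixx
      rcases cases' (β x) with ⟨b, t, h'⟩ | ⟨b, t, h'⟩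
      · exact absurd (β.injective (hfix h') ▸ h') (fun hh => notDA hh h)
      · have hinv : ∃ c u, IsA x⁻¹ c u := by
          rcases cases' x⁻¹ with ⟨c, u, hc⟩ | hc
          · exfalso
            have := mulAD h hc
            rw [mul_inv_cancel] at this
            exact notDA isOne this
          · exact hc
        obtain ⟨c, u, hc⟩ := hinv
        exact hfix (mulAA hc h')
  rcases Nat.lt_or_ge m 3 with hsmall | hbig
  swap
  · -- the large case
    have h16 : 16 ≤ 2 ^ m := by
      rcases (show m = 3 ∨ 4 ≤ m by omega) with rfl | h4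
      · exact absurd (Fact.out : q.Prime) (by rw [hq]; norm_num)
      · calc 16 = 2 ^ 4 := rfl
          _ ≤ 2 ^ m := Nat.pow_le_pow_right (by norm_num) h4
    obtain ⟨u, hu⟩ := IsCyclic.exists_generator (α := (ZMod q)ˣ)
    have hou : orderOf u = 2 ^ m := by
      rw [orderOf_eq_card_of_forall_mem_zpowers hu, Nat.card_eq_fintype_card, ZMod.card_units]
      omega
    have hgpow : ∀ k, 0 < k → k < 2 ^ m → (u : ZMod q) ^ k ≠ 1 := by
      intro k hk hk' h
      have : u ^ k = 1 := Units.ext (by simpa using h)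
      have := Nat.le_of_dvd hk (orderOf_dvd_of_pow_eq_one this)
      omega
    have hdet : ∀ x : T, (∃ a s, IsD x a s) ↔ ∃ y : T, y ^ 4 ≠ 1 ∧ (x * y) ^ 4 ≠ 1 := by
      intro x
      constructor
      · rintro ⟨a, s, h⟩
        have good : ∀ v : ZMod q, v ^ 4 ≠ 1 → (a * v) ^ 4 ≠ 1 → ∀ hv : v ≠ 0,
            ∃ y : T, y ^ 4 ≠ 1 ∧ (x * y) ^ 4 ≠ 1 := by
          intro v h1 h2 hv
          obtain ⟨y, hy⟩ := exD v 1 hv (Or.inl rfl)
          refine ⟨y, fun e => h1 ?_, fun e => h2 ?_⟩
          · have := powD hy 4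
            rw [e] at this
            exact (uniqD this isOne).1
          · have := powD (mulDD h hy) 4
            rw [e] at this
            exact (uniqD this isOne).1
        have h4 : (u : ZMod q) ^ 4 ≠ 1 := hgpow 4 (by norm_num) (by omega)
        have h8 : ((u : ZMod q) ^ 2) ^ 4 ≠ 1 := by rw [← pow_mul]; exact hgpow 8 (by norm_num) (by omega)
        by_cases h1 : (a * (u : ZMod q)) ^ 4 = 1
        · refine good ((u : ZMod q) ^ 2) h8 (fun h2 => h4 ?_) (pow_ne_zero _ (Units.ne_zero u))
          rw [show a * (u : ZMod q) ^ 2 = (a * (u : ZMod q)) * (u : ZMod q) by ring, mul_pow, h1,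
            one_mul] at h2
          exact h2
        · exact good (u : ZMod q) h4 h1 (Units.ne_zero u)
      · rintro ⟨y, hy, hxy⟩
        rcases cases' y with ⟨b, t, h'⟩ | ⟨b, t, h'⟩
        · rcases cases' x with hd | ⟨a, s, h⟩
          · exact hd
          · exact absurd (powA4 (mulAD h h')) hxy
        · exact absurd (powA4 h') hy
    have hinvD : ∀ {f : T} {a s : ZMod q}, IsD f a s → ∃ b t, IsD (β f) b t := by
      intro f a s h
      obtain ⟨y, h1, h2⟩ := (hdet f).1 ⟨a, s, h⟩
      refine (hdet (β f)).2 ⟨β y, fun e => h1 ?_, fun e => h2 ?_⟩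
      · rw [← map_pow, ← map_one β] at e
        exact β.injective e
      · rw [← map_mul, ← map_pow, ← map_one β] at e
        exact β.injective e
    refine ⟨hinvD, ?_⟩
    have invD : ∀ {f : T} {a s : ZMod q}, IsD f a s → IsD f⁻¹ a⁻¹ s := by
      intro f a s h
      obtain ⟨g, hg⟩ := exD a⁻¹ s (inv_ne_zero h.1) h.2.1
      have := mulDD h hg
      rw [mul_inv_cancel₀ h.1, ← sq, sgn2 h.2.1] at this
      rw [inv_eq_of_mul_eq_one_right (injD this isOne)]
      exact hg
    have step : ∀ k : ℕ, ∀ {f : T} {a s : ZMod q}, IsD f a s → a ^ 2 ^ k = 1 → β f = f := by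
      intro k
      induction k with
      | zero =>
        intro f a s h ha
        rw [pow_zero, pow_one] at ha
        subst ha
        rcases h.2.1 with rfl | rfl
        · rw [injD h isOne, map_one]
        · -- the central involution is a square, hence fixed
          have hz : ∀ {z : T}, IsD z (-1) 1 → β z = z := by
            intro z hz
            have hne : (2 : ℕ) ^ (m - 1) < 2 ^ m := Nat.pow_lt_pow_right (by norm_num) (by omega)
            have hhalf : ((u : ZMod q) ^ 2 ^ (m - 1)) = -1 := by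
              have h2 : ((u : ZMod q) ^ 2 ^ (m - 1)) ^ 2 = 1 := by
                rw [← pow_mul, ← pow_succ, show m - 1 + 1 = m by omega]
                exact hunit _ (Units.ne_zero u)
              rcases sq_eq_one_iff.1 h2 with h2 | h2
              · exact absurd h2 (hgpow _ (by positivity) hne)
              · exact h2
            obtain ⟨w, hw⟩ := exD ((u : ZMod q) ^ 2 ^ (m - 2)) 1 (pow_ne_zero _ (Units.ne_zero u)) (Or.inl rfl)
            have hw2 := powD hw 2
            rw [one_pow, ← pow_mul, ← pow_succ, show m - 2 + 1 = m - 1 by omega, hhalf] at hw2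
            have hzw : z = w ^ 2 := injD hz hw2
            obtain ⟨b, t, hb⟩ := hinvD hw
            have hb2 := powD hb 2
            rw [sgn2 hb.2.1] at hb2
            rw [← map_pow, ← hzw] at hb2
            have hb4 := powD hb2 2
            rw [one_pow, ← map_pow, injD (powD hz 2) (by simpa using isOne), map_one] at hb4
            rcases sq_eq_one_iff.1 (uniqD hb4 isOne).1 with e | e
            · exfalso
              rw [e] at hb2
              have : z = 1 := β.injective ((injD hb2 isOne).trans (map_one β).symm)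
              rw [this] at hz
              exact hgpow _ (by positivity) hne (hhalf.trans (uniqD hz isOne).1)
            · rw [e] at hb2
              exact injD hb2 hz
          obtain ⟨z, hz1⟩ := exD (-1) 1 (by simp) (Or.inl rfl)
          obtain ⟨b, t, hb⟩ := hinvD h
          have hb2 := powD hb 2
          rw [← map_pow, injD (powD h 2) (by simpa using isOne), map_one] at hb2
          apply fixx
          rcases hb.2.1 with rfl | rfl
          · exfalso
            rcases sq_eq_one_iff.1 (uniqD hb2 isOne).1 with rfl | rfl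
            · have : f = 1 := β.injective ((injD hb isOne).trans (map_one β).symm)
              rw [this] at h
              have h2 := (uniqD h isOne).2
              exact hgpow (2 ^ (m - 1)) (by positivity) (Nat.pow_lt_pow_right (by norm_num) (by omega)) (by
                have h3 : ((u : ZMod q) ^ 2 ^ (m - 1)) ^ 2 = 1 := by
                  rw [← pow_mul, ← pow_succ, show m - 1 + 1 = m by omega]
                  exact hunit _ (Units.ne_zero u)
                rcases sq_eq_one_iff.1 h3 with h3 | h3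
                · exact h3
                · rw [h3]; exact h2)
            · have : f = z := β.injective ((injD hb hz1).trans (hz hz1).symm)
              rw [this] at h
              have h1 := (uniqD h hz1).1
              exact hgpow (2 ^ (m - 1)) (by positivity) (Nat.pow_lt_pow_right (by norm_num) (by omega)) (by
                have h3 : ((u : ZMod q) ^ 2 ^ (m - 1)) ^ 2 = 1 := by
                  rw [← pow_mul, ← pow_succ, show m - 1 + 1 = m by omega]
                  exact hunit _ (Units.ne_zero u)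
                rcases sq_eq_one_iff.1 h3 with h3 | h3
                · exact h3
                · rw [h3, ← h1])
          · have hprod := mulDD (invD h) hb
            rw [inv_one, one_mul, neg_mul_neg, one_mul] at hprod
            rcases sq_eq_one_iff.1 (uniqD hb2 isOne).1 with rfl | rfl
            · rw [injD hprod isOne, map_one]
            · exact hz hprod
      | succ k ih =>
        intro f a s h ha
        by_cases ha' : a ^ 2 ^ k = 1
        · exact ih h ha'
        have hneg : a ^ 2 ^ k = -1 := by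
          rw [pow_succ, pow_mul] at ha
          exact (sq_eq_one_iff.1 ha).resolve_left ha'
        obtain ⟨b, t, hb⟩ := hinvD h
        have hb1 : b ^ 2 ^ (k + 1) = 1 := by
          have hp := powD h (2 ^ (k + 1))
          rw [ha, pow_succ', pow_mul s, sgn2 h.2.1, one_pow, ← pow_succ'] at hp
          have hp' := powD hb (2 ^ (k + 1))
          rw [← map_pow, injD hp isOne, map_one] at hp'
          exact (uniqD hp' isOne).1
        by_cases hb' : b ^ 2 ^ k = 1
        · have := ih hb hb'
          exact β.injective this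
        · apply fixx
          refine ih (mulDD (invD h) hb) ?_
          rw [pow_succ, pow_mul] at hb1
          rw [mul_pow, inv_pow, hneg, (sq_eq_one_iff.1 hb1).resolve_left hb']
          simp
    intro f a s h
    exact step m h (hunit a h.1)
  · rcases (show m = 0 ∨ m = 1 by omega) with rfl | rfl
    · -- q = 2
      have ha1 : ∀ {a : ZMod q}, a ≠ 0 → a = 1 := fun ha => by simpa using hunit _ ha
      have hs1 : ∀ {s : ZMod q}, (s = 1 ∨ s = -1) → s = 1 := fun hs => ha1 (sgn0 hs)
      refine ⟨fun {f a s} h => ?_, fun {f a s} h => ?_⟩ <;>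
        have h' : IsD f 1 1 := (by rw [ha1 h.1, hs1 h.2.1] at h; exact h)
      · exact ⟨1, 1, by rw [injD h' isOne, map_one]; exact isOne⟩
      · rw [injD h' isOne, map_one]
    · -- q = 3
      have ha2 : ∀ {a : ZMod q}, a ≠ 0 → a = 1 ∨ a = -1 := fun ha =>
        sq_eq_one_iff.1 (by simpa using hunit _ ha)
      have hne : (-1 : ZMod q) ≠ 1 := by
        intro h
        have h2 : ((2 : ℕ) : ZMod q) = 0 := by push_cast; linear_combination -h
        rw [ZMod.natCast_eq_zero_iff] at h2
        have := Nat.le_of_dvd (by norm_num) h2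
        omega
      -- squares are central
      have hsq : ∀ y : T, y ^ 2 = 1 ∨ IsD (y ^ 2) (-1) 1 := by
        intro y
        rcases cases' y with ⟨a, s, h⟩ | ⟨a, s, h⟩
        · left
          refine injD (powD h 2) ?_
          rw [sgn2 h.2.1, show a ^ 2 = 1 by simpa using hunit a h.1]
          exact isOne
        · rcases h.2.1 with rfl | rfl
          · exact Or.inl (injD (powA h) isOne)
          · exact Or.inr (powA h)
      have exA : ∀ (a s : ZMod q), a ≠ 0 → (s = 1 ∨ s = -1) → ∃ f : T, IsA f a s := by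
        intro a s ha hs
        obtain ⟨d, hd⟩ := exD a s ha hs
        let L : (Fin 2 → ZMod q) ≃ₗ[ZMod q] (Fin 2 → ZMod q) :=
          LinearEquiv.funCongrLeft (ZMod q) (ZMod q) (Equiv.swap (0 : Fin 2) 1)
        have hL : ∀ v, L v = ![1 * (1 : ZMod q)⁻¹ * v 1, 1 * v 0] := by
          intro v
          funext i
          fin_cases i <;> simp [L, LinearEquiv.funCongrLeft, LinearMap.funLeft]
        let w : T := ⟨L, (hT L).2 ⟨1, 1, one_ne_zero, Or.inl rfl, Or.inr hL⟩⟩
        have hw : IsA w 1 1 := ⟨one_ne_zero, Or.inl rfl, hL⟩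
        have := mulAD hw hd
        rw [one_mul, one_mul] at this
        exact ⟨_, this⟩
      obtain ⟨ρ, hρ⟩ := exA 1 (-1) one_ne_zero (Or.inr rfl)
      have hρ2 : IsD (ρ ^ 2) (-1) 1 := powA hρ
      have hρne : ρ ^ 2 ≠ 1 := fun e => hne ((uniqD hρ2 (e ▸ isOne)).1)
      have hz : β (ρ ^ 2) = ρ ^ 2 := by
        rcases hsq (β ρ) with e | e
        · rw [← map_pow, ← map_one β] at e
          exact absurd (β.injective e) hρne
        · rw [map_pow]; exact injD e hρ2
      -- the rotations
      have hrot : ∀ y : T, y ^ 2 ≠ 1 → ∃ a, IsA y a (-1) := by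
        intro y hy
        rcases cases' y with ⟨a, s, h⟩ | ⟨a, s, h⟩
        · exfalso
          apply hy
          refine injD (powD h 2) ?_
          rw [sgn2 h.2.1, show a ^ 2 = 1 by simpa using hunit a h.1]
          exact isOne
        · rcases h.2.1 with rfl | rfl
          · exact absurd (injD (powA h) isOne) hy
          · exact ⟨a, h⟩
      have hρfix : β ρ = ρ := by
        have h1 : (β ρ) ^ 2 ≠ 1 := fun e => hρne (β.injective (by rw [map_pow, e, map_one]))
        obtain ⟨b, hb⟩ := hrot _ h1
        rcases ha2 hb.1 with rfl | rfl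
        · exact injA hb hρ
        · apply fixx
          have hinv : IsA ρ⁻¹ (-1) (-1) := by
            have h3 := mulAD hρ hρ2
            rw [one_mul, mul_one, ← pow_succ'] at h3
            rw [inv_eq_of_mul_eq_one_right (show ρ * ρ ^ 3 = 1 by rw [← pow_succ']; exact powA4 hρ)]
            exact h3
          have h4 := mulAA hinv hb
          simp only [inv_neg, inv_one, neg_mul, mul_neg, one_mul, neg_neg] at h4
          have : ρ⁻¹ * β ρ = ρ ^ 2 := injD h4 hρ2
          rw [this, hz]
      -- everything else differs from its image by a power of ρ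
      have hall : ∀ x : T, β x = x := by
        intro x
        have hfixed : ∀ y : T, y = 1 ∨ (∃ b, IsD y b 1) ∨ (∃ b, IsA y b (-1)) → β y = y := by
          rintro y (rfl | ⟨b, hb⟩ | ⟨b, hb⟩)
          · exact map_one β
          · rcases ha2 hb.1 with rfl | rfl
            · rw [injD hb isOne, map_one]
            · rw [injD hb hρ2, hz]
          · rcases ha2 hb.1 with rfl | rfl
            · rw [injA hb hρ, hρfix]
            · have h3 := mulAD hρ hρ2
              rw [one_mul, mul_one] at h3
              rw [injA hb h3, map_mul, hz, hρfix]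
        rcases cases' x with ⟨a, s, h⟩ | ⟨a, s, h⟩
        · rcases h.2.1 with rfl | rfl
          · exact hfixed x (Or.inr (Or.inl ⟨a, h⟩))
          · apply fixx
            rcases cases' (β x) with ⟨b, t, hb⟩ | ⟨b, t, hb⟩ <;> rcases hb.2.1 with rfl | rfl
            · exfalso
              have e := β.injective (hfixed _ (Or.inr (Or.inl ⟨b, hb⟩)))
              exact hne (uniqD h (e ▸ hb)).2
            · apply hfixed
              right; left
              have hinv : IsD x⁻¹ a (-1) := by
                have := mulDD h h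
                rw [← sq, ← sq, ← sq, sgn2 (Or.inr rfl), show a ^ 2 = 1 by simpa using hunit a h.1] at this
                rw [inv_eq_of_mul_eq_one_right (by rw [← sq]; exact injD this isOne)]
                exact h
              have := mulDD hinv hb
              rw [neg_mul_neg, one_mul] at this
              exact ⟨_, this⟩
            · apply hfixed
              right; right
              rcases cases' (x⁻¹ * β x) with ⟨c, u, hc⟩ | ⟨c, u, hc⟩
              · exfalso
                have := mulDD h hc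
                rw [mul_inv_cancel_left] at this
                exact notDA this hb
              · refine ⟨c, ?_⟩
                rcases hc.2.1 with rfl | rfl
                · exfalso
                  have h5 := mulDA h hc
                  rw [mul_inv_cancel_left, mul_one] at h5
                  exact hne (uniqA h5 hb).2
                · exact hc
            · exfalso
              have e := β.injective (hfixed _ (Or.inr (Or.inr ⟨b, hb⟩)))
              exact notDA h (e ▸ hb)
        · rcases h.2.1 with rfl | rfl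
          swap
          · exact hfixed x (Or.inr (Or.inr ⟨a, h⟩))
          apply fixx
          have hinv : IsA x⁻¹ a 1 := by
            rw [inv_eq_of_mul_eq_one_right (by rw [← sq]; exact injD (powA h) isOne)]
            exact h
          rcases cases' (β x) with ⟨b, t, hb⟩ | ⟨b, t, hb⟩ <;> rcases hb.2.1 with rfl | rfl
          · exfalso
            have e := β.injective (hfixed _ (Or.inr (Or.inl ⟨b, hb⟩)))
            exact notDA (e ▸ hb) h
          · apply hfixed
            right; right
            have := mulAD hinv hb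
            rw [one_mul] at this
            exact ⟨_, this⟩
          · apply hfixed
            right; left
            have := mulAA hinv hb
            rw [one_mul, one_mul] at this
            exact ⟨_, this⟩
          · exfalso
            have e := β.injective (hfixed _ (Or.inr (Or.inr ⟨b, hb⟩)))
            exact hne (uniqA (e ▸ hb) h).2
      exact ⟨fun {f a s} h => ⟨a, s, by rw [hall f]; exact h⟩, fun {f a s} _ => hall f⟩

end Cfsg.Agent.S3382
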