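import Cfsg.Statements.S3383
import Cfsg.Agent.Lib.FrobCompl.Counting
-- import your own Cfsg.Agent.* helpers here

set_option autoImplicit false
open Cfsg CfsgLib.FrobCompl

namespace Cfsg.Agent.S3383

/-- Let H be a Frobenius complement in a finite group L and K the Frobenius kernel (as a subgroup). Then K is characteristic in L, and every normal subgroup of L either contains K or is contained in K. -/
theorem result {L : Type*} [Group L] [Finite L]
    (H : Subgroup L) (hH : Cfsg.IsFrobeniusComplement H)
    (K : Subgroup L) (hK : (K : Set L) = Cfsg.frobeniusKernel H) :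
    K.Characteristic ∧ ∀ N : Subgroup L, N.Normal → K ≤ N ∨ N ≤ K := by
  classical
  have hmem : ∀ x, x ∈ K ↔ (x = 1 ∨ ∀ g : L, g⁻¹ * x * g ∉ H) := fun x => by
    rw [← SetLike.mem_coe, hK]
    exact or_congr_right (forall_congr' fun g => not_congr mem_conj_smul)
  have hKn : K.Normal := ⟨fun x hx c => by
    rcases (hmem x).mp hx with rfl | h
    · simp
    · refine (hmem _).mpr (Or.inr fun g hg => h (c⁻¹ * g) ?_)
      simpa [mul_assoc] using hg⟩
  have hcard : Nat.card K = H.index := by
    rw [← card_frobeniusKernel hH, ← SetLike.coe_sort_coe, hK]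
  have hcop : (Nat.card K).Coprime (Nat.card H) := by
    rw [hcard, Nat.coprime_iff_gcd_eq_one, Nat.gcd_comm, Nat.gcd_rec, index_mod_card hH, ← Nat.gcd_rec,
      Nat.gcd_one_right]
  have hKi : K.index = Nat.card H := by
    have h1 := K.card_mul_index
    rw [← H.index_mul_card, hcard] at h1
    exact Nat.eq_of_mul_eq_mul_left (Nat.pos_of_ne_zero Subgroup.index_ne_zero_of_finite) h1
  refine ⟨Subgroup.characteristic_iff_map_le.mpr fun φ => ?_, fun N hN => ?_⟩
  · rintro _ ⟨x, hx, rfl⟩
    rw [← QuotientGroup.eq_one_iff, ← orderOf_eq_one_iff, ← Nat.dvd_one, ← hcop.gcd_eq_one]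
    refine Nat.dvd_gcd ((orderOf_map_dvd (QuotientGroup.mk' K) _).trans ?_) ?_
    · exact (orderOf_map_dvd φ.toMonoidHom x).trans (Subgroup.orderOf_dvd_natCard K hx)
    · rw [← hKi, Subgroup.index_eq_card]; exact orderOf_dvd_natCard _
  · by_cases h : ∃ x ∈ N, x ≠ 1 ∧ ∃ g : L, g⁻¹ * x * g ∈ H
    · left
      obtain ⟨x, hxN, hx1, g, hg⟩ := h
      have hfix : ∀ k ∈ K, k * x = x * k → k = 1 := fun k hk hc => by
        rcases (hmem k).mp hk with e | e
        · exact e
        · refine absurd ?_ (e g)
          have h1 : g⁻¹ * x * g ≠ 1 := fun e => hx1 (eq_one_of_conj e)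
          refine mem_of_conj_mem hH h1 hg ?_
          have : (g⁻¹ * k * g)⁻¹ * (g⁻¹ * x * g) * (g⁻¹ * k * g) = g⁻¹ * x * g := by
            calc _ = g⁻¹ * (k⁻¹ * (x * k)) * g := by group
              _ = g⁻¹ * x * g := by rw [← hc]; group
          rw [this]; exact hg
      let f : K → K := fun k => ⟨(k : L) * (x * (k : L)⁻¹ * x⁻¹),
        mul_mem k.2 (hKn.conj_mem _ (inv_mem k.2) x)⟩
      have hinj : Function.Injective f := fun a b e => by
        have e' : (a : L) * x * (a : L)⁻¹ = (b : L) * x * (b : L)⁻¹ := by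
          have := congrArg (fun z : K => (z : L) * x) e
          simpa [f, mul_assoc] using this
        refine Subtype.ext (inv_mul_eq_one.mp (hfix ((b : L)⁻¹ * a) (mul_mem (inv_mem b.2) a.2) ?_)).symm
        calc (b : L)⁻¹ * a * x = (b : L)⁻¹ * ((a : L) * x * (a : L)⁻¹) * a := by group
          _ = x * ((b : L)⁻¹ * a) := by rw [e']; group
      intro k hk
      obtain ⟨a, ha⟩ := Finite.injective_iff_surjective.mp hinj ⟨k, hk⟩
      rw [show k = (a : L) * x * (a : L)⁻¹ * x⁻¹ by have := congrArg Subtype.val ha; simpa [f, mul_assoc] using this.symm]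
      exact mul_mem (hN.conj_mem x hxN a) (inv_mem hxN)
    · right
      intro x hx
      push Not at h
      refine (hmem x).mpr ?_
      by_cases hx1 : x = 1
      · exact Or.inl hx1
      · exact Or.inr (h x hx hx1)

end Cfsg.Agent.S3383
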