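import Cfsg.Statements.S3685
import Cfsg.Agent.Lib.ThompsonWielandt.Primitive
import Cfsg.Agent.Lib.ThompsonWielandt.CubicOrbit

set_option autoImplicit false
open Cfsg

namespace Cfsg.Agent.S3685

/-- Let a finite group G act faithfully and primitively on a set Ω, and suppose the stabilizer of a point a has an orbit of length 3. Then the stabilizer of a is isomorphic to one of: the cyclic group of order 3, the symmetric group of degree 3, the dihedral group of order 12, the symmetric group of degree 4, or the direct product of the symmetric group of degree 4 with a group of order 2. -/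
theorem result {G Ω : Type*} [Group G] [Finite G] [MulAction G Ω] [FaithfulSMul G Ω] [Finite Ω]
    (hprim : MulAction.IsPreprimitive G Ω) (a b : Ω) (h3 : Nat.card (MulAction.orbit (MulAction.stabilizer G a) b) = 3) :
    Nonempty (MulAction.stabilizer G a ≃* Multiplicative (ZMod 3)) ∨ Nonempty (MulAction.stabilizer G a ≃* Equiv.Perm (Fin 3)) ∨
      Nonempty (MulAction.stabilizer G a ≃* DihedralGroup 6) ∨ Nonempty (MulAction.stabilizer G a ≃* Equiv.Perm (Fin 4)) ∨
      Nonempty (MulAction.stabilizer G a ≃* Equiv.Perm (Fin 4) × Multiplicative (ZMod 2)) := by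
  classical
  obtain ⟨hpair, ⟨e⟩, hdA, hdB⟩ := CfsgLib.ThompsonWielandt.primitive_pair hprim a b h3 (by omega)
  haveI := hprim
  haveI : Fact (Nat.Prime 2) := ⟨Nat.prime_two⟩
  set M := MulAction.stabilizer G a with hM
  set M' := MulAction.stabilizer G b with hM'
  set J := M ⊓ M' with hJdef
  -- `J` is a 2-group
  have hJ : IsPGroup 2 J := by
    apply CfsgLib.ThompsonWielandt.isPGroup_of_pRes_eq_bot
    by_contra hne
    have key : ∀ {N N' : Subgroup G}, (N ⊓ N').relIndex N = 3 →
        CfsgLib.ThompsonWielandt.pRes 2 (N ⊓ N') ≤ CfsgLib.ThompsonWielandt.A₁ N N' := by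
      intro N N' hd
      refine (Subgroup.closure_le _).2 fun x hx => ?_
      have hdvd := CfsgLib.ThompsonWielandt.relIndex_normalCore_dvd_factorial ((N ⊓ N').subgroupOf N)
      rw [show ((N ⊓ N').subgroupOf N).index = 3 from hd] at hdvd
      set H := (N ⊓ N').subgroupOf N
      haveI : (H.normalCore.subgroupOf H).Normal :=
        Subgroup.normal_subgroupOf_of_le_normalizer ((Subgroup.normalizer_eq_top_iff.2 inferInstance).ge.trans' le_top)
      have hxH : (⟨x, hx.1.1⟩ : N) ∈ H := hx.1
      have h1 : orderOf (QuotientGroup.mk (⟨_, hxH⟩ : H) : H ⧸ H.normalCore.subgroupOf H) = 1 := by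
        have ha := orderOf_map_dvd (QuotientGroup.mk' (H.normalCore.subgroupOf H)) (⟨_, hxH⟩ : H)
        rw [Subgroup.orderOf_mk, Subgroup.orderOf_mk] at ha
        exact Nat.eq_one_of_dvd_coprimes hx.2 ha ((orderOf_dvd_natCard _).trans hdvd)
      rw [orderOf_eq_one_iff, QuotientGroup.eq_one_iff] at h1
      exact ⟨_, h1, rfl⟩
    have hA : CfsgLib.ThompsonWielandt.pRes 2 J ≤ CfsgLib.ThompsonWielandt.A₁ M M' := key hdA
    have hB : CfsgLib.ThompsonWielandt.pRes 2 J ≤ CfsgLib.ThompsonWielandt.A₁ M' M := by
      have := key (N := M') (N' := M) (by rw [inf_comm]; exact hdB)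
      rwa [inf_comm] at this
    have hn : ∀ {N N' : Subgroup G},
        CfsgLib.ThompsonWielandt.pRes 2 J ≤ CfsgLib.ThompsonWielandt.A₁ N N' →
        CfsgLib.ThompsonWielandt.A₁ N N' ≤ J →
        N ≤ Subgroup.normalizer (CfsgLib.ThompsonWielandt.pRes 2 J : Set G) := by
      intro N N' hle hAJ n hn
      have heq : CfsgLib.ThompsonWielandt.pRes 2 J =
          CfsgLib.ThompsonWielandt.pRes 2 (CfsgLib.ThompsonWielandt.A₁ N N') := by
        refine le_antisymm ((Subgroup.closure_le _).2 fun x hx => Subgroup.subset_closure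
          ⟨hle (Subgroup.subset_closure hx), hx.2⟩) (Subgroup.closure_mono fun x hx => ⟨hAJ hx.1, hx.2⟩)
      rw [heq]
      exact CfsgLib.ThompsonWielandt.mem_normalizer_pRes fun x hx _ =>
        (Subgroup.mem_normalizer_iff.1 (CfsgLib.ThompsonWielandt.le_normalizer_coreIn _ _ hn) x).1 hx
    refine hpair.ne ?_
    rw [← CfsgLib.ThompsonWielandt.normalizer_eq hpair.maxM hpair.coreM hne
        ((CfsgLib.ThompsonWielandt.pRes_le _ _).trans inf_le_left)
        (hn hA (CfsgLib.ThompsonWielandt.A₁_le_inf _ _)),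
      CfsgLib.ThompsonWielandt.normalizer_eq hpair.maxM' hpair.coreM' hne
        ((CfsgLib.ThompsonWielandt.pRes_le _ _).trans inf_le_right)
        (hn hB ((CfsgLib.ThompsonWielandt.A₁_le_inf _ _).trans (inf_comm M' M).le))]
  by_cases hJn : (J.subgroupOf M).Normal
  · left
    -- then `J` is normal in both, hence trivial
    have hMn : M ≤ Subgroup.normalizer (J : Set G) :=
      (Subgroup.normal_subgroupOf_iff_le_normalizer inf_le_left).1 hJn
    have hJ0 : J = ⊥ := by
      by_contra hne
      have hM'n : M' ≤ Subgroup.normalizer (J : Set G) := by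
        haveI := hJn
        have hJS : IsPGroup 2 ((J.subgroupOf M).map e.toMonoidHom) :=
          (hJ.comap_subtype (K := M)).map _
        haveI : ((J.subgroupOf M).map e.toMonoidHom).Normal := hJn.map _ e.surjective
        have hsup : IsPGroup 2 (J.subgroupOf M' ⊔ (J.subgroupOf M).map e.toMonoidHom : Subgroup M') :=
          IsPGroup.to_sup_of_normal_right hJ.comap_subtype hJS
        have hi1 : ((J.subgroupOf M).map e.toMonoidHom).index = 3 :=
          (Subgroup.index_map_equiv (J.subgroupOf M) e).trans hdA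
        have hdvd := Subgroup.index_dvd_of_le (le_sup_right : (J.subgroupOf M).map e.toMonoidHom ≤
          J.subgroupOf M' ⊔ (J.subgroupOf M).map e.toMonoidHom)
        rw [hi1] at hdvd
        have heq : J.subgroupOf M' = (J.subgroupOf M).map e.toMonoidHom := by
          rcases Nat.prime_three.eq_one_or_self_of_dvd _ hdvd with h | h
          · exfalso
            rw [Subgroup.index_eq_one] at h
            rw [h] at hsup
            obtain ⟨k, hk⟩ := IsPGroup.iff_card.1 hsup
            rw [Subgroup.card_top] at hk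
            have h3d : 3 ∣ 2 ^ k := ⟨Nat.card ((J.subgroupOf M).map e.toMonoidHom), by
              rw [← hk, ← Subgroup.card_mul_index ((J.subgroupOf M).map e.toMonoidHom), hi1, mul_comm]⟩
            exact absurd (Nat.prime_three.dvd_of_dvd_pow h3d) (by decide)
          · have hrel := Subgroup.relIndex_mul_index (le_sup_right :
              (J.subgroupOf M).map e.toMonoidHom ≤ J.subgroupOf M' ⊔ (J.subgroupOf M).map e.toMonoidHom)
            rw [hi1, h] at hrel
            have hle : J.subgroupOf M' ≤ (J.subgroupOf M).map e.toMonoidHom :=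
              le_sup_left.trans (Subgroup.relIndex_eq_one.1
                (Nat.eq_of_mul_eq_mul_right (show 0 < 3 by norm_num) (hrel.trans (one_mul 3).symm)))
            refine Subgroup.eq_of_le_of_card_ge hle (le_of_eq ?_)
            rw [Subgroup.card_map_of_injective (f := e.toMonoidHom) e.injective,
              Nat.card_congr (Subgroup.subgroupOfEquivOfLe (inf_le_left : J ≤ M)).toEquiv,
              Nat.card_congr (Subgroup.subgroupOfEquivOfLe (inf_le_right : J ≤ M')).toEquiv]
        refine (Subgroup.normal_subgroupOf_iff_le_normalizer inf_le_right).1 ?_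
        rw [heq]
        infer_instance
      refine hpair.ne ?_
      rw [← CfsgLib.ThompsonWielandt.normalizer_eq hpair.maxM hpair.coreM hne inf_le_left hMn,
        CfsgLib.ThompsonWielandt.normalizer_eq hpair.maxM' hpair.coreM' hne inf_le_right hM'n]
    have hcard : Nat.card M = 3 := by
      have h := Subgroup.card_mul_index (J.subgroupOf M)
      have h1 : Nat.card (J.subgroupOf M) = 1 := by
        rw [Subgroup.card_eq_one, hJ0, Subgroup.bot_subgroupOf]
      have h2 : (J.subgroupOf M).index = 3 := hdA
      rw [h1, h2, one_mul] at h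
      exact h.symm
    haveI : Fact (Nat.Prime 3) := ⟨Nat.prime_three⟩
    exact ⟨mulEquivOfPrimeCardEq (p := 3) hcard (by simp)⟩
  right
  -- choose `g` mapping `a ↦ b` and normalising `J`
  obtain ⟨g₀, hg₀⟩ := MulAction.exists_smul_eq G a b
  haveI : Fintype (MulAction.orbit M' (g₀ • b)) := Fintype.ofFinite _
  have horb : Nat.card (MulAction.orbit M' (g₀ • b)) = 3 := by
    rw [← h3]
    refine Nat.card_congr (Equiv.subtypeEquiv (MulAction.toPerm g₀⁻¹) fun x => ?_)
    constructor
    · rintro ⟨k, rfl⟩
      refine ⟨⟨g₀⁻¹ * k * g₀, ?_⟩, ?_⟩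
      · have hk : (k : G) • b = b := k.2
        show (g₀⁻¹ * k * g₀) • a = a
        rw [mul_smul, mul_smul, hg₀, hk, inv_smul_eq_iff, hg₀]
      · show (g₀⁻¹ * k * g₀) • b = g₀⁻¹ • ((k : G) • g₀ • b)
        rw [mul_smul, mul_smul]
    · rintro ⟨k, hk⟩
      refine ⟨⟨g₀ * k * g₀⁻¹, ?_⟩, ?_⟩
      · have hk' : (k : G) • a = a := k.2
        show (g₀ * k * g₀⁻¹) • b = b
        rw [mul_smul, mul_smul, ← hg₀, inv_smul_smul, hk']
      · have hk' : (k : G) • b = g₀⁻¹ • x := hk
        show (g₀ * k * g₀⁻¹) • g₀ • b = x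
        rw [mul_smul, mul_smul, inv_smul_smul, hk', smul_inv_smul]
  let φ : J →* Equiv.Perm (MulAction.orbit M' (g₀ • b)) :=
    (MulAction.toPermHom M' (MulAction.orbit M' (g₀ • b))).comp (Subgroup.inclusion inf_le_right)
  letI : MulAction J (MulAction.orbit M' (g₀ • b)) := MulAction.compHom _ φ
  obtain ⟨c, hc⟩ : (MulAction.fixedPoints J (MulAction.orbit M' (g₀ • b))).Nonempty :=
    hJ.nonempty_fixed_point_of_prime_not_dvd_card _ (by rw [horb]; decide)
  obtain ⟨k, hk⟩ := c.2
  set g := (k : G) * g₀ with hgdef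
  have hga : g • a = b := by rw [hgdef, mul_smul, hg₀]; exact k.2
  have hgb : g • b = (c : Ω) := by rw [hgdef, mul_smul]; exact hk
  have hMg : M.map (MulAut.conj g).toMonoidHom = M' := by
    rw [hM, hM', ← hga]
    exact (MulAction.stabilizer_smul_eq_stabilizer_map_conj g a).symm
  have hgN : g ∈ Subgroup.normalizer (J : Set G) := by
    have hJg : J.map (MulAut.conj g).toMonoidHom = J := by
      refine (Subgroup.eq_of_le_of_card_ge (fun y hy => ?_)
        (Subgroup.card_map_of_injective (MulAut.conj g).injective).le).symm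
      have hyb : y • b = b := hy.2
      have hyc : y • (c : Ω) = c := congrArg Subtype.val (hc ⟨y, hy⟩)
      refine ⟨g⁻¹ * y * g, ⟨?_, ?_⟩, ?_⟩
      · show (g⁻¹ * y * g) • a = a
        rw [mul_smul, mul_smul, hga, hyb, inv_smul_eq_iff, hga]
      · show (g⁻¹ * y * g) • b = b
        rw [mul_smul, mul_smul, hgb, hyc, inv_smul_eq_iff, hgb]
      · show g * (g⁻¹ * y * g) * g⁻¹ = y
        group
    rw [Subgroup.mem_normalizer_iff]
    intro y
    constructor
    · intro hy
      exact hJg.le ⟨y, hy, rfl⟩
    · intro hy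
      obtain ⟨z, hz, hzy⟩ := hJg.ge hy
      rwa [(MulAut.conj g).injective (show MulAut.conj g z = MulAut.conj g y from hzy)] at hz
  exact CfsgLib.ThompsonWielandt.cubic_structure (g := g) hpair.maxM hpair.coreM
    (by rw [hMg]; exact hpair.ne.symm) (by rw [hMg]; exact hgN) (by rw [hMg]; exact hdA)
    (by rw [hMg]; exact hJ) (by rw [hMg]; exact hJn)

end Cfsg.Agent.S3685
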