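import Cfsg.Statements.S3389
import Mathlib
-- import your own Cfsg.Agent.* helpers here

set_option autoImplicit false
open Cfsg

namespace Cfsg.Agent.S3389

open Pointwise

/-- Two malnormal-in-`G` conjugate subgroups inside `X` are conjugate by an element of `X`. -/
theorem exists_conj_mem {G : Type*} [Group G] [Finite G] (K X : Subgroup G) (hK1 : K ≠ ⊥)
    (hmal : ∀ g : G, g ∉ K → ∀ x ∈ K, g * x * g⁻¹ ∈ K → x = 1) (hKX : K ≤ X) (g : G)
    (hgX : ∀ x ∈ K, g * x * g⁻¹ ∈ X) : ∃ h ∈ X, h * g ∈ K := by
  classical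
  by_contra hcon
  push Not at hcon
  have : Fintype G := Fintype.ofFinite G
  -- the conjugates of `K` and of `gKg⁻¹` under `X` are pairwise disjoint off the identity
  let Kset : Finset G := Finset.univ.filter fun x => x ∈ K ∧ x ≠ 1
  have hKset : Kset.card + 1 = Nat.card K := by
    rw [Nat.card_eq_fintype_card, Fintype.card_subtype, show Kset = (Finset.univ.filter (· ∈ K)).erase 1 by
      ext x; simp [Kset, and_comm]]
    exact Finset.card_erase_add_one (by simp [one_mem])
  let piece : G → Finset G := fun t => Kset.map (MulAut.conj t).toEquiv.toEmbedding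
  have hdisj : ∀ t u : G, u⁻¹ * t ∉ K → Disjoint (piece t) (piece u) := by
    intro t u htu
    rw [Finset.disjoint_left]
    rintro _ ha hb
    obtain ⟨x, hx, rfl⟩ := Finset.mem_map.mp ha
    obtain ⟨y, hy, e⟩ := Finset.mem_map.mp hb
    simp only [Kset, Finset.mem_filter, Finset.mem_univ, true_and] at hx hy
    change u * y * u⁻¹ = t * x * t⁻¹ at e
    refine hx.2 (hmal _ htu x hx.1 ?_)
    rw [show u⁻¹ * t * x * (u⁻¹ * t)⁻¹ = u⁻¹ * (t * x * t⁻¹) * u by group, ← e]
    simpa [mul_assoc] using hy.1
  let Q := ↥X ⧸ K.subgroupOf X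
  have : Fintype Q := Fintype.ofFinite Q
  let L : Subgroup G := K.map (MulAut.conj g).toMonoidHom
  have hLX : L ≤ X := by rintro _ ⟨x, hx, rfl⟩; exact hgX x hx
  let Q' := ↥X ⧸ L.subgroupOf X
  have : Fintype Q' := Fintype.ofFinite Q'
  have hQQ : Nat.card Q' = Nat.card Q := by
    have h1 := (K.subgroupOf X).card_mul_index
    have h2 := (L.subgroupOf X).card_mul_index
    rw [Nat.card_congr (Subgroup.subgroupOfEquivOfLe hKX).toEquiv] at h1
    rw [Nat.card_congr (Subgroup.subgroupOfEquivOfLe hLX).toEquiv,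
      Subgroup.card_map_of_injective (MulAut.conj g).injective] at h2
    exact Nat.eq_of_mul_eq_mul_left Nat.card_pos (h2.trans h1.symm)
  let idx : Q ⊕ Q' → G := Sum.elim (fun q => (q.out : G)) (fun q => (q.out : G) * g)
  have hpd : ∀ a b, a ≠ b → Disjoint (piece (idx a)) (piece (idx b)) := by
    intro a b hab
    refine hdisj _ _ fun hmem => ?_
    have hq : ∀ q r : Q, (r.out : G)⁻¹ * q.out ∈ K → q = r := fun q r h => by
      rw [← QuotientGroup.out_eq' q, ← QuotientGroup.out_eq' r]
      exact (QuotientGroup.eq.mpr (Subgroup.mem_subgroupOf.mpr (by simpa using h))).symm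
    rcases a with q | q <;> rcases b with r | r <;> simp only [idx, Sum.elim_inl, Sum.elim_inr] at hmem
    · exact hab (congrArg Sum.inl (hq q r hmem))
    · have h2 := inv_mem hmem
      exact hcon ((q.out : G)⁻¹ * r.out) (mul_mem (inv_mem q.out.2) r.out.2) (by
        simpa [mul_assoc] using h2)
    · exact hcon ((r.out : G)⁻¹ * q.out) (mul_mem (inv_mem r.out.2) q.out.2) (by
        simpa [mul_assoc] using hmem)
    · refine hab (congrArg Sum.inr ?_)
      rw [← QuotientGroup.out_eq' q, ← QuotientGroup.out_eq' r]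
      refine (QuotientGroup.eq.mpr (Subgroup.mem_subgroupOf.mpr ?_)).symm
      exact Subgroup.mem_map.mpr ⟨_, hmem, by simp [mul_assoc]⟩
  have hsub : Finset.univ.biUnion (fun a => piece (idx a)) ⊆ Finset.univ.filter (fun x => x ∈ X ∧ x ≠ 1) := by
    intro y hy
    obtain ⟨a, -, ha⟩ := Finset.mem_biUnion.mp hy
    obtain ⟨x, hx, rfl⟩ := Finset.mem_map.mp ha
    simp only [Kset, Finset.mem_filter, Finset.mem_univ, true_and] at hx ⊢
    show idx a * x * (idx a)⁻¹ ∈ X ∧ idx a * x * (idx a)⁻¹ ≠ 1
    refine ⟨?_, fun h => hx.2 (by simpa using h)⟩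
    rcases a with q | q <;> simp only [idx, Sum.elim_inl, Sum.elim_inr]
    · exact mul_mem (mul_mem q.out.2 (hKX hx.1)) (inv_mem q.out.2)
    · rw [show (q.out : G) * g * x * ((q.out : G) * g)⁻¹ = q.out * (g * x * g⁻¹) * (q.out : G)⁻¹ by group]
      exact mul_mem (mul_mem q.out.2 (hgX x hx.1)) (inv_mem q.out.2)
  have h := Finset.card_le_card hsub
  rw [Finset.card_biUnion (fun a _ b _ hab => hpd a b hab),
    Finset.sum_congr rfl (fun a _ => Finset.card_map _), Finset.sum_const, smul_eq_mul, Finset.card_univ,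
    Fintype.card_sum, ← Nat.card_eq_fintype_card, ← Nat.card_eq_fintype_card, hQQ] at h
  have hX : (Finset.univ.filter (fun x => x ∈ X ∧ x ≠ 1)).card + 1 = Nat.card X := by
    rw [Nat.card_eq_fintype_card, Fintype.card_subtype, show (Finset.univ.filter (fun x => x ∈ X ∧ x ≠ 1)) =
      (Finset.univ.filter (· ∈ X)).erase 1 by ext x; simp [and_comm]]
    exact Finset.card_erase_add_one (by simp [one_mem])
  have hm : Nat.card K * Nat.card Q = Nat.card X := by
    rw [← Nat.card_congr (Subgroup.subgroupOfEquivOfLe hKX).toEquiv]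
    exact (K.subgroupOf X).card_mul_index
  have h2 : 2 ≤ Nat.card K := Finite.one_lt_card_iff_nontrivial.mpr (Subgroup.nontrivial_iff_ne_bot K |>.mpr hK1)
  nlinarith

/-- Let G be a finite group acting faithfully and transitively on a finite set Ω with fixity k ≥ 1: every non-identity element fixes at most k points and some non-identity element fixes exactly k points. Then |Z(G)| divides k; if k = 2 then |G| is even; and for every prime p > k dividing |G| and every point α, either p does not divide |G_α| or G_α contains a Sylow p-subgroup of G. -/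
theorem result {G : Type*} [Group G] [Finite G] {Ω : Type*} [Fintype Ω] [MulAction G Ω] [FaithfulSMul G Ω]
    (htr : MulAction.IsPretransitive G Ω) (k : ℕ) (hk : 1 ≤ k)
    (hfix : ∀ g : G, g ≠ 1 → Nat.card (MulAction.fixedBy Ω g) ≤ k) (hex : ∃ g : G, g ≠ 1 ∧ Nat.card (MulAction.fixedBy Ω g) = k) :
    Nat.card (Subgroup.center G) ∣ k ∧ (k = 2 → 2 ∣ Nat.card G) ∧
      ∀ (p : ℕ), p.Prime → k < p → p ∣ Nat.card G → ∀ α : Ω,
        ¬ p ∣ Nat.card (MulAction.stabilizer G α) ∨ ¬ p ∣ (MulAction.stabilizer G α).index := by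
  classical
  have hcomm : ∀ z ∈ Subgroup.center G, ∀ h : G, z * h = h * z := fun z hz h =>
    (Subgroup.mem_center_iff.mp hz h).symm
  refine ⟨?_, fun hk2 => ?_, fun p hp hkp hpG α => ?_⟩
  · obtain ⟨g, -, hgk⟩ := hex
    let : MulAction (Subgroup.center G) (MulAction.fixedBy Ω g) :=
      { smul := fun z x => ⟨(z : G) • (x : Ω), by
          show g • (z : G) • (x : Ω) = (z : G) • (x : Ω)
          rw [smul_smul, ← hcomm z z.2 g, ← smul_smul, show g • (x : Ω) = x from x.2]⟩
        one_smul := fun x => Subtype.ext (one_smul G (x : Ω))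
        mul_smul := fun a b x => Subtype.ext (mul_smul (a : G) (b : G) (x : Ω)) }
    have hfree : ∀ x : MulAction.fixedBy Ω g, MulAction.stabilizer (Subgroup.center G) x = ⊥ := by
      intro x
      rw [Subgroup.eq_bot_iff_forall]
      intro z hz
      have hz' : (z : G) • (x : Ω) = x := congrArg Subtype.val hz
      refine Subtype.ext (eq_of_smul_eq_smul fun y : Ω => ?_)
      obtain ⟨h, rfl⟩ := MulAction.exists_smul_eq G (x : Ω) y
      show (z : G) • h • (x : Ω) = (1 : G) • h • (x : Ω)
      rw [one_smul, smul_smul, hcomm z z.2, ← smul_smul, hz']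
    rw [← hgk]
    have : Fintype (MulAction.fixedBy Ω g) := Fintype.ofFinite _
    rw [Nat.card_congr (MulAction.selfEquivSigmaOrbits' (Subgroup.center G) (MulAction.fixedBy Ω g)), Nat.card_sigma]
    refine Finset.dvd_sum fun o _ => ?_
    induction o using Quotient.inductionOn' with
    | h x =>
      rw [MulAction.orbitRel.Quotient.orbit_mk, Nat.card_coe_set_eq, ← MulAction.index_stabilizer, hfree x,
        Subgroup.index_bot]
  · subst hk2
    by_contra hodd
    have hodd' : ∀ x : G, ∀ a : Ω, x • x • a = a → x • a = a := fun x a h => by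
      have ho : ¬ 2 ∣ orderOf x := fun h' => hodd (h'.trans (orderOf_dvd_natCard x))
      obtain ⟨t, ht⟩ := Nat.odd_iff.mpr (by omega : orderOf x % 2 = 1)
      have h1 : ∀ n : ℕ, (x ^ (2 * n)) • a = a := fun n => by
        induction n with
        | zero => simp
        | succ n ih =>
          rw [show 2 * (n + 1) = 2 * n + 1 + 1 by ring, pow_succ, pow_succ, mul_smul, mul_smul, h, ih]
      conv_rhs => rw [← one_smul G a, ← pow_orderOf_eq_one x, ht, pow_succ', mul_smul, h1]
    obtain ⟨g, hg1, hg2⟩ := hex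
    obtain ⟨a, b, hab, hfab⟩ := Set.ncard_eq_two.mp (Nat.card_coe_set_eq (MulAction.fixedBy Ω g) ▸ hg2)
    let K := MulAction.stabilizer G a ⊓ MulAction.stabilizer G b
    have hgK : g ∈ K := ⟨(show a ∈ MulAction.fixedBy Ω g by rw [hfab]; exact Or.inl rfl),
      (show b ∈ MulAction.fixedBy Ω g by rw [hfab]; exact Or.inr rfl)⟩
    have hfixK : ∀ x ∈ K, x ≠ 1 → ∀ y, x • y = y → y = a ∨ y = b := by
      intro x hx hx1 y hy
      by_contra h
      push Not at h
      have h3 : ({a, b, y} : Set Ω).ncard ≤ Nat.card (MulAction.fixedBy Ω x) := by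
        rw [Nat.card_coe_set_eq]
        refine Set.ncard_le_ncard ?_ (Set.toFinite _)
        rintro z (rfl | rfl | rfl)
        exacts [hx.1, hx.2, hy]
      rw [Set.ncard_insert_of_notMem (by simp [hab, h.1.symm]), Set.ncard_pair h.2.symm] at h3
      have := hfix x hx1
      omega
    have hmal : ∀ t : G, t ∉ K → ∀ x ∈ K, t * x * t⁻¹ ∈ K → x = 1 := by
      intro t ht x hx htx
      by_contra hx1
      have hne : t * x * t⁻¹ ≠ 1 := fun h => hx1 (by simpa using h)
      have hfx : ∀ y, x • y = y → t • y = a ∨ t • y = b := fun y hy => hfixK _ htx hne _ (by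
        rw [smul_smul, inv_mul_cancel_right, mul_smul, hy])
      rcases hfx a hx.1 with ha | ha <;> rcases hfx b hx.2 with hb | hb
      · exact hab (MulAction.injective t (ha.trans hb.symm))
      · exact ht ⟨ha, hb⟩
      · have : t • t • a = a := by rw [ha, hb]
        exact hab ((hodd' t a this).symm.trans ha)
      · exact hab (MulAction.injective t (ha.trans hb.symm))
    obtain ⟨t, ht⟩ := MulAction.exists_smul_eq G a b
    obtain ⟨h, hh, hhg⟩ := exists_conj_mem K (MulAction.stabilizer G b)
      (fun h => hg1 (Subgroup.mem_bot.mp (h ▸ hgK))) hmal inf_le_right t (fun x hx => by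
        show (t * x * t⁻¹) • b = b
        rw [← ht, smul_smul, inv_mul_cancel_right, mul_smul, show x • a = a from hx.1])
    have h1 : (h * t) • a = a := hhg.1
    rw [mul_smul, ht, show h • b = b from hh] at h1
    exact hab h1.symm
  · by_contra hcon
    push Not at hcon
    obtain ⟨hdiv, hdivi⟩ := hcon
    have : Fact p.Prime := ⟨hp⟩
    obtain ⟨Pα⟩ : Nonempty (Sylow p (MulAction.stabilizer G α)) := inferInstance
    let D : Subgroup G := (Pα : Subgroup (MulAction.stabilizer G α)).map (MulAction.stabilizer G α).subtype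
    have hDp : IsPGroup p D := Pα.2.map _
    have hcardD : Nat.card D = p ^ (Nat.card (MulAction.stabilizer G α)).factorization p := by
      rw [Subgroup.card_map_of_injective (Subgroup.subtype_injective _), Pα.card_eq_multiplicity]
    obtain ⟨P, hP⟩ := hDp.exists_le_sylow
    have hlt : D < (P : Subgroup G) := by
      refine lt_of_le_of_ne hP fun he => ?_
      have h2 : Nat.card D = p ^ (Nat.card G).factorization p := by rw [he, P.card_eq_multiplicity]
      rw [hcardD, ← (MulAction.stabilizer G α).card_mul_index,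
        Nat.factorization_mul Nat.card_pos.ne' Subgroup.index_ne_zero_of_finite, Finsupp.add_apply] at h2
      have h3 := Nat.pow_right_injective hp.two_le h2
      have := hp.factorization_pos_of_dvd Subgroup.index_ne_zero_of_finite hdivi
      omega
    obtain ⟨x, hxP, hxN, hxD⟩ : ∃ x ∈ (P : Subgroup G), x ∈ Subgroup.normalizer (D : Set G) ∧ x ∉ D := by
      have : Group.IsNilpotent (P : Subgroup G) := P.2.isNilpotent
      obtain ⟨y, hyN, hyD⟩ := SetLike.exists_of_lt
        (Group.normalizerCondition_of_isNilpotent (G := (P : Subgroup G)) (D.subgroupOf P)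
          (lt_top_iff_ne_top.mpr fun he => hlt.not_ge (Subgroup.subgroupOf_eq_top.mp he)))
      refine ⟨y, y.2, Subgroup.mem_normalizer_iff.mpr fun z => ?_, hyD⟩
      constructor
      · intro hz
        exact (Subgroup.mem_normalizer_iff.mp hyN ⟨z, hP hz⟩).mp hz
      · intro hz
        have hzP : z ∈ (P : Subgroup G) := by
          have := mul_mem (mul_mem (inv_mem y.2) (hP hz)) y.2
          simpa [mul_assoc] using this
        exact (Subgroup.mem_normalizer_iff.mp hyN ⟨z, hzP⟩).mpr hz
    obtain ⟨d, hdD, hd1⟩ : ∃ d ∈ D, d ≠ 1 := by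
      refine (Subgroup.bot_or_exists_ne_one D).resolve_left fun h => ?_
      rw [h, Subgroup.card_bot] at hcardD
      have := hp.factorization_pos_of_dvd Nat.card_pos.ne' hdiv
      exact absurd hcardD.symm (Nat.one_lt_pow this.ne' hp.one_lt).ne'
    have hfixD : ∀ n : ℕ, (x ^ n) • α ∈ MulAction.fixedBy Ω d := by
      intro n
      show d • (x ^ n) • α = (x ^ n) • α
      have hxn : (x ^ n)⁻¹ * d * x ^ n ∈ D := (Subgroup.mem_normalizer_iff''.mp (pow_mem hxN n) d).mp hdD
      have hα : ((x ^ n)⁻¹ * d * x ^ n) • α = α := by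
        obtain ⟨y, -, hy⟩ := hxn
        exact (congrArg (· • α) hy).symm.trans y.2
      rw [mul_smul, mul_smul, inv_smul_eq_iff] at hα
      exact hα
    -- the orbit of `α` under the `p`-element `x` has fewer than `p` points
    have hsmall : Nat.card (MulAction.orbit (Subgroup.zpowers x) α) ≤ k := by
      refine le_trans ?_ (hfix d hd1)
      rw [Nat.card_coe_set_eq, Nat.card_coe_set_eq]
      refine Set.ncard_le_ncard ?_ (Set.toFinite _)
      rintro _ ⟨⟨z, hz⟩, rfl⟩
      obtain ⟨n, rfl⟩ := mem_powers_iff_mem_zpowers.mpr hz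
      exact hfixD n
    obtain ⟨n, hn⟩ := (P.2.to_le (Subgroup.zpowers_le.mpr hxP)).card_orbit α
    have hn0 : n = 0 := by
      by_contra h
      have := Nat.le_self_pow h p
      omega
    have hxα : x • α = α := by
      rw [hn0, pow_zero] at hn
      have := (Nat.card_eq_one_iff_unique.mp hn).1
      exact congrArg Subtype.val (Subsingleton.elim
        (⟨x • α, ⟨x, Subgroup.mem_zpowers x⟩, rfl⟩ : MulAction.orbit (Subgroup.zpowers x) α)
        ⟨α, MulAction.mem_orbit_self α⟩)
    refine hxD ?_
    let D' : Subgroup (MulAction.stabilizer G α) := ((P : Subgroup G) ⊓ MulAction.stabilizer G α).subgroupOf _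
    have hD'p : IsPGroup p D' := (P.2.to_le (inf_le_left (b := MulAction.stabilizer G α))).of_equiv
      (Subgroup.subgroupOfEquivOfLe inf_le_right).symm
    have hle : (Pα : Subgroup (MulAction.stabilizer G α)) ≤ D' := fun z hz =>
      Subgroup.mem_subgroupOf.mpr ⟨hP ⟨z, hz, rfl⟩, z.2⟩
    have heq := Pα.3 hD'p hle
    refine ⟨⟨x, hxα⟩, ?_, rfl⟩
    exact heq ▸ Subgroup.mem_subgroupOf.mpr ⟨hxP, hxα⟩

end Cfsg.Agent.S3389
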