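import Cfsg.Statements.S3390
import Cfsg.Agent.Lib.PGroup.SuzukiMaximalClass

set_option autoImplicit false
set_option linter.unusedSectionVars false
open Cfsg

namespace Cfsg.Agent.S3390

/-- An involution of the quaternion group is central. -/
theorem quaternion_central {n : ℕ} [NeZero n] (g x : QuaternionGroup n) (hg : g * g = 1) :
    x * g = g * x := by
  rcases g with i | i
  · rw [QuaternionGroup.a_mul_a, QuaternionGroup.one_def] at hg
    have hi : i + i = 0 := QuaternionGroup.a.inj hg
    rcases x with j | j
    · simp [add_comm]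
    · rw [QuaternionGroup.xa_mul_a, QuaternionGroup.a_mul_xa]
      congr 1
      rw [sub_eq_add_neg, show -i = i from (eq_neg_of_add_eq_zero_left hi).symm]
  · exfalso
    have h4 := QuaternionGroup.orderOf_xa (n := n) i
    have h2 : orderOf (QuaternionGroup.xa i) ∣ 2 := orderOf_dvd_of_pow_eq_one (by rw [pow_two]; exact hg)
    rw [h4] at h2
    omega

/-- A `2`-group with an involution whose centralizer has order at most four. -/
theorem dihedral_of_small_centralizer {X : Type*} [Group X] [Finite X] (hX : IsPGroup 2 X) (u : X)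
    (hu : u ≠ 1) (hu2 : u * u = 1) (h8 : 8 ≤ Nat.card X)
    (hC : Nat.card (Subgroup.centralizer ({u} : Set X)) ≤ 4) :
    (∃ n : ℕ, Nonempty (X ≃* DihedralGroup n)) ∨ Cfsg.IsQuasiDihedral X := by
  classical
  haveI := Fact.mk Nat.prime_two
  obtain ⟨n, hn⟩ := hX.exists_card_eq
  have hn3 : 3 ≤ n := by
    by_contra h
    push Not at h
    interval_cases n <;> simp [hn] at h8
  set V := Subgroup.centralizer ({u} : Set X) with hV
  have hnc : ∃ x : X, x * u ≠ u * x := by
    by_contra hall
    push Not at hall
    have htop : V = ⊤ := (Subgroup.eq_top_iff' V).mpr fun x => by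
      rw [hV, Subgroup.mem_centralizer_singleton_iff]
      exact hall x
    rw [htop, Subgroup.card_top] at hC
    omega
  obtain ⟨i, hi⟩ := (hX.to_subgroup V).exists_card_eq
  have hi2 : i ≤ 2 := by
    by_contra h
    push Not at h
    have := Nat.pow_le_pow_right (show 0 < 2 by norm_num) h
    omega
  have hdvd : 2 ^ 3 ∣ Nat.card X := by
    rw [hn]
    exact pow_dvd_pow 2 hn3
  obtain ⟨H, hH, hVH⟩ := Sylow.exists_subgroup_card_pow_prime_le (p := 2) (n := i) (m := 3) hdvd V hi
    (by omega)
  have hna : ¬ IsMulCommutative H := by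
    intro hc
    have huH : u ∈ H := hVH (by rw [hV, Subgroup.mem_centralizer_singleton_iff])
    have hle : H ≤ V := fun x hx => by
      rw [hV, Subgroup.mem_centralizer_singleton_iff]
      exact congrArg Subtype.val (hc.is_comm.comm ⟨x, hx⟩ ⟨u, huH⟩)
    have := Subgroup.card_le_of_le hle
    rw [hH] at this
    omega
  have hcH : Subgroup.centralizer (H : Set X) ≤ H := by
    refine le_trans (Subgroup.centralizer_le (Set.singleton_subset_iff.mpr ?_)) hVH
    exact hVH (by rw [hV, Subgroup.mem_centralizer_singleton_iff])
  have hcomm := CfsgLib.MaxClass.four_mul_card_commutator hX H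
    (by rw [hH]; norm_num) hna hcH
  have hX' : Nat.card (commutator X) = 2 ^ (n - 2) := by
    have h := hcomm.trans hn
    rw [show n = (n - 2) + 2 by omega, pow_add] at h
    omega
  rcases CfsgLib.MaxClass.classify hn3 hn hX' with h | ⟨⟨e⟩⟩ | ⟨h4, a, b, ha, hb, hab⟩
  · exact Or.inl ⟨_, h⟩
  · exfalso
    haveI : NeZero (2 ^ (n - 2)) := ⟨(Nat.two_pow_pos _).ne'⟩
    obtain ⟨x, hx⟩ := hnc
    refine hx (e.injective ?_)
    rw [map_mul, map_mul]
    exact quaternion_central _ _ (by rw [← map_mul, hu2, map_one])
  · refine Or.inr ⟨n - 1, by omega, ?_, a, b, ha, hb, ?_⟩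
    · rw [hn, show n - 1 + 1 = n by omega]
    · rw [hab, show n - 1 - 1 = n - 2 by omega]

/-- A group of order four which is not cyclic is dihedral. -/
theorem dihedral_of_card_four {X : Type*} [Group X] [Finite X] (h4 : Nat.card X = 4) (u t : X)
    (hu : u ≠ 1) (hu2 : u * u = 1) (ht : t ≠ 1) (ht2 : t * t = 1) (hut : u ≠ t) :
    ∃ n : ℕ, Nonempty (X ≃* DihedralGroup n) := by
  have hnc : ¬ IsCyclic X := by
    intro hc
    obtain ⟨g, hg⟩ := IsCyclic.exists_generator (α := X)
    have hog : orderOf g = 4 := (orderOf_eq_card_of_forall_mem_zpowers hg).trans h4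
    have key : ∀ x : X, x * x = 1 → x ≠ 1 → x = g ^ (2 : ℤ) := by
      intro x hx hx1
      obtain ⟨k, rfl⟩ := hg x
      change g ^ k * g ^ k = 1 at hx
      change g ^ k = g ^ (2 : ℤ)
      rw [← zpow_add, ← orderOf_dvd_iff_zpow_eq_one, hog] at hx
      rw [Ne, ← orderOf_dvd_iff_zpow_eq_one, hog] at hx1
      rw [← orderOf_dvd_sub_iff_zpow_eq_zpow, hog]
      omega
    exact hut ((key u hu2 hu).trans (key t ht2 ht).symm)
  haveI : IsKleinFour X :=
    ⟨h4, (not_isCyclic_iff_exponent_eq_prime Nat.prime_two (by rw [h4]; norm_num)).mp hnc⟩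
  haveI := DihedralGroup.nat_card (n := 2)
  exact ⟨2, IsKleinFour.nonempty_mulEquiv⟩

/-- A permutation all whose non-trivial cycles have length `d` is even when the moved points
split into an even number of cycles. -/
theorem sign_eq_one {α : Type*} [Fintype α] [DecidableEq α] (σ : Equiv.Perm α) (d : ℕ)
    (hcyc : ∀ a, σ a ≠ a → ∀ i : ℕ, (σ ^ i) a = a ↔ d ∣ i) (hsupp : 2 * d ∣ σ.support.card) :
    Equiv.Perm.sign σ = 1 := by
  classical
  rcases eq_or_ne σ 1 with rfl | hσ
  · exact map_one _
  have hct : ∀ n ∈ σ.cycleType, n = d := by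
    intro n hn
    rw [Equiv.Perm.cycleType_def, Multiset.mem_map] at hn
    obtain ⟨c, hc, rfl⟩ := hn
    have hc' : c ∈ σ.cycleFactorsFinset := hc
    obtain ⟨hcy, -⟩ := Equiv.Perm.mem_cycleFactorsFinset_iff.mp hc'
    obtain ⟨x, hx⟩ := hcy.nonempty_support
    have hce : c = σ.cycleOf x := Equiv.Perm.cycle_is_cycleOf hx hc'
    have hσx : σ x ≠ x := by
      intro e
      rw [hce, Equiv.Perm.mem_support, Equiv.Perm.cycleOf_apply_self] at hx
      exact hx e
    have key : ∀ i : ℕ, c ^ i = 1 ↔ d ∣ i := fun i => by
      rw [← hcyc x hσx i, ← Equiv.Perm.cycleOf_pow_apply_self σ x, ← hce]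
      exact hcy.pow_eq_one_iff' (Equiv.Perm.mem_support.mp hx)
    show c.support.card = d
    rw [← hcy.orderOf]
    exact Nat.dvd_antisymm (orderOf_dvd_of_pow_eq_one ((key d).mpr dvd_rfl))
      ((key _).mp (pow_orderOf_eq_one c))
  have hrep := Multiset.eq_replicate_card.mpr hct
  have hsum := Equiv.Perm.sum_cycleType σ
  rw [hrep, Multiset.sum_replicate, smul_eq_mul] at hsum
  have hd : 0 < d := by
    rcases Nat.eq_zero_or_pos d with rfl | h
    · exfalso
      rw [mul_zero] at hsum
      exact hσ (Equiv.Perm.support_eq_empty_iff.mp (Finset.card_eq_zero.mp hsum.symm))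
    · exact h
  obtain ⟨m, hm⟩ := hsupp
  have hk : Multiset.card σ.cycleType = 2 * m := by
    refine Nat.eq_of_mul_eq_mul_right hd ?_
    rw [hsum, hm]
    ring
  rw [Equiv.Perm.sign_of_cycleType, hrep, Multiset.sum_replicate, Multiset.card_replicate, hk,
    smul_eq_mul]
  exact Even.neg_one_pow ⟨m * d + m, by ring⟩

section Action

variable {G : Type*} [Group G] [Finite G] {Ω : Type*} [Fintype Ω] [MulAction G Ω]

theorem three (hfix : ∀ g : G, g ≠ 1 → Nat.card (MulAction.fixedBy Ω g) ≤ 2) {g : G} {a b c : Ω}
    (ha : g • a = a) (hb : g • b = b) (hc : g • c = c) (hab : a ≠ b) (hac : a ≠ c) (hbc : b ≠ c) :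
    g = 1 := by
  classical
  by_contra hg
  have h := hfix g hg
  have hle : ({a, b, c} : Finset Ω).card ≤ Nat.card (MulAction.fixedBy Ω g) := by
    rw [Nat.card_coe_set_eq, ← Set.ncard_coe_finset]
    refine Set.ncard_le_ncard ?_ (Set.toFinite _)
    intro x hx
    rw [Finset.mem_coe] at hx
    simp only [Finset.mem_insert, Finset.mem_singleton] at hx
    rcases hx with rfl | rfl | rfl <;> assumption
  rw [Finset.card_eq_three.mpr ⟨a, b, c, hab, hac, hbc, rfl⟩] at hle
  omega

/-- A subgroup centralizing `u` permutes the fixed points of `u`. -/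
theorem card_cent (hfix : ∀ g : G, g ≠ 1 → Nat.card (MulAction.fixedBy Ω g) ≤ 2) {u : G}
    (hu : u ≠ 1) {ω : Ω} (hω : u • ω = ω) (C : Subgroup G) (hC : ∀ c ∈ C, c * u = u * c) :
    Nat.card C ≤ 2 * Nat.card ↥(C ⊓ MulAction.stabilizer G ω) := by
  classical
  have h1 := ((C ⊓ MulAction.stabilizer G ω).subgroupOf C).card_mul_index
  rw [Nat.card_congr (Subgroup.subgroupOfEquivOfLe inf_le_left).toEquiv] at h1
  have h2 : ((C ⊓ MulAction.stabilizer G ω).subgroupOf C).index ≤ 2 := by
    have hst : (C ⊓ MulAction.stabilizer G ω).subgroupOf C = MulAction.stabilizer C ω := by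
      ext c
      simp [Subgroup.mem_subgroupOf, Subgroup.smul_def]
    rw [hst, MulAction.index_stabilizer]
    refine le_trans (Set.ncard_le_ncard ?_ (Set.toFinite _))
      ((Nat.card_coe_set_eq (MulAction.fixedBy Ω u)).symm.le.trans (hfix u hu))
    rintro x ⟨c, rfl⟩
    show u • ((c : G) • ω) = (c : G) • ω
    rw [smul_smul, ← hC c c.2, mul_smul, hω]
  rw [← h1, mul_comm]
  exact Nat.mul_le_mul_right _ h2

end Action

/-- The second alternative for a point with a small centralizer. -/
theorem small_case {G : Type*} [Group G] [Finite G] (P : Subgroup G) (hP : IsPGroup 2 P) (u : G)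
    (huP : u ∈ P) (hu : u ≠ 1) (hu2 : u * u = 1) (h8 : 8 ≤ Nat.card P)
    (hC : Nat.card ↥(P ⊓ Subgroup.centralizer ({u} : Set G)) ≤ 4) :
    (∃ n : ℕ, Nonempty (↥P ≃* DihedralGroup n)) ∨ Cfsg.IsQuasiDihedral ↥P := by
  refine dihedral_of_small_centralizer hP ⟨u, huP⟩ (fun h => hu (congrArg Subtype.val h))
    (Subtype.ext hu2) h8 ?_
  refine le_trans (le_of_eq ?_) hC
  rw [← Subgroup.card_map_of_injective (f := P.subtype) P.subtype_injective]
  refine congrArg (fun H : Subgroup G => Nat.card H) (SetLike.ext fun x => ⟨?_, ?_⟩)
  · rintro ⟨c, hc, rfl⟩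
    exact ⟨c.2, Subgroup.mem_centralizer_singleton_iff.mpr
      (congrArg Subtype.val (Subgroup.mem_centralizer_singleton_iff.mp hc))⟩
  · rintro ⟨hxP, hxc⟩
    exact ⟨⟨x, hxP⟩, Subgroup.mem_centralizer_singleton_iff.mpr
      (Subtype.ext (Subgroup.mem_centralizer_singleton_iff.mp hxc)), rfl⟩

/-- Let G be a finite group acting faithfully and transitively on a finite set Ω with fixity 2 (every non-identity element fixes at most two points, and some fixes exactly two). Let α ∈ Ω and S a Sylow 2-subgroup of G. Then one of the following holds: the stabilizer S_α of α in S is trivial; S is dihedral or semidihedral and either |S_α| = 2 or |S : S_α| = 2; |S| ≥ 4, S has exactly one orbit of size 2 on Ω, every other S-orbit is regular, and G has a normal subgroup of index 2 or of index |S| which is a Frobenius group; or S ≤ G_α. -/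
theorem result {G : Type*} [Group G] [Finite G] {Ω : Type*} [Fintype Ω] [MulAction G Ω] [FaithfulSMul G Ω] (htr : MulAction.IsPretransitive G Ω)
    (hfix : ∀ g : G, g ≠ 1 → Nat.card (MulAction.fixedBy Ω g) ≤ 2) (hex : ∃ g : G, g ≠ 1 ∧ Nat.card (MulAction.fixedBy Ω g) = 2) (α : Ω) (S : Sylow 2 G) :
    (S : Subgroup G) ⊓ MulAction.stabilizer G α = ⊥ ∨
    (((∃ n : ℕ, Nonempty (↥(S : Subgroup G) ≃* DihedralGroup n)) ∨ Cfsg.IsQuasiDihedral ↥(S : Subgroup G)) ∧
       (Nat.card ↥((S : Subgroup G) ⊓ MulAction.stabilizer G α) = 2 ∨ ((S : Subgroup G) ⊓ MulAction.stabilizer G α).relIndex (S : Subgroup G) = 2)) ∨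
    (4 ≤ Nat.card (S : Subgroup G) ∧
       (∃ ω : Ω, Nat.card (MulAction.orbit ↥(S : Subgroup G) ω) = 2 ∧
          ∀ ω' : Ω, ω' ∉ MulAction.orbit ↥(S : Subgroup G) ω → Nat.card (MulAction.orbit ↥(S : Subgroup G) ω') = Nat.card (S : Subgroup G)) ∧
       ∃ N : Subgroup G, N.Normal ∧ (N.index = 2 ∨ N.index = Nat.card (S : Subgroup G)) ∧ (∃ H : Subgroup ↥N, Cfsg.IsFrobeniusComplement H)) ∨
    (S : Subgroup G) ≤ MulAction.stabilizer G α := by
  classical
  haveI := Fact.mk Nat.prime_two
  set P : Subgroup G := (S : Subgroup G) with hPdef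
  have hP : IsPGroup 2 P := S.2
  set T : Subgroup G := P ⊓ MulAction.stabilizer G α with hTdef
  by_cases hT1 : T = ⊥
  · exact Or.inl hT1
  by_cases hTP : P ≤ MulAction.stabilizer G α
  · exact Or.inr (Or.inr (Or.inr hTP))
  right
  have hTle : T ≤ P := inf_le_left
  have hTlt : T < P := lt_of_le_of_ne hTle fun e => hTP (e ▸ inf_le_right)
  have hTfix : ∀ t ∈ T, t • α = α := fun t ht => ht.2
  obtain ⟨t₀, ht₀, ht₀1⟩ : ∃ t ∈ T, t ≠ 1 := by
    by_contra hcon
    push Not at hcon
    exact hT1 ((Subgroup.eq_bot_iff_forall T).mpr hcon)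
  have hmulT : Nat.card T * T.relIndex P = Nat.card P := by
    rw [← Nat.card_congr (Subgroup.subgroupOfEquivOfLe hTle).toEquiv]
    exact (T.subgroupOf P).card_mul_index
  have hstabP : ∀ x : P, x ∈ MulAction.stabilizer P α ↔ x ∈ T.subgroupOf P := fun x => by
    rw [Subgroup.mem_subgroupOf, hTdef, Subgroup.mem_inf]
    simp [Subgroup.smul_def, x.2]
  have horbα : Nat.card (MulAction.orbit P α) = T.relIndex P := by
    rw [Nat.card_coe_set_eq, ← MulAction.index_stabilizer, SetLike.ext hstabP]
    rfl
  have hk1 : T.relIndex P ≠ 1 := fun h => hTlt.not_ge (Subgroup.relIndex_eq_one.mp h)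
  by_cases hk : T.relIndex P = 2
  · haveI hTn : (T.subgroupOf P).Normal := Subgroup.normal_of_index_eq_two hk
    obtain ⟨s, hsP, hsT⟩ := SetLike.exists_of_lt hTlt
    set β : Ω := s • α with hβ
    have hαβ : α ≠ β := fun e => hsT ⟨hsP, e.symm⟩
    have hTβ : ∀ t ∈ T, t • β = β := by
      intro t ht
      have hm := hTn.conj_mem ⟨t, hTle ht⟩ ht ⟨s⁻¹, P.inv_mem hsP⟩
      rw [Subgroup.mem_subgroupOf] at hm
      have h1 : (s⁻¹ * t * s) • α = α := by simpa using hTfix _ hm
      calc t • β = s • ((s⁻¹ * t * s) • α) := by
            rw [hβ, smul_smul, smul_smul]; congr 1; group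
        _ = β := by rw [h1]
    have horb : ∀ x ∈ P, x • α = α ∨ x • α = β := by
      intro x hx
      by_cases hxT : x ∈ T
      · exact Or.inl (hTfix x hxT)
      refine Or.inr ?_
      have hm : (⟨s, hsP⟩ : P)⁻¹ * ⟨x, hx⟩ ∈ T.subgroupOf P := by
        rw [Subgroup.mul_mem_iff_of_index_two hk, inv_mem_iff]
        exact iff_of_false hsT hxT
      rw [Subgroup.mem_subgroupOf] at hm
      calc x • α = s • ((s⁻¹ * x) • α) := by rw [smul_smul]; congr 1; group
        _ = β := by rw [show (s⁻¹ * x) • α = α by simpa using hTfix _ hm]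
    have hTex : ∀ t ∈ T, t ≠ 1 → ∀ ω, t • ω = ω → ω = α ∨ ω = β := by
      intro t ht ht1 ω hω
      by_contra hcon
      push Not at hcon
      exact ht1 (three hfix (hTfix t ht) (hTβ t ht) hω hαβ hcon.1.symm hcon.2.symm)
    by_cases hA : ∃ ω, ω ≠ α ∧ ω ≠ β ∧ ∃ u ∈ P, u ≠ 1 ∧ u • ω = ω
    · left
      obtain ⟨ω, hωα, hωβ, u, huP, hu1, huω⟩ := hA
      have hmeet : ∀ t ∈ T, t • ω = ω → t = 1 := by
        intro t ht he
        by_contra h
        rcases hTex t ht h ω he with h' | h'
        · exact hωα h'
        · exact hωβ h'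
      have huT : u ∉ T := fun h => hu1 (hmeet u h huω)
      have hu2 : u * u = 1 := by
        refine hmeet _ ?_ (by rw [mul_smul, huω, huω])
        have := Subgroup.mul_self_mem_of_index_two hk (⟨u, huP⟩ : P)
        rw [Subgroup.mem_subgroupOf] at this
        exact this
      have hCle : Nat.card ↥(P ⊓ Subgroup.centralizer ({u} : Set G)) ≤ 4 := by
        refine (card_cent hfix hu1 huω (P ⊓ Subgroup.centralizer ({u} : Set G)) fun c hc =>
          Subgroup.mem_centralizer_singleton_iff.mp hc.2).trans ?_
        have : Nat.card ↥(P ⊓ Subgroup.centralizer ({u} : Set G) ⊓ MulAction.stabilizer G ω) ≤ 2 := by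
          rw [← hk]
          refine Nat.card_le_card_of_injective
            (fun x => (QuotientGroup.mk (⟨x.1, x.2.1.1⟩ : P) : P ⧸ T.subgroupOf P)) ?_
          intro x y e
          have e' := QuotientGroup.eq.mp e
          rw [Subgroup.mem_subgroupOf] at e'
          have h1 : (x : G)⁻¹ * y = 1 := by
            refine hmeet _ (by simpa using e') ?_
            rw [mul_smul, show (y : G) • ω = ω from y.2.2, inv_smul_eq_iff]
            exact (show (x : G) • ω = ω from x.2.2).symm
          exact Subtype.ext (inv_mul_eq_one.mp h1)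
        omega
      refine ⟨?_, Or.inr hk⟩
      obtain ⟨m, hm⟩ := hP.exists_card_eq
      have hT2 : 2 ≤ Nat.card T := Nat.succ_le_of_lt (Subgroup.one_lt_card_iff_ne_bot T |>.mpr hT1)
      by_cases h8 : 8 ≤ Nat.card P
      · exact small_case P hP u huP hu1 hu2 h8 hCle
      left
      have hm2 : m = 2 := by
        rcases Nat.lt_trichotomy m 2 with h | h | h
        · have := Nat.pow_le_pow_right (show 0 < 2 by norm_num) (show m ≤ 1 by omega)
          rw [← hm] at this
          rw [hk] at hmulT
          omega
        · exact h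
        · have := Nat.pow_le_pow_right (show 0 < 2 by norm_num) h
          rw [← hm] at this
          omega
      subst hm2
      norm_num at hm
      have hT2' : Nat.card T = 2 := by rw [hk] at hmulT; omega
      have ht₀2 : t₀ * t₀ = 1 := by
        have := pow_card_eq_one' (x := (⟨t₀, ht₀⟩ : T))
        rw [hT2', pow_two] at this
        exact congrArg Subtype.val this
      exact dihedral_of_card_four hm ⟨u, huP⟩ ⟨t₀, hTle ht₀⟩ (fun h => hu1 (congrArg Subtype.val h))
        (Subtype.ext hu2) (fun h => ht₀1 (congrArg Subtype.val h)) (Subtype.ext ht₀2)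
        (fun h => huT (by rw [show u = t₀ from congrArg Subtype.val h]; exact ht₀))
    · right; left
      push Not at hA
      have hfree : ∀ ω, ω ≠ α → ω ≠ β → ∀ x ∈ P, x • ω = ω → x = 1 := by
        intro ω h1 h2 x hx he
        by_contra h
        exact hA ω h1 h2 x hx h he
      have hT2 : 2 ≤ Nat.card T := Nat.succ_le_of_lt (Subgroup.one_lt_card_iff_ne_bot T |>.mpr hT1)
      have hP4 : 4 ≤ Nat.card P := by rw [← hmulT, hk]; omega
      have horbset : ∀ ω, ω ∈ MulAction.orbit P α ↔ (ω = α ∨ ω = β) := by
        intro ω
        constructor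
        · rintro ⟨x, rfl⟩
          exact horb x x.2
        · rintro (rfl | rfl)
          · exact MulAction.mem_orbit_self _
          · exact ⟨⟨s, hsP⟩, rfl⟩
      have hreg : ∀ ω, ω ≠ α → ω ≠ β → Nat.card (MulAction.orbit P ω) = Nat.card P := by
        intro ω h1 h2
        rw [Nat.card_coe_set_eq, ← MulAction.index_stabilizer,
          (Subgroup.eq_bot_iff_forall (MulAction.stabilizer P ω)).mpr fun (x : P) hx => Subtype.ext (hfree ω h1 h2 x x.2 hx),
          Subgroup.index_bot]
      refine ⟨hP4, ⟨α, horbα.trans hk, fun ω hω => ?_⟩, ?_⟩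
      · rw [horbset] at hω
        push Not at hω
        exact hreg ω hω.1 hω.2
      -- the points off the orbit of size two
      have hstable : ∀ x ∈ P, ∀ ω, ω ≠ α ∧ ω ≠ β → x • ω ≠ α ∧ x • ω ≠ β := by
        intro x hx ω hω
        by_contra hcon
        have hmem : x • ω ∈ MulAction.orbit P α := (horbset _).mpr (by tauto)
        have : ω ∈ MulAction.orbit P α := by
          obtain ⟨y, hy⟩ := hmem
          refine ⟨(⟨x, hx⟩ : P)⁻¹ * y, ?_⟩
          change ((⟨x, hx⟩ : P)⁻¹ * y) • α = ω
          rw [mul_smul]
          change x⁻¹ • ((y : G) • α) = ω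
          rw [show (y : G) • α = x • ω from hy, inv_smul_smul]
        rw [horbset] at this
        tauto
      set R : Finset Ω := Finset.univ.filter fun ω => ω ≠ α ∧ ω ≠ β with hR
      have hRdvd : Nat.card P ∣ R.card := by
        let X : Type _ := {ω : Ω // ω ≠ α ∧ ω ≠ β}
        let _ : MulAction P X :=
          { smul := fun x w => ⟨(x : G) • w.1, hstable x x.2 w.1 w.2⟩
            one_smul := fun w => Subtype.ext (one_smul G w.1)
            mul_smul := fun x y w => Subtype.ext (mul_smul (x : G) (y : G) w.1) }
        have hX : Nat.card X = R.card := by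
          rw [Nat.card_eq_fintype_card, Fintype.card_subtype]
        have hfreeX : ∀ w : X, Nat.card (MulAction.orbit P w) = Nat.card P := by
          intro w
          rw [Nat.card_coe_set_eq, ← MulAction.index_stabilizer,
            (Subgroup.eq_bot_iff_forall (MulAction.stabilizer P w)).mpr fun (x : P) hx =>
              Subtype.ext (hfree w.1 w.2.1 w.2.2 x x.2 (congrArg Subtype.val hx)),
            Subgroup.index_bot]
        haveI := Fintype.ofFinite (MulAction.orbitRel.Quotient P X)
        rw [← hX, Nat.card_congr (MulAction.selfEquivSigmaOrbits P X), Nat.card_sigma]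
        refine Finset.dvd_sum fun q _ => ?_
        exact dvd_of_eq (hfreeX _).symm
      -- a normal subgroup of index two meeting `P` in `T`
      obtain ⟨N, hNn, hNi, hTN, hsN⟩ : ∃ N : Subgroup G, N.Normal ∧ N.index = 2 ∧ T ≤ N ∧ s ∉ N := by
        by_cases hcyc : IsCyclic P
        · have hmin : (Nat.card G).minFac = 2 := by
            rw [Nat.minFac_eq_two_iff]
            exact ((Nat.dvd_mul_left 2 (Nat.card T)).trans (dvd_of_eq (by rw [← hmulT, hk]))).trans
              (Subgroup.card_subgroup_dvd_card P)
          have hcompl := IsCyclic.isComplement' hmin (P := S) hcyc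
          set f := MonoidHom.transferSylow S (hcyc.normalizer_le_centralizer hmin) with hf
          let g : P →* G ⧸ f.ker := (QuotientGroup.mk' f.ker).comp P.subtype
          have hgi : Function.Injective g := by
            rw [injective_iff_map_eq_one]
            intro x hx
            have hxk : (x : G) ∈ f.ker := (QuotientGroup.eq_one_iff _).mp hx
            exact Subtype.ext (Subgroup.disjoint_def.mp hcompl.disjoint hxk x.2)
          have hgs : Function.Surjective g := by
            refine (hgi.bijective_of_nat_card_le (le_of_eq ?_)).2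
            exact hcompl.symm.index_eq_card
          haveI : ((T.subgroupOf P).map g).Normal := hTn.map g hgs
          refine ⟨((T.subgroupOf P).map g).comap (QuotientGroup.mk' f.ker), inferInstance, ?_, ?_, ?_⟩
          · rw [Subgroup.index_comap_of_surjective _ (QuotientGroup.mk'_surjective _),
              Subgroup.index_map_of_bijective ⟨hgi, hgs⟩]
            exact hk
          · exact fun t ht => ⟨⟨t, hTle ht⟩, ht, rfl⟩
          · rintro ⟨y, hy, he⟩
            have hys : y = ⟨s, hsP⟩ := hgi he
            rw [hys] at hy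
            exact hsT hy
        · let φ : G →* ℤˣ := Equiv.Perm.sign.comp (MulAction.toPermHom G Ω)
          have hdlt : ∀ x ∈ P, 2 * orderOf x ∣ Nat.card P := by
            intro x hx
            obtain ⟨a, ha⟩ := hP.exists_card_eq
            have hdvd : orderOf (⟨x, hx⟩ : P) ∣ Nat.card P := orderOf_dvd_natCard _
            rw [Subgroup.orderOf_mk, ha] at hdvd
            obtain ⟨b, hb, hbe⟩ := (Nat.dvd_prime_pow Nat.prime_two).mp hdvd
            have hne : b ≠ a := by
              rintro rfl
              exact hcyc (isCyclic_of_orderOf_eq_card (⟨x, hx⟩ : P)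
                (by rw [Subgroup.orderOf_mk, hbe, ha]))
            rw [hbe, ha, ← pow_succ']
            exact pow_dvd_pow 2 (by omega)
          have hsign : ∀ x ∈ P, ∀ τ : Equiv.Perm Ω, τ α = α → τ β = β →
              (∀ ω, ω ≠ α → ω ≠ β → τ ω = x • ω) → Equiv.Perm.sign τ = 1 := by
            intro x hx τ hτα hτβ hτ
            by_cases hx1 : x = 1
            · rw [show τ = 1 by
                ext ω
                by_cases h1 : ω = α
                · rw [h1, hτα]; rfl
                by_cases h2 : ω = β
                · rw [h2, hτβ]; rfl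
                rw [hτ ω h1 h2, hx1, one_smul]; rfl, map_one]
            have hpow : ∀ ω, ω ≠ α → ω ≠ β → ∀ i : ℕ, (τ ^ i) ω = x ^ i • ω := by
              intro ω h1 h2 i
              induction i with
              | zero => simp
              | succ i ih =>
                have hs := hstable _ (P.pow_mem hx i) ω ⟨h1, h2⟩
                rw [pow_succ', Equiv.Perm.mul_apply, ih, hτ _ hs.1 hs.2, pow_succ', mul_smul]
            have hsupp : τ.support = R := by
              ext ω
              rw [Equiv.Perm.mem_support, hR, Finset.mem_filter]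
              constructor
              · intro h
                refine ⟨Finset.mem_univ _, ?_, ?_⟩
                · rintro rfl; exact h hτα
                · rintro rfl; exact h hτβ
              · rintro ⟨-, h1, h2⟩ he
                rw [hτ ω h1 h2] at he
                exact hx1 (hfree ω h1 h2 x hx he)
            refine sign_eq_one τ (orderOf x) (fun a ha i => ?_) ?_
            · have ha' : a ∈ R := hsupp ▸ Equiv.Perm.mem_support.mpr ha
              rw [hR, Finset.mem_filter] at ha'
              rw [hpow a ha'.2.1 ha'.2.2, orderOf_dvd_iff_pow_eq_one]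
              exact ⟨fun h => hfree a ha'.2.1 ha'.2.2 _ (P.pow_mem hx i) h,
                fun h => by rw [h, one_smul]⟩
            · rw [hsupp]
              exact (hdlt x hx).trans hRdvd
          refine ⟨φ.ker, inferInstance, ?_, ?_, ?_⟩
          rotate_left
          · intro t ht
            exact hsign t (hTle ht) _ (hTfix t ht) (hTβ t ht) (fun ω _ _ => rfl)
          · intro hs
            have hsβ : s • β = α := by
              rcases horb (s * s) (P.mul_mem hsP hsP) with h | h
              · rw [hβ, smul_smul, h]
              · exfalso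
                rw [mul_smul] at h
                exact hαβ (MulAction.injective s h).symm
            have h1 := hsign s hsP (Equiv.swap α β * MulAction.toPerm s) ?_ ?_ ?_
            · rw [map_mul, Equiv.Perm.sign_swap hαβ,
                show Equiv.Perm.sign (MulAction.toPerm s : Equiv.Perm Ω) = 1 from hs] at h1
              exact absurd h1 (by decide)
            · show Equiv.swap α β (s • α) = α
              exact Equiv.swap_apply_right α β
            · show Equiv.swap α β (s • β) = β
              rw [hsβ, Equiv.swap_apply_left]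
            · intro ω h1 h2
              show Equiv.swap α β (s • ω) = s • ω
              have h3 := hstable s hsP ω ⟨h1, h2⟩
              exact Equiv.swap_apply_of_ne_of_ne h3.1 h3.2
          · rw [Subgroup.index_ker]
            have hrange : φ.range = ⊤ := by
              rw [Subgroup.eq_top_iff']
              intro y
              rcases Int.units_eq_one_or y with rfl | rfl
              · exact φ.range.one_mem
              · refine ⟨s, ?_⟩
                rcases Int.units_eq_one_or (φ s) with h | h
                · exfalso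
                  have hsβ : s • β = α := by
                    rcases horb (s * s) (P.mul_mem hsP hsP) with h' | h'
                    · rw [hβ, smul_smul, h']
                    · exfalso
                      rw [mul_smul] at h'
                      exact hαβ (MulAction.injective s h').symm
                  have h1 := hsign s hsP (Equiv.swap α β * MulAction.toPerm s) ?_ ?_ ?_
                  · rw [map_mul, Equiv.Perm.sign_swap hαβ,
                      show Equiv.Perm.sign (MulAction.toPerm s : Equiv.Perm Ω) = 1 from h] at h1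
                    exact absurd h1 (by decide)
                  · show Equiv.swap α β (s • α) = α
                    exact Equiv.swap_apply_right α β
                  · show Equiv.swap α β (s • β) = β
                    rw [hsβ, Equiv.swap_apply_left]
                  · intro ω h1 h2
                    show Equiv.swap α β (s • ω) = s • ω
                    have h3 := hstable s hsP ω ⟨h1, h2⟩
                    exact Equiv.swap_apply_of_ne_of_ne h3.1 h3.2
                · exact h
            rw [hrange, Subgroup.card_top, Nat.card_eq_fintype_card]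
            rfl
      haveI := hNn
      refine ⟨N, hNn, Or.inl hNi, (MulAction.stabilizer G α).subgroupOf N, ?_⟩
      -- the stabilizer lies in `N`
      have hαN : MulAction.stabilizer G α ≤ N := by
        obtain ⟨Q, hQ⟩ := IsPGroup.exists_le_sylow
          (show IsPGroup 2 (T.subgroupOf (MulAction.stabilizer G α)) from
            (hP.to_le hTle).comap_of_injective (MulAction.stabilizer G α).subtype
              Subtype.val_injective)
        set Q' : Subgroup G := (Q : Subgroup (MulAction.stabilizer G α)).map
          (MulAction.stabilizer G α).subtype with hQ'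
        have hTQ : T ≤ Q' := fun t ht => ⟨⟨t, ht.2⟩, hQ ht, rfl⟩
        obtain ⟨S', hS'⟩ := IsPGroup.exists_le_sylow (show IsPGroup 2 Q' from Q.2.map _)
        obtain ⟨c, hc⟩ := MulAction.exists_smul_eq G S S'
        have hcardQ : Nat.card Q' ≤ Nat.card T := by
          have hmem : ∀ q ∈ Q', c⁻¹ * q * c ∈ P := by
            intro q hq
            have h : q ∈ ((c • S : Sylow 2 G) : Subgroup G) := by rw [hc]; exact hS' hq
            rw [Sylow.coe_subgroup_smul, Subgroup.mem_pointwise_smul_iff_inv_smul_mem,
              ← map_inv, MulAut.smul_def, MulAut.conj_apply, inv_inv] at h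
            exact h
          have hfx : ∀ q ∈ Q', (c⁻¹ * q * c) • (c⁻¹ • α) = c⁻¹ • α := by
            rintro q ⟨q', -, rfl⟩
            show (c⁻¹ * (q' : G) * c) • (c⁻¹ • α) = c⁻¹ • α
            rw [mul_smul, smul_inv_smul, mul_smul, show (q' : G) • α = α from q'.2]
          refine Nat.card_le_card_of_injective (fun q : Q' => (⟨c⁻¹ * q * c, ?_⟩ : T)) ?_
          · refine ⟨hmem q q.2, ?_⟩
            show (c⁻¹ * (q : G) * c) • α = α
            by_cases h1 : c⁻¹ • α = α
            · rw [← h1]; exact hfx q q.2
            by_cases h2 : c⁻¹ • α = β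
            · by_contra hcon
              rcases horb _ (hmem q q.2) with h | h
              · exact hcon h
              have h' := hfx q q.2
              rw [h2, ← h] at h'
              exact hcon (MulAction.injective (c⁻¹ * (q : G) * c) h')
            rw [hfree _ h1 h2 _ (hmem q q.2) (hfx q q.2), one_smul]
          · intro q r e
            exact Subtype.ext (mul_left_cancel (mul_right_cancel (congrArg Subtype.val e)))
        have hQT : Q' = T := (Subgroup.eq_of_le_of_card_ge hTQ hcardQ).symm
        intro g hg
        by_contra hgN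
        have hmap : Q' ≤ N := hQT.le.trans hTN
        have hsub : (Q : Subgroup (MulAction.stabilizer G α)) ≤ N.subgroupOf _ := fun q hq =>
          hmap ⟨q, hq, rfl⟩
        have hdvd := (Subgroup.index_dvd_of_le hsub)
        have h2 : (N.subgroupOf (MulAction.stabilizer G α)).index = 2 := by
          have hd := Subgroup.relIndex_dvd_index_of_normal N (MulAction.stabilizer G α)
          rw [hNi] at hd
          rcases (Nat.dvd_prime Nat.prime_two).mp hd with h | h
          · exact absurd (Subgroup.relIndex_eq_one.mp h hg) hgN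
          · exact h
        rw [h2] at hdvd
        exact Q.not_dvd_index hdvd
      -- the orbit of `N` has half the points
      have hnA : 2 * Nat.card (MulAction.orbit N α) = Nat.card Ω := by
        rw [Nat.card_coe_set_eq, ← MulAction.index_stabilizer]
        have hst : MulAction.stabilizer N α = (MulAction.stabilizer G α).subgroupOf N := by
          ext x
          simp [Subgroup.mem_subgroupOf, Subgroup.smul_def]
        rw [hst, mul_comm, ← hNi, show ((MulAction.stabilizer G α).subgroupOf N).index * N.index
          = (MulAction.stabilizer G α).index from Subgroup.relIndex_mul_index hαN]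
        exact MulAction.index_stabilizer_of_transitive G α
      have hn : Nat.card Ω = R.card + 2 := by
        rw [Nat.card_eq_fintype_card, ← Finset.card_univ, ← Finset.card_pair hαβ,
          ← Finset.card_union_of_disjoint]
        · congr 1
          ext ω
          simp only [hR, Finset.mem_univ, Finset.mem_union, Finset.mem_filter, Finset.mem_insert,
            Finset.mem_singleton, true_and, true_iff]
          tauto
        · rw [Finset.disjoint_left]
          intro ω hω
          simp only [hR, Finset.mem_filter] at hω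
          simp only [Finset.mem_insert, Finset.mem_singleton]
          tauto
      have h4R : 4 ∣ R.card := by
        refine (?_ : 4 ∣ Nat.card P).trans hRdvd
        obtain ⟨a, ha⟩ := hP.exists_card_eq
        rw [ha] at hP4 ⊢
        exact pow_dvd_pow 2 (show 2 ≤ a from by
          by_contra h
          interval_cases a <;> simp at hP4)
      have hAodd : ¬ 2 ∣ Nat.card (MulAction.orbit N α) := by omega
      refine ⟨?_, ?_, ?_⟩
      · intro h
        have hmem : (⟨t₀, hTN ht₀⟩ : N) ∈ (MulAction.stabilizer G α).subgroupOf N := by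
          rw [Subgroup.mem_subgroupOf]
          exact hTfix t₀ ht₀
        rw [h, Subgroup.mem_bot] at hmem
        exact ht₀1 (congrArg Subtype.val hmem)
      · intro h
        have hA1 : MulAction.orbit N α = {α} := by
          refine Set.eq_singleton_iff_unique_mem.mpr ⟨MulAction.mem_orbit_self _, ?_⟩
          rintro x ⟨g, rfl⟩
          exact Subgroup.mem_subgroupOf.mp (h.ge (Subgroup.mem_top g))
        rw [hA1, Nat.card_unique] at hnA
        refine ht₀1 (smul_left_injective' (α := Ω) ?_)
        funext ω
        show t₀ • ω = (1 : G) • ω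
        rw [one_smul]
        have hR0 : R = ∅ := Finset.card_eq_zero.mp (by omega)
        by_cases h1 : ω = α
        · rw [h1]; exact hTfix t₀ ht₀
        by_cases h2 : ω = β
        · rw [h2]; exact hTβ t₀ ht₀
        exact absurd (show ω ∈ R by simp [hR, h1, h2]) (by simp [hR0])
      · intro g hg
        rw [Subgroup.eq_bot_iff_forall]
        intro x hx
        by_contra hx1
        rw [Subgroup.mem_inf, Subgroup.mem_pointwise_smul_iff_inv_smul_mem, ← map_inv,
          MulAut.smul_def, MulAut.conj_apply, inv_inv] at hx
        have hb : (g : G) • α ≠ α := fun e => hg (Subgroup.mem_subgroupOf.mpr e)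
        have hxα : (x : G) • α = α := hx.1
        have hxb : (x : G) • ((g : G) • α) = (g : G) • α := by
          have h2 : ((g⁻¹ * x * g : N) : G) • α = α := hx.2
          rw [Subgroup.coe_mul, Subgroup.coe_mul, Subgroup.coe_inv, mul_smul, mul_smul,
            inv_smul_eq_iff] at h2
          exact h2
        obtain ⟨r, hr, hrd⟩ := Nat.exists_prime_and_dvd (fun h => hx1 (orderOf_eq_one_iff.mp h))
        haveI := Fact.mk hr
        set y : N := x ^ (orderOf x / r) with hy
        have hyo : orderOf y = r := orderOf_pow_orderOf_div (orderOf_pos x).ne' hrd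
        have hypα : (y : G) • α = α := by
          rw [hy, Subgroup.coe_pow]
          exact MulAction.mem_stabilizer_iff.mp
            ((MulAction.stabilizer G α).pow_mem (MulAction.mem_stabilizer_iff.mpr hxα) _)
        have hypb : (y : G) • ((g : G) • α) = (g : G) • α := by
          rw [hy, Subgroup.coe_pow]
          exact MulAction.mem_stabilizer_iff.mp
            ((MulAction.stabilizer G _).pow_mem (MulAction.mem_stabilizer_iff.mpr hxb) _)
        have hy1 : (y : G) ≠ 1 := fun h => by
          rw [show y = 1 from Subtype.ext h, orderOf_one] at hyo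
          exact hr.one_lt.ne hyo
        have hpr : IsPGroup r (Subgroup.zpowers y) :=
          IsPGroup.of_card (n := 1) (by rw [Nat.card_zpowers, hyo, pow_one])
        -- fixed points on `Ω`
        have hfixΩ : MulAction.fixedPoints (Subgroup.zpowers y) Ω = {α, (g : G) • α} := by
          ext ω
          constructor
          · intro h
            have h1 : (y : G) • ω = ω := h ⟨y, Subgroup.mem_zpowers y⟩
            by_contra hcon
            simp only [Set.mem_insert_iff, Set.mem_singleton_iff, not_or] at hcon
            exact hy1 (three hfix hypα hypb h1 hb.symm (Ne.symm hcon.1) (Ne.symm hcon.2))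
          · intro h z
            have hz : Subgroup.zpowers y ≤ MulAction.stabilizer N ω := by
              rw [Subgroup.zpowers_le]
              rcases h with rfl | rfl
              · exact hypα
              · exact hypb
            exact hz z.2
        have hfixA : MulAction.fixedPoints (Subgroup.zpowers y) (MulAction.orbit N α) =
            {⟨α, MulAction.mem_orbit_self _⟩, ⟨(g : G) • α, ⟨g, rfl⟩⟩} := by
          ext ω
          have : ω ∈ MulAction.fixedPoints (Subgroup.zpowers y) (MulAction.orbit N α) ↔
              (ω : Ω) ∈ MulAction.fixedPoints (Subgroup.zpowers y) Ω :=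
            ⟨fun h z => congrArg Subtype.val (h z), fun h z => Subtype.ext (h z)⟩
          rw [this, hfixΩ]
          simp [Subtype.ext_iff]
        have m1 := hpr.card_modEq_card_fixedPoints Ω
        have m2 := hpr.card_modEq_card_fixedPoints (MulAction.orbit N α)
        rw [hfixΩ, Nat.card_coe_set_eq {α, (g : G) • α}, Set.ncard_pair hb.symm, ← hnA] at m1
        rw [hfixA, Nat.card_coe_set_eq {(⟨α, MulAction.mem_orbit_self _⟩ : MulAction.orbit N α),
          ⟨(g : G) • α, ⟨g, rfl⟩⟩}, Set.ncard_pair (fun h => hb (congrArg Subtype.val h).symm)] at m2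
        have m3 : 2 * 2 ≡ 2 [MOD r] := (m2.symm.mul_left 2).trans m1
        have hr2 : r ∣ 2 := (Nat.modEq_iff_dvd' (show 2 ≤ 4 by norm_num)).mp m3.symm
        have hre : r = 2 := (Nat.prime_dvd_prime_iff_eq hr Nat.prime_two).mp hr2
        subst hre
        exact hAodd (Nat.modEq_zero_iff_dvd.mp (m2.trans (Nat.modEq_zero_iff_dvd.mpr dvd_rfl)))
  · -- `k ≥ 4`
    left
    obtain ⟨a, ha⟩ := (show ∃ a, T.relIndex P = 2 ^ a from by
      obtain ⟨m, hm⟩ := hP.exists_card_eq
      obtain ⟨a, -, h⟩ := (Nat.dvd_prime_pow Nat.prime_two).mp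
        (hm ▸ hmulT ▸ Nat.dvd_mul_left (T.relIndex P) (Nat.card T))
      exact ⟨a, h⟩)
    have hk4 : 4 ≤ T.relIndex P := by
      rcases a with _ | _ | a
      · exact absurd ha hk1
      · exact absurd ha hk
      · rw [ha, pow_succ, pow_succ]
        have := Nat.two_pow_pos a
        omega
    obtain ⟨b, hbT⟩ := (hP.to_le hTle).exists_card_eq
    have hb1 : b ≠ 0 := by
      rintro rfl
      exact hT1 (T.eq_bot_of_card_eq (by rw [hbT, pow_zero]))
    by_cases hT2 : Nat.card T = 2
    · refine ⟨?_, Or.inl hT2⟩
      have ht₀2 : t₀ * t₀ = 1 := by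
        have := pow_card_eq_one' (x := (⟨t₀, ht₀⟩ : T))
        rw [hT2, pow_two] at this
        exact congrArg Subtype.val this
      refine small_case P hP t₀ (hTle ht₀) ht₀1 ht₀2 (by rw [← hmulT, hT2]; omega) ?_
      refine (card_cent hfix ht₀1 (hTfix t₀ ht₀) (P ⊓ Subgroup.centralizer ({t₀} : Set G)) fun c hc =>
        Subgroup.mem_centralizer_singleton_iff.mp hc.2).trans ?_
      have : Nat.card ↥(P ⊓ Subgroup.centralizer ({t₀} : Set G) ⊓ MulAction.stabilizer G α) ≤ 2 := by
        rw [← hT2]
        exact Subgroup.card_le_of_le fun x hx => ⟨hx.1.1, hx.2⟩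
      omega
    exfalso
    have hT4 : 4 ≤ Nat.card T := by
      rcases b with _ | _ | b
      · exact absurd rfl hb1
      · exact absurd hbT hT2
      · rw [hbT, pow_succ, pow_succ]
        have := Nat.two_pow_pos b
        omega
    set R : Subgroup G := P ⊓ Subgroup.normalizer (T : Set G) with hRdef
    have hTR : T < R := by
      haveI : Group.IsNilpotent P := hP.isNilpotent
      have hlt : T.subgroupOf P < Subgroup.normalizer ((T.subgroupOf P : Subgroup P) : Set P) :=
        Group.normalizerCondition_of_isNilpotent _ (lt_top_iff_ne_top.mpr fun h =>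
          hTlt.not_ge (Subgroup.subgroupOf_eq_top.mp h))
      rw [← Subgroup.subgroupOf_normalizer_eq hTle] at hlt
      obtain ⟨x, hx, hxT⟩ := SetLike.exists_of_lt hlt
      refine lt_of_le_not_ge (le_inf hTle Subgroup.le_normalizer) fun hle => ?_
      exact hxT (hle ⟨x.2, hx⟩)
    -- the orbit of `R` has two points
    have hRfix : ∀ r ∈ R, ∀ t ∈ T, t • (r • α) = r • α := by
      intro r hr t ht
      have h : r⁻¹ * t * r ∈ T :=
        (Subgroup.mem_normalizer_iff.mp (inv_mem hr.2) t).mp ht |> fun h => by simpa using h
      calc t • (r • α) = r • ((r⁻¹ * t * r) • α) := by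
            rw [smul_smul, smul_smul]; congr 1; group
        _ = r • α := by rw [hTfix _ h]
    obtain ⟨r₀, hr₀, hr₀T⟩ := SetLike.exists_of_lt hTR
    set β : Ω := r₀ • α with hβ
    have hαβ : α ≠ β := fun e => hr₀T ⟨hr₀.1, e.symm⟩
    have horbR : ∀ r ∈ R, r • α = α ∨ r • α = β := by
      intro r hr
      by_contra hcon
      push Not at hcon
      exact ht₀1 (three hfix (hTfix t₀ ht₀) (hRfix r₀ hr₀ t₀ ht₀) (hRfix r hr t₀ ht₀) hαβ
        hcon.1.symm hcon.2.symm)
    have hstR : ∀ x : R, x ∈ MulAction.stabilizer R α ↔ x ∈ T.subgroupOf R := fun x => by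
      have hxP : (x : G) ∈ P := (show (x : G) ∈ R from x.2).1
      rw [Subgroup.mem_subgroupOf, hTdef, Subgroup.mem_inf]
      simp [Subgroup.smul_def, hxP]
    have hRi : T.relIndex R ≤ 2 := by
      show (T.subgroupOf R).index ≤ 2
      rw [← SetLike.ext hstR, MulAction.index_stabilizer]
      calc (MulAction.orbit R α).ncard ≤ ({α, β} : Set Ω).ncard := by
            refine Set.ncard_le_ncard ?_ (Set.toFinite _)
            rintro x ⟨r, rfl⟩
            rcases horbR r r.2 with h | h
            · exact Or.inl h
            · exact Or.inr h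
        _ = 2 := Set.ncard_pair hαβ
    have hRP : R < P := by
      refine lt_of_le_of_ne inf_le_left fun e => ?_
      rw [e] at hRi
      omega
    obtain ⟨g, hgP, hgN, hgR⟩ : ∃ g ∈ P, g ∈ Subgroup.normalizer (R : Set G) ∧ g ∉ R := by
      haveI : Group.IsNilpotent P := hP.isNilpotent
      have hlt : R.subgroupOf P < Subgroup.normalizer ((R.subgroupOf P : Subgroup P) : Set P) :=
        Group.normalizerCondition_of_isNilpotent _ (lt_top_iff_ne_top.mpr fun h =>
          hRP.not_ge (Subgroup.subgroupOf_eq_top.mp h))
      rw [← Subgroup.subgroupOf_normalizer_eq hRP.le] at hlt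
      obtain ⟨x, hx, hxT⟩ := SetLike.exists_of_lt hlt
      exact ⟨x, x.2, hx, hxT⟩
    set T' : Subgroup G := T.map (MulAut.conj g).toMonoidHom with hT'
    have hT'R : T' ≤ R := by
      rintro _ ⟨t, ht, rfl⟩
      exact (Subgroup.mem_normalizer_iff.mp hgN t).mp (hTR.le ht)
    set W : Subgroup G := T' ⊓ T with hW
    have hWi : T.relIndex T' ≤ 2 := by
      refine le_trans ?_ hRi
      rw [← Subgroup.inf_relIndex_right T R, ← Subgroup.inf_relIndex_right T T']
      rw [Subgroup.inf_relIndex_right, Subgroup.inf_relIndex_right]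
      exact Subgroup.relIndex_le_of_le_right hT'R (by
        show (T.subgroupOf R).index ≠ 0
        exact Subgroup.index_ne_zero_of_finite)
    have hW1 : W ≠ ⊥ := by
      intro h
      have hh : Nat.card W * T.relIndex T' = Nat.card T' := by
        rw [← Nat.card_congr (Subgroup.subgroupOfEquivOfLe (show W ≤ T' from inf_le_left)).toEquiv]
        show Nat.card (W.subgroupOf T') * _ = _
        rw [hW, Subgroup.inf_subgroupOf_left]
        exact (T.subgroupOf T').card_mul_index
      have hTT : Nat.card T' = Nat.card T :=
        Subgroup.card_map_of_injective (MulAut.conj g).injective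
      rw [h, Subgroup.card_bot, hTT] at hh
      omega
    obtain ⟨w, hw, hw1⟩ := W.bot_or_exists_ne_one.resolve_left hW1
    obtain ⟨t, ht, htw⟩ := hw.1
    have hwγ : w • (g • α) = g • α := by
      rw [← htw]
      show (g * t * g⁻¹) • (g • α) = g • α
      rw [mul_smul, inv_smul_smul, mul_smul, hTfix t ht]
    refine hw1 (three hfix (hTfix w hw.2) (hRfix r₀ hr₀ w hw.2) hwγ hαβ ?_ ?_)
    · exact fun e => hgR (hTR.le ⟨hgP, e.symm⟩)
    · intro e
      refine hgR ?_
      have hm : r₀⁻¹ * g ∈ T := by
        refine ⟨P.mul_mem (P.inv_mem hr₀.1) hgP, ?_⟩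
        show (r₀⁻¹ * g) • α = α
        rw [mul_smul, inv_smul_eq_iff]
        exact e.symm
      have := R.mul_mem hr₀ (hTR.le hm)
      rwa [mul_inv_cancel_left] at this

end Cfsg.Agent.S3390
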