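import Cfsg.Statements.S3391
import Cfsg.Agent.Lib.Suzuki.Fixity
-- import your own Cfsg.Agent.* helpers here

set_option autoImplicit false
open Cfsg

namespace Cfsg.Agent.S3391

open CfsgLib.Suzuki

/-- Let q = 2^{2m+1} ≥ 8 and let G be isomorphic to the Suzuki group Sz(q). If G acts faithfully and transitively on a finite set Ω with fixity 2 (every non-identity element fixes at most two points, and some fixes exactly two), then either |Ω| = q² + 1 and the action is 2-transitive, or |Ω| = q²(q² + 1) and the point stabilizers have order q − 1. -/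
theorem result {G : Type*} [Group G] [Finite G] (F : Type) [Field F] [Fintype F] (m : ℕ) (hm : 1 ≤ m) (hF : Fintype.card F = 2 ^ (2 * m + 1))
    (e : G ≃* ↥(Cfsg.Lie.Sz F (2 ^ (m + 1)))) {Ω : Type*} [Fintype Ω] [MulAction G Ω] [FaithfulSMul G Ω] (htr : MulAction.IsPretransitive G Ω)
    (hfix : ∀ g : G, g ≠ 1 → Nat.card (MulAction.fixedBy Ω g) ≤ 2) (hex : ∃ g : G, g ≠ 1 ∧ Nat.card (MulAction.fixedBy Ω g) = 2) :
    (Fintype.card Ω = Fintype.card F ^ 2 + 1 ∧ MulAction.IsMultiplyPretransitive G Ω 2) ∨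
    (Fintype.card Ω = Fintype.card F ^ 2 * (Fintype.card F ^ 2 + 1) ∧ ∀ α : Ω, Nat.card (MulAction.stabilizer G α) = Fintype.card F - 1) := by
  haveI := charP_two_of_card hF
  haveI : Param F m := ⟨hm, hF⟩
  let φ : Gp F m ≃* G := (lieEquiv F m).trans e.symm
  let _ : MulAction (Gp F m) Ω := MulAction.compHom Ω φ.toMonoidHom
  have hsmul : ∀ (k : Gp F m) (x : Ω), k • x = φ k • x := fun _ _ => rfl
  haveI : FaithfulSMul (Gp F m) Ω := ⟨fun {k k'} h => φ.injective (eq_of_smul_eq_smul (α := Ω) fun x => h x)⟩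
  haveI : MulAction.IsPretransitive (Gp F m) Ω := ⟨fun x y => by
    obtain ⟨g, hg⟩ := htr.exists_smul_eq x y
    exact ⟨φ.symm g, by rw [hsmul, φ.apply_symm_apply, hg]⟩⟩
  obtain ⟨g, hg1, hg2⟩ := hex
  obtain ⟨⟨a, ha⟩⟩ : Nonempty (MulAction.fixedBy Ω g) :=
    (Nat.card_pos_iff.1 (by omega)).1
  have hfix' : ∀ k : Gp F m, k ≠ 1 → Nat.card (MulAction.fixedBy Ω k) ≤ 2 := fun k hk =>
    hfix (φ k) fun h => hk (φ.injective (h.trans (map_one φ).symm))
  rcases fixity_two hfix' (g := φ.symm g) (a := a)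
      (fun h => hg1 (φ.symm.injective (h.trans (map_one φ.symm).symm)))
      (by rw [hsmul, φ.apply_symm_apply]; exact ha) with ⟨h1, h2⟩ | ⟨h1, h2⟩
  · left
    refine ⟨by rw [← Nat.card_eq_fintype_card]; exact h1, ?_⟩
    rw [MulAction.is_two_pretransitive_iff] at h2 ⊢
    intro x y x' y' hxy hxy'
    obtain ⟨k, hk1, hk2⟩ := h2 hxy hxy'
    exact ⟨φ k, hk1, hk2⟩
  · refine Or.inr ⟨by rw [← Nat.card_eq_fintype_card]; exact h1, fun b => ?_⟩
    rw [← h2 b]
    exact (Nat.card_congr (φ.toEquiv.subtypeEquiv fun k => Iff.rfl)).symm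

end Cfsg.Agent.S3391
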