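import Mathlib
import Cfsg.Statements.S3401

/-!
S3401: the socle of a doubly transitive group of degree `n ≡ 2 (mod 4)`, `n > 2`, is simple and
doubly transitive.

If `M` is a nontrivial normal subgroup, `M` is transitive and each pair of points is swapped by
an element of `M`. Let `S` be a Sylow 2-subgroup of `M_a` and `Φ` its fixed points. All orbits of
`M_a` off `a` have the same odd size, so each one meets `Φ`. Each pair in `Φ` is swapped by an
element of `N(S)`, and `N(S)/S` has Sylow 2-subgroups of order at most 2, so that the sign of its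
regular action is `-1` on these swaps and `1` on elements fixing a point of `Φ`: hence `|Φ| ≤ 2`,
and `M_a` is transitive on the remaining points.
-/

set_option autoImplicit false
open Cfsg

namespace Cfsg.Agent.S3401

section Aux

variable {M Ω : Type*} [Group M] [Finite M] [MulAction M Ω] [Finite Ω]

theorem pow_index_mem_of_normal {A : Type*} [Group A] (S : Subgroup A) [S.Normal] (x : A) :
    x ^ S.index ∈ S := by
  rw [← QuotientGroup.eq_one_iff, QuotientGroup.mk_pow, Subgroup.index_eq_card]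
  exact pow_card_eq_one'

theorem neg_one_pow_of_odd {k : ℕ} (hk : Odd k) : (-1 : ℤˣ) ^ k = -1 := hk.neg_one_pow

theorem units_int_eq_one_of_odd_pow {u : ℤˣ} {k : ℕ} (hk : Odd k) (h : u ^ k = 1) : u = 1 := by
  rcases Int.units_eq_one_or u with h1 | h1
  · exact h1
  · rw [h1, hk.neg_one_pow] at h
    exact absurd h (by decide)

open scoped Classical in
theorem sign_toPerm_of_even_order {Q : Type*} [Group Q] [Fintype Q]
    (h4 : ¬ 4 ∣ Fintype.card Q) (q : Q) (he : 2 ∣ orderOf q) :
    Equiv.Perm.sign (MulAction.toPerm q : Equiv.Perm Q) = -1 := by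
  obtain ⟨m, hm⟩ := he
  have hm0 : 0 < m := by
    rcases Nat.eq_zero_or_pos m with h | h
    · rw [h, mul_zero] at hm
      exact absurd hm (orderOf_pos q).ne'
    · exact h
  have hmodd : Odd m := by
    by_contra hc
    obtain ⟨t, ht⟩ := Nat.not_odd_iff_even.1 hc
    exact h4 (dvd_trans ⟨t, by omega⟩ (orderOf_dvd_card (x := q)))
  have hr2 : (q ^ m) ^ 2 = 1 := by
    rw [← pow_mul, mul_comm, ← hm]
    exact pow_orderOf_eq_one q
  have hr1 : q ^ m ≠ 1 := pow_ne_one_of_lt_orderOf hm0.ne' (by omega)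
  have hcard2 : 2 ∣ Fintype.card Q := dvd_trans ⟨m, hm⟩ (orderOf_dvd_card (x := q))
  have hfix : Fintype.card (Function.fixedPoints (MulAction.toPerm (q ^ m) : Equiv.Perm Q)) = 0 := by
    rw [Fintype.card_eq_zero_iff]
    refine ⟨fun z => ?_⟩
    have := z.2
    simp only [Function.mem_fixedPoints, Function.IsFixedPt, MulAction.toPerm_apply,
      smul_eq_mul, mul_eq_right] at this
    exact hr1 this
  have hsq : (MulAction.toPerm (q ^ m) : Equiv.Perm Q) ^ 2 = 1 := by
    rw [sq]
    ext z
    simp only [Equiv.Perm.mul_apply, MulAction.toPerm_apply, smul_eq_mul, Equiv.Perm.one_apply]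
    rw [← mul_assoc, ← sq, hr2, one_mul]
  have hsign := Equiv.Perm.sign_of_pow_two_eq_one hsq
  have hodd2 : Odd (Fintype.card Q / 2) := by
    rw [Nat.odd_iff]
    omega
  rw [hfix, Nat.sub_zero, hodd2.neg_one_pow] at hsign
  let τ : Q →* ℤˣ := Equiv.Perm.sign.comp (MulAction.toPermHom Q Q)
  have h1 : τ (q ^ m) = -1 := hsign
  show τ q = -1
  rcases Int.units_eq_one_or (τ q) with h | h
  · rw [map_pow, h, one_pow] at h1
    exact absurd h1 (by decide)
  · exact h

/-- The combinatorial core. -/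
theorem two_trans_aux (hn : Nat.card Ω % 4 = 2) (htr : ∀ x y : Ω, ∃ g : M, g • x = y)
    (hl : ∀ a x : Ω, x ≠ a → Odd (Nat.card (MulAction.orbit (MulAction.stabilizer M a) x)))
    (hswap : ∀ u v : Ω, u ≠ v → ∃ t : M, t • u = v ∧ t • v = u) :
    MulAction.IsMultiplyPretransitive M Ω 2 := by
  classical
  suffices key : ∀ a x y : Ω, x ≠ a → y ≠ a → ∃ g : M, g • a = a ∧ g • x = y by
    rw [MulAction.is_two_pretransitive_iff]
    intro a b c d hab hcd
    obtain ⟨g, hg⟩ := htr a c
    have hgb : g • b ≠ c := by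
      rw [← hg]
      intro h
      exact hab (MulAction.injective g h).symm
    obtain ⟨h, h1, h2⟩ := key c (g • b) d hgb hcd.symm
    exact ⟨h * g, by rw [mul_smul, hg, h1], by rw [mul_smul, h2]⟩
  intro a x y hxa hya
  haveI : Fact (Nat.Prime 2) := ⟨Nat.prime_two⟩
  obtain ⟨P⟩ := (inferInstance : Nonempty (Sylow 2 (MulAction.stabilizer M a)))
  set S : Subgroup M := (P : Subgroup (MulAction.stabilizer M a)).map
    (MulAction.stabilizer M a).subtype with hSdef
  have hSle : S ≤ MulAction.stabilizer M a := Subgroup.map_subtype_le _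
  have hScard : Nat.card S = 2 ^ (Nat.card (MulAction.stabilizer M a)).factorization 2 := by
    rw [hSdef, Subgroup.card_map_of_injective Subtype.val_injective]
    exact P.card_eq_multiplicity
  set k := (Nat.card (MulAction.stabilizer M a)).factorization 2 with hk
  -- the stabilisers all have the order of the one of `a`, and index `n`
  have hidx : ∀ u : Ω, Nat.card (MulAction.stabilizer M u) * Nat.card Ω = Nat.card M := by
    intro u
    haveI : MulAction.IsPretransitive M Ω := ⟨htr⟩
    rw [← MulAction.index_stabilizer_of_transitive M u, Subgroup.card_mul_index]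
  have hΩpos : 0 < Nat.card Ω := by omega
  have hstab : ∀ u : Ω,
      Nat.card (MulAction.stabilizer M u) = Nat.card (MulAction.stabilizer M a) := fun u =>
    Nat.eq_of_mul_eq_mul_right hΩpos ((hidx u).trans (hidx a).symm)
  -- fixed points of `S`
  let Fx : Ω → Prop := fun u => ∀ s ∈ S, s • u = u
  have hFxa : Fx a := fun s hs => hSle hs
  have hmeet : ∀ z : Ω, z ≠ a → ∃ h : M, h • a = a ∧ Fx (h • z) := by
    intro z hz
    have hnd : ¬ 2 ∣ Nat.card (MulAction.orbit (MulAction.stabilizer M a) z) := by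
      have h := hl a z hz
      rw [Nat.odd_iff] at h
      omega
    obtain ⟨⟨w, hw⟩, hwfix⟩ := P.2.nonempty_fixed_point_of_prime_not_dvd_card
      (MulAction.orbit (MulAction.stabilizer M a) z) hnd
    obtain ⟨⟨h, hh⟩, rfl⟩ := hw
    refine ⟨h, hh, ?_⟩
    rintro s hs
    obtain ⟨s', hs', rfl⟩ := Subgroup.mem_map.1 hs
    have := congrArg Subtype.val (hwfix ⟨s', hs'⟩)
    exact this
  -- swaps inside the normaliser of `S`
  have hswapN : ∀ u v : Ω, Fx u → Fx v → u ≠ v →
      ∃ g ∈ Subgroup.normalizer (S : Set M), g • u = v ∧ g • v = u := by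
    intro u v hu hv huv
    obtain ⟨t, htu, htv⟩ := hswap u v huv
    set W : Subgroup M := MulAction.stabilizer M u ⊓ MulAction.stabilizer M v with hW
    set S' : Subgroup M := S.map (MulAut.conj t).toMonoidHom with hS'
    have hSW : S ≤ W := fun s hs => ⟨hu s hs, hv s hs⟩
    have hS'W : S' ≤ W := by
      rintro s' hs'
      obtain ⟨s, hs, rfl⟩ := Subgroup.mem_map.1 hs'
      have e : ∀ z : Ω, (MulAut.conj t).toMonoidHom s • z = t • (s • (t⁻¹ • z)) := by
        intro z
        simp [MulAut.conj_apply, mul_smul]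
      constructor
      · show (MulAut.conj t).toMonoidHom s • u = u
        rw [e, show t⁻¹ • u = v from inv_smul_eq_iff.2 htv.symm, hv s hs, htv]
      · show (MulAut.conj t).toMonoidHom s • v = v
        rw [e, show t⁻¹ • v = u from inv_smul_eq_iff.2 htu.symm, hu s hs, htu]
    have hWk : (Nat.card W).factorization 2 = k := by
      apply le_antisymm
      · rw [hk, ← hstab u]
        exact (Nat.factorization_le_iff_dvd Nat.card_pos.ne' Nat.card_pos.ne').2
          (Subgroup.card_dvd_of_le inf_le_left) 2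
      · refine (Nat.prime_two.pow_dvd_iff_le_factorization Nat.card_pos.ne').1 ?_
        rw [← hScard]
        exact Subgroup.card_dvd_of_le hSW
    have c1 : Nat.card (S.subgroupOf W) = 2 ^ (Nat.card W).factorization 2 := by
      rw [Nat.card_congr (Subgroup.subgroupOfEquivOfLe hSW).toEquiv, hScard, hWk]
    have c2 : Nat.card (S'.subgroupOf W) = 2 ^ (Nat.card W).factorization 2 := by
      rw [Nat.card_congr (Subgroup.subgroupOfEquivOfLe hS'W).toEquiv, hS',
        Subgroup.card_map_of_injective (MulAut.conj t).injective, hScard, hWk]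
    obtain ⟨w, hw⟩ := MulAction.exists_smul_eq W
      (Sylow.ofCard (S'.subgroupOf W) c2) (Sylow.ofCard (S.subgroupOf W) c1)
    have hsub : (S'.subgroupOf W).map (MulAut.conj w).toMonoidHom = S.subgroupOf W := by
      have h := congrArg (fun R : Sylow 2 W => (R : Subgroup W)) hw
      simp only [Sylow.coe_subgroup_smul] at h
      exact h
    refine ⟨(w : M) * t, ?_, ?_, ?_⟩
    · refine (Subgroup.mem_normalizer_iff_conj_image_eq).2 ?_
      apply Set.eq_of_subset_of_ncard_le
      · rintro _ ⟨s, hs, rfl⟩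
        have hts : t * s * t⁻¹ ∈ S' := ⟨s, hs, rfl⟩
        have h1 : (MulAut.conj w).toMonoidHom (⟨t * s * t⁻¹, hS'W hts⟩ : W) ∈ S.subgroupOf W := by
          rw [← hsub]
          exact Subgroup.mem_map_of_mem _ hts
        have h2 : (w : M) * (t * s * t⁻¹) * (w : M)⁻¹ ∈ S := h1
        simpa [mul_assoc, mul_inv_rev] using h2
      · rw [Set.ncard_image_of_injective _ (MulAut.conj _).injective]
      · exact Set.toFinite _
    · rw [mul_smul, htu]
      exact w.2.2
    · rw [mul_smul, htv]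
      exact w.2.1
  -- the sign character on the normaliser
  set N : Subgroup M := Subgroup.normalizer (S : Set M) with hN
  haveI hnorm : (S.subgroupOf N).Normal := Subgroup.normal_in_normalizer
  haveI : Fintype (N ⧸ S.subgroupOf N) := Fintype.ofFinite _
  let χ : N →* ℤˣ := (Equiv.Perm.sign.comp
    (MulAction.toPermHom (N ⧸ S.subgroupOf N) (N ⧸ S.subgroupOf N))).comp
      (QuotientGroup.mk' (S.subgroupOf N))
  have hSN : S ≤ N := Subgroup.le_normalizer
  have hQ4 : ¬ 4 ∣ Fintype.card (N ⧸ S.subgroupOf N) := by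
    intro h4
    rw [Fintype.card_eq_nat_card] at h4
    have h1 : Nat.card S * Nat.card (N ⧸ S.subgroupOf N) ∣ Nat.card M := by
      rw [← Nat.card_congr (Subgroup.subgroupOfEquivOfLe hSN).toEquiv, ← Subgroup.index_eq_card,
        Subgroup.card_mul_index]
      exact Subgroup.card_subgroup_dvd_card N
    have h2 : 2 ^ (k + 2) ∣ Nat.card M := by
      refine dvd_trans ?_ h1
      rw [hScard, pow_add]
      exact mul_dvd_mul_left _ h4
    rw [← hidx a] at h2
    have h3 := (Nat.prime_two.pow_dvd_iff_le_factorization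
      (Nat.mul_ne_zero Nat.card_pos.ne' hΩpos.ne')).1 h2
    rw [Nat.factorization_mul Nat.card_pos.ne' hΩpos.ne'] at h3
    simp only [Finsupp.coe_add, Pi.add_apply, ← hk] at h3
    have h5 : 2 ≤ (Nat.card Ω).factorization 2 := by omega
    have h6 := (Nat.prime_two.pow_dvd_iff_le_factorization hΩpos.ne').2 h5
    omega
  have hneg : ∀ g : N, ∀ u v : Ω, Fx u → u ≠ v → (g : M) • u = v → (g : M) • v = u →
      χ g = -1 := by
    intro g u v hu huv h1 h2
    suffices heven : 2 ∣ orderOf (QuotientGroup.mk' (S.subgroupOf N) g) by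
      have := sign_toPerm_of_even_order hQ4 _ heven
      simp only [χ, MonoidHom.comp_apply, MulAction.toPermHom_apply]
      convert this
    by_contra hodd
    obtain ⟨m, hm⟩ : Odd (orderOf (QuotientGroup.mk' (S.subgroupOf N) g)) := by
      rw [Nat.odd_iff]
      omega
    have hgm : g ^ (2 * m + 1) ∈ S.subgroupOf N := by
      rw [← QuotientGroup.eq_one_iff, ← hm, QuotientGroup.mk_pow]
      exact pow_orderOf_eq_one _
    have hev : ∀ j : ℕ, ((g : M) ^ (2 * j)) • u = u := by
      intro j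
      induction j with
      | zero => simp
      | succ j ih => rw [show 2 * (j + 1) = 2 * j + 1 + 1 by ring, pow_succ, pow_succ, mul_smul,
          mul_smul, h1, h2, ih]
    have h3 : ((g : M) ^ (2 * m + 1)) • u = v := by
      rw [pow_succ', mul_smul, hev, h1]
    have h4 : ((g : M) ^ (2 * m + 1)) • u = u := by
      have := hu _ (Subgroup.mem_subgroupOf.1 hgm)
      simpa using this
    exact huv (h4.symm.trans h3)
  have hone : ∀ g : N, ∀ u : Ω, Fx u → (g : M) • u = u → χ g = 1 := by
    intro g u hu hgu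
    set A : Subgroup M := N ⊓ MulAction.stabilizer M u with hA
    have hSA : S ≤ A := fun s hs => ⟨hSN hs, hu s hs⟩
    haveI : (S.subgroupOf A).Normal := (Subgroup.normal_subgroupOf_iff_le_normalizer hSA).2 inf_le_left
    have hodd : Odd (S.subgroupOf A).index := by
      rw [Nat.odd_iff]
      by_contra hc
      have h2 : 2 ∣ (S.subgroupOf A).index := by omega
      have h1 : 2 ^ (k + 1) ∣ Nat.card A := by
        rw [← Subgroup.card_mul_index (S.subgroupOf A),
          Nat.card_congr (Subgroup.subgroupOfEquivOfLe hSA).toEquiv, hScard, pow_succ]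
        exact mul_dvd_mul_left _ h2
      have h3 : 2 ^ (k + 1) ∣ Nat.card (MulAction.stabilizer M a) := by
        rw [← hstab u]
        exact h1.trans (Subgroup.card_dvd_of_le inf_le_right)
      have := (Nat.prime_two.pow_dvd_iff_le_factorization Nat.card_pos.ne').1 h3
      omega
    have hmem := pow_index_mem_of_normal (S.subgroupOf A) (⟨g, ⟨g.2, hgu⟩⟩ : A)
    refine units_int_eq_one_of_odd_pow hodd ?_
    rw [← map_pow]
    show (Equiv.Perm.sign.comp (MulAction.toPermHom _ _))
      (QuotientGroup.mk' (S.subgroupOf N) (g ^ (S.subgroupOf A).index)) = 1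
    rw [show QuotientGroup.mk' (S.subgroupOf N) (g ^ (S.subgroupOf A).index) = 1 from
      (QuotientGroup.eq_one_iff _).2 (by simpa [Subgroup.mem_subgroupOf] using hmem), map_one]
  obtain ⟨h1, h1a, h1x⟩ := hmeet x hxa
  obtain ⟨h2, h2a, h2y⟩ := hmeet y hya
  have hne1 : a ≠ h1 • x := by
    intro h
    exact hxa (MulAction.injective h1 (h.symm.trans h1a.symm))
  have hne2 : a ≠ h2 • y := by
    intro h
    exact hya (MulAction.injective h2 (h.symm.trans h2a.symm))
  by_cases heq : h1 • x = h2 • y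
  · refine ⟨h2⁻¹ * h1, ?_, ?_⟩
    · rw [mul_smul, h1a, inv_smul_eq_iff, h2a]
    · rw [mul_smul, heq, inv_smul_smul]
  exfalso
  obtain ⟨g1, g1N, g1a, g1b⟩ := hswapN a (h1 • x) hFxa h1x hne1
  obtain ⟨g2, g2N, g2a, g2b⟩ := hswapN a (h2 • y) hFxa h2y hne2
  obtain ⟨g3, g3N, g3a, g3b⟩ := hswapN (h1 • x) (h2 • y) h1x h2y heq
  have hp : χ (⟨g3, g3N⟩ * ⟨g1, g1N⟩ * ⟨g2, g2N⟩) = 1 := by
    refine hone _ (h2 • y) h2y ?_
    show (g3 * g1 * g2) • (h2 • y) = h2 • y
    rw [mul_smul, mul_smul, g2b, g1a, g3a]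
  rw [map_mul, map_mul, hneg ⟨g3, g3N⟩ _ _ h1x heq g3a g3b,
    hneg ⟨g1, g1N⟩ _ _ hFxa hne1 g1a g1b, hneg ⟨g2, g2N⟩ _ _ hFxa hne2 g2a g2b] at hp
  exact absurd hp (by decide)

end Aux

section Normal

variable {G Ω : Type*} [Group G] [Finite G] [MulAction G Ω] [FaithfulSMul G Ω] [Finite Ω]

theorem exists_ne_smul {g : G} (hg : g ≠ 1) : ∃ x : Ω, g • x ≠ x := by
  by_contra h
  push Not at h
  exact hg (eq_of_smul_eq_smul fun x : Ω => by rw [h x, one_smul])

theorem normal_transitive
    (h2 : ∀ a b c d : Ω, a ≠ b → c ≠ d → ∃ g : G, g • a = c ∧ g • b = d)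
    {M : Subgroup G} (hM : M.Normal) (hM1 : M ≠ ⊥) (x y : Ω) : ∃ m : M, m • x = y := by
  by_cases hxy : x = y
  · exact ⟨1, by rw [one_smul, hxy]⟩
  obtain ⟨m, hm, hm1⟩ := (Subgroup.bot_or_exists_ne_one M).resolve_left hM1
  obtain ⟨p, hp⟩ := exists_ne_smul (Ω := Ω) hm1
  obtain ⟨g, g1, g2⟩ := h2 p (m • p) x y (Ne.symm hp) hxy
  refine ⟨⟨g * m * g⁻¹, hM.conj_mem m hm g⟩, ?_⟩
  show (g * m * g⁻¹) • x = y
  rw [mul_smul, mul_smul, inv_smul_eq_iff.2 g1.symm, g2]

theorem exists_swap
    (h2 : ∀ a b c d : Ω, a ≠ b → c ≠ d → ∃ g : G, g • a = c ∧ g • b = d)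
    (hn : Nat.card Ω % 4 = 2) {M : Subgroup G} (hM : M.Normal) (hM1 : M ≠ ⊥)
    (u v : Ω) (huv : u ≠ v) : ∃ t : M, t • u = v ∧ t • v = u := by
  haveI : Fact (Nat.Prime 2) := ⟨Nat.prime_two⟩
  have hev : 2 ∣ Nat.card M := by
    haveI : MulAction.IsPretransitive M Ω := ⟨normal_transitive h2 hM hM1⟩
    rw [← Subgroup.card_mul_index (MulAction.stabilizer M u),
      MulAction.index_stabilizer_of_transitive]
    exact Dvd.dvd.mul_left (by omega) _
  obtain ⟨t, ht⟩ := exists_prime_orderOf_dvd_card' 2 hev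
  have ht1 : (t : G) ≠ 1 := by
    intro h
    have : t = 1 := Subtype.ext h
    rw [this, orderOf_one] at ht
    omega
  have ht2 : (t : G) * t = 1 := by
    have h := pow_orderOf_eq_one t
    rw [ht, sq] at h
    exact congrArg Subtype.val h
  obtain ⟨p, hp⟩ := exists_ne_smul (Ω := Ω) ht1
  obtain ⟨g, g1, g2⟩ := h2 p ((t : G) • p) u v (Ne.symm hp) huv
  refine ⟨⟨g * t * g⁻¹, hM.conj_mem _ t.2 g⟩, ?_, ?_⟩
  · show (g * t * g⁻¹) • u = v
    rw [mul_smul, mul_smul, inv_smul_eq_iff.2 g1.symm, g2]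
  · show (g * t * g⁻¹) • v = u
    rw [mul_smul, mul_smul, inv_smul_eq_iff.2 g2.symm, ← mul_smul (t : G), ht2, one_smul, g1]

theorem orbit_card_odd
    (h2 : ∀ a b c d : Ω, a ≠ b → c ≠ d → ∃ g : G, g • a = c ∧ g • b = d)
    (hn : Nat.card Ω % 4 = 2) {M : Subgroup G} (hM : M.Normal) (a x : Ω) (hx : x ≠ a) :
    Odd (Nat.card (MulAction.orbit (MulAction.stabilizer M a) x)) := by
  classical
  haveI : Fintype Ω := Fintype.ofFinite Ω
  let o : Ω → Set Ω := fun z => MulAction.orbit (MulAction.stabilizer M a) z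
  have heq : ∀ y : Ω, y ≠ a → (o y).ncard = (o x).ncard := by
    intro y hy
    obtain ⟨g, ga, gx⟩ := h2 a x a y hx.symm hy.symm
    have hin : ∀ g : G, g • a = a → ∀ z w : Ω, w ∈ o z → g • w ∈ o (g • z) := by
      rintro g ga z w ⟨⟨⟨m, hm⟩, hma⟩, rfl⟩
      refine ⟨⟨⟨g * m * g⁻¹, hM.conj_mem m hm g⟩, ?_⟩, ?_⟩
      · show (g * m * g⁻¹) • a = a
        have hma' : m • a = a := hma
        rw [mul_smul, mul_smul, inv_smul_eq_iff.2 ga.symm, hma', ga]
      · show (g * m * g⁻¹) • (g • z) = g • (m • z)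
        rw [mul_smul, mul_smul, inv_smul_smul]
    have himg : (fun w => g • w) '' o x = o y := by
      apply Set.Subset.antisymm
      · rintro _ ⟨w, hw, rfl⟩
        rw [← gx]
        exact hin g ga x w hw
      · intro w hw
        refine ⟨g⁻¹ • w, ?_, smul_inv_smul g w⟩
        have := hin g⁻¹ (inv_smul_eq_iff.2 ga.symm) y w hw
        rwa [inv_smul_eq_iff.2 gx.symm] at this
    rw [← himg, Set.ncard_image_of_injective _ (MulAction.injective g)]
  have hna : ∀ z : Ω, z ≠ a → a ∉ o z := by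
    rintro z hz ⟨⟨m, hm⟩, h⟩
    have h' : m • z = a := h
    have hm' : m • a = a := hm
    exact hz (MulAction.injective m (h'.trans hm'.symm))
  have hdvd : (o x).ncard ∣ ((Finset.univ : Finset Ω).erase a).card := by
    rw [Finset.card_eq_sum_card_image o ((Finset.univ : Finset Ω).erase a)]
    refine Finset.dvd_sum ?_
    intro O hO
    obtain ⟨z, hz, rfl⟩ := Finset.mem_image.1 hO
    have hza : z ≠ a := (Finset.mem_erase.1 hz).1
    have : ((((Finset.univ : Finset Ω).erase a).filter fun w => o w = o z) : Set Ω) = o z := by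
      ext w
      simp only [Finset.coe_filter, Set.mem_ofPred_eq, Finset.mem_erase, Finset.mem_univ, and_true]
      constructor
      · rintro ⟨-, h⟩
        rw [← h]
        exact MulAction.mem_orbit_self w
      · intro hw
        exact ⟨fun h => hna z hza (h ▸ hw), MulAction.orbit_eq_iff.2 hw⟩
    rw [← Set.ncard_coe_finset, this, heq z hza]
  rw [Finset.card_erase_of_mem (Finset.mem_univ a), Finset.card_univ,
    Fintype.card_eq_nat_card] at hdvd
  have hodd : Odd (Nat.card Ω - 1) := by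
    rw [Nat.odd_iff]
    omega
  exact hodd.of_dvd_nat hdvd

theorem normal_two_transitive
    (h2 : ∀ a b c d : Ω, a ≠ b → c ≠ d → ∃ g : G, g • a = c ∧ g • b = d)
    (hn : Nat.card Ω % 4 = 2) {M : Subgroup G} (hM : M.Normal) (hM1 : M ≠ ⊥) :
    MulAction.IsMultiplyPretransitive M Ω 2 :=
  two_trans_aux hn (normal_transitive h2 hM hM1) (orbit_card_odd h2 hn hM)
    (exists_swap h2 hn hM hM1)

/-- There is a least nontrivial normal subgroup, with trivial centralizer. -/
theorem exists_least_normal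
    (h2 : ∀ a b c d : Ω, a ≠ b → c ≠ d → ∃ g : G, g • a = c ∧ g • b = d)
    (hn : Nat.card Ω % 4 = 2) (hn2 : 2 < Nat.card Ω) :
    ∃ M : Subgroup G, M.Normal ∧ M ≠ ⊥ ∧ (∀ N : Subgroup G, N.Normal → N ≠ ⊥ → M ≤ N) ∧
      Subgroup.centralizer (M : Set G) = ⊥ := by
  classical
  obtain ⟨a, b, hab⟩ : ∃ a b : Ω, a ≠ b := by
    haveI : Nontrivial Ω := Finite.one_lt_card_iff_nontrivial.1 (by omega)
    exact exists_pair_ne Ω
  have htop : (⊤ : Subgroup G) ≠ ⊥ := by
    intro h
    obtain ⟨g, g1, -⟩ := h2 a b b a hab hab.symm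
    have hg : g ∈ (⊥ : Subgroup G) := h ▸ Subgroup.mem_top g
    rw [Subgroup.mem_bot.1 hg, one_smul] at g1
    exact hab g1
  obtain ⟨M, ⟨hM, hM1⟩, hmin⟩ :=
    (Set.toFinite {M : Subgroup G | M.Normal ∧ M ≠ ⊥}).exists_minimal
      ⟨⊤, inferInstance, htop⟩
  haveI := hM
  have hC : Subgroup.centralizer (M : Set G) = ⊥ := by
    by_contra hC
    have hCn : (Subgroup.centralizer (M : Set G)).Normal := inferInstance
    have hfree : ∀ m : M, m • a = a → m = 1 := by
      intro m hm
      apply Subtype.ext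
      refine eq_of_smul_eq_smul fun x : Ω => ?_
      obtain ⟨c, hc⟩ := normal_transitive h2 hCn hC a x
      have hcm : (m : G) * c = c * m := Subgroup.mem_centralizer_iff.1 c.2 m m.2
      have hm' : (m : G) • a = a := hm
      have hc' : (c : G) • a = x := hc
      rw [Subgroup.coe_one, one_smul, ← hc', ← mul_smul, hcm, mul_smul, hm']
    haveI : MulAction.IsMultiplyPretransitive M Ω 2 := normal_two_transitive h2 hn hM hM1
    obtain ⟨c, hca, hcb⟩ : ∃ c : Ω, c ≠ a ∧ c ≠ b := by
      haveI : Fintype Ω := Fintype.ofFinite Ω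
      obtain ⟨c, -, hc⟩ := Finset.exists_mem_notMem_of_card_lt_card
        (s := ({a, b} : Finset Ω)) (t := Finset.univ) (by
          rw [Finset.card_univ, Fintype.card_eq_nat_card]
          exact lt_of_le_of_lt Finset.card_le_two hn2)
      simp only [Finset.mem_insert, Finset.mem_singleton, not_or] at hc
      exact ⟨c, hc⟩
    obtain ⟨m, hma, hmb⟩ :=
      MulAction.is_two_pretransitive_iff.1 this hab hca.symm
    rw [hfree m hma, one_smul] at hmb
    exact hcb hmb.symm
  refine ⟨M, hM, hM1, fun N hN hN1 => ?_, hC⟩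
  by_cases hI : M ⊓ N = ⊥
  · exfalso
    apply hN1
    rw [eq_bot_iff, ← hC]
    intro x hx
    rw [Subgroup.mem_centralizer_iff]
    intro y hy
    exact Subgroup.commute_of_normal_of_disjoint M N hM hN (disjoint_iff.2 hI) y x hy hx
  · haveI := hN
    exact (hmin ⟨inferInstance, hI⟩ inf_le_left).trans inf_le_right

end Normal

/-- Let G be a doubly transitive permutation group on a finite set Ω with |Ω| ≡ 2 mod 4 and |Ω| > 2. Then G has a unique minimal normal subgroup M (a nontrivial normal subgroup contained in every nontrivial normal subgroup); M is simple and doubly transitive on Ω, and its centralizer in G is trivial (so G embeds in Aut(M)). -/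
theorem result {G : Type*} [Group G] [Finite G] {Ω : Type*} [Fintype Ω] [MulAction G Ω] [FaithfulSMul G Ω]
    (h2 : MulAction.IsMultiplyPretransitive G Ω 2) (hn : Fintype.card Ω % 4 = 2) (hn2 : 2 < Fintype.card Ω) :
    ∃ M : Subgroup G, M.Normal ∧ M ≠ ⊥ ∧ (∀ N : Subgroup G, N.Normal → N ≠ ⊥ → M ≤ N) ∧
      IsSimpleGroup ↥M ∧ MulAction.IsMultiplyPretransitive ↥M Ω 2 ∧ Subgroup.centralizer (M : Set G) = ⊥ := by
  rw [Fintype.card_eq_nat_card] at hn hn2
  have h2' : ∀ a b c d : Ω, a ≠ b → c ≠ d → ∃ g : G, g • a = c ∧ g • b = d :=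
    fun _ _ _ _ hab hcd => MulAction.is_two_pretransitive_iff.1 h2 hab hcd
  obtain ⟨M, hM, hM1, hleast, hC⟩ := exists_least_normal h2' hn hn2
  haveI hM2 := normal_two_transitive h2' hn hM hM1
  refine ⟨M, hM, hM1, hleast, ?_, hM2, hC⟩
  have h2M : ∀ a b c d : Ω, a ≠ b → c ≠ d → ∃ g : M, g • a = c ∧ g • b = d :=
    fun _ _ _ _ hab hcd => MulAction.is_two_pretransitive_iff.1 hM2 hab hcd
  obtain ⟨K, hK, hK1, hKleast, -⟩ := exists_least_normal h2M hn hn2
  haveI : Nontrivial M := Subgroup.nontrivial_iff_ne_bot M |>.2 hM1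
  have hconj : ∀ g : G, ∀ k ∈ K, MulAut.conjNormal g k ∈ K := by
    intro g k hk
    have hinj : Function.Injective (MulAut.conjNormal g : MulAut M).toMonoidHom :=
      (MulAut.conjNormal g).injective
    have hn' : (K.map (MulAut.conjNormal g : MulAut M).toMonoidHom).Normal :=
      Subgroup.Normal.map hK _ (MulAut.conjNormal g).surjective
    have hne : K.map (MulAut.conjNormal g : MulAut M).toMonoidHom ≠ ⊥ := by
      rw [ne_eq, Subgroup.map_eq_bot_iff_of_injective K hinj]
      exact hK1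
    have heq := Subgroup.eq_of_le_of_card_ge (hKleast _ hn' hne)
      (Subgroup.card_map_of_injective hinj).le
    rw [heq]
    exact Subgroup.mem_map_of_mem _ hk
  have hKn : (K.map M.subtype).Normal := by
    refine ⟨?_⟩
    rintro _ ⟨k, hk, rfl⟩ g
    exact ⟨MulAut.conjNormal g k, hconj g k hk, MulAut.conjNormal_apply g k⟩
  have hKtop : K = ⊤ := by
    rw [eq_top_iff]
    intro m _
    have hle := hleast _ hKn (by
      rw [ne_eq, Subgroup.map_eq_bot_iff_of_injective K Subtype.val_injective]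
      exact hK1)
    obtain ⟨k, hk, hkm⟩ := hle m.2
    rwa [Subtype.ext hkm] at hk
  refine ⟨fun L hL => ?_⟩
  by_cases hL1 : L = ⊥
  · exact Or.inl hL1
  · right
    rw [eq_top_iff, ← hKtop]
    exact hKleast L hL hL1

end Cfsg.Agent.S3401
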