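import Cfsg.Statements.S3406
import Cfsg.Agent.Lib.AutOrbits.NonRegular
import Cfsg.Agent.Lib.AutOrbits.Lists
import Cfsg.Agent.Lib.CIT.Iso

set_option autoImplicit false
open Cfsg

namespace Cfsg.Agent.S3406

open CfsgLib.AutOrbits in
theorem spec_of_pair {G : Type*} [Group G] [Finite G] (s : Finset ℕ) (hs : s.card ≤ 4)
    (hmem : ∀ g : G, g ≠ 1 → orderOf g ∈ s) (hex : ∀ n ∈ s, ∃ g : G, orderOf g = n)
    (haut : ∀ g h : G, orderOf g = orderOf h → s.card = 4 → ∃ α : MulAut G, α g = h)
    {p q : ℕ} (hp : p.Prime) (hq : q.Prime) (hp2 : p ≠ 2) (hq2 : q ≠ 2) (hpq : p ≠ q)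
    (hq_mem : q ∈ s) (hpair : ∃ g : G, orderOf g = 2 * p) : Spec G p q := by
  obtain ⟨g, hg⟩ := hpair
  have h2p : 2 * p ∈ s := hg ▸ hmem g (fun e => by rw [e, orderOf_one] at hg; have := hp.two_le; omega)
  have hp_mem : ∃ x : G, orderOf x = p := ⟨g ^ 2, by
    rw [orderOf_pow_of_dvd two_ne_zero (hg ▸ dvd_mul_right 2 p), hg,
      Nat.mul_div_cancel_left _ two_pos]⟩
  have h2_mem : ∃ x : G, orderOf x = 2 := ⟨g ^ p, by
    rw [orderOf_pow_of_dvd hp.ne_zero (hg ▸ dvd_mul_left p 2), hg, Nat.mul_div_left _ hp.pos]⟩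
  have hps : p ∈ s := by
    obtain ⟨x, hx⟩ := hp_mem
    exact hx ▸ hmem x fun e => by rw [e, orderOf_one] at hx; exact hp.ne_one hx.symm
  have h2s : 2 ∈ s := by
    obtain ⟨x, hx⟩ := h2_mem
    exact hx ▸ hmem x fun e => by rw [e, orderOf_one] at hx; omega
  have hsub : ({2, p, q, 2 * p} : Finset ℕ) ⊆ s := by
    simp [Finset.insert_subset_iff, h2s, hps, hq_mem, h2p]
  have h4 : ({2, p, q, 2 * p} : Finset ℕ).card = 4 := by
    have hpo := Nat.odd_iff.1 (hp.odd_of_ne_two hp2)
    have hqo := Nat.odd_iff.1 (hq.odd_of_ne_two hq2)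
    have := hp.two_le
    rw [Finset.card_insert_of_notMem, Finset.card_insert_of_notMem, Finset.card_insert_of_notMem,
      Finset.card_singleton] <;> simp only [Finset.mem_insert, Finset.mem_singleton] <;> omega
  have hs4 : s.card = 4 := le_antisymm hs (h4 ▸ Finset.card_le_card hsub)
  have heq : ({2, p, q, 2 * p} : Finset ℕ) = s := Finset.eq_of_subset_of_card_le hsub (by omega)
  refine ⟨hp, hq, hp2, hq2, hpq, fun x => ?_, hp_mem, hex q hq_mem, ⟨g, hg⟩, fun a b h => haut a b h hs4⟩
  by_cases hx : x = 1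
  · exact Or.inl hx
  have := hmem x hx
  rw [← heq] at this
  simp only [Finset.mem_insert, Finset.mem_singleton] at this
  exact Or.inr this

/-- A non-abelian finite simple group on whose elements the full automorphism group has at most five orbits is isomorphic to the alternating group of degree 5 or 6, to PSL(2, 7) or to PSL(2, 8). -/
theorem result {G : Type*} [Group G] [Finite G] [IsSimpleGroup G] (hG : ¬ IsMulCommutative G)
    (h5 : Nat.card (MulAction.orbitRel.Quotient (MulAut G) G) ≤ 5) :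
    Nonempty (G ≃* ↥(alternatingGroup (Fin 5))) ∨ Nonempty (G ≃* ↥(alternatingGroup (Fin 6))) ∨
      (∃ (F : Type) (_ : Field F) (_ : Fintype F), (Fintype.card F = 7 ∨ Fintype.card F = 8) ∧
        Nonempty (G ≃* Matrix.ProjectiveSpecialLinearGroup (Fin 2) F)) := by
  classical
  haveI := Fintype.ofFinite G
  have hne : ∃ a b : G, a * b ≠ b * a := by
    by_contra hall
    push Not at hall
    exact hG ⟨⟨hall⟩⟩
  have hns : ¬ Group.IsSolvable G := fun h => by
    obtain ⟨a, b, hab⟩ := hne
    exact hab (IsSimpleGroup.comm_iff_isSolvable.2 h a b)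
  let f : MulAction.orbitRel.Quotient (MulAut G) G → ℕ := Quotient.lift (fun g : G => orderOf g)
    fun a b h => by
      obtain ⟨α, rfl⟩ := h
      exact MulEquiv.orderOf_eq α b
  haveI := Fintype.ofFinite (MulAction.orbitRel.Quotient (MulAut G) G)
  rw [Nat.card_eq_fintype_card, ← Finset.card_univ] at h5
  have hall : ∀ g : G, orderOf g ∈ Finset.univ.image f :=
    fun g => Finset.mem_image.2 ⟨Quotient.mk _ g, Finset.mem_univ _, rfl⟩
  have hone : 1 ∈ Finset.univ.image f := orderOf_one (G := G) ▸ hall 1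
  set s := (Finset.univ.image f).erase 1 with hs
  have hcard : s.card ≤ 4 := by
    rw [hs, Finset.card_erase_of_mem hone]
    have := (Finset.card_image_le (s := Finset.univ) (f := f))
    omega
  have hmem : ∀ g : G, g ≠ 1 → orderOf g ∈ s := fun g hg =>
    Finset.mem_erase.2 ⟨fun e => hg (orderOf_eq_one_iff.1 e), hall g⟩
  have hex : ∀ n ∈ s, ∃ g : G, orderOf g = n := fun n hn => by
    obtain ⟨X, -, hX⟩ := Finset.mem_image.1 (Finset.mem_erase.1 hn).2
    induction X using Quotient.inductionOn with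
    | h g => exact ⟨g, hX⟩
  have haut : ∀ g h : G, orderOf g = orderOf h → s.card = 4 → ∃ α : MulAut G, α g = h := by
    intro g h hgh h4
    have h5' : (Finset.univ.image f).card = (Finset.univ : Finset (MulAction.orbitRel.Quotient (MulAut G) G)).card := by
      have e := Finset.card_erase_of_mem hone
      rw [← hs, h4] at e
      have := (Finset.card_image_le (s := Finset.univ) (f := f))
      omega
    have hinj := Finset.card_image_iff.1 h5'
    have e : (Quotient.mk _ g : MulAction.orbitRel.Quotient (MulAut G) G) = Quotient.mk _ h :=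
      hinj (Finset.mem_univ _) (Finset.mem_univ _) hgh
    obtain ⟨α, hα⟩ := Quotient.exact e
    exact ⟨α⁻¹, by rw [← hα]; simp⟩
  have hfew : CfsgLib.AutOrbits.FewOrders G := ⟨s, hcard, hmem⟩
  by_cases hcit : ∀ t : G, orderOf t = 2 → IsPGroup 2 (Subgroup.centralizer ({t} : Set G))
  · rcases CfsgLib.CIT.classification_iso hne hcit with ⟨F, iF, fF, hF, ⟨e⟩⟩ | ⟨F, iF, fF, hF, ⟨e⟩⟩ | hS
    · letI := iF
      letI := fF
      have hm := CfsgLib.AutOrbits.psl_card e hF hns hfew
      simp only [Finset.mem_insert, Finset.mem_singleton] at hm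
      have h60 : (Fintype.card F = 4 ∨ Fintype.card F = 5) →
          Nonempty (G ≃* alternatingGroup (Fin 5)) := by
        intro h45
        refine Cfsg.Agent.S0494.result (G := G) ?_
        have hc := CfsgLib.SL2.card_PSL (F := F)
        rw [← Nat.card_congr e.toEquiv, Nat.card_eq_fintype_card (α := F)] at hc
        rcases h45 with e' | e' <;> rw [e'] at hc <;> norm_num at hc ⊢ <;> omega
      rcases hm with h4 | h5 | h7 | h8 | h9
      · exact Or.inl (h60 (Or.inl h4))
      · exact Or.inl (h60 (Or.inr h5))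
      · exact Or.inr (Or.inr ⟨F, iF, fF, Or.inl h7, ⟨e⟩⟩)
      · exact Or.inr (Or.inr ⟨F, iF, fF, Or.inr h8, ⟨e⟩⟩)
      · obtain ⟨e'⟩ := Cfsg.Agent.S0254.result h9
        exact Or.inr (Or.inl ⟨e.trans e'⟩)
    · exact absurd hfew (CfsgLib.AutOrbits.not_few_psl34 hF e)
    · exact absurd hfew (CfsgLib.AutOrbits.not_few_suzuki hS)
  exfalso
  push Not at hcit
  obtain ⟨t, ht, hC⟩ := hcit
  haveI := Fact.mk Nat.prime_two
  obtain ⟨p, hp, hp2, hpC⟩ : ∃ p : ℕ, p.Prime ∧ p ≠ 2 ∧
      p ∣ Nat.card (Subgroup.centralizer ({t} : Set G)) := by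
    by_contra hno
    push Not at hno
    refine hC (IsPGroup.of_card (n := (Nat.card (Subgroup.centralizer ({t} : Set G))).primeFactorsList.length)
      (Nat.eq_prime_pow_of_unique_prime_dvd Nat.card_pos.ne' fun {r} hr hd => ?_))
    by_contra hr2
    exact hno r hr hr2 hd
  haveI := Fact.mk hp
  obtain ⟨x, hx⟩ := exists_prime_orderOf_dvd_card' p hpC
  rw [← Subgroup.orderOf_coe] at hx
  have hcomm : Commute (x : G) t := Subgroup.mem_centralizer_singleton_iff.1 x.2
  have hpair : ∃ g : G, orderOf g = 2 * p := ⟨t * x, by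
    rw [hcomm.symm.orderOf_mul_eq_mul_orderOf_of_coprime (by
      rw [ht, hx]; exact (Nat.coprime_primes Nat.prime_two hp).2 (Ne.symm hp2)), ht, hx]⟩
  obtain ⟨q, hq, hq2, hqp, hqd⟩ : ∃ q : ℕ, q.Prime ∧ q ≠ 2 ∧ q ≠ p ∧ q ∣ Nat.card G := by
    by_contra hno
    push Not at hno
    refine hns (Cfsg.Agent.S0144.result 2 p ((Nat.card G).factorization 2) ((Nat.card G).factorization p)
      Nat.prime_two hp ?_)
    conv_lhs => rw [← Nat.prod_factorization_pow_eq_self (Nat.card_pos (α := G)).ne',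
      Nat.prod_factorization_eq_prod_primeFactors]
    rw [Finset.prod_subset (s₂ := ({2, p} : Finset ℕ)) ?_ ?_, Finset.prod_pair (Ne.symm hp2)]
    · intro r hr
      by_cases hr2 : r = 2
      · simp [hr2]
      by_cases hrp : r = p
      · simp [hrp]
      exact absurd (Nat.dvd_of_mem_primeFactors hr) (hno r (Nat.prime_of_mem_primeFactors hr) hr2 hrp)
    · intro r hr hnr
      by_cases h0 : (Nat.card G).factorization r = 0
      · rw [h0, pow_zero]
      · exact absurd (Nat.mem_primeFactors.2 ⟨Nat.prime_of_mem_primeFactors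
          (by simpa [← Nat.support_factorization] using h0), Nat.dvd_of_factorization_pos h0,
          Nat.card_pos.ne'⟩) hnr
  haveI := Fact.mk hq
  obtain ⟨y, hy⟩ := exists_prime_orderOf_dvd_card' q hqd
  have hys : q ∈ s := hy ▸ hmem y fun e => by rw [e, orderOf_one] at hy; exact hq.ne_one hy.symm
  exact (spec_of_pair s hcard hmem hex haut hp hq hp2 hq2 (Ne.symm hqp) hys hpair).false_of_spec

end Cfsg.Agent.S3406
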