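import Cfsg.Statements.S3412
import Cfsg.Agent.Lib.CommGraph.PSLThreeThreeGraph

set_option autoImplicit false
open Cfsg

namespace Cfsg.Agent.S3412

/-- Let H be a finite group whose commuting graph (vertices the non-identity elements, two joined when they commute) is isomorphic to that of PSL_3(3): there is a bijection between the non-identity elements of H and of PSL_3(3) under which two elements commute exactly when their images do. Then H ≅ PSL_3(3). -/
theorem result {H : Type*} [Group H] [Finite H]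
    (f : {h : H // h ≠ 1} ≃ {g : Matrix.ProjectiveSpecialLinearGroup (Fin 3) (ZMod 3) // g ≠ 1})
    (hf : ∀ x y : {h : H // h ≠ 1}, (x : H) * y = y * x ↔ ((f x) : Matrix.ProjectiveSpecialLinearGroup (Fin 3) (ZMod 3)) * (f y) = (f y) * (f x)) :
    Nonempty (H ≃* Matrix.ProjectiveSpecialLinearGroup (Fin 3) (ZMod 3)) := by
  classical
  obtain ⟨ψ, hψ⟩ : ∃ ψ : H ≃ Matrix.ProjectiveSpecialLinearGroup (Fin 3) (ZMod 3),
      ψ 1 = 1 ∧ ∀ x (hx : x ≠ 1), ψ x = (f ⟨x, hx⟩ : Matrix.ProjectiveSpecialLinearGroup (Fin 3) (ZMod 3)) := by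
    refine ⟨⟨fun x => if hx : x = 1 then 1 else (f ⟨x, hx⟩).1,
      fun y => if hy : y = 1 then 1 else (f.symm ⟨y, hy⟩).1, fun x => ?_, fun y => ?_⟩,
      by simp, fun x hx => by simp [hx]⟩
    · by_cases hx : x = 1
      · simp [hx]
      · simp [hx, (f ⟨x, hx⟩).2]
    · by_cases hy : y = 1
      · simp [hy]
      · simp [hy, (f.symm ⟨y, hy⟩).2]
  have hcomm : ∀ x y : H, Commute x y ↔ Commute (ψ x) (ψ y) := by
    intro x y
    by_cases hx : x = 1
    · subst hx; simp [hψ.1]
    by_cases hy : y = 1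
    · subst hy; simp [hψ.1]
    rw [hψ.2 x hx, hψ.2 y hy]
    exact hf ⟨x, hx⟩ ⟨y, hy⟩
  obtain ⟨θ⟩ := CfsgLib.CommGraph.iso_of_commuting_graph
    (ψ.trans CfsgLib.CommGraph.pslEquiv.toEquiv)
    (by simp [hψ.1])
    (fun x y => (hcomm x y).trans ⟨fun k => k.map CfsgLib.CommGraph.pslEquiv,
      fun k => by simpa using k.map CfsgLib.CommGraph.pslEquiv.symm⟩)
  exact ⟨θ.trans CfsgLib.CommGraph.pslEquiv.symm⟩

end Cfsg.Agent.S3412
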