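import Cfsg.Statements.S3413
import Cfsg.Agent.Lib.M11Unique.Recognize
-- import your own Cfsg.Agent.* helpers here

set_option autoImplicit false
open Cfsg

namespace Cfsg.Agent.S3413

open CfsgLib.M11Unique in
/-- A simple group of order 7920 has elements with centralizers of orders 5 and 11. -/
theorem exists_small_centralizers {M : Type*} [Group M] [Fintype M] [IsSimpleGroup M]
    (hn : Nat.card M = 7920) :
    ∃ x y : M, Nat.card (Subgroup.centralizer ({x} : Set M)) = 5 ∧
      Nat.card (Subgroup.centralizer ({y} : Set M)) = 11 := by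
  haveI : Fact (Nat.Prime 5) := ⟨by norm_num⟩
  haveI : Fact (Nat.Prime 11) := ⟨by norm_num⟩
  obtain ⟨⟨T, -, -, -⟩, P, hP, hC⟩ := CfsgLib.BrauerTuan.local_7920 (G := M) hn
  have key : ∀ {p : ℕ} (S : Subgroup M), p.Prime → Nat.card S = p →
      Nat.card (Subgroup.centralizer (S : Set M)) = p →
      ∃ x : M, Nat.card (Subgroup.centralizer ({x} : Set M)) = p := by
    intro p S hp hS hCS
    haveI : Fact p.Prime := ⟨hp⟩
    obtain ⟨x, hx⟩ := exists_prime_orderOf_dvd_card' p (show p ∣ Nat.card S by rw [hS])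
    refine ⟨(x : M), ?_⟩
    have h : Subgroup.zpowers (x : M) = S := Subgroup.eq_of_le_of_card_ge (Subgroup.zpowers_le.mpr x.2)
      (by rw [hS, Nat.card_zpowers, Subgroup.orderOf_coe, hx])
    rw [← Subgroup.centralizer_closure, ← Subgroup.zpowers_eq_closure, h, hCS]
  obtain ⟨x, hx⟩ := key (P : Subgroup M) (by norm_num) hP hC
  obtain ⟨y, hy⟩ := key (T.P : Subgroup M) (by norm_num) T.card_P (by rw [T.card_C])
  exact ⟨x, y, hx, hy⟩

/-- Let H be a finite group whose commuting graph (vertices the non-identity elements, two joined when they commute) is isomorphic to that of the Mathieu group M_11: there is a bijection between the non-identity elements of H and of M_11 under which two elements commute exactly when their images do. Then H ≅ M_11. -/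
theorem result {H : Type*} [Group H] [Finite H]
    (f : {h : H // h ≠ 1} ≃ {g : ↥Cfsg.Spor.M11 // g ≠ 1})
    (hf : ∀ x y : {h : H // h ≠ 1}, (x : H) * y = y * x ↔ ((f x) : ↥Cfsg.Spor.M11) * (f y) = (f y) * (f x)) :
    Nonempty (H ≃* ↥Cfsg.Spor.M11) := by
  classical
  haveI := CfsgLib.M11Unique.card_spor.2
  have hM := CfsgLib.M11Unique.card_spor.1
  haveI : Finite ↥Cfsg.Spor.M11 := Nat.finite_of_card_ne_zero (by rw [hM]; norm_num)
  letI : Fintype ↥Cfsg.Spor.M11 := Fintype.ofFinite _
  obtain ⟨a, b, ha, hb⟩ := exists_small_centralizers hM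
  have hH : Nat.card H = 7920 := by
    rw [← hM, ← Nat.card_congr ((Equiv.optionSubtypeNe (1 : H)).symm.trans
      ((Equiv.optionCongr f).trans (Equiv.optionSubtypeNe (1 : ↥Cfsg.Spor.M11))))]
  have hC : ∀ z : {h : H // h ≠ 1}, Nat.card (Subgroup.centralizer ({(z : H)} : Set H)) =
      Nat.card (Subgroup.centralizer ({((f z : {g : ↥Cfsg.Spor.M11 // g ≠ 1}) : ↥Cfsg.Spor.M11)} : Set ↥Cfsg.Spor.M11)) := by
    intro z
    let e : H ≃ ↥Cfsg.Spor.M11 := (Equiv.optionSubtypeNe (1 : H)).symm.trans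
      ((Equiv.optionCongr f).trans (Equiv.optionSubtypeNe (1 : ↥Cfsg.Spor.M11)))
    have he1 : e 1 = 1 := by simp [e]
    have he : ∀ w : H, ∀ hw : w ≠ 1, e w = (f ⟨w, hw⟩ : ↥Cfsg.Spor.M11) := fun w hw => by simp [e, hw]
    refine Nat.card_congr (e.subtypeEquiv fun w => ?_)
    rw [Subgroup.mem_centralizer_singleton_iff, Subgroup.mem_centralizer_singleton_iff]
    by_cases hw : w = 1
    · subst hw; simp [he1]
    · rw [he w hw]; exact hf ⟨w, hw⟩ z
  have hne : ∀ {p : ℕ} {c : ↥Cfsg.Spor.M11}, p < 7920 →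
      Nat.card (Subgroup.centralizer ({c} : Set ↥Cfsg.Spor.M11)) = p → c ≠ 1 := by
    intro p c hp hc h
    subst h
    rw [show Subgroup.centralizer ({1} : Set ↥Cfsg.Spor.M11) = ⊤ from eq_top_iff.mpr fun g _ =>
      Subgroup.mem_centralizer_singleton_iff.mpr (by rw [mul_one, one_mul]), Subgroup.card_top, hM] at hc
    omega
  have hx : Nat.card (Subgroup.centralizer ({(f.symm ⟨a, hne (by norm_num) ha⟩ : H)} : Set H)) = 5 := by
    rw [hC, Equiv.apply_symm_apply, ha]
  have hy : Nat.card (Subgroup.centralizer ({(f.symm ⟨b, hne (by norm_num) hb⟩ : H)} : Set H)) = 11 := by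
    rw [hC, Equiv.apply_symm_apply, hb]
  haveI := CfsgLib.M11Unique.isSimpleGroup_of_centralizers hH hx hy
  exact CfsgLib.M11Unique.nonempty_equiv_spor hH

end Cfsg.Agent.S3413
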