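import Cfsg.Statements.S3419
import Cfsg.Agent.Lib.Hall.Basic
import Cfsg.Agent.Lib.NumberTheory.TwoPrimes

set_option autoImplicit false
set_option linter.style.haveILetI false
open Cfsg

namespace Cfsg.Agent.S3419

/-- A group of order `p ^ a * q ^ b` with no divisor of the other part congruent to `1` but `1`
has an element of order `p * q`. -/
theorem exists_pq {K : Type*} [Group K] [Finite K] {p q a b : ℕ} [Fact p.Prime] [Fact q.Prime]
    (hpq : p ≠ q) (ha : 1 ≤ a) (hb : 1 ≤ b) (hK : Nat.card K = p ^ a * q ^ b)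
    (h1 : ∀ j ≤ b, q ^ j % p = 1 → j = 0) (h2 : ∀ i ≤ a, p ^ i % q = 1 → i = 0) :
    ∃ g : K, orderOf g = p * q := by
  have hp : p.Prime := Fact.out
  have hq : q.Prime := Fact.out
  have key : ∀ (r s c e : ℕ) [Fact r.Prime], s.Prime → r ≠ s → Nat.card K = r ^ c * s ^ e →
      (∀ j ≤ e, s ^ j % r = 1 → j = 0) → ∀ R : Sylow r K, (R : Subgroup K).Normal := by
    intro r s c e _ hs hrs hK h R
    have hr : r.Prime := Fact.out
    have hcard : Nat.card (R : Subgroup K) = r ^ c := by
      rw [R.card_eq_multiplicity, hK, Nat.factorization_mul (pow_pos hr.pos c).ne' (pow_pos hs.pos e).ne']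
      simp [hr.factorization_pow, hs.factorization_pow, hrs]
    have hidx : (R : Subgroup K).index = s ^ e := by
      have := (R : Subgroup K).card_mul_index
      rw [hcard, hK] at this
      exact Nat.eq_of_mul_eq_mul_left (pow_pos hr.pos c) this
    have hd := R.card_dvd_index
    rw [hidx] at hd
    obtain ⟨j, hj, hjc⟩ := (Nat.dvd_prime_pow hs).mp hd
    have hm := card_sylow_modEq_one r K
    rw [hjc] at hm
    have hj0 : j = 0 := h j hj (by rw [hm, Nat.mod_eq_of_lt hr.one_lt])
    rw [hj0, pow_zero] at hjc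
    haveI := (Nat.card_eq_one_iff_unique.mp hjc).1
    exact R.normal_of_subsingleton
  obtain ⟨P⟩ : Nonempty (Sylow p K) := inferInstance
  obtain ⟨Q⟩ : Nonempty (Sylow q K) := inferInstance
  have hPn := key p q a b hq hpq hK h1 P
  have hQn := key q p b a hp hpq.symm (by rw [hK, mul_comm]) h2 Q
  obtain ⟨x, hx⟩ := exists_prime_orderOf_dvd_card' (G := K) p (hK ▸ dvd_mul_of_dvd_left (dvd_pow_self p (by omega)) _)
  obtain ⟨y, hy⟩ := exists_prime_orderOf_dvd_card' (G := K) q (hK ▸ dvd_mul_of_dvd_right (dvd_pow_self q (by omega)) _)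
  have hmem : ∀ (r : ℕ) [Fact r.Prime] (R : Sylow r K), (R : Subgroup K).Normal → ∀ z : K,
      orderOf z = r → z ∈ (R : Subgroup K) := by
    intro r _ R hR z hz
    have hzp : IsPGroup r (Subgroup.zpowers z) :=
      IsPGroup.of_card (n := 1) (by rw [Nat.card_zpowers, hz, pow_one])
    haveI := hR
    exact (le_sup_left.trans (R.3 (hzp.to_sup_of_normal_right R.2) le_sup_right).le)
      (Subgroup.mem_zpowers z)
  have hc : Commute x y := Subgroup.commute_of_normal_of_disjoint _ _ hPn hQn
    (IsPGroup.disjoint_of_ne p q hpq _ _ P.2 Q.2) x y (hmem p P hPn x hx) (hmem q Q hQn y hy)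
  exact ⟨x * y, by rw [hc.orderOf_mul_eq_mul_orderOf_of_coprime
    (by rw [hx, hy]; exact (Nat.coprime_primes hp hq).mpr hpq), hx, hy]⟩

/-- No permutation of `n` points has order `p * q` when `p + q > n`. -/
theorem orderOf_ne {n p q : ℕ} (hp : p.Prime) (hq : q.Prime) (hpq : p ≠ q) (hn : n < p + q)
    (σ : Equiv.Perm (Fin n)) : orderOf σ ≠ p * q := by
  intro h
  have hex : ∀ r : ℕ, r.Prime → r ∣ orderOf σ → ∃ c ∈ σ.cycleType, r ∣ c := by
    intro r hr hd
    rw [← Equiv.Perm.lcm_cycleType] at hd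
    have hm : σ.cycleType.lcm ∣ σ.cycleType.prod :=
      Multiset.lcm_dvd.mpr fun c hc => Multiset.dvd_prod hc
    exact (Nat.prime_iff.mp hr).exists_mem_multiset_dvd (hd.trans hm)
  obtain ⟨c, hc, hpc⟩ := hex p hp (h ▸ dvd_mul_right p q)
  obtain ⟨e, he, hqe⟩ := hex q hq (h ▸ dvd_mul_left q p)
  have hsum : σ.cycleType.sum ≤ n := by
    rw [Equiv.Perm.sum_cycleType]
    exact (Finset.card_le_univ _).trans (Fintype.card_fin n).le
  have hc1 := Equiv.Perm.one_lt_of_mem_cycleType hc
  have he1 := Equiv.Perm.one_lt_of_mem_cycleType he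
  by_cases hce : c = e
  · subst hce
    have h1 : p * q ≤ c := Nat.le_of_dvd (by omega)
      (((Nat.coprime_primes hp hq).mpr hpq).mul_dvd_of_dvd_of_dvd hpc hqe)
    have h2 : c ≤ n := (Multiset.le_sum_of_mem hc).trans hsum
    have := hp.two_le
    have := hq.two_le
    have : p + q ≤ p * q := by nlinarith
    omega
  · obtain ⟨t, ht⟩ := Multiset.exists_cons_of_mem hc
    have he' : e ∈ t := by
      rw [ht, Multiset.mem_cons] at he
      exact he.resolve_left (Ne.symm hce)
    have h1 := Multiset.le_sum_of_mem he'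
    rw [ht, Multiset.sum_cons] at hsum
    have := Nat.le_of_dvd (by omega) hpc
    have := Nat.le_of_dvd (by omega) hqe
    omega

/-- Two primes of small multiplicity in `n!`, adding to more than `n`. -/
theorem exists_primes {n : ℕ} (hn : 5 ≤ n) :
    ∃ p q : ℕ, p.Prime ∧ q.Prime ∧ p ≠ 2 ∧ q ≠ 2 ∧ p < q ∧ q ≤ n ∧ n < p + q ∧ n < 2 * p ∨ 
      p.Prime ∧ q.Prime ∧ p ≠ 2 ∧ q ≠ 2 ∧ p < q ∧ q ≤ n ∧ n < p + q ∧ (n = 6 ∨ n = 10) ∧ p * 2 = n := by
  by_cases h : 17 ≤ n
  · obtain ⟨p, q, hp, hq, h1, h2, h3⟩ := CfsgLib.NumberTheory.exists_two_primes h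
    exact ⟨p, q, Or.inl ⟨hp, hq, by omega, by omega, by omega, h3, by omega, by omega⟩⟩
  · interval_cases n
    · exact ⟨3, 5, Or.inl (by norm_num)⟩
    · exact ⟨3, 5, Or.inr (by norm_num)⟩
    · exact ⟨5, 7, Or.inl (by norm_num)⟩
    · exact ⟨5, 7, Or.inl (by norm_num)⟩
    · exact ⟨5, 7, Or.inl (by norm_num)⟩
    · exact ⟨5, 7, Or.inr (by norm_num)⟩
    · exact ⟨7, 11, Or.inl (by norm_num)⟩
    · exact ⟨7, 11, Or.inl (by norm_num)⟩
    · exact ⟨7, 11, Or.inl (by norm_num)⟩
    · exact ⟨11, 13, Or.inl (by norm_num)⟩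
    · exact ⟨11, 13, Or.inl (by norm_num)⟩
    · exact ⟨11, 13, Or.inl (by norm_num)⟩


/-- Let n ≥ 5 and let G be a finite group with the same order and the same set of element orders as the alternating group of degree n. Then G is not solvable. -/
theorem result {G : Type*} [Group G] [Finite G] (n : ℕ) (hn : 5 ≤ n)
    (hcard : Nat.card G = Nat.card ↥(alternatingGroup (Fin n)))
    (hspec : Set.range (orderOf : G → ℕ) = Set.range (orderOf : ↥(alternatingGroup (Fin n)) → ℕ)) :
    ¬ Group.IsSolvable G := by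
  intro hsol
  haveI : Nontrivial (Fin n) := Fin.nontrivial_iff_two_le.mpr (by omega)
  obtain ⟨p, q, hcase⟩ := exists_primes hn
  obtain ⟨hp, hq, hp2, hq2, hlt, hqn, hnpq, hsq⟩ : p.Prime ∧ q.Prime ∧ p ≠ 2 ∧ q ≠ 2 ∧ p < q ∧ q ≤ n ∧
      n < p + q ∧ (n < 2 * p ∨ ((n = 6 ∨ n = 10) ∧ p * 2 = n)) := by
    rcases hcase with ⟨h1, h2, h3, h4, h5, h6, h7, h8⟩ | ⟨h1, h2, h3, h4, h5, h6, h7, h8⟩
    · exact ⟨h1, h2, h3, h4, h5, h6, h7, Or.inl h8⟩
    · exact ⟨h1, h2, h3, h4, h5, h6, h7, Or.inr h8⟩
  haveI := Fact.mk hp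
  haveI := Fact.mk hq
  have hnq : n < q * q := by
    have := hq.two_le
    rcases hsq with h | ⟨h | h, h'⟩ <;> nlinarith
  have hval : ∀ r : ℕ, r.Prime → n < r * r → (n.factorial).factorization r = n / r := by
    intro r hr h
    rw [Nat.factorization_factorial hr (b := 2) (Nat.log_lt_of_lt_pow (by omega) (by rw [pow_two]; exact h))]
    simp
  have hG : Nat.card G * 2 = n.factorial := by
    rw [hcard, mul_comm, two_mul_nat_card_alternatingGroup, Nat.card_perm, Nat.card_eq_fintype_card, Fintype.card_fin]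
  have hGv : ∀ r : ℕ, r.Prime → r ≠ 2 → (Nat.card G).factorization r = (n.factorial).factorization r := by
    intro r hr hr2
    rw [← hG, Nat.factorization_mul Nat.card_pos.ne' two_ne_zero]
    simp [Nat.prime_two.factorization, Ne.symm hr2]
  set a := (Nat.card G).factorization p with ha
  set b := (Nat.card G).factorization q with hb
  have hb1 : b = n / q := by rw [hb, hGv q hq hq2, hval q hq hnq]
  have hb1' : b = 1 := by
    rw [hb1]
    exact Nat.div_eq_of_lt_le (by omega) (by omega)
  have hpa : a = 1 ∨ (a = 2 ∧ (n = 6 ∨ n = 10) ∧ p * 2 = n) := by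
    rcases hsq with h | ⟨h, h'⟩
    · left
      rw [ha, hGv p hp hp2, hval p hp (by have := hp.two_le; nlinarith)]
      exact Nat.div_eq_of_lt_le (by omega) (by omega)
    · right
      refine ⟨?_, h, h'⟩
      rw [ha, hGv p hp hp2, hval p hp (by rcases h with h | h <;> nlinarith)]
      rw [← h', Nat.mul_div_cancel_left 2 hp.pos]
  have hdvd : p ^ a * q ^ b ∣ Nat.card G :=
    Nat.Coprime.mul_dvd_of_dvd_of_dvd (Nat.Coprime.pow _ _ ((Nat.coprime_primes hp hq).mpr hlt.ne))
      (Nat.ordProj_dvd _ p) (Nat.ordProj_dvd _ q)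
  obtain ⟨m, hm⟩ := hdvd
  have hcop : (p ^ a * q ^ b).Coprime m := by
    have h0 : m ≠ 0 := fun e => Nat.card_pos.ne' (by rw [hm, e, mul_zero])
    have hpm : ∀ (r : ℕ), r.Prime → (r = p ∨ r = q) → ¬ r ∣ m := by
      intro r hr hrpq hd
      have h1 : 1 ≤ m.factorization r := hr.factorization_pos_of_dvd h0 hd
      have h2 := congrArg (fun x => x.factorization r) hm
      simp only [Nat.factorization_mul (mul_ne_zero (pow_pos hp.pos a).ne' (pow_pos hq.pos b).ne') h0,
        Nat.factorization_mul (pow_pos hp.pos a).ne' (pow_pos hq.pos b).ne', Finsupp.add_apply,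
        hp.factorization_pow, hq.factorization_pow] at h2
      rcases hrpq with rfl | rfl
      · rw [Finsupp.single_eq_same, Finsupp.single_eq_of_ne hlt.ne] at h2; omega
      · rw [Finsupp.single_eq_same, Finsupp.single_eq_of_ne hlt.ne'] at h2; omega
    exact Nat.Coprime.mul_left (((hp.coprime_iff_not_dvd).mpr (hpm p hp (Or.inl rfl))).pow_left _)
      (((hq.coprime_iff_not_dvd).mpr (hpm q hq (Or.inr rfl))).pow_left _)
  obtain ⟨K, hK⟩ := CfsgLib.Hall.exists_hall hm hcop
  obtain ⟨g, hg⟩ := exists_pq (K := K) hlt.ne (a := a) (b := b) (by omega) (by omega) hK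
    (by
      intro j hj hmod
      by_contra hj0
      have : j = 1 := by omega
      subst this
      rw [pow_one] at hmod
      have h2 : q < 2 * p + 1 := by
        rcases hsq with h | ⟨h, h'⟩
        · rcases hpa with h1 | ⟨-, -, h1⟩
          · have hd : n / p = 1 := by rw [← hval p hp (by have := hp.two_le; nlinarith), ← hGv p hp hp2]; exact h1
            have := Nat.lt_mul_div_succ n hp.pos
            rw [hd] at this
            omega
          · omega
        · omega
      obtain ⟨c, hc⟩ : p ∣ q - 1 := ⟨q / p, by have := Nat.div_add_mod q p; omega⟩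
      have hc2 : c = 1 := by
        rcases c with _ | _ | c
        · have := hq.two_le; omega
        · rfl
        · exfalso
          rw [show p * (c + 1 + 1) = p * c + p * 2 by ring] at hc
          omega
      subst hc2
      have := hp.odd_of_ne_two hp2
      have := hq.odd_of_ne_two hq2
      rw [Nat.odd_iff] at *
      omega)
    (by
      intro i hi hmod
      by_contra hi0
      rcases hpa with h1 | ⟨h1, h, h'⟩
      · have : i = 1 := by omega
        subst this
        rw [pow_one, Nat.mod_eq_of_lt hlt] at hmod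
        exact hp.ne_one hmod
      · rcases (show i = 1 ∨ i = 2 by omega) with rfl | rfl
        · rw [pow_one, Nat.mod_eq_of_lt hlt] at hmod
          exact hp.ne_one hmod
        · rcases h with rfl | rfl
          · obtain rfl : p = 3 := by omega
            interval_cases q <;> first | omega | norm_num at *
          · obtain rfl : p = 5 := by omega
            interval_cases q <;> first | omega | norm_num at *)
  obtain ⟨σ, hσ⟩ : p * q ∈ Set.range (orderOf : alternatingGroup (Fin n) → ℕ) := by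
    rw [← hspec]
    exact ⟨(g : G), by rw [Subgroup.orderOf_coe, hg]⟩
  exact orderOf_ne hp hq hlt.ne hnpq (σ : Equiv.Perm (Fin n)) (by rw [Subgroup.orderOf_coe, hσ])

end Cfsg.Agent.S3419
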