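import Cfsg.Statements.S3420
import Cfsg.Agent.S3419
import Cfsg.Agent.Lib.MinNormal.SimpleConjugates

set_option autoImplicit false
set_option linter.style.haveILetI false
open Cfsg

namespace Cfsg.Agent.S3420

/-- A prime dividing the order of a nonabelian minimal normal subgroup only once makes it simple. -/
theorem simple_of_once {G : Type*} [Group G] [Finite G] {M : Subgroup G} [M.Normal]
    (hmin : ∀ N : Subgroup G, N.Normal → N ≠ ⊥ → N ≤ M → N = M) (hna : ¬ IsMulCommutative M)
    {p : ℕ} (hp : p.Prime) (hpM : p ∣ Nat.card M) (hp2 : ¬ p * p ∣ Nat.card M) : IsSimpleGroup M := by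
  obtain ⟨L, d⟩ := CfsgLib.MinNormal.exists_simpleConjugates hmin hna
  open CfsgLib.MinNormal in
  by_cases hall : ∀ g, cj L g = cj L 1
  · have hML : M = L := by
      rw [← d.sup]
      exact le_antisymm (iSup_le fun g => ((hall g).trans (cj_one L)).le)
        (le_iSup_of_le 1 (cj_one L).ge)
    exact hML ▸ d.simple
  push Not at hall
  obtain ⟨g, hg⟩ := hall
  exfalso
  open CfsgLib.MinNormal in
  have hpL : p ∣ Nat.card L := by
    by_contra hnd
    haveI := Fact.mk hp
    obtain ⟨x, hx⟩ := exists_prime_orderOf_dvd_card' (G := M) p hpM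
    have hxc : ∀ h : G, (x : G) ∈ Subgroup.centralizer (cj L h : Set G) := by
      intro h
      obtain ⟨a, ha, k, hk, hak⟩ := d.decomp h x.2
      have hc : Commute a k := Subgroup.mem_centralizer_iff.mp hk a ha
      have h1 : a ^ p * k ^ p = 1 * 1 := by
        rw [← hc.mul_pow, hak, one_mul, ← hx, ← Subgroup.orderOf_coe, pow_orderOf_eq_one]
      obtain ⟨hap, -⟩ := d.decomp_unique (pow_mem ha p) (one_mem _) (pow_mem hk p) (one_mem _) h1
      have hoa : orderOf a ∣ Nat.gcd p (Nat.card L) :=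
        Nat.dvd_gcd (orderOf_dvd_of_pow_eq_one hap) (card_cj L h ▸ Subgroup.orderOf_dvd_natCard _ ha)
      rw [(hp.coprime_iff_not_dvd.mpr hnd), Nat.dvd_one, orderOf_eq_one_iff] at hoa
      rw [← hak, hoa, one_mul]
      exact hk
    have hxM : (x : G) ∈ Subgroup.centralizer (M : Set G) := by
      rw [Subgroup.mem_centralizer_iff]
      have hle : M ≤ Subgroup.centralizer ({(x : G)} : Set G) := by
        conv_lhs => rw [← d.sup]
        exact iSup_le fun h y hy => Subgroup.mem_centralizer_singleton_iff.mpr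
          (Subgroup.mem_centralizer_iff.mp (hxc h) y hy)
      exact fun y hy => Subgroup.mem_centralizer_singleton_iff.mp (hle hy)
    have h1 : (x : G) ∈ cj L 1 ⊔ M := Subgroup.mem_sup_right x.2
    obtain ⟨a, ha, k, hk, hak⟩ := d.decomp 1 x.2
    have hM : M ⊓ Subgroup.centralizer (M : Set G) = ⊥ := by
      by_contra hne
      haveI : (M ⊓ Subgroup.centralizer (M : Set G)).Normal := inferInstance
      have h2 := hmin _ inferInstance hne inf_le_left
      exact hna ⟨⟨fun a b => Subtype.ext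
        (Subgroup.mem_centralizer_iff.mp (h2.ge b.2).2 a a.2)⟩⟩
    have hx1 : (x : G) = 1 := Subgroup.mem_bot.mp (hM ▸ (⟨x.2, hxM⟩ : (x : G) ∈ M ⊓ Subgroup.centralizer (M : Set G)))
    rw [show x = 1 from Subtype.ext hx1, orderOf_one] at hx
    exact hp.ne_one hx.symm
  open CfsgLib.MinNormal in
  apply hp2
  open CfsgLib.MinNormal in
  refine (Nat.mul_dvd_mul (card_cj L 1 ▸ hpL) (card_cj L g ▸ hpL)).trans ?_
  open CfsgLib.MinNormal in
  let f : cj L 1 × cj L g →* G := MonoidHom.noncommCoprod (cj L 1).subtype (cj L g).subtype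
    (show ∀ (a : cj L 1) (b : cj L g), Commute ((cj L 1).subtype a) ((cj L g).subtype b) from
      fun a b => d.comm 1 g (Ne.symm hg) a a.2 b b.2)
  have hinj : Function.Injective f := by
    rw [injective_iff_map_eq_one]
    rintro ⟨⟨a, ha⟩, ⟨b, hb⟩⟩ h
    simp only [f, MonoidHom.noncommCoprod_apply, Subgroup.coe_subtype] at h
    open CfsgLib.MinNormal in
    have haB : a ∈ cj L g := by rw [eq_inv_of_mul_eq_one_left h]; exact inv_mem hb
    have ha1 : a = 1 := Subgroup.mem_bot.mp ((d.inf 1 g (Ne.symm hg)).le ⟨ha, haB⟩)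
    subst ha1
    rw [one_mul] at h
    subst h
    rfl
  have hle : f.range ≤ M := by
    rintro _ ⟨⟨a, b⟩, rfl⟩
    simp only [f, MonoidHom.noncommCoprod_apply, Subgroup.coe_subtype]
    exact mul_mem (d.cj_le 1 a.2) (d.cj_le g b.2)
  rw [← Nat.card_prod, Nat.card_congr (MonoidHom.ofInjective hinj).toEquiv]
  exact Subgroup.card_dvd_of_le hle

/-- Two large primes lie in the same normal subgroups. -/
theorem dvd_of_dvd {G : Type*} [Group G] [Finite G] {p q : ℕ} (hp : p.Prime) (hq : q.Prime)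
    (hq1 : ¬ q ∣ p - 1) (hpq : p ≠ q) (hp2 : ¬ p * p ∣ Nat.card G) (hqG : q ∣ Nat.card G)
    (hno : ∀ g : G, orderOf g ≠ p * q) {M : Subgroup G} [M.Normal] (hpM : p ∣ Nat.card M) :
    q ∣ Nat.card M := by
  by_contra hqM
  haveI := Fact.mk hp
  haveI := Fact.mk hq
  obtain ⟨P⟩ : Nonempty (Sylow p M) := inferInstance
  have hFr := Sylow.normalizer_sup_eq_top P
  set P' := (P : Subgroup M).map M.subtype with hP'
  have hPcard : Nat.card P' = p := by
    rw [hP', Subgroup.card_map_of_injective M.subtype_injective, P.card_eq_multiplicity]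
    have h1 : (Nat.card M).factorization p = 1 := by
      have h2 : 1 ≤ (Nat.card M).factorization p := hp.factorization_pos_of_dvd Nat.card_pos.ne' hpM
      by_contra hne
      apply hp2
      refine dvd_trans ?_ (Subgroup.card_subgroup_dvd_card M)
      rw [← pow_two]
      exact (hp.pow_dvd_iff_le_factorization Nat.card_pos.ne').mpr (by omega)
    rw [h1, pow_one]
  have hqN : q ∣ Nat.card (Subgroup.normalizer (P' : Set G)) := by
    have h1 : M.index ∣ Nat.card (Subgroup.normalizer (P' : Set G)) := by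
      rw [← Subgroup.relIndex_top_right, ← hFr, Subgroup.relIndex_sup_right]
      exact Subgroup.relIndex_dvd_card _ _
    rcases (hq.dvd_mul).mp (M.card_mul_index ▸ hqG) with h | h
    · exact absurd h hqM
    · exact h.trans h1
  obtain ⟨y, hy⟩ := exists_prime_orderOf_dvd_card' (G := Subgroup.normalizer (P' : Set G)) q hqN
  obtain ⟨x, hx⟩ := exists_prime_orderOf_dvd_card' (G := P') p hPcard.symm.dvd
  haveI : IsCyclic P' := isCyclic_of_prime_card hPcard
  let ψ : Subgroup.normalizer (P' : Set G) →* MulAut P' := P'.normalizerMonoidHom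
  have hψ : ψ y = 1 := by
    rw [← orderOf_eq_one_iff, ← Nat.dvd_one]
    have h1 : orderOf (ψ y) ∣ Nat.gcd q (p - 1) := by
      refine Nat.dvd_gcd (hy ▸ orderOf_map_dvd ψ y) ?_
      have := orderOf_dvd_natCard (ψ y)
      rwa [IsCyclic.card_mulAut, hPcard, Nat.totient_prime hp] at this
    rwa [(hq.coprime_iff_not_dvd.mpr hq1)] at h1
  have hc : Commute (y : G) (x : G) := by
    have := congrArg Subtype.val (DFunLike.congr_fun hψ x)
    have h2 : (y : G) * x * (y : G)⁻¹ = x := this
    exact mul_inv_eq_iff_eq_mul.mp h2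
  refine hno ((x : G) * y) ?_
  rw [hc.symm.orderOf_mul_eq_mul_orderOf_of_coprime (by
    rw [Subgroup.orderOf_coe, Subgroup.orderOf_coe, hx, hy]
    exact (Nat.coprime_primes hp hq).mpr hpq), Subgroup.orderOf_coe, Subgroup.orderOf_coe, hx, hy]


/-- Let n ≥ 11 and let G be a finite group with the same order and the same set of element orders as the alternating group of degree n. Then G has normal subgroups N < H such that H/N is a non-abelian simple group whose order is divisible by every prime p with n/2 < p ≤ n. -/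
theorem result {G : Type*} [Group G] [Finite G] (n : ℕ) (hn : 11 ≤ n)
    (hcard : Nat.card G = Nat.card ↥(alternatingGroup (Fin n)))
    (hspec : Set.range (orderOf : G → ℕ) = Set.range (orderOf : ↥(alternatingGroup (Fin n)) → ℕ)) :
    ∃ (N H : Subgroup G) (_ : N.Normal), H.Normal ∧ N < H ∧
      IsSimpleGroup (↥H ⧸ N.subgroupOf H) ∧ ¬ IsMulCommutative (↥H ⧸ N.subgroupOf H) ∧
      ∀ p : ℕ, p.Prime → n < 2 * p → p ≤ n → p ∣ Nat.card (↥H ⧸ N.subgroupOf H) := by
  classical
  haveI : Nontrivial (Fin n) := Fin.nontrivial_iff_two_le.mpr (by omega)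
  have hG : Nat.card G * 2 = n.factorial := by
    rw [hcard, mul_comm, two_mul_nat_card_alternatingGroup, Nat.card_perm, Nat.card_eq_fintype_card, Fintype.card_fin]
  have honce : ∀ p : ℕ, p.Prime → n < 2 * p → p ≤ n → p ∣ Nat.card G ∧ ¬ p * p ∣ Nat.card G := by
    intro p hp h1 h2
    have hv : (n.factorial).factorization p = 1 := by
      rw [Nat.factorization_factorial hp (b := 2)
        (Nat.log_lt_of_lt_pow (by omega) (by rw [pow_two]; nlinarith))]
      simp
      exact Nat.div_eq_of_lt_le (by omega) (by omega)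
    have hp2 : p ≠ 2 := by omega
    have hGv : (Nat.card G).factorization p = 1 := by
      rw [← hv, ← hG, Nat.factorization_mul Nat.card_pos.ne' two_ne_zero]
      simp [Nat.prime_two.factorization, Ne.symm hp2]
    refine ⟨Nat.dvd_of_factorization_pos (by omega), fun h => ?_⟩
    rw [← pow_two] at h
    have := (hp.pow_dvd_iff_le_factorization Nat.card_pos.ne').mp h
    omega
  have hno : ∀ p q : ℕ, p.Prime → q.Prime → p ≠ q → n < 2 * p → n < 2 * q → ∀ g : G, orderOf g ≠ p * q := by
    intro p q hp hq hpq h1 h2 g hg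
    obtain ⟨σ, hσ⟩ : p * q ∈ Set.range (orderOf : alternatingGroup (Fin n) → ℕ) := hspec ▸ ⟨g, hg⟩
    exact Cfsg.Agent.S3419.orderOf_ne hp hq hpq (by omega) (σ : Equiv.Perm (Fin n))
      (by rw [Subgroup.orderOf_coe, hσ])
  have hsame : ∀ p q : ℕ, p.Prime → q.Prime → n < 2 * p → p ≤ n → n < 2 * q → q ≤ n →
      ∀ M : Subgroup G, M.Normal → p ∣ Nat.card M → q ∣ Nat.card M := by
    intro p q hp hq hp1 hp2 hq1 hq2 M hM hpM
    rcases eq_or_ne p q with rfl | hne
    · exact hpM
    haveI := hM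
    refine dvd_of_dvd hp hq ?_ hne (honce p hp hp1 hp2).2 (honce q hq hq1 hq2).1
      (hno p q hp hq hne hp1 hq1) hpM
    rintro ⟨c, hc⟩
    rcases c with _ | _ | c
    · have := hp.two_le; omega
    · have := hp.odd_of_ne_two (by omega)
      have := hq.odd_of_ne_two (by omega)
      rw [Nat.odd_iff] at *
      omega
    · rw [show q * (c + 1 + 1) = q * c + q * 2 by ring] at hc
      omega
  obtain ⟨p, q, hp, hq, hpq, hp1, hp2, hq1, hq2⟩ : ∃ p q : ℕ, p.Prime ∧ q.Prime ∧ p ≠ q ∧
      n < 2 * p ∧ p ≤ n ∧ n < 2 * q ∧ q ≤ n := by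
    by_cases h : 17 ≤ n
    · obtain ⟨p, q, hp, hq, h1, h2, h3⟩ := CfsgLib.NumberTheory.exists_two_primes h
      exact ⟨p, q, hp, hq, by omega, h1, by omega, by omega, h3⟩
    · by_cases h' : n < 14
      · exact ⟨7, 11, by norm_num, by norm_num, by norm_num, by omega, by omega, by omega, by omega⟩
      · exact ⟨11, 13, by norm_num, by norm_num, by norm_num, by omega, by omega, by omega, by omega⟩
  obtain ⟨H, ⟨hH, hpH⟩, hHmin⟩ := Set.Finite.exists_minimal
    (s := {M : Subgroup G | M.Normal ∧ p ∣ Nat.card M}) (Set.toFinite _)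
    ⟨⊤, inferInstance, by rw [Subgroup.card_top]; exact (honce p hp hp1 hp2).1⟩
  have hHne : H ≠ ⊥ := fun e => by rw [e, Subgroup.card_bot, Nat.dvd_one] at hpH; exact hp.ne_one hpH
  obtain ⟨N, ⟨hN, hNH⟩, hNmax⟩ := Set.Finite.exists_maximal
    (s := {M : Subgroup G | M.Normal ∧ M < H}) (Set.toFinite _)
    ⟨⊥, inferInstance, bot_lt_iff_ne_bot.mpr hHne⟩
  haveI := hN
  haveI := hH
  have hnot : ∀ r : ℕ, r.Prime → n < 2 * r → r ≤ n → ¬ r ∣ Nat.card N := fun r hr h1 h2 hd =>
    hNH.not_ge (hHmin ⟨hN, hsame r p hr hp h1 h2 hp1 hp2 N hN hd⟩ hNH.le)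
  let π := QuotientGroup.mk' N
  let e : (↥H ⧸ N.subgroupOf H) ≃* H.map π :=
    (QuotientGroup.quotientMulEquivOfEq (by
      ext x
      rw [Subgroup.mem_subgroupOf, MonoidHom.mem_ker]
      exact ((Iff.of_eq Subtype.ext_iff.eq).trans (QuotientGroup.eq_one_iff (x : G))).symm)).trans
    (QuotientGroup.quotientKerEquivOfSurjective (π.subgroupMap H) (π.subgroupMap_surjective H))
  have hdvd : ∀ r : ℕ, r.Prime → n < 2 * r → r ≤ n → r ∣ Nat.card (↥H ⧸ N.subgroupOf H) := by
    intro r hr h1 h2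
    have h3 : r ∣ Nat.card H := hsame p r hp hr hp1 hp2 h1 h2 H hH hpH
    rw [Subgroup.card_eq_card_quotient_mul_card_subgroup (N.subgroupOf H),
      Nat.card_congr (Subgroup.subgroupOfEquivOfLe hNH.le).toEquiv] at h3
    exact (hr.dvd_mul.mp h3).resolve_right (hnot r hr h1 h2)
  haveI : (H.map π).Normal := Subgroup.Normal.map hH _ (QuotientGroup.mk'_surjective N)
  have hmin : ∀ K : Subgroup (G ⧸ N), K.Normal → K ≠ ⊥ → K ≤ H.map π → K = H.map π := by
    intro K hK hKne hKle
    have hle : K.comap π ≤ H := by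
      refine (Subgroup.comap_mono hKle).trans ?_
      rw [Subgroup.comap_map_eq, QuotientGroup.ker_mk']
      exact sup_le le_rfl hNH.le
    rcases lt_or_eq_of_le hle with hlt | heq
    · exfalso
      have hge : N ≤ K.comap π := QuotientGroup.le_comap_mk' N K
      have h1 := hNmax ⟨hK.comap π, hlt⟩ hge
      apply hKne
      rw [← Subgroup.map_comap_eq_self_of_surjective (QuotientGroup.mk'_surjective N) K,
        eq_bot_iff]
      rintro _ ⟨x, hx, rfl⟩
      exact (QuotientGroup.eq_one_iff x).mpr (h1 hx)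
    · rw [← heq, Subgroup.map_comap_eq_self_of_surjective (QuotientGroup.mk'_surjective N)]
  have hcardM : Nat.card (H.map π) = Nat.card (↥H ⧸ N.subgroupOf H) := (Nat.card_congr e.toEquiv).symm
  have hna : ¬ IsMulCommutative (H.map π) := by
    intro hc
    haveI := Fact.mk hp
    haveI := Fact.mk hq
    obtain ⟨x, hx⟩ := exists_prime_orderOf_dvd_card' (G := H.map π) p (hcardM ▸ hdvd p hp hp1 hp2)
    obtain ⟨y, hy⟩ := exists_prime_orderOf_dvd_card' (G := H.map π) q (hcardM ▸ hdvd q hq hq1 hq2)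
    have hxy : orderOf (x * y) = p * q := by
      rw [(show Commute x y from mul_comm' x y).orderOf_mul_eq_mul_orderOf_of_coprime
        (by rw [hx, hy]; exact (Nat.coprime_primes hp hq).mpr hpq), hx, hy]
    obtain ⟨z, hz⟩ := QuotientGroup.mk'_surjective N ((x * y : H.map π) : G ⧸ N)
    obtain ⟨m, hm⟩ : p * q ∣ orderOf z := by
      rw [← hxy, ← Subgroup.orderOf_coe, ← hz]
      exact orderOf_map_dvd _ z
    have hm0 : m ≠ 0 := fun e => by rw [e, mul_zero] at hm; exact (orderOf_pos z).ne' hm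
    exact hno p q hp hq hpq hp1 hq1 (z ^ m) (by
      rw [orderOf_pow_of_dvd hm0 ⟨p * q, by rw [hm, mul_comm]⟩, hm,
        Nat.mul_div_cancel _ (Nat.pos_of_ne_zero hm0)])
  have hsimple : IsSimpleGroup (H.map π) := by
    refine simple_of_once hmin hna hp (hcardM ▸ hdvd p hp hp1 hp2) fun h => ?_
    apply (honce p hp hp1 hp2).2
    exact h.trans ((Subgroup.card_map_dvd _ _).trans (Subgroup.card_subgroup_dvd_card H))
  haveI := hsimple
  refine ⟨N, H, hN, hH, hNH, e.isSimpleGroup, fun hc => hna ⟨⟨fun a b => ?_⟩⟩, hdvd⟩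
  have h := congrArg e (hc.is_comm.comm (e.symm a) (e.symm b))
  rwa [map_mul, map_mul, e.apply_symm_apply, e.apply_symm_apply] at h

end Cfsg.Agent.S3420
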