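import Cfsg.Statements.S3421
import Cfsg.Agent.Lib.SpecPSL2.Main
import Cfsg.Agent.Lib.SpecPSL2.Even
import Cfsg.Agent.S2475
set_option autoImplicit false
set_option linter.style.haveILetI false
open Cfsg

namespace Cfsg.Agent.S3421

/-- Let F be a finite field with more than 3 elements. A finite group G is isomorphic to PSL(2, F) if and only if G has the same set of element orders and the same order as PSL(2, F). -/
theorem result {G : Type*} [Group G] [Finite G] {F : Type*} [Field F] [Fintype F] (hF : 3 < Fintype.card F) :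
    Nonempty (G ≃* Matrix.ProjectiveSpecialLinearGroup (Fin 2) F) ↔
      (Set.range (orderOf : G → ℕ) = Set.range (orderOf : Matrix.ProjectiveSpecialLinearGroup (Fin 2) F → ℕ) ∧
        Nat.card G = Nat.card (Matrix.ProjectiveSpecialLinearGroup (Fin 2) F)) := by
  constructor
  · rintro ⟨e⟩
    refine ⟨?_, Nat.card_congr e.toEquiv⟩
    rw [← e.surjective.range_comp]
    exact congrArg Set.range (funext fun g => (e.orderOf_eq g).symm)
  rintro ⟨hspec, hcard⟩
  haveI : Fact (ringChar F).Prime := ⟨CharP.char_is_prime F (ringChar F)⟩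
  set p := ringChar F with hp
  obtain ⟨f, hpr, hq⟩ := FiniteField.card F p
  rw [Cfsg.Agent.S2475.result (F := F) p (by omega)] at hspec
  have hP := CfsgLib.Classical.card_PSL_two (F := F)
  rw [← hcard] at hP
  have hord : ∀ g : G, orderOf g ∣ p ∨
      orderOf g ∣ (Fintype.card F - 1) / Nat.gcd 2 (Fintype.card F - 1) ∨
      orderOf g ∣ (Fintype.card F + 1) / Nat.gcd 2 (Fintype.card F - 1) := fun g =>
    hspec.le (Set.mem_range_self g)
  have hA : ∃ g : G, orderOf g = (Fintype.card F - 1) / Nat.gcd 2 (Fintype.card F - 1) :=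
    hspec.ge (Or.inr (Or.inl dvd_rfl))
  have hB : ∃ g : G, orderOf g = (Fintype.card F + 1) / Nat.gcd 2 (Fintype.card F - 1) :=
    hspec.ge (Or.inr (Or.inr dvd_rfl))
  by_cases hp2 : p = 2
  · obtain ⟨T, hTo⟩ : ∃ T : Sylow 2 G, Nat.card (T : Subgroup G) = Fintype.card F := by
      haveI : Fact (Nat.Prime 2) := ⟨Nat.prime_two⟩
      refine ⟨default, ?_⟩
      have hgcd : Nat.gcd 2 (Fintype.card F - 1) = 1 := by
        refine Nat.prime_two.coprime_iff_not_dvd.mpr fun hd => ?_
        have : 2 ∣ Fintype.card F := hq ▸ hp2 ▸ dvd_pow_self _ f.pos.ne'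
        omega
      rw [hgcd, one_mul] at hP
      rw [Sylow.card_eq_multiplicity, hP]
      have h2 : ¬ 2 ∣ Fintype.card F ^ 2 - 1 := fun hd => by
        have : 2 ∣ Fintype.card F ^ 2 := dvd_pow (hq ▸ hp2 ▸ dvd_pow_self _ f.pos.ne') two_ne_zero
        have : 1 ≤ Fintype.card F ^ 2 := Nat.one_le_pow _ _ (by omega)
        omega
      have h16 : 4 ^ 2 ≤ Fintype.card F ^ 2 := Nat.pow_le_pow_left hF 2
      rw [Nat.factorization_mul (by omega) (by omega), Finsupp.coe_add, Pi.add_apply,
        Nat.factorization_eq_zero_of_not_dvd h2, add_zero, hq, hp2, Nat.prime_two.factorization_pow,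
        Finsupp.single_eq_same]
    exact CfsgLib.SpecPSL2.iso_even (f := f) (by rw [hq, hp2]) hF (by rwa [hp2] at hord) hA hB T hTo
  · have hodd : Odd (Fintype.card F) := hq ▸ (hpr.odd_of_ne_two hp2).pow
    obtain ⟨j, hj⟩ := hodd
    have hgcd : Nat.gcd 2 (Fintype.card F - 1) = 2 := Nat.gcd_eq_left ⟨j, by omega⟩
    rw [hgcd] at hP hord hA hB
    rw [show (Fintype.card F - 1) / 2 = j by omega, show (Fintype.card F + 1) / 2 = j + 1 by omega]
      at hord
    rw [show (Fintype.card F - 1) / 2 = j by omega] at hA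
    rw [show (Fintype.card F + 1) / 2 = j + 1 by omega] at hB
    have hc : Nat.card G = 2 * Fintype.card F * j * (j + 1) := by
      have e : Fintype.card F ^ 2 - 1 = 4 * (j * (j + 1)) := by
        rw [hj, show (2 * j + 1) ^ 2 = 4 * (j * (j + 1)) + 1 by ring, Nat.add_sub_cancel]
      rw [e] at hP
      nlinarith
    rcases Nat.even_or_odd j with he | he
    · exact CfsgLib.SpecPSL2.Data.iso (n := j) (m := j + 1)
        ⟨hpr, ⟨f, hq⟩, hp2, by omega, Or.inl ⟨by omega, rfl⟩, he, hc, hord, hA, hB⟩ rfl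
    · exact CfsgLib.SpecPSL2.Data.iso (n := j + 1) (m := j)
        ⟨hpr, ⟨f, hq⟩, hp2, by omega, Or.inr ⟨by omega, rfl⟩, he.add_one, by rw [hc]; ring,
          fun g => (hord g).imp_right Or.symm, hB, hA⟩ rfl

end Cfsg.Agent.S3421
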