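import Cfsg.Statements.S3427
import Cfsg.Agent.Lib.UThreeUnique.Reduce

set_option autoImplicit false
open Cfsg

namespace Cfsg.Agent.S3427

/-- Let F be the field with 2 elements and let M be the Chevalley group of type G₂ over F (a non-simple group of order 12096 whose derived subgroup, of index 2, is isomorphic to PSU(3, 3)). A finite group G is isomorphic to M if and only if G has the same set of element orders and the same order as M. -/
theorem result {G : Type*} [Group G] [Finite G] {F : Type*} [Field F] [Fintype F] (hF : Fintype.card F = 2) :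
    Nonempty (G ≃* ↥(Cfsg.Lie.chevG2.group F)) ↔
      (Set.range (orderOf : G → ℕ) = Set.range (orderOf : ↥(Cfsg.Lie.chevG2.group F) → ℕ) ∧ Nat.card G = Nat.card ↥(Cfsg.Lie.chevG2.group F)) := by
  constructor
  · rintro ⟨e⟩
    refine ⟨?_, Nat.card_congr e.toEquiv⟩
    ext n
    constructor
    · rintro ⟨g, rfl⟩
      exact ⟨e g, MulEquiv.orderOf_eq e g⟩
    · rintro ⟨g, rfl⟩
      exact ⟨e.symm g, MulEquiv.orderOf_eq e.symm g⟩
  · rintro ⟨hr, hc⟩
    have key : ∀ n, (∀ g : ↥(Cfsg.Lie.chevG2.group F), orderOf g ≠ n) → ∀ g : G, orderOf g ≠ n := by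
      intro n h g hg
      have hm : n ∈ Set.range (orderOf : G → ℕ) := ⟨g, hg⟩
      rw [hr] at hm
      obtain ⟨g', hg'⟩ := hm
      exact h g' hg'
    exact CfsgLib.UThreeUnique.nonempty_equiv_chev hF
      (hc.trans (CfsgLib.UThreeUnique.card_chev hF))
      (key 9 (CfsgLib.UThreeUnique.no_nine hF)) (key 14 (CfsgLib.UThreeUnique.no_fourteen hF))
      (key 21 (CfsgLib.UThreeUnique.no_twentyone hF))

end Cfsg.Agent.S3427
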