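import Cfsg.Statements.S3430
import Cfsg.Agent.Lib.NumberTheory.PrimitivePart

set_option autoImplicit false
open Cfsg

namespace Cfsg.Agent.S3430

/-- Let q, n ≥ 2 be integers. Unless (n = 2 and q + 1 = 2^s·3^t for some s ≥ 0 and t ≤ 1), or (q = 2 and n ∈ {4, 6, 10, 12, 18}), or (q = 3 and n ∈ {4, 6}), or (q, n) = (5, 6), there is a prime p dividing q^n − 1 but no q^i − 1 with 1 ≤ i < n (a primitive prime divisor), such that p > n + 1 or p² divides q^n − 1. -/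
theorem result (q n : ℕ) (hq : 2 ≤ q) (hn : 2 ≤ n)
    (h1 : ¬ (n = 2 ∧ ∃ s t : ℕ, t ≤ 1 ∧ q + 1 = 2 ^ s * 3 ^ t))
    (h2 : ¬ (q = 2 ∧ (n = 4 ∨ n = 6 ∨ n = 10 ∨ n = 12 ∨ n = 18)))
    (h3 : ¬ (q = 3 ∧ (n = 4 ∨ n = 6))) (h4 : ¬ (q = 5 ∧ n = 6)) :
    ∃ p : ℕ, p.Prime ∧ p ∣ q ^ n - 1 ∧ (∀ i : ℕ, 1 ≤ i → i < n → ¬ p ∣ q ^ i - 1) ∧ (n + 1 < p ∨ p ^ 2 ∣ q ^ n - 1) := by
  rcases Nat.lt_or_ge n 3 with hn3 | hn3
  · obtain rfl : n = 2 := by omega
    have hfac : q ^ 2 - 1 = (q + 1) * (q - 1) := by rw [← Nat.sq_sub_sq q 1, one_pow]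
    have hprim : ∀ p : ℕ, p.Prime → 3 ≤ p → p ∣ q + 1 → ∀ i : ℕ, 1 ≤ i → i < 2 → ¬ p ∣ q ^ i - 1 := by
      intro p hp hp3 hd i hi hi2 hd1
      obtain rfl : i = 1 := by omega
      rw [pow_one] at hd1
      have h := Nat.dvd_sub hd hd1
      rw [show q + 1 - (q - 1) = 2 by omega] at h
      have := Nat.le_of_dvd (by norm_num) h
      omega
    by_cases hbig : ∃ p : ℕ, p.Prime ∧ p ∣ q + 1 ∧ 3 < p
    · obtain ⟨p, hp, hd, h3⟩ := hbig
      exact ⟨p, hp, hfac ▸ hd.mul_right _, hprim p hp (by omega) hd, Or.inl (by omega)⟩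
    · push Not at hbig
      obtain ⟨t, w, hw, hqw⟩ := Nat.exists_eq_pow_mul_and_not_dvd (show q + 1 ≠ 0 by omega) 3 (by norm_num)
      have hw2 : w = 2 ^ w.primeFactorsList.length :=
        Nat.eq_prime_pow_of_unique_prime_dvd (by rintro rfl; simp at hqw) fun {d} hd hdw => by
          have hle := hbig d hd (hqw ▸ hdw.mul_left _)
          have hne : d ≠ 3 := fun e => hw (e ▸ hdw)
          have := hd.two_le
          omega
      have ht : 2 ≤ t := by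
        by_contra hlt
        exact h1 ⟨rfl, w.primeFactorsList.length, t, by omega, by rw [← hw2, hqw, mul_comm]⟩
      have h9 : 3 ^ 2 ∣ q + 1 := hqw ▸ (pow_dvd_pow 3 ht).mul_right _
      exact ⟨3, Nat.prime_three, hfac ▸ ((dvd_pow_self 3 (by norm_num)).trans h9).mul_right _,
        hprim 3 Nat.prime_three le_rfl ((dvd_pow_self 3 (by norm_num)).trans h9), Or.inr (hfac ▸ h9.mul_right _)⟩
  · by_cases hexc : (q, n) ∈ [(2, 6), (2, 4), (2, 10), (2, 12), (2, 18), (3, 4), (3, 6), (5, 6), (2, 3), (2, 8), (2, 20), (4, 3), (4, 6)]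
    · simp only [List.mem_cons, Prod.mk.injEq, List.not_mem_nil, or_false] at hexc
      have key : ∀ p : ℕ, p.Prime → p ∣ q ^ n - 1 → n + 1 < p → (∀ i ∈ List.range' 1 (n - 1), ¬ p ∣ q ^ i - 1) →
            ∃ p : ℕ, p.Prime ∧ p ∣ q ^ n - 1 ∧ (∀ i : ℕ, 1 ≤ i → i < n → ¬ p ∣ q ^ i - 1) ∧ (n + 1 < p ∨ p ^ 2 ∣ q ^ n - 1) :=
        fun p hp hd hlt hall => ⟨p, hp, hd, fun i hi hin => hall i (List.mem_range'_1.2 ⟨hi, by omega⟩), Or.inl hlt⟩
      rcases hexc with ⟨rfl, rfl⟩ | ⟨rfl, rfl⟩ | ⟨rfl, rfl⟩ | ⟨rfl, rfl⟩ | ⟨rfl, rfl⟩ | ⟨rfl, rfl⟩ | ⟨rfl, rfl⟩ | ⟨rfl, rfl⟩ | ⟨rfl, rfl⟩ | ⟨rfl, rfl⟩ | ⟨rfl, rfl⟩ | ⟨rfl, rfl⟩ | ⟨rfl, rfl⟩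
      · exact absurd ⟨rfl, by decide⟩ h2
      · exact absurd ⟨rfl, by decide⟩ h2
      · exact absurd ⟨rfl, by decide⟩ h2
      · exact absurd ⟨rfl, by decide⟩ h2
      · exact absurd ⟨rfl, by decide⟩ h2
      · exact absurd ⟨rfl, by decide⟩ h3
      · exact absurd ⟨rfl, by decide⟩ h3
      · exact absurd ⟨rfl, rfl⟩ h4
      · exact key 7 (by norm_num) (by norm_num) (by norm_num) (by decide +kernel)
      · exact key 17 (by norm_num) (by norm_num) (by norm_num) (by decide +kernel)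
      · exact key 41 (by norm_num) (by norm_num) (by norm_num) (by decide +kernel)
      · exact key 7 (by norm_num) (by norm_num) (by norm_num) (by decide +kernel)
      · exact key 13 (by norm_num) (by norm_num) (by norm_num) (by decide +kernel)
    · obtain ⟨m, ⟨hd, hco⟩, hle⟩ := CfsgLib.NumberTheory.PrimitivePart.exists_prim hq hn3 hexc
      have hprim : ∀ p : ℕ, p.Prime → p ∣ m → ∀ i : ℕ, 1 ≤ i → i < n → ¬ p ∣ q ^ i - 1 :=
        fun p hp hpm i hi hin hpi => hp.not_dvd_one ((hco i hi hin) ▸ Nat.dvd_gcd hpm hpi)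
      by_contra hno
      push Not at hno
      have hfac : ∀ p : ℕ, p.Prime → p ∣ m → p = n + 1 ∧ ¬ p ^ 2 ∣ m := by
        intro p hp hpm
        obtain ⟨hle', hsq⟩ := hno p hp (hpm.trans hd) (hprim p hp hpm)
        refine ⟨?_, fun h => hsq (h.trans hd)⟩
        haveI := Fact.mk hp
        have hone : ((q : ℕ) : ZMod p) ^ n = 1 :=
          (CfsgLib.NumberTheory.dvd_pow_sub_one_iff (by omega)).1 (hpm.trans hd)
        have hq0 : ((q : ℕ) : ZMod p) ≠ 0 := fun e => by rw [e, zero_pow (by omega)] at hone; exact zero_ne_one hone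
        have hord : orderOf ((q : ℕ) : ZMod p) = n := by
          refine le_antisymm (Nat.le_of_dvd (by omega) (orderOf_dvd_of_pow_eq_one hone)) ?_
          by_contra hlt
          exact hprim p hp hpm _ (orderOf_pos_iff.2 (isOfFinOrder_iff_pow_eq_one.2 ⟨n, by omega, hone⟩))
            (by omega) ((CfsgLib.NumberTheory.dvd_pow_sub_one_iff (by omega)).2 (pow_orderOf_eq_one _))
        have := CfsgLib.NumberTheory.order_lt hq0
        omega
      obtain ⟨p, hp, hpm⟩ := Nat.exists_prime_and_dvd (show m ≠ 1 by omega)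
      obtain ⟨hpn, hsq⟩ := hfac p hp hpm
      obtain ⟨w, rfl⟩ := hpm
      have hw1 : w ≠ 1 := by rintro rfl; rw [mul_one] at hle; omega
      obtain ⟨r, hr, hrw⟩ := Nat.exists_prime_and_dvd hw1
      have hrp := (hfac r hr (hrw.mul_left _)).1
      exact hsq (by rw [pow_two]; exact Nat.mul_dvd_mul_left _ ((hrp.trans hpn.symm) ▸ hrw))

end Cfsg.Agent.S3430
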