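import Cfsg.Statements.S3431
import Cfsg.Agent.Lib.SameOrder.Alt
import Cfsg.Agent.Lib.SameOrder.Simple
import Cfsg.Agent.S0228
import Cfsg.Agent.S0494
import Cfsg.Agent.S0497

set_option autoImplicit false
open Cfsg

namespace Cfsg.Agent.S3431

/-- Let n be 4, 5 or 6 and let G be a finite group whose set of sizes of same-order classes (the set of numbers #{g : o(g) = m} over the element orders m of G) equals that of the alternating group of degree n. Then G is isomorphic to that alternating group. -/
theorem result {G : Type*} [Group G] [Finite G] (n : ℕ) (hn : n = 4 ∨ n = 5 ∨ n = 6)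
    (h : ((fun m : ℕ => Nat.card {g : G // orderOf g = m}) '' Set.range (orderOf : G → ℕ)) = ((fun m : ℕ => Nat.card {g : ↥(alternatingGroup (Fin n)) // orderOf g = m}) '' Set.range (orderOf : ↥(alternatingGroup (Fin n)) → ℕ))) :
    Nonempty (G ≃* ↥(alternatingGroup (Fin n))) := by
  obtain rfl | rfl | rfl := hn
  · have hV : CfsgLib.SameOrder.ValueSet G 3 [8] := CfsgLib.SameOrder.valueSet_of h
      (fun g => by
        obtain ⟨e2, e3⟩ := CfsgLib.SameOrder.cn_alt_four
        rcases CfsgLib.SameOrder.orders_alt_four g with e | e | e <;> rw [e] <;>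
          simp [CfsgLib.SameOrder.cn_one, e2, e3])
      (fun v hv => by
        obtain ⟨e2, e3⟩ := CfsgLib.SameOrder.cn_alt_four
        simp only [List.mem_cons, List.not_mem_nil, or_false] at hv
        rcases hv with rfl | rfl
        exacts [⟨2, e2, by norm_num⟩, ⟨3, e3, by norm_num⟩])
    obtain ⟨hN, hg⟩ := CfsgLib.SameOrder.table hV ⟨by norm_num, by norm_num, by decide⟩
      CfsgLib.SameOrder.cert_four CfsgLib.SameOrder.search_four
    refine Cfsg.Agent.S0228.result hN fun z hz hzc => ?_
    haveI : Fact (Nat.Prime 3) := ⟨Nat.prime_three⟩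
    obtain ⟨x, hx⟩ := exists_prime_orderOf_dvd_card' (G := G) 3 (by rw [hN]; norm_num)
    have h6 : orderOf (z * x) = 6 := by
      rw [Commute.orderOf_mul_eq_mul_orderOf_of_coprime (Subgroup.mem_center_iff.mp hzc x).symm
        (by rw [hz, hx]; norm_num), hz, hx]
    have := hg (z * x)
    simp [h6] at this
  · have hV : CfsgLib.SameOrder.ValueSet G 15 [20, 24] := CfsgLib.SameOrder.valueSet_of h
      (fun g => by
        obtain ⟨e2, e3, e5⟩ := CfsgLib.SameOrder.cn_alt_five
        rcases CfsgLib.SameOrder.orders_alt_five g with e | e | e | e <;> rw [e] <;>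
          simp [CfsgLib.SameOrder.cn_one, e2, e3, e5])
      (fun v hv => by
        obtain ⟨e2, e3, e5⟩ := CfsgLib.SameOrder.cn_alt_five
        simp only [List.mem_cons, List.not_mem_nil, or_false] at hv
        rcases hv with rfl | rfl | rfl
        exacts [⟨2, e2, by norm_num⟩, ⟨3, e3, by norm_num⟩, ⟨5, e5, by norm_num⟩])
    obtain ⟨hN, hg⟩ := CfsgLib.SameOrder.table hV ⟨by norm_num, by norm_num, by decide⟩
      CfsgLib.SameOrder.cert_five CfsgLib.SameOrder.search_five
    have hcn : ∀ p, p.Prime → p ∣ Nat.card G →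
        (p, CfsgLib.SameOrder.cn G p) ∈ [(1, 1), (2, 15), (3, 20), (5, 24)] := fun p hp hd => by
      haveI : Fact p.Prime := ⟨hp⟩
      obtain ⟨x, hx⟩ := exists_prime_orderOf_dvd_card' (G := G) p hd
      exact hx ▸ hg x
    haveI := CfsgLib.SameOrder.isSimple_aux (G := G) (Or.inl hN)
      (fun g => by
        have := hg g
        simp only [List.mem_cons, List.not_mem_nil, or_false, Prod.mk.injEq] at this
        omega)
      (fun _ => by simpa using hcn 3 Nat.prime_three (by rw [hN]; norm_num))
      (fun _ => by simpa using hcn 5 (by norm_num) (by rw [hN]; norm_num))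
      (fun e => by omega) (fun e => by omega)
    exact Cfsg.Agent.S0494.result hN
  · have hV : CfsgLib.SameOrder.ValueSet G 45 [80, 90, 144] := CfsgLib.SameOrder.valueSet_of h
      (fun g => by
        obtain ⟨e2, e3, e4, e5⟩ := CfsgLib.SameOrder.cn_alt_six
        rcases CfsgLib.SameOrder.orders_alt_six g with e | e | e | e | e <;> rw [e] <;>
          simp [CfsgLib.SameOrder.cn_one, e2, e3, e4, e5])
      (fun v hv => by
        obtain ⟨e2, e3, e4, e5⟩ := CfsgLib.SameOrder.cn_alt_six
        simp only [List.mem_cons, List.not_mem_nil, or_false] at hv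
        rcases hv with rfl | rfl | rfl | rfl
        exacts [⟨2, e2, by norm_num⟩, ⟨3, e3, by norm_num⟩, ⟨4, e4, by norm_num⟩, ⟨5, e5, by norm_num⟩])
    obtain ⟨hN, hg⟩ := CfsgLib.SameOrder.table hV ⟨by norm_num, by norm_num, by decide⟩
      CfsgLib.SameOrder.cert_six CfsgLib.SameOrder.search_six
    have hcn : ∀ p, p.Prime → p ∣ Nat.card G → (p, CfsgLib.SameOrder.cn G p) ∈
        [(1, 1), (2, 45), (3, 80), (4, 90), (5, 144)] := fun p hp hd => by
      haveI : Fact p.Prime := ⟨hp⟩
      obtain ⟨x, hx⟩ := exists_prime_orderOf_dvd_card' (G := G) p hd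
      exact hx ▸ hg x
    haveI := CfsgLib.SameOrder.isSimple_aux (G := G) (Or.inr hN)
      (fun g => by
        have := hg g
        simp only [List.mem_cons, List.not_mem_nil, or_false, Prod.mk.injEq] at this
        omega)
      (fun e => by omega) (fun e => by omega)
      (fun _ => by simpa using hcn 3 Nat.prime_three (by rw [hN]; norm_num))
      (fun _ => by simpa using hcn 5 (by norm_num) (by rw [hN]; norm_num))
    exact Cfsg.Agent.S0497.result hN

end Cfsg.Agent.S3431
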