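import Cfsg.Statements.S3433
import Cfsg.Agent.Lib.OneToFive.Structure
import Cfsg.Agent.Lib.OneToFive.Range

set_option autoImplicit false
open Cfsg

namespace Cfsg.Agent.S3433

/-- A finite group whose set of element orders is exactly {1, 2, 3, 4, 5} is isomorphic to the alternating group of degree 6, or has a normal elementary abelian 2-subgroup with quotient isomorphic to the alternating group of degree 5. -/
theorem result {G : Type*} [Group G] [Finite G] (h : Set.range (orderOf : G → ℕ) = {k : ℕ | 1 ≤ k ∧ k ≤ 5}) :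
    Nonempty (G ≃* ↥(alternatingGroup (Fin 6))) ∨
      ∃ (N : Subgroup G) (_ : N.Normal), Cfsg.IsElementaryAbelian 2 N ∧ Nonempty (G ⧸ N ≃* ↥(alternatingGroup (Fin 5))) := by
  have hmem : ∀ g : G, 1 ≤ orderOf g ∧ orderOf g ≤ 5 := fun g => by
    have := Set.mem_range_self (f := (orderOf : G → ℕ)) g
    rw [h] at this
    exact this
  have hG := CfsgLib.OneToFive.spec_of_range hmem
  have hex : ∀ k, 1 ≤ k → k ≤ 5 → ∃ g : G, orderOf g = k := fun k h1 h5 => by
    have : k ∈ Set.range (orderOf : G → ℕ) := h.symm ▸ ⟨h1, h5⟩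
    exact this
  obtain ⟨a, ha⟩ := hex 2 (by norm_num) (by norm_num)
  obtain ⟨b, hb⟩ := hex 3 (by norm_num) (by norm_num)
  obtain ⟨c, hc⟩ := hex 5 (by norm_num) (by norm_num)
  have hns : ¬ Group.IsSolvable G := CfsgLib.OneToFive.not_solvable
    (fun g => (eq_or_ne g 1).symm.imp hG.isPrimePow id) ha hb hc
  rcases CfsgLib.OneToFive.structure_cases hG hns with h6 | ⟨R, hR, hcomm, hsq, h5⟩
  · exact Or.inl h6
  · exact Or.inr ⟨R, hR, ⟨⟨⟨fun x y => Subtype.ext (hcomm x x.2 y y.2)⟩⟩, fun x hx => by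
      rw [pow_two]; exact hsq x hx⟩, h5⟩

end Cfsg.Agent.S3433
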