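import Cfsg.Statements.S3437
import Cfsg.Agent.Lib.Spectrum.CubicOrder
import Cfsg.Agent.Lib.Spectrum.DivBound
import Cfsg.Agent.Lib.Spectrum.FrobeniusMatrix
import Cfsg.Agent.Lib.Spectrum.FpfFortyEight
import Cfsg.Agent.Lib.Classical.A8Subgroups

set_option autoImplicit false
set_option linter.style.haveILetI false
open Cfsg

namespace Cfsg.Agent.S3437

open Matrix CfsgLib.Spectrum

theorem bound : ∀ t s : ZMod 3, ∃ N ∈ [3, 13, 8, 4, 6, 2], Cubic.coef t s N = (0, 0, 1) := by
  decide +kernel

/-- Witness of order thirteen. -/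
def w13 : Matrix (Fin 3) (Fin 3) (ZMod 3) := !![0, 0, 1; 1, 0, 1; 0, 1, 0]
/-- Witness of order eight. -/
def w8 : Matrix (Fin 3) (Fin 3) (ZMod 3) := !![0, 1, 0; 1, 1, 0; 0, 0, 2]
/-- Witness of order six. -/
def w6 : Matrix (Fin 3) (Fin 3) (ZMod 3) := !![2, 2, 0; 0, 2, 0; 0, 0, 1]

theorem w13_det : w13.det = 1 := by decide +kernel
theorem w8_det : w8.det = 1 := by decide +kernel
theorem w6_det : w6.det = 1 := by decide +kernel

theorem w13_order : orderOf w13 = 13 := by
  rw [orderOf_eq_iff (by norm_num)]; decide +kernel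
theorem w8_order : orderOf w8 = 8 := by
  rw [orderOf_eq_iff (by norm_num)]; decide +kernel
theorem w6_order : orderOf w6 = 6 := by
  rw [orderOf_eq_iff (by norm_num)]; decide +kernel

theorem range_SL {F : Type*} [Field F] (e : ZMod 3 ≃+* F) :
    Set.range (orderOf : Matrix.SpecialLinearGroup (Fin 3) F → ℕ) =
      ↑({1, 2, 3, 4, 6, 8, 13} : Finset ℕ) := by
  refine DivBound.range_eq (L := [3, 13, 8, 4, 6, 2]) (by decide +kernel) (fun g => ?_) ?_
  · obtain ⟨t, ht⟩ := e.surjective g.1.trace
    obtain ⟨s, hs⟩ := e.surjective (Cubic.minorSum g.1)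
    obtain ⟨N, hN, hc⟩ := bound t s
    refine ⟨N, hN, Matrix.SpecialLinearGroup.ext _ _ fun i j => congrFun (congrFun (?_ : (↑(g ^ N) : Matrix (Fin 3) (Fin 3) F) = ↑(1 : Matrix.SpecialLinearGroup (Fin 3) F)) i) j⟩
    rw [Matrix.SpecialLinearGroup.coe_pow, Matrix.SpecialLinearGroup.coe_one]
    exact Cubic.pow_eq_one e.toRingHom g.1 g.2 t s ht.symm hs.symm N hc
  · let mk : Matrix.SpecialLinearGroup (Fin 3) (ZMod 3) →* Matrix.SpecialLinearGroup (Fin 3) F :=
      Matrix.SpecialLinearGroup.map e.toRingHom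
    have hinj : Function.Injective mk := fun a b h => Subtype.ext <|
      Matrix.map_injective e.injective (congrArg Subtype.val h)
    let coeHom : Matrix.SpecialLinearGroup (Fin 3) (ZMod 3) →* Matrix (Fin 3) (Fin 3) (ZMod 3) :=
      { toFun := fun a => a.1, map_one' := rfl, map_mul' := fun _ _ => rfl }
    have key : ∀ a, orderOf (mk a) = orderOf a.1 := fun a => by
      rw [orderOf_injective mk hinj]
      exact (orderOf_injective coeHom Subtype.val_injective a).symm
    have g8 := (key ⟨w8, w8_det⟩).trans w8_order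
    have g6 := (key ⟨w6, w6_det⟩).trans w6_order
    have g13 := (key ⟨w13, w13_det⟩).trans w13_order
    intro n hn
    simp only [Finset.mem_insert, Finset.mem_singleton] at hn
    rcases hn with rfl | rfl | rfl | rfl | rfl | rfl | rfl
    · exact ⟨1, orderOf_one⟩
    · exact ⟨_, Cubic.orderOf_pow_div g8 (k := 4) (by norm_num) rfl⟩
    · exact ⟨_, Cubic.orderOf_pow_div g6 (k := 2) (by norm_num) rfl⟩
    · exact ⟨_, Cubic.orderOf_pow_div g8 (k := 2) (by norm_num) rfl⟩
    · exact ⟨_, g6⟩
    · exact ⟨_, g8⟩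
    · exact ⟨_, g13⟩

theorem range_C : Set.range FpfFortyEight.ord = ↑({1, 2, 3, 4, 6, 8} : Finset ℕ) := by
  refine Set.Subset.antisymm ?_ ?_
  · rintro _ ⟨i, rfl⟩
    simpa using FpfFortyEight.ord_mem i
  · intro n hn
    have h : ∀ n ∈ ({1, 2, 3, 4, 6, 8} : Finset ℕ), ∃ i, FpfFortyEight.ord i = n := by decide +kernel
    exact h n hn

/-- There is a finite solvable group with exactly the same set of element orders as the simple group PSL(3,3). -/
theorem result {F : Type*} [Field F] [Fintype F] (hF : Fintype.card F = 3) :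
    ∃ (H : Type) (_ : Group H) (_ : Fintype H), Group.IsSolvable H ∧
      Set.range (orderOf : H → ℕ) = Set.range (orderOf : Matrix.ProjectiveSpecialLinearGroup (Fin 3) F → ℕ) := by
  have hcard : Nat.card F = 3 := by rw [Nat.card_eq_fintype_card, hF]
  let e : ZMod 3 ≃+* F := ZMod.ringEquivOfPrime F (by norm_num) hF
  have hcen : Subgroup.center (Matrix.SpecialLinearGroup (Fin 3) F) = ⊥ := by
    refine (Subgroup.eq_bot_iff_forall _).2 fun g hg => ?_
    obtain ⟨r, hr, hg'⟩ := Matrix.SpecialLinearGroup.mem_center_iff.1 hg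
    have : r = 1 := by
      have h3 : r ^ Fintype.card F = r := FiniteField.pow_card r
      rw [hF] at h3
      rw [Fintype.card_fin] at hr
      exact h3.symm.trans hr
    apply Subtype.ext
    show g.1 = ((1 : Matrix.SpecialLinearGroup (Fin 3) F) : Matrix (Fin 3) (Fin 3) F)
    rw [← hg', this, map_one, Matrix.SpecialLinearGroup.coe_one]
  haveI : Fintype FpfFortyEight.K := Fintype.ofEquiv _ (QuadraticAlgebra.equivProd 2 0).symm
  haveI : Finite (FrobMat.Grp FpfFortyEight.C) := Finite.of_equiv _ SemidirectProduct.equivProd.symm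
  haveI : Nontrivial FpfFortyEight.K := ⟨0, 1, by decide +kernel⟩
  refine ⟨FrobMat.Grp FpfFortyEight.C, inferInstance, Fintype.ofFinite _, ?_, ?_⟩
  · exact FrobMat.isSolvable _ (CfsgLib.AEightSub.isSolvable_of_card_lt FpfFortyEight.card_lt)
  · rw [DivBound.range_quotient _ hcen, range_SL e,
      FrobMat.orders FpfFortyEight.C (p := 13) (by norm_num) (by decide +kernel) FpfFortyEight.fix_free,
      FpfFortyEight.range_orderOf, range_C]
    ext n
    simp
    tauto

end Cfsg.Agent.S3437
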