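import Cfsg.Statements.S3438
import Cfsg.Agent.Lib.Spectrum.CubicOrder
import Cfsg.Agent.Lib.Spectrum.DivBound
import Cfsg.Agent.Lib.Spectrum.FrobeniusMatrix
import Cfsg.Agent.Lib.Spectrum.FpfTwentyFour
import Cfsg.Agent.Lib.Classical.A8Subgroups
import Cfsg.Agent.Lib.FormRep.Unitary

set_option autoImplicit false
set_option linter.style.haveILetI false
open Cfsg

namespace Cfsg.Agent.S3438

open Matrix CfsgLib.Spectrum

/-- The field with nine elements. -/
abbrev K9 : Type := QuadraticAlgebra (ZMod 3) 2 0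

instance : Fact (∀ r : ZMod 3, r ^ 2 ≠ 2 + 0 * r) := ⟨by decide +kernel⟩
instance : Fintype K9 := Fintype.ofEquiv _ (QuadraticAlgebra.equivProd 2 0).symm

theorem card_K9 : Nat.card K9 = 9 := by
  rw [Nat.card_congr (QuadraticAlgebra.equivProd (R := ZMod 3) 2 0)]; simp

theorem bound : ∀ t : K9, ∃ N ∈ [3, 7, 8, 12, 6, 4, 2], Cubic.coef t (t * t * t) N = (0, 0, 1) := by
  intro ⟨x, y⟩; revert x y; decide +kernel

/-- Witness of order seven. -/
def w7 : Matrix (Fin 3) (Fin 3) K9 :=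
  !![⟨0, 0⟩, ⟨0, 0⟩, ⟨0, 1⟩; ⟨1, 1⟩, ⟨1, 1⟩, ⟨0, 0⟩; ⟨1, 1⟩, ⟨2, 2⟩, ⟨0, 0⟩]
/-- Witness of order eight. -/
def w8 : Matrix (Fin 3) (Fin 3) K9 :=
  !![⟨0, 2⟩, ⟨0, 2⟩, ⟨2, 2⟩; ⟨0, 2⟩, ⟨0, 2⟩, ⟨1, 1⟩; ⟨2, 2⟩, ⟨1, 1⟩, ⟨0, 0⟩]
/-- Witness of order twelve. -/
def w12 : Matrix (Fin 3) (Fin 3) K9 :=
  !![⟨2, 2⟩, ⟨1, 0⟩, ⟨0, 2⟩; ⟨1, 0⟩, ⟨0, 1⟩, ⟨1, 2⟩; ⟨0, 1⟩, ⟨2, 1⟩, ⟨0, 1⟩]

theorem w7_spec : w7.det = 1 ∧ (w7.map fun x => x * x * x)ᵀ * w7 = 1 := by decide +kernel
theorem w8_spec : w8.det = 1 ∧ (w8.map fun x => x * x * x)ᵀ * w8 = 1 := by decide +kernel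
theorem w12_spec : w12.det = 1 ∧ (w12.map fun x => x * x * x)ᵀ * w12 = 1 := by decide +kernel

theorem w7_order : orderOf w7 = 7 := by
  rw [orderOf_eq_iff (by norm_num)]; decide +kernel
theorem w8_order : orderOf w8 = 8 := by
  rw [orderOf_eq_iff (by norm_num)]; decide +kernel
theorem w12_order : orderOf w12 = 12 := by
  rw [orderOf_eq_iff (by norm_num)]; decide +kernel

variable {F : Type*} [Field F]

theorem range_SU (e : K9 ≃+* F) (σ : F ≃+* F) (hσq : ∀ c, σ c = c ^ 3) (hσ : ∀ c, σ (σ c) = c) :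
    Set.range (orderOf : SU 3 F 3 → ℕ) = ↑({1, 2, 3, 4, 6, 7, 8, 12} : Finset ℕ) := by
  refine DivBound.range_eq (L := [3, 7, 8, 12, 6, 4, 2]) (by decide +kernel) (fun g => ?_) ?_
  · set M : Matrix (Fin 3) (Fin 3) F := (g.1 : Matrix (Fin 3) (Fin 3) F) with hM
    obtain ⟨t, ht⟩ := e.surjective M.trace
    obtain ⟨N, hN, hc⟩ := bound t
    have hu : (M.map σ)ᵀ * M = 1 := (CfsgLib.FormRep.Unitary.mem_SU_iff σ hσq hσ).1 g.2
    have hd : M.det = 1 := g.1.2
    have hadj : adjugate M = (M.map σ)ᵀ := by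
      calc adjugate M = ((M.map σ)ᵀ * M) * adjugate M := by rw [hu, Matrix.one_mul]
        _ = (M.map σ)ᵀ * (M * adjugate M) := Matrix.mul_assoc _ _ _
        _ = (M.map σ)ᵀ := by rw [mul_adjugate, hd, one_smul, Matrix.mul_one]
    have hs : Cubic.minorSum M = e.toRingHom (t * t * t) := by
      rw [← Cubic.trace_adjugate, hadj, Matrix.trace_transpose]
      have : (M.map σ).trace = σ M.trace := by
        simp [Matrix.trace, map_sum]
      rw [this, hσq, ← ht, map_mul, map_mul]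
      show _ = e t * e t * e t
      ring
    refine ⟨N, hN, Subtype.ext (Subtype.ext ?_)⟩
    have := Cubic.pow_eq_one e.toRingHom M hd t (t * t * t) ht.symm hs N hc
    simpa [hM] using this
  · let toSL : ∀ (W : Matrix (Fin 3) (Fin 3) K9), W.det = 1 →
        Matrix.SpecialLinearGroup (Fin 3) F := fun W h => ⟨W.map e, by
          rw [← RingEquiv.coe_toRingHom, ← RingHom.mapMatrix_apply, ← RingHom.map_det, h, map_one]⟩
    have mem : ∀ (W : Matrix (Fin 3) (Fin 3) K9) (h : W.det = 1),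
        (W.map fun x => x * x * x)ᵀ * W = 1 → toSL W h ∈ SU 3 F 3 := by
      intro W h hu
      rw [CfsgLib.FormRep.Unitary.mem_SU_iff σ hσq hσ]
      show ((W.map e).map σ)ᵀ * W.map e = 1
      have h1 : (W.map e).map σ = (W.map fun x => x * x * x).map e := by
        ext i j
        simp [hσq, pow_succ]
      rw [h1, ← Matrix.transpose_map]
      show Matrix.map _ e.toRingHom * Matrix.map _ e.toRingHom = 1
      rw [← Matrix.map_mul, hu]
      exact Matrix.map_one _ (map_zero e) (map_one e)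
    let coeHom : SU 3 F 3 →* Matrix (Fin 3) (Fin 3) F :=
      { toFun := fun a => (a.1 : Matrix (Fin 3) (Fin 3) F), map_one' := rfl, map_mul' := fun _ _ => rfl }
    have key : ∀ (W : Matrix (Fin 3) (Fin 3) K9) (h : W.det = 1)
        (hu : (W.map fun x => x * x * x)ᵀ * W = 1),
        orderOf (⟨toSL W h, mem W h hu⟩ : SU 3 F 3) = orderOf W := by
      intro W h hu
      rw [← orderOf_injective coeHom (fun a b hab => Subtype.ext (Subtype.ext hab))]
      exact orderOf_injective e.toRingHom.mapMatrix.toMonoidHom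
        (Matrix.map_injective e.injective) W
    have g7 := (key w7 w7_spec.1 w7_spec.2).trans w7_order
    have g8 := (key w8 w8_spec.1 w8_spec.2).trans w8_order
    have g12 := (key w12 w12_spec.1 w12_spec.2).trans w12_order
    intro n hn
    simp only [Finset.mem_insert, Finset.mem_singleton] at hn
    rcases hn with rfl | rfl | rfl | rfl | rfl | rfl | rfl | rfl
    · exact ⟨1, orderOf_one⟩
    · exact ⟨_, Cubic.orderOf_pow_div g8 (k := 4) (by norm_num) rfl⟩
    · exact ⟨_, Cubic.orderOf_pow_div g12 (k := 4) (by norm_num) rfl⟩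
    · exact ⟨_, Cubic.orderOf_pow_div g8 (k := 2) (by norm_num) rfl⟩
    · exact ⟨_, Cubic.orderOf_pow_div g12 (k := 2) (by norm_num) rfl⟩
    · exact ⟨_, g7⟩
    · exact ⟨_, g8⟩
    · exact ⟨_, g12⟩

theorem range_C : Set.range FpfTwentyFour.ord = ↑({1, 2, 3, 4, 6, 8, 12} : Finset ℕ) := by
  refine Set.Subset.antisymm ?_ ?_
  · rintro _ ⟨i, rfl⟩
    simpa using FpfTwentyFour.ord_mem i
  · intro n hn
    have h : ∀ n ∈ ({1, 2, 3, 4, 6, 8, 12} : Finset ℕ), ∃ i, FpfTwentyFour.ord i = n := by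
      decide +kernel
    exact h n hn

/-- There is a finite solvable group with exactly the same set of element orders as the simple group PSU(3,3) (realised over the field with 9 elements). -/
theorem result {F : Type*} [Field F] [Fintype F] (hF : Fintype.card F = 9) :
    ∃ (H : Type) (_ : Group H) (_ : Fintype H), Group.IsSolvable H ∧ Set.range (orderOf : H → ℕ) = Set.range (orderOf : Cfsg.PSU 3 F 3 → ℕ) := by
  haveI : Fintype K9 := inferInstance
  let e : K9 ≃+* F := Classical.choice <| by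
    exact ⟨FiniteField.ringEquivOfCardEq (K := K9) (K' := F)
      (by rw [hF, ← Nat.card_eq_fintype_card, card_K9])⟩
  haveI : CharP K9 3 := charP_of_injective_algebraMap (algebraMap (ZMod 3) K9).injective 3
  haveI : Fact (Nat.Prime 3) := ⟨by norm_num⟩
  let σ : F ≃+* F := RingEquiv.ofBijective
    ((e.toRingHom.comp (frobenius K9 3)).comp e.symm.toRingHom)
    (Finite.injective_iff_bijective.mp (RingHom.injective _))
  have hσq : ∀ c, σ c = c ^ 3 := fun c => by
    show e ((e.symm c) ^ 3) = _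
    rw [map_pow, e.apply_symm_apply]
  have hσ : ∀ c, σ (σ c) = c := fun c => by
    rw [hσq, hσq, ← pow_mul, show 3 * 3 = Fintype.card F from hF.symm, FiniteField.pow_card]
  have hcen : Subgroup.center (SU 3 F 3) = ⊥ := by
    refine (Subgroup.eq_bot_iff_forall _).2 fun g hg => ?_
    obtain ⟨c, hc⟩ := (CfsgLib.FormRep.Unitary.center_iff (le_refl 3) (by rw [hF]; norm_num) σ hσq hσ g).1 hg
    have hd : (g.1 : Matrix (Fin 3) (Fin 3) F).det = 1 := g.1.2
    rw [hc, det_smul, det_one, mul_one, Fintype.card_fin] at hd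
    have : c = 1 := by
      have h : σ c = σ 1 := by rw [hσq, hd, map_one]
      exact σ.injective h
    refine Subtype.ext (Subtype.ext ?_)
    rw [hc, this, one_smul]; rfl
  haveI : Fintype FpfTwentyFour.K := Fintype.ofEquiv _ (QuadraticAlgebra.equivProd 6 0).symm
  haveI : Finite (FrobMat.Grp FpfTwentyFour.C) := Finite.of_equiv _ SemidirectProduct.equivProd.symm
  haveI : Nontrivial FpfTwentyFour.K := ⟨0, 1, by decide +kernel⟩
  refine ⟨FrobMat.Grp FpfTwentyFour.C, inferInstance, Fintype.ofFinite _, ?_, ?_⟩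
  · exact FrobMat.isSolvable _ (CfsgLib.AEightSub.isSolvable_of_card_lt FpfTwentyFour.card_lt)
  · rw [DivBound.range_quotient _ hcen, range_SU e σ hσq hσ,
      FrobMat.orders FpfTwentyFour.C (p := 7) (by norm_num) (by decide +kernel) FpfTwentyFour.fix_free,
      FpfTwentyFour.range_orderOf, range_C]
    ext n
    simp
    tauto

end Cfsg.Agent.S3438
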