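import Cfsg.Statements.S3443
import Mathlib

set_option autoImplicit false
open Cfsg

namespace Cfsg.Agent.S3443

/-- Let G be a finite group and V a normal elementary abelian subgroup of G (abelian of prime exponent p, possibly trivial). Then the semidirect product V ⋊ G, with G acting on V by conjugation, has exactly the same set of element orders as G. -/
theorem result {G : Type*} [Group G] [Finite G] (V : Subgroup G) [V.Normal] (p : ℕ) (hp : p.Prime)
    (hcomm : ∀ x y : V, x * y = y * x) (hexp : ∀ x : V, x ^ p = 1) :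
    Set.range (orderOf : V ⋊[MulAut.conjNormal] G → ℕ) = Set.range (orderOf : G → ℕ) := by
  let φ : V ⋊[MulAut.conjNormal] G →* G :=
    SemidirectProduct.lift V.subtype (MonoidHom.id G) (fun g => by ext v; simp)
  have hinj : Function.Injective (φ.prod SemidirectProduct.rightHom) := by
    intro a b h
    have h1 : a.right = b.right := congrArg Prod.snd h
    have h2 : (a.left : G) * a.right = (b.left : G) * b.right := congrArg Prod.fst h
    rw [h1, mul_left_inj] at h2
    exact SemidirectProduct.ext (Subtype.ext h2) h1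
  ext n
  constructor
  · rintro ⟨x, rfl⟩
    have hx : orderOf x = Nat.lcm (orderOf (φ x)) (orderOf x.right) := by
      rw [← orderOf_injective (φ.prod SemidirectProduct.rightHom) hinj x, Prod.orderOf]
      rfl
    have hker : ∀ (a b : G), a * b⁻¹ ∈ V → orderOf a ∣ orderOf b * p := by
      intro a b hab
      rw [orderOf_dvd_iff_pow_eq_one, pow_mul]
      have hmem : a ^ orderOf b ∈ V := by
        rw [← QuotientGroup.eq_one_iff, QuotientGroup.mk_pow]
        have : (a : G ⧸ V) = (b : G ⧸ V) := by
          rw [← mul_inv_eq_one, ← QuotientGroup.mk_inv, ← QuotientGroup.mk_mul,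
            QuotientGroup.eq_one_iff]
          exact hab
        rw [this, ← QuotientGroup.mk_pow, pow_orderOf_eq_one, QuotientGroup.mk_one]
      simpa using congrArg Subtype.val (hexp ⟨_, hmem⟩)
    have hb : φ x * x.right⁻¹ ∈ V := by
      show ((x.left : G) * x.right) * x.right⁻¹ ∈ V
      simp
    have ha := hker _ _ hb
    have hc := hker x.right (φ x) (by simpa using V.inv_mem hb)
    by_cases hd : orderOf (φ x) ∣ orderOf x.right
    · exact ⟨x.right, by rw [hx, Nat.lcm_eq_right hd]⟩
    by_cases hd' : orderOf x.right ∣ orderOf (φ x)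
    · exact ⟨φ x, by rw [hx, Nat.lcm_eq_left hd']⟩
    exfalso
    have h1 : ∀ a b : ℕ, 0 < b → a ∣ b * p → ¬ a ∣ b → Nat.lcm a b = b * p := by
      intro a b hb0 hab hnd
      obtain ⟨k, hk⟩ := Nat.dvd_lcm_right a b
      have hkp : k ∣ p := Nat.dvd_of_mul_dvd_mul_left hb0
        (hk ▸ Nat.lcm_dvd hab (dvd_mul_right b p))
      rcases (Nat.dvd_prime hp).1 hkp with rfl | rfl
      · rw [mul_one] at hk
        exact absurd (hk ▸ Nat.dvd_lcm_left a b) hnd
      · exact hk
    have e1 := h1 _ _ (orderOf_pos x.right) ha hd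
    have e2 := h1 _ _ (orderOf_pos (φ x)) hc hd'
    rw [Nat.lcm_comm, e1] at e2
    exact hd ((mul_right_cancel₀ hp.ne_zero e2) ▸ dvd_rfl)
  · rintro ⟨g, rfl⟩
    exact ⟨SemidirectProduct.inr g, orderOf_injective _ SemidirectProduct.inr_injective g⟩

end Cfsg.Agent.S3443
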