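import Cfsg.Statements.S3448
import Cfsg.Agent.Lib.Spectrum.Alternating

set_option autoImplicit false
set_option linter.style.haveILetI false
open Cfsg

namespace Cfsg.Agent.S3448

open CfsgLib.AltSpectrum Equiv

theorem exists5 {n : ℕ} (hn : n ∈ ({1, 2, 3, 5} : Finset ℕ)) :
    ∃ g : alternatingGroup (Fin 5), orderOf g = n := by
  simp only [Finset.mem_insert, Finset.mem_singleton] at hn
  rcases hn with rfl | rfl | rfl | rfl
  · exact ⟨1, orderOf_one⟩
  · exact mem_range 2 (c[(0 : Fin 5), 1] * c[2, 3]) (by decide +kernel) (by decide +kernel) (by omega) (by decide +kernel)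
  · exact mem_range 3 (c[(0 : Fin 5), 1, 2]) (by decide +kernel) (by decide +kernel) (by omega) (by decide +kernel)
  · exact mem_range 5 (c[(0 : Fin 5), 1, 2, 3, 4]) (by decide +kernel) (by decide +kernel) (by omega) (by decide +kernel)

/-- The set of element orders of the direct product of two copies of the alternating group of degree 5 is {1, 2, 3, 5, 6, 10, 15}. (It is shared by the direct product of two Frobenius groups of orders 50 and 75, so this direct product is not determined by its element orders.) -/
theorem result : Set.range (orderOf : alternatingGroup (Fin 5) × alternatingGroup (Fin 5) → ℕ) = {1, 2, 3, 5, 6, 10, 15} := by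
  refine Set.Subset.antisymm ?_ ?_
  · rintro _ ⟨g, rfl⟩
    have key : ∀ a ∈ ({1, 2, 3, 5} : Finset ℕ), ∀ b ∈ ({1, 2, 3, 5} : Finset ℕ),
        Nat.lcm a b ∈ ({1, 2, 3, 5, 6, 10, 15} : Finset ℕ) := by decide
    have := key _ (orderOf_five g.1) _ (orderOf_five g.2)
    rw [← Prod.orderOf] at this
    simpa using this
  · intro n hn
    simp only [Set.mem_insert_iff, Set.mem_singleton_iff] at hn
    have mk : ∀ a b : ℕ, a ∈ ({1, 2, 3, 5} : Finset ℕ) → b ∈ ({1, 2, 3, 5} : Finset ℕ) →
        Nat.lcm a b ∈ Set.range (orderOf : alternatingGroup (Fin 5) × alternatingGroup (Fin 5) → ℕ) := by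
      intro a b ha hb
      obtain ⟨x, rfl⟩ := exists5 ha
      obtain ⟨y, rfl⟩ := exists5 hb
      exact ⟨(x, y), Prod.orderOf _⟩
    rcases hn with rfl | rfl | rfl | rfl | rfl | rfl | rfl
    · exact mk 1 1 (by decide) (by decide)
    · exact mk 1 2 (by decide) (by decide)
    · exact mk 1 3 (by decide) (by decide)
    · exact mk 1 5 (by decide) (by decide)
    · exact mk 2 3 (by decide) (by decide)
    · exact mk 2 5 (by decide) (by decide)
    · exact mk 3 5 (by decide) (by decide)

end Cfsg.Agent.S3448
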