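import Cfsg.Statements.S3449
import Cfsg.Agent.Lib.Spectrum.Alternating

set_option autoImplicit false
set_option linter.style.haveILetI false
open Cfsg

namespace Cfsg.Agent.S3449

open CfsgLib.AltSpectrum Equiv

theorem exists5 {n : ℕ} (hn : n ∈ ({1, 2, 3, 5} : Finset ℕ)) :
    ∃ g : alternatingGroup (Fin 5), orderOf g = n := by
  simp only [Finset.mem_insert, Finset.mem_singleton] at hn
  rcases hn with rfl | rfl | rfl | rfl
  · exact ⟨1, orderOf_one⟩
  · exact mem_range 2 (c[(0 : Fin 5), 1] * c[2, 3]) (by decide +kernel) (by decide +kernel) (by omega) (by decide +kernel)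
  · exact mem_range 3 (c[(0 : Fin 5), 1, 2]) (by decide +kernel) (by decide +kernel) (by omega) (by decide +kernel)
  · exact mem_range 5 (c[(0 : Fin 5), 1, 2, 3, 4]) (by decide +kernel) (by decide +kernel) (by omega) (by decide +kernel)

/-- The direct product of three copies of the alternating group of degree 5 has exactly the same set of element orders as the cyclic group of order 30, namely the divisors of 30; in particular a direct power of a non-abelian simple group need not be determined by its element orders. -/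
theorem result : Set.range (orderOf : alternatingGroup (Fin 5) × alternatingGroup (Fin 5) × alternatingGroup (Fin 5) → ℕ) =
      Set.range (orderOf : Multiplicative (ZMod 30) → ℕ) := by
  have hR : ∀ n : ℕ, n ∈ Set.range (orderOf : Multiplicative (ZMod 30) → ℕ) ↔ n ∣ 30 := fun n => by
    constructor
    · rintro ⟨g, rfl⟩
      have := orderOf_dvd_natCard g
      simpa using this
    · intro hn
      obtain ⟨g, hg⟩ := IsCyclic.exists_ofOrder_eq_natCard (α := Multiplicative (ZMod 30))
      have hg' : orderOf g = 30 := by rw [hg]; simp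
      exact ⟨g ^ (orderOf g / n), orderOf_pow_orderOf_div (by omega) (hg'.symm ▸ hn)⟩
  ext n
  rw [hR]
  constructor
  · rintro ⟨g, rfl⟩
    rw [Prod.orderOf, Prod.orderOf]
    refine Nat.lcm_dvd ?_ (Nat.lcm_dvd ?_ ?_) <;>
    · have key : ∀ a ∈ ({1, 2, 3, 5} : Finset ℕ), a ∣ 30 := by decide
      first | exact key _ (orderOf_five g.1) | exact key _ (orderOf_five g.2.1) | exact key _ (orderOf_five g.2.2)
  · intro hn
    have key : ∀ n ∈ Finset.range 31, n ∣ 30 → ∃ a ∈ ({1, 2, 3, 5} : Finset ℕ), ∃ b ∈ ({1, 2, 3, 5} : Finset ℕ),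
        ∃ c ∈ ({1, 2, 3, 5} : Finset ℕ), Nat.lcm a (Nat.lcm b c) = n := by decide +kernel
    obtain ⟨a, ha, b, hb, c, hc, rfl⟩ := key n (Finset.mem_range.mpr (Nat.lt_succ_of_le (Nat.le_of_dvd (by omega) hn))) hn
    obtain ⟨x, rfl⟩ := exists5 ha
    obtain ⟨y, rfl⟩ := exists5 hb
    obtain ⟨z, rfl⟩ := exists5 hc
    exact ⟨(x, y, z), by rw [Prod.orderOf, Prod.orderOf]⟩

end Cfsg.Agent.S3449
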