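import Cfsg.Statements.S3452
import Cfsg.Agent.Lib.Spectrum.PGLTwo
import Cfsg.Agent.Lib.Spectrum.PSLTwoModule
import Cfsg.Agent.Lib.Spectrum.FiveEight
import Cfsg.Agent.Lib.Perm.Isospectral
import Cfsg.Agent.Lib.Classical.A8Subgroups

set_option autoImplicit false
set_option linter.style.haveILetI false
open Cfsg

namespace Cfsg.Agent.S3452


open Matrix
open scoped MatrixGroups

theorem large_prime (p : ℕ) [Fact p.Prime] (h5 : 5 ≤ p) (N : ℕ) :
    ∃ (H : Type) (_ : Group H) (_ : Fintype H), N < Fintype.card H ∧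
      Set.range (orderOf : H → ℕ) = {m : ℕ | m ∣ p ∨ m ∣ p - 1 ∨ m ∣ p + 1} := by
  classical
  have hp : p.Prime := Fact.out
  have hodd : Odd p := hp.odd_of_ne_two (by omega)
  let G := CfsgLib.PSLTwoModule.V p ⋊[CfsgLib.PSLTwoModule.act p] ProjectiveSpecialLinearGroup (Fin 2) (ZMod p)
  haveI : Finite (CfsgLib.PSLTwoModule.V p) :=
    Finite.of_injective (fun v : CfsgLib.PSLTwoModule.V p =>
      (v.toAdd : ProjectiveSpecialLinearGroup (Fin 2) (ZMod p) → ZMod 2))
      (fun a b h => Multiplicative.toAdd.injective (Subtype.ext h))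
  have hq : Nat.card (ZMod p) = p := Nat.card_zmod p
  have hg2 : Nat.gcd 2 (p - 1) = 2 := Nat.gcd_eq_left (by obtain ⟨k, hk⟩ := hodd; omega)
  have hS := CfsgLib.SL2.spectrum_PSL (F := ZMod p) p (by rw [hq]; omega)
  rw [hq, hg2] at hS
  obtain ⟨g₁, hg₁, -, hc₁⟩ := CfsgLib.SL2.exists_regular_split (F := ZMod p) (by rw [hq]; omega)
  obtain ⟨g₂, hg₂, -, hc₂⟩ := CfsgLib.SL2.exists_regular_nonsplit (F := ZMod p)
  have e₁ := CfsgLib.SL2.card_map_proj (CfsgLib.SL2.center_le_cent g₁)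
  have e₂ := CfsgLib.SL2.card_map_proj (CfsgLib.SL2.center_le_cent g₂)
  rw [hc₁, hq, hg2] at e₁
  rw [hc₂, hq, hg2] at e₂
  obtain ⟨a₁, v₁, ha₁, hv₁⟩ := CfsgLib.PSLTwoModule.exists_norm_ne h5 g₁ hg₁
  obtain ⟨a₂, v₂, ha₂, hv₂⟩ := CfsgLib.PSLTwoModule.exists_norm_ne h5 g₂ hg₂
  haveI : Nontrivial (CfsgLib.PSLTwoModule.V p) := ⟨v₁, 1, fun h => hv₁ (by
    rw [h, CfsgLib.SpectrumExt.norm, CfsgLib.SpectrumExt.normPow]; simp)⟩
  haveI : (SemidirectProduct.inl : CfsgLib.PSLTwoModule.V p →* G).range.Normal := by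
    rw [SemidirectProduct.range_inl_eq_ker_rightHom]; infer_instance
  haveI : Group.IsSolvable (SemidirectProduct.inl : CfsgLib.PSLTwoModule.V p →* G).range :=
    Group.isSolvable_of_surjective (f := (SemidirectProduct.inl : CfsgLib.PSLTwoModule.V p →* G).rangeRestrict)
      (MonoidHom.rangeRestrict_surjective _)
  obtain ⟨H, i1, i2, hcard, hr⟩ := CfsgLib.Isospectral.exists_large
    (SemidirectProduct.inl : CfsgLib.PSLTwoModule.V p →* G).range
    (CfsgLib.SpectrumExt.range_ne_bot _) N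
  refine ⟨H, i1, i2, hcard, hr.trans ?_⟩
  rw [CfsgLib.SpectrumExt.range_eq (CfsgLib.PSLTwoModule.act p) Nat.prime_two (CfsgLib.PSLTwoModule.exp_two p)]
  have hh1 : 2 * ((p - 1) / 2) = p - 1 := by obtain ⟨k, hk⟩ := hodd; omega
  have hh2 : 2 * ((p + 1) / 2) = p + 1 := by obtain ⟨k, hk⟩ := hodd; omega
  ext m
  constructor
  · rintro (hm | ⟨a, ⟨v, hv⟩, rfl⟩)
    · rw [hS] at hm
      rcases hm with h | h | h
      · exact Or.inl h
      · exact Or.inr (Or.inl (h.trans ⟨2, by omega⟩))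
      · exact Or.inr (Or.inr (h.trans ⟨2, by omega⟩))
    · have ha : orderOf a ∈ Set.range (orderOf : ProjectiveSpecialLinearGroup (Fin 2) (ZMod p) → ℕ) :=
        ⟨a, rfl⟩
      rw [hS] at ha
      rcases ha with h | h | h
      · rcases (Nat.dvd_prime hp).mp h with h | h
        · refine Or.inr (Or.inl ?_)
          rw [h, one_mul, ← hh1]
          exact dvd_mul_right _ _
        · exact absurd (CfsgLib.PSLTwoModule.norm_of_order_p p a h v) hv
      · refine Or.inr (Or.inl ?_)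
        rw [← hh1, mul_comm 2]
        exact Nat.mul_dvd_mul_right h 2
      · refine Or.inr (Or.inr ?_)
        rw [← hh2, mul_comm 2]
        exact Nat.mul_dvd_mul_right h 2
  · have hclosed : ∀ n, n ∈ Set.range (orderOf : G → ℕ) → m ∣ n → m ∈ Set.range (orderOf : G → ℕ) := by
      rintro n ⟨x, rfl⟩ hm
      exact ⟨x ^ (orderOf x / m), orderOf_pow_orderOf_div (orderOf_pos x).ne' hm⟩
    rw [← CfsgLib.SpectrumExt.range_eq (CfsgLib.PSLTwoModule.act p) Nat.prime_two (CfsgLib.PSLTwoModule.exp_two p)]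
    rintro (h | h | h)
    · refine hclosed p ?_ h
      rw [CfsgLib.SpectrumExt.range_eq (CfsgLib.PSLTwoModule.act p) Nat.prime_two (CfsgLib.PSLTwoModule.exp_two p)]
      left
      rw [hS]
      exact Or.inl dvd_rfl
    · refine hclosed (p - 1) ?_ h
      rw [CfsgLib.SpectrumExt.range_eq (CfsgLib.PSLTwoModule.act p) Nat.prime_two (CfsgLib.PSLTwoModule.exp_two p)]
      exact Or.inr ⟨a₁, ⟨v₁, hv₁⟩, by rw [ha₁, ← e₁]; ring⟩
    · refine hclosed (p + 1) ?_ h
      rw [CfsgLib.SpectrumExt.range_eq (CfsgLib.PSLTwoModule.act p) Nat.prime_two (CfsgLib.PSLTwoModule.exp_two p)]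
      exact Or.inr ⟨a₂, ⟨v₂, hv₂⟩, by rw [ha₂, ← e₂]; ring⟩

theorem large_small (p : ℕ) [Fact p.Prime] (h5 : p < 5) (N : ℕ) :
    ∃ (H : Type) (_ : Group H) (_ : Fintype H), N < Fintype.card H ∧
      Set.range (orderOf : H → ℕ) = {m : ℕ | m ∣ p ∨ m ∣ p - 1 ∨ m ∣ p + 1} := by
  classical
  have hp : p.Prime := Fact.out
  let G := GL (Fin 2) (ZMod p) ⧸ Subgroup.center (GL (Fin 2) (ZMod p))
  have hS := CfsgLib.SpectrumPGL.spectrum_eq (F := ZMod p) p
  rw [Nat.card_zmod] at hS
  have hlt : Nat.card G < 60 := by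
    refine (Nat.le_of_dvd Nat.card_pos (Subgroup.card_quotient_dvd_card _)).trans_lt ?_
    rw [Matrix.card_GL_field, Fin.prod_univ_two, ZMod.card]
    have := hp.two_le
    interval_cases p <;> norm_num
    exact absurd hp (by norm_num)
  haveI : Group.IsSolvable G := CfsgLib.AEightSub.isSolvable_of_card_lt hlt
  haveI : Nontrivial G := by
    obtain ⟨x, hx⟩ := CfsgLib.SpectrumPGL.exists_char (F := ZMod p) p
    exact ⟨x, 1, fun h => hp.one_lt.ne (by rw [← hx, h, orderOf_one])⟩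
  obtain ⟨H, i1, i2, hcard, hr⟩ := CfsgLib.Isospectral.exists_large (⊤ : Subgroup G) top_ne_bot N
  exact ⟨H, i1, i2, hcard, hr.trans hS⟩

theorem large_nine (N : ℕ) :
    ∃ (H : Type) (_ : Group H) (_ : Fintype H), N < Fintype.card H ∧
      Set.range (orderOf : H → ℕ) = {m : ℕ | m ∣ 3 ∨ m ∣ 8 ∨ m ∣ 10} := by
  classical
  let G := CfsgLib.FiveEight.Mod ⋊[CfsgLib.FiveEight.act] CfsgLib.FiveEight.A40
  haveI : Finite CfsgLib.FiveEight.Mod := inferInstanceAs (Finite CfsgLib.FiveEight.W)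
  haveI : Nontrivial CfsgLib.FiveEight.Mod := inferInstanceAs (Nontrivial CfsgLib.FiveEight.W)
  haveI : (SemidirectProduct.inl : CfsgLib.FiveEight.Mod →* G).range.Normal := by
    rw [SemidirectProduct.range_inl_eq_ker_rightHom]; infer_instance
  haveI : Group.IsSolvable (SemidirectProduct.inl : CfsgLib.FiveEight.Mod →* G).range :=
    Group.isSolvable_of_surjective (f := (SemidirectProduct.inl : CfsgLib.FiveEight.Mod →* G).rangeRestrict)
      (MonoidHom.rangeRestrict_surjective _)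
  obtain ⟨H, i1, i2, hcard, hr⟩ := CfsgLib.Isospectral.exists_large
    (SemidirectProduct.inl : CfsgLib.FiveEight.Mod →* G).range (CfsgLib.SpectrumExt.range_ne_bot _) N
  exact ⟨H, i1, i2, hcard, hr.trans CfsgLib.FiveEight.spectrum⟩

/-- For F a finite field whose number of elements is a prime or equals 9, the group PGL(2,F) = GL(2,F)/Z(GL(2,F)) is not determined by its set of element orders: for every bound N there is a finite group of order greater than N with exactly the same set of element orders as PGL(2,F). -/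
theorem result {F : Type*} [Field F] [Fintype F] (hF : (Fintype.card F).Prime ∨ Fintype.card F = 9) (N : ℕ) :
    ∃ (H : Type) (_ : Group H) (_ : Fintype H), N < Fintype.card H ∧
      Set.range (orderOf : H → ℕ) = Set.range (orderOf : Matrix.GeneralLinearGroup (Fin 2) F ⧸ Subgroup.center (Matrix.GeneralLinearGroup (Fin 2) F) → ℕ) := by
  classical
  obtain ⟨n, hp, hn⟩ := FiniteField.card F (ringChar F)
  haveI := Fact.mk hp
  rw [CfsgLib.SpectrumPGL.spectrum_eq (F := F) (ringChar F), Nat.card_eq_fintype_card]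
  rcases hF with hF | hF
  · have hn1 : (n : ℕ) = 1 := Nat.Prime.eq_one_of_pow (hn ▸ hF)
    rw [hn, hn1, pow_one]
    by_cases h5 : 5 ≤ ringChar F
    · exact large_prime (ringChar F) h5 N
    · exact large_small (ringChar F) (by omega) N
  · have h3 : ringChar F = 3 := by
      have h : ringChar F ∣ 3 ^ 2 := by
        rw [show (3 : ℕ) ^ 2 = 9 by norm_num, ← hF, hn]
        exact dvd_pow_self _ n.pos.ne'
      exact (Nat.prime_dvd_prime_iff_eq hp Nat.prime_three).mp (hp.dvd_of_dvd_pow h)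
    rw [hF, h3]
    exact large_nine N

end Cfsg.Agent.S3452
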