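import Cfsg.Statements.S3466
import Cfsg.Agent.S3444
import Cfsg.Agent.S3439
import Cfsg.Agent.Lib.Spectrum.PSpFour.Realise
import Cfsg.Agent.Lib.Spectrum.PSpFour.Even
import Cfsg.Agent.Lib.Spectrum.PSpFour.ThreeWitness
import Cfsg.Agent.Lib.Spectrum.PSpFour.Five
-- import your own Cfsg.Agent.* helpers here

set_option autoImplicit false
open Cfsg

namespace Cfsg.Agent.S3466

/-- Let F be a finite field with q ≥ 3 elements such that q is not of the form 3^(2t+1) with t ≥ 1. Then PSp(4,F) is not determined by its set of element orders, not even up to finitely many groups: for every bound N there is a finite group of order greater than N with exactly the same set of element orders as PSp(4,F). -/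
theorem result {F : Type*} [Field F] [Fintype F] (h3 : 3 ≤ Fintype.card F) (hq : ∀ t : ℕ, 1 ≤ t → Fintype.card F ≠ 3 ^ (2 * t + 1)) (N : ℕ) :
    ∃ (H : Type) (_ : Group H) (_ : Fintype H), N < Fintype.card H ∧ Set.range (orderOf : H → ℕ) = Set.range (orderOf : Cfsg.PSp 2 F → ℕ) := by
  classical
  obtain ⟨p, hcp⟩ := CharP.exists F
  obtain ⟨⟨k, hk0⟩, hp, hF⟩ := FiniteField.card F p
  simp only [PNat.mk_coe] at hF
  haveI : Fact p.Prime := ⟨hp⟩
  have hk : k ≠ 0 := hk0.ne'
  have hs := CfsgLib.Spectrum.PSpFour.range_orderOf (F := F) p k hk hF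
  by_cases hp2 : p = 2
  · subst hp2
    rw [hs]
    refine CfsgLib.Spectrum.PSpFour.even_witness ?_ N
    rcases Nat.lt_or_ge k 2 with h | h
    · exfalso
      obtain rfl : k = 1 := by omega
      norm_num at hF
      omega
    · exact h
  by_cases hp3 : p = 3
  · subst hp3
    rcases Nat.even_or_odd k with he | ⟨t, ht⟩
    · rw [hs]
      exact CfsgLib.Spectrum.PSpFour.three_witness hk he N
    · rcases Nat.eq_zero_or_pos t with rfl | htp
      · subst ht
        norm_num at hF
        obtain ⟨H, i, j, hsol, hr⟩ := Cfsg.Agent.S3439.result (F := F) hF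
        haveI : Finite H := Finite.of_fintype H
        have hne : (⊤ : Subgroup H) ≠ ⊥ := by
          intro h
          have h5 : (5 : ℕ) ∈ Set.range (orderOf : H → ℕ) := by
            rw [hr, CfsgLib.Spectrum.SolvPSp43.range_orderOf_psp hF]
            exact Or.inl dvd_rfl
          obtain ⟨x, hx⟩ := h5
          have hx1 : x = 1 := Subgroup.mem_bot.mp (h ▸ Subgroup.mem_top x)
          rw [hx1, orderOf_one] at hx
          omega
        haveI := hsol
        have hst : Group.IsSolvable (⊤ : Subgroup H) := inferInstance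
        obtain ⟨H', i', j', hN', hr'⟩ := Cfsg.Agent.S3444.result (⊤ : Subgroup H) hne hst N
        exact ⟨H', i', j', hN', hr'.trans hr⟩
      · exact absurd (ht ▸ hF) (hq t htp)
  rw [hs]
  refine CfsgLib.Spectrum.PSpFour.five_witness ?_ hk N
  rcases Nat.lt_or_ge p 5 with h | h
  · exfalso
    interval_cases p <;> first | omega | norm_num at hp
  · exact h

end Cfsg.Agent.S3466
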