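import Cfsg.Statements.S3487
import Cfsg.Agent.Lib.D4Spectrum.Extension
-- import your own Cfsg.Agent.* helpers here

set_option autoImplicit false
open Cfsg

namespace Cfsg.Agent.S3487

/-- The triality group ³D₄(2) is not determined by its set of element orders, not even up to finitely many groups: for K the field with 8 elements and every bound N there is a finite group of order greater than N with exactly the same set of element orders as ³D₄(2) (realised over K). -/
theorem result {K : Type*} [Field K] [Fintype K] (hK : Fintype.card K = 8) (N : ℕ) : ∃ (H : Type) (_ : Group H) (_ : Fintype H), N < Fintype.card H ∧ Set.range (orderOf : H → ℕ) = Set.range (orderOf : Cfsg.Lie.twistedD4 K 2 → ℕ) := by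
  classical
  haveI : CharP K 2 := by
    have h8 : (2 : K) ^ 3 = 0 := by
      have h := Nat.cast_card_eq_zero K
      rw [hK] at h
      norm_num
      exact_mod_cast h
    exact CharTwo.of_one_ne_zero_of_two_eq_zero one_ne_zero (pow_eq_zero_iff (by norm_num) |>.1 h8)
  obtain ⟨f, hf⟩ := CfsgLib.Chev.exists_frob (q := 2) (k := 3) Nat.prime_two.prime.isPrimePow hK
  obtain ⟨om, hom⟩ := CfsgLib.D4Spec.exists_root_cubic (K := K) hK
  have hK' : Fintype.card K = 2 ^ 3 := hK
  rw [← CfsgLib.Chev.fix_eq_twistedD4 f hf hK' Nat.prime_two.prime.isPrimePow]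
  set G := (CfsgLib.Chev.endoD4 f).fix
  let E := CfsgLib.D4Spec.Ext (CfsgLib.D4Spec.rho f) N
  haveI : Finite E := Finite.of_equiv _ SemidirectProduct.equivProd.symm
  obtain ⟨H, hH, hHF, hcard, hrange⟩ := CfsgLib.D4Spec.exists_fin_model E
  refine ⟨H, hH, hHF, ?_, ?_⟩
  · rw [hcard, SemidirectProduct.card]
    have h1 : N < Nat.card (Multiplicative (Fin N → CfsgLib.D4Spec.Ix → K)) := by
      rw [Nat.card_congr Multiplicative.toAdd, Nat.card_fun, Nat.card_fun, Nat.card_fin,
        Nat.card_eq_fintype_card, hK]
      exact Nat.lt_pow_self (Nat.one_lt_pow (by simp) (by norm_num))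
    exact h1.trans_le (Nat.le_mul_of_pos_right _ Nat.card_pos)
  · rw [hrange]
    exact CfsgLib.D4Spec.range_orderOf_ext (CfsgLib.D4Spec.rho f) N
      (CfsgLib.D4Spec.norm_or_double om hom f hf hK')

end Cfsg.Agent.S3487
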