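import Cfsg.Statements.S3489
import Cfsg.Agent.Lib.Spectrum.Twisted240
import Cfsg.Agent.Lib.Spectrum.Extension
import Cfsg.Agent.Lib.Perm.Isospectral
import Cfsg.Agent.S2477

set_option autoImplicit false
set_option linter.style.haveILetI false
open Cfsg

namespace Cfsg.Agent.S3489

open CfsgLib.SpectrumExt CfsgLib.Twisted240 Matrix

theorem exists_z : ∃ z : G240, ((z : GL (Fin 4) (ZMod 7)) : Mat) = -1 ∧ orderOf z = 2 := neg_one_mem

/-- The central involution. -/
noncomputable def z : G240 := exists_z.choose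
theorem z_mat : ((z : GL (Fin 4) (ZMod 7)) : Mat) = -1 := exists_z.choose_spec.1
theorem z_ord : orderOf z = 2 := exists_z.choose_spec.2

theorem z_comm (g : G240) : g * z = z * g := by
  apply Subtype.ext; apply Units.ext
  simp [z_mat]

theorem z_sq : z * z = 1 := by rw [← pow_two, ← z_ord, pow_orderOf_eq_one]

abbrev V7 := Multiplicative (Fin 4 → ZMod 7)

/-- Linear action. -/
def act7 : G240 →* MulAut V7 where
  toFun g := AddEquiv.toMultiplicative
    { toFun := fun v => ((g : GL (Fin 4) (ZMod 7)) : Mat) *ᵥ v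
      invFun := fun v => (((g⁻¹ : G240) : GL (Fin 4) (ZMod 7)) : Mat) *ᵥ v
      left_inv := fun v => by
        dsimp only
        rw [Matrix.mulVec_mulVec, ← Units.val_mul, ← Subgroup.coe_mul, inv_mul_cancel]
        exact Matrix.one_mulVec v
      right_inv := fun v => by
        dsimp only
        rw [Matrix.mulVec_mulVec, ← Units.val_mul, ← Subgroup.coe_mul, mul_inv_cancel]
        exact Matrix.one_mulVec v
      map_add' := fun v w => Matrix.mulVec_add _ v w }
  map_one' := MulEquiv.ext fun v => congrArg Multiplicative.ofAdd (Matrix.one_mulVec v.toAdd)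
  map_mul' g h := MulEquiv.ext fun v => congrArg Multiplicative.ofAdd
    (Matrix.mulVec_mulVec v.toAdd ((g : GL (Fin 4) (ZMod 7)) : Mat) ((h : GL (Fin 4) (ZMod 7)) : Mat)).symm

/-- Functions changing sign under the central involution. -/
noncomputable def W : AddSubgroup (G240 → ZMod 3) where
  carrier := {f | ∀ x, f (x * z) = - f x}
  add_mem' := fun {f g} hf hg x => by simp [hf x, hg x, add_comm]
  zero_mem' := fun x => by simp
  neg_mem' := fun {f} hf x => by simp [hf x]

abbrev V3 := Multiplicative W

/-- Translation action. -/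
noncomputable def act3 : G240 →* MulAut V3 where
  toFun g := AddEquiv.toMultiplicative
    { toFun := fun f => ⟨fun x => (f : G240 → ZMod 3) (g⁻¹ * x), fun x => by
        show (f : G240 → ZMod 3) (g⁻¹ * (x * z)) = _
        rw [← mul_assoc]; exact f.2 _⟩
      invFun := fun f => ⟨fun x => (f : G240 → ZMod 3) (g * x), fun x => by
        show (f : G240 → ZMod 3) (g * (x * z)) = _
        rw [← mul_assoc]; exact f.2 _⟩
      left_inv := fun f => Subtype.ext (funext fun x => by simp)
      right_inv := fun f => Subtype.ext (funext fun x => by simp)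
      map_add' := fun f h => rfl }
  map_one' := MulEquiv.ext fun f => congrArg Multiplicative.ofAdd (Subtype.ext (funext fun x => by simp))
  map_mul' g h := MulEquiv.ext fun f => congrArg Multiplicative.ofAdd
    (Subtype.ext (funext fun x => by simp [mul_assoc]))

theorem exp3 (v : V3) : v ^ 3 = 1 := by
  apply Multiplicative.toAdd.injective
  apply Subtype.ext
  funext x
  simp only [toAdd_pow, toAdd_one, AddSubgroup.coe_nsmul, Pi.smul_apply, nsmul_eq_mul,
    ZeroMemClass.coe_zero, Pi.zero_apply]
  rw [show ((3 : ℕ) : ZMod 3) = 0 from ZMod.natCast_self 3, zero_mul]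

theorem exp7 (v : V7) : v ^ 7 = 1 := by
  apply Multiplicative.toAdd.injective
  funext x
  simp only [toAdd_pow, toAdd_one, Pi.smul_apply, nsmul_eq_mul, Pi.zero_apply]
  rw [show ((7 : ℕ) : ZMod 7) = 0 from ZMod.natCast_self 7, zero_mul]

theorem norm3_even (g : G240) (h : 2 ∣ orderOf g) (v : V3) : CfsgLib.SpectrumExt.norm act3 g v = 1 := by
  refine norm_eq_one_of_fpf act3 g (fun w hw => ?_) v
  set k := orderOf g / 2 with hk
  have hzk : g ^ k = z := by
    have h2 : orderOf (g ^ k) = 2 := orderOf_pow_orderOf_div (orderOf_pos g).ne' h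
    refine Subtype.ext (Units.ext ?_)
    rw [z_mat]
    refine invol_unique _ ?_ (fun e => by rw [e, orderOf_one] at h2; omega)
    rw [← pow_two, ← h2, pow_orderOf_eq_one]
  have hw' : ∀ n : ℕ, act3 (g ^ n) w = w := fun n => by
    induction n with
    | zero => simp
    | succ n ih => rw [pow_succ, map_mul, MulAut.mul_apply, hw, ih]
  have hz := hw' k
  rw [hzk] at hz
  apply Multiplicative.toAdd.injective
  apply Subtype.ext
  funext x
  have h1 : (w.toAdd : G240 → ZMod 3) (z⁻¹ * x) = (w.toAdd : G240 → ZMod 3) x :=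
    congrFun (congrArg (fun u : V3 => (u.toAdd : G240 → ZMod 3)) hz) x
  rw [inv_eq_of_mul_eq_one_right z_sq, ← z_comm, (w.toAdd).2 x] at h1
  show (w.toAdd : G240 → ZMod 3) x = 0
  have key : ∀ y : ZMod 3, -y = y → y = 0 := by decide
  exact key _ h1

theorem norm3_odd (g : G240) (h : ¬ 2 ∣ orderOf g) : ∃ v : V3, CfsgLib.SpectrumExt.norm act3 g v ≠ 1 := by
  classical
  let f : G240 → ZMod 3 := fun x => (if x = 1 then 1 else 0) - (if x = z then 1 else 0)
  have hf : f ∈ W := by
    intro x
    have h1 : x * z = 1 ↔ x = z := ⟨fun e => by rw [eq_inv_of_mul_eq_one_left e, inv_eq_of_mul_eq_one_right z_sq],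
      fun e => by rw [e, z_sq]⟩
    have h2 : x * z = z ↔ x = 1 := mul_eq_right
    simp only [f, h1, h2]
    ring
  refine ⟨Multiplicative.ofAdd ⟨f, hf⟩, fun e => ?_⟩
  have e1 := congrFun (congrArg (fun u : V3 => (u.toAdd : G240 → ZMod 3)) e) 1
  simp only [CfsgLib.SpectrumExt.norm, normPow, toAdd_prod, AddSubmonoidClass.coe_finsetSum,
    Finset.sum_apply] at e1
  have hval : ∀ i ∈ Finset.range (orderOf g),
      ((Multiplicative.toAdd (act3 (g ^ i) (Multiplicative.ofAdd (⟨f, hf⟩ : W))) : W) : G240 → ZMod 3) 1 =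
        if i = 0 then 1 else 0 := by
    intro i hi
    show f ((g ^ i)⁻¹ * 1) = _
    rw [mul_one]
    have hz : (g ^ i)⁻¹ ≠ z := fun e => h (by
      have hd := (orderOf_inv (g ^ i)).symm.trans (congrArg orderOf e)
      rw [z_ord] at hd
      exact hd ▸ orderOf_pow_dvd i)
    by_cases hi0 : i = 0
    · subst hi0
      simp only [pow_zero, inv_one] at hz ⊢
      simp [f, hz]
    · have h1 : (g ^ i)⁻¹ ≠ 1 := fun e => by
        have := Nat.le_of_dvd (Nat.pos_of_ne_zero hi0) (orderOf_dvd_of_pow_eq_one (inv_eq_one.mp e))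
        have := Finset.mem_range.mp hi
        omega
      simp [f, hi0, h1, hz]
  rw [Finset.sum_congr rfl hval, Finset.sum_ite_eq' (Finset.range (orderOf g)) 0 (fun _ => (1 : ZMod 3)),
    if_pos (Finset.mem_range.mpr (orderOf_pos g))] at e1
  exact one_ne_zero e1

theorem norm7_ne (g : G240) (hg : g ≠ 1) (v : V7) : CfsgLib.SpectrumExt.norm act7 g v = 1 :=
  norm_eq_one_of_fpf act7 g (fun w hw => by
    apply Multiplicative.toAdd.injective
    exact fpf g hg w.toAdd (congrArg Multiplicative.toAdd hw)) v

abbrev A1 := V3 ⋊[act3] G240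
/-- Action through the quotient. -/
noncomputable def act71 : A1 →* MulAut V7 := act7.comp SemidirectProduct.rightHom

/-- The alternating group of degree 10 is not determined by its set of element orders, not even up to finitely many groups: for every bound N there is a finite group of order greater than N with exactly the same set of element orders as the alternating group of degree 10. -/
theorem result (N : ℕ) : ∃ (H : Type) (_ : Group H) (_ : Fintype H), N < Fintype.card H ∧ Set.range (orderOf : H → ℕ) = Set.range (orderOf : alternatingGroup (Fin 10) → ℕ) := by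
  haveI : Nontrivial V7 := ⟨Multiplicative.ofAdd (fun _ => 1), 1, fun e =>
    (by decide : (1 : ZMod 7) ≠ 0) (congrFun (congrArg Multiplicative.toAdd e) 0)⟩
  haveI : Group.IsSolvable (SemidirectProduct.inl : V7 →* V7 ⋊[act71] A1).range :=
    Group.isSolvable_of_surjective (f := (SemidirectProduct.inl : V7 →* V7 ⋊[act71] A1).rangeRestrict)
      (MonoidHom.rangeRestrict_surjective _)
  haveI : (SemidirectProduct.inl : V7 →* V7 ⋊[act71] A1).range.Normal := by
    rw [SemidirectProduct.range_inl_eq_ker_rightHom]; infer_instance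
  obtain ⟨H, i1, i2, hcard, hr⟩ := CfsgLib.Isospectral.exists_large
    (SemidirectProduct.inl : V7 →* V7 ⋊[act71] A1).range (range_ne_bot act71) N
  refine ⟨H, i1, i2, hcard, hr.trans ?_⟩
  have hA10 : Set.range (orderOf : alternatingGroup (Fin 10) → ℕ) =
      {1, 2, 3, 4, 5, 6, 7, 8, 9, 10, 12, 15, 21} := Cfsg.Agent.S2477.result
  rw [range_eq act71 (by norm_num : Nat.Prime 7) exp7, range_eq act3 Nat.prime_three exp3, hA10]
  have hG : ∀ g : G240, orderOf g ∈ ({1, 2, 3, 4, 5, 6, 8, 10, 12} : Finset ℕ) := fun g => by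
    have key : ∀ n ∈ Finset.range 13, (n ∣ 8 ∨ n ∣ 10 ∨ n ∣ 12) → n ∈ ({1, 2, 3, 4, 5, 6, 8, 10, 12} : Finset ℕ) := by
      decide
    have h := orderOf_dvd g
    refine key _ (Finset.mem_range.mpr ?_) h
    rcases h with h | h | h <;> have := Nat.le_of_dvd (by omega) h <;> omega
  have hG' : ∀ n, (n ∣ 8 ∨ n ∣ 10 ∨ n ∣ 12) → ∃ g : G240, orderOf g = n := by
    rintro n (h | h | h)
    · obtain ⟨g, hg⟩ := exists_eight
      exact ⟨g ^ (orderOf g / n), orderOf_pow_orderOf_div (orderOf_pos g).ne' (hg ▸ h)⟩
    · obtain ⟨g, hg⟩ := exists_ten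
      exact ⟨g ^ (orderOf g / n), orderOf_pow_orderOf_div (orderOf_pos g).ne' (hg ▸ h)⟩
    · obtain ⟨g, hg⟩ := exists_twelve
      exact ⟨g ^ (orderOf g / n), orderOf_pow_orderOf_div (orderOf_pos g).ne' (hg ▸ h)⟩
  refine Set.Subset.antisymm ?_ ?_
  · rintro n ((⟨g, rfl⟩ | ⟨g, ⟨v, hv⟩, rfl⟩) | ⟨a, ⟨v, hv⟩, rfl⟩)
    · have := hG g
      simp only [Finset.mem_insert, Finset.mem_singleton] at this
      rcases this with e | e | e | e | e | e | e | e | e <;> simp [e]
    · have hodd : ¬ 2 ∣ orderOf g := fun h => hv (norm3_even g h v)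
      have := hG g
      simp only [Finset.mem_insert, Finset.mem_singleton] at this
      rcases this with e | e | e | e | e | e | e | e | e <;> rw [e] at hodd ⊢ <;>
        first | (exfalso; revert hodd; norm_num; done) | simp
    · have hg : a.right = 1 := by
        by_contra h
        apply hv
        refine norm_eq_one_of_fpf act71 a (fun w hw => ?_) v
        apply Multiplicative.toAdd.injective
        exact fpf a.right h w.toAdd (congrArg Multiplicative.toAdd hw)
      have h3 : orderOf a ∣ 3 := by
        have ha : a = SemidirectProduct.inl a.left := SemidirectProduct.ext rfl hg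
        rw [ha, orderOf_injective _ SemidirectProduct.inl_injective]
        exact orderOf_dvd_of_pow_eq_one (exp3 _)
      rcases (Nat.dvd_prime Nat.prime_three).mp h3 with e | e <;> rw [e] <;> simp
  · intro n hn
    have small : ∀ m, (m ∣ 8 ∨ m ∣ 10 ∨ m ∣ 12) → n = m → n ∈ Set.range (orderOf : G240 → ℕ) := by
      rintro m hm rfl
      exact hG' _ hm
    have nine : ∀ m, m ∈ ({3, 5} : Finset ℕ) → n = m * 3 →
        n ∈ {n | ∃ a : G240, (∃ v, CfsgLib.SpectrumExt.norm act3 a v ≠ 1) ∧ n = orderOf a * 3} := by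
      intro m hm e
      obtain ⟨g, hg⟩ := hG' m (by fin_cases hm <;> norm_num)
      refine ⟨g, norm3_odd g ?_, by rw [hg, e]⟩
      rw [hg]; fin_cases hm <;> norm_num
    have seven : ∀ m, (∃ a : A1, a.right = 1 ∧ orderOf a = m) → n = m * 7 →
        n ∈ {n | ∃ a : A1, (∃ v, CfsgLib.SpectrumExt.norm act71 a v ≠ 1) ∧ n = orderOf a * 7} := by
      rintro m ⟨a, ha, hm⟩ e
      refine ⟨a, ⟨Multiplicative.ofAdd (fun _ => 1), norm_ne_one_of_fixed act71 (by norm_num : Nat.Prime 7)
        exp7 a _ ?_ (fun e => ?_) ?_⟩, by rw [hm, e]⟩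
      · show act7 a.right _ = _
        rw [ha, map_one]; rfl
      · have := congrFun (congrArg Multiplicative.toAdd e) 0
        exact (by decide : (1 : ZMod 7) ≠ 0) this
      · intro hd
        have h3 : orderOf a ∣ 3 := by
          have hal : a = SemidirectProduct.inl a.left := SemidirectProduct.ext rfl ha
          rw [hal, orderOf_injective _ SemidirectProduct.inl_injective]
          exact orderOf_dvd_of_pow_eq_one (exp3 _)
        exact absurd (hd.trans h3) (by norm_num)
    simp only [Set.mem_insert_iff, Set.mem_singleton_iff] at hn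
    rcases hn with h | h | h | h | h | h | h | h | h | h | h | h | h
    · exact Or.inl (Or.inl (small 1 (by norm_num) h))
    · exact Or.inl (Or.inl (small 2 (by norm_num) h))
    · exact Or.inl (Or.inl (small 3 (by norm_num) h))
    · exact Or.inl (Or.inl (small 4 (by norm_num) h))
    · exact Or.inl (Or.inl (small 5 (by norm_num) h))
    · exact Or.inl (Or.inl (small 6 (by norm_num) h))
    · exact Or.inr (seven 1 ⟨1, rfl, orderOf_one⟩ h)
    · exact Or.inl (Or.inl (small 8 (by norm_num) h))
    · exact Or.inl (Or.inr (nine 3 (by simp) h))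
    · exact Or.inl (Or.inl (small 10 (by norm_num) h))
    · exact Or.inl (Or.inl (small 12 (by norm_num) h))
    · exact Or.inl (Or.inr (nine 5 (by simp) h))
    · refine Or.inr (seven 3 ?_ h)
      obtain ⟨v, hv⟩ := norm3_odd 1 (by simp)
      refine ⟨SemidirectProduct.inl (CfsgLib.SpectrumExt.norm act3 1 v), rfl, ?_⟩
      rw [orderOf_injective _ SemidirectProduct.inl_injective]
      haveI := Fact.mk Nat.prime_three
      exact orderOf_eq_prime (exp3 _) hv

end Cfsg.Agent.S3489
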