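import Cfsg.Statements.S3491
import Cfsg.Agent.Lib.Spectrum.Alternating
import Cfsg.Agent.Lib.Spectrum.Extension
import Cfsg.Agent.Lib.Perm.Isospectral
import Cfsg.Agent.Lib.SL2.PSL

set_option autoImplicit false
set_option linter.style.haveILetI false
open Cfsg

namespace Cfsg.Agent.S3491

open CfsgLib.SpectrumExt CfsgLib.AltSpectrum Equiv Matrix

abbrev F4 := GaloisField 2 2
abbrev A4 := Matrix.SpecialLinearGroup (Fin 2) F4
abbrev V4 := Multiplicative (Fin 2 → F4)

/-- The natural action. -/
noncomputable def nat : A4 →* MulAut V4 where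
  toFun g := AddEquiv.toMultiplicative (Matrix.SpecialLinearGroup.toLin' g).toAddEquiv
  map_one' := by rw [map_one]; rfl
  map_mul' g h := by rw [map_mul]; rfl

theorem card_F4 : Nat.card F4 = 4 := by rw [GaloisField.card 2 2 (by norm_num)]; norm_num

theorem orders_SL (n : ℕ) :
    n ∈ Set.range (orderOf : A4 → ℕ) ↔ n = 1 ∨ n = 2 ∨ n = 3 ∨ n = 5 := by
  haveI : Fintype F4 := Fintype.ofFinite _
  have hz : Subgroup.center A4 = ⊥ := by
    rw [eq_bot_iff]
    intro g hg
    obtain ⟨r, hr, hrg⟩ := Matrix.SpecialLinearGroup.mem_center_iff.mp hg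
    rw [Fintype.card_fin] at hr
    haveI : CharP F4 2 := inferInstance
    have hr1 : r = 1 := by
      have h1 : (r - 1) ^ 2 = 0 := by
        have h2 : (2 : F4) = 0 := CharTwo.two_eq_zero
        linear_combination hr + (1 - r) * h2
      exact sub_eq_zero.mp (pow_eq_zero_iff two_ne_zero |>.mp h1)
    rw [Subgroup.mem_bot]
    apply Subtype.ext
    rw [← hrg, hr1]
    simp
  have hinj : Function.Injective (CfsgLib.SL2.proj : A4 → Matrix.ProjectiveSpecialLinearGroup (Fin 2) F4) := by
    rw [injective_iff_map_eq_one]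
    intro g hg
    have := (CfsgLib.SL2.proj_eq_one_iff g).mp hg
    rwa [hz, Subgroup.mem_bot] at this
  have hR : Set.range (orderOf : A4 → ℕ) = Set.range (orderOf : Matrix.ProjectiveSpecialLinearGroup (Fin 2) F4 → ℕ) := by
    refine Set.Subset.antisymm ?_ ?_
    · rintro _ ⟨g, rfl⟩; exact ⟨_, orderOf_injective _ hinj g⟩
    · rintro _ ⟨y, rfl⟩
      obtain ⟨g, rfl⟩ := CfsgLib.SL2.proj_surjective y
      exact ⟨g, (orderOf_injective _ hinj g).symm⟩
  haveI := Fact.mk Nat.prime_two
  rw [hR, CfsgLib.SL2.spectrum_PSL 2 (by rw [card_F4]), card_F4]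
  show (n ∣ 2 ∨ n ∣ 3 / Nat.gcd 2 3 ∨ n ∣ 5 / Nat.gcd 2 3) ↔ _
  norm_num
  rw [Nat.dvd_prime Nat.prime_two, Nat.dvd_prime Nat.prime_three, Nat.dvd_prime Nat.prime_five]
  tauto

theorem sq_of_fixed (g : A4) (v : V4) (hv : v ≠ 1) (h : nat g v = v) : g ^ 2 = 1 := by
  set M : Matrix (Fin 2) (Fin 2) F4 := (g : Matrix (Fin 2) (Fin 2) F4) with hM
  have hfix : M *ᵥ v.toAdd = v.toAdd := congrArg Multiplicative.toAdd h
  have hdet0 : (M - 1).det = 0 := by
    refine Matrix.exists_mulVec_eq_zero_iff.mp ⟨v.toAdd, fun e => hv (by simpa using congrArg Multiplicative.ofAdd e), ?_⟩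
    rw [Matrix.sub_mulVec, hfix, Matrix.one_mulVec, sub_self]
  have hdet : M.det = 1 := g.det_coe
  rw [Matrix.det_fin_two] at hdet hdet0
  simp only [Matrix.sub_apply, Matrix.one_apply_eq, ne_eq, Fin.zero_ne_one, not_false_eq_true,
    Matrix.one_apply_ne, sub_zero, one_ne_zero] at hdet0
  have h2 : (2 : F4) = 0 := CharTwo.two_eq_zero
  have htr : M 0 0 + M 1 1 = 0 := by linear_combination hdet - hdet0 + h2
  apply Subtype.ext
  rw [Matrix.SpecialLinearGroup.coe_pow, Matrix.SpecialLinearGroup.coe_one, pow_two]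
  show M * M = 1
  ext i j
  fin_cases i <;> fin_cases j <;> simp [Matrix.mul_apply, Fin.sum_univ_two]
  · linear_combination (M 0 0) * htr - hdet - h2
  · linear_combination (M 0 1) * htr
  · linear_combination (M 1 0) * htr
  · linear_combination (M 1 1) * htr - hdet - h2

/-- The alternating group of degree 6 is not determined by its set of element orders, not even up to finitely many groups: for every bound N there is a finite group of order greater than N with exactly the same set of element orders as the alternating group of degree 6. -/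
theorem result (N : ℕ) : ∃ (H : Type) (_ : Group H) (_ : Fintype H), N < Fintype.card H ∧ Set.range (orderOf : H → ℕ) = Set.range (orderOf : alternatingGroup (Fin 6) → ℕ) := by
  have hexp : ∀ v : V4, v ^ 2 = 1 := fun v => by
    apply Multiplicative.toAdd.injective
    funext i
    simp [CharTwo.two_eq_zero, two_nsmul, CharTwo.add_self_eq_zero]
  haveI : Group.IsSolvable (SemidirectProduct.inl : V4 →* V4 ⋊[nat] A4).range := by
    exact Group.isSolvable_of_surjective (f := (SemidirectProduct.inl : V4 →* V4 ⋊[nat] A4).rangeRestrict)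
      (MonoidHom.rangeRestrict_surjective _)
  haveI : (SemidirectProduct.inl : V4 →* V4 ⋊[nat] A4).range.Normal := by
    rw [SemidirectProduct.range_inl_eq_ker_rightHom]; infer_instance
  obtain ⟨H, i1, i2, hcard, hr⟩ := CfsgLib.Isospectral.exists_large
    (SemidirectProduct.inl : V4 →* V4 ⋊[nat] A4).range (range_ne_bot nat) N
  refine ⟨H, i1, i2, hcard, hr.trans ?_⟩
  rw [range_eq nat Nat.prime_two hexp]
  refine Set.Subset.antisymm ?_ ?_
  · have mem : ∀ n, n = 1 ∨ n = 2 ∨ n = 3 ∨ n = 4 ∨ n = 5 →
        n ∈ Set.range (orderOf : alternatingGroup (Fin 6) → ℕ) := by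
      rintro n (rfl | rfl | rfl | rfl | rfl)
      · exact ⟨1, orderOf_one⟩
      · exact mem_range 2 (c[(0 : Fin 6), 1] * c[2, 3]) (by decide +kernel) (by decide +kernel) (by omega) (by decide +kernel)
      · exact mem_range 3 (c[(0 : Fin 6), 1, 2]) (by decide +kernel) (by decide +kernel) (by omega) (by decide +kernel)
      · exact mem_range 4 (c[(0 : Fin 6), 1, 2, 3] * c[4, 5]) (by decide +kernel) (by decide +kernel) (by omega) (by decide +kernel)
      · exact mem_range 5 (c[(0 : Fin 6), 1, 2, 3, 4]) (by decide +kernel) (by decide +kernel) (by omega) (by decide +kernel)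
    rintro n (h | ⟨g, ⟨v, hv⟩, rfl⟩)
    · exact mem n (by have := (orders_SL n).mp h; tauto)
    · apply mem
      have hg : g ^ 2 = 1 := by
        by_contra h
        refine hv (norm_eq_one_of_fpf nat g (fun w hw => ?_) v)
        by_contra hw1
        exact h (sq_of_fixed g w hw1 hw)
      rcases (Nat.dvd_prime Nat.prime_two).mp (orderOf_dvd_of_pow_eq_one hg) with e | e <;> rw [e] <;> simp
  · rintro _ ⟨g, rfl⟩
    have := orderOf_six g
    simp only [Finset.mem_insert, Finset.mem_singleton] at this
    rcases this with e | e | e | e | e <;> rw [e]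
    · exact Or.inl ((orders_SL 1).mpr (by simp))
    · exact Or.inl ((orders_SL 2).mpr (by simp))
    · exact Or.inl ((orders_SL 3).mpr (by simp))
    · right
      let T : A4 := ⟨!![1, 1; 0, 1], by simp [Matrix.det_fin_two]⟩
      have hT2 : T ^ 2 = 1 := by
        rw [pow_two]
        apply Subtype.ext
        show (!![1, 1; 0, 1] : Matrix (Fin 2) (Fin 2) F4) * !![1, 1; 0, 1] = 1
        ext i j
        fin_cases i <;> fin_cases j <;>
          simp [Matrix.mul_apply, Fin.sum_univ_two, CharTwo.add_self_eq_zero]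
      have hT : orderOf T = 2 := orderOf_eq_prime hT2 fun e => by
        have := congrFun (congrFun (congrArg Subtype.val e) 0) 1
        simp [T] at this
      refine ⟨T, ⟨Multiplicative.ofAdd ![0, 1], fun e => ?_⟩, by rw [hT]⟩
      rw [CfsgLib.SpectrumExt.norm, normPow, hT, Finset.prod_range_succ, Finset.prod_range_succ,
        Finset.prod_range_zero] at e
      have h1 : nat T (Multiplicative.ofAdd ![0, 1]) = Multiplicative.ofAdd ![1, 1] := by
        show Multiplicative.ofAdd ((T : Matrix (Fin 2) (Fin 2) F4) *ᵥ ![0, 1]) = _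
        congr 1
        funext i
        fin_cases i <;> simp [T]
      rw [pow_zero, pow_one, map_one, one_mul, MulAut.one_apply, h1] at e
      have := congrFun (congrArg Multiplicative.toAdd e) 0
      simp at this
    · exact Or.inl ((orders_SL 5).mpr (by simp))

end Cfsg.Agent.S3491
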