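import Cfsg.Statements.S3493
import Cfsg.Agent.Lib.ExtPrim.AlmostSimple
import Cfsg.Agent.S3494

set_option autoImplicit false
open Cfsg

namespace Cfsg.Agent.S3493

/-- An extremely primitive permutation group is of affine type or almost simple. Let a finite group G act faithfully and primitively on a finite set Ω with at least two points, in such a way that every point stabilizer acts primitively on each of its own orbits in Ω (an orbit of size one counts as primitive). Then either G has a non-trivial abelian normal subgroup whose elements other than the identity fix no point (affine type), or G has a non-abelian simple normal subgroup with trivial centralizer (almost simple). -/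
theorem result {G : Type*} [Group G] [Finite G] {Ω : Type*} [Fintype Ω] [MulAction G Ω] [FaithfulSMul G Ω] (hΩ : 2 ≤ Fintype.card Ω) (hprim : MulAction.IsPreprimitive G Ω) (hep : ∀ (α : Ω) (ω : Ω), MulAction.IsPreprimitive (MulAction.stabilizer G α) (MulAction.orbit (MulAction.stabilizer G α) ω)) :
    (∃ N : Subgroup G, N.Normal ∧ N ≠ ⊥ ∧ IsMulCommutative N ∧ ∀ ω : Ω, MulAction.stabilizer N ω = ⊥) ∨ (∃ T : Subgroup G, T.Normal ∧ IsSimpleGroup T ∧ ¬ IsMulCommutative T ∧ Subgroup.centralizer (T : Set G) = ⊥) := by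
  open MulAction in
  classical
  haveI := hprim
  haveI : Nontrivial Ω := Fintype.one_lt_card_iff_nontrivial.mp hΩ
  obtain ⟨α⟩ : Nonempty Ω := inferInstance
  haveI hG : Nontrivial G := by
    obtain ⟨β, hβ⟩ := exists_ne α
    obtain ⟨g, hg⟩ := exists_smul_eq G α β
    exact ⟨⟨g, 1, fun h => hβ (by rw [← hg, h, one_smul])⟩⟩
  have hco := MulAction.IsPreprimitive.isCoatom_stabilizer_of_isPreprimitive (G := G) α
  have hcore : ∀ D : Subgroup G, D.Normal → D ≤ stabilizer G α → D = ⊥ := by
    intro D hD hle
    rw [Subgroup.eq_bot_iff_forall]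
    intro x hx
    refine FaithfulSMul.eq_of_smul_eq_smul (α := Ω) fun z => ?_
    obtain ⟨g, rfl⟩ := exists_smul_eq G α z
    have h1 : g⁻¹ * x * g ∈ stabilizer G α := hle (by simpa using hD.conj_mem x hx g⁻¹)
    rw [mem_stabilizer_iff, mul_smul, mul_smul, inv_smul_eq_iff] at h1
    rw [h1, one_smul]
  have hreg : ∀ N : Subgroup G, N.Normal → N ⊓ stabilizer G α = ⊥ →
      ∀ ω : Ω, stabilizer N ω = ⊥ := by
    intro N hN h0 ω
    rw [Subgroup.eq_bot_iff_forall]
    intro n hn
    obtain ⟨g, rfl⟩ := exists_smul_eq G α ω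
    rw [mem_stabilizer_iff, Subgroup.smul_def] at hn
    have h1 : g⁻¹ * n * g ∈ N ⊓ stabilizer G α := Subgroup.mem_inf.mpr
      ⟨by simpa using hN.conj_mem n n.2 g⁻¹, by
        rw [mem_stabilizer_iff, mul_smul, mul_smul, hn, inv_smul_smul]⟩
    rw [h0, Subgroup.mem_bot] at h1
    exact Subtype.ext (by
      calc (n : G) = g * (g⁻¹ * n * g) * g⁻¹ := by group
        _ = 1 := by rw [h1]; group)
  by_cases hH : stabilizer G α = ⊥
  · left
    refine ⟨⊤, inferInstance, top_ne_bot, ?_, hreg ⊤ inferInstance (by rw [hH, inf_bot_eq])⟩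
    obtain ⟨x, hx⟩ := exists_ne (1 : G)
    have htop : Subgroup.zpowers x = ⊤ := hco.2 _ (by
      rw [hH, bot_lt_iff_ne_bot, Ne, Subgroup.zpowers_eq_bot]; exact hx)
    refine ⟨⟨fun a b => Subtype.ext ?_⟩⟩
    obtain ⟨i, hi⟩ := Subgroup.mem_zpowers_iff.mp (show (a : G) ∈ Subgroup.zpowers x by rw [htop]; exact Subgroup.mem_top _)
    obtain ⟨j, hj⟩ := Subgroup.mem_zpowers_iff.mp (show (b : G) ∈ Subgroup.zpowers x by rw [htop]; exact Subgroup.mem_top _)
    show (a : G) * b = b * a
    rw [← hi, ← hj]
    exact zpow_mul_comm x i j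
  have hfix : ∀ x : G, (∀ h ∈ stabilizer G α, h • (x • α) = x • α) → x ∈ stabilizer G α := by
    intro x hx
    have hle : stabilizer G α ≤ stabilizer G (x • α) := hx
    have hcx := MulAction.IsPreprimitive.isCoatom_stabilizer_of_isPreprimitive (G := G) (x • α)
    exact (S3494.mannAux_stab_eq α (x • α) hH
      (((hco.le_iff.mp hle).resolve_left hcx.1).symm)).symm
  have e : CfsgLib.ExtPrim.Ext (G := G) α := by
    refine ⟨fun x hx K hK hK' => ?_, hfix, hcore, hco⟩
    haveI := hep α (x • α)
    let b : orbit (stabilizer G α) (x • α) := ⟨x • α, mem_orbit_self _⟩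
    haveI : Nontrivial (orbit (stabilizer G α) (x • α)) := by
      by_contra hc
      rw [not_nontrivial_iff_subsingleton] at hc
      refine hx (hfix x fun h hh => ?_)
      exact congrArg Subtype.val (Subsingleton.elim
        (⟨h • (x • α), mem_orbit (x • α) (⟨h, hh⟩ : stabilizer G α)⟩ : orbit (stabilizer G α) (x • α)) b)
    have hc := MulAction.IsPreprimitive.isCoatom_stabilizer_of_isPreprimitive
      (G := stabilizer G α) b
    have hle : stabilizer (stabilizer G α) b ≤ K.subgroupOf (stabilizer G α) := fun h hh =>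
      hK' h h.2 (congrArg Subtype.val hh)
    rcases hc.le_iff.mp hle with h | h
    · exact .inl (le_antisymm hK (Subgroup.subgroupOf_eq_top.mp h))
    · refine .inr fun k hk => ?_
      have h1 : (⟨k, hK hk⟩ : stabilizer G α) ∈ stabilizer (stabilizer G α) b :=
        h ▸ (Subgroup.mem_subgroupOf.mpr hk)
      exact congrArg Subtype.val h1
  rcases e.affine_or_almostSimple hG with ⟨N, hN, h0, hab, hinf⟩ | h
  · exact .inl ⟨N, hN, h0, hab, hreg N hN hinf⟩
  · exact .inr h

end Cfsg.Agent.S3493
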