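import Cfsg.Statements.S3495
import Mathlib
-- import your own Cfsg.Agent.* helpers here

set_option autoImplicit false
open Cfsg

namespace Cfsg.Agent.S3495

/-- Let a finite group G act faithfully and primitively on a finite set Ω with non-trivial point stabilizers, each acting primitively on every one of its orbits (an extremely primitive group), and suppose G has an elementary abelian normal p-subgroup N acting regularly on Ω (affine type). Then every non-trivial subgroup M of a point stabilizer G_α that is normal in G_α has the same orbits on Ω as G_α, and normalizes no subgroup of N other than 1 and N. -/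
theorem result {G : Type*} [Group G] [Finite G] {Ω : Type*} [Fintype Ω] [MulAction G Ω] [FaithfulSMul G Ω] (hprim : MulAction.IsPreprimitive G Ω) (hH : ∀ α : Ω, MulAction.stabilizer G α ≠ ⊥) (hep : ∀ (α : Ω) (ω : Ω), MulAction.IsPreprimitive (MulAction.stabilizer G α) (MulAction.orbit (MulAction.stabilizer G α) ω))
    (N : Subgroup G) [N.Normal] (hNc : IsMulCommutative N) (p : ℕ) (hp : p.Prime) (hNp : ∀ n ∈ N, n ^ p = 1)
    (hNtr : MulAction.IsPretransitive N Ω) (hNreg : ∀ ω : Ω, MulAction.stabilizer N ω = ⊥) (α : Ω) (M : Subgroup G) (hM : M ≠ ⊥) (hMle : M ≤ MulAction.stabilizer G α)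
    (hMn : MulAction.stabilizer G α ≤ Subgroup.normalizer (M : Set G)) :
    (∀ ω : Ω, MulAction.orbit M ω = MulAction.orbit (MulAction.stabilizer G α) ω) ∧
    (∀ L : Subgroup G, L ≤ N → M ≤ Subgroup.normalizer (L : Set G) → L = ⊥ ∨ L = N) := by
  classical
  let H := MulAction.stabilizer G α
  have hcomm : ∀ a ∈ N, ∀ b ∈ N, a * b = b * a := fun a ha b hb => congrArg Subtype.val (hNc.is_comm.comm (⟨a, ha⟩ : N) ⟨b, hb⟩)
  have hreg : ∀ n ∈ N, ∀ ω : Ω, n • ω = ω → n = 1 := fun n hn ω h => by
    have : (⟨n, hn⟩ : N) ∈ MulAction.stabilizer N ω := h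
    rw [hNreg, Subgroup.mem_bot] at this
    exact congrArg Subtype.val this
  have hnt : Nontrivial Ω := by
    by_contra h
    rw [not_nontrivial_iff_subsingleton] at h
    refine hH α ((Subgroup.eq_bot_iff_forall _).mpr fun g _ => eq_of_smul_eq_smul fun ω : Ω => Subsingleton.elim _ _)
  have hco : IsCoatom H := MulAction.IsPreprimitive.isCoatom_stabilizer_of_isPreprimitive (G := G) α
  have hirr : ∀ L : Subgroup G, L ≤ N → (∀ h ∈ H, ∀ l ∈ L, h * l * h⁻¹ ∈ L) → L = ⊥ ∨ L = N := by
    intro L hL hLn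
    have hnorm : ∀ h ∈ H, h ∈ Subgroup.normalizer (L : Set G) := fun h hh =>
      Subgroup.mem_normalizer_iff.mpr fun l => ⟨hLn h hh l, fun hl => by
        have := hLn h⁻¹ (inv_mem hh) _ hl
        simpa [mul_assoc] using this⟩
    rcases hco.le_iff.mp (le_sup_right : H ≤ L ⊔ H) with e | e
    · right
      refine le_antisymm hL fun n hn => ?_
      have hmem : n ∈ L ⊔ H := e ▸ Subgroup.mem_top n
      rw [← SetLike.mem_coe, Subgroup.coe_mul_of_right_le_normalizer_left _ _ hnorm] at hmem
      obtain ⟨l, hl, h, hh, rfl⟩ := hmem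
      have h1 : h = 1 := hreg h (by simpa using mul_mem (inv_mem (hL hl)) hn) α hh
      show l * h ∈ L
      rw [h1, mul_one]; exact hl
    · left
      rw [Subgroup.eq_bot_iff_forall]
      intro l hl
      exact hreg l (hL hl) α ((le_sup_left.trans e.le) hl : l ∈ H)
  have hMH : ∀ h ∈ H, ∀ m ∈ M, h * m * h⁻¹ ∈ M := fun h hh m hm =>
    (Subgroup.mem_normalizer_iff.mp (hMn hh) m).mp hm
  let CN : Subgroup G := N ⊓ Subgroup.centralizer (M : Set G)
  have hCN : CN = ⊥ := by
    rcases hirr CN inf_le_left (fun h hh c hc => ⟨‹N.Normal›.conj_mem c hc.1 h, Subgroup.mem_centralizer_iff.mpr fun m hm => by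
      have := Subgroup.mem_centralizer_iff.mp hc.2 _ (hMH h⁻¹ (inv_mem hh) m hm)
      rw [inv_inv] at this
      calc m * (h * c * h⁻¹) = h * (h⁻¹ * m * h * c) * h⁻¹ := by group
        _ = h * (c * (h⁻¹ * m * h)) * h⁻¹ := by rw [this]
        _ = h * c * h⁻¹ * m := by group⟩) with e | e
    · exact e
    · exfalso
      refine hM ((Subgroup.eq_bot_iff_forall _).mpr fun m hm => eq_of_smul_eq_smul fun ω : Ω => ?_)
      obtain ⟨⟨n, hn⟩, rfl⟩ := MulAction.exists_smul_eq N α ω
      show m • n • α = (1 : G) • n • α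
      rw [one_smul, smul_smul, Subgroup.mem_centralizer_iff.mp (e.ge hn).2 m hm, mul_smul, show m • α = α from hMle hm]
  have horb : ∀ ω : Ω, MulAction.orbit M ω = MulAction.orbit H ω := by
    intro ω
    refine subset_antisymm ?_ ?_
    · rintro _ ⟨⟨m, hm⟩, rfl⟩; exact ⟨⟨m, hMle hm⟩, rfl⟩
    have := hep α ω
    let M' : Subgroup H := M.subgroupOf H
    have hM'n : M'.Normal := (Subgroup.normal_subgroupOf_iff_le_normalizer hMle).mpr hMn
    by_cases hfix : MulAction.fixedPoints M' (MulAction.orbit H ω) = .univ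
    · -- then `ω` is fixed by `M`, so it is `α`
      have hωfix : ∀ m ∈ M, m • ω = ω := fun m hm => by
        have h := (hfix ▸ Set.mem_univ _ : (⟨ω, MulAction.mem_orbit_self ω⟩ : MulAction.orbit H ω) ∈
          MulAction.fixedPoints M' (MulAction.orbit H ω)) ⟨⟨m, hMle hm⟩, hm⟩
        exact congrArg Subtype.val h
      obtain ⟨⟨n, hn⟩, rfl⟩ := MulAction.exists_smul_eq N α ω
      have hn1 : n = 1 := by
        have : n ∈ CN := ⟨hn, Subgroup.mem_centralizer_iff.mpr fun m hm => by
          have hα : m • α = α := hMle hm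
          have h1 : n⁻¹ * (m * n * m⁻¹) = 1 := by
            refine hreg _ (mul_mem (inv_mem hn) (‹N.Normal›.conj_mem n hn m)) α ?_
            rw [mul_smul, inv_smul_eq_iff, mul_smul, mul_smul,
              show m⁻¹ • α = α from inv_smul_eq_iff.mpr hα.symm]
            exact hωfix m hm
          calc m * n = n * (n⁻¹ * (m * n * m⁻¹)) * m := by group
            _ = n * m := by rw [h1, mul_one]⟩
        rwa [hCN, Subgroup.mem_bot] at this
      rintro _ ⟨⟨h, hh⟩, rfl⟩
      refine ⟨1, ?_⟩
      show (1 : G) • (n • α) = h • (n • α)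
      rw [hn1, one_smul, one_smul, show h • α = α from hh]
    · have := MulAction.IsQuasiPreprimitive.isPretransitive_of_normal hfix
      rintro y hy
      obtain ⟨⟨⟨m, hmH⟩, hm⟩, e⟩ := MulAction.exists_smul_eq M' (⟨ω, MulAction.mem_orbit_self ω⟩ : MulAction.orbit H ω) ⟨y, hy⟩
      exact ⟨⟨m, hm⟩, congrArg Subtype.val e⟩
  refine ⟨horb, fun L hL hML => hirr L hL fun h hh l hl => ?_⟩
  obtain ⟨⟨m, hm⟩, e⟩ := ((horb (l • α)).ge ⟨⟨h, hh⟩, rfl⟩ : h • (l • α) ∈ MulAction.orbit M (l • α))
  have hlm : m * l * m⁻¹ ∈ L := (Subgroup.mem_normalizer_iff.mp (hML hm) l).mp hl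
  have heq : m * l * m⁻¹ = h * l * h⁻¹ := by
    have h1 : (h * l * h⁻¹)⁻¹ * (m * l * m⁻¹) = 1 := by
      refine hreg _ (mul_mem (inv_mem (‹N.Normal›.conj_mem l (hL hl) h)) (‹N.Normal›.conj_mem l (hL hl) m)) α ?_
      rw [mul_smul, inv_smul_eq_iff, mul_smul, mul_smul, mul_smul, mul_smul,
        show m⁻¹ • α = α from inv_smul_eq_iff.mpr (hMle hm : m • α = α).symm,
        show h⁻¹ • α = α from inv_smul_eq_iff.mpr (hh : h • α = α).symm]
      exact e
    exact (inv_mul_eq_one.mp h1).symm
  exact heq ▸ hlm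

end Cfsg.Agent.S3495
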