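import Cfsg.Statements.S3496
import Cfsg.Agent.Lib.ExtPrim.Basic
import Cfsg.Agent.Lib.ExtPrim.Affine
import Cfsg.Agent.Lib.FrobCompl.Noncyclic
import Cfsg.Agent.S0547
import Cfsg.Agent.S3495

set_option autoImplicit false
set_option linter.style.haveILetI false
set_option maxHeartbeats 800000
open Cfsg

namespace Cfsg.Agent.S3496

open MulAction

/-- A minimal normal subgroup of a nontrivial finite solvable group is elementary abelian. -/
theorem exists_minimal {X : Type*} [Group X] [Finite X] [Group.IsSolvable X] [Nontrivial X] :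
    ∃ A : Subgroup X, A.Normal ∧ A ≠ ⊥ ∧ (∀ K : Subgroup X, K.Normal → K ≤ A → K = ⊥ ∨ K = A) ∧
      IsMulCommutative A ∧ ∃ r : ℕ, r.Prime ∧ ∀ x ∈ A, x ^ r = 1 := by
  obtain ⟨A, ⟨hA, hAne⟩, hmin⟩ := Set.Finite.exists_minimal (s := {A : Subgroup X | A.Normal ∧ A ≠ ⊥})
    (Set.toFinite _) ⟨⊤, inferInstance, top_ne_bot⟩
  haveI := hA
  have hmin' : ∀ K : Subgroup X, K.Normal → K ≤ A → K = ⊥ ∨ K = A := fun K hK hKA =>
    or_iff_not_imp_left.mpr fun hne => le_antisymm hKA (hmin ⟨hK, hne⟩ hKA)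
  obtain ⟨hc, hex⟩ := Cfsg.Agent.S0043.result A hAne hmin'
  exact ⟨A, hA, hAne, hmin', hc, hex⟩

/-- The conjugation picture: a normal elementary abelian subgroup as a space. -/
theorem conj_part_aux {G : Type*} [Group G] [Finite G] (N : Subgroup G) [N.Normal]
    {p q d : ℕ} [Fact p.Prime] [Fact q.Prime] {V : Type*} [AddCommGroup V] [Module (ZMod p) V]
    [Finite V] (e : V ≃ N) (he : ∀ v w : V, e (v + w) = e v * e w)
    (hd : Nat.card V = p ^ d) (hN : N ≠ ⊥)
    (t : G) (htq : t ^ q = 1) (hfree : ∀ n ∈ N, t * n * t⁻¹ = n → n = 1)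
    (hirr : ∀ L : Subgroup G, L ≤ N → Subgroup.zpowers t ≤ Subgroup.normalizer (L : Set G) →
      L = ⊥ ∨ L = N) :
    (∀ i : ℕ, 0 < i → i < d → ¬ q ∣ p ^ i - 1) ∧
      ∀ (g : G) (a : ℕ), g * t * g⁻¹ = t ^ a → ∃ i : ℕ, a ≡ p ^ i [MOD q] := by
  have he0 : e 0 = 1 := by
    have := he 0 0
    rwa [add_zero, left_eq_mul] at this
  haveI : Nontrivial V := by
    haveI : Nontrivial N := (Subgroup.nontrivial_iff_ne_bot N).mpr hN
    exact e.nontrivial
  let op : G → Module.End (ZMod p) V := fun g =>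
    (AddMonoidHom.mk' (fun v => e.symm (MulAut.conjNormal g (e v))) (fun v w => by
      apply e.injective
      rw [Equiv.apply_symm_apply, he, map_mul, he, Equiv.apply_symm_apply,
        Equiv.apply_symm_apply])).toZModLinearMap p
  have hop : ∀ (g : G) (v : V), (e (op g v) : G) = g * (e v : G) * g⁻¹ := fun g v => by
    show (e (e.symm (MulAut.conjNormal g (e v))) : G) = _
    rw [Equiv.apply_symm_apply, MulAut.conjNormal_apply]
  have hext : ∀ v w : V, (e v : G) = (e w : G) → v = w :=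
    fun v w h => e.injective (Subtype.ext h)
  have hmul : ∀ g g' : G, op (g * g') = op g * op g' := fun g g' =>
    LinearMap.ext fun v => hext _ _ (by rw [Module.End.mul_apply, hop, hop, hop]; group)
  have hone : op 1 = 1 := LinearMap.ext fun v => hext _ _ (by rw [hop]; simp)
  have hpow : ∀ (g : G) (k : ℕ), op (g ^ k) = op g ^ k := fun g k => by
    induction k with
    | zero => rw [pow_zero, pow_zero, hone]
    | succ k ih => rw [pow_succ, pow_succ, hmul, ih]
  have hne : op t ≠ 1 := by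
    intro he1
    obtain ⟨n, hn, hn1⟩ := (Subgroup.bot_or_exists_ne_one N).resolve_left hN
    apply hn1
    refine hfree n hn ?_
    have h1 := hop t (e.symm ⟨n, hn⟩)
    rw [he1] at h1
    simp only [Module.End.one_apply, Equiv.apply_symm_apply] at h1
    exact h1.symm
  have hq : op t ^ q = 1 := by rw [← hpow, htq, hone]
  have hW : ∀ W : Submodule (ZMod p) (V), (∀ w ∈ W, op t w ∈ W) → W = ⊥ ∨ W = ⊤ := by
    intro W hWt
    let L : Subgroup G :=
      { carrier := {x | ∃ v ∈ W, (e v : G) = x}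
        one_mem' := ⟨0, W.zero_mem, by rw [he0]; rfl⟩
        mul_mem' := fun {x y} ⟨v, hv, hx⟩ ⟨w, hw, hy⟩ =>
          ⟨v + w, W.add_mem hv hw, by rw [he, ← hx, ← hy]; rfl⟩
        inv_mem' := fun {x} ⟨v, hv, hx⟩ => ⟨-v, W.neg_mem hv, by
          rw [← hx, ← Subgroup.coe_inv]
          congr 1
          refine eq_inv_of_mul_eq_one_left ?_
          rw [← he, neg_add_cancel, he0]⟩ }
    have hmem : ∀ v : V, v ∈ W ↔ (e v : G) ∈ L := fun v =>
      ⟨fun hv => ⟨v, hv, rfl⟩, fun ⟨u, hu, h⟩ => hext u v h ▸ hu⟩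
    have hpk : ∀ k : ℕ, ∀ x ∈ L, t ^ k * x * (t ^ k)⁻¹ ∈ L := by
      intro k
      induction k with
      | zero => intro x hx; simpa using hx
      | succ k ih =>
        rintro x hx
        obtain ⟨u, hu, rfl⟩ := hx
        have h1 : t * (e u : G) * t⁻¹ ∈ L := by
          rw [← show (e (op t u) : G) = t * (e u : G) * t⁻¹ from hop t u]
          exact (hmem _).mp (hWt _ hu)
        have h2 := ih _ h1
        rw [show t ^ (k + 1) * (e u : G) * (t ^ (k + 1))⁻¹ =
          t ^ k * (t * (e u : G) * t⁻¹) * (t ^ k)⁻¹ by rw [pow_succ]; simp [mul_assoc]]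
        exact h2
    have hnorm : Subgroup.zpowers t ≤ Subgroup.normalizer (L : Set G) := by
      rw [Subgroup.zpowers_le, Subgroup.mem_normalizer_iff]
      intro x
      refine ⟨fun hx => by simpa using hpk 1 x hx, fun hx => ?_⟩
      have h1 := hpk (q - 1) _ hx
      have h2 : t ^ (q - 1) * t = 1 := by
        rw [← pow_succ, Nat.sub_add_cancel (Fact.out : q.Prime).one_le, htq]
      rw [eq_inv_of_mul_eq_one_left h2] at h1
      rwa [inv_inv, show t⁻¹ * (t * x * t⁻¹) * t = x by group] at h1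
    rcases hirr L (fun x ⟨v, _, hx⟩ => hx ▸ (e v).2) hnorm with h0 | h0
    · left
      rw [Submodule.eq_bot_iff]
      intro v hv
      have h1 := (hmem v).mp hv
      rw [h0, Subgroup.mem_bot] at h1
      exact hext v 0 (by rw [h1, he0]; rfl)
    · exact Or.inr (eq_top_iff.mpr fun v _ => (hmem v).mpr (h0.symm ▸ (e v).2))
  obtain ⟨h1, h2⟩ := CfsgLib.ExtPrim.irreducible_prime_order (p := p) (q := q) (V := V)
    (d := d) hd (op t) hq hne hW
  refine ⟨h1, fun g a hg => h2 a (op g) (fun v => ⟨op g⁻¹ v, ?_⟩) ?_⟩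
  · rw [← Module.End.mul_apply, ← hmul, mul_inv_cancel, hone, Module.End.one_apply]
  · rw [← hpow, ← hmul, ← hmul, ← hg, inv_mul_cancel_right]

/-- The same for the subgroup itself. -/
theorem conj_part {G : Type*} [Group G] [Finite G] (N : Subgroup G) [N.Normal]
    (hNc : IsMulCommutative N) {p q d : ℕ} [Fact p.Prime] [Fact q.Prime]
    (hNp : ∀ n ∈ N, n ^ p = 1) (hd : Nat.card N = p ^ d) (hN : N ≠ ⊥)
    (t : G) (htq : t ^ q = 1) (hfree : ∀ n ∈ N, t * n * t⁻¹ = n → n = 1)
    (hirr : ∀ L : Subgroup G, L ≤ N → Subgroup.zpowers t ≤ Subgroup.normalizer (L : Set G) →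
      L = ⊥ ∨ L = N) :
    (∀ i : ℕ, 0 < i → i < d → ¬ q ∣ p ^ i - 1) ∧
      ∀ (g : G) (a : ℕ), g * t * g⁻¹ = t ^ a → ∃ i : ℕ, a ≡ p ^ i [MOD q] := by
  letI : CommGroup N := { (inferInstance : Group N) with mul_comm := fun a b => mul_comm' a b }
  haveI : Finite (Additive N) := inferInstanceAs (Finite N)
  letI : Module (ZMod p) (Additive N) := AddCommGroup.zmodModule (n := p) fun x => by
    show Additive.ofMul (x.toMul ^ p) = 0
    rw [show x.toMul ^ p = 1 from Subtype.ext (by rw [SubmonoidClass.coe_pow]; exact hNp _ x.toMul.2)]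
    rfl
  exact conj_part_aux N (V := Additive N) Additive.toMul (fun _ _ => rfl) hd hN t htq hfree hirr

/-- A finite cyclic group of automorphisms acting by powers of `p`, where `p ^ d ≡ 1`, has order
dividing `d`. -/
theorem card_dvd {X : Type*} [Group X] (σ : MulAut X) (t : X) (hgen : Subgroup.zpowers t = ⊤)
    {p d i : ℕ} (hσ : σ t = t ^ p ^ i) (hpd : t ^ p ^ d = t) :
    Nat.card (Subgroup.zpowers σ) ∣ d := by
  rw [Nat.card_zpowers, orderOf_dvd_iff_pow_eq_one]
  have hk : ∀ k, (σ ^ k) t = t ^ p ^ (i * k) := fun k => by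
    induction k with
    | zero => simp
    | succ k ih =>
      rw [pow_succ', MulAut.mul_apply, ih, map_pow, hσ, ← pow_mul, ← pow_add, Nat.mul_succ,
        add_comm]
  have hd : ∀ k, t ^ p ^ (d * k) = t := fun k => by
    induction k with
    | zero => simp
    | succ k ih => rw [Nat.mul_succ, pow_add, pow_mul, ih, hpd]
  refine MulEquiv.ext fun x => ?_
  obtain ⟨k, rfl⟩ := Subgroup.mem_zpowers_iff.mp (hgen ▸ Subgroup.mem_top x)
  rw [map_zpow, hk, mul_comm i d, hd, MulAut.one_apply]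

/-- The soluble extremely primitive groups. Let a finite solvable group G act faithfully and primitively on a finite set Ω with p ^ d points (p prime), with non-trivial point stabilizers each acting primitively on every one of its orbits. Then there is a prime q such that every orbit of a point stabilizer G_α other than {α} has exactly q points, q divides p ^ d − 1 but no p ^ i − 1 with 0 < i < d, and G_α has a normal subgroup T of order q with G_α generated by T and one further element and the order of G_α dividing q·d (so G_α is cyclic of order q, or an extension of T by a cyclic group of order dividing d). -/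
theorem result {G : Type*} [Group G] [Finite G] {Ω : Type*} [Fintype Ω] [MulAction G Ω] [FaithfulSMul G Ω] [Group.IsSolvable G] (p d : ℕ) (hp : p.Prime) (hcard : Fintype.card Ω = p ^ d)
    (hprim : MulAction.IsPreprimitive G Ω) (hH : ∀ α : Ω, MulAction.stabilizer G α ≠ ⊥) (hep : ∀ (α : Ω) (ω : Ω), MulAction.IsPreprimitive (MulAction.stabilizer G α) (MulAction.orbit (MulAction.stabilizer G α) ω)) (α : Ω) :
    ∃ q : ℕ, q.Prime ∧ (∀ ω : Ω, ω ≠ α → Nat.card (MulAction.orbit (MulAction.stabilizer G α) ω) = q) ∧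
      q ∣ p ^ d - 1 ∧ (∀ i : ℕ, 0 < i → i < d → ¬ q ∣ p ^ i - 1) ∧
      ∃ T : Subgroup G, T ≤ MulAction.stabilizer G α ∧ MulAction.stabilizer G α ≤ Subgroup.normalizer (T : Set G) ∧ Nat.card T = q ∧
        (∃ h : G, MulAction.stabilizer G α = T ⊔ Subgroup.zpowers h) ∧ Nat.card (MulAction.stabilizer G α) ∣ q * d := by
  classical
  haveI := hprim
  haveI := Fact.mk hp
  haveI : Nontrivial G := by
    by_contra hc
    rw [not_nontrivial_iff_subsingleton] at hc
    exact hH α (Subsingleton.elim _ _)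
  obtain ⟨N, hN, hNne, hNmin, -, r, hr, hNr⟩ := exists_minimal (X := G)
  haveI := hN
  obtain ⟨hNc, htr, hreg⟩ := Cfsg.Agent.S0547.regular hprim N hNne hNmin
  have hcardN : Nat.card N = p ^ d := by
    rw [← hcard, ← Nat.card_eq_fintype_card]
    refine Nat.card_congr (Equiv.ofBijective (fun m : N => m • α) ⟨fun a b h => ?_, fun x => htr.exists_smul_eq α x⟩)
    have h' : (a : G) • α = (b : G) • α := h
    have := hreg α _ (mul_mem (inv_mem b.2) a.2) (by rw [mul_smul, h', inv_smul_smul])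
    exact Subtype.ext (inv_mul_eq_one.mp this).symm
  haveI := Fact.mk hr
  have hrp : r = p := by
    obtain ⟨k, hk⟩ := IsPGroup.iff_card.mp (show IsPGroup r N from fun x => ⟨1, Subtype.ext (by
      rw [pow_one]; exact hNr _ x.2)⟩)
    have hk0 : k ≠ 0 := fun e => hNne (Subgroup.eq_bot_of_card_eq N (by rw [hk, e, pow_zero]))
    exact (Nat.prime_dvd_prime_iff_eq hr hp).mp (hr.dvd_of_dvd_pow (hcardN ▸ hk ▸ dvd_pow_self r hk0))
  subst hrp
  have hNreg : ∀ ω : Ω, stabilizer N ω = ⊥ := fun ω =>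
    eq_bot_iff.mpr fun m hm => Subtype.ext (hreg ω m m.2 hm)
  haveI : Nontrivial (stabilizer G α) := (Subgroup.nontrivial_iff_ne_bot _).mpr (hH α)
  obtain ⟨A, hAn, hAne, -, hAc, q, hq, hAq⟩ := exists_minimal (X := stabilizer G α)
  haveI := hAn
  haveI := hAc
  haveI := Fact.mk hq
  have hcore : ∀ ω : Ω, ω ≠ α →
      CfsgLib.ExtPrim.CoreFreeMax (stabilizer (stabilizer G α) ω) := fun ω hω =>
    CfsgLib.ExtPrim.coreFreeMax_suborbit hprim hep (hH α) hω
  have hfree : ∀ ω : Ω, ω ≠ α → ∀ a ∈ A, a • ω = ω → a = 1 := fun ω hω a ha haω =>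
    Subgroup.mem_bot.mp ((hcore ω hω).abelian_inf hAn hAne ▸
      (⟨ha, haω⟩ : a ∈ A ⊓ stabilizer (stabilizer G α) ω))
  set T : Subgroup G := A.map (stabilizer G α).subtype with hTdef
  have hTle : T ≤ stabilizer G α := Subgroup.map_subtype_le _
  have hTnorm : stabilizer G α ≤ Subgroup.normalizer (T : Set G) := by
    refine (Subgroup.normal_subgroupOf_iff_le_normalizer hTle).mp ?_
    rw [hTdef, Subgroup.subgroupOf, Subgroup.comap_map_eq_self_of_injective (Subgroup.subtype_injective _)]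
    exact hAn
  have hfpf : ∀ e ∈ T, e ≠ 1 → N ⊓ Subgroup.centralizer {e} = ⊥ := by
    rintro _ ⟨a, ha, rfl⟩ hne
    rw [Subgroup.eq_bot_iff_forall]
    rintro n ⟨hn, hcn⟩
    refine hreg α n hn ?_
    by_contra hmove
    apply hne
    have hfix : a • (n • α) = n • α := by
      show (a : G) • n • α = n • α
      have hc : (a : G) * n = n * a := (Subgroup.mem_centralizer_singleton_iff.mp hcn).symm
      rw [smul_smul, hc, mul_smul, show (a : G) • α = α from a.2]
    rw [hfree _ hmove a ha hfix]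
    rfl
  -- `A` is cyclic of order `q`
  have hTp : IsPGroup q T := by
    rintro ⟨_, a, ha, rfl⟩
    refine ⟨1, Subtype.ext ?_⟩
    rw [pow_one, SubmonoidClass.coe_pow, ← map_pow, hAq a ha, map_one]
    rfl
  haveI := hNc
  obtain ⟨hodd, htwo⟩ := CfsgLib.FrobCompl.sylow_structure (p := q) (A := T) hNne
    (fun g _ => Subgroup.mem_normalizer_iff.mpr fun x => ⟨fun hx => hN.conj_mem x hx g, fun hx => by
      have := hN.conj_mem _ hx g⁻¹
      rwa [inv_inv, show g⁻¹ * (g * x * g⁻¹) * g = x by group] at this⟩) hfpf hTp le_rfl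
  obtain ⟨a₀, ha₀, ha₀1⟩ := (Subgroup.bot_or_exists_ne_one A).resolve_left hAne
  have hord : orderOf a₀ = q := orderOf_eq_prime (hAq a₀ ha₀) ha₀1
  have hgen : A = Subgroup.zpowers a₀ := by
    refine le_antisymm (fun x hx => ?_) (Subgroup.zpowers_le.mpr ha₀)
    by_cases hx1 : x = 1
    · rw [hx1]; exact one_mem _
    by_cases h2 : q = 2
    · have hx2 : orderOf x = q := orderOf_eq_prime (hAq x hx) hx1
      have h3 := htwo h2 ⟨x, ⟨x, hx, rfl⟩⟩ ⟨a₀, ⟨a₀, ha₀, rfl⟩⟩
        (by rw [← Subgroup.orderOf_coe]; exact (Subgroup.orderOf_coe x).trans (hx2.trans h2))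
        (by rw [← Subgroup.orderOf_coe]; exact (Subgroup.orderOf_coe a₀).trans (hord.trans h2))
      rw [show x = a₀ from Subtype.ext (congrArg (fun z : T => (z : G)) h3)]
      exact Subgroup.mem_zpowers _
    · haveI := hodd h2
      haveI hcyc : IsCyclic A := isCyclic_of_surjective
        (A.equivMapOfInjective _ (Subgroup.subtype_injective _)).symm.toMonoidHom (MulEquiv.surjective _)
      have hle : Nat.card A ≤ Nat.card (Subgroup.zpowers a₀) := by
        rw [Nat.card_zpowers, hord, ← IsCyclic.exponent_eq_card]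
        refine Nat.le_of_dvd hq.pos (Monoid.exponent_dvd_of_forall_pow_eq_one fun z => Subtype.ext ?_)
        rw [SubmonoidClass.coe_pow]
        exact hAq z z.2
      rw [Subgroup.eq_of_le_of_card_ge (Subgroup.zpowers_le.mpr ha₀) hle]
      exact hx
  have hAcard : Nat.card A = q := by rw [hgen, Nat.card_zpowers, hord]
  have hTcard : Nat.card T = q := by
    rw [hTdef, Subgroup.card_map_of_injective (Subgroup.subtype_injective _), hAcard]
  have htgen : T = Subgroup.zpowers (a₀ : G) := by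
    rw [hTdef, hgen, MonoidHom.map_zpowers]
    rfl
  -- `T` is irreducible on `N`
  have hirr := (Cfsg.Agent.S3495.result hprim hH hep N hNc r hp hNr htr hNreg α T
    (fun e => hAne ((Subgroup.map_eq_bot_iff_of_injective _ (Subgroup.subtype_injective _)).mp e))
    hTle hTnorm).2
  obtain ⟨hmin, hpowp⟩ := conj_part N hNc (q := q) hNr hcardN hNne (a₀ : G)
    (by rw [← SubmonoidClass.coe_pow, hAq a₀ ha₀]; rfl)
    (fun n hn hc => by
      have hm : n ∈ N ⊓ Subgroup.centralizer {(a₀ : G)} :=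
        ⟨hn, Subgroup.mem_centralizer_singleton_iff.mpr (mul_inv_eq_iff_eq_mul.mp hc).symm⟩
      rwa [hfpf (a₀ : G) ⟨a₀, ha₀, rfl⟩ (fun e => ha₀1 (Subtype.ext e)), Subgroup.mem_bot] at hm)
    (fun L hL hLn => hirr L hL (htgen.le.trans hLn))
  have hdvd : q ∣ r ^ d - 1 := by
    have h := CfsgLib.ExtPrim.card_dvd_of_free α A (fun a _ => a.2) hfree
    rwa [hAcard, Nat.card_eq_fintype_card, hcard] at h
  refine ⟨q, hq, fun ω hω => ?_, hdvd, hmin, T, hTle, hTnorm, hTcard, ?_⟩
  · have hcm : Subgroup.IsComplement' A (stabilizer (stabilizer G α) ω) := by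
      refine Subgroup.isComplement'_of_disjoint_and_mul_eq_univ
        (disjoint_iff.mpr ((hcore ω hω).abelian_inf hAn hAne)) ?_
      rw [← Subgroup.normal_mul, (hcore ω hω).sup_eq_top hAn hAne, Subgroup.coe_top]
    rw [Nat.card_coe_set_eq, ← index_stabilizer, hcm.index_eq_card, hAcard]
  -- the quotient
  obtain ⟨y, hy⟩ : ∃ y : Ω, y ≠ α := by
    obtain ⟨n, hn, hn1⟩ := (Subgroup.bot_or_exists_ne_one N).resolve_left hNne
    exact ⟨n • α, fun e => hn1 (hreg α n hn e)⟩
  let ψ : stabilizer G α →* MulAut A := MulAut.conjNormal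
  have hker : ψ.ker = A := by
    ext g
    rw [MonoidHom.mem_ker]
    refine ⟨fun hg => ?_, fun hg => MulEquiv.ext fun x => Subtype.ext ?_⟩
    · have : g ∈ Subgroup.centralizer (A : Set (stabilizer G α)) :=
        Subgroup.mem_centralizer_iff.mpr fun x hx =>
          (CfsgLib.BG.commute_of_conjNormal_eq_one hg hx).symm.eq
      rwa [(hcore y hy).centralizer_eq hAn hAne] at this
    · rw [MulAut.conjNormal_apply, MulAut.one_apply,
        show g * (x : stabilizer G α) = x * g from congrArg Subtype.val (mul_comm' (⟨g, hg⟩ : A) x),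
        mul_inv_cancel_right]
  haveI : IsCyclic A := isCyclic_of_prime_card hAcard
  haveI : IsCyclic (MulAut A) := by
    haveI : IsCyclic (ZMod (Nat.card A))ˣ := by rw [hAcard]; infer_instance
    exact isCyclic_of_surjective (IsCyclic.mulAutMulEquiv A).symm.toMonoidHom (MulEquiv.surjective _)
  obtain ⟨σ, hσ⟩ := (inferInstance : IsCyclic ψ.range).exists_generator
  obtain ⟨h, hh⟩ := σ.2
  have hrange : ψ.range = Subgroup.zpowers (ψ h) := by
    refine le_antisymm (fun x hx => ?_) (Subgroup.zpowers_le.mpr ⟨h, rfl⟩)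
    obtain ⟨k, hk⟩ := Subgroup.mem_zpowers_iff.mp (hσ ⟨x, hx⟩)
    rw [hh]
    exact Subgroup.mem_zpowers_iff.mpr ⟨k, congrArg Subtype.val hk⟩
  refine ⟨⟨(h : G), le_antisymm (fun g hg => ?_) (sup_le hTle (Subgroup.zpowers_le.mpr h.2))⟩, ?_⟩
  · obtain ⟨k, hk⟩ := Subgroup.mem_zpowers_iff.mp (hrange.le (⟨⟨g, hg⟩, rfl⟩ : ψ ⟨g, hg⟩ ∈ ψ.range))
    have hmem : (⟨g, hg⟩ : stabilizer G α) * (h ^ k)⁻¹ ∈ A := by
      rw [← hker, MonoidHom.mem_ker, map_mul, map_inv, map_zpow, hk, mul_inv_cancel]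
    rw [show g = g * ((h : G) ^ k)⁻¹ * (h : G) ^ k by group]
    exact mul_mem (Subgroup.mem_sup_left ⟨_, hmem, by simp⟩)
      (Subgroup.mem_sup_right (Subgroup.zpow_mem_zpowers _ _))
  have hcardH : Nat.card (stabilizer G α) = Nat.card A * Nat.card ψ.range := by
    have := ψ.ker.card_mul_index
    rw [Subgroup.index_ker, hker] at this
    exact this.symm
  rw [hcardH, hAcard, hrange]
  refine mul_dvd_mul_left q ?_
  obtain ⟨a, ha⟩ : ∃ a : ℕ, ψ h ⟨a₀, ha₀⟩ = (⟨a₀, ha₀⟩ : A) ^ a := by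
    have hmem : ((ψ h ⟨a₀, ha₀⟩ : A) : stabilizer G α) ∈ Subgroup.zpowers a₀ :=
      hgen ▸ (ψ h ⟨a₀, ha₀⟩).2
    obtain ⟨a, ha⟩ := mem_zpowers_iff_mem_range_orderOf.mp hmem |> Finset.mem_image.mp
    exact ⟨a, Subtype.ext (by rw [SubmonoidClass.coe_pow]; exact ha.2.symm)⟩
  obtain ⟨i, hi⟩ := hpowp (h : G) a (by
    have h1 := congrArg (fun z : A => ((z : stabilizer G α) : G)) ha
    simpa [ψ] using h1)
  have hqA : ∀ m n : ℕ, m ≡ n [MOD q] → (⟨a₀, ha₀⟩ : A) ^ m = (⟨a₀, ha₀⟩ : A) ^ n := fun m n hmn =>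
    Subtype.ext (by
      rw [SubmonoidClass.coe_pow, SubmonoidClass.coe_pow]
      exact pow_eq_pow_iff_modEq.mpr (by rwa [hord]))
  refine card_dvd (ψ h) ⟨a₀, ha₀⟩ ?_ (ha.trans (hqA _ _ hi)) ?_
  · refine Subgroup.eq_top_of_card_eq _ ?_
    rw [Nat.card_zpowers, hAcard, ← Subgroup.orderOf_coe, hord]
  · have h1 : 1 ≤ r ^ d := Nat.one_le_pow _ _ hp.pos
    rw [hqA (r ^ d) 1 ((Nat.modEq_iff_dvd' h1).mpr hdvd).symm, pow_one]

end Cfsg.Agent.S3496
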