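import Cfsg.Statements.S3497
import Cfsg.Agent.Lib.ExtPrim.Basic

set_option autoImplicit false
set_option linter.style.haveILetI false
open Cfsg

namespace Cfsg.Agent.S3497

/-- Restrictions on the point stabilizer of an extremely primitive group. Let a finite group G act faithfully and primitively on a finite set Ω with point stabilizers H = G_α whose order is neither 1 nor a prime, each acting primitively on every one of its orbits. Then H has trivial center, the Fitting subgroup F(H) is an elementary abelian p-group for some prime p, and if F(H) ≠ 1 has order p ^ e then p ^ e divides the number of points minus one and H / F(H) embeds in GL_e(p) (there is a homomorphism from H to GL_e(p) with kernel exactly F(H)). -/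
theorem result {G : Type*} [Group G] [Finite G] {Ω : Type*} [Fintype Ω] [MulAction G Ω] [FaithfulSMul G Ω] (hprim : MulAction.IsPreprimitive G Ω) (hep : ∀ (α : Ω) (ω : Ω), MulAction.IsPreprimitive (MulAction.stabilizer G α) (MulAction.orbit (MulAction.stabilizer G α) ω)) (α : Ω)
    (hH1 : MulAction.stabilizer G α ≠ ⊥) (hHp : ¬ (Nat.card (MulAction.stabilizer G α)).Prime) :
    Subgroup.center (MulAction.stabilizer G α) = ⊥ ∧
    IsMulCommutative (Cfsg.fittingSubgroup (MulAction.stabilizer G α)) ∧
    ∃ p e : ℕ, p.Prime ∧ Nat.card (Cfsg.fittingSubgroup (MulAction.stabilizer G α)) = p ^ e ∧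
      (∀ x ∈ Cfsg.fittingSubgroup (MulAction.stabilizer G α), x ^ p = 1) ∧
      (Cfsg.fittingSubgroup (MulAction.stabilizer G α) ≠ ⊥ →
        p ^ e ∣ Fintype.card Ω - 1 ∧
        ∃ φ : MulAction.stabilizer G α →* GL (Fin e) (ZMod p), φ.ker = Cfsg.fittingSubgroup (MulAction.stabilizer G α)) := by
  classical
  haveI := hprim
  have : Nontrivial Ω := by
    by_contra hc
    rw [not_nontrivial_iff_subsingleton] at hc
    exact hH1 ((Subgroup.eq_bot_iff_forall _).mpr fun g _ =>
      eq_of_smul_eq_smul fun ω : Ω => Subsingleton.elim _ _)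
  obtain ⟨y, hy⟩ := exists_ne α
  have hK := CfsgLib.ExtPrim.coreFreeMax_suborbit hprim hep hH1 hy
  obtain ⟨hc, p, e, hp, he, hexp⟩ := hK.fitting_elementary
  refine ⟨hK.center_eq_bot hHp, hc, p, e, hp, he, hexp, fun hne => ?_⟩
  haveI := Fact.mk hp
  haveI := hc
  have hn : (Cfsg.fittingSubgroup (MulAction.stabilizer G α)).Normal :=
    CfsgLib.Fitting.fittingSubgroup_normal
  refine ⟨?_, ?_⟩
  · have hdvd := CfsgLib.ExtPrim.card_dvd_of_free α
      (Cfsg.fittingSubgroup (MulAction.stabilizer G α)) (fun a _ => a.2) fun z hz a ha haz => by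
      have hb := (CfsgLib.ExtPrim.coreFreeMax_suborbit hprim hep hH1 hz).abelian_inf hn hne
      exact Subgroup.mem_bot.mp (hb ▸ (⟨ha, haz⟩ :
        a ∈ Cfsg.fittingSubgroup (MulAction.stabilizer G α) ⊓
          MulAction.stabilizer (MulAction.stabilizer G α) z))
    rwa [he, Nat.card_eq_fintype_card] at hdvd
  haveI := hn
  obtain ⟨φ, hφ⟩ := CfsgLib.ExtPrim.exists_mulAut_hom_GL (p := p) hc (e := e)
    (fun x => Subtype.ext (by rw [SubmonoidClass.coe_pow]; exact hexp x x.2)) he
  refine ⟨φ.comp MulAut.conjNormal, ?_⟩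
  rw [← MonoidHom.comap_ker, (MonoidHom.ker_eq_bot_iff φ).mpr hφ, MonoidHom.comap_bot]
  have hcen := hK.centralizer_eq hn hne
  ext g
  rw [MonoidHom.mem_ker]
  constructor
  · intro hg
    have : g ∈ Subgroup.centralizer
        (Cfsg.fittingSubgroup (MulAction.stabilizer G α) : Set (MulAction.stabilizer G α)) :=
      Subgroup.mem_centralizer_iff.mpr fun x hx =>
        (CfsgLib.BG.commute_of_conjNormal_eq_one hg hx).symm.eq
    rwa [hcen] at this
  · intro hg
    refine MulEquiv.ext fun x => Subtype.ext ?_
    rw [MulAut.conjNormal_apply, MulAut.one_apply,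
      show g * (x : MulAction.stabilizer G α) = x * g from
        congrArg Subtype.val (mul_comm' (⟨g, hg⟩ : Cfsg.fittingSubgroup (MulAction.stabilizer G α)) x),
      mul_inv_cancel_right]

end Cfsg.Agent.S3497
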