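import Cfsg.Statements.S3498

-- import your own Cfsg.Agent.* helpers here

set_option autoImplicit false
open Cfsg

namespace Cfsg.Agent.S3498

/-- A maximal subgroup of a finite almost simple group does not have prime order. Here G is almost simple in the sense that it has a non-abelian simple normal subgroup T with trivial centralizer. -/
theorem result {G : Type*} [Group G] [Finite G] (T : Subgroup G) [T.Normal] (hT : IsSimpleGroup T) (hTc : ¬ IsMulCommutative T)
    (hC : Subgroup.centralizer (T : Set G) = ⊥) (H : Subgroup G) (hmax : IsCoatom H) : ¬ (Nat.card H).Prime := by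
  classical
  intro hp
  set p := Nat.card H with hpdef
  haveI := Fact.mk hp
  haveI := hT
  have hTnp : ∀ {r : ℕ} [Fact r.Prime], ¬ IsPGroup r T := by
    intro r _ hr
    haveI := hr.center_nontrivial
    apply hTc
    rcases hT.eq_bot_or_eq_top_of_normal (Subgroup.center T) inferInstance with h | h
    · exact absurd h ((Subgroup.nontrivial_iff_ne_bot _).mp inferInstance)
    · exact ⟨⟨fun a b => (Subgroup.mem_center_iff.mp (h ▸ Subgroup.mem_top a) b).symm⟩⟩
  obtain ⟨P, hP⟩ := (IsPGroup.of_card (n := 1) (G := H) (by rw [pow_one]) : IsPGroup p H).exists_le_sylow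
  have hPH : (P : Subgroup G) = H := by
    by_contra hne
    have htop : (P : Subgroup G) = ⊤ := hmax.2 _ (lt_of_le_of_ne hP (Ne.symm hne))
    exact hTnp (r := p) ((htop ▸ P.isPGroup' : IsPGroup p (⊤ : Subgroup G)).to_le le_top)
  have hpG : ¬ p ∣ H.index := hPH ▸ P.not_dvd_index
  have hTbot : T ≠ ⊥ := (Subgroup.nontrivial_iff_ne_bot T).mp hT.toNontrivial
  have hTH : T ≠ H := fun h => hTnp (r := p) (IsPGroup.of_card (n := 1) (by rw [pow_one, hpdef, h]))
  by_cases hHT : H ≤ T
  · have htop : T = ⊤ := hmax.2 _ (lt_of_le_of_ne hHT hTH.symm)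
    have hG : IsSimpleGroup G := by
      subst htop
      exact (Subgroup.topEquiv : (⊤ : Subgroup G) ≃* G).symm.isSimpleGroup
    have hN : Subgroup.normalizer (H : Set G) = H := by
      by_contra hne
      have h := hmax.2 _ (lt_of_le_of_ne Subgroup.le_normalizer (Ne.symm hne))
      have hn : H.Normal := Subgroup.normalizer_eq_top_iff.mp h
      rcases hG.eq_bot_or_eq_top_of_normal H hn with h | h
      · rw [hpdef, h, Subgroup.card_bot] at hp
        exact Nat.not_prime_one hp
      · exact hmax.1 h
    haveI : IsCyclic H := isCyclic_of_prime_card (p := p) rfl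
    letI := IsCyclic.commGroup (α := H)
    have hle : Subgroup.normalizer ((P : Subgroup G) : Set G) ≤ Subgroup.centralizer ((P : Subgroup G) : Set G) := by
      rw [hPH, hN]
      intro a ha
      rw [Subgroup.mem_centralizer_iff]
      intro b hb
      exact congrArg Subtype.val (mul_comm (⟨b, hb⟩ : H) ⟨a, ha⟩)
    have hcomp := MonoidHom.ker_transferSylow_isComplement' P hle
    have hcm := hcomp.card_mul
    have hc : Nat.card (P : Subgroup G) = p := by rw [hPH]
    rw [hc] at hcm
    rcases hG.eq_bot_or_eq_top_of_normal (MonoidHom.transferSylow P hle).ker inferInstance with h | h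
    · rw [h, Subgroup.card_bot, one_mul] at hcm
      exact hmax.1 (Subgroup.eq_top_of_card_eq H hcm)
    · rw [h, Subgroup.card_top] at hcm
      have := Nat.card_pos (α := G)
      have := hp.two_le
      nlinarith
  · have hsup : T ⊔ H = ⊤ := hmax.2 _ (lt_of_le_of_ne le_sup_right fun h => hTH (by
      have h1 : T ≤ H := h ▸ le_sup_left
      have h2 := Subgroup.card_dvd_of_le h1
      rcases (Nat.dvd_prime hp).mp h2 with h3 | h3
      · exact absurd (Subgroup.eq_bot_of_card_eq T h3) hTbot
      · exact Subgroup.eq_of_le_of_card_ge h1 h3.ge))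
    have hinf : T ⊓ H = ⊥ := by
      rcases (Nat.dvd_prime hp).mp (Subgroup.card_dvd_of_le (inf_le_right : T ⊓ H ≤ H)) with h | h
      · exact Subgroup.eq_bot_of_card_eq _ h
      · exact absurd ((Subgroup.eq_of_le_of_card_ge inf_le_right h.ge) ▸ inf_le_left) hHT
    have hcomp : Subgroup.IsComplement' T H := by
      apply Subgroup.isComplement'_of_disjoint_and_mul_eq_univ (disjoint_iff.mpr hinf)
      rw [← Subgroup.normal_mul, hsup, Subgroup.coe_top]
    have hidx : T.index = p := hcomp.symm.index_eq_card
    obtain ⟨r, hr, hrd⟩ := Nat.exists_prime_and_dvd (n := Nat.card T) (Finite.one_lt_card_iff_nontrivial.mpr hT.toNontrivial).ne'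
    haveI := Fact.mk hr
    let R : Sylow r T := default
    set R' : Subgroup G := (R : Subgroup T).map T.subtype with hR'
    have hfr : Subgroup.normalizer (R' : Set G) ⊔ T = ⊤ := Sylow.normalizer_sup_eq_top R
    set f := (QuotientGroup.mk' T).comp (Subgroup.normalizer (R' : Set G)).subtype
    have hf : Function.Surjective f := by
      intro y
      obtain ⟨y, rfl⟩ := QuotientGroup.mk'_surjective T y
      have hy : y ∈ Subgroup.normalizer (R' : Set G) ⊔ T := hfr ▸ Subgroup.mem_top y
      obtain ⟨n, hn, t, ht, rfl⟩ := Subgroup.mem_sup_of_normal_right.mp hy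
      refine ⟨⟨n, hn⟩, ?_⟩
      simp only [f, MonoidHom.coe_comp, Function.comp_apply, Subgroup.coe_subtype, map_mul]
      rw [(QuotientGroup.eq_one_iff t).mpr ht |> (fun h => (show QuotientGroup.mk' T t = 1 from h)), mul_one]
    have hpd : p ∣ Nat.card (Subgroup.normalizer (R' : Set G)) := by
      have := Subgroup.card_dvd_of_surjective f hf
      rwa [← Subgroup.index_eq_card, hidx] at this
    obtain ⟨k, hk⟩ := exists_prime_orderOf_dvd_card' p hpd
    set K := Subgroup.zpowers (k : G)
    have hKc : Nat.card K = p := by rw [Nat.card_zpowers, Subgroup.orderOf_coe, hk]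
    obtain ⟨Q, hQ⟩ := (IsPGroup.of_card (n := 1) (by rw [pow_one]; exact hKc) : IsPGroup p K).exists_le_sylow
    have hQK : (Q : Subgroup G) = K := by
      refine (Subgroup.eq_of_le_of_card_ge hQ ?_).symm
      rw [hKc, Nat.card_congr (Sylow.equiv Q P).toEquiv, Nat.card_congr (MulEquiv.subgroupCongr hPH).toEquiv]
    obtain ⟨g, hg⟩ := MulAction.exists_smul_eq G P Q
    have hKmax : IsCoatom K := by
      have h : K = (MulAut.conj g).mapSubgroup H := by
        rw [← hQK, ← hg, ← hPH]
        rfl
      rw [h, OrderIso.isCoatom_iff]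
      exact hmax
    have hKN : K ≤ Subgroup.normalizer (R' : Set G) := Subgroup.zpowers_le.mpr k.2
    have hRbot : R' ≠ ⊥ := by
      rw [hR', Ne, Subgroup.map_eq_bot_iff_of_injective _ T.subtype_injective]
      exact R.ne_bot_of_dvd_card hrd
    have hlt : K < K ⊔ R' := by
      refine lt_of_le_of_ne le_sup_left fun h => hRbot ?_
      have h1 : R' ≤ K := h ▸ le_sup_right
      have h2 : Nat.card R' ∣ p := hKc ▸ Subgroup.card_dvd_of_le h1
      rcases (Nat.dvd_prime hp).mp h2 with h3 | h3
      · exact Subgroup.eq_bot_of_card_eq R' h3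
      · exfalso
        have h4 : Nat.card R' ∣ Nat.card T := Subgroup.card_dvd_of_le (Subgroup.map_subtype_le _)
        apply hpG
        have := hcomp.index_eq_card
        rw [this, ← h3]
        exact h4
    have hn : R'.Normal := by
      rw [← Subgroup.normalizer_eq_top_iff, ← top_le_iff, ← hKmax.2 _ hlt]
      exact sup_le hKN Subgroup.le_normalizer
    have hRn : (R : Subgroup T).Normal := by
      have h : (R : Subgroup T) = R'.subgroupOf T := (Subgroup.comap_map_eq_self_of_injective T.subtype_injective _).symm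
      rw [h]
      exact hn.subgroupOf T
    rcases hT.eq_bot_or_eq_top_of_normal _ hRn with h | h
    · exact R.ne_bot_of_dvd_card hrd h
    · exact hTnp (r := r) ((h ▸ R.isPGroup' : IsPGroup r (⊤ : Subgroup T)).of_equiv Subgroup.topEquiv)

end Cfsg.Agent.S3498
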