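import Cfsg.Statements.S3501
import Cfsg.Agent.Lib.Derange.AffineClasses

set_option autoImplicit false
set_option linter.style.haveILetI false
open Cfsg

namespace Cfsg.Agent.S3501

/-- Let a finite group G act faithfully and primitively on a finite set Ω with at least two points, and suppose G is not almost simple (it has no non-abelian simple normal subgroup with trivial centralizer). Then the derangements of G form a single conjugacy class if and only if G is sharply 2-transitive (2-transitive, and no non-identity element fixes two points). -/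
theorem result {G : Type*} [Group G] [Finite G] {Ω : Type*} [Fintype Ω] [MulAction G Ω] [FaithfulSMul G Ω] (hΩ : 2 ≤ Fintype.card Ω) (hprim : MulAction.IsPreprimitive G Ω) (hnas : ¬ ∃ T : Subgroup G, T.Normal ∧ IsSimpleGroup T ∧ ¬ IsMulCommutative T ∧ Subgroup.centralizer (T : Set G) = ⊥) :
    Nat.card {c : ConjClasses G // ∃ g : G, ConjClasses.mk g = c ∧ ∀ ω : Ω, g • ω ≠ ω} = 1 ↔ (MulAction.IsMultiplyPretransitive G Ω 2 ∧ ∀ g : G, g ≠ 1 → ∀ a b : Ω, a ≠ b → g • a = a → g • b ≠ b) := by
  classical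
  haveI : Nontrivial Ω := Fintype.one_lt_card_iff_nontrivial.mp (by omega)
  haveI := hprim
  constructor
  · intro h1
    rcases CfsgLib.DerangeCount.affine_or_three hprim hnas with
      ⟨N, hN, -, hab, htr, hreg⟩ | ⟨x, y, z, hx, hy, hz, hxy, hxz, hyz⟩
    · haveI := hN
      have hder : ∀ n ∈ N, n ≠ 1 → ∀ ω : Ω, n • ω ≠ ω := fun n hn hn1 ω h => hn1 (hreg n hn ω h)
      refine ⟨CfsgLib.DerangeCount.two_pretransitive_of_isConj hab htr fun a ha b hb ha1 hb1 =>
        CfsgLib.DerangeCount.isConj_of_one h1 (hder a ha ha1) (hder b hb hb1), ?_⟩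
      have hD : ∀ g : G, (∀ ω : Ω, g • ω ≠ ω) → g ∈ N := by
        intro g hg
        obtain ⟨α, β, hαβ⟩ := exists_pair_ne Ω
        obtain ⟨⟨n, hn⟩, hnα⟩ := htr.exists_smul_eq α β
        have hn1 : n ≠ 1 := fun e => hαβ (by
          subst e
          exact ((one_smul G α).symm.trans hnα))
        obtain ⟨c, rfl⟩ := isConj_iff.mp (CfsgLib.DerangeCount.isConj_of_one h1 (hder n hn hn1) hg)
        exact hN.conj_mem n hn c
      intro g hg a b hab' ha
      exact CfsgLib.DerangeCount.sharp_of_fixedBy_le_one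
        (CfsgLib.DerangeCount.fixedBy_le_one htr hreg hD) hg hab' ha
    · exact (CfsgLib.DerangeCount.not_three (Ω := Ω) (h1.trans_le one_le_two) hx hy hz hxy hxz hyz).elim
  · rintro ⟨h2t, hfrob⟩
    haveI := h2t
    obtain ⟨⟨g, hg⟩, hconj⟩ := CfsgLib.DerangeCount.isConj_derangements hΩ hfrob
    rw [Nat.card_eq_one_iff_unique]
    refine ⟨⟨?_⟩, ⟨CfsgLib.DerangeCount.cls g hg⟩⟩
    rintro ⟨_, x, rfl, hx⟩ ⟨_, y, rfl, hy⟩
    exact Subtype.ext (ConjClasses.mk_eq_mk_iff_isConj.mpr (hconj x y hx hy))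

end Cfsg.Agent.S3501
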