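import Cfsg.Statements.S3504
import Mathlib
-- import your own Cfsg.Agent.* helpers here

set_option autoImplicit false
open Cfsg

namespace Cfsg.Agent.S3504

/-- For n ≥ 5, the fixed-point-free permutations of prime order in the symmetric group of degree n form a single conjugacy class if and only if n is a prime power. -/
theorem result (n : ℕ) (hn : 5 ≤ n) :
    Nat.card {c : ConjClasses (Equiv.Perm (Fin n)) // ∃ g : Equiv.Perm (Fin n), ConjClasses.mk g = c ∧ (orderOf g).Prime ∧ ∀ i : Fin n, g i ≠ i} = 1 ↔ IsPrimePow n := by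
  classical
  let T := {c : ConjClasses (Equiv.Perm (Fin n)) // ∃ g : Equiv.Perm (Fin n), ConjClasses.mk g = c ∧ (orderOf g).Prime ∧ ∀ i : Fin n, g i ≠ i}
  have hkey : ∀ g : Equiv.Perm (Fin n), (orderOf g).Prime → (∀ i, g i ≠ i) →
      orderOf g ∈ n.primeFactors ∧ g.cycleType = Multiset.replicate (n / orderOf g) (orderOf g) := by
    intro g hp hd
    obtain ⟨k, hk⟩ := Equiv.Perm.cycleType_prime_order hp
    have h := g.sum_cycleType
    rw [hk, Multiset.sum_replicate, smul_eq_mul,
      show g.support = Finset.univ from Finset.eq_univ_iff_forall.mpr fun i => Equiv.Perm.mem_support.mpr (hd i),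
      Finset.card_univ, Fintype.card_fin] at h
    have hd2 : n / orderOf g = k + 1 := Nat.div_eq_of_eq_mul_left hp.pos h.symm
    exact ⟨Nat.mem_primeFactors.mpr ⟨hp, ⟨k + 1, by rw [mul_comm]; exact h.symm⟩, by omega⟩, by rw [hd2]; exact hk⟩
  have hex : ∀ r ∈ n.primeFactors, ∃ g : Equiv.Perm (Fin n), orderOf g = r ∧ ∀ i, g i ≠ i := by
    intro r hr
    obtain ⟨hp, ⟨k, hk⟩, -⟩ := Nat.mem_primeFactors.mp hr
    have hk0 : k ≠ 0 := by rintro rfl; omega
    obtain ⟨g, hg⟩ := (Equiv.Perm.exists_with_cycleType_iff (Fin n) (m := Multiset.replicate k r)).mpr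
      ⟨by rw [Multiset.sum_replicate, Fintype.card_fin, smul_eq_mul, mul_comm, ← hk],
        fun a ha => by rw [Multiset.eq_of_mem_replicate ha]; exact hp.two_le⟩
    refine ⟨g, ?_, fun i => Equiv.Perm.mem_support.mp ?_⟩
    · rw [← g.lcm_cycleType, hg]
      exact Nat.dvd_antisymm (Multiset.lcm_dvd.mpr fun a ha => (Multiset.eq_of_mem_replicate ha).symm ▸ dvd_rfl)
        (Multiset.dvd_lcm (Multiset.mem_replicate.mpr ⟨hk0, rfl⟩))
    · have h := g.sum_cycleType
      rw [hg, Multiset.sum_replicate, smul_eq_mul, mul_comm, ← hk] at h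
      rw [show g.support = Finset.univ from Finset.eq_univ_of_card _ (by rw [Fintype.card_fin]; exact h.symm)]
      exact Finset.mem_univ i
  choose gf hgf hgd using hex
  let e : n.primeFactors → T := fun r => ⟨ConjClasses.mk (gf r r.2), gf r r.2, rfl,
    (hgf r r.2).symm ▸ Nat.prime_of_mem_primeFactors r.2, hgd r r.2⟩
  have hbij : Function.Bijective e := by
    refine ⟨fun a b h => ?_, ?_⟩
    · have h1 := ConjClasses.mk_eq_mk_iff_isConj.mp (congrArg Subtype.val h)
      rw [Equiv.Perm.isConj_iff_cycleType_eq] at h1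
      refine Subtype.ext ?_
      rw [← hgf a a.2, ← hgf b b.2, ← Equiv.Perm.lcm_cycleType, h1, Equiv.Perm.lcm_cycleType]
    · rintro ⟨_, g, rfl, hp, hd⟩
      obtain ⟨hmem, hct⟩ := hkey g hp hd
      refine ⟨⟨_, hmem⟩, Subtype.ext (ConjClasses.mk_eq_mk_iff_isConj.mpr (Equiv.Perm.isConj_iff_cycleType_eq.mpr ?_))⟩
      rw [hct, (hkey _ (by rw [hgf]; exact hp) (hgd _ hmem)).2, hgf]
  rw [show Nat.card T = n.primeFactors.card by rw [← Nat.card_congr (Equiv.ofBijective e hbij), Nat.card_eq_fintype_card, Fintype.card_coe]]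
  rw [isPrimePow_iff_card_primeFactors_eq_one]

end Cfsg.Agent.S3504
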