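import Cfsg.Statements.S3508
import Mathlib
-- import your own Cfsg.Agent.* helpers here

set_option autoImplicit false
open Cfsg

namespace Cfsg.Agent.S3508

/-- Let a finite group G act faithfully on a set Ω with p ^ m points (p prime) and have an elementary abelian normal p-subgroup N acting regularly on Ω (so G is a group of affine transformations of an m-dimensional space over the field with p elements). If G contains an element of order p ^ r with r ≥ 1, then p ^ (r − 1) ≤ m. In particular an element of order p ^ m forces m ≤ 2, and m ≤ 1 when p is odd. -/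
theorem result {G : Type*} [Group G] [Finite G] {Ω : Type*} [Fintype Ω] [MulAction G Ω] [FaithfulSMul G Ω] (p m : ℕ) (hp : p.Prime) (hcard : Fintype.card Ω = p ^ m)
    (N : Subgroup G) [N.Normal] (hNc : IsMulCommutative N) (hNp : ∀ n ∈ N, n ^ p = 1)
    (hNtr : MulAction.IsPretransitive N Ω) (hNreg : ∀ ω : Ω, MulAction.stabilizer N ω = ⊥)
    (g : G) (r : ℕ) (hr : 1 ≤ r) (hg : orderOf g = p ^ r) :
    p ^ (r - 1) ≤ m ∧ (r = m → m ≤ 2 ∧ (2 < p → m ≤ 1)) := by
  classical
  have : Fact p.Prime := ⟨hp⟩
  have main : p ^ (r - 1) ≤ m := by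
    by_contra hlt
    push Not at hlt
    let q := p ^ (r - 1)
    suffices g ^ q = 1 by
      have h := orderOf_dvd_of_pow_eq_one this
      rw [hg, Nat.pow_dvd_pow_iff_le_right hp.one_lt] at h
      omega
    obtain ⟨α⟩ : Nonempty Ω := Fintype.card_pos_iff.mp (hcard ▸ pow_pos hp.pos m)
    obtain ⟨⟨n₀, hn₀⟩, hn₀α⟩ := MulAction.exists_smul_eq N α (g • α)
    let s := n₀⁻¹ * g
    have hsα : s • α = α := by
      show (n₀⁻¹ * g) • α = α
      rw [mul_smul, inv_smul_eq_iff]; exact hn₀α.symm
    have hz : ∀ v : Additive ↥N, p • v = 0 := fun v => by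
      apply Additive.toMul.injective
      rw [toMul_nsmul]
      exact Subtype.ext (hNp _ (Additive.toMul v).2)
    let : CommGroup N :=
      { (inferInstance : Group N) with mul_comm := fun a b => hNc.is_comm.comm a b }
    let : Module (ZMod p) (Additive ↥N) := AddCommGroup.zmodModule (n := p) hz
    let A : G →* Module.End (ZMod p) (Additive ↥N) :=
      { toFun := fun x => AddMonoidHom.toZModLinearMap p (MonoidHom.toAdditive (MulAut.conjNormal x : MulAut N).toMonoidHom)
        map_one' := by
          rw [map_one]; exact LinearMap.ext fun v => rfl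
        map_mul' := fun x y => by
          rw [map_mul]; exact LinearMap.ext fun v => rfl }
    have hAcoe : ∀ (x : G) (v : (Additive ↥N)), ((Additive.toMul (A x v) : N) : G) = x * ((Additive.toMul v : N) : G) * x⁻¹ := fun x v => rfl
    have hAN : A n₀ = 1 := by
      refine LinearMap.ext fun v => Additive.toMul.injective (Subtype.ext ?_)
      show n₀ * ((Additive.toMul v : N) : G) * n₀⁻¹ = _
      rw [show n₀ * ((Additive.toMul v : N) : G) = ((Additive.toMul v : N) : G) * n₀ from
        congrArg Subtype.val (hNc.is_comm.comm (⟨n₀, hn₀⟩ : N) (Additive.toMul v))]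
      show ((Additive.toMul v : N) : G) * n₀ * n₀⁻¹ = _
      rw [mul_inv_cancel_right]; rfl
    have hAs : A s = A g := by
      have h : A n₀ * A s = A g := by rw [← map_mul, mul_inv_cancel_left]
      rwa [hAN, one_mul] at h
    let a := A g
    have hVcard : Nat.card (Additive ↥N) = p ^ m := by
      rw [← hcard, ← Nat.card_eq_fintype_card (α := Ω)]
      show Nat.card ↥N = Nat.card Ω
      refine Nat.card_congr (Equiv.ofBijective (fun n : N => n • α) ⟨fun x y e => ?_, MulAction.surjective_smul N α⟩)
      have h : y⁻¹ * x ∈ MulAction.stabilizer N α := by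
        show (y⁻¹ * x) • α = α
        rw [mul_smul, inv_smul_eq_iff]; exact e
      rw [hNreg, Subgroup.mem_bot, inv_mul_eq_one] at h
      exact h.symm
    have : Module.Finite (ZMod p) (Additive ↥N) := Module.Finite.of_finite
    have hfr : Module.finrank (ZMod p) (Additive ↥N) = m := by
      have h := Module.natCard_eq_pow_finrank (K := ZMod p) (V := Additive ↥N)
      rw [hVcard, Nat.card_zmod] at h
      exact (Nat.pow_right_injective hp.two_le h).symm
    have hnil : IsNilpotent (a - 1) := by
      refine ⟨p ^ r, ?_⟩
      have : CharP (Module.End (ZMod p) (Additive ↥N)) p ∨ Subsingleton (Additive ↥N) := by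
        rcases subsingleton_or_nontrivial (Additive ↥N) with h | h
        · exact Or.inr h
        · exact Or.inl (charP_of_injective_algebraMap (algebraMap (ZMod p) (Module.End (ZMod p) (Additive ↥N))).injective p)
      rcases this with h | h
      · rw [sub_pow_char_pow_of_commute p r (Commute.one_right a), one_pow, ← map_pow,
          orderOf_dvd_iff_pow_eq_one.mp (dvd_of_eq hg), map_one, sub_self]
      · exact LinearMap.ext fun v => Subsingleton.elim _ _
    have hDm : (a - 1) ^ m = 0 := by
      have h := LinearMap.aeval_self_charpoly (a - 1)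
      rwa [hnil.charpoly_eq_X_pow_finrank, map_pow, Polynomial.aeval_X, hfr] at h
    have hq1 : 1 ≤ q := Nat.one_le_pow _ _ hp.pos
    have hDq : (a - 1) ^ (q - 1) = 0 := pow_eq_zero_of_le (by show m ≤ p ^ (r - 1) - 1; omega) hDm
    have hsum : ∑ i ∈ Finset.range q, a ^ i = 0 := by
      have hpoly : (∑ i ∈ Finset.range q, (Polynomial.X : Polynomial (ZMod p)) ^ i) = (Polynomial.X - 1) ^ (q - 1) := by
        have hne : (Polynomial.X - 1 : Polynomial (ZMod p)) ≠ 0 := by
          simpa using Polynomial.X_sub_C_ne_zero (1 : ZMod p)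
        refine mul_right_cancel₀ hne ?_
        rw [geom_sum_mul, ← pow_succ, Nat.sub_add_cancel hq1, sub_pow_char_pow, one_pow]
      have h := congrArg (Polynomial.aeval a) hpoly
      simp only [map_sum, map_pow, map_sub, map_one, Polynomial.aeval_X] at h
      rw [h, hDq]
    have hsq : s ^ q = 1 := by
      have hAq : A (s ^ q) = 1 := by
        rw [map_pow, hAs]
        have h : (a - 1) ^ q = 0 := pow_eq_zero_of_le (Nat.sub_le q 1) hDq
        rcases subsingleton_or_nontrivial (Additive ↥N) with hh | hh
        · exact LinearMap.ext fun v => Subsingleton.elim _ _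
        · have : CharP (Module.End (ZMod p) (Additive ↥N)) p :=
            charP_of_injective_algebraMap (algebraMap (ZMod p) (Module.End (ZMod p) (Additive ↥N))).injective p
          rw [sub_pow_char_pow_of_commute p (r - 1) (Commute.one_right a), one_pow, sub_eq_zero] at h
          exact h
      have hfix : (s ^ q) • α = α := by
        have : s ^ q ∈ MulAction.stabilizer G α := pow_mem hsα q
        exact this
      refine eq_of_smul_eq_smul fun ω : Ω => ?_
      obtain ⟨n, rfl⟩ := MulAction.exists_smul_eq N α ω
      have hc : s ^ q * (n : G) = n * s ^ q := by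
        have := hAcoe (s ^ q) (Additive.ofMul n)
        rw [hAq] at this
        have h' : (n : G) = s ^ q * n * (s ^ q)⁻¹ := this
        conv_rhs => rw [h', inv_mul_cancel_right]
      show (s ^ q) • ((n : G) • α) = (1 : G) • ((n : G) • α)
      rw [one_smul, smul_smul, hc, mul_smul, hfix]
    let v₀ : (Additive ↥N) := Additive.ofMul (⟨n₀, hn₀⟩ : N)
    have hgk : ∀ k, g ^ k = ((Additive.toMul (∑ i ∈ Finset.range k, (a ^ i) v₀) : N) : G) * s ^ k := by
      intro k
      induction k with
      | zero => simp
      | succ k ih =>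
        have hg' : g = n₀ * s := by simp [s]
        have e : ((Additive.toMul ((a ^ k) v₀) : N) : G) = s ^ k * n₀ * (s ^ k)⁻¹ := by
          show ((Additive.toMul ((A g ^ k) v₀) : N) : G) = _
          rw [← hAs, ← map_pow]
          exact hAcoe (s ^ k) v₀
        rw [pow_succ, ih, Finset.sum_range_succ, toMul_add, Subgroup.coe_mul, e, pow_succ]
        conv_lhs => rw [hg']
        group
    rw [hgk q, hsq, mul_one, ← LinearMap.sum_apply, hsum]
    rfl
  refine ⟨main, fun hrm => ?_⟩
  subst hrm
  constructor
  · by_contra h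
    push Not at h
    have h1 : 2 ^ (r - 1) ≤ p ^ (r - 1) := Nat.pow_le_pow_left hp.two_le _
    obtain ⟨j, rfl⟩ : ∃ j, r = j + 3 := ⟨r - 3, by omega⟩
    have h2 := Nat.lt_two_pow_self (n := j)
    rw [show j + 3 - 1 = j + 2 by omega, pow_add] at h1
    rw [show j + 3 - 1 = j + 2 by omega] at main
    omega
  · intro hp2
    by_contra h
    push Not at h
    have h1 : 3 ^ (r - 1) ≤ p ^ (r - 1) := Nat.pow_le_pow_left hp2 _
    obtain ⟨j, rfl⟩ : ∃ j, r = j + 2 := ⟨r - 2, by omega⟩
    have h2 := Nat.lt_pow_self (a := 3) (n := j) (by norm_num)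
    rw [show j + 2 - 1 = j + 1 by omega, pow_succ] at h1
    rw [show j + 2 - 1 = j + 1 by omega] at main
    omega

end Cfsg.Agent.S3508
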