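import Cfsg.Statements.S3511

-- import your own Cfsg.Agent.* helpers here

set_option autoImplicit false
open Cfsg

namespace Cfsg.Agent.S3511

/-- Let a finite group G act faithfully on a set Ω. If every element of G of square-free order has a regular cycle (an orbit of the cyclic group it generates with trivial stabilizer), then every element of G has a regular cycle. -/
theorem result {G : Type*} [Group G] [Finite G] {Ω : Type*} [MulAction G Ω] [FaithfulSMul G Ω]
    (h : ∀ g : G, Squarefree (orderOf g) → ∃ ω : Ω, MulAction.stabilizer (Subgroup.zpowers g) ω = ⊥) (g : G) :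
    ∃ ω : Ω, MulAction.stabilizer (Subgroup.zpowers g) ω = ⊥ := by
  classical
  set n := orderOf g with hn
  have hn0 : 0 < n := orderOf_pos g
  set r := ∏ q ∈ n.primeFactors, q with hr
  have hrn : r ∣ n := Nat.prod_primeFactors_dvd n
  have hr0 : 0 < r := Finset.prod_pos fun q hq => (Nat.prime_of_mem_primeFactors hq).pos
  set k := g ^ (n / r) with hk
  have hok : orderOf k = r := by
    rw [hk, orderOf_pow_of_dvd (Nat.div_pos (Nat.le_of_dvd hn0 hrn) hr0).ne' (Nat.div_dvd_of_dvd hrn)]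
    exact Nat.div_div_self hrn hn0.ne'
  have hsq : Squarefree (orderOf k) := by
    rw [hok, hr]
    refine Finset.squarefree_prod_of_pairwise_isCoprime (fun a ha b hb hab => ?_) fun a ha => (Nat.prime_of_mem_primeFactors ha).squarefree
    rw [Function.onFun, ← Nat.coprime_iff_isRelPrime]
    exact (Nat.coprime_primes (Nat.prime_of_mem_primeFactors ha) (Nat.prime_of_mem_primeFactors hb)).mpr hab
  obtain ⟨ω, hω⟩ := h k hsq
  refine ⟨ω, ?_⟩
  by_contra hne
  set T := MulAction.stabilizer (Subgroup.zpowers g) ω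
  have hT : Nat.card T ≠ 1 := fun h => hne (Subgroup.eq_bot_of_card_eq T h)
  obtain ⟨p, hp, hpd⟩ := Nat.exists_prime_and_dvd hT
  haveI := Fact.mk hp
  obtain ⟨z, hz⟩ := exists_prime_orderOf_dvd_card' p hpd
  have hzo : orderOf ((z : Subgroup.zpowers g) : G) = p := by
    rw [Subgroup.orderOf_coe, Subgroup.orderOf_coe, hz]
  obtain ⟨j, hj⟩ := Subgroup.mem_zpowers_iff.mp (z : Subgroup.zpowers g).2
  have hpn : p ∣ n := hzo ▸ orderOf_dvd_of_mem_zpowers (z : Subgroup.zpowers g).2
  have hpr : p ∣ r := Finset.dvd_prod_of_mem _ (Nat.mem_primeFactors.mpr ⟨hp, hpn, hn0.ne'⟩)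
  have hzp : ((z : Subgroup.zpowers g) : G) ^ p = 1 := by rw [← hzo, pow_orderOf_eq_one]
  rw [← hj, ← zpow_natCast, ← zpow_mul, ← orderOf_dvd_iff_zpow_eq_one] at hzp
  obtain ⟨i, hi⟩ := hzp
  have hji : j = ((n / r : ℕ) : ℤ) * (((r / p : ℕ) : ℤ) * i) := by
    obtain ⟨a, ha⟩ := hrn
    obtain ⟨c, hc⟩ := hpr
    rw [ha, Nat.mul_div_cancel_left a hr0, hc, Nat.mul_div_cancel_left c hp.pos]
    rw [← hn, ha, hc] at hi
    push_cast at hi
    apply mul_right_cancel₀ (show (p : ℤ) ≠ 0 by exact_mod_cast hp.ne_zero)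
    linear_combination hi
  have hzk : ((z : Subgroup.zpowers g) : G) ∈ Subgroup.zpowers k := by
    rw [← hj, hji, hk, ← zpow_natCast g, Subgroup.mem_zpowers_iff]
    exact ⟨((r / p : ℕ) : ℤ) * i, by rw [zpow_mul g ((n / r : ℕ) : ℤ)]⟩
  have hmem : (⟨_, hzk⟩ : Subgroup.zpowers k) ∈ MulAction.stabilizer (Subgroup.zpowers k) ω := z.2
  rw [hω, Subgroup.mem_bot] at hmem
  have h1 : ((z : Subgroup.zpowers g) : G) = 1 := congrArg Subtype.val hmem
  rw [h1, orderOf_one] at hzo
  exact hp.one_lt.ne hzo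

end Cfsg.Agent.S3511
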