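import Cfsg.Statements.S3514
import Mathlib
-- import your own Cfsg.Agent.* helpers here

set_option autoImplicit false
open Cfsg

namespace Cfsg.Agent.S3514

theorem relIndex_sup_normal {Γ : Type*} [Group Γ] [Finite Γ] (N T : Subgroup Γ) [N.Normal] :
    T.relIndex (N ⊔ T) = T.relIndex N := by
  have h1 := Subgroup.relIndex_mul_relIndex (⊥ : Subgroup Γ) T (N ⊔ T) bot_le le_sup_right
  have h2 := Subgroup.relIndex_mul_relIndex (⊥ : Subgroup Γ) N (N ⊔ T) bot_le le_sup_left
  have h3 := Subgroup.relIndex_mul_relIndex (⊥ : Subgroup Γ) (T ⊓ N) N bot_le inf_le_right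
  have h4 := Subgroup.relIndex_mul_relIndex (⊥ : Subgroup Γ) (T ⊓ N) T bot_le inf_le_left
  rw [Subgroup.inf_relIndex_left] at h4
  rw [Subgroup.inf_relIndex_right] at h3
  rw [sup_comm N T, Subgroup.relIndex_sup_right] at h2
  rw [sup_comm N T] at h1 ⊢
  simp only [Subgroup.relIndex_bot_left] at h1 h2 h3 h4
  have hpos : 0 < Nat.card T := Nat.card_pos
  have hpos2 : 0 < Nat.card ↥(T ⊓ N) := Nat.card_pos
  refine Nat.eq_of_mul_eq_mul_left hpos ?_
  rw [h1, ← h2, ← h3, ← h4]; ring

theorem relIndex_dvd_index' {Γ : Type*} [Group Γ] [Finite Γ] (N T : Subgroup Γ) [N.Normal] :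
    T.relIndex N ∣ T.index := by
  rw [← relIndex_sup_normal N T, ← Subgroup.relIndex_mul_index (le_sup_right : T ≤ N ⊔ T)]
  exact Dvd.intro _ rfl

/-- Orbit sizes as relative indices. -/
theorem card_orbit_eq {W α : Type*} [Group W] [MulAction W α] (K : Subgroup W) (v : α) :
    Nat.card {u : α | ∃ k ∈ K, k • v = u} = (MulAction.stabilizer W v).relIndex K := by
  have e : {u : α | ∃ k ∈ K, k • v = u} = MulAction.orbit K v := by
    ext u
    exact ⟨fun ⟨k, hk, h⟩ => ⟨⟨k, hk⟩, h⟩, fun ⟨⟨k, hk⟩, h⟩ => ⟨k, hk, h⟩⟩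
  rw [e, Nat.card_coe_set_eq, ← MulAction.index_stabilizer]
  rfl

/-- Let p be a prime, V a finite vector space over the field with p elements, and H a group of linear transformations of V all of whose orbits on V have size coprime to p. (i) Every normal subgroup K of H has all its orbits on V of size coprime to p. (ii) If N is a group of linear transformations of V of order coprime to p that is normalized by H, then the group generated by N and H has all its orbits on V of size coprime to p. -/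
theorem result (p : ℕ) [Fact p.Prime] {V : Type*} [AddCommGroup V] [Module (ZMod p) V] [Finite V]
    (H : Subgroup (V ≃ₗ[ZMod p] V)) (hH : ∀ v : V, ¬ p ∣ Nat.card {u : V | ∃ h ∈ H, h v = u}) :
    (∀ K : Subgroup (V ≃ₗ[ZMod p] V), K ≤ H → H ≤ Subgroup.normalizer (K : Set (V ≃ₗ[ZMod p] V)) →
        ∀ v : V, ¬ p ∣ Nat.card {u : V | ∃ k ∈ K, k v = u}) ∧
    (∀ N : Subgroup (V ≃ₗ[ZMod p] V), ¬ p ∣ Nat.card N → H ≤ Subgroup.normalizer (N : Set (V ≃ₗ[ZMod p] V)) →
        ∀ v : V, ¬ p ∣ Nat.card {u : V | ∃ x ∈ N ⊔ H, x v = u}) := by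
  classical
  let W := V ≃ₗ[ZMod p] V
  have : Finite W := Finite.of_injective (fun e : W => (e : V → V)) DFunLike.coe_injective
  refine ⟨fun K hK hn v h => hH v ?_, fun N hN hn v h => ?_⟩
  · change p ∣ Nat.card {u : V | ∃ k ∈ H, k • v = u}
    change p ∣ Nat.card {u : V | ∃ k ∈ K, k • v = u} at h
    rw [card_orbit_eq] at h ⊢
    have : (K.subgroupOf H).Normal := (Subgroup.normal_subgroupOf_iff_le_normalizer hK).mpr hn
    have h2 := relIndex_dvd_index' (K.subgroupOf H) ((MulAction.stabilizer W v).subgroupOf H)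
    rw [Subgroup.relIndex_subgroupOf hK] at h2
    exact h.trans h2
  · change p ∣ Nat.card {u : V | ∃ k ∈ N ⊔ H, k • v = u} at h
    rw [card_orbit_eq] at h
    let Γ : Subgroup W := N ⊔ H
    let N' := N.subgroupOf Γ
    let H' := H.subgroupOf Γ
    let T := (MulAction.stabilizer W v).subgroupOf Γ
    have : N'.Normal := (Subgroup.normal_subgroupOf_iff_le_normalizer le_sup_left).mpr
      (sup_le Subgroup.le_normalizer hn)
    have hsup : N' ⊔ H' = ⊤ := by
      show N.subgroupOf Γ ⊔ H.subgroupOf Γ = ⊤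
      rw [← Subgroup.subgroupOf_sup le_sup_left le_sup_right, Subgroup.subgroupOf_self]
    change p ∣ T.index at h
    rw [← Subgroup.relIndex_mul_index (le_sup_right : T ≤ N' ⊔ T)] at h
    rcases (Fact.out : p.Prime).dvd_mul.mp h with h | h
    · rw [relIndex_sup_normal] at h
      refine hN (h.trans ?_)
      rw [Subgroup.relIndex_subgroupOf (le_sup_left : N ≤ Γ)]
      exact Subgroup.relIndex_dvd_card _ _
    · refine hH v ?_
      change p ∣ Nat.card {u : V | ∃ k ∈ H, k • v = u}
      rw [card_orbit_eq]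
      -- `H'` acts transitively on the cosets of `N' ⊔ T`
      have htr : ((N' ⊔ T).relIndex H') = (N' ⊔ T).index := by
        rw [Subgroup.index_eq_card, ← Nat.card_congr (Equiv.Set.univ (Γ ⧸ (N' ⊔ T)))]
        have horb : MulAction.orbit H' (QuotientGroup.mk (1 : Γ) : Γ ⧸ (N' ⊔ T)) = Set.univ := by
          refine Set.eq_univ_of_forall fun x => ?_
          obtain ⟨g, rfl⟩ := QuotientGroup.mk_surjective x
          obtain ⟨k, hk, n, hn', rfl⟩ := Subgroup.mem_sup_of_normal_right.mp
            ((sup_comm N' H' ▸ hsup).ge (Subgroup.mem_top g))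
          refine ⟨⟨k, hk⟩, ?_⟩
          show QuotientGroup.mk (k * 1) = QuotientGroup.mk (k * n)
          rw [QuotientGroup.eq]
          simpa [mul_assoc] using (Subgroup.mem_sup_left hn' : n ∈ N' ⊔ T)
        rw [← horb, Nat.card_coe_set_eq, ← MulAction.index_stabilizer]
        have e : MulAction.stabilizer H' (QuotientGroup.mk (1 : Γ) : Γ ⧸ (N' ⊔ T)) = (N' ⊔ T).subgroupOf H' := by
          ext k
          rw [MulAction.mem_stabilizer_iff, Subgroup.mem_subgroupOf]
          show QuotientGroup.mk ((k : Γ) * 1) = QuotientGroup.mk (1 : Γ) ↔ _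
          rw [QuotientGroup.eq]; simp
        rw [e]; rfl
      rw [← htr] at h
      refine h.trans ?_
      rw [← Subgroup.relIndex_subgroupOf (le_sup_right : H ≤ Γ) (H := MulAction.stabilizer W v)]
      exact Subgroup.relIndex_dvd_of_le_left _ le_sup_right

end Cfsg.Agent.S3514
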