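import Cfsg.Statements.S3515
import Mathlib
-- import your own Cfsg.Agent.* helpers here

set_option autoImplicit false
open Cfsg

namespace Cfsg.Agent.S3515

theorem four_points : ∀ x : Fin 2 → ZMod 2, x = 0 ∨ x = Pi.single 0 1 ∨ x = Pi.single 1 1 ∨ x = 1 := by decide

theorem one_ne : (1 : Fin 2 → ZMod 2) ≠ 0 ∧ (1 : Fin 2 → ZMod 2) ≠ Pi.single 0 1 ∧ (1 : Fin 2 → ZMod 2) ≠ Pi.single 1 1 := by decide

/-- A permutation preserving all the relations of affine triples is affine (odd characteristic). -/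
theorem affine_of_triples {p : ℕ} [Fact p.Prime] (hp : p ≠ 2) {d : ℕ} (σ : Equiv.Perm (Fin d → ZMod p))
    (hσ : ∀ t : Fin 3 → (Fin d → ZMod p), ∃ (A : (Fin d → ZMod p) ≃ₗ[ZMod p] (Fin d → ZMod p)) (b : Fin d → ZMod p),
      ∀ i, σ (t i) = A (t i) + b) :
    ∃ (A : (Fin d → ZMod p) ≃ₗ[ZMod p] (Fin d → ZMod p)) (b : Fin d → ZMod p), ∀ x, σ x = A x + b := by
  have h2 : (2 : ZMod p) ≠ 0 := fun e => hp ((Nat.prime_dvd_prime_iff_eq Fact.out Nat.prime_two).mp
    ((ZMod.natCast_eq_zero_iff 2 p).mp (by exact_mod_cast e)))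
  let f : (Fin d → ZMod p) → (Fin d → ZMod p) := fun x => σ x - σ 0
  have key : ∀ (a : ZMod p) x y, σ ((1 - a) • x + a • y) = (1 - a) • σ x + a • σ y := fun a x y => by
    obtain ⟨A, b, h⟩ := hσ ![x, y, (1 - a) • x + a • y]
    have e0 : σ x = A x + b := h 0
    have e1 : σ y = A y + b := h 1
    have e2 : σ ((1 - a) • x + a • y) = A ((1 - a) • x + a • y) + b := h 2
    rw [e0, e1, e2, map_add, map_smul, map_smul]
    module
  have hsmul : ∀ (a : ZMod p) x, f (a • x) = a • f x := fun a x => by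
    have h := key a 0 x
    rw [smul_zero, zero_add] at h
    show σ (a • x) - σ 0 = a • (σ x - σ 0)
    rw [h]; module
  have hadd : ∀ x y, f (x + y) = f x + f y := fun x y => by
    have h := key (2 : ZMod p)⁻¹ ((2 : ZMod p) • x) ((2 : ZMod p) • y)
    have e : (1 - (2 : ZMod p)⁻¹) = (2 : ZMod p)⁻¹ := by field_simp; norm_num
    rw [e, smul_smul, smul_smul, inv_mul_cancel₀ h2, one_smul, one_smul] at h
    have hx := hsmul 2 x
    have hy := hsmul 2 y
    show σ (x + y) - σ 0 = (σ x - σ 0) + (σ y - σ 0)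
    change σ ((2 : ZMod p) • x) - σ 0 = (2 : ZMod p) • (σ x - σ 0) at hx
    change σ ((2 : ZMod p) • y) - σ 0 = (2 : ZMod p) • (σ y - σ 0) at hy
    rw [sub_eq_iff_eq_add] at hx hy
    have e2 : ∀ u : Fin d → ZMod p, (2 : ZMod p)⁻¹ • u + (2 : ZMod p)⁻¹ • u = u := fun u => by
      rw [← add_smul, ← two_mul, mul_inv_cancel₀ h2, one_smul]
    rw [h, hx, hy, smul_add, smul_add, smul_smul, smul_smul, inv_mul_cancel₀ h2, one_smul, one_smul]
    calc σ x - σ 0 + (2 : ZMod p)⁻¹ • σ 0 + (σ y - σ 0 + (2 : ZMod p)⁻¹ • σ 0) - σ 0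
        = (σ x - σ 0) + (σ y - σ 0) + (((2 : ZMod p)⁻¹ • σ 0 + (2 : ZMod p)⁻¹ • σ 0) - σ 0) := by abel
      _ = (σ x - σ 0) + (σ y - σ 0) := by rw [e2, sub_self, add_zero]
  let L : (Fin d → ZMod p) →ₗ[ZMod p] (Fin d → ZMod p) := { toFun := f, map_add' := hadd, map_smul' := hsmul }
  have hinj : Function.Injective L := fun x y e => σ.injective (sub_left_injective e)
  exact ⟨LinearEquiv.ofInjectiveEndo L hinj, σ 0, fun x => (sub_add_cancel (σ x) (σ 0)).symm⟩

/-- Every primitive affine permutation group of degree p² is 3-closed. Let p be a prime and G a group of permutations of the plane V = F_p² consisting of affine maps x ↦ Ax + b, containing all translations, and acting primitively on V. Then any permutation σ of V that agrees on every triple of points with some element of G (σ preserves every G-orbit on ordered triples) already lies in G. -/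
theorem result (p : ℕ) [Fact p.Prime] (G : Subgroup (Equiv.Perm (Fin 2 → ZMod p)))
    (haff : (G : Set (Equiv.Perm (Fin 2 → ZMod p))) ⊆ {τ : Equiv.Perm (Fin 2 → ZMod p) | ∃ (A : (Fin 2 → ZMod p) ≃ₗ[ZMod p] (Fin 2 → ZMod p)) (b : Fin 2 → ZMod p), ∀ x, τ x = A x + b})
    (htrans : ∀ b : Fin 2 → ZMod p, ∃ g ∈ G, ∀ x, g x = x + b) (hprim : MulAction.IsPreprimitive G (Fin 2 → ZMod p))
    (σ : Equiv.Perm (Fin 2 → ZMod p)) (hσ : (∀ t : Fin 3 → (Fin 2 → ZMod p), ∃ g ∈ G, ∀ i, σ (t i) = g (t i))) : σ ∈ G := by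
  classical
  obtain ⟨g, hg, hgt⟩ := hσ ![0, Pi.single 0 1, Pi.single 1 1]
  obtain ⟨A, b, hAb⟩ := haff hg
  suffices σ = g by rw [this]; exact hg
  have h0 : σ 0 = g 0 := hgt 0
  have h1 : σ (Pi.single 0 1) = g (Pi.single 0 1) := hgt 1
  have h2 : σ (Pi.single 1 1) = g (Pi.single 1 1) := hgt 2
  by_cases hp : p = 2
  · subst hp
    -- the fourth point is forced
    have hall := four_points
    refine Equiv.ext fun x => ?_
    rcases hall x with rfl | rfl | rfl | rfl
    · exact h0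
    · exact h1
    · exact h2
    · rcases hall (g⁻¹ (σ 1)) with e | e | e | e
      all_goals have e' : σ 1 = g (g⁻¹ (σ 1)) := (g.apply_symm_apply _).symm
      all_goals rw [e] at e'
      · rw [← h0] at e'; exact absurd (σ.injective e') one_ne.1
      · rw [← h1] at e'; exact absurd (σ.injective e') one_ne.2.1
      · rw [← h2] at e'; exact absurd (σ.injective e') one_ne.2.2
      · exact e'
  obtain ⟨B, c, hBc⟩ := affine_of_triples hp σ fun t => by
    obtain ⟨k, hk, hkt⟩ := hσ t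
    obtain ⟨A', b', h'⟩ := haff hk
    exact ⟨A', b', fun i => (hkt i).trans (h' _)⟩
  rw [hBc, hAb, map_zero, map_zero, zero_add, zero_add] at h0
  rw [hBc, hAb, h0, add_left_inj] at h1 h2
  have hBA : (B : (Fin 2 → ZMod p) →ₗ[ZMod p] (Fin 2 → ZMod p)) = A := by
    refine LinearMap.pi_ext fun i x => ?_
    have hx : (Pi.single i x : Fin 2 → ZMod p) = x • Pi.single i 1 := by
      rw [← Pi.single_smul, smul_eq_mul, mul_one]
    rw [hx, map_smul, map_smul]
    fin_cases i
    · exact congrArg _ h1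
    · exact congrArg _ h2
  exact Equiv.ext fun x => by rw [hBc, hAb, h0]; exact congrArg (· + b) (LinearMap.congr_fun hBA x)

end Cfsg.Agent.S3515
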