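import Cfsg.Statements.S3516
import Mathlib
-- import your own Cfsg.Agent.* helpers here

set_option autoImplicit false
open Cfsg

namespace Cfsg.Agent.S3516

/-- A permutation preserving all the relations of affine triples is affine (odd characteristic). -/
theorem affine_of_triples {p : ℕ} [Fact p.Prime] (hp : p ≠ 2) {d : ℕ} (σ : Equiv.Perm (Fin d → ZMod p))
    (hσ : ∀ t : Fin 3 → (Fin d → ZMod p), ∃ (A : (Fin d → ZMod p) ≃ₗ[ZMod p] (Fin d → ZMod p)) (b : Fin d → ZMod p),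
      ∀ i, σ (t i) = A (t i) + b) :
    ∃ (A : (Fin d → ZMod p) ≃ₗ[ZMod p] (Fin d → ZMod p)) (b : Fin d → ZMod p), ∀ x, σ x = A x + b := by
  have h2 : (2 : ZMod p) ≠ 0 := fun e => hp ((Nat.prime_dvd_prime_iff_eq Fact.out Nat.prime_two).mp
    ((ZMod.natCast_eq_zero_iff 2 p).mp (by exact_mod_cast e)))
  let f : (Fin d → ZMod p) → (Fin d → ZMod p) := fun x => σ x - σ 0
  have key : ∀ (a : ZMod p) x y, σ ((1 - a) • x + a • y) = (1 - a) • σ x + a • σ y := fun a x y => by
    obtain ⟨A, b, h⟩ := hσ ![x, y, (1 - a) • x + a • y]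
    have e0 : σ x = A x + b := h 0
    have e1 : σ y = A y + b := h 1
    have e2 : σ ((1 - a) • x + a • y) = A ((1 - a) • x + a • y) + b := h 2
    rw [e0, e1, e2, map_add, map_smul, map_smul]
    module
  have hsmul : ∀ (a : ZMod p) x, f (a • x) = a • f x := fun a x => by
    have h := key a 0 x
    rw [smul_zero, zero_add] at h
    show σ (a • x) - σ 0 = a • (σ x - σ 0)
    rw [h]; module
  have hadd : ∀ x y, f (x + y) = f x + f y := fun x y => by
    have h := key (2 : ZMod p)⁻¹ ((2 : ZMod p) • x) ((2 : ZMod p) • y)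
    have e : (1 - (2 : ZMod p)⁻¹) = (2 : ZMod p)⁻¹ := by field_simp; norm_num
    rw [e, smul_smul, smul_smul, inv_mul_cancel₀ h2, one_smul, one_smul] at h
    have hx := hsmul 2 x
    have hy := hsmul 2 y
    show σ (x + y) - σ 0 = (σ x - σ 0) + (σ y - σ 0)
    change σ ((2 : ZMod p) • x) - σ 0 = (2 : ZMod p) • (σ x - σ 0) at hx
    change σ ((2 : ZMod p) • y) - σ 0 = (2 : ZMod p) • (σ y - σ 0) at hy
    rw [sub_eq_iff_eq_add] at hx hy
    have e2 : ∀ u : Fin d → ZMod p, (2 : ZMod p)⁻¹ • u + (2 : ZMod p)⁻¹ • u = u := fun u => by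
      rw [← add_smul, ← two_mul, mul_inv_cancel₀ h2, one_smul]
    rw [h, hx, hy, smul_add, smul_add, smul_smul, smul_smul, inv_mul_cancel₀ h2, one_smul, one_smul]
    calc σ x - σ 0 + (2 : ZMod p)⁻¹ • σ 0 + (σ y - σ 0 + (2 : ZMod p)⁻¹ • σ 0) - σ 0
        = (σ x - σ 0) + (σ y - σ 0) + (((2 : ZMod p)⁻¹ • σ 0 + (2 : ZMod p)⁻¹ • σ 0) - σ 0) := by abel
      _ = (σ x - σ 0) + (σ y - σ 0) := by rw [e2, sub_self, add_zero]
  let L : (Fin d → ZMod p) →ₗ[ZMod p] (Fin d → ZMod p) := { toFun := f, map_add' := hadd, map_smul' := hsmul }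
  have hinj : Function.Injective L := fun x y e => σ.injective (sub_left_injective e)
  exact ⟨LinearEquiv.ofInjectiveEndo L hinj, σ 0, fun x => (sub_add_cancel (σ x) (σ 0)).symm⟩

/-- Let p be an odd prime, d ≥ 3, and G a group of affine permutations x ↦ Ax + b of V = F_p^d containing all translations and all maps x ↦ Ax with A of determinant 1. Then the 3-closure of G is the full affine group: a permutation σ of V agrees on every triple of points with some element of G if and only if σ is an affine map. -/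
theorem result (p : ℕ) [Fact p.Prime] (hp : p ≠ 2) (d : ℕ) (hd : 3 ≤ d) (G : Subgroup (Equiv.Perm (Fin d → ZMod p)))
    (haff : (G : Set (Equiv.Perm (Fin d → ZMod p))) ⊆ {τ : Equiv.Perm (Fin d → ZMod p) | ∃ (A : (Fin d → ZMod p) ≃ₗ[ZMod p] (Fin d → ZMod p)) (b : Fin d → ZMod p), ∀ x, τ x = A x + b})
    (htrans : ∀ b : Fin d → ZMod p, ∃ g ∈ G, ∀ x, g x = x + b)
    (hsl : ∀ A : (Fin d → ZMod p) ≃ₗ[ZMod p] (Fin d → ZMod p), LinearMap.det (A : (Fin d → ZMod p) →ₗ[ZMod p] (Fin d → ZMod p)) = 1 → ∃ g ∈ G, ∀ x, g x = A x)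
    (σ : Equiv.Perm (Fin d → ZMod p)) :
    (∀ t : Fin 3 → (Fin d → ZMod p), ∃ g ∈ G, ∀ i, σ (t i) = g (t i)) ↔ σ ∈ {τ : Equiv.Perm (Fin d → ZMod p) | ∃ (A : (Fin d → ZMod p) ≃ₗ[ZMod p] (Fin d → ZMod p)) (b : Fin d → ZMod p), ∀ x, τ x = A x + b} := by
  classical
  constructor
  · intro h
    refine affine_of_triples hp σ fun t => ?_
    obtain ⟨g, hg, hgt⟩ := h t
    obtain ⟨A, b, hAb⟩ := haff hg
    exact ⟨A, b, fun i => (hgt i).trans (hAb _)⟩
  · rintro ⟨A, b, hAb⟩ t
    let W := Submodule.span (ZMod p) (Set.range ![t 1 - t 0, t 2 - t 0])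
    have hW : W < ⊤ := by
      refine lt_top_iff_ne_top.mpr fun e => ?_
      have h1 : Module.finrank (ZMod p) W ≤ 2 := (finrank_range_le_card _).trans (by simp)
      have h2 : Module.finrank (ZMod p) W = d := by rw [e, finrank_top, Module.finrank_fin_fun]
      omega
    obtain ⟨φ, hφ, hφW⟩ := Submodule.exists_dual_map_eq_bot_of_lt_top hW inferInstance
    obtain ⟨v, hv⟩ : ∃ v, φ v ≠ 0 := by
      by_contra! h; exact hφ (LinearMap.ext h)
    have hA0 : LinearMap.det (A : (Fin d → ZMod p) →ₗ[ZMod p] (Fin d → ZMod p)) ≠ 0 := A.isUnit_det'.ne_zero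
    let c := (LinearMap.det (A : (Fin d → ZMod p) →ₗ[ZMod p] (Fin d → ZMod p)))⁻¹
    let w := ((c - 1) * (φ v)⁻¹) • v
    have hw : 1 + φ w = c := by
      simp only [w, map_smul, smul_eq_mul]; rw [mul_assoc, inv_mul_cancel₀ hv]; ring
    have hu : IsUnit (1 + φ w) := by rw [hw]; exact (inv_ne_zero hA0).isUnit
    let C : (Fin d → ZMod p) ≃ₗ[ZMod p] (Fin d → ZMod p) := LinearEquiv.dilatransvection hu
    let B := C.trans A
    have hCapp : ∀ x, C x = x + φ x • w := fun x => rfl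
    have hdet : LinearMap.det (B : (Fin d → ZMod p) →ₗ[ZMod p] (Fin d → ZMod p)) = 1 := by
      rw [show (B : (Fin d → ZMod p) →ₗ[ZMod p] (Fin d → ZMod p)) =
        (A : (Fin d → ZMod p) →ₗ[ZMod p] (Fin d → ZMod p)).comp (LinearMap.transvection φ w) from
          LinearMap.ext fun x => rfl, LinearMap.det_comp, LinearMap.transvection.det, hw]
      exact mul_inv_cancel₀ hA0
    obtain ⟨g₁, hg₁, hB⟩ := hsl B hdet
    obtain ⟨g₂, hg₂, hT⟩ := htrans (σ (t 0) - B (t 0))
    refine ⟨g₂ * g₁, mul_mem hg₂ hg₁, fun i => ?_⟩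
    rw [Equiv.Perm.mul_apply, hT, hB, hAb, hAb]
    have hmem : ∀ i : Fin 3, φ (t i - t 0) = 0 := fun i => by
      have hz : ∀ z ∈ W, φ z = 0 := fun z hz => (Submodule.mem_bot (ZMod p)).mp (hφW ▸ Submodule.mem_map_of_mem hz)
      fin_cases i
      · simp
      · exact hz _ (Submodule.subset_span ⟨0, rfl⟩)
      · exact hz _ (Submodule.subset_span ⟨1, rfl⟩)
    have e : B (t i - t 0) = A (t i - t 0) := by
      show A (C (t i - t 0)) = _
      rw [hCapp, hmem, zero_smul, add_zero]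
    rw [map_sub, map_sub] at e
    linear_combination (norm := module) -e

end Cfsg.Agent.S3516
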