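import Cfsg.Statements.S3517
import Mathlib
-- import your own Cfsg.Agent.* helpers here

set_option autoImplicit false
open Cfsg

namespace Cfsg.Agent.S3517

theorem exists_equiv_apply {F V : Type*} [Field F] [AddCommGroup V] [Module F V] [FiniteDimensional F V]
    {ι : Type*} [Fintype ι] {f g : ι → V} (hf : LinearIndependent F f) (hg : LinearIndependent F g) :
    ∃ e : V ≃ₗ[F] V, ∀ i, e (f i) = g i := by
  obtain ⟨C, hC⟩ := Submodule.exists_isCompl (Submodule.span F (Set.range f))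
  obtain ⟨D, hD⟩ := Submodule.exists_isCompl (Submodule.span F (Set.range g))
  let e₁ : Submodule.span F (Set.range f) ≃ₗ[F] Submodule.span F (Set.range g) :=
    (Module.Basis.span hf).equiv (Module.Basis.span hg) (Equiv.refl ι)
  have hCD : Module.finrank F C = Module.finrank F D := by
    have h1 := Submodule.finrank_add_eq_of_isCompl hC
    have h2 := Submodule.finrank_add_eq_of_isCompl hD
    have h3 := e₁.finrank_eq
    omega
  let e₂ : C ≃ₗ[F] D := LinearEquiv.ofFinrankEq _ _ hCD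
  refine ⟨(Submodule.prodEquivOfIsCompl _ _ hC).symm.trans ((e₁.prodCongr e₂).trans (Submodule.prodEquivOfIsCompl _ _ hD)), fun i => ?_⟩
  have h : (Submodule.prodEquivOfIsCompl _ _ hC).symm (f i) =
      (⟨f i, Submodule.subset_span ⟨i, rfl⟩⟩, (0 : C)) :=
    (Submodule.prodEquivOfIsCompl _ _ hC).symm_apply_eq.mpr (by simp)
  have hb : e₁ ⟨f i, Submodule.subset_span ⟨i, rfl⟩⟩ = ⟨g i, Submodule.subset_span ⟨i, rfl⟩⟩ := by
    rw [show (⟨f i, Submodule.subset_span ⟨i, rfl⟩⟩ : Submodule.span F (Set.range f)) = Module.Basis.span hf i from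
      (Module.Basis.span_apply hf i).symm, Module.Basis.equiv_apply]
    exact Module.Basis.span_apply hg i
  simp [h, hb]

theorem exists_pair {d : ℕ} (hd : 1 ≤ d) (u₁ u₂ w₁ w₂ : Fin d → ZMod 2) (h1 : u₁ = 0 ↔ w₁ = 0) (h2 : u₂ = 0 ↔ w₂ = 0)
    (h12 : u₁ = u₂ ↔ w₁ = w₂) :
    ∃ A : (Fin d → ZMod 2) ≃ₗ[ZMod 2] (Fin d → ZMod 2), A u₁ = w₁ ∧ A u₂ = w₂ := by
  have one : ∀ u w : Fin d → ZMod 2, u ≠ 0 → w ≠ 0 → ∃ A : (Fin d → ZMod 2) ≃ₗ[ZMod 2] (Fin d → ZMod 2), A u = w :=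
    fun u w hu hw => by
      obtain ⟨e, he⟩ := exists_equiv_apply (F := ZMod 2) (f := ![u]) (g := ![w])
        (linearIndependent_unique_iff.mpr hu) (linearIndependent_unique_iff.mpr hw)
      exact ⟨e, he 0⟩
  by_cases ha : u₁ = 0
  · by_cases hb : u₂ = 0
    · exact ⟨LinearEquiv.refl _ _, by simp [ha, h1.mp ha], by simp [hb, h2.mp hb]⟩
    · obtain ⟨A, hA⟩ := one u₂ w₂ hb (fun h => hb (h2.mpr h))
      exact ⟨A, by simp [ha, h1.mp ha], hA⟩
  by_cases hb : u₂ = 0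
  · obtain ⟨A, hA⟩ := one u₁ w₁ ha (fun h => ha (h1.mpr h))
    exact ⟨A, hA, by simp [hb, h2.mp hb]⟩
  by_cases hc : u₁ = u₂
  · obtain ⟨A, hA⟩ := one u₁ w₁ ha (fun h => ha (h1.mpr h))
    exact ⟨A, hA, by rw [← hc, hA, h12.mp hc]⟩
  have li : ∀ u v : Fin d → ZMod 2, u ≠ 0 → v ≠ 0 → u ≠ v → LinearIndependent (ZMod 2) ![u, v] := fun u v hu hv huv => by
    rw [LinearIndependent.pair_iff]
    intro a b hab
    have h01 : ∀ a : ZMod 2, a = 0 ∨ a = 1 := by decide
    rcases h01 a with rfl | rfl <;> rcases h01 b with rfl | rfl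
    · exact ⟨rfl, rfl⟩
    · simp [hv] at hab
    · simp [hu] at hab
    · rw [one_smul, one_smul] at hab
      refine absurd ?_ huv
      rw [eq_neg_of_add_eq_zero_left hab]
      funext i; simp [ZMod.neg_eq_self_mod_two]
  obtain ⟨e, he⟩ := exists_equiv_apply (li u₁ u₂ ha hb hc)
    (li w₁ w₂ (fun h => ha (h1.mpr h)) (fun h => hb (h2.mpr h)) (fun h => hc (h12.mpr h)))
  exact ⟨e, he 0, he 1⟩

/-- For d ≥ 3, the 3-closure of the affine group AGL_d(2) acting on F_2^d is the full symmetric group: every permutation of F_2^d agrees on every ordered triple of points with some affine map (AGL_d(2) is 3-transitive). -/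
theorem result (d : ℕ) (hd : 3 ≤ d) (σ : Equiv.Perm (Fin d → ZMod 2)) (t : Fin 3 → (Fin d → ZMod 2)) :
    ∃ (A : (Fin d → ZMod 2) ≃ₗ[ZMod 2] (Fin d → ZMod 2)) (b : Fin d → ZMod 2), ∀ i, σ (t i) = A (t i) + b := by
  obtain ⟨A, h1, h2⟩ := exists_pair (by omega : 1 ≤ d) (t 1 - t 0) (t 2 - t 0) (σ (t 1) - σ (t 0)) (σ (t 2) - σ (t 0))
    (by simp [sub_eq_zero]) (by simp [sub_eq_zero]) (by simp [sub_left_inj])
  rw [map_sub] at h1 h2
  refine ⟨A, σ (t 0) - A (t 0), fun i => ?_⟩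
  fin_cases i
  · simp
  · show σ (t 1) = A (t 1) + (σ (t 0) - A (t 0))
    linear_combination (norm := module) -h1
  · show σ (t 2) = A (t 2) + (σ (t 0) - A (t 0))
    linear_combination (norm := module) -h2

end Cfsg.Agent.S3517
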