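import Cfsg.Statements.S3518
import Cfsg.Agent.Lib.Perm.PolyFun
-- import your own Cfsg.Agent.* helpers here

set_option autoImplicit false
open Cfsg

namespace Cfsg.Agent.S3518

open Polynomial CfsgLib.PolyFun

/-- A map preserving the relation `y - x ∈ A` for a proper subgroup `A` of the units is affine. -/
lemma closAux_affine {p : ℕ} [Fact p.Prime] (A : Subgroup (ZMod p)ˣ) (hA : A ≠ ⊤)
    (σ : Equiv.Perm (ZMod p))
    (hσ : ∀ (x : ZMod p) (a : A), ∃ c : A, σ (x + ((a : (ZMod p)ˣ) : ZMod p)) = σ x + ((c : (ZMod p)ˣ) : ZMod p)) :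
    ∀ x, σ x = (σ 1 - σ 0) * x + σ 0 := by
  classical
  -- the permutation of A induced at each point is a bijection
  have hperm : ∀ x, ∃ π : A ≃ A, ∀ a : A,
      σ (x + ((a : (ZMod p)ˣ) : ZMod p)) = σ x + ((π a : (ZMod p)ˣ) : ZMod p) := by
    intro x
    choose c hc using hσ x
    refine ⟨Equiv.ofBijective c (Finite.injective_iff_bijective.1 fun a b h => ?_), hc⟩
    have h1 := hc a
    rw [h, ← hc b] at h1
    exact Subtype.ext (Units.ext (add_left_cancel (σ.injective h1)))
  by_cases htriv : Nat.card A = 1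
  · -- only translations
    have h1 : ∀ x, σ (x + 1) = σ x + 1 := by
      intro x
      obtain ⟨c, hc⟩ := hσ x 1
      have : Subsingleton A := (Nat.card_eq_one_iff_unique.1 htriv).1
      rw [Subsingleton.elim c 1] at hc
      simpa using hc
    have h2 : ∀ k : ℕ, σ (k : ZMod p) = σ 0 + k := by
      intro k
      induction k with
      | zero => simp
      | succ k ih => rw [Nat.cast_succ, h1, ih, add_assoc]
    intro x
    obtain ⟨k, rfl⟩ : ∃ k : ℕ, (k : ZMod p) = x := ⟨x.val, ZMod.natCast_zmod_val x⟩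
    have := h2 1
    rw [Nat.cast_one] at this
    rw [h2, this]
    ring
  · set d := Nat.card A with hd
    have hdpos : 0 < d := Nat.card_pos
    have hdp : 2 * d < p := by
      have h1 := A.card_mul_index
      have h3 : A.index ≠ 1 := fun h => hA (Subgroup.index_eq_one.1 h)
      have h4 : A.index ≠ 0 := Subgroup.index_ne_zero_of_finite
      rw [Nat.card_eq_fintype_card (α := (ZMod p)ˣ), ZMod.card_units, ← hd] at h1
      have h5 : d * 2 ≤ d * A.index := Nat.mul_le_mul_left d (by omega)
      have h6 := (Fact.out : p.Prime).two_le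
      omega
    let S : ℕ → ZMod p := fun j => ∑ a : A, ((a : (ZMod p)ˣ) : ZMod p) ^ j
    have hS0 : ∀ j, 0 < j → j < d → S j = 0 := by
      intro j hj hjd
      obtain ⟨g, hg⟩ := IsCyclic.exists_generator (α := A)
      have hne : ((g : (ZMod p)ˣ) : ZMod p) ^ j ≠ 1 := by
        intro h
        have hgj : g ^ j = 1 := by
          apply Subtype.ext; apply Units.ext
          simpa using h
        have := Nat.le_of_dvd hj (orderOf_dvd_of_pow_eq_one hgj)
        rw [orderOf_eq_card_of_forall_mem_zpowers hg] at this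
        omega
      have h : ((g : (ZMod p)ˣ) : ZMod p) ^ j * S j = S j := by
        simp only [S]
        rw [Finset.mul_sum]
        exact Fintype.sum_equiv (Equiv.mulLeft g) _ _ fun a => by simp [mul_pow]
      have h' : (((g : (ZMod p)ˣ) : ZMod p) ^ j - 1) * S j = 0 := by rw [sub_mul, h, one_mul, sub_self]
      exact (mul_eq_zero.1 h').resolve_left (sub_ne_zero.2 hne)
    have hSz : S 0 = (d : ZMod p) := by
      simp [S, hd]
    have hSd : S d = (d : ZMod p) := by
      simp only [S]
      have h1 : ∀ a : A, ((a : (ZMod p)ˣ) : ZMod p) ^ d = 1 := fun a => by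
        rw [← Units.val_pow_eq_pow_val, ← Subgroup.coe_pow, hd, pow_card_eq_one']
        rfl
      rw [Finset.sum_congr rfl fun a _ => h1 a]
      simp [hd]
    let W : Submodule (ZMod p) (ZMod p → ZMod p) :=
      { carrier := {f | ∀ x, ∑ a : A, f (x + ((a : (ZMod p)ˣ) : ZMod p)) = (d : ZMod p) * f x}
        add_mem' := fun {f g} hf hg x => by
          simp only [Pi.add_apply, Finset.sum_add_distrib, hf x, hg x, mul_add]
        zero_mem' := fun x => by simp
        smul_mem' := fun c f hf x => by
          simp only [Pi.smul_apply, smul_eq_mul, ← Finset.mul_sum, hf x]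
          ring }
    have hshift : ∀ f ∈ W, (fun j => f (j - 1)) ∈ W := by
      intro f hf x
      show ∑ a : A, f (x + ((a : (ZMod p)ˣ) : ZMod p) - 1) = _
      rw [← hf (x - 1)]
      exact Finset.sum_congr rfl fun a _ => by congr 1; ring
    have hmono : ∀ (k : ℕ) (x : ZMod p), k ≤ d → ∑ a : A, (x + ((a : (ZMod p)ˣ) : ZMod p)) ^ k
        = (d : ZMod p) * x ^ k + if k = d then (d : ZMod p) else 0 := by
      intro k x hk
      simp only [add_pow]
      rw [Finset.sum_comm]
      have : ∀ i ∈ Finset.range (k + 1),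
          ∑ a : A, x ^ i * ((a : (ZMod p)ˣ) : ZMod p) ^ (k - i) * (k.choose i : ZMod p)
            = x ^ i * S (k - i) * (k.choose i : ZMod p) := by
        intro i _
        simp only [S, Finset.mul_sum, Finset.sum_mul]
      rw [Finset.sum_congr rfl this, Finset.sum_range_succ, Nat.sub_self, hSz, Nat.choose_self,
        Nat.cast_one, mul_one, mul_comm (x ^ k), add_comm]
      congr 1
      rcases eq_or_lt_of_le hk with rfl | hlt
      · rw [if_pos rfl]
        rw [Finset.sum_eq_single 0]
        · simp [hSd]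
        · intro i hi hi0
          rw [Finset.mem_range] at hi
          rw [hS0 _ (by omega) (by omega)]
          ring
        · intro h
          exact absurd (Finset.mem_range.2 hdpos) h
      · rw [if_neg (by omega)]
        apply Finset.sum_eq_zero
        intro i hi
        rw [Finset.mem_range] at hi
        rw [hS0 _ (by omega) (by omega)]
        ring
    have hle : polySpace (p := p) (K := ZMod p) d ≤ W := by
      intro f hf x
      obtain ⟨P, hP, hPf⟩ := mem_polySpace.1 hf
      simp only [ZMod.cast_id', id_eq] at hPf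
      rcases eq_or_ne P 0 with rfl | hP0
      · simp [hPf]
      simp only [hPf, Polynomial.eval_eq_sum_range]
      rw [Finset.sum_comm, Finset.mul_sum]
      refine Finset.sum_congr rfl fun k hk => ?_
      rw [Finset.mem_range] at hk
      have hnd : P.natDegree < d := (natDegree_lt_iff_degree_lt hP0).2 hP
      rw [← Finset.mul_sum, hmono k x (by omega), if_neg (by omega), add_zero]
      ring
    obtain ⟨hr, hWeq⟩ := eq_polySpace hshift
    have hrd : Module.finrank (ZMod p) W ≤ d := by
      by_contra hlt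
      push Not at hlt
      have hmem : (fun x : ZMod p => x ^ d) ∈ W := by
        rw [hWeq, mem_polySpace]
        exact ⟨X ^ d, by rw [degree_X_pow]; exact_mod_cast hlt, fun j => by simp⟩
      have := hmem 0
      rw [hmono d 0 le_rfl, if_pos rfl] at this
      have hdd : (d : ZMod p) = 0 := by linear_combination this
      rw [ZMod.natCast_eq_zero_iff] at hdd
      have := Nat.le_of_dvd hdpos hdd
      omega
    have hWd : W = polySpace (p := p) (K := ZMod p) d := by
      refine le_antisymm ?_ hle
      intro f hf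
      rw [hWeq] at hf
      obtain ⟨P, hP, hPf⟩ := mem_polySpace.1 hf
      exact mem_polySpace.2 ⟨P, lt_of_lt_of_le hP (by exact_mod_cast hrd), hPf⟩
    intro x
    refine affine_of_invariant (K := ZMod p) (m := d - 1) (by omega) (by omega) ?_ x
    rw [show d - 1 + 1 = d by omega, ← hWd]
    intro f hf y
    obtain ⟨π, hπ⟩ := hperm y
    simp only [hπ]
    rw [← hf (σ y)]
    exact Fintype.sum_equiv π _ _ fun a => rfl

/-- Closures of subgroups of the one-dimensional affine group. Let p be a prime and G a group of permutations of F_p lying in the affine group AGL₁(p) = {x ↦ ax + b, a ≠ 0} and containing all translations. (1) If G is a proper subgroup of AGL₁(p), then G is 2-closed: a permutation of F_p agreeing on every ordered pair of points with some element of G lies in G. (2) Every permutation of F_p agrees on every ordered pair with some element of AGL₁(p) (the 2-closure of AGL₁(p) is the symmetric group). (3) AGL₁(p) is 3-closed: a permutation agreeing on every ordered triple with some affine map is affine.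 -/
theorem result (p : ℕ) [Fact p.Prime] (G : Subgroup (Equiv.Perm (ZMod p))) (hG : G ≤ Cfsg.affineGroup (ZMod p))
    (htrans : ∀ b : ZMod p, ∃ g ∈ G, ∀ x, g x = x + b) :
    (G ≠ Cfsg.affineGroup (ZMod p) → ∀ σ : Equiv.Perm (ZMod p), (∀ t : Fin 2 → ZMod p, ∃ g ∈ G, ∀ i, σ (t i) = g (t i)) → σ ∈ G) ∧
    (∀ σ : Equiv.Perm (ZMod p), (∀ t : Fin 2 → ZMod p, ∃ g ∈ Cfsg.affineGroup (ZMod p), ∀ i, σ (t i) = g (t i))) ∧
    (∀ σ : Equiv.Perm (ZMod p), (∀ t : Fin 3 → ZMod p, ∃ g ∈ Cfsg.affineGroup (ZMod p), ∀ i, σ (t i) = g (t i)) → σ ∈ Cfsg.affineGroup (ZMod p)) := by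
  classical
  have haff : ∀ g : Equiv.Perm (ZMod p), g ∈ Cfsg.affineGroup (ZMod p) →
      ∃ a : (ZMod p)ˣ, ∀ x, g x = (a : ZMod p) * x + g 0 := by
    rintro g ⟨a, b, h⟩
    refine ⟨a, fun x => ?_⟩
    rw [h x, h 0]
    ring
  refine ⟨fun hne σ hσ => ?_, fun σ t => ?_, fun σ hσ => ?_⟩
  · let μ : (ZMod p)ˣ →* Equiv.Perm (ZMod p) :=
      { toFun := fun a => Units.mulLeft a
        map_one' := Equiv.ext fun x => one_mul x
        map_mul' := fun a b => Equiv.ext fun x => mul_assoc _ _ _ }
    let A : Subgroup (ZMod p)ˣ := G.comap μ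
    have hlin : ∀ g ∈ G, ∀ a : (ZMod p)ˣ, (∀ x, g x = (a : ZMod p) * x + g 0) → a ∈ A := by
      intro g hg a ha
      obtain ⟨t, ht, htx⟩ := htrans (g 0)
      have : μ a = t⁻¹ * g := by
        rw [eq_inv_mul_iff_mul_eq]
        refine Equiv.ext fun x => ?_
        show t ((a : ZMod p) * x) = g x
        rw [htx, ha x]
      show μ a ∈ G
      rw [this]
      exact mul_mem (inv_mem ht) hg
    have hA : A ≠ ⊤ := by
      intro htop
      apply hne
      refine le_antisymm hG ?_
      intro g hg
      obtain ⟨a, ha⟩ := haff g hg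
      obtain ⟨t, ht, htx⟩ := htrans (g 0)
      have hmem : μ a ∈ G := by
        have : a ∈ A := by rw [htop]; trivial
        exact this
      have : g = t * μ a := Equiv.ext fun x => by
        show g x = t ((a : ZMod p) * x)
        rw [htx, ha x]
      rw [this]
      exact mul_mem ht hmem
    have hpair : ∀ x y, ∃ g ∈ G, σ x = g x ∧ σ y = g y := by
      intro x y
      obtain ⟨g, hg, h⟩ := hσ ![x, y]
      exact ⟨g, hg, h 0, h 1⟩
    have hrel : ∀ (x : ZMod p) (a : A),
        ∃ c : A, σ (x + ((a : (ZMod p)ˣ) : ZMod p)) = σ x + ((c : (ZMod p)ˣ) : ZMod p) := by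
      intro x a
      obtain ⟨g, hg, h1, h2⟩ := hpair x (x + ((a : (ZMod p)ˣ) : ZMod p))
      obtain ⟨e, he⟩ := haff g (hG hg)
      refine ⟨⟨e, hlin g hg e he⟩ * a, ?_⟩
      rw [h1, h2, he, he x]
      simp
      ring
    have haffσ := closAux_affine A hA σ hrel
    obtain ⟨g, hg, h1, h2⟩ := hpair 0 1
    obtain ⟨e, he⟩ := haff g (hG hg)
    have : σ = g := Equiv.ext fun x => by
      rw [haffσ x, h1, h2, he x, he 1]
      ring
    rw [this]
    exact hg
  · by_cases h : t 0 = t 1
    · obtain ⟨g, hg, hgx⟩ := htrans (σ (t 0) - t 0)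
      refine ⟨g, hG hg, fun i => ?_⟩
      fin_cases i
      · show σ (t 0) = g (t 0)
        rw [hgx]; ring
      · show σ (t 1) = g (t 1)
        rw [← h, hgx]; ring
    · let a : ZMod p := (σ (t 1) - σ (t 0)) / (t 1 - t 0)
      have hd : t 1 - t 0 ≠ 0 := sub_ne_zero.2 (Ne.symm h)
      have ha : a ≠ 0 := div_ne_zero (sub_ne_zero.2 fun e => h (σ.injective e).symm) hd
      refine ⟨(Units.mulLeft (Units.mk0 a ha)).trans (Equiv.addRight (σ (t 0) - a * t 0)),
        ⟨Units.mk0 a ha, σ (t 0) - a * t 0, fun x => rfl⟩, fun i => ?_⟩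
      fin_cases i
      · show σ (t 0) = a * t 0 + (σ (t 0) - a * t 0)
        ring
      · show σ (t 1) = a * t 1 + (σ (t 0) - a * t 0)
        have : a * (t 1 - t 0) = σ (t 1) - σ (t 0) := div_mul_cancel₀ _ hd
        linear_combination -this
  · obtain ⟨g, hg, hg'⟩ := hσ ![0, 1, 0]
    obtain ⟨a, ha⟩ := haff g hg
    refine ⟨a, g 0, fun x => ?_⟩
    obtain ⟨k, hk, hk'⟩ := hσ ![0, 1, x]
    obtain ⟨c, hc⟩ := haff k hk
    have e0 : σ 0 = g 0 := hg' 0
    have e1 : σ 1 = g 1 := hg' 1
    have f0 : σ 0 = k 0 := hk' 0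
    have f1 : σ 1 = k 1 := hk' 1
    have f2 : σ x = k x := hk' 2
    rw [f2, hc x]
    rw [ha 1, ← e0] at e1
    rw [hc 1, ← f0] at f1
    rw [← f0, ← e0]
    linear_combination x * e1 - x * f1

end Cfsg.Agent.S3518
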