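import Cfsg.Statements.S3520
import Cfsg.Agent.Lib.Derange.AffineClasses

set_option autoImplicit false
set_option linter.style.haveILetI false
open Cfsg

namespace Cfsg.Agent.S3520

/-- Let a finite group G act faithfully and primitively on a finite set Ω with at least two points, suppose G is not almost simple (no non-abelian simple normal subgroup with trivial centralizer), and suppose the derangements of G form exactly two conjugacy classes. Then either Ω has 3 points and G has order 3; or G has a non-trivial abelian normal subgroup N acting regularly, every non-identity element of G fixes at most one point (so, when n > 3, G is a Frobenius group with kernel N), the number n of points is odd and a point stabilizer has order (n − 1)/2; or G is 2-transitive with a non-trivial abelian regular normal subgroup and some non-identity element fixes at least two points (a non-Frobenius 2-transitive affine group). -/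
theorem result {G : Type*} [Group G] [Finite G] {Ω : Type*} [Fintype Ω] [MulAction G Ω] [FaithfulSMul G Ω] (hΩ : 2 ≤ Fintype.card Ω) (hprim : MulAction.IsPreprimitive G Ω) (hnas : ¬ ∃ T : Subgroup G, T.Normal ∧ IsSimpleGroup T ∧ ¬ IsMulCommutative T ∧ Subgroup.centralizer (T : Set G) = ⊥)
    (hκ : Nat.card {c : ConjClasses G // ∃ g : G, ConjClasses.mk g = c ∧ ∀ ω : Ω, g • ω ≠ ω} = 2) (α : Ω) :
    (Fintype.card Ω = 3 ∧ Nat.card G = 3) ∨
    ((∃ N : Subgroup G, N.Normal ∧ N ≠ ⊥ ∧ IsMulCommutative N ∧ ∀ ω : Ω, MulAction.stabilizer N ω = ⊥) ∧ (∀ g : G, g ≠ 1 → Nat.card (MulAction.fixedBy Ω g) ≤ 1) ∧ ¬ 2 ∣ Fintype.card Ω ∧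
        2 * Nat.card (MulAction.stabilizer G α) = Fintype.card Ω - 1) ∨
    ((∃ N : Subgroup G, N.Normal ∧ N ≠ ⊥ ∧ IsMulCommutative N ∧ ∀ ω : Ω, MulAction.stabilizer N ω = ⊥) ∧ MulAction.IsMultiplyPretransitive G Ω 2 ∧ ∃ g : G, g ≠ 1 ∧ 2 ≤ Nat.card (MulAction.fixedBy Ω g)) := by
  classical
  haveI : Nontrivial Ω := Fintype.one_lt_card_iff_nontrivial.mp (by omega)
  haveI := hprim
  rcases CfsgLib.DerangeCount.affine_or_three hprim hnas with
    ⟨N, hN, hNne, hab, htr, hreg⟩ | ⟨x, y, z, hx, hy, hz, hxy, hxz, hyz⟩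
  swap
  · exact (CfsgLib.DerangeCount.not_three (Ω := Ω) hκ.le hx hy hz hxy hxz hyz).elim
  right
  haveI := hN
  have hstab : ∀ ω : Ω, MulAction.stabilizer N ω = ⊥ := fun ω =>
    eq_bot_iff.mpr fun m hm => Subtype.ext (hreg m m.2 ω hm)
  have hder : ∀ n ∈ N, n ≠ 1 → ∀ ω : Ω, n • ω ≠ ω := fun n hn hn1 ω h => hn1 (hreg n hn ω h)
  have hN' : ∃ N : Subgroup G, N.Normal ∧ N ≠ ⊥ ∧ IsMulCommutative N ∧
      ∀ ω : Ω, MulAction.stabilizer N ω = ⊥ := ⟨N, hN, hNne, hab, hstab⟩
  by_cases hall : ∀ a ∈ N, ∀ b ∈ N, a ≠ 1 → b ≠ 1 → IsConj a b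
  · right
    have h2t := CfsgLib.DerangeCount.two_pretransitive_of_isConj hab htr hall
    refine ⟨hN', h2t, ?_⟩
    by_contra hno
    push Not at hno
    have hfrob : ∀ g : G, g ≠ 1 → ∀ a b : Ω, a ≠ b → g • a = a → g • b ≠ b :=
      fun g hg a b hab' ha => CfsgLib.DerangeCount.sharp_of_fixedBy_le_one
        (fun g hg => Nat.le_of_lt_succ (hno g hg)) hg hab' ha
    haveI := h2t
    obtain ⟨-, hconj⟩ := CfsgLib.DerangeCount.isConj_derangements hΩ hfrob
    haveI : Subsingleton (CfsgLib.DerangeCount.Classes G Ω) := ⟨by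
      rintro ⟨_, x, rfl, hx⟩ ⟨_, y, rfl, hy⟩
      exact Subtype.ext (ConjClasses.mk_eq_mk_iff_isConj.mpr (hconj x y hx hy))⟩
    have := Finite.card_le_one_iff_subsingleton.mpr (inferInstance : Subsingleton (CfsgLib.DerangeCount.Classes G Ω))
    change Nat.card (CfsgLib.DerangeCount.Classes G Ω) = 2 at hκ
    omega
  push Not at hall
  obtain ⟨a, ha, b, hb, ha1, hb1, hne⟩ := hall
  have hor : ∀ x : G, (∀ ω : Ω, x • ω ≠ ω) → IsConj a x ∨ IsConj b x := fun x hx =>
    CfsgLib.DerangeCount.isConj_or_of_two hκ (hder a ha ha1) (hder b hb hb1) hx hne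
  have hD : ∀ g : G, (∀ ω : Ω, g • ω ≠ ω) → g ∈ N := by
    intro g hg
    rcases hor g hg with h | h
    · obtain ⟨c, rfl⟩ := isConj_iff.mp h
      exact hN.conj_mem a ha c
    · obtain ⟨c, rfl⟩ := isConj_iff.mp h
      exact hN.conj_mem b hb c
  have hfix := CfsgLib.DerangeCount.fixedBy_le_one htr hreg hD
  have hfree : ∀ n : G, n ∈ N → n ≠ 1 →
      (MulAction.orbit (MulAction.stabilizer G α) (n • α)).ncard = Nat.card (MulAction.stabilizer G α) := by
    intro n hn hn1
    rw [← MulAction.index_stabilizer]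
    have : MulAction.stabilizer (MulAction.stabilizer G α) (n • α) = ⊥ := by
      rw [Subgroup.eq_bot_iff_forall]
      intro h hh
      by_contra hh1
      exact CfsgLib.DerangeCount.sharp_of_fixedBy_le_one hfix (g := (h : G))
        (fun e => hh1 (Subtype.ext e)) (Ne.symm (hder n hn hn1 α)) h.2 hh
    rw [this, Subgroup.index_bot]
  have hcompl : MulAction.orbit (MulAction.stabilizer G α) (a • α) ∪
      MulAction.orbit (MulAction.stabilizer G α) (b • α) = {α}ᶜ := by
    ext x
    constructor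
    · rintro (⟨h, rfl⟩ | ⟨h, rfl⟩)
      · intro e
        exact hder a ha ha1 α (smul_left_cancel h ((show h • a • α = α from e).trans h.2.symm))
      · intro e
        exact hder b hb hb1 α (smul_left_cancel h ((show h • b • α = α from e).trans h.2.symm))
    · intro hx
      obtain ⟨⟨n, hn⟩, rfl⟩ := htr.exists_smul_eq α x
      have hn1 : n ≠ 1 := fun e => hx (by subst e; exact one_smul G α)
      rcases hor n (hder n hn hn1) with h | h
      · left
        obtain ⟨g, hg, rfl⟩ := CfsgLib.DerangeCount.exists_stabilizer_conj hab htr ha h α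
        refine ⟨⟨g, hg⟩, ?_⟩
        show g • a • α = (g * a * g⁻¹) • α
        rw [mul_smul, mul_smul, inv_smul_eq_iff.mpr hg.symm]
      · right
        obtain ⟨g, hg, rfl⟩ := CfsgLib.DerangeCount.exists_stabilizer_conj hab htr hb h α
        refine ⟨⟨g, hg⟩, ?_⟩
        show g • b • α = (g * b * g⁻¹) • α
        rw [mul_smul, mul_smul, inv_smul_eq_iff.mpr hg.symm]
  have hdisj : Disjoint (MulAction.orbit (MulAction.stabilizer G α) (a • α))
      (MulAction.orbit (MulAction.stabilizer G α) (b • α)) := by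
    rw [Set.disjoint_left]
    rintro _ ⟨h, rfl⟩ ⟨k, hk⟩
    apply hne
    refine isConj_iff.mpr ⟨(k : G)⁻¹ * h, ?_⟩
    have hmem : (k : G)⁻¹ * h * a * ((k : G)⁻¹ * h)⁻¹ ∈ N := hN.conj_mem a ha _
    have hfixα : ((k : G)⁻¹ * h)⁻¹ • α = α := (inv_mem (mul_mem (inv_mem k.2) h.2) :)
    have heq : ((k : G)⁻¹ * h * a * ((k : G)⁻¹ * h)⁻¹) • α = b • α := by
      rw [mul_smul _ ((k : G)⁻¹ * h)⁻¹, hfixα, mul_smul, mul_smul, inv_smul_eq_iff]
      exact hk.symm
    exact congrArg Subtype.val ((CfsgLib.DerangeCount.regular_bijective htr hreg α).1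
      (a₁ := ⟨_, hmem⟩) (a₂ := ⟨b, hb⟩) heq)
  have hcount : 2 * Nat.card (MulAction.stabilizer G α) = Fintype.card Ω - 1 := by
    have := congrArg Set.ncard hcompl
    rw [Set.ncard_union_eq hdisj (Set.toFinite _) (Set.toFinite _), hfree a ha ha1, hfree b hb hb1,
      Set.ncard_compl, Set.ncard_singleton, Nat.card_eq_fintype_card (α := Ω)] at this
    omega
  exact Or.inl ⟨hN', hfix, by omega, hcount⟩

end Cfsg.Agent.S3520
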