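import Cfsg.Statements.S3521
import Cfsg.Agent.Lib.ExtPrim.AffineSocle

set_option autoImplicit false
set_option linter.style.haveILetI false
open Cfsg

namespace Cfsg.Agent.S3521

/-- Let a finite group G that is not solvable act faithfully and primitively on a finite set with p ^ d points (p prime), with a non-trivial abelian normal subgroup acting regularly (affine type) and with non-trivial point stabilizers each acting primitively on every one of its orbits (an insoluble extremely primitive group of affine type). Then p = 2; and if moreover G is not 2-transitive, then a point stabilizer is almost simple (it has a non-abelian simple normal subgroup with trivial centralizer). -/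
theorem result {G : Type*} [Group G] [Finite G] {Ω : Type*} [Fintype Ω] [MulAction G Ω] [FaithfulSMul G Ω] (p d : ℕ) (hp : p.Prime) (hcard : Fintype.card Ω = p ^ d) (hsol : ¬ Group.IsSolvable G)
    (N : Subgroup G) [N.Normal] (hN : N ≠ ⊥) (hNc : IsMulCommutative N) (hNreg : ∀ ω : Ω, MulAction.stabilizer N ω = ⊥)
    (hprim : MulAction.IsPreprimitive G Ω) (hH : ∀ α : Ω, MulAction.stabilizer G α ≠ ⊥) (hep : ∀ (α : Ω) (ω : Ω), MulAction.IsPreprimitive (MulAction.stabilizer G α) (MulAction.orbit (MulAction.stabilizer G α) ω)) (α : Ω) :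
    p = 2 ∧ (¬ MulAction.IsMultiplyPretransitive G Ω 2 → ∃ T : Subgroup (MulAction.stabilizer G α), T.Normal ∧ IsSimpleGroup T ∧ ¬ IsMulCommutative T ∧ Subgroup.centralizer (T : Set (MulAction.stabilizer G α)) = ⊥) := by
  open MulAction CfsgLib.ExtPrim in
  classical
  haveI := hprim
  haveI := hNc
  haveI : Fact p.Prime := ⟨hp⟩
  haveI : IsPretransitive G Ω := inferInstance
  set H := stabilizer G α with hHdef
  letI : CommGroup N := { (inferInstance : Group N) with mul_comm := fun a b => mul_comm' a b }
  letI : MulDistribMulAction H N :=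
    MulDistribMulAction.compHom N ((MulAut.conjNormal (H := N)).comp H.subtype)
  have hsmul : ∀ (h : H) (n : N), ((h • n : N) : G) = h * n * (h : G)⁻¹ := fun h n =>
    MulAut.conjNormal_apply (h : G) n
  have hinj : ∀ n : N, (n : G) • α = α → n = 1 := by
    intro n hn
    rw [← Subgroup.mem_bot, ← hNreg α]
    exact hn
  have hNtrans : IsPretransitive N Ω := by
    refine IsQuasiPreprimitive.isPretransitive_of_normal (G := G) fun htop => hN ?_
    rw [Subgroup.eq_bot_iff_forall]
    intro n hn
    exact congrArg Subtype.val (hinj ⟨n, hn⟩ (mem_fixedPoints.mp (htop.symm ▸ Set.mem_univ α : α ∈ fixedPoints N Ω) ⟨n, hn⟩))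
  have hmove : ∀ (h : H) (n : N), (h : G) • ((n : G) • α) = ((h • n : N) : G) • α := by
    intro h n
    rw [hsmul, CfsgLib.ExtPrim.stab_smul_conj h.2]
  have hstab : ∀ n : N, stabilizer H n = stabilizer H ((n : G) • α) := by
    intro n
    ext h
    rw [mem_stabilizer_iff, mem_stabilizer_iff]
    refine ⟨fun e => ?_, fun e => ?_⟩
    · show (h : G) • ((n : G) • α) = _
      rw [hmove, e]
    · have e' : (h : G) • ((n : G) • α) = (n : G) • α := e
      rw [hmove] at e'
      have h1 : (((n⁻¹ * h • n : N)) : G) • α = α := by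
        rw [Subgroup.coe_mul, mul_smul, e', Subgroup.coe_inv, inv_smul_smul]
      exact (inv_mul_eq_one.mp (hinj _ h1)).symm
  have hcardN : Nat.card N = p ^ d := by
    rw [← hcard, ← Nat.card_eq_fintype_card (α := Ω)]
    refine Nat.card_congr (Equiv.ofBijective (fun n : N => (n : G) • α) ⟨fun a b e => ?_, fun y => ?_⟩)
    · have h1 : ((a⁻¹ * b : N) : G) • α = α := by
        rw [Subgroup.coe_mul, mul_smul, Subgroup.coe_inv, inv_smul_eq_iff]
        exact (e : (a : G) • α = (b : G) • α).symm
      exact inv_mul_eq_one.mp (hinj _ h1)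
    · exact exists_smul_eq N α y
  haveI hNnt : Nontrivial N := (Subgroup.nontrivial_iff_ne_bot N).mpr hN
  have hpN : IsPGroup p N := IsPGroup.of_card hcardN
  -- `N` is elementary abelian
  let E : Subgroup G :=
    { carrier := {g | g ∈ N ∧ g ^ p = 1}
      one_mem' := ⟨one_mem N, one_pow p⟩
      mul_mem' := fun {a b} ha hb => ⟨mul_mem ha.1 hb.1, by
        rw [Commute.mul_pow (congrArg (fun z : N => (z : G)) (mul_comm' (⟨a, ha.1⟩ : N) ⟨b, hb.1⟩)),
          ha.2, hb.2, one_mul]⟩
      inv_mem' := fun {a} ha => ⟨inv_mem ha.1, by rw [inv_pow, ha.2, inv_one]⟩ }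
  haveI : E.Normal := ⟨fun a ha g => ⟨Subgroup.Normal.conj_mem ‹N.Normal› a ha.1 g, by
    rw [conj_pow, ha.2, mul_one, mul_inv_cancel]⟩⟩
  obtain ⟨⟨x, hx⟩, hox⟩ := exists_prime_orderOf_dvd_card' p (hcardN ▸ dvd_pow_self p fun hd => by
    rw [hd, pow_zero] at hcardN
    have := Finite.one_lt_card (α := N)
    omega : p ∣ Nat.card N)
  rw [Subgroup.orderOf_mk] at hox
  have hEt : IsPretransitive E Ω := by
    refine IsQuasiPreprimitive.isPretransitive_of_normal (G := G) fun htop => ?_
    have hxE : x ∈ E := ⟨hx, by rw [← hox, pow_orderOf_eq_one]⟩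
    have h1 := congrArg Subtype.val (hinj ⟨x, hx⟩
      (mem_fixedPoints.mp (htop.symm ▸ Set.mem_univ α : α ∈ fixedPoints E Ω) ⟨x, hxE⟩))
    rw [show x = 1 from h1, orderOf_one] at hox
    exact hp.ne_one hox.symm
  have hexp : ∀ n : N, n ^ p = 1 := by
    intro n
    obtain ⟨m, hm⟩ := exists_smul_eq E α ((n : G) • α)
    have h1 : ((n⁻¹ * ⟨m, m.2.1⟩ : N) : G) • α = α := by
      rw [Subgroup.coe_mul, mul_smul, Subgroup.coe_inv, inv_smul_eq_iff]
      exact hm
    rw [inv_mul_eq_one.mp (hinj _ h1)]
    exact Subtype.ext m.2.2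
  -- the stabilizer
  have hprod : ∀ g : G, ∃ n : N, ∃ h : H, (n : G) * h = g := by
    intro g
    obtain ⟨n, hn⟩ := exists_smul_eq N α (g • α)
    refine ⟨n, ⟨(n : G)⁻¹ * g, ?_⟩, mul_inv_cancel_left _ _⟩
    rw [hHdef, mem_stabilizer_iff, mul_smul, inv_smul_eq_iff]
    exact hn.symm
  have haff : AffEP H N p := by
    refine ⟨hp, hexp, hNnt, fun h hh => ?_, fun w hw => ?_, fun hs => hsol ?_⟩
    · refine Subtype.ext (FaithfulSMul.eq_of_smul_eq_smul (α := Ω) fun y => ?_)
      obtain ⟨n, rfl⟩ := exists_smul_eq N α y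
      show (h : G) • ((n : G) • α) = (1 : G) • ((n : G) • α)
      rw [one_smul, hmove, hh]
    · rw [hstab]
      exact coreFreeMax_suborbit hprim hep (hH α) fun e => hw (hinj w e)
    · haveI : Group.IsSolvable N := Group.isSolvable_of_comm fun a b => mul_comm' a b
      haveI := hs
      haveI : Group.IsSolvable (G ⧸ N) := solvable_of_surjective
        (f := (QuotientGroup.mk' N).comp H.subtype) fun q => by
          obtain ⟨g, rfl⟩ := QuotientGroup.mk'_surjective N q
          obtain ⟨n, h, rfl⟩ := hprod g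
          refine ⟨h, ?_⟩
          have h1 : (QuotientGroup.mk' N) (n : G) = 1 := (QuotientGroup.eq_one_iff (n : G)).mpr n.2
          rw [map_mul, h1, one_mul]
          rfl
      exact Group.isSolvable_of_ker_le_range N.subtype (QuotientGroup.mk' N) (by simp)
  exact ⟨haff.p_eq_two, fun _ => haff.almostSimple⟩

end Cfsg.Agent.S3521
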