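import Cfsg.Statements.S3524
import Mathlib

set_option autoImplicit false
open Cfsg

namespace Cfsg.Agent.S3524

/-- A permutation group with a base is closed at one level above the base size. Let G be a group of permutations of a set Ω and suppose some k points α₁, …, α_k are fixed simultaneously only by the identity of G (a base of size k). Then G is (k+1)-closed: a permutation of Ω that agrees on every (k+1)-tuple of points with some element of G belongs to G. -/
theorem result {Ω : Type*} (G : Subgroup (Equiv.Perm Ω)) (k : ℕ) (α : Fin k → Ω)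
    (hbase : ∀ g ∈ G, (∀ i, g (α i) = α i) → g = 1) (σ : Equiv.Perm Ω)
    (hσ : ∀ t : Fin (k + 1) → Ω, ∃ g ∈ G, ∀ i, σ (t i) = g (t i)) : σ ∈ G := by
  classical
  rcases isEmpty_or_nonempty Ω with hΩ | ⟨⟨ω⟩⟩
  · exact Subsingleton.elim (1 : Equiv.Perm Ω) σ ▸ one_mem _
  · have h : ∀ x, ∃ g ∈ G, (∀ i, σ (α i) = g (α i)) ∧ σ x = g x := fun x => by
      obtain ⟨g, hg, hgt⟩ := hσ (Fin.snoc α x)
      exact ⟨g, hg, fun i => by simpa using hgt i.castSucc, by simpa using hgt (Fin.last k)⟩
    obtain ⟨g, hg, hgα, -⟩ := h ω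
    have : σ = g := by
      ext x
      obtain ⟨g', hg', hgα', hx⟩ := h x
      have := hbase _ (mul_mem (inv_mem hg) hg') (fun i => by
        rw [Equiv.Perm.mul_apply, ← hgα' i, hgα i, Equiv.Perm.inv_def, Equiv.symm_apply_apply])
      rw [inv_mul_eq_one] at this
      rw [hx, this]
    exact this ▸ hg

end Cfsg.Agent.S3524
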