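import Cfsg.Statements.S3532
import Cfsg.Agent.Lib.Spectrum.Extension
import Cfsg.Agent.Lib.SL2.PSL

set_option autoImplicit false
set_option linter.style.haveILetI false
open Cfsg

namespace Cfsg.Agent.S3532

open CfsgLib.SpectrumExt

section Model

variable (K : Type) [Field K]

/-- Two independent scalar actions. -/
def twoScalar : Kˣ × Kˣ →* MulAut (Multiplicative (K × K)) where
  toFun z :=
    { toFun := fun v => Multiplicative.ofAdd ((z.2 : K) * v.toAdd.1, (z.1 : K) * v.toAdd.2)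
      invFun := fun v => Multiplicative.ofAdd ((z.2⁻¹ : Kˣ) * v.toAdd.1, (z.1⁻¹ : Kˣ) * v.toAdd.2)
      left_inv := fun v => by simp
      right_inv := fun v => by simp
      map_mul' := fun v w => by simp [mul_add, ← ofAdd_add] }
  map_one' := by ext v <;> simp
  map_mul' z w := by ext v <;> simp [mul_assoc]

end Model

/-- Let q ≥ 4 be a prime power and L = PSL(2,q). There is a finite solvable group with the same set of element orders as L × L (so L × L is not determined by its spectrum). -/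
theorem result {F : Type*} [Field F] [Fintype F] (hF : 4 ≤ Fintype.card F) :
    ∃ (H : Type) (_ : Group H) (_ : Finite H), Group.IsSolvable H ∧
      Set.range (orderOf : H → ℕ) = Set.range (orderOf : Matrix.ProjectiveSpecialLinearGroup (Fin 2) F × Matrix.ProjectiveSpecialLinearGroup (Fin 2) F → ℕ) := by
  classical
  obtain ⟨p, hchar⟩ := CharP.exists F
  obtain ⟨⟨f, hfpos⟩, hp, hq⟩ := FiniteField.card F p
  simp only [PNat.mk_coe] at hq
  haveI := Fact.mk hp
  set q := Fintype.card F with hqdef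
  set g := Nat.gcd 2 (q - 1) with hg
  set b := (q - 1) / g with hb
  set c := (q + 1) / g with hc
  have hgcases : (g = 1 ∧ q % 2 = 0) ∨ (g = 2 ∧ q % 2 = 1) := by
    rcases Nat.mod_two_eq_zero_or_one q with h | h
    · left; refine ⟨?_, h⟩
      rw [hg, Nat.coprime_two_left.mpr (Nat.odd_iff.mpr (by omega))]
    · right; refine ⟨?_, h⟩
      rw [hg]; exact Nat.gcd_eq_left (by omega)
  have hbq : g * b = q - 1 := by
    rcases hgcases with ⟨h1, h2⟩ | ⟨h1, h2⟩ <;> rw [hb, h1] <;> omega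
  have hcq : g * c = q + 1 := by
    rcases hgcases with ⟨h1, h2⟩ | ⟨h1, h2⟩ <;> rw [hc, h1] <;> omega
  have hbc : b.Coprime c := by
    apply Nat.coprime_of_dvd'
    intro l hl hlb hlc
    rcases hgcases with ⟨h1, h2⟩ | ⟨h1, h2⟩
    · rw [h1, one_mul] at hbq hcq
      have h3 : l ∣ 2 := by
        have := Nat.dvd_sub hlc hlb
        rwa [show c - b = 2 by omega] at this
      rcases (Nat.dvd_prime Nat.prime_two).mp h3 with e | e
      · exact absurd e hl.ne_one
      · exfalso
        subst e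
        omega
    · rw [h1] at hbq hcq
      have := Nat.dvd_sub hlc hlb
      rwa [show c - b = 1 by omega] at this
  have hpq : p ∣ q := hq ▸ dvd_pow_self p hfpos.ne'
  have hpb : p.Coprime b := by
    rw [hp.coprime_iff_not_dvd]
    intro h
    have h1 := Nat.dvd_sub hpq ((h.trans (dvd_mul_left b g)).trans (hbq ▸ dvd_rfl : g * b ∣ q - 1))
    rw [show q - (q - 1) = 1 by omega] at h1
    exact hp.ne_one (Nat.dvd_one.mp h1)
  have hpc : p.Coprime c := by
    rw [hp.coprime_iff_not_dvd]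
    intro h
    have h1 := Nat.dvd_sub ((h.trans (dvd_mul_left c g)).trans (hcq ▸ dvd_rfl : g * c ∣ q + 1)) hpq
    rw [show q + 1 - q = 1 by omega] at h1
    exact hp.ne_one (Nat.dvd_one.mp h1)
  -- the field with `q ^ 2` elements
  set K := GaloisField p (2 * f) with hK
  haveI : Fintype K := Fintype.ofFinite K
  have hKu : Nat.card Kˣ = (q - 1) * (q + 1) := by
    rw [Nat.card_units, GaloisField.card p (2 * f) (by omega), hq, mul_comm 2 f, pow_mul, mul_comm,
      ← Nat.sq_sub_sq, one_pow]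
  obtain ⟨u, hu⟩ := IsCyclic.exists_ofOrder_eq_natCard (α := Kˣ)
  have hex : ∀ n, n ∣ (q - 1) * (q + 1) → ∃ x : Kˣ, orderOf x = n := fun n hn =>
    ⟨u ^ (orderOf u / n), orderOf_pow_orderOf_div (orderOf_pos u).ne' (by rw [hu, hKu]; exact hn)⟩
  obtain ⟨ub, hub⟩ := hex b ((hbq ▸ dvd_mul_left b g : b ∣ q - 1).trans (dvd_mul_right _ _))
  obtain ⟨uc, huc⟩ := hex c ((hcq ▸ dvd_mul_left c g : c ∣ q + 1).trans (dvd_mul_left _ _))
  let ι : Subgroup.zpowers ub × Subgroup.zpowers uc →* Kˣ × Kˣ :=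
    MonoidHom.prodMap (Subgroup.zpowers ub).subtype (Subgroup.zpowers uc).subtype
  let act := (twoScalar K).comp ι
  refine ⟨Multiplicative (K × K) ⋊[act] (Subgroup.zpowers ub × Subgroup.zpowers uc), inferInstance,
    inferInstance, isSolvable act, ?_⟩
  have hexp : ∀ v : Multiplicative (K × K), v ^ p = 1 := fun v => by
    apply Multiplicative.toAdd.injective
    ext <;> simp [CharP.cast_eq_zero]
  rw [range_eq act hp hexp]
  -- both sides
  have hS := CfsgLib.SL2.spectrum_PSL (F := F) p (by rw [Nat.card_eq_fintype_card]; exact hF)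
  rw [Nat.card_eq_fintype_card, ← hqdef, ← hg, ← hb, ← hc] at hS
  have memS : ∀ n, n ∣ p ∨ n ∣ b ∨ n ∣ c ↔
      n ∈ Set.range (orderOf : Matrix.ProjectiveSpecialLinearGroup (Fin 2) F → ℕ) := fun n => by
    rw [hS]; exact Iff.rfl
  have hA : ∀ m, m ∣ b * c → ∃ a : Subgroup.zpowers ub × Subgroup.zpowers uc, orderOf a = m := by
    intro m hm
    obtain ⟨a, hao⟩ : ∃ a : Subgroup.zpowers ub × Subgroup.zpowers uc, orderOf a = b * c := by
      refine ⟨(⟨ub, Subgroup.mem_zpowers _⟩, ⟨uc, Subgroup.mem_zpowers _⟩), ?_⟩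
      rw [Prod.orderOf, ← Subgroup.orderOf_coe, ← Subgroup.orderOf_coe, hub, huc, hbc.lcm_eq_mul]
    exact ⟨a ^ (orderOf a / m), orderOf_pow_orderOf_div (orderOf_pos a).ne' (hao ▸ hm)⟩
  have hord : ∀ a : Subgroup.zpowers ub × Subgroup.zpowers uc, orderOf a.1 ∣ b ∧ orderOf a.2 ∣ c := fun a => by
    refine ⟨?_, ?_⟩
    · rw [← hub, ← Nat.card_zpowers ub]; exact orderOf_dvd_natCard _
    · rw [← huc, ← Nat.card_zpowers uc]; exact orderOf_dvd_natCard _
  have hnorm : ∀ a, (∃ v, CfsgLib.SpectrumExt.norm act a v ≠ 1) ↔ a.1 = 1 ∨ a.2 = 1 := by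
    intro a
    constructor
    · rintro ⟨v, hv⟩
      by_contra hcon
      push Not at hcon
      refine hv (norm_eq_one_of_fpf act a (fun w hw => ?_) v)
      have h1 := congrArg (fun z : Multiplicative (K × K) => z.toAdd.1) hw
      have h2 := congrArg (fun z : Multiplicative (K × K) => z.toAdd.2) hw
      have e1 : ((a.2 : Kˣ) : K) * w.toAdd.1 = w.toAdd.1 := h1
      have e2 : ((a.1 : Kˣ) : K) * w.toAdd.2 = w.toAdd.2 := h2
      apply Multiplicative.toAdd.injective
      refine Prod.ext ?_ ?_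
      · by_contra hne
        exact hcon.2 (Subtype.ext (Units.ext ((mul_eq_right₀ hne).mp e1)))
      · by_contra hne
        exact hcon.1 (Subtype.ext (Units.ext ((mul_eq_right₀ hne).mp e2)))
    · have hnp : ∀ a : Subgroup.zpowers ub × Subgroup.zpowers uc, ¬ p ∣ orderOf a := fun a h => by
        rw [Prod.orderOf] at h
        have := h.trans ((Nat.lcm_dvd_mul _ _).trans (Nat.mul_dvd_mul (hord a).1 (hord a).2))
        exact (hp.coprime_iff_not_dvd.mp (Nat.Coprime.mul_right hpb hpc)) this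
      rintro (h | h)
      · refine ⟨Multiplicative.ofAdd (0, 1), norm_ne_one_of_fixed act hp hexp a _ ?_ ?_ (hnp a)⟩
        · apply Multiplicative.toAdd.injective
          refine Prod.ext ?_ ?_ <;> simp [act, ι, twoScalar, h]
        · intro e; have := congrArg (fun z : Multiplicative (K × K) => z.toAdd.2) e; simp at this
      · refine ⟨Multiplicative.ofAdd (1, 0), norm_ne_one_of_fixed act hp hexp a _ ?_ ?_ (hnp a)⟩
        · apply Multiplicative.toAdd.injective
          refine Prod.ext ?_ ?_ <;> simp [act, ι, twoScalar, h]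
        · intro e; have := congrArg (fun z : Multiplicative (K × K) => z.toAdd.1) e; simp at this
  have hdec : ∀ {x n : ℕ}, x.Coprime p → n ∣ p * x → (n ∣ x ∨ ∃ m, m ∣ x ∧ n = m * p) := fun {x n} _ h => by
    obtain ⟨n1, n2, h1, h2, rfl⟩ := exists_dvd_and_dvd_of_dvd_mul h
    rcases (Nat.dvd_prime hp).mp h1 with rfl | rfl
    · exact Or.inl (by rwa [one_mul])
    · exact Or.inr ⟨n2, h2, mul_comm _ _⟩
  ext n
  constructor
  · intro hn
    have hn' : n ∣ b * c ∨ n ∣ p * b ∨ n ∣ p * c := by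
      rcases hn with ⟨a, rfl⟩ | ⟨a, ha, rfl⟩
      · left
        rw [Prod.orderOf]
        exact (Nat.lcm_dvd_mul _ _).trans (Nat.mul_dvd_mul (hord a).1 (hord a).2)
      · rcases (hnorm a).mp ha with h | h
        · right; right
          rw [Prod.orderOf, h, orderOf_one, Nat.lcm_one_left, mul_comm]
          exact Nat.mul_dvd_mul_left p (hord a).2
        · right; left
          rw [Prod.orderOf, h, orderOf_one, Nat.lcm_one_right, mul_comm]
          exact Nat.mul_dvd_mul_left p (hord a).1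
    have mk : ∀ {x y : ℕ}, x.Coprime y → (∀ m, m ∣ x → m ∣ p ∨ m ∣ b ∨ m ∣ c) →
        (∀ m, m ∣ y → m ∣ p ∨ m ∣ b ∨ m ∣ c) → n ∣ x * y →
        n ∈ Set.range (orderOf : Matrix.ProjectiveSpecialLinearGroup (Fin 2) F × Matrix.ProjectiveSpecialLinearGroup (Fin 2) F → ℕ) := by
      intro x y hxy hx hy hn
      obtain ⟨n1, n2, h1, h2, rfl⟩ := exists_dvd_and_dvd_of_dvd_mul hn
      obtain ⟨g1, hg1⟩ := (memS n1).mp (hx n1 h1)
      obtain ⟨g2, hg2⟩ := (memS n2).mp (hy n2 h2)
      exact ⟨(g1, g2), by rw [Prod.orderOf, hg1, hg2, (hxy.coprime_dvd_left h1 |>.coprime_dvd_right h2).lcm_eq_mul]⟩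
    rcases hn' with h | h | h
    · exact mk hbc (fun m h => Or.inr (Or.inl h)) (fun m h => Or.inr (Or.inr h)) h
    · exact mk hpb (fun m h => Or.inl h) (fun m h => Or.inr (Or.inl h)) h
    · exact mk hpc (fun m h => Or.inl h) (fun m h => Or.inr (Or.inr h)) h
  · rintro ⟨⟨g1, g2⟩, rfl⟩
    rw [Prod.orderOf]
    have hn' : Nat.lcm (orderOf g1) (orderOf g2) ∣ b * c ∨ Nat.lcm (orderOf g1) (orderOf g2) ∣ p * b ∨
        Nat.lcm (orderOf g1) (orderOf g2) ∣ p * c := by
      have := (memS _).mpr ⟨g1, rfl⟩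
      have := (memS _).mpr ⟨g2, rfl⟩
      rcases (memS (orderOf g1)).mpr ⟨g1, rfl⟩ with h1 | h1 | h1 <;>
      rcases (memS (orderOf g2)).mpr ⟨g2, rfl⟩ with h2 | h2 | h2
      · exact Or.inr (Or.inl (Nat.lcm_dvd (h1.trans (dvd_mul_right p b)) (h2.trans (dvd_mul_right p b))))
      · exact Or.inr (Or.inl (Nat.lcm_dvd (h1.trans (dvd_mul_right p b)) (h2.trans (dvd_mul_left b p))))
      · exact Or.inr (Or.inr (Nat.lcm_dvd (h1.trans (dvd_mul_right p c)) (h2.trans (dvd_mul_left c p))))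
      · exact Or.inr (Or.inl (Nat.lcm_dvd (h1.trans (dvd_mul_left b p)) (h2.trans (dvd_mul_right p b))))
      · exact Or.inl (Nat.lcm_dvd (h1.trans (dvd_mul_right b c)) (h2.trans (dvd_mul_right b c)))
      · exact Or.inl (Nat.lcm_dvd (h1.trans (dvd_mul_right b c)) (h2.trans (dvd_mul_left c b)))
      · exact Or.inr (Or.inr (Nat.lcm_dvd (h1.trans (dvd_mul_left c p)) (h2.trans (dvd_mul_right p c))))
      · exact Or.inl (Nat.lcm_dvd (h1.trans (dvd_mul_left c b)) (h2.trans (dvd_mul_right b c)))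
      · exact Or.inl (Nat.lcm_dvd (h1.trans (dvd_mul_left c b)) (h2.trans (dvd_mul_left c b)))
    generalize Nat.lcm (orderOf g1) (orderOf g2) = n at hn'
    have hb' : ∀ m, m ∣ b → (∃ a, (∃ v, CfsgLib.SpectrumExt.norm act a v ≠ 1) ∧ orderOf a = m) := fun m hm => by
      let x : Subgroup.zpowers ub := ⟨ub, Subgroup.mem_zpowers _⟩
      have hx : orderOf x = b := by rw [← Subgroup.orderOf_coe]; exact hub
      refine ⟨(x ^ (orderOf x / m), 1), (hnorm _).mpr (Or.inr rfl), ?_⟩
      rw [Prod.orderOf, orderOf_one, Nat.lcm_one_right]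
      exact orderOf_pow_orderOf_div (orderOf_pos x).ne' (hx ▸ hm)
    have hc' : ∀ m, m ∣ c → (∃ a, (∃ v, CfsgLib.SpectrumExt.norm act a v ≠ 1) ∧ orderOf a = m) := fun m hm => by
      let x : Subgroup.zpowers uc := ⟨uc, Subgroup.mem_zpowers _⟩
      have hx : orderOf x = c := by rw [← Subgroup.orderOf_coe]; exact huc
      refine ⟨(1, x ^ (orderOf x / m)), (hnorm _).mpr (Or.inl rfl), ?_⟩
      rw [Prod.orderOf, orderOf_one, Nat.lcm_one_left]
      exact orderOf_pow_orderOf_div (orderOf_pos x).ne' (hx ▸ hm)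
    rcases hn' with h | h | h
    · exact Or.inl (hA n h)
    · rcases hdec hpb.symm h with h | ⟨m, hm, rfl⟩
      · exact Or.inl (hA n (h.trans (dvd_mul_right b c)))
      · obtain ⟨a, ha, e⟩ := hb' m hm
        exact Or.inr ⟨a, ha, by rw [e]⟩
    · rcases hdec hpc.symm h with h | ⟨m, hm, rfl⟩
      · exact Or.inl (hA n (h.trans (dvd_mul_left c b)))
      · obtain ⟨a, ha, e⟩ := hc' m hm
        exact Or.inr ⟨a, ha, by rw [e]⟩

end Cfsg.Agent.S3532
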