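import Cfsg.Statements.S3547
import Cfsg.Agent.Lib.Perm.DerangementSubgroup

-- import your own Cfsg.Agent.* helpers here

set_option autoImplicit false
open Cfsg

namespace Cfsg.Agent.S3547

/-- Let G act faithfully and transitively on a finite set Ω, let D be the subgroup generated by the derangements, and let r_G and r_D be the numbers of orbits of G and of D on ordered pairs of points (the permutation ranks). Then r_D − 1 = (r_G − 1)·[G : D]. -/
theorem result {G Ω : Type*} [Group G] [Finite G] [MulAction G Ω] [FaithfulSMul G Ω] [Finite Ω]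
    (htrans : MulAction.IsPretransitive G Ω) :
    Nat.card (MulAction.orbitRel.Quotient ↥(Subgroup.closure {g : G | ∀ ω : Ω, g • ω ≠ ω}) (Ω × Ω)) - 1 =
      (Nat.card (MulAction.orbitRel.Quotient G (Ω × Ω)) - 1) * (Subgroup.closure {g : G | ∀ ω : Ω, g • ω ≠ ω}).index := by
  classical
  haveI := htrans
  haveI := Fintype.ofFinite G
  set D := Subgroup.closure {g : G | ∀ ω : Ω, g • ω ≠ ω} with hDdef
  rcases isEmpty_or_nonempty Ω with hΩ | hΩ
  · have h1 : IsEmpty (MulAction.orbitRel.Quotient D (Ω × Ω)) := ⟨fun q => Quotient.inductionOn' q fun x => isEmptyElim x⟩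
    have h2 : IsEmpty (MulAction.orbitRel.Quotient G (Ω × Ω)) := ⟨fun q => Quotient.inductionOn' q fun x => isEmptyElim x⟩
    simp [Nat.card_of_isEmpty]
  have hsq : ∀ g : G, Nat.card (MulAction.fixedBy (Ω × Ω) g) = Nat.card (MulAction.fixedBy Ω g) ^ 2 := by
    intro g
    rw [sq, ← Nat.card_prod]
    refine Nat.card_congr ⟨fun x => ⟨⟨x.1.1, congrArg Prod.fst x.2⟩, ⟨x.1.2, congrArg Prod.snd x.2⟩⟩, fun x => ⟨(x.1.1, x.2.1), Prod.ext x.1.2 x.2.2⟩, fun x => rfl, fun x => rfl⟩
  have hG := CfsgLib.Perm.sum_natCard_fixedBy (G := G) (Ω := Ω × Ω)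
  have hD := CfsgLib.Perm.sum_natCard_fixedBy (G := D) (Ω := Ω × Ω)
  rw [← Finset.sum_add_sum_compl (Finset.univ.filter fun g => g ∈ D)] at hG
  have h1 : ∑ g ∈ Finset.univ.filter (fun g => g ∈ D), Nat.card (MulAction.fixedBy (Ω × Ω) g) =
      ∑ g : D, Nat.card (MulAction.fixedBy (Ω × Ω) g) := by
    rw [Finset.sum_subtype (p := fun g => g ∈ D) _ (by simp)]
    rfl
  have h2 : ∑ g ∈ (Finset.univ.filter fun g => g ∈ D)ᶜ, Nat.card (MulAction.fixedBy (Ω × Ω) g) =
      (Finset.univ.filter fun g => g ∈ D)ᶜ.card := by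
    rw [Finset.card_eq_sum_ones]
    refine Finset.sum_congr rfl fun g hg => ?_
    rw [hsq, CfsgLib.DerangementSubgroup.natCard_fixedBy_eq_one (by simpa using hg), one_pow]
  have h3 : (Finset.univ.filter fun g => g ∈ D).card = Nat.card D := by
    rw [Nat.card_eq_fintype_card, Fintype.card_subtype]
  rw [h1, hD, h2, Finset.card_compl, h3, ← Nat.card_eq_fintype_card, ← D.index_mul_card] at hG
  set r := Nat.card (MulAction.orbitRel.Quotient D (Ω × Ω))
  set s := Nat.card (MulAction.orbitRel.Quotient G (Ω × Ω))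
  haveI : Nonempty (MulAction.orbitRel.Quotient D (Ω × Ω)) := ⟨Quotient.mk'' (Classical.arbitrary _)⟩
  haveI : Nonempty (MulAction.orbitRel.Quotient G (Ω × Ω)) := ⟨Quotient.mk'' (Classical.arbitrary _)⟩
  have hr : 0 < r := Nat.card_pos
  have hs : 0 < s := Nat.card_pos
  have hd := Nat.card_pos (α := D)
  have hi : 0 < D.index := Nat.pos_of_ne_zero D.index_ne_zero_of_finite
  obtain ⟨r', hr'⟩ := Nat.exists_eq_succ_of_ne_zero hr.ne'
  obtain ⟨s', hs'⟩ := Nat.exists_eq_succ_of_ne_zero hs.ne'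
  rw [hr', hs', Nat.succ_sub_one, Nat.succ_sub_one]
  rw [hr', hs'] at hG
  have h4 : Nat.card D ≤ D.index * Nat.card D := Nat.le_mul_of_pos_left _ hi
  apply Nat.eq_of_mul_eq_mul_right hd
  simp only [Nat.succ_mul] at hG
  rw [mul_assoc]
  omega

end Cfsg.Agent.S3547
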