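import Cfsg.Statements.S3549
import Cfsg.Agent.Lib.Perm.DerangementSubgroup

set_option autoImplicit false
open Cfsg
open scoped Pointwise

namespace Cfsg.Agent.S3549

/-- Let G act faithfully, transitively but imprimitively on a finite set with n points, and let D be the subgroup generated by the derangements. Then the index of D in G is at most √n − 1. -/
theorem result {G Ω : Type*} [Group G] [Finite G] [MulAction G Ω] [FaithfulSMul G Ω] [Finite Ω]
    (htrans : MulAction.IsPretransitive G Ω) (himp : ¬ MulAction.IsPreprimitive G Ω) :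
    ((Subgroup.closure {g : G | ∀ ω : Ω, g • ω ≠ ω}).index : ℝ) ≤ Real.sqrt (Nat.card Ω) - 1 := by
  classical
  haveI := htrans
  obtain ⟨B, hB, hns, hnu⟩ : ∃ B : Set Ω, MulAction.IsBlock G B ∧ ¬ B.Subsingleton ∧ B ≠ Set.univ := by
    by_contra h
    push Not at h
    exact himp ⟨fun hB => or_iff_not_imp_left.mpr fun hs => h _ hB (Set.not_subsingleton_iff.mp hs)⟩
  obtain ⟨a, ha, b, hb, hab⟩ := Set.not_subsingleton_iff.mp hns
  show ((CfsgLib.DerangementSubgroup.derSub G Ω).index : ℝ) ≤ _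
  set D := CfsgLib.DerangementSubgroup.derSub G Ω
  set n := Nat.card Ω with hn
  set k := B.ncard with hk
  have hk2 : 2 ≤ k := Set.one_lt_ncard_iff_nontrivial.mpr ⟨a, ha, b, hb, hab⟩
  have hkn : k ∣ n := by
    exact ⟨_, (MulAction.IsBlock.ncard_block_mul_ncard_orbit_eq hB ⟨a, ha⟩).symm⟩
  obtain ⟨m, hm⟩ := hkn
  have h1 := CfsgLib.DerangementSubgroup.index_dvd (G := G) a {a}ᶜ (fun h => h rfl)
    (fun g hg x hx h => hx (MulAction.injective g ((Set.mem_singleton_iff.mp h).trans hg.symm)))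
  rw [Set.ncard_compl, Set.ncard_singleton, ← hn, hm] at h1
  have h2 := CfsgLib.DerangementSubgroup.index_dvd (G := G) a (B \ {a}) (fun h => h.2 rfl)
    (fun g hg x hx => by
      have hgB : g • B = B := hB.smul_eq_of_mem ha (by rw [MulAction.mem_stabilizer_iff.mp hg]; exact ha)
      refine ⟨?_, fun h => hx.2 (MulAction.injective g ((Set.mem_singleton_iff.mp h).trans hg.symm))⟩
      rw [← hgB]; exact Set.smul_mem_smul_set hx.1)
  rw [Set.ncard_sdiff_singleton_of_mem ha, ← hk] at h2
  have hm2 : 2 ≤ m := by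
    by_contra h
    have hlt : k < n := by
      rw [hk, hn, ← Set.ncard_univ]
      exact Set.ncard_lt_ncard (Set.ssubset_univ_iff.mpr hnu) Set.finite_univ
    rcases (show m = 0 ∨ m = 1 by omega) with h | h <;> subst h <;> omega
  have h3 : D.index ∣ m - 1 := by
    obtain ⟨k', hk'⟩ : ∃ k', k = k' + 1 := ⟨k - 1, by omega⟩
    obtain ⟨m', hm'⟩ : ∃ m', m = m' + 1 := ⟨m - 1, by omega⟩
    rw [hk', Nat.add_sub_cancel] at h2
    rw [hk', hm'] at h1
    rw [hm', Nat.add_sub_cancel]
    have e : (k' + 1) * (m' + 1) - 1 = k' * (m' + 1) + m' := by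
      have : (k' + 1) * (m' + 1) = k' * (m' + 1) + m' + 1 := by ring
      omega
    rw [e] at h1
    exact (Nat.dvd_add_right (h2.mul_right _)).mp h1
  have l2 : D.index ≤ k - 1 := Nat.le_of_dvd (by omega) h2
  have l3 : D.index ≤ m - 1 := Nat.le_of_dvd (by omega) h3
  have hle : ((D.index : ℝ) + 1) ^ 2 ≤ (n : ℝ) := by
    have : (D.index + 1) ^ 2 ≤ n := by
      rw [hm, sq]; exact Nat.mul_le_mul (by omega) (by omega)
    exact_mod_cast this
  linarith [Real.le_sqrt_of_sq_le hle]

end Cfsg.Agent.S3549
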