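import Cfsg.Statements.S3554
import Mathlib

set_option autoImplicit false
open Cfsg

namespace Cfsg.Agent.S3554

/-- Let G act faithfully and transitively on a finite set and suppose G has a non-trivial cyclic normal subgroup. Then some element of G of prime order fixes no point. -/
theorem result {G Ω : Type*} [Group G] [Finite G] [MulAction G Ω] [FaithfulSMul G Ω] [Finite Ω]
    (htrans : MulAction.IsPretransitive G Ω) (C : Subgroup G) (hC : C.Normal) (hC1 : C ≠ ⊥) (hcyc : IsCyclic ↥C) :
    ∃ g : G, (orderOf g).Prime ∧ ∀ ω : Ω, g • ω ≠ ω := by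
  classical
  have hnt : Nontrivial C := (Subgroup.nontrivial_iff_ne_bot C).2 hC1
  obtain ⟨p, hp, hdvd⟩ := Nat.exists_prime_and_dvd (Finite.one_lt_card (α := C)).ne'
  have : Fact p.Prime := ⟨hp⟩
  obtain ⟨g, hg⟩ := exists_prime_orderOf_dvd_card' p hdvd
  refine ⟨(g : G), by rw [Subgroup.orderOf_coe, hg]; exact hp, fun ω hω => ?_⟩
  let _ : Fintype C := Fintype.ofFinite C
  have hpow : ∀ y : C, y ^ p = 1 → y ∈ Subgroup.zpowers g := by
    intro y hy
    have hsub : ((Subgroup.zpowers g : Set C).toFinset) ⊆ ({a : C | a ^ p = 1} : Finset C) := by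
      intro z hz
      rw [Set.mem_toFinset] at hz
      obtain ⟨k, rfl⟩ := hz
      simp only [Finset.mem_filter, Finset.mem_univ, true_and]
      rw [← zpow_natCast, ← zpow_mul, mul_comm, zpow_mul, zpow_natCast, ← hg, pow_orderOf_eq_one,
        one_zpow]
    have hle : ({a : C | a ^ p = 1} : Finset C).card ≤ (Subgroup.zpowers g : Set C).toFinset.card := by
      refine (IsCyclic.card_pow_eq_one_le hp.pos).trans (le_of_eq ?_)
      rw [Set.toFinset_card, ← Nat.card_eq_fintype_card]
      exact ((Nat.card_zpowers g).trans hg).symm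
    have heq := Finset.eq_of_subset_of_card_le hsub hle
    have : y ∈ (Subgroup.zpowers g : Set C).toFinset := by
      rw [heq]; simpa using hy
    simpa using this
  have hall : ∀ ω' : Ω, (g : G) • ω' = ω' := fun ω' => by
    obtain ⟨h, rfl⟩ := htrans.exists_smul_eq ω ω'
    let y : C := ⟨h⁻¹ * (g : G) * h, by simpa using hC.conj_mem _ g.2 h⁻¹⟩
    have hy : y ^ p = 1 := by
      apply Subtype.ext
      show (h⁻¹ * (g : G) * h) ^ p = 1
      have h1 : (g : G) ^ p = 1 := by
        rw [← SubmonoidClass.coe_pow, ← hg, pow_orderOf_eq_one]; rfl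
      have h2 := conj_pow (a := h⁻¹) (b := (g : G)) (i := p)
      rw [inv_inv] at h2
      rw [h2, h1, mul_one, inv_mul_cancel]
    obtain ⟨k, hk⟩ := hpow y hy
    have hk' : (g : G) ^ k = h⁻¹ * (g : G) * h := by
      rw [← SubgroupClass.coe_zpow]; exact congrArg Subtype.val hk
    have hfix : (g : G) ^ k • ω = ω :=
      (MulAction.stabilizer G ω).zpow_mem hω k
    rw [hk', mul_smul, mul_smul, inv_smul_eq_iff] at hfix
    exact hfix
  have h1 : (g : G) = 1 := FaithfulSMul.eq_of_smul_eq_smul (fun ω' => by rw [hall, one_smul])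
  have h2 : orderOf g = 1 := orderOf_eq_one_iff.2 (Subtype.ext h1)
  exact hp.ne_one (hg.symm.trans h2)

end Cfsg.Agent.S3554
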