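import Cfsg.Statements.S3555
import Cfsg.Agent.Lib.DerangInvol.Main
import Cfsg.Agent.S0035

set_option autoImplicit false
open Cfsg
open scoped Pointwise

namespace Cfsg.Agent.S3555

/-- Let G act faithfully and transitively on a finite set and suppose every element of G fixing no point is an involution. Then either G is an elementary abelian 2-group, or G is a Frobenius group whose Frobenius kernel is an elementary abelian 2-group: G has a Frobenius complement H, and the elements lying in no conjugate of H, together with the identity, pairwise commute and square to the identity. -/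
theorem result {G Ω : Type*} [Group G] [Finite G] [MulAction G Ω] [FaithfulSMul G Ω] [Finite Ω]
    (htrans : MulAction.IsPretransitive G Ω) (hinv : ∀ g : G, (∀ ω : Ω, g • ω ≠ ω) → orderOf g = 2) :
    (IsMulCommutative G ∧ ∀ g : G, g ^ 2 = 1) ∨
    (∃ H : Subgroup G, Cfsg.IsFrobeniusComplement H ∧
      (∀ x ∈ Cfsg.frobeniusKernel H, x ^ 2 = 1) ∧
      ∀ x ∈ Cfsg.frobeniusKernel H, ∀ y ∈ Cfsg.frobeniusKernel H, x * y = y * x) := by
  classical
  haveI := htrans
  haveI := Fintype.ofFinite G
  haveI := Fintype.ofFinite Ω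
  have hsq : ∀ g : G, (∀ ω : Ω, g • ω ≠ ω) → g * g = 1 := fun g hg => by
    have := pow_orderOf_eq_one g
    rwa [hinv g hg, pow_two] at this
  by_cases hreg : ∀ g : G, ∀ ω : Ω, g • ω = ω → g = 1
  · have h2 : ∀ g : G, g ^ 2 = 1 := fun g => by
      rw [pow_two]
      by_cases hg : g = 1
      · rw [hg, one_mul]
      · exact hsq g fun ω hω => hg (hreg g ω hω)
    exact Or.inl ⟨⟨⟨fun a b => (Commute.of_orderOf_dvd_two fun g =>
      orderOf_dvd_of_pow_eq_one (h2 g)) a b⟩⟩, h2⟩
  push Not at hreg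
  obtain ⟨g₀, ω, hg₀, hg₀1⟩ := hreg
  haveI : Nonempty Ω := ⟨ω⟩
  have hfix : ∀ (g : G) (a b : Ω), g • a = a → g • b = b → a ≠ b → g = 1 := fun g a b ha hb hab =>
    FaithfulSMul.eq_of_smul_eq_smul (α := Ω) fun c => by
      rw [one_smul]; exact CfsgLib.DerangInvol.fix_le_one hsq g ha hb hab c
  have hmem : ∀ (t x : G), x ∈ MulAut.conj t • MulAction.stabilizer G ω ↔ x • t • ω = t • ω := by
    intro t x
    rw [Subgroup.mem_pointwise_smul_iff_inv_smul_mem]
    simp [MulAction.mem_stabilizer_iff, mul_smul, inv_smul_eq_iff]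
  have hH : Cfsg.IsFrobeniusComplement (MulAction.stabilizer G ω) := by
    refine ⟨fun h => hg₀1 ((Subgroup.eq_bot_iff_forall _).mp h g₀ hg₀), fun h => ?_, fun t ht => ?_⟩
    · refine hg₀1 (FaithfulSMul.eq_of_smul_eq_smul (α := Ω) fun c => ?_)
      obtain ⟨t, rfl⟩ := MulAction.exists_smul_eq G ω c
      have : t ∈ MulAction.stabilizer G ω := h ▸ Subgroup.mem_top t
      rw [one_smul, MulAction.mem_stabilizer_iff.mp this, hg₀]
    · rw [Subgroup.eq_bot_iff_forall]
      intro x hx
      exact hfix x ω (t • ω) hx.1 ((hmem t x).mp hx.2) fun e => ht e.symm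
  have hker : ∀ x ∈ Cfsg.frobeniusKernel (MulAction.stabilizer G ω), x ^ 2 = 1 := by
    rintro x (rfl | hx)
    · exact one_pow 2
    rw [pow_two]
    refine hsq x fun c hc => ?_
    obtain ⟨t, rfl⟩ := MulAction.exists_smul_eq G ω c
    exact hx t ((hmem t x).mpr hc)
  refine Or.inr ⟨_, hH, hker, fun x hx y hy => ?_⟩
  obtain ⟨N, hN, -, -⟩ := Cfsg.Agent.S0035.result _ hH
  rw [← hN] at hx hy hker
  have := Commute.of_orderOf_dvd_two (G := N) (fun g =>
    orderOf_dvd_of_pow_eq_one (Subtype.ext (hker g g.2))) (a := ⟨x, hx⟩) (b := ⟨y, hy⟩)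
  exact congrArg Subtype.val this.eq

end Cfsg.Agent.S3555
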