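import Cfsg.Statements.S3556
import Cfsg.Agent.Lib.Derange.NonAlmostSimple

set_option autoImplicit false
open Cfsg MulAction CfsgLib.MinNormal CfsgLib.DerangeCount

namespace Cfsg.Agent.S3556

/-- Let G act faithfully and primitively on a finite set with at least two points, and suppose that for some fixed prime p every element of G fixing no point has order a power of p. Then G is of affine type (it has a regular normal subgroup that is an elementary abelian r-group for some prime r) or almost simple (it has a non-abelian simple normal subgroup with trivial centralizer). -/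
theorem result {G Ω : Type*} [Group G] [Finite G] [MulAction G Ω] [FaithfulSMul G Ω] [Finite Ω]
    (hprim : MulAction.IsPreprimitive G Ω) (hΩ : 2 ≤ Nat.card Ω) (p : ℕ) (hp : p.Prime)
    (hder : ∀ g : G, (∀ ω : Ω, g • ω ≠ ω) → ∃ k : ℕ, orderOf g = p ^ k) :
    (∃ (N : Subgroup G) (r : ℕ), r.Prime ∧ N.Normal ∧ Cfsg.IsElementaryAbelian r N ∧
      MulAction.IsPretransitive N Ω ∧ ∀ a : Ω, MulAction.stabilizer N a = ⊥) ∨
    (∃ T : Subgroup G, T.Normal ∧ IsSimpleGroup ↥T ∧ ¬ IsMulCommutative ↥T ∧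
      Subgroup.centralizer (T : Set G) = ⊥) := by
  classical
  haveI := hprim
  haveI : Nontrivial Ω := Finite.one_lt_card_iff_nontrivial.mp hΩ
  haveI : Nontrivial G := by
    by_contra hc
    rw [not_nontrivial_iff_subsingleton] at hc
    obtain ⟨a, b, hab⟩ := exists_pair_ne Ω
    obtain ⟨g, hg⟩ := MulAction.exists_smul_eq G a b
    rw [Subsingleton.elim g 1, one_smul] at hg
    exact hab hg
  obtain ⟨N, ⟨hN, hNne⟩, hmin⟩ := Set.Finite.exists_minimal
    (s := {A : Subgroup G | A.Normal ∧ A ≠ ⊥}) (Set.toFinite _) ⟨⊤, inferInstance, top_ne_bot⟩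
  haveI := hN
  have hNtr := transitive_of_normal hprim N hNne
  by_cases hab : IsMulCommutative N
  · left
    have hsr := semiregular_of_commute hNtr fun a ha b hb =>
      congrArg Subtype.val (hab.is_comm.comm (⟨a, ha⟩ : N) ⟨b, hb⟩)
    obtain ⟨r, hr, hrd⟩ := Nat.exists_prime_and_dvd (n := Nat.card N) (by
      rw [Ne, Subgroup.card_eq_one]; exact hNne)
    obtain ⟨n₀, hn₀, hn₀o⟩ := exists_orderOf_mem hr hrd
    let M : Subgroup G :=
      { carrier := {x | x ∈ N ∧ x ^ r = 1}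
        one_mem' := ⟨one_mem N, one_pow r⟩
        mul_mem' := fun {x y} hx hy => ⟨mul_mem hx.1 hy.1, by
          have hc : Commute x y := congrArg Subtype.val (hab.is_comm.comm (⟨x, hx.1⟩ : N) ⟨y, hy.1⟩)
          rw [hc.mul_pow, hx.2, hy.2, one_mul]⟩
        inv_mem' := fun {x} hx => ⟨inv_mem hx.1, by rw [inv_pow, hx.2, inv_one]⟩ }
    have hMN : M = N := by
      refine le_antisymm (fun x hx => hx.1) (hmin ⟨⟨fun x hx g => ⟨hN.conj_mem x hx.1 g, ?_⟩⟩, ?_⟩ fun x hx => hx.1)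
      · rw [conj_pow, hx.2, mul_one, mul_inv_cancel]
      · intro e
        have h0 : n₀ ∈ M := ⟨hn₀, by rw [← hn₀o, pow_orderOf_eq_one]⟩
        rw [e, Subgroup.mem_bot] at h0
        rw [h0, orderOf_one] at hn₀o
        exact hr.ne_one hn₀o.symm
    refine ⟨N, r, hr, hN, ⟨hab, fun x hx => (hMN.ge hx).2⟩, hNtr, fun a => ?_⟩
    rw [eq_bot_iff]
    rintro ⟨x, hx⟩ hxa
    exact Subgroup.mem_bot.mpr (Subtype.ext (hsr x hx a hxa))
  right
  by_contra hnas
  obtain ⟨L, d⟩ := exists_simpleConjugates (M := N)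
    (fun K h1 h2 h3 => le_antisymm h3 (hmin ⟨h1, h2⟩ h3)) hab
  haveI := d.simple
  obtain ⟨r₁, r₂, -, hr₁, hr₂, -, h12, -, -, hd₁, hd₂, -⟩ := exists_three_primes d.nab
  obtain ⟨r, hr, hrp, hrd⟩ : ∃ r : ℕ, r.Prime ∧ r ≠ p ∧ r ∣ Nat.card L := by
    by_cases e : r₁ = p
    · exact ⟨r₂, hr₂, fun e' => h12 (e.trans e'.symm), hd₂⟩
    · exact ⟨r₁, hr₁, e, hd₁⟩
  have hbad : ∀ x : G, orderOf x = r → (∀ ω : Ω, x • ω ≠ ω) → False := by
    intro x hx hxd
    obtain ⟨k, hk⟩ := hder x hxd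
    rw [hx] at hk
    exact hrp ((Nat.prime_dvd_prime_iff_eq hr hp).mp (hr.dvd_of_dvd_pow hk.dvd))
  by_cases hsemi : ∀ l ∈ L, ∀ ω : Ω, l • ω = ω → l = 1
  · obtain ⟨x, hx, hxo⟩ := exists_orderOf_mem hr hrd
    refine hbad x hxo fun ω h => ?_
    rw [hsemi x hx ω h, orderOf_one] at hxo
    exact hr.ne_one hxo.symm
  -- a second component
  obtain ⟨g, hg⟩ : ∃ g : G, cj L g ≠ cj L 1 := by
    by_contra hall
    push Not at hall
    have hNL : N = L := by
      rw [← d.sup]
      exact le_antisymm (iSup_le fun g => (hall g).trans (cj_one L) |>.le)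
        (le_iSup_of_le 1 (cj_one L).ge)
    subst hNL
    refine hsemi (semiregular_of_commute (B := Subgroup.centralizer (N : Set G)) ?_ fun a ha b hb =>
      Subgroup.mem_centralizer_iff.mp hb a ha)
    exact transitive_of_normal hprim _ fun e => hnas ⟨N, hN, d.simple, hab, e⟩
  rw [cj_one] at hg
  have hgne : cj L 1 ≠ cj L g := by rw [cj_one]; exact Ne.symm hg
  set C := Subgroup.centralizer (L : Set G) ⊓ N with hC
  have hgcent : cj L g ≤ Subgroup.centralizer (L : Set G) := by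
    have := d.le_centralizer hgne
    rwa [cj_one] at this
  have hgC : cj L g ≤ C := le_inf hgcent (d.cj_le g)
  have hLn : N ≤ Subgroup.normalizer (L : Set G) := cj_one L ▸ d.norm 1
  have hCn : ∀ m ∈ N, ∀ k ∈ C, m * k * m⁻¹ ∈ C := fun m hm k hk =>
    ⟨Subgroup.mem_centralizer_iff.mpr fun l hl => by
      have hl' : m⁻¹ * l * m ∈ L := by
        have := (Subgroup.mem_normalizer_iff.mp (hLn (inv_mem hm)) l).mp hl
        rwa [inv_inv] at this
      have h1 := Subgroup.mem_centralizer_iff.mp hk.1 _ hl'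
      calc l * (m * k * m⁻¹) = m * (m⁻¹ * l * m * k) * m⁻¹ := by group
        _ = m * (k * (m⁻¹ * l * m)) * m⁻¹ := by rw [h1]
        _ = m * k * m⁻¹ * l := by group, hN.conj_mem k hk.2 m⟩
  push Not at hsemi
  obtain ⟨l₀, hl₀, α, hl₀α, hl₀1⟩ := hsemi
  let Q : Subgroup G := (stabilizer G α ⊓ N) ⊔ C
  have hQN : Q ≤ N := sup_le inf_le_right inf_le_right
  have hQ : Q ≠ N := by
    intro e
    -- `L ⊓ G_α` would be normal in `L`
    let X : Subgroup G := L ⊓ stabilizer G α
    have hNX : N ≤ Subgroup.normalizer (X : Set G) := by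
      rw [← e]
      refine sup_le (fun m hm => Subgroup.mem_normalizer_iff.mpr fun x => ?_)
        (fun k hk => Subgroup.mem_normalizer_iff.mpr fun x => ?_)
      · exact and_congr (Subgroup.mem_normalizer_iff.mp (hLn hm.2) x)
          (Subgroup.mem_normalizer_iff.mp (Subgroup.le_normalizer hm.1) x)
      · have hc : ∀ y ∈ L, k * y * k⁻¹ = y := fun y hy => by
          rw [← Subgroup.mem_centralizer_iff.mp hk.1 y hy, mul_inv_cancel_right]
        refine ⟨fun hx => by rw [hc x hx.1]; exact hx, fun hx => ?_⟩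
        have hxL : x ∈ L := by
          have h2 := Subgroup.mem_centralizer_iff.mp hk.1 _ hx.1
          have h3 : k * x * k⁻¹ = x := by
            calc k * x * k⁻¹ = k⁻¹ * (k * (k * x * k⁻¹)) := by group
              _ = k⁻¹ * (k * x * k⁻¹ * k) := by rw [h2]
              _ = x := by group
          exact h3 ▸ hx.1
        rw [hc x hxL] at hx
        exact hx
    have hn : (X.subgroupOf L).Normal :=
      (Subgroup.normal_subgroupOf_iff_le_normalizer inf_le_left).mpr (d.le.trans hNX)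
    rcases hn.eq_bot_or_eq_top with h | h
    · rw [Subgroup.subgroupOf_eq_bot] at h
      exact hl₀1 (Subgroup.mem_bot.mp (h.le_bot ⟨⟨hl₀, hl₀α⟩, hl₀⟩))
    · have hle : L ≤ stabilizer G α := (Subgroup.subgroupOf_eq_top.mp h).trans inf_le_right
      refine hl₀1 (eq_of_smul_eq_smul fun ω : Ω => ?_)
      obtain ⟨m, rfl⟩ := hNtr.exists_smul_eq α ω
      rw [one_smul]
      show l₀ • (m : G) • α = (m : G) • α
      have h1 : (m : G)⁻¹ * l₀ * m ∈ L := by
        have := (Subgroup.mem_normalizer_iff.mp (hLn (inv_mem m.2)) l₀).mp hl₀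
        rwa [inv_inv] at this
      have h2 : ((m : G)⁻¹ * l₀ * m) • α = α := hle h1
      calc l₀ • (m : G) • α = (m : G) • (((m : G)⁻¹ * l₀ * m) • α) := by
            simp [smul_smul, mul_assoc]
        _ = _ := by rw [h2]
  obtain ⟨⟨n, hn⟩, hnQ⟩ := exists_not_mem_conjugates (Q := Q.subgroupOf N)
    (fun h => hQ (le_antisymm hQN (Subgroup.subgroupOf_eq_top.mp h)))
  obtain ⟨a, ha, k, hk, hak⟩ := d.decomp 1 hn
  rw [cj_one] at ha hk
  have hkC : k ∈ C := ⟨hk, by
    have h := mul_mem (inv_mem (d.le ha)) hn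
    rwa [← hak, inv_mul_cancel_left] at h⟩
  -- translates of `a` by elements centralizing `L` are derangements
  have hdr : ∀ k' ∈ C, ∀ ω : Ω, (a * k') • ω ≠ ω := by
    intro k' hk' ω hω
    obtain ⟨⟨m, hm⟩, rfl⟩ := hNtr.exists_smul_eq α ω
    replace hm : m ∈ N := hm
    refine hnQ ⟨m, hm⟩ ?_
    show m⁻¹ * n * m ∈ Q
    have h1 : m⁻¹ * (a * k') * m ∈ Q := by
      refine Subgroup.mem_sup_left ⟨?_, ?_⟩
      · show (m⁻¹ * (a * k') * m) • α = α
        rw [mul_smul, mul_smul, show (a * k') • m • α = m • α from hω, inv_smul_smul]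
      · exact mul_mem (mul_mem ((Subgroup.inv_mem N hm : m⁻¹ ∈ N)) (mul_mem (d.le ha) hk'.2)) hm
    have h2 : m⁻¹ * (k'⁻¹ * k) * m ∈ Q := by
      have := hCn m⁻¹ (inv_mem hm) _ (mul_mem (inv_mem hk') hkC)
      rw [inv_inv] at this
      exact Subgroup.mem_sup_right this
    rw [← hak, show m⁻¹ * (a * k) * m = m⁻¹ * (a * k') * m * (m⁻¹ * (k'⁻¹ * k) * m) by group]
    exact mul_mem h1 h2
  obtain ⟨s, hs, hso⟩ := exists_orderOf_mem (A := cj L g) hr (by rwa [card_cj])
  obtain ⟨e, he⟩ := hder (a * s) (hdr s (hgC hs))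
  have hc : Commute a s := d.comm 1 g hgne a ((cj_one L).ge ha) s hs
  have h1 : a ^ p ^ e * s ^ p ^ e = 1 := by rw [← hc.mul_pow, ← he, pow_orderOf_eq_one]
  have h2 : a ^ p ^ e ∈ cj L 1 ⊓ cj L g :=
    ⟨by rw [cj_one]; exact pow_mem ha _, by
      rw [eq_inv_of_mul_eq_one_left h1]; exact (cj L g).inv_mem (pow_mem hs _)⟩
  rw [d.inf 1 g hgne, Subgroup.mem_bot] at h2
  rw [h2, one_mul] at h1
  have h3 := orderOf_dvd_of_pow_eq_one h1
  rw [hso] at h3
  exact hrp ((Nat.prime_dvd_prime_iff_eq hr hp).mp (hr.dvd_of_dvd_pow h3))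

end Cfsg.Agent.S3556
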