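import Cfsg.Statements.S3557


set_option autoImplicit false
open Cfsg

namespace Cfsg.Agent.S3557

open scoped Classical in
/-- Gluing two elements along an invariant set. -/
theorem exists_glue {G Ω : Type*} [Group G] [MulAction G Ω] (Δ : Set Ω) (x y : G)
    (hx : ∀ a, x • a ∈ Δ ↔ a ∈ Δ) (hy : ∀ a, y • a ∈ Δ ↔ a ∈ Δ) :
    ∃ σ : Equiv.Perm Ω, (∀ a ∈ Δ, σ a = x • a) ∧ (∀ a ∉ Δ, σ a = y • a) := by
  have hx' : ∀ a, x⁻¹ • a ∈ Δ ↔ a ∈ Δ := fun a => by simpa using (hx (x⁻¹ • a)).symm
  have hy' : ∀ a, y⁻¹ • a ∈ Δ ↔ a ∈ Δ := fun a => by simpa using (hy (y⁻¹ • a)).symm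
  exact ⟨⟨fun a => if a ∈ Δ then x • a else y • a, fun a => if a ∈ Δ then x⁻¹ • a else y⁻¹ • a,
    fun a => by by_cases h : a ∈ Δ <;> simp [h, hx, hy],
    fun a => by by_cases h : a ∈ Δ <;> simp [h, hx', hy']⟩,
    fun a h => if_pos h, fun a h => if_neg h⟩

/-- A central element moving a point of an orbit moves every point of it. -/
theorem moves_orbit {P Ω : Type*} [Group P] [MulAction P Ω] {z : P} (hz : z ∈ Subgroup.center P)
    {a : Ω} (ha : z • a ≠ a) : ∀ x ∈ MulAction.orbit P a, z • x ≠ x := by
  rintro _ ⟨g, rfl⟩ e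
  apply ha
  have e' : z • g • a = g • a := e
  rwa [← mul_smul, ← Subgroup.mem_center_iff.mp hz g, mul_smul, smul_left_cancel_iff] at e'

/-- A non-trivial normal subgroup of a `p`-group contains a central element of order `p`. -/
theorem central_prime {P : Type*} [Group P] [Finite P] {p : ℕ} (hp : p.Prime) (hP : IsPGroup p P)
    (N : Subgroup P) [hN : N.Normal] (hN1 : N ≠ ⊥) :
    ∃ z ∈ N, z ∈ Subgroup.center P ∧ z ^ p = 1 ∧ z ≠ 1 := by
  haveI := Fact.mk hp
  haveI : Nontrivial N := (Subgroup.nontrivial_iff_ne_bot N).mpr hN1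
  obtain ⟨k, hk⟩ := IsPGroup.iff_card.mp (hP.to_subgroup N)
  have hk0 : k ≠ 0 := fun h => by
    have := Finite.one_lt_card (α := N)
    rw [h, pow_zero] at hk
    omega
  obtain ⟨⟨b, hbN⟩, hb, hb1⟩ :=
    (hP.of_equiv ConjAct.toConjAct).exists_fixed_point_of_prime_dvd_card_of_fixed_point
      (α := N) (hk ▸ dvd_pow_self p hk0) (a := 1) (fun g => smul_one g)
  have hbc : b ∈ Subgroup.center P := Subgroup.mem_center_iff.mpr fun g => by
    have e : g * b * g⁻¹ = b := congrArg Subtype.val (hb (ConjAct.toConjAct g))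
    exact mul_inv_eq_iff_eq_mul.mp e
  obtain ⟨m, hm⟩ := IsPGroup.iff_orderOf.mp hP b
  have hm0 : m ≠ 0 := fun h => hb1 (Subtype.ext (orderOf_eq_one_iff.mp (by rw [hm, h, pow_zero])).symm)
  obtain ⟨i, rfl⟩ := Nat.exists_eq_succ_of_ne_zero hm0
  refine ⟨b ^ p ^ i, pow_mem hbN _, pow_mem hbc _, ?_, fun h => ?_⟩
  · rw [← pow_mul, ← pow_succ, ← hm, pow_orderOf_eq_one]
  · have := orderOf_dvd_of_pow_eq_one h
    rw [hm, Nat.pow_dvd_pow_iff_le_right hp.one_lt] at this
    omega

theorem main {G Ω : Type*} [Group G] [Finite G] [MulAction G Ω] [FaithfulSMul G Ω] [Finite Ω]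
    (htrans : MulAction.IsPretransitive G Ω) (p : ℕ) (hp : p.Prime) (hcard : Nat.card Ω = 2 * p ^ 2)
    (hcl : ∀ σ : Equiv.Perm Ω, (∀ a b : Ω, ∃ g : G, σ a = g • a ∧ σ b = g • b) →
      ∃ g : G, ∀ a : Ω, σ a = g • a) :
    ∃ g : G, (orderOf g).Prime ∧ ∀ ω : Ω, g • ω ≠ ω := by
  classical
  haveI := Fact.mk hp
  have fin : ∀ g : G, g ^ p = 1 → (∀ ω : Ω, g • ω ≠ ω) → ∃ g : G, (orderOf g).Prime ∧ ∀ ω : Ω, g • ω ≠ ω := by
    intro g h1 h2
    obtain ⟨a⟩ : Nonempty Ω :=
      (Nat.card_pos_iff.mp (by rw [hcard]; exact Nat.mul_pos two_pos (pow_pos hp.pos 2))).1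
    exact ⟨g, by rw [orderOf_eq_prime h1 fun e => h2 a (by rw [e, one_smul])]; exact hp, h2⟩
  haveI hne : Nonempty Ω :=
    (Nat.card_pos_iff.mp (by rw [hcard]; exact Nat.mul_pos two_pos (pow_pos hp.pos 2))).1
  obtain ⟨P⟩ := (Sylow.nonempty : Nonempty (Sylow p G))
  -- orbits of P
  have horb : ∀ a : Ω, p ^ 2 ∣ Nat.card (MulAction.orbit P a) := by
    intro a
    have h1 : Nat.card (MulAction.orbit G a) = Nat.card Ω := by
      rw [MulAction.orbit_eq_univ]; exact Nat.card_congr (Equiv.Set.univ Ω)
    have h2 := Nat.card_congr (MulAction.orbitProdStabilizerEquivGroup P a)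
    have h3 := Nat.card_congr (MulAction.orbitProdStabilizerEquivGroup G a)
    rw [Nat.card_prod] at h2 h3
    rw [h1, hcard] at h3
    obtain ⟨k, hk⟩ := IsPGroup.iff_card.mp (P.2.to_subgroup (MulAction.stabilizer P a))
    have h4 : p ^ k ∣ Nat.card (MulAction.stabilizer G a) := by
      rw [← hk]
      exact Subgroup.card_dvd_of_injective
        ((P : Subgroup G).subtype.subgroupComap (MulAction.stabilizer G a))
        (fun x y h => Subtype.ext (Subtype.ext (congrArg (fun u : MulAction.stabilizer G a => (u : G)) h)))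
    have h5 : p ^ (k + 2) ∣ Nat.card (P : Subgroup G) := by
      refine P.pow_dvd_card_of_pow_dvd_card ?_
      rw [← h3, pow_add]
      exact (Nat.mul_dvd_mul h4 (dvd_mul_left _ 2)).trans (by rw [mul_comm])
    rw [← h2, hk, pow_add, mul_comm] at h5
    exact Nat.dvd_of_mul_dvd_mul_right (pow_pos hp.pos k) h5
  have hle : ∀ a : Ω, p ^ 2 ≤ Nat.card (MulAction.orbit P a) := fun a =>
    Nat.le_of_dvd (Nat.card_pos_iff.mpr ⟨⟨⟨a, MulAction.mem_orbit_self a⟩⟩, inferInstance⟩) (horb a)
  haveI : Fintype Ω := Fintype.ofFinite Ω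
  -- at most two orbits
  have htwo : ∀ a b c : Ω, b ∉ MulAction.orbit P a → c ∉ MulAction.orbit P a →
      c ∈ MulAction.orbit P b := by
    intro a b c hb hc
    by_contra hcb
    have hab : Disjoint (MulAction.orbit P a) (MulAction.orbit P b) :=
      Set.disjoint_left.mpr fun x hxa hxb => hb (by
        rw [← MulAction.orbit_eq_iff.mpr hxa, MulAction.orbit_eq_iff.mpr hxb]
        exact MulAction.mem_orbit_self b)
    have hcd : Disjoint (MulAction.orbit P a ∪ MulAction.orbit P b) (MulAction.orbit P c) :=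
      Set.disjoint_left.mpr fun x hx hxc => by
        rcases hx with hx | hx
        · exact hc (by
            rw [← MulAction.orbit_eq_iff.mpr hx, MulAction.orbit_eq_iff.mpr hxc]
            exact MulAction.mem_orbit_self c)
        · exact hcb (by
            rw [← MulAction.orbit_eq_iff.mpr hx, MulAction.orbit_eq_iff.mpr hxc]
            exact MulAction.mem_orbit_self c)
    have := (Set.ncard_le_ncard (Set.subset_univ
      ((MulAction.orbit P a ∪ MulAction.orbit P b) ∪ MulAction.orbit P c)) (Set.toFinite _))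
    rw [Set.ncard_univ, hcard, Set.ncard_union_eq hcd (Set.toFinite _) (Set.toFinite _),
      Set.ncard_union_eq hab (Set.toFinite _) (Set.toFinite _), ← Nat.card_coe_set_eq,
      ← Nat.card_coe_set_eq, ← Nat.card_coe_set_eq] at this
    have := hle a; have := hle b; have := hle c
    have := pow_pos hp.pos 2
    omega
  obtain ⟨a⟩ := hne
  have htop : (⊤ : Subgroup P) ≠ ⊥ := fun h => by
    have h1 := hle a
    have h2 := MulAction.orbitProdStabilizerEquivGroup P a
    have : Subsingleton P := Subgroup.subsingleton_iff.mp (subsingleton_of_bot_eq_top h.symm)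
    have h3 : Nat.card (MulAction.orbit P a) ≤ 1 := by
      rw [Nat.card_congr (MulAction.orbitEquivQuotientStabilizer P a)]
      exact Finite.card_le_one_iff_subsingleton.mpr inferInstance
    have := hp.two_le
    nlinarith
  by_cases hall : ∀ b, b ∈ MulAction.orbit P a
  · obtain ⟨z, -, hzc, hzp, hz1⟩ := central_prime hp P.2 ⊤ htop
    obtain ⟨c, hc⟩ : ∃ c : Ω, z • c ≠ c := by
      by_contra h
      push Not at h
      exact hz1 (Subtype.ext (eq_of_smul_eq_smul fun c : Ω => by
        rw [show ((1 : P) : G) = 1 from rfl, one_smul]; exact h c))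
    refine fin z (congrArg Subtype.val hzp) fun w => moves_orbit hzc hc w ?_
    rw [MulAction.orbit_eq_iff.mpr (hall c)]; exact hall w
  push Not at hall
  obtain ⟨b, hb⟩ := hall
  -- kernels on the two orbits
  let ker : Ω → Subgroup P := fun u =>
    { carrier := {g | ∀ x ∈ MulAction.orbit P u, g • x = x}
      one_mem' := fun x _ => one_smul _ x
      mul_mem' := fun {g h} hg hh x hx => by rw [mul_smul, hh x hx, hg x hx]
      inv_mem' := fun {g} hg x hx => inv_smul_eq_iff.mpr (hg x hx).symm }
  have hkern : ∀ u, (ker u).Normal := fun u => ⟨fun n hn g x hx => by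
    rw [mul_smul, mul_smul, hn _ (MulAction.mem_orbit_of_mem_orbit g⁻¹ hx), smul_inv_smul]⟩
  have hcover : ∀ {a b : Ω}, b ∉ MulAction.orbit P a → ∀ x, x ∈ MulAction.orbit P a ∨ x ∈ MulAction.orbit P b :=
    fun {a b} hb x => (em (x ∈ MulAction.orbit P a)).imp_right (htwo a b x hb)
  -- a central element of order p fixing one orbit pointwise gives the derangement
  have key : ∀ a b : Ω, b ∉ MulAction.orbit P a → ∀ z ∈ ker b, z ∈ Subgroup.center P → z ^ p = 1 →
      z ≠ 1 → ∃ g : G, (orderOf g).Prime ∧ ∀ ω : Ω, g • ω ≠ ω := by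
    intro a b hb z hzb hzc hzp hz1
    have hza : z • a ≠ a := by
      intro e
      refine hz1 (Subtype.ext (eq_of_smul_eq_smul fun c : Ω => ?_))
      rw [show ((1 : P) : G) = 1 from rfl, one_smul]
      rcases hcover hb c with hc | hc
      · by_contra h
        exact moves_orbit hzc h a (by
          rw [MulAction.orbit_eq_iff.mpr hc]; exact MulAction.mem_orbit_self a) e
      · exact hzb c hc
    set K := ker b
    haveI hKn : K.Normal := hkern b
    let L : Subgroup P :=
      { carrier := {g | ∀ x ∈ MulAction.orbit P a, ∃ k ∈ K, g • x = k • x}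
        one_mem' := fun x _ => ⟨1, one_mem K, rfl⟩
        mul_mem' := fun {g h} hg hh x hx => by
          obtain ⟨k, hk, ek⟩ := hh x hx
          obtain ⟨k', hk', ek'⟩ := hg (k • x) (MulAction.mem_orbit_of_mem_orbit k hx)
          exact ⟨k' * k, mul_mem hk' hk, by rw [mul_smul, ek, ek', mul_smul]⟩
        inv_mem' := fun {g} hg x hx => by
          obtain ⟨k, hk, ek⟩ := hg (g⁻¹ • x) (MulAction.mem_orbit_of_mem_orbit g⁻¹ hx)
          refine ⟨k⁻¹, inv_mem hk, ?_⟩
          rw [smul_inv_smul] at ek
          rw [eq_inv_smul_iff]; exact ek.symm }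
    haveI hLn : L.Normal := ⟨fun g hg c x hx => by
      obtain ⟨k, hk, ek⟩ := hg (c⁻¹ • x) (MulAction.mem_orbit_of_mem_orbit c⁻¹ hx)
      exact ⟨c * k * c⁻¹, hKn.conj_mem k hk c, by simp only [mul_smul, ek]⟩⟩
    -- some element of L moves the second orbit
    have hLK : ¬ L ≤ K := by
      intro hle'
      have hKL : K ≤ L := fun k hk x _ => ⟨k, hk, rfl⟩
      have horbK : ∀ x ∈ MulAction.orbit P a, 1 < Nat.card (MulAction.orbit K x) := by
        intro x hx
        haveI : Nontrivial (MulAction.orbit K x) :=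
          ⟨⟨⟨x, MulAction.mem_orbit_self x⟩, ⟨z • x, ⟨⟨z, hzb⟩, rfl⟩⟩, fun h =>
            moves_orbit hzc hza x hx (congrArg Subtype.val h).symm⟩⟩
        exact Finite.one_lt_card
      -- the quotient by K acts transitively on the second orbit and embeds in Sym(blocks)
      have hidx : p ^ 2 ∣ K.index := by
        refine (horb b).trans ?_
        rw [show Nat.card (MulAction.orbit P b) = (MulAction.stabilizer P b).index from
          Nat.card_congr (MulAction.orbitEquivQuotientStabilizer P b)]
        exact Subgroup.index_dvd_of_le fun k hk => hk b (MulAction.mem_orbit_self b)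
      let A : Set Ω := MulAction.orbit P a
      let s : Setoid A := Setoid.ker fun x : A => MulAction.orbit K (x : Ω)
      have hres : ∀ g : P, ∀ x y : A, MulAction.orbit K (x : Ω) = MulAction.orbit K (y : Ω) →
          MulAction.orbit K ((g • x : A) : Ω) = MulAction.orbit K ((g • y : A) : Ω) := by
        intro g x y h
        rw [MulAction.orbit_eq_iff] at h ⊢
        obtain ⟨k, hk⟩ := h
        refine ⟨⟨g * k * g⁻¹, hKn.conj_mem _ k.2 g⟩, ?_⟩
        show (g * (k : P) * g⁻¹) • g • (y : Ω) = g • (x : Ω)
        rw [mul_smul, inv_smul_smul, mul_smul]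
        exact congrArg (g • ·) hk
      let φ : P → Quotient s → Quotient s := fun g => Quotient.map (fun x => g • x) (hres g)
      have hφ1 : ∀ q, φ 1 q = q := fun q => Quotient.inductionOn q fun x => by
        show Quotient.map _ _ ⟦x⟧ = _
        rw [Quotient.map_mk, one_smul]
      have hφm : ∀ g h q, φ (g * h) q = φ g (φ h q) := fun g h q => Quotient.inductionOn q fun x => by
        show Quotient.map _ _ ⟦x⟧ = Quotient.map _ _ (Quotient.map _ _ ⟦x⟧)
        rw [Quotient.map_mk, Quotient.map_mk, Quotient.map_mk, mul_smul]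
      letI : MulAction P (Quotient s) := { smul := φ, one_smul := hφ1, mul_smul := hφm }
      have hker : (MulAction.toPermHom P (Quotient s)).ker ≤ L := by
        intro g hg x hx
        have e : φ g ⟦⟨x, hx⟩⟧ = ⟦⟨x, hx⟩⟧ :=
          DFunLike.congr_fun (MonoidHom.mem_ker.mp hg) (⟦⟨x, hx⟩⟧ : Quotient s)
        have e' : MulAction.orbit K (g • x) = MulAction.orbit K x := Quotient.exact e
        obtain ⟨k, hk⟩ := MulAction.orbit_eq_iff.mp e'
        exact ⟨k, k.2, hk.symm⟩
      have hQ : Nat.card (Quotient s) ≤ p := by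
        -- the orbits of K have at least p points each
        haveI : Fintype (Quotient s) := Fintype.ofFinite _
        have hfib : ∀ q : Quotient s, p ≤ Nat.card {x : A // (⟦x⟧ : Quotient s) = q} := by
          intro q
          induction q using Quotient.inductionOn with
          | _ x =>
          have e : Nat.card {y : A // (⟦y⟧ : Quotient s) = ⟦x⟧} = Nat.card (MulAction.orbit K (x : Ω)) := by
            refine Nat.card_eq_of_bijective (fun y => (⟨(y.1 : Ω), by
              have he : MulAction.orbit K ((y.1 : A) : Ω) = MulAction.orbit K (x : Ω) := Quotient.exact y.2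
              rw [← he]
              exact MulAction.mem_orbit_self _⟩ : MulAction.orbit K (x : Ω))) ⟨?_, ?_⟩
            · exact fun y y' h => Subtype.ext (Subtype.ext (congrArg (fun u : MulAction.orbit K (x : Ω) => (u : Ω)) h))
            · rintro ⟨y, hy⟩
              have hyA : y ∈ A := by
                obtain ⟨k, rfl⟩ := hy
                exact MulAction.mem_orbit_of_mem_orbit (k : P) x.2
              exact ⟨⟨⟨y, hyA⟩, Quotient.sound (MulAction.orbit_eq_iff.mpr hy :
                MulAction.orbit K y = MulAction.orbit K (x : Ω))⟩, rfl⟩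
          rw [e]
          obtain ⟨j, hj⟩ := (P.2.to_subgroup K).card_orbit (x : Ω)
          have h1 := horbK x x.2
          rw [hj] at h1 ⊢
          exact Nat.le_self_pow (fun h0 => by simp [h0] at h1) p
        have hA : Nat.card A ≤ p ^ 2 := by
          have hd : Disjoint (MulAction.orbit P a) (MulAction.orbit P b) :=
            Set.disjoint_left.mpr fun x hxa hxb => hb (by
              rw [← MulAction.orbit_eq_iff.mpr hxa, MulAction.orbit_eq_iff.mpr hxb]
              exact MulAction.mem_orbit_self b)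
          have := Set.ncard_le_ncard (Set.subset_univ (MulAction.orbit P a ∪ MulAction.orbit P b))
            (Set.toFinite _)
          rw [Set.ncard_univ, hcard, Set.ncard_union_eq hd (Set.toFinite _) (Set.toFinite _),
            ← Nat.card_coe_set_eq, ← Nat.card_coe_set_eq] at this
          have := hle b
          show Nat.card (MulAction.orbit P a) ≤ _
          omega
        have hsum : ∑ q : Quotient s, Nat.card {x : A // (⟦x⟧ : Quotient s) = q} = Nat.card A := by
          rw [← Nat.card_sigma]
          exact Nat.card_congr (Equiv.sigmaFiberEquiv fun x : A => (⟦x⟧ : Quotient s))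
        have h2 := Finset.card_nsmul_le_sum Finset.univ _ p fun q _ => hfib q
        rw [smul_eq_mul, hsum, Finset.card_univ, ← Nat.card_eq_fintype_card] at h2
        have h3 : Nat.card (Quotient s) * p ≤ p * p := h2.trans (by rw [← pow_two]; exact hA)
        exact Nat.le_of_mul_le_mul_right h3 hp.pos
      have hdvd : p ^ 2 ∣ (Nat.card (Quotient s)).factorial := by
        refine hidx.trans ((Subgroup.index_dvd_of_le (hker.trans hle')).trans ?_)
        rw [Subgroup.index_ker, ← Nat.card_perm]
        exact Subgroup.card_subgroup_dvd_card _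
      have := (hdvd.trans (Nat.factorial_dvd_factorial hQ))
      rw [← Nat.mul_factorial_pred hp.ne_zero, pow_two] at this
      have h4 := (hp.dvd_factorial).mp (Nat.dvd_of_mul_dvd_mul_left hp.pos this)
      have := hp.pos
      omega
    -- an element central on the second orbit
    let π := QuotientGroup.mk' K
    have hLbar : L.map π ≠ ⊥ := fun h => hLK fun g hg =>
      (QuotientGroup.eq_one_iff g).mp (Subgroup.mem_bot.mp (h ▸ ⟨g, hg, rfl⟩))
    haveI hLbn : (L.map π).Normal := hLn.map π (QuotientGroup.mk'_surjective K)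
    obtain ⟨_, ⟨g, hgL, rfl⟩, hqc, hqp, hq1⟩ := central_prime hp (P.2.to_quotient K) (L.map π) hLbar
    have hgc : π g ∈ Subgroup.center (P ⧸ K) := hqc
    have hgp : g ^ p ∈ K := by
      rw [← QuotientGroup.eq_one_iff]
      show π (g ^ p) = 1
      rw [map_pow]; exact hqp
    have hgne : g ∉ K := fun h => hq1 ((QuotientGroup.eq_one_iff g).mpr h)
    have hgmove : ∀ x ∈ MulAction.orbit P b, g • x ≠ x := by
      intro x hx e
      apply hgne
      intro y hy
      obtain ⟨c, hc⟩ : y ∈ MulAction.orbit P x := by rwa [MulAction.orbit_eq_iff.mpr hx]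
      have hk : c⁻¹ * g * c * g⁻¹ ∈ K := by
        rw [← QuotientGroup.eq_one_iff]
        show π (c⁻¹ * g * c * g⁻¹) = 1
        rw [map_mul, map_mul, map_mul, map_inv, map_inv, mul_assoc (π c)⁻¹,
          ← Subgroup.mem_center_iff.mp hgc (π c), inv_mul_cancel_left, mul_inv_cancel]
      have e2 := hk x hx
      rw [mul_smul, inv_smul_eq_iff.mpr e.symm, mul_smul, mul_smul, inv_smul_eq_iff] at e2
      subst hc
      exact e2
    -- glue
    obtain ⟨σ, hσa, hσb⟩ := exists_glue (MulAction.orbit P a) ((z : P) : G) ((g : P) : G)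
      (fun x => ⟨fun h => by
          have := MulAction.mem_orbit_of_mem_orbit (z⁻¹ : P) (show (z : P) • x ∈ MulAction.orbit P a from h)
          rwa [inv_smul_smul] at this,
        fun h => MulAction.mem_orbit_of_mem_orbit (z : P) h⟩)
      (fun x => ⟨fun h => by
          have := MulAction.mem_orbit_of_mem_orbit (g⁻¹ : P) (show (g : P) • x ∈ MulAction.orbit P a from h)
          rwa [inv_smul_smul] at this,
        fun h => MulAction.mem_orbit_of_mem_orbit (g : P) h⟩)
    have hb' : ∀ x, x ∉ MulAction.orbit P a → x ∈ MulAction.orbit P b := fun x h => (hcover hb x).resolve_left h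
    have cross : ∀ x ∈ MulAction.orbit P a, ∀ y, y ∉ MulAction.orbit P a →
        ∃ h : G, σ x = h • x ∧ σ y = h • y := by
      intro x hx y hy
      obtain ⟨k, hk, ek⟩ := hgL (z • x) (MulAction.mem_orbit_of_mem_orbit z hx)
      -- the witness is g followed by an element of K
      obtain ⟨k', hk', ek'⟩ := hgL x hx
      refine ⟨((g * (g⁻¹ * (z * k'⁻¹) * g) : P) : G), ?_, ?_⟩
      · rw [hσa x hx]
        show z • x = (g * (g⁻¹ * (z * k'⁻¹) * g)) • x
        simp only [mul_smul, smul_inv_smul, ek', inv_smul_smul]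
      · rw [hσb y hy]
        show g • y = (g * (g⁻¹ * (z * k'⁻¹) * g)) • y
        rw [mul_smul, (by simpa using hKn.conj_mem _ (mul_mem hzb (inv_mem hk')) g⁻¹ :
          g⁻¹ * (z * k'⁻¹) * g ∈ K) y (hb' y hy)]
    obtain ⟨h, hh⟩ := hcl σ fun x y => by
      by_cases hx : x ∈ MulAction.orbit P a <;> by_cases hy : y ∈ MulAction.orbit P a
      · exact ⟨_, hσa x hx, hσa y hy⟩
      · exact cross x hx y hy
      · obtain ⟨h, e1, e2⟩ := cross y hy x hx; exact ⟨h, e2, e1⟩
      · exact ⟨_, hσb x hx, hσb y hy⟩
    refine fin h ?_ fun w => ?_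
    · refine eq_of_smul_eq_smul fun w : Ω => ?_
      rw [one_smul]
      have iter : ∀ m, h ^ m • w = if w ∈ MulAction.orbit P a then (z ^ m) • w else (g ^ m) • w := by
        intro m
        induction m with
        | zero => simp
        | succ m ih =>
          rw [pow_succ', mul_smul, ih, ← hh]
          by_cases hw : w ∈ MulAction.orbit P a
          · rw [if_pos hw, if_pos hw, hσa _ (MulAction.mem_orbit_of_mem_orbit _ hw), pow_succ',
              mul_smul]
            rfl
          · rw [if_neg hw, if_neg hw, hσb _ (fun h' => hw (by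
              simpa using MulAction.mem_orbit_of_mem_orbit (g ^ m)⁻¹ h')), pow_succ', mul_smul]
            rfl
      rw [iter p]
      split_ifs with hw
      · rw [hzp, one_smul]
      · exact hgp w (hb' w hw)
    · rw [← hh]
      by_cases hw : w ∈ MulAction.orbit P a
      · rw [hσa w hw]; exact moves_orbit hzc hza w hw
      · rw [hσb w hw]; exact hgmove w (hb' w hw)
  -- some kernel is nontrivial, or some central element moves everything
  obtain ⟨z, -, hzc, hzp, hz1⟩ := central_prime hp P.2 ⊤ htop
  by_cases h1 : z • a = a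
  · refine key b a (fun h => hb ?_) z (fun x hx => ?_) hzc hzp hz1
    · rw [MulAction.orbit_eq_iff.mpr h]; exact MulAction.mem_orbit_self b
    · by_contra h
      exact moves_orbit hzc h a (by
        rw [MulAction.orbit_eq_iff.mpr hx]; exact MulAction.mem_orbit_self a) h1
  by_cases h2 : z • b = b
  · refine key a b hb z (fun x hx => ?_) hzc hzp hz1
    by_contra h
    exact moves_orbit hzc h b (by
      rw [MulAction.orbit_eq_iff.mpr hx]; exact MulAction.mem_orbit_self b) h2
  refine fin z (congrArg Subtype.val hzp) fun w => ?_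
  rcases hcover hb w with hw | hw
  · exact moves_orbit hzc h1 w hw
  · exact moves_orbit hzc h2 w hw


/-- Let G act faithfully and transitively on a finite set with 2p² points, p a prime, and suppose G is 2-closed: every permutation of the set which, on each ordered pair of points, agrees with some element of G, is itself induced by an element of G. Then some element of G of prime order fixes no point. -/
theorem result {G Ω : Type*} [Group G] [Finite G] [MulAction G Ω] [FaithfulSMul G Ω] [Finite Ω]
    (htrans : MulAction.IsPretransitive G Ω) (p : ℕ) (hp : p.Prime) (hcard : Nat.card Ω = 2 * p ^ 2)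
    (hcl : ∀ σ : Equiv.Perm Ω, (∀ a b : Ω, ∃ g : G, σ a = g • a ∧ σ b = g • b) → ∃ g : G, ∀ a : Ω, σ a = g • a) :
    ∃ g : G, (orderOf g).Prime ∧ ∀ ω : Ω, g • ω ≠ ω := by
  exact main htrans p hp hcard hcl

end Cfsg.Agent.S3557
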