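import Cfsg.Statements.S3560
import Mathlib

set_option autoImplicit false
set_option linter.style.haveILetI false
open Cfsg

namespace Cfsg.Agent.S3560

/-- Let K be a finite group isomorphic to a direct product of r ≥ 2 groups all of the same order m ≥ 3. Then K is not a B-group: there is a primitive but not doubly transitive permutation group (on some finite set) containing a regular subgroup isomorphic to K. -/
theorem result {K : Type*} [Group K] [Finite K] {ι : Type*} [Fintype ι] (F : ι → Type*) [∀ i, Group (F i)]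
    (hr : 2 ≤ Fintype.card ι) (m : ℕ) (hm : 3 ≤ m) (hcard : ∀ i, Nat.card (F i) = m) (e : K ≃* (∀ i, F i)) :
    ∃ (n : ℕ) (G R : Subgroup (Equiv.Perm (Fin n))), R ≤ G ∧ Nonempty (↥R ≃* K) ∧
      MulAction.IsPretransitive ↥R (Fin n) ∧ (∀ a : Fin n, MulAction.stabilizer ↥R a = ⊥) ∧
      MulAction.IsPreprimitive ↥G (Fin n) ∧ ¬ MulAction.IsMultiplyPretransitive ↥G (Fin n) 2 := by
  classical
  haveI : ∀ i, Finite (F i) := fun i => Nat.finite_of_card_ne_zero (by rw [hcard i]; omega)
  haveI := fun i => Fintype.ofFinite (F i)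
  let Adj : (∀ i, F i) → (∀ i, F i) → Prop := fun a b => ∃ i, a i ≠ b i ∧ ∀ j, j ≠ i → a j = b j
  have hFn : ∀ i, ∃ w : F i, w ≠ 1 := fun i => by
    have : 1 < Fintype.card (F i) := by rw [← Nat.card_eq_fintype_card, hcard i]; omega
    exact Fintype.exists_ne_of_one_lt_card this 1
  have hF2 : ∀ i, ∀ a : F i, ∃ z : F i, z ≠ 1 ∧ z ≠ a := fun i a => by
    obtain ⟨z, -, hz⟩ := Finset.exists_mem_notMem_of_card_lt_card (s := {1, a}) (t := (Finset.univ : Finset (F i)))
      (Finset.card_le_two.trans_lt (by rw [Finset.card_univ, ← Nat.card_eq_fintype_card, hcard i]; omega))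
    simp only [Finset.mem_insert, Finset.mem_singleton, not_or] at hz
    exact ⟨z, hz⟩
  obtain ⟨ε, hε⟩ : ∃ ε : ∀ i, F i ≃ Fin m, ∀ i, ε i 1 = ⟨0, by omega⟩ := by
    have e0 : ∀ i, Nonempty (F i ≃ Fin m) := fun i =>
      ⟨Fintype.equivFinOfCardEq (by rw [← Nat.card_eq_fintype_card, hcard i])⟩
    exact ⟨fun i => (e0 i).some.trans (Equiv.swap ((e0 i).some 1) ⟨0, by omega⟩), fun i => by simp⟩
  let θ : Fin (Fintype.card (∀ i, F i)) ≃ (∀ i, F i) := (Fintype.equivFin (∀ i, F i)).symm
  let G : Subgroup (Equiv.Perm (Fin (Fintype.card (∀ i, F i)))) :=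
    { carrier := {g | ∀ a b, Adj (θ (g a)) (θ (g b)) ↔ Adj (θ a) (θ b)}
      one_mem' := fun a b => Iff.rfl
      mul_mem' := fun {g h} hg hh a b => (hg (h a) (h b)).trans (hh a b)
      inv_mem' := fun {g} hg a b => by
        have := hg (g⁻¹ a) (g⁻¹ b)
        simpa using this.symm }
  have lift : ∀ σ : Equiv.Perm (∀ i, F i), (∀ a b, Adj (σ a) (σ b) ↔ Adj a b) →
      ∃ g ∈ G, ∀ a, θ (g a) = σ (θ a) := fun σ hσ =>
    ⟨(θ.trans σ).trans θ.symm, fun a b => by simp [hσ], fun a => by simp⟩
  have hleft : ∀ c : (∀ i, F i), ∀ a b, Adj (c * a) (c * b) ↔ Adj a b := fun c a b => by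
    simp only [Adj, Pi.mul_apply, ne_eq, mul_right_inj]
  have tr : ∀ c a, ∃ g ∈ G, θ (g a) = c := fun c a => by
    obtain ⟨g, hg, hga⟩ := lift (Equiv.mulLeft (c * (θ a)⁻¹)) (fun x y => by
      simp only [Equiv.coe_mulLeft]; exact hleft _ x y)
    exact ⟨g, hg, by rw [hga]; simp⟩
  let L : K →* Equiv.Perm (Fin (Fintype.card (∀ i, F i))) :=
    { toFun := fun k => (θ.trans (Equiv.mulLeft (e k))).trans θ.symm
      map_one' := by ext; simp
      map_mul' := fun a b => by ext; simp [mul_assoc] }
  have hLapp : ∀ k a, θ (L k a) = e k * θ a := fun k a => by simp [L]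
  have hLinj : Function.Injective L := fun a b h => e.injective (by
    have := congrArg (fun g => θ (g (θ.symm 1))) h
    simpa [hLapp] using this)
  have hRG : L.range ≤ G := by
    rintro _ ⟨k, rfl⟩ a b
    rw [hLapp, hLapp]
    exact hleft _ _ _
  refine ⟨Fintype.card (∀ i, F i), G, L.range, hRG, ⟨(MonoidHom.ofInjective hLinj).symm⟩, ?_, ?_, ?_, ?_⟩
  · refine ⟨fun a b => ⟨⟨L (e.symm (θ b * (θ a)⁻¹)), _, rfl⟩, θ.injective ?_⟩⟩
    show θ (L _ a) = θ b
    rw [hLapp, e.apply_symm_apply, inv_mul_cancel_right]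
  · intro a
    rw [eq_bot_iff]
    rintro ⟨_, k, rfl⟩ hk
    rw [MulAction.mem_stabilizer_iff] at hk
    have h1 : θ (L k a) = θ a := congrArg θ hk
    rw [hLapp, mul_eq_right] at h1
    rw [Subgroup.mem_bot]
    apply Subtype.ext
    show L k = 1
    rw [show k = 1 from e.injective (by rw [h1, map_one]), map_one]
  · haveI : MulAction.IsPretransitive G (Fin (Fintype.card (∀ i, F i))) := ⟨fun a b => by
      obtain ⟨g, hg, hga⟩ := tr (θ b) a
      exact ⟨⟨g, hg⟩, θ.injective hga⟩⟩
    refine MulAction.IsPreprimitive.of_isTrivialBlock_base (θ.symm 1) fun {B} h1 hB => ?_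
    by_cases hsub : B.Subsingleton
    · exact Or.inl hsub
    refine Or.inr ?_
    obtain ⟨y, hy, hy1⟩ : ∃ y ∈ B, y ≠ θ.symm 1 := by
      by_contra hc
      push Not at hc
      exact hsub fun u hu v hv => (hc u hu).trans (hc v hv).symm
    have move : ∀ g ∈ G, ∀ u ∈ B, g u ∈ B → ∀ v ∈ B, g v ∈ B := by
      intro g hg u hu hgu v hv
      have := hB.smul_eq_of_mem (g := (⟨g, hg⟩ : G)) hu hgu
      rw [← this]
      exact Set.smul_mem_smul_set hv
    -- change one coordinate
    have hy1' : θ y ≠ 1 := fun h => hy1 (by rw [← h, θ.symm_apply_apply])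
    obtain ⟨i, hi⟩ : ∃ i, θ y i ≠ 1 := by
      by_contra hc; push Not at hc; exact hy1' (funext hc)
    obtain ⟨z, hz1, hz2⟩ := hF2 i (θ y i)
    let π : Equiv.Perm (∀ i, F i) := Equiv.piCongrRight
      (Function.update (fun _ => Equiv.refl _) i (Equiv.swap (θ y i) z))
    have hπi : ∀ v : (∀ i, F i), π v i = Equiv.swap (θ y i) z (v i) := fun v => by simp [π]
    have hπo : ∀ v : (∀ i, F i), ∀ j, j ≠ i → π v j = v j := fun v j hj => by simp [π, hj]
    have hπA : ∀ a b, Adj (π a) (π b) ↔ Adj a b := by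
      intro a b
      have hinj : ∀ j, π a j = π b j ↔ a j = b j := fun j => by
        by_cases hj : j = i
        · subst hj; rw [hπi, hπi]; exact (Equiv.injective _).eq_iff
        · rw [hπo a j hj, hπo b j hj]
      simp only [Adj, ne_eq, hinj]
    obtain ⟨g, hg, hga⟩ := lift π hπA
    have hfix : g (θ.symm 1) = θ.symm 1 := by
      apply θ.injective
      rw [hga, θ.apply_symm_apply]
      funext j
      by_cases hj : j = i
      · subst hj; rw [hπi]; exact Equiv.swap_apply_of_ne_of_ne (Ne.symm hi) (Ne.symm hz1)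
      · rw [hπo _ j hj]
    have hgy : g y ∈ B := move g hg _ h1 (by rw [hfix]; exact h1) y hy
    have hadj : Adj (θ y) (θ (g y)) := by
      refine ⟨i, ?_, fun j hj => ?_⟩
      · rw [hga, hπi, Equiv.swap_apply_left]; exact Ne.symm hz2
      · rw [hga, hπo _ j hj]
    obtain ⟨t, ht, hty⟩ := tr 1 y
    have hty' : t y = θ.symm 1 := by rw [← hty, θ.symm_apply_apply]
    have hu : t (g y) ∈ B := move t ht y hy (by rw [hty']; exact h1) _ hgy
    obtain ⟨i0, hi0, hi0'⟩ : Adj 1 (θ (t (g y))) := by
      have := (ht y (g y)).mpr hadj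
      rwa [hty] at this
    set u := θ (t (g y)) with hu'
    -- every neighbour of 1 is in B
    have hnb : ∀ (j : ι) (w : F j), w ≠ 1 → θ.symm (Pi.mulSingle j w) ∈ B := by
      intro j w hw
      let σ := Equiv.swap i0 j
      let T : ∀ k, F (σ k) ≃ F k := fun k => (ε (σ k)).trans (ε k).symm
      let π1 : Equiv.Perm (∀ i, F i) := (Equiv.piCongrLeft' F σ).trans (Equiv.piCongrRight fun k => (T k))
      have hσσ : ∀ k, σ (σ k) = k := fun k => Equiv.swap_apply_self i0 j k
      have hπ1 : ∀ v k, π1 v k = T k (v (σ k)) := fun v k => by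
        simp [π1, σ, Equiv.piCongrLeft', Equiv.piCongrRight]
        rfl
      have hA1 : ∀ a b, Adj (π1 a) (π1 b) ↔ Adj a b := by
        intro a b
        simp only [Adj, ne_eq, hπ1, EmbeddingLike.apply_eq_iff_eq]
        constructor
        · rintro ⟨k, h, h'⟩
          refine ⟨σ k, h, fun l hl => ?_⟩
          have := h' (σ l) (fun e => hl (by rw [← e, hσσ]))
          rwa [hσσ] at this
        · rintro ⟨k, h, h'⟩
          refine ⟨σ k, by rw [hσσ]; exact h, fun l hl => h' _ (fun e => hl (by rw [← e, hσσ]))⟩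
      have hone : ∀ k, T k (1 : F (σ k)) = 1 := fun k => by
        show (ε k).symm (ε (σ k) 1) = 1
        rw [hε, ← hε k, Equiv.symm_apply_apply]
      have hne : ∀ k, k ≠ j → π1 u k = 1 := fun k hk => by
        rw [hπ1, show u (σ k) = 1 from (hi0' _ (fun e => hk (by rw [← hσσ k, e]; exact Equiv.swap_apply_left i0 j))).symm, hone]
      have hej : π1 u j ≠ 1 := by
        rw [hπ1]
        intro e
        rw [← hone j] at e
        have := (T j).injective e
        rw [show σ j = i0 from Equiv.swap_apply_right i0 j] at this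
        exact hi0 this.symm
      let π2 : Equiv.Perm (∀ i, F i) := Equiv.piCongrRight
        (Function.update (fun _ => Equiv.refl _) j (Equiv.swap (π1 u j) w))
      have hπ2j : ∀ v : (∀ i, F i), π2 v j = Equiv.swap (π1 u j) w (v j) := fun v => by simp [π2]
      have hπ2o : ∀ v : (∀ i, F i), ∀ k, k ≠ j → π2 v k = v k := fun v k hk => by simp [π2, hk]
      have hA2 : ∀ a b, Adj (π2 a) (π2 b) ↔ Adj a b := by
        intro a b
        have hinj : ∀ k, π2 a k = π2 b k ↔ a k = b k := fun k => by
          by_cases hk : k = j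
          · subst hk; rw [hπ2j, hπ2j]; exact (Equiv.injective _).eq_iff
          · rw [hπ2o a k hk, hπ2o b k hk]
        simp only [Adj, ne_eq, hinj]
      obtain ⟨g', hg', hga'⟩ := lift (π1.trans π2) (fun a b => by
        simp only [Equiv.trans_apply]; rw [hA2, hA1])
      have hfix' : g' (θ.symm 1) = θ.symm 1 := by
        apply θ.injective
        rw [hga', θ.apply_symm_apply, Equiv.trans_apply]
        funext k
        by_cases hk : k = j
        · subst hk
          rw [hπ2j, show π1 1 k = 1 from (hπ1 _ _).trans (hone k)]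
          exact Equiv.swap_apply_of_ne_of_ne (Ne.symm hej) (Ne.symm hw)
        · rw [hπ2o _ k hk, hπ1]; exact hone k
      have := move g' hg' _ h1 (by rw [hfix']; exact h1) _ hu
      convert this using 1
      apply θ.injective
      rw [θ.apply_symm_apply, hga', Equiv.trans_apply]
      funext k
      by_cases hk : k = j
      · subst hk; rw [Pi.mulSingle_eq_same, hπ2j, Equiv.swap_apply_left]
      · rw [Pi.mulSingle_eq_of_ne hk, hπ2o _ k hk]; exact (hne k hk).symm
    -- everything
    let P : Subgroup (∀ i, F i) :=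
      { carrier := {v | ∀ b ∈ B, θ.symm (v * θ b) ∈ B}
        one_mem' := fun b hb => by simpa using hb
        mul_mem' := fun {v w} hv hw b hb => by
          have := hv _ (hw b hb)
          simpa [mul_assoc] using this
        inv_mem' := fun {v} hv b hb => by
          have hinj : Set.InjOn (fun b => θ.symm (v * θ b)) B := fun a _ c _ h => by simpa using h
          obtain ⟨c, hc, hcb⟩ := Finite.surjective_of_injective
            (f := fun b : B => (⟨θ.symm (v * θ b), hv b b.2⟩ : B))
            (fun a c h => Subtype.ext (hinj a.2 c.2 (congrArg Subtype.val h))) ⟨b, hb⟩ |>.imp fun (c : B) h => (show (c : Fin (Fintype.card (∀ i, F i))) ∈ B ∧ θ.symm (v * θ (c : Fin (Fintype.card (∀ i, F i)))) = b from ⟨c.2, congrArg Subtype.val h⟩)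
          rw [← hcb]
          simpa using c.2 }
    have hP : ∀ j (w : F j), Pi.mulSingle j w ∈ P := by
      intro j w
      by_cases hw : w = 1
      · rw [hw, Pi.mulSingle_one]; exact P.one_mem
      intro b hb
      obtain ⟨g', hg', hga'⟩ := lift (Equiv.mulLeft (Pi.mulSingle j w)) (fun a c => by
        simp only [Equiv.coe_mulLeft]; exact hleft _ a c)
      have h2 := move g' hg' _ h1 (by
        rw [show g' (θ.symm 1) = θ.symm (Pi.mulSingle j w) by apply θ.injective; rw [hga']; simp]
        exact hnb j w hw) b hb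
      rw [show θ.symm (Pi.mulSingle j w * θ b) = g' b by apply θ.injective; rw [hga']; simp]
      exact h2
    rw [Set.eq_univ_iff_forall]
    intro b
    have hb : θ b ∈ P := Subgroup.pi_mem_of_mulSingle_mem (H := P) (θ b) fun j => hP j (θ b j)
    simpa using hb _ h1
  · intro h2
    rw [MulAction.is_two_pretransitive_iff] at h2
    obtain ⟨i, j, hij⟩ := Fintype.one_lt_card_iff.mp (show 1 < Fintype.card ι by omega)
    obtain ⟨a, ha⟩ := hFn i
    obtain ⟨c, hc⟩ := hFn j
    have hA : Adj 1 (Pi.mulSingle i a) :=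
      ⟨i, by simp [Ne.symm ha], fun k hk => by simp [Pi.mulSingle_eq_of_ne hk]⟩
    have hnA : ¬ Adj 1 (Pi.mulSingle i a * Pi.mulSingle j c) := by
      rintro ⟨k, -, hk⟩
      by_cases hki : k = i
      · have := hk j (fun e => hij (hki.symm.trans e.symm))
        simp [Pi.mulSingle_eq_of_ne (Ne.symm hij)] at this
        exact hc this.symm
      · have := hk i (Ne.symm hki)
        simp [Pi.mulSingle_eq_of_ne hij] at this
        exact ha this.symm
    have n1 : θ.symm 1 ≠ θ.symm (Pi.mulSingle i a) := fun e => by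
      have := congrFun (θ.symm.injective e) i
      simp [Ne.symm ha] at this
    have n2 : θ.symm 1 ≠ θ.symm (Pi.mulSingle i a * Pi.mulSingle j c) := fun e => by
      have := congrFun (θ.symm.injective e) i
      simp [Pi.mulSingle_eq_of_ne hij, Ne.symm ha] at this
    obtain ⟨g, hg1, hg2⟩ := h2 n1 n2
    have := (g.2 (θ.symm 1) (θ.symm (Pi.mulSingle i a))).mpr (by simpa using hA)
    rw [show (g : Equiv.Perm (Fin (Fintype.card (∀ i, F i)))) (θ.symm 1) = θ.symm 1 from hg1,
      show (g : Equiv.Perm (Fin (Fintype.card (∀ i, F i)))) (θ.symm (Pi.mulSingle i a)) = θ.symm (Pi.mulSingle i a * Pi.mulSingle j c) from hg2,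
      θ.apply_symm_apply, θ.apply_symm_apply] at this
    exact hnA this

end Cfsg.Agent.S3560
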