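import Cfsg.Statements.S3572
import Cfsg.Agent.S3559
import Cfsg.Agent.Lib.Dihedral3572.Main
-- import your own Cfsg.Agent.* helpers here

set_option autoImplicit false
set_option linter.unusedSectionVars false
set_option linter.style.haveILetI false
open Cfsg

namespace Cfsg.Agent.S3572

open Cfsg.Agent.S3559

variable {G Ω : Type*} [Group G] [MulAction G Ω] {D : Subgroup G} {α : Ω} {m : ℕ} [NeZero m]

/-- "same suborbit" transported to the dihedral group -/
def rel (α : Ω) (e : ↥D ≃* DihedralGroup m) (a b : DihedralGroup m) : Prop :=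
  ∃ g : G, g • α = α ∧ g • (((e.symm a : D) : G) • α) = ((e.symm b : D) : G) • α

theorem invariant_comp (e : ↥D ≃* DihedralGroup m) {S : Type} {f : DihedralGroup m → S}
    (hf : ∀ a b, rel α e a b → f a = f b) : Invariant α (fun c : D => f (e c)) := by
  intro g hg c d hcd
  exact hf _ _ ⟨g, hg, by simpa using hcd⟩

theorem invariant_set (e : ↥D ≃* DihedralGroup m) {X : Set (DihedralGroup m)}
    (hX : ∀ a b, rel α e a b → (a ∈ X ↔ b ∈ X)) : Invariant α (fun c : D => c ∈ e ⁻¹' X) :=
  fun g hg _ _ hcd => propext (hX _ _ ⟨g, hg, by simpa using hcd⟩)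

/-- the Schur ring of a regular dihedral subgroup of a primitive group -/
noncomputable def dat [MulAction.IsPreprimitive G Ω] (hL : Labelled D α)
    (e : ↥D ≃* DihedralGroup m) : Dih3572.Dat m where
  O := rel α e
  refl _ := ⟨1, one_smul _ _, one_smul _ _⟩
  symm := by
    rintro a b ⟨g, hg, hab⟩
    exact ⟨g⁻¹, inv_smul_eq_iff.mpr hg.symm, by rw [inv_smul_eq_iff]; exact hab.symm⟩
  trans := by
    rintro a b c ⟨g, hg, hab⟩ ⟨k, hk, hbc⟩
    exact ⟨k * g, by rw [mul_smul, hg, hk], by rw [mul_smul, hab, hbc]⟩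
  one := by
    rintro d ⟨g, hg, hd⟩
    rw [map_one, Subgroup.coe_one, one_smul, hg] at hd
    have h := hL.inj (e.symm d) 1 (by rw [Subgroup.coe_one, one_smul]; exact hd.symm)
    rw [← e.apply_symm_apply d, h, map_one]
  inv := by
    rintro a b ⟨g, hg, hab⟩
    refine ⟨(e.symm b : G)⁻¹ * g * (e.symm a : G), ?_, ?_⟩
    · rw [mul_smul, mul_smul, hab, inv_smul_smul]
    · simp only [map_inv, Subgroup.coe_inv]
      rw [mul_smul, mul_smul, smul_inv_smul, hg]
  conv := by
    intro S _ f g hf hg a b hab
    obtain ⟨k, hk, hkab⟩ := hab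
    haveI : Fintype D := Fintype.ofEquiv _ e.symm.toEquiv
    have h := invariant_conv hL (invariant_comp e hf) (invariant_comp e hg) k hk _ _ hkab
    have key : ∀ z : DihedralGroup m, ∑ x, f x * g (x⁻¹ * z) =
        ∑ x : D, f (e x) * g (e (x⁻¹ * e.symm z)) := by
      intro z
      refine (Fintype.sum_equiv e.toEquiv _ _ fun x => ?_).symm
      simp
    rw [key, key]
    exact h
  gen := by
    intro X hX
    haveI : Finite D := Finite.of_equiv _ e.symm.toEquiv
    have h := trivial_of_invariant hL _ (invariant_closure hL _ (invariant_set e hX))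
    have hmap : (Subgroup.closure (e ⁻¹' X)).map e.toMonoidHom = Subgroup.closure X := by
      rw [MonoidHom.map_closure]
      congr 1
      exact Set.image_preimage_eq X e.surjective
    rcases h with h | h
    · left; rw [← hmap, h, Subgroup.map_bot]
    · right; rw [← hmap, h, Subgroup.map_top_of_surjective _ e.surjective]
  rad := by
    intro X hX z hz hper
    have h := trivial_of_invariant hL _ (invariant_radical hL _ (invariant_set e hX))
    have hzr : e.symm z ∈ radical (e ⁻¹' X) := fun w => by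
      simp only [Set.mem_preimage, map_mul, MulEquiv.apply_symm_apply]
      exact hper (e w)
    rcases h with h | h
    · rw [h, Subgroup.mem_bot, MulEquiv.map_eq_one_iff] at hzr
      exact absurd hzr hz
    · rcases Set.eq_empty_or_nonempty X with h0 | ⟨x, hx⟩
      · exact Or.inl h0
      · refine Or.inr (Set.eq_univ_of_forall fun y => ?_)
        have h1 : e.symm (y * x⁻¹) ∈ radical (e ⁻¹' X) := h ▸ Subgroup.mem_top _
        have h2 := (h1 (e.symm x)).mp (by simpa using hx)
        simpa using h2

/-- A finite primitive permutation group containing a dihedral subgroup that acts regularly (transitively with trivial point stabilizers) is doubly transitive. -/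
theorem result {G Ω : Type*} [Group G] [Finite G] [MulAction G Ω] [FaithfulSMul G Ω] [Finite Ω]
    (hprim : MulAction.IsPreprimitive G Ω) (D : Subgroup G) (m : ℕ) (hD : Nonempty (↥D ≃* DihedralGroup m))
    (hDreg : MulAction.IsPretransitive ↥D Ω ∧ ∀ a : Ω, MulAction.stabilizer ↥D a = ⊥) :
    MulAction.IsMultiplyPretransitive G Ω 2 := by
  classical
  obtain ⟨e⟩ := hD
  haveI : NeZero m := ⟨fun h => by
    subst h
    haveI : Finite (DihedralGroup 0) := Finite.of_equiv _ e.toEquiv
    exact not_finite (DihedralGroup 0)⟩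
  haveI := hDreg.1
  haveI := hprim
  by_cases hΩ : Nonempty Ω
  swap
  · rw [MulAction.is_two_pretransitive_iff]
    intro u
    exact absurd ⟨u⟩ hΩ
  obtain ⟨α⟩ := hΩ
  have hL : Labelled D α := by
    refine ⟨fun c d h => ?_, fun ω => MulAction.exists_smul_eq D α ω⟩
    have h1 : c⁻¹ * d ∈ MulAction.stabilizer D α := by
      rw [MulAction.mem_stabilizer_iff, mul_smul, inv_smul_eq_iff]
      exact h.symm
    rw [hDreg.2 α, Subgroup.mem_bot] at h1
    exact inv_mul_eq_one.mp h1
  have hO : ∀ a b : DihedralGroup m, a ≠ 1 → b ≠ 1 → rel α e a b := by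
    intro a b ha hb
    rcases Nat.lt_or_ge 1 m with hm | hm
    · exact (dat hL e).rank_two hm ha hb
    · obtain rfl : m = 1 := le_antisymm hm (NeZero.pos m)
      have key : ∀ d : DihedralGroup 1, d ≠ 1 → d = DihedralGroup.sr 0 := by
        rintro (i | i) hd
        · exact absurd (by rw [Subsingleton.elim i 0]; rfl) hd
        · rw [Subsingleton.elim i 0]
      rw [key a ha, key b hb]
      exact ⟨1, one_smul _ _, one_smul _ _⟩
  rw [MulAction.is_two_pretransitive_iff]
  intro u v u' v' huv hu'v'
  obtain ⟨g, hg⟩ := MulAction.exists_smul_eq G u α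
  obtain ⟨g', hg'⟩ := MulAction.exists_smul_eq G u' α
  have hne : ∀ (g : G) (u v : Ω) (c : D), g • u = α → u ≠ v → (c : G) • α = g • v → e c ≠ 1 := by
    intro g u v c hgu hne hc h
    rw [MulEquiv.map_eq_one_iff] at h
    rw [h, Subgroup.coe_one, one_smul] at hc
    exact hne (smul_left_cancel g (hgu.trans hc))
  obtain ⟨c, hc⟩ := hL.surj (g • v)
  obtain ⟨c', hc'⟩ := hL.surj (g' • v')
  obtain ⟨k, hk, hkc⟩ := hO (e c) (e c') (hne g u v c hg huv hc) (hne g' u' v' c' hg' hu'v' hc')
  simp only [MulEquiv.symm_apply_apply] at hkc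
  refine ⟨g'⁻¹ * k * g, ?_, ?_⟩
  · rw [mul_smul, mul_smul, hg, hk, inv_smul_eq_iff, hg']
  · rw [mul_smul, mul_smul, ← hc, hkc, hc', inv_smul_smul]

end Cfsg.Agent.S3572
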