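import Cfsg.Statements.S3573
import Mathlib
-- import your own Cfsg.Agent.* helpers here

set_option autoImplicit false
open Cfsg

namespace Cfsg.Agent.S3573

theorem iff_mod (n k r : ℕ) (hr : r.Prime) (hkn : k ≤ n) (hrn : r ≤ n) :
    (∀ σ : Equiv.Perm (Fin n), orderOf σ = r → ∃ s : Finset (Fin n), s.card = k ∧ s.image σ = s) ↔ k % r ≤ n % r := by
  classical
  have : Fact r.Prime := ⟨hr⟩
  have hdm := Nat.div_add_mod n r
  have hT : 1 ≤ n / r := Nat.one_le_div_iff hr.pos |>.mpr hrn
  constructor
  · intro h
    obtain ⟨σ, hσ⟩ := (Equiv.Perm.exists_with_cycleType_iff (Fin n) (m := Multiset.replicate (n / r) r)).mpr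
      ⟨by rw [Multiset.sum_replicate, Fintype.card_fin, smul_eq_mul]; exact Nat.div_mul_le_self n r,
        fun a ha => by rw [Multiset.eq_of_mem_replicate ha]; exact hr.two_le⟩
    have ho : orderOf σ = r := by
      rw [← σ.lcm_cycleType, hσ]
      exact Nat.dvd_antisymm (Multiset.lcm_dvd.mpr fun a ha => (Multiset.eq_of_mem_replicate ha).symm ▸ dvd_rfl)
        (Multiset.dvd_lcm (Multiset.mem_replicate.mpr ⟨by omega, rfl⟩))
    obtain ⟨s, hs, hsi⟩ := h σ ho
    have hmem : ∀ x, σ x ∈ s ↔ x ∈ s := fun x => by
      conv_lhs => rw [← hsi]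
      rw [Finset.mem_image]
      exact ⟨fun ⟨y, hy, e⟩ => σ.injective e ▸ hy, fun hx => ⟨x, hx, rfl⟩⟩
    let τ := σ.subtypePerm hmem
    have hτ : τ ^ r ^ 1 = 1 := by
      rw [pow_one, Equiv.Perm.subtypePerm_pow]
      refine Equiv.ext fun x => Subtype.ext ?_
      show (σ ^ r) x = x
      rw [← ho, pow_orderOf_eq_one]; rfl
    have h1 := Equiv.Perm.card_compl_support_modEq hτ
    rw [Fintype.card_coe, hs] at h1
    have h2 : τ.supportᶜ.card ≤ σ.supportᶜ.card := by
      refine Finset.card_le_card_of_injOn Subtype.val (fun x hx => ?_) Subtype.val_injective.injOn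
      simp only [Finset.coe_compl, Set.mem_compl_iff, SetLike.mem_coe, Equiv.Perm.mem_support, not_not] at hx ⊢
      exact congrArg Subtype.val hx
    have h3 : σ.supportᶜ.card = n % r := by
      rw [Finset.card_compl, Fintype.card_fin, ← σ.sum_cycleType, hσ, Multiset.sum_replicate, smul_eq_mul, mul_comm]
      omega
    rw [← h1]
    exact (Nat.mod_le _ _).trans (h2.trans h3.le)
  · intro hmod σ ho
    obtain ⟨t, ht⟩ := Equiv.Perm.cycleType_prime_order (σ := σ) (ho ▸ hr)
    rw [ho] at ht
    let C := σ.cycleFactorsFinset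
    have hCcard : C.card = t + 1 := by
      have := congrArg Multiset.card ht
      rwa [Equiv.Perm.cycleType_def, Multiset.card_map, Multiset.card_replicate] at this
    have hsup : ∀ c ∈ C, c.support.card = r := fun c hc => by
      refine Multiset.eq_of_mem_replicate (n := t + 1) ?_
      rw [← ht, Equiv.Perm.cycleType_def]
      exact Multiset.mem_map.mpr ⟨c, hc, rfl⟩
    have hsum := σ.sum_cycleType
    rw [ht, Multiset.sum_replicate, smul_eq_mul] at hsum
    have hfix : σ.supportᶜ.card = n - (t + 1) * r := by rw [Finset.card_compl, Fintype.card_fin, ← hsum]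
    have hle : (t + 1) * r ≤ n := hsum ▸ (Finset.card_le_univ _).trans (Fintype.card_fin n).le
    let a := min (t + 1) (k / r)
    obtain ⟨C', hC', hC'card⟩ := Finset.exists_subset_card_eq (s := C) (n := a) (hCcard ▸ min_le_left _ _)
    have har : a * r ≤ k := (Nat.mul_le_mul_right r (min_le_right _ _)).trans (Nat.div_mul_le_self k r)
    have hrest : k - a * r ≤ n - (t + 1) * r := by
      rcases le_or_gt (k / r) (t + 1) with h | h
      · have ha : a = k / r := min_eq_right h
        rw [ha]
        have h4 := Nat.div_add_mod k r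
        have h5 : n % r ≤ n - (t + 1) * r := by
          have : (t + 1) * r ≤ n / r * r := Nat.mul_le_mul_right r ((Nat.le_div_iff_mul_le hr.pos).mpr hle)
          rw [mul_comm] at hdm
          omega
        rw [mul_comm] at h4
        omega
      · have ha : a = t + 1 := min_eq_left h.le
        rw [ha]
        omega
    obtain ⟨F, hF, hFcard⟩ := Finset.exists_subset_card_eq (s := σ.supportᶜ) (n := k - a * r) (hfix ▸ hrest)
    let B := C'.biUnion Equiv.Perm.support
    have hBsub : B ⊆ σ.support := Finset.biUnion_subset.mpr fun c hc =>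
      Equiv.Perm.mem_cycleFactorsFinset_support_le (hC' hc)
    have hBcard : B.card = a * r := by
      rw [Finset.card_biUnion, Finset.sum_congr rfl (fun c hc => hsup c (hC' hc)), Finset.sum_const, hC'card, smul_eq_mul]
      exact fun c hc d hd hcd => Equiv.Perm.disjoint_iff_disjoint_support.mp
        (Equiv.Perm.cycleFactorsFinset_pairwise_disjoint σ (hC' hc) (hC' hd) hcd)
    refine ⟨B ∪ F, ?_, ?_⟩
    · rw [Finset.card_union_of_disjoint, hBcard, hFcard, Nat.add_sub_cancel' har]
      exact Finset.disjoint_left.mpr fun x hxB hxF => Finset.mem_compl.mp (hF hxF) (hBsub hxB)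
    · refine Finset.eq_of_subset_of_card_le (fun y hy => ?_) (Finset.card_image_of_injective _ σ.injective).ge
      obtain ⟨x, hx, rfl⟩ := Finset.mem_image.mp hy
      rcases Finset.mem_union.mp hx with h | h
      · obtain ⟨c, hc, hxc⟩ := Finset.mem_biUnion.mp h
        refine Finset.mem_union_left _ (Finset.mem_biUnion.mpr ⟨c, hc, ?_⟩)
        rw [← (Equiv.Perm.mem_cycleFactorsFinset_iff.mp (hC' hc)).2 x hxc]
        exact Equiv.Perm.apply_mem_support.mpr hxc
      · have := Finset.mem_compl.mp (hF h)
        rw [Equiv.Perm.mem_support, not_not] at this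
        rw [this]
        exact Finset.mem_union_right _ h

/-- Let 1 ≤ k with 2k < n and consider the symmetric group of degree n acting on the k-subsets of an n-set. Let r be a prime dividing the number C(n,k) of k-subsets. If r is odd, then every permutation of order r fixes some k-subset if and only if r ≤ k and the remainder of k modulo r is at most the remainder of n modulo r. If r = 2, then every involution fixes some k-subset if and only if k is even or n is odd. -/
theorem result (n k : ℕ) (hk : 1 ≤ k) (hkn : 2 * k < n) (r : ℕ) (hr : r.Prime) (hrd : r ∣ Nat.choose n k) :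
    (r ≠ 2 → ((∀ σ : Equiv.Perm (Fin n), orderOf σ = r → ∃ s : Finset (Fin n), s.card = k ∧ s.image σ = s) ↔
      (r ≤ k ∧ k % r ≤ n % r))) ∧
    (r = 2 → ((∀ σ : Equiv.Perm (Fin n), orderOf σ = 2 → ∃ s : Finset (Fin n), s.card = k ∧ s.image σ = s) ↔
      (Even k ∨ Odd n))) := by
  have : Fact r.Prime := ⟨hr⟩
  have hpos : 0 < n.choose k := Nat.choose_pos (by omega)
  have hluc := Choose.choose_modEq_choose_mod_mul_choose_div_nat (p := r) (n := n) (k := k)
  have hrn : r ≤ n := by
    by_contra h
    push Not at h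
    exact (Nat.Prime.coprime_iff_not_dvd hr).mp
      (Nat.Coprime.symm (Nat.Coprime.coprime_dvd_left (Nat.choose_mul_factorial_mul_factorial (show k ≤ n by omega) ▸ Dvd.intro _ (mul_assoc _ _ _).symm)
        (hr.coprime_iff_not_dvd.mpr (fun hd => absurd (hr.dvd_factorial.mp hd) h.not_ge)).symm)) hrd
  have key := iff_mod n k r hr (by omega) hrn
  refine ⟨fun hr2 => key.trans ⟨fun h => ⟨?_, h⟩, fun h => h.2⟩, fun hr2 => ?_⟩
  · by_contra hk
    push Not at hk
    rw [Nat.div_eq_of_lt hk, Nat.choose_zero_right, mul_one, Nat.mod_eq_of_lt hk] at hluc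
    rw [Nat.mod_eq_of_lt hk] at h
    have hd : r ∣ (n % r).choose k := (hluc.dvd_iff dvd_rfl).mp hrd
    have hlt : n % r < r := Nat.mod_lt _ hr.pos
    have hdf : r ∣ (n % r).factorial :=
      hd.trans (Nat.choose_mul_factorial_mul_factorial h ▸ Dvd.intro _ (mul_assoc _ _ _).symm)
    exact absurd (hr.dvd_factorial.mp hdf) hlt.not_ge
  · subst hr2
    refine key.trans ?_
    rw [Nat.even_iff, Nat.odd_iff]
    omega

end Cfsg.Agent.S3573
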