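import Cfsg.Statements.S3575
-- import your own Cfsg.Agent.* helpers here

set_option autoImplicit false
open Cfsg

namespace Cfsg.Agent.S3575

open Equiv Equiv.Perm Finset

/-- The basic rotation of the blocks of `r` consecutive numbers. -/
def cyc (r x : ℕ) : ℕ := r * (x / r) + (x + 1) % r

theorem cyc_iter {r : ℕ} (hr : 0 < r) (i x : ℕ) : (cyc r)^[i] x = r * (x / r) + (x + i) % r := by
  induction i with
  | zero => rw [Function.iterate_zero_apply, add_zero, Nat.div_add_mod]
  | succ i ih =>
    rw [Function.iterate_succ_apply', ih, cyc]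
    have h1 : (r * (x / r) + (x + i) % r) / r = x / r := by
      rw [Nat.mul_add_div hr, Nat.div_eq_of_lt (Nat.mod_lt _ hr), add_zero]
    rw [h1, add_assoc, Nat.mul_add_mod, Nat.mod_add_mod, add_assoc]

theorem cyc_lt {r x A : ℕ} (hr : 0 < r) (h : x < A * r) : cyc r x < A * r := by
  have h1 : x / r + 1 ≤ A := (Nat.div_lt_iff_lt_mul hr).2 h
  have h2 := Nat.mul_le_mul_left r h1
  have h3 := Nat.mod_lt (x + 1) hr
  rw [cyc, mul_comm A]
  rw [mul_add, mul_one] at h2
  omega

theorem cyc_ne {r x : ℕ} (hr : 2 ≤ r) : cyc r x ≠ x := by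
  intro h
  have h1 := Nat.div_add_mod x r
  have h2 : (x + 1) % r = x % r := by rw [cyc] at h; omega
  have h3 : (x + 1) ≡ x + 0 [MOD r] := h2
  have h4 : 1 % r = 0 % r := Nat.ModEq.add_left_cancel' x h3
  rw [Nat.mod_eq_of_lt (show 1 < r by omega), Nat.zero_mod] at h4
  omega

theorem cyc_div {r x : ℕ} (hr : 0 < r) : cyc r x / r = x / r := by
  rw [cyc, Nat.mul_add_div hr, Nat.div_eq_of_lt (Nat.mod_lt _ hr), add_zero]

/-- A permutation from a function of finite order. -/
def permOfIter {α : Type*} (g : α → α) (r : ℕ) (hr : 0 < r) (h : ∀ x, g^[r] x = x) : Equiv.Perm α where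
  toFun := g
  invFun := g^[r - 1]
  left_inv x := by rw [← Function.iterate_succ_apply, Nat.succ_eq_add_one, Nat.sub_add_cancel hr, h]
  right_inv x := by rw [← Function.iterate_succ_apply' g, Nat.succ_eq_add_one, Nat.sub_add_cancel hr, h]

theorem permOfIter_pow {α : Type*} (g : α → α) (r : ℕ) (hr : 0 < r) (h : ∀ x, g^[r] x = x) :
    permOfIter g r hr h ^ r = 1 := by
  refine Equiv.ext fun x => ?_
  rw [Equiv.Perm.coe_pow]
  exact h x

/-- A model: `m` cycles of blocks and `e'` further cycles inside blocks. -/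
theorem exists_model {a b r m e' : ℕ} (hr : 2 ≤ r) (hm : m * r ≤ b) (he' : e' ≤ (b - m * r) * (a / r)) :
    ∃ (τ : Equiv.Perm (Fin b × Fin a)) (π : Equiv.Perm (Fin b)), τ ^ r = 1 ∧
      (∀ p, (τ p).1 = π p.1) ∧ τ.support.card = r * (m * a + e') := by
  classical
  have hr0 : 0 < r := by omega
  set A := a / r
  have hAa : A * r ≤ a := Nat.div_mul_le_self a r
  let c : ℕ → ℕ → Prop := fun j x => x < A * r ∧ (j - m * r) * A + x / r < e'
  let gp : Fin b → Fin b := fun j => if h : (j : ℕ) < m * r then ⟨cyc r j, (cyc_lt hr0 h).trans_le hm⟩ else j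
  let gx : ℕ → Fin a → Fin a := fun j x =>
    if h : m * r ≤ j ∧ c j x then ⟨cyc r x, (cyc_lt hr0 h.2.1).trans_le hAa⟩ else x
  let g : Fin b × Fin a → Fin b × Fin a := fun p => (gp p.1, gx p.1 p.2)
  have hgp : ∀ i (j : Fin b), ((gp^[i] j : Fin b) : ℕ) = if (j : ℕ) < m * r then (cyc r)^[i] j else j := by
    intro i j
    induction i with
    | zero => simp
    | succ i ih =>
      rw [Function.iterate_succ_apply']
      by_cases hj : (j : ℕ) < m * r
      · rw [if_pos hj] at ih ⊢
        have hlt : ((gp^[i] j : Fin b) : ℕ) < m * r := by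
          rw [ih, cyc_iter hr0]
          have h1 : (j : ℕ) / r + 1 ≤ m := (Nat.div_lt_iff_lt_mul hr0).2 hj
          have h2 := Nat.mul_le_mul_left r h1
          have h3 := Nat.mod_lt ((j : ℕ) + i) hr0
          rw [mul_comm m]; rw [mul_add, mul_one] at h2
          omega
        show ((if h : _ then _ else _ : Fin b) : ℕ) = _
        rw [dif_pos hlt, Function.iterate_succ_apply' (cyc r), ← ih]
      · rw [if_neg hj] at ih ⊢
        show ((if h : _ then _ else _ : Fin b) : ℕ) = _
        rw [dif_neg (by rw [ih]; exact hj), ih]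
  have hg1 : ∀ i p, (g^[i] p).1 = gp^[i] p.1 := by
    intro i p
    induction i with
    | zero => rfl
    | succ i ih => rw [Function.iterate_succ_apply', Function.iterate_succ_apply', ← ih]
  have hg2 : ∀ i p, (((g^[i] p).2 : Fin a) : ℕ) =
      if m * r ≤ (p.1 : ℕ) ∧ c p.1 p.2 then (cyc r)^[i] p.2 else p.2 := by
    intro i p
    induction i with
    | zero => simp
    | succ i ih =>
      rw [Function.iterate_succ_apply']
      show ((if h : _ then _ else _ : Fin a) : ℕ) = _
      have e1 : ((g^[i] p).1 : ℕ) = if (p.1 : ℕ) < m * r then (cyc r)^[i] p.1 else p.1 := by rw [hg1, hgp]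
      by_cases hj : (p.1 : ℕ) < m * r
      · have h1 : ¬ m * r ≤ ((g^[i] p).1 : ℕ) := by
          rw [e1, if_pos hj, cyc_iter hr0]
          have h1 : (p.1 : ℕ) / r + 1 ≤ m := (Nat.div_lt_iff_lt_mul hr0).2 hj
          have h2 := Nat.mul_le_mul_left r h1
          have h3 := Nat.mod_lt ((p.1 : ℕ) + i) hr0
          rw [mul_comm m]; rw [mul_add, mul_one] at h2
          omega
        rw [dif_neg (fun h => h1 h.1), ih, if_neg (fun h => absurd h.1 (by omega)),
          if_neg (fun h => absurd h.1 (by omega))]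
      · rw [if_neg hj] at e1
        by_cases hc : c p.1 p.2
        · have hlt : (cyc r)^[i] (p.2 : ℕ) < A * r ∧ (cyc r)^[i] (p.2 : ℕ) / r = (p.2 : ℕ) / r := by
            have h1 : (p.2 : ℕ) / r + 1 ≤ A := (Nat.div_lt_iff_lt_mul hr0).2 hc.1
            have h2 := Nat.mul_le_mul_left r h1
            have h3 := Nat.mod_lt ((p.2 : ℕ) + i) hr0
            rw [cyc_iter hr0, Nat.mul_add_div hr0, Nat.div_eq_of_lt h3, add_zero, mul_comm A]
            rw [mul_add, mul_one] at h2
            exact ⟨by omega, rfl⟩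
          rw [if_pos ⟨by omega, hc⟩] at ih ⊢
          rw [dif_pos]
          · show cyc r ((g^[i] p).2 : ℕ) = _
            rw [ih, Function.iterate_succ_apply' (cyc r)]
          · refine ⟨by rw [e1]; omega, ?_, ?_⟩
            · rw [ih]; exact hlt.1
            · rw [ih, e1, hlt.2]; exact hc.2
        · rw [if_neg (fun h => hc h.2)] at ih ⊢
          rw [dif_neg (fun h => hc ?_), ih]
          obtain ⟨-, h2⟩ := h
          rwa [ih, e1] at h2
  have hid : ∀ x, (cyc r)^[r] x = x := fun x => by rw [cyc_iter hr0, Nat.add_mod_right, Nat.div_add_mod]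
  have hgr : ∀ p, g^[r] p = p := fun p => Prod.ext
    (Fin.ext (by rw [hg1, hgp, hid]; split_ifs <;> rfl)) (Fin.ext (by rw [hg2, hid]; split_ifs <;> rfl))
  have hgpr : ∀ j, gp^[r] j = j := fun j => Fin.ext (by rw [hgp, hid]; split_ifs <;> rfl)
  refine ⟨permOfIter g r hr0 hgr, permOfIter gp r hr0 hgpr, permOfIter_pow g r hr0 hgr, fun p => rfl, ?_⟩
  have hsupp : (permOfIter g r hr0 hgr).support =
      (univ.filter fun p : Fin b × Fin a => (p.1 : ℕ) < m * r) ∪
        univ.filter fun p : Fin b × Fin a => m * r ≤ (p.1 : ℕ) ∧ c p.1 p.2 := by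
    ext p
    rw [mem_support, mem_union, mem_filter, mem_filter]
    simp only [Finset.mem_univ, true_and]
    show g p ≠ p ↔ _
    have e1 := hgp 1 p.1
    have e2 := hg2 1 p
    rw [Function.iterate_one, Function.iterate_one] at e1 e2
    constructor
    · intro h
      by_contra hc
      push Not at hc
      refine h (Prod.ext (Fin.ext ?_) (Fin.ext ?_))
      · show (gp p.1 : ℕ) = _
        rw [e1, if_neg (by omega)]
      · show ((g p).2 : ℕ) = _
        rw [e2, if_neg (fun h => hc.2 h.1 h.2)]
    · rintro (h | h) heq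
      · have := congrArg (fun q : Fin b × Fin a => (q.1 : ℕ)) heq
        rw [show (g p).1 = gp p.1 from rfl, e1, if_pos h] at this
        exact cyc_ne hr this
      · have := congrArg (fun q : Fin b × Fin a => (q.2 : ℕ)) heq
        rw [e2, if_pos h] at this
        exact cyc_ne hr this
  rw [hsupp, card_union_of_disjoint (disjoint_filter.2 fun p _ h h' => absurd h'.1 (by omega)), mul_add]
  congr 1
  · rw [show (univ.filter fun p : Fin b × Fin a => (p.1 : ℕ) < m * r) =
      (univ.filter fun j : Fin b => (j : ℕ) < m * r) ×ˢ (univ : Finset (Fin a)) by ext p; simp,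
      card_product, card_univ, Fintype.card_fin, Fin.card_filter_val_lt, min_eq_right hm]
    ring
  · rw [mul_comm r e', show e' * r = (range e' ×ˢ range r).card by simp]
    have hAd : ∀ p : Fin b × Fin a, m * r ≤ (p.1 : ℕ) ∧ c p.1 p.2 → (p.2 : ℕ) / r < A := fun p h =>
      (Nat.div_lt_iff_lt_mul hr0).2 h.2.1
    have hinv : ∀ q ∈ range e' ×ˢ range r, q.1 % A < A ∧ m * r + q.1 / A < b ∧ r * (q.1 % A) + q.2 < A * r := by
      intro q hq
      obtain ⟨h1, h2⟩ := mem_product.1 hq
      rw [mem_range] at h1 h2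
      have hA : 0 < A := Nat.pos_of_ne_zero fun h => by rw [h, mul_zero] at he'; omega
      have h3 := Nat.mod_lt q.1 hA
      have h4 : q.1 / A < b - m * r := (Nat.div_lt_iff_lt_mul hA).2 (h1.trans_le he')
      have h5 := Nat.mul_le_mul_left r (Nat.succ_le_of_lt h3)
      rw [Nat.succ_eq_add_one, mul_add, mul_one] at h5
      refine ⟨h3, by omega, ?_⟩
      rw [mul_comm A]; omega
    refine card_bij' (fun p _ => (((p.1 : ℕ) - m * r) * A + (p.2 : ℕ) / r, (p.2 : ℕ) % r))
      (fun q hq => (⟨m * r + q.1 / A, (hinv q hq).2.1⟩, ⟨r * (q.1 % A) + q.2, (hinv q hq).2.2.trans_le hAa⟩))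
      (fun p hp => ?_) (fun q hq => ?_) (fun p hp => ?_) (fun q hq => ?_)
    · rw [mem_filter] at hp
      exact mem_product.2 ⟨mem_range.2 hp.2.2.2, mem_range.2 (Nat.mod_lt _ hr0)⟩
    · obtain ⟨h3, h4, h5⟩ := hinv q hq
      obtain ⟨h1, h2⟩ := mem_product.1 hq
      rw [mem_range] at h1 h2
      refine mem_filter.2 ⟨mem_univ _, Nat.le_add_right _ _, h5, ?_⟩
      show (m * r + q.1 / A - m * r) * A + (r * (q.1 % A) + q.2) / r < e'
      rw [Nat.add_sub_cancel_left, Nat.mul_add_div hr0, Nat.div_eq_of_lt h2, add_zero, mul_comm, Nat.div_add_mod]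
      exact h1
    · rw [mem_filter] at hp
      have hA := hAd p hp.2
      refine Prod.ext (Fin.ext ?_) (Fin.ext ?_)
      · show m * r + (((p.1 : ℕ) - m * r) * A + (p.2 : ℕ) / r) / A = _
        rw [mul_comm _ A, Nat.mul_add_div (Nat.zero_lt_of_lt hA), Nat.div_eq_of_lt hA, add_zero]
        omega
      · show r * ((((p.1 : ℕ) - m * r) * A + (p.2 : ℕ) / r) % A) + (p.2 : ℕ) % r = _
        rw [mul_comm _ A, Nat.mul_add_mod, Nat.mod_eq_of_lt hA, Nat.div_add_mod]
    · obtain ⟨h1, h2⟩ := mem_product.1 hq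
      rw [mem_range] at h1 h2
      refine Prod.ext ?_ ?_
      · show (m * r + q.1 / A - m * r) * A + (r * (q.1 % A) + q.2) / r = q.1
        rw [Nat.add_sub_cancel_left, Nat.mul_add_div hr0, Nat.div_eq_of_lt h2, add_zero, mul_comm, Nat.div_add_mod]
      · show (r * (q.1 % A) + q.2) % r = q.2
        rw [Nat.mul_add_mod, Nat.mod_eq_of_lt h2]

theorem support_dvd {α : Type*} [Fintype α] [DecidableEq α] {r : ℕ} (hr : r.Prime) {σ : Equiv.Perm α}
    (hσ : σ ^ r = 1) : r ∣ σ.support.card := by
  haveI := Fact.mk hr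
  have h := card_compl_support_modEq (p := r) (n := 1) (σ := σ) (by rwa [pow_one])
  rw [card_compl] at h
  have hle : σ.support.card ≤ Fintype.card α := card_le_univ _
  have := (Nat.modEq_iff_dvd' (Nat.sub_le _ _)).1 h
  rwa [Nat.sub_sub_self hle] at this

theorem conj_of_card {α : Type*} [Fintype α] [DecidableEq α] {r : ℕ} (hr : r.Prime) {σ τ : Equiv.Perm α}
    (hσ : orderOf σ = r) (hτ : orderOf τ = r) (h : σ.support.card = τ.support.card) : IsConj σ τ := by
  refine isConj_iff_cycleType_eq.2 ?_
  obtain ⟨i, hi⟩ := cycleType_prime_order (σ := σ) (hσ.symm ▸ hr)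
  obtain ⟨j, hj⟩ := cycleType_prime_order (σ := τ) (hτ.symm ▸ hr)
  rw [hσ] at hi
  rw [hτ] at hj
  rw [← sum_cycleType, ← sum_cycleType, hi, hj, Multiset.sum_replicate, Multiset.sum_replicate, smul_eq_mul,
    smul_eq_mul] at h
  rw [hi, hj, Nat.eq_of_mul_eq_mul_right hr.pos h]

/-- Which permutations of order `r` fix a uniform partition. -/
theorem fix_iff {a b r : ℕ} (hr : r.Prime) (ha : 0 < a) {e : ℕ} (σ : Equiv.Perm (Fin (a * b))) (hord : orderOf σ = r)
    (he : σ.support.card = r * e) :
    (∃ f : Fin (a * b) → Fin b, (∀ j : Fin b, Nat.card {x : Fin (a * b) // f x = j} = a) ∧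
        ∃ π : Equiv.Perm (Fin b), ∀ x : Fin (a * b), f (σ x) = π (f x)) ↔
      ∃ m, m * r ≤ b ∧ m * a ≤ e ∧ e ≤ m * a + (b - m * r) * (a / r) := by
  classical
  constructor
  · rintro ⟨f, hf, π, hπ⟩
    have hσr : σ ^ r = 1 := hord ▸ pow_orderOf_eq_one σ
    have hit : ∀ i x, f ((σ ^ i) x) = (π ^ i) (f x) := by
      intro i x
      induction i with
      | zero => rfl
      | succ i ih => rw [pow_succ', pow_succ', Perm.mul_apply, Perm.mul_apply, hπ, ih]
    have hne : ∀ j, ∃ x, f x = j := fun j => by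
      obtain ⟨⟨x, hx⟩⟩ := (Nat.card_pos_iff.1 (by rw [hf j]; exact ha)).1
      exact ⟨x, hx⟩
    have hπr : π ^ r = 1 := Equiv.ext fun j => by
      obtain ⟨x, rfl⟩ := hne j
      rw [← hit, hσr]; rfl
    obtain ⟨m, hm⟩ := support_dvd hr hπr
    have hmb : r * m ≤ b := hm ▸ (card_le_univ _).trans (Fintype.card_fin b).le
    let s : Fin b → Finset (Fin (a * b)) := fun j => σ.support.filter fun x => f x = j
    have hfib : ∀ j, (univ.filter fun x => f x = j).card = a := fun j => by
      rw [← Fintype.card_subtype, ← Nat.card_eq_fintype_card, hf j]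
    have hsum : r * e = ∑ j, (s j).card := by
      rw [← he]
      exact card_eq_sum_card_fiberwise (fun x _ => mem_univ (f x))
    have hmov : ∀ j ∈ π.support, (s j).card = a := fun j hj => by
      refine (congrArg card (Finset.ext fun x => ?_)).trans (hfib j)
      simp only [s, mem_filter, mem_univ, true_and, and_iff_right_iff_imp]
      intro hx
      rw [mem_support] at hj ⊢
      exact fun h => hj (by rw [← hx, ← hπ, h])
    have hfix : ∀ j ∈ π.supportᶜ, (s j).card ≤ r * (a / r) := fun j hj => by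
      rw [mem_compl, mem_support, not_not] at hj
      have hinv : ∀ x, f (σ x) = j ↔ f x = j := fun x => by
        rw [hπ]; exact ⟨fun h => π.injective (h.trans hj.symm), fun h => by rw [h, hj]⟩
      set τ := σ.subtypePerm (p := fun x => f x = j) hinv with hτ
      have hτr : τ ^ r = 1 := by
        rw [hτ, Equiv.Perm.subtypePerm_pow]
        exact Equiv.ext fun x => Subtype.ext (by rw [Equiv.Perm.subtypePerm_apply]; simp [hσr])
      obtain ⟨c, hc⟩ := support_dvd hr hτr
      have hcs : (s j).card = τ.support.card := by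
        rw [← card_map (Function.Embedding.subtype _)]
        refine congrArg card (Finset.ext fun x => ?_)
        simp [s, hτ, Subtype.ext_iff, and_comm]
      have hle : (s j).card ≤ a := (card_le_card (fun x hx => by
        simp only [s, mem_filter] at hx
        simp [hx.2])).trans (hfib j).le
      rw [hcs, hc] at hle ⊢
      exact Nat.mul_le_mul_left r ((Nat.le_div_iff_mul_le hr.pos).2 (by rw [mul_comm]; exact hle))
    rw [← sum_add_sum_compl π.support, sum_congr rfl hmov, sum_const, smul_eq_mul, hm] at hsum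
    refine ⟨m, by rw [mul_comm]; exact hmb, ?_, ?_⟩
    · exact Nat.le_of_mul_le_mul_left (hsum ▸ (mul_assoc r m a).symm.le.trans (Nat.le_add_right _ _)) hr.pos
    · refine Nat.le_of_mul_le_mul_left ?_ hr.pos
      rw [hsum, mul_add, ← mul_assoc r m a]
      refine Nat.add_le_add_left ((sum_le_card_nsmul _ _ _ hfix).trans (le_of_eq ?_)) _
      rw [smul_eq_mul, card_compl, Fintype.card_fin, hm, mul_comm m r]
      ring
  · rintro ⟨m, hm, hlo, hhi⟩
    obtain ⟨τ, π, hτr, hτπ, hcard⟩ := exists_model (a := a) (e' := e - m * a) hr.two_le hm (by omega)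
    rw [Nat.add_sub_cancel' hlo] at hcard
    let E : Fin (a * b) ≃ Fin b × Fin a := (finCongr (mul_comm a b)).trans finProdFinEquiv.symm
    let τ' : Equiv.Perm (Fin (a * b)) := E.symm.permCongr τ
    have hτ'c : τ'.support.card = r * e := by
      rw [← hcard, ← card_map E.toEmbedding]
      refine congrArg card (Finset.ext fun x => ?_)
      simp [τ', Equiv.symm_apply_eq, Equiv.eq_symm_apply]
    have hτ' : orderOf τ' = r := by
      haveI := Fact.mk hr
      refine orderOf_eq_prime ?_ fun h1 => ?_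
      · show E.symm.permCongrHom τ ^ r = 1
        rw [← map_pow, hτr, map_one]
      · rw [h1, support_one, card_empty] at hτ'c
        rw [← he] at hτ'c
        have := card_support_eq_zero.1 hτ'c.symm
        rw [this, orderOf_one] at hord
        exact hr.one_lt.ne hord
    obtain ⟨g, hg⟩ := isConj_iff.1 (conj_of_card hr hτ' hord (by rw [hτ'c, he]))
    refine ⟨fun x => (E (g⁻¹ x)).1, fun j => ?_, π, fun x => ?_⟩
    · have he : {x : Fin (a * b) // (E (g⁻¹ x)).1 = j} ≃ {p : Fin b × Fin a // p.1 = j} :=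
        Equiv.subtypeEquiv ((g⁻¹ : Equiv.Perm (Fin (a * b))).trans E) fun x => Iff.rfl
      rw [Nat.card_congr he, Nat.card_congr
        ({ toFun := fun p => p.1.2, invFun := fun x => ⟨(j, x), rfl⟩,
           left_inv := fun p => by obtain ⟨⟨u, v⟩, rfl⟩ := p; rfl, right_inv := fun x => rfl } :
          {p : Fin b × Fin a // p.1 = j} ≃ Fin a), Nat.card_fin]
    · rw [← hg]
      simp [τ', hτπ]


/-- Let a, b ≥ 2 and consider the symmetric group of degree a·b acting on the partitions of an (a·b)-set into b parts of size a (encoded as maps onto a b-element set all of whose fibres have a elements; a permutation fixes such a partition when it permutes the fibres). Let r be a prime dividing the number (ab)!/((a!)^b·b!) of such partitions, and let ℓ and k be the remainders of a and b modulo r. Then every permutation of order r fixes some such partition if and only if r ≤ a and one of the following holds: ℓ = 0; or k = 0 and ℓ = 1; or ℓ and k are non-zero, k·ℓ < r, and either b < r or (k + r)·ℓ ≤ k·a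 + r. -/
theorem result (a b : ℕ) (ha : 2 ≤ a) (hb : 2 ≤ b) (r : ℕ) (hr : r.Prime)
    (hrd : r ∣ (a * b).factorial / (a.factorial ^ b * b.factorial)) :
    (∀ σ : Equiv.Perm (Fin (a * b)), orderOf σ = r →
        ∃ f : Fin (a * b) → Fin b, (∀ j : Fin b, Nat.card {x : Fin (a * b) // f x = j} = a) ∧
          ∃ π : Equiv.Perm (Fin b), ∀ x : Fin (a * b), f (σ x) = π (f x)) ↔
      (r ≤ a ∧ (a % r = 0 ∨ (b % r = 0 ∧ a % r = 1) ∨
        (a % r ≠ 0 ∧ b % r ≠ 0 ∧ (b % r) * (a % r) < r ∧ (b < r ∨ (b % r + r) * (a % r) ≤ (b % r) * a + r)))) := by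
  classical
  have hr0 := hr.pos
  have hdiv := Nat.div_add_mod a r
  have hdivb := Nat.div_add_mod b r
  set A := a / r with hA
  set l := a % r with hl
  set M := b / r with hM
  set k := b % r with hk
  have hl' : l < r := Nat.mod_lt _ hr0
  have hk' : k < r := Nat.mod_lt _ hr0
  have hn : r ≤ a * b := by
    have h1 := Nat.uniformBell_mul_eq b (show a ≠ 0 by omega)
    rw [mul_comm b a, mul_assoc] at h1
    rw [← h1, Nat.mul_div_cancel _ (by positivity)] at hrd
    exact (hr.dvd_factorial).1 (h1 ▸ hrd.mul_right _)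
  have hub : ∀ m, m * r ≤ b → m * a + (b - m * r) * A = b * A + m * l := fun m hm => by
    obtain ⟨w, hw⟩ := Nat.exists_eq_add_of_le hm
    rw [hw, Nat.add_sub_cancel_left, ← hdiv]; ring
  have hab : a * b = r * (b * A) + b * l := by rw [← hdiv]; ring
  have hall : (∀ σ : Equiv.Perm (Fin (a * b)), orderOf σ = r →
        ∃ f : Fin (a * b) → Fin b, (∀ j : Fin b, Nat.card {x : Fin (a * b) // f x = j} = a) ∧
          ∃ π : Equiv.Perm (Fin b), ∀ x : Fin (a * b), f (σ x) = π (f x)) ↔
      ∀ e, 1 ≤ e → r * e ≤ a * b → ∃ m, m * r ≤ b ∧ m * a ≤ e ∧ e ≤ b * A + m * l := by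
    constructor
    · intro h e he1 hen
      obtain ⟨σ, hσ⟩ := (Equiv.Perm.exists_with_cycleType_iff (Fin (a * b)) (m := Multiset.replicate e r)).2
        ⟨by rw [Multiset.sum_replicate, smul_eq_mul, Fintype.card_fin, mul_comm]; exact hen,
          fun x hx => by rw [Multiset.eq_of_mem_replicate hx]; exact hr.two_le⟩
      have hord : orderOf σ = r := by
        haveI := Fact.mk hr
        refine orderOf_eq_prime (Equiv.Perm.pow_prime_eq_one_iff.2 fun c hc => ?_) fun h1 => ?_
        · rw [hσ] at hc; exact Multiset.eq_of_mem_replicate hc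
        · rw [h1, Equiv.Perm.cycleType_one, eq_comm, ← Multiset.card_eq_zero, Multiset.card_replicate] at hσ
          omega
      have hs : σ.support.card = r * e := by
        rw [← Equiv.Perm.sum_cycleType, hσ, Multiset.sum_replicate, smul_eq_mul, mul_comm]
      obtain ⟨m, h1, h2, h3⟩ := (fix_iff hr (by omega) σ hord hs).1 (h σ hord)
      exact ⟨m, h1, h2, by rwa [hub m h1] at h3⟩
    · intro h σ hord
      obtain ⟨e, he⟩ := support_dvd hr (hord ▸ pow_orderOf_eq_one σ)
      have hen : r * e ≤ a * b := he ▸ (Finset.card_le_univ _).trans (Fintype.card_fin _).le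
      have he1 : 1 ≤ e := Nat.one_le_iff_ne_zero.2 fun h0 => by
        rw [h0, mul_zero, Equiv.Perm.card_support_eq_zero] at he
        rw [he, orderOf_one] at hord
        exact hr.one_lt.ne hord
      obtain ⟨m, h1, h2, h3⟩ := h e he1 hen
      exact (fix_iff hr (by omega) σ hord he).2 ⟨m, h1, h2, by rw [hub m h1]; exact h3⟩
  rw [hall]
  have hMb : M * r ≤ b := by rw [mul_comm]; omega
  have hMm : ∀ m, m * r ≤ b → m ≤ M := fun m hm => (Nat.le_div_iff_mul_le hr0).2 hm
  constructor
  · intro h
    have hra : r ≤ a := by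
      by_contra hc
      have hA0 : A = 0 := Nat.div_eq_of_lt (by omega)
      have hla : l = a := Nat.mod_eq_of_lt (by omega)
      obtain ⟨m, -, h2, h3⟩ := h 1 le_rfl (by rw [mul_one]; exact hn)
      rw [hA0, mul_zero, zero_add, hla] at h3
      have h4 : m * a = 1 := le_antisymm h2 h3
      have := Nat.eq_one_of_mul_eq_one_left h4
      omega
    refine ⟨hra, ?_⟩
    by_cases hl0 : l = 0
    · exact Or.inl hl0
    have htop : k * l < r := by
      have h5 : r * (a * b / r) ≤ a * b := Nat.mul_div_le _ _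
      obtain ⟨m, h1, -, h3⟩ := h (a * b / r) ((Nat.one_le_div_iff hr0).2 hn) h5
      have h6 := Nat.mul_le_mul_right l (hMm m h1)
      have h7 : a * b / r < b * A + M * l + 1 := by omega
      have h8 := (Nat.div_lt_iff_lt_mul hr0).1 h7
      have h9 : b * l = r * M * l + k * l := by rw [← hdivb]; ring
      nlinarith
    by_cases hM0 : M = 0
    · rw [hM0, mul_zero, zero_add] at hdivb
      have hbr : b < r := (Nat.div_eq_zero_iff.1 hM0).resolve_left (by omega)
      exact Or.inr (Or.inr ⟨hl0, by omega, htop, Or.inl hbr⟩)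
    have hgap : l ≤ k * A + 1 := by
      by_contra hc
      obtain ⟨M', hM'⟩ : ∃ M', M = M' + 1 := ⟨M - 1, (Nat.sub_add_cancel (Nat.pos_of_ne_zero hM0)).symm⟩
      have hlt : b * A + M' * l + 1 < M * a := by
        rw [hM', ← hdiv, ← hdivb, hM']; nlinarith
      have hle : r * (b * A + M' * l + 1) ≤ a * b := by
        have h4 : r * (M * a) ≤ a * b := by rw [← mul_assoc, mul_comm r M, mul_comm a b]; exact Nat.mul_le_mul_right a hMb
        exact (Nat.mul_le_mul_left r hlt.le).trans h4
      obtain ⟨m, h1, h2, h3⟩ := h _ (by omega) hle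
      rcases Nat.lt_or_ge m M with h4 | h4
      · have h5 := Nat.mul_le_mul_right l (show m ≤ M' by omega)
        omega
      · have h5 := Nat.mul_le_mul_right a h4
        omega
    by_cases hk0 : k = 0
    · rw [hk0, zero_mul, zero_add] at hgap
      exact Or.inr (Or.inl ⟨hk0, by omega⟩)
    refine Or.inr (Or.inr ⟨hl0, hk0, htop, Or.inr ?_⟩)
    have := Nat.mul_le_mul_left r hgap
    rw [← hdiv]; nlinarith
  · rintro ⟨hra, hcase⟩ e he1 hen
    by_cases hl0 : l = 0
    · refine ⟨0, by omega, by omega, ?_⟩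
      rw [hl0, mul_zero, add_zero] at hab
      rw [hab] at hen
      simpa [hl0] using Nat.le_of_mul_le_mul_left hen hr0
    have htop : k * l < r := by
      rcases hcase with h | ⟨h, -⟩ | ⟨-, -, h, -⟩
      · exact absurd h hl0
      · rw [h, zero_mul]; exact hr0
      · exact h
    have hgap : M = 0 ∨ l ≤ k * A + 1 := by
      rcases hcase with h | ⟨h1, h2⟩ | ⟨-, -, -, h | h⟩
      · exact absurd h hl0
      · exact Or.inr (by omega)
      · exact Or.inl (Nat.div_eq_of_lt h)
      · refine Or.inr (Nat.le_of_mul_le_mul_left ?_ hr0)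
        rw [← hdiv] at h
        nlinarith
    have heM : e ≤ b * A + M * l := by
      have h9 : b * l = r * M * l + k * l := by rw [← hdivb]; ring
      by_contra hc
      have := Nat.mul_le_mul_left r (show b * A + M * l + 1 ≤ e by omega)
      nlinarith
    have hex : ∃ m, e ≤ b * A + m * l := ⟨M, heM⟩
    have hmM : Nat.find hex ≤ M := Nat.find_min' hex heM
    refine ⟨Nat.find hex, (Nat.mul_le_mul_right r hmM).trans hMb, ?_, Nat.find_spec hex⟩
    obtain h0 | h0 := Nat.eq_zero_or_pos (Nat.find hex)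
    · rw [h0, zero_mul]; exact Nat.zero_le _
    obtain ⟨m, hm⟩ : ∃ m, Nat.find hex = m + 1 := ⟨Nat.find hex - 1, by omega⟩
    have hmin := Nat.find_min hex (show m < Nat.find hex by omega)
    push Not at hmin
    rw [hm] at hmM ⊢
    have hlg := hgap.resolve_left (by omega)
    obtain ⟨w, hw⟩ := Nat.exists_eq_add_of_le hmM
    rw [← hdiv]
    have hbA : b * A = r * M * A + k * A := by rw [← hdivb]; ring
    rw [hw] at hbA
    have : 0 ≤ r * w * A := Nat.zero_le _
    nlinarith

end Cfsg.Agent.S3575
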