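import Cfsg.Statements.S3580
import Cfsg.Agent.Lib.PraegerOrbit.Main

set_option autoImplicit false
open Cfsg

namespace Cfsg.Agent.S3580

/-- Let G act faithfully and transitively on a finite set Ω, let p be an odd prime dividing the order of G and P a Sylow p-subgroup of G. Then the number of orbits of P on Ω is at most (p/(2p − 1))·(number of points). -/
theorem result {G Ω : Type*} [Group G] [Finite G] [MulAction G Ω] [FaithfulSMul G Ω] [Finite Ω]
    (htrans : MulAction.IsPretransitive G Ω) (p : ℕ) [Fact p.Prime] (hp2 : p ≠ 2) (hpG : p ∣ Nat.card G)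
    (P : Sylow p G) :
    (2 * p - 1) * Nat.card (MulAction.orbitRel.Quotient ↥(P : Subgroup G) Ω) ≤ p * Nat.card Ω := by
  classical
  have hP : ∃ u ∈ (P : Subgroup G), ∃ a : Ω, u • a ≠ a := by
    by_contra hno
    push Not at hno
    have h1 : (P : Subgroup G) = ⊥ := by
      rw [eq_bot_iff]
      intro u hu
      exact Subgroup.mem_bot.2 (FaithfulSMul.eq_of_smul_eq_smul fun a : Ω => by rw [hno u hu a, one_smul])
    exact P.ne_bot_of_dvd_card hpG h1
  have hb := CfsgLib.PraegerOrbit.fixed_bound P hP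
  have horb : ∀ o : MulAction.orbitRel.Quotient ↥(P : Subgroup G) Ω,
      p ≤ Nat.card o.orbit + (p - 1) * if Nat.card o.orbit = 1 then 1 else 0 := by
    intro o
    induction o using Quotient.inductionOn' with
    | h a =>
      obtain ⟨k, hk⟩ := P.2.card_orbit a
      rw [show Nat.card (MulAction.orbitRel.Quotient.orbit (Quotient.mk'' a : MulAction.orbitRel.Quotient ↥(P : Subgroup G) Ω)) = p ^ k from hk]
      rcases k with _ | k
      · simp; omega
      · exact le_add_right (Nat.le_self_pow (Nat.succ_ne_zero k) p)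
  let _ := Fintype.ofFinite (MulAction.orbitRel.Quotient ↥(P : Subgroup G) Ω)
  have hsum : Nat.card Ω = ∑ o : MulAction.orbitRel.Quotient ↥(P : Subgroup G) Ω, Nat.card o.orbit := by
    rw [← Nat.card_sigma, Nat.card_congr (MulAction.selfEquivSigmaOrbits' ↥(P : Subgroup G) Ω)]
  have hfix : (Finset.univ.filter fun o : MulAction.orbitRel.Quotient ↥(P : Subgroup G) Ω =>
      Nat.card o.orbit = 1).card ≤ Nat.card {a : Ω // ∀ u ∈ (P : Subgroup G), u • a = a} := by
    rw [← Fintype.card_subtype, ← Nat.card_eq_fintype_card]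
    refine Nat.card_le_card_of_injective (fun o => ⟨o.1.out, ?_⟩) ?_
    · intro u hu
      have h1 := o.2
      rw [Nat.card_eq_one_iff_unique] at h1
      have := h1.1
      have hm : o.1.out ∈ o.1.orbit := by
        rw [MulAction.orbitRel.Quotient.orbit_eq_orbit_out _ (Quotient.out_eq')]
        exact MulAction.mem_orbit_self _
      have hu' : (⟨u, hu⟩ : (P : Subgroup G)) • o.1.out ∈ o.1.orbit := by
        rw [MulAction.orbitRel.Quotient.orbit_eq_orbit_out _ (Quotient.out_eq')]
        exact MulAction.mem_orbit _ _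
      exact congrArg Subtype.val (Subsingleton.elim (⟨_, hu'⟩ : o.1.orbit) ⟨_, hm⟩)
    · intro o o' h
      exact Subtype.ext (Quotient.out_injective (congrArg Subtype.val h))
  set c := Nat.card (MulAction.orbitRel.Quotient ↥(P : Subgroup G) Ω) with hc
  set f := Nat.card {a : Ω // ∀ u ∈ (P : Subgroup G), u • a = a}
  have hcp : p * c ≤ Nat.card Ω + (p - 1) * f := by
    calc p * c = ∑ _o : MulAction.orbitRel.Quotient ↥(P : Subgroup G) Ω, p := by
          rw [Finset.sum_const, Finset.card_univ, hc, Nat.card_eq_fintype_card, smul_eq_mul, mul_comm]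
      _ ≤ _ := Finset.sum_le_sum fun o _ => horb o
      _ ≤ _ := by
        rw [Finset.sum_add_distrib, ← hsum, ← Finset.mul_sum, Finset.sum_boole]
        exact Nat.add_le_add_left (Nat.mul_le_mul_left _ hfix) _
  have hp : 3 ≤ p := by
    have := (Fact.out : p.Prime).two_le
    omega
  obtain ⟨r, rfl⟩ : ∃ r, p = r + 1 := ⟨p - 1, by omega⟩
  simp only [Nat.add_sub_cancel] at hcp hb
  rw [show 2 * (r + 1) - 1 = 2 * r + 1 by omega] at hb ⊢
  refine Nat.le_of_mul_le_mul_left ?_ (show 0 < r + 1 by omega)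
  calc (r + 1) * ((2 * r + 1) * c) = (2 * r + 1) * ((r + 1) * c) := by ring
    _ ≤ (2 * r + 1) * (Nat.card Ω + r * f) := Nat.mul_le_mul_left _ hcp
    _ = (2 * r + 1) * Nat.card Ω + r * ((2 * r + 1) * f) := by ring
    _ ≤ (2 * r + 1) * Nat.card Ω + r * (r * Nat.card Ω) := Nat.add_le_add_left (Nat.mul_le_mul_left _ hb) _
    _ = (r + 1) * ((r + 1) * Nat.card Ω) := by ring

end Cfsg.Agent.S3580
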