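import Cfsg.Statements.S3592
import Cfsg.Agent.Lib.M11Unique.Recognize
import Cfsg.Agent.Lib.M11Unique.OrderCounts
-- import your own Cfsg.Agent.* helpers here

set_option autoImplicit false
open Cfsg

namespace Cfsg.Agent.S3592

open CfsgLib.M11Unique

/-- the set of values for the Mathieu group -/
def vals : Finset ℕ := {1, 165, 440, 990, 1584, 1320, 1980, 1440}

theorem spor_values :
    {c : ℕ | 0 < c ∧ ∃ n : ℕ, c = Nat.card {g : ↥Cfsg.Spor.M11 // orderOf g = n}} = ↑vals := by
  haveI := card_spor.2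
  have hM := card_spor.1
  haveI : Finite ↥Cfsg.Spor.M11 := Nat.finite_of_card_ne_zero (by rw [hM]; norm_num)
  letI : Fintype ↥Cfsg.Spor.M11 := Fintype.ofFinite _
  obtain ⟨ho, h1, h2, h3, h4, h5, h6, h8, h11⟩ := order_counts hM
  ext c
  constructor
  · rintro ⟨hc, n, rfl⟩
    obtain ⟨g, hg⟩ := numOrder_pos_iff.mp (show 0 < numOrder _ n from hc)
    have := hg ▸ ho g
    show numOrder _ n ∈ vals
    simp only [Finset.mem_insert, Finset.mem_singleton] at this
    rcases this with rfl | rfl | rfl | rfl | rfl | rfl | rfl | rfl <;>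
      simp only [h1, h2, h3, h4, h5, h6, h8, h11] <;> decide
  · intro hc
    simp only [vals, Finset.coe_insert, Finset.coe_singleton, Set.mem_insert_iff, Set.mem_singleton_iff] at hc
    rcases hc with rfl | rfl | rfl | rfl | rfl | rfl | rfl | rfl
    · exact ⟨by norm_num, 1, h1.symm⟩
    · exact ⟨by norm_num, 2, h2.symm⟩
    · exact ⟨by norm_num, 3, h3.symm⟩
    · exact ⟨by norm_num, 4, h4.symm⟩
    · exact ⟨by norm_num, 5, h5.symm⟩
    · exact ⟨by norm_num, 6, h6.symm⟩
    · exact ⟨by norm_num, 8, h8.symm⟩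
    · exact ⟨by norm_num, 11, h11.symm⟩

/-- If the values on the occurring orders exhaust a set with the same sum, no two coincide. -/
theorem injOn_of_sum {O V : Finset ℕ} {f : ℕ → ℕ} (himg : O.image f = V) (hpos : ∀ n ∈ O, 0 < f n)
    (hsum : ∑ n ∈ O, f n = ∑ v ∈ V, v) : Set.InjOn f O := by
  classical
  intro a ha b hb hab
  by_contra hne
  have h1 : ∑ v ∈ V, v ≤ ∑ n ∈ O.erase b, f n := by
    have hsub : V ⊆ (O.erase b).image f := by
      intro v hv
      rw [← himg] at hv
      obtain ⟨n, hn, rfl⟩ := Finset.mem_image.mp hv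
      by_cases h : n = b
      · exact Finset.mem_image.mpr ⟨a, Finset.mem_erase.mpr ⟨hne, ha⟩, by rw [h, hab]⟩
      · exact Finset.mem_image.mpr ⟨n, Finset.mem_erase.mpr ⟨h, hn⟩, rfl⟩
    exact (Finset.sum_le_sum_of_subset hsub).trans (Finset.sum_image_le_of_nonneg fun _ _ => Nat.zero_le _)
  have h2 := Finset.add_sum_erase O f hb
  have := hpos b hb
  omega

theorem key {G : Type*} [Group G] [Finite G] (hn : Nat.card G = 7920)
    (hset : {c : ℕ | 0 < c ∧ ∃ n : ℕ, c = Nat.card {g : G // orderOf g = n}} = ↑vals) :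
    ∃ x y : G, Nat.card (Subgroup.centralizer ({x} : Set G)) = 5 ∧
      Nat.card (Subgroup.centralizer ({y} : Set G)) = 11 := by
  classical
  letI := Fintype.ofFinite G
  set O := (Finset.univ : Finset G).image orderOf with hO
  have hpos : ∀ n ∈ O, 0 < numOrder G n := fun n hn' => by
    obtain ⟨g, -, hg⟩ := Finset.mem_image.mp hn'
    exact numOrder_pos_iff.mpr ⟨g, hg⟩
  have hmem : ∀ n, 0 < numOrder G n → n ∈ O ∧ numOrder G n ∈ vals := fun n h => by
    refine ⟨?_, hset.le ⟨h, n, rfl⟩⟩
    obtain ⟨g, hg⟩ := numOrder_pos_iff.mp h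
    exact Finset.mem_image.mpr ⟨g, Finset.mem_univ _, hg⟩
  have himg : O.image (numOrder G) = vals := by
    ext v
    constructor
    · intro hv
      obtain ⟨n, hn', rfl⟩ := Finset.mem_image.mp hv
      exact (hmem n (hpos n hn')).2
    · intro hv
      obtain ⟨h0, n, rfl⟩ := hset.ge (Finset.mem_coe.mpr hv)
      exact Finset.mem_image.mpr ⟨n, (hmem n h0).1, rfl⟩
  have hinj : Set.InjOn (numOrder G) O := by
    refine injOn_of_sum himg hpos ?_
    rw [show ∑ v ∈ vals, v = 7920 from rfl, ← hn, Nat.card_eq_fintype_card, ← Finset.card_univ,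
      Finset.card_eq_sum_card_fiberwise (f := orderOf) (t := O) fun g _ => Finset.mem_image_of_mem _ (Finset.mem_univ _)]
    exact Finset.sum_congr rfl fun n _ => by
      rw [numOrder, Nat.card_eq_fintype_card, Fintype.card_subtype]
  -- Sylow subgroups of order 5 and 11
  have hsyl : ∀ (p m : ℕ) [Fact p.Prime], 7920 = p * m → ¬ p ∣ m →
      (∀ S : Sylow p G, Nat.card (S : Subgroup G) = p) ∧ numOrder G p = Nat.card (Sylow p G) * (p - 1) ∧
      numOrder G p ∈ vals ∧ Nat.card (Sylow p G) % p = 1 := by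
    intro p m _ hpm hnd
    have hp : p.Prime := Fact.out
    have hS : ∀ S : Sylow p G, Nat.card (S : Subgroup G) = p := fun S => by
      rw [S.card_eq_multiplicity, hn, hpm, show p * m = p ^ 1 * m by rw [pow_one],
        CfsgLib.BrauerTuan.factorization_pow_mul_7920 hp hnd, pow_one]
    have hgen : ∀ (S : Sylow p G), ∀ g ∈ (S : Subgroup G), g ≠ 1 → orderOf g = p := fun S g hg h1 => by
      have := Subgroup.orderOf_dvd_natCard _ hg
      rw [hS S] at this
      exact (hp.eq_one_or_self_of_dvd _ this).resolve_left fun e => h1 (orderOf_eq_one_iff.mp e)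
    have hnum : numOrder G p = Nat.card (Sylow p G) * (p - 1) :=
      numOrder_prime hS hgen fun S S' g hg hg' h1 => by
        have k : ∀ S : Sylow p G, g ∈ (S : Subgroup G) → Subgroup.zpowers g = (S : Subgroup G) := fun S hg =>
          Subgroup.eq_of_le_of_card_ge (Subgroup.zpowers_le.mpr hg)
            (by rw [hS S, Nat.card_zpowers, hgen S g hg h1])
        exact Sylow.ext ((k S hg).symm.trans (k S' hg'))
    obtain ⟨g, hg⟩ := exists_prime_orderOf_dvd_card' (G := G) p (hn ▸ hpm ▸ dvd_mul_right p m)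
    have := card_sylow_modEq_one p G
    unfold Nat.ModEq at this
    rw [Nat.mod_eq_of_lt hp.one_lt] at this
    exact ⟨hS, hnum, (hmem p (numOrder_pos_iff.mpr ⟨g, hg⟩)).2, this⟩
  haveI : Fact (Nat.Prime 5) := ⟨by norm_num⟩
  haveI : Fact (Nat.Prime 11) := ⟨by norm_num⟩
  obtain ⟨hS5, hn5, hv5, hm5⟩ := hsyl 5 1584 rfl (by norm_num)
  obtain ⟨hS11, hn11, hv11, hm11⟩ := hsyl 11 720 rfl (by norm_num)
  have h5 : numOrder G 5 = 1584 ∧ Nat.card (Sylow 5 G) = 396 := by
    simp only [vals, Finset.mem_insert, Finset.mem_singleton] at hv5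
    omega
  have h11 : numOrder G 11 = 1440 ∧ Nat.card (Sylow 11 G) = 144 := by
    simp only [vals, Finset.mem_insert, Finset.mem_singleton] at hv11
    omega
  have hnorm : ∀ (p k : ℕ) [Fact p.Prime], (∀ S : Sylow p G, Nat.card (S : Subgroup G) = p) →
      Nat.card (Sylow p G) * k = 7920 → ∀ u : G, orderOf u = p →
      ∃ S : Sylow p G, (S : Subgroup G) = Subgroup.zpowers u ∧
        Nat.card (Subgroup.centralizer ({u} : Set G)) ∣ k := by
    intro p k _ hS hk u hu
    obtain ⟨S, hSu⟩ := (IsPGroup.of_card (p := p) (n := 1)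
      (by rw [Nat.card_zpowers, hu, pow_one] : Nat.card (Subgroup.zpowers u) = p ^ 1)).exists_le_sylow
    have he : (S : Subgroup G) = Subgroup.zpowers u :=
      (Subgroup.eq_of_le_of_card_ge hSu (by rw [hS S, Nat.card_zpowers, hu])).symm
    refine ⟨S, he, ?_⟩
    have h1 := Subgroup.card_mul_index (Subgroup.normalizer ((S : Subgroup G) : Set G))
    rw [show (Subgroup.normalizer ((S : Subgroup G) : Set G)).index = Nat.card (Sylow p G) from
      (Sylow.card_eq_index_normalizer S).symm, hn, ← hk, mul_comm] at h1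
    rw [← Nat.eq_of_mul_eq_mul_left Nat.card_pos h1, ← Subgroup.centralizer_closure,
      ← Subgroup.zpowers_eq_closure, ← he]
    exact Subgroup.card_dvd_of_le (Subgroup.centralizer_le_normalizer _)
  -- no involution centralizes an element of order 5
  have hodd : ∀ u : G, orderOf u = 5 → ¬ 2 ∣ Nat.card (Subgroup.centralizer ({u} : Set G)) := by
    intro u hu hd
    haveI : Fact (Nat.Prime 2) := ⟨Nat.prime_two⟩
    obtain ⟨t, ht⟩ := exists_prime_orderOf_dvd_card' 2 hd
    have htc : Commute (t : G) u := Subgroup.mem_centralizer_singleton_iff.mp t.2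
    have hto : orderOf (t : G) = 2 := by rw [Subgroup.orderOf_coe, ht]
    let E := Σ v : {g : G // orderOf g = 5}, {s : G // orderOf s = 2 ∧ Commute s v.1}
    have hfib : ∀ v : {g : G // orderOf g = 5}, Nat.card {s : G // orderOf s = 2 ∧ Commute s v.1} =
        Nat.card {s : G // orderOf s = 2 ∧ Commute s u} := by
      rintro ⟨v, hv⟩
      obtain ⟨S, hS, -⟩ := hnorm 5 20 hS5 (by rw [h5.2]) v hv
      obtain ⟨T, hT, -⟩ := hnorm 5 20 hS5 (by rw [h5.2]) u hu
      obtain ⟨c, hc⟩ := MulAction.exists_smul_eq G S T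
      have e1 : Subgroup.zpowers (c * v * c⁻¹) = Subgroup.zpowers u := by
        rw [← hT, ← hc, Sylow.coe_subgroup_smul, hS]
        exact (MonoidHom.map_zpowers (MulAut.conj c).toMonoidHom v).symm
      have hcomm : ∀ (s w w' : G), Subgroup.zpowers w = Subgroup.zpowers w' → Commute s w → Commute s w' := by
        intro s w w' e h
        obtain ⟨i, hi⟩ := Subgroup.mem_zpowers_iff.mp (e.symm ▸ Subgroup.mem_zpowers w' : w' ∈ Subgroup.zpowers w)
        exact hi ▸ h.zpow_right i
      refine Nat.card_congr ((MulAut.conj c).toEquiv.subtypeEquiv fun s => ?_)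
      show orderOf s = 2 ∧ Commute s v ↔ orderOf (MulAut.conj c s) = 2 ∧ Commute (MulAut.conj c s) u
      rw [MulEquiv.orderOf_eq]
      refine and_congr_right fun _ => ⟨fun h => hcomm _ _ _ e1 (h.map (MulAut.conj c)), fun h => ?_⟩
      exact (hcomm _ _ (c * v * c⁻¹) e1.symm h).of_map (MulAut.conj c).injective
    have eE : Nat.card {g : G // orderOf g = 10} = Nat.card E := by
      refine Nat.card_congr
        { toFun := fun g => ⟨⟨g.1 ^ 6, by rw [orderOf_pow, g.2]; rfl⟩, g.1 ^ 5,
            by rw [orderOf_pow, g.2]; rfl, (Commute.refl g.1).pow_pow 5 6⟩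
          invFun := fun q => ⟨q.1.1 * q.2.1, ?_⟩
          left_inv := fun g => Subtype.ext ?_
          right_inv := fun q => ?_ }
      · rw [Commute.orderOf_mul_eq_mul_orderOf_of_coprime q.2.2.2.symm (by rw [q.1.2, q.2.2.1]; norm_num),
          q.1.2, q.2.2.1]
      · show g.1 ^ 6 * g.1 ^ 5 = g.1
        rw [← pow_add, show 6 + 5 = 10 + 1 by norm_num, pow_succ,
          show g.1 ^ 10 = 1 by have := pow_orderOf_eq_one g.1; rwa [g.2] at this, one_mul]
      · obtain ⟨⟨v, hv⟩, s, hs, hc⟩ := q
        have h5' : v ^ 5 = 1 := by rw [← hv, pow_orderOf_eq_one]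
        have h2' : s ^ 2 = 1 := by rw [← hs, pow_orderOf_eq_one]
        refine Sigma.subtype_ext (Subtype.ext ?_) ?_
        · show (v * s) ^ 6 = v
          rw [hc.symm.mul_pow, show (6 : ℕ) = 2 * 3 by norm_num, pow_mul s, h2', one_pow, mul_one,
            show v ^ (2 * 3) = v ^ 5 * v by rw [← pow_succ], h5', one_mul]
        · show (v * s) ^ 5 = s
          rw [hc.symm.mul_pow, h5', one_mul, show (5 : ℕ) = 2 * 2 + 1 by norm_num, pow_succ, pow_mul,
            h2', one_pow, one_mul]
    have e10 : numOrder G 10 = 1584 * Nat.card {s : G // orderOf s = 2 ∧ Commute s u} := by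
      rw [numOrder, eE, Nat.card_sigma,
        Finset.sum_congr rfl (g := fun _ => Nat.card {s : G // orderOf s = 2 ∧ Commute s u})
          (fun v _ => hfib v), Finset.sum_const, Finset.card_univ, ← Nat.card_eq_fintype_card, smul_eq_mul,
        ← numOrder, h5.1]
    have hpos10 : 0 < numOrder G 10 := numOrder_pos_iff.mpr ⟨u * t, by
      rw [Commute.orderOf_mul_eq_mul_orderOf_of_coprime htc.symm (by rw [hu, hto]; norm_num), hu, hto]⟩
    obtain ⟨hO10, hv10⟩ := hmem 10 hpos10
    have h10 : numOrder G 10 = numOrder G 5 := by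
      simp only [vals, Finset.mem_insert, Finset.mem_singleton] at hv10
      omega
    exact absurd (hinj hO10 (hmem 5 (by rw [h5.1]; norm_num)).1 h10) (by norm_num)
  have hC5 : ∀ u : G, orderOf u = 5 → Nat.card (Subgroup.centralizer ({u} : Set G)) = 5 := by
    intro u hu
    obtain ⟨S, -, hd⟩ := hnorm 5 20 hS5 (by rw [h5.2]) u hu
    have h1 : orderOf u ∣ Nat.card (Subgroup.centralizer ({u} : Set G)) :=
      Subgroup.orderOf_dvd_natCard _ (Subgroup.mem_centralizer_singleton_iff.mpr rfl)
    rw [hu] at h1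
    have h2 := hodd u hu
    have := Nat.le_of_dvd (by norm_num) hd
    interval_cases h : Nat.card (Subgroup.centralizer ({u} : Set G)) <;> omega
  obtain ⟨x, hx⟩ := exists_prime_orderOf_dvd_card' (G := G) 5 (by rw [hn]; norm_num)
  obtain ⟨y, hy⟩ := exists_prime_orderOf_dvd_card' (G := G) 11 (by rw [hn]; norm_num)
  refine ⟨x, y, hC5 x hx, ?_⟩
  obtain ⟨S, -, hd⟩ := hnorm 11 55 hS11 (by rw [h11.2]) y hy
  have h1 : orderOf y ∣ Nat.card (Subgroup.centralizer ({y} : Set G)) :=
    Subgroup.orderOf_dvd_natCard _ (Subgroup.mem_centralizer_singleton_iff.mpr rfl)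
  rw [hy] at h1
  have h2 : ¬ 5 ∣ Nat.card (Subgroup.centralizer ({y} : Set G)) := by
    intro h
    obtain ⟨u, hu⟩ := exists_prime_orderOf_dvd_card' 5 h
    have hyu : y ∈ Subgroup.centralizer ({(u : G)} : Set G) :=
      Subgroup.mem_centralizer_singleton_iff.mpr (Subgroup.mem_centralizer_singleton_iff.mp u.2).symm
    have := Subgroup.orderOf_dvd_natCard _ hyu
    rw [hy, hC5 _ (by rw [Subgroup.orderOf_coe, hu])] at this
    norm_num at this
  have := Nat.le_of_dvd (by norm_num) hd
  interval_cases h : Nat.card (Subgroup.centralizer ({y} : Set G)) <;> omega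

/-- Let M be the Mathieu group M₁₁ (order 7920). If a finite group G has the same order as M and the same set of values of the function 'number of elements of order n' (taken over the element orders n that occur), then G is isomorphic to M. -/
theorem result {G : Type*} [Group G] [Finite G]
    (hcard : Nat.card G = Nat.card ↥Cfsg.Spor.M11)
    (hnse : {c : ℕ | 0 < c ∧ ∃ n : ℕ, c = Nat.card {g : G // orderOf g = n}} =
      {c : ℕ | 0 < c ∧ ∃ n : ℕ, c = Nat.card {g : ↥Cfsg.Spor.M11 // orderOf g = n}}) :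
    Nonempty (G ≃* ↥Cfsg.Spor.M11) := by
  have hn : Nat.card G = 7920 := hcard.trans CfsgLib.M11Unique.card_spor.1
  obtain ⟨x, y, hx, hy⟩ := key hn (hnse.trans spor_values)
  haveI := CfsgLib.M11Unique.isSimpleGroup_of_centralizers hn hx hy
  exact CfsgLib.M11Unique.nonempty_equiv_spor hn

end Cfsg.Agent.S3592
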