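import Cfsg.Statements.S3598
import Cfsg.Agent.Lib.PSL2Degrees.PSL
import Cfsg.Agent.Lib.PSL2Degrees.Main
import Cfsg.Agent.Lib.Classical.A8Subgroups
import Cfsg.Agent.Lib.SL2.Solvable
import Cfsg.Agent.S0494

set_option autoImplicit false
set_option linter.style.haveILetI false
open Cfsg

namespace Cfsg.Agent.S3598

/-- Let p be a prime and F a field with p² elements. If a finite group G has, for every d, the same number of irreducible complex characters of degree d as PSL(2,F) (the same first column of the character table, with multiplicities), then G is isomorphic to PSL(2,F). -/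
theorem result {F : Type*} [Field F] [Fintype F] (p : ℕ) (hp : p.Prime)
    (hF : Fintype.card F = p ^ 2) {G : Type*} [Group G] [Finite G]
    (h : ∀ d : ℕ, Nat.card {χ : Cfsg.IrrCharacter G // (χ : G → ℂ) 1 = (d : ℂ)} =
      Nat.card {χ : Cfsg.IrrCharacter (Matrix.ProjectiveSpecialLinearGroup (Fin 2) F) // (χ : Matrix.ProjectiveSpecialLinearGroup (Fin 2) F → ℂ) 1 = (d : ℂ)}) :
    Nonempty (G ≃* Matrix.ProjectiveSpecialLinearGroup (Fin 2) F) := by
  classical
  haveI := Fintype.ofFinite G
  obtain ⟨e, he⟩ := CfsgLib.PSL2Degrees.exists_equiv h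
  have hcard := CfsgLib.PSL2Degrees.card_eq_of_equiv e he
  have hdeg : ∀ χ : Cfsg.IrrCharacter G, Cfsg.charDegree χ.1 = Cfsg.charDegree (e χ).1 := fun χ => by
    simp only [Cfsg.charDegree, he]
  have hq4 : 4 ≤ Fintype.card F := by
    rw [hF]; exact Nat.pow_le_pow_left hp.two_le 2
  have hlin : ∀ χ : Cfsg.IrrCharacter G, χ.1 1 = 1 → χ = ⟨fun _ => 1, CfsgLib.Char.isIrrCharacter_one⟩ := fun χ hχ =>
    e.injective (CfsgLib.PSL2Degrees.psl_linear_unique hq4 _ _ ((he χ).trans hχ) (by rw [he]))
  rcases hp.eq_two_or_odd' with rfl | hodd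
  · have h60 : Nat.card (Matrix.ProjectiveSpecialLinearGroup (Fin 2) F) = 60 := by
      have := CfsgLib.Classical.card_PSL_two (F := F)
      rw [hF] at this
      norm_num at this
      rw [Nat.card_eq_fintype_card]
      exact this
    obtain ⟨hs, -⟩ := CfsgLib.SL2.four_le_card_of_isSimple (K := F) (by rwa [Nat.card_eq_fintype_card])
    have hperf : commutator G = ⊤ := by
      rw [← Subgroup.index_eq_one, ← CfsgLib.Char.card_linear, Nat.card_eq_one_iff_unique]
      exact ⟨⟨fun a b => Subtype.ext ((hlin _ a.2).trans (hlin _ b.2).symm)⟩,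
        ⟨⟨⟨fun _ => 1, CfsgLib.Char.isIrrCharacter_one⟩, rfl⟩⟩⟩
    have hns : ¬ Group.IsSolvable G := fun hsol => by
      haveI : Nontrivial G := Finite.one_lt_card_iff_nontrivial.mp (by rw [hcard, h60]; norm_num)
      exact (Group.IsSolvable.commutator_lt_top_of_nontrivial (G := G)).ne hperf
    haveI := CfsgLib.AEightSub.simple_of_sixty hns (hcard.trans h60)
    haveI := hs
    obtain ⟨e1⟩ := Cfsg.Agent.S0494.result (G := G) (hcard.trans h60)
    obtain ⟨e2⟩ := Cfsg.Agent.S0494.result (G := Matrix.ProjectiveSpecialLinearGroup (Fin 2) F) h60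
    exact ⟨e1.trans e2.symm⟩
  · haveI := Fact.mk hp
    obtain ⟨k, hk⟩ := hodd
    have hq1 : Fintype.card F % 4 = 1 := by
      rw [hF, hk, show (2 * k + 1) ^ 2 = 1 + (k * k + k) * 4 by ring]; omega
    obtain ⟨S0, hS0⟩ := CfsgLib.RankOne.SLTwo.card_mem_charDegrees
      (QuotientGroup.mk' (Subgroup.center (Matrix.SpecialLinearGroup (Fin 2) F)))
      (QuotientGroup.mk'_surjective _) (by rw [QuotientGroup.ker_mk'])
    have hH : CfsgLib.PSL2Degrees.Hyp G p (Fintype.card F) := by
      refine ⟨hp, ⟨k, hk⟩, hF, ?_, fun χ => ?_, fun χ hχ => ?_, ⟨e.symm S0, ?_⟩, fun χ ξ h1 h2 => ?_⟩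
      · have h2 := CfsgLib.Classical.card_PSL_two (F := F)
        rw [show Nat.gcd 2 (Fintype.card F - 1) = 2 from Nat.gcd_eq_left (by omega), ← hcard,
          show Fintype.card F ^ 2 - 1 = (Fintype.card F + 1) * (Fintype.card F - 1) by
            rw [← Nat.sq_sub_sq, one_pow]] at h2
        rw [show Fintype.card F * ((Fintype.card F + 1) * (Fintype.card F - 1)) =
          2 * (Fintype.card F * ((Fintype.card F - 1) * ((Fintype.card F + 1) / 2))) by
            conv_lhs => rw [show Fintype.card F + 1 = 2 * ((Fintype.card F + 1) / 2) by omega]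
            ring] at h2
        omega
      · rw [hdeg]
        exact CfsgLib.PSL2Degrees.psl_degrees hq1 (e χ)
      · have h1 : χ.1 1 = 1 := by rw [CfsgLib.PSL2Degrees.deg_cast, hχ, Nat.cast_one]
        rw [hlin χ h1]
      · rw [hdeg, Equiv.apply_symm_apply]
        exact hS0
      · apply e.injective
        refine CfsgLib.PSL2Degrees.psl_card_unique _ _ ?_ ?_ <;> rw [he, CfsgLib.PSL2Degrees.deg_cast]
        · rw [h1]
        · rw [h2]
    exact hH.iso rfl

end Cfsg.Agent.S3598
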