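import Cfsg.Statements.S3599
import Cfsg.Agent.Lib.Spectrum.MinimalFrobenius
-- import your own Cfsg.Agent.* helpers here

set_option autoImplicit false
open Cfsg

namespace Cfsg.Agent.S3599

theorem prod_dvd_of_pairwise {ι : Type*} (f : ι → ℕ) (n : ℕ)
    (hc : ∀ i j, i ≠ j → (f i).Coprime (f j)) (h : ∀ i, f i ∣ n) (t : Finset ι) :
    ∏ i ∈ t, f i ∣ n := by
  classical
  induction t using Finset.induction_on with
  | empty => simp
  | insert a t ha ih =>
    rw [Finset.prod_insert ha]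
    exact Nat.Coprime.mul_dvd_of_dvd_of_dvd
      (Nat.coprime_prod_right_iff.mpr fun i hi => hc a i fun e => ha (e ▸ hi)) (h a) ih

theorem orderOf_pi_eq_prod {ι : Type*} [Fintype ι] {G : ι → Type*} [∀ i, Group (G i)]
    [∀ i, Finite (G i)] (hc : ∀ i j, i ≠ j → (Nat.card (G i)).Coprime (Nat.card (G j)))
    (x : ∀ i, G i) : orderOf x = ∏ i, orderOf (x i) := by
  refine Nat.dvd_antisymm (orderOf_dvd_of_pow_eq_one (funext fun i => ?_)) ?_
  · exact orderOf_dvd_iff_pow_eq_one.mp (Finset.dvd_prod_of_mem _ (Finset.mem_univ i))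
  · refine prod_dvd_of_pairwise _ _ (fun i j hij => ?_) (fun i => ?_) _
    · exact Nat.Coprime.of_dvd (orderOf_dvd_natCard _) (orderOf_dvd_natCard _) (hc i j hij)
    · exact orderOf_dvd_of_pow_eq_one (congrFun (pow_orderOf_eq_one x) i)


/-- A finite group is critical with respect to a set Ω of natural numbers when its set of element orders is Ω while no proper section H/N (H a subgroup, N normal in H, (H, N) ≠ (whole group, 1)) has Ω as its set of element orders. Let s ≥ 1 and let p(j,0), p(j,1) (j < s) be 2s pairwise distinct primes, and let Ω be the set of all products c(0)·…·c(s−1) with each c(j) ∈ {1, p(j,0), p(j,1)}. Then there are 2^s pairwise non-isomorphic finite groups critical with respect to Ω. -/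
theorem result (s : ℕ) (hs : 1 ≤ s) (p : Fin s → Fin 2 → ℕ)
    (hp : ∀ j i, (p j i).Prime) (hinj : ∀ j i j' i', p j i = p j' i' → j = j' ∧ i = i') :
    ∃ (G : Fin (2 ^ s) → Type) (_ : ∀ a, Group (G a)) (_ : ∀ a, Fintype (G a)),
      (∀ a b, a ≠ b → ¬ Nonempty (G a ≃* G b)) ∧
      ∀ a, Set.range (orderOf : (G a) → ℕ) = {m : ℕ | ∃ c : Fin s → ℕ, (∀ j, c j = 1 ∨ c j = p j 0 ∨ c j = p j 1) ∧ m = ∏ j, c j} ∧
      ∀ (H : Subgroup (G a)) (N : Subgroup ↥H) [N.Normal], (H ≠ ⊤ ∨ N ≠ ⊥) → Set.range (orderOf : (↥H ⧸ N) → ℕ) ≠ {m : ℕ | ∃ c : Fin s → ℕ, (∀ j, c j = 1 ∨ c j = p j 0 ∨ c j = p j 1) ∧ m = ∏ j, c j} := by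
  classical
  let bit : Fin (2 ^ s) → Fin s → Fin 2 := fun a => finFunctionFinEquiv.symm a
  have hbit : ∀ b : Fin 2, b ≠ b.rev := by decide
  have hbit2 : ∀ b c : Fin 2, b ≠ c → c = b.rev := by decide
  have hbit3 : ∀ b c : Fin 2, c = b ∨ c = b.rev := by decide
  let D : ∀ j b, CfsgLib.MinimalFrobenius.Data (p j b) (p j b.rev) := fun j b =>
    (CfsgLib.MinimalFrobenius.exists_data (hp j b) (hp j b.rev)
      fun e => hbit b (hinj _ _ _ _ e).2).some
  have hdvdcard : ∀ (j : Fin s) (b : Fin 2) (r : ℕ), r.Prime → r ∣ Nat.card (D j b).G →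
      r = p j b ∨ r = p j b.rev := by
    intro j b r hr hd
    rw [(D j b).card_eq] at hd
    rcases (Nat.Prime.dvd_mul hr).mp hd with h | h
    · exact Or.inl ((Nat.prime_dvd_prime_iff_eq hr (hp _ _)).mp (hr.dvd_of_dvd_pow h))
    · exact Or.inr ((Nat.prime_dvd_prime_iff_eq hr (hp _ _)).mp h)
  have hpj : ∀ (i j : Fin s) (b c : Fin 2), i ≠ j →
      (Nat.card (D i b).G).Coprime (Nat.card (D j c).G) := by
    intro i j b c hij
    refine Nat.coprime_of_dvd fun r hr h1 h2 => hij ?_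
    rcases hdvdcard i b r hr h1 with e1 | e1 <;> rcases hdvdcard j c r hr h2 with e2 | e2 <;>
      exact (hinj _ _ _ _ (e1.symm.trans e2)).1
  refine ⟨fun a => ∀ j, (D j (bit a j)).G, fun a => inferInstance,
    fun a => Fintype.ofFinite _, ?_, fun a => ?_⟩
  · rintro a b hab ⟨e⟩
    obtain ⟨j, hj⟩ : ∃ j, bit a j ≠ bit b j := by
      by_contra hno
      push Not at hno
      exact hab (finFunctionFinEquiv.symm.injective (funext hno))
    have hcard := Nat.card_congr e.toEquiv
    rw [Nat.card_pi, Nat.card_pi, ← Finset.mul_prod_erase _ _ (Finset.mem_univ j),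
      ← Finset.mul_prod_erase _ _ (Finset.mem_univ j)] at hcard
    set A := Nat.card (D j (bit a j)).G with hA
    set B := Nat.card (D j (bit b j)).G with hB
    have hd1 : A ∣ B := by
      refine Nat.Coprime.dvd_of_dvd_mul_right ?_ (hcard ▸ dvd_mul_right A _)
      exact Nat.coprime_prod_right_iff.mpr fun i hi => hpj j i _ _ (Finset.ne_of_mem_erase hi).symm
    have hd2 : B ∣ A := by
      refine Nat.Coprime.dvd_of_dvd_mul_right ?_ (hcard.symm ▸ dvd_mul_right B _)
      exact Nat.coprime_prod_right_iff.mpr fun i hi => hpj j i _ _ (Finset.ne_of_mem_erase hi).symm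
    have hAB : A = B := Nat.dvd_antisymm hd1 hd2
    have hrev : ∀ c : Fin 2, c.rev.rev = c := by decide
    set c := bit a j
    have hcc : bit b j = c.rev := hbit2 c _ hj
    have h1 : A = p j c ^ (D j c).k * p j c.rev := (D j c).card_eq
    have h2 : B = p j c.rev ^ (D j c.rev).k * p j c := by
      conv_rhs => arg 2; rw [← hrev c]
      rw [hB, hcc]
      exact (D j c.rev).card_eq
    have hne : p j c ≠ p j c.rev := fun e => hbit c (hinj _ _ _ _ e).2
    have hfac : ∀ (x y : ℕ) (n : ℕ), x.Prime → y.Prime → x ≠ y →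
        (x ^ n * y).factorization x = n ∧ (x ^ n * y).factorization y = 1 := by
      intro x y n hx hy hxy
      rw [Nat.factorization_mul (pow_pos hx.pos n).ne' hy.ne_zero, Nat.factorization_pow,
        hx.factorization, hy.factorization]
      simp [hxy, Ne.symm hxy]
    obtain ⟨a1, a2⟩ := hfac _ _ (D j c).k (hp j c) (hp j c.rev) hne
    obtain ⟨b1, b2⟩ := hfac _ _ (D j c.rev).k (hp j c.rev) (hp j c) hne.symm
    rw [← h1] at a1 a2
    rw [← h2] at b1 b2
    rw [hAB] at a1 a2
    have k1 := (D j c).k_one (a1.symm.trans b2)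
    have k2 := (D j c.rev).k_one (b1.symm.trans a2)
    rw [hrev c] at k2
    have := Nat.le_of_dvd (by have := (hp j c).two_le; omega) k1
    have := Nat.le_of_dvd (by have := (hp j c.rev).two_le; omega) k2
    omega
  have hc : ∀ i j : Fin s, i ≠ j →
      (Nat.card (D i (bit a i)).G).Coprime (Nat.card (D j (bit a j)).G) :=
    fun i j h => hpj i j _ _ h
  have hspec : ∀ j m, (∃ g : (D j (bit a j)).G, orderOf g = m) ↔
      m = 1 ∨ m = p j 0 ∨ m = p j 1 := by
    intro j m
    rw [(D j (bit a j)).range_eq]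
    generalize bit a j = c
    fin_cases c <;> simp [or_comm]
  have hrange : Set.range (orderOf : (∀ j, (D j (bit a j)).G) → ℕ) =
      {m : ℕ | ∃ c : Fin s → ℕ, (∀ j, c j = 1 ∨ c j = p j 0 ∨ c j = p j 1) ∧ m = ∏ j, c j} := by
    ext m
    constructor
    · rintro ⟨x, rfl⟩
      exact ⟨fun j => orderOf (x j), fun j => (hspec j _).mp ⟨x j, rfl⟩, orderOf_pi_eq_prod hc x⟩
    · rintro ⟨c, hcv, rfl⟩
      choose g hg using fun j => (hspec j (c j)).mpr (hcv j)
      exact ⟨g, by simp [orderOf_pi_eq_prod hc g, hg]⟩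
  refine ⟨hrange, ?_⟩
  intro H N hN hHN hEq
  have hel : ∀ (j : Fin s) (b : Fin 2), ∃ y : ↥H ⧸ N, orderOf y = p j b := by
    intro j b
    refine (Set.ext_iff.mp hEq (p j b)).mpr ⟨fun i => if i = j then p j b else 1, fun i => ?_, ?_⟩
    · by_cases hi : i = j
      · subst hi
        fin_cases b <;> simp
      · simp [hi]
    · simp [Finset.prod_ite_eq']
  have helH : ∀ (j : Fin s) (b : Fin 2), ∃ h ∈ H, orderOf (h j) = p j b := by
    intro j b
    obtain ⟨y, hy⟩ := hel j b
    obtain ⟨x, rfl⟩ := QuotientGroup.mk_surjective y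
    have hdvd : p j b ∣ orderOf x := hy ▸ orderOf_map_dvd (QuotientGroup.mk' N) x
    refine ⟨((x ^ (orderOf x / p j b) : ↥H) : ∀ j, (D j (bit a j)).G), SetLike.coe_mem _, ?_⟩
    set z := ((x ^ (orderOf x / p j b) : ↥H) : ∀ j, (D j (bit a j)).G)
    have hz : orderOf z = p j b := by
      rw [Subgroup.orderOf_coe, orderOf_pow_orderOf_div (orderOf_pos x).ne' hdvd]
    have hone : ∀ i, i ≠ j → orderOf (z i) = 1 := by
      intro i hi
      rcases (Nat.dvd_prime (hp j b)).mp (hz ▸ orderOf_dvd_of_pow_eq_one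
        (congrFun (pow_orderOf_eq_one z) i) : orderOf (z i) ∣ p j b) with h | h
      · exact h
      · rcases hdvdcard i _ _ (hp j b) (h ▸ orderOf_dvd_natCard (z i)) with e | e <;>
          exact absurd (hinj _ _ _ _ e).1.symm hi
    rw [← hz, orderOf_pi_eq_prod hc z, ← Finset.mul_prod_erase _ _ (Finset.mem_univ j),
      Finset.prod_eq_one fun i hi => hone i (Finset.ne_of_mem_erase hi), mul_one]
  have hHtop : H = ⊤ := by
    refine Subgroup.eq_top_of_le_card _ (Nat.le_of_dvd Nat.card_pos ?_)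
    rw [Nat.card_pi]
    refine prod_dvd_of_pairwise _ _ hc (fun j => ?_) _
    have hmap : H.map (Pi.evalMonoidHom (fun j => (D j (bit a j)).G) j) = ⊤ := by
      obtain ⟨v, hv, hvo⟩ := helH j (bit a j)
      obtain ⟨w, hw, hwo⟩ := helH j (bit a j).rev
      exact (D j (bit a j)).generated _ (v j) ⟨v, hv, rfl⟩ ((D j (bit a j)).mem_V _ hvo)
        (fun h => (hp j (bit a j)).one_lt.ne' (by rw [← hvo, h, orderOf_one]))
        (w j) ⟨w, hw, rfl⟩ ((D j (bit a j)).notMem_V _ hwo)
    have := Subgroup.card_map_dvd H (Pi.evalMonoidHom (fun j => (D j (bit a j)).G) j)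
    rwa [hmap, Subgroup.card_top] at this
  subst hHtop
  replace hHN : N ≠ ⊥ := hHN.resolve_left (fun h => h rfl)
  set M := N.map (⊤ : Subgroup (∀ j, (D j (bit a j)).G)).subtype with hM
  have hMn : M.Normal := hN.map _ fun g => ⟨⟨g, Subgroup.mem_top g⟩, rfl⟩
  obtain ⟨x, hxN, hx1⟩ := (Subgroup.bot_or_exists_ne_one N).resolve_left hHN
  obtain ⟨j, hj⟩ : ∃ j, (x : ∀ j, (D j (bit a j)).G) j ≠ 1 :=
    Function.ne_iff.mp fun h => hx1 (Subtype.ext h)
  set e := ∏ i ∈ Finset.univ.erase j, Nat.card (D i (bit a i)).G with he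
  have hxe : (x : ∀ j, (D j (bit a j)).G) ^ e =
      Pi.mulSingle j (((x : ∀ j, (D j (bit a j)).G) j) ^ e) := by
    funext i
    by_cases hi : i = j
    · subst hi; simp
    · rw [Pi.mulSingle_eq_of_ne hi, Pi.pow_apply]
      exact orderOf_dvd_iff_pow_eq_one.mp ((orderOf_dvd_natCard _).trans
        (Finset.dvd_prod_of_mem (fun i => Nat.card (D i (bit a i)).G)
          (Finset.mem_erase.mpr ⟨hi, Finset.mem_univ i⟩)))
  have hecop : Nat.Coprime (Nat.card (D j (bit a j)).G) e :=
    Nat.coprime_prod_right_iff.mpr fun i hi => hc j i (Finset.ne_of_mem_erase hi).symm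
  let Nj : Subgroup (D j (bit a j)).G :=
    M.comap (MonoidHom.mulSingle (fun j => (D j (bit a j)).G) j)
  have hNj : (D j (bit a j)).V ≤ Nj := by
    refine (D j (bit a j)).normal_le _ (hMn.comap _) fun h => hj ?_
    have hmem : ((x : ∀ j, (D j (bit a j)).G) j) ^ e ∈ Nj := by
      show Pi.mulSingle j _ ∈ M
      rw [← hxe]
      exact M.pow_mem (Subgroup.mem_map_of_mem _ hxN) e
    rw [h, Subgroup.mem_bot] at hmem
    exact orderOf_eq_one_iff.mp (Nat.eq_one_of_dvd_coprimes hecop (orderOf_dvd_natCard _)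
      (orderOf_dvd_of_pow_eq_one hmem))
  have hdiv : p j (bit a j) ^ (D j (bit a j)).k ∣ Nat.card ↥N := by
    rw [← (D j (bit a j)).card_V,
      Nat.card_congr (Subgroup.equivMapOfInjective N _ (Subgroup.subtype_injective _)).toEquiv]
    refine (Subgroup.card_dvd_of_le hNj).trans ?_
    exact Subgroup.card_comap_dvd_of_injective M _ (fun u v huv => Pi.mulSingle_injective j huv)
  obtain ⟨y, hy⟩ := hel j (bit a j)
  have hyd := hy ▸ orderOf_dvd_natCard y
  have htot : Nat.card (↥(⊤ : Subgroup (∀ j, (D j (bit a j)).G)) ⧸ N) * Nat.card ↥N =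
      p j (bit a j) ^ (D j (bit a j)).k * (p j (bit a j).rev * e) := by
    rw [← Subgroup.card_eq_card_quotient_mul_card_subgroup, Subgroup.card_top, Nat.card_pi,
      ← Finset.mul_prod_erase _ _ (Finset.mem_univ j), (D j (bit a j)).card_eq, mul_assoc]
  obtain ⟨d, hd⟩ := hdiv
  rw [hd, mul_left_comm] at htot
  have hq := Nat.eq_of_mul_eq_mul_left (pow_pos (hp j (bit a j)).pos _) htot
  have := hq ▸ hyd.mul_right d
  rcases (Nat.Prime.dvd_mul (hp j (bit a j))).mp this with h | h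
  · exact hbit _ (hinj _ _ _ _ ((Nat.prime_dvd_prime_iff_eq (hp _ _) (hp _ _)).mp h)).2
  · exact (hp j (bit a j)).one_lt.ne' (Nat.eq_one_of_dvd_coprimes hecop
      ((D j (bit a j)).card_eq ▸ (dvd_pow_self _ (Nat.one_le_iff_ne_zero.mp (D j (bit a j)).k_pos)).mul_right _) h)

end Cfsg.Agent.S3599
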