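import Cfsg.Statements.S3600
import Cfsg.Agent.Lib.OneToFive.Affine

set_option autoImplicit false
open Cfsg

namespace Cfsg.Agent.S3600

/-- A finite group is critical with respect to a set Ω of natural numbers when its set of element orders is Ω while no proper section has Ω as its set of element orders. A finite group critical with respect to {1, 2, 3, 4, 5} (the set of element orders of the alternating group of degree 6) is isomorphic either to the alternating group of degree 6 or to the affine group F² ⋊ SL(2,F) over the field F with four elements (realised as the matrices of SL(3,F) with last row (0, 0, 1)). -/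
theorem result {G : Type*} [Group G] [Finite G]
    (hcrit : Set.range (orderOf : G → ℕ) = ({1, 2, 3, 4, 5} : Set ℕ) ∧
      ∀ (H : Subgroup G) (N : Subgroup ↥H) [N.Normal], (H ≠ ⊤ ∨ N ≠ ⊥) → Set.range (orderOf : (↥H ⧸ N) → ℕ) ≠ ({1, 2, 3, 4, 5} : Set ℕ)) :
    Nonempty (G ≃* alternatingGroup (Fin 6)) ∨
      ∃ (F : Type) (_ : Field F) (_ : Fintype F), Fintype.card F = 4 ∧
        Nonempty (G ≃* ↥(Subgroup.closure {M : Matrix.SpecialLinearGroup (Fin 3) F |
          (M : Matrix (Fin 3) (Fin 3) F) 2 0 = 0 ∧ (M : Matrix (Fin 3) (Fin 3) F) 2 1 = 0 ∧ (M : Matrix (Fin 3) (Fin 3) F) 2 2 = 1})) := by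
  obtain ⟨hrange, hmin⟩ := hcrit
  obtain ⟨hG, hns, g4, hg4⟩ := CfsgLib.OneToFive.of_range_eq hrange
  rcases CfsgLib.OneToFive.structure_cases hG hns with h6 | ⟨R, hR, hcomm, hsq, ⟨e⟩⟩
  · exact Or.inl h6
  right
  haveI := hR
  have hR1 : R ≠ ⊥ := by
    intro hbot
    have h4 : g4 ^ 4 = 1 := hg4 ▸ pow_orderOf_eq_one g4
    have h := CfsgLib.OneToFive.alt_five_no_four (e (g4 : G ⧸ R))
      (by rw [← map_pow, ← QuotientGroup.mk_pow, h4, QuotientGroup.mk_one, map_one])
    rw [← map_mul, ← QuotientGroup.mk_mul] at h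
    have hmem : g4 * g4 ∈ R := (QuotientGroup.eq_one_iff _).1 (e.injective (h.trans e.map_one.symm))
    rw [hbot, Subgroup.mem_bot] at hmem
    have := orderOf_dvd_of_pow_eq_one (show g4 ^ 2 = 1 by rw [pow_two]; exact hmem)
    rw [hg4] at this
    norm_num at this
  have hfill : ∀ X : Subgroup G, X.Normal → X ≤ R → Nat.card X = 16 → X = R := by
    intro X hXn hXR hX
    haveI := hXn
    by_contra hne
    let N' : Subgroup (⊤ : Subgroup G) := X.comap (⊤ : Subgroup G).subtype
    have hN' : N' ≠ ⊥ := fun h => by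
      have e1 : Nat.card N' = Nat.card X :=
        Nat.card_congr (Subgroup.subgroupOfEquivOfLe (le_top : X ≤ ⊤)).toEquiv
      rw [h, Subgroup.card_bot, hX] at e1
      norm_num at e1
    refine hmin ⊤ N' (Or.inr hN') ?_
    let f : ((⊤ : Subgroup G) ⧸ N') ≃* G ⧸ X := QuotientGroup.congr N' X Subgroup.topEquiv (by
      ext x
      exact ⟨fun ⟨y, hy, e⟩ => e ▸ hy, fun hx => ⟨⟨x, Subgroup.mem_top x⟩, hx, rfl⟩⟩)
    rw [← CfsgLib.OneToFive.range_quotient hG hsq e hXR hne]
    ext k
    constructor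
    · rintro ⟨q, rfl⟩; exact ⟨f q, MulEquiv.orderOf_eq f q⟩
    · rintro ⟨q, rfl⟩; exact ⟨f.symm q, MulEquiv.orderOf_eq f.symm q⟩
  obtain ⟨m⟩ := CfsgLib.OneToFive.exists_model hG hcomm hsq hR1 e hfill
  haveI : Fact (Nat.Prime 2) := ⟨Nat.prime_two⟩
  letI := Fintype.ofFinite (GaloisField 2 2)
  have hF : Fintype.card (GaloisField 2 2) = 4 := by
    rw [← Nat.card_eq_fintype_card, GaloisField.card 2 2 two_ne_zero]; norm_num
  obtain ⟨hG', ⟨m'⟩⟩ := CfsgLib.OneToFive.affine_model (GaloisField 2 2) hF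
  exact ⟨GaloisField 2 2, inferInstance, inferInstance, hF, CfsgLib.OneToFive.model_iso hG hG' m m'⟩

end Cfsg.Agent.S3600
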