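import Cfsg.Statements.S3613
import Cfsg.Agent.Lib.TwinPrime.Transfer

set_option autoImplicit false
open Cfsg

namespace Cfsg.Agent.S3613

/-- Let G be an insoluble group acting faithfully and transitively on a finite set of prime size p, and suppose the normalizer of a Sylow p-subgroup of G has order p(p-1)/2. If p = q + 2 for a prime q > 5, then G is 5-fold transitive. -/
theorem result {G Ω : Type*} [Group G] [Finite G] [MulAction G Ω] [FaithfulSMul G Ω] [Finite Ω]
    (p : ℕ) (hp : p.Prime) (hΩ : Nat.card Ω = p) (htrans : MulAction.IsPretransitive G Ω)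
    (hins : ¬ Group.IsSolvable G) (P : Sylow p G)
    (hN : 2 * Nat.card ↥(Subgroup.normalizer ((P : Subgroup G) : Set G)) = p * (p - 1))
    (q : ℕ) (hq : q.Prime) (hq5 : 5 < q) (hpq : p = q + 2) :
    MulAction.IsMultiplyPretransitive G Ω 5 := by
  haveI := Fintype.ofFinite Ω
  have T := Agent.Lib.TwinPrime.twin_range hp (Nat.card_eq_fintype_card.symm.trans hΩ) htrans hins P hN hq hq5 hpq
  refine MulAction.isMultiplyPretransitive_iff.2 fun {x y} => ?_
  obtain ⟨⟨g, g0, rfl⟩, hg⟩ := MulAction.isMultiplyPretransitive_iff.1 T.five_transitive (x := x) (y := y)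
  exact ⟨g0, hg⟩

end Cfsg.Agent.S3613
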