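import Cfsg.Statements.S3614
import Cfsg.Agent.Lib.TwinPrime.Transfer
import Cfsg.Agent.Lib.TwinPrime.Alt

set_option autoImplicit false
open Cfsg

namespace Cfsg.Agent.S3614

/-- Let G be an insoluble group acting faithfully and transitively on a finite set of prime size p, and suppose the normalizer of a Sylow p-subgroup of G has order p(p-1)/2. If p = q + 2 = 2r + 3 > 9 or p = q + 2 = 3r + 4 > 13 with q and r prime, then G is isomorphic to the alternating group of degree p. -/
theorem result {G Ω : Type*} [Group G] [Finite G] [MulAction G Ω] [FaithfulSMul G Ω] [Finite Ω]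
    (p : ℕ) (hp : p.Prime) (hΩ : Nat.card Ω = p) (htrans : MulAction.IsPretransitive G Ω)
    (hins : ¬ Group.IsSolvable G) (P : Sylow p G)
    (hN : 2 * Nat.card ↥(Subgroup.normalizer ((P : Subgroup G) : Set G)) = p * (p - 1))
    (q r : ℕ) (hq : q.Prime) (hr : r.Prime)
    (hcases : (p = q + 2 ∧ p = 2 * r + 3 ∧ 9 < p) ∨ (p = q + 2 ∧ p = 3 * r + 4 ∧ 13 < p)) :
    Nonempty (G ≃* alternatingGroup (Fin p)) := by
  classical
  haveI := Fintype.ofFinite Ω
  haveI := htrans
  have hΩ' : Fintype.card Ω = p := Nat.card_eq_fintype_card.symm.trans hΩ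
  have hr2 := hr.two_le
  have hr4 : r ≠ 4 := fun h => by rw [h] at hr; norm_num at hr
  have T := Agent.Lib.TwinPrime.twin_range hp hΩ' htrans hins P hN hq (by omega) (by omega)
  have h5 := T.five_transitive
  have hle : alternatingGroup Ω ≤ (MulAction.toPermHom G Ω).range := by
    rcases hcases with ⟨-, h, h'⟩ | ⟨-, h, h'⟩
    · exact Agent.Lib.TwinPrime.alternating_le_three h5 hr (by omega) (hΩ'.trans h)
    · exact Agent.Lib.TwinPrime.alternating_le_four h5 hr (by omega) (hΩ'.trans h)
  obtain ⟨a, b, hab⟩ := Fintype.exists_pair_of_one_lt_card (hΩ' ▸ hp.one_lt)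
  have heq : (MulAction.toPermHom G Ω).range = alternatingGroup Ω := by
    refine le_antisymm (fun g hg => ?_) hle
    rw [Equiv.Perm.mem_alternatingGroup]
    refine (Int.units_eq_one_or (Equiv.Perm.sign g)).resolve_right fun h => T.no_swap hab ?_
    have h1 : g⁻¹ * Equiv.swap a b ∈ alternatingGroup Ω := by
      rw [Equiv.Perm.mem_alternatingGroup, map_mul, map_inv, h, Equiv.Perm.sign_swap hab]
      decide
    have h2 := mul_mem hg (hle h1)
    rw [mul_inv_cancel_left] at h2
    convert h2
  exact ⟨CfsgLib.HalfNormalizer.rangeEquiv.trans ((MulEquiv.subgroupCongr heq).trans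
    (Equiv.altCongrHom (Fintype.equivFinOfCardEq hΩ')))⟩

end Cfsg.Agent.S3614
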