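import Cfsg.Statements.S3616
import Cfsg.Agent.Lib.PrimeLine.Action

set_option autoImplicit false
open Cfsg

namespace Cfsg.Agent.S3616

open Cfsg.Agent.Lib.PrimeLine

attribute [local instance] Classical.propDecidable

/-- Let p > 7 be prime and let X be a finite group acting faithfully on a set of p + 1 points by even permutations. Suppose X has a proper subgroup isomorphic to PSL(2, p) that acts doubly transitively on the set (such an action is necessarily the natural one on the projective line). Then X is 4-fold transitive. -/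
theorem result {X Ω : Type*} [Group X] [Finite X] [MulAction X Ω] [FaithfulSMul X Ω] [Fintype Ω] [DecidableEq Ω]
    (p : ℕ) (hp : p.Prime) (hp7 : 7 < p) (hΩ : Fintype.card Ω = p + 1)
    (heven : ∀ x : X, Equiv.Perm.sign (MulAction.toPerm x : Equiv.Perm Ω) = 1)
    (L : Subgroup X) (hL : Nonempty (↥L ≃* Matrix.ProjectiveSpecialLinearGroup (Fin 2) (ZMod p)))
    (hLt : MulAction.IsMultiplyPretransitive ↥L Ω 2) (hLX : L ≠ ⊤) :
    MulAction.IsMultiplyPretransitive X Ω 4 := by
  haveI : Fact p.Prime := ⟨hp⟩
  obtain ⟨φ⟩ := hL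
  let q : Matrix.SpecialLinearGroup (Fin 2) (ZMod p) →* ↥L :=
    φ.symm.toMonoidHom.comp (QuotientGroup.mk' _)
  have hq : Function.Surjective q := φ.symm.surjective.comp (QuotientGroup.mk'_surjective _)
  let ρ : Matrix.SpecialLinearGroup (Fin 2) (ZMod p) →* Equiv.Perm Ω :=
    (MulAction.toPermHom X Ω).comp (L.subtype.comp q)
  have hinjP : Function.Injective (MulAction.toPermHom X Ω) := MulAction.toPerm_injective
  have hu : ρ (uMat 1) ≠ 1 := by
    intro h
    apply uMat_one_not_central (p := p)
    have h1 : q (uMat 1) = 1 := by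
      apply L.subtype_injective
      apply hinjP
      rw [map_one, map_one]
      exact h
    have h2 : (QuotientGroup.mk' (Subgroup.center (Matrix.SpecialLinearGroup (Fin 2) (ZMod p)))) (uMat 1) = 1 := by
      apply φ.symm.injective
      rw [map_one]
      exact h1
    exact (QuotientGroup.eq_one_iff _).1 h2
  have htr : ∀ a b : Ω, ∃ g, ρ g a = b := by
    haveI := MulAction.isPretransitive_of_is_two_pretransitive (G := ↥L) (α := Ω) (h2 := hLt)
    intro a b
    obtain ⟨l, hl⟩ := MulAction.exists_smul_eq ↥L a b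
    obtain ⟨g, rfl⟩ := hq l
    exact ⟨g, hl⟩
  obtain ⟨e, hue, hte, hwe⟩ := exists_coords ρ hΩ hu htr
  let π : X →* Equiv.Perm (Option (ZMod p)) := e.permCongrHom.toMonoidHom.comp (MulAction.toPermHom X Ω)
  have hπ : ∀ x o, π x o = e (x • e.symm o) := fun x o => rfl
  have hπinj : Function.Injective π := e.permCongrHom.injective.comp hinjP
  have hπq : ∀ g o, π (q g : X) o = e (ρ g (e.symm o)) := fun g o => rfl
  have hπu : ∀ b, π (q (uMat b) : X) = (Equiv.addRight b).optionCongr := fun b =>
    Equiv.ext fun o => (hπq _ o).trans (hue b o)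
  have hπt : ∀ a ha, π (q (tMat a ha) : X) = (aff (a * a) 0).optionCongr := fun a ha =>
    Equiv.ext fun o => (hπq _ o).trans (hte a ha o)
  have hπw : π (q wMat : X) = wo := Equiv.ext fun o => (hπq _ o).trans (hwe o)
  have haffL : ∀ a b : ZMod p, IsSquare a → a ≠ 0 → (aff a b).optionCongr ∈ L.map π := by
    rintro a b ⟨c, rfl⟩ ha
    have hc : c ≠ 0 := fun h => ha (by rw [h, mul_zero])
    refine ⟨(q (uMat b) : X) * (q (tMat c hc) : X), L.mul_mem (q _).2 (q _).2, ?_⟩
    rw [map_mul, hπu, hπt]
    refine Equiv.ext fun o => ?_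
    rcases o with _ | x <;> simp [aff_apply ha, aff_apply (one_ne_zero : (1 : ZMod p) ≠ 0)]
  have hwL : wo ∈ L.map π := ⟨_, (q wMat).2, hπw⟩
  have hsub : L.map π ≤ π.range := Subgroup.map_le_range π L
  have hsign : ∀ x, Equiv.Perm.sign (π x) = 1 := fun x => by
    rw [← heven x]
    exact Equiv.Perm.sign_permCongr e _
  have hnaff : ∃ g : Equiv.Perm (ZMod p), g.optionCongr ∈ π.range ∧
      ¬ ∃ a b : ZMod p, ∀ x, g x = a * x + b := by
    by_contra hcon
    have haff : ∀ g : Equiv.Perm (ZMod p), g.optionCongr ∈ π.range →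
        ∃ a b : ZMod p, ∀ x, g x = a * x + b := fun g hg => by
      by_contra hg'
      exact hcon ⟨g, hg, hg'⟩
    have hsq : ∀ g : Equiv.Perm (ZMod p), g.optionCongr ∈ π.range → g.optionCongr ∈ L.map π := by
      intro g hg
      obtain ⟨a, b, hab⟩ := haff g hg
      have ha : a ≠ 0 := fun h => zero_ne_one (g.injective ((hab 0).trans (by rw [h, hab 1, h]; ring)))
      have hg' : g = aff a b := Equiv.ext fun x => by rw [hab, aff_apply ha]
      subst hg'
      by_cases hs : IsSquare a
      · exact haffL a b hs ha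
      exfalso
      obtain ⟨γ, hγ⟩ := IsCyclic.exists_monoid_generator (α := (ZMod p)ˣ)
      have hγns : ¬ IsSquare (γ : ZMod p) := by
        rintro ⟨c, hc⟩
        apply hs
        obtain ⟨n, hn⟩ := hγ (Units.mk0 a ha)
        have : (γ : ZMod p) ^ n = a := by rw [← Units.val_pow_eq_pow_val]; exact congrArg Units.val hn
        exact ⟨c ^ n, by rw [← this, hc, mul_pow]⟩
      have hdiv : IsSquare ((γ : ZMod p) * a⁻¹) := by
        rw [← quadraticChar_one_iff_isSquare (mul_ne_zero γ.ne_zero (inv_ne_zero ha)), map_mul,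
          quadraticChar_neg_one_iff_not_isSquare.2 hγns,
          quadraticChar_neg_one_iff_not_isSquare.2 (fun h => hs (isSquare_inv.1 h))]
        norm_num
      have hne : (γ : ZMod p) * a⁻¹ ≠ 0 := mul_ne_zero γ.ne_zero (inv_ne_zero ha)
      have hm := mul_mem (hsub (haffL _ (-((γ : ZMod p) * a⁻¹ * b)) hdiv hne)) hg
      have he : (aff ((γ : ZMod p) * a⁻¹) (-((γ : ZMod p) * a⁻¹ * b))).optionCongr * (aff a b).optionCongr =
          (aff (γ : ZMod p) 0).optionCongr := by
        refine Equiv.ext fun o => ?_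
        rcases o with _ | x
        · simp
        · simp [aff_apply hne, aff_apply ha, aff_apply γ.ne_zero]
          field_simp
          ring
      rw [he] at hm
      obtain ⟨x, hx⟩ := hm
      have h1 := hsign x
      rw [hx, sign_optionCongr_eq, sign_aff_generator hγ (by omega)] at h1
      exact absurd h1 (by decide)
    apply hLX
    rw [eq_top_iff]
    intro x _
    have hx : π x ∈ L.map π := by
      rcases h : π x none with _ | z
      · obtain ⟨g, hg, hgv⟩ := exists_atInf (X := π.range) ⟨x, rfl⟩ h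
        have : π x = g.optionCongr := Equiv.ext fun o => by
          cases o with
          | none => exact h
          | some u => exact hgv u
        rw [this]
        exact hsq g hg
      · have hm : (wo : Equiv.Perm (Option (ZMod p))) * (aff 1 (-z)).optionCongr ∈ L.map π :=
          mul_mem hwL (haffL 1 (-z) IsSquare.one one_ne_zero)
        have hr : wo * (aff 1 (-z)).optionCongr * π x ∈ π.range := mul_mem (hsub hm) ⟨x, rfl⟩
        have hn : ((wo : Equiv.Perm (Option (ZMod p))) * (aff 1 (-z)).optionCongr * π x) none = none := by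
          simp [h, aff_apply (one_ne_zero : (1 : ZMod p) ≠ 0)]
        obtain ⟨g, hg, hgv⟩ := exists_atInf hr hn
        have : wo * (aff 1 (-z)).optionCongr * π x = g.optionCongr := Equiv.ext fun o => by
          cases o with
          | none => exact hn
          | some u => exact hgv u
        have hr' := hsq g hg
        rw [← this] at hr'
        exact ((L.map π).mul_mem_cancel_left hm).1 hr'
    obtain ⟨y, hy, hyx⟩ := hx
    exact hπinj hyx ▸ hy
  have LG : LineGrp π.range :=
    { hp := hp7, aff_mem := fun a b h h' => hsub (haffL a b h h'), w_mem := hsub hwL, naff := hnaff }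
  have hδ : (-1 : ZMod p) ∈ (UU : Finset (ZMod p)) := by
    refine mem_UU.2 ⟨neg_ne_zero.2 one_ne_zero, fun h => ?_⟩
    refine LG.natCast_ne_zero (n := 2) (by norm_num) (by norm_num) ?_
    push_cast
    linear_combination -h
  let B : Fin 4 → Option (ZMod p) := ![none, some 0, some 1, some (-1)]
  have key : ∀ v : Fin 4 ↪ Ω, ∃ x : X, ∀ i, π x (B i) = e (v i) := by
    intro v
    have hv : ∀ i j, i ≠ j → e (v i) ≠ e (v j) := fun i j h h' => h (v.injective (e.injective h'))
    obtain ⟨y, hy, yn, y0, y1⟩ := LG.three (hv 0 1 (by decide)) (hv 0 2 (by decide)) (hv 1 2 (by decide))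
    rcases h3 : y⁻¹ (e (v 3)) with _ | d
    · rw [Equiv.Perm.inv_eq_iff_eq, yn] at h3
      exact absurd h3.symm (hv 0 3 (by decide))
    rw [Equiv.Perm.inv_eq_iff_eq] at h3
    have hd : d ∈ (UU : Finset (ZMod p)) := mem_UU.2 ⟨fun h => hv 3 1 (by decide) (by rw [h3, h, y0]),
      fun h => hv 3 2 (by decide) (by rw [h3, h, y1])⟩
    obtain ⟨g, hg, g0, g1, gd⟩ := LG.trans_rest hδ hd
    obtain ⟨x, hx⟩ := mul_mem hy (mem_atInf.1 hg)
    refine ⟨x, fun i => ?_⟩
    rw [hx]
    fin_cases i <;> simp [B, yn, y0, y1, g0, g1, gd, h3]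
  rw [MulAction.isMultiplyPretransitive_iff]
  intro v v'
  obtain ⟨x, hx⟩ := key v
  obtain ⟨x', hx'⟩ := key v'
  refine ⟨x' * x⁻¹, ?_⟩
  ext i
  have h1 : x⁻¹ • v i = e.symm (B i) := by
    rw [inv_smul_eq_iff]
    have := hx i
    rw [hπ] at this
    exact (e.injective this).symm
  show (x' * x⁻¹) • v i = v' i
  rw [mul_smul, h1]
  have := hx' i
  rw [hπ] at this
  exact e.injective this

end Cfsg.Agent.S3616
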