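import Cfsg.Statements.S3619
import Mathlib
-- import your own Cfsg.Agent.* helpers here

set_option autoImplicit false
open Cfsg

namespace Cfsg.Agent.S3619

open scoped Pointwise

/-- Let G act faithfully on a finite set in such a way that every non-trivial normal subgroup of G is transitive (G is quasiprimitive). Let Γ be a subset with more than one point and not the whole set, such that the pointwise stabilizer of the complement of Γ acts transitively on Γ (a Jordan set). If that pointwise stabilizer acts primitively on Γ, then G is k-fold transitive where k is one more than the number of points outside Γ (the Jordan set is a trivial one). -/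
theorem result {G Ω : Type*} [Group G] [Finite G] [MulAction G Ω] [FaithfulSMul G Ω] [Finite Ω]
    (hqp : ∀ N : Subgroup G, N.Normal → N ≠ ⊥ → MulAction.IsPretransitive ↥N Ω)
    (Γ : Set Ω) (hΓ1 : 1 < Γ.ncard) (hΓ2 : Γ.ncard < Nat.card Ω)
    (hJ : MulAction.IsPretransitive ↥(fixingSubgroup G Γᶜ) ↥(SubMulAction.ofFixingSubgroup G Γᶜ))
    (hJp : MulAction.IsPreprimitive ↥(fixingSubgroup G Γᶜ) ↥(SubMulAction.ofFixingSubgroup G Γᶜ)) :
    MulAction.IsMultiplyPretransitive G Ω (Nat.card Ω - Γ.ncard + 1) := by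
  classical
  have hΩ : Γ ≠ Set.univ := by
    rintro rfl
    rw [Set.ncard_univ] at hΓ2
    omega
  -- two points of Γ
  obtain ⟨γ₁, hγ₁, γ₂, hγ₂, hγ⟩ := (Set.one_lt_ncard (Set.toFinite Γ)).1 hΓ1
  have hmem : ∀ x : Ω, x ∈ SubMulAction.ofFixingSubgroup G Γᶜ ↔ x ∈ Γ := by
    intro x
    rw [SubMulAction.mem_ofFixingSubgroup_iff]
    simp
  have hmove : ∀ x ∈ Γ, ∀ y ∈ Γ, ∃ k ∈ fixingSubgroup G Γᶜ, k • x = y := by
    intro x hx y hy
    obtain ⟨k, hk⟩ := hJ.exists_smul_eq ⟨x, (hmem x).2 hx⟩ ⟨y, (hmem y).2 hy⟩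
    exact ⟨k.1, k.2, congrArg Subtype.val hk⟩
  obtain ⟨k₀, hk₀, hk₀'⟩ := hmove γ₁ hγ₁ γ₂ hγ₂
  have hk₀1 : k₀ ≠ 1 := by
    rintro rfl
    exact hγ (by simpa using hk₀')
  have htop : (⊤ : Subgroup G) ≠ ⊥ := by
    intro h
    have : k₀ ∈ (⊥ : Subgroup G) := h ▸ Subgroup.mem_top k₀
    exact hk₀1 (Subgroup.mem_bot.1 this)
  have htr : MulAction.IsPretransitive G Ω := by
    have := hqp ⊤ inferInstance htop
    refine ⟨fun x y => ?_⟩
    obtain ⟨g, hg⟩ := this.exists_smul_eq x y
    exact ⟨g.1, hg⟩
  have hprim : MulAction.IsPreprimitive G Ω := by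
    refine { isTrivialBlock_of_isBlock := fun {B} hB => ?_ }
    by_contra hnt
    simp only [MulAction.IsTrivialBlock, not_or] at hnt
    obtain ⟨hsub, huniv⟩ := hnt
    rw [Set.not_subsingleton_iff] at hsub
    have hfix : ∀ k ∈ fixingSubgroup G Γᶜ, ∀ x, x ∉ Γ → k • x = x := fun k hk x hx =>
      (mem_fixingSubgroup_iff G).1 hk x hx
    by_cases hΓB : ∃ g : G, Γ ⊆ g • B
    · obtain ⟨g, hg⟩ := hΓB
      let N : Subgroup G := ⨅ a : G, MulAction.stabilizer G (a • B)
      have hNn : N.Normal := by
        refine ⟨fun n hn c => ?_⟩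
        simp only [N, Subgroup.mem_iInf, MulAction.mem_stabilizer_iff] at hn ⊢
        intro a
        have h1 := hn (c⁻¹ * a)
        rw [mul_smul] at h1
        rw [mul_smul, mul_smul, h1, smul_inv_smul]
      have hKN : fixingSubgroup G Γᶜ ≤ N := by
        intro k hk
        simp only [N, Subgroup.mem_iInf, MulAction.mem_stabilizer_iff]
        intro a
        -- every translate of the block is fixed
        by_cases hdis : a • B = g • B
        · rw [hdis]
          apply Set.eq_of_subset_of_ncard_le _ _ (Set.toFinite _)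
          · rintro _ ⟨x, hx, rfl⟩
            by_cases hxΓ : x ∈ Γ
            · exact hg ((hmem _).1 ((⟨k, hk⟩ : fixingSubgroup G Γᶜ) • (⟨x, (hmem x).2 hxΓ⟩ :
                SubMulAction.ofFixingSubgroup G Γᶜ)).2)
            · show k • x ∈ g • B
              rw [hfix k hk x hxΓ]; exact hx
          · simp only [Set.ncard_smul_set, le_refl]
        · have hd := hB hdis
          ext x
          constructor
          · rintro ⟨y, hy, rfl⟩
            have : y ∉ Γ := fun h => Set.disjoint_left.1 hd hy (hg h)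
            show k • y ∈ a • B
            rw [hfix k hk y this]; exact hy
          · intro hx
            have : x ∉ Γ := fun h => Set.disjoint_left.1 hd hx (hg h)
            exact ⟨x, hx, hfix k hk x this⟩
      have hN : N ≠ ⊥ := fun h => hk₀1 (Subgroup.mem_bot.1 (h ▸ hKN hk₀))
      have := hqp N hNn hN
      apply huniv
      rw [Set.eq_univ_iff_forall]
      intro y
      obtain ⟨b, hb⟩ := hsub.nonempty
      obtain ⟨n, hn⟩ := this.exists_smul_eq b y
      have h2 := n.2
      simp only [N, Subgroup.mem_iInf, MulAction.mem_stabilizer_iff] at h2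
      have h3 := h2 1
      rw [one_smul] at h3
      rw [← h3, ← hn]
      exact Set.smul_mem_smul_set hb
    · push_neg at hΓB
      obtain ⟨b, hb, b', hb', hbb⟩ := hsub
      obtain ⟨a, ha⟩ := htr.exists_smul_eq b γ₁
      have hC : γ₁ ∈ a • B := ha ▸ Set.smul_mem_smul_set hb
      let S : Set (SubMulAction.ofFixingSubgroup G Γᶜ) := Subtype.val ⁻¹' (a • B)
      have hS : MulAction.IsBlock (fixingSubgroup G Γᶜ) S := by
        rw [MulAction.isBlock_iff_smul_eq_smul_of_nonempty]
        intro p q hpq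
        obtain ⟨u, ⟨x, hx, rfl⟩, ⟨y, hy, hxy⟩⟩ := hpq
        have hxy' : q.1 • (y : Ω) = p.1 • (x : Ω) := congrArg Subtype.val hxy
        have heq : (p.1 * a) • B = (q.1 * a) • B := by
          by_contra hne
          have hd := hB hne
          rw [mul_smul, mul_smul] at hd
          exact Set.disjoint_left.1 hd (Set.smul_mem_smul_set hx)
            (hxy' ▸ Set.smul_mem_smul_set hy)
        rw [mul_smul, mul_smul] at heq
        ext z
        rw [Set.mem_smul_set_iff_inv_smul_mem, Set.mem_smul_set_iff_inv_smul_mem]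
        show p.1⁻¹ • (z : Ω) ∈ a • B ↔ q.1⁻¹ • (z : Ω) ∈ a • B
        rw [← Set.mem_smul_set_iff_inv_smul_mem, ← Set.mem_smul_set_iff_inv_smul_mem, heq]
      rcases hJp.isTrivialBlock_of_isBlock hS with hsing | hall
      · have hone : ∀ x ∈ Γ, x ∈ a • B → x = γ₁ := fun x hx hxB =>
          congrArg Subtype.val (@hsing ⟨x, (hmem x).2 hx⟩ hxB ⟨γ₁, (hmem γ₁).2 hγ₁⟩ hC)
        obtain ⟨δ, hδB, hδ⟩ : ∃ δ ∈ a • B, δ ≠ γ₁ := by
          refine ⟨a • b', Set.smul_mem_smul_set hb', fun e => hbb ?_⟩
          exact MulAction.injective a (ha.trans e.symm)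
        have hδΓ : δ ∉ Γ := fun h => hδ (hone δ h hδB)
        have heq : (k₀ * a) • B = a • B := by
          by_contra hne
          have hd := hB hne
          rw [mul_smul] at hd
          have : δ ∈ k₀ • a • B := ⟨δ, hδB, hfix k₀ hk₀ δ hδΓ⟩
          exact Set.disjoint_left.1 hd this hδB
        have : k₀ • γ₁ ∈ a • B := by
          rw [← heq, mul_smul]
          exact Set.smul_mem_smul_set hC
        rw [hk₀'] at this
        exact hγ (hone γ₂ hγ₂ this).symm
      · apply hΓB a
        intro x hx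
        have : (⟨x, (hmem x).2 hx⟩ : SubMulAction.ofFixingSubgroup G Γᶜ) ∈ S := by
          rw [hall]; trivial
        exact this
  have hcompl : Γᶜ.ncard = Nat.card Ω - Γ.ncard := by
    rw [Set.ncard_compl]
  obtain ⟨n, hn⟩ : ∃ n, Γᶜ.ncard = n + 1 := ⟨Γᶜ.ncard - 1, by omega⟩
  have h := hprim.isMultiplyPreprimitive hn (by omega) hJp
  have : Nat.card Ω - Γ.ncard + 1 = n + 2 := by omega
  rw [this]
  exact h.isMultiplyPretransitive

end Cfsg.Agent.S3619
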