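import Cfsg.Statements.S3626
import Cfsg.Agent.Lib.ReeCube.Main
import Cfsg.Agent.S1159
-- import your own Cfsg.Agent.* helpers here

set_option autoImplicit false
open Cfsg

namespace Cfsg.Agent.S3626

/-- Let R be the small Ree group over the field with q = 3^(2m+1) ≥ 27 elements. Then there are finite groups of arbitrarily large order with exactly the same set of element orders as R × R × R. -/
theorem result {K : Type*} [Field K] [Fintype K] {m : ℕ} (hm : 1 ≤ m) (hK : Fintype.card K = 3 ^ (2 * m + 1)) (N : ℕ) :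
    ∃ (H : Type) (_ : Group H) (_ : Fintype H), N < Fintype.card H ∧
      Set.range (orderOf : H → ℕ) = Set.range (orderOf : ↥(Cfsg.Lie.twistedG2 K (3 ^ m)) × ↥(Cfsg.Lie.twistedG2 K (3 ^ m)) × ↥(Cfsg.Lie.twistedG2 K (3 ^ m)) → ℕ) := by
  classical
  haveI : CharP K 3 := CfsgLib.Chev.charThree_G2 hK
  have hq : Fintype.card K % 4 = 3 := by
    rw [hK, Nat.pow_mod, pow_succ, pow_mul]
    simp [Nat.mul_mod, Nat.pow_mod]
  set G := ↥(Cfsg.Lie.twistedG2 K (3 ^ m))
  haveI : Finite (CfsgLib.ReeCube.acting K) := by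
    haveI : Finite (Module.End K (CfsgLib.ReeCube.M2 K)) :=
      Finite.of_injective (fun f => (f : CfsgLib.ReeCube.M2 K → CfsgLib.ReeCube.M2 K)) DFunLike.coe_injective
    infer_instance
  haveI : Finite (CfsgLib.ReeCube.Ext K (N + 1)) :=
    Finite.of_equiv _ SemidirectProduct.equivProd.symm
  haveI : Nonempty G := ⟨1⟩
  obtain ⟨H, hH, hHF, hcard, hrange⟩ :=
    CfsgLib.D4Spec.exists_fin_model (G × G × CfsgLib.ReeCube.Ext K (N + 1))
  refine ⟨H, hH, hHF, ?_, ?_⟩
  · rw [hcard, Nat.card_prod, Nat.card_prod, SemidirectProduct.card]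
    have h1 : N < Nat.card (Multiplicative (Fin (N + 1) → CfsgLib.ReeCube.M2 K)) := by
      rw [Nat.card_congr Multiplicative.toAdd, Nat.card_fun, Nat.card_fin]
      exact (Nat.lt_succ_self N).trans (Nat.lt_pow_self Finite.one_lt_card)
    refine h1.trans_le (((Nat.le_mul_of_pos_right _ Nat.card_pos).trans
      (Nat.le_mul_of_pos_left _ Nat.card_pos)).trans (Nat.le_mul_of_pos_left _ Nat.card_pos))
  · rw [hrange]
    refine CfsgLib.ReeCube.range_cube _ (3 ^ (2 * m + 1) - 3 ^ (m + 1) + 1)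
      (3 ^ (2 * m + 1) + 3 ^ (m + 1) + 1) (fun d => ?_)
      (CfsgLib.ReeCube.range_ext hq (Nat.succ_pos N))
    rw [Set.mem_range, Cfsg.Agent.S1159.result hm hK d, Set.mem_setOf_eq, hK, or_assoc, or_assoc,
      or_assoc]

end Cfsg.Agent.S3626
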