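import Cfsg.Statements.S3627
import Cfsg.Agent.Lib.J1.Elems
import Cfsg.Agent.Lib.Spectrum.Extension
import Cfsg.Agent.Lib.Perm.Isospectral

set_option autoImplicit false
set_option linter.style.haveILetI false
open Cfsg

namespace Cfsg.Agent.S3627

/-- The element orders of the Janko group. -/
def S : Finset ℕ := {1, 2, 3, 5, 6, 7, 10, 11, 15, 19}

/-- Quadruples realising each value. -/
def table : List (ℕ × ℕ × ℕ × ℕ × ℕ) := [
  (1, 1, 1, 1, 1),
  (2, 1, 1, 1, 2),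
  (3, 1, 1, 1, 3),
  (5, 1, 1, 1, 5),
  (6, 1, 1, 1, 6),
  (7, 1, 1, 1, 7),
  (10, 1, 1, 1, 10),
  (11, 1, 1, 1, 11),
  (14, 1, 1, 2, 7),
  (15, 1, 1, 1, 15),
  (21, 1, 1, 3, 7),
  (22, 1, 1, 2, 11),
  (30, 1, 1, 2, 15),
  (33, 1, 1, 3, 11),
  (35, 1, 1, 5, 7),
  (42, 1, 1, 6, 7),
  (55, 1, 1, 5, 11),
  (66, 1, 1, 6, 11),
  (70, 1, 1, 7, 10),
  (77, 1, 1, 7, 11),
  (105, 1, 1, 7, 15),
  (110, 1, 1, 10, 11),
  (154, 1, 2, 7, 11),
  (165, 1, 1, 11, 15),
  (210, 1, 2, 7, 15),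
  (231, 1, 3, 7, 11),
  (330, 1, 2, 11, 15),
  (385, 1, 5, 7, 11),
  (462, 1, 6, 7, 11),
  (770, 1, 7, 10, 11),
  (1155, 1, 7, 11, 15),
  (2310, 2, 7, 11, 15),
  (19, 1, 1, 1, 19),
  (38, 1, 1, 2, 19),
  (57, 1, 1, 3, 19),
  (95, 1, 1, 5, 19),
  (114, 1, 1, 6, 19),
  (133, 1, 1, 7, 19),
  (190, 1, 1, 10, 19),
  (209, 1, 1, 11, 19),
  (266, 1, 2, 7, 19),
  (285, 1, 1, 15, 19),
  (399, 1, 3, 7, 19),
  (418, 1, 2, 11, 19),
  (570, 1, 2, 15, 19),
  (627, 1, 3, 11, 19),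
  (665, 1, 5, 7, 19),
  (798, 1, 6, 7, 19),
  (1045, 1, 5, 11, 19),
  (1254, 1, 6, 11, 19),
  (1330, 1, 7, 10, 19),
  (1463, 1, 7, 11, 19),
  (1995, 1, 7, 15, 19),
  (2090, 1, 10, 11, 19),
  (2926, 2, 7, 11, 19),
  (3135, 1, 11, 15, 19),
  (3990, 2, 7, 15, 19),
  (4389, 3, 7, 11, 19),
  (6270, 2, 11, 15, 19),
  (7315, 5, 7, 11, 19),
  (8778, 6, 7, 11, 19),
  (14630, 7, 10, 11, 19),
  (21945, 7, 11, 15, 19)]

/-- The divisors of 2310. -/
def divs : List ℕ := [1, 2, 3, 5, 6, 7, 10, 11, 14, 15, 21, 22, 30, 33, 35, 42, 55, 66, 70, 77, 105, 110, 154, 165, 210, 231, 330, 385, 462, 770, 1155, 2310]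

theorem forward : ∀ a ∈ S, ∀ b ∈ S, ∀ c ∈ S, ∀ d ∈ S,
    Nat.lcm (Nat.lcm (Nat.lcm a b) c) d ∣ 2310 ∨
      (19 ∣ Nat.lcm (Nat.lcm (Nat.lcm a b) c) d ∧ Nat.lcm (Nat.lcm (Nat.lcm a b) c) d / 19 ∣ 2310 ∧
        Nat.lcm (Nat.lcm (Nat.lcm a b) c) d / 19 ≠ 2310) := by
  decide +kernel

theorem table_ok : ∀ t ∈ table, t.2.1 ∈ S ∧ t.2.2.1 ∈ S ∧ t.2.2.2.1 ∈ S ∧ t.2.2.2.2 ∈ S ∧
    Nat.lcm (Nat.lcm (Nat.lcm t.2.1 t.2.2.1) t.2.2.2.1) t.2.2.2.2 = t.1 := by
  decide +kernel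

theorem table_all : ∀ d ∈ divs, d ∈ table.map Prod.fst ∧ (d ≠ 2310 → 19 * d ∈ table.map Prod.fst) := by
  decide +kernel

theorem divs_all : ∀ d : Fin 2311, d.val ∣ 2310 → d.val ∈ divs := by decide +kernel

theorem backward {n : ℕ} (h : n ∣ 2310 ∨ ∃ d, d ∣ 2310 ∧ d ≠ 2310 ∧ n = 19 * d) :
    ∃ a ∈ S, ∃ b ∈ S, ∃ c ∈ S, ∃ d ∈ S, n = Nat.lcm (Nat.lcm (Nat.lcm a b) c) d := by
  have key : n ∈ table.map Prod.fst := by
    rcases h with h | ⟨d, hd, hd', rfl⟩
    · exact (table_all n (divs_all ⟨n, Nat.lt_succ_of_le (Nat.le_of_dvd (by norm_num) h)⟩ h)).1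
    · exact (table_all d (divs_all ⟨d, Nat.lt_succ_of_le (Nat.le_of_dvd (by norm_num) hd)⟩ hd)).2 hd'
  obtain ⟨t, ht, rfl⟩ := List.mem_map.mp key
  obtain ⟨h1, h2, h3, h4, h5⟩ := table_ok t ht
  exact ⟨_, h1, _, h2, _, h3, _, h4, h5.symm⟩

instance : Fact (Nat.Prime 19) := ⟨by norm_num⟩

abbrev F := GaloisField 19 30

/-- The five primes. -/
def q : Fin 5 → ℕ := ![2, 3, 5, 7, 11]

theorem q_prime (i : Fin 5) : (q i).Prime := by fin_cases i <;> norm_num [q]
theorem q_dvd (i : Fin 5) : q i ∣ 2310 := by fin_cases i <;> norm_num [q]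

theorem exists_root (i : Fin 5) : ∃ ζ : Fˣ, orderOf ζ = q i := by
  haveI := Fact.mk (q_prime i)
  refine exists_prime_orderOf_dvd_card' (q i) ?_
  rw [Nat.card_units, GaloisField.card 19 30 (by norm_num)]
  fin_cases i <;> norm_num [q]

/-- The chosen roots of unity. -/
noncomputable def root (i : Fin 5) : Fˣ := (exists_root i).choose
theorem root_ord (i : Fin 5) : orderOf (root i) = q i := (exists_root i).choose_spec

abbrev C := Multiplicative (ZMod 2310)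
abbrev M := Multiplicative (Fin 5 → F)

/-- The scalar characters. -/
noncomputable def chi (i : Fin 5) : C →* Fˣ where
  toFun a := root i ^ a.toAdd.val
  map_one' := by
    show root i ^ (0 : ZMod 2310).val = 1
    rw [ZMod.val_zero, pow_zero]
  map_mul' a b := by
    show root i ^ (a.toAdd + b.toAdd).val = _
    have h : root i ^ 2310 = 1 := orderOf_dvd_iff_pow_eq_one.mp (root_ord i ▸ q_dvd i)
    rw [ZMod.val_add, ← pow_eq_pow_mod _ h, pow_add]

/-- Diagonal action. -/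
noncomputable def act : C →* MulAut M where
  toFun a := AddEquiv.toMultiplicative
    { toFun := fun v i => (chi i a : F) * v i
      invFun := fun v i => ((chi i a)⁻¹ : Fˣ) * v i
      left_inv := fun v => funext fun i => by simp [← mul_assoc]
      right_inv := fun v => funext fun i => by simp [← mul_assoc]
      map_add' := fun v w => funext fun i => mul_add _ _ _ }
  map_one' := MulEquiv.ext fun v => congrArg Multiplicative.ofAdd (funext fun i => by simp)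
  map_mul' a b := MulEquiv.ext fun v => congrArg Multiplicative.ofAdd (funext fun i => by simp [mul_assoc])

theorem exp19 (v : M) : v ^ 19 = 1 := by
  apply Multiplicative.toAdd.injective
  funext x
  simp only [toAdd_pow, toAdd_one, Pi.smul_apply, Pi.zero_apply, nsmul_eq_mul]
  rw [show ((19 : ℕ) : F) = 0 from CharP.cast_eq_zero F 19, zero_mul]

theorem gen_ord : orderOf (Multiplicative.ofAdd (1 : ZMod 2310)) = 2310 := by
  rw [orderOf_ofAdd_eq_addOrderOf, ZMod.addOrderOf_one]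

theorem exists_ord {d : ℕ} (hd : d ∣ 2310) : ∃ a : C, orderOf a = d :=
  ⟨Multiplicative.ofAdd (1 : ZMod 2310) ^ (2310 / d), by
    have h := orderOf_pow_orderOf_div (x := Multiplicative.ofAdd (1 : ZMod 2310))
      (orderOf_pos _).ne' (show d ∣ _ from gen_ord.symm ▸ hd)
    rwa [gen_ord] at h⟩

theorem dvd_card (a : C) : orderOf a ∣ 2310 := by
  have h := orderOf_dvd_natCard a
  rwa [Nat.card_eq_fintype_card, Fintype.card_multiplicative, ZMod.card] at h

theorem norm_full (a : C) (h : orderOf a = 2310) (v : M) : CfsgLib.SpectrumExt.norm act a v = 1 := by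
  refine CfsgLib.SpectrumExt.norm_eq_one_of_fpf act a (fun w hw => ?_) v
  apply Multiplicative.toAdd.injective
  funext i
  have h1 : (chi i a : F) * w.toAdd i = w.toAdd i :=
    congrFun (congrArg Multiplicative.toAdd hw) i
  by_contra hne
  have hchi : chi i a = 1 := Units.ext (mul_right_cancel₀ hne (h1.trans (one_mul _).symm))
  have hgen : Subgroup.zpowers a = ⊤ :=
    Subgroup.eq_top_of_card_eq _ (by rw [Nat.card_zpowers, h, Nat.card_eq_fintype_card,
      Fintype.card_multiplicative, ZMod.card])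
  obtain ⟨k, hk⟩ := Subgroup.mem_zpowers_iff.mp
    (show Multiplicative.ofAdd (1 : ZMod 2310) ∈ Subgroup.zpowers a from hgen ▸ Subgroup.mem_top _)
  have h2 : chi i (Multiplicative.ofAdd (1 : ZMod 2310)) = 1 := by rw [← hk, map_zpow, hchi, one_zpow]
  have h3 : root i ^ (1 : ZMod 2310).val = 1 := h2
  rw [show (1 : ZMod 2310).val = 1 from rfl, pow_one] at h3
  have h4 := root_ord i
  rw [h3, orderOf_one] at h4
  exact (q_prime i).one_lt.ne h4

theorem norm_proper (a : C) (h : orderOf a ≠ 2310) : ∃ v, CfsgLib.SpectrumExt.norm act a v ≠ 1 := by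
  have hd := dvd_card a
  have key : ∀ d ∈ divs, d ≠ 2310 → ∃ i : Fin 5, ¬ q i ∣ d := by decide +kernel
  obtain ⟨i, hi⟩ := key _ (divs_all ⟨orderOf a, Nat.lt_succ_of_le (Nat.le_of_dvd (by norm_num) hd)⟩ hd) h
  have hchi : chi i a = 1 := by
    have h1 : orderOf (chi i a) ∣ orderOf a := orderOf_map_dvd _ a
    have h2 : orderOf (chi i a) ∣ q i := root_ord i ▸ orderOf_pow_dvd _
    have := Nat.eq_one_of_dvd_coprimes ((q_prime i).coprime_iff_not_dvd.mpr hi) h2 h1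
    exact orderOf_eq_one_iff.mp this
  refine ⟨Multiplicative.ofAdd (Pi.single i 1),
    CfsgLib.SpectrumExt.norm_ne_one_of_fixed act (by norm_num : Nat.Prime 19) exp19 a _ ?_ ?_ ?_⟩
  · refine congrArg Multiplicative.ofAdd (funext fun j => ?_)
    show (chi j a : F) * (Pi.single i (1 : F) : Fin 5 → F) j = (Pi.single i (1 : F) : Fin 5 → F) j
    by_cases e : j = i
    · subst e; rw [hchi, Units.val_one, one_mul]
    · rw [Pi.single_eq_of_ne e, mul_zero]
  · intro e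
    exact one_ne_zero ((Pi.single_eq_same (M := fun _ : Fin 5 => F) i 1).symm.trans
      (congrFun (congrArg Multiplicative.toAdd e) i))
  · intro h19
    exact absurd (h19.trans hd) (by norm_num)


/-- Let J be the first Janko group. Then there are finite groups of arbitrarily large order with exactly the same set of element orders as J × J × J × J. -/
theorem result (N : ℕ) : ∃ (H : Type) (_ : Group H) (_ : Fintype H), N < Fintype.card H ∧
      Set.range (orderOf : H → ℕ) = Set.range (orderOf : ↥Cfsg.Spor.J1 × ↥Cfsg.Spor.J1 × ↥Cfsg.Spor.J1 × ↥Cfsg.Spor.J1 → ℕ) := by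
  haveI : Finite M := inferInstanceAs (Finite (Fin 5 → F))
  haveI : Nontrivial M := inferInstanceAs (Nontrivial (Fin 5 → F))
  haveI : (SemidirectProduct.inl : M →* M ⋊[act] C).range.Normal := by
    rw [SemidirectProduct.range_inl_eq_ker_rightHom]; infer_instance
  haveI : Group.IsSolvable (SemidirectProduct.inl : M →* M ⋊[act] C).range :=
    Group.isSolvable_of_surjective (f := (SemidirectProduct.inl : M →* M ⋊[act] C).rangeRestrict)
      (MonoidHom.rangeRestrict_surjective _)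
  obtain ⟨H, i1, i2, hcard, hr⟩ := CfsgLib.Isospectral.exists_large
    (SemidirectProduct.inl : M →* M ⋊[act] C).range (CfsgLib.SpectrumExt.range_ne_bot act) N
  refine ⟨H, i1, i2, hcard, hr.trans ?_⟩
  rw [CfsgLib.SpectrumExt.range_eq act (by norm_num : Nat.Prime 19) exp19]
  have hS : ∀ n, n ∈ S ↔ ∃ z : CfsgLib.J1.J, orderOf z = n := by
    intro n
    have h := Set.ext_iff.mp CfsgLib.J1.spectrum n
    simp only [Set.mem_range, Set.mem_insert_iff, Set.mem_singleton_iff] at h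
    rw [h]
    simp [S]
  refine Set.Subset.antisymm ?_ ?_
  · intro n hn
    have hn' : n ∣ 2310 ∨ ∃ d, d ∣ 2310 ∧ d ≠ 2310 ∧ n = 19 * d := by
      rcases hn with ⟨a, rfl⟩ | ⟨a, ⟨v, hv⟩, rfl⟩
      · exact Or.inl (dvd_card a)
      · exact Or.inr ⟨_, dvd_card a, fun e => hv (norm_full a e v), Nat.mul_comm _ _⟩
    obtain ⟨a, ha, b, hb, c, hc, d, hd, e⟩ := backward hn'
    obtain ⟨za, ea⟩ := (hS a).mp ha
    obtain ⟨zb, eb⟩ := (hS b).mp hb
    obtain ⟨zc, ec⟩ := (hS c).mp hc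
    obtain ⟨zd, ed⟩ := (hS d).mp hd
    refine ⟨(za, zb, zc, zd), ?_⟩
    rw [Prod.orderOf, Prod.orderOf, Prod.orderOf, ea, eb, ec, ed, e, Nat.lcm_assoc, Nat.lcm_assoc]
  · rintro _ ⟨⟨za, zb, zc, zd⟩, rfl⟩
    rw [Prod.orderOf, Prod.orderOf, Prod.orderOf, ← Nat.lcm_assoc, ← Nat.lcm_assoc]
    rcases forward _ ((hS _).mpr ⟨za, rfl⟩) _ ((hS _).mpr ⟨zb, rfl⟩) _ ((hS _).mpr ⟨zc, rfl⟩) _
      ((hS _).mpr ⟨zd, rfl⟩) with h | ⟨h1, h2, h3⟩
    · obtain ⟨a, ha⟩ := exists_ord h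
      exact Or.inl ⟨a, ha⟩
    · obtain ⟨a, ha⟩ := exists_ord h2
      refine Or.inr ⟨a, norm_proper a (ha ▸ h3), ?_⟩
      rw [ha, Nat.div_mul_cancel h1]

end Cfsg.Agent.S3627
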