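import Cfsg.Statements.S3633
import Cfsg.Agent.Lib.Spectrum.ThreePrimes

set_option autoImplicit false
set_option linter.style.haveILetI false
open Cfsg

namespace Cfsg.Agent.S3633

/-- Let G be a finite group and ρ a set of at least three prime divisors of the order of G that are pairwise non-adjacent in the prime graph (no element of order rs for distinct r, s ∈ ρ). Then at most one prime of ρ divides the order of any given solvable normal subgroup of G; in particular G is not solvable. -/
theorem result {G : Type*} [Group G] [Finite G] (ρ : Finset ℕ) (hρ : 3 ≤ ρ.card) (hc : ((∀ r ∈ ρ, r.Prime ∧ r ∣ Nat.card G) ∧ (∀ r ∈ ρ, ∀ s ∈ ρ, r ≠ s → ¬ ∃ x : G, orderOf x = r * s)))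
    (K : Subgroup G) [K.Normal] (hK : Group.IsSolvable ↥K) :
    (∀ r ∈ ρ, ∀ s ∈ ρ, r ∣ Nat.card ↥K → s ∣ Nat.card ↥K → r = s) ∧ ¬ Group.IsSolvable G := by
  classical
  obtain ⟨hdiv, hnadj⟩ := hc
  refine ⟨fun r hr s hs hrK hsK => ?_, fun hG => ?_⟩
  · by_contra hrs
    obtain ⟨t, ht, htr, hts⟩ : ∃ t ∈ ρ, t ≠ r ∧ t ≠ s := by
      by_contra h
      push Not at h
      have hsub : ρ ⊆ ({r, s} : Finset ℕ) := fun t ht => by
        by_cases htr : t = r
        · simp [htr]
        · simp [h t ht htr]
      have := (Finset.card_le_card hsub).trans Finset.card_le_two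
      omega
    haveI := Fact.mk (hdiv t ht).1
    obtain ⟨x, hx⟩ := exists_prime_orderOf_dvd_card' t (hdiv t ht).2
    let X : Subgroup G := K ⊔ Subgroup.zpowers x
    have hmap : ∀ y : X, QuotientGroup.mk' K (y : G) ∈ Subgroup.zpowers (QuotientGroup.mk' K x) := by
      intro y
      have h : QuotientGroup.mk' K (y : G) ∈ X.map (QuotientGroup.mk' K) := ⟨_, y.2, rfl⟩
      rw [Subgroup.map_sup, MonoidHom.map_zpowers, (Subgroup.map_eq_bot_iff K).2 (by simp),
        bot_sup_eq] at h
      exact h
    let f : X →* Subgroup.zpowers (QuotientGroup.mk' K x) :=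
      ((QuotientGroup.mk' K).comp X.subtype).codRestrict _ hmap
    haveI hKs : Group.IsSolvable K := hK
    haveI hXs : Group.IsSolvable X :=
      Group.isSolvable_of_ker_le_range (Subgroup.inclusion (le_sup_left : K ≤ X)) f fun y hy => by
        have h : QuotientGroup.mk' K (y : G) = 1 := congrArg Subtype.val (MonoidHom.mem_ker.1 hy)
        exact ⟨⟨y, (QuotientGroup.eq_one_iff _).1 h⟩, rfl⟩
    have hcard : ({r, s, t} : Finset ℕ).card = 3 := by
      rw [Finset.card_insert_of_notMem (by simp [hrs, Ne.symm htr]), Finset.card_pair (Ne.symm hts)]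
    obtain ⟨a, ha, b, hb, hab, g, hg⟩ := CfsgLib.Spectrum.exists_adjacent_pair (G := X) {r, s, t}
      (by rw [hcard]) (fun a ha => by
        simp only [Finset.mem_insert, Finset.mem_singleton] at ha
        rcases ha with rfl | rfl | rfl
        exacts [(hdiv _ hr).1, (hdiv _ hs).1, (hdiv _ ht).1])
      (fun a ha => by
        simp only [Finset.mem_insert, Finset.mem_singleton] at ha
        rcases ha with rfl | rfl | rfl
        · exact hrK.trans (Subgroup.card_dvd_of_le le_sup_left)
        · exact hsK.trans (Subgroup.card_dvd_of_le le_sup_left)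
        · rw [← hx, ← Nat.card_zpowers]; exact Subgroup.card_dvd_of_le le_sup_right)
    have hin : ∀ a ∈ ({r, s, t} : Finset ℕ), a ∈ ρ := by
      intro a ha
      simp only [Finset.mem_insert, Finset.mem_singleton] at ha
      rcases ha with rfl | rfl | rfl <;> assumption
    exact hnadj a (hin a ha) b (hin b hb) hab ⟨g, by rw [Subgroup.orderOf_coe, hg]⟩
  · obtain ⟨a, ha, b, hb, hab, g, hg⟩ := CfsgLib.Spectrum.exists_adjacent_pair (G := G) ρ hρ
      (fun a ha => (hdiv a ha).1) (fun a ha => (hdiv a ha).2)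
    exact hnadj a ha b hb hab ⟨g, hg⟩

end Cfsg.Agent.S3633
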