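import Cfsg.Statements.S3634
import Cfsg.Agent.Lib.Elem.PrimaryParts

set_option autoImplicit false
set_option linter.style.haveILetI false
open Cfsg

namespace Cfsg.Agent.S3634

theorem exists_mul {G : Type*} [Group G] [Finite G] {p q : ℕ} (hp : p.Prime) (hq : q.Prime) (hpq : p ≠ q)
    {x y : G} (hx : p ∣ orderOf x) (hy : q ∣ orderOf y) (h : Commute x y) : ∃ g : G, orderOf g = p * q := by
  have hx0 := orderOf_pos x
  have hy0 := orderOf_pos y
  refine ⟨x ^ (orderOf x / p) * y ^ (orderOf y / q), ?_⟩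
  have h1 : orderOf (x ^ (orderOf x / p)) = p := orderOf_pow_orderOf_div hx0.ne' hx
  have h2 : orderOf (y ^ (orderOf y / q)) = q := orderOf_pow_orderOf_div hy0.ne' hy
  rw [(h.pow_pow _ _).orderOf_mul_eq_mul_orderOf_of_coprime
    (by rw [h1, h2]; exact (Nat.coprime_primes hp hq).mpr hpq), h1, h2]

theorem norm_fixed {G V : Type*} [Group G] [CommGroup V] [MulDistribMulAction G V] {S : Finset G}
    (v : V) (a : G) (ha : ∀ s ∈ S, a * s ∈ S) : a • (∏ s ∈ S, s • v) = ∏ s ∈ S, s • v := by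
  classical
  rw [Finset.smul_prod']
  have him : S.image (a * ·) = S := Finset.eq_of_subset_of_card_le
    (fun x hx => by obtain ⟨s, hs, rfl⟩ := Finset.mem_image.mp hx; exact ha s hs)
    (by rw [Finset.card_image_of_injective _ (mul_right_injective a)])
  conv_rhs => rw [← him, Finset.prod_image (fun _ _ _ _ e => mul_left_cancel e)]
  simp [mul_smul]

theorem no_frobenius_fpf {G V : Type*} [Group G] [Finite G] [CommGroup V] [MulDistribMulAction G V]
    (Q : Subgroup G) (z : G) (hr : 1 < orderOf z) (hn : z ∈ Subgroup.normalizer (Q : Set G))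
    (hQz : ∀ i, 0 < i → i < orderOf z → ∀ h ∈ Q, Commute h (z ^ i) → h = 1)
    (hVQ : ∀ v : V, (∀ a ∈ Q, a • v = v) → v = 1)
    (hVz : ∀ h ∈ Q, ∀ v : V, (h * z * h⁻¹) • v = v → v = 1) (v : V) : v ^ Nat.card Q = 1 := by
  classical
  haveI := Fintype.ofFinite G
  set r := orderOf z with hrdef
  set S : Finset G := Finset.univ.filter (· ∈ Q) with hS
  have hQnorm : ∀ i : ℕ, ∀ h ∈ Q, z ^ i * h * (z ^ i)⁻¹ ∈ Q := fun i h hh =>
    (Subgroup.mem_normalizer_iff.mp (pow_mem hn i) h).mp hh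
  have hNQ : ∀ w : V, ∏ h ∈ S, h • w = 1 := fun w => hVQ _ fun a ha =>
    norm_fixed w a (fun s hs => by simp [S] at hs ⊢; exact Q.mul_mem ha hs)
  have hNR : ∀ h ∈ Q, ∏ i ∈ Finset.range r, (h * z ^ i * h⁻¹) • v = 1 := by
    intro h hh
    set y := h * z * h⁻¹ with hy
    have hpow : ∀ i : ℕ, h * z ^ i * h⁻¹ = y ^ i := fun i => by rw [hy, conj_pow]
    simp only [hpow]
    have hyr : orderOf y = r := by
      have h' : MulAut.conj h z = y := by rw [MulAut.conj_apply, hy]
      rw [← h', MulEquiv.orderOf_eq]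
    have hinj : Set.InjOn (fun i => y ^ i) (Finset.range r : Finset ℕ) := fun a ha b hb e =>
      pow_injOn_Iio_orderOf (by simpa [hyr] using ha) (by simpa [hyr] using hb) e
    have e : (∏ i ∈ Finset.range r, y ^ i • v) = ∏ s ∈ (Finset.range r).image (y ^ ·), s • v :=
      (Finset.prod_image (f := fun s => s • v) hinj).symm
    rw [e]
    apply hVz h hh
    rw [← hy]
    refine norm_fixed v y fun s hs => ?_
    simp only [Finset.mem_image, Finset.mem_range] at hs ⊢
    obtain ⟨i, -, rfl⟩ := hs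
    refine ⟨(i + 1) % r, Nat.mod_lt _ (by omega), ?_⟩
    rw [← hyr, pow_mod_orderOf, pow_succ']
  have hterm : ∀ i ∈ Finset.range r, i ≠ 0 → ∏ h ∈ S, (h * z ^ i * h⁻¹) • v = 1 := by
    intro i hi hi0
    rw [Finset.mem_range] at hi
    set g : G → G := fun h => h * (z ^ i * h⁻¹ * (z ^ i)⁻¹) with hg
    have hgS : ∀ h ∈ S, g h ∈ S := fun h hh => by
      simp only [S, Finset.mem_filter, Finset.mem_univ, true_and] at hh ⊢
      exact Q.mul_mem hh (hQnorm i _ (Q.inv_mem hh))
    have hinj : Set.InjOn g S := by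
      intro a ha b hb e
      simp only [S, Finset.coe_filter, Finset.mem_univ, true_and, Set.mem_setOf_eq] at ha hb
      have e1 : a * z ^ i * a⁻¹ = b * z ^ i * b⁻¹ := by
        have h := congrArg (· * z ^ i) e
        simp only [hg, mul_assoc, inv_mul_cancel, mul_one] at h
        simpa [mul_assoc] using h
      have hc : Commute (b⁻¹ * a) (z ^ i) := by
        show b⁻¹ * a * z ^ i = z ^ i * (b⁻¹ * a)
        calc b⁻¹ * a * z ^ i = b⁻¹ * (a * z ^ i * a⁻¹) * a := by group
          _ = b⁻¹ * (b * z ^ i * b⁻¹) * a := by rw [e1]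
          _ = _ := by group
      exact (inv_mul_eq_one.mp (hQz i (by omega) hi _ (Q.mul_mem (Q.inv_mem hb) ha) hc)).symm
    have him : S.image g = S := Finset.eq_of_subset_of_card_le
      (fun x hx => by obtain ⟨s, hs, rfl⟩ := Finset.mem_image.mp hx; exact hgS s hs)
      (by rw [Finset.card_image_of_injOn hinj])
    calc ∏ h ∈ S, (h * z ^ i * h⁻¹) • v = ∏ h ∈ S, g h • (z ^ i • v) :=
          Finset.prod_congr rfl fun h _ => by rw [← mul_smul]; congr 1; simp only [hg]; group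
      _ = ∏ s ∈ S.image g, s • (z ^ i • v) := (Finset.prod_image (f := fun s => s • (z ^ i • v)) hinj).symm
      _ = 1 := by rw [him]; exact hNQ _
  have htot : ∏ i ∈ Finset.range r, ∏ h ∈ S, (h * z ^ i * h⁻¹) • v = 1 := by
    rw [Finset.prod_comm]
    exact Finset.prod_eq_one fun h hh => hNR h (by simpa [S] using hh)
  rw [Finset.prod_eq_single_of_mem 0 (Finset.mem_range.mpr (by omega)) hterm] at htot
  simp only [pow_zero, mul_one, mul_inv_cancel, one_smul, Finset.prod_const] at htot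
  rwa [show Nat.card Q = S.card by rw [Nat.card_eq_fintype_card, hS, Fintype.card_subtype]]

/-- Let G be a finite group with normal subgroups K ≤ M, and let p, q, r be distinct primes with p dividing the order of K, q dividing the order of M/K and r dividing the order of G/M. Then p, q, r are not pairwise non-adjacent in the prime graph of G: G has an element of order pq, pr or qr. -/
theorem result {G : Type*} [Group G] [Finite G] (K M : Subgroup G) [K.Normal] [M.Normal] (hKM : K ≤ M)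
    (p q r : ℕ) (hp : p.Prime) (hq : q.Prime) (hr : r.Prime) (hpq : p ≠ q) (hpr : p ≠ r) (hqr : q ≠ r)
    (hpK : p ∣ Nat.card ↥K) (hqM : q ∣ Nat.card ↥M / Nat.card ↥K) (hrG : r ∣ Nat.card G / Nat.card ↥M) :
    (∃ x : G, orderOf x = p * q) ∨ (∃ x : G, orderOf x = p * r) ∨ (∃ x : G, orderOf x = q * r) := by
  classical
  haveI := Fact.mk hp
  haveI := Fact.mk hq
  by_contra hcon
  simp only [not_or, not_exists] at hcon
  obtain ⟨hnpq, hnpr, hnqr⟩ := hcon
  have fpq : ∀ x y : G, p ∣ orderOf x → q ∣ orderOf y → ¬ Commute x y := fun x y hx hy h => by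
    obtain ⟨g, hg⟩ := exists_mul hp hq hpq hx hy h; exact hnpq g hg
  have fpr : ∀ x y : G, p ∣ orderOf x → r ∣ orderOf y → ¬ Commute x y := fun x y hx hy h => by
    obtain ⟨g, hg⟩ := exists_mul hp hr hpr hx hy h; exact hnpr g hg
  have fqr : ∀ x y : G, q ∣ orderOf x → r ∣ orderOf y → ¬ Commute x y := fun x y hx hy h => by
    obtain ⟨g, hg⟩ := exists_mul hq hr hqr hx hy h; exact hnqr g hg
  obtain ⟨P0⟩ : Nonempty (Sylow p ↥K) := inferInstance
  set P := (P0 : Subgroup ↥K).map K.subtype with hP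
  set N := Subgroup.normalizer (P : Set G) with hN
  have hKN : N ⊔ K = ⊤ := by rw [hN, hP]; exact Sylow.normalizer_sup_eq_top P0
  have hMN : M ⊔ N = ⊤ := top_le_iff.mp (hKN ▸ sup_le le_sup_right (hKM.trans le_sup_left))
  -- q divides |M ⊓ N|
  have hMdec : M ≤ (M ⊓ N) ⊔ K := by
    intro m hm
    have : m ∈ N ⊔ K := hKN ▸ Subgroup.mem_top m
    rw [← SetLike.mem_coe, Subgroup.mul_normal] at this
    obtain ⟨n, hn, k, hk, rfl⟩ := this
    refine Subgroup.mul_mem _ ((le_sup_left : M ⊓ N ≤ _) (Subgroup.mem_inf.mpr ⟨?_, hn⟩)) ((le_sup_right : K ≤ _) hk)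
    have := M.mul_mem hm (M.inv_mem (hKM hk))
    simpa using this
  have hMeq : (M ⊓ N) ⊔ K = M := le_antisymm (sup_le inf_le_left hKM) hMdec
  have hrel : K.relIndex M = Nat.card ↥M / Nat.card ↥K := by
    rw [Nat.eq_div_iff_mul_eq_left (by exact Nat.card_pos.ne') (Subgroup.card_dvd_of_le hKM)] <;>
    rw [Subgroup.relIndex, ← Nat.card_congr (Subgroup.subgroupOfEquivOfLe hKM).toEquiv, mul_comm, Subgroup.card_mul_index]
  have hqMN : q ∣ Nat.card ↥(M ⊓ N) := by
    rw [← hrel, ← hMeq, sup_comm, Subgroup.relIndex_sup_left] at hqM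
    exact hqM.trans (Subgroup.index_dvd_card _)
  obtain ⟨Q0⟩ : Nonempty (Sylow q ↥((M ⊓ N).subgroupOf N)) := inferInstance
  haveI : ((M ⊓ N).subgroupOf N).Normal := by
    rw [Subgroup.inf_subgroupOf_right]; infer_instance
  have hfr := Sylow.normalizer_sup_eq_top Q0
  set QN := (Q0 : Subgroup ↥((M ⊓ N).subgroupOf N)).map ((M ⊓ N).subgroupOf N).subtype with hQN
  set Q := QN.map N.subtype with hQ
  have hQ1 : Q ≠ ⊥ := by
    intro e
    rw [hQ, Subgroup.map_eq_bot_iff_of_injective _ N.subtype_injective, hQN,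
      Subgroup.map_eq_bot_iff_of_injective _ (Subgroup.subtype_injective _)] at e
    refine Q0.ne_bot_of_dvd_card ?_ e
    rw [Nat.card_congr (Subgroup.subgroupOfEquivOfLe (inf_le_right : M ⊓ N ≤ N)).toEquiv]
    exact hqMN
  -- r divides |normalizer of Q in N|
  set L := Subgroup.normalizer (QN : Set ↥N) with hL
  have hrL : r ∣ Nat.card ↥L := by
    let f : ↥L →* G ⧸ M := (QuotientGroup.mk' M).comp (N.subtype.comp L.subtype)
    have hf : Function.Surjective f := by
      intro x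
      obtain ⟨g, rfl⟩ := QuotientGroup.mk'_surjective M x
      have : g ∈ M ⊔ N := hMN ▸ Subgroup.mem_top g
      rw [← SetLike.mem_coe, Subgroup.normal_mul] at this
      obtain ⟨m, hm, n, hn, rfl⟩ := this
      have : (⟨n, hn⟩ : ↥N) ∈ L ⊔ (M ⊓ N).subgroupOf N := hfr ▸ Subgroup.mem_top _
      rw [← SetLike.mem_coe, Subgroup.mul_normal] at this
      obtain ⟨l, hl, k, hk, e⟩ := this
      refine ⟨⟨l, hl⟩, ?_⟩
      have e' : (l : G) * (k : G) = n := congrArg Subtype.val e
      have hkM : (k : G) ∈ M := (Subgroup.mem_inf.mp (Subgroup.mem_subgroupOf.mp hk)).1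
      show QuotientGroup.mk' M (l : G) = QuotientGroup.mk' M (m * n)
      rw [← e', map_mul, map_mul, show QuotientGroup.mk' M m = 1 from (QuotientGroup.eq_one_iff m).mpr hm,
        show QuotientGroup.mk' M (k : G) = 1 from (QuotientGroup.eq_one_iff _).mpr hkM, one_mul, mul_one]
    have := Subgroup.card_dvd_of_surjective f hf
    rw [show Nat.card (G ⧸ M) = Nat.card G / Nat.card ↥M by
      rw [Subgroup.card_eq_card_quotient_mul_card_subgroup M, Nat.mul_div_cancel _ Nat.card_pos]] at this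
    exact hrG.trans this
  haveI := Fact.mk hr
  obtain ⟨z0, hz0⟩ := exists_prime_orderOf_dvd_card' r hrL
  set z : G := ((z0 : ↥N) : G) with hz
  have hzr : orderOf z = r := by rw [hz, Subgroup.orderOf_coe, Subgroup.orderOf_coe, hz0]
  have hzN : z ∈ N := (z0 : ↥N).2
  have hzQ : z ∈ Subgroup.normalizer (Q : Set G) := by
    apply CfsgLib.PrimaryParts.mem_normalizer_of_conj_mem
    intro x hx
    obtain ⟨x', hx', rfl⟩ := Subgroup.mem_map.mp hx
    exact Subgroup.mem_map.mpr ⟨(z0 : ↥N) * x' * (z0 : ↥N)⁻¹, (Subgroup.mem_normalizer_iff.mp z0.2 x').mp hx', rfl⟩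
  have hQN' : Q ≤ N := Subgroup.map_subtype_le _
  have hQp : IsPGroup q Q := (Q0.isPGroup'.map _).map _
  have hPp : IsPGroup p P := P0.isPGroup'.map _
  have hP1 : P ≠ ⊥ := by
    intro e
    rw [hP, Subgroup.map_eq_bot_iff_of_injective _ K.subtype_injective] at e
    exact P0.ne_bot_of_dvd_card hpK e
  have hdiv : ∀ {s : ℕ}, s.Prime → ∀ {R : Subgroup G}, IsPGroup s R → ∀ x ∈ R, x ≠ 1 → s ∣ orderOf x := by
    intro s hs R hR x hx hx1
    haveI := Fact.mk hs
    obtain ⟨k, hk⟩ := IsPGroup.iff_orderOf.mp hR ⟨x, hx⟩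
    rw [Subgroup.orderOf_mk] at hk
    rw [hk]
    exact dvd_pow_self s (fun e => hx1 (orderOf_eq_one_iff.mp (by rw [hk, e, pow_zero])))
  -- V = Z(P)
  let V := (Subgroup.center ↥P).map P.subtype
  have hVP : V ≤ P := Subgroup.map_subtype_le _
  have hVN : ∀ g ∈ N, ∀ v ∈ V, g * v * g⁻¹ ∈ V := by
    intro g hg v hv
    obtain ⟨v', hv', rfl⟩ := Subgroup.mem_map.mp hv
    have hgv : g * (v' : G) * g⁻¹ ∈ P := (Subgroup.mem_normalizer_iff.mp hg _).mp v'.2
    refine Subgroup.mem_map.mpr ⟨⟨_, hgv⟩, Subgroup.mem_center_iff.mpr fun w => Subtype.ext ?_, rfl⟩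
    have hw : g⁻¹ * (w : G) * g ∈ P := (Subgroup.mem_normalizer_iff''.mp hg _).mp w.2
    have e : g⁻¹ * (w : G) * g * (v' : G) = (v' : G) * (g⁻¹ * (w : G) * g) :=
      congrArg Subtype.val (Subgroup.mem_center_iff.mp hv' ⟨_, hw⟩)
    show (w : G) * (g * (v' : G) * g⁻¹) = g * (v' : G) * g⁻¹ * (w : G)
    calc (w : G) * (g * (v' : G) * g⁻¹) = g * (g⁻¹ * (w : G) * g * (v' : G)) * g⁻¹ := by group
      _ = g * ((v' : G) * (g⁻¹ * (w : G) * g)) * g⁻¹ := by rw [e]
      _ = _ := by group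
  haveI : IsMulCommutative V := by
    constructor; constructor
    rintro ⟨a, ha⟩ ⟨b, hb⟩
    obtain ⟨a', ha', rfl⟩ := Subgroup.mem_map.mp ha
    obtain ⟨b', hb', rfl⟩ := Subgroup.mem_map.mp hb
    apply Subtype.ext
    show (a' : G) * (b' : G) = (b' : G) * (a' : G)
    exact congrArg Subtype.val (Subgroup.mem_center_iff.mp hb' a')
  letI : CommGroup V := { (inferInstance : Group V) with mul_comm := fun a b => mul_comm' a b }
  letI : MulDistribMulAction ↥N V :=
    { smul := fun g v => ⟨(g : G) * (v : G) * (g : G)⁻¹, hVN _ g.2 _ v.2⟩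
      one_smul := fun v => Subtype.ext (show (1 : G) * (v : G) * (1 : G)⁻¹ = v by group)
      mul_smul := fun a b v => Subtype.ext (show (a * b : G) * (v : G) * (a * b : G)⁻¹ =
        (a : G) * ((b : G) * (v : G) * (b : G)⁻¹) * (a : G)⁻¹ by group)
      smul_mul := fun a v w => Subtype.ext (show (a : G) * ((v : G) * (w : G)) * (a : G)⁻¹ =
        (a : G) * (v : G) * (a : G)⁻¹ * ((a : G) * (w : G) * (a : G)⁻¹) by group)
      smul_one := fun a => Subtype.ext (show (a : G) * (1 : G) * (a : G)⁻¹ = 1 by group) }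
  have hfix : ∀ (g : ↥N) (v : V), g • v = v → Commute (g : G) (v : G) := fun g v h => by
    have := congrArg Subtype.val h
    show (g : G) * (v : G) = (v : G) * (g : G)
    exact mul_inv_eq_iff_eq_mul.mp this
  obtain ⟨v, hv, hv1⟩ : ∃ v ∈ V, v ≠ 1 := by
    haveI : Nontrivial P := (Subgroup.nontrivial_iff_ne_bot _).mpr hP1
    have := hPp.bot_lt_center
    obtain ⟨w, hw, hw1⟩ := SetLike.exists_of_lt this
    exact ⟨w, Subgroup.mem_map.mpr ⟨w, hw, rfl⟩, fun e => hw1 (Subgroup.mem_bot.mpr (Subtype.ext e))⟩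
  have hzN' : orderOf (z0 : ↥N) = r := by rw [Subgroup.orderOf_coe, hz0]
  have key := no_frobenius_fpf (V := V) (Q.subgroupOf N) (z0 : ↥N) (by rw [hzN']; exact hr.one_lt)
    (by
      apply CfsgLib.PrimaryParts.mem_normalizer_of_conj_mem
      intro x hx
      exact (Subgroup.mem_normalizer_iff.mp hzQ _).mp hx)
    (by
      intro i hi0 hir h hh hc
      by_contra h1
      rw [hzN'] at hir
      refine fqr (h : G) (z ^ i) (hdiv hq hQp _ hh (fun e => h1 (Subtype.ext e))) ?_ ?_
      · rw [(Nat.Coprime.orderOf_pow (by rw [hzr]; exact (hr.coprime_iff_not_dvd.mpr fun d => absurd (Nat.le_of_dvd hi0 d) (by omega))))]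
        rw [hzr]
      · have := congrArg Subtype.val hc.eq
        simpa [Commute, SemiconjBy, hz] using this)
    (by
      intro w hw
      by_contra hw1
      obtain ⟨⟨a, ha⟩, ha0⟩ := Subgroup.ne_bot_iff_exists_ne_one.mp hQ1
      have ha1 : a ≠ 1 := fun e => ha0 (Subtype.ext e)
      exact fpq (w : G) a (hdiv hp hPp _ (hVP w.2) (fun e => hw1 (Subtype.ext e))) (hdiv hq hQp _ ha ha1)
        (hfix ⟨a, hQN' ha⟩ w (hw _ ha)).symm)
    (by
      intro h hh w hw
      by_contra hw1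
      refine fpr (w : G) _ (hdiv hp hPp _ (hVP w.2) (fun e => hw1 (Subtype.ext e))) ?_ (hfix _ w hw).symm
      rw [Subgroup.orderOf_coe]
      have : orderOf (h * (z0 : ↥N) * h⁻¹) = orderOf (z0 : ↥N) := by
        rw [show h * (z0 : ↥N) * h⁻¹ = MulAut.conj h (z0 : ↥N) from rfl, MulEquiv.orderOf_eq]
      rw [this, hzN'])
    ⟨v, hv⟩
  rw [Nat.card_congr (Subgroup.subgroupOfEquivOfLe hQN').toEquiv] at key
  have hdvd : orderOf v ∣ Nat.card Q := orderOf_dvd_of_pow_eq_one (by simpa using congrArg Subtype.val key)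
  obtain ⟨k, hk⟩ := IsPGroup.iff_card.mp hQp
  exact hpq ((Nat.prime_dvd_prime_iff_eq hp hq).mp (hp.dvd_of_dvd_pow (hk ▸ (hdiv hp hPp v (hVP hv) hv1).trans hdvd)))

end Cfsg.Agent.S3634
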