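import Cfsg.Statements.S3639
import Cfsg.Agent.Lib.Suzuki.PrimeGraph
-- import your own Cfsg.Agent.* helpers here

set_option autoImplicit false
open Cfsg

namespace Cfsg.Agent.S3639

open CfsgLib.Suzuki

/-- Let S be the Suzuki group over the field with q = 2^(2m+1) ≥ 8 elements. Then there are finite groups of arbitrarily large order with the same prime graph as S. -/
theorem result {F : Type*} [Field F] [Fintype F] {m : ℕ} (hm : 1 ≤ m) (hF : Fintype.card F = 2 ^ (2 * m + 1)) (N : ℕ) :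
    ∃ (H : Type) (_ : Group H) (_ : Fintype H), N < Fintype.card H ∧ ((∀ r : ℕ, r.Prime → (r ∣ Nat.card ↥(Cfsg.Lie.Sz F (2 ^ (m + 1))) ↔ r ∣ Nat.card H)) ∧
      (∀ r s : ℕ, r.Prime → s.Prime → r ≠ s → ((∃ x : ↥(Cfsg.Lie.Sz F (2 ^ (m + 1))), orderOf x = r * s) ↔ (∃ y : H, orderOf y = r * s)))) := by
  haveI := charP_two_of_card hF
  haveI : Param F m := ⟨hm, hF⟩
  haveI : Finite (NatExt F m (N + 1)) := Finite.of_equiv _ SemidirectProduct.equivProd.symm
  let e : NatExt F m (N + 1) ≃ {_i : Fin (Nat.card (NatExt F m (N + 1))) // True} :=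
    (Finite.equivFin (NatExt F m (N + 1))).trans (Equiv.subtypeUnivEquiv fun _ => trivial).symm
  letI : Group {_i : Fin (Nat.card (NatExt F m (N + 1))) // True} := e.symm.group
  let φ : {_i : Fin (Nat.card (NatExt F m (N + 1))) // True} ≃* NatExt F m (N + 1) :=
    { e.symm with map_mul' := fun a b => e.symm_apply_apply (e.symm a * e.symm b) }
  refine ⟨{_i : Fin (Nat.card (NatExt F m (N + 1))) // True}, inferInstance, inferInstance, ?_, ?_, ?_⟩
  · rw [Fintype.card_congr (Equiv.subtypeUnivEquiv fun _ => trivial), Fintype.card_fin, natCard_natExt, hF]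
    have h1 : 1 ≤ Nat.card (Gp F m) := Nat.card_pos
    refine lt_of_lt_of_le ?_ (Nat.le_mul_of_pos_right _ h1)
    calc N < 2 ^ N := Nat.lt_two_pow_self
      _ ≤ _ := by
        rw [← pow_mul]
        exact Nat.pow_le_pow_right (by norm_num) (by nlinarith)
  · intro r hr
    rw [← Nat.card_congr (lieEquiv F m).toEquiv, Nat.card_congr φ.toEquiv]
    exact prime_dvd_natExt hr _
  · intro r s hr hs hrs
    refine Iff.trans ?_ ((exists_order_natExt (F := F) (m := m) hr hs hrs (N + 1)).trans ?_)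
    · exact ⟨fun ⟨x, hx⟩ => ⟨(lieEquiv F m).symm x, by rw [MulEquiv.orderOf_eq, hx]⟩,
        fun ⟨x, hx⟩ => ⟨lieEquiv F m x, by rw [MulEquiv.orderOf_eq, hx]⟩⟩
    · exact ⟨fun ⟨x, hx⟩ => ⟨φ.symm x, by rw [MulEquiv.orderOf_eq, hx]⟩,
        fun ⟨x, hx⟩ => ⟨φ x, by rw [MulEquiv.orderOf_eq, hx]⟩⟩

end Cfsg.Agent.S3639
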