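import Cfsg.Statements.S3643
import Cfsg.Agent.Lib.M12Order.DegGraph
import Cfsg.Agent.Lib.M12Order.Degrees
-- import your own Cfsg.Agent.* helpers here

set_option autoImplicit false
open Cfsg

namespace Cfsg.Agent.S3643

/-- Let G be a finite group of the same order as the Mathieu group M₁₂ whose character degree graph equals that of M₁₂ (same primes dividing some irreducible complex character degree, same pairs of distinct primes whose product divides some degree). Then G is isomorphic to M₁₂ or to the direct product of the alternating group of degree 4 with M₁₁. -/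
theorem result {G : Type*} [Group G] [Finite G] (hcard : Nat.card G = Nat.card ↥Cfsg.Spor.M12) (hΔ : Cfsg.degreePrimes G = Cfsg.degreePrimes ↥Cfsg.Spor.M12 ∧ Cfsg.degreeGraph G = Cfsg.degreeGraph ↥Cfsg.Spor.M12) :
    Nonempty (G ≃* ↥Cfsg.Spor.M12) ∨ Nonempty (G ≃* alternatingGroup (Fin 4) × ↥Cfsg.Spor.M11) := by
  obtain ⟨e⟩ := CfsgLib.M12Order.nonempty_m12_stab CfsgLib.M12Recog.dodN_mem
  have hn : Nat.card ↥Cfsg.Spor.M12 = 95040 :=
    (Nat.card_congr e.toEquiv).trans (CfsgLib.Golay.natCard_stab_dodecad CfsgLib.M12Recog.dodN_mem)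
  haveI : Fact (Nat.Prime 11) := ⟨by norm_num⟩
  obtain ⟨⟨a, ha⟩, b, hb⟩ := CfsgLib.M12Order.m12_degrees
  have transfer : ∀ p q : ℕ, p ≠ q → p.Prime → q.Prime → ∀ ψ : Cfsg.IrrCharacter ↥Cfsg.Spor.M12,
      p * q ∣ Cfsg.charDegree (ψ : ↥Cfsg.Spor.M12 → ℂ) →
      ∃ χ : Cfsg.IrrCharacter G, p * q ∣ Cfsg.charDegree (χ : G → ℂ) := by
    intro p q hpq hp hq ψ hψ
    have h : (Cfsg.degreeGraph ↥Cfsg.Spor.M12).Adj p q := ⟨hpq, hp, hq, _, ⟨ψ, rfl⟩, hψ⟩
    rw [← hΔ.2] at h
    obtain ⟨-, -, -, d, ⟨χ, rfl⟩, hd⟩ := h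
    exact ⟨χ, hd⟩
  obtain ⟨χ₁, h₁⟩ := transfer 5 11 (by norm_num) (by norm_num) (by norm_num) a (by norm_num; exact ha)
  obtain ⟨χ₂, h₂⟩ := transfer 3 11 (by norm_num) (by norm_num) (by norm_num) b (by norm_num; exact hb)
  exact CfsgLib.M12Order.DegGraph.main (hcard.trans hn) (by norm_num at h₁; exact h₁)
    (by norm_num at h₂; exact h₂)

end Cfsg.Agent.S3643
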