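import Cfsg.Statements.S3648
import Cfsg.Agent.Lib.PGLNse.Model

set_option autoImplicit false
open Cfsg

namespace Cfsg.Agent.S3648

/-- For a finite group X let nse(X) be the set of values of the function 'number of elements of order k' over the element orders k that occur. Let F be a finite field of odd order q > 3 and P = PGL(2, F) = GL(2, F) modulo its centre. If G is a finite group with the same order as P and nse(G) = nse(P), then G is isomorphic to P. -/
theorem result {F : Type*} [Field F] [Fintype F] (hodd : Odd (Fintype.card F)) (h3 : 3 < Fintype.card F)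
    {G : Type*} [Group G] [Finite G] (hcard : Nat.card G = Nat.card (GL (Fin 2) F ⧸ Subgroup.center (GL (Fin 2) F)))
    (hnse : {c : ℕ | 0 < c ∧ ∃ n : ℕ, c = Nat.card {g : G // orderOf g = n}} = {c : ℕ | 0 < c ∧ ∃ n : ℕ, c = Nat.card {g : (GL (Fin 2) F ⧸ Subgroup.center (GL (Fin 2) F)) // orderOf g = n}}) :
    Nonempty (G ≃* (GL (Fin 2) F ⧸ Subgroup.center (GL (Fin 2) F))) := by
  obtain ⟨K, iK, fK, hK, ⟨e⟩⟩ := CfsgLib.PGLNse.iso_of_nse (F := F) (G := G)
    (by rwa [Nat.card_eq_fintype_card]) (by rwa [Nat.card_eq_fintype_card]) hcard hnse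
  let σ : K ≃+* F := FiniteField.ringEquivOfCardEq (hK.trans Nat.card_eq_fintype_card)
  let m : GL (Fin 2) K ≃* GL (Fin 2) F := Units.mapEquiv σ.mapMatrix.toMulEquiv
  have hm : (Subgroup.center (GL (Fin 2) K)).map (m : GL (Fin 2) K →* GL (Fin 2) F) =
      Subgroup.center (GL (Fin 2) F) := by
    ext x
    simp only [Subgroup.mem_map, Subgroup.mem_center_iff]
    refine ⟨?_, fun hx => ⟨m.symm x, fun y => m.injective ?_, m.apply_symm_apply x⟩⟩
    · rintro ⟨a, ha, rfl⟩ y
      obtain ⟨b, rfl⟩ := m.surjective y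
      show m b * m a = m a * m b
      rw [← map_mul, ← map_mul, ha]
    · rw [map_mul, map_mul, MulEquiv.apply_symm_apply]; exact hx _
  exact ⟨e.trans (QuotientGroup.congr _ _ m hm)⟩

end Cfsg.Agent.S3648
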