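import Cfsg.Statements.S3664
import Mathlib
import Cfsg.Agent.Lib.Suzuki.EightGraph
import Cfsg.Agent.Lib.Classical.SpSixThreeGraph
import Cfsg.Agent.Lib.Classical.SpSixThreeElements
import Cfsg.Agent.Lib.Classical.SympOrder

set_option autoImplicit false
set_option linter.unusedSectionVars false
set_option linter.style.haveILetI false
open Cfsg

namespace Cfsg.Agent.S3664

open Matrix CfsgLib.SpSixThree

section Proj

universe u

variable {F : Type u} [Field F] [Fintype F]

local notation "Sp6" => Matrix.symplecticGroup (Fin 3) F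
local notation "π" => QuotientGroup.mk' (Subgroup.center (Matrix.symplecticGroup (Fin 3) F))

theorem mem_center_of_sign {g : Sp6} (h : mt g = 1 ∨ mt g = -1) : π g = 1 := by
  rw [QuotientGroup.mk'_apply, QuotientGroup.eq_one_iff, CfsgLib.FormRep.Symplectic.center_iff]
  rcases h with h | h
  · exact ⟨1, by rw [one_smul]; exact h⟩
  · exact ⟨-1, by rw [neg_one_smul]; exact h⟩

theorem exists_order (hF : Fintype.card F = 3) {A : Z6} {m : ℕ} (hm : 0 < m)
    (hA : A * Matrix.J (Fin 3) (ZMod 3) * Aᵀ = Matrix.J (Fin 3) (ZMod 3))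
    (hp : A ^ m = 1 ∨ A ^ m = -1) (hne : ∀ p : ℕ, p.Prime → p ∣ m → NotScalar (A ^ (m / p))) :
    ∃ g : Cfsg.PSp 3 F, orderOf g = m := by
  haveI := charP_three hF
  haveI := Fact.mk Nat.prime_three
  let ι : ZMod 3 →+* F := ZMod.castHom (dvd_refl 3) F
  have hbij : Function.Bijective ι := (Fintype.bijective_iff_injective_and_card _).2
    ⟨ι.injective, by rw [ZMod.card, hF]⟩
  have hJ : (Matrix.J (Fin 3) (ZMod 3)).map ι = Matrix.J (Fin 3) F := by
    ext (i | i) (j | j) <;> simp [Matrix.J, Matrix.one_apply, apply_ite ι]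
  have hg : ι.mapMatrix A ∈ Sp6 := by
    rw [SymplecticGroup.mem_iff, ← hJ]
    have h := congrArg ι.mapMatrix hA
    rw [map_mul, map_mul] at h
    exact h
  let g : Sp6 := ⟨ι.mapMatrix A, hg⟩
  refine ⟨π g, orderOf_eq_of_pow_and_pow_div_prime hm ?_ ?_⟩
  · rw [← map_pow]
    refine mem_center_of_sign ?_
    rw [mt_pow, show mt g = ι.mapMatrix A from rfl, ← map_pow]
    rcases hp with h | h
    · exact Or.inl (by rw [h, map_one])
    · exact Or.inr (by rw [h, map_neg, map_one])
  · intro p hpp hpm h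
    rw [← map_pow, QuotientGroup.mk'_apply, QuotientGroup.eq_one_iff,
      CfsgLib.FormRep.Symplectic.center_iff] at h
    obtain ⟨c, hc⟩ := h
    obtain ⟨d, rfl⟩ := hbij.2 c
    refine hne p hpp hpm d (Matrix.map_injective ι.injective ?_)
    have h1 : mt (g ^ (m / p)) = ι d • 1 := hc
    rw [mt_pow, show mt g = ι.mapMatrix A from rfl, ← map_pow] at h1
    refine h1.trans ?_
    ext i j
    by_cases hij : i = j <;> simp [Matrix.one_apply, hij]

theorem no_order (hF : Fintype.card F = 3) {r s : ℕ} (hr : r.Prime) (hrs : r < s) (hs : s = 7 ∨ s = 13)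
    (h14 : s = 7 → r ≠ 2) (y : Cfsg.PSp 3 F) : orderOf y ≠ r * s := by
  intro hy
  obtain ⟨g, rfl⟩ := QuotientGroup.mk'_surjective _ y
  have hsp : s.Prime := by rcases hs with rfl | rfl <;> norm_num
  have hc : π g ^ (r * s) = 1 := hy ▸ pow_orderOf_eq_one _
  rw [← map_pow, QuotientGroup.mk'_apply, QuotientGroup.eq_one_iff, CfsgLib.FormRep.Symplectic.center_iff] at hc
  obtain ⟨c, hc⟩ := hc
  have hc' : mt (g ^ (r * s)) = c • 1 := hc
  have hsq : g ^ (2 * (r * s)) = 1 := by
    refine mt_injective ?_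
    have h := bil_mt (g ^ (r * s)) (Pi.single (Sum.inl 0) 1) (Pi.single (Sum.inr 0) 1)
    rw [hc', smul_mulVec, smul_mulVec, one_mulVec, one_mulVec, map_smul, map_smul, LinearMap.smul_apply,
      smul_eq_mul, smul_eq_mul] at h
    have hb : bil F (Pi.single (Sum.inl 0) 1) (Pi.single (Sum.inr 0) 1) = -1 := by
      rw [bil_apply, Matrix.mulVec_single_one, single_one_dotProduct]
      simp [Matrix.J]
    rw [hb] at h
    have hc2 : c * c = 1 := by linear_combination -h
    rw [mul_comm 2, pow_mul, sq, mt_mul, hc', smul_mul_smul_comm, hc2, one_smul, Matrix.mul_one, mt_one]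
  set x := g ^ (2 * r) with hx
  have hxs : x ^ s = 1 := by rw [hx, ← pow_mul, mul_assoc, hsq]
  have hxo : orderOf x = s := by
    haveI := Fact.mk hsp
    refine orderOf_eq_prime hxs fun h => ?_
    have h' : π g ^ (2 * r) = 1 := by rw [← map_pow, ← hx, h, map_one]
    have := Nat.le_of_dvd (by have := hr.pos; omega) (hy ▸ orderOf_dvd_of_pow_eq_one h')
    have h3 : 3 * r ≤ r * s := by rw [mul_comm r s]; exact Nat.mul_le_mul_right r (by omega)
    have := hr.pos
    omega
  have hcm : Commute g x := Commute.self_pow g _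
  rcases hs with rfl | rfl
  · have h := congrArg π (cent_seven hF hxo hcm)
    rw [map_pow, map_one] at h
    have hd : r * 7 ∣ 4 * 7 := hy ▸ orderOf_dvd_of_pow_eq_one h
    have hd' := Nat.dvd_of_mul_dvd_mul_right (by norm_num) hd
    exact h14 rfl ((Nat.prime_dvd_prime_iff_eq hr Nat.prime_two).1
      (hr.dvd_of_dvd_pow (show r ∣ 2 ^ 2 by simpa using hd')))
  · have h := mem_center_of_sign (cent_thirteen hF hxo hcm)
    rw [map_pow] at h
    have := Nat.le_of_dvd (by norm_num) (hy ▸ orderOf_dvd_of_pow_eq_one h)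
    have := hr.two_le
    omega

theorem order6 (hF : Fintype.card F = 3) : ∃ g : Cfsg.PSp 3 F, orderOf g = 6 :=
  exists_order hF (A := A6) (by norm_num) A6_spec.1 (Or.inl A6_spec.2.1) fun p hp hd => by
    rcases (hp.dvd_mul).1 (show p ∣ 2 * 3 from hd) with h | h
    · rw [(Nat.prime_dvd_prime_iff_eq hp (by norm_num)).1 h]; exact A6_spec.2.2.2
    · rw [(Nat.prime_dvd_prime_iff_eq hp (by norm_num)).1 h]; exact A6_spec.2.2.1

theorem order10 (hF : Fintype.card F = 3) : ∃ g : Cfsg.PSp 3 F, orderOf g = 10 :=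
  exists_order hF (A := A10) (by norm_num) A10_spec.1 (Or.inl A10_spec.2.1) fun p hp hd => by
    rcases (hp.dvd_mul).1 (show p ∣ 2 * 5 from hd) with h | h
    · rw [(Nat.prime_dvd_prime_iff_eq hp (by norm_num)).1 h]; exact A10_spec.2.2.2
    · rw [(Nat.prime_dvd_prime_iff_eq hp (by norm_num)).1 h]; exact A10_spec.2.2.1

theorem order14 (hF : Fintype.card F = 3) : ∃ g : Cfsg.PSp 3 F, orderOf g = 14 :=
  exists_order hF (A := A14) (by norm_num) A14_spec.1 (Or.inr A14_spec.2.1) fun p hp hd => by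
    rcases (hp.dvd_mul).1 (show p ∣ 2 * 7 from hd) with h | h
    · rw [(Nat.prime_dvd_prime_iff_eq hp (by norm_num)).1 h]; exact A14_spec.2.2.2
    · rw [(Nat.prime_dvd_prime_iff_eq hp (by norm_num)).1 h]; exact A14_spec.2.2.1

theorem order15 (hF : Fintype.card F = 3) : ∃ g : Cfsg.PSp 3 F, orderOf g = 15 :=
  exists_order hF (A := A15) (by norm_num) A15_spec.1 (Or.inl A15_spec.2.1) fun p hp hd => by
    rcases (hp.dvd_mul).1 (show p ∣ 3 * 5 from hd) with h | h
    · rw [(Nat.prime_dvd_prime_iff_eq hp (by norm_num)).1 h]; exact A15_spec.2.2.2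
    · rw [(Nat.prime_dvd_prime_iff_eq hp (by norm_num)).1 h]; exact A15_spec.2.2.1

theorem order13 (hF : Fintype.card F = 3) : ∃ g : Cfsg.PSp 3 F, orderOf g = 13 :=
  exists_order hF (A := A13) (by norm_num) A13_spec.1 (Or.inr A13_spec.2.1) fun p hp hd => by
    rw [(Nat.prime_dvd_prime_iff_eq hp (by norm_num)).1 hd]; exact A13_spec.2.2

theorem prime_dvd_iff (hF : Fintype.card F = 3) {p : ℕ} (hp : p.Prime) :
    p ∣ Nat.card (Cfsg.PSp 3 F) ↔ p = 2 ∨ p = 3 ∨ p = 5 ∨ p = 7 ∨ p = 13 := by
  constructor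
  · intro h
    have h1 : p ∣ Nat.card Sp6 := h.trans (Subgroup.card_quotient_dvd_card _)
    rw [CfsgLib.Classical.SympTrans.card_symplectic, Nat.card_eq_fintype_card, hF] at h1
    simp only [Finset.prod_range_succ, Finset.prod_range_zero] at h1
    norm_num at h1
    have h2 : p ∣ 2 * 3 * 5 * 7 * 13 := by
      have h3 : p ∈ Nat.primeFactors 9170703360 := Nat.mem_primeFactors.2 ⟨hp, h1, by norm_num⟩
      have h4 : 9170703360 ∣ (2 * 3 * 5 * 7 * 13) ^ 11 := by norm_num
      exact hp.dvd_of_dvd_pow ((Nat.dvd_of_mem_primeFactors h3).trans h4)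
    simp only [hp.dvd_mul] at h2
    rcases h2 with (((h | h) | h) | h) | h <;>
      simp [(Nat.prime_dvd_prime_iff_eq hp (by norm_num)).1 h]
  · have key : ∀ {q m : ℕ}, q ∣ m → (∃ g : Cfsg.PSp 3 F, orderOf g = m) → q ∣ Nat.card (Cfsg.PSp 3 F) :=
      fun hq ⟨g, hg⟩ => hq.trans (hg ▸ orderOf_dvd_natCard g)
    rintro (rfl | rfl | rfl | rfl | rfl)
    exacts [key (by norm_num) (order10 hF), key (by norm_num) (order15 hF), key (by norm_num) (order10 hF),
      key (by norm_num) (order14 hF), key (by norm_num) (order13 hF)]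

theorem exists_order_iff (hF : Fintype.card F = 3) {r s : ℕ} (hr : r.Prime) (hs : s.Prime) (hrs : r < s) :
    (∃ y : Cfsg.PSp 3 F, orderOf y = r * s) ↔
      (r, s) = (2, 3) ∨ (r, s) = (2, 5) ∨ (r, s) = (2, 7) ∨ (r, s) = (3, 5) := by
  constructor
  · rintro ⟨y, hy⟩
    have hd : ∀ {p}, p ∣ r * s → p ∣ Nat.card (Cfsg.PSp 3 F) := fun h =>
      h.trans (hy ▸ orderOf_dvd_natCard y)
    have hr' := (prime_dvd_iff hF hr).1 (hd (dvd_mul_right r s))
    have hs' := (prime_dvd_iff hF hs).1 (hd (dvd_mul_left s r))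
    rcases hr' with rfl | rfl | rfl | rfl | rfl <;> rcases hs' with rfl | rfl | rfl | rfl | rfl <;>
      first
        | omega
        | (simp; done)
        | exact absurd hy (no_order hF hr hrs (by norm_num) (by norm_num) y)
  · simp only [Prod.mk.injEq]
    rintro (⟨rfl, rfl⟩ | ⟨rfl, rfl⟩ | ⟨rfl, rfl⟩ | ⟨rfl, rfl⟩)
    exacts [order6 hF, order10 hF, order14 hF, order15 hF]

end Proj

theorem lt_pow_succ (N : ℕ) {b : ℕ} (hb : 2 ≤ b) : N < b ^ (N + 1) :=
  Nat.lt_two_pow_self.trans_le ((Nat.pow_le_pow_left hb N).trans (Nat.pow_le_pow_right (by omega) (by omega)))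

/-- The prime graph of a finite group has the prime divisors of its order as vertices, two distinct primes p, q being joined when the group has an element of order pq; two groups have the same prime graph when they have the same prime divisors and the same joined pairs. Let F be the field with 3 elements and L = PSp(6,F). There are finite groups of arbitrarily large order with the same prime graph as L (a prime graph shared by the orthogonal groups Ω₇(3) and PΩ⁺₈(3)). -/
theorem result {F : Type*} [Field F] [Fintype F] (hF : Fintype.card F = 3) (N : ℕ) :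
    ∃ (H : Type) (_ : Group H) (_ : Finite H), N < Nat.card H ∧
      ((∀ p : ℕ, p.Prime → (p ∣ Nat.card (Cfsg.PSp 3 F) ↔ p ∣ Nat.card H)) ∧
      (∀ p q : ℕ, p.Prime → q.Prime → p ≠ q → ((∃ g : (Cfsg.PSp 3 F), orderOf g = p * q) ↔ (∃ g : H, orderOf g = p * q)))) := by
  haveI : Fintype (GaloisField 2 3) := Fintype.ofFinite _
  haveI : CfsgLib.Suzuki.Param (GaloisField 2 3) 1 :=
    ⟨le_rfl, by rw [← Nat.card_eq_fintype_card, GaloisField.card 2 3 (by norm_num)]⟩
  refine ⟨CfsgLib.SuzukiEight.Ext (GaloisField 2 3) (N + 1), inferInstance, inferInstance, ?_,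
    fun p hp => (prime_dvd_iff hF hp).trans (CfsgLib.SuzukiEight.prime_dvd_ext hp).symm, ?_⟩
  · rw [CfsgLib.SuzukiEight.natCard_ext]
    refine (Nat.le_mul_of_pos_right _ (by norm_num)).trans_lt' ?_
    rw [pow_mul]
    exact lt_pow_succ N (by norm_num)
  · intro p q hp hq hne
    have key : ∀ {a b : ℕ}, a.Prime → b.Prime → a < b →
        ((∃ g : Cfsg.PSp 3 F, orderOf g = a * b) ↔
          ∃ g : CfsgLib.SuzukiEight.Ext (GaloisField 2 3) (N + 1), orderOf g = a * b) := fun ha hb hab =>
      (exists_order_iff hF ha hb hab).trans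
        (CfsgLib.SuzukiEight.exists_order_iff (by omega) ha hb hab).symm
    rcases lt_or_gt_of_ne hne with h | h
    · exact key hp hq h
    · simpa only [mul_comm p q] using key hq hp h

end Cfsg.Agent.S3664
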