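import Cfsg.Statements.S3668
import Cfsg.Agent.Lib.SmallSimpleGraph.Main
import Cfsg.Agent.Lib.SmallSimpleGraph.FiveSixUnique
import Cfsg.Agent.S0494
import Cfsg.Agent.S0495
import Cfsg.Agent.S0497
import Cfsg.Agent.S0498
import Cfsg.Agent.S0981
import Cfsg.Agent.S0984
import Cfsg.Agent.S1011
import Cfsg.Agent.S1020
import Cfsg.Agent.S1021

set_option autoImplicit false
open Cfsg

namespace Cfsg.Agent.S3668

open CfsgLib.SmallSimpleGraph

theorem iso_of_orders {S : Type*} [Group S] [Finite S] [IsSimpleGroup S] {G : Type*} [Group G] [Finite G]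
    [IsSimpleGroup G] (hS : Nat.card S ∈ smallOrders) (h : Nat.card G = Nat.card S) : Nonempty (G ≃* S) := by
  simp only [smallOrders, List.mem_cons, List.not_mem_nil, or_false] at hS
  rcases hS with e | e | e | e | e | e | e | e | e | e | e
  · obtain ⟨a⟩ := Cfsg.Agent.S0494.result (h.trans e)
    obtain ⟨b⟩ := Cfsg.Agent.S0494.result e
    exact ⟨a.trans b.symm⟩
  · haveI : Fact (Nat.Prime 7) := ⟨by norm_num⟩
    obtain ⟨a⟩ := Cfsg.Agent.S0495.result (h.trans e) (F := ZMod 7) (by simp)
    obtain ⟨b⟩ := Cfsg.Agent.S0495.result e (F := ZMod 7) (by simp)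
    exact ⟨a.trans b.symm⟩
  · obtain ⟨a⟩ := Cfsg.Agent.S0497.result (h.trans e)
    obtain ⟨b⟩ := Cfsg.Agent.S0497.result e
    exact ⟨a.trans b.symm⟩
  · letI : Fintype (GaloisField 2 3) := Fintype.ofFinite _
    have hF : Fintype.card (GaloisField 2 3) = 8 := by
      rw [← Nat.card_eq_fintype_card, GaloisField.card 2 3 (by norm_num)]; norm_num
    obtain ⟨a⟩ := Cfsg.Agent.S1011.result (h.trans e) hF
    obtain ⟨b⟩ := Cfsg.Agent.S1011.result e hF
    exact ⟨a.trans b.symm⟩
  · haveI : Fact (Nat.Prime 11) := ⟨by norm_num⟩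
    obtain ⟨a⟩ := Cfsg.Agent.S0498.result 11 (Or.inl rfl) (by rw [h.trans e]; norm_num) (F := ZMod 11) (G := G) (by simp)
    obtain ⟨b⟩ := Cfsg.Agent.S0498.result 11 (Or.inl rfl) (by rw [e]; norm_num) (F := ZMod 11) (G := S) (by simp)
    exact ⟨a.trans b.symm⟩
  · haveI : Fact (Nat.Prime 13) := ⟨by norm_num⟩
    obtain ⟨a⟩ := Cfsg.Agent.S0498.result 13 (Or.inr rfl) (by rw [h.trans e]; norm_num) (F := ZMod 13) (G := G) (by simp)
    obtain ⟨b⟩ := Cfsg.Agent.S0498.result 13 (Or.inr rfl) (by rw [e]; norm_num) (F := ZMod 13) (G := S) (by simp)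
    exact ⟨a.trans b.symm⟩
  · haveI : Fact (Nat.Prime 17) := ⟨by norm_num⟩
    obtain ⟨a⟩ := Cfsg.Agent.S1020.result (h.trans e) (F := ZMod 17) (by simp)
    obtain ⟨b⟩ := Cfsg.Agent.S1020.result e (F := ZMod 17) (by simp)
    exact ⟨a.trans b.symm⟩
  · obtain ⟨a⟩ := Cfsg.Agent.S0984.result (h.trans e)
    obtain ⟨b⟩ := Cfsg.Agent.S0984.result e
    exact ⟨a.trans b.symm⟩
  · haveI : Fact (Nat.Prime 19) := ⟨by norm_num⟩
    obtain ⟨a⟩ := Cfsg.Agent.S1021.result (h.trans e) (F := ZMod 19) (by simp)
    obtain ⟨b⟩ := Cfsg.Agent.S1021.result e (F := ZMod 19) (by simp)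
    exact ⟨a.trans b.symm⟩
  · letI : Fintype (GaloisField 2 4) := Fintype.ofFinite _
    have hF : Fintype.card (GaloisField 2 4) = 16 := by
      rw [← Nat.card_eq_fintype_card, GaloisField.card 2 4 (by norm_num)]; norm_num
    obtain ⟨a⟩ := Cfsg.Agent.S0981.result (h.trans e) hF
    obtain ⟨b⟩ := Cfsg.Agent.S0981.result e hF
    exact ⟨a.trans b.symm⟩
  · obtain ⟨a⟩ := iso_5616 (h.trans e)
    obtain ⟨b⟩ := iso_5616 e
    exact ⟨a.trans b.symm⟩

/-- The character degree graph of a finite group has as vertices the primes dividing some irreducible complex character degree, two distinct primes being joined when their product divides some irreducible character degree; two groups have the same character degree graph when they have the same vertices and the same joined pairs. Let S be a finite non-abelian simple group of order less than 6000. If a finite group G has the same order as S and the same character degree graph as S, then G is isomorphic to S. -/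
theorem result {S : Type*} [Group S] [Finite S] [IsSimpleGroup S] (hS : ¬ IsMulCommutative S)
    (hlt : Nat.card S < 6000) {G : Type*} [Group G] [Finite G] (hcard : Nat.card G = Nat.card S) (hΓ : Cfsg.degreePrimes G = Cfsg.degreePrimes S ∧ Cfsg.degreeGraph G = Cfsg.degreeGraph S) :
    Nonempty (G ≃* S) := by
  have hmem : Nat.card S ∈ smallOrders := orders_lt_6000 hS hlt
  haveI := isSimpleGroup_of_graph hmem hcard hΓ.1 hΓ.2
  exact iso_of_orders hmem hcard

end Cfsg.Agent.S3668
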