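import Cfsg.Statements.S3669
import Mathlib
import Cfsg.Agent.S0494
import Cfsg.Agent.Lib.Char.ItoMichler
import Cfsg.Agent.Lib.Char.Counting
import Cfsg.Agent.Lib.Hall.Basic
import Cfsg.Agent.Lib.Classical.A8Subgroups
-- import your own Cfsg.Agent.* helpers here

set_option autoImplicit false
open Cfsg

namespace Cfsg.Agent.S3669

open CfsgLib
open scoped CfsgLib.Char

theorem commuting_pairs :
    Fintype.card {p : alternatingGroup (Fin 5) × alternatingGroup (Fin 5) // p.1 * p.2 = p.2 * p.1} = 300 := by
  decide +kernel

theorem card_classes : Nat.card (ConjClasses (alternatingGroup (Fin 5))) = 5 := by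
  have h := card_comm_eq_card_conjClasses_mul_card (alternatingGroup (Fin 5))
  have h60 : Nat.card (alternatingGroup (Fin 5)) = 60 := by
    rw [Nat.card_eq_fintype_card]; decide +kernel
  have h2 : Nat.card { p : alternatingGroup (Fin 5) × alternatingGroup (Fin 5) // Commute p.1 p.2 } = 300 := by
    rw [show Nat.card { p : alternatingGroup (Fin 5) × alternatingGroup (Fin 5) // Commute p.1 p.2 } =
      Nat.card {p : alternatingGroup (Fin 5) × alternatingGroup (Fin 5) // p.1 * p.2 = p.2 * p.1} from rfl,
      Nat.card_eq_fintype_card]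
    exact commuting_pairs
  rw [h2, h60] at h
  omega

theorem commutator_top : commutator (alternatingGroup (Fin 5)) = ⊤ := by
  haveI : IsSimpleGroup (alternatingGroup (Fin 5)) :=
    alternatingGroup.isSimpleGroup (by norm_num)
  rcases (inferInstance : (commutator (alternatingGroup (Fin 5))).Normal).eq_bot_or_eq_top with h | h
  · exfalso
    have hc : ∀ a b : alternatingGroup (Fin 5), a * b = b * a := fun a b => by
      have := Subgroup.commutator_mem_commutator (Subgroup.mem_top a) (Subgroup.mem_top b)
      rw [commutator_def] at h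
      rw [h, Subgroup.mem_bot] at this
      exact commutatorElement_eq_one_iff_mul_comm.mp this
    have hcard := Fintype.card_congr (Equiv.subtypeUnivEquiv
      (p := fun p : alternatingGroup (Fin 5) × alternatingGroup (Fin 5) => p.1 * p.2 = p.2 * p.1)
      fun p => hc p.1 p.2)
    rw [commuting_pairs, Fintype.card_prod,
      show Fintype.card (alternatingGroup (Fin 5)) = 60 from by decide +kernel] at hcard
    omega
  · exact h

theorem five_degree : 5 ∈ Cfsg.degreePrimes (alternatingGroup (Fin 5)) := by
  classical
  let G := alternatingGroup (Fin 5)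
  have hk : Fintype.card (IrrCharacter G) = 5 := by
    rw [← Nat.card_eq_fintype_card, Char.card_irr_eq_card_conjClasses, card_classes]
  have hG : Nat.card G = 60 := by rw [Nat.card_eq_fintype_card]; decide +kernel
  have hdeg : ∀ χ : IrrCharacter G, ∃ d : ℕ, (χ : G → ℂ) 1 = d ∧ d ∣ 60 ∧ Cfsg.charDegree (χ : G → ℂ) = d := by
    intro χ
    obtain ⟨d, h1, -, h3⟩ := Char.exists_degree_dvd_card χ.2
    exact ⟨d, h1, hG ▸ h3, Char.Extraspecial.charDegree_eq h1⟩
  choose d hd1 hd2 hd3 using hdeg
  by_contra hno
  have h5 : ∀ χ, ¬ 5 ∣ d χ := fun χ h =>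
    hno ⟨Nat.prime_five, d χ, ⟨χ, hd3 χ⟩, h⟩
  have hsum : ∑ χ : IrrCharacter G, d χ * d χ = 60 := by
    have h := Char.sum_degree_mul_irr (1 : G)
    rw [if_pos rfl, hG, Finset.sum_congr rfl fun χ _ => by rw [hd1 χ]] at h
    exact_mod_cast h
  have hone : (Finset.univ.filter fun χ : IrrCharacter G => d χ = 1).card = 1 := by
    have h := Char.card_linear (G := G)
    rw [commutator_top, Subgroup.index_top, Nat.card_eq_fintype_card, Fintype.card_subtype] at h
    refine Eq.trans ?_ h
    congr 1
    ext χ
    simp only [Finset.mem_filter, Finset.mem_univ, true_and, hd1]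
    exact Nat.cast_eq_one.symm
  have hrest : (Finset.univ.filter fun χ : IrrCharacter G => ¬ d χ = 1).card = 4 := by
    have := Finset.card_filter_add_card_filter_not (s := (Finset.univ : Finset (IrrCharacter G)))
      (p := fun χ => d χ = 1)
    rw [hone, Finset.card_univ, hk] at this
    omega
  rw [← Finset.sum_filter_add_sum_filter_not Finset.univ (fun χ => d χ = 1)] at hsum
  rw [Finset.sum_congr rfl (fun χ hχ => by rw [(Finset.mem_filter.mp hχ).2]), Finset.sum_const, hone] at hsum
  obtain ⟨a, b, c, e, hab, hac, hae, hbc, hbe, hce, heq⟩ := Finset.card_eq_four.mp hrest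
  rw [heq] at hsum
  simp [hab, hac, hae, hbc, hbe, hce] at hsum
  have key : ∀ χ, χ ∈ ({a, b, c, e} : Finset (IrrCharacter G)) → d χ ∈ ({2, 3, 4, 6} : Finset ℕ) := by
    intro χ hχ
    have hne : d χ ≠ 1 := by
      rw [← heq] at hχ
      exact (Finset.mem_filter.mp hχ).2
    have hle : d χ ≤ 7 := by
      simp only [Finset.mem_insert, Finset.mem_singleton] at hχ
      by_contra hgt
      have h8 : 8 * 8 ≤ d χ * d χ := Nat.mul_le_mul (by omega) (by omega)
      rcases hχ with rfl | rfl | rfl | rfl <;> omega
    have h60 := hd2 χ
    have h5' := h5 χ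
    generalize d χ = x at hne hle h60 h5'
    interval_cases x <;> simp_all
  have ha := key a (by simp)
  have hb := key b (by simp)
  have hc := key c (by simp)
  have he := key e (by simp)
  simp only [Finset.mem_insert, Finset.mem_singleton] at ha hb hc he
  rcases ha with ha | ha | ha | ha <;> rw [ha] at hsum <;>
    rcases hb with hb | hb | hb | hb <;> rw [hb] at hsum <;>
      rcases hc with hc | hc | hc | hc <;> rw [hc] at hsum <;>
        rcases he with he | he | he | he <;> rw [he] at hsum <;> omega


/-- The character degree graph of a finite group has as vertices the primes dividing some irreducible complex character degree, two distinct primes being joined when their product divides some irreducible character degree; two groups have the same character degree graph when they have the same vertices and the same joined pairs. A finite group of order 60 with the same character degree graph as the alternating group A₅ (whose character degrees are 1, 3, 4, 5, so the graph has vertices 2, 3, 5 and no edges) is isomorphic to A₅. -/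
theorem result {G : Type*} [Group G] [Finite G] (hcard : Nat.card G = 60)
    (hΓ : Cfsg.degreePrimes G = Cfsg.degreePrimes (alternatingGroup (Fin 5)) ∧ Cfsg.degreeGraph G = Cfsg.degreeGraph (alternatingGroup (Fin 5))) : Nonempty (G ≃* alternatingGroup (Fin 5)) := by
  classical
  haveI : Fact (Nat.Prime 5) := ⟨Nat.prime_five⟩
  have h5 : 5 ∈ Cfsg.degreePrimes G := hΓ.1 ▸ five_degree
  obtain ⟨-, d, ⟨χ, hχ⟩, hd⟩ := h5
  have hnormal : ∀ P : Sylow 5 G, ¬ (P : Subgroup G).Normal := by
    intro P hP
    haveI := hP
    have hPc : Nat.card (P : Subgroup G) = 5 := by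
      rw [P.card_eq_multiplicity, hcard]; decide +kernel
    haveI : IsCyclic (P : Subgroup G) := isCyclic_of_prime_card hPc
    obtain ⟨n, hn1, -, -⟩ := Char.exists_degree_dvd_card χ.2
    have hdn : d = n := hχ ▸ Char.Extraspecial.charDegree_eq hn1
    have hidx : (P : Subgroup G).index = 12 := by
      have := (P : Subgroup G).card_mul_index
      rw [hPc, hcard] at this
      omega
    have hdvd := Char.Extraspecial.ito χ.2 (P : Subgroup G) (fun a ha b hb => by
      exact congrArg Subtype.val ((IsCyclic.commGroup (α := (P : Subgroup G))).mul_comm ⟨a, ha⟩ ⟨b, hb⟩)) hn1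
    rw [hidx] at hdvd
    have := (hdn ▸ hd).trans hdvd
    omega
  have hns : ¬ Group.IsSolvable G := by
    intro hs
    haveI := hs
    obtain ⟨H, hH⟩ := Hall.exists_hall (G := G) (m := 15) (n := 4) (by rw [hcard]) (by norm_num)
    let Q : Sylow 5 H := default
    have hQc : Nat.card (Q : Subgroup H) = 5 := by
      rw [Q.card_eq_multiplicity, hH]; decide +kernel
    have hQn : (Q : Subgroup H).Normal := by
      have hd1 : Nat.card (Sylow 5 H) ∣ 3 := by
        have h1 := Sylow.card_dvd_index Q
        have h2 := (Q : Subgroup H).card_mul_index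
        rw [hQc, hH] at h2
        rwa [show (Q : Subgroup H).index = 3 by omega] at h1
      have hm : Nat.card (Sylow 5 H) ≡ 1 [MOD 5] := card_sylow_modEq_one 5 H
      have h1 : Nat.card (Sylow 5 H) = 1 := by
        rcases (Nat.dvd_prime Nat.prime_three).mp hd1 with h | h
        · exact h
        · rw [h] at hm
          exact absurd hm (by decide)
      haveI := (Nat.card_eq_one_iff_unique.mp h1).1
      exact Sylow.normal_of_subsingleton Q
    have hPc : Nat.card ↥((Q : Subgroup H).map H.subtype) = 5 ^ (Nat.card G).factorization 5 := by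
      rw [Subgroup.card_map_of_injective H.subtype_injective, hQc, hcard]
      decide +kernel
    let P : Sylow 5 G := Sylow.ofCard _ hPc
    apply hnormal P
    have hle : H ≤ Subgroup.normalizer ((P : Subgroup G) : Set G) := by
      intro h hh
      refine Subgroup.mem_normalizer_fintype fun x hx => ?_
      have hx' : x ∈ (Q : Subgroup H).map H.subtype := hx
      obtain ⟨y, hy, rfl⟩ := hx'
      exact ⟨_, hQn.conj_mem y hy ⟨h, hh⟩, rfl⟩
    have hi : Nat.card (Sylow 5 G) ∣ 4 := by
      rw [Sylow.card_eq_index_normalizer P]
      have h1 := H.card_mul_index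
      rw [hH, hcard] at h1
      exact (Subgroup.index_dvd_of_le hle).trans (by rw [show H.index = 4 by omega])
    have hm : Nat.card (Sylow 5 G) ≡ 1 [MOD 5] := card_sylow_modEq_one 5 G
    have h1 : Nat.card (Sylow 5 G) = 1 := by
      have := Nat.le_of_dvd (by norm_num) hi
      have h0 : 0 < Nat.card (Sylow 5 G) := Nat.card_pos
      unfold Nat.ModEq at hm
      omega
    haveI := (Nat.card_eq_one_iff_unique.mp h1).1
    exact Sylow.normal_of_subsingleton P
  haveI : Nontrivial G := Finite.one_lt_card_iff_nontrivial.mp (by rw [hcard]; norm_num)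
  haveI : IsSimpleGroup G := ⟨fun N hN => by
    by_contra hc
    push Not at hc
    apply hns
    haveI := hN
    haveI : Nontrivial N := (Subgroup.nontrivial_iff_ne_bot N).mpr hc.1
    have h1 : 2 ≤ Nat.card N := Finite.one_lt_card
    have h2 : N.index ≠ 1 := fun h => hc.2 (Subgroup.index_eq_one.mp h)
    have h3 := N.card_mul_index
    rw [hcard] at h3
    have hi0 : 2 ≤ N.index := by
      have := Nat.pos_of_ne_zero N.index_ne_zero_of_finite
      omega
    have hN60 : Nat.card N < 60 := by
      have := Nat.mul_le_mul_left (Nat.card N) hi0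
      omega
    have hQ60 : Nat.card (G ⧸ N) < 60 := by
      have := Nat.mul_le_mul_right N.index h1
      rw [← Subgroup.index_eq_card]
      omega
    exact Group.isSolvable_of_ker_le_range N.subtype (QuotientGroup.mk' N) (by simp)
      (hG' := CfsgLib.AEightSub.isSolvable_of_card_lt hN60)
      (hG'' := CfsgLib.AEightSub.isSolvable_of_card_lt hQ60)⟩
  exact Cfsg.Agent.S0494.result hcard

end Cfsg.Agent.S3669
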