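import Cfsg.Statements.S3670
import Cfsg.Agent.Lib.DegreeThreeThree.Unitary
-- import your own Cfsg.Agent.* helpers here

set_option autoImplicit false
open Cfsg

namespace Cfsg.Agent.S3670

theorem prime_cases {p : ℕ} (hp : p.Prime) (h : p ∣ 6048) : p = 2 ∨ p = 3 ∨ p = 7 := by
  rw [show 6048 = 2 ^ 5 * 3 ^ 3 * 7 by norm_num] at h
  rcases hp.dvd_mul.mp h with h | h
  · rcases hp.dvd_mul.mp h with h | h
    · exact .inl ((Nat.prime_dvd_prime_iff_eq hp Nat.prime_two).mp (hp.dvd_of_dvd_pow h))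
    · exact .inr (.inl ((Nat.prime_dvd_prime_iff_eq hp Nat.prime_three).mp (hp.dvd_of_dvd_pow h)))
  · exact .inr (.inr ((Nat.prime_dvd_prime_iff_eq hp (by norm_num)).mp h))

theorem graph_data (A : Type*) [Group A] (h : ∀ d ∈ charDegrees A, d ∣ 6048)
    (h14 : ∃ d ∈ charDegrees A, 14 ∣ d) (h21 : ∃ d ∈ charDegrees A, 21 ∣ d) :
    degreePrimes A = {p | p = 2 ∨ p = 3 ∨ p = 7} ∧ ∀ p q, (degreeGraph A).Adj p q ↔
      p ≠ q ∧ (p = 2 ∨ p = 3 ∨ p = 7) ∧ (q = 2 ∨ q = 3 ∨ q = 7) ∧
        (p * q = 6 → ∃ d ∈ charDegrees A, 6 ∣ d) := by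
  obtain ⟨a, ha, ha'⟩ := h14
  obtain ⟨b, hb, hb'⟩ := h21
  have hpr : ∀ p : ℕ, p = 2 ∨ p = 3 ∨ p = 7 → p.Prime := by
    rintro p (rfl | rfl | rfl) <;> norm_num
  constructor
  · ext p
    constructor
    · rintro ⟨hp, d, hd, hpd⟩
      exact prime_cases hp (hpd.trans (h d hd))
    · intro hp
      refine ⟨hpr p hp, ?_⟩
      rcases hp with rfl | rfl | rfl
      · exact ⟨a, ha, dvd_trans (by norm_num) ha'⟩
      · exact ⟨b, hb, dvd_trans (by norm_num) hb'⟩
      · exact ⟨a, ha, dvd_trans (by norm_num) ha'⟩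
  · intro p q
    constructor
    · rintro ⟨hne, hp, hq, d, hd, hpq⟩
      exact ⟨hne, prime_cases hp ((dvd_mul_right p q).trans (hpq.trans (h d hd))),
        prime_cases hq ((dvd_mul_left q p).trans (hpq.trans (h d hd))), fun e => ⟨d, hd, e ▸ hpq⟩⟩
    · rintro ⟨hne, hp, hq, h6⟩
      refine ⟨hne, hpr p hp, hpr q hq, ?_⟩
      rcases hp with rfl | rfl | rfl <;> rcases hq with rfl | rfl | rfl
      all_goals first
        | exact absurd rfl hne
        | exact h6 rfl
        | (refine ⟨a, ha, dvd_trans ?_ ha'⟩; decide)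
        | (refine ⟨b, hb, dvd_trans ?_ hb'⟩; decide)

theorem graphs_eq (A B : Type*) [Group A] [Group B]
    (hA : ∀ d ∈ charDegrees A, d ∣ 6048) (hA14 : ∃ d ∈ charDegrees A, 14 ∣ d) (hA21 : ∃ d ∈ charDegrees A, 21 ∣ d)
    (hB : ∀ d ∈ charDegrees B, d ∣ 6048) (hB14 : ∃ d ∈ charDegrees B, 14 ∣ d) (hB21 : ∃ d ∈ charDegrees B, 21 ∣ d)
    (h : (∃ d ∈ charDegrees A, 6 ∣ d) ↔ ∃ d ∈ charDegrees B, 6 ∣ d) :
    degreePrimes A = degreePrimes B ∧ degreeGraph A = degreeGraph B := by
  obtain ⟨e1, f1⟩ := graph_data A hA hA14 hA21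
  obtain ⟨e2, f2⟩ := graph_data B hB hB14 hB21
  exact ⟨e1.trans e2.symm, by ext p q; rw [f1, f2, h]⟩

/-- The character degree graph of a finite group has as vertices the primes dividing some irreducible complex character degree, two distinct primes being joined when their product divides some irreducible character degree; two groups have the same character degree graph when they have the same vertices and the same joined pairs. Let F be the field with 9 elements and L = PSU(3,3) realised over F (order 6048). There is a finite solvable group of order 6048 with the same character degree graph as L; so L is not determined by its order together with its character degree graph. -/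
theorem result {F : Type*} [Field F] [Fintype F] (hF : Fintype.card F = 9) :
    ∃ (H : Type) (_ : Group H) (_ : Fintype H), Group.IsSolvable H ∧ Nat.card H = 6048 ∧ Cfsg.degreePrimes H = Cfsg.degreePrimes (Cfsg.PSU 3 F 3) ∧ Cfsg.degreeGraph H = Cfsg.degreeGraph (Cfsg.PSU 3 F 3) := by
  classical
  open CfsgLib.DegreeThreeThree in
  obtain ⟨hd, h14, h21⟩ := psu_degrees hF
  open CfsgLib.DegreeThreeThree in
  have hM : ∀ e, ∀ d ∈ charDegrees (Model e), d ∣ 6048 := by
    rintro e d ⟨χ, rfl⟩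
    obtain ⟨k, hk, hdvd⟩ := CfsgLib.Char.exists_degree_dvd_card χ.2
    rw [CfsgLib.Char.Extraspecial.charDegree_eq hk, ← model_card e]
    exact hdvd.2
  open CfsgLib.DegreeThreeThree in
  by_cases h6 : ∃ d ∈ charDegrees (Cfsg.PSU 3 F 3), 6 ∣ d
  · open CfsgLib.DegreeThreeThree in
    have h42 : 42 ∈ charDegrees (Model true) :=
      (model_degrees true 42).mpr ⟨7, .inr rfl, 6, heiTwo_degrees_six, rfl⟩
    open CfsgLib.DegreeThreeThree in
    exact ⟨Model true, inferInstance, inferInstance, model_solvable true, model_card true,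
      graphs_eq _ _ (hM true) ⟨42, h42, by norm_num⟩ ⟨42, h42, by norm_num⟩ hd h14 h21
        (iff_of_true ⟨42, h42, by norm_num⟩ h6)⟩
  · open CfsgLib.DegreeThreeThree in
    refine ⟨Model false, inferInstance, inferInstance, model_solvable false, model_card false,
      graphs_eq _ _ (hM false)
        ⟨14, (model_degrees false 14).mpr ⟨7, .inr rfl, 2, heiTwo_degrees_small.1, rfl⟩, dvd_rfl⟩
        ⟨21, (model_degrees false 21).mpr ⟨7, .inr rfl, 3, heiTwo_degrees_small.2.1, rfl⟩, dvd_rfl⟩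
        hd h14 h21 (iff_of_false ?_ h6)⟩
    rintro ⟨d, hd', hdd⟩
    obtain ⟨a, ha, b, hb, rfl⟩ := (model_degrees false d).mp hd'
    rcases ha with rfl | rfl <;> rcases heiTwo_degrees_small.2.2 b hb with rfl | rfl | rfl <;> omega

end Cfsg.Agent.S3670
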