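import Cfsg.Statements.S3678
import Cfsg.Agent.Lib.PrimeGraph.SLTwoExtension

set_option autoImplicit false
open Cfsg

namespace Cfsg.Agent.S3678

open CfsgLib CfsgLib.SL2 in
theorem result {F : Type*} [Field F] [Fintype F] (hF : Fintype.card F = 7) (N : ℕ) :
    ∃ (H : Type) (_ : Group H) (_ : Finite H), N < Nat.card H ∧
      ((∀ p : ℕ, p.Prime → (p ∣ Nat.card (Matrix.ProjectiveSpecialLinearGroup (Fin 2) F) ↔ p ∣ Nat.card H)) ∧
      (∀ p q : ℕ, p.Prime → q.Prime → p ≠ q → ((∃ g : (Matrix.ProjectiveSpecialLinearGroup (Fin 2) F), orderOf g = p * q) ↔ (∃ g : H, orderOf g = p * q)))) := by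
  have hc7 : Nat.card F = 7 := by rw [Nat.card_eq_fintype_card, hF]
  haveI : Fact (Nat.Prime 7) := ⟨by norm_num⟩
  haveI : CharP F 7 := charP_of_card_eq_prime hF
  haveI : Fact (Nat.Prime 2) := ⟨Nat.prime_two⟩
  let K := GaloisField 2 3
  have hc8 : Nat.card K = 8 := GaloisField.card 2 3 (by norm_num)
  obtain ⟨H, iG, iF, hN, hd, ho⟩ := CfsgLib.PrimeGraph.exists_same_graph (K := K) N
  refine ⟨H, iG, iF, hN, fun p hp => ?_, fun p q hp hq hpq => ?_⟩
  · rw [← hd p hp]
    have e7 := card_PSL (F := F)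
    have e8 := card_PSL (F := K)
    rw [hc7] at e7
    rw [hc8] at e8
    norm_num at e7 e8
    have c7 : Nat.card (Matrix.ProjectiveSpecialLinearGroup (Fin 2) F) = 2 ^ 3 * 3 * 7 := by omega
    have c8 : Nat.card (Matrix.ProjectiveSpecialLinearGroup (Fin 2) K) = 2 ^ 3 * 3 ^ 2 * 7 := by omega
    rw [c7, c8]
    constructor <;> intro h
    · exact h.trans (by norm_num)
    · rcases hp.dvd_mul.mp h with h | h
      · rcases hp.dvd_mul.mp h with h | h
        · exact dvd_mul_of_dvd_left (dvd_mul_of_dvd_left h _) _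
        · exact dvd_mul_of_dvd_left (dvd_mul_of_dvd_right (hp.dvd_of_dvd_pow h) _) _
      · exact dvd_mul_of_dvd_right h _
  · rw [← ho p q hp hq hpq]
    have key : ∀ n : ℕ, 0 < n → n ∣ p * q → (p * q) ∣ n → n ∣ 2 * 2 ∨ n ∣ 3 * 3 ∨ n ∣ 7 → False := by
      intro n _ h1 h2 h3
      have hp' := (dvd_mul_right p q).trans h2
      have hq' := (dvd_mul_left q p).trans h2
      rcases h3 with h3 | h3 | h3
      · have a := (Nat.prime_dvd_prime_iff_eq hp Nat.prime_two).mp
          (hp.dvd_of_dvd_pow (show p ∣ 2 ^ 2 from hp'.trans h3))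
        have b := (Nat.prime_dvd_prime_iff_eq hq Nat.prime_two).mp
          (hq.dvd_of_dvd_pow (show q ∣ 2 ^ 2 from hq'.trans h3))
        exact hpq (a.trans b.symm)
      · have a := (Nat.prime_dvd_prime_iff_eq hp Nat.prime_three).mp
          (hp.dvd_of_dvd_pow (show p ∣ 3 ^ 2 from hp'.trans h3))
        have b := (Nat.prime_dvd_prime_iff_eq hq Nat.prime_three).mp
          (hq.dvd_of_dvd_pow (show q ∣ 3 ^ 2 from hq'.trans h3))
        exact hpq (a.trans b.symm)
      · have h7 : Nat.Prime 7 := by norm_num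
        have a := (Nat.prime_dvd_prime_iff_eq hp h7).mp (hp'.trans h3)
        have b := (Nat.prime_dvd_prime_iff_eq hq h7).mp (hq'.trans h3)
        exact hpq (a.trans b.symm)
    have hpos : 0 < p * q := Nat.mul_pos hp.pos hq.pos
    constructor
    · rintro ⟨g, hg⟩
      have := spectrum_PSL (F := F) 7 (by omega)
      have hm : orderOf g ∈ Set.range (orderOf : Matrix.ProjectiveSpecialLinearGroup (Fin 2) F → ℕ) :=
        ⟨g, rfl⟩
      rw [this, hc7, hg, Set.mem_ofPred_eq] at hm
      norm_num at hm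
      refine (key _ hpos dvd_rfl dvd_rfl ?_).elim
      rcases hm with h | h | h
      · exact Or.inr (Or.inr h)
      · exact Or.inr (Or.inl (h.trans (by norm_num)))
      · exact Or.inl (h.trans (by norm_num))
    · rintro ⟨g, hg⟩
      have := spectrum_PSL (F := K) 2 (by omega)
      have hm : orderOf g ∈ Set.range (orderOf : Matrix.ProjectiveSpecialLinearGroup (Fin 2) K → ℕ) :=
        ⟨g, rfl⟩
      rw [this, hc8, hg, Set.mem_ofPred_eq] at hm
      norm_num at hm
      refine (key _ hpos dvd_rfl dvd_rfl ?_).elim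
      rcases hm with h | h | h
      · exact Or.inl (h.trans (by norm_num))
      · exact Or.inr (Or.inr h)
      · exact Or.inr (Or.inl (h.trans (by norm_num)))

end Cfsg.Agent.S3678
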