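import Cfsg.Statements.S3680
import Cfsg.Agent.Lib.Perm.MinimalNormal

set_option autoImplicit false
set_option linter.style.haveILetI false
open Cfsg

namespace Cfsg.Agent.S3680

universe u

theorem exists_type_copy {G : Type u} [Group G] (T : Subgroup G) [Finite T] (hs : IsSimpleGroup T)
    (hna : ¬ IsMulCommutative T) :
    ∃ (T₀ : Type) (_ : Group T₀), IsSimpleGroup T₀ ∧ ¬ IsMulCommutative T₀ ∧ Nonempty (T ≃* T₀) := by
  haveI := hs
  let e := Finite.equivFin T
  let φ : T →* Equiv.Perm (Fin (Nat.card T)) := e.permCongrHom.toMonoidHom.comp (MulAction.toPermHom T T)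
  have hφ : Function.Injective φ := e.permCongrHom.injective.comp MulAction.toPerm_injective
  let f : T ≃* φ.range := MonoidHom.ofInjective hφ
  refine ⟨φ.range, inferInstance, f.symm.isSimpleGroup, fun h => hna ⟨⟨fun a b => ?_⟩⟩, ⟨f⟩⟩
  exact f.injective (by rw [map_mul, map_mul]; exact h.is_comm.comm _ _)

section

variable {G : Type u} {Ω : Type*} [Group G] [MulAction G Ω] [FaithfulSMul G Ω]

theorem transitive_of_normal (hprim : MulAction.IsPreprimitive G Ω) (V : Subgroup G) [V.Normal] (hV : V ≠ ⊥) :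
    MulAction.IsPretransitive V Ω := by
  haveI := hprim
  refine MulAction.IsQuasiPreprimitive.isPretransitive_of_normal (G := G) fun h => hV ?_
  rw [eq_bot_iff]
  intro v hv
  rw [Subgroup.mem_bot]
  exact FaithfulSMul.eq_of_smul_eq_smul (M := G) (α := Ω) fun ω => by
    rw [one_smul]
    exact (h.ge (Set.mem_univ ω) : ω ∈ MulAction.fixedPoints V Ω) ⟨v, hv⟩

theorem eq_one_of_fixed {V : Subgroup G} (hV : MulAction.IsPretransitive V Ω) {c : G}
    (hc : ∀ v ∈ V, v * c = c * v) {ω : Ω} (h : c • ω = ω) : c = 1 := by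
  refine FaithfulSMul.eq_of_smul_eq_smul (M := G) (α := Ω) fun y => ?_
  obtain ⟨⟨v, hv⟩, e⟩ := hV.exists_smul_eq ω y
  change v • ω = y at e
  rw [one_smul, ← e, smul_smul, ← hc v hv, mul_smul, h]

/-- Two commuting regular subgroups are isomorphic. -/
theorem nonempty_equiv {V W : Subgroup G} (hV : MulAction.IsPretransitive V Ω) (hW : MulAction.IsPretransitive W Ω)
    (hcomm : ∀ v ∈ V, ∀ w ∈ W, v * w = w * v) (ω : Ω) : Nonempty (V ≃* W) := by
  choose φ hφ using fun x : V => hW.exists_smul_eq ω ((x⁻¹ : V) • ω)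
  have huniq : ∀ (x : V) (w : W), w • ω = (x⁻¹ : V) • ω → w = φ x := fun x w h => by
    have h1 : ((w : G)⁻¹ * (φ x : G)) • ω = ω := by
      rw [mul_smul]
      change (w : G)⁻¹ • ((φ x) • ω) = ω
      rw [hφ x, ← h]
      exact inv_smul_smul (w : G) ω
    have := eq_one_of_fixed hV (fun v hv => hcomm v hv _ (W.mul_mem (W.inv_mem w.2) (φ x).2)) h1
    exact Subtype.ext (inv_mul_eq_one.mp this)
  let f : V →* W :=
    { toFun := φ
      map_one' := (huniq 1 1 (by simp)).symm
      map_mul' := fun x y => (huniq (x * y) (φ x * φ y) (by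
        rw [mul_smul, hφ y]
        show (φ x : G) • ((y⁻¹ : V) : G) • ω = (((x * y)⁻¹ : V) : G) • ω
        rw [smul_smul, ← hcomm _ (y⁻¹ : V).2 _ (φ x).2, mul_smul, show (φ x : G) • ω = ((x⁻¹ : V) : G) • ω from hφ x,
          smul_smul, ← Subgroup.coe_mul, mul_inv_rev])).symm }
  refine ⟨MulEquiv.ofBijective f ⟨?_, ?_⟩⟩
  · rw [← MonoidHom.ker_eq_bot_iff, eq_bot_iff]
    intro x hx
    rw [Subgroup.mem_bot]
    have h := hφ x
    rw [show φ x = 1 from hx, one_smul] at h
    have := eq_one_of_fixed (c := ((x⁻¹ : V) : G)) hW (fun w hw => (hcomm _ (x⁻¹ : V).2 w hw).symm) h.symm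
    exact inv_eq_one.mp (Subtype.ext this)
  · intro w
    obtain ⟨x, hx⟩ := hV.exists_smul_eq ω (w • ω)
    exact ⟨x⁻¹, (huniq x⁻¹ w (by rw [inv_inv, hx])).symm⟩

end


/-- The socle of a finite primitive permutation group. Let a finite group G act faithfully and primitively on a set Ω, and let N be the subgroup generated by the minimal normal subgroups of G. Then either N is an elementary abelian p-group for some prime p and acts regularly on Ω (transitively with trivial point stabilizers), or N is isomorphic to a direct product of m ≥ 1 copies of a non-abelian simple group. -/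
theorem result {G Ω : Type*} [Group G] [Finite G] [MulAction G Ω] [FaithfulSMul G Ω] [Finite Ω]
    (hprim : MulAction.IsPreprimitive G Ω) (N : Subgroup G)
    (hN : N = sSup {V : Subgroup G | V.Normal ∧ V ≠ ⊥ ∧ ∀ M : Subgroup G, M.Normal → M ≤ V → M = ⊥ ∨ M = V}) :
    (∃ p : ℕ, p.Prime ∧ IsMulCommutative N ∧ (∀ x : N, x ^ p = 1) ∧
      MulAction.IsPretransitive N Ω ∧ ∀ ω : Ω, MulAction.stabilizer N ω = ⊥) ∨
    (∃ (T : Type) (_ : Group T) (m : ℕ), 1 ≤ m ∧ IsSimpleGroup T ∧ ¬ IsMulCommutative T ∧ Nonempty (N ≃* (Fin m → T))) := by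
  subst hN
  set S := {V : Subgroup G | V.Normal ∧ V ≠ ⊥ ∧ ∀ M : Subgroup G, M.Normal → M ≤ V → M = ⊥ ∨ M = V}
  rcases subsingleton_or_nontrivial G with hs | hs
  · haveI := hprim
    refine Or.inl ⟨2, Nat.prime_two, ⟨⟨fun a b => Subsingleton.elim _ _⟩⟩, fun x => Subsingleton.elim _ _, ⟨fun x y => ?_⟩,
      fun ω => Subsingleton.elim _ _⟩
    obtain ⟨g, hg⟩ := MulAction.exists_smul_eq G x y
    exact ⟨1, by rw [one_smul, ← hg, Subsingleton.elim g 1, one_smul]⟩
  obtain ⟨V, hVmin⟩ := (Set.toFinite {M : Subgroup G | M.Normal ∧ M ≠ ⊥}).exists_minimal ⟨⊤, inferInstance, top_ne_bot⟩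
  obtain ⟨hVn, hV1⟩ := hVmin.prop
  haveI := hVn
  have hVS : V ∈ S := ⟨hVn, hV1, fun M hM hle => or_iff_not_imp_left.mpr fun h1 => le_antisymm hle (hVmin.le_of_le ⟨hM, h1⟩ hle)⟩
  have hVt := transitive_of_normal hprim V hV1
  have hdisj : ∀ W ∈ S, W ≠ V → W ⊓ V = ⊥ ∧ W ≤ Subgroup.centralizer (V : Set G) := by
    intro W hW hne
    haveI := hW.1
    have hd : W ⊓ V = ⊥ := by
      rcases hW.2.2 (W ⊓ V) (Subgroup.normal_inf_normal _ _) inf_le_left with h | h
      · exact h
      · rcases hVS.2.2 W hW.1 (inf_eq_left.mp h) with h' | h'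
        · exact absurd h' hW.2.1
        · exact absurd h' hne
    exact ⟨hd, fun w hw => Subgroup.mem_centralizer_iff.mpr fun v hv =>
      (Subgroup.commute_of_normal_of_disjoint W V hW.1 hVn (disjoint_iff.mpr hd) w v hw hv).eq.symm⟩
  obtain ⟨ω⟩ : Nonempty Ω := by
    by_contra h
    rw [not_nonempty_iff] at h
    obtain ⟨g, hg⟩ := exists_ne (1 : G)
    exact hg (FaithfulSMul.eq_of_smul_eq_smul (M := G) (α := Ω) fun x => h.elim x)
  have hsemi : ∀ c ∈ Subgroup.centralizer (V : Set G), ∀ y : Ω, c • y = y → c = 1 := fun c hc y hy =>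
    eq_one_of_fixed hVt (fun v hv => Subgroup.mem_centralizer_iff.mp hc v hv) hy
  have hreg : ∀ W : Subgroup G, W ≤ Subgroup.centralizer (V : Set G) → MulAction.IsPretransitive W Ω →
      Subgroup.centralizer (V : Set G) ≤ W := by
    intro W hW hWt c hc
    obtain ⟨⟨w, hw⟩, e⟩ := hWt.exists_smul_eq ω (c • ω)
    change w • ω = c • ω at e
    have h1 := hsemi (w⁻¹ * c) (mul_mem (inv_mem (hW hw)) hc) ω (by rw [mul_smul, ← e, inv_smul_smul])
    rw [← inv_mul_eq_one.mp h1]; exact hw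
  obtain ⟨T, hTV, hTs, m, hm, ⟨e⟩⟩ := CfsgLib.MinimalNormal.exists_simple_power V hV1 hVS.2.2
  haveI := hTs
  by_cases hab : IsMulCommutative T
  · left
    haveI := hab
    letI : CommGroup T := { (inferInstance : Group T) with mul_comm := fun a b => hab.is_comm.comm a b }
    have hp : (Nat.card T).Prime := IsSimpleGroup.prime_card
    haveI hVc : IsMulCommutative V := ⟨⟨fun a b => e.injective (by rw [map_mul, map_mul, mul_comm])⟩⟩
    have hVC : V ≤ Subgroup.centralizer (V : Set G) := fun x hx => Subgroup.mem_centralizer_iff.mpr fun y hy =>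
      congrArg Subtype.val (hVc.is_comm.comm (⟨y, hy⟩ : V) ⟨x, hx⟩)
    have hN : sSup S = V := by
      refine le_antisymm (sSup_le fun W hW => ?_) (le_sSup hVS)
      by_cases h : W = V
      · exact h.le
      · exact (hdisj W hW h).2.trans (hreg V hVC hVt)
    rw [hN]
    refine ⟨Nat.card T, hp, hVc, fun x => e.injective ?_, hVt, fun y => ?_⟩
    · rw [map_pow, map_one]
      funext i
      exact pow_card_eq_one' (x := e x i)
    · rw [eq_bot_iff]
      intro v hv
      rw [Subgroup.mem_bot]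
      exact Subtype.ext (hsemi _ (hVC v.2) y hv)
  right
  obtain ⟨T₀, iT, hT₀s, hT₀na, ⟨f⟩⟩ := exists_type_copy T hTs hab
  let eV : V ≃* (Fin m → T₀) := e.trans (MulEquiv.piCongrRight fun _ => f)
  by_cases honly : ∀ W ∈ S, W = V
  · have hN : sSup S = V := le_antisymm (sSup_le fun W hW => (honly W hW).le) (le_sSup hVS)
    rw [hN]
    exact ⟨T₀, iT, m, hm, hT₀s, hT₀na, ⟨eV⟩⟩
  push Not at honly
  obtain ⟨W, hW, hne⟩ := honly
  obtain ⟨hd, hWC⟩ := hdisj W hW hne
  haveI := hW.1
  have hWt := transitive_of_normal hprim W hW.2.1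
  have hN : sSup S = V ⊔ W := by
    refine le_antisymm (sSup_le fun X hX => ?_) (sup_le (le_sSup hVS) (le_sSup hW))
    by_cases h : X = V
    · exact h.le.trans le_sup_left
    · exact ((hdisj X hX h).2.trans (hreg W hWC hWt)).trans le_sup_right
  rw [hN]
  have hcomm : ∀ v ∈ V, ∀ w ∈ W, v * w = w * v := fun v hv w hw => Subgroup.mem_centralizer_iff.mp (hWC hw) v hv
  obtain ⟨eW⟩ := nonempty_equiv hVt hWt hcomm ω
  let g : V × W →* ↥(V ⊔ W) :=
    { toFun := fun a => ⟨(a.1 : G) * a.2, mul_mem (Subgroup.mem_sup_left a.1.2) (Subgroup.mem_sup_right a.2.2)⟩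
      map_one' := Subtype.ext (by simp)
      map_mul' := fun a b => Subtype.ext (by
        show ((a.1 : G) * b.1) * ((a.2 : G) * b.2) = ((a.1 : G) * a.2) * ((b.1 : G) * b.2)
        have e := hcomm b.1 b.1.2 a.2 a.2.2
        calc _ = (a.1 : G) * ((b.1 : G) * a.2) * b.2 := by group
          _ = _ := by rw [e]; group) }
  have hg : Function.Bijective g := by
    constructor
    · rw [← MonoidHom.ker_eq_bot_iff, eq_bot_iff]
      intro a ha
      have h1 : (a.1 : G) * a.2 = 1 := congrArg Subtype.val (MonoidHom.mem_ker.mp ha)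
      have h2 : (a.2 : G) ∈ W ⊓ V := ⟨a.2.2, show (a.2 : G) ∈ V by rw [eq_inv_of_mul_eq_one_right h1]; exact V.inv_mem a.1.2⟩
      rw [hd, Subgroup.mem_bot] at h2
      rw [h2, mul_one] at h1
      exact Prod.ext (Subtype.ext h1) (Subtype.ext h2)
    · rintro ⟨x, hx⟩
      rw [← SetLike.mem_coe, Subgroup.normal_mul] at hx
      obtain ⟨v, hv, w, hw, rfl⟩ := Set.mem_mul.mp hx
      exact ⟨(⟨v, hv⟩, ⟨w, hw⟩), rfl⟩
  let split : (Fin m → T₀) × (Fin m → T₀) ≃* (Fin (m + m) → T₀) :=
    { (Equiv.sumArrowEquivProdArrow (Fin m) (Fin m) T₀).symm.trans (finSumFinEquiv.arrowCongr (Equiv.refl T₀)) with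
      map_mul' := fun a b => by
        funext i
        obtain ⟨j, rfl⟩ := finSumFinEquiv.surjective i
        cases j <;>
          simp [Equiv.sumArrowEquivProdArrow, Equiv.arrowCongr, -finSumFinEquiv_apply_left, -finSumFinEquiv_apply_right] }
  exact ⟨T₀, iT, m + m, by omega, hT₀s, hT₀na,
    ⟨(MulEquiv.ofBijective g hg).symm.trans ((MulEquiv.prodCongr eV (eW.symm.trans eV)).trans split)⟩⟩
end Cfsg.Agent.S3680
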