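import Cfsg.Statements.S3681
import Mathlib

set_option autoImplicit false
set_option linter.style.haveILetI false
open Cfsg

namespace Cfsg.Agent.S3681

open Equiv Equiv.Perm

theorem comm_three {α : Type*} [Fintype α] [DecidableEq α] (a b : Perm α) (p : α) (ha : a p ≠ p)
    (hb : b p ≠ p) (h : ∀ x, a x ≠ x → b x ≠ x → x = p) :
    (a * b * a⁻¹ * b⁻¹).IsThreeCycle := by
  set u := a p with hu
  set v := b p with hv
  have hau : a u ≠ u := fun e => ha (a.injective e)
  have hbu : b u = u := by
    by_contra e; exact ha (h u hau e)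
  have hbv : b v ≠ v := fun e => hb (b.injective e)
  have hav : a v = v := by
    by_contra e; exact hb (h v e hbv)
  have huv : u ≠ v := fun e => hau (e ▸ hav)
  have e : a * b * a⁻¹ * b⁻¹ = swap p u * swap u v := by
    apply Equiv.ext
    intro x
    simp only [Perm.mul_apply]
    by_cases h1 : x = p
    · subst h1
      set w := b⁻¹ x with hw
      have hbw : b w = x := by rw [hw]; exact b.apply_symm_apply x
      have hw' : b w ≠ w := by rw [hbw]; intro e; exact hb (by show b x = x; rw [show b x = b w from congrArg b e, hbw])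
      have haw : a w = w := by
        by_contra e; have := h w e hw'; exact hw' (by rw [this]; exact (this ▸ hbw))
      rw [show a⁻¹ w = w from a.injective (by rw [haw]; exact a.apply_symm_apply w), hbw,
        swap_apply_of_ne_of_ne (Ne.symm ha) (Ne.symm hb), swap_apply_left]
    by_cases h2 : x = u
    · subst h2
      rw [show b⁻¹ (a p) = a p from b.injective (by rw [show b (b⁻¹ (a p)) = a p from b.apply_symm_apply _]; exact hbu.symm),
        show a⁻¹ (a p) = p from a.symm_apply_apply p]
      rw [show a (b p) = v from hav, swap_apply_left, swap_apply_of_ne_of_ne hb huv.symm]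
    by_cases h3 : x = v
    · subst h3
      rw [show b⁻¹ (b p) = p from b.symm_apply_apply p]
      set z := a⁻¹ p with hz
      have haz : a z = p := by rw [hz]; exact a.apply_symm_apply p
      have hbz : b z = z := by
        by_contra e
        have hzz : a z ≠ z := by rw [haz]; intro e'; exact ha (by show a p = p; rw [show a p = a z from congrArg a e', haz])
        have := h z hzz e
        exact hzz (by rw [this]; exact (this ▸ haz))
      rw [hbz, haz, swap_apply_right, swap_apply_right]
    rw [swap_apply_of_ne_of_ne h2 h3, swap_apply_of_ne_of_ne h1 h2]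
    set y := b⁻¹ x with hy
    have hby : b y = x := by rw [hy]; exact b.apply_symm_apply x
    by_cases hbx : b x = x
    · have hyx : y = x := b.injective (by rw [hby, hbx])
      rw [hyx]
      set z := a⁻¹ x with hz
      have haz : a z = x := by rw [hz]; exact a.apply_symm_apply x
      have hbz : b z = z := by
        by_contra e
        by_cases hzz : a z = z
        · rw [haz] at hzz; exact e (hzz ▸ hbx)
        · exact h2 (by rw [hu, ← h z hzz e, haz])
      rw [hbz, haz]
    · have hy' : b y ≠ y := fun e => hbx (by rw [hby] at e; rw [← e] at hby; exact hby)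
      have hay : a y = y := by
        by_contra e
        exact h3 (by rw [← hby, h y e hy'])
      rw [show a⁻¹ y = y from a.injective (by rw [hay]; exact a.apply_symm_apply y), hby]
      by_contra e
      exact h1 (h x e hbx)
  rw [e, Equiv.swap_comm p u]
  exact isThreeCycle_swap_mul_swap_same ha huv (Ne.symm hb)

/-- Bochert's bound for primitive groups. Let a finite group G act faithfully and primitively on a finite set Ω with n elements, and suppose the image of G in the symmetric group of Ω does not contain the alternating group of Ω. Then |G| · ⌊(n + 1)/2⌋! ≤ n!, that is, the index of G in the symmetric group is at least ⌊(n + 1)/2⌋!. -/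
theorem result {G Ω : Type*} [Group G] [Finite G] [MulAction G Ω] [FaithfulSMul G Ω] [Fintype Ω] [DecidableEq Ω]
    (hprim : MulAction.IsPreprimitive G Ω) (hA : ¬ alternatingGroup Ω ≤ (MulAction.toPermHom G Ω).range) :
    Nat.card G * Nat.factorial ((Fintype.card Ω + 1) / 2) ≤ Nat.factorial (Fintype.card Ω) := by
  classical
  set n := Fintype.card Ω
  let IsBase : Finset Ω → Prop := fun Δ => ∀ g : G, (∀ x ∈ Δ, g • x = x) → g = 1
  obtain ⟨Δ, hΔ, hmin⟩ := Finset.exists_min_image (Finset.univ.filter IsBase) Finset.card
    ⟨Finset.univ, Finset.mem_filter.mpr ⟨Finset.mem_univ _, fun g hg => eq_of_smul_eq_smul (α := Ω) fun x => by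
      rw [hg x (Finset.mem_univ x), one_smul]⟩⟩
  rw [Finset.mem_filter] at hΔ
  have hsmall : 2 * Δ.card ≤ n := by
    by_contra hlt
    have hnot : ∀ S : Finset Ω, S.card < Δ.card → ∃ g : G, (∀ x ∈ S, g • x = x) ∧ g ≠ 1 := fun S hS => by
      by_contra hc
      push Not at hc
      exact absurd (hmin S (Finset.mem_filter.mpr ⟨Finset.mem_univ _, hc⟩)) (by omega)
    obtain ⟨g, hg, hg1⟩ := hnot Δᶜ (by rw [Finset.card_compl]; omega)
    obtain ⟨p, hp⟩ : ∃ p, g • p ≠ p := by
      by_contra hc
      push Not at hc
      exact hg1 (eq_of_smul_eq_smul (α := Ω) fun x => by rw [hc x, one_smul])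
    have hpΔ : p ∈ Δ := by
      by_contra hc
      exact hp (hg p (Finset.mem_compl.mpr hc))
    obtain ⟨h, hh, hh1⟩ := hnot (Δ.erase p) (Finset.card_erase_lt_of_mem hpΔ)
    have hhp : h • p ≠ p := fun e => hh1 (hΔ.2 h fun x hx => by
      by_cases hxp : x = p
      · rw [hxp, e]
      · exact hh x (Finset.mem_erase.mpr ⟨hxp, hx⟩))
    let π := MulAction.toPermHom G Ω
    have h3 := comm_three (π g) (π h) p hp hhp (fun x hgx hhx => by
      by_contra hxp
      have hxΔ : x ∈ Δ := by
        by_contra hc; exact hgx (hg x (Finset.mem_compl.mpr hc))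
      exact hhx (hh x (Finset.mem_erase.mpr ⟨hxp, hxΔ⟩)))
    haveI := hprim
    have hprim' : MulAction.IsPreprimitive π.range Ω :=
      MulAction.IsPreprimitive.of_surjective (φ := π.rangeRestrict)
        (f := ⟨id, fun _ _ => rfl⟩) Function.surjective_id
    exact hA (Equiv.Perm.alternatingGroup_le_of_isPreprimitive_of_isThreeCycle_mem hprim' h3
      (Subgroup.mul_mem _ (Subgroup.mul_mem _ (Subgroup.mul_mem _ ⟨g, rfl⟩ ⟨h, rfl⟩)
        (Subgroup.inv_mem _ ⟨g, rfl⟩)) (Subgroup.inv_mem _ ⟨h, rfl⟩)))
  let F : G → (Δ ↪ Ω) := fun g => ⟨fun x => g • (x : Ω), fun x y e => Subtype.ext ((MulAction.toPerm g).injective e)⟩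
  have hF : Function.Injective F := by
    intro g g' e
    have := hΔ.2 (g⁻¹ * g') fun x hx => by
      have e' := congrArg (fun f : Δ ↪ Ω => f ⟨x, hx⟩) e
      simp only [F, Function.Embedding.coeFn_mk] at e'
      rw [mul_smul, show g' • x = g • x from e'.symm, inv_smul_smul]
    exact (inv_mul_eq_one.mp this)
  have hcard := Nat.card_le_card_of_injective F hF
  rw [Nat.card_eq_fintype_card (α := Δ ↪ Ω), Fintype.card_embedding_eq, Fintype.card_coe] at hcard
  calc Nat.card G * Nat.factorial ((n + 1) / 2) ≤ n.descFactorial Δ.card * Nat.factorial (n - Δ.card) :=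
        Nat.mul_le_mul hcard (Nat.factorial_le (by omega))
    _ = Nat.factorial n := by rw [mul_comm]; exact Nat.factorial_mul_descFactorial (by omega)

end Cfsg.Agent.S3681
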