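import Cfsg.Statements.S3682
import Cfsg.Agent.Lib.ThompsonWielandt.Primitive

set_option autoImplicit false
open Cfsg

namespace Cfsg.Agent.S3682

/-- Wielandt's bound toward the Sims conjecture. Let a finite group G act faithfully and primitively on a set Ω, let a and b be points, and suppose the orbit of b under the stabilizer of a has length d ≥ 2. Then there are a prime p and a normal p-subgroup P of the stabilizer of a, all of whose elements fix b, such that the index of P in the stabilizer of a divides d! · ((d - 1)!)^d. -/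
theorem result {G Ω : Type*} [Group G] [Finite G] [MulAction G Ω] [FaithfulSMul G Ω] [Finite Ω]
    (hprim : MulAction.IsPreprimitive G Ω) (a b : Ω) (d : ℕ) (hd : Nat.card (MulAction.orbit (MulAction.stabilizer G a) b) = d) (h2 : 2 ≤ d) :
    ∃ p : ℕ, p.Prime ∧ ∃ P : Subgroup (MulAction.stabilizer G a), P.Normal ∧ IsPGroup p P ∧ (∀ g : P, ((g : MulAction.stabilizer G a) : G) • b = b) ∧
      P.index ∣ Nat.factorial d * (Nat.factorial (d - 1)) ^ d := by
  classical
  obtain ⟨hpair, ⟨e⟩, hdA, hdB⟩ := CfsgLib.ThompsonWielandt.primitive_pair hprim a b hd h2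
  have htriv : Nat.card (MulAction.stabilizer G a) ∣ Nat.factorial d * (Nat.factorial (d - 1)) ^ d →
      ∃ p : ℕ, p.Prime ∧ ∃ P : Subgroup (MulAction.stabilizer G a), P.Normal ∧ IsPGroup p P ∧
        (∀ g : P, ((g : MulAction.stabilizer G a) : G) • b = b) ∧
        P.index ∣ Nat.factorial d * (Nat.factorial (d - 1)) ^ d := by
    intro h
    refine ⟨2, Nat.prime_two, ⊥, inferInstance, IsPGroup.of_bot, fun g => ?_, by rwa [Subgroup.index_bot]⟩
    rw [Subgroup.mem_bot.1 g.2, Subgroup.coe_one, one_smul]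
  by_cases hA2 : CfsgLib.ThompsonWielandt.A₂ (MulAction.stabilizer G a) (MulAction.stabilizer G b) = ⊥
  · exact htriv (CfsgLib.ThompsonWielandt.card_dvd_of_A₂_eq_bot hdA hdB hA2)
  by_cases hB2 : CfsgLib.ThompsonWielandt.A₂ (MulAction.stabilizer G b) (MulAction.stabilizer G a) = ⊥
  · refine htriv ?_
    rw [Nat.card_congr e.toEquiv]
    exact CfsgLib.ThompsonWielandt.card_dvd_of_A₂_eq_bot
      (by rw [inf_comm]; exact hdB) (by rw [inf_comm]; exact hdA) hB2
  obtain ⟨p, hp, hpA, -⟩ := hpair.exists_prime hA2 hB2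
  haveI := Fact.mk hp
  set S := CfsgLib.ThompsonWielandt.A₂ (MulAction.stabilizer G a) (MulAction.stabilizer G b)
  refine ⟨p, hp, S.subgroupOf (MulAction.stabilizer G a), ?_, ?_, fun g => ?_,
    CfsgLib.ThompsonWielandt.index_A₂_dvd hdA hdB⟩
  · exact (Subgroup.normal_subgroupOf_iff_le_normalizer (CfsgLib.ThompsonWielandt.coreIn_le_left _ _)).2
      (CfsgLib.ThompsonWielandt.le_normalizer_coreIn _ _)
  · exact (hpair.isPGroup_A₂ e hpA).comap_subtype
  · exact ((CfsgLib.ThompsonWielandt.A₂_le_A₁ _ _).trans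
      ((CfsgLib.ThompsonWielandt.A₁_le_inf _ _).trans inf_le_right)) (Subgroup.mem_subgroupOf.1 g.2)

end Cfsg.Agent.S3682
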