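import Cfsg.Statements.S3683

-- import your own Cfsg.Agent.* helpers here

set_option autoImplicit false
open Cfsg

namespace Cfsg.Agent.S3683

/-- Let a finite group G act faithfully and primitively on a set Ω, and suppose the stabilizer of a point a fixes a second point b ≠ a (a suborbit of length 1 other than {a}). Then the stabilizer of a is trivial and G is cyclic of prime order. -/
theorem result {G Ω : Type*} [Group G] [Finite G] [MulAction G Ω] [FaithfulSMul G Ω] [Finite Ω]
    (hprim : MulAction.IsPreprimitive G Ω) (a b : Ω) (hab : a ≠ b) (hfix : ∀ g : G, g • a = a → g • b = b) :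
    MulAction.stabilizer G a = ⊥ ∧ IsCyclic G ∧ (Nat.card G).Prime := by
  haveI := hprim
  haveI : Nontrivial Ω := ⟨a, b, hab⟩
  have hle : MulAction.stabilizer G a ≤ MulAction.stabilizer G b := fun g hg => hfix g hg
  obtain ⟨g, hg⟩ := MulAction.exists_smul_eq G a b
  have hconj : MulAction.stabilizer G b = (MulAction.stabilizer G a).map (MulAut.conj g).toMonoidHom := by
    rw [← hg]; exact MulAction.stabilizer_smul_eq_stabilizer_map_conj g a
  have heq : MulAction.stabilizer G a = MulAction.stabilizer G b := by
    refine Subgroup.eq_of_le_of_card_ge hle (le_of_eq ?_)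
    rw [hconj]
    exact Subgroup.card_map_of_injective (MulAut.conj g).injective
  have hgN : g ∈ Subgroup.normalizer ((MulAction.stabilizer G a : Subgroup G) : Set G) := by
    rw [Subgroup.mem_normalizer_iff]
    intro h
    constructor
    · intro hh
      rw [heq, hconj]
      exact ⟨h, hh, rfl⟩
    · intro hh
      rw [heq, hconj] at hh
      obtain ⟨k, hk, hk'⟩ := hh
      have : k = h := (MulAut.conj g).injective hk'
      exact this ▸ hk
  have hco : IsCoatom (MulAction.stabilizer G a) := (MulAction.isCoatom_stabilizer_iff_preprimitive (G := G) a).mpr hprim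
  have hnormal : (MulAction.stabilizer G a).Normal := by
    rw [← Subgroup.normalizer_eq_top_iff]
    refine hco.2 _ (lt_of_le_of_ne Subgroup.le_normalizer fun h => hab ?_)
    rw [← h, MulAction.mem_stabilizer_iff, hg] at hgN
    exact hgN.symm
  have hbot : MulAction.stabilizer G a = ⊥ := by
    rw [eq_bot_iff]
    intro k hk
    rw [Subgroup.mem_bot]
    apply eq_of_smul_eq_smul (α := Ω)
    intro x
    obtain ⟨y, rfl⟩ := MulAction.exists_smul_eq G a x
    rw [one_smul, smul_smul, ← mul_inv_cancel_left y (k * y), mul_smul]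
    congr 1
    have := hnormal.conj_mem k hk y⁻¹
    rw [inv_inv, mul_assoc] at this
    exact this
  rw [hbot] at hco
  have hgen : ∀ x : G, x ≠ 1 → Subgroup.zpowers x = ⊤ := fun x hx =>
    hco.2 _ (bot_lt_iff_ne_bot.mpr (by simpa using hx))
  haveI : Nontrivial G := ⟨⟨g, 1, fun h => hab (by rw [← hg, h, one_smul])⟩⟩
  refine ⟨hbot, ?_, ?_⟩
  · obtain ⟨x, hx⟩ := exists_ne (1 : G)
    exact ⟨x, fun y => Subgroup.mem_zpowers_iff.mp ((hgen x hx).symm ▸ Subgroup.mem_top y : y ∈ Subgroup.zpowers x)⟩
  · obtain ⟨q, hq, hqd⟩ := Nat.exists_prime_and_dvd (n := Nat.card G) Finite.one_lt_card.ne'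
    haveI := Fact.mk hq
    obtain ⟨x, hx⟩ := exists_prime_orderOf_dvd_card' q hqd
    have hx1 : x ≠ 1 := fun h => hq.one_lt.ne' (by rw [← hx, h, orderOf_one])
    rw [← Subgroup.card_top, ← hgen x hx1, Nat.card_zpowers, hx]
    exact hq

end Cfsg.Agent.S3683
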