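import Cfsg.Statements.S3684
import Cfsg.Agent.S0206

-- import your own Cfsg.Agent.* helpers here

set_option autoImplicit false
open Cfsg

namespace Cfsg.Agent.S3684

/-- Let a finite group G act faithfully and primitively on a set Ω, and suppose the stabilizer of a point a has an orbit of length 2. Then the stabilizer of a has order 2 and G is isomorphic to the dihedral group of order 2p for some prime p. -/
theorem result {G Ω : Type*} [Group G] [Finite G] [MulAction G Ω] [FaithfulSMul G Ω] [Finite Ω]
    (hprim : MulAction.IsPreprimitive G Ω) (a b : Ω) (h2 : Nat.card (MulAction.orbit (MulAction.stabilizer G a) b) = 2) :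
    Nat.card (MulAction.stabilizer G a) = 2 ∧ ∃ p : ℕ, p.Prime ∧ Nonempty (G ≃* DihedralGroup p) := by
  classical
  haveI := hprim
  set A := MulAction.stabilizer G a with hA
  set B := MulAction.stabilizer G b with hB
  have hba : b ≠ a := by
    intro h
    have : Subsingleton (MulAction.orbit A b) := by
      constructor
      rintro ⟨x, k, rfl⟩ ⟨y, l, rfl⟩
      ext
      subst h
      exact k.2.trans l.2.symm
    rw [Nat.card_of_subsingleton (⟨b, MulAction.mem_orbit_self b⟩ : MulAction.orbit A b)] at h2
    omega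
  have hAB : A ≠ B := by
    intro h
    have : Subsingleton (MulAction.orbit A b) := by
      constructor
      rintro ⟨x, k, rfl⟩ ⟨y, l, rfl⟩
      ext
      have hk : (k : G) ∈ B := h ▸ k.2
      have hl : (l : G) ∈ B := h ▸ l.2
      exact (MulAction.mem_stabilizer_iff.mp hk).trans (MulAction.mem_stabilizer_iff.mp hl).symm
    rw [Nat.card_of_subsingleton (⟨b, MulAction.mem_orbit_self b⟩ : MulAction.orbit A b)] at h2
    omega
  haveI : Nontrivial Ω := ⟨b, a, hba⟩
  have hco : IsCoatom A := (MulAction.isCoatom_stabilizer_iff_preprimitive (G := G) a).mpr hprim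
  obtain ⟨g, hg⟩ := MulAction.exists_smul_eq G a b
  have hconj : B = A.map (MulAut.conj g).toMonoidHom := by
    rw [hA, hB, ← hg]; exact MulAction.stabilizer_smul_eq_stabilizer_map_conj g a
  have hcard : Nat.card B = Nat.card A := by
    rw [hconj]; exact Subgroup.card_map_of_injective (MulAut.conj g).injective
  set K := A ⊓ B with hK
  have hKA : K.relIndex A = 2 := by
    rw [hK, Subgroup.inf_relIndex_left]
    change (MulAction.stabilizer A b).index = 2
    rw [MulAction.index_stabilizer, ← Nat.card_coe_set_eq, h2]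
  have hKB : K.relIndex B = 2 := by
    have e1 : Nat.card K * K.relIndex A = Nat.card A := by
      rw [← (Subgroup.subgroupOfEquivOfLe (inf_le_left : K ≤ A)).toEquiv |> Nat.card_congr]
      exact Subgroup.card_mul_index _
    have e2 : Nat.card K * K.relIndex B = Nat.card B := by
      rw [← (Subgroup.subgroupOfEquivOfLe (inf_le_right : K ≤ B)).toEquiv |> Nat.card_congr]
      exact Subgroup.card_mul_index _
    rw [hcard, ← e1, hKA] at e2
    exact Nat.eq_of_mul_eq_mul_left Nat.card_pos e2
  have hKn : K.Normal := by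
    haveI : (K.subgroupOf A).Normal := Subgroup.normal_of_index_eq_two hKA
    haveI : (K.subgroupOf B).Normal := Subgroup.normal_of_index_eq_two hKB
    have h1 : A ≤ Subgroup.normalizer (K : Set G) := (Subgroup.normal_subgroupOf_iff_le_normalizer inf_le_left).mp inferInstance
    have h2 : B ≤ Subgroup.normalizer (K : Set G) := (Subgroup.normal_subgroupOf_iff_le_normalizer inf_le_right).mp inferInstance
    rw [← Subgroup.normalizer_eq_top_iff, ← top_le_iff, ← hco.2 (A ⊔ B) (lt_of_le_of_ne le_sup_left fun h => hAB ?_)]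
    · exact sup_le h1 h2
    · exact (Subgroup.eq_of_le_of_card_ge (h ▸ le_sup_right) hcard.ge).symm
  have hfaith : ∀ N : Subgroup G, N.Normal → N ≤ A → N = ⊥ := by
    intro N hN hle
    rw [eq_bot_iff]
    intro k hk
    rw [Subgroup.mem_bot]
    apply eq_of_smul_eq_smul (α := Ω)
    intro x
    obtain ⟨y, rfl⟩ := MulAction.exists_smul_eq G a x
    rw [one_smul, smul_smul, ← mul_inv_cancel_left y (k * y), mul_smul]
    congr 1
    have := hN.conj_mem k hk y⁻¹
    rw [inv_inv, mul_assoc] at this
    exact hle this
  have hA2 : Nat.card A = 2 := by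
    rw [← hKA, hfaith K hKn inf_le_left, Subgroup.relIndex_bot_left]
  have hnA : ¬ A.Normal := fun h => by
    rw [hfaith A h le_rfl, Subgroup.card_bot] at hA2
    omega
  obtain ⟨t, ht, ht1⟩ := A.nontrivial_iff_exists_ne_one.mp (Finite.one_lt_card_iff_nontrivial.mp (by omega))
  obtain ⟨s, hs, hs1⟩ := B.nontrivial_iff_exists_ne_one.mp (Finite.one_lt_card_iff_nontrivial.mp (by omega))
  have h22 : ∀ (H : Subgroup G), Nat.card H = 2 → ∀ x ∈ H, x ≠ 1 → orderOf x = 2 := by
    intro H hH x hx hx1
    have := H.orderOf_dvd_natCard hx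
    rw [hH] at this
    rcases (Nat.dvd_prime Nat.prime_two).mp this with h | h
    · exact absurd (orderOf_eq_one_iff.mp h) hx1
    · exact h
  have hto := h22 A hA2 t ht ht1
  have hso := h22 B (hcard.trans hA2) s hs hs1
  have hAt : A = Subgroup.zpowers t := (Subgroup.eq_of_le_of_card_ge (Subgroup.zpowers_le.mpr ht) (by rw [Nat.card_zpowers, hto, hA2])).symm
  have hBs : B = Subgroup.zpowers s := (Subgroup.eq_of_le_of_card_ge (Subgroup.zpowers_le.mpr hs) (by rw [Nat.card_zpowers, hso, hcard, hA2])).symm
  have hts : t ≠ s := fun h => hAB (by rw [hAt, hBs, h])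
  have htop : Subgroup.closure ({t, s} : Set G) = ⊤ := by
    refine hco.2 _ (lt_of_le_of_ne ?_ fun h => hts ?_)
    · rw [hAt, Subgroup.zpowers_le]; exact Subgroup.subset_closure (by simp)
    · have hsA : s ∈ A := h ▸ Subgroup.subset_closure (by simp)
      by_contra hne
      have : B ≤ A := by rw [hBs, Subgroup.zpowers_le]; exact hsA
      exact hAB (Subgroup.eq_of_le_of_card_ge this hcard.ge).symm
  obtain ⟨e⟩ := Cfsg.Agent.S0206.result t s hto hso hts
  rw [htop] at e
  set e' : G ≃* DihedralGroup (orderOf (t * s)) := Subgroup.topEquiv.symm.trans e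
  refine ⟨hA2, orderOf (t * s), ?_, ⟨e'⟩⟩
  set c := t * s with hc
  set n := orderOf c with hn
  have hcardG : Nat.card G = 2 * n := by rw [Nat.card_congr e'.toEquiv, DihedralGroup.nat_card]
  have ht2 : t * t = 1 := by rw [← sq, ← hto, pow_orderOf_eq_one]
  have hs2 : s * s = 1 := by rw [← sq, ← hso, pow_orderOf_eq_one]
  have hinv : ∀ k : ℕ, t * c ^ k * t = (c ^ k)⁻¹ := by
    intro k
    induction k with
    | zero => simp [ht2]
    | succ k ih =>
      have h1 : t * c * t = c⁻¹ := by
        rw [eq_inv_iff_mul_eq_one, hc]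
        simp only [mul_assoc]
        rw [← mul_assoc t t, ht2, one_mul, ← mul_assoc t t, ht2, one_mul, hs2]
      calc t * c ^ (k + 1) * t = (t * c ^ k * t) * (t * c * t) := by
            rw [pow_succ]; simp only [mul_assoc]; rw [← mul_assoc t t, ht2, one_mul]
        _ = (c ^ (k + 1))⁻¹ := by rw [ih, h1, ← mul_inv_rev, ← pow_succ']
  have hn1 : n ≠ 1 := by
    rw [Ne, orderOf_eq_one_iff, hc]
    intro h
    exact hts (by rw [eq_inv_of_mul_eq_one_left h, inv_eq_iff_mul_eq_one.mpr hs2])
  obtain ⟨q, hq, hqn⟩ := Nat.exists_prime_and_dvd hn1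
  by_cases hcq : c ^ q = 1
  · rw [show n = q from Nat.dvd_antisymm (orderOf_dvd_of_pow_eq_one hcq) hqn]
    exact hq
  exfalso
  set u := t * c ^ q with hu
  have hu2 : u * u = 1 := by
    calc u * u = (t * c ^ q * t) * c ^ q := by rw [hu]; group
      _ = 1 := by rw [hinv, inv_mul_cancel]
  have hut : t ≠ u := fun h => hcq (mul_eq_left.mp h.symm)
  have hu1 : u ≠ 1 := by
    intro h
    apply hnA
    rw [← Subgroup.normalizer_eq_top_iff, ← top_le_iff, ← htop, Subgroup.closure_le]
    have hcomm : Commute t c := by
      have h1 : c ^ q = t⁻¹ := eq_inv_of_mul_eq_one_right h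
      have := (Commute.refl c).pow_left q
      rw [h1, Commute.inv_left_iff] at this
      exact this
    have hts' : Commute t s := by
      have : s = t * c := by rw [hc, ← mul_assoc, ht2, one_mul]
      rw [this]
      exact (Commute.refl t).mul_right hcomm
    intro x hx
    rw [SetLike.mem_coe, Subgroup.mem_normalizer_iff]
    intro y
    have hx' : ∀ z ∈ A, Commute x z := by
      intro z hz
      rw [hAt] at hz
      obtain ⟨k, rfl⟩ := hz
      rcases hx with rfl | hx
      · exact (Commute.refl x).zpow_right k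
      · rw [Set.mem_singleton_iff] at hx; subst hx
        exact hts'.symm.zpow_right k
    constructor
    · intro hy; rwa [(hx' y hy).eq, mul_inv_cancel_right]
    · intro hy
      have := hx' _ hy
      have h3 : x * y * x⁻¹ = y := by
        have h4 := this.eq
        calc x * y * x⁻¹ = x⁻¹ * (x * (x * y * x⁻¹)) := by group
          _ = x⁻¹ * ((x * y * x⁻¹) * x) := by rw [h4]
          _ = y := by group
      rwa [h3] at hy
  have huo : orderOf u = 2 := orderOf_eq_prime (by rw [sq]; exact hu2) hu1
  obtain ⟨e2⟩ := Cfsg.Agent.S0206.result t u hto huo hut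
  have htu : t * u = c ^ q := by rw [hu, ← mul_assoc, ht2, one_mul]
  have hH : Subgroup.closure ({t, u} : Set G) = ⊤ := by
    refine hco.2 _ (lt_of_le_of_ne ?_ fun h => ?_)
    · rw [hAt, Subgroup.zpowers_le]; exact Subgroup.subset_closure (by simp)
    · have := Nat.card_congr e2.toEquiv
      rw [← h, hA2, DihedralGroup.nat_card, htu] at this
      have h1 : orderOf (c ^ q) = 1 := by omega
      exact hcq (orderOf_eq_one_iff.mp h1)
  have := Nat.card_congr e2.toEquiv
  rw [hH, Subgroup.card_top, hcardG, DihedralGroup.nat_card, htu, orderOf_pow_of_dvd hq.ne_zero hqn] at this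
  have h3 : n / q < n := Nat.div_lt_self (orderOf_pos c) hq.one_lt
  generalize hd : n / q = d at h3 this
  omega

end Cfsg.Agent.S3684
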