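import Cfsg.Statements.S3687
import Cfsg.Agent.Lib.ThompsonWielandt.Primitive
import Cfsg.Agent.Lib.ThompsonWielandt.AltStructure

set_option autoImplicit false
open Cfsg

namespace Cfsg.Agent.S3687

/-- Let a finite group G act faithfully and primitively on a set Ω, let a and b be points such that the orbit Δ of b under the stabilizer H of a has d ≥ 6 elements, and suppose that the permutation group induced by H on Δ contains the alternating group of Δ (the image of H in the symmetric group of Δ has index at most 2) while H does not act faithfully on Δ. Then either H induces exactly the alternating group of Δ and H is isomorphic to the direct product of the alternating groups of degrees d and d - 1; or H induces the full symmetric group of Δ and H is isomorphic to one of: the direct product of the symmetric groups of degrees d and d - 1, the direct product of the symmetric group of degree d with the alternating group of degree d - 1, or the subgroup of the direct product of the symmetric groups of degrees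 d and d - 1 consisting of the pairs of permutations with equal signs. -/
theorem result {G Ω : Type*} [Group G] [Finite G] [MulAction G Ω] [FaithfulSMul G Ω] [Finite Ω]
    (hprim : MulAction.IsPreprimitive G Ω) (a b : Ω) (d : ℕ) (hd : Nat.card (MulAction.orbit (MulAction.stabilizer G a) b) = d) (h6 : 6 ≤ d)
    (halt : (MulAction.toPermHom (MulAction.stabilizer G a) (MulAction.orbit (MulAction.stabilizer G a) b)).range.index ≤ 2)
    (hunf : ¬ Function.Injective (MulAction.toPermHom (MulAction.stabilizer G a) (MulAction.orbit (MulAction.stabilizer G a) b))) :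
    ((MulAction.toPermHom (MulAction.stabilizer G a) (MulAction.orbit (MulAction.stabilizer G a) b)).range.index = 2 ∧
      Nonempty (MulAction.stabilizer G a ≃* alternatingGroup (Fin d) × alternatingGroup (Fin (d - 1)))) ∨
    ((MulAction.toPermHom (MulAction.stabilizer G a) (MulAction.orbit (MulAction.stabilizer G a) b)).range = ⊤ ∧
      (Nonempty (MulAction.stabilizer G a ≃* Equiv.Perm (Fin d) × Equiv.Perm (Fin (d - 1))) ∨
       Nonempty (MulAction.stabilizer G a ≃* Equiv.Perm (Fin d) × alternatingGroup (Fin (d - 1))) ∨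
       Nonempty (MulAction.stabilizer G a ≃* ((Equiv.Perm.sign.comp (MonoidHom.fst (Equiv.Perm (Fin d)) (Equiv.Perm (Fin (d - 1))))) *
         (Equiv.Perm.sign.comp (MonoidHom.snd (Equiv.Perm (Fin d)) (Equiv.Perm (Fin (d - 1)))))).ker))) := by
  classical
  obtain ⟨hpair, ⟨e⟩, hdA, hdB⟩ := CfsgLib.ThompsonWielandt.primitive_pair hprim a b hd (by omega)
  haveI := Fintype.ofFinite (MulAction.orbit (MulAction.stabilizer G a) b)
  set θ := MulAction.toPermHom (MulAction.stabilizer G a) (MulAction.orbit (MulAction.stabilizer G a) b)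
  have hker : θ.ker = (CfsgLib.ThompsonWielandt.A₁ (MulAction.stabilizer G a)
      (MulAction.stabilizer G b)).subgroupOf (MulAction.stabilizer G a) := by
    ext y
    constructor
    · intro hy
      refine CfsgLib.ThompsonWielandt.mem_coreIn y.2 fun x hx => ?_
      refine Subgroup.mem_inf.2 ⟨mul_mem (mul_mem hx y.2) (inv_mem hx), ?_⟩
      have hfix : (y : G) • x⁻¹ • b = x⁻¹ • b := congrArg Subtype.val (Equiv.ext_iff.1 hy
        ⟨(⟨x⁻¹, inv_mem hx⟩ : MulAction.stabilizer G a) • b, MulAction.mem_orbit _ _⟩)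
      rw [MulAction.mem_stabilizer_iff, mul_smul, mul_smul]
      exact (congrArg (fun z => x • z) hfix).trans (smul_inv_smul x b)
    · intro hy
      refine Equiv.ext ?_
      rintro ⟨_, k, rfl⟩
      obtain ⟨y', hy', hye⟩ := hy
      have hy'' : y' = y := Subtype.ext hye
      subst hy''
      have h1 : ((k⁻¹ * y' * k⁻¹⁻¹ : MulAction.stabilizer G a) : G) ∈
          MulAction.stabilizer G a ⊓ MulAction.stabilizer G b := Subgroup.mem_subgroupOf.1 (hy' k⁻¹)
      have h2 : ((k : G)⁻¹ * (y' : G) * (k : G)⁻¹⁻¹) • b = b :=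
        MulAction.mem_stabilizer_iff.1 (Subgroup.mem_inf.1 h1).2
      rw [inv_inv, mul_smul, mul_smul, inv_smul_eq_iff] at h2
      exact Subtype.ext h2
  have hθ : Nat.card θ.range = (CfsgLib.ThompsonWielandt.A₁ (MulAction.stabilizer G a)
      (MulAction.stabilizer G b)).relIndex (MulAction.stabilizer G a) := by
    rw [← Subgroup.index_ker, hker]; rfl
  have hθi : Nat.card θ.range * θ.range.index = Nat.factorial d := by
    rw [Subgroup.card_mul_index, Nat.card_perm, hd]
  have hbig : CfsgLib.ThompsonWielandt.AltPair (MulAction.stabilizer G a) (MulAction.stabilizer G b) d := by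
    refine ⟨hpair, h6, hdA, hdB, ?_⟩
    rw [← hθ, ← hθi, mul_comm]
    exact Nat.mul_le_mul_right _ halt
  have hne : CfsgLib.ThompsonWielandt.A₁ (MulAction.stabilizer G a) (MulAction.stabilizer G b) ≠ ⊥ := by
    intro h0
    apply hunf
    rw [← MonoidHom.ker_eq_bot_iff, hker, h0, Subgroup.bot_subgroupOf]
  obtain ⟨Φ, hinj, hAA, hfst, heven⟩ := hbig.exists_embedding e hne
  have h2 : 2 * Nat.card (alternatingGroup (Fin d)) = Nat.factorial d := by
    have := CfsgLib.ThompsonWielandt.two_mul_card_alt (α := Fin d) (by rw [Nat.card_fin]; omega)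
    rwa [Nat.card_fin] at this
  rw [← hθ] at hfst
  -- membership in the image only depends on the two signs
  have hmem : ∀ (x : Equiv.Perm (Fin d) × Equiv.Perm (Fin (d - 1))) (m : MulAction.stabilizer G a),
      Equiv.Perm.sign x.1 = Equiv.Perm.sign (Φ m).1 → Equiv.Perm.sign x.2 = Equiv.Perm.sign (Φ m).2 →
      x ∈ Φ.range := by
    intro x m h1 h1'
    have h3 : x * (Φ m)⁻¹ ∈ Φ.range := hAA ⟨by
      simp [Equiv.Perm.mem_alternatingGroup, h1], by simp [Equiv.Perm.mem_alternatingGroup, h1']⟩
    simpa using mul_mem h3 ⟨m, rfl⟩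
  have eM := MonoidHom.ofInjective hinj
  set s := Equiv.Perm.sign (α := Fin d)
  set t := Equiv.Perm.sign (α := Fin (d - 1))
  by_cases hev : ∀ m, s (Φ m).1 = 1
  · left
    have hR : Φ.range = (alternatingGroup (Fin d)).prod (alternatingGroup (Fin (d - 1))) := by
      refine le_antisymm ?_ hAA
      rintro _ ⟨m, rfl⟩
      exact ⟨hev m, heven hev m⟩
    refine ⟨?_, ⟨(eM.trans (MulEquiv.subgroupCongr hR)).trans (Subgroup.prodEquiv _ _)⟩⟩
    have h3 : Nat.card θ.range = Nat.card (alternatingGroup (Fin d)) := by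
      rw [← hfst]
      congr 2
      refine le_antisymm ?_ fun x hx => ?_
      · rintro _ ⟨m, rfl⟩
        exact hev m
      · obtain ⟨m, hm⟩ := hAA (show (x, (1 : Equiv.Perm (Fin (d - 1)))) ∈ _ from ⟨hx, one_mem _⟩)
        exact ⟨m, congrArg Prod.fst hm⟩
    rw [h3, ← h2, mul_comm] at hθi
    exact Nat.eq_of_mul_eq_mul_right Nat.card_pos hθi
  right
  push Not at hev
  obtain ⟨m₀, hm₀⟩ := hev
  have hm₀' : s (Φ m₀).1 = -1 := (Int.units_eq_one_or _).resolve_left hm₀
  refine ⟨?_, ?_⟩
  · refine Subgroup.eq_top_of_card_eq _ ?_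
    rw [← hfst, Nat.card_perm, hd]
    have htop : ((MonoidHom.fst (Equiv.Perm (Fin d)) (Equiv.Perm (Fin (d - 1)))).comp Φ).range = ⊤ := by
      rw [eq_top_iff]
      intro x _
      rcases Int.units_eq_one_or (s x) with hx | hx
      · obtain ⟨m, hm⟩ := hAA (show (x, (1 : Equiv.Perm (Fin (d - 1)))) ∈ _ from
          ⟨hx, one_mem _⟩)
        exact ⟨m, congrArg Prod.fst hm⟩
      · obtain ⟨m, hm⟩ := hmem (x, (Φ m₀).2) m₀ (hx.trans hm₀'.symm) rfl
        exact ⟨m, congrArg Prod.fst hm⟩
    rw [htop, Subgroup.card_top, Nat.card_perm, Nat.card_fin]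
  by_cases hsnd : ∀ m, t (Φ m).2 = 1
  · right; left
    have hR : Φ.range = (⊤ : Subgroup (Equiv.Perm (Fin d))).prod (alternatingGroup (Fin (d - 1))) := by
      refine le_antisymm ?_ ?_
      · rintro _ ⟨m, rfl⟩
        exact ⟨trivial, hsnd m⟩
      · rintro x ⟨-, hx⟩
        rcases Int.units_eq_one_or (s x.1) with h1 | h1
        · exact hAA ⟨h1, hx⟩
        · exact hmem x m₀ (h1.trans hm₀'.symm) (Eq.trans hx (hsnd m₀).symm)
    exact ⟨(eM.trans (MulEquiv.subgroupCongr hR)).trans
      ((Subgroup.prodEquiv _ _).trans (MulEquiv.prodCongr Subgroup.topEquiv (MulEquiv.refl _)))⟩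
  by_cases hdiag : ∀ m, s (Φ m).1 = t (Φ m).2
  · right; right
    refine ⟨eM.trans (MulEquiv.subgroupCongr ?_)⟩
    refine le_antisymm ?_ ?_
    · rintro _ ⟨m, rfl⟩
      show s (Φ m).1 * t (Φ m).2 = 1
      rw [hdiag m, Int.units_mul_self]
    · intro x hx
      have hx' : s x.1 * t x.2 = 1 := hx
      have hst : s x.1 = t x.2 := by
        calc s x.1 = s x.1 * (t x.2 * t x.2) := by rw [Int.units_mul_self, mul_one]
          _ = (s x.1 * t x.2) * t x.2 := (mul_assoc _ _ _).symm
          _ = t x.2 := by rw [hx', one_mul]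
      rcases Int.units_eq_one_or (s x.1) with h1 | h1
      · exact hAA ⟨h1, hst.symm.trans h1⟩
      · exact hmem x m₀ (h1.trans hm₀'.symm) (hst.symm.trans ((h1.trans hm₀'.symm).trans (hdiag m₀)))
  left
  push Not at hsnd hdiag
  obtain ⟨m₁, hm₁⟩ := hsnd
  obtain ⟨m₂, hm₂⟩ := hdiag
  have hR : Φ.range = ⊤ := by
    rw [eq_top_iff]
    intro x _
    have hsx : ∀ u v : ℤˣ, ∃ m, s (Φ m).1 = u ∧ t (Φ m).2 = v := by
      let σ : MulAction.stabilizer G a →* ℤˣ × ℤˣ :=
        ((s.comp (MonoidHom.fst _ _)).prod (t.comp (MonoidHom.snd _ _))).comp Φ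
      have hσ : ∀ m, σ m = (s (Φ m).1, t (Φ m).2) := fun m => rfl
      have hm₁' : t (Φ m₁).2 = -1 := (Int.units_eq_one_or _).resolve_left hm₁
      have hgen : (-1, 1) ∈ σ.range ∧ (1, -1) ∈ σ.range := by
        have h₀ : (-1, t (Φ m₀).2) ∈ σ.range := ⟨m₀, (hσ m₀).trans (Prod.ext hm₀' rfl)⟩
        have h₁ : (s (Φ m₁).1, -1) ∈ σ.range := ⟨m₁, (hσ m₁).trans (Prod.ext rfl hm₁')⟩
        have h₂ : (s (Φ m₂).1, t (Φ m₂).2) ∈ σ.range := ⟨m₂, hσ m₂⟩
        rcases Int.units_eq_one_or (t (Φ m₀).2) with b0 | b0 <;> rw [b0] at h₀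
        · rcases Int.units_eq_one_or (s (Φ m₁).1) with a1 | a1 <;> rw [a1] at h₁
          · exact ⟨h₀, h₁⟩
          · exact ⟨h₀, by simpa using mul_mem h₀ h₁⟩
        · rcases Int.units_eq_one_or (s (Φ m₂).1) with a2 | a2 <;>
            rcases Int.units_eq_one_or (t (Φ m₂).2) with b2 | b2 <;> rw [a2, b2] at h₂
          · exact absurd (a2.trans b2.symm) hm₂
          · exact ⟨by simpa using mul_mem h₀ h₂, h₂⟩
          · exact ⟨h₂, by simpa using mul_mem h₀ h₂⟩
          · exact absurd (a2.trans b2.symm) hm₂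
      intro u v
      have huv : (u, v) ∈ σ.range := by
        have : ((u, 1) : ℤˣ × ℤˣ) * (1, v) = (u, v) := by simp
        rw [← this]
        refine mul_mem ?_ ?_
        · rcases Int.units_eq_one_or u with rfl | rfl
          · exact one_mem _
          · exact hgen.1
        · rcases Int.units_eq_one_or v with rfl | rfl
          · exact one_mem _
          · exact hgen.2
      obtain ⟨m, hm⟩ := huv
      rw [hσ] at hm
      exact ⟨m, congrArg Prod.fst hm, congrArg Prod.snd hm⟩
    obtain ⟨m, h1, h1'⟩ := hsx (s x.1) (t x.2)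
    exact hmem x m h1.symm h1'.symm
  exact ⟨(eM.trans (MulEquiv.subgroupCongr hR)).trans Subgroup.topEquiv⟩

end Cfsg.Agent.S3687
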