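import Cfsg.Statements.S3688
import Cfsg.Agent.Lib.ThompsonWielandt.Counting

set_option autoImplicit false
open Cfsg

namespace Cfsg.Agent.S3688

/-- Let a finite group G act faithfully and primitively on a set Ω, let a and b be points such that the orbit of b under the stabilizer H of a has length d ≥ 2, and suppose that H is not strongly constrained: for no prime p does the generalized Fitting subgroup of H coincide with the largest normal p-subgroup of H. Then the order of H divides d! · ((d - 1)!)^d. -/
theorem result {G Ω : Type*} [Group G] [Finite G] [MulAction G Ω] [FaithfulSMul G Ω] [Finite Ω]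
    (hprim : MulAction.IsPreprimitive G Ω) (a b : Ω) (d : ℕ) (hd : Nat.card (MulAction.orbit (MulAction.stabilizer G a) b) = d) (h2 : 2 ≤ d)
    (hnc : ∀ p : ℕ, p.Prime → Cfsg.generalizedFittingSubgroup (MulAction.stabilizer G a) ≠ Cfsg.pCore p (MulAction.stabilizer G a)) :
    Nat.card (MulAction.stabilizer G a) ∣ Nat.factorial d * (Nat.factorial (d - 1)) ^ d := by
  classical
  haveI := hprim
  set A := MulAction.stabilizer G a with hA
  set B := MulAction.stabilizer G b with hB
  have hcardO : A ≠ B ∧ b ≠ a := by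
    have hfix : (∀ k : A, (k : G) • b = b) → False := by
      intro h
      have : Subsingleton (MulAction.orbit A b) := by
        constructor
        rintro ⟨x, k, rfl⟩ ⟨y, l, rfl⟩
        exact Subtype.ext ((h k).trans (h l).symm)
      rw [Nat.card_of_subsingleton (⟨b, MulAction.mem_orbit_self b⟩ : MulAction.orbit A b)] at hd
      omega
    refine ⟨fun h => hfix fun k => ?_, fun h => hfix fun k => ?_⟩
    · exact MulAction.mem_stabilizer_iff.mp (show (k : G) ∈ B from h.le k.2)
    · rw [h]; exact k.2
  haveI : Nontrivial Ω := ⟨b, a, hcardO.2⟩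
  have hcoA : IsCoatom A := (MulAction.isCoatom_stabilizer_iff_preprimitive (G := G) a).mpr hprim
  have hcoB : IsCoatom B := (MulAction.isCoatom_stabilizer_iff_preprimitive (G := G) b).mpr hprim
  have hcore : ∀ c : Ω, (MulAction.stabilizer G c).normalCore = ⊥ := by
    intro c
    rw [eq_bot_iff]
    intro k hk
    rw [Subgroup.mem_bot]
    apply eq_of_smul_eq_smul (α := Ω)
    intro x
    obtain ⟨g, rfl⟩ := MulAction.exists_smul_eq G c x
    have h1 : g⁻¹ * k * g⁻¹⁻¹ ∈ MulAction.stabilizer G c := hk g⁻¹
    rw [inv_inv, MulAction.mem_stabilizer_iff, mul_smul, mul_smul, inv_smul_eq_iff] at h1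
    rw [h1, one_smul]
  obtain ⟨g, hg⟩ := MulAction.exists_smul_eq G a b
  have hconj : B = A.map (MulAut.conj g).toMonoidHom := by
    rw [hA, hB, ← hg]; exact MulAction.stabilizer_smul_eq_stabilizer_map_conj g a
  have hcard : Nat.card B = Nat.card A := by
    rw [hconj]; exact Subgroup.card_map_of_injective (MulAut.conj g).injective
  have hdA : (A ⊓ B).relIndex A = d := by
    rw [Subgroup.inf_relIndex_left]
    change (MulAction.stabilizer A b).index = d
    rw [MulAction.index_stabilizer, ← Nat.card_coe_set_eq, hd]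
  have hdB : (A ⊓ B).relIndex B = d := by
    have e1 : Nat.card (A ⊓ B : Subgroup G) * (A ⊓ B).relIndex A = Nat.card A := by
      rw [← (Subgroup.subgroupOfEquivOfLe (inf_le_left : A ⊓ B ≤ A)).toEquiv |> Nat.card_congr]
      exact Subgroup.card_mul_index _
    have e2 : Nat.card (A ⊓ B : Subgroup G) * (A ⊓ B).relIndex B = Nat.card B := by
      rw [← (Subgroup.subgroupOfEquivOfLe (inf_le_right : A ⊓ B ≤ B)).toEquiv |> Nat.card_congr]
      exact Subgroup.card_mul_index _
    rw [hcard, ← e1, hdA] at e2
    exact Nat.eq_of_mul_eq_mul_left Nat.card_pos e2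
  have hpair : CfsgLib.ThompsonWielandt.Pair A B := ⟨hcoA, hcoB, hcore a, hcore b, hcardO.1⟩
  by_cases hA2 : CfsgLib.ThompsonWielandt.A₂ A B = ⊥
  · exact CfsgLib.ThompsonWielandt.card_dvd_of_A₂_eq_bot hdA hdB hA2
  by_cases hB2 : CfsgLib.ThompsonWielandt.A₂ B A = ⊥
  · rw [← hcard]
    exact CfsgLib.ThompsonWielandt.card_dvd_of_A₂_eq_bot
      (by rw [inf_comm]; exact hdB) (by rw [inf_comm]; exact hdA) hB2
  obtain ⟨p, hp, hpA, hpB⟩ := hpair.exists_prime hA2 hB2
  haveI := Fact.mk hp
  exact absurd (hpair.generalizedFitting hA2 hB2 hpA hpB) (hnc p hp)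

end Cfsg.Agent.S3688
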