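import Cfsg.Statements.S3693
import Cfsg.Agent.Lib.ThompsonWielandt.Primitive

set_option autoImplicit false
open Cfsg

namespace Cfsg.Agent.S3693

/-- Let a finite group G act faithfully and primitively on a set Ω, let a and b be points such that the orbit Δ of b under the stabilizer H of a has length d ≥ 2, and consider the permutation group induced on Δ by the elements of H fixing b. If that induced group has trivial Fitting subgroup (no non-trivial nilpotent normal subgroup), then the two-point stabilizer of a and b has trivial Fitting subgroup and the order of H divides d! · ((d - 1)!)^d. -/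
theorem result {G Ω : Type*} [Group G] [Finite G] [MulAction G Ω] [FaithfulSMul G Ω] [Finite Ω]
    (hprim : MulAction.IsPreprimitive G Ω) (a b : Ω) (d : ℕ) (hd : Nat.card (MulAction.orbit (MulAction.stabilizer G a) b) = d) (h2 : 2 ≤ d)
    (hF : Cfsg.fittingSubgroup ↥(((MulAction.stabilizer G b).subgroupOf (MulAction.stabilizer G a)).map (MulAction.toPermHom (MulAction.stabilizer G a) (MulAction.orbit (MulAction.stabilizer G a) b))) = ⊥) :
    Cfsg.fittingSubgroup ↥(MulAction.stabilizer G a ⊓ MulAction.stabilizer G b) = ⊥ ∧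
      Nat.card (MulAction.stabilizer G a) ∣ Nat.factorial d * (Nat.factorial (d - 1)) ^ d := by
  classical
  obtain ⟨hpair, ⟨e⟩, hdA, hdB⟩ := CfsgLib.ThompsonWielandt.primitive_pair hprim a b hd h2
  set A := MulAction.stabilizer G a with hA
  set B := MulAction.stabilizer G b with hB
  set φ := MulAction.toPermHom A (MulAction.orbit A b) with hφ
  have hcore : ∀ r : ℕ, r.Prime → CfsgLib.ThompsonWielandt.coreP r (A ⊓ B) = ⊥ := by
    intro r hr
    haveI := Fact.mk hr
    by_contra hne
    refine hpair.false_of_coreP_le e hne ?_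
    -- the image of the `r`-core in the subconstituent is trivial
    set P := CfsgLib.ThompsonWielandt.coreP r (A ⊓ B)
    set I := (B.subgroupOf A).map φ with hI
    have hPJ : P ≤ A ⊓ B := CfsgLib.ThompsonWielandt.coreP_le _ _
    set P' := (P.subgroupOf A).map φ with hP'
    have hP'I : P' ≤ I := Subgroup.map_mono (Subgroup.comap_mono (hPJ.trans inf_le_right))
    have hnormA : B.subgroupOf A ≤ Subgroup.normalizer ((P.subgroupOf A : Subgroup A) : Set A) := by
      refine le_trans ?_ (Subgroup.le_normalizer_comap A.subtype (H := P))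
      intro x hx
      exact CfsgLib.ThompsonWielandt.le_normalizer_coreP r Subgroup.le_normalizer
        (show (x : G) ∈ A ⊓ B from ⟨x.2, hx⟩)
    have hn : (P'.subgroupOf I).Normal :=
      (Subgroup.normal_subgroupOf_iff_le_normalizer hP'I).2
        ((Subgroup.map_mono hnormA).trans (Subgroup.le_normalizer_map φ))
    have hle := (CfsgLib.Fitting.le_pCore (G := I) hn
      ((((CfsgLib.ThompsonWielandt.isPGroup_coreP r (A ⊓ B)).comap_subtype (K := A)).map φ).comap_subtype)).trans
      (CfsgLib.Fitting.pCore_le_fittingSubgroup r)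
    rw [hF, le_bot_iff, Subgroup.subgroupOf_eq_bot] at hle
    intro y hy
    refine CfsgLib.ThompsonWielandt.mem_coreIn (hPJ hy).1 fun x hx => ?_
    have hy1 : φ ⟨y, (hPJ hy).1⟩ = 1 :=
      Subgroup.mem_bot.1 ((disjoint_iff_inf_le.1 hle) ⟨⟨_, hy, rfl⟩, hP'I ⟨_, hy, rfl⟩⟩)
    refine Subgroup.mem_inf.2 ⟨mul_mem (mul_mem hx (hPJ hy).1) (inv_mem hx), ?_⟩
    have hfix := congrArg Subtype.val (Equiv.ext_iff.1 hy1
      ⟨(⟨x⁻¹, inv_mem hx⟩ : A) • b, MulAction.mem_orbit _ _⟩)
    rw [hB, MulAction.mem_stabilizer_iff, mul_smul, mul_smul]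
    have hfix' : y • x⁻¹ • b = x⁻¹ • b := hfix
    rw [hfix', smul_inv_smul]
  refine ⟨?_, ?_⟩
  · by_contra hne
    obtain ⟨r, hr, hrd⟩ := Nat.exists_prime_and_dvd
      (show Nat.card (Cfsg.fittingSubgroup ↥(A ⊓ B)) ≠ 1 from
        fun h => hne (Subgroup.card_eq_one.1 h))
    haveI := Fact.mk hr
    haveI := CfsgLib.Fitting.fittingSubgroup_isNilpotent (G := ↥(A ⊓ B))
    haveI := CfsgLib.Fitting.fittingSubgroup_normal (G := ↥(A ⊓ B))
    let P : Sylow r (Cfsg.fittingSubgroup ↥(A ⊓ B)) := default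
    haveI := P.characteristic_of_normal inferInstance
    have hle := CfsgLib.Fitting.le_pCore (G := ↥(A ⊓ B))
      (inferInstance : ((P : Subgroup (Cfsg.fittingSubgroup ↥(A ⊓ B))).map
        (Cfsg.fittingSubgroup ↥(A ⊓ B)).subtype).Normal) (P.2.map _)
    have hbot : Cfsg.pCore r ↥(A ⊓ B) = ⊥ :=
      (Subgroup.map_eq_bot_iff_of_injective _ (Subgroup.subtype_injective _)).1 (hcore r hr)
    rw [hbot, le_bot_iff, Subgroup.map_eq_bot_iff_of_injective _ (Subgroup.subtype_injective _)] at hle
    exact P.ne_bot_of_dvd_card hrd hle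
  · by_cases hA2 : CfsgLib.ThompsonWielandt.A₂ A B = ⊥
    · exact CfsgLib.ThompsonWielandt.card_dvd_of_A₂_eq_bot hdA hdB hA2
    by_cases hB2 : CfsgLib.ThompsonWielandt.A₂ B A = ⊥
    · rw [Nat.card_congr e.toEquiv]
      exact CfsgLib.ThompsonWielandt.card_dvd_of_A₂_eq_bot
        (by rw [inf_comm]; exact hdB) (by rw [inf_comm]; exact hdA) hB2
    obtain ⟨p, hp, hpA, -⟩ := hpair.exists_prime hA2 hB2
    haveI := Fact.mk hp
    refine absurd ?_ hpA
    rw [← le_bot_iff, ← hcore p hp]
    exact CfsgLib.ThompsonWielandt.le_coreP (CfsgLib.ThompsonWielandt.isPGroup_coreP _ _)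
      ((CfsgLib.ThompsonWielandt.coreP_le _ _).trans
        ((CfsgLib.ThompsonWielandt.A₂_le_A₁ _ _).trans (CfsgLib.ThompsonWielandt.A₁_le_inf _ _)))
      (inf_le_left.trans (CfsgLib.ThompsonWielandt.le_normalizer_coreP _
        (CfsgLib.ThompsonWielandt.le_normalizer_coreIn _ _)))

end Cfsg.Agent.S3693
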