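import Cfsg.Statements.S3696
import Mathlib
-- import your own Cfsg.Agent.* helpers here

set_option autoImplicit false
open Cfsg

namespace Cfsg.Agent.S3696

theorem amgm (u v d e : ℕ) (hd : 1 ≤ d) :
    u ^ d * v ^ e * (d + e) ^ (d + e) ≤ (u + v) ^ (d + e) * (d ^ d * e ^ e) := by
  have hd' : (0 : ℝ) < d := Nat.cast_pos.mpr hd
  have hk : (0 : ℝ) < (d : ℝ) + e := by positivity
  have h := Real.geom_mean_le_arith_mean2_weighted (w₁ := (d : ℝ) / (d + e)) (w₂ := (e : ℝ) / (d + e))
    (p₁ := (u : ℝ) / d) (p₂ := (v : ℝ) / e) (by positivity) (by positivity) (by positivity) (by positivity)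
    (by field_simp)
  have hr : (d : ℝ) / (d + e) * ((u : ℝ) / d) + (e : ℝ) / (d + e) * ((v : ℝ) / e) ≤ ((u : ℝ) + v) / (d + e) := by
    have e1 : (d : ℝ) / (d + e) * ((u : ℝ) / d) = (u : ℝ) / (d + e) := by field_simp
    have e2 : (e : ℝ) / (d + e) * ((v : ℝ) / e) ≤ (v : ℝ) / (d + e) := by
      rcases Nat.eq_zero_or_pos e with rfl | he
      · simp; positivity
      · have : (0 : ℝ) < e := Nat.cast_pos.mpr he
        exact le_of_eq (by field_simp)
    rw [e1, add_div]
    linarith
  have h2 := pow_le_pow_left₀ (by positivity) (h.trans hr) (d + e)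
  rw [mul_pow, ← Real.rpow_natCast (((u : ℝ) / d) ^ _), ← Real.rpow_natCast (((v : ℝ) / e) ^ _),
    ← Real.rpow_mul (by positivity), ← Real.rpow_mul (by positivity), Nat.cast_add,
    div_mul_cancel₀ _ hk.ne', div_mul_cancel₀ _ hk.ne', Real.rpow_natCast, Real.rpow_natCast,
    div_pow, div_pow, div_pow, div_mul_div_comm] at h2
  have he0 : (0 : ℝ) < (e : ℝ) ^ e := by
    rcases Nat.eq_zero_or_pos e with rfl | he
    · simp
    · exact pow_pos (Nat.cast_pos.mpr he) _
  rw [div_le_div_iff₀ (mul_pos (pow_pos hd' _) he0) (pow_pos hk _)] at h2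
  exact_mod_cast h2

theorem main {Ω : Type*} [Fintype Ω] [DecidableEq Ω] (p : ℕ) (hp : p.Prime) :
    ∀ (c : ℕ) (B : Subgroup (Equiv.Perm Ω)), Nat.card B = c → IsPGroup p B → (∀ a ∈ B, ∀ b ∈ B, a * b = b * a) →
      ∀ k, Nat.card {x : B // x ^ p = 1} = p ^ k →
      ∃ M : Finset Ω, (∀ x, (∃ b ∈ B, b x ≠ x) ↔ x ∈ M) ∧ Nat.card B * k ^ k ≤ M.card ^ k := by
  classical
  intro c
  induction c using Nat.strong_induction_on with
  | _ c ih =>
    intro B hc hB hab k hk
    let M : Finset Ω := Finset.univ.filter fun x => ∃ b ∈ B, b x ≠ x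
    refine ⟨M, fun x => by simp [M], ?_⟩
    let Om : Subgroup B :=
      { carrier := {x | x ^ p = 1}
        one_mem' := one_pow p
        mul_mem' := fun {x y} hx hy => by
          show (x * y) ^ p = 1
          rw [(show Commute x y from Subtype.ext (hab x x.2 y y.2)).mul_pow, hx, hy, one_mul]
        inv_mem' := fun {x} hx => by
          show x⁻¹ ^ p = 1
          rw [inv_pow, hx, inv_one] }
    by_cases hB1 : B = ⊥
    · subst hB1
      have h1 : Nat.card {x : (⊥ : Subgroup (Equiv.Perm Ω)) // x ^ p = 1} = 1 := by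
        have : Nonempty {x : (⊥ : Subgroup (Equiv.Perm Ω)) // x ^ p = 1} := ⟨⟨1, one_pow p⟩⟩
        exact Nat.card_unique
      rw [h1] at hk
      have hk0 : k = 0 := by
        by_contra h
        exact (Nat.one_lt_pow h hp.one_lt).ne hk
      subst hk0
      simp
    have : Fact p.Prime := ⟨hp⟩
    obtain ⟨b, hb⟩ := exists_prime_orderOf_dvd_card' (G := B) p (by
      obtain ⟨n, hn⟩ := IsPGroup.iff_card.mp hB
      rcases n with _ | n
      · exact absurd (Subgroup.eq_bot_of_card_eq B hn) hB1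
      · exact hn ▸ dvd_pow_self p n.succ_ne_zero)
    obtain ⟨x₀, hx₀⟩ : ∃ x, (b : Equiv.Perm Ω) x ≠ x := by
      by_contra! h
      rw [show b = 1 from Subtype.ext (Equiv.ext h), orderOf_one] at hb
      exact hp.ne_one hb.symm
    let S : Subgroup B := MulAction.stabilizer B x₀
    let B' : Subgroup (Equiv.Perm Ω) := S.map B.subtype
    have hB'B : B' ≤ B := Subgroup.map_subtype_le S
    have hcardB' : Nat.card B' = Nat.card S := Subgroup.card_map_of_injective B.subtype_injective
    have hlt : Nat.card B' < c := by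
      rw [hcardB', ← hc]
      refine lt_of_le_of_ne (Subgroup.card_le_card_group S) fun e => hx₀ ?_
      have hS := Subgroup.eq_top_of_card_eq S e
      exact (hS ▸ Subgroup.mem_top b : b ∈ S)
    obtain ⟨k', hk'⟩ := IsPGroup.iff_card.mp ((hB.to_subgroup (Om ⊓ S)))
    have hk'2 : Nat.card {x : B' // x ^ p = 1} = p ^ k' := by
      rw [← hk']
      let e : S ≃* B' := S.equivMapOfInjective B.subtype B.subtype_injective
      exact Nat.card_congr
        { toFun := fun x => ⟨(e.symm x.1 : S).1, ⟨(by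
            show ((e.symm x.1 : S) : B) ^ p = 1
            rw [← Subgroup.coe_pow, ← map_pow, x.2, map_one, Subgroup.coe_one]), (e.symm x.1).2⟩⟩
          invFun := fun y => ⟨e ⟨y.1, y.2.2⟩, by
            rw [← map_pow, show (⟨y.1, y.2.2⟩ : S) ^ p = 1 from Subtype.ext y.2.1, map_one]⟩
          left_inv := fun x => Subtype.ext (by simp)
          right_inv := fun y => Subtype.ext (by simp) }
    obtain ⟨M', hM', hle'⟩ := ih _ hlt B' rfl (hB.to_le hB'B)
      (fun a ha a' ha' => hab a (hB'B ha) a' (hB'B ha')) k' hk'2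
    let O : Finset Ω := Finset.univ.filter fun x => x ∈ MulAction.orbit B x₀
    have hu : O.card = S.index := by
      rw [MulAction.index_stabilizer, ← Set.ncard_coe_finset]
      congr 1
      ext x; simp [O]
    have hBsplit : Nat.card B = O.card * Nat.card B' := by rw [hu, hcardB', mul_comm]; exact S.card_mul_index.symm
    have hdisj : Disjoint O M' := by
      rw [Finset.disjoint_left]
      intro y hy hy'
      obtain ⟨g, rfl⟩ := (Finset.mem_filter.mp hy).2
      obtain ⟨_, ⟨s, hs, rfl⟩, hne⟩ := (hM' _).mpr hy'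
      refine hne ?_
      show (s : Equiv.Perm Ω) ((g : Equiv.Perm Ω) x₀) = (g : Equiv.Perm Ω) x₀
      rw [← Equiv.Perm.mul_apply, hab _ s.2 _ g.2, Equiv.Perm.mul_apply, show (s : Equiv.Perm Ω) x₀ = x₀ from hs]
    have hsub : O ∪ M' ⊆ M := by
      intro y hy
      refine Finset.mem_filter.mpr ⟨Finset.mem_univ y, ?_⟩
      rcases Finset.mem_union.mp hy with h | h
      · obtain ⟨g, rfl⟩ := (Finset.mem_filter.mp h).2
        refine ⟨b, b.2, fun e => hx₀ ?_⟩
        change (b : Equiv.Perm Ω) ((g : Equiv.Perm Ω) x₀) = (g : Equiv.Perm Ω) x₀ at e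
        rw [← Equiv.Perm.mul_apply, hab _ b.2 _ g.2, Equiv.Perm.mul_apply] at e
        exact (g : Equiv.Perm Ω).injective e
      · obtain ⟨q, hq, hne⟩ := (hM' y).mpr h
        exact ⟨q, hB'B hq, hne⟩
    -- the socle drops by at most the orbit length
    have hOm : Nat.card Om = p ^ k := hk
    have hidx : ((Om ⊓ S).subgroupOf Om).index * p ^ k' = p ^ k := by
      have h := ((Om ⊓ S).subgroupOf Om).card_mul_index
      rw [Nat.card_congr (Subgroup.subgroupOfEquivOfLe inf_le_left).toEquiv, hk', hOm] at h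
      rw [mul_comm]; exact h
    have hkk : k' < k := by
      by_contra h
      push Not at h
      have h1 : Om ⊓ S = Om := Subgroup.eq_of_le_of_card_ge inf_le_left (by
        rw [hk', hOm]; exact Nat.pow_le_pow_right hp.pos h)
      have hbO : b ∈ Om := orderOf_dvd_iff_pow_eq_one.mp (dvd_of_eq hb)
      exact hx₀ (h1.ge hbO).2
    obtain ⟨d, rfl⟩ : ∃ d, k = d + k' := ⟨k - k', by omega⟩
    have hd1 : 1 ≤ d := by omega
    have hpd : p ^ d ≤ O.card := by
      rw [pow_add] at hidx
      rw [← Nat.eq_of_mul_eq_mul_right (pow_pos hp.pos k') hidx, hu, Subgroup.inf_subgroupOf_left]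
      exact (Subgroup.relIndex_le_of_le_right (le_top : Om ≤ ⊤) (by rw [Subgroup.relIndex_top_right]; exact Subgroup.index_ne_zero_of_finite)).trans (Subgroup.relIndex_top_right S).le
    have hud : O.card * d ^ d ≤ O.card ^ d := by
      obtain ⟨e, rfl⟩ : ∃ e, d = e + 1 := ⟨d - 1, by omega⟩
      rw [pow_succ' O.card]
      refine Nat.mul_le_mul_left _ ?_
      calc (e + 1) ^ (e + 1) ≤ (2 ^ e) ^ (e + 1) := Nat.pow_le_pow_left (Nat.lt_two_pow_self) _
        _ = (2 ^ (e + 1)) ^ e := by rw [← pow_mul, ← pow_mul, mul_comm]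
        _ ≤ O.card ^ e := Nat.pow_le_pow_left ((Nat.pow_le_pow_left hp.two_le _).trans hpd) _
    have hpos : 0 < d ^ d * k' ^ k' := Nat.mul_pos (pow_pos (by omega) _) (by
      rcases Nat.eq_zero_or_pos k' with h | h
      · simp [h]
      · exact pow_pos h _)
    refine Nat.le_of_mul_le_mul_right ?_ hpos
    calc Nat.card B * (d + k') ^ (d + k') * (d ^ d * k' ^ k')
        = O.card * d ^ d * (Nat.card B' * k' ^ k') * (d + k') ^ (d + k') := by rw [hBsplit]; ring
      _ ≤ O.card ^ d * M'.card ^ k' * (d + k') ^ (d + k') := Nat.mul_le_mul_right _ (Nat.mul_le_mul hud hle')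
      _ ≤ (O.card + M'.card) ^ (d + k') * (d ^ d * k' ^ k') := amgm _ _ _ _ hd1
      _ ≤ M.card ^ (d + k') * (d ^ d * k' ^ k') := Nat.mul_le_mul_right _ (Nat.pow_le_pow_left (by
          rw [← Finset.card_union_of_disjoint hdisj]; exact Finset.card_le_card hsub) _)

/-- Let p be a prime, Ω a finite set with n ≥ p elements, and A an abelian p-subgroup of the symmetric group on Ω whose elements of order dividing p number p^k (so k is the rank of A). Then |A| · k^k ≤ n^k, that is, |A| ≤ (n/k)^k. -/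
theorem result {Ω : Type*} [Fintype Ω] [DecidableEq Ω]
    (p : ℕ) (hp : p.Prime) (hn : p ≤ Fintype.card Ω) (A : Subgroup (Equiv.Perm Ω)) (hA : IsPGroup p A) (hab : IsMulCommutative A)
    (k : ℕ) (hk : Nat.card {x : A // x ^ p = 1} = p ^ k) :
    Nat.card A * k ^ k ≤ Fintype.card Ω ^ k := by
  obtain ⟨M, -, h⟩ := main p hp _ A rfl hA (fun a ha b hb => congrArg Subtype.val (hab.is_comm.comm (⟨a, ha⟩ : A) ⟨b, hb⟩)) k hk
  exact h.trans (Nat.pow_le_pow_left (Finset.card_le_univ M) k)

end Cfsg.Agent.S3696
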