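import Cfsg.Statements.S3703
import Cfsg.Agent.Lib.Coprime.Action
import Cfsg.Agent.Lib.FrobCompl.Conjugate
import Cfsg.Agent.Lib.FrobCompl.Kernel
import Cfsg.Agent.Lib.PSolvable.Omega

set_option autoImplicit false
open Cfsg

namespace Cfsg.Agent.S3703

open CfsgLib
open scoped Pointwise

/-- The norm identity: if `(x * f)` has `k`-th power one on all conjugates of a fixed point free element, then
the operators of the kernel fix everything. -/
theorem fixed_of_norm {G V : Type*} [Group G] [CommGroup V] [Finite V] (ρ : G →* MulAut V) (R : Subgroup G) [Finite R]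
    (k : ℕ) (h : G) (hk : 1 ≤ k) (hR : ∀ f ∈ R, h * f * h⁻¹ ∈ R) (hcop : (Nat.card R).Coprime (Nat.card V))
    (hfree : ∀ i, 1 ≤ i → i < k → ∀ f ∈ R, h ^ i * f * (h ^ i)⁻¹ = f → f = 1)
    (hnorm : ∀ f ∈ R, ∀ v : V, ∏ i ∈ Finset.range k, ρ (f * h ^ i * f⁻¹) v = 1) :
    ∀ f ∈ R, ∀ v : V, ρ f v = v := by
  classical
  haveI := Fintype.ofFinite R
  have hRi : ∀ (i : ℕ), ∀ f ∈ R, h ^ i * f * (h ^ i)⁻¹ ∈ R := by
    intro i
    induction i with
    | zero => intro f hf; simpa using hf
    | succ i ih =>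
      intro f hf
      have := hR _ (ih f hf)
      rw [pow_succ', mul_inv_rev]
      simpa [mul_assoc] using this
  have hfix : ∀ (w : V), ∀ f ∈ R, ρ f (∏ g : R, ρ (g : G) w) = ∏ g : R, ρ (g : G) w := by
    intro w f hf
    rw [map_prod]
    refine Fintype.prod_equiv (Equiv.mulLeft (⟨f, hf⟩ : R)) _ _ fun g => ?_
    rw [Equiv.coe_mulLeft, Subgroup.coe_mul, map_mul, MulAut.mul_apply]
  have hmain : ∀ v : V, ∃ w : V, (∀ f ∈ R, ρ f w = w) ∧ v ^ Fintype.card R * w = 1 := by
    intro v
    refine ⟨∏ i ∈ Finset.range (k - 1), ∏ g : R, ρ (g : G) (ρ (h ^ (i + 1)) v), fun f hf => ?_, ?_⟩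
    · rw [map_prod]
      exact Finset.prod_congr rfl fun i _ => hfix _ f hf
    · have key : ∀ i ∈ Finset.range (k - 1),
          ∏ g : R, ρ ((g : G) * h ^ (i + 1) * (g : G)⁻¹) v = ∏ g : R, ρ (g : G) (ρ (h ^ (i + 1)) v) := by
        intro i hi
        have hlt : i + 1 < k := by have := Finset.mem_range.mp hi; omega
        let φ : R → R := fun g => ⟨(g : G) * (h ^ (i + 1) * (g : G)⁻¹ * (h ^ (i + 1))⁻¹),
          mul_mem g.2 (hRi _ _ (inv_mem g.2))⟩
        have hφ : Function.Injective φ := by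
          intro a b hab
          have h1 : (a : G) * (h ^ (i + 1) * (a : G)⁻¹ * (h ^ (i + 1))⁻¹) =
              (b : G) * (h ^ (i + 1) * (b : G)⁻¹ * (h ^ (i + 1))⁻¹) := congrArg Subtype.val hab
          have h2 := hfree (i + 1) (by omega) hlt ((b : G)⁻¹ * a) (mul_mem (inv_mem b.2) a.2) (by
            have e1 := congrArg (fun z => (b : G)⁻¹ * z) h1
            simp only [inv_mul_cancel_left] at e1
            calc h ^ (i + 1) * ((b : G)⁻¹ * a) * (h ^ (i + 1))⁻¹
                = (h ^ (i + 1) * (b : G)⁻¹ * (h ^ (i + 1))⁻¹) * (h ^ (i + 1) * a * (h ^ (i + 1))⁻¹) := by group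
              _ = (b : G)⁻¹ * a := by rw [← e1]; group)
          exact Subtype.ext (inv_mul_eq_one.mp h2).symm
        refine Fintype.prod_bijective φ (Finite.injective_iff_bijective.mp hφ) _ _ fun g => ?_
        show _ = ρ ((g : G) * (h ^ (i + 1) * (g : G)⁻¹ * (h ^ (i + 1))⁻¹)) (ρ (h ^ (i + 1)) v)
        rw [← MulAut.mul_apply, ← map_mul]
        congr 2
        group
      have h1 : ∏ g : R, ∏ i ∈ Finset.range k, ρ ((g : G) * h ^ i * (g : G)⁻¹) v = 1 :=
        Finset.prod_eq_one fun g _ => hnorm _ g.2 v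
      obtain ⟨k', rfl⟩ : ∃ k', k = k' + 1 := ⟨k - 1, by omega⟩
      rw [Finset.prod_comm, Finset.prod_range_succ'] at h1
      simp only [pow_zero, mul_one, mul_inv_cancel, map_one, MulAut.one_apply, Finset.prod_const,
        Finset.card_univ] at h1
      rw [Nat.add_sub_cancel] at key ⊢
      rw [Finset.prod_congr rfl key, mul_comm] at h1
      exact h1
  intro f hf v
  obtain ⟨w, hw, hvw⟩ := hmain v
  have h1 : ρ f (v ^ Fintype.card R) = v ^ Fintype.card R := by
    rw [eq_inv_of_mul_eq_one_left hvw, map_inv, hw f hf]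
  rw [map_pow] at h1
  refine (powCoprime (G := V) (n := Fintype.card R) ?_).injective h1
  rw [← Nat.card_eq_fintype_card (α := R)]
  exact hcop.symm

theorem mul_pow_norm {G : Type*} [Group G] (x h : G) (k : ℕ) :
    (x * h) ^ k = ((List.range k).map fun i => h ^ i * x * (h ^ i)⁻¹).prod * h ^ k := by
  induction k with
  | zero => simp
  | succ k ih =>
    rw [pow_succ, ih, List.range_succ, List.map_append, List.prod_append, List.map_singleton, List.prod_singleton]
    group

/-- Let N be a normal subgroup of the finite group G such that G/N is a Frobenius group with kernel F and cyclic complement H, where the order of F is coprime to that of N and F is not contained in the image of C_G(N) in G/N. Then G has an element of order p·#H for some prime p dividing the order of N. (A standard tool in recognising groups by their element orders.) -/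
theorem result {G : Type*} [Group G] [Finite G] (N : Subgroup G) [N.Normal]
    (Fb Hb : Subgroup (G ⧸ N)) [Fb.Normal] (hHb : Cfsg.IsFrobeniusComplement Hb) (hker : Cfsg.frobeniusKernel Hb = (Fb : Set (G ⧸ N)))
    (hcyc : IsCyclic Hb) (hcop : (Nat.card Fb).Coprime (Nat.card N))
    (hnot : ¬ Fb ≤ (Subgroup.centralizer (N : Set G)).map (QuotientGroup.mk' N)) :
    ∃ p : ℕ, p.Prime ∧ p ∣ Nat.card N ∧ ∃ g : G, orderOf g = p * Nat.card Hb := by
  classical
  obtain ⟨F0, hF0, -, hcompl⟩ := FrobCompl.exists_kernel_complement hHb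
  obtain rfl : F0 = Fb := SetLike.coe_injective (hF0.trans hker)
  set π := QuotientGroup.mk' N with hπ
  have hsurj : Function.Surjective π := QuotientGroup.mk'_surjective N
  have hπN : ∀ x : G, π x = 1 ↔ x ∈ N := fun x => QuotientGroup.eq_one_iff x
  -- a Sylow subgroup of the kernel not centralizing `N`
  obtain ⟨r, hr, R', hR'⟩ : ∃ (r : ℕ) (_ : r ∈ (Nat.card F0).primeFactors) (R : Sylow r F0),
      ¬ ((R : Subgroup F0).map F0.subtype) ≤ (Subgroup.centralizer (N : Set G)).map π := by
    by_contra hcon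
    push Not at hcon
    apply hnot
    have htop : ((Subgroup.centralizer (N : Set G)).map π).subgroupOf F0 = ⊤ := by
      rw [← Subgroup.index_eq_one]
      by_contra hne
      obtain ⟨r, hr, hrd⟩ := Nat.exists_prime_and_dvd hne
      haveI := Fact.mk hr
      obtain ⟨R⟩ := (inferInstance : Nonempty (Sylow r F0))
      refine R.not_dvd_index (hrd.trans (Subgroup.index_dvd_of_le ?_))
      exact fun x hx => hcon r (Nat.mem_primeFactors.mpr ⟨hr, hrd.trans (Subgroup.index_dvd_card _), Nat.card_pos.ne'⟩) R ⟨x, hx, rfl⟩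
    exact Subgroup.subgroupOf_eq_top.mp htop
  haveI := Fact.mk (Nat.prime_of_mem_primeFactors hr)
  set Rb := (R' : Subgroup F0).map F0.subtype with hRb
  have hRbF : Rb ≤ F0 := Subgroup.map_subtype_le _
  have hRbp : IsPGroup r Rb := R'.2.map _
  have hrN : ¬ r ∣ Nat.card N := fun h =>
    (Nat.prime_of_mem_primeFactors hr).one_lt.ne' (Nat.eq_one_of_dvd_coprimes hcop (Nat.dvd_of_mem_primeFactors hr) h)
  set E := Rb.comap π with hE
  have hNE : N ≤ E := fun x hx => by
    rw [hE, Subgroup.mem_comap, (hπN x).mpr hx]; exact one_mem _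
  have hcardE : Nat.card E = Nat.card N * Nat.card Rb := by
    have h1 := N.card_mul_index
    have h2 := Subgroup.index_comap_of_surjective Rb hsurj
    have h3 := E.card_mul_index
    have h4 := Rb.card_mul_index
    rw [← hE] at h2
    rw [h2, ← h1, Subgroup.index_eq_card N, ← h4, ← mul_assoc] at h3
    exact Nat.eq_of_mul_eq_mul_right (Nat.pos_of_ne_zero Subgroup.index_ne_zero_of_finite) h3
  have hcopNR : (Nat.card N).Coprime (Nat.card Rb) := by
    obtain ⟨a, ha⟩ := IsPGroup.iff_card.mp hRbp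
    rw [ha]
    exact Nat.Coprime.pow_right _ ((Nat.prime_of_mem_primeFactors hr).coprime_iff_not_dvd.mpr hrN).symm
  have hNfact : (Nat.card N).factorization r = 0 := Nat.factorization_eq_zero_of_not_dvd hrN
  obtain ⟨a, ha⟩ := IsPGroup.iff_card.mp hRbp
  have hEfact : (Nat.card E).factorization r = a := by
    rw [hcardE, Nat.factorization_mul Nat.card_pos.ne' Nat.card_pos.ne', Finsupp.add_apply, hNfact, zero_add, ha,
      (Nat.prime_of_mem_primeFactors hr).factorization_pow, Finsupp.single_eq_same]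
  -- a Sylow subgroup of any subgroup of `E` covering `Rb` is a lift
  have sylow_lift : ∀ M : Subgroup G, M ≤ E → Rb ≤ M.map π → ∀ T : Sylow r M,
      Nat.card ((T : Subgroup M).map M.subtype) = Nat.card Rb := by
    intro M hME hMR T
    rw [Subgroup.card_map_of_injective M.subtype_injective, T.card_eq_multiplicity, ha]
    congr 1
    refine le_antisymm ?_ ?_
    · rw [← hEfact]
      exact (Nat.factorization_le_iff_dvd Nat.card_pos.ne' Nat.card_pos.ne').mpr (Subgroup.card_dvd_of_le hME) r
    · have h1 : Nat.card Rb ∣ Nat.card M := (Subgroup.card_dvd_of_le hMR).trans (M.card_map_dvd π)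
      rw [ha] at h1
      exact ((Nat.prime_of_mem_primeFactors hr).pow_dvd_iff_le_factorization Nat.card_pos.ne').mp h1
  have conj_lift : ∀ S T : Subgroup G, S ≤ E → T ≤ E → Nat.card S = Nat.card Rb → Nat.card T = Nat.card Rb →
      ∀ M : Subgroup G, M ≤ E → S ≤ M → T ≤ M → ∃ m ∈ M, MulAut.conj m • S = T := by
    intro S T hSE hTE hS hT M hME hSM hTM
    have hfac : (Nat.card M).factorization r = a := by
      refine le_antisymm ?_ ?_
      · rw [← hEfact]
        exact (Nat.factorization_le_iff_dvd Nat.card_pos.ne' Nat.card_pos.ne').mpr (Subgroup.card_dvd_of_le hME) r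
      · have h1 := Subgroup.card_dvd_of_le hSM
        rw [hS, ha] at h1
        exact ((Nat.prime_of_mem_primeFactors hr).pow_dvd_iff_le_factorization Nat.card_pos.ne').mp h1
    have hc : ∀ U : Subgroup G, U ≤ M → Nat.card U = Nat.card Rb →
        Nat.card (U.subgroupOf M) = r ^ (Nat.card M).factorization r := fun U hU hcU => by
      rw [Nat.card_congr (Subgroup.subgroupOfEquivOfLe hU).toEquiv, hcU, ha, hfac]
    obtain ⟨m, hm⟩ := MulAction.exists_smul_eq M (Sylow.ofCard (S.subgroupOf M) (hc S hSM hS))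
      (Sylow.ofCard (T.subgroupOf M) (hc T hTM hT))
    refine ⟨m, m.2, ?_⟩
    have h2 := congrArg (fun U : Sylow r M => (U : Subgroup M)) hm
    simp only [Sylow.coe_subgroup_smul] at h2
    have h3 : MulAut.conj m • S.subgroupOf M = T.subgroupOf M := h2
    ext x
    constructor
    · rintro ⟨s, hs, rfl⟩
      have h4 : MulAut.conj m • (⟨s, hSM hs⟩ : M) ∈ T.subgroupOf M :=
        h3 ▸ Subgroup.smul_mem_pointwise_smul (a := MulAut.conj m) (⟨s, hSM hs⟩ : M) (S := S.subgroupOf M) hs
      exact h4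
    · intro hx
      have h4 : (⟨x, hTM hx⟩ : M) ∈ MulAut.conj m • S.subgroupOf M := h3.symm ▸ hx
      obtain ⟨s, hs, he⟩ := h4
      exact ⟨s, hs, congrArg Subtype.val he⟩
  have hlift_map : ∀ T : Subgroup G, T ≤ E → Nat.card T = Nat.card Rb → T ⊓ N = ⊥ ∧ T.map π = Rb := by
    intro T hTE hT
    have h1 : T ⊓ N = ⊥ := (Subgroup.disjoint_of_coprime_natCard (hT ▸ hcopNR.symm)).eq_bot
    refine ⟨h1, Subgroup.eq_of_le_of_card_ge (fun y ⟨x, hx, hy⟩ => hy ▸ hTE hx) ?_⟩
    rw [← hT]
    refine Nat.card_le_card_of_injective (fun x : T => (⟨π x, ⟨x, x.2, rfl⟩⟩ : T.map π)) fun x y hxy => ?_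
    have h2 : π (x : G) = π y := congrArg Subtype.val hxy
    have h3 : (x : G)⁻¹ * y ∈ T ⊓ N := ⟨show _ ∈ T from mul_mem (inv_mem x.2) y.2, (hπN _).mp (by rw [map_mul, map_inv, h2, inv_mul_cancel])⟩
    rw [h1, Subgroup.mem_bot, inv_mul_eq_one] at h3
    exact Subtype.ext h3
  have hcover : ∀ (p : ℕ) [Fact p.Prime] (P : Sylow p N), ∀ y : G ⧸ N,
      ∃ m ∈ Subgroup.normalizer (((P : Subgroup N).map N.subtype : Subgroup G) : Set G), π m = y := by
    intro p _ P y
    obtain ⟨g, rfl⟩ := hsurj y
    have hg : g ∈ Subgroup.normalizer (((P : Subgroup N).map N.subtype : Subgroup G) : Set G) ⊔ N := by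
      rw [Sylow.normalizer_sup_eq_top P]; trivial
    obtain ⟨m, hm, n, hn, rfl⟩ := Subgroup.mem_sup_of_normal_right.mp hg
    exact ⟨m, hm, by rw [map_mul, (hπN n).mpr hn, mul_one]⟩
  -- choose the prime
  obtain ⟨p, hp, P, T, hTE, hT, hTN, hTC⟩ : ∃ (p : ℕ) (_ : p ∈ (Nat.card N).primeFactors) (P : Sylow p N) (T : Subgroup G),
      T ≤ E ∧ Nat.card T = Nat.card Rb ∧ T ≤ Subgroup.normalizer (((P : Subgroup N).map N.subtype : Subgroup G) : Set G) ∧
      ¬ T ≤ Subgroup.centralizer (((P : Subgroup N).map N.subtype : Subgroup G) : Set G) := by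
    by_contra hcon
    push Not at hcon
    obtain ⟨T0'⟩ := (inferInstance : Nonempty (Sylow r E))
    set T0 := (T0' : Subgroup E).map E.subtype with hT0
    have hT0E : T0 ≤ E := Subgroup.map_subtype_le _
    have hT0c : Nat.card T0 = Nat.card Rb :=
      sylow_lift E le_rfl (fun y hy => ⟨_, by
        show Quotient.out y ∈ E
        rw [hE, Subgroup.mem_comap]; convert hy; exact QuotientGroup.out_eq' y, QuotientGroup.out_eq' y⟩) T0'
    obtain ⟨-, hT0m⟩ := hlift_map T0 hT0E hT0c
    apply hR'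
    have htop : (Subgroup.centralizer (T0 : Set G)).subgroupOf N = ⊤ := by
      rw [← Subgroup.index_eq_one]
      by_contra hne
      obtain ⟨p, hp, hpd⟩ := Nat.exists_prime_and_dvd hne
      haveI := Fact.mk hp
      obtain ⟨P⟩ := (inferInstance : Nonempty (Sylow p N))
      set PG := (P : Subgroup N).map N.subtype with hPG
      set M := Subgroup.normalizer (PG : Set G) ⊓ E with hM
      have hMR : Rb ≤ M.map π := fun y hy => by
        obtain ⟨m, hm, rfl⟩ := hcover p P y
        exact ⟨m, ⟨hm, hy⟩, rfl⟩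
      obtain ⟨TM⟩ := (inferInstance : Nonempty (Sylow r M))
      have hTMle : (TM : Subgroup M).map M.subtype ≤ M := Subgroup.map_subtype_le _
      have hTMc := sylow_lift M inf_le_right hMR TM
      have hc := hcon p (Nat.mem_primeFactors.mpr ⟨hp, hpd.trans (Subgroup.index_dvd_card _), Nat.card_pos.ne'⟩) P _
        (hTMle.trans inf_le_right) hTMc (hTMle.trans inf_le_left)
      obtain ⟨e, -, he⟩ := conj_lift _ T0 (hTMle.trans inf_le_right) hT0E hTMc hT0c E le_rfl
        (hTMle.trans inf_le_right) hT0E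
      -- the conjugate Sylow subgroup is centralized by `T0`
      let φ : MulAut N := MulAut.conjNormal e
      set P' : Subgroup N := (P : Subgroup N).map φ.toMonoidHom with hP'
      have hidx : P'.index = (P : Subgroup N).index := Subgroup.index_map_equiv (P : Subgroup N) φ
      refine P.not_dvd_index (hidx ▸ hpd.trans (Subgroup.index_dvd_of_le ?_))
      rintro _ ⟨x, hx, rfl⟩
      rw [Subgroup.mem_subgroupOf, Subgroup.mem_centralizer_iff]
      intro t ht
      rw [SetLike.mem_coe, ← he] at ht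
      obtain ⟨s, hs, rfl⟩ := ht
      have h1 := Subgroup.mem_centralizer_iff.mp (hc hs) (x : G) ⟨x, hx, rfl⟩
      show e * s * e⁻¹ * (e * x * e⁻¹) = e * x * e⁻¹ * (e * s * e⁻¹)
      simp only [mul_assoc, inv_mul_cancel_left]
      rw [← mul_assoc s, ← h1, mul_assoc]
    have hTC : T0 ≤ Subgroup.centralizer (N : Set G) := by
      intro t ht n hn
      have := Subgroup.mem_centralizer_iff.mp ((Subgroup.subgroupOf_eq_top.mp htop) hn) t ht
      exact this.symm
    exact le_of_eq_of_le hT0m.symm (Subgroup.map_mono hTC)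
  haveI := Fact.mk (Nat.prime_of_mem_primeFactors hp)
  set PG := (P : Subgroup N).map N.subtype with hPG
  -- the complement lifts into both normalizers
  obtain ⟨h0, hh0⟩ := IsCyclic.exists_generator (α := Hb)
  obtain ⟨y, hyR, f₀, hf₀, hy⟩ : ∃ y ∈ Subgroup.normalizer (Rb : Set (G ⧸ N)), ∃ f ∈ F0, y = f * (h0 : G ⧸ N) := by
    have hg : (h0 : G ⧸ N) ∈ Subgroup.normalizer (Rb : Set (G ⧸ N)) ⊔ F0 := by
      rw [hRb, Sylow.normalizer_sup_eq_top R']; trivial
    obtain ⟨y, hy, f, hf, he⟩ := Subgroup.mem_sup_of_normal_right.mp hg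
    exact ⟨y, hy, y * f⁻¹ * y⁻¹, Subgroup.Normal.conj_mem inferInstance _ (inv_mem hf) _, by rw [← he]; group⟩
  obtain ⟨g, hgN, hgy⟩ := hcover p P y
  obtain ⟨m, hm, hmT⟩ : ∃ m ∈ Subgroup.normalizer (PG : Set G) ⊓ E, MulAut.conj m • (MulAut.conj g • T) = T := by
    have hgT : Nat.card (MulAut.conj g • T : Subgroup G) = Nat.card Rb := by
      rw [← hT]
      exact Nat.card_congr (Subgroup.equivSMul (MulAut.conj g) T).toEquiv.symm
    have h1 : MulAut.conj g • T ≤ E := by
      rintro _ ⟨t, ht, rfl⟩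
      show π (g * t * g⁻¹) ∈ Rb
      rw [map_mul, map_mul, map_inv, hgy]
      exact (Subgroup.mem_normalizer_iff.mp hyR _).mp (hTE ht)
    have h2 : MulAut.conj g • T ≤ Subgroup.normalizer (PG : Set G) := by
      rintro _ ⟨t, ht, rfl⟩
      exact mul_mem (mul_mem hgN (hTN ht)) (inv_mem hgN)
    exact conj_lift _ T h1 hTE hgT hT _ inf_le_right (le_inf h2 h1) (le_inf hTN hTE)
  set h := m * g with hh
  have hhN : h ∈ Subgroup.normalizer (PG : Set G) := mul_mem hm.1 hgN
  have hhT : ∀ t ∈ T, h * t * h⁻¹ ∈ T := by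
    intro t ht
    rw [← hmT, smul_smul, ← map_mul]
    exact ⟨t, ht, rfl⟩
  -- its image
  set k := Nat.card Hb with hk
  have hzF : ∃ f ∈ F0, π h = f * (h0 : G ⧸ N) :=
    ⟨π m * f₀, mul_mem (hRbF hm.2) hf₀, by rw [hh, map_mul, hgy, hy, mul_assoc]⟩
  have hzpow : ∀ i : ℕ, ∃ f ∈ F0, π h ^ i = f * (h0 : G ⧸ N) ^ i := by
    obtain ⟨f, hf, hz⟩ := hzF
    intro i
    induction i with
    | zero => exact ⟨1, one_mem _, by simp⟩
    | succ i ih =>
      obtain ⟨f', hf', hi⟩ := ih
      refine ⟨f' * ((h0 : G ⧸ N) ^ i * f * ((h0 : G ⧸ N) ^ i)⁻¹),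
        mul_mem hf' (Subgroup.Normal.conj_mem inferInstance _ hf _), ?_⟩
      rw [pow_succ, hi, hz, pow_succ]; group
  have hord : orderOf (h0 : G ⧸ N) = k := by
    rw [Subgroup.orderOf_coe, orderOf_eq_card_of_forall_mem_zpowers hh0]
  have hnotF : ∀ i, 1 ≤ i → i < k → π h ^ i ∉ F0 := by
    intro i hi1 hik hmem
    obtain ⟨f, hf, hz⟩ := hzpow i
    rw [hz] at hmem
    have h1 : (h0 : G ⧸ N) ^ i ∈ F0 ⊓ Hb := ⟨(mul_mem_cancel_left hf).mp hmem, pow_mem h0.2 i⟩
    rw [hcompl.disjoint.eq_bot, Subgroup.mem_bot] at h1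
    have := orderOf_dvd_of_pow_eq_one h1
    rw [hord] at this
    exact absurd (Nat.le_of_dvd hi1 this) (not_le.mpr hik)
  have hk2 : 2 ≤ k := Hb.one_lt_card_iff_ne_bot.mpr hHb.1
  obtain ⟨c, hc⟩ : ∃ c, π h ∈ MulAut.conj c • Hb := by
    have h1 : π h ∉ (F0 : Set (G ⧸ N)) := by simpa using hnotF 1 le_rfl hk2
    rw [hF0] at h1
    simp only [Cfsg.frobeniusKernel, Set.mem_ofPred_eq, not_or, not_forall, not_not] at h1
    exact h1.2
  have hzk : π h ^ k = 1 := by
    obtain ⟨z, hz, he⟩ := hc
    rw [← he]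
    show (MulAut.conj c z) ^ k = 1
    rw [← map_pow]
    have : (⟨z, hz⟩ : Hb) ^ k = 1 := pow_card_eq_one'
    rw [show z ^ k = 1 from congrArg Subtype.val this, map_one]
  have hordπ : ∀ f ∈ T, orderOf (π (f * h * f⁻¹)) = k := by
    intro f _
    rw [map_mul, map_mul, map_inv]
    have h1 : π f * π h * (π f)⁻¹ = MulAut.conj (π f) (π h) := rfl
    rw [h1]
    refine (orderOf_eq_iff (n := k) (by omega)).mpr ⟨by rw [← map_pow, hzk, map_one], fun i hi hi0 e => ?_⟩
    rw [← map_pow, MulEquiv.map_eq_one_iff] at e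
    exact hnotF i hi0 hi (e ▸ one_mem _)
  -- either some element works, or the norms vanish
  by_cases hgood : ∃ x ∈ PG, ∃ f ∈ T, (x * (f * h * f⁻¹)) ^ k ≠ 1
  · obtain ⟨x, hx, f, hf, hne⟩ := hgood
    set u := x * (f * h * f⁻¹) with hu
    have hxN : x ∈ N := Subgroup.map_subtype_le _ hx
    have hπu : orderOf (π u) = k := by
      rw [hu, map_mul, (hπN x).mpr hxN, one_mul]; exact hordπ f hf
    have hukN : u ^ k ∈ N := (hπN _).mp (by rw [map_pow, ← hπu, pow_orderOf_eq_one])
    obtain ⟨d, hd⟩ := hπu ▸ orderOf_map_dvd π u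
    have hk0 : k ≠ 0 := by omega
    have hord' : orderOf (u ^ k) = d := by
      rw [orderOf_pow' _ hk0, hd, Nat.gcd_mul_right_left, Nat.mul_div_cancel_left _ (by omega)]
    have hd1 : d ≠ 1 := fun h1 => hne (orderOf_eq_one_iff.mp (hord'.trans h1))
    have hdN : d ∣ Nat.card N := hord' ▸ N.orderOf_dvd_natCard hukN
    refine ⟨d.minFac, Nat.minFac_prime hd1, d.minFac_dvd.trans hdN, u ^ (d / d.minFac), ?_⟩
    obtain ⟨d', hd'⟩ := d.minFac_dvd
    have hd'0 : d' ≠ 0 := fun h0 => by
      rw [h0, mul_zero] at hd'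
      rw [hd', mul_zero] at hd
      exact (orderOf_pos u).ne' hd
    have he : d / d.minFac = d' := by
      conv_lhs => arg 1; rw [hd']
      exact Nat.mul_div_cancel_left _ (Nat.minFac_pos d)
    have hd2 : orderOf u = d' * (d.minFac * k) := by
      rw [hd]; conv_lhs => rw [hd']
      ring
    rw [he, orderOf_pow' _ hd'0, hd2, Nat.gcd_mul_right_left, Nat.mul_div_cancel_left _ (Nat.pos_of_ne_zero hd'0)]
  · push Not at hgood
    exfalso
    apply hTC
    set L := Subgroup.normalizer (PG : Set G) with hL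
    let ρ : L →* MulAut (Abelianization PG) :=
      { toFun := fun l => (PG.normalizerMonoidHom l).abelianizationCongr
        map_one' := by
          ext x; obtain ⟨x, rfl⟩ := QuotientGroup.mk_surjective x
          simp [MulEquiv.abelianizationCongr]
          rfl
        map_mul' := fun a b => by
          ext x; obtain ⟨x, rfl⟩ := QuotientGroup.mk_surjective x
          simp [MulEquiv.abelianizationCongr]
          rfl }
    have hρ : ∀ (l : L) (x : PG), ρ l (Abelianization.of x) = Abelianization.of (PG.normalizerMonoidHom l x) :=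
      fun l x => rfl
    have hcopT : (Nat.card T).Coprime (Nat.card PG) := by
      rw [hT]
      refine hcopNR.symm.coprime_dvd_right ?_
      exact Subgroup.card_dvd_of_le (Subgroup.map_subtype_le _)
    have hfixed := fixed_of_norm ρ (T.subgroupOf L) k ⟨h, hhN⟩ (by omega)
      (fun f hf => hhT _ hf)
      (by
        rw [Nat.card_congr (Subgroup.subgroupOfEquivOfLe hTN).toEquiv]
        exact hcopT.coprime_dvd_right (Subgroup.card_quotient_dvd_card _))
      (by
        intro i hi1 hik f hf hcomm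
        have h1 : π h ^ i * π (f : G) = π (f : G) * π h ^ i := by
          have := congrArg (fun l : L => π (l : G)) hcomm
          simp only [Subgroup.coe_mul, Subgroup.coe_inv, SubmonoidClass.coe_pow, map_mul, map_inv, map_pow,
            mul_inv_eq_iff_eq_mul] at this
          exact this
        have hfR : π (f : G) ∈ F0 := hRbF (hTE hf)
        have hne : π h ^ i ≠ 1 := fun e => hnotF i hi1 hik (e ▸ one_mem _)
        have h2 : π (f : G) ∈ MulAut.conj c • Hb := by
          refine FrobCompl.mem_of_conj_mem (FrobCompl.conj_isFrobeniusComplement hHb c) hne (pow_mem hc i) ?_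
          rw [mul_assoc, h1, ← mul_assoc, inv_mul_cancel, one_mul]
          exact pow_mem hc i
        have h3 : π (f : G) = 1 := by
          obtain ⟨z, hz, he⟩ := h2
          have : z ∈ F0 ⊓ Hb := ⟨by
            have := (inferInstance : F0.Normal).conj_mem _ hfR c⁻¹
            rw [← he] at this
            simpa [mul_assoc] using this, hz⟩
          rw [hcompl.disjoint.eq_bot, Subgroup.mem_bot] at this
          rw [← he, this]; exact map_one _
        have h4 : (f : G) ∈ T ⊓ N := ⟨hf, (hπN _).mp h3⟩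
        rw [(hlift_map T hTE hT).1, Subgroup.mem_bot] at h4
        exact Subtype.ext h4)
      (by
        intro f hf v
        obtain ⟨x, rfl⟩ := QuotientGroup.mk_surjective v
        set w : L := f * ⟨h, hhN⟩ * f⁻¹ with hw
        have hwk : (w : G) ^ k = 1 := by
          have := hgood 1 (one_mem _) f hf
          rw [one_mul] at this
          exact this
        have hprod : ((List.range k).map fun i => (w : G) ^ i * x * ((w : G) ^ i)⁻¹).prod = 1 := by
          have := hgood x x.2 f hf
          rw [show ((f : G) * h * (f : G)⁻¹) = (w : G) from rfl, mul_pow_norm, hwk, mul_one] at this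
          exact this
        have hprod' : ((List.range k).map fun i => PG.normalizerMonoidHom (w ^ i) x).prod = 1 := by
          apply Subtype.ext
          rw [Subgroup.val_list_prod, List.map_map]
          exact hprod
        have h2 := congrArg Abelianization.of hprod'
        rw [map_one, map_list_prod, List.map_map] at h2
        refine Eq.trans ?_ h2
        rw [← List.prod_toFinset _ List.nodup_range, List.toFinset_range]
        refine Finset.prod_congr rfl fun i _ => ?_
        show ρ (f * ⟨h, hhN⟩ ^ i * f⁻¹) (Abelianization.of x) = Abelianization.of (PG.normalizerMonoidHom (w ^ i) x)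
        rw [hw, conj_pow, hρ])
    refine Coprime.le_centralizer_of_frattini hTN (hcopT.coprime_dvd_right (Subgroup.card_subgroup_dvd_card _)) ?_
    intro t ht x hx
    have h1 := hfixed ⟨t, hTN ht⟩ ht (Abelianization.of ⟨x, hx⟩)
    rw [hρ] at h1
    have h2 : (PG.normalizerMonoidHom ⟨t, hTN ht⟩ ⟨x, hx⟩) * (⟨x, hx⟩ : PG)⁻¹ ∈ commutator PG := by
      rw [← Abelianization.ker_of, MonoidHom.mem_ker, map_mul, h1, map_inv, mul_inv_cancel]
    exact ⟨_, PSolvable.commutator_le_frattini (P.2.map _) |>.1 h2, rfl⟩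

end Cfsg.Agent.S3703
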