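import Cfsg.Statements.S3704
import Mathlib

set_option autoImplicit false
open Cfsg

namespace Cfsg.Agent.S3704

/-- Let G be a finite group acting faithfully and 2-transitively on a finite set Ω of size n, and let H be a subgroup of index n in G which is not transitive on Ω and fixes no point of Ω. Then H has exactly two orbits on Ω. -/
theorem result {G Ω : Type*} [Group G] [Finite G] [MulAction G Ω] [FaithfulSMul G Ω] [Finite Ω] (h2 : MulAction.IsMultiplyPretransitive G Ω 2) (H : Subgroup G) (hidx : H.index = Nat.card Ω) (hnt : ¬ MulAction.IsPretransitive H Ω) (hfix : ∀ a : Ω, ∃ h : H, h • a ≠ a) : Nat.card (MulAction.orbitRel.Quotient H Ω) = 2 := by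
  classical
  haveI : Fintype Ω := Fintype.ofFinite _
  haveI : Fintype (G ⧸ H) := Fintype.ofFinite _
  haveI : MulAction.IsPretransitive G Ω := MulAction.isPretransitive_of_is_two_pretransitive
  set n := Nat.card Ω with hn
  -- at most two orbits
  by_contra hne
  haveI hnempty : Nonempty Ω := by
    by_contra h
    rw [not_nonempty_iff] at h
    exact hnt ⟨fun a => isEmptyElim a⟩
  have hge : 2 < Nat.card (MulAction.orbitRel.Quotient H Ω) := by
    rcases Nat.lt_or_ge (Nat.card (MulAction.orbitRel.Quotient H Ω)) 2 with h | h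
    · exfalso
      exact hnt ((MulAction.pretransitive_iff_subsingleton_quotient H Ω).mpr
        (Finite.card_le_one_iff_subsingleton.mp (by omega)))
    · omega
  obtain ⟨o₁, o₂, o₃, h12, h13, h23⟩ : ∃ o₁ o₂ o₃ : MulAction.orbitRel.Quotient H Ω,
      o₁ ≠ o₂ ∧ o₁ ≠ o₃ ∧ o₂ ≠ o₃ := by
    haveI := Fintype.ofFinite (MulAction.orbitRel.Quotient H Ω)
    rw [Nat.card_eq_fintype_card, ← Finset.card_univ, Finset.two_lt_card] at hge
    obtain ⟨a, -, b, -, c, -, h⟩ := hge
    exact ⟨a, b, c, h⟩
  obtain ⟨x₁, hx₁⟩ := Quotient.exists_rep o₁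
  obtain ⟨x₂, hx₂⟩ := Quotient.exists_rep o₂
  obtain ⟨x₃, hx₃⟩ := Quotient.exists_rep o₃
  -- incidence with an orbit
  let O : Ω → Set Ω := fun x => MulAction.orbit H x
  have hdisj : ∀ x y, (Quotient.mk'' x : MulAction.orbitRel.Quotient H Ω) ≠ Quotient.mk'' y → y ∉ O x :=
    fun x y h hy => h (Quotient.sound' (show y ∈ MulAction.orbit H x from hy)).symm
  have hHO : ∀ x (h : H) y, (h : G) • y ∈ O x ↔ y ∈ O x := fun x h y => by
    constructor
    · rintro ⟨k, hk⟩
      refine ⟨h⁻¹ * k, ?_⟩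
      show (h⁻¹ * k) • x = y
      rw [mul_smul, inv_smul_eq_iff]
      exact hk
    · rintro ⟨k, rfl⟩
      exact ⟨h * k, mul_smul _ _ _⟩
  let N : Ω → Matrix (G ⧸ H) Ω ℚ := fun x => Matrix.of fun q ω =>
    if q.out⁻¹ • ω ∈ O x then 1 else 0
  have hNval : ∀ x (g : G) ω, N x (g : G ⧸ H) ω = if g⁻¹ • ω ∈ O x then 1 else 0 := by
    intro x g ω
    obtain ⟨h, hh⟩ := QuotientGroup.mk_out_eq_mul H g
    simp only [N, Matrix.of_apply, hh, mul_inv_rev, mul_smul]
    exact if_congr (hHO x h⁻¹ _) rfl rfl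
  have hNg : ∀ x (g : G) (q : G ⧸ H) ω, N x (g • q) (g • ω) = N x q ω := by
    intro x g q ω
    induction q using QuotientGroup.induction_on with
    | _ k =>
      rw [MulAction.Quotient.smul_mk, hNval, hNval]
      simp [mul_smul]
  -- products are combinations of `1` and `J`
  have hprod : ∀ x y, ∃ s t : ℚ, ∀ a b : Ω, ((N x).transpose * N y) a b = if a = b then s else t := by
    intro x y
    let F : Ω → Ω → ℚ := fun a b => ((N x).transpose * N y) a b
    have hF : ∀ (g : G) a b, F (g • a) (g • b) = F a b := by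
      intro g a b
      simp only [F, Matrix.mul_apply, Matrix.transpose_apply]
      refine (Fintype.sum_equiv (MulAction.toPerm g) _ _ fun q => ?_).symm
      simp [MulAction.toPerm_apply, hNg]
    obtain ⟨a₀, b₀, hab⟩ : ∃ a b : Ω, a ≠ b := ⟨x₁, x₂, fun e => h12 (by rw [← hx₁, ← hx₂, e])⟩
    refine ⟨F a₀ a₀, F a₀ b₀, fun a b => ?_⟩
    show F a b = _
    split_ifs with h
    · subst h
      obtain ⟨g, rfl⟩ := MulAction.exists_smul_eq G a₀ a
      exact hF g a₀ a₀
    · obtain ⟨g, rfl, rfl⟩ := (MulAction.is_two_pretransitive_iff.mp h2) hab h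
      exact hF g a₀ b₀
  obtain ⟨s, t, hst⟩ := hprod x₁ x₁
  obtain ⟨s', t', hst'⟩ := hprod x₁ x₂
  -- sums
  set k : ℚ := ((O x₁).toFinset.card : ℚ) with hk
  have hrow : ∀ q, ∑ ω, N x₁ q ω = k := by
    intro q
    induction q using QuotientGroup.induction_on with
    | _ g =>
      simp only [hNval]
      rw [hk, Finset.card_eq_sum_ones, Nat.cast_sum, ← Finset.sum_filter]
      refine Finset.sum_nbij' (fun ω => g⁻¹ • ω) (fun ω => g • ω) ?_ ?_ ?_ ?_ ?_
      · intro ω hω; simpa using hω
      · intro ω hω; simpa using hω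
      · intro ω _; simp
      · intro ω _; simp
      · intro ω _; simp
  have hcardQ : (Fintype.card (G ⧸ H) : ℚ) = Fintype.card Ω := by
    rw [← Nat.card_eq_fintype_card, ← Nat.card_eq_fintype_card (α := Ω)]
    exact congrArg _ hidx
  have hn0 : (Fintype.card Ω : ℚ) ≠ 0 := Nat.cast_ne_zero.mpr Fintype.card_ne_zero
  have hcol : ∀ ω, ∑ q, N x₁ q ω = k := by
    have hconst : ∀ ω, ∑ q, N x₁ q ω = ∑ q, N x₁ q x₁ := fun ω => by
      obtain ⟨g, rfl⟩ := MulAction.exists_smul_eq G x₁ ω
      exact (Fintype.sum_equiv (MulAction.toPerm g) _ _ fun q => (hNg x₁ g q x₁).symm).symm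
    have h1 : ∑ q, ∑ ω, N x₁ q ω = ∑ ω, ∑ q, N x₁ q ω := Finset.sum_comm
    simp only [hrow, hconst, Finset.sum_const, Finset.card_univ, nsmul_eq_mul, hcardQ] at h1
    intro ω
    rw [hconst]
    exact (mul_left_cancel₀ hn0 h1).symm
  have hkpos : 0 < k := by
    rw [hk]
    exact Nat.cast_pos.mpr (Finset.card_pos.mpr ⟨x₁, by simp [O, MulAction.mem_orbit_self]⟩)
  have hsum : ∀ a, ∑ b, ((N x₁).transpose * N x₁) a b = k * k := by
    intro a
    simp only [Matrix.mul_apply, Matrix.transpose_apply]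
    rw [Finset.sum_comm]
    simp only [← Finset.mul_sum, hrow, ← Finset.sum_mul, hcol]
  have hsk : s = k := by
    have := hst x₁ x₁
    rw [if_pos rfl, Matrix.mul_apply] at this
    rw [← this, ← hcol x₁]
    refine Finset.sum_congr rfl fun q _ => ?_
    simp only [Matrix.transpose_apply, N, Matrix.of_apply]
    split_ifs <;> simp
  have hklt : k < Fintype.card Ω := by
    rw [hk, ← Finset.card_univ]
    refine Nat.cast_lt.mpr (Finset.card_lt_card (Finset.ssubset_univ_iff.mpr fun e => ?_))
    refine hdisj x₁ x₂ ?_ (Set.mem_toFinset.mp (e ▸ Finset.mem_univ x₂))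
    exact fun h => h12 (by rw [← hx₁, ← hx₂]; exact h)
  have hst0 : s ≠ t := by
    intro e
    have := hsum x₁
    simp only [hst, ← e, ite_self, Finset.sum_const, Finset.card_univ, nsmul_eq_mul, hsk] at this
    nlinarith
  have hinj : ∀ v : Ω → ℚ, ((N x₁).transpose * N x₁).mulVec v = 0 → v = 0 := by
    intro v hv
    have h1 : ∀ a, (s - t) * v a + t * ∑ b, v b = 0 := by
      intro a
      have h0 : ∑ b, ((N x₁).transpose * N x₁) a b * v b = 0 := congrFun hv a
      simp only [hst] at h0
      rw [← h0, Finset.mul_sum, ← Finset.add_sum_erase _ _ (Finset.mem_univ a),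
        ← Finset.add_sum_erase _ _ (Finset.mem_univ a), if_pos rfl]
      rw [Finset.sum_congr rfl fun b hb => show t * v b = (if a = b then s else t) * v b by
        rw [if_neg (Finset.ne_of_mem_erase hb).symm]]
      ring
    have hconst : ∀ a, v a = v x₁ := fun a =>
      mul_left_cancel₀ (sub_ne_zero.mpr hst0) (by linarith [h1 a, h1 x₁])
    funext a
    have h2 := hsum a
    have h0 : ∑ b, ((N x₁).transpose * N x₁) a b * v b = 0 := congrFun hv a
    rw [Finset.sum_congr rfl fun b _ => by rw [hconst b], ← Finset.sum_mul, h2] at h0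
    rw [hconst a]
    exact (mul_eq_zero.mp h0).resolve_left (by positivity)
  have hTinj : ∀ M : Matrix (G ⧸ H) Ω ℚ, (N x₁).transpose * M = 0 → M = 0 := by
    obtain ⟨e⟩ : Nonempty (Ω ≃ G ⧸ H) :=
      Finite.card_eq.mp (show Nat.card Ω = Nat.card (G ⧸ H) from hidx.symm)
    intro M hM
    set A : Matrix Ω Ω ℚ := (N x₁).submatrix e id with hA
    have hAA : A.transpose * A = (N x₁).transpose * N x₁ := by
      rw [hA, Matrix.transpose_submatrix, Matrix.submatrix_mul_equiv, Matrix.submatrix_id_id]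
    have hu : IsUnit (A.transpose * A) := by
      rw [← Matrix.mulVec_injective_iff_isUnit]
      intro u v huv
      rw [hAA] at huv
      refine sub_eq_zero.mp (hinj _ ?_)
      rw [Matrix.mulVec_sub]
      exact sub_eq_zero.mpr huv
    rw [Matrix.isUnit_iff_isUnit_det, Matrix.det_mul] at hu
    have hu' : IsUnit A.transpose := (Matrix.isUnit_iff_isUnit_det _).mpr (isUnit_of_mul_isUnit_left hu)
    have h0 : A.transpose * M.submatrix e id = 0 := by
      rw [hA, Matrix.transpose_submatrix, Matrix.submatrix_mul_equiv, hM]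
      rfl
    have h1 : M.submatrix e id = 0 := hu'.mul_left_cancel (h0.trans (Matrix.mul_zero _).symm)
    ext q ω
    have := congrFun (congrFun h1 (e.symm q)) ω
    simpa using this
  -- the second orbit is a combination of the first and all ones
  set c : ℚ := (s' - t') / (s - t) with hc
  set d : ℚ := (t' - c * t) / k with hd
  have hcomb : N x₂ = c • N x₁ + d • Matrix.of (fun _ _ => (1 : ℚ)) := by
    rw [← sub_eq_zero]
    apply hTinj
    ext a b
    rw [Matrix.mul_sub, Matrix.mul_add, Matrix.mul_smul, Matrix.mul_smul]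
    simp only [Matrix.sub_apply, Matrix.add_apply, Matrix.smul_apply, smul_eq_mul, hst, hst',
      Matrix.zero_apply]
    have hJ : ((N x₁).transpose * (Matrix.of (fun _ _ => (1 : ℚ)) : Matrix (G ⧸ H) Ω ℚ)) a b = k := by
      rw [Matrix.mul_apply]
      simp only [Matrix.transpose_apply, Matrix.of_apply, mul_one, hcol]
    erw [hJ]
    rw [ hd, div_mul_cancel₀ _ hkpos.ne']
    split_ifs with h
    · have : c * (s - t) = s' - t' := div_mul_cancel₀ _ (sub_ne_zero.mpr hst0)
      linear_combination -this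
    · ring
  have hval : ∀ ω, N x₂ ((1 : G) : G ⧸ H) ω = c * N x₁ ((1 : G) : G ⧸ H) ω + d := fun ω => by
    rw [hcomb]; simp
  have hne' : ∀ {u v : Ω} {o o' : MulAction.orbitRel.Quotient H Ω}, Quotient.mk _ u = o →
      Quotient.mk _ v = o' → o ≠ o' → v ∉ O u := fun hu hv h => hdisj _ _ (by
    intro e; exact h (by rw [← hu, ← hv]; exact e))
  have e1 := hval x₂
  have e2 := hval x₃
  simp only [hNval, inv_one, one_smul] at e1 e2
  rw [if_pos (MulAction.mem_orbit_self x₂), if_neg (hne' hx₁ hx₂ h12)] at e1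
  rw [if_neg (hne' hx₂ hx₃ h23), if_neg (hne' hx₁ hx₃ h13)] at e2
  linarith

end Cfsg.Agent.S3704
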