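import Cfsg.Statements.S3706
import Cfsg.Agent.Lib.BlockElation.Build
import Cfsg.Agent.S3704

set_option autoImplicit false
open Cfsg

namespace Cfsg.Agent.S3706

/-- Let G be a finite group acting faithfully and 2-transitively on a finite set Ω of size n, and let H be a subgroup of index n in G which is not transitive on Ω and fixes no point of Ω. Suppose H acts unfaithfully on one of its orbits: some non-identity element of H fixes every point of that orbit. Then there are an integer m ≥ 2 and a finite field F with #Ω = (#F^(m+1) − 1)/(#F − 1), and G has a normal subgroup isomorphic to PSL_{m+1}(F) whose centralizer in G is trivial (so that G lies between PSL_{m+1}(F) and its automorphism group). -/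
theorem result {G Ω : Type*} [Group G] [Finite G] [MulAction G Ω] [FaithfulSMul G Ω] [Finite Ω] (h2 : MulAction.IsMultiplyPretransitive G Ω 2) (H : Subgroup G) (hidx : H.index = Nat.card Ω) (hnt : ¬ MulAction.IsPretransitive H Ω) (hfix : ∀ a : Ω, ∃ h : H, h • a ≠ a) (hunf : ∃ a : Ω, ∃ h : H, h ≠ 1 ∧ ∀ b ∈ MulAction.orbit H a, h • b = b) : ∃ (m : ℕ) (F : Type) (_ : Field F) (_ : Fintype F), 2 ≤ m ∧ Nat.card Ω = (Fintype.card F ^ (m + 1) - 1) / (Fintype.card F - 1) ∧ ∃ N : Subgroup G, N.Normal ∧ Nonempty (N ≃* Matrix.ProjectiveSpecialLinearGroup (Fin (m + 1)) F) ∧ Subgroup.centralizer (N : Set G) = ⊥ := by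
  classical
  obtain ⟨a, h, hh1, hhB⟩ := hunf
  refine CfsgLib.BlockElation.Data.main (H := H) (B := MulAction.orbit H a) ?_
  have hinv : ∀ g ∈ H, ∀ p, g • p ∈ MulAction.orbit H a ↔ p ∈ MulAction.orbit H a := fun g hg p => by
    rw [← MulAction.orbit_eq_iff, ← MulAction.orbit_eq_iff]
    rw [show MulAction.orbit H (g • p) = MulAction.orbit H p from MulAction.orbit_smul (⟨g, hg⟩ : H) p]
  have htwo : ∀ p, 2 ≤ (MulAction.orbit H p).ncard := fun p => by
    obtain ⟨g, hg⟩ := hfix p
    exact (Set.one_lt_ncard_iff (Set.toFinite _)).mpr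
      ⟨g • p, p, ⟨g, rfl⟩, MulAction.mem_orbit_self p, hg⟩
  obtain ⟨b, hb⟩ : ∃ b, b ∉ MulAction.orbit H a := by
    by_contra hall
    simp only [not_exists, not_not] at hall
    refine hnt ⟨fun p q => ?_⟩
    obtain ⟨g₁, rfl⟩ := hall p
    obtain ⟨g₂, rfl⟩ := hall q
    exact ⟨g₂ * g₁⁻¹, by simp [mul_smul]⟩
  refine ⟨fun p q p' q' hpq hpq' => (MulAction.is_two_pretransitive_iff.mp h2) hpq hpq', hidx, hinv,
    htwo a, ?_, fun p hp q hq => ?_, ⟨h.1, h.2, fun e => hh1 (Subtype.ext e), fun p hp => hhB p hp⟩⟩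
  · have hdis : Disjoint (MulAction.orbit H a) (MulAction.orbit H b) := by
      refine Set.disjoint_left.mpr fun p hp hp' => hb ?_
      rw [← MulAction.orbit_eq_iff.mpr hp, MulAction.orbit_eq_iff.mpr hp']
      exact MulAction.mem_orbit_self b
    have h3 := Set.ncard_le_ncard (Set.subset_univ (MulAction.orbit H a ∪ MulAction.orbit H b))
    rw [Set.ncard_union_eq hdis, Set.ncard_univ] at h3
    have := htwo b
    omega
  · have hcard := Cfsg.Agent.S3704.result h2 H hidx hnt hfix
    haveI := Fintype.ofFinite (MulAction.orbitRel.Quotient H Ω)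
    have hne : ∀ r, r ∉ MulAction.orbit H a →
        (Quotient.mk'' a : MulAction.orbitRel.Quotient H Ω) ≠ Quotient.mk'' r := fun r hr e =>
      hr (show r ∈ MulAction.orbit H a from Quotient.exact' e.symm)
    have heq : (Quotient.mk'' p : MulAction.orbitRel.Quotient H Ω) = Quotient.mk'' q := by
      by_contra hne'
      have h3 : ({Quotient.mk'' a, Quotient.mk'' p, Quotient.mk'' q} :
          Finset (MulAction.orbitRel.Quotient H Ω)).card ≤ _ := Finset.card_le_univ _
      rw [Finset.card_insert_of_notMem (by simp [hne p hp, hne q hq]), Finset.card_pair hne',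
        ← Nat.card_eq_fintype_card, hcard] at h3
      omega
    obtain ⟨g, hg⟩ := Quotient.exact' heq.symm
    exact ⟨g.1, g.2, hg⟩

end Cfsg.Agent.S3706
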