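import Mathlib
import Cfsg.Statements.S3707

set_option autoImplicit false
open Cfsg

namespace Cfsg.Agent.S3707

open MulAction
open scoped Pointwise

variable {G Ω : Type*} [Group G] [Finite G] [MulAction G Ω] [Finite Ω]

/-- No point stabilizer has a block system, in the presence of a Jordan set of at most half the points. -/
theorem no_block [IsMultiplyPretransitive G Ω 2] (Γ : Set Ω) (h1 : 1 < Γ.ncard) (h2 : 2 * Γ.ncard ≤ Nat.card Ω)
    (htr : ∀ x ∈ Γ, ∀ y ∈ Γ, ∃ g : G, (∀ z ∉ Γ, g • z = z) ∧ g • x = y)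
    (a x : Ω) (B : Set Ω) (hax : a ≠ x) (hxB : x ∈ B) (haB : a ∉ B) (hB2 : 2 ≤ B.ncard)
    (hBn : 2 * B.ncard ≤ Nat.card Ω - 1)
    (hblk : ∀ g : G, g • a = a → ∀ y ∈ B, g • y ∈ B → ∀ z ∈ B, g • z ∈ B) : False := by
  classical
  haveI := Fintype.ofFinite G
  haveI := Fintype.ofFinite Ω
  haveI := isPretransitive_of_is_two_pretransitive (G := G) (α := Ω)
  set n := Nat.card Ω with hn
  set k := Γ.ncard with hk
  -- transport of the block to every pair
  have key : ∀ a' x' : Ω, a' ≠ x' → ∃ B' : Set Ω, x' ∈ B' ∧ a' ∉ B' ∧ B'.ncard = B.ncard ∧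
      ∀ g : G, g • a' = a' → ∀ y ∈ B', g • y ∈ B' → ∀ z ∈ B', g • z ∈ B' := by
    intro a' x' h'
    obtain ⟨g, hga, hgx⟩ := is_two_pretransitive_iff.mp ‹_› hax h'
    refine ⟨g • B, hgx ▸ Set.smul_mem_smul_set hxB, fun h => haB ?_, Set.ncard_smul_set _ _, ?_⟩
    · rw [← hga, Set.smul_mem_smul_set_iff] at h; exact h
    · intro u hu y hy huy z hz
      rw [Set.mem_smul_set_iff_inv_smul_mem] at hy huy hz ⊢
      have hu' : (g⁻¹ * u * g) • a = a := by rw [mul_smul, mul_smul, hga, hu, inv_smul_eq_iff, hga]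
      have e : ∀ w : Ω, (g⁻¹ * u * g) • (g⁻¹ • w) = g⁻¹ • u • w := fun w => by
        rw [mul_smul, mul_smul, smul_inv_smul]
      have := hblk _ hu' _ hy (by rw [e]; exact huy) _ hz
      rwa [e] at this
  -- a translate meeting the block is inside it or contains it
  have dich : ∀ (g : G) (a' x' : Ω) (B' : Set Ω), x' ∈ B' →
      (∀ g : G, g • a' = a' → ∀ y ∈ B', g • y ∈ B' → ∀ z ∈ B', g • z ∈ B') →
      x' ∈ g • Γ → a' ∉ g • Γ → g • Γ ⊆ B' ∨ B' ⊆ g • Γ := by
    intro g a' x' B' hx' hb hxJ haJ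
    rw [or_iff_not_imp_right]
    intro hsub
    obtain ⟨y, hy, hyJ⟩ := Set.not_subset.mp hsub
    intro z hz
    rw [Set.mem_smul_set_iff_inv_smul_mem] at hxJ hz
    obtain ⟨h, hfix, hmap⟩ := htr _ hxJ _ hz
    have hfix' : ∀ w : Ω, w ∉ g • Γ → (g * h * g⁻¹) • w = w := fun w hw => by
      rw [Set.mem_smul_set_iff_inv_smul_mem] at hw
      rw [mul_smul, mul_smul, hfix _ hw, smul_inv_smul]
    have := hb (g * h * g⁻¹) (hfix' _ haJ) y hy (by rw [hfix' _ hyJ]; exact hy) x' hx'
    rwa [mul_smul, mul_smul, hmap, smul_inv_smul] at this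
  let N : Ω → Ω → ℕ := fun u v => (Finset.univ.filter fun g : G => u ∈ g • Γ ∧ v ∈ g • Γ).card
  have hN : ∀ u v u' v' : Ω, u ≠ v → u' ≠ v' → N u v = N u' v' := by
    intro u v u' v' h h'
    obtain ⟨s, hs1, hs2⟩ := is_two_pretransitive_iff.mp ‹IsMultiplyPretransitive G Ω 2› h h'
    refine Finset.card_equiv (Equiv.mulLeft s) fun g => ?_
    simp only [Finset.mem_filter, Finset.mem_univ, true_and, Equiv.coe_mulLeft, mul_smul, ← hs1, ← hs2,
      Set.smul_mem_smul_set_iff]
  have hne : Γ.Nonempty := Set.nonempty_of_ncard_ne_zero (by omega)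
  rcases Nat.lt_or_ge B.ncard k with hlt | hge
  · -- every translate through `x` avoiding `a` contains the block
    obtain ⟨y, hyB, hyx⟩ := Set.exists_ne_of_one_lt_ncard (show 1 < B.ncard by omega) x
    set R := (Finset.univ.filter fun g : G => x ∈ g • Γ).card with hR
    have hRpos : 0 < R := by
      obtain ⟨z, hz⟩ := hne
      obtain ⟨g, hg⟩ := exists_smul_eq G z x
      exact Finset.card_pos.mpr ⟨g, Finset.mem_filter.mpr ⟨Finset.mem_univ _, hg ▸ Set.smul_mem_smul_set hz⟩⟩
    have hRle : R ≤ 2 * N x a := by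
      have hsub : (Finset.univ.filter fun g : G => x ∈ g • Γ) ⊆
          (Finset.univ.filter fun g : G => x ∈ g • Γ ∧ a ∈ g • Γ) ∪
            (Finset.univ.filter fun g : G => x ∈ g • Γ ∧ y ∈ g • Γ) := by
        intro g hg
        rw [Finset.mem_filter] at hg
        simp only [Finset.mem_union, Finset.mem_filter, Finset.mem_univ, true_and]
        by_cases ha : a ∈ g • Γ
        · exact Or.inl ⟨hg.2, ha⟩
        refine Or.inr ⟨hg.2, ?_⟩
        rcases dich g a x B hxB hblk hg.2 ha with h | h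
        · have := Set.ncard_le_ncard h (Set.toFinite _)
          rw [Set.ncard_smul_set] at this
          omega
        · exact h hyB
      refine (Finset.card_le_card hsub).trans ((Finset.card_union_le _ _).trans (le_of_eq ?_))
      show N x a + N x y = _
      rw [hN x y x a hyx.symm hax.symm, two_mul]
    have hsum : ∑ v, N x v = R * k := by
      show ∑ v, (Finset.univ.filter fun g : G => x ∈ g • Γ ∧ v ∈ g • Γ).card = _
      simp only [Finset.card_filter]
      rw [Finset.sum_comm, hR, Finset.card_filter, Finset.sum_mul]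
      refine Finset.sum_congr rfl fun g _ => ?_
      by_cases h : x ∈ g • Γ
      · rw [if_pos h, one_mul, hk, ← Set.ncard_smul_set g Γ, Set.ncard_eq_toFinset_card', ← Finset.card_filter]
        congr 1
        ext v; simp only [Finset.mem_filter, Finset.mem_univ, true_and, Set.mem_toFinset, h]
      · simp [h]
    have hsum' : ∑ v, N x v = R + (n - 1) * N x a := by
      rw [← Finset.sum_erase_add _ _ (Finset.mem_univ x), add_comm]
      congr 1
      · show (Finset.univ.filter fun g : G => x ∈ g • Γ ∧ x ∈ g • Γ).card = _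
        simp only [and_self]; rfl
      · rw [Finset.sum_congr rfl fun v hv => hN x v x a (Finset.ne_of_mem_erase hv).symm hax.symm,
          Finset.sum_const, Finset.card_erase_of_mem (Finset.mem_univ x), Finset.card_univ,
          smul_eq_mul, hn, Nat.card_eq_fintype_card]
    obtain ⟨k', hk'⟩ : ∃ k', k = k' + 1 := ⟨k - 1, by omega⟩
    have h3 : (n - 1) * N x a = R * k' := by rw [hk', mul_add, mul_one] at hsum; omega
    have h4 : (n - 1) * R ≤ R * (2 * k') := by
      calc (n - 1) * R ≤ (n - 1) * (2 * N x a) := Nat.mul_le_mul_left _ hRle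
        _ = 2 * ((n - 1) * N x a) := by ring
        _ = R * (2 * k') := by rw [h3]; ring
    rw [mul_comm] at h4
    have := Nat.le_of_mul_le_mul_left h4 hRpos
    omega
  · -- every translate through `x` avoiding `a` lies in the block of `a`
    have htwo : ∀ z : Ω, z ≠ x → ∃ g : G, x ∈ g • Γ ∧ z ∈ g • Γ := by
      intro z hz
      obtain ⟨u, hu⟩ := hne
      obtain ⟨v, hv, hvu⟩ := Set.exists_ne_of_one_lt_ncard h1 u
      obtain ⟨g, hg1, hg2⟩ := is_two_pretransitive_iff.mp ‹IsMultiplyPretransitive G Ω 2› hvu.symm hz.symm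
      exact ⟨g, hg1 ▸ Set.smul_mem_smul_set hu, hg2 ▸ Set.smul_mem_smul_set hv⟩
    choose g hg using fun z : {z : Ω // z ≠ x} => htwo z z.2
    choose Bk hBk using fun a' : {a' : Ω // a' ≠ x} => key a' x a'.2
    let S : {a' : Ω // a' ≠ x} → {z : Ω // z ≠ x} → Prop := fun a' z => (z : Ω) ∉ insert (a' : Ω) (Bk a')
    have hS : ∀ a' z, S a' z → (a' : Ω) ∈ g z • Γ ∧ (a' : Ω) ≠ z := by
      intro a' z h
      simp only [S, Set.mem_insert_iff, not_or] at h
      refine ⟨?_, fun e => h.1 e.symm⟩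
      by_contra hn'
      rcases dich (g z) a' x (Bk a') (hBk a').1 (hBk a').2.2.2 (hg z).1 hn' with hh | hh
      · exact h.2 (hh (hg z).2)
      · have e : Bk a' = g z • Γ := Set.eq_of_subset_of_ncard_le hh (by
          rw [Set.ncard_smul_set, (hBk a').2.2.1]; omega) (Set.toFinite _)
        exact h.2 (e ▸ (hg z).2)
    have hA : ∀ a', n - 1 - B.ncard ≤ (Finset.univ.filter fun z => S a' z).card := by
      intro a'
      have e : (Finset.univ.filter fun z => S a' z).card = ((insert (a' : Ω) (Bk a'))ᶜ).ncard := by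
        rw [Set.ncard_eq_toFinset_card']
        refine Finset.card_bij (fun z _ => (z : Ω)) (fun z hz => ?_) (fun _ _ _ _ h => Subtype.ext h) ?_
        · simpa [S] using hz
        · intro z hz
          simp only [Set.mem_toFinset, Set.mem_compl_iff] at hz
          refine ⟨⟨z, fun e => hz (Set.mem_insert_of_mem _ (e ▸ (hBk a').1))⟩, ?_, rfl⟩
          simpa [S] using hz
      rw [e, Set.ncard_compl, Set.ncard_insert_of_notMem (hBk a').2.1, (hBk a').2.2.1]
      omega
    have hZ : ∀ z, (Finset.univ.filter fun a' => S a' z).card ≤ k - 2 := by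
      intro z
      have e : ((g z • Γ) \ {x, (z : Ω)}).ncard = k - 2 := by
        rw [Set.ncard_diff (by simp [Set.insert_subset_iff, (hg z).1, (hg z).2]),
          Set.ncard_smul_set, Set.ncard_pair (Ne.symm z.2)]
      rw [← e, Set.ncard_eq_toFinset_card']
      refine Finset.card_le_card_of_injOn (fun a' => (a' : Ω)) (fun a' ha' => ?_)
        (fun _ _ _ _ h => Subtype.ext h)
      simp only [Finset.coe_filter, Finset.mem_univ, true_and, Set.mem_setOf_eq] at ha'
      simpa [a'.2, (hS a' z ha').2] using (hS a' z ha').1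
    have h3 := Finset.card_mul_le_card_mul (s := (Finset.univ : Finset {a' : Ω // a' ≠ x})) (t := Finset.univ)
      S (fun a' _ => hA a') (fun z _ => hZ z)
    simp only [Finset.card_univ] at h3
    have hc : Fintype.card {a' : Ω // a' ≠ x} = n - 1 := by
      rw [Fintype.card_subtype_compl, Fintype.card_subtype_eq, hn, Nat.card_eq_fintype_card]
    rw [hc] at h3
    have := Nat.le_of_mul_le_mul_left h3 (by omega)
    omega

/-- A primitive group with a Jordan set of at most half the points is three times transitive. -/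
theorem result {G Ω : Type*} [Group G] [Finite G] [MulAction G Ω] [FaithfulSMul G Ω] [Finite Ω] (hprim : MulAction.IsPreprimitive G Ω) (Γ : Set Ω) (h1 : 1 < Γ.ncard) (h2 : 2 * Γ.ncard ≤ Nat.card Ω) (htr : ∀ x ∈ Γ, ∀ y ∈ Γ, ∃ g : G, (∀ z ∉ Γ, g • z = z) ∧ g • x = y) : MulAction.IsMultiplyPretransitive G Ω 3 := by
  classical
  have hsum := Set.ncard_add_ncard_compl Γ
  have hsT : IsPretransitive (fixingSubgroup G Γᶜ) (SubMulAction.ofFixingSubgroup G Γᶜ) := by
    refine ⟨fun u v => ?_⟩
    have hu : (u : Ω) ∈ Γ := not_not.mp (fun h => u.2 h)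
    have hv : (v : Ω) ∈ Γ := not_not.mp (fun h => v.2 h)
    obtain ⟨g, hg, hguv⟩ := htr _ hu _ hv
    exact ⟨⟨g, (mem_fixingSubgroup_iff G).mpr fun z hz => hg z hz⟩, Subtype.ext hguv⟩
  haveI h2t : IsMultiplyPretransitive G Ω 2 :=
    hprim.is_two_pretransitive (s := Γᶜ) (n := Γᶜ.ncard - 1) (by omega) (by omega) hsT
  haveI := isPretransitive_of_is_two_pretransitive (G := G) (α := Ω)
  obtain ⟨a, ha⟩ : (Γᶜ).Nonempty := Set.nonempty_of_ncard_ne_zero (by omega)
  rw [SubMulAction.ofStabilizer.isMultiplyPretransitive (a := a)]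
  haveI hpre : IsPretransitive (stabilizer G a) (SubMulAction.ofStabilizer G a) := by
    rw [← is_one_pretransitive_iff, ← SubMulAction.ofStabilizer.isMultiplyPretransitive]
    exact h2t
  have hcard : Nat.card (SubMulAction.ofStabilizer G a) + 1 = Nat.card Ω :=
    SubMulAction.nat_card_ofStabilizer_add_one_eq G a
  obtain ⟨x, hx⟩ : Γ.Nonempty := Set.nonempty_of_ncard_ne_zero (by omega)
  let x' : SubMulAction.ofStabilizer G a := ⟨x, fun e => ha (Set.mem_singleton_iff.mp e ▸ hx)⟩
  have hpa : IsPreprimitive (stabilizer G a) (SubMulAction.ofStabilizer G a) := by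
    refine IsPreprimitive.of_isTrivialBlock_base x' fun {B} hxB hB => ?_
    by_contra hnt
    simp only [IsTrivialBlock, not_or, Set.not_subsingleton_iff] at hnt
    have hlt : ¬ Nat.card (SubMulAction.ofStabilizer G a) < B.ncard * 2 :=
      fun h => hnt.2 (IsBlock.eq_univ_of_card_lt hB h)
    have himg := Set.ncard_image_of_injective B (Subtype.val_injective (p := fun y => y ∈ SubMulAction.ofStabilizer G a))
    refine no_block Γ h1 h2 htr a x (Subtype.val '' B) (fun e => ha (e ▸ hx)) ⟨x', hxB, rfl⟩ ?_ ?_ ?_ ?_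
    · rintro ⟨y, -, hy⟩
      exact y.2 hy
    · rw [himg]
      exact Set.one_lt_ncard_iff_nontrivial.mpr hnt.1
    · rw [himg]; omega
    · rintro g hg _ ⟨y, hy, rfl⟩ ⟨y', hy', hyy'⟩ _ ⟨z, hz, rfl⟩
      let g' : stabilizer G a := ⟨g, hg⟩
      have h' : g' • B = B := by
        by_contra hne
        have hd := (isBlock_iff_smul_eq_or_disjoint.mp hB g').resolve_left hne
        exact Set.disjoint_left.mp hd (Set.smul_mem_smul_set hy) ((Subtype.ext hyy' : y' = g' • y) ▸ hy')
      exact ⟨g' • z, h' ▸ Set.smul_mem_smul_set hz, rfl⟩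
  let s' : Set (SubMulAction.ofStabilizer G a) := Subtype.val ⁻¹' Γᶜ
  have hs' : s'.ncard + 1 = Γᶜ.ncard := by
    have e : Subtype.val '' s' = Γᶜ \ {a} := by
      ext y
      constructor
      · rintro ⟨⟨y, hy⟩, hys, rfl⟩; exact ⟨hys, hy⟩
      · rintro ⟨hy, hya⟩; exact ⟨⟨y, hya⟩, hy, rfl⟩
    rw [← Set.ncard_image_of_injective s' Subtype.val_injective, e,
      Set.ncard_diff_singleton_add_one ha (Set.toFinite _)]
  refine hpa.is_two_pretransitive (s := s') (n := s'.ncard - 1) (by omega) (by omega) ?_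
  refine ⟨fun u v => ?_⟩
  have hu : ((u : SubMulAction.ofStabilizer G a) : Ω) ∈ Γ := not_not.mp (fun h => u.2 h)
  have hv : ((v : SubMulAction.ofStabilizer G a) : Ω) ∈ Γ := not_not.mp (fun h => v.2 h)
  obtain ⟨g, hg, hguv⟩ := htr _ hu _ hv
  exact ⟨⟨⟨g, hg a ha⟩, (mem_fixingSubgroup_iff _).mpr fun z hz => Subtype.ext (hg (z : Ω) hz)⟩,
    Subtype.ext (Subtype.ext hguv)⟩

end Cfsg.Agent.S3707
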