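import Cfsg.Statements.S3708
import Cfsg.Agent.Lib.Classical.Phan.Position

set_option autoImplicit false
open Cfsg

namespace Cfsg.Agent.S3708

/-- Phan's recognition of unitary groups. Let F be a finite field with q² elements, q > 4, and n ≥ 2. Let G be a group generated by subgroups U_0, …, U_{n−1}, each isomorphic to the special unitary group SU(2, q²) (determinant-one isometries of the standard Hermitian form in two variables over F), and let D_i ≤ U_i be cyclic subgroups of order q + 1. Suppose that U_i and U_j commute elementwise whenever the indices differ by at least 2, that the subgroup generated by U_i and U_{i+1} is isomorphic to SU(3, q²) for each i, and that D_i and D_j commute elementwise for all i, j. Then G is a homomorphic image of SU(n+1, q²). (Generation of G by the U_i is part of the hypothesis; G is not assumed finite.) -/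
theorem result {G : Type*} [Group G] (n : ℕ) (hn : 2 ≤ n)
    (F : Type*) [Field F] [Fintype F] (q : ℕ) (hq : 4 < q) (hF : Fintype.card F = q ^ 2)
    (U : Fin n → Subgroup G) (e : ∀ i, ↥(Cfsg.SU 2 F q) ≃* ↥(U i)) (hgen : ⨆ i, U i = ⊤)
    (D : Fin n → Subgroup G) (hD : ∀ i, D i ≤ U i ∧ IsCyclic ↥(D i) ∧ Nat.card ↥(D i) = q + 1)
    (h1 : ∀ i j : Fin n, (i : ℕ) + 2 ≤ j → ∀ x ∈ U i, ∀ y ∈ U j, x * y = y * x)
    (h2 : ∀ i j : Fin n, (i : ℕ) + 1 = j → Nonempty (↥(U i ⊔ U j) ≃* ↥(Cfsg.SU 3 F q)))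
    (h3 : ∀ i j : Fin n, i ≠ j → ∀ x ∈ D i, ∀ y ∈ D j, x * y = y * x) :
    ∃ f : ↥(Cfsg.SU (n + 1) F q) →* G, Function.Surjective f := by
  classical
  obtain ⟨K⟩ := CfsgLib.Classical.Phan.exists_Conj hF
  let U' : ℕ → Subgroup G := fun j => if h : j < n then U ⟨j, h⟩ else ⊥
  have hU' : ∀ j (h : j < n), U' j = U ⟨j, h⟩ := fun j h => dif_pos h
  obtain ⟨f, hfU, -⟩ := CfsgLib.Classical.Phan.phan_main K (G := G) (q := q) (by omega) n hn U'
    (fun j => U' j ⊔ U' (j + 1))
    (fun j hj => by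
      rw [hU' j (by omega), hU' (j + 1) hj]
      obtain ⟨φ⟩ := h2 ⟨j, by omega⟩ ⟨j + 1, hj⟩ rfl
      exact CfsgLib.Classical.Phan.exists_pair_of_tori K (by omega) (e _) (e _) φ (hD _) (hD _)
        (h3 _ _ (fun he => by simp [Fin.ext_iff] at he)))
    (fun i j hij hj => by
      rw [hU' i (by omega), hU' j hj]
      exact h1 ⟨i, by omega⟩ ⟨j, hj⟩ hij)
  exact ⟨f, MonoidHom.range_eq_top.1 (top_le_iff.1
    (hgen ▸ iSup_le fun i => hU' i i.2 ▸ hfU i i.2))⟩

end Cfsg.Agent.S3708
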