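import Cfsg.Statements.S3709
import Cfsg.Agent.Lib.Classical.Phan.Main

set_option autoImplicit false
open Cfsg

namespace Cfsg.Agent.S3709

/-- Recognition of unitary groups from a weak Phan system. Let F be a finite field with q² elements, q > 3, and n ≥ 3. Let G be a group with subgroups U_0, …, U_{n−1}, each isomorphic to SU(2, q²), and, for each pair of consecutive indices, a subgroup V_{i,i+1} in which U_i and U_{i+1} form a standard pair (some isomorphism from SU(3, q²), or from its central quotient PSU(3, q²), onto V_{i,i+1} carries the two block-diagonal SU(2, q²) subgroups, or their images, onto U_i and U_{i+1}). Suppose that U_i and U_j commute elementwise whenever the indices differ by at least 2, and that G is generated by the U_i together with the V_{i,i+1}. Then G is a homomorphic image of SU(n+1, q²). (G is not assumed finite.) -/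
theorem result {G : Type*} [Group G] (n : ℕ) (hn : 3 ≤ n)
    (F : Type*) [Field F] [Fintype F] (q : ℕ) (hq : 3 < q) (hF : Fintype.card F = q ^ 2)
    (U : Fin n → Subgroup G) (e : ∀ i, ↥(Cfsg.SU 2 F q) ≃* ↥(U i))
    (V : Fin n → Fin n → Subgroup G)
    (h1 : ∀ i j : Fin n, (i : ℕ) + 2 ≤ j → ∀ x ∈ U i, ∀ y ∈ U j, x * y = y * x)
    (h2 : ∀ i j : Fin n, (i : ℕ) + 1 = j → Cfsg.IsStandardUnitaryPair (V i j) (U i) (U j) F q)
    (hgen : (⨆ i, U i) ⊔ (⨆ (i : Fin n) (j : Fin n) (_ : (i : ℕ) + 1 = j), V i j) = ⊤) :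
    ∃ f : ↥(Cfsg.SU (n + 1) F q) →* G, Function.Surjective f := by
  classical
  obtain ⟨K⟩ := CfsgLib.Classical.Phan.exists_Conj hF
  let U' : ℕ → Subgroup G := fun j => if h : j < n then U ⟨j, h⟩ else ⊥
  let V' : ℕ → Subgroup G := fun j => if h : j + 1 < n then V ⟨j, by omega⟩ ⟨j + 1, h⟩ else ⊥
  have hU' : ∀ i : Fin n, U' i = U i := fun i => dif_pos i.2
  obtain ⟨f, hfU, hfV⟩ := CfsgLib.Classical.Phan.phan_main K (G := G) hq n (by omega) U' V'
    (fun j hj => by
      simp only [U', V', dif_pos hj, dif_pos (show j < n by omega)]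
      exact CfsgLib.Classical.Phan.exists_pair K (h2 ⟨j, by omega⟩ ⟨j + 1, hj⟩ rfl))
    (fun i j hij hj => by
      simp only [U', dif_pos hj, dif_pos (show i < n by omega)]
      exact h1 ⟨i, by omega⟩ ⟨j, hj⟩ hij)
  refine ⟨f, MonoidHom.range_eq_top.1 (top_le_iff.1 (hgen ▸ sup_le (iSup_le fun i => hU' i ▸ hfU i i.2)
    (iSup_le fun i => iSup_le fun j => iSup_le fun hij => ?_)))⟩
  obtain ⟨i, hi⟩ := i
  obtain ⟨j, hj⟩ := j
  simp only at hij
  subst hij
  have := hfV i hj
  rwa [show V' i = V ⟨i, hi⟩ ⟨i + 1, hj⟩ from dif_pos hj] at this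

end Cfsg.Agent.S3709
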