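import Cfsg.Statements.S3711
import Cfsg.Agent.Lib.PhanSmall.Main

set_option autoImplicit false
open Cfsg

namespace Cfsg.Agent.S3711

/-- Recognition of unitary groups over the field with 4 elements from a weak Phan system. Let F be a field with 4 elements and n ≥ 4. Let G be a group with subgroups U_0, …, U_{n−1}, each isomorphic to SU(2, 4), and, for consecutive indices, subgroups V_{i,i+1} in which U_i and U_{i+1} form a standard pair (via an isomorphism from SU(3, 4) or PSU(3, 4) carrying the block-diagonal subgroups, or their images, onto U_i and U_{i+1}); suppose U_i and U_j commute elementwise whenever the indices differ by at least 2, that G is generated by the U_i and the V_{i,i+1}, that for each i the subgroup generated by V_{i,i+1} and V_{i+1,i+2} is a homomorphic image of SU(4, 4), that U_i and V_{j,j+1} commute elementwise whenever i ≤ j − 2 or i ≥ j + 3, and that V_{i,i+1} and V_{k,k+1} commute elementwise whenever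 k ≥ i + 3. Then G is a homomorphic image of SU(n+1, 4). (G is not assumed finite.) -/
theorem result {G : Type*} [Group G] (n : ℕ) (hn : 4 ≤ n)
    (F : Type*) [Field F] [Fintype F] (hF : Fintype.card F = 4)
    (U : Fin n → Subgroup G) (e : ∀ i, ↥(Cfsg.SU 2 F 2) ≃* ↥(U i))
    (V : Fin n → Fin n → Subgroup G)
    (h1 : ∀ i j : Fin n, (i : ℕ) + 2 ≤ j → ∀ x ∈ U i, ∀ y ∈ U j, x * y = y * x)
    (h2 : ∀ i j : Fin n, (i : ℕ) + 1 = j → Cfsg.IsStandardUnitaryPair (V i j) (U i) (U j) F 2)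
    (hgen : (⨆ i, U i) ⊔ (⨆ (i : Fin n) (j : Fin n) (_ : (i : ℕ) + 1 = j), V i j) = ⊤)
    (h4 : ∀ i j k : Fin n, (i : ℕ) + 1 = j → (j : ℕ) + 1 = k →
      ∃ g : ↥(Cfsg.SU 4 F 2) →* ↥(V i j ⊔ V j k), Function.Surjective g)
    (h5 : ∀ i j k : Fin n, (j : ℕ) + 1 = k → ((i : ℕ) + 2 ≤ j ∨ (k : ℕ) + 2 ≤ i) →
      ∀ x ∈ U i, ∀ y ∈ V j k, x * y = y * x)
    (h6 : ∀ i j k l : Fin n, (i : ℕ) + 1 = j → (k : ℕ) + 1 = l → (j : ℕ) + 2 ≤ k →
      ∀ x ∈ V i j, ∀ y ∈ V k l, x * y = y * x) :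
    ∃ f : ↥(Cfsg.SU (n + 1) F 2) →* G, Function.Surjective f := by
  classical
  obtain ⟨K⟩ := CfsgLib.Classical.Phan.exists_Conj (F := F) (q := 2) (by rw [hF]; norm_num)
  let U' : ℕ → Subgroup G := fun j => if h : j < n then U ⟨j, h⟩ else ⊥
  let V' : ℕ → Subgroup G := fun j => if h : j + 1 < n then V ⟨j, by omega⟩ ⟨j + 1, h⟩ else ⊥
  have hU' : ∀ i : Fin n, U' i = U i := fun i => dif_pos i.2
  obtain ⟨f, hfU, hfV⟩ := CfsgLib.PhanSmall.phan_small K (G := G) (by norm_num) n hn U' V'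
    (fun j hj => by
      simp only [U', V', dif_pos hj, dif_pos (show j < n by omega)]
      exact CfsgLib.Classical.Phan.exists_pair K (h2 ⟨j, by omega⟩ ⟨j + 1, hj⟩ rfl))
    (fun i j hij hj => by
      simp only [U', dif_pos hj, dif_pos (show i < n by omega)]
      exact h1 ⟨i, by omega⟩ ⟨j, hj⟩ hij)
    (fun j hj => by
      have eV : ∀ (a : ℕ) (h : a + 1 < n), V' a = V ⟨a, Nat.lt_of_succ_lt h⟩ ⟨a + 1, h⟩ := fun a h => dif_pos h
      have hW : V ⟨j, by omega⟩ ⟨j + 1, by omega⟩ ⊔ V ⟨j + 1, by omega⟩ ⟨j + 1 + 1, by omega⟩ =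
          V' j ⊔ V' (j + 1) := by
        rw [eV j (Nat.lt_of_succ_lt hj), eV (j + 1) hj]
      obtain ⟨g, hg⟩ := h4 ⟨j, by omega⟩ ⟨j + 1, by omega⟩ ⟨j + 1 + 1, by omega⟩ rfl rfl
      exact ⟨(MulEquiv.subgroupCongr hW).toMonoidHom.comp g,
        (MulEquiv.subgroupCongr hW).surjective.comp hg⟩)
    (fun _ i j hi hj hij => by
      simp only [U', V', dif_pos hi, dif_pos hj]
      exact h5 ⟨i, hi⟩ ⟨j, by omega⟩ ⟨j + 1, hj⟩ rfl (by simp only; omega))
    (fun _ i j hij hj => by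
      simp only [V', dif_pos hj, dif_pos (show i + 1 < n by omega)]
      exact h6 ⟨i, by omega⟩ ⟨i + 1, by omega⟩ ⟨j, by omega⟩ ⟨j + 1, hj⟩ rfl rfl (by simp only; omega))
  refine ⟨f, MonoidHom.range_eq_top.1 (top_le_iff.1 (hgen ▸ sup_le (iSup_le fun i => hU' i ▸ hfU i i.2)
    (iSup_le fun i => iSup_le fun j => iSup_le fun hij => ?_)))⟩
  obtain ⟨i, hi⟩ := i
  obtain ⟨j, hj⟩ := j
  simp only at hij
  subst hij
  have := hfV i hj
  rwa [show V' i = V ⟨i, hi⟩ ⟨i + 1, hj⟩ from dif_pos hj] at this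

end Cfsg.Agent.S3711
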