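import Cfsg.Statements.S3713
import Cfsg.Agent.Lib.Classical.SympSlim.Chart

set_option autoImplicit false
open Cfsg

namespace Cfsg.Agent.S3713

/-- A presentation of the symplectic group as the universal completion of an amalgam of small subgroups. Let F be a field with more than two elements, n ≥ 2, and Sp the group of 2n × 2n matrices over F preserving the standard alternating form, acting on column vectors; write e_k, f_k for the standard basis vectors of the two halves (a hyperbolic basis). For each k let S_k be the subgroup of Sp fixing e_l and f_l for all l ≠ k (a copy of SL(2, F) on the plane of e_k, f_k), and for each i with i + 1 < n let M_i be the subgroup fixing every e_l and fixing f_l for all l other than i, i+1 (an abelian group isomorphic to the additive group of F³). Then Sp is the universal completion of the amalgam formed by the S_k, the M_i and the subgroups generated by two of them: for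 every group H and homomorphisms σ_k : S_k → H, μ_i : M_i → H such that for each pair of these subgroups some homomorphism on the subgroup they generate restricts to the given ones, there is exactly one homomorphism Sp → H restricting to every σ_k and μ_i. -/
theorem result
    (F : Type*) [Field F] (hF : ∃ a : F, a ≠ 0 ∧ a ≠ 1) (n : ℕ) (hn : 2 ≤ n)
    (S M : Fin n → Subgroup ↥(Matrix.symplecticGroup (Fin n) F))
    (hS : ∀ j : Fin n, S j = Subgroup.closure {A : ↥(Matrix.symplecticGroup (Fin n) F) | ∀ k : Fin n, k ≠ j →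
      ((A : ↥(Matrix.symplecticGroup (Fin n) F)) : Matrix (Fin n ⊕ Fin n) (Fin n ⊕ Fin n) F).mulVec (Pi.single (Sum.inl k) (1 : F)) = (Pi.single (Sum.inl k) (1 : F)) ∧ ((A : ↥(Matrix.symplecticGroup (Fin n) F)) : Matrix (Fin n ⊕ Fin n) (Fin n ⊕ Fin n) F).mulVec (Pi.single (Sum.inr k) (1 : F)) = (Pi.single (Sum.inr k) (1 : F))})
    (hM : ∀ i : Fin n, (i : ℕ) + 1 < n → M i = Subgroup.closure {A : ↥(Matrix.symplecticGroup (Fin n) F) |
      (∀ k : Fin n, ((A : ↥(Matrix.symplecticGroup (Fin n) F)) : Matrix (Fin n ⊕ Fin n) (Fin n ⊕ Fin n) F).mulVec (Pi.single (Sum.inl k) (1 : F)) = (Pi.single (Sum.inl k) (1 : F))) ∧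
        ∀ k : Fin n, (k : ℕ) ≠ i → (k : ℕ) ≠ (i : ℕ) + 1 → ((A : ↥(Matrix.symplecticGroup (Fin n) F)) : Matrix (Fin n ⊕ Fin n) (Fin n ⊕ Fin n) F).mulVec (Pi.single (Sum.inr k) (1 : F)) = (Pi.single (Sum.inr k) (1 : F))})
    {H : Type*} [Group H] (σ : ∀ j : Fin n, ↥(S j) →* H) (μ : ∀ i : Fin n, ↥(M i) →* H)
    (hSS : ∀ j l : Fin n, j ≠ l → ∃ Ψ : ↥(S j ⊔ S l) →* H,
      (∀ (g : ↥(Matrix.symplecticGroup (Fin n) F)) (hg : g ∈ S j), Ψ ⟨g, Subgroup.mem_sup_left hg⟩ = σ j ⟨g, hg⟩) ∧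
        (∀ (g : ↥(Matrix.symplecticGroup (Fin n) F)) (hg : g ∈ S l), Ψ ⟨g, Subgroup.mem_sup_right hg⟩ = σ l ⟨g, hg⟩))
    (hMM : ∀ i i' : Fin n, i ≠ i' → (i : ℕ) + 1 < n → (i' : ℕ) + 1 < n → ∃ Ψ : ↥(M i ⊔ M i') →* H,
      (∀ (g : ↥(Matrix.symplecticGroup (Fin n) F)) (hg : g ∈ M i), Ψ ⟨g, Subgroup.mem_sup_left hg⟩ = μ i ⟨g, hg⟩) ∧
        (∀ (g : ↥(Matrix.symplecticGroup (Fin n) F)) (hg : g ∈ M i'), Ψ ⟨g, Subgroup.mem_sup_right hg⟩ = μ i' ⟨g, hg⟩))
    (hMS : ∀ i j : Fin n, (i : ℕ) + 1 < n → ∃ Ψ : ↥(M i ⊔ S j) →* H,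
      (∀ (g : ↥(Matrix.symplecticGroup (Fin n) F)) (hg : g ∈ M i), Ψ ⟨g, Subgroup.mem_sup_left hg⟩ = μ i ⟨g, hg⟩) ∧
        (∀ (g : ↥(Matrix.symplecticGroup (Fin n) F)) (hg : g ∈ S j), Ψ ⟨g, Subgroup.mem_sup_right hg⟩ = σ j ⟨g, hg⟩)) :
    ∃! Φ : ↥(Matrix.symplecticGroup (Fin n) F) →* H,
      (∀ (j : Fin n) (g : ↥(Matrix.symplecticGroup (Fin n) F)) (hg : g ∈ S j), Φ g = σ j ⟨g, hg⟩) ∧
        (∀ (i : Fin n), (i : ℕ) + 1 < n → ∀ (g : ↥(Matrix.symplecticGroup (Fin n) F)) (hg : g ∈ M i), Φ g = μ i ⟨g, hg⟩) := by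
  have hPS : ∀ j, S j = CfsgLib.Classical.SympSlim.PS j := by
    intro j
    rw [hS j]
    refine le_antisymm ((Subgroup.closure_le _).2 fun A hA k hk => ?_) fun A hA => Subgroup.subset_closure fun k hk => ?_
    · rw [CfsgLib.Classical.SympSlim.E_coe, CfsgLib.Classical.SympSlim.Fv_coe]; exact hA k hk
    · have h := hA k hk
      rw [CfsgLib.Classical.SympSlim.E_coe, CfsgLib.Classical.SympSlim.Fv_coe] at h
      exact h
  have hMSeq : ∀ i : Fin n, (i : ℕ) + 1 < n → M i = CfsgLib.Classical.SympSlim.MS (i : ℕ) := by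
    intro i hi
    rw [hM i hi]
    refine le_antisymm ((Subgroup.closure_le _).2 fun A hA => ?_) fun A hA => Subgroup.subset_closure ?_
    · refine ⟨fun k => ?_, fun k h1 h2 => ?_⟩
      · by_cases hk : k < n
        · have h := hA.1 ⟨k, hk⟩; rw [← CfsgLib.Classical.SympSlim.E_coe] at h; exact h
        · rw [CfsgLib.Classical.SympSlim.E_of_le (not_lt.1 hk), CfsgLib.Classical.SympSlim.app_zero']
      · by_cases hk : k < n
        · have h := hA.2 ⟨k, hk⟩ h1 h2; rw [← CfsgLib.Classical.SympSlim.Fv_coe] at h; exact h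
        · rw [CfsgLib.Classical.SympSlim.Fv_of_le (not_lt.1 hk), CfsgLib.Classical.SympSlim.app_zero']
    · refine ⟨fun k => ?_, fun k h1 h2 => ?_⟩
      · have h := hA.1 (k : ℕ); rw [CfsgLib.Classical.SympSlim.E_coe] at h; exact h
      · have h := hA.2 (k : ℕ) h1 h2; rw [CfsgLib.Classical.SympSlim.Fv_coe] at h; exact h
  let P := ↥(Matrix.symplecticGroup (Fin n) F)
  let π : P × H →* P := MonoidHom.fst P H
  let Sg : Fin n → Subgroup (P × H) := fun j => ((S j).subtype.prod (σ j)).range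
  let Mg : ℕ → Subgroup (P × H) := fun i =>
    if h : i < n then ((M ⟨i, h⟩).subtype.prod (μ ⟨i, h⟩)).range else ⊥
  have inj : ∀ (A B C : Subgroup P) (Ψ : ↥(A ⊔ B) →* H) (a : ↥A →* H) (b : ↥B →* H),
      (∀ g (hg : g ∈ A), Ψ ⟨g, Subgroup.mem_sup_left hg⟩ = a ⟨g, hg⟩) →
      (∀ g (hg : g ∈ B), Ψ ⟨g, Subgroup.mem_sup_right hg⟩ = b ⟨g, hg⟩) →
      Set.InjOn π ((((A.subtype.prod a).range ⊔ (B.subtype.prod b).range : Subgroup (P × H))) : Set (P × H)) := by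
    intro A B C Ψ a b ha hb
    have hle : (A.subtype.prod a).range ⊔ (B.subtype.prod b).range ≤ ((A ⊔ B).subtype.prod Ψ).range := by
      refine sup_le ?_ ?_
      · rintro _ ⟨g, rfl⟩
        exact ⟨⟨g.1, Subgroup.mem_sup_left g.2⟩, Prod.ext rfl (ha g.1 g.2)⟩
      · rintro _ ⟨g, rfl⟩
        exact ⟨⟨g.1, Subgroup.mem_sup_right g.2⟩, Prod.ext rfl (hb g.1 g.2)⟩
    intro x hx y hy hxy
    obtain ⟨gx, rfl⟩ := hle hx
    obtain ⟨gy, rfl⟩ := hle hy
    have : gx = gy := Subtype.ext hxy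
    rw [this]
  have injdiag : ∀ (A : Subgroup P) (a : ↥A →* H),
      Set.InjOn π (((A.subtype.prod a).range ⊔ (A.subtype.prod a).range : Subgroup (P × H)) : Set (P × H)) := by
    intro A a
    rw [sup_idem]
    rintro _ ⟨gx, rfl⟩ _ ⟨gy, rfl⟩ hxy
    have : gx = gy := Subtype.ext hxy
    rw [this]
  have hMg : ∀ i (h : i < n), Mg i = ((M ⟨i, h⟩).subtype.prod (μ ⟨i, h⟩)).range := fun i h => dif_pos h
  have map_graph : ∀ (A : Subgroup P) (a : ↥A →* H), ((A.subtype.prod a).range).map π = A := by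
    intro A a
    ext g
    constructor
    · rintro ⟨_, ⟨x, rfl⟩, rfl⟩; exact x.2
    · intro hg; exact ⟨_, ⟨⟨g, hg⟩, rfl⟩, rfl⟩
  have D : CfsgLib.Classical.SympSlim.Slim π Sg Mg := by
    refine ⟨fun j => (map_graph _ _).trans (hPS j), fun i hi => ?_, fun j l => ?_, fun i i' hi hi' => ?_,
      fun i j hi => ?_, hF⟩
    · rw [hMg i (by omega)]; exact (map_graph _ _).trans (hMSeq ⟨i, by omega⟩ hi)
    · by_cases h : j = l
      · subst h; exact injdiag _ _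
      · obtain ⟨Ψ, h1, h2⟩ := hSS j l h
        exact inj _ _ ⊥ Ψ _ _ h1 h2
    · rw [hMg i (by omega), hMg i' (by omega)]
      by_cases h : i = i'
      · subst h; exact injdiag _ _
      · obtain ⟨Ψ, h1, h2⟩ := hMM ⟨i, by omega⟩ ⟨i', by omega⟩ (fun e => h (congrArg Fin.val e)) hi hi'
        exact inj _ _ ⊥ Ψ _ _ h1 h2
    · rw [hMg i (by omega)]
      obtain ⟨Ψ, h1, h2⟩ := hMS ⟨i, by omega⟩ j hi
      exact inj _ _ ⊥ Ψ _ _ h1 h2
  let K0 := CfsgLib.Classical.SympSlim.K Sg Mg 0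
  have hsurj : ∀ g : P, ∃ x ∈ K0, π x = g := fun g =>
    Subgroup.mem_map.1 (D.Fix_le_map 0 (by rw [CfsgLib.Classical.SympSlim.Fix_zero]; trivial))
  have hbij : Function.Bijective (π.comp K0.subtype) :=
    ⟨fun x y h => Subtype.ext (D.injective x.2 y.2 h), fun g => by
      obtain ⟨x, hx, e⟩ := hsurj g; exact ⟨⟨x, hx⟩, e⟩⟩
  let e := MulEquiv.ofBijective (π.comp K0.subtype) hbij
  let Φ : P →* H := (MonoidHom.snd P H).comp (K0.subtype.comp e.symm.toMonoidHom)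
  have hΦ : ∀ x ∈ K0, Φ x.1 = x.2 := by
    intro x hx
    show (e.symm (π.comp K0.subtype ⟨x, hx⟩)).1.2 = x.2
    rw [show π.comp K0.subtype ⟨x, hx⟩ = e ⟨x, hx⟩ from rfl, MulEquiv.symm_apply_apply]
  refine ⟨Φ, ⟨fun j g hg => ?_, fun i hi g hg => ?_⟩, fun Φ' hΦ' => ?_⟩
  · exact hΦ (g, σ j ⟨g, hg⟩) (CfsgLib.Classical.SympSlim.Sg_le_K (Nat.zero_le _) ⟨⟨g, hg⟩, rfl⟩)
  · refine hΦ (g, μ i ⟨g, hg⟩) (CfsgLib.Classical.SympSlim.Mg_le_K (Nat.zero_le _) hi ?_)
    rw [hMg i i.2]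
    exact ⟨⟨g, hg⟩, rfl⟩
  · refine MonoidHom.ext fun g => ?_
    obtain ⟨x, hx, rfl⟩ := hsurj g
    rw [show π x = x.1 from rfl, hΦ x hx]
    refine Subgroup.closure_induction (p := fun y _ => Φ' y.1 = y.2) ?_ (map_one Φ')
      (fun a b _ _ ha hb => by rw [Prod.fst_mul, map_mul, ha, hb, Prod.snd_mul])
      (fun a _ ha => by rw [Prod.fst_inv, map_inv, ha, Prod.snd_inv]) hx
    rintro y (⟨j, -, ⟨a, rfl⟩⟩ | ⟨i, -, hin, hy⟩)
    · exact hΦ'.1 j a.1 a.2
    · rw [hMg i (by omega)] at hy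
      obtain ⟨a, rfl⟩ := hy
      exact hΦ'.2 ⟨i, by omega⟩ hin a.1 a.2

end Cfsg.Agent.S3713
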