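import Cfsg.Statements.S3716
import Cfsg.Agent.Lib.NineTI.DihedralLinear
-- import your own Cfsg.Agent.* helpers here

set_option autoImplicit false
open Cfsg

namespace Cfsg.Agent.S3716

/-- Let G be a finite group with an elementary abelian Sylow 3-subgroup M of order 9 which is self-centralizing (C_G(M) = M), let N = N_G(M), and suppose C_G(g) ≤ N for every nonidentity g ∈ M. If the Sylow 2-subgroups of N are dihedral of order 8, then G is not simple. -/
theorem result {G : Type*} [Group G] [Finite G] (M : Sylow 3 G) (hM9 : Nat.card ↥(M : Subgroup G) = 9)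
    (hMel : ∀ m ∈ (M : Subgroup G), m ^ 3 = 1)
    (hCM : Subgroup.centralizer ((M : Subgroup G) : Set G) = (M : Subgroup G))
    (N : Subgroup G) (hN : N = Subgroup.normalizer ((M : Subgroup G) : Set G))
    (hCg : ∀ g ∈ (M : Subgroup G), g ≠ 1 → Subgroup.centralizer ({g} : Set G) ≤ N)
    (hS : ∀ S : Sylow 2 ↥N, Nonempty (↥(S : Subgroup ↥N) ≃* DihedralGroup 4)) :
    ¬ IsSimpleGroup G := by
  classical
  subst hN
  haveI : Fact (Nat.Prime 3) := ⟨Nat.prime_three⟩
  haveI : Fact (Nat.Prime 2) := ⟨Nat.prime_two⟩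
  let T : Subgroup G := (M : Subgroup G)
  let N : Subgroup G := Subgroup.normalizer (T : Set G)
  have h : CfsgLib.NineTI.Hyp T :=
    { card := hM9
      comm := fun p hp q hq => by
        have hq' : q ∈ Subgroup.centralizer (T : Set G) := by rw [hCM]; exact hq
        exact Subgroup.mem_centralizer_iff.mp hq' p hp
      cube := hMel
      maximal := fun Q hQ hle => M.3 hQ hle
      self := hCM
      loc := hCg }
  obtain ⟨S⟩ := (inferInstance : Nonempty (Sylow 2 N))
  obtain ⟨eS⟩ := hS S
  have hS8 : Nat.card (S : Subgroup N) = 8 := by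
    rw [Nat.card_congr eS.toEquiv, DihedralGroup.nat_card]
  -- only the primes two and three divide the order of the normalizer
  have hTN : Nat.card (T.subgroupOf N) = 9 := by
    rw [Nat.card_congr (Subgroup.subgroupOfEquivOfLe (Subgroup.le_normalizer (H := T))).toEquiv, h.card]
  have h3idx : ¬ 3 ∣ (T.subgroupOf N).index := fun h3 => by
    refine M.not_dvd_index (h3.trans ?_)
    exact Subgroup.relIndex_dvd_index_of_le (Subgroup.le_normalizer (H := T))
  have hprimes : ∀ q : ℕ, q.Prime → q ∣ (T.subgroupOf N).index → q = 2 := by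
    intro q hq hqd
    haveI : Fact q.Prime := ⟨hq⟩
    by_contra hq2
    have hq3 : q ≠ 3 := fun e => h3idx (e ▸ hqd)
    obtain ⟨u, hu⟩ := exists_prime_orderOf_dvd_card' q (hqd.trans (Subgroup.index_dvd_card _))
    let U : Subgroup N := Subgroup.zpowers u
    have hU : IsPGroup q U := IsPGroup.of_card (n := 1) (by rw [Nat.card_zpowers, hu, pow_one])
    letI : MulAction U (T.subgroupOf N) :=
      { smul := fun a m => ⟨(a : N) * m * (a : N)⁻¹, by
          rw [Subgroup.mem_subgroupOf]
          exact (Subgroup.mem_normalizer_iff.mp ((a : N)).2 _).mp (Subgroup.mem_subgroupOf.mp m.2)⟩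
        one_smul := fun m => Subtype.ext (by show ((1 : U) : N) * m * ((1 : U) : N)⁻¹ = m; simp)
        mul_smul := fun a b m => Subtype.ext (by
          show ((a * b : U) : N) * m * ((a * b : U) : N)⁻¹ =
            (a : N) * ((b : N) * m * (b : N)⁻¹) * (a : N)⁻¹
          simp [mul_assoc]) }
    have hmod := hU.card_modEq_card_fixedPoints (T.subgroupOf N)
    rw [hTN] at hmod
    let C : Subgroup G := T ⊓ Subgroup.centralizer ({(u : G)} : Set G)
    have hfix : Nat.card (MulAction.fixedPoints U (T.subgroupOf N)) = Nat.card C := by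
      refine Nat.card_congr
        ⟨fun m => ⟨((m.1 : N) : G), Subgroup.mem_subgroupOf.mp m.1.2, ?_⟩,
          fun m => ⟨⟨⟨m, Subgroup.le_normalizer m.2.1⟩, Subgroup.mem_subgroupOf.mpr m.2.1⟩, ?_⟩,
          fun m => rfl, fun m => rfl⟩
      · refine Subgroup.mem_centralizer_singleton_iff.mpr ?_
        have e := congrArg (fun v : T.subgroupOf N => ((v : N) : G)) (m.2 ⟨u, Subgroup.mem_zpowers u⟩)
        change (u : G) * ((m.1 : N) : G) * (u : G)⁻¹ = ((m.1 : N) : G) at e
        exact (mul_inv_eq_iff_eq_mul.mp e).symm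
      · rintro ⟨a, ha⟩
        refine Subtype.ext (Subtype.ext ?_)
        show (a : G) * m * (a : G)⁻¹ = m
        obtain ⟨i, rfl⟩ := ha
        have hc : Commute (u : G) (m : G) := (Subgroup.mem_centralizer_singleton_iff.mp m.2.2).symm
        rw [SubgroupClass.coe_zpow, (hc.zpow_left i).eq, mul_inv_cancel_right]
    rw [hfix] at hmod
    have hd : Nat.card C ∣ 9 := h.card ▸ Subgroup.card_dvd_of_le inf_le_left
    have hne : Nat.card C ≠ 9 := by
      intro e
      have hle : C = T := Subgroup.eq_of_le_of_card_ge inf_le_left (by rw [e, h.card])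
      have huT : (u : G) ∈ T := by
        rw [← h.self]
        refine Subgroup.mem_centralizer_iff.mpr fun m hm => ?_
        have hm' : m ∈ C := hle ▸ hm
        exact Subgroup.mem_centralizer_singleton_iff.mp hm'.2
      have h3 : orderOf (u : G) ∣ 3 := orderOf_dvd_of_pow_eq_one (h.cube _ huT)
      rw [Subgroup.orderOf_coe, hu] at h3
      exact hq3 ((Nat.prime_dvd_prime_iff_eq hq Nat.prime_three).mp h3)
    have hq5 : 4 ≤ q := by have := hq.two_le; omega
    have hle := Nat.le_of_dvd (by norm_num) hd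
    have hqle : q ≤ 8 := by
      have h2 : (9 : ℕ) ≡ Nat.card C [MOD q] := hmod
      have h3 := (Nat.modEq_iff_dvd' hle).mp h2.symm
      have := Nat.le_of_dvd (by omega) h3
      have hpos : 0 < Nat.card C := Nat.card_pos
      omega
    generalize Nat.card C = r at *
    interval_cases q <;> interval_cases r <;>
      first | omega | (exact absurd hq (by decide)) | (revert hmod; decide)
  obtain ⟨k, hk⟩ : ∃ k, (T.subgroupOf N).index = 2 ^ k :=
    ⟨_, Nat.eq_prime_pow_of_unique_prime_dvd Subgroup.index_ne_zero_of_finite fun {d} hd hdd => hprimes d hd hdd⟩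
  have hN : Nat.card N = 9 * 2 ^ k := by rw [← (T.subgroupOf N).card_mul_index, hTN, hk]
  have hk3 : k = 3 := by
    have e := S.card_eq_multiplicity
    rw [hS8, hN, Nat.factorization_mul (by norm_num) (by positivity), Finsupp.add_apply,
      Nat.factorization_eq_zero_of_not_dvd (n := 9) (by norm_num), zero_add,
      Nat.Prime.factorization_pow Nat.prime_two, Finsupp.single_eq_same] at e
    exact (Nat.pow_right_injective (le_refl 2) (show (2 : ℕ) ^ 3 = 2 ^ k from e)).symm
  subst hk3
  let P : Subgroup G := (S : Subgroup N).map N.subtype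
  let eP : DihedralGroup 4 ≃* P :=
    eS.symm.trans ((S : Subgroup N).equivMapOfInjective N.subtype N.subtype_injective)
  have hdec : ∀ n ∈ N, ∃ m ∈ T, ∃ p ∈ P, n = m * p := by
    intro n hn
    have hc : Subgroup.IsComplement' (T.subgroupOf N) (S : Subgroup N) := by
      refine Subgroup.isComplement'_of_coprime ?_ ?_ <;> rw [hTN, hS8]
      · rw [hN]; norm_num
      · norm_num
    obtain ⟨⟨⟨m, hm⟩, ⟨s, hs⟩⟩, he⟩ := hc.2 (⟨n, hn⟩ : N)
    exact ⟨m, Subgroup.mem_subgroupOf.mp hm, s, ⟨s, hs, rfl⟩, (congrArg Subtype.val he).symm⟩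
  obtain ⟨ψ, hψ⟩ := CfsgLib.NineTI.exists_equiv_model h P (Subgroup.map_subtype_le _) eP hdec
  let D : CfsgLib.NineTI.DData T := ⟨h, ψ, hψ⟩
  obtain ⟨χ, hχ, -⟩ := CfsgLib.NineTI.exists_linear D
  intro hsimple
  haveI := hsimple
  have hker : χ.ker = ⊥ := (χ.normal_ker.eq_bot_or_eq_top).resolve_right fun e =>
    hχ (MonoidHom.mem_ker.mp (e ▸ Subgroup.mem_top _))
  have hcomm : ∀ a b : G, a * b = b * a := fun a b =>
    (MonoidHom.ker_eq_bot_iff χ).mp hker (by rw [map_mul, map_mul, mul_comm])
  have haM : D.a ∈ T := by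
    exact h.self.le (Subgroup.mem_centralizer_iff.mpr fun g _ => hcomm g _)
  have := (D.mem_M _).mp haM
  exact absurd this (by decide +kernel)

end Cfsg.Agent.S3716
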