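import Cfsg.Statements.S3726
import Cfsg.Agent.Lib.ConstFix.Lines
import Cfsg.Agent.Lib.SuzUniq.Zassenhaus
import Cfsg.Agent.Lib.Zassenhaus.NormalSubgroup
import Cfsg.Agent.S0680

set_option autoImplicit false
open Cfsg

namespace Cfsg.Agent.S3726

/-- Let a finite group G act faithfully and 2-transitively on a finite set Ω, and suppose there is an involution t of G, fixing exactly i points, such that every non-identity element of the centralizer of t also fixes exactly i points. Then G is isomorphic to PSL₂(q) for some finite field of order q, or to a Suzuki group Sz(q) (q = 2^(2m+1) ≥ 8), or G has a normal subgroup acting regularly on Ω. -/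
theorem result {G Ω : Type*} [Group G] [Finite G] [Fintype Ω] [MulAction G Ω] [FaithfulSMul G Ω]
    (h2 : MulAction.IsMultiplyPretransitive G Ω 2) (i : ℕ) (t : G) (ht : orderOf t = 2)
    (hti : Nat.card {x : Ω // t • x = x} = i)
    (hC : ∀ g : G, Commute g t → g ≠ 1 → Nat.card {x : Ω // g • x = x} = i) :
    (∃ (F : Type) (_ : Field F) (_ : Fintype F), Nonempty (G ≃* Matrix.ProjectiveSpecialLinearGroup (Fin 2) F)) ∨
    Cfsg.Lie.IsoSuzuki G ∨
    (∃ R : Subgroup G, R.Normal ∧ (∀ x y : Ω, ∃ r ∈ R, r • x = y) ∧ ∀ x : Ω, ∀ r ∈ R, r • x = x → r = 1) := by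
  classical
  by_cases hR : ∃ R : Subgroup G, R.Normal ∧ (∀ x y : Ω, ∃ r ∈ R, r • x = y) ∧ ∀ x : Ω, ∀ r ∈ R, r • x = x → r = 1
  · exact Or.inr (Or.inr hR)
  have ht2 : t * t = 1 := by
    have := pow_orderOf_eq_one t
    rwa [ht, pow_two] at this
  have ht1 : t ≠ 1 := fun e => by rw [e, orderOf_one] at ht; omega
  have hf : ∀ g : G, (∀ p : Ω, g • p = p) → g = 1 :=
    fun g hg => eq_of_smul_eq_smul fun p : Ω => by rw [hg, one_smul]
  have h : CfsgLib.ConstFix.Hyp G Ω t i :=
    ⟨CfsgLib.TwoPointStab.pairs_of_multiply h2, hf, ht2, ht1, hti, hC⟩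
  obtain ⟨a, ha⟩ := h.moved
  set b := t • a
  have hab : a ≠ b := Ne.symm ha
  by_cases hK : ∃ g : G, g ≠ 1 ∧ g • a = a ∧ g • b = b
  · -- a Zassenhaus group
    obtain ⟨g₀, hg₀, g₀a, g₀b⟩ := hK
    have h3 : ∀ g : G, ∀ p q r : Ω, p ≠ q → q ≠ r → p ≠ r → g • p = p → g • q = q → g • r = r → g = 1 := by
      rcases Nat.lt_or_ge i 2 with hi | hi
      · exact fun g p q r e1 e2 e3 f1 f2 f3 => h.three (by omega) e1 e2 e3 f1 f2 f3
      · exact h.le_two.2 (by have := h.le_two.1; omega)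
    have h5 : ∀ N : Subgroup G, N.Normal → MulAction.IsPretransitive ↥N Ω →
        ∃ x : Ω, MulAction.stabilizer ↥N x ≠ ⊥ := by
      intro N hN hNt
      by_contra hc
      push Not at hc
      refine hR ⟨N, hN, fun x y => ?_, fun x r hr hrx => ?_⟩
      · obtain ⟨n, hn⟩ := MulAction.exists_smul_eq ↥N x y
        exact ⟨n, n.2, hn⟩
      · have hmem : (⟨r, hr⟩ : ↥N) ∈ MulAction.stabilizer ↥N x := MulAction.mem_stabilizer_iff.mpr hrx
        rw [hc x, Subgroup.mem_bot] at hmem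
        exact congrArg Subtype.val hmem
    have h4 : ∃ g : G, g ≠ 1 ∧ ∃ a b : Ω, a ≠ b ∧ g • a = a ∧ g • b = b := ⟨g₀, hg₀, a, b, hab, g₀a, g₀b⟩
    have hZ : Cfsg.IsZassenhausGroup G Ω := ⟨inferInstance, h2, h3, h4, h5⟩
    have hz := CfsgLib.Zassenhaus.ZG.mk' (inferInstance : FaithfulSMul G Ω) h2 h3 h4
    haveI : Nontrivial G := ⟨t, 1, ht1⟩
    haveI : IsSimpleGroup G := by
      refine ⟨fun N hN => (eq_or_ne N ⊥).imp_right fun hne => ?_⟩
      haveI := hN
      obtain ⟨u, huN, hu1, hu2⟩ :=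
        CfsgLib.Zassenhaus.normal_two_transitive hz h5 N hne hab hab.symm
      have hall : ∀ x : G, CfsgLib.TwoPointStab.Swap a b x → x ∈ N := by
        intro x hx
        obtain ⟨s, hs⟩ := h.swap_conj hab (x := u) ⟨hu1, hu2⟩
        obtain ⟨s', hs'⟩ := h.swap_conj hab hx
        rw [← hs', show s' * t * s'⁻¹ = (s' * s⁻¹) * (s * t * s⁻¹) * (s' * s⁻¹)⁻¹ by group, hs]
        exact hN.conj_mem u huN _
      refine (Subgroup.eq_top_iff' N).mpr fun g => ?_
      obtain ⟨n, hn, n1, n2⟩ := CfsgLib.Zassenhaus.normal_two_transitive hz h5 N hne hab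
        (fun e => hab (MulAction.injective g e) : g • a ≠ g • b)
      have hk : n⁻¹ * g * u ∈ N := hall _
        ⟨by rw [mul_smul, hu1, mul_smul, inv_smul_eq_iff, n2], by rw [mul_smul, hu2, mul_smul, inv_smul_eq_iff, n1]⟩
      have := N.mul_mem (N.mul_mem hn hk) (N.inv_mem huN)
      rwa [show n * (n⁻¹ * g * u) * u⁻¹ = g by group] at this
    exact (CfsgLib.SuzUniq.zassenhaus_simple hZ).imp_right Or.inl
  · -- sharply doubly transitive
    push Not at hK
    exfalso
    apply hR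
    let f := MulAction.toPermHom G Ω
    haveI : MulAction.IsMultiplyPretransitive ↥f.range Ω 2 := by
      rw [MulAction.is_two_pretransitive_iff]
      intro p q p' q' hpq hpq'
      obtain ⟨g, g1, g2⟩ := h.pairs p q p' q' hpq hpq'
      exact ⟨⟨f g, g, rfl⟩, g1, g2⟩
    have hsharp : ∀ x : Fin 2 ↪ Ω, MulAction.stabilizer ↥f.range x = ⊥ := by
      intro x
      refine (Subgroup.eq_bot_iff_forall _).mpr ?_
      rintro ⟨_, g, rfl⟩ hg
      have e : ∀ j, g • x j = x j := fun j => congrArg (fun y : Fin 2 ↪ Ω => y j) hg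
      obtain ⟨s, s1, s2⟩ := h.pairs (x 0) (x 1) a b (fun e' => by simpa using x.injective e') hab
      have : s * g * s⁻¹ = 1 := by
        by_contra hne
        exact hK _ hne (by rw [← s1, CfsgLib.TwoPointStab.smul_conj_smul, e])
          (by rw [← s2, CfsgLib.TwoPointStab.smul_conj_smul, e])
      refine Subtype.ext ?_
      show f g = 1
      rw [conj_eq_one_iff.mp this, map_one]
    obtain ⟨p, j, hp, -, -, hP⟩ := Cfsg.Agent.S0680.result f.range hsharp
      (Fintype.one_lt_card_iff_nontrivial.mpr ⟨⟨a, b, hab⟩⟩)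
    haveI := Fact.mk hp
    obtain ⟨hn, -, -, htr, hfree, -⟩ := hP ⟨hp⟩ (default : Sylow p ↥f.range)
    set P := ((default : Sylow p ↥f.range) : Subgroup ↥f.range)
    refine ⟨P.comap f.rangeRestrict, hn.comap _, fun x y => ?_, fun x r hr hrx => ?_⟩
    · obtain ⟨⟨⟨_, g, rfl⟩, hq⟩, hgx⟩ := MulAction.exists_smul_eq ↥P x y
      exact ⟨g, hq, hgx⟩
    · have hmem : (⟨f.rangeRestrict r, hr⟩ : ↥P) ∈ MulAction.stabilizer ↥P x :=
        MulAction.mem_stabilizer_iff.mpr hrx
      rw [hfree x, Subgroup.mem_bot] at hmem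
      refine hf r fun q => ?_
      exact congrArg (fun y : ↥P => ((y : ↥f.range) : Equiv.Perm Ω) q) hmem

end Cfsg.Agent.S3726
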