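import Cfsg.Statements.S3732
import Cfsg.Agent.Lib.OWagner.Desargues

set_option autoImplicit false
open Cfsg

namespace Cfsg.Agent.S3732

open CfsgLib.OWagner in
/-- The plane of a projective plane configuration. -/
theorem exists_quadrangle (P L : Type*) [Membership P L] [Finite P] [Finite L]
    [Configuration.ProjectivePlane P L] :
    ∃ a b c d : P, (∀ l : L, a ∈ l → b ∈ l → ¬ c ∈ l ∧ ¬ d ∈ l) ∧
      (∀ l : L, c ∈ l → d ∈ l → ¬ a ∈ l ∧ ¬ b ∈ l) ∧ a ≠ b ∧ c ≠ d := by
  classical
  obtain ⟨a, b, c, l₁, l₂, l₃, a2, a3, b1, b2, b3, c1, c2, c3⟩ :=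
    @Configuration.ProjectivePlane.exists_config P L _ _
  have hbc : b ≠ c := fun e => c3 (e ▸ b3)
  obtain ⟨⟨r, hr⟩, hrb, hrc⟩ : ∃ r : {q : P // q ∈ l₂}, r ≠ ⟨b, b2⟩ ∧ r ≠ ⟨c, c2⟩ := by
    haveI := Fintype.ofFinite {q : P // q ∈ l₂}
    have h := Configuration.ProjectivePlane.two_lt_pointCount (P := P) l₂
    rw [Configuration.pointCount, Nat.card_eq_fintype_card] at h
    obtain ⟨x, -, y, -, z, -, hxy, hxz, hyz⟩ := Finset.two_lt_card.mp (Finset.card_univ (α := {q : P // q ∈ l₂}) ▸ h)
    by_cases h1 : x = ⟨b, b2⟩ ∨ x = ⟨c, c2⟩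
    · by_cases h2 : y = ⟨b, b2⟩ ∨ y = ⟨c, c2⟩
      · refine ⟨z, ?_, ?_⟩ <;> rcases h1 with rfl | rfl <;> rcases h2 with rfl | rfl <;>
          first
            | exact absurd rfl hxy
            | exact hxz.symm
            | exact hyz.symm
      · exact ⟨y, fun e => h2 (Or.inl e), fun e => h2 (Or.inr e)⟩
    · exact ⟨x, fun e => h1 (Or.inl e), fun e => h1 (Or.inr e)⟩
  have har : a ≠ r := fun e => a2 (e ▸ hr)
  set m : L := Configuration.HasLines.mkLine har
  obtain ⟨ham, hrm⟩ := Configuration.HasLines.mkLine_ax (L := L) har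
  obtain ⟨⟨d, hd⟩, hda, hdr⟩ : ∃ d : {q : P // q ∈ m}, d ≠ ⟨a, ham⟩ ∧ d ≠ ⟨r, hrm⟩ := by
    haveI := Fintype.ofFinite {q : P // q ∈ m}
    have h := Configuration.ProjectivePlane.two_lt_pointCount (P := P) m
    rw [Configuration.pointCount, Nat.card_eq_fintype_card] at h
    obtain ⟨x, -, y, -, z, -, hxy, hxz, hyz⟩ := Finset.two_lt_card.mp (Finset.card_univ (α := {q : P // q ∈ m}) ▸ h)
    by_cases h1 : x = ⟨a, ham⟩ ∨ x = ⟨r, hrm⟩
    · by_cases h2 : y = ⟨a, ham⟩ ∨ y = ⟨r, hrm⟩
      · refine ⟨z, ?_, ?_⟩ <;> rcases h1 with rfl | rfl <;> rcases h2 with rfl | rfl <;>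
          first
            | exact absurd rfl hxy
            | exact hxz.symm
            | exact hyz.symm
      · exact ⟨y, fun e => h2 (Or.inl e), fun e => h2 (Or.inr e)⟩
    · exact ⟨x, fun e => h1 (Or.inl e), fun e => h1 (Or.inr e)⟩
  have hda' : d ≠ a := fun e => hda (Subtype.ext e)
  have hdr' : d ≠ r := fun e => hdr (Subtype.ext e)
  have eqp : ∀ {p q : P} {j k : L}, j ≠ k → p ∈ j → p ∈ k → q ∈ j → q ∈ k → p = q :=
    fun {p q j k} hne h1 h2 h3 h4 =>
      (Configuration.Nondegenerate.eq_or_eq h1 h3 h2 h4).resolve_right hne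
  have eql : ∀ {p q : P} {j k : L}, p ≠ q → p ∈ j → q ∈ j → p ∈ k → q ∈ k → j = k :=
    fun {p q j k} hne h1 h2 h3 h4 =>
      (Configuration.Nondegenerate.eq_or_eq h1 h2 h3 h4).resolve_left hne
  have hm2 : m ≠ l₂ := fun e => a2 (e ▸ ham)
  have hbm : ¬ b ∈ m := fun e => hrb (Subtype.ext (eqp hm2 hrm hr e b2))
  have hcm : ¬ c ∈ m := fun e => hrc (Subtype.ext (eqp hm2 hrm hr e c2))
  refine ⟨a, b, c, d, fun l hal hbl => ⟨fun hcl => ?_, fun hdl => ?_⟩,
    fun l hcl hdl => ⟨fun hal => ?_, fun hbl => ?_⟩, fun e => a2 (e.symm ▸ b2), fun e => hcm (e.symm ▸ hd)⟩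
  · exact a2 (eql hbc hbl hcl b2 c2 ▸ hal)
  · exact hbm (eql hda' hdl hal hd ham ▸ hbl)
  · exact hcm (eql hda' hdl hal hd ham ▸ hcl)
  · have := eql hbc hbl hcl b2 c2
    exact hdr' (eqp hm2 hd (this ▸ hdl) hrm hr)

/-- The Ostrom–Wagner Theorem. Let Π be a finite projective plane (points P, lines L) whose collineation group is 2-transitive on points: for any two ordered pairs of distinct points there is a permutation of the points, together with a compatible permutation of the lines preserving incidence, carrying the first pair to the second. Then Π is Desarguesian: there is a finite field F and a bijection from P onto the points of the projective plane over F (the 1-dimensional subspaces of F³) under which the lines of Π correspond exactly to the 2-dimensional subspaces of F³. -/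
theorem result
    {P L : Type*} [Membership P L] [Fintype P] [Fintype L] [Configuration.ProjectivePlane P L]
    (h2t : ∀ p₁ p₂ q₁ q₂ : P, p₁ ≠ p₂ → q₁ ≠ q₂ →
      ∃ (σ : Equiv.Perm P) (τ : Equiv.Perm L), (∀ (p : P) (l : L), σ p ∈ τ l ↔ p ∈ l) ∧ σ p₁ = q₁ ∧ σ p₂ = q₂) :
    ∃ (F : Type) (_ : Field F) (_ : Fintype F) (φ : P ≃ Projectivization F (Fin 3 → F)),
      (∀ l : L, ∃ W : Submodule F (Fin 3 → F), Module.finrank F W = 2 ∧
          ∀ p : P, p ∈ l ↔ (φ p).submodule ≤ W) ∧
      (∀ W : Submodule F (Fin 3 → F), Module.finrank F W = 2 →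
          ∃ l : L, ∀ p : P, p ∈ l ↔ (φ p).submodule ≤ W) := by
  classical
  obtain ⟨a, b, c, d, h1, h2, h3, h4⟩ := exists_quadrangle P L
  let π : CfsgLib.OWagner.Pl P L :=
    { mem := fun p l => p ∈ l
      exists_line := fun p q => by
        by_cases h : p = q
        · subst h
          by_cases hpa : p = a
          · subst hpa
            exact ⟨Configuration.HasLines.mkLine h3, (Configuration.HasLines.mkLine_ax h3).1,
              (Configuration.HasLines.mkLine_ax h3).1⟩
          · exact ⟨Configuration.HasLines.mkLine hpa, (Configuration.HasLines.mkLine_ax hpa).1,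
              (Configuration.HasLines.mkLine_ax hpa).1⟩
        · exact ⟨Configuration.HasLines.mkLine h, Configuration.HasLines.mkLine_ax h⟩
      exists_point := fun l m => by
        by_cases h : l = m
        · subst h
          by_cases hl : l = Configuration.HasLines.mkLine h3
          · subst hl
            exact ⟨a, (Configuration.HasLines.mkLine_ax h3).1, (Configuration.HasLines.mkLine_ax h3).1⟩
          · exact ⟨Configuration.HasPoints.mkPoint hl, (Configuration.HasPoints.mkPoint_ax hl).1,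
              (Configuration.HasPoints.mkPoint_ax hl).1⟩
        · exact ⟨Configuration.HasPoints.mkPoint h, Configuration.HasPoints.mkPoint_ax h⟩
      unique := fun x y z w => Configuration.Nondegenerate.eq_or_eq x y z w
      quad := ⟨a, b, c, d, h1, h2, h3, h4⟩ }
  let G : Subgroup (Equiv.Perm P × Equiv.Perm L) :=
    { carrier := {g | ∀ (p : P) (l : L), g.1 p ∈ g.2 l ↔ p ∈ l}
      one_mem' := fun p l => Iff.rfl
      mul_mem' := fun {g g'} hg hg' p l => (hg (g'.1 p) (g'.2 l)).trans (hg' p l)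
      inv_mem' := fun {g} hg p l => by
        have := hg (g.1⁻¹ p) (g.2⁻¹ l)
        simp only [Equiv.Perm.inv_def, Equiv.apply_symm_apply] at this
        exact this.symm }
  letI : MulAction G P :=
    { smul := fun g p => g.1.1 p
      one_smul := fun _ => rfl
      mul_smul := fun _ _ _ => rfl }
  letI : MulAction G L :=
    { smul := fun g l => g.1.2 l
      one_smul := fun _ => rfl
      mul_smul := fun _ _ _ => rfl }
  have hG : π.Inv G := fun g p l => g.2 p l
  haveI : FaithfulSMul G P := faithfulSMul_iff.mpr fun g hg =>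
    Subtype.ext (Prod.ext (Equiv.ext hg) (Equiv.ext (π.lineFix_of_forall hG hg)))
  refine π.exists_desargues hG fun p₁ p₂ q₁ q₂ hp hq => ?_
  obtain ⟨σ, τ, hστ, e1, e2⟩ := h2t p₁ p₂ q₁ q₂ hp hq
  exact ⟨⟨(σ, τ), hστ⟩, e1, e2⟩

end Cfsg.Agent.S3732
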