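import Cfsg.Statements.S3733
import Mathlib
import Cfsg.Prelude.Def_Transfer
import Cfsg.Prelude.Def_Local
import Cfsg.Prelude.Def_PLocal
import Cfsg.Prelude.Def_OddOrderLocal

set_option autoImplicit false
set_option linter.style.haveILetI false
open Cfsg

namespace Cfsg.Agent.S3733

/-- Let A and V be subgroups of a finite group with V abelian and nontrivial and A normalizing V. Suppose a nonempty finite family of proper subgroups of A partitions A: every non-identity element of A lies in exactly one member. If the number of members minus one is coprime to the order of V, then some member B of the family has a non-identity fixed point on V, that is V ∩ C(B) ≠ 1. -/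
theorem result {G : Type*} [Group G] [Finite G] (A V : Subgroup G) (hVab : IsMulCommutative V) (hV : V ≠ ⊥) (hAV : A ≤ Subgroup.normalizer (V : Set G)) (𝒜 : Finset (Subgroup G)) (hne : 𝒜.Nonempty) (hprop : ∀ B ∈ 𝒜, B < A) (hpart : ∀ a ∈ A, a ≠ 1 → ∃! B, B ∈ 𝒜 ∧ a ∈ B) (hk : (𝒜.card - 1).Coprime (Nat.card V)) : ∃ B ∈ 𝒜, V ⊓ Subgroup.centralizer (B : Set G) ≠ ⊥ := by
  classical
  by_contra hall
  push Not at hall
  obtain ⟨B0, hB0⟩ := hne
  have hconj : ∀ a ∈ A, ∀ w ∈ V, a * w * a⁻¹ ∈ V := fun a ha w hw =>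
    (Subgroup.mem_normalizer_iff.mp (hAV ha) w).mp hw
  obtain ⟨v, hv, hv1⟩ : ∃ v ∈ V, v ≠ 1 := by
    by_contra h
    push Not at h
    exact hV ((Subgroup.eq_bot_iff_forall V).mpr h)
  haveI := Fintype.ofFinite G
  haveI := hVab
  letI : CommGroup V := { (inferInstance : Group V) with mul_comm := fun a b => hVab.is_comm.comm a b }
  let c : G → V := fun a => if h : a ∈ A then ⟨a * v * a⁻¹, hconj a h v hv⟩ else 1
  let S : Subgroup G → Finset G := fun B => Finset.univ.filter (fun b => b ∈ B ∧ b ≠ 1)
  have key : ∀ B : Subgroup G, B ≤ A → V ⊓ Subgroup.centralizer (B : Set G) = ⊥ →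
      ∏ b ∈ S B, c b = (⟨v, hv⟩ : V)⁻¹ := by
    intro B hBA hB
    set T := Finset.univ.filter (fun b : G => b ∈ B)
    have hT : ∀ b : G, b ∈ T ↔ b ∈ B := fun b => by simp [T]
    set P := ∏ b ∈ T, c b
    have hfix : (P : G) ∈ Subgroup.centralizer (B : Set G) := by
      rw [Subgroup.mem_centralizer_iff]
      intro b hb
      let f : V →* V :=
        { toFun := fun w => ⟨b * w * b⁻¹, hconj b (hBA hb) w w.2⟩
          map_one' := by ext; simp
          map_mul' := fun a d => by ext; simp [mul_assoc] }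
      have h1 : f P = P := by
        rw [map_prod]
        refine Finset.prod_nbij' (fun d => b * d) (fun d => b⁻¹ * d) ?_ ?_ ?_ ?_ ?_
        · intro d hd; rw [hT] at hd ⊢; exact B.mul_mem hb hd
        · intro d hd; rw [hT] at hd ⊢; exact B.mul_mem (B.inv_mem hb) hd
        · intro d _; simp
        · intro d _; simp
        · intro d hd
          rw [hT] at hd
          ext
          show b * (c d : G) * b⁻¹ = (c (b * d) : G)
          simp only [c, dif_pos (hBA hd), dif_pos (A.mul_mem (hBA hb) (hBA hd))]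
          group
      have h2 := congrArg Subtype.val h1
      show b * (P : G) = (P : G) * b
      conv_rhs => rw [← h2]
      show b * (P : G) = b * (P : G) * b⁻¹ * b
      group
    have hP : P = 1 := by
      have : (P : G) ∈ V ⊓ Subgroup.centralizer (B : Set G) := ⟨P.2, hfix⟩
      rw [hB, Subgroup.mem_bot] at this
      exact Subtype.ext this
    have hins : T = insert 1 (S B) := by
      ext b
      simp only [T, S, Finset.mem_filter, Finset.mem_insert, Finset.mem_univ, true_and]
      constructor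
      · intro h; rcases eq_or_ne b 1 with h1 | h1
        · exact Or.inl h1
        · exact Or.inr ⟨h, h1⟩
      · rintro (rfl | ⟨h, -⟩)
        · exact B.one_mem
        · exact h
    rw [show P = ∏ b ∈ insert 1 (S B), c b from by rw [← hins], Finset.prod_insert (by simp [S]),
      show c 1 = ⟨v, hv⟩ from by simp [c, A.one_mem], mul_eq_one_iff_inv_eq] at hP
    exact hP.symm
  have hA : V ⊓ Subgroup.centralizer (A : Set G) = ⊥ := le_bot_iff.mp (le_trans
    (inf_le_inf_left V (Subgroup.centralizer_le (hprop B0 hB0).le)) (hall B0 hB0).le)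
  have h1 := key A le_rfl hA
  have hS : S A = 𝒜.biUnion S := by
    ext a
    simp only [S, Finset.mem_filter, Finset.mem_biUnion, Finset.mem_univ, true_and]
    constructor
    · rintro ⟨ha, ha1⟩
      obtain ⟨B, ⟨hB, haB⟩, -⟩ := hpart a ha ha1
      exact ⟨B, hB, haB, ha1⟩
    · rintro ⟨B, hB, haB, ha1⟩
      exact ⟨(hprop B hB).le haB, ha1⟩
  have hdisj : (𝒜 : Set (Subgroup G)).PairwiseDisjoint S := by
    intro B hB D hD hne
    show Disjoint (S B) (S D)
    rw [Finset.disjoint_left]
    intro a ha ha'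
    simp only [S, Finset.mem_filter, Finset.mem_univ, true_and] at ha ha'
    obtain ⟨E, -, hu⟩ := hpart a ((hprop B hB).le ha.1) ha.2
    exact hne ((hu B ⟨hB, ha.1⟩).trans (hu D ⟨hD, ha'.1⟩).symm)
  rw [hS, Finset.prod_biUnion hdisj, Finset.prod_congr rfl (fun B hB => key B (hprop B hB).le (hall B hB)),
    Finset.prod_const, inv_pow, inv_inj] at h1
  obtain ⟨k, hk'⟩ : ∃ k, 𝒜.card = k + 1 := Nat.exists_eq_succ_of_ne_zero (Finset.card_pos.mpr ⟨B0, hB0⟩).ne'
  rw [hk', pow_succ, mul_eq_right] at h1
  rw [hk', Nat.add_sub_cancel] at hk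
  have h2 : orderOf (⟨v, hv⟩ : V) ∣ Nat.gcd k (Nat.card V) :=
    Nat.dvd_gcd (orderOf_dvd_of_pow_eq_one h1) (orderOf_dvd_natCard _)
  rw [hk.gcd_eq_one, Nat.dvd_one, orderOf_eq_one_iff] at h2
  exact hv1 (congrArg Subtype.val h2)

end Cfsg.Agent.S3733
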