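import Cfsg.Statements.S3734
import Cfsg.Agent.Lib.Coprime.Generation

set_option autoImplicit false
set_option linter.style.haveILetI false
open Cfsg

namespace Cfsg.Agent.S3734

open scoped commutatorElement Pointwise
open CfsgLib.Coprime

variable {X : Type*} [Group X]

theorem le_iSup_cocyclic [Finite X] (A : Subgroup X) (hA : IsMulCommutative A) :
    ∀ K : Subgroup X, A ≤ Subgroup.normalizer (K : Set X) → (Nat.card A).Coprime (Nat.card K) →
      ∀ Y : Subgroup X, (∀ B ≤ A, (∃ a ∈ A, B ⊔ Subgroup.zpowers a = A) →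
        K ⊓ Subgroup.centralizer (B : Set X) ≤ Y) → K ≤ Y := by
  haveI := hA
  intro K
  induction K using WellFoundedLT.induction with
  | ind K IH =>
  intro hAK hcop Y hY
  have hcA : ∀ u ∈ A, ∀ v ∈ A, u * v = v * u := fun u hu v hv =>
    congrArg Subtype.val (mul_comm' (⟨u, hu⟩ : A) ⟨v, hv⟩)
  set C := A ⊓ Subgroup.centralizer (K : Set X) with hC
  by_cases hcoc : ∃ a ∈ A, C ⊔ Subgroup.zpowers a = A
  · have h1 : K ≤ Subgroup.centralizer (C : Set X) :=
      fun k hk c hc => ((Subgroup.mem_inf.mp hc).2 k hk).symm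
    exact le_trans (le_inf le_rfl h1) (hY C inf_le_left hcoc)
  set N := Subgroup.normalizer (C : Set X) with hN
  have hCN : C ≤ N := Subgroup.le_normalizer
  have hAN : A ≤ N := fun a ha => Subgroup.centralizer_le_normalizer _
    fun c hc => hcA c (Subgroup.mem_inf.mp hc).1 a ha
  have hKN : K ≤ N := fun k hk => Subgroup.centralizer_le_normalizer _
    fun c hc => ((Subgroup.mem_inf.mp hc).2 k hk).symm
  let π := QuotientGroup.mk' (C.subgroupOf N)
  let A' := (A.subgroupOf N).map π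
  let K' := (K.subgroupOf N).map π
  haveI hA' : IsMulCommutative A' := by
    refine ⟨⟨?_⟩⟩
    rintro ⟨_, a, ha, rfl⟩ ⟨_, b, hb, rfl⟩
    refine Subtype.ext ?_
    show π a * π b = π b * π a
    rw [← map_mul, ← map_mul]
    congr 1
    exact Subtype.ext (hcA _ ha _ hb)
  have hnc : ¬ IsCyclic A' := by
    intro hc
    obtain ⟨⟨_, a, ha, rfl⟩, hg⟩ := hc.exists_generator
    refine hcoc ⟨a, ha, le_antisymm (sup_le inf_le_left (Subgroup.zpowers_le.mpr ha)) fun x hx => ?_⟩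
    obtain ⟨n, hn⟩ := hg ⟨π ⟨x, hAN hx⟩, ⟨⟨x, hAN hx⟩, hx, rfl⟩⟩
    have h1 : π a ^ n = π ⟨x, hAN hx⟩ := congrArg Subtype.val hn
    rw [← map_zpow] at h1
    have h2 := (QuotientGroup.eq.mp h1 : (a ^ n)⁻¹ * ⟨x, hAN hx⟩ ∈ C.subgroupOf N)
    have h3 : ((a : X) ^ n)⁻¹ * x ∈ C := by simpa [Subgroup.mem_subgroupOf] using h2
    have h4 := mul_mem (Subgroup.mem_sup_right (S := C)
      (Subgroup.zpow_mem_zpowers (a : X) n)) (Subgroup.mem_sup_left (T := Subgroup.zpowers (a : X)) h3)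
    rwa [mul_inv_cancel_left] at h4
  have hAK' : A' ≤ Subgroup.normalizer (K' : Set (N ⧸ C.subgroupOf N)) := by
    refine le_trans (Subgroup.map_mono ?_) (Subgroup.le_normalizer_map π)
    intro a ha
    refine Subgroup.mem_normalizer_iff.mpr fun k => ?_
    exact Subgroup.mem_normalizer_iff.mp (hAK ha) (k : X)
  have hcop' : (Nat.card A').Coprime (Nat.card K') := by
    have e1 : Nat.card (A.subgroupOf N) = Nat.card A :=
      Nat.card_congr (Subgroup.subgroupOfEquivOfLe hAN).toEquiv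
    have e2 : Nat.card (K.subgroupOf N) = Nat.card K :=
      Nat.card_congr (Subgroup.subgroupOfEquivOfLe hKN).toEquiv
    exact (hcop.coprime_dvd_left (e1 ▸ Subgroup.card_map_dvd _ π)).coprime_dvd_right
      (e2 ▸ Subgroup.card_map_dvd _ π)
  have hinj : ∀ x ∈ K, x ∈ C → x = 1 := by
    intro x hx hxC
    have : x ∈ A ⊓ K := ⟨(Subgroup.mem_inf.mp hxC).1, hx⟩
    rwa [inf_eq_bot_of_coprime_card hcop, Subgroup.mem_bot] at this
  have key : K' ≤ ((Y ⊓ K).subgroupOf N).map π := by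
    refine le_of_centralizer_le hnc hAK' hcop' ?_
    rintro _ ⟨a, ha, rfl⟩ hg1 _ hz
    obtain ⟨hzK, hzC⟩ := Subgroup.mem_inf.mp hz
    obtain ⟨k, hk, rfl⟩ := hzK
    have haC : (a : X) ∉ C := fun h => hg1 ((QuotientGroup.eq_one_iff a).mpr h)
    have hka : π (k * a) = π (a * k) := by
      rw [map_mul, map_mul]
      exact Subgroup.mem_centralizer_singleton_iff.mp hzC
    have h2 : ((k : X) * a)⁻¹ * (a * k) ∈ C :=
      (QuotientGroup.eq.mp hka : (k * a)⁻¹ * (a * k) ∈ C.subgroupOf N)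
    have h3 : ((k : X) * a)⁻¹ * (a * k) ∈ K := by
      have := (Subgroup.mem_normalizer_iff.mp (hAK (inv_mem (ha : (a : X) ∈ A))) _).mp
        (inv_mem (hk : (k : X) ∈ K))
      rw [show ((k : X) * a)⁻¹ * (a * k) = ((a : X)⁻¹ * (k : X)⁻¹ * (a⁻¹ : X)⁻¹) * k by group]
      exact mul_mem this hk
    have h4 := hinj _ h3 h2
    rw [inv_mul_eq_one] at h4
    set L := K ⊓ Subgroup.centralizer ({(a : X)} : Set X) with hL
    have hLK : L < K := by
      refine lt_of_le_of_ne inf_le_left fun h => haC ⟨ha, fun x hx => ?_⟩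
      rw [← h] at hx
      exact Subgroup.mem_centralizer_singleton_iff.mp (Subgroup.mem_inf.mp hx).2
    have hAL : A ≤ Subgroup.normalizer (L : Set X) := by
      refine le_normalizer_inf_of_le hAK fun b hb => Subgroup.le_normalizer ?_
      exact Subgroup.mem_centralizer_singleton_iff.mpr (hcA b hb a ha)
    have hLY : L ≤ Y := IH L hLK hAL (hcop.coprime_dvd_right (Subgroup.card_dvd_of_le hLK.le)) Y
      fun B hB hBa => (inf_le_inf_right _ hLK.le).trans (hY B hB hBa)
    exact ⟨k, ⟨hLY ⟨hk, Subgroup.mem_centralizer_singleton_iff.mpr h4⟩, hk⟩, rfl⟩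
  intro k hk
  obtain ⟨y, hy, hyk⟩ := key ⟨⟨k, hKN hk⟩, hk, rfl⟩
  have h2 : (y : X)⁻¹ * k ∈ C := (QuotientGroup.eq.mp hyk : y⁻¹ * ⟨k, hKN hk⟩ ∈ C.subgroupOf N)
  obtain ⟨hyY, hyK⟩ := Subgroup.mem_inf.mp (hy : (y : X) ∈ Y ⊓ K)
  have h3 := hinj _ (mul_mem (inv_mem hyK) hk) h2
  rw [inv_mul_eq_one] at h3
  exact h3 ▸ hyY

/-- Let A and G be subgroups of a finite group with A abelian, A normalizing G and the orders of A and G coprime. Then G is generated by the fixed-point subgroups C_G(B) of those subgroups B of A for which A/B is cyclic (that is, A = ⟨B, a⟩ for some a), and [G, A] is generated by the commutator subgroups [C_G(B), A] over the same subgroups B. -/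
theorem result {X : Type*} [Group X] [Finite X] (A G : Subgroup X) (hAab : IsMulCommutative A) (hAG : A ≤ Subgroup.normalizer (G : Set X)) (hcop : (Nat.card A).Coprime (Nat.card G)) : (⨆ B ∈ {B : Subgroup X | B ≤ A ∧ ∃ a ∈ A, B ⊔ Subgroup.zpowers a = A}, G ⊓ Subgroup.centralizer (B : Set X)) = G ∧ (⨆ B ∈ {B : Subgroup X | B ≤ A ∧ ∃ a ∈ A, B ⊔ Subgroup.zpowers a = A}, ⁅G ⊓ Subgroup.centralizer (B : Set X), A⁆) = ⁅G, A⁆ := by
  haveI := hAab
  set S := {B : Subgroup X | B ≤ A ∧ ∃ a ∈ A, B ⊔ Subgroup.zpowers a = A} with hS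
  have hcA : ∀ u ∈ A, ∀ v ∈ A, u * v = v * u := fun u hu v hv =>
    congrArg Subtype.val (mul_comm' (⟨u, hu⟩ : A) ⟨v, hv⟩)
  have hle : ∀ B ∈ S, G ⊓ Subgroup.centralizer (B : Set X)
      ≤ ⨆ B ∈ S, G ⊓ Subgroup.centralizer (B : Set X) :=
    fun B hB => le_iSup₂ (f := fun B (_ : B ∈ S) => G ⊓ Subgroup.centralizer (B : Set X)) B hB
  have h1 : (⨆ B ∈ S, G ⊓ Subgroup.centralizer (B : Set X)) = G :=
    le_antisymm (iSup₂_le fun _ _ => inf_le_left)
      (le_iSup_cocyclic A hAab G hAG hcop _ fun B hB hBa => hle B ⟨hB, hBa⟩)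
  refine ⟨h1, ?_⟩
  set W := ⨆ B ∈ S, ⁅G ⊓ Subgroup.centralizer (B : Set X), A⁆ with hW
  have hWle : ∀ B ∈ S, ⁅G ⊓ Subgroup.centralizer (B : Set X), A⁆ ≤ W :=
    fun B hB => le_iSup₂ (f := fun B (_ : B ∈ S) => ⁅G ⊓ Subgroup.centralizer (B : Set X), A⁆) B hB
  have hWGA : W ≤ ⁅G, A⁆ := iSup₂_le fun B _ => Subgroup.commutator_mono inf_le_left le_rfl
  refine le_antisymm hWGA ?_
  set T := G ⊓ Subgroup.centralizer (A : Set X) with hT
  have hfac : ∀ B ∈ S, A ≤ Subgroup.normalizer ((G ⊓ Subgroup.centralizer (B : Set X) : Subgroup X) : Set X) := by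
    intro B hB
    refine le_normalizer_inf_of_le hAG fun a ha => Subgroup.le_normalizer ?_
    exact fun b hb => hcA b (hB.1 hb) a ha
  -- W is normalised by A and by T
  have hconj : ∀ g : X, (g ∈ A ∨ g ∈ T) → MulAut.conj g • W ≤ W := by
    intro g hg
    rw [Subgroup.pointwise_smul_subset_iff]
    refine iSup₂_le fun B hB => ?_
    rw [← Subgroup.pointwise_smul_subset_iff, conj_smul_commutator]
    refine le_trans (Subgroup.commutator_mono ?_ ?_) (hWle B hB)
    · refine le_of_eq ?_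
      rcases hg with hg | hg
      · exact conj_smul_eq_self_of_mem_normalizer (hfac B hB hg)
      · have hgC : g ∈ Subgroup.centralizer (B : Set X) := fun b hb => (Subgroup.mem_inf.mp hg).2 b (hB.1 hb)
        exact conj_smul_eq_of_mem (Subgroup.mem_inf.mpr ⟨(Subgroup.mem_inf.mp hg).1, hgC⟩)
    · refine le_of_eq ?_
      rcases hg with hg | hg
      · exact conj_smul_eq_of_mem hg
      · exact conj_smul_eq_self_of_mem_normalizer
          (Subgroup.centralizer_le_normalizer _ (Subgroup.mem_inf.mp hg).2)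
  have hnorm : ∀ g : X, (g ∈ A ∨ g ∈ T) → g ∈ Subgroup.normalizer (W : Set X) := by
    intro g hg
    refine Subgroup.mem_normalizer_iff.mpr fun x => ⟨fun hx => ?_, fun hx => ?_⟩
    · exact hconj g hg (Subgroup.smul_mem_pointwise_smul x (MulAut.conj g) W hx)
    · have := hconj g⁻¹ (hg.imp inv_mem inv_mem)
        (Subgroup.smul_mem_pointwise_smul _ (MulAut.conj g⁻¹) W hx)
      simpa [mul_assoc] using this
  have hTW : T ≤ Subgroup.normalizer (W : Set X) := fun g hg => hnorm g (Or.inr hg)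
  have hAW : A ≤ Subgroup.normalizer (W : Set X) := fun g hg => hnorm g (Or.inl hg)
  have hG : G ≤ W ⊔ T := by
    rw [← h1]
    refine iSup₂_le fun B hB => ?_
    rw [← commutator_sup_centralizer (hfac B hB)
      (hcop.coprime_dvd_right (Subgroup.card_dvd_of_le inf_le_left))
      (Or.inl (isSolvable_of_isMulCommutative A))]
    exact sup_le_sup (hWle B hB) (inf_le_inf_right _ inf_le_left)
  refine Subgroup.commutator_le.mpr fun g hg a ha => ?_
  have hg' := hG hg
  rw [← SetLike.mem_coe, Subgroup.coe_mul_of_right_le_normalizer_left W T hTW, Set.mem_mul] at hg'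
  obtain ⟨w, hw, c, hc, rfl⟩ := hg'
  have hca : a * c = c * a := (Subgroup.mem_inf.mp hc).2 a ha
  have e : w * c * a * (w * c)⁻¹ * a⁻¹ = w * (a * w⁻¹ * a⁻¹) := by
    calc w * c * a * (w * c)⁻¹ * a⁻¹ = w * (c * a) * c⁻¹ * w⁻¹ * a⁻¹ := by group
      _ = w * (a * c) * c⁻¹ * w⁻¹ * a⁻¹ := by rw [hca]
      _ = _ := by group
  rw [commutatorElement_def, e]
  exact mul_mem hw ((Subgroup.mem_normalizer_iff.mp (hAW ha) _).mp (inv_mem hw))
end Cfsg.Agent.S3734
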