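import Cfsg.Statements.S3735
import Cfsg.Agent.Lib.Coprime.Action

set_option autoImplicit false
set_option linter.style.haveILetI false
open Cfsg

namespace Cfsg.Agent.S3735

open Pointwise

theorem core {G : Type*} [Group G] [Finite G] (H A V : Subgroup G) (hVab : IsMulCommutative V)
    (hHV : H ≤ Subgroup.normalizer (V : Set G)) (hAH : A ≤ H) (hAn : H ≤ Subgroup.normalizer (A : Set G))
    (hss : ∀ U : Subgroup G, U ≤ V → H ≤ Subgroup.normalizer (U : Set G) →
      ∃ W : Subgroup G, W ≤ V ∧ H ≤ Subgroup.normalizer (W : Set G) ∧ U ⊓ W = ⊥ ∧ U ⊔ W = V)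
    (U : Subgroup G) (hUV : U ≤ V) (hAU : A ≤ Subgroup.normalizer (U : Set G)) :
    ∃ W : Subgroup G, W ≤ V ∧ A ≤ Subgroup.normalizer (W : Set G) ∧ U ⊓ W = ⊥ ∧ U ⊔ W = V := by
  classical
  let inv : Subgroup G → Prop := fun M => M ≤ V ∧ A ≤ Subgroup.normalizer (M : Set G)
  let Mn : Subgroup G → Prop := fun M => inv M ∧ M ≠ ⊥ ∧ ∀ M', M' ≤ M → inv M' → M' ≠ ⊥ → M' = M
  have hex : ∀ X, inv X → X ≠ ⊥ → ∃ M, M ≤ X ∧ Mn M := by
    intro X hX hX0
    obtain ⟨M, ⟨⟨hM, hMX, hM0⟩, hmin⟩⟩ := exists_minimal_of_wellFoundedLT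
      (fun M => inv M ∧ M ≤ X ∧ M ≠ ⊥) ⟨X, hX, le_rfl, hX0⟩
    exact ⟨M, hMX, hM, hM0, fun M' hle hi h0 => le_antisymm hle (hmin ⟨hi, hle.trans hMX, h0⟩ hle)⟩
  have hconj : ∀ h ∈ H, ∀ M, inv M → inv (MulAut.conj h • M) := by
    intro h hh M hM
    refine ⟨?_, ?_⟩
    · have := hHV hh
      rw [← CfsgLib.Coprime.conj_smul_eq_self_of_mem_normalizer this]
      exact Subgroup.pointwise_smul_le_pointwise_smul_iff.mpr hM.1
    · intro a ha
      rw [CfsgLib.Coprime.mem_normalizer_iff_conj_smul, smul_smul, ← map_mul,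
        show a * h = h * (h⁻¹ * a * h) by group, map_mul, ← smul_smul]
      congr 1
      exact CfsgLib.Coprime.conj_smul_eq_self_of_mem_normalizer
        (hM.2 ((Subgroup.mem_normalizer_iff''.mp (hAn hh) a).mp ha))
  have hMn : ∀ h ∈ H, ∀ M, Mn M → Mn (MulAut.conj h • M) := by
    rintro h hh M ⟨hM, hM0, hmin⟩
    refine ⟨hconj h hh M hM, fun e => hM0 ?_, fun M' hle hi h0 => ?_⟩
    · have := congrArg (fun X : Subgroup G => MulAut.conj h⁻¹ • X) e
      simpa [smul_smul] using this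
    · have e := hmin (MulAut.conj h⁻¹ • M') (by
        have := Subgroup.pointwise_smul_le_pointwise_smul_iff (a := MulAut.conj h⁻¹) |>.mpr hle
        simpa [smul_smul] using this) (hconj _ (H.inv_mem hh) _ hi) (fun e => h0 (by
        have := congrArg (fun X : Subgroup G => MulAut.conj h • X) e
        simpa [smul_smul] using this))
      rw [← e, smul_smul, ← map_mul, mul_inv_cancel, map_one, one_smul]
  let S : Subgroup G := sSup {M | Mn M}
  have hSV : S ≤ V := sSup_le fun M hM => hM.1.1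
  have hHS : H ≤ Subgroup.normalizer (S : Set G) := by
    intro h hh
    rw [CfsgLib.Coprime.mem_normalizer_iff_conj_smul]
    have hle : ∀ k ∈ H, MulAut.conj k • S ≤ S := by
      intro k hk
      rw [Subgroup.pointwise_smul_subset_iff]
      refine sSup_le fun M hM => ?_
      rw [← Subgroup.pointwise_smul_subset_iff]
      exact le_sSup (hMn k hk M hM)
    refine le_antisymm (hle h hh) ?_
    have := Subgroup.pointwise_smul_le_pointwise_smul_iff (a := MulAut.conj h) |>.mpr (hle h⁻¹ (H.inv_mem hh))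
    simpa [smul_smul] using this
  obtain ⟨W0, hW0V, hW0H, hW0i, hW0s⟩ := hss S hSV hHS
  have hW0 : W0 = ⊥ := by
    by_contra h0
    obtain ⟨M, hMW, hM⟩ := hex W0 ⟨hW0V, hAH.trans hW0H⟩ h0
    exact hM.2.1 (le_bot_iff.mp (hW0i ▸ le_inf (le_sSup hM) hMW))
  rw [hW0, sup_bot_eq] at hW0s
  obtain ⟨W, ⟨⟨hW, hUW⟩, hmax⟩⟩ := exists_maximal_of_wellFoundedGT
    (fun W => inv W ∧ U ⊓ W = ⊥) ⟨⊥, ⟨bot_le, by rw [Subgroup.normalizer_eq_top]; exact le_top⟩, inf_bot_eq U⟩
  refine ⟨W, hW.1, hW.2, hUW, le_antisymm (sup_le hUV hW.1) ?_⟩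
  rw [← hW0s]
  refine sSup_le fun M hM => ?_
  have hUWi : inv (U ⊔ W) :=
    ⟨sup_le hUV hW.1, CfsgLib.Coprime.le_normalizer_sup_of_le hAU hW.2⟩
  by_cases h : (U ⊔ W) ⊓ M = ⊥
  · exfalso
    have hWM : inv (W ⊔ M) := ⟨sup_le hW.1 hM.1.1, CfsgLib.Coprime.le_normalizer_sup_of_le hW.2 hM.1.2⟩
    have hd : U ⊓ (W ⊔ M) = ⊥ := by
      rw [eq_bot_iff]
      intro x hx
      obtain ⟨hxU, hx2⟩ := Subgroup.mem_inf.mp hx
      have hn : M ≤ Subgroup.normalizer (W : Set G) := fun m hm => by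
        rw [Subgroup.mem_normalizer_iff]
        intro w
        constructor <;> intro hw
        · have : m * w = w * m := setLike_mul_comm (s := V) (hM.1.1 hm) (hW.1 hw)
          rwa [this, mul_inv_cancel_right]
        · have : m * (m * w * m⁻¹) = (m * w * m⁻¹) * m := setLike_mul_comm (s := V) (hM.1.1 hm) (hW.1 hw)
          rw [inv_mul_cancel_right] at this
          rwa [← mul_left_cancel this]
      rw [← SetLike.mem_coe, Subgroup.coe_mul_of_right_le_normalizer_left W M hn] at hx2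
      obtain ⟨w, hw, m, hm, rfl⟩ := hx2
      have hm2 : m ∈ U ⊔ W := by
        have := (U ⊔ W).mul_mem ((U ⊔ W).inv_mem ((le_sup_right : W ≤ U ⊔ W) hw)) ((le_sup_left : U ≤ U ⊔ W) hxU)
        simpa using this
      have hm1 : m = 1 := by
        have := Subgroup.mem_inf.mpr ⟨hm2, hm⟩
        rwa [h, Subgroup.mem_bot] at this
      subst hm1
      simp only [mul_one] at hxU ⊢
      exact hUW ▸ Subgroup.mem_inf.mpr ⟨hxU, hw⟩
    have hle : W ⊔ M ≤ W := hmax ⟨hWM, hd⟩ le_sup_left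
    exact hM.2.1 (le_bot_iff.mp (h ▸ le_inf ((le_sup_right.trans hle).trans le_sup_right) le_rfl))
  · have e := hM.2.2 ((U ⊔ W) ⊓ M) inf_le_right
      ⟨inf_le_right.trans hM.1.1, CfsgLib.Coprime.le_normalizer_inf_of_le hUWi.2 hM.1.2⟩ h
    rw [← e]
    exact inf_le_left

/-- Clifford's Theorem for actions on finite abelian groups, first part. Let H and V be subgroups of a finite group with V abelian and H normalizing V, and let A be a normal subgroup of H. If every H-invariant subgroup of V has an H-invariant complement in V, then every A-invariant subgroup of V has an A-invariant complement in V. -/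
theorem result {G : Type*} [Group G] [Finite G] (H A V : Subgroup G) (hVab : IsMulCommutative V) (hHV : H ≤ Subgroup.normalizer (V : Set G)) (hAH : A ≤ H) (hAn : H ≤ Subgroup.normalizer (A : Set G)) (hss : ∀ U : Subgroup G, U ≤ V → H ≤ Subgroup.normalizer (U : Set G) → ∃ W : Subgroup G, W ≤ V ∧ H ≤ Subgroup.normalizer (W : Set G) ∧ U ⊓ W = ⊥ ∧ U ⊔ W = V) (U : Subgroup G) (hUV : U ≤ V) (hAU : A ≤ Subgroup.normalizer (U : Set G)) : ∃ W : Subgroup G, W ≤ V ∧ A ≤ Subgroup.normalizer (W : Set G) ∧ U ⊓ W = ⊥ ∧ U ⊔ W = V := by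
  exact core H A V hVab hHV hAH hAn hss U hUV hAU

end Cfsg.Agent.S3735
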