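import Cfsg.Statements.S3736
import Cfsg.Agent.Lib.Coprime.Generation
import Cfsg.Agent.Lib.PSolvable.Core
import Cfsg.Agent.Lib.PSolvable.Omega
import Cfsg.Agent.Lib.OddOmega.Basic

set_option autoImplicit false
set_option linter.style.haveILetI false
open Cfsg

namespace Cfsg.Agent.S3736

open scoped commutatorElement
open CfsgLib.Coprime

/-- The Hall–Higman reduction for a minimal non-trivial action. Let B, A and P be subgroups of a finite group with P a p-group, B normalizing P, and A a normal subgroup of B of order prime to p. Suppose A does not centralize P but centralizes every proper B-invariant subgroup of P. Then [P, A] = P; P is elementary abelian or special; B acts irreducibly on P/Φ(P), that is, the only B-invariant subgroups of P containing Φ(P) are Φ(P) and P; and if p is odd then every element of P has order dividing p. -/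
theorem result {X : Type*} [Group X] [Finite X] {p : ℕ} [Fact p.Prime] (B A P : Subgroup X) (hP : IsPGroup p P) (hBP : B ≤ Subgroup.normalizer (P : Set X)) (hAB : A ≤ B) (hAn : B ≤ Subgroup.normalizer (A : Set X)) (hAp : (Nat.card A).Coprime p) (hnt : ⁅P, A⁆ ≠ ⊥) (hmin : ∀ U : Subgroup X, U < P → B ≤ Subgroup.normalizer (U : Set X) → ⁅U, A⁆ = ⊥) : ⁅P, A⁆ = P ∧ (Cfsg.IsElementaryAbelian p P ∨ Cfsg.IsSpecial p ↥P) ∧ (∀ U : Subgroup X, (frattini ↥P).map P.subtype ≤ U → U ≤ P → B ≤ Subgroup.normalizer (U : Set X) → U = (frattini ↥P).map P.subtype ∨ U = P) ∧ (p ≠ 2 → ∀ x ∈ P, x ^ p = 1) := by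
  have hp : p.Prime := Fact.out
  have hAP : A ≤ Subgroup.normalizer (P : Set X) := hAB.trans hBP
  have hcop : (Nat.card A).Coprime (Nat.card P) := by
    obtain ⟨k, hk⟩ := IsPGroup.iff_card.mp hP
    rw [hk]; exact hAp.pow_right k
  haveI hPnil : Group.IsNilpotent P := hP.isNilpotent
  have hcent : ∀ U : Subgroup X, U < P → B ≤ Subgroup.normalizer (U : Set X) →
      U ≤ Subgroup.centralizer (A : Set X) := fun U h1 h2 =>
    Subgroup.commutator_eq_bot_iff_le_centralizer.mp (hmin U h1 h2)
  have hP1 : P ≠ ⊥ := fun e => hnt (by rw [e, Subgroup.commutator_bot_left])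
  -- (1)
  have hPA : ⁅P, A⁆ = P := by
    by_contra h
    have hlt : ⁅P, A⁆ < P := lt_of_le_of_ne (commutator_le_left_of_le_normalizer hAP) h
    exact hnt (commutator_eq_bot_of_commutator_commutator hAP hcop
      (hmin _ hlt (le_normalizer_commutator hBP hAn)))
  -- class two
  set D := ⁅P, P⁆ with hD
  have hDlt : D < P := commutator_lt_of_isNilpotent (X := P) le_rfl le_rfl Subgroup.le_normalizer hP1
  have hDA : D ≤ Subgroup.centralizer (A : Set X) := hcent D hDlt (le_normalizer_commutator hBP hBP)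
  have hcenP : ∀ U : Subgroup X, U ≤ P → U ≤ Subgroup.centralizer (A : Set X) →
      ⁅U, P⁆ ≤ Subgroup.centralizer (A : Set X) → U ≤ Subgroup.centralizer (P : Set X) := by
    intro U hU hUA hUP
    have h1 : ⁅⁅A, U⁆, P⁆ = ⊥ := by
      rw [Subgroup.commutator_comm A U, Subgroup.commutator_eq_bot_iff_le_centralizer.mpr hUA,
        Subgroup.commutator_bot_left]
    have h2 : ⁅⁅U, P⁆, A⁆ = ⊥ := Subgroup.commutator_eq_bot_iff_le_centralizer.mpr hUP
    have h3 := Subgroup.commutator_commutator_eq_bot_of_rotate h1 h2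
    rw [hPA, Subgroup.commutator_comm] at h3
    exact Subgroup.commutator_eq_bot_iff_le_centralizer.mp h3
  have hDP : D ≤ Subgroup.centralizer (P : Set X) :=
    hcenP D hDlt.le hDA ((Subgroup.commutator_mono hDlt.le le_rfl).trans hDA)
  -- the fixed points lie in `D`
  set C := P ⊓ Subgroup.centralizer (A : Set X) with hC
  have hCD : C ≤ D := by
    set N := Subgroup.normalizer (D : Set X) with hN
    have hPN : P ≤ N := le_normalizer_commutator Subgroup.le_normalizer Subgroup.le_normalizer
    have hAN : A ≤ N := le_normalizer_commutator hAP hAP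
    let π := QuotientGroup.mk' (D.subgroupOf N)
    set P' := (P.subgroupOf N).map π
    set A' := (A.subgroupOf N).map π
    have hsub : ∀ U : Subgroup X, U ≤ N → Nat.card (U.subgroupOf N) = Nat.card U := fun U hU =>
      Nat.card_congr (Subgroup.subgroupOfEquivOfLe hU).toEquiv
    haveI : IsMulCommutative P' := by
      refine ⟨⟨?_⟩⟩
      rintro ⟨_, a, ha, rfl⟩ ⟨_, b, hb, rfl⟩
      refine Subtype.ext ?_
      show π a * π b = π b * π a
      refine commutatorElement_eq_one_iff_commute.mp ?_
      rw [← map_commutatorElement]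
      exact (QuotientGroup.eq_one_iff _).mpr
        (Subgroup.commutator_mem_commutator (ha : (a : X) ∈ P) (hb : (b : X) ∈ P))
    have hAP' : A' ≤ Subgroup.normalizer (P' : Set (N ⧸ D.subgroupOf N)) := by
      refine le_trans (Subgroup.map_mono fun a ha => ?_) (Subgroup.le_normalizer_map π)
      exact Subgroup.mem_normalizer_iff.mpr fun k => Subgroup.mem_normalizer_iff.mp (hAP ha) (k : X)
    have hcop' : (Nat.card A').Coprime (Nat.card P') :=
      (hcop.coprime_dvd_left (hsub A hAN ▸ Subgroup.card_map_dvd _ π)).coprime_dvd_right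
        (hsub P hPN ▸ Subgroup.card_map_dvd _ π)
    have hPA' : P' ≤ ⁅P', A'⁆ := by
      rintro _ ⟨x, hx, rfl⟩
      rw [← Subgroup.map_commutator]
      refine Subgroup.mem_map_of_mem _ ?_
      have hx' : (x : X) ∈ ((⁅P.subgroupOf N, A.subgroupOf N⁆).map N.subtype) := by
        rw [Subgroup.map_commutator, Subgroup.map_subgroupOf_eq_of_le hPN, Subgroup.map_subgroupOf_eq_of_le hAN, hPA]
        exact hx
      obtain ⟨y, hy, hyx⟩ := hx'
      exact (Subtype.ext hyx : y = x) ▸ hy
    have hbot := centralizer_inf_commutator_eq_bot hAP' hcop'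
    intro c hc
    obtain ⟨hcP, hcA⟩ := Subgroup.mem_inf.mp hc
    have h1 : π ⟨c, hPN hcP⟩ ∈ P' := ⟨_, hcP, rfl⟩
    have h2 : π ⟨c, hPN hcP⟩ ∈ Subgroup.centralizer (A' : Set (N ⧸ D.subgroupOf N)) := by
      rintro _ ⟨a, ha, rfl⟩
      rw [← map_mul, ← map_mul]
      congr 1
      exact Subtype.ext (hcA _ ha)
    have h3 : π ⟨c, hPN hcP⟩ ∈ (⊥ : Subgroup (N ⧸ D.subgroupOf N)) := hbot ▸
      Subgroup.mem_inf.mpr ⟨Subgroup.mem_inf.mpr ⟨h1, h2⟩, hPA' h1⟩
    exact (QuotientGroup.eq_one_iff (N := D.subgroupOf N) _).mp (Subgroup.mem_bot.mp h3)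
  -- the Frattini subgroup
  set F := (frattini ↥P).map P.subtype with hF
  have hFlt : F < P := by
    refine lt_of_le_of_ne (Subgroup.map_subtype_le _) fun e => ?_
    haveI : Nontrivial P := (Subgroup.nontrivial_iff_ne_bot P).mpr hP1
    have h1 : frattini ↥P = ⊤ := by
      refine Subgroup.map_injective P.subtype_injective ?_
      rw [← hF, e, ← MonoidHom.range_eq_map, Subgroup.range_subtype]
    obtain ⟨M, hM, -⟩ := (eq_top_or_exists_le_coatom (⊥ : Subgroup P)).resolve_left bot_ne_top
    exact hM.1 (top_le_iff.mp (h1 ▸ frattini_le_coatom hM))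
  have hFB : B ≤ Subgroup.normalizer (F : Set X) :=
    CfsgLib.PSolvable.le_normalizer_map_of_characteristic hBP (frattini ↥P)
  have hFC : F ≤ C := le_inf hFlt.le (hcent F hFlt hFB)
  have hDF : D ≤ F := by
    rw [hD, hF, ← Subgroup.map_subtype_commutator]
    exact Subgroup.map_mono (CfsgLib.PSolvable.commutator_le_frattini hP).1
  have hCF : C ≤ F := hCD.trans hDF
  have hCeq : C = D := le_antisymm hCD (hDF.trans hFC)
  have hFeq : F = D := le_antisymm (hFC.trans hCD) hDF
  refine ⟨hPA, ?_, ?_, ?_⟩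
  · by_cases hZ : P ≤ Subgroup.centralizer (P : Set X)
    · left
      have hDbot : D = ⊥ := Subgroup.commutator_eq_bot_iff_le_centralizer.mpr hZ
      refine ⟨⟨⟨fun a b => Subtype.ext (hZ b.2 a a.2)⟩⟩, fun a ha => ?_⟩
      have h4 : a ^ p ∈ F := ⟨⟨a, ha⟩ ^ p, (CfsgLib.PSolvable.commutator_le_frattini hP).2 _, rfl⟩
      rw [hFeq, hDbot, Subgroup.mem_bot] at h4
      exact h4
    · right
      have hcm : (Subgroup.center P).map P.subtype = D := by
        refine le_antisymm ?_ fun d hd => ⟨⟨d, hDlt.le hd⟩, Subgroup.mem_center_iff.mpr fun g => Subtype.ext (hDP hd g g.2), rfl⟩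
        have hlt : (Subgroup.center P).map P.subtype < P := by
          refine lt_of_le_of_ne (Subgroup.map_subtype_le _) fun e => hZ fun a ha b hb => ?_
          rw [← e] at ha
          obtain ⟨z, hz, rfl⟩ := ha
          exact congrArg Subtype.val (Subgroup.mem_center_iff.mp hz ⟨b, hb⟩)
        rw [← hCeq]
        exact le_inf (Subgroup.map_subtype_le _) (hcent _ hlt
          (CfsgLib.PSolvable.le_normalizer_map_of_characteristic hBP (Subgroup.center P)))
      refine ⟨hP, Subgroup.map_injective P.subtype_injective ?_, Subgroup.map_injective P.subtype_injective ?_⟩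
      · rw [hcm]; exact hFeq
      · rw [hcm, Subgroup.map_subtype_commutator]
  · intro U hFU hUP hBU
    rcases eq_or_lt_of_le hUP with h | h
    · exact Or.inr h
    · exact Or.inl (le_antisymm ((le_inf hUP (hcent U h hBU)).trans hCF) hFU)
  · intro hp2 x hx
    by_contra hxp
    have hpowF : ∀ z : P, ∀ w : P, z ^ p * w = w * z ^ p := fun z w => by
      have h5 : ((z ^ p : P) : X) ∈ D := hFeq ▸ ⟨z ^ p, (CfsgLib.PSolvable.commutator_le_frattini hP).2 z, rfl⟩
      exact Subtype.ext (hDP h5 w w.2).symm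
    have hcen : ∀ u v : P, ⁅u, v⁆ ∈ Subgroup.center P := fun u v => Subgroup.mem_center_iff.mpr fun w =>
      Subtype.ext (hDP (Subgroup.commutator_mem_commutator u.2 v.2) w w.2)
    let R : Subgroup X :=
      { carrier := {a | a ∈ P ∧ a ^ p = 1}
        one_mem' := ⟨one_mem P, one_pow p⟩
        inv_mem' := fun {a} h => ⟨inv_mem h.1, by rw [inv_pow, h.2, inv_one]⟩
        mul_mem' := by
          rintro a b ⟨ha, ha'⟩ ⟨hb, hb'⟩
          refine ⟨mul_mem ha hb, ?_⟩
          set c : P := ⁅(⟨b, hb⟩ : P), ⟨a, ha⟩⁆ with hc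
          have h6 := CfsgLib.OddOmega.mul_pow_of_central (⟨a, ha⟩ : P) ⟨b, hb⟩ c (hcen _ _)
            (by rw [hc, commutatorElement_def]; group) p
          have hcp : c ^ p = 1 := by
            have h7 : ⁅(⟨b, hb⟩ : P), (⟨a, ha⟩ : P) ^ p⁆ = c ^ p :=
              CfsgLib.PSolvable.commutator_pow_right' (fun u v w => (Subgroup.mem_center_iff.mp (hcen u v) w).symm) _ _ p
            rw [← h7, commutatorElement_eq_one_iff_commute]
            exact (hpowF _ _).symm
          have hchoose : p ∣ p.choose 2 := hp.dvd_choose_self (by norm_num) (by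
            have := hp.two_le; omega)
          obtain ⟨t, ht⟩ := hchoose
          rw [ht, pow_mul, hcp, one_pow, one_mul] at h6
          have h8 := congrArg Subtype.val h6
          simpa [ha', hb'] using h8 }
    have hRP : R < P := lt_of_le_of_ne (fun a ha => ha.1) fun e => hxp (show x ∈ R by rw [e]; exact hx).2
    have hRB : B ≤ Subgroup.normalizer (R : Set X) := by
      intro b hb
      refine Subgroup.mem_normalizer_iff.mpr fun a => ?_
      show (a ∈ P ∧ a ^ p = 1) ↔ (b * a * b⁻¹ ∈ P ∧ (b * a * b⁻¹) ^ p = 1)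
      rw [← Subgroup.mem_normalizer_iff.mp (hBP hb) a, conj_pow]
      refine and_congr_right fun _ => ⟨fun h => by rw [h]; group, fun h => ?_⟩
      calc a ^ p = b⁻¹ * (b * a ^ p * b⁻¹) * b := by group
        _ = 1 := by rw [h]; group
    have hRA := hcent R hRP hRB
    apply hnt
    rw [Subgroup.commutator_eq_bot_iff_le_centralizer]
    intro k hk a ha
    set φ : MulAut P := P.normalizerMonoidHom ⟨a, hAP ha⟩
    have hφ : φ = 1 := by
      refine CfsgLib.OddOmega.eq_one_of_fixes_omega hp2 hP φ (fun hd => ?_) fun z hz => ?_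
      · have h9 : orderOf φ ∣ Nat.card A := by
          refine (orderOf_map_dvd _ _).trans ?_
          rw [← Subgroup.orderOf_coe]
          exact Subgroup.orderOf_dvd_natCard A ha
        exact hp.ne_one (Nat.eq_one_of_dvd_coprimes hAp (hd.trans h9) dvd_rfl)
      · refine Subtype.ext ?_
        show a * (z : X) * a⁻¹ = z
        rw [hRA ⟨z.2, congrArg Subtype.val hz⟩ a ha, mul_inv_cancel_right]
    have h10 : a * k * a⁻¹ = k := congrArg Subtype.val (DFunLike.congr_fun hφ (⟨k, hk⟩ : P) :)
    exact mul_inv_eq_iff_eq_mul.mp h10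
end Cfsg.Agent.S3736
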