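import Cfsg.Statements.S3737
import Cfsg.Agent.Lib.Coprime.BaerTrick
import Cfsg.Agent.Lib.Coprime.Action

set_option autoImplicit false
open Cfsg

namespace Cfsg.Agent.S3737

open scoped commutatorElement
open CfsgLib.Coprime

/-- Thompson's strengthening of the P × Q lemma for odd primes. Let p be an odd prime and let P, Q and G be subgroups of a finite group with P a p-group, Q of order prime to p and normalized by P, and G a p-group normalized by both P and Q. If every element of G centralized by P is centralized by Q, then Q centralizes G. -/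
theorem result {X : Type*} [Group X] [Finite X] {p : ℕ} [Fact p.Prime] (hp : p ≠ 2) (P Q G : Subgroup X) (hP : IsPGroup p P) (hQ : (Nat.card Q).Coprime p) (hPQ : P ≤ Subgroup.normalizer (Q : Set X)) (hG : IsPGroup p G) (hPG : P ≤ Subgroup.normalizer (G : Set X)) (hQG : Q ≤ Subgroup.normalizer (G : Set X)) (hC : G ⊓ Subgroup.centralizer (P : Set X) ≤ Subgroup.centralizer (Q : Set X)) : Q ≤ Subgroup.centralizer (G : Set X) := by
  induction G using WellFoundedLT.induction with
  | ind G IH =>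
  by_contra hne
  have hG1 : G ≠ ⊥ := by
    rintro rfl
    exact hne fun q _ g hg => by
      rw [SetLike.mem_coe, Subgroup.mem_bot] at hg
      simp [hg]
  haveI : Group.IsNilpotent G := hG.isNilpotent
  have hsub : ∀ H : Subgroup X, H < G → P ≤ Subgroup.normalizer (H : Set X) →
      Q ≤ Subgroup.normalizer (H : Set X) → Q ≤ Subgroup.centralizer (H : Set X) :=
    fun H hH hPH hQH => IH H hH (hG.to_le hH.le) hPH hQH ((inf_le_inf_right _ hH.le).trans hC)
  have hcop : (Nat.card Q).Coprime (Nat.card G) := by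
    obtain ⟨n, hn⟩ := IsPGroup.iff_card.mp hG
    rw [hn]; exact hQ.pow_right n
  have hGQ : ⁅G, Q⁆ = G := by
    by_contra h
    have hlt : ⁅G, Q⁆ < G := lt_of_le_of_ne (commutator_le_left_of_le_normalizer hQG) h
    have h1 := hsub _ hlt (le_normalizer_commutator hPG hPQ)
      (le_normalizer_commutator hQG Subgroup.le_normalizer)
    have h2 : ⁅G, Q⁆ ≤ Subgroup.centralizer (Q : Set X) := fun w hw q hq => (h1 hq w hw).symm
    have h3 := commutator_eq_bot_of_commutator_commutator hQG hcop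
      (Subgroup.commutator_eq_bot_iff_le_centralizer.mpr h2)
    rw [Subgroup.commutator_comm] at h3
    exact hne (Subgroup.commutator_eq_bot_iff_le_centralizer.mp h3)
  have hD : ⁅G, G⁆ < G :=
    commutator_lt_of_isNilpotent (X := G) le_rfl le_rfl Subgroup.le_normalizer hG1
  have hDQ : Q ≤ Subgroup.centralizer ((⁅G, G⁆ : Subgroup X) : Set X) :=
    hsub _ hD (le_normalizer_commutator hPG hPG) (le_normalizer_commutator hQG hQG)
  have h1 : ⁅⁅Q, ⁅G, G⁆⁆, G⁆ = ⊥ := by
    rw [Subgroup.commutator_eq_bot_iff_le_centralizer.mpr hDQ, Subgroup.commutator_bot_left]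
  have h2 : ⁅⁅⁅G, G⁆, G⁆, Q⁆ = ⊥ := by
    rw [Subgroup.commutator_eq_bot_iff_le_centralizer]
    exact (Subgroup.commutator_mono hD.le le_rfl).trans fun w hw q hq => (hDQ hq w hw).symm
  have h3 := Subgroup.commutator_commutator_eq_bot_of_rotate h1 h2
  rw [hGQ] at h3
  have hcl : ∀ a b c : G, c * ⁅a, b⁆ = ⁅a, b⁆ * c := by
    intro a b c
    have h4 : ((c : X)) ∈ Subgroup.centralizer ((⁅G, G⁆ : Subgroup X) : Set X) :=
      Subgroup.commutator_eq_bot_iff_le_centralizer.mp h3 c.2
    exact Subtype.ext (h4 _ (Subgroup.commutator_mem_commutator a.2 b.2)).symm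
  set N := Subgroup.normalizer (G : Set X) with hN
  obtain ⟨q, hq, g, hg, hqg⟩ : ∃ q ∈ Q, ∃ g ∈ G, g * q ≠ q * g := by
    by_contra h
    push Not at h
    exact hne fun q hq g hg => h q hq g hg
  have hnorm : P.subgroupOf N ≤ Subgroup.normalizer ((Q.subgroupOf N : Subgroup N) : Set N) :=
    fun u hu => Subgroup.mem_normalizer_iff.mpr fun k =>
      Subgroup.mem_normalizer_iff.mp (hPQ hu) (k : X)
  obtain ⟨x, hxP, q', hq', hxq⟩ := CfsgLib.BaerTrick.exists_fixed_moved hcl hp hG
    G.normalizerMonoidHom (P := P.subgroupOf N) (Q := Q.subgroupOf N)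
    (hP.of_equiv (Subgroup.subgroupOfEquivOfLe hPG).symm)
    (by rw [Nat.card_congr (Subgroup.subgroupOfEquivOfLe hQG).toEquiv]; exact hQ)
    hnorm
    ⟨⟨q, hQG hq⟩, hq, ⟨g, hg⟩, fun h => hqg (mul_inv_eq_iff_eq_mul.mp (congrArg Subtype.val h :)).symm⟩
  apply hxq
  have hxc : (x : X) ∈ G ⊓ Subgroup.centralizer (P : Set X) := ⟨x.2, fun u hu => by
    have h : u * (x : X) * u⁻¹ = x := congrArg Subtype.val (hxP ⟨u, hPG hu⟩ hu)
    exact mul_inv_eq_iff_eq_mul.mp h⟩
  exact Subtype.ext (mul_inv_eq_iff_eq_mul.mpr (hC hxc (q' : X) hq') :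
    (q' : X) * (x : X) * (q' : X)⁻¹ = x)
end Cfsg.Agent.S3737
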