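import Cfsg.Statements.S3738
import Cfsg.Agent.Lib.Critical.Basic

set_option autoImplicit false
open Cfsg

namespace Cfsg.Agent.S3738

open scoped commutatorElement
open CfsgLib

/-- Characters of the Klein four-group separate the identity. -/
theorem exists_characters {E : Type*} [CommGroup E] [Fintype E] [DecidableEq E] (hE : Fintype.card E = 4) (hsq : ∀ e : E, e ^ 2 = 1) :
    ∃ χ : Fin 3 → E →* ℤ, ∀ e : E, 1 + ∑ l, χ l e = if e = 1 then 4 else 0 := by
  have : IsKleinFour E := by
    refine ⟨by rw [Nat.card_eq_fintype_card, hE], ?_⟩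
    refine (Nat.prime_two.eq_one_or_self_of_dvd _ (Monoid.exponent_dvd_of_forall_pow_eq_one hsq)).resolve_left ?_
    intro h1
    have := Monoid.exp_eq_one_iff.mp h1
    exact absurd (Fintype.card_le_one_iff_subsingleton.mpr this) (by omega)
  let K := Multiplicative (ZMod 2 × ZMod 2)
  have : IsKleinFour K := by
    refine ⟨by simp [K], ?_⟩
    refine (Nat.prime_two.eq_one_or_self_of_dvd _ (Monoid.exponent_dvd_of_forall_pow_eq_one ?_)).resolve_left ?_
    · decide
    · intro h1
      exact absurd (Fintype.card_le_one_iff_subsingleton.mpr (Monoid.exp_eq_one_iff.mp h1)) (by simp [K])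
  obtain ⟨φ⟩ := IsKleinFour.nonempty_mulEquiv (G₁ := E) (G₂ := K)
  let c : Fin 3 → ZMod 2 × ZMod 2 → ZMod 2 := ![fun z => z.1, fun z => z.2, fun z => z.1 + z.2]
  let ψ : Fin 3 → K → ℤ := fun l z => if c l z.toAdd = 0 then 1 else -1
  have h1 : ∀ l, ψ l 1 = 1 := by decide
  have hm : ∀ l x y, ψ l (x * y) = ψ l x * ψ l y := by decide
  refine ⟨fun l => MonoidHom.comp { toFun := ψ l, map_one' := h1 l, map_mul' := hm l } φ.toMonoidHom, fun e => ?_⟩
  have key : ∀ z : K, 1 + ∑ l, ψ l z = if z = 1 then 4 else 0 := by decide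
  simpa using key (φ e)

/-- A quadratic map from an elementary group of order at least `64` to a four-group has a nontrivial zero. -/
theorem exists_zero {V E : Type*} [Group V] [Fintype V] [DecidableEq V] [CommGroup E] [Fintype E] [DecidableEq E]
    (q : V → E) (hE : Fintype.card E = 4) (hsq : ∀ e : E, e ^ 2 = 1) (hq1 : q 1 = 1)
    (β : V → V → E) (hq : ∀ u v, q (u * v) = q u * q v * β u v) (hβ : ∀ u u' v, β (u * u') v = β u v * β u' v)
    (h64 : 64 ∣ Fintype.card V) : ∃ v, v ≠ 1 ∧ q v = 1 := by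
  classical
  by_contra hcon
  push Not at hcon
  obtain ⟨χ, hχ⟩ := exists_characters hE hsq
  have hχsq : ∀ l e, χ l e * χ l e = 1 := fun l e => by rw [← map_mul, ← sq, hsq, map_one]
  have hdiv : ∀ l, (64 : ℤ) ∣ (∑ v : V, χ l (q v)) ^ 2 := by
    intro l
    have hS : (∑ v : V, χ l (q v)) ^ 2 = ∑ d : V, χ l (q d) * ∑ u : V, χ l (β u d) := by
      rw [sq, Finset.sum_mul_sum, Finset.sum_congr rfl fun d _ => Finset.mul_sum _ _ _,
        Finset.sum_comm (f := fun d u => χ l (q d) * χ l (β u d))]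
      refine Finset.sum_congr rfl fun u _ => ?_
      symm
      refine Fintype.sum_equiv (Equiv.mulLeft u) _ _ fun d => ?_
      show χ l (q d) * χ l (β u d) = χ l (q u) * χ l (q (u * d))
      rw [hq, map_mul, map_mul]
      linear_combination -(χ l (q d) * χ l (β u d)) * hχsq l (q u)
    rw [hS]
    refine Finset.dvd_sum fun d _ => Dvd.dvd.mul_left ?_ _
    by_cases h : ∀ u, χ l (β u d) = 1
    · rw [Finset.sum_congr rfl fun u _ => h u, Finset.sum_const, Finset.card_univ, nsmul_one]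
      exact_mod_cast h64
    · push Not at h
      obtain ⟨w, hw⟩ := h
      have h2 : ∑ u : V, χ l (β u d) = χ l (β w d) * ∑ u : V, χ l (β u d) := by
        rw [Finset.mul_sum]
        refine (Fintype.sum_equiv (Equiv.mulLeft w) _ _ fun u => ?_).symm
        rw [Equiv.coe_mulLeft, hβ, map_mul]
      have : ∑ u : V, χ l (β u d) = 0 := by
        have h3 : (χ l (β w d) - 1) * ∑ u : V, χ l (β u d) = 0 := by linear_combination -h2
        exact (mul_eq_zero.mp h3).resolve_left (sub_ne_zero.mpr hw)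
      rw [this]; exact dvd_zero _
  have h8 : ∀ l, (8 : ℤ) ∣ ∑ v : V, χ l (q v) := fun l => by
    have h := hdiv l
    rw [show (64 : ℤ) = 8 ^ 2 by norm_num] at h
    exact (Int.pow_dvd_pow_iff two_ne_zero).mp h
  have hcount : ∑ v : V, (1 + ∑ l, χ l (q v)) = 4 := by
    simp only [hχ]
    rw [Finset.sum_eq_single (1 : V)]
    · rw [if_pos hq1]
    · intro v _ hv; rw [if_neg (hcon v hv)]
    · simp
  rw [Finset.sum_add_distrib, Finset.sum_const, Finset.card_univ, nsmul_one, Finset.sum_comm] at hcount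
  have h1 : (8 : ℤ) ∣ (Fintype.card V : ℤ) := by
    have : 8 ∣ Fintype.card V := (by norm_num : 8 ∣ 64).trans h64
    exact_mod_cast this
  have h2 := dvd_add h1 (Finset.dvd_sum fun l _ => h8 l : (8 : ℤ) ∣ ∑ l : Fin 3, ∑ v : V, χ l (q v))
  rw [hcount] at h2
  norm_num at h2

set_option maxHeartbeats 800000 in
/-- The main argument inside a critical subgroup. -/
theorem core {C : Type*} [Group C] [Finite C] (hC : IsPGroup 2 C) (T : MulAut C) (n : ℕ) (hn : 2 ≤ n)
    (hT : T ^ 3 ^ n = 1) (hJ : T ^ 3 ^ (n - 1) ≠ 1) (hfpf : ∀ x : C, T x = x → x = 1)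
    (hpow : ∀ x : C, x ^ 2 ∈ Subgroup.center C) (hcomm : ∀ x y : C, ⁅x, y⁆ ∈ Subgroup.center C)
    (hrank : ∀ A : Subgroup C, IsMulCommutative A → (∀ a ∈ A, a ^ 2 = 1) → Nat.card A ≤ 4) : False := by
  classical
  haveI := Fintype.ofFinite C
  haveI : Fact (Nat.Prime 2) := ⟨Nat.prime_two⟩
  have hcent : ∀ {z : C}, z ∈ Subgroup.center C → ∀ g, z * g = g * z := fun hz g =>
    (Subgroup.mem_center_iff.mp hz g).symm
  let E : Subgroup C :=
    { carrier := {z | z ∈ Subgroup.center C ∧ z ^ 2 = 1}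
      one_mem' := ⟨one_mem _, one_pow _⟩
      mul_mem' := fun {a b} ha hb => ⟨mul_mem ha.1 hb.1, by
        rw [(show Commute a b from hcent ha.1 b).mul_pow, ha.2, hb.2, one_mul]⟩
      inv_mem' := fun {a} ha => ⟨inv_mem ha.1, by rw [inv_pow, ha.2, inv_one]⟩ }
  have hEn : E.Normal := ⟨fun z hz g => by rw [← hcent hz.1 g, mul_inv_cancel_right]; exact hz⟩
  have hTE : ∀ (f : MulAut C) z, z ∈ E → f z ∈ E := fun f z hz =>
    ⟨Subgroup.mem_center_iff.mpr fun g => by
      rw [← f.apply_symm_apply g, ← map_mul, ← map_mul, hcent hz.1], by rw [← map_pow, hz.2, map_one]⟩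
  -- `E` is a four-group
  have hEc : Nat.card E ≤ 4 := by
    refine hrank E ⟨⟨fun a b => Subtype.ext (hcent a.2.1 b.1)⟩⟩ fun a ha => ha.2
  have hnt : Nontrivial C := by
    by_contra h
    rw [not_nontrivial_iff_subsingleton] at h
    exact hJ (MulEquiv.ext fun x => Subsingleton.elim _ _)
  obtain ⟨z, hz2, hzc⟩ : ∃ z : C, orderOf z = 2 ∧ z ∈ Subgroup.center C := by
    have := hC.center_nontrivial
    obtain ⟨z, hz⟩ := exists_prime_orderOf_dvd_card' (G := Subgroup.center C) 2 (by
      obtain ⟨k, hk⟩ := IsPGroup.iff_card.mp (hC.to_subgroup (Subgroup.center C))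
      have := Finite.one_lt_card (α := Subgroup.center C)
      rcases k with _ | k
      · rw [pow_zero] at hk; omega
      · rw [hk, pow_succ]; exact dvd_mul_left _ _)
    exact ⟨z.1, by rw [Subgroup.orderOf_coe, hz], z.2⟩
  have hzE : z ∈ E := ⟨hzc, by rw [← hz2, pow_orderOf_eq_one]⟩
  have hE4 : Nat.card E = 4 := by
    obtain ⟨k, hk⟩ := IsPGroup.iff_card.mp (hC.to_subgroup E)
    rw [hk] at hEc ⊢
    rcases k with _ | _ | _ | k
    · exfalso
      have : Subsingleton E := Finite.card_le_one_iff_subsingleton.mp (le_of_eq (hk.trans (pow_zero 2)))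
      have h1 : (⟨z, hzE⟩ : E) = 1 := Subsingleton.elim _ _
      have h2 : z = 1 := congrArg Subtype.val h1
      rw [h2, orderOf_one] at hz2
      omega
    · exfalso
      have h2 : ({1, z, T z} : Finset C).card ≤ 2 := by
        refine le_trans ?_ (le_of_eq hk)
        rw [Nat.card_eq_fintype_card, Fintype.card_subtype]
        refine Finset.card_le_card fun w hw => ?_
        simp only [Finset.mem_insert, Finset.mem_singleton] at hw
        rcases hw with h | h | h <;> simp [h, one_mem, hzE, hTE T z hzE]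
      have hz1 : z ≠ 1 := fun h => by rw [h, orderOf_one] at hz2; omega
      have hTz : T z ≠ 1 := fun h => hz1 (by rw [← MulEquiv.map_eq_one_iff T]; exact h)
      have hTz' : T z ≠ z := fun h => hz1 (hfpf z h)
      rw [Finset.card_insert_of_notMem (by simp [hz1.symm, hTz.symm]), Finset.card_pair hTz'.symm] at h2
      omega
    · rfl
    · simp only [Nat.pow_succ] at hEc
      have := Nat.one_le_two_pow (n := k)
      omega
  -- `T ^ 3` is trivial on `E`
  have hT3 : ∀ e ∈ E, (T ^ 3) e = e := by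
    let S := {e : E // e ≠ 1}
    let τ : Equiv.Perm S :=
      { toFun := fun e => ⟨⟨T e.1, hTE T _ e.1.2⟩, fun h => e.2 (Subtype.ext ((MulEquiv.map_eq_one_iff T).mp (congrArg Subtype.val h)))⟩
        invFun := fun e => ⟨⟨T⁻¹ e.1, hTE _ _ e.1.2⟩, fun h => e.2 (Subtype.ext ((MulEquiv.map_eq_one_iff T⁻¹).mp (congrArg Subtype.val h)))⟩
        left_inv := fun e => Subtype.ext (Subtype.ext (T.symm_apply_apply _))
        right_inv := fun e => Subtype.ext (Subtype.ext (T.apply_symm_apply _)) }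
    have hτ : ∀ (i : ℕ) (e : S), (((τ ^ i) e).1 : C) = (T ^ i) e.1 := by
      intro i
      induction i with
      | zero => intro e; rfl
      | succ i ih =>
        intro e
        rw [pow_succ', pow_succ', Equiv.Perm.mul_apply, MulAut.mul_apply, ← ih e]
        rfl
    have h1 : orderOf τ ∣ 3 ^ n := orderOf_dvd_of_pow_eq_one (Equiv.ext fun e => Subtype.ext (Subtype.ext (by
      rw [hτ, hT]; rfl)))
    have h2 : orderOf τ ∣ 6 := by
      refine orderOf_dvd_natCard τ |>.trans (dvd_of_eq ?_)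
      rw [Nat.card_perm, Nat.card_eq_fintype_card, Fintype.card_subtype_compl, Fintype.card_subtype_eq,
        ← Nat.card_eq_fintype_card, hE4]
      rfl
    have h3 : τ ^ 3 = 1 := by
      obtain ⟨j, -, hj⟩ := (Nat.dvd_prime_pow Nat.prime_three).mp h1
      refine orderOf_dvd_iff_pow_eq_one.mp ?_
      rw [hj] at h2 ⊢
      rcases j with _ | _ | j
      · simp
      · simp
      · have h4 : 3 ^ 2 ∣ 6 := (pow_dvd_pow 3 (by omega)).trans h2
        norm_num at h4
    intro e he
    by_cases h : e = 1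
    · rw [h, map_one]
    have := hτ 3 ⟨⟨e, he⟩, fun hh => h (congrArg Subtype.val hh)⟩
    rw [h3] at this
    exact this.symm
  set J := T ^ 3 ^ (n - 1) with hJdef
  have hJ3 : J ^ 3 = 1 := by
    rw [hJdef, ← pow_mul, ← pow_succ, Nat.sub_add_cancel (by omega), hT]
  have hJ3' : ∀ x : C, J (J (J x)) = x := fun x => by
    have := congrArg (fun f : MulAut C => f x) hJ3
    simpa [pow_succ, MulAut.mul_apply] using this
  have hJE : ∀ e ∈ E, J e = e := by
    intro e he
    have key : ∀ i : ℕ, ((T ^ 3) ^ i) e = e := fun i => by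
      induction i with
      | zero => rfl
      | succ i ih => rw [pow_succ, MulAut.mul_apply, hT3 e he, ih]
    rw [hJdef, show 3 ^ (n - 1) = 3 * 3 ^ (n - 2) by rw [← pow_succ']; congr 1; omega, pow_mul]
    exact key _
  have hodd : ∀ y : C, y ^ 3 = 1 → y = 1 := fun y hy => by
    obtain ⟨k, hk⟩ := hC y
    refine orderOf_eq_one_iff.mp (Nat.eq_one_of_dvd_coprimes ?_ (orderOf_dvd_of_pow_eq_one hy) (orderOf_dvd_of_pow_eq_one hk))
    exact Nat.Coprime.pow_right _ (by norm_num)
  have move3 : ∀ x y : C, J x = x * y → J y = y → y = 1 := fun x y hx hy => hodd y (by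
    have h3 := hJ3' x
    rw [hx, map_mul, hx, hy, map_mul, map_mul, hx, hy, mul_assoc, mul_assoc, mul_eq_left] at h3
    rw [pow_succ, pow_succ, pow_one, mul_assoc]; exact h3)
  have hJZ : ∀ z ∈ Subgroup.center C, J z = z := by
    intro z hz
    obtain ⟨k, hk⟩ := hC z
    induction k generalizing z with
    | zero => rw [pow_zero, pow_one] at hk; rw [hk, map_one]
    | succ k ih =>
      have hsqz := ih (z ^ 2) (pow_mem hz 2) (by rw [← pow_mul, ← pow_succ']; exact hk)
      rw [map_pow] at hsqz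
      set y := z⁻¹ * J z with hy
      have hJzc : J z ∈ Subgroup.center C := Subgroup.mem_center_iff.mpr fun g => by
        rw [← J.apply_symm_apply g, ← map_mul, ← map_mul, hcent hz]
      have hyE : y ∈ E := ⟨mul_mem (inv_mem hz) hJzc, by
        rw [hy, (show Commute z⁻¹ (J z) from hcent (inv_mem hz) _).mul_pow, inv_pow, hsqz, inv_mul_cancel]⟩
      have := move3 z y (by rw [hy, mul_inv_cancel_left]) (hJE y hyE)
      exact (inv_mul_eq_one.mp this).symm
  -- squares and commutators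
  have hsq : ∀ x y : C, (x * y) ^ 2 = x ^ 2 * y ^ 2 * ⁅y, x⁆ := by
    intro x y
    have hc := hcent (hcomm y x)
    have h1 : y * x = ⁅y, x⁆ * (x * y) := by rw [commutatorElement_def]; group
    calc (x * y) ^ 2 = x * (y * x) * y := by simp only [sq, mul_assoc]
      _ = x * (⁅y, x⁆ * (x * y)) * y := by rw [h1]
      _ = x * ((x * y) * ⁅y, x⁆) * y := by rw [hc (x * y)]
      _ = x * (x * y) * (⁅y, x⁆ * y) := by simp only [mul_assoc]
      _ = x * (x * y) * (y * ⁅y, x⁆) := by rw [hc y]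
      _ = x ^ 2 * y ^ 2 * ⁅y, x⁆ := by simp only [sq, mul_assoc]
  have hcE : ∀ x y : C, ⁅x, y⁆ ∈ E := by
    intro x y
    refine ⟨hcomm x y, ?_⟩
    have h1 : ⁅x ^ 2, y⁆ = 1 := commutatorElement_eq_one_iff_mul_comm.mpr (hcent (hpow x) y)
    have h2 : ⁅x ^ 2, y⁆ = x * ⁅x, y⁆ * x⁻¹ * ⁅x, y⁆ := by simp [commutatorElement_def, sq, mul_assoc]
    rw [h1, ← hcent (hcomm x y) x, mul_inv_cancel_right] at h2
    rw [sq, ← h2]
  let U : Subgroup C :=
    { carrier := {x | x ^ 2 ∈ E}
      one_mem' := by show (1 : C) ^ 2 ∈ E; rw [one_pow]; exact one_mem _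
      mul_mem' := fun {a b} ha hb => by show (a * b) ^ 2 ∈ E; rw [hsq]; exact mul_mem (mul_mem ha hb) (hcE _ _)
      inv_mem' := fun {a} ha => by show a⁻¹ ^ 2 ∈ E; rw [inv_pow]; exact inv_mem ha }
  have hTU : ∀ (f : MulAut C) u, u ∈ U → f u ∈ U := fun f u hu => by
    show (f u) ^ 2 ∈ E; rw [← map_pow]; exact hTE f _ hu
  -- the quotient
  let π := QuotientGroup.mk' E
  have hπ : ∀ x, π x = 1 ↔ x ∈ E := fun x => QuotientGroup.eq_one_iff x
  have hπcomm : ∀ a b, π a * π b = π b * π a := fun a b => by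
    rw [← commutatorElement_eq_one_iff_mul_comm, ← map_commutatorElement]; exact (hπ _).mpr (hcE a b)
  have hmap : E.map (T : C →* C) = E := by
    ext x
    constructor
    · rintro ⟨e, he, rfl⟩; exact hTE T e he
    · intro hx; exact ⟨T⁻¹ x, hTE _ x hx, T.apply_symm_apply x⟩
  let Tb : MulAut (C ⧸ E) := QuotientGroup.congr E E T hmap
  have hTb : ∀ x, Tb (π x) = π (T x) := fun x => rfl
  have hTbi : ∀ (i : ℕ) x, (Tb ^ i) (π x) = π ((T ^ i) x) := by
    intro i
    induction i with
    | zero => intro x; rfl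
    | succ i ih => intro x; rw [pow_succ', pow_succ', MulAut.mul_apply, ih, hTb, MulAut.mul_apply]
  -- the subgroup moved by `J`
  let W : Subgroup (C ⧸ E) :=
    { carrier := {w | ∃ u ∈ U, π (u⁻¹ * J u) = w}
      one_mem' := ⟨1, one_mem _, by simp⟩
      mul_mem' := by
        rintro _ _ ⟨u, hu, rfl⟩ ⟨v, hv, rfl⟩
        refine ⟨u * v, mul_mem hu hv, ?_⟩
        calc π ((u * v)⁻¹ * J (u * v)) = π v⁻¹ * π (u⁻¹ * J u) * π (J v) := by
              rw [map_mul J, ← map_mul π, ← map_mul π]; congr 1; group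
          _ = π (u⁻¹ * J u) * π v⁻¹ * π (J v) := by rw [hπcomm]
          _ = _ := by rw [mul_assoc, ← map_mul π]
      inv_mem' := by
        rintro _ ⟨u, hu, rfl⟩
        refine ⟨u⁻¹, inv_mem hu, ?_⟩
        rw [inv_inv, map_inv J, map_mul, hπcomm, ← map_mul, ← map_inv π, mul_inv_rev, inv_inv] }
  have hW2 : ∀ w ∈ W, ∀ u, π u = w → u ^ 2 ∈ E := by
    rintro _ ⟨v, hv, rfl⟩ u hu
    have hvU : v⁻¹ * J v ∈ U := mul_mem (inv_mem hv) (hTU J v hv)
    have h2 : π (u ^ 2) = π ((v⁻¹ * J v) ^ 2) := by rw [map_pow, hu, map_pow]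
    rw [(hπ _).mpr hvU, hπ] at h2
    exact h2
  have hWT : ∀ w ∈ W, Tb w ∈ W := by
    rintro _ ⟨u, hu, rfl⟩
    refine ⟨T u, hTU T u hu, ?_⟩
    rw [hTb, map_mul T, map_inv T]
    congr 2
    have : J * T = T * J := by rw [hJdef, ← pow_succ, pow_succ']
    exact congrArg (fun f : MulAut C => f u) this
  have hWfree : ∀ w ∈ W, (Tb ^ 3 ^ (n - 1)) w = w → w = 1 := by
    rintro _ ⟨u, hu, rfl⟩ hfix
    rw [hTbi] at hfix
    have hy2 : (u⁻¹ * J u)⁻¹ * J (u⁻¹ * J u) ∈ E := by
      rw [← hπ, map_mul, map_inv, hfix, inv_mul_cancel]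
    set y := u⁻¹ * J u with hy
    set e := y⁻¹ * J y with he
    have hJy : J y = y := by
      have := move3 y e (by rw [he, mul_inv_cancel_left]) (hJE e hy2)
      exact (inv_mul_eq_one.mp this).symm
    have := move3 u y (by rw [hy, mul_inv_cancel_left]) hJy
    rw [this, map_one]
  -- `W` is nontrivial
  have hWne : ∃ w ∈ W, w ≠ 1 := by
    obtain ⟨x, hx⟩ : ∃ x, J x ≠ x := not_forall.mp fun h => hJ (MulEquiv.ext h)
    set y := x⁻¹ * J x with hy
    have hxy : J x = x * y := by rw [hy, mul_inv_cancel_left]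
    have hyne : J y ≠ y := fun h => hx (by rw [hxy, move3 x y hxy h, mul_one])
    have hyU : y ∈ U := by
      show y ^ 2 ∈ E
      have h1 : (x * y) ^ 2 = x ^ 2 := by rw [← hxy, ← map_pow]; exact hJZ _ (hpow x)
      rw [hsq, mul_assoc, mul_eq_left, mul_eq_one_iff_eq_inv] at h1
      rw [h1]; exact inv_mem (hcE _ _)
    refine ⟨π (y⁻¹ * J y), ⟨y, hyU, rfl⟩, fun h => hyne ?_⟩
    rw [hπ] at h
    have := move3 y _ (by rw [mul_inv_cancel_left]) (hJE _ h)
    exact (inv_mul_eq_one.mp this).symm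
  -- its order
  let σ : Equiv.Perm {w : W // w ≠ 1} :=
    Equiv.ofBijective (fun w => ⟨⟨Tb w.1, hWT _ w.1.2⟩, fun h => w.2 (Subtype.ext ((MulEquiv.map_eq_one_iff Tb).mp (congrArg Subtype.val h)))⟩)
      (Finite.injective_iff_bijective.mp fun a b h => Subtype.ext (Subtype.ext (Tb.injective (congrArg (fun z => (z.1 : C ⧸ E)) h))))
  have hσ : ∀ (i : ℕ) w, (((σ ^ i) w).1 : C ⧸ E) = (Tb ^ i) w.1 := by
    intro i
    induction i with
    | zero => intro w; rfl
    | succ i ih => intro w; rw [pow_succ', pow_succ', Equiv.Perm.mul_apply, MulAut.mul_apply, ← ih w]; rfl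
  have hσord : σ ^ 3 ^ n = 1 := Equiv.ext fun w => Subtype.ext (Subtype.ext (by
    rw [hσ]
    obtain ⟨u, hu⟩ := QuotientGroup.mk'_surjective E (w.1 : C ⧸ E)
    rw [← hu, hTbi, hT]; exact hu))
  have hfree : ∀ w : {w : W // w ≠ 1}, MulAction.stabilizer (Subgroup.zpowers σ) w = ⊥ := by
    intro w
    by_contra hne
    set St := MulAction.stabilizer (Subgroup.zpowers σ) w
    have h3 : IsPGroup 3 (Subgroup.zpowers σ) := fun g => ⟨n, Subtype.ext (by
      obtain ⟨i, hi⟩ := Subgroup.mem_zpowers_iff.mp g.2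
      rw [SubmonoidClass.coe_pow, ← hi, ← zpow_natCast, ← zpow_mul, mul_comm, zpow_mul, zpow_natCast, hσord,
        one_zpow]; rfl)⟩
    haveI : Fact (Nat.Prime 3) := ⟨Nat.prime_three⟩
    haveI := (Subgroup.nontrivial_iff_ne_bot St).mpr hne
    obtain ⟨g, hg⟩ := exists_prime_orderOf_dvd_card' (G := St) 3 (by
      obtain ⟨k, hk⟩ := IsPGroup.iff_card.mp (h3.to_subgroup St)
      have := Finite.one_lt_card (α := St)
      rcases k with _ | k
      · rw [pow_zero] at hk; omega
      · rw [hk, pow_succ]; exact dvd_mul_left _ _)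
    obtain ⟨i, hi⟩ := Subgroup.mem_zpowers_iff.mp g.1.2
    have hgw : (g.1 : Equiv.Perm {w : W // w ≠ 1}) w = w := g.2
    have hg3 : (g.1 : Equiv.Perm {w : W // w ≠ 1}) ^ 3 = 1 := by
      have := pow_orderOf_eq_one g
      rw [hg] at this
      exact congrArg (fun z : St => (z.1 : Equiv.Perm {w : W // w ≠ 1})) this
    have hJw : (σ ^ 3 ^ (n - 1)) w = w := by
      rw [← hi, ← zpow_natCast, ← zpow_mul] at hg3
      have hdvd : (orderOf σ : ℤ) ∣ i * 3 := orderOf_dvd_iff_zpow_eq_one.mpr (by simpa using hg3)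
      obtain ⟨j, hjn, hj⟩ := (Nat.dvd_prime_pow Nat.prime_three).mp (orderOf_dvd_of_pow_eq_one hσord)
      rcases eq_or_lt_of_le hjn with rfl | hlt
      · obtain ⟨c, hc⟩ := hdvd
        rw [hj] at hc
        push_cast at hc
        have hi' : i = (3 : ℤ) ^ (j - 1) * c := by
          have : (3 : ℤ) ^ j = 3 ^ (j - 1) * 3 := by rw [← pow_succ]; congr 1; omega
          rw [this] at hc; linarith
        have hc3 : ¬ (3 : ℤ) ∣ c := by
          rintro ⟨c', rfl⟩
          have h1 : (g.1 : Equiv.Perm {w : W // w ≠ 1}) = 1 := by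
            rw [← hi, ← orderOf_dvd_iff_zpow_eq_one, hj, hi']
            push_cast
            exact ⟨c', by rw [show (3 : ℤ) ^ j = 3 ^ (j - 1) * 3 by rw [← pow_succ]; congr 1; omega]; ring⟩
          have : g = 1 := Subtype.ext (Subtype.ext h1)
          rw [this, orderOf_one] at hg
          omega
        obtain ⟨a, b, hab⟩ : ∃ a b : ℤ, a * c + b * 3 = 1 :=
          (Int.prime_three.coprime_iff_not_dvd.mpr hc3).symm
        have e : ((3 ^ (j - 1) : ℕ) : ℤ) = i * a + (orderOf σ : ℤ) * b := by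
          rw [hj, hi']
          push_cast
          rw [show (3 : ℤ) ^ j = 3 ^ (j - 1) * 3 by rw [← pow_succ]; congr 1; omega]
          linear_combination -(3 : ℤ) ^ (j - 1) * hab
        rw [← zpow_natCast, e, zpow_add, zpow_mul, hi, zpow_mul, zpow_natCast, pow_orderOf_eq_one, one_zpow,
          mul_one]
        exact Equiv.Perm.zpow_apply_eq_self_of_apply_eq_self hgw a
      · have : σ ^ 3 ^ (n - 1) = 1 := orderOf_dvd_iff_pow_eq_one.mp (hj ▸ pow_dvd_pow 3 (by omega))
        rw [this]; rfl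
    apply w.2
    refine Subtype.ext (hWfree _ w.1.2 ?_)
    rw [← hσ, hJw]
  have hdvd : 9 ∣ Nat.card {w : W // w ≠ 1} := by
    have h1 : Nat.card (Subgroup.zpowers σ) ∣ Nat.card {w : W // w ≠ 1} := by
      rw [Nat.card_congr (MulAction.selfEquivOrbitsQuotientProd hfree), Nat.card_prod]
      exact dvd_mul_left _ _
    refine dvd_trans ?_ h1
    rw [Nat.card_zpowers]
    obtain ⟨j, hjn, hj⟩ := (Nat.dvd_prime_pow Nat.prime_three).mp (orderOf_dvd_of_pow_eq_one hσord)
    rw [hj, show (9 : ℕ) = 3 ^ 2 by norm_num]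
    refine pow_dvd_pow 3 ?_
    by_contra hj2
    obtain ⟨w, hw, hw1⟩ := hWne
    refine hw1 (hWfree w hw ?_)
    have h2 : σ ^ 3 ^ (n - 1) = 1 := orderOf_dvd_iff_pow_eq_one.mp (hj ▸ pow_dvd_pow 3 (by omega))
    have h3 := hσ (3 ^ (n - 1)) ⟨⟨w, hw⟩, fun h => hw1 (congrArg Subtype.val h)⟩
    rw [h2] at h3
    exact h3.symm
  haveI := Fintype.ofFinite W
  haveI := Fintype.ofFinite E
  obtain ⟨k, hk⟩ := IsPGroup.iff_card.mp ((hC.to_quotient E).to_subgroup W)
  have h64 : 64 ∣ Fintype.card W := by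
    have hk1 : 1 ≤ k := by
      by_contra h0
      obtain ⟨w, hw, hw1⟩ := hWne
      have : Subsingleton W := Finite.card_le_one_iff_subsingleton.mp (by rw [hk, show k = 0 by omega, pow_zero])
      exact hw1 (congrArg Subtype.val (Subsingleton.elim (⟨w, hw⟩ : W) 1))
    rw [Nat.card_eq_fintype_card, Fintype.card_subtype_compl, Fintype.card_subtype_eq, ← Nat.card_eq_fintype_card, hk] at hdvd
    rw [← Nat.card_eq_fintype_card, hk, show (64 : ℕ) = 2 ^ 6 by norm_num]
    refine pow_dvd_pow 2 ?_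
    by_contra h6
    interval_cases k <;> omega
  let q : W → E := fun w => ⟨(Quotient.out w.1) ^ 2, hW2 _ w.2 _ (QuotientGroup.out_eq' _)⟩
  have hqeq : ∀ (w : W) (u : C), π u = w.1 → (q w : C) = u ^ 2 := by
    intro w u hu
    have he : u⁻¹ * Quotient.out w.1 ∈ E := by
      rw [← hπ, map_mul, map_inv, hu]
      exact inv_mul_eq_one.mpr (QuotientGroup.out_eq' w.1).symm
    show (Quotient.out w.1) ^ 2 = u ^ 2
    rw [show Quotient.out w.1 = u * (u⁻¹ * Quotient.out w.1) by rw [mul_inv_cancel_left],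
      (show Commute u (u⁻¹ * Quotient.out w.1) from (hcent he.1 u).symm).mul_pow, he.2, mul_one]
  have hrep : ∀ (w : W), π (Quotient.out w.1) = w.1 := fun w => QuotientGroup.out_eq' _
  have hbicong : ∀ (a a' b : C), π a = π a' → ⁅b, a⁆ = ⁅b, a'⁆ := by
    intro a a' b h
    have he : a⁻¹ * a' ∈ E := by rw [← hπ, map_mul, map_inv, h, inv_mul_cancel]
    rw [show a' = a * (a⁻¹ * a') by rw [mul_inv_cancel_left]]
    generalize a⁻¹ * a' = e at he
    simp only [commutatorElement_def, mul_inv_rev, mul_assoc]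
    congr 2
    rw [← mul_assoc e, hcent he.1, mul_assoc, mul_inv_cancel_left]
  let β : W → W → E := fun u v => ⟨⁅Quotient.out v.1, Quotient.out u.1⁆, hcE _ _⟩
  letI : CommGroup E := { (inferInstance : Group E) with mul_comm := fun a b => Subtype.ext (hcent a.2.1 b.1) }
  obtain ⟨w, hw1, hw⟩ := exists_zero q (by rw [← Nat.card_eq_fintype_card, hE4]) (fun e => Subtype.ext e.2.2)
    (Subtype.ext (by rw [hqeq 1 1 (map_one π), one_pow]; rfl)) β
    (fun u v => Subtype.ext (by
      show _ = (Quotient.out u.1) ^ 2 * (Quotient.out v.1) ^ 2 * ⁅Quotient.out v.1, Quotient.out u.1⁆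
      rw [← hsq, hqeq (u * v) (Quotient.out u.1 * Quotient.out v.1) (by rw [map_mul, hrep, hrep]; rfl)]))
    (fun u u' v => Subtype.ext (by
      show ⁅Quotient.out v.1, Quotient.out ((u * u').1)⁆ = ⁅Quotient.out v.1, Quotient.out u.1⁆ * ⁅Quotient.out v.1, Quotient.out u'.1⁆
      rw [hbicong _ (Quotient.out u.1 * Quotient.out u'.1) _ (by rw [map_mul, hrep, hrep, hrep]; rfl)]
      set a := Quotient.out u.1
      set a' := Quotient.out u'.1
      set b := Quotient.out v.1
      rw [show ⁅b, a * a'⁆ = ⁅b, a⁆ * (a * ⁅b, a'⁆ * a⁻¹) by simp [commutatorElement_def, mul_assoc],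
        ← hcent (hcomm b a') a, mul_inv_cancel_right]))
    h64
  -- a zero gives a subgroup of rank three
  set x := Quotient.out w.1 with hx
  have hxE : x ∉ E := fun h => hw1 (Subtype.ext (by rw [← hrep w, (hπ _).mpr h]; rfl))
  have hx2 : x ^ 2 = 1 := congrArg Subtype.val hw
  let A : Subgroup C := Subgroup.closure (insert x (E : Set C))
  have hAc : IsMulCommutative A := Subgroup.isMulCommutative_closure (by
    rintro a (ha | ha) b (hb | hb)
    · rw [ha, hb]
    · exact (hcent hb.1 a).symm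
    · exact hcent ha.1 b
    · exact hcent ha.1 b)
  have hA2 : ∀ a ∈ A, a ^ 2 = 1 := by
    intro a ha
    induction ha using Subgroup.closure_induction with
    | mem a h => rcases h with rfl | h; exacts [hx2, h.2]
    | one => exact one_pow _
    | mul a b ha hb iha ihb =>
      have hc : Commute a b := congrArg Subtype.val (hAc.is_comm.comm ⟨a, ha⟩ ⟨b, hb⟩)
      rw [hc.mul_pow, iha, ihb, one_mul]
    | inv a _ iha => rw [inv_pow, iha, inv_one]
  have hlt : E < A := by
    refine SetLike.lt_iff_le_and_exists.mpr ⟨fun e he => Subgroup.subset_closure (Set.mem_insert_of_mem _ he),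
      x, Subgroup.subset_closure (Set.mem_insert x _), hxE⟩
  have := Subgroup.eq_of_le_of_card_ge hlt.le (hE4 ▸ hrank A hAc hA2)
  exact hlt.ne this

/-- Let d be a non-identity 3-element of a finite group and P a 2-subgroup normalized by d on which ⟨d⟩ acts faithfully (no non-identity power of d centralizes P) and without non-identity fixed points (C_P(d) = 1). If every abelian subgroup of P has 2-rank at most 2, then d has order 3. -/
theorem result {X : Type*} [Group X] [Finite X] (d : X) (n : ℕ) (hn : 1 ≤ n) (hd : orderOf d = 3 ^ n) (P : Subgroup X) (hP : IsPGroup 2 P) (hdP : d ∈ Subgroup.normalizer (P : Set X)) (hfaith : Subgroup.zpowers d ⊓ Subgroup.centralizer (P : Set X) = ⊥) (hfpf : P ⊓ Subgroup.centralizer {d} = ⊥) (hrank : ∀ V : Subgroup X, V ≤ P → IsMulCommutative V → Cfsg.PRankLE 2 2 V) : orderOf d = 3 := by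
  classical
  haveI : Fact (Nat.Prime 2) := ⟨Nat.prime_two⟩
  by_contra h3
  have hn2 : 2 ≤ n := by
    by_contra hlt
    rw [show n = 1 by omega, pow_one] at hd
    exact h3 hd
  set T := P.normalizerMonoidHom ⟨d, hdP⟩ with hT
  have hTapp : ∀ x : P, ((T x : P) : X) = d * x * d⁻¹ := fun x => rfl
  have hinj : ∀ i : ℕ, T ^ i = 1 → d ^ i = 1 := by
    intro i hi
    rw [hT, ← map_pow, ← MonoidHom.mem_ker, Subgroup.normalizerMonoidHom_ker, Subgroup.mem_subgroupOf] at hi
    exact (Subgroup.eq_bot_iff_forall _).mp hfaith _ ⟨Subgroup.npow_mem_zpowers d i, by simpa using hi⟩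
  have hT1 : T ^ 3 ^ n = 1 := by
    rw [hT, ← map_pow]
    have : (⟨d, hdP⟩ : Subgroup.normalizer (P : Set X)) ^ 3 ^ n = 1 := Subtype.ext (by
      rw [SubmonoidClass.coe_pow, ← hd, pow_orderOf_eq_one]; rfl)
    rw [this, map_one]
  have hfix : ∀ x : P, T x = x → x = 1 := by
    intro x hx
    have h1 := congrArg Subtype.val hx
    rw [hTapp, mul_inv_eq_iff_eq_mul] at h1
    refine Subtype.ext ((Subgroup.eq_bot_iff_forall _).mp hfpf _ ⟨x.2, ?_⟩)
    show (x : X) ∈ Subgroup.centralizer {d}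
    rw [Subgroup.mem_centralizer_iff]
    intro y hy
    rw [Set.mem_singleton_iff.mp hy]; exact h1
  obtain ⟨C, hC, hCp, hCc, hCC⟩ := Critical.exists_isCrit (p := 2) hP
  haveI := hC
  let res : MulAut P →* MulAut C :=
    { toFun := fun f => (f.subgroupMap C).trans (MulEquiv.subgroupCongr (Critical.map_eq_of_char hC f))
      map_one' := by ext x; rfl
      map_mul' := fun a b => by ext x; rfl }
  have hres : ∀ (f : MulAut P) (x : C), ((res f x : C) : P) = f x := fun f x => rfl
  have hcen : ∀ z : C, (z : P) ∈ C ⊓ Subgroup.centralizer (C : Set P) → z ∈ Subgroup.center C := fun z hz =>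
    Subgroup.mem_center_iff.mpr fun g => Subtype.ext (hz.2 g g.2)
  refine core (hP.to_subgroup C) (res T) n hn2 (by rw [← map_pow, hT1, map_one]) ?_ ?_
    (fun x => hcen _ (by rw [SubmonoidClass.coe_pow]; exact hCp x x.2))
    (fun x y => hcen _ (by
      rw [show (((⁅x, y⁆ : C) : P)) = ⁅(x : P), (y : P)⁆ from map_commutatorElement C.subtype x y]
      exact hCc (Subgroup.commutator_mem_commutator x.2 (Subgroup.mem_top _)))) ?_
  · intro hJ
    have hord : orderOf d ∣ 3 ^ (n - 1) := orderOf_dvd_of_pow_eq_one (hinj _ ?_)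
    · rw [hd] at hord
      have := (Nat.pow_dvd_pow_iff_le_right (by norm_num : 1 < 3)).mp hord
      omega
    refine Critical.mulAut_eq_one hP C hCC _ ?_ fun x hx => ?_
    · refine Nat.Coprime.coprime_dvd_left (orderOf_dvd_of_pow_eq_one (n := 3 ^ n) ?_) ?_
      · rw [← pow_mul, mul_comm, pow_mul, hT1, one_pow]
      · exact Nat.Coprime.pow_left _ (by norm_num)
    · rw [← map_pow] at hJ
      have := congrArg (fun z : C => (z : P)) (DFunLike.congr_fun hJ ⟨x, hx⟩)
      exact (hres _ _).symm.trans this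
  · intro x hx
    refine Subtype.ext (hfix x ?_)
    exact congrArg Subtype.val hx
  · intro A hA hA2
    set V := (A.map C.subtype).map P.subtype with hV
    have hc : IsMulCommutative V := ⟨⟨by
      rintro ⟨_, _, ⟨a, ha, rfl⟩, rfl⟩ ⟨_, _, ⟨b, hb, rfl⟩, rfl⟩
      apply Subtype.ext
      have := congrArg (fun z : A => (((z : C) : P) : X)) (hA.is_comm.comm ⟨a, ha⟩ ⟨b, hb⟩)
      exact this⟩⟩
    have h := hrank V (Subgroup.map_subtype_le _) hc ⊤ ⟨⟨fun a b => Subtype.ext (hc.is_comm.comm a.1 b.1)⟩⟩ (by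
      rintro ⟨_, _, ⟨a, ha, rfl⟩, rfl⟩ -
      apply Subtype.ext
      have := congrArg (fun z : C => (((z : C) : P) : X)) (hA2 a ha)
      simpa using this)
    rw [Subgroup.card_top, hV, Subgroup.card_map_of_injective P.subtype_injective,
      Subgroup.card_map_of_injective C.subtype_injective] at h
    exact h

end Cfsg.Agent.S3738
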