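import Cfsg.Statements.S3739
import Cfsg.Agent.S3738
import Cfsg.Agent.Lib.Coprime.Generation
import Cfsg.Agent.Lib.Fitting.Basic

set_option autoImplicit false
open Cfsg

namespace Cfsg.Agent.S3739

open CfsgLib

/-- A `3`-element normalizing a four-group and fixing one of its involutions centralizes it. -/
theorem centralizes_of_fix {G : Type*} [Group G] [Finite G] {W : Subgroup G} (hW4 : Nat.card W = 4)
    {x : G} {k : ℕ} (hx : x ^ 3 ^ k = 1) (hxW : x ∈ Subgroup.normalizer (W : Set G))
    (w : G) (hw : w ∈ W) (hw1 : w ≠ 1) (hfix : x * w * x⁻¹ = w) : ∀ v ∈ W, x * v * x⁻¹ = v := by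
  classical
  haveI := Fintype.ofFinite G
  set ψ := W.normalizerMonoidHom ⟨x, hxW⟩ with hψ
  have happ : ∀ v : W, ((ψ v : W) : G) = x * v * x⁻¹ := fun v => rfl
  let S := {v : W // v ≠ 1 ∧ v ≠ ⟨w, hw⟩}
  have hfw : ψ ⟨w, hw⟩ = ⟨w, hw⟩ := Subtype.ext (by rw [happ]; exact hfix)
  let τ : MulAut W → Equiv.Perm W := fun f => f.toEquiv
  let σ : Equiv.Perm S := Equiv.Perm.subtypePerm ψ.toEquiv (fun v =>
    and_congr (not_iff_not.mpr (MulEquiv.map_eq_one_iff ψ))
      (not_iff_not.mpr ⟨fun h => ψ.injective (h.trans hfw.symm), fun h => (congrArg ψ h).trans hfw⟩))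
  have hσ : ∀ (i : ℕ) (v : S), ((σ ^ i) v).1 = (ψ ^ i) v.1 := by
    intro i
    induction i with
    | zero => intro v; rfl
    | succ i ih => intro v; rw [pow_succ', pow_succ', Equiv.Perm.mul_apply, MulAut.mul_apply, ← ih v]; rfl
  have hψk : ψ ^ 3 ^ k = 1 := by
    rw [hψ, ← map_pow]
    have : (⟨x, hxW⟩ : Subgroup.normalizer (W : Set G)) ^ 3 ^ k = 1 := Subtype.ext (by simpa using hx)
    rw [this, map_one]
  have hS : Nat.card S ≤ 2 := by
    rw [Nat.card_eq_fintype_card, Fintype.card_subtype]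
    have h1 : (Finset.univ.filter fun v : W => v ≠ 1 ∧ v ≠ ⟨w, hw⟩) = ({1, ⟨w, hw⟩} : Finset W)ᶜ := by
      ext v; simp [and_comm]
    rw [h1, Finset.card_compl, ← Nat.card_eq_fintype_card, hW4, Finset.card_pair (fun h => hw1 (congrArg Subtype.val h).symm)]
  have h1 : orderOf σ ∣ 3 ^ k := orderOf_dvd_of_pow_eq_one (Equiv.ext fun v => Subtype.ext (by rw [hσ, hψk]; rfl))
  have h2 : orderOf σ ∣ 2 := by
    refine (orderOf_dvd_natCard σ).trans ?_
    rw [Nat.card_perm]
    interval_cases Nat.card S <;> decide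
  have h3 : σ = 1 := orderOf_eq_one_iff.mp
    (Nat.eq_one_of_dvd_coprimes ((by norm_num : Nat.Coprime 3 2).pow_left k) h1 h2)
  intro v hv
  by_cases hv1 : v = 1
  · simp [hv1]
  by_cases hvw : v = w
  · rw [hvw]; exact hfix
  have h4 := hσ 1 ⟨⟨v, hv⟩, fun h => hv1 (congrArg Subtype.val h), fun h => hvw (congrArg Subtype.val h)⟩
  rw [h3, pow_one, pow_one] at h4
  have h5 := congrArg Subtype.val h4
  rw [happ] at h5
  exact h5.symm

/-- Let G be a finite group with C_G(O₂(G)) ≤ O₂(G) containing an element of order 6, and let d be a non-identity 3-element of G normalizing a nontrivial elementary abelian 2-subgroup W with C_W(d) = 1. Then G has an elementary abelian subgroup of order 8. -/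
theorem result {G : Type*} [Group G] [Finite G] (hchar : Subgroup.centralizer (Cfsg.pCore 2 G : Set G) ≤ Cfsg.pCore 2 G) (hsix : ∃ g : G, orderOf g = 6) (d : G) (hd1 : d ≠ 1) (hd : IsPGroup 3 ↥(Subgroup.zpowers d)) (W : Subgroup G) (hW : Cfsg.IsElementaryAbelian 2 W) (hW1 : W ≠ ⊥) (hdW : d ∈ Subgroup.normalizer (W : Set G)) (hfpf : W ⊓ Subgroup.centralizer {d} = ⊥) : ∃ E : Subgroup G, Cfsg.IsElementaryAbelian 2 E ∧ Nat.card E = 8 := by
  classical
  haveI := Fintype.ofFinite G
  haveI : Fact (Nat.Prime 2) := ⟨Nat.prime_two⟩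
  haveI : Fact (Nat.Prime 3) := ⟨Nat.prime_three⟩
  by_contra hno
  push Not at hno
  have hrank : ∀ A : Subgroup G, Cfsg.IsElementaryAbelian 2 A → Nat.card A ≤ 4 := by
    intro A hA
    by_contra hgt
    obtain ⟨k, hk⟩ := IsPGroup.iff_card.mp (show IsPGroup 2 A from fun a => ⟨1, Subtype.ext (by simpa using hA.2 a a.2)⟩)
    have h3 : 3 ≤ k := by
      by_contra h
      have : 2 ^ k ≤ 2 ^ 2 := Nat.pow_le_pow_right (by norm_num) (by omega)
      omega
    obtain ⟨E, hE⟩ := Sylow.exists_subgroup_card_pow_prime (G := A) 2 (n := 3) (hk ▸ pow_dvd_pow 2 h3)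
    refine hno (E.map A.subtype) ⟨⟨⟨?_⟩⟩, ?_⟩ (by rw [Subgroup.card_map_of_injective A.subtype_injective, hE]; rfl)
    · rintro ⟨_, a, ha, rfl⟩ ⟨_, b, hb, rfl⟩
      exact Subtype.ext (congrArg (fun z : A => (z : G)) (hA.1.is_comm.comm a b))
    · rintro _ ⟨a, ha, rfl⟩
      exact hA.2 a a.2
  have hWc : ∀ a ∈ W, ∀ b ∈ W, a * b = b * a := fun a ha b hb =>
    congrArg Subtype.val (hW.1.is_comm.comm ⟨a, ha⟩ ⟨b, hb⟩)
  have hdfix : ∀ w ∈ W, d * w * d⁻¹ = w → w = 1 := by
    intro w hw h
    refine (Subgroup.eq_bot_iff_forall _).mp hfpf w ⟨hw, show w ∈ Subgroup.centralizer {d} from ?_⟩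
    rw [Subgroup.mem_centralizer_iff]
    intro y hy
    rw [Set.mem_singleton_iff.mp hy]
    exact mul_inv_eq_iff_eq_mul.mp h
  -- no invariant subgroup of order two
  have hno2 : ∀ V : Subgroup G, V ≤ W → (∀ v ∈ V, d * v * d⁻¹ ∈ V) → Nat.card V ≠ 2 := by
    intro V hVW hV h2
    haveI : Nontrivial V := Finite.one_lt_card_iff_nontrivial.mp (by omega)
    obtain ⟨v, hv⟩ := exists_ne (1 : V)
    have hone := (Nat.card_eq_two_iff' (1 : V)).mp h2
    obtain ⟨u, -, hu⟩ := hone
    have hv' : (⟨d * v * d⁻¹, hV _ v.2⟩ : V) ≠ 1 := fun h => hv (Subtype.ext (conj_eq_one_iff.mp (congrArg Subtype.val h)))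
    exact hv (Subtype.ext (hdfix v (hVW v.2) (congrArg Subtype.val ((hu _ hv').trans (hu v hv).symm))))
  have hdnorm : ∀ w ∈ W, d * w * d⁻¹ ∈ W := fun w hw => (Subgroup.mem_normalizer_iff.mp hdW w).mp hw
  have hW4 : Nat.card W = 4 := by
    obtain ⟨k, hk⟩ := IsPGroup.iff_card.mp (show IsPGroup 2 W from fun a => ⟨1, Subtype.ext (by simpa using hW.2 a a.2)⟩)
    have h := hrank W hW
    have h1 := W.one_lt_card_iff_ne_bot.mpr hW1
    have h2 := hno2 W le_rfl hdnorm
    rw [hk] at h h1 h2 ⊢
    rcases k with _ | _ | _ | k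
    · simp at h1
    · simp at h2
    · rfl
    · simp only [Nat.pow_succ] at h
      have := Nat.one_le_two_pow (n := k)
      omega
  set Q := Cfsg.pCore 2 G with hQ
  haveI hQn : Q.Normal := Fitting.pCore_normal 2
  have hQp : IsPGroup 2 Q := Fitting.pCore_isPGroup 2
  let Z : Subgroup G :=
    { carrier := {z | z ∈ Q ∧ z ∈ Subgroup.centralizer (Q : Set G) ∧ z ^ 2 = 1}
      one_mem' := ⟨one_mem _, one_mem _, one_pow _⟩
      mul_mem' := fun {a b} ha hb => ⟨mul_mem ha.1 hb.1, mul_mem ha.2.1 hb.2.1, by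
        rw [(show Commute a b from (ha.2.1 b hb.1).symm).mul_pow, ha.2.2, hb.2.2, one_mul]⟩
      inv_mem' := fun {a} ha => ⟨inv_mem ha.1, inv_mem ha.2.1, by rw [inv_pow, ha.2.2, inv_one]⟩ }
  have hZn : Z.Normal := ⟨fun z hz g => ⟨hQn.conj_mem z hz.1 g, fun q hq => by
    have := hz.2.1 _ (hQn.conj_mem q hq g⁻¹)
    simp only [inv_inv] at this
    calc q * (g * z * g⁻¹) = g * ((g⁻¹ * q * g) * z) * g⁻¹ := by group
      _ = g * (z * (g⁻¹ * q * g)) * g⁻¹ := by rw [this]
      _ = g * z * g⁻¹ * q := by group, by rw [conj_pow, hz.2.2, mul_one, mul_inv_cancel]⟩⟩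
  have hZel : Cfsg.IsElementaryAbelian 2 Z :=
    ⟨⟨⟨fun a b => Subtype.ext ((b.2.2.1 a.1 a.2.1))⟩⟩, fun a ha => ha.2.2⟩
  have hZ1 : Z ≠ ⊥ := by
    have hQ1 : Q ≠ ⊥ := by
      intro h
      obtain ⟨g, hg⟩ := hsix
      have h1 : g ∈ Cfsg.pCore 2 G := hchar (fun q hq => by
        rw [SetLike.mem_coe, h, Subgroup.mem_bot] at hq
        rw [hq, one_mul, mul_one])
      rw [← hQ, h, Subgroup.mem_bot] at h1
      rw [h1, orderOf_one] at hg
      omega
    haveI : Nontrivial Q := (Subgroup.nontrivial_iff_ne_bot Q).mpr hQ1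
    haveI := hQp.center_nontrivial
    obtain ⟨k, hk⟩ := IsPGroup.iff_card.mp (hQp.to_subgroup (Subgroup.center Q))
    obtain ⟨z, hz⟩ := exists_prime_orderOf_dvd_card' (G := Subgroup.center Q) 2 (by
      have := Finite.one_lt_card (α := Subgroup.center Q)
      rcases k with _ | k
      · rw [pow_zero] at hk; omega
      · rw [hk, pow_succ]; exact dvd_mul_left _ _)
    intro h
    have hzZ : ((z : Q) : G) ∈ Z := ⟨z.1.2, fun q hq => congrArg Subtype.val (Subgroup.mem_center_iff.mp z.2 ⟨q, hq⟩), by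
      have := pow_orderOf_eq_one z
      rw [hz] at this
      exact congrArg (fun y : Subgroup.center Q => ((y : Q) : G)) this⟩
    rw [h, Subgroup.mem_bot] at hzZ
    have : z = 1 := Subtype.ext (Subtype.ext hzZ)
    rw [this, orderOf_one] at hz
    omega
  -- `W` and `Z` commute
  have hWZ : ∀ a ∈ W, ∀ z ∈ Z, a * z = z * a := by
    let CW := W ⊓ Subgroup.centralizer (Z : Set G)
    have hCW : ∀ v ∈ CW, d * v * d⁻¹ ∈ CW := fun v hv => ⟨hdnorm v hv.1, fun z hz => by
      have := hv.2 _ (hZn.conj_mem z hz d⁻¹)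
      simp only [inv_inv] at this
      calc z * (d * v * d⁻¹) = d * ((d⁻¹ * z * d) * v) * d⁻¹ := by group
        _ = d * (v * (d⁻¹ * z * d)) * d⁻¹ := by rw [this]
        _ = d * v * d⁻¹ * z := by group⟩
    have hne2 := hno2 CW inf_le_left hCW
    have hne1 : Nat.card CW ≠ 1 := by
      intro h1
      let φ : W →* MulAut Z := MulAut.conjNormal.comp W.subtype
      have hφ : Function.Injective φ := by
        rw [injective_iff_map_eq_one]
        intro w hw
        have hbot : CW = ⊥ := Subgroup.card_eq_one.mp h1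
        have : (w : G) ∈ CW := ⟨w.2, fun z hz => by
          have h2 : (w : G) * z * (w : G)⁻¹ = z := congrArg Subtype.val (DFunLike.congr_fun hw (⟨z, hz⟩ : Z))
          exact (mul_inv_eq_iff_eq_mul.mp h2).symm⟩
        rw [hbot, Subgroup.mem_bot] at this
        exact Subtype.ext this
      let res : MulAut Z → Equiv.Perm {z : Z // z ≠ 1} := fun f =>
        Equiv.Perm.subtypePerm f.toEquiv fun z => not_iff_not.mpr (MulEquiv.map_eq_one_iff f)
      let ρ : MulAut Z →* Equiv.Perm {z : Z // z ≠ 1} :=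
        { toFun := res, map_one' := by ext z; rfl, map_mul' := fun a b => by ext z; rfl }
      have hρ : Function.Injective ρ := fun a b h => MulEquiv.ext fun z => by
        by_cases hz : z = 1
        · rw [hz, map_one, map_one]
        · exact congrArg Subtype.val (DFunLike.congr_fun h ⟨z, hz⟩)
      have hd4 : 4 ∣ (Nat.card {z : Z // z ≠ 1}).factorial := by
        rw [← hW4, ← Nat.card_perm]
        exact Subgroup.card_dvd_of_injective (ρ.comp φ) (hρ.comp hφ)
      have hle : Nat.card {z : Z // z ≠ 1} ≤ 3 := by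
        rw [Nat.card_eq_fintype_card, Fintype.card_subtype_compl, Fintype.card_subtype_eq, ← Nat.card_eq_fintype_card]
        have := hrank Z hZel
        omega
      interval_cases Nat.card {z : Z // z ≠ 1} <;> simp [Nat.factorial] at hd4
    have hCW4 : CW = W := by
      refine Subgroup.eq_of_le_of_card_ge inf_le_left ?_
      have h := Subgroup.card_dvd_of_le (inf_le_left : CW ≤ W)
      rw [hW4] at h ⊢
      have h4 : Nat.card CW ≤ 4 := Nat.le_of_dvd (by norm_num) h
      have h0 : 0 < Nat.card CW := Nat.card_pos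
      interval_cases hc : Nat.card CW <;> omega
    intro a ha z hz
    have : a ∈ CW := hCW4.symm ▸ ha
    exact (this.2 z hz).symm
  have hel : ∀ V : Subgroup G, ∀ S : Set G, V = Subgroup.closure S → (∀ a ∈ S, a ^ 2 = 1) →
      (∀ a ∈ S, ∀ b ∈ S, a * b = b * a) → Cfsg.IsElementaryAbelian 2 V := by
    intro V S hV hS2 hSc
    have hc : IsMulCommutative V := hV ▸ Subgroup.isMulCommutative_closure hSc
    refine ⟨hc, fun a ha => ?_⟩
    subst hV
    induction ha using Subgroup.closure_induction with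
    | mem a h => exact hS2 a h
    | one => exact one_pow _
    | mul a b ha hb iha ihb =>
      rw [(show Commute a b from congrArg Subtype.val (hc.is_comm.comm ⟨a, ha⟩ ⟨b, hb⟩)).mul_pow, iha, ihb, one_mul]
    | inv a _ iha => rw [inv_pow, iha, inv_one]
  -- an involution centralizing `W` lies in `W`
  have hmemW : ∀ i : G, i ^ 2 = 1 → (∀ w ∈ W, i * w = w * i) → i ∈ W := by
    intro i hi hic
    set V := Subgroup.closure (insert i (W : Set G)) with hV
    have hVel := hel V _ rfl (by rintro a (rfl | ha); exacts [hi, hW.2 a ha]) (by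
      rintro a (ha | ha) b (hb | hb)
      · rw [ha, hb]
      · rw [ha]; exact hic b hb
      · rw [hb]; exact (hic a ha).symm
      · exact hWc a ha b hb)
    have hle : W ≤ V := fun w hw => Subgroup.subset_closure (Set.mem_insert_of_mem _ hw)
    rw [Subgroup.eq_of_le_of_card_ge hle (hW4 ▸ hrank V hVel)]
    exact Subgroup.subset_closure (Set.mem_insert i _)
  have hZW : Z = W := by
    have hle : Z ≤ W := fun z hz => hmemW z hz.2.2 fun w hw => (hWZ w hw z hz).symm
    refine Subgroup.eq_of_le_of_card_ge hle ?_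
    obtain ⟨k, hk⟩ := IsPGroup.iff_card.mp (show IsPGroup 2 Z from fun a => ⟨1, Subtype.ext (by simpa using hZel.2 a a.2)⟩)
    have h1 := Z.one_lt_card_iff_ne_bot.mpr hZ1
    have h2 := hno2 Z hle (fun z hz => hZn.conj_mem z hz d)
    rw [hk] at h1 h2 ⊢
    rw [hW4]
    rcases k with _ | _ | k
    · simp at h1
    · simp at h2
    · simp only [Nat.pow_succ]
      have := Nat.one_le_two_pow (n := k)
      omega
  haveI hWn : W.Normal := hZW ▸ hZn
  have hnormW : ∀ x : G, x ∈ Subgroup.normalizer (W : Set G) := fun x => by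
    rw [Subgroup.normalizer_eq_top]; trivial
  have hWQ : W ≤ Q := fun w hw => by rw [← hZW] at hw; exact hw.1
  have hQW : ∀ q ∈ Q, ∀ w ∈ W, q * w = w * q := fun q hq w hw => by rw [← hZW] at hw; exact hw.2.1 q hq
  set K := Subgroup.centralizer (W : Set G) with hK
  haveI hKn : K.Normal := by rw [hK]; infer_instance
  -- three-elements outside the centralizer have order three and act without fixed points
  have hout : ∀ (x : G) (k : ℕ), orderOf x = 3 ^ k → x ∉ K →
      Q ⊓ Subgroup.centralizer {x} = ⊥ ∧ orderOf x = 3 := by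
    intro x k hx hxK
    have hx3 : x ^ 3 ^ k = 1 := by rw [← hx, pow_orderOf_eq_one]
    have hWx : ∀ w ∈ W, x * w = w * x → w = 1 := by
      intro w hw hxw
      by_contra hw1
      refine hxK fun v hv => ?_
      have := centralizes_of_fix hW4 hx3 (hnormW x) w hw hw1 (by rw [hxw, mul_inv_cancel_right]) v hv
      exact (mul_inv_eq_iff_eq_mul.mp this).symm
    have hfp : Q ⊓ Subgroup.centralizer {x} = ⊥ := by
      by_contra hne
      haveI := (Subgroup.nontrivial_iff_ne_bot _).mpr hne
      set C := Q ⊓ Subgroup.centralizer {x}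
      obtain ⟨kc, hk⟩ := IsPGroup.iff_card.mp (hQp.to_le (inf_le_left : C ≤ Q))
      obtain ⟨c, hc⟩ := exists_prime_orderOf_dvd_card' (G := C) 2 (by
        have := C.one_lt_card_iff_ne_bot.mpr hne
        rcases kc with _ | kc
        · exact absurd (hk.trans (pow_zero 2)) (ne_of_gt this)
        · rw [hk, pow_succ]; exact dvd_mul_left _ _)
      have hc2 : (c : G) ^ 2 = 1 := by
        have := pow_orderOf_eq_one c
        rw [hc] at this
        exact congrArg Subtype.val this
      have hcW : (c : G) ∈ W := hmemW c hc2 fun w hw => hQW c c.2.1 w hw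
      have := hWx c hcW (Subgroup.mem_centralizer_singleton_iff.mp (c.2.2 : (c : G) ∈ Subgroup.centralizer {x})).symm
      have : c = 1 := Subtype.ext this
      rw [this, orderOf_one] at hc
      omega
    refine ⟨hfp, ?_⟩
    have hk1 : 1 ≤ k := by
      by_contra h
      rw [show k = 0 by omega, pow_zero, orderOf_eq_one_iff] at hx
      exact hxK (hx ▸ one_mem _)
    refine Cfsg.Agent.S3738.result x k hk1 hx Q hQp (by rw [Subgroup.normalizer_eq_top]; trivial) ?_ hfp ?_
    · rw [Subgroup.eq_bot_iff_forall]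
      rintro y ⟨hy, hyC⟩
      have hyQ : y ∈ Q := hchar hyC
      obtain ⟨a, ha⟩ := hQp ⟨y, hyQ⟩
      have ha' : y ^ 2 ^ a = 1 := congrArg Subtype.val ha
      obtain ⟨j, rfl⟩ := Subgroup.mem_zpowers_iff.mp hy
      have hb : (x ^ j) ^ 3 ^ k = 1 := by
        rw [← zpow_natCast, ← zpow_mul, mul_comm, zpow_mul, zpow_natCast, hx3, one_zpow]
      exact orderOf_eq_one_iff.mp (Nat.eq_one_of_dvd_coprimes
        (Nat.Coprime.pow a k (by norm_num : Nat.Coprime 2 3)) (orderOf_dvd_of_pow_eq_one ha')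
        (orderOf_dvd_of_pow_eq_one hb))
    · intro V _ _ A hA hA2
      have := hrank (A.map V.subtype) ⟨⟨⟨by
        rintro ⟨_, a, ha, rfl⟩ ⟨_, b, hb, rfl⟩
        exact Subtype.ext (congrArg (fun z : A => ((z : V) : G)) (hA.is_comm.comm ⟨a, ha⟩ ⟨b, hb⟩))⟩⟩, by
        rintro _ ⟨a, ha, rfl⟩
        exact (SubmonoidClass.coe_pow a 2).symm.trans (congrArg Subtype.val (hA2 a ha))⟩
      rwa [Subgroup.card_map_of_injective V.subtype_injective] at this
  have hdK : d ∉ K := by
    intro h
    obtain ⟨⟨w, hw⟩, hw1⟩ := Subgroup.ne_bot_iff_exists_ne_one.mp hW1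
    exact hw1 (Subtype.ext (hdfix w hw (mul_inv_eq_iff_eq_mul.mpr (h w hw).symm)))
  -- the centralizer of `W` has order divisible by three
  have h3K : 3 ∣ Nat.card K := by
    obtain ⟨g, hg⟩ := hsix
    set s := g ^ 2 with hs
    set i := g ^ 3 with hi
    have hso : orderOf s = 3 := by rw [hs, orderOf_pow' _ (by norm_num), hg]; rfl
    have hio : orderOf i = 2 := by rw [hi, orderOf_pow' _ (by norm_num), hg]; rfl
    by_cases hsK : s ∈ K
    · exact hso ▸ K.orderOf_dvd_natCard hsK
    · exfalso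
      have hsi : s * i = i * s := ((Commute.refl g).pow_pow 2 3).eq
      have hsfix : ∀ w ∈ W, s * w * s⁻¹ = w → w = 1 := fun w hw h => by
        by_contra hw1
        refine hsK fun v hv => ?_
        have := centralizes_of_fix hW4 (k := 1) (by rw [pow_one, ← hso, pow_orderOf_eq_one]) (hnormW s) w hw hw1 h v hv
        exact (mul_inv_eq_iff_eq_mul.mp this).symm
      have hi2 : i ^ 2 = 1 := by rw [← hio, pow_orderOf_eq_one]
      -- `i` fixes an involution of `W`
      obtain ⟨w, hw, hw1, hwi⟩ : ∃ w ∈ W, w ≠ 1 ∧ i * w * i⁻¹ = w := by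
        by_contra hcon
        push Not at hcon
        obtain ⟨⟨w, hw⟩, hw1⟩ := Subgroup.ne_bot_iff_exists_ne_one.mp hW1
        have hw1' : w ≠ 1 := fun h => hw1 (Subtype.ext h)
        set v := i * w * i⁻¹ with hv
        have hvW : v ∈ W := hWn.conj_mem w hw i
        have hvw : v ≠ w := hcon w hw hw1'
        have hvv : i * v * i⁻¹ = w := by
          have hii : i * i = 1 := by rw [← sq]; exact hi2
          have hiv : i⁻¹ = i := inv_eq_of_mul_eq_one_right hii
          rw [hv, hiv, show i * (i * w * i) * i = (i * i) * w * (i * i) by group, hii, one_mul, mul_one]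
        refine hcon (w * v) (mul_mem hw hvW) (fun h => hvw ?_) ?_
        · have hw2 : w * w = 1 := by rw [← sq]; exact hW.2 w hw
          exact (mul_left_cancel (hw2.trans h.symm)).symm
        · calc i * (w * v) * i⁻¹ = v * (i * v * i⁻¹) := by rw [hv]; group
            _ = v * w := by rw [hvv]
            _ = w * v := hWc v hvW w hw
      set v := s * w * s⁻¹ with hv
      have hvW : v ∈ W := hWn.conj_mem w hw s
      have hvw : v ≠ w := fun h => hw1 (hsfix w hw h)
      have hvi : i * v * i⁻¹ = v := by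
        calc i * v * i⁻¹ = (i * s) * w * (i * s)⁻¹ := by rw [hv]; group
          _ = (s * i) * w * (s * i)⁻¹ := by rw [hsi]
          _ = s * (i * w * i⁻¹) * s⁻¹ := by group
          _ = v := by rw [hwi, ← hv]
      have hiW : i ∈ W := hmemW i hi2 fun u hu => by
        let C := W ⊓ Subgroup.centralizer {i}
        have hC : C = W := by
          refine Subgroup.eq_of_le_of_card_ge inf_le_left ?_
          have hmem : ∀ u ∈ W, i * u * i⁻¹ = u → u ∈ C := fun u hu h =>
            ⟨hu, Subgroup.mem_centralizer_singleton_iff.mpr (mul_inv_eq_iff_eq_mul.mp h).symm⟩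
          have h3 : 3 ≤ Nat.card C := by
            rw [Nat.card_eq_fintype_card, Fintype.card_subtype]
            have hv1 : v ≠ 1 := fun h => hw1 (conj_eq_one_iff.mp h)
            calc 3 = ({1, w, v} : Finset G).card := by
                  rw [Finset.card_insert_of_notMem (by simp [hw1.symm, hv1.symm]), Finset.card_pair hvw.symm]
              _ ≤ _ := Finset.card_le_card fun z hz => by
                  simp only [Finset.mem_insert, Finset.mem_singleton] at hz
                  rcases hz with rfl | rfl | rfl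
                  · simp
                  · simpa using hmem _ hw hwi
                  · simpa using hmem _ hvW hvi
          have hd := Subgroup.card_dvd_of_le (inf_le_left : C ≤ W)
          rw [hW4] at hd ⊢
          obtain ⟨c, hc⟩ := hd
          rcases c with _ | _ | c
          · simp at hc
          · rw [zero_add, mul_one] at hc; exact hc.le
          · nlinarith
        have : u ∈ C := hC.symm ▸ hu
        exact (Subgroup.mem_centralizer_singleton_iff.mp this.2).symm
      have := hsfix i hiW (mul_inv_eq_iff_eq_mul.mpr hsi)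
      rw [this, orderOf_one] at hio
      omega
  -- a central element of order three of a Sylow subgroup
  obtain ⟨P, hP⟩ := hd.exists_le_sylow
  set P3 := (P : Subgroup G)
  have hdP : d ∈ P3 := hP (Subgroup.mem_zpowers d)
  haveI : Nontrivial ↥(K.subgroupOf P3) := by
    rw [Subgroup.nontrivial_iff_ne_bot]
    intro h
    have h1 : K ⊓ P3 = ⊥ := by
      rw [Subgroup.subgroupOf_eq_bot] at h
      exact h.eq_bot
    obtain ⟨x, hx⟩ := exists_prime_orderOf_dvd_card' (G := K) 3 h3K
    have hx' : IsPGroup 3 (Subgroup.zpowers (x : G)) := IsPGroup.of_card (n := 1)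
      (by rw [Nat.card_zpowers, Subgroup.orderOf_coe, hx, pow_one])
    obtain ⟨R, hR⟩ := hx'.exists_le_sylow
    obtain ⟨g, hg⟩ := MulAction.exists_smul_eq G R P
    have h2 : g * (x : G) * g⁻¹ ∈ K ⊓ P3 := ⟨hKn.conj_mem _ x.2 g, by
      show g * (x : G) * g⁻¹ ∈ ((P : Sylow 3 G) : Subgroup G)
      rw [← hg]
      exact ⟨(x : G), hR (Subgroup.mem_zpowers _), rfl⟩⟩
    rw [h1, Subgroup.mem_bot, conj_eq_one_iff] at h2
    have : x = 1 := Subtype.ext h2
    rw [this, orderOf_one] at hx
    omega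
  haveI : (K.subgroupOf P3).Normal := Subgroup.normal_subgroupOf
  haveI := P.2.isNilpotent
  have hI := Critical.inf_center_ne_bot (Q := P3) (K.subgroupOf P3) ((Subgroup.nontrivial_iff_ne_bot _).mp inferInstance)
  haveI := (Subgroup.nontrivial_iff_ne_bot _).mpr hI
  obtain ⟨j, hj⟩ := IsPGroup.iff_card.mp (P.2.to_subgroup (K.subgroupOf P3 ⊓ Subgroup.center P3))
  obtain ⟨s, hs⟩ := exists_prime_orderOf_dvd_card' (G := (K.subgroupOf P3 ⊓ Subgroup.center P3 : Subgroup P3)) 3 (by
    have := (K.subgroupOf P3 ⊓ Subgroup.center P3).one_lt_card_iff_ne_bot.mpr hI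
    rcases j with _ | j
    · exact absurd (hj.trans (pow_zero 3)) (ne_of_gt this)
    · rw [hj, pow_succ]; exact dvd_mul_left _ _)
  set a := ((s : P3) : G) with ha
  have haK : a ∈ K := s.2.1
  have had : a * d = d * a := congrArg Subtype.val (Subgroup.mem_center_iff.mp s.2.2 ⟨d, hdP⟩).symm
  have hao : orderOf a = 3 := by rw [ha, Subgroup.orderOf_coe, Subgroup.orderOf_coe, hs]
  set A := Subgroup.closure ({a, d} : Set G) with hA
  haveI hAc : IsMulCommutative A := Subgroup.isMulCommutative_closure (by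
    rintro x (rfl | rfl) y (rfl | rfl)
    · rfl
    · exact had
    · exact had.symm
    · rfl)
  have hAP : A ≤ P3 := by
    rw [hA, Subgroup.closure_le]
    rintro x (rfl | rfl)
    · exact (s : P3).2
    · exact hdP
  obtain ⟨dk, hdk⟩ := P.2 ⟨d, hdP⟩
  obtain ⟨k, -, hk⟩ := (Nat.dvd_prime_pow Nat.prime_three).mp (orderOf_dvd_of_pow_eq_one (congrArg Subtype.val hdk : d ^ 3 ^ dk = 1))
  have hd3 : orderOf d = 3 := (hout d k hk hdK).2
  have hAexp : ∀ x ∈ A, x ^ 3 = 1 := by
    intro x hx
    induction hx using Subgroup.closure_induction with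
    | mem x h =>
      rcases h with h | h
      · rw [h, ← hao]; exact pow_orderOf_eq_one a
      · rw [Set.mem_singleton_iff.mp h, ← hd3]; exact pow_orderOf_eq_one d
    | one => exact one_pow _
    | mul x y hx hy ihx ihy =>
      rw [(show Commute x y from congrArg Subtype.val (hAc.is_comm.comm ⟨x, hx⟩ ⟨y, hy⟩)).mul_pow, ihx, ihy, one_mul]
    | inv x _ ih => rw [inv_pow, ih, inv_one]
  have hAnc : ¬ IsCyclic A := by
    intro hcyc
    obtain ⟨g, hg⟩ := hcyc.exists_generator
    have hg3 : orderOf g ≤ 3 := Nat.le_of_dvd (by norm_num) (orderOf_dvd_of_pow_eq_one (Subtype.ext (by simpa using hAexp g g.2)))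
    have hcard : Nat.card A ≤ 3 := by rw [← orderOf_eq_card_of_forall_mem_zpowers hg]; exact hg3
    have hle : Subgroup.zpowers a ≤ A := Subgroup.zpowers_le.mpr (Subgroup.subset_closure (by simp))
    have := Subgroup.eq_of_le_of_card_ge hle (by rw [Nat.card_zpowers, hao]; exact hcard)
    exact hdK ((Subgroup.zpowers_le.mpr haK) (this ▸ Subgroup.subset_closure (by simp)))
  have hcop : (Nat.card A).Coprime (Nat.card Q) := by
    obtain ⟨u, hu⟩ := IsPGroup.iff_card.mp (P.2.to_le hAP)
    obtain ⟨v, hv⟩ := IsPGroup.iff_card.mp hQp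
    rw [hu, hv]
    exact Nat.Coprime.pow _ _ (by norm_num)
  -- elements of `A` in `K` are powers of `a`
  have hform : ∀ g ∈ A, ∃ (m : ℤ) (l : ℤ), g = a ^ m * d ^ l := by
    intro g hg
    rw [hA] at hg
    induction hg using Subgroup.closure_induction with
    | mem x h =>
      rcases h with h | h
      · exact ⟨1, 0, by simp [h]⟩
      · exact ⟨0, 1, by simp [Set.mem_singleton_iff.mp h]⟩
    | one => exact ⟨0, 0, by simp⟩
    | mul x y _ _ ihx ihy =>
      obtain ⟨m, l, rfl⟩ := ihx
      obtain ⟨m', l', rfl⟩ := ihy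
      refine ⟨m + m', l + l', ?_⟩
      rw [zpow_add, zpow_add, mul_assoc, ← mul_assoc (d ^ l), ← (show Commute a d from had).zpow_zpow m' l]
      simp only [mul_assoc]
    | inv x _ ih =>
      obtain ⟨m, l, rfl⟩ := ih
      exact ⟨-m, -l, by rw [mul_inv_rev, zpow_neg, zpow_neg, ((show Commute a d from had).zpow_zpow m l).inv_inv.eq]⟩
  have hQa : Q ≤ Q ⊓ Subgroup.centralizer {a} := by
    refine Coprime.le_of_centralizer_le hAnc (by rw [Subgroup.normalizer_eq_top]; exact le_top) hcop fun g hg hg1 => ?_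
    by_cases hgK : g ∈ K
    · obtain ⟨m, l, rfl⟩ := hform g hg
      have hdl : d ^ l ∈ K := by
        have := K.mul_mem (K.inv_mem (K.zpow_mem haK m)) hgK
        rwa [inv_mul_cancel_left] at this
      have hd3l : d ^ l = 1 := by
        by_contra hne
        apply hdK
        have hl : ¬ (3 : ℤ) ∣ l := fun h => hne (orderOf_dvd_iff_zpow_eq_one.mp (by rw [hd3]; exact_mod_cast h))
        obtain ⟨u, v, huv⟩ : ∃ u v : ℤ, u * l + v * 3 = 1 := (Int.prime_three.coprime_iff_not_dvd.mpr hl).symm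
        have : d = (d ^ l) ^ u := by
          have h3 : d ^ (3 : ℤ) = 1 := orderOf_dvd_iff_zpow_eq_one.mp (by rw [hd3]; norm_num)
          rw [← zpow_mul]
          conv_lhs => rw [← zpow_one d, ← huv, zpow_add, mul_comm u l, mul_comm v 3, zpow_mul d 3 v, h3, one_zpow, mul_one]
        rw [this]; exact K.zpow_mem hdl u
      rw [hd3l, mul_one] at hg1 ⊢
      rintro q ⟨hq, hqc⟩
      refine ⟨hq, Subgroup.mem_centralizer_singleton_iff.mpr ?_⟩
      have hm : ¬ (3 : ℤ) ∣ m := fun h => hg1 (orderOf_dvd_iff_zpow_eq_one.mp (by rw [hao]; exact_mod_cast h))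
      obtain ⟨u, v, huv⟩ : ∃ u v : ℤ, u * m + v * 3 = 1 := (Int.prime_three.coprime_iff_not_dvd.mpr hm).symm
      have h3 : a ^ (3 : ℤ) = 1 := orderOf_dvd_iff_zpow_eq_one.mp (by rw [hao]; norm_num)
      have hau : a = (a ^ m) ^ u := by
        rw [← zpow_mul]
        conv_lhs => rw [← zpow_one a, ← huv, zpow_add, mul_comm u m, mul_comm v 3, zpow_mul a 3 v, h3, one_zpow, mul_one]
      have hc : Commute q (a ^ m) := Subgroup.mem_centralizer_singleton_iff.mp hqc
      have := (hc.zpow_right u).eq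
      rwa [← hau] at this
    · have hgo : ∃ j, orderOf g = 3 ^ j := by
        obtain ⟨j, -, hj⟩ := (Nat.dvd_prime_pow Nat.prime_three).mp
          (orderOf_dvd_of_pow_eq_one (hAexp g hg) : orderOf g ∣ 3 ^ 1)
        exact ⟨j, hj⟩
      obtain ⟨j, hj⟩ := hgo
      rw [(hout g j hj hgK).1]
      exact bot_le
  have haQ : a ∈ Q := hchar fun q hq => Subgroup.mem_centralizer_singleton_iff.mp (hQa hq).2
  obtain ⟨u, hu⟩ := hQp ⟨a, haQ⟩
  have := Nat.eq_one_of_dvd_coprimes ((by norm_num : Nat.Coprime 2 3).pow_left u)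
    (orderOf_dvd_of_pow_eq_one (congrArg Subtype.val hu : a ^ 2 ^ u = 1)) (hao ▸ dvd_rfl : orderOf a ∣ 3)
  rw [hao] at this
  omega

end Cfsg.Agent.S3739
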