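import Mathlib
import Cfsg.Statements.S3740
import Cfsg.Agent.Lib.SL2.SylowTwo
import Cfsg.Agent.Lib.SL2.Facts
import Cfsg.Agent.Lib.TransLinear.SLTwoThree
import Cfsg.Agent.Lib.Coprime.Action
import Cfsg.Agent.S0262

set_option autoImplicit false
open Cfsg

namespace Cfsg.Agent.S3740

open CfsgLib.SL2 Matrix
open scoped MatrixGroups

local notation "Q8" => QuaternionGroup 2

/-- Let F be a finite field of odd characteristic p and let a be a p-element of SL₂(F) normalizing a subgroup R of order prime to p with [R, a] ≠ 1. Then p = 3, R is a quaternion group of order 8, and R⟨a⟩ is isomorphic to SL₂(3). -/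
theorem result (F : Type) [Field F] [Fintype F] {p : ℕ} [Fact p.Prime] [CharP F p] (hp : p ≠ 2) (a : Matrix.SpecialLinearGroup (Fin 2) F) (ha : IsPGroup p ↥(Subgroup.zpowers a)) (R : Subgroup (Matrix.SpecialLinearGroup (Fin 2) F)) (hR : (Nat.card R).Coprime p) (haR : a ∈ Subgroup.normalizer (R : Set (Matrix.SpecialLinearGroup (Fin 2) F))) (hnt : ⁅R, Subgroup.zpowers a⁆ ≠ ⊥) : p = 3 ∧ Nonempty (↥R ≃* QuaternionGroup 2) ∧ Nonempty (↥(R ⊔ Subgroup.zpowers a) ≃* Matrix.SpecialLinearGroup (Fin 2) (ZMod 3)) := by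
  classical
  have hpp : p.Prime := Fact.out
  obtain ⟨n, -, hn⟩ := FiniteField.card F p
  have hodd : Odd (Nat.card F) := by
    rw [Nat.card_eq_fintype_card, hn]; exact (hpp.odd_of_ne_two hp).pow
  have h20 : (2 : F) ≠ 0 := odd_card_two_ne_zero hodd
  obtain ⟨e, hea⟩ : ∃ e, orderOf a = p ^ e := by
    obtain ⟨e, he⟩ := IsPGroup.iff_card.mp ha
    exact ⟨e, by rw [← Nat.card_zpowers, he]⟩
  have hcop2 : Nat.Coprime 2 p := (Nat.coprime_primes Nat.prime_two hpp).mpr (Ne.symm hp)
  -- commutation criterion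
  have hcomm : ∀ {b : SL(2, F)}, (∀ r ∈ R, b * r = r * b) → b = a → False := by
    intro b hb e
    subst e
    refine hnt ((Subgroup.commutator_eq_bot_iff_le_centralizer).mpr fun r hr => ?_)
    rw [Subgroup.mem_centralizer_iff]
    intro y hy
    obtain ⟨k, rfl⟩ := Subgroup.mem_zpowers_iff.mp hy
    exact (Commute.zpow_left (hb r hr) k).eq
  have ha1 : a ≠ 1 := fun e => hcomm (b := 1) (fun r _ => by simp) e.symm
  have hpa : p ∣ orderOf a := by
    rw [hea]
    refine dvd_pow_self p fun e0 => ha1 (orderOf_eq_one_iff.mp (by rw [hea, e0, pow_zero]))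
  have hans : NonScalar (a : Matrix (Fin 2) (Fin 2) F) := by
    by_contra hn'
    exact hcomm (fun r _ => (Subgroup.mem_center_iff.mp ((mem_center_iff_not_nonScalar a).mpr hn') r).symm) rfl
  have hareg : ¬ Regular a := by
    intro hr
    have hq : p ∣ Nat.card F := by rw [Nat.card_eq_fintype_card, hn]; exact dvd_pow_self p n.pos.ne'
    have h1 : 1 < Nat.card F := Finite.one_lt_card
    rcases orderOf_regular hr with h | h
    · have h' := Nat.dvd_sub hq (hpa.trans h)
      rw [Nat.sub_sub_self (by omega)] at h'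
      exact hpp.not_dvd_one h'
    · exact hpp.not_dvd_one ((Nat.dvd_add_right hq).mp (hpa.trans h))
  have hord : ∀ x ∈ R, (orderOf x).Coprime p := fun x hx =>
    hR.coprime_dvd_left (Subgroup.orderOf_dvd_natCard R hx)
  have hsmall : ∀ x ∈ R, orderOf x ∣ 2 * p → x = 1 ∨ x = -1 := by
    intro x hx hd
    have h2 : orderOf x ∣ 2 := (hord x hx).dvd_of_dvd_mul_right hd
    rcases eq_or_ne x 1 with h | h
    · exact Or.inl h
    · exact Or.inr (eq_neg_one_of_mul_self h20 (by rw [← sq]; exact orderOf_dvd_iff_pow_eq_one.mp h2) h)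
  have hreg : ∀ x ∈ R, x ≠ 1 → x ≠ -1 → Regular x := by
    intro x hx h1 h2
    by_contra hn'
    rcases hsmall x hx (orderOf_dvd_of_pow_eq_one (pow_two_mul_char_of_not_regular hn' p)) with h | h
    exacts [h1 h, h2 h]
  have hfix : ∀ x ∈ R, x ∈ cent a → x = 1 ∨ x = -1 := by
    intro x hx hxc
    refine hsmall x hx ?_
    have h := Subgroup.orderOf_dvd_natCard (cent a) hxc
    rw [card_cent_unipotent hans hareg, Nat.card_eq_fintype_card, hn] at h
    have h' := ((hord x hx).pow_right (n : ℕ)).dvd_of_dvd_mul_left h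
    exact h'.trans ((Nat.gcd_dvd_left _ _).trans (dvd_mul_right 2 p))
  have bad : ∀ x ∈ R, x ≠ 1 → x ≠ -1 → x * (a * x * a⁻¹) = (a * x * a⁻¹) * x → False := by
    intro x hx h1 h2 hc
    have hxr := hreg x hx h1 h2
    rcases eq_or_eq_inv_of_trace hxr (mem_cent_iff.mpr hc) (trace_conj a x) with h | h
    · rcases hfix x hx (mem_cent_iff.mpr (mul_inv_eq_iff_eq_mul.mp h)) with e | e
      exacts [h1 e, h2 e]
    · have hsq : a * a = -1 := by
        rw [← coe_eq_neg_one_iff, Matrix.SpecialLinearGroup.coe_mul]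
        exact mul_self_of_inverting hxr h
      have h4 := orderOf_of_mul_self h20 hsq
      rw [h4] at hpa
      exact hp ((Nat.prime_dvd_prime_iff_eq hpp Nat.prime_two).mp
        (hpp.dvd_of_dvd_pow (show p ∣ 2 ^ 2 by simpa using hpa)))
  -- `R` is a two-group
  have hR2 : IsPGroup 2 R := by
    rw [IsPGroup.iff_card]
    refine ⟨(Nat.card R).primeFactorsList.length, Nat.eq_prime_pow_of_unique_prime_dvd Nat.card_pos.ne' ?_⟩
    intro r hr hrd
    by_contra hr2
    haveI := Fact.mk hr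
    have hrp : r ≠ p := fun e => hpp.not_dvd_one (Nat.dvd_gcd (e ▸ hrd) dvd_rfl |>.trans (dvd_of_eq hR))
    have hcopA : (Nat.card (Subgroup.zpowers a)).Coprime (Nat.card R) := by
      rw [Nat.card_zpowers, hea]; exact (hR.symm.pow_left e)
    haveI : Group.IsSolvable (Subgroup.zpowers a) := isSolvable_of_comm fun x y => mul_comm' x y
    obtain ⟨P, hP⟩ := CfsgLib.Coprime.exists_invariant_sylow (A := Subgroup.zpowers a) (K := R)
      (Subgroup.zpowers_le.mpr haR) hcopA (Or.inl inferInstance) r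
    set P' := (P : Subgroup R).map R.subtype with hP'
    have hP'p : IsPGroup r P' := P.isPGroup'.map _
    obtain ⟨S, hS⟩ := hP'p.exists_le_sylow
    haveI := Cfsg.Agent.S0262.result p r hr2 hrp S
    haveI : IsCyclic P' := isCyclic_of_injective (Subgroup.inclusion hS) (Subgroup.inclusion_injective hS)
    have hcard : r ∣ Nat.card P' := by
      rw [hP', Subgroup.card_map_of_injective R.subtype_injective]
      exact P.dvd_card_of_dvd_card hrd
    obtain ⟨x, hx⟩ := exists_prime_orderOf_dvd_card' r hcard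
    have hxR : (x : SL(2, F)) ∈ R := Subgroup.map_subtype_le _ x.2
    have hax : a * x * a⁻¹ ∈ P' := (Subgroup.mem_normalizer_iff.mp (hP (Subgroup.mem_zpowers a)) _).mp x.2
    rw [← Subgroup.orderOf_coe] at hx
    refine bad x hxR (fun e => ?_) (fun e => ?_) ?_
    · rw [e, orderOf_one] at hx; exact hr.ne_one hx.symm
    · rw [e, orderOf_neg_one h20] at hx; exact hr2 hx.symm
    · obtain ⟨g, hg⟩ := IsCyclic.exists_generator (α := P')
      obtain ⟨i, hi⟩ := Subgroup.mem_zpowers_iff.mp (hg x)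
      obtain ⟨j, hj⟩ := Subgroup.mem_zpowers_iff.mp (hg ⟨_, hax⟩)
      have := congrArg Subtype.val (show x * ⟨_, hax⟩ = ⟨_, hax⟩ * x by rw [← hj, ← hi]; exact zpow_mul_comm g i j)
      exact this
  -- `R` is quaternion of order eight
  obtain ⟨S, hS⟩ := hR2.exists_le_sylow
  obtain ⟨k, -, ⟨iso⟩⟩ := sylow_two_quaternion hodd S
  let ι : R →* QuaternionGroup (2 ^ k) := iso.toMonoidHom.comp (Subgroup.inclusion hS)
  have hι : Function.Injective ι := iso.injective.comp (Subgroup.inclusion_injective hS)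
  have hnab : ¬ ∀ x y : ι.range, x * y = y * x := by
    intro h
    refine hcomm (b := a) (fun r hr => ?_) rfl
    have hr' : a * r * a⁻¹ ∈ R := (Subgroup.mem_normalizer_iff.mp haR r).mp hr
    have hc : (⟨r, hr⟩ : R) * ⟨_, hr'⟩ = ⟨_, hr'⟩ * ⟨r, hr⟩ :=
      hι (by rw [map_mul, map_mul]; exact congrArg Subtype.val (h ⟨_, ⟨⟨r, hr⟩, rfl⟩⟩ ⟨_, ⟨⟨_, hr'⟩, rfl⟩⟩))
    by_cases h12 : r = 1 ∨ r = -1
    · rcases h12 with rfl | rfl
      · simp
      · exact Subgroup.mem_center_iff.mp neg_one_mem_center a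
    · push Not at h12
      exact (bad r hr h12.1 h12.2 (congrArg Subtype.val hc)).elim
  obtain ⟨j, hj, ⟨iso'⟩⟩ := quaternion_subgroup ι.range hnab
  haveI : NeZero (2 ^ j) := ⟨by positivity⟩
  let φ : R ≃* QuaternionGroup (2 ^ j) := (MonoidHom.ofInjective hι).trans iso'
  have hj1 : j = 1 := by
    by_contra hne
    have hj2 : 4 ≤ 2 ^ j := by
      calc (4 : ℕ) = 2 ^ 2 := by norm_num
        _ ≤ 2 ^ j := Nat.pow_le_pow_right two_pos (by omega)
    set c : R := φ.symm (QuaternionGroup.a 1) with hc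
    have hco : orderOf (c : SL(2, F)) = 2 * 2 ^ j := by
      rw [Subgroup.orderOf_coe, hc, MulEquiv.orderOf_eq, QuaternionGroup.orderOf_a_one]
    have hd : a * c * a⁻¹ ∈ R := (Subgroup.mem_normalizer_iff.mp haR _).mp c.2
    have hdo : orderOf (φ ⟨_, hd⟩) = 2 * 2 ^ j := by
      rw [MulEquiv.orderOf_eq, ← Subgroup.orderOf_coe, ← hco]
      exact MulEquiv.orderOf_eq (MulAut.conj a) _
    refine bad c c.2 (fun e => ?_) (fun e => ?_) ?_
    · rw [e, orderOf_one] at hco; omega
    · rw [e, orderOf_neg_one h20] at hco; omega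
    rcases hcase : φ ⟨_, hd⟩ with i | i
    · have : c * ⟨_, hd⟩ = ⟨_, hd⟩ * c := φ.injective (by
        rw [map_mul, map_mul, hcase, hc, φ.apply_symm_apply, QuaternionGroup.a_mul_a,
          QuaternionGroup.a_mul_a, add_comm])
      exact congrArg Subtype.val this
    · rw [hcase, QuaternionGroup.orderOf_xa] at hdo; omega
  subst hj1
  let f : Q8 ≃* R := φ.symm
  -- the automorphism induced by `a` has order three
  let H := R ⊔ Subgroup.zpowers a
  have hle : R ≤ H := le_sup_left
  let Q := R.subgroupOf H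
  haveI hQn : Q.Normal := (Subgroup.normal_subgroupOf_iff_le_normalizer hle).mpr
    (sup_le Subgroup.le_normalizer (Subgroup.zpowers_le.mpr haR))
  let f' : Q8 ≃* Q := f.trans (Subgroup.subgroupOfEquivOfLe hle).symm
  let g : H := ⟨a, Subgroup.mem_sup_right (Subgroup.mem_zpowers a)⟩
  let α : MulAut Q8 := (MulAut.congr f'.symm) (MulAut.conjNormal g)
  have hα : ∀ x, ((f (α x) : R) : SL(2, F)) = a * (f x : SL(2, F)) * a⁻¹ := by
    intro x
    have : f' (α x) = MulAut.conjNormal g (f' x) := by simp [α, MulAut.congr]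
    have h := congrArg (fun z : Q => ((z : H) : SL(2, F))) this
    simp only [MulAut.conjNormal_apply, Subgroup.coe_mul, Subgroup.coe_inv] at h
    exact h
  have hαpow : ∀ (m : ℕ) x, ((f ((α ^ m) x) : R) : SL(2, F)) = a ^ m * (f x : SL(2, F)) * (a ^ m)⁻¹ := by
    intro m
    induction m with
    | zero => intro x; simp
    | succ m ih =>
      intro x
      rw [pow_succ', MulAut.mul_apply, hα, ih, pow_succ' a m, _root_.mul_inv_rev]
      group
  have hαne : α ≠ 1 := by
    intro h
    refine hcomm (b := a) (fun r hr => ?_) rfl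
    have := hα (f.symm ⟨r, hr⟩)
    rw [h, MulAut.one_apply, MulEquiv.apply_symm_apply] at this
    exact (eq_mul_inv_iff_mul_eq.mp this).symm
  have hαp : α ^ p ^ e = 1 := by
    ext x : 1
    refine f.injective (Subtype.ext ?_)
    rw [hαpow, ← hea, pow_orderOf_eq_one]
    simp
  have hα3 : α ^ 3 = 1 := by
    rcases Cfsg.Agent.S0106.exists_conj_theta α with h | ⟨s, hs, hsθ⟩
    · exfalso
      refine hαne (orderOf_eq_one_iff.mp (Nat.dvd_one.mp ?_))
      have hcop : Nat.Coprime (p ^ e) (2 ^ 2) := Nat.Coprime.pow _ _ hcop2.symm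
      exact hcop ▸ Nat.dvd_gcd (orderOf_dvd_of_pow_eq_one hαp) (orderOf_dvd_of_pow_eq_one h)
    · have hsurj := Finite.surjective_of_injective hs
      ext y : 1
      obtain ⟨x, rfl⟩ := hsurj y
      rw [pow_succ, pow_two, MulAut.mul_apply, MulAut.mul_apply, hsθ, hsθ, hsθ]
      exact congrArg s (Cfsg.Agent.S0106.theta_three x)
  have hp3 : p = 3 := by
    by_contra h3
    refine hαne (orderOf_eq_one_iff.mp (Nat.dvd_one.mp ?_))
    have hcop : Nat.Coprime (p ^ e) 3 := Nat.Coprime.pow_left _ ((Nat.coprime_primes hpp Nat.prime_three).mpr h3)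
    exact hcop ▸ Nat.dvd_gcd (orderOf_dvd_of_pow_eq_one hαp) (orderOf_dvd_of_pow_eq_one hα3)
  have ha3 : a ^ 3 = 1 := by
    have hcen : ∀ r ∈ R, a ^ 3 * r = r * a ^ 3 := by
      intro r hr
      have := hαpow 3 (f.symm ⟨r, hr⟩)
      rw [hα3, MulAut.one_apply, MulEquiv.apply_symm_apply] at this
      exact (eq_mul_inv_iff_mul_eq.mp this).symm
    by_cases hns : NonScalar ((a ^ 3 : SL(2, F)) : Matrix (Fin 2) (Fin 2) F)
    · exfalso
      refine hnab fun x y => ?_
      obtain ⟨_, u, rfl⟩ := x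
      obtain ⟨_, v, rfl⟩ := y
      have : u * v = v * u := Subtype.ext (cent_comm hns (mem_cent_iff.mpr (hcen u u.2)) (mem_cent_iff.mpr (hcen v v.2)))
      exact Subtype.ext (by show ι u * ι v = ι v * ι u; rw [← map_mul, ← map_mul, this])
    · rcases eq_one_or_eq_neg_one_of_mem_center _ ((mem_center_iff_not_nonScalar _).mpr hns) with h | h
      · exact h
      · exfalso
        have hd : orderOf (a ^ 3) ∣ p ^ e := hea ▸ orderOf_pow_dvd 3
        rw [h, orderOf_neg_one h20] at hd
        exact hp ((Nat.prime_dvd_prime_iff_eq Nat.prime_two hpp).mp (Nat.prime_two.dvd_of_dvd_pow hd)).symm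
  have ho : orderOf g = 3 := by
    rw [← Subgroup.orderOf_coe]; exact orderOf_eq_prime ha3 ha1
  have hgQ : g ∉ Subgroup.centralizer (Q : Set H) := by
    intro hg
    refine hcomm (b := a) (fun r hr => ?_) rfl
    exact (congrArg Subtype.val (Subgroup.mem_centralizer_iff.mp hg ⟨r, hle hr⟩ hr)).symm
  obtain ⟨Φ, hΦ⟩ := CfsgLib.TransLinear.exists_slTwoThree f' ho hgQ
  refine ⟨hp3, ⟨φ⟩, ⟨(MulEquiv.ofBijective Φ ?_).symm⟩⟩
  rw [Nat.bijective_iff_injective_and_card]
  refine ⟨hΦ, le_antisymm (Nat.card_le_card_of_injective Φ hΦ) ?_⟩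
  have h24 : Nat.card (Matrix.SpecialLinearGroup (Fin 2) (ZMod 3)) = 24 := by
    rw [CfsgLib.Classical.card_SL_two]; simp
  rw [h24, ← Subgroup.card_mul_index Q, ← Nat.card_congr f'.toEquiv, Nat.card_eq_fintype_card (α := Q8),
    QuaternionGroup.card]
  have h3 : Q.index ≤ 3 := by
    have hsurj : Function.Surjective ((QuotientGroup.mk' Q).comp (Subgroup.zpowers g).subtype) := by
      intro x
      obtain ⟨⟨y, hy⟩, rfl⟩ := QuotientGroup.mk'_surjective Q x
      suffices h : ∀ z ∈ R ⊔ Subgroup.zpowers a, ∃ hz : z ∈ H, QuotientGroup.mk' Q ⟨z, hz⟩ ∈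
          ((QuotientGroup.mk' Q).comp (Subgroup.zpowers g).subtype).range by
        obtain ⟨_, h⟩ := h y hy
        exact h
      intro z hz
      rw [Subgroup.sup_eq_closure] at hz
      induction hz using Subgroup.closure_induction with
      | mem w hw =>
        rcases hw with hw | hw
        · exact ⟨hle hw, 1, by rw [map_one]; exact ((QuotientGroup.eq_one_iff (N := Q) ⟨w, hle hw⟩).mpr hw).symm⟩
        · obtain ⟨i, rfl⟩ := Subgroup.mem_zpowers_iff.mp hw
          exact ⟨Subgroup.mem_sup_right hw, ⟨g ^ i, Subgroup.zpow_mem _ (Subgroup.mem_zpowers g) i⟩, rfl⟩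
      | one => exact ⟨one_mem _, 1, rfl⟩
      | mul u v _ _ hu hv =>
        obtain ⟨hu, hu'⟩ := hu
        obtain ⟨hv, hv'⟩ := hv
        exact ⟨mul_mem hu hv, Subgroup.mul_mem _ hu' hv'⟩
      | inv u _ hu =>
        obtain ⟨hu, hu'⟩ := hu
        exact ⟨inv_mem hu, Subgroup.inv_mem _ hu'⟩
    have := Nat.card_le_card_of_surjective _ hsurj
    rw [Nat.card_zpowers, ho] at this
    exact this
  omega

end Cfsg.Agent.S3740
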