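import Cfsg.Statements.S3741
import Mathlib
-- import your own Cfsg.Agent.* helpers here

set_option autoImplicit false
open Cfsg
open scoped commutatorElement

namespace Cfsg.Agent.S3741

/-- One half of the symmetry. -/
theorem relIndex_le {G : Type*} [Group G] [Finite G] {p : ℕ} [Fact p.Prime] (hG : IsPGroup p G)
    (A B : Subgroup G) (hAB : ⁅A, B⁆ ≤ A ⊓ B) (hcard : Nat.card ↥⁅A, B⁆ ≤ p) :
    (B ⊓ Subgroup.centralizer (A : Set G)).relIndex B ≤
      (A ⊓ Subgroup.centralizer (B : Set G)).relIndex A := by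
  classical
  have hp : p.Prime := Fact.out
  let Z := ⁅A, B⁆
  have hZ : ∀ g ∈ A ⊔ B, ∀ z ∈ Z, g * z = z * g := by
    intro g hg z hz
    let H := Subgroup.normalizer (Z : Set G)
    let c : H →* MulAut Z := Z.normalizerMonoidHom
    have hgH : g ∈ H := sup_le (Subgroup.normalizer_commutator_ge_left A B)
      (Subgroup.normalizer_commutator_ge_right A B) hg
    have hone : c ⟨g, hgH⟩ = 1 := by
      obtain ⟨k, hk⟩ := IsPGroup.iff_card.mp (hG.to_subgroup Z)
      have hk1 : k ≤ 1 := by
        by_contra h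
        have h2 : p ^ 2 ≤ p ^ k := Nat.pow_le_pow_right hp.pos (by omega)
        rw [← hk, pow_two] at h2
        have := hp.two_le
        nlinarith
      obtain ⟨e, he⟩ := IsPGroup.iff_orderOf.mp hG g
      have h1 : c ⟨g, hgH⟩ ^ (p ^ e) = 1 := by
        rw [← map_pow]
        convert map_one c
        ext; simp [← he, pow_orderOf_eq_one]
      have h2 : c ⟨g, hgH⟩ ^ Nat.card (MulAut Z) = 1 := pow_card_eq_one'
      have hcyc : IsCyclic Z := by
        interval_cases k
        · have : Subsingleton Z := (Nat.card_eq_one_iff_unique.mp (by simpa using hk)).1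
          infer_instance
        · exact isCyclic_of_prime_card (by simpa using hk)
      have hcop : (p ^ e).Coprime (Nat.card (MulAut Z)) := by
        rw [IsCyclic.card_mulAut, hk]
        interval_cases k
        · simp
        · rw [pow_one, Nat.totient_prime hp]
          exact Nat.Coprime.pow_left _ (Nat.coprime_self_sub_right hp.one_le |>.mpr (Nat.coprime_one_right _))
      have h3 := pow_gcd_eq_one.mpr ⟨h1, h2⟩
      rwa [hcop.gcd_eq_one, pow_one] at h3
    have h := congrArg Subtype.val (DFunLike.congr_fun hone (⟨z, hz⟩ : Z))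
    rw [Subgroup.normalizerMonoidHom_apply_apply_coe, MulAut.one_apply] at h
    calc g * z = (g * z * g⁻¹) * g := by group
      _ = z * g := by rw [h]
  have hmem : ∀ a ∈ A, ∀ b ∈ B, ⁅a, b⁆ ∈ Z := fun a ha b hb => Subgroup.commutator_mem_commutator ha hb
  have hl : ∀ a ∈ A, ∀ a' ∈ A, ∀ b ∈ B, ⁅a * a', b⁆ = ⁅a, b⁆ * ⁅a', b⁆ := fun a ha a' ha' b hb => by
    rw [commutatorElement_mul_left_eq_conj_mul, hZ a (le_sup_left (a := A) ha) _ (hmem a' ha' b hb),
      mul_inv_cancel_right, hZ ⁅a', b⁆ (le_sup_left (a := A) (hAB (hmem a' ha' b hb)).1) _ (hmem a ha b hb)]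
  have hr : ∀ a ∈ A, ∀ b ∈ B, ∀ b' ∈ B, ⁅a, b * b'⁆ = ⁅a, b⁆ * ⁅a, b'⁆ := fun a ha b hb b' hb' => by
    rw [commutatorElement_mul_right_eq_mul_conj, mul_assoc ⁅a, b⁆ b, hZ b (le_sup_right (b := B) hb) _ (hmem a ha b' hb'),
      ← mul_assoc, mul_inv_cancel_right]
  let : CommGroup Z :=
    { (inferInstance : Group Z) with
      mul_comm := fun x y => Subtype.ext (hZ x (le_sup_left (a := A) (hAB x.2).1) y y.2) }
  let L : A →* (B → Z) :=
    { toFun := fun a b => ⟨⁅(a : G), (b : G)⁆, hmem a a.2 b b.2⟩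
      map_one' := funext fun b => Subtype.ext (commutatorElement_one_left _)
      map_mul' := fun a a' => funext fun b => Subtype.ext (hl a a.2 a' a'.2 b b.2) }
  let R : B →* (A → Z) :=
    { toFun := fun b a => ⟨⁅(a : G), (b : G)⁆, hmem a a.2 b b.2⟩
      map_one' := funext fun b => Subtype.ext (commutatorElement_one_right _)
      map_mul' := fun b b' => funext fun a => Subtype.ext (hr a a.2 b b.2 b' b'.2) }
  have kL : L.ker = (A ⊓ Subgroup.centralizer (B : Set G)).subgroupOf A := by
    ext a
    simp only [MonoidHom.mem_ker, Subgroup.mem_subgroupOf, Subgroup.mem_inf, SetLike.coe_mem, true_and,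
      Subgroup.mem_centralizer_iff, SetLike.mem_coe, funext_iff, Subtype.forall]
    exact ⟨fun h b hb => ((commutatorElement_eq_one_iff_mul_comm (G := G)).mp (congrArg Subtype.val (h b hb))).symm,
      fun h b hb => Subtype.ext ((commutatorElement_eq_one_iff_mul_comm (G := G)).mpr (h b hb).symm)⟩
  have kR : R.ker = (B ⊓ Subgroup.centralizer (A : Set G)).subgroupOf B := by
    ext b
    simp only [MonoidHom.mem_ker, Subgroup.mem_subgroupOf, Subgroup.mem_inf, SetLike.coe_mem, true_and,
      Subgroup.mem_centralizer_iff, SetLike.mem_coe, funext_iff, Subtype.forall]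
    exact ⟨fun h a ha => (commutatorElement_eq_one_iff_mul_comm (G := G)).mp (congrArg Subtype.val (h a ha)),
      fun h a ha => Subtype.ext ((commutatorElement_eq_one_iff_mul_comm (G := G)).mpr (h a ha))⟩
  rw [Subgroup.relIndex, Subgroup.relIndex, ← kL, ← kR, Subgroup.index_ker, Subgroup.index_ker]
  -- R(B) embeds in Hom(L(A), Z)
  obtain ⟨ι, hι⟩ : ∃ ι : Z →* ℂˣ, Function.Injective ι := by
    have hcyc : IsCyclic Z := by
      obtain ⟨k, hk⟩ := IsPGroup.iff_card.mp (hG.to_subgroup Z)
      rcases k with _ | _ | k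
      · have : Subsingleton Z := (Nat.card_eq_one_iff_unique.mp (by simpa using hk)).1
        infer_instance
      · exact isCyclic_of_prime_card (by simpa using hk)
      · have h2 : p ^ 2 ≤ p ^ (k + 2) := Nat.pow_le_pow_right hp.pos (by omega)
        rw [← hk, pow_two] at h2
        have := hp.two_le
        nlinarith
    have : NeZero (Nat.card Z) := ⟨Nat.card_pos.ne'⟩
    have hr : IsCyclic (rootsOfUnity (Nat.card Z) ℂ) := inferInstance
    have e := mulEquivOfCyclicCardEq (G := Z) (G' := rootsOfUnity (Nat.card Z) ℂ)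
      (by rw [HasEnoughRootsOfUnity.natCard_rootsOfUnity])
    exact ⟨(rootsOfUnity (Nat.card Z) ℂ).subtype.comp e.toMonoidHom,
      (Subgroup.subtype_injective _).comp e.injective⟩
  let Φ : B → (L.range →* ℂˣ) := fun b =>
    { toFun := fun f => ι ((f : B → Z) b)
      map_one' := by simp
      map_mul' := fun f g => by simp }
  refine le_trans ?_ (CommGroup.card_monoidHom_of_hasEnoughRootsOfUnity L.range ℂ).le
  refine Nat.card_le_card_of_injective (fun r => Φ (Classical.choose r.2)) fun r r' h => ?_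
  refine Subtype.ext (funext fun a => hι ?_)
  rw [← Classical.choose_spec r.2, ← Classical.choose_spec r'.2]
  exact DFunLike.congr_fun h ⟨L a, a, rfl⟩

/-- Let A and B be subgroups of a finite p-group with [A, B] ≤ A ∩ B and [A, B] of order at most p. Then |A : C_A(B)| = |B : C_B(A)|. -/
theorem result {G : Type*} [Group G] [Finite G] {p : ℕ} [Fact p.Prime] (hG : IsPGroup p G) (A B : Subgroup G) (hAB : ⁅A, B⁆ ≤ A ⊓ B) (hcard : Nat.card ↥⁅A, B⁆ ≤ p) : (A ⊓ Subgroup.centralizer (B : Set G)).relIndex A = (B ⊓ Subgroup.centralizer (A : Set G)).relIndex B := by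
  refine le_antisymm ?_ (relIndex_le hG A B hAB hcard)
  exact relIndex_le hG B A (by rw [Subgroup.commutator_comm, inf_comm]; exact hAB)
    (by rw [Subgroup.commutator_comm]; exact hcard)

end Cfsg.Agent.S3741
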