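import Cfsg.Statements.S3744
import Cfsg.Agent.Lib.Hall.Basic
import Cfsg.Agent.Lib.PSolvable.Core

set_option autoImplicit false
open Cfsg

namespace Cfsg.Agent.S3744

open scoped Pointwise
open CfsgLib.Coprime CfsgLib.Hall

universe u

theorem exists_normal_factor {G : Type*} [Group G] [Finite G] [Nontrivial G] {p : ℕ} [Fact p.Prime]
    (hG : Cfsg.IsPSolvable p G) :
    ∃ N : Subgroup G, N.Normal ∧ N ≠ ⊥ ∧ ((∃ i, Nat.card N = p ^ i) ∨ (Nat.card N).Coprime p) := by
  obtain ⟨n, C, h0, hlast, -, hn, hfac⟩ := hG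
  by_contra hne
  push Not at hne
  have : ∀ i : Fin (n + 1), C i = ⊥ := by
    intro i
    induction i using Fin.induction with
    | zero => exact h0
    | succ i ih =>
      by_contra h
      rcases hfac i with ⟨m, hm⟩ | hm
      · rw [ih, Subgroup.relIndex_bot_left] at hm
        exact (hne _ (hn i.succ) h).1 m hm
      · rw [ih, Subgroup.relIndex_bot_left] at hm
        exact (hne _ (hn i.succ) h).2 hm
  exact bot_ne_top ((this (Fin.last n)).symm.trans hlast)

theorem psolvable_hall (k : ℕ) : ∀ {G : Type u} [Group G] [Finite G] {p : ℕ} [Fact p.Prime],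
    Nat.card G = k → Cfsg.IsPSolvable p G → ∀ m e : ℕ, Nat.card G = p ^ e * m → p.Coprime m →
    (∃ H : Subgroup G, Nat.card H = m) ∧
    ∀ H K : Subgroup G, Nat.card H = m → (Nat.card K).Coprime p →
      ∃ g : G, K ≤ MulAut.conj g • H := by
  induction k using Nat.strong_induction_on with
  | _ k IH =>
  intro G _ _ p hpf hk hps m e hG hmn
  have hp : p.Prime := hpf.out
  subst hk
  rcases subsingleton_or_nontrivial G with hsub | hnt
  · have h1 : p ^ e * m = 1 := hG ▸ Nat.card_of_subsingleton 1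
    exact ⟨⟨⊥, by rw [Subgroup.card_bot, Nat.eq_one_of_mul_eq_one_left h1]⟩,
      fun H K _ _ => ⟨1, fun x _ => Subsingleton.elim 1 x ▸ one_mem _⟩⟩
  obtain ⟨N, hNn, hNne, hNfac⟩ := exists_normal_factor hps
  haveI := hNn
  set f := QuotientGroup.mk' N
  have hsurj : Function.Surjective f := QuotientGroup.mk'_surjective N
  have hcardG : Nat.card G = Nat.card (G ⧸ N) * Nat.card N :=
    Subgroup.card_eq_card_quotient_mul_card_subgroup N
  have hlt : Nat.card (G ⧸ N) < Nat.card G := by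
    rw [hcardG]
    exact lt_mul_of_one_lt_right Nat.card_pos (N.one_lt_card_iff_ne_bot.mpr hNne)
  have hps' := CfsgLib.PSolvable.isPSolvable_of_surjective f hsurj hps
  have hcomap : ∀ M : Subgroup (G ⧸ N), Nat.card (M.comap f) = Nat.card N * Nat.card M := by
    intro M
    refine Nat.eq_of_mul_eq_mul_right (Nat.pos_of_ne_zero M.index_ne_zero_of_finite) ?_
    rw [mul_assoc, Subgroup.card_mul_index, mul_comm (Nat.card N), ← hcardG,
      ← Subgroup.index_comap_of_surjective _ hsurj, Subgroup.card_mul_index]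
  rcases hNfac with ⟨i, hi⟩ | hNc
  · -- `N` is a `p`-group
    have hie : i ≤ e := by
      have hdvd : p ^ i ∣ p ^ e * m := hG ▸ hi ▸ Subgroup.card_subgroup_dvd_card N
      exact (Nat.pow_dvd_pow_iff_le_right hp.one_lt).mp (Nat.Coprime.dvd_of_dvd_mul_right (hmn.pow_left i) hdvd)
    have hG' : Nat.card (G ⧸ N) = p ^ (e - i) * m := by
      refine Nat.eq_of_mul_eq_mul_left (Nat.card_pos (α := N)) ?_
      rw [mul_comm, ← hcardG, hG, hi, ← mul_assoc, ← pow_add, Nat.add_sub_cancel' hie]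
    obtain ⟨⟨Hb, hHb⟩, hD⟩ := IH _ hlt rfl hps' m (e - i) hG' hmn
    have hNm : (Nat.card N).Coprime m := hi ▸ hmn.pow_left i
    haveI := (IsPGroup.of_card hi).isNilpotent
    refine ⟨?_, fun H K hH hK => ?_⟩
    · have hNX : N ≤ Hb.comap f := fun x hx => by
        rw [Subgroup.mem_comap, QuotientGroup.mk'_apply, (QuotientGroup.eq_one_iff x).mpr hx]
        exact one_mem _
      have hrel : N.relIndex (Hb.comap f) = m := by
        have h1 := relIndex_mul_card_inf N (Hb.comap f)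
        rw [inf_eq_left.mpr hNX, hcomap, hHb, mul_comm] at h1
        exact Nat.eq_of_mul_eq_mul_left Nat.card_pos h1
      obtain ⟨B, -, -, -, hB⟩ := exists_complement_of_coprime (N := N) (S := Hb.comap f)
        Subgroup.le_normalizer_of_normal (by rw [inf_eq_left.mpr hNX, hrel]; exact hNm)
      exact ⟨B, by rw [hB, hrel]⟩
    · have hNK : (Nat.card N).Coprime (Nat.card K) := hi ▸ hK.symm.pow_left i
      have hHm : Nat.card (H.map f) = m := by
        have h1 : (H.map f).comap f = N ⊔ H := by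
          rw [Subgroup.comap_map_eq, QuotientGroup.ker_mk', sup_comm]
        have h2 := card_sup_of_coprime (N := N) (H := H) Subgroup.le_normalizer_of_normal
          (by rw [hH]; exact hNm)
        rw [← h1, hcomap, hH] at h2
        exact Nat.eq_of_mul_eq_mul_left Nat.card_pos h2
      obtain ⟨y, hy⟩ := hD (H.map f) (K.map f) hHm (hK.coprime_dvd_left (K.card_map_dvd f))
      obtain ⟨g, rfl⟩ := hsurj y
      have hle : MulAut.conj g⁻¹ • K ≤ N ⊔ H := by
        intro x hx
        rw [mem_conj_smul_iff, inv_inv] at hx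
        have h1 := hy (Subgroup.mem_map_of_mem f hx)
        rw [mem_conj_smul_iff, ← map_inv, ← map_mul, ← map_mul, ← Subgroup.mem_comap,
          Subgroup.comap_map_eq, QuotientGroup.ker_mk', sup_comm] at h1
        simpa [mul_assoc] using h1
      obtain ⟨x, -, hx⟩ := exists_conj_le_of_complement (N := N) inferInstance (hH.symm ▸ hNm)
        (by rw [card_conj_smul]; exact hNK) hle
      refine ⟨g * x, fun k hk => ?_⟩
      have h3 := hx (conj_mem_conj_smul (g := g⁻¹) hk)
      rw [mem_conj_smul_iff] at h3 ⊢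
      simpa [mul_assoc] using h3
  · -- `N` is a `p'`-group
    obtain ⟨m', rfl⟩ : Nat.card N ∣ m :=
      Nat.Coprime.dvd_of_dvd_mul_left (hNc.pow_right e) (hG ▸ Subgroup.card_subgroup_dvd_card N)
    have hG' : Nat.card (G ⧸ N) = p ^ e * m' := by
      refine Nat.eq_of_mul_eq_mul_left (Nat.card_pos (α := N)) ?_
      rw [mul_comm, ← hcardG, hG]; ring
    obtain ⟨⟨Hb, hHb⟩, hD⟩ := IH _ hlt rfl hps' m' e hG' (hmn.coprime_dvd_right (dvd_mul_left _ _))
    refine ⟨⟨Hb.comap f, by rw [hcomap, hHb]⟩, fun H K hH hK => ?_⟩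
    have hNH : N ≤ H := by
      have h1 := card_sup_mul_card_inf (K := N) (S := H) Subgroup.le_normalizer_of_normal
      have h2 : Nat.card ↥(N ⊔ H) ∣ Nat.card N * Nat.card H := ⟨_, h1.symm⟩
      have h3 : (Nat.card ↥(N ⊔ H)).Coprime (p ^ e) := (Nat.Coprime.coprime_dvd_left h2
        (Nat.Coprime.mul_left hNc (by rw [hH]; exact hmn.symm))).pow_right e
      have h4 : Nat.card ↥(N ⊔ H) ∣ Nat.card N * m' :=
        h3.dvd_of_dvd_mul_left (hG ▸ Subgroup.card_subgroup_dvd_card _)
      exact sup_eq_right.mp (Subgroup.eq_of_le_of_card_ge le_sup_right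
        (hH ▸ Nat.le_of_dvd (hH ▸ Nat.card_pos) h4)).symm
    have hHc : (H.map f).comap f = H := by
      rw [Subgroup.comap_map_eq, QuotientGroup.ker_mk', sup_eq_left.mpr hNH]
    have hHm : Nat.card (H.map f) = m' := by
      refine Nat.eq_of_mul_eq_mul_left (Nat.card_pos (α := N)) ?_
      rw [← hcomap, hHc, hH]
    obtain ⟨y, hy⟩ := hD (H.map f) (K.map f) hHm (hK.coprime_dvd_left (K.card_map_dvd f))
    obtain ⟨g, rfl⟩ := hsurj y
    refine ⟨g, fun x hx => ?_⟩
    have h1 := hy (Subgroup.mem_map_of_mem f hx)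
    rw [mem_conj_smul_iff, ← map_inv, ← map_mul, ← map_mul, ← Subgroup.mem_comap, hHc] at h1
    rwa [mem_conj_smul_iff]

/-- A finite p-soluble group has a p-complement, all its p-complements are conjugate, and every subgroup of order prime to p lies in one of them. Here a p-complement is a subgroup of order prime to p whose index is a power of p. -/
theorem result {G : Type*} [Group G] [Finite G] {p : ℕ} [Fact p.Prime] (hG : Cfsg.IsPSolvable p G) : (∃ H : Subgroup G, (Nat.card H).Coprime p ∧ ∃ n : ℕ, H.index = p ^ n) ∧ (∀ H₁ H₂ : Subgroup G, (Nat.card H₁).Coprime p → (∃ n : ℕ, H₁.index = p ^ n) → (Nat.card H₂).Coprime p → (∃ n : ℕ, H₂.index = p ^ n) → ∃ g : G, H₂ = H₁.map (MulAut.conj g).toMonoidHom) ∧ (∀ U : Subgroup G, (Nat.card U).Coprime p → ∃ H : Subgroup G, (Nat.card H).Coprime p ∧ (∃ n : ℕ, H.index = p ^ n) ∧ ∃ g : G, U.map (MulAut.conj g).toMonoidHom ≤ H) := by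
  have hp : p.Prime := Fact.out
  obtain ⟨e, m, hm, hcard⟩ := Nat.exists_eq_pow_mul_and_not_dvd (Nat.card_pos (α := G)).ne' p hp.ne_one
  have hmn : p.Coprime m := hp.coprime_iff_not_dvd.mpr hm
  obtain ⟨⟨H₀, hH₀⟩, hD⟩ := psolvable_hall _ rfl hG m e hcard hmn
  have hidx₀ : H₀.index = p ^ e := by
    refine Nat.eq_of_mul_eq_mul_left (Nat.card_pos (α := H₀)) ?_
    rw [H₀.card_mul_index, hcard, hH₀, mul_comm]
  have hchar : ∀ H : Subgroup G, (Nat.card H).Coprime p → (∃ n : ℕ, H.index = p ^ n) → Nat.card H = m := by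
    rintro H hH ⟨n, hn⟩
    refine Nat.dvd_antisymm ((hH.pow_right e).dvd_of_dvd_mul_left (hcard ▸ H.card_subgroup_dvd_card)) ?_
    refine (hmn.symm.pow_right n).dvd_of_dvd_mul_right ?_
    rw [← hn, H.card_mul_index, hcard]
    exact dvd_mul_left _ _
  refine ⟨⟨H₀, hH₀.symm ▸ hmn.symm, e, hidx₀⟩, fun H₁ H₂ h1 h1' h2 h2' => ?_, fun U hU => ?_⟩
  · obtain ⟨g, hg⟩ := hD H₁ H₂ (hchar H₁ h1 h1') h2
    refine ⟨g, ?_⟩
    rw [← conj_smul_eq_map]
    exact Subgroup.eq_of_le_of_card_ge hg (by rw [card_conj_smul, hchar H₁ h1 h1', hchar H₂ h2 h2'])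
  · obtain ⟨g, hg⟩ := hD H₀ U hH₀ hU
    refine ⟨H₀, hH₀.symm ▸ hmn.symm, ⟨e, hidx₀⟩, g⁻¹, ?_⟩
    rw [← conj_smul_eq_map]
    intro x hx
    rw [mem_conj_smul_iff, inv_inv] at hx
    have h3 := hg hx
    rw [mem_conj_smul_iff] at h3
    simpa [mul_assoc] using h3
end Cfsg.Agent.S3744
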