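import Cfsg.Statements.S3745
import Cfsg.Agent.Lib.Hall.Invariant

set_option autoImplicit false
open Cfsg

namespace Cfsg.Agent.S3745

theorem hall_iff {X : Type*} [Group X] [Finite X] {π : Set ℕ} {H G : Subgroup X} {m n : ℕ}
    (hG : Nat.card G = m * n) (hm : ∀ p : ℕ, p.Prime → p ∣ m → p ∈ π)
    (hn : ∀ p : ℕ, p.Prime → p ∣ n → p ∉ π) :
    Cfsg.IsPiHallOf π H G ↔ H ≤ G ∧ Nat.card H = m := by
  have hmul : ∀ {H : Subgroup X}, H ≤ G → H.relIndex G * Nat.card H = m * n := by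
    intro H hH
    have := CfsgLib.Coprime.relIndex_mul_card_inf H G
    rwa [inf_eq_left.mpr hH, hG] at this
  constructor
  · rintro ⟨hle, h1, h2⟩
    have c1 : (Nat.card H).Coprime n := Nat.coprime_of_dvd fun p hp a b => hn p hp b (h1 p hp a)
    have c2 : m.Coprime (H.relIndex G) := Nat.coprime_of_dvd fun p hp a b => h2 p hp (hm p hp a) b
    exact ⟨hle, Nat.dvd_antisymm (c1.dvd_of_dvd_mul_right (Dvd.intro_left _ (hmul hle)))
      (c2.dvd_of_dvd_mul_left (Dvd.intro _ (hmul hle).symm))⟩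
  · rintro ⟨hle, hc⟩
    refine ⟨hle, fun p hp h => hm p hp (hc ▸ h), fun p hp hpπ h => hn p hp ?_ hpπ⟩
    have := hmul hle
    rw [hc, mul_comm] at this
    exact h.trans (dvd_of_eq (Nat.eq_of_mul_eq_mul_left (Nat.pos_of_ne_zero fun e => Nat.card_pos.ne' (hc.trans e)) this))

/-- Coprime action on a solvable group and Hall subgroups. Let A and G be subgroups of a finite group with A normalizing G, the orders of A and G coprime, and G solvable, and let π be a set of primes. Then (a) G has an A-invariant Hall π-subgroup; (b) any two A-invariant Hall π-subgroups of G are conjugate by an element of C_G(A); (c) every A-invariant π-subgroup of G lies in an A-invariant Hall π-subgroup of G. -/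
theorem result {X : Type*} [Group X] [Finite X] (A G : Subgroup X) (hAG : A ≤ Subgroup.normalizer (G : Set X)) (hcop : (Nat.card A).Coprime (Nat.card G)) (hsolv : Group.IsSolvable G) (π : Set ℕ) : (∃ H : Subgroup X, Cfsg.IsPiHallOf π H G ∧ A ≤ Subgroup.normalizer (H : Set X)) ∧ (∀ H₁ H₂ : Subgroup X, Cfsg.IsPiHallOf π H₁ G → A ≤ Subgroup.normalizer (H₁ : Set X) → Cfsg.IsPiHallOf π H₂ G → A ≤ Subgroup.normalizer (H₂ : Set X) → ∃ c ∈ G ⊓ Subgroup.centralizer (A : Set X), H₂ = H₁.map (MulAut.conj c).toMonoidHom) ∧ (∀ U : Subgroup X, U ≤ G → A ≤ Subgroup.normalizer (U : Set X) → (∀ p : ℕ, p.Prime → p ∣ Nat.card U → p ∈ π) → ∃ H : Subgroup X, Cfsg.IsPiHallOf π H G ∧ A ≤ Subgroup.normalizer (H : Set X) ∧ U ≤ H) := by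
  obtain ⟨m, n, hG, hmn, hm, hn⟩ := CfsgLib.Hall.exists_pi_split π (Nat.card_pos (α := G)).ne'
  refine ⟨?_, ?_, ?_⟩
  · obtain ⟨H, h1, h2, h3⟩ := CfsgLib.Hall.exists_invariant_hall hAG hcop hsolv hG hmn
    exact ⟨H, (hall_iff hG hm hn).mpr ⟨h1, h2⟩, h3⟩
  · intro H₁ H₂ h1 a1 h2 a2
    obtain ⟨l1, c1⟩ := (hall_iff hG hm hn).mp h1
    obtain ⟨l2, c2⟩ := (hall_iff hG hm hn).mp h2
    obtain ⟨c, hc, hce⟩ := CfsgLib.Hall.invariant_hall_conj hAG hcop hsolv hG hmn l1 l2 c1 c2 a1 a2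
    exact ⟨c, hc, hce.symm⟩
  · intro U hUG hUA hUπ
    obtain ⟨H, h1, h2, h3, h4⟩ := CfsgLib.Hall.exists_invariant_hall_ge hAG hcop hsolv hG hmn hUG hUA
      (Nat.coprime_of_dvd fun p hp a b => hn p hp b (hUπ p hp a))
    exact ⟨H, (hall_iff hG hm hn).mpr ⟨h1, h2⟩, h3, h4⟩
end Cfsg.Agent.S3745
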