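import Cfsg.Statements.S3746
import Cfsg.Agent.Lib.Layer.Basic
-- import your own Cfsg.Agent.* helpers here

set_option autoImplicit false
open Cfsg CfsgLib
open scoped commutatorElement

namespace Cfsg.Agent.S3746

/-- Let Z ≤ Z(G) be a central subgroup of a finite group G and E a subgroup of G containing Z whose image E/Z is a component of G/Z (subnormal and quasisimple). Then the derived subgroup [E, E] is a component of G. -/
theorem result {G : Type*} [Group G] [Finite G] (Z : Subgroup G) (hZ : Z ≤ Subgroup.center G) [Z.Normal] (E : Subgroup G) (hZE : Z ≤ E) (hE : Cfsg.IsComponent (E.map (QuotientGroup.mk' Z))) : Cfsg.IsComponent ⁅E, E⁆ := by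
  classical
  let f := QuotientGroup.mk' Z
  let D : Subgroup G := ⁅E, E⁆
  have hDE : D ≤ E := Subgroup.commutator_le_self E
  have hker : ∀ z : G, f z = 1 → ∀ g, z * g = g * z := fun z hz g =>
    (Subgroup.mem_center_iff.mp (hZ ((QuotientGroup.eq_one_iff z).mp hz)) g).symm
  have hEbar := Layer.isPerfect_of_isComponent hE
  have hfD : D.map f = E.map f := by rw [Subgroup.map_commutator, hEbar]
  have hsplit : ∀ a ∈ E, ∃ d ∈ D, ∃ z, f z = 1 ∧ a = d * z := fun a ha => by
    obtain ⟨d, hd, e⟩ := Subgroup.mem_map.mp (hfD.ge (Subgroup.mem_map_of_mem f ha))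
    exact ⟨d, hd, d⁻¹ * a, by rw [map_mul, map_inv, e, inv_mul_cancel], by group⟩
  have hinv : ∀ a b x y : G, f x = 1 → f y = 1 → ⁅a * x, b * y⁆ = ⁅a, b⁆ := by
    intro a b x y hx hy
    have e1 : ∀ c d z : G, f z = 1 → ⁅c * z, d⁆ = ⁅c, d⁆ := fun c d z hz => by
      rw [commutatorElement_mul_left_eq_conj_mul, commutatorElement_eq_one_iff_mul_comm.mpr (hker z hz d),
        mul_one, mul_inv_cancel, one_mul]
    rw [e1 a _ x hx, commutatorElement_mul_right_eq_mul_conj, commutatorElement_eq_one_iff_mul_comm.mpr ((hker y hy a).symm),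
      mul_one, mul_assoc, mul_inv_cancel, mul_one]
  have hDD : ⁅D, D⁆ = D := by
    refine le_antisymm (Subgroup.commutator_le_self D) ?_
    show ⁅E, E⁆ ≤ _
    rw [Subgroup.commutator_le]
    intro a ha b hb
    obtain ⟨a', ha', x, hx, rfl⟩ := hsplit a ha
    obtain ⟨b', hb', y, hy, rfl⟩ := hsplit b hb
    rw [hinv a' b' x y hx hy]
    exact Subgroup.commutator_mem_commutator ha' hb'
  have : Group.IsPerfect D := Subgroup.isPerfect_iff.mpr hDD
  let g : D →* E.map f := (f.subgroupMap E).comp (Subgroup.inclusion hDE)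
  have hg : Function.Surjective g := by
    rintro ⟨y, hy⟩
    obtain ⟨d, hd, e⟩ := Subgroup.mem_map.mp (hfD.ge hy)
    exact ⟨⟨d, hd⟩, Subtype.ext e⟩
  have : Nontrivial D := by
    have := Layer.nontrivial_of_isQuasisimple hE.2
    exact Function.Surjective.nontrivial hg
  have hgc : ∀ m : D, g m ∈ Subgroup.center (E.map f) → m ∈ Subgroup.center D := by
    intro m hm
    -- m commutes with all commutators, hence with D
    have hz : ∀ d : G, d ∈ D → f ((m : G) * d * (m : G)⁻¹ * d⁻¹) = 1 := fun d hd => by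
      have h := congrArg Subtype.val (Subgroup.mem_center_iff.mp hm (g ⟨d, hd⟩))
      change f d * f m = f m * f d at h
      rw [map_mul, map_mul, map_mul, map_inv, map_inv, ← h]; group
    have hle : ⁅D, D⁆ ≤ Subgroup.centralizer {(m : G)} := by
      rw [Subgroup.commutator_le]
      intro a ha b hb
      rw [Subgroup.mem_centralizer_singleton_iff]
      obtain ⟨x, hx, hxe⟩ : ∃ x, f x = 1 ∧ (m : G) * a * (m : G)⁻¹ = a * x :=
        ⟨a⁻¹ * ((m : G) * a * (m : G)⁻¹), by
          have h := hz a ha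
          rw [map_mul, map_inv, mul_inv_eq_one] at h
          rw [map_mul, map_inv, h, inv_mul_cancel], by group⟩
      obtain ⟨y, hy, hye⟩ : ∃ y, f y = 1 ∧ (m : G) * b * (m : G)⁻¹ = b * y :=
        ⟨b⁻¹ * ((m : G) * b * (m : G)⁻¹), by
          have h := hz b hb
          rw [map_mul, map_inv, mul_inv_eq_one] at h
          rw [map_mul, map_inv, h, inv_mul_cancel], by group⟩
      have e : (m : G) * ⁅a, b⁆ * (m : G)⁻¹ = ⁅a, b⁆ := by
        rw [show (m : G) * ⁅a, b⁆ * (m : G)⁻¹ = ⁅(m : G) * a * (m : G)⁻¹, (m : G) * b * (m : G)⁻¹⁆ by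
          simp only [commutatorElement_def]; group, hxe, hye, hinv a b x y hx hy]
      calc ⁅a, b⁆ * (m : G) = ((m : G) * ⁅a, b⁆ * (m : G)⁻¹) * m := by rw [e]
        _ = _ := by group
    rw [hDD] at hle
    exact Subgroup.mem_center_iff.mpr fun d =>
      Subtype.ext (Subgroup.mem_centralizer_singleton_iff.mp (hle d.2))
  refine ⟨?_, Layer.isQuasisimple_of_normal_le_center fun N hN => ?_⟩
  · refine Subgroup.IsSubnormal.trans hDE ?_ ?_
    · refine Subgroup.Normal.isSubnormal ?_
      exact Subgroup.normal_subgroupOf_iff_le_normalizer hDE |>.mpr (Subgroup.normalizer_commutator_ge_left E E)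
    · have h := Subgroup.IsSubnormal.comap f hE.1
      rwa [Subgroup.comap_map_eq_self (by rw [QuotientGroup.ker_mk']; exact hZE)] at h
  · have := hN.map g hg
    rcases Layer.eq_top_or_le_center_of_normal hE.2 (N.map g) with h | h
    · refine Or.inl (Layer.eq_top_of_sup_center_eq_top (eq_top_iff.mpr fun d _ => ?_))
      obtain ⟨n, hn, e⟩ := Subgroup.mem_map.mp (h.ge (Subgroup.mem_top (g d)))
      have : n⁻¹ * d ∈ Subgroup.center D := hgc _ (by rw [map_mul, map_inv, e, inv_mul_cancel]; exact one_mem _)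
      have h2 := Subgroup.mul_mem_sup hn this
      rwa [mul_inv_cancel_left] at h2
    · exact Or.inr fun n hn => hgc n (h (Subgroup.mem_map_of_mem g hn))

end Cfsg.Agent.S3746
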