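import Cfsg.Statements.S3747
import Cfsg.Agent.Lib.Layer.Basic
-- import your own Cfsg.Agent.* helpers here

set_option autoImplicit false
open Cfsg

namespace Cfsg.Agent.S3747

/-- Let G be a finite group. (a) If K is a component of G with trivial centre, then the normal closure of K in G is a minimal normal subgroup of G. (b) If the Fitting subgroup of G is trivial, then the layer E(G) is generated by the minimal normal subgroups of G. -/
theorem result {G : Type*} [Group G] [Finite G] : (∀ K : Subgroup G, Cfsg.IsComponent K → Subgroup.center ↥K = ⊥ → (Subgroup.normalClosure (K : Set G) ≠ ⊥ ∧ ∀ N : Subgroup G, N.Normal → N ≤ Subgroup.normalClosure (K : Set G) → N = ⊥ ∨ N = Subgroup.normalClosure (K : Set G))) ∧ (Cfsg.fittingSubgroup G = ⊥ → sSup {N : Subgroup G | N ≠ ⊥ ∧ N.Normal ∧ ∀ N' : Subgroup G, N'.Normal → N' ≤ N → N' = ⊥ ∨ N' = N} = Cfsg.layer G) := by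
  classical
  have hcomm : ∀ (L : Subgroup G) (N : Subgroup G), ⁅L, N⁆ = ⊥ → ∀ l ∈ L, ∀ x ∈ N, l * x = x * l :=
    fun L N h l hl x hx => by
      have := Subgroup.mem_centralizer_iff.mp (Subgroup.commutator_eq_bot_iff_le_centralizer.mp h hl) x hx
      exact this.symm
  have key : ∀ (S : Finset (Subgroup G)) (N : Subgroup G),
      (∀ K ∈ S, Cfsg.IsComponent K ∧ Subgroup.center ↥K = ⊥) → (∀ K ∈ S, ⁅K, N⁆ = ⊥) → N ≤ S.sup id → N = ⊥ := by
    intro S
    induction S using Finset.induction with
    | empty => intro N _ _ h; simpa using h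
    | @insert K S hK ih =>
      intro N hS hc h
      refine ih N (fun L hL => hS L (Finset.mem_insert_of_mem hL))
        (fun L hL => hc L (Finset.mem_insert_of_mem hL)) fun x hx => ?_
      have hD : ∀ a ∈ S.sup id, ∀ k ∈ K, a * k = k * a := by
        have : S.sup id ≤ Subgroup.centralizer (K : Set G) := Finset.sup_le fun L hL =>
          Subgroup.commutator_eq_bot_iff_le_centralizer.mp (CfsgLib.Layer.commutator_eq_bot_of_ne
            (hS L (Finset.mem_insert_of_mem hL)).1 (hS K (Finset.mem_insert_self _ _)).1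
            fun e => hK (e ▸ hL))
        exact fun a ha k hk => (Subgroup.mem_centralizer_iff.mp (this ha) k hk).symm
      have hnorm : S.sup id ≤ Subgroup.normalizer (K : Set G) := fun a ha =>
        Subgroup.mem_normalizer_iff.mpr fun k => ⟨fun hk => by
            rw [hD a ha k hk, mul_inv_cancel_right]; exact hk,
          fun hk => by
            have := hD a ha _ hk
            rw [show k = a⁻¹ * (a * k * a⁻¹) * a by group, mul_assoc, ← this, inv_mul_cancel_left]
            exact hk⟩
      have hx' := h hx
      rw [Finset.sup_insert, id, ← SetLike.mem_coe, Subgroup.coe_mul_of_right_le_normalizer_left _ _ hnorm] at hx'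
      obtain ⟨k, hk, a, ha, rfl⟩ := hx'
      suffices hk1 : k = 1 by subst hk1; simpa using ha
      have hz : (⟨k, hk⟩ : K) ∈ Subgroup.center ↥K := Subgroup.mem_center_iff.mpr fun l => Subtype.ext (by
        have h1 := hcomm K N (hc K (Finset.mem_insert_self _ _)) l l.2 _ hx
        have h2 := hD a ha l l.2
        have h3 : (l : G) * k * a = k * l * a := by rw [mul_assoc, h1, mul_assoc, h2, mul_assoc]
        exact mul_right_cancel h3)
      rw [(hS K (Finset.mem_insert_self _ _)).2, Subgroup.mem_bot] at hz
      exact congrArg Subtype.val hz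
  have hmin : ∀ K : Subgroup G, Cfsg.IsComponent K → Subgroup.center ↥K = ⊥ →
      (Subgroup.normalClosure (K : Set G) ≠ ⊥ ∧ ∀ N : Subgroup G, N.Normal → N ≤ Subgroup.normalClosure (K : Set G) →
        N = ⊥ ∨ N = Subgroup.normalClosure (K : Set G)) := fun K hK hZ => by
    refine ⟨fun h => CfsgLib.Layer.ne_bot_of_isComponent hK
      (le_bot_iff.mp (h ▸ (Subgroup.le_normalClosure : K ≤ Subgroup.normalClosure (K : Set G)))), fun N hN hle => ?_⟩
    haveI := hN
    by_cases hKN : K ≤ N
    · exact Or.inr (le_antisymm hle (Subgroup.normalClosure_le_normal hKN))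
    refine Or.inl ?_
    haveI : Fintype G := Fintype.ofFinite G
    let S : Finset (Subgroup G) := Finset.univ.image fun g : G => K.map (MulAut.conj g).toMonoidHom
    refine key S N (fun L hL => ?_) (fun L hL => ?_) (hle.trans ?_)
    · obtain ⟨g, -, rfl⟩ := Finset.mem_image.mp hL
      refine ⟨CfsgLib.Layer.isComponent_map_equiv _ hK, ?_⟩
      let e := Subgroup.equivMapOfInjective K (MulAut.conj g).toMonoidHom (MulAut.conj g).injective
      refine (Subgroup.eq_bot_iff_forall _).mpr fun z hz => e.symm.injective ?_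
      rw [map_one]
      have : e.symm z ∈ Subgroup.center ↥K := Subgroup.mem_center_iff.mpr fun y => e.injective (by
        rw [map_mul, map_mul, e.apply_symm_apply]; exact Subgroup.mem_center_iff.mp hz (e y))
      rwa [hZ, Subgroup.mem_bot] at this
    · obtain ⟨g, -, rfl⟩ := Finset.mem_image.mp hL
      refine (CfsgLib.Layer.le_or_commutator_eq_bot (CfsgLib.Layer.isComponent_map_equiv _ hK)
        hN.isSubnormal).resolve_left fun h => hKN fun x hx => ?_
      have := hN.conj_mem _ (h ⟨x, hx, rfl⟩) g⁻¹
      simpa [mul_assoc] using this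
    · rw [Subgroup.normalClosure, Subgroup.closure_le]
      intro y hy
      obtain ⟨a, ha, hay⟩ := Group.mem_conjugatesOfSet_iff.mp hy
      obtain ⟨g, rfl⟩ := isConj_iff.mp hay
      exact (Finset.le_sup (f := id) (Finset.mem_image_of_mem _ (Finset.mem_univ g)) :
        K.map (MulAut.conj g).toMonoidHom ≤ S.sup id) ⟨a, ha, by simp⟩
  refine ⟨hmin, fun hF => le_antisymm (sSup_le ?_) (sSup_le fun K hK => ?_)⟩
  · rintro N ⟨hN0, hNn, hNm⟩
    haveI := hNn
    rcases hNm (N ⊓ Cfsg.layer G) (Subgroup.normal_inf_normal N _) inf_le_left with h | h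
    · exfalso
      have h1 : ⁅N, Cfsg.layer G⁆ = ⊥ :=
        le_bot_iff.mp (h ▸ le_inf (Subgroup.commutator_le_left N _) (Subgroup.commutator_le_right N _))
      have h2 : N ≤ Cfsg.generalizedFittingSubgroup G := by
        refine le_trans ?_ CfsgLib.Layer.centralizer_generalizedFitting_le
        rw [Cfsg.generalizedFittingSubgroup, hF, sup_bot_eq]
        exact Subgroup.commutator_eq_bot_iff_le_centralizer.mp h1
      rw [Cfsg.generalizedFittingSubgroup, hF, sup_bot_eq] at h2
      exact hN0 (by rwa [inf_eq_left.mpr h2] at h)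
    · exact inf_eq_left.mp h
  · have hZ : Subgroup.center ↥K = ⊥ := by
      refine (Subgroup.map_eq_bot_iff_of_injective _ K.subtype_injective).mp (le_bot_iff.mp (hF ▸ ?_))
      refine CfsgLib.Layer.le_fittingSubgroup_of_isSubnormal ?_ ?_
      · exact (inferInstance : (Subgroup.center ↥K).Normal).isSubnormal.trans' hK.1
      · haveI : Group.IsNilpotent ↥(Subgroup.center ↥K) :=
          @CommGroup.isNilpotent _ { (inferInstance : Group ↥(Subgroup.center ↥K)) with mul_comm := fun a b => Subtype.ext (Subgroup.mem_center_iff.mp b.2 a) }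
        exact Group.nilpotent_of_mulEquiv (G := ↥(Subgroup.center ↥K))
          (Subgroup.equivMapOfInjective (Subgroup.center ↥K) K.subtype K.subtype_injective)
    obtain ⟨h1, h2⟩ := hmin K hK hZ
    exact Subgroup.le_normalClosure.trans (le_sSup ⟨h1, Subgroup.normalClosure_normal,
      fun N hN hle => h2 N hN hle⟩)

end Cfsg.Agent.S3747
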