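import Cfsg.Statements.S3748
import Cfsg.Agent.Lib.Subnormal.Join
import Cfsg.Agent.Lib.Subnormal.Basic
import Cfsg.Agent.Lib.Fitting.Basic

set_option autoImplicit false
set_option linter.style.haveILetI false
open Cfsg

namespace Cfsg.Agent.S3748

open scoped Pointwise

/-- Call a proper subgroup M of G primitive when M = N_G(N) for every non-trivial normal subgroup N of M. If M is a primitive subgroup of the finite group G, then no non-trivial subnormal subgroup of G is contained in M; in particular M ∩ F(G) = 1. -/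
theorem result {G : Type*} [Group G] [Finite G] (M : Subgroup G) (hM : M ≠ ⊤) (hprim : ∀ N : Subgroup G, N ≤ M → M ≤ Subgroup.normalizer (N : Set G) → N ≠ ⊥ → Subgroup.normalizer (N : Set G) = M) : (∀ L : Subgroup G, L.IsSubnormal → L ≤ M → L = ⊥) ∧ M ⊓ Cfsg.fittingSubgroup G = ⊥ := by
  have main : ∀ L : Subgroup G, L.IsSubnormal → L ≤ M → L = ⊥ := by
    intro L hL hLM
    by_contra hL1
    set K := ⨆ X : {X : Subgroup G // X.IsSubnormal ∧ X ≤ M}, X.1 with hK
    have hKs : K.IsSubnormal := CfsgLib.Subnormal.isSubnormal_iSup _ fun X => X.2.1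
    have hKM : K ≤ M := iSup_le fun X => X.2.2
    have hmax : ∀ X : Subgroup G, X.IsSubnormal → X ≤ M → X ≤ K := fun X h1 h2 =>
      le_iSup (fun X : {X : Subgroup G // X.IsSubnormal ∧ X ≤ M} => X.1) ⟨X, h1, h2⟩
    have hne : K ≠ ⊥ := fun e => hL1 (le_bot_iff.mp (e ▸ hmax L hL hLM))
    have hnorm : M ≤ Subgroup.normalizer (K : Set G) := by
      have hmap : ∀ m ∈ M, ∀ x ∈ K, m * x * m⁻¹ ∈ K := by
        intro m hm
        have hle : K.map (MulAut.conj m).toMonoidHom ≤ K := by
          refine hmax _ ?_ ?_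
          · rw [show (MulAut.conj m).toMonoidHom = ((MulAut.conj m : G ≃* G) : G →* G) from rfl,
            Subgroup.map_equiv_eq_comap_symm]
            exact hKs.comap _
          · rintro _ ⟨x, hx, rfl⟩
            exact mul_mem (mul_mem hm (hKM hx)) (inv_mem hm)
        exact fun x hx => hle ⟨x, hx, rfl⟩
      intro m hm
      refine Subgroup.mem_normalizer_iff.mpr fun x => ⟨hmap m hm x, fun h => ?_⟩
      have := hmap m⁻¹ (inv_mem hm) _ h
      rwa [show m⁻¹ * (m * x * m⁻¹) * m⁻¹⁻¹ = x by group] at this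
    have hN := hprim K hKM hnorm hne
    rcases Subgroup.IsSubnormal.iff_eq_top_or_exists.mp hKs with h | ⟨K', hlt, hK', hn⟩
    · exact hM (top_le_iff.mp (h ▸ hKM))
    · have hK'M : K' ≤ M := hN ▸ (Subgroup.normal_subgroupOf_iff_le_normalizer hlt.le).mp hn
      exact hlt.not_ge (hmax K' hK' hK'M)
  refine ⟨main, main _ ?_ inf_le_left⟩
  haveI := CfsgLib.Fitting.fittingSubgroup_normal (G := G)
  haveI := CfsgLib.Fitting.fittingSubgroup_isNilpotent (G := G)
  exact Subgroup.IsSubnormal.trans inf_le_right (CfsgLib.Subnormal.isSubnormal_of_isNilpotent _)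
    (Subgroup.Normal.isSubnormal inferInstance)
end Cfsg.Agent.S3748
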