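import Cfsg.Statements.S3749
import Cfsg.Agent.Lib.Coprime.Action
import Cfsg.Agent.Lib.Fitting.Basic

set_option autoImplicit false
set_option linter.style.haveILetI false
open Cfsg

namespace Cfsg.Agent.S3749

open scoped Pointwise
open CfsgLib.Coprime

/-- Call a proper subgroup M of G primitive when M = N_G(N) for every non-trivial normal subgroup N of M. Let M be a primitive subgroup of the finite group G, p a prime with O_p(M) ≠ 1, and N a normal subgroup of G with M ∩ N = 1. Then p does not divide the order of N; for every prime q there is exactly one Sylow q-subgroup of N normalized by M; and if the order of N has at least two prime divisors then M is not a maximal subgroup of G. -/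
theorem result {G : Type*} [Group G] [Finite G] (M : Subgroup G) (hM : M ≠ ⊤) (hprim : ∀ N : Subgroup G, N ≤ M → M ≤ Subgroup.normalizer (N : Set G) → N ≠ ⊥ → Subgroup.normalizer (N : Set G) = M) {p : ℕ} [Fact p.Prime] (hOp : Cfsg.pCore p ↥M ≠ ⊥) (N : Subgroup G) [N.Normal] (hMN : M ⊓ N = ⊥) : ¬ p ∣ Nat.card N ∧ (∀ q : ℕ, [Fact q.Prime] → ∃! Q : Sylow q ↥N, M ≤ Subgroup.normalizer ((Q : Subgroup ↥N).map N.subtype : Set G)) ∧ ((∃ q r : ℕ, q.Prime ∧ r.Prime ∧ q ≠ r ∧ q ∣ Nat.card N ∧ r ∣ Nat.card N) → ¬ IsCoatom M) := by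
  have hp : p.Prime := Fact.out
  haveI := CfsgLib.Fitting.pCore_normal (G := M) p
  set P0 := (Cfsg.pCore p ↥M).map M.subtype with hP0
  have hP0M : P0 ≤ M := Subgroup.map_subtype_le _
  have hP0p : IsPGroup p P0 := (CfsgLib.Fitting.pCore_isPGroup p).map _
  have hMP0 : M ≤ Subgroup.normalizer (P0 : Set G) := fun m hm => by
    refine Subgroup.le_normalizer_map M.subtype ⟨⟨m, hm⟩, ?_, rfl⟩
    exact Subgroup.le_normalizer_of_normal (Subgroup.mem_top _)
  have hP0ne : P0 ≠ ⊥ := fun e => hOp ((Subgroup.map_eq_bot_iff_of_injective _ M.subtype_injective).mp e)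
  have hNP0 := hprim P0 hP0M hMP0 hP0ne
  have hfpf : ∀ n ∈ N, (∀ u ∈ P0, u * n = n * u) → n = 1 := fun n hn hc => by
    have h1 : n ∈ Subgroup.normalizer (P0 : Set G) := Subgroup.centralizer_le_normalizer _ hc
    rw [hNP0] at h1
    have h2 : n ∈ M ⊓ N := ⟨h1, hn⟩
    rwa [hMN, Subgroup.mem_bot] at h2
  have hAK : P0 ≤ Subgroup.normalizer (N : Set G) := Subgroup.le_normalizer_of_normal
  have hndvd : ¬ p ∣ Nat.card N := by
    intro hd
    letI : MulAction P0 N := MulAction.compHom N ((MulAut.conjNormal (H := N)).comp P0.subtype)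
    obtain ⟨z, hz, hz1⟩ := hP0p.exists_fixed_point_of_prime_dvd_card_of_fixed_point N hd (a := 1)
      (fun u => by show (MulAut.conjNormal (u : G)) (1 : N) = 1; rw [map_one])
    refine hz1 (Subtype.ext (hfpf z z.2 fun u hu => ?_).symm)
    have h3 := congrArg Subtype.val (hz ⟨u, hu⟩)
    change u * (z : G) * u⁻¹ = z at h3
    exact mul_inv_eq_iff_eq_mul.mp h3
  obtain ⟨k, hk⟩ := IsPGroup.iff_card.mp hP0p
  have hcop : (Nat.card P0).Coprime (Nat.card N) := by
    rw [hk]; exact (hp.coprime_iff_not_dvd.mpr hndvd).pow_left k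
  haveI := hP0p.isNilpotent
  have hsolv : Group.IsSolvable P0 ∨ Group.IsSolvable N := Or.inl inferInstance
  have huniq : ∀ (q : ℕ) [Fact q.Prime], ∃! Q : Sylow q ↥N,
      M ≤ Subgroup.normalizer ((Q : Subgroup ↥N).map N.subtype : Set G) := by
    intro q _
    obtain ⟨Q, hQ⟩ := exists_invariant_sylow hAK hcop hsolv q
    have hP0u : ∀ Q' : Sylow q N, P0 ≤ Subgroup.normalizer ((Q' : Subgroup N).map N.subtype : Set G) → Q' = Q := by
      intro Q' hQ'
      obtain ⟨c, hc, hce⟩ := invariant_sylow_conj hAK hcop hsolv Q Q' hQ hQ'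
      have : c = 1 := Subtype.ext (hfpf c c.2 hc)
      rw [this, one_smul] at hce
      exact hce.symm
    refine ⟨Q, fun m hm => ?_, fun Q' hQ' => hP0u Q' (hP0M.trans hQ')⟩
    set L := MulAut.conj m • ((Q : Subgroup N).map N.subtype) with hL
    have hle : L ≤ N := by
      intro x hx
      rw [hL, Subgroup.mem_pointwise_smul_iff_inv_smul_mem] at hx
      have hxN := Subgroup.map_subtype_le (Q : Subgroup N) hx
      have := Subgroup.Normal.conj_mem (inferInstance : N.Normal) _ hxN m
      simpa [MulAut.smul_def, mul_assoc] using this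
    have hcard : Nat.card (L.subgroupOf N) = q ^ (Nat.card N).factorization q := by
      rw [Nat.card_congr (Subgroup.subgroupOfEquivOfLe hle).toEquiv, hL, card_conj_smul,
        Subgroup.card_map_of_injective N.subtype_injective, Q.card_eq_multiplicity]
    have h4 := hP0u (Sylow.ofCard (L.subgroupOf N) hcard) (by
      rw [Sylow.coe_ofCard, Subgroup.map_subgroupOf_eq_of_le hle]
      intro u hu
      refine mem_normalizer_iff_conj_smul.mpr ?_
      have h5 : m⁻¹ * u * m ∈ P0 := (Subgroup.mem_normalizer_iff''.mp (hMP0 hm) u).mp hu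
      rw [hL, ← mul_smul, ← map_mul, show u * m = m * (m⁻¹ * u * m) by group, map_mul, mul_smul,
        conj_smul_eq_self_of_mem_normalizer (hQ h5)])
    refine mem_normalizer_iff_conj_smul.mpr ?_
    have h6 := congrArg (fun S : Sylow q N => (S : Subgroup N).map N.subtype) h4
    simp only [Sylow.coe_ofCard, Subgroup.map_subgroupOf_eq_of_le hle] at h6
    exact h6
  refine ⟨hndvd, huniq, ?_⟩
  rintro ⟨q, r, hq, hr, hqr, hqN, hrN⟩ hMmax
  haveI := Fact.mk hq
  haveI := Fact.mk hr
  obtain ⟨Q, hQ, -⟩ := huniq q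
  set Q' := (Q : Subgroup N).map N.subtype
  have hQN : Q' ≤ N := Subgroup.map_subtype_le _
  have hlt : M < M ⊔ Q' := by
    refine lt_of_le_of_ne le_sup_left fun e => ?_
    have h7 : Q' ≤ M ⊓ N := le_inf (e ▸ le_sup_right) hQN
    rw [hMN, le_bot_iff, Subgroup.map_eq_bot_iff_of_injective _ N.subtype_injective] at h7
    exact Q.ne_bot_of_dvd_card hqN h7
  have htop := hMmax.2 _ hlt
  have hNQ : N ≤ Q' := by
    intro n hn
    have hn' : n ∈ Q' ⊔ M := by rw [sup_comm, htop]; exact Subgroup.mem_top n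
    rw [← SetLike.mem_coe, Subgroup.coe_mul_of_right_le_normalizer_left Q' M hQ, Set.mem_mul] at hn'
    obtain ⟨x, hx, m, hm, rfl⟩ := hn'
    have hmN : m ∈ M ⊓ N := ⟨hm, (Subgroup.mul_mem_cancel_left N (hQN hx)).mp hn⟩
    rw [hMN, Subgroup.mem_bot] at hmN
    rw [hmN, mul_one]; exact hx
  have hdvd : r ∣ Nat.card Q' := hrN.trans (Subgroup.card_dvd_of_le hNQ)
  rw [Subgroup.card_map_of_injective N.subtype_injective, Q.card_eq_multiplicity] at hdvd
  exact hqr ((Nat.prime_dvd_prime_iff_eq hr hq).mp (hr.dvd_of_dvd_pow hdvd)).symm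
end Cfsg.Agent.S3749
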