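import Cfsg.Statements.S3750
import Cfsg.Agent.Lib.Layer.FStar
import Cfsg.Agent.Lib.PSolvable.Core
import Cfsg.Agent.Lib.Coprime.Action
-- import your own Cfsg.Agent.* helpers here

set_option autoImplicit false
open Cfsg

namespace Cfsg.Agent.S3750

/-- Call a proper subgroup M of G primitive when M = N_G(N) for every non-trivial normal subgroup N of M. Let M be a primitive subgroup of the finite group G and N a normal subgroup of G with M ∩ F*(N) ≠ 1. Then F(G) = 1 and F*(N) = F*(G) = E(G); in particular every minimal normal subgroup of G is contained in N. -/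
theorem result {G : Type*} [Group G] [Finite G] (M : Subgroup G) (hM : M ≠ ⊤) (hprim : ∀ N : Subgroup G, N ≤ M → M ≤ Subgroup.normalizer (N : Set G) → N ≠ ⊥ → Subgroup.normalizer (N : Set G) = M) (N : Subgroup G) [N.Normal] (hMF : M ⊓ (Cfsg.generalizedFittingSubgroup ↥N).map N.subtype ≠ ⊥) : Cfsg.fittingSubgroup G = ⊥ ∧ (Cfsg.generalizedFittingSubgroup ↥N).map N.subtype = Cfsg.generalizedFittingSubgroup G ∧ Cfsg.generalizedFittingSubgroup G = Cfsg.layer G ∧ ∀ K : Subgroup G, K.Normal → K ≠ ⊥ → (∀ K' : Subgroup G, K'.Normal → K' ≤ K → K' = ⊥ ∨ K' = K) → K ≤ N := by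
  set A := M ⊓ (Cfsg.generalizedFittingSubgroup ↥N).map N.subtype with hA
  haveI := CfsgLib.Layer.generalizedFitting_normal (G := N)
  have hFn : ((Cfsg.generalizedFittingSubgroup ↥N).map N.subtype).Normal :=
    CfsgLib.PSolvable.normal_map_of_characteristic N _
  have hAN : M ≤ Subgroup.normalizer (A : Set G) :=
    CfsgLib.Coprime.le_normalizer_inf_of_le Subgroup.le_normalizer Subgroup.le_normalizer_of_normal
  have hCA : Subgroup.centralizer (A : Set G) ≤ M :=
    (Subgroup.centralizer_le_normalizer _).trans (hprim A inf_le_left hAN hMF).le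
  have hcore : ∀ K : Subgroup G, K.Normal → K ≤ M → K = ⊥ := by
    intro K hK hKM
    by_contra h
    exact hM ((hprim K hKM (haveI := hK; Subgroup.le_normalizer_of_normal) h).symm.trans
      (Subgroup.normalizer_eq_top_iff.mpr hK))
  have hcent : ∀ K : Subgroup G, K.Normal → ⁅K, (Cfsg.generalizedFittingSubgroup ↥N).map N.subtype⁆ = ⊥ →
      K = ⊥ := by
    intro K hK h
    refine hcore K hK (le_trans ?_ hCA)
    exact (Subgroup.commutator_eq_bot_iff_le_centralizer.mp h).trans
      (Subgroup.centralizer_le inf_le_right)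
  have hmin : ∀ K : Subgroup G, K.Normal → K ≠ ⊥ →
      (∀ K' : Subgroup G, K'.Normal → K' ≤ K → K' = ⊥ ∨ K' = K) →
      K ≤ (Cfsg.generalizedFittingSubgroup ↥N).map N.subtype := by
    intro K hK hK1 hKm
    haveI := hK
    haveI := hFn
    rcases hKm (K ⊓ (Cfsg.generalizedFittingSubgroup ↥N).map N.subtype) inferInstance inf_le_left
      with h | h
    · exact absurd (hcent K hK (le_bot_iff.mp (h ▸ Subgroup.commutator_le_inf _ _))) hK1
    · exact inf_eq_left.mp h
  have hFG : Cfsg.fittingSubgroup G = ⊥ := by
    by_contra hne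
    haveI := CfsgLib.Fitting.fittingSubgroup_normal (G := G)
    -- an abelian minimal normal subgroup inside the centre of the Fitting subgroup
    haveI := (Subgroup.nontrivial_iff_ne_bot _).mpr hne
    haveI := CfsgLib.Fitting.fittingSubgroup_isNilpotent (G := G)
    set Z := (Subgroup.center ↥(Cfsg.fittingSubgroup G)).map (Cfsg.fittingSubgroup G).subtype with hZ
    haveI hZn : Z.Normal := CfsgLib.PSolvable.normal_map_of_characteristic _ _
    have hZ1 : Z ≠ ⊥ := by
      rw [hZ, ne_eq, Subgroup.map_eq_bot_iff_of_injective _ (Cfsg.fittingSubgroup G).subtype_injective,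
        ← ne_eq]
      exact Group.IsNilpotent.center_ne_bot _
    refine hZ1 (hcent Z hZn (Subgroup.commutator_eq_bot_iff_le_centralizer.mpr ?_))
    rw [Cfsg.generalizedFittingSubgroup, Subgroup.map_sup, Subgroup.le_centralizer_iff]
    refine sup_le ?_ ?_
    · refine le_trans (CfsgLib.Layer.map_layer_le (inferInstance : N.Normal).isSubnormal) ?_
      refine Subgroup.le_centralizer_iff.mp ?_
      exact (Subgroup.map_subtype_le _).trans CfsgLib.Layer.fitting_le_centralizer_layer
    · refine le_trans (CfsgLib.Layer.map_fittingSubgroup_le (inferInstance : N.Normal).isSubnormal) ?_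
      rintro x hx _ ⟨z, hz, rfl⟩
      exact congrArg Subtype.val (Subgroup.mem_center_iff.mp hz ⟨x, hx⟩).symm
  have hFN : Cfsg.fittingSubgroup ↥N = ⊥ := by
    rw [← Subgroup.map_eq_bot_iff_of_injective _ N.subtype_injective, ← le_bot_iff, ← hFG]
    exact CfsgLib.Layer.map_fittingSubgroup_le (inferInstance : N.Normal).isSubnormal
  have hlayer : (Cfsg.layer ↥N).map N.subtype = Cfsg.layer G := by
    refine le_antisymm (CfsgLib.Layer.map_layer_le (inferInstance : N.Normal).isSubnormal) ?_
    refine sSup_le fun L hL => ?_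
    rcases CfsgLib.Layer.le_or_commutator_eq_bot hL (inferInstance : N.Normal).isSubnormal with h | h
    · exact CfsgLib.Layer.le_map_layer hL h
    · exfalso
      apply CfsgLib.Layer.ne_bot_of_isComponent hL
      rw [← le_bot_iff, ← hcent (Subgroup.normalClosure (L : Set G)) inferInstance ?_]
      · exact Subgroup.le_normalClosure
      · rw [Subgroup.commutator_eq_bot_iff_le_centralizer]
        haveI := hFn
        haveI : (Subgroup.centralizer (((Cfsg.generalizedFittingSubgroup ↥N).map N.subtype :
          Subgroup G) : Set G)).Normal := Subgroup.normal_centralizer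
        exact Subgroup.normalClosure_le_normal ((Subgroup.commutator_eq_bot_iff_le_centralizer.mp h).trans
          (Subgroup.centralizer_le (Subgroup.map_subtype_le _)))
  refine ⟨hFG, ?_, ?_, fun K hK hK1 hKm => (hmin K hK hK1 hKm).trans (Subgroup.map_subtype_le _)⟩
  · rw [Cfsg.generalizedFittingSubgroup, Cfsg.generalizedFittingSubgroup, hFN, hFG, sup_bot_eq,
      sup_bot_eq, hlayer]
  · rw [Cfsg.generalizedFittingSubgroup, hFG, sup_bot_eq]

end Cfsg.Agent.S3750
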