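import Mathlib
import Cfsg.Statements.S3753
import Cfsg.Agent.Lib.Fusion.DStarNormal
import Cfsg.Agent.Lib.Qd.Facts
import Cfsg.Agent.Lib.Qd.Stable
import Cfsg.Agent.Lib.SL2.Facts
import Cfsg.Agent.Lib.Fitting.Basic

set_option autoImplicit false
set_option linter.style.haveILetI false
set_option linter.unusedVariables false
open scoped MatrixGroups commutatorElement
open Cfsg CfsgLib

namespace Cfsg.Agent.S3753

section Free

variable {X : Type*} [Group X] [Finite X]

/-- Sylow 2-subgroups are commutative. -/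
def AbTwo (X : Type*) [Group X] : Prop :=
  ∀ T : Sylow 2 X, ∀ a ∈ (T : Subgroup X), ∀ b ∈ (T : Subgroup X), a * b = b * a

omit [Finite X] in
theorem AbTwo.subgroup (h : AbTwo X) (K : Subgroup X) : AbTwo K := by
  intro T a ha b hb
  obtain ⟨T', hT'⟩ := (T.2.map K.subtype).exists_le_sylow
  exact Subtype.ext (h T' _ (hT' ⟨a, ha, rfl⟩) _ (hT' ⟨b, hb, rfl⟩))

theorem AbTwo.of_surjective (h : AbTwo X) {Y : Type*} [Group Y] (f : X →* Y)
    (hf : Function.Surjective f) : AbTwo Y := by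
  haveI : Finite Y := Finite.of_surjective f hf
  haveI : Fact (Nat.Prime 2) := ⟨Nat.prime_two⟩
  obtain ⟨T⟩ := (inferInstance : Nonempty (Sylow 2 X))
  intro U a ha b hb
  obtain ⟨g, hg⟩ := MulAction.exists_smul_eq Y (T.mapSurjective hf) U
  have hU : ∀ u ∈ (U : Subgroup Y), ∃ t ∈ (T : Subgroup X), MulAut.conj g (f t) = u := by
    intro u hu
    rw [← hg, Sylow.coe_subgroup_smul, Sylow.coe_mapSurjective] at hu
    obtain ⟨_, ⟨t, ht, rfl⟩, e⟩ := hu
    exact ⟨t, ht, e⟩
  obtain ⟨t, ht, rfl⟩ := hU a ha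
  obtain ⟨s, hs, rfl⟩ := hU b hb
  simp only [← map_mul, h T t ht s hs]

theorem not_abTwo_sl2 {p : ℕ} [Fact p.Prime] (hp : p ≠ 2) : ¬ AbTwo SL(2, ZMod p) := by
  intro h
  obtain ⟨T⟩ := (inferInstance : Nonempty (Sylow 2 SL(2, ZMod p)))
  obtain ⟨k, hk, ⟨e⟩⟩ := SL2.sylow_two_quaternion
    (by rw [Nat.card_zmod]; exact (Fact.out : p.Prime).odd_of_ne_two hp) T
  have h1 := congrArg e (show e.symm (QuaternionGroup.a 1) * e.symm (QuaternionGroup.xa 0) =
    e.symm (QuaternionGroup.xa 0) * e.symm (QuaternionGroup.a 1) from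
      Subtype.ext (h T _ (SetLike.coe_mem _) _ (SetLike.coe_mem _)))
  rw [map_mul, map_mul, e.apply_symm_apply, e.apply_symm_apply, QuaternionGroup.a_mul_xa,
    QuaternionGroup.xa_mul_a] at h1
  have h2 := QuaternionGroup.xa.inj h1
  rw [zero_sub, zero_add, neg_eq_iff_add_eq_zero] at h2
  have h3 : ((2 : ℕ) : ZMod (2 * 2 ^ k)) = 0 := by
    rw [show ((2 : ℕ) : ZMod (2 * 2 ^ k)) = 1 + 1 by norm_num]; exact h2
  rw [ZMod.natCast_eq_zero_iff] at h3
  have := Nat.le_of_dvd two_pos h3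
  have : 2 ≤ 2 ^ k := Nat.le_self_pow (by omega) 2
  omega

theorem stable_of_abTwo {p : ℕ} [Fact p.Prime] (hp : p ≠ 2) (h : AbTwo X) (P : Subgroup X)
    [P.Normal] (hP : IsPGroup p P) : Cfsg.IsPStableOn p P := by
  refine Qd.isPStableOn_of_qdFree hp (fun hi => ?_) P hP
  obtain ⟨K, ψ, hψ⟩ := Offender.exists_hom_of_involves hi
  exact not_abTwo_sl2 hp (((h.subgroup K).of_surjective ψ hψ).of_surjective Qd.pr
    (fun g => ⟨Qd.el g 0, Qd.pr_el g 0⟩))

/-- The last step: an element in `O` centralizing `C` modulo `Q` lies in `Q`. -/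
theorem mem_of_ext {p : ℕ} [Fact p.Prime] {O C : Subgroup X} [O.Normal] [C.Normal]
    (hbot : Cfsg.pCore p X = ⊥) (hOC : ∀ o ∈ O, ∃ k : ℕ, o ^ p ^ k ∈ C) {x : X} (hxO : x ∈ O)
    (hxC : x ∈ Subgroup.centralizer (C : Set X)) {j : ℕ} (hx : x ^ p ^ j = 1) : x = 1 := by
  let T : Subgroup X := O ⊓ Subgroup.centralizer (C : Set X)
  haveI hTn : T.Normal := Subgroup.normal_inf_normal _ _
  let A : Subgroup T := C.subgroupOf T
  haveI : A.Normal := Subgroup.Normal.subgroupOf inferInstance T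
  have hA : A ≤ Subgroup.center T := fun a ha => Subgroup.mem_center_iff.mpr fun t => Subtype.ext
    (Subgroup.mem_centralizer_iff.mp (t.2.2) a ha).symm
  have hq : IsPGroup p (T ⧸ A) := by
    intro y
    induction y using QuotientGroup.induction_on with | _ t => ?_
    obtain ⟨k, hk⟩ := hOC t t.2.1
    refine ⟨k, ?_⟩
    rw [← QuotientGroup.mk_pow, QuotientGroup.eq_one_iff]
    exact hk
  haveI : Group.IsNilpotent (T ⧸ A) := hq.isNilpotent
  haveI hTnil : Group.IsNilpotent T :=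
    Subgroup.isNilpotent_of_ker_le_center (QuotientGroup.mk' A) (by rwa [QuotientGroup.ker_mk'])
  let y : T := ⟨x, hxO, hxC⟩
  obtain ⟨R, hR⟩ := (IsPGroup.of_card (n := 0) (G := (⊥ : Subgroup T)) (p := p) (by simp)).exists_le_sylow
  haveI : (R : Subgroup T).Normal := inferInstance
  haveI := Sylow.characteristic_of_normal R inferInstance
  have hle : (R : Subgroup T).map T.subtype ≤ ⊥ :=
    hbot ▸ Fitting.le_pCore (PSolvable.normal_map_of_characteristic T _) (R.2.map _)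
  have hyR : y ∈ (R : Subgroup T) := by
    have hyp : IsPGroup p (Subgroup.zpowers y) := by
      rintro ⟨z, hz⟩
      obtain ⟨i, rfl⟩ := Subgroup.mem_zpowers_iff.mp hz
      refine ⟨j, Subtype.ext ?_⟩
      have h1 : y ^ p ^ j = 1 := Subtype.ext (by simpa using hx)
      simp only [SubgroupClass.coe_pow, OneMemClass.coe_one]
      rw [← zpow_natCast, ← zpow_mul, mul_comm, zpow_mul, zpow_natCast, h1, one_zpow]
    obtain ⟨R', hR'⟩ := hyp.exists_le_sylow
    haveI := Sylow.unique_of_normal R inferInstance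
    exact (Subsingleton.elim R' R) ▸ hR' (Subgroup.mem_zpowers y)
  exact Subgroup.mem_bot.mp (hle ⟨y, hyR, rfl⟩)

end Free

section Pair

variable {G : Type*} [Group G] [Finite G] {p : ℕ} [Fact p.Prime]

/-- The hypotheses on a pair, indexed by a Boolean. -/
structure Pair (p : ℕ) (M : Bool → Subgroup G) : Prop where
  prim : ∀ (i : Bool) (A : Subgroup G), A ≠ ⊥ → A ≤ M i ⊓ M (!i) →
    M i ≤ Subgroup.normalizer (A : Set G) → M (!i) ⊓ Subgroup.normalizer (A : Set G) ≤ M i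
  cons : ∀ i, Subgroup.centralizer (Cfsg.pCore p ↥(M i) : Set ↥(M i)) ≤ Cfsg.pCore p ↥(M i)
  le : ∀ i, (Cfsg.pCore p ↥(M i)).map (M i).subtype ≤ M (!i)
  stable : ∀ i (P : Subgroup ↥(M i)) [P.Normal], IsPGroup p P → Cfsg.IsPStableOn p P
  ne : ∀ i, ¬ M i ≤ M (!i)

variable (M : Bool → Subgroup G) (p)

/-- The p-core of a member, in G. -/
abbrev Q (i : Bool) : Subgroup G := (Cfsg.pCore p ↥(M i)).map (M i).subtype

/-- D* of a Sylow subgroup of a member, in G. -/
noncomputable def W (i : Bool) : Subgroup G :=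
  (DStar.dStar ((Classical.arbitrary (Sylow p ↥(M i))) : Subgroup ↥(M i))).map (M i).subtype

variable {M} {p}

variable (hp : Pair p M)
include hp

theorem Q_conj {i : Bool} {m x : G} (hm : m ∈ M i) (hx : x ∈ Q p M i) : m * x * m⁻¹ ∈ Q p M i := by
  obtain ⟨y, hy, rfl⟩ := hx
  exact ⟨⟨m, hm⟩ * y * ⟨m, hm⟩⁻¹, (Fitting.pCore_normal p).conj_mem y hy _, rfl⟩

theorem dnormal (i : Bool) (T : Sylow p ↥(M i)) : (DStar.dStar (T : Subgroup ↥(M i))).Normal :=
  DStar.dStar_normal (hp.cons i) (hp.stable i) T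

theorem W_conj {i : Bool} {m x : G} (hm : m ∈ M i) (hx : x ∈ W p M i) : m * x * m⁻¹ ∈ W p M i := by
  obtain ⟨y, hy, rfl⟩ := hx
  exact ⟨⟨m, hm⟩ * y * ⟨m, hm⟩⁻¹, (dnormal hp i _).conj_mem y hy _, rfl⟩

theorem W_le (i : Bool) : W p M i ≤ M i := Subgroup.map_subtype_le _

theorem W_pGroup (i : Bool) : IsPGroup p (W p M i) :=
  ((Sylow.isPGroup' _).to_le (DStar.dStar_le _)).map _

theorem dStar_eq (i : Bool) (T T' : Sylow p ↥(M i)) :
    DStar.dStar (T : Subgroup ↥(M i)) = DStar.dStar (T' : Subgroup ↥(M i)) := by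
  obtain ⟨h, rfl⟩ := MulAction.exists_smul_eq ↥(M i) T T'
  haveI := dnormal hp i T
  rw [Sylow.coe_subgroup_smul]
  show _ = DStar.dStar ((T : Subgroup ↥(M i)).map (MulAut.conj h).toMonoidHom)
  rw [DStar.dStar_map]
  ext z
  constructor
  · intro hz
    exact ⟨h⁻¹ * z * h, by simpa using (dnormal hp i T).conj_mem z hz h⁻¹, by simp [mul_assoc]⟩
  · rintro ⟨y, hy, rfl⟩
    exact (dnormal hp i T).conj_mem y hy h

theorem W_comm (i : Bool) : ∀ x ∈ W p M i, ∀ y ∈ W p M i, Commute x y := by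
  rintro _ ⟨x, hx, rfl⟩ _ ⟨y, hy, rfl⟩
  haveI : Group.IsNilpotent ((Classical.arbitrary (Sylow p ↥(M i)) : Sylow p ↥(M i)) : Subgroup ↥(M i)) :=
    (Sylow.isPGroup' _).isNilpotent
  exact (DStar.dStar_comm _ x hx y hy).map (M i).subtype

/-- An abelian subgroup of `M i` normalized by `Q i` lies in `Q i`. -/
theorem le_Q {i : Bool} {A : Subgroup G} (hA : A ≤ M i) (hAc : ∀ x ∈ A, ∀ y ∈ A, Commute x y)
    (hQ : Q p M i ≤ Subgroup.normalizer (A : Set G)) : A ≤ Q p M i := by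
  intro a ha
  set Y := Cfsg.pCore p ↥(M i) with hY
  haveI := Fitting.pCore_normal (G := ↥(M i)) p
  have hYp : IsPGroup p Y := Fitting.pCore_isPGroup p
  have hnorm : Y ≤ Subgroup.normalizer ((A.subgroupOf (M i) : Subgroup ↥(M i)) : Set ↥(M i)) := by
    intro y hy
    refine Subgroup.mem_normalizer_iff.mpr fun z => ?_
    exact Subgroup.mem_normalizer_iff.mp (hQ ⟨y, hy, rfl⟩) (z : G)
  have h := hp.stable i Y hYp ⟨a, hA ha⟩ (ZJ.quadratic_of_normalizes
    (A := A.subgroupOf (M i)) (fun x hx y hy => Subtype.ext (hAc x hx y hy).eq) hnorm ha)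
  refine ⟨⟨a, hA ha⟩, Fitting.le_pCore (ZJ.opMod_normal p Y) ?_ (ZJ.mem_opMod.2 h), rfl⟩
  intro d
  obtain ⟨k, hk⟩ := ZJ.exists_pow_mem_centralizer Y d.2
  obtain ⟨l, hl⟩ := hYp ⟨_, hp.cons i hk⟩
  refine ⟨k + l, Subtype.ext ?_⟩
  rw [SubgroupClass.coe_pow, pow_add, pow_mul]
  exact congrArg Subtype.val hl

theorem W_le_Q (i : Bool) : W p M i ≤ Q p M i :=
  le_Q hp (W_le hp i) (W_comm hp i) fun y hy => Subgroup.mem_normalizer_fintype fun z hz =>
    W_conj hp (Subgroup.map_subtype_le _ hy) hz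

theorem W_le_Q' (i : Bool) : W p M (!i) ≤ Q p M i :=
  le_Q hp (by simpa using (W_le_Q hp (!i)).trans (hp.le (!i))) (W_comm hp _)
    fun y hy => Subgroup.mem_normalizer_fintype fun z hz => W_conj hp (hp.le i hy) hz

theorem W_ne_bot (i : Bool) : W p M i ≠ ⊥ := by
  rw [W, Ne, Subgroup.map_eq_bot_iff_of_injective _ (M i).subtype_injective]
  haveI := Fitting.pCore_normal (G := ↥(M i)) p
  refine DStar.dStar_ne_bot (Sylow.isPGroup' _) fun h => ?_
  have hQ : Cfsg.pCore p ↥(M i) = ⊥ :=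
    le_bot_iff.mp (h ▸ IsPGroup.le_sylow_of_normal (Fitting.pCore_isPGroup p) _)
  have h1 := hp.cons i
  rw [hQ] at h1
  refine hp.ne i fun x hx => ?_
  have : (⟨x, hx⟩ : ↥(M i)) ∈ (⊥ : Subgroup ↥(M i)) :=
    h1 (Subgroup.mem_centralizer_iff.mpr fun z hz => by
      rw [Subgroup.coe_bot, Set.mem_singleton_iff] at hz
      subst hz; simp)
  rw [show x = 1 from congrArg Subtype.val (Subgroup.mem_bot.mp this)]
  exact one_mem _

/-- Two conjugates of the subgroups `W` that normalize each other commute. -/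
theorem commute_of_mutual {i j : Bool} {g : G} (h1 : ∀ w ∈ W p M j, g * w * g⁻¹ ∈ M i)
    (h2 : ∀ v ∈ W p M i, g⁻¹ * v * g ∈ M j) :
    ∀ v ∈ W p M i, ∀ w ∈ W p M j, Commute v (g * w * g⁻¹) := by
  set U : Subgroup G := (W p M j).map (MulAut.conj g).toMonoidHom with hU
  have hUmem : ∀ u, u ∈ U ↔ g⁻¹ * u * g ∈ W p M j := fun u => by
    rw [hU]
    constructor
    · rintro ⟨z, hz, rfl⟩; simpa [mul_assoc] using hz
    · intro h; exact ⟨_, h, by simp [mul_assoc]⟩
  intro v hv w hw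
  have hu : g * w * g⁻¹ ∈ U := (hUmem _).mpr (by simpa [mul_assoc] using hw)
  set u := g * w * g⁻¹
  have hUp : IsPGroup p U := (W_pGroup hp j).map _
  have hUM : U ≤ M i := fun z hz => by
    have := h1 _ ((hUmem z).mp hz)
    simpa [mul_assoc] using this
  obtain ⟨T, hT⟩ := (hUp.comap_of_injective (M i).subtype (M i).subtype_injective).exists_le_sylow
  haveI : Group.IsNilpotent (T : Subgroup ↥(M i)) := T.isPGroup'.isNilpotent
  have hWT : ∀ z : ↥(M i), (z : G) ∈ W p M i ↔ z ∈ DStar.dStar (T : Subgroup ↥(M i)) := by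
    intro z
    rw [dStar_eq hp i T (Classical.arbitrary _)]
    exact ⟨fun ⟨z', hz', e⟩ => (Subtype.ext e : z' = z) ▸ hz', fun h => ⟨z, h, rfl⟩⟩
  have hux : (⟨u, hUM hu⟩ : ↥(M i)) ∈ (T : Subgroup ↥(M i)) := hT hu
  have key := (DStar.inD_dStar (T : Subgroup ↥(M i))).2.2 _ hux ?_ ⟨v, W_le hp i hv⟩ ((hWT _).mp hv)
  · exact key.map (M i).subtype
  intro a ha
  have haW : (a : G) ∈ W p M i := (hWT a).mpr ha
  have hc1 : ((⁅a, ⟨u, hUM hu⟩⁆ : ↥(M i)) : G) ∈ W p M i := by
    show (a : G) * u * (a : G)⁻¹ * u⁻¹ ∈ _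
    rw [show (a : G) * u * (a : G)⁻¹ * u⁻¹ = a * (u * (a : G)⁻¹ * u⁻¹) by group]
    exact mul_mem haW (W_conj hp (hUM hu) (inv_mem haW))
  have hc2 : ((⁅a, ⟨u, hUM hu⟩⁆ : ↥(M i)) : G) ∈ U := by
    show (a : G) * u * (a : G)⁻¹ * u⁻¹ ∈ _
    refine mul_mem ((hUmem _).mpr ?_) (inv_mem hu)
    have := W_conj hp (h2 _ haW) ((hUmem u).mp hu)
    simpa [mul_assoc] using this
  refine ⟨Subtype.ext ?_, fun b hb => Subtype.ext ?_⟩
  · have := (W_comm hp j _ ((hUmem _).mp hc2) _ ((hUmem u).mp hu)).map (MulAut.conj g).toMonoidHom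
    simpa [mul_assoc, Commute, SemiconjBy] using this.eq
  · exact (W_comm hp i _ hc1 _ ((hWT b).mpr hb)).eq

/-- Walks in the coset graph of the pair, recorded by the type and a representative of the end. -/
inductive Reach (M : Bool → Subgroup G) : Bool → ℕ → Bool → G → Prop
  | zero (i : Bool) : Reach M i 0 i 1
  | step {i : Bool} {n : ℕ} {k : Bool} {g m : G} :
      Reach M i n k g → m ∈ M k → Reach M i (n + 1) (!k) (g * m)

omit hp in
theorem Reach.trans {i k l : Bool} {a b : ℕ} {g h : G} (h1 : Reach M i a k g)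
    (h2 : Reach M k b l h) : Reach M i (a + b) l (g * h) := by
  induction h2 with
  | zero => simpa using h1
  | step _ hm ih => rw [← mul_assoc]; exact ih.step hm

omit hp in
theorem Reach.cons {i l : Bool} {n : ℕ} {m g : G} (hm : m ∈ M i) (h : Reach M (!i) n l g) :
    Reach M i (n + 1) l (m * g) := by
  have h1 := ((Reach.zero i).step hm).trans h
  rwa [one_mul, Nat.zero_add, Nat.add_comm] at h1

omit hp in
theorem Reach.first {i k : Bool} {N : ℕ} {g : G} (h : Reach M i N k g) :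
    ∀ n, N = n + 1 → ∃ m ∈ M i, ∃ g', Reach M (!i) n k g' ∧ g = m * g' := by
  induction h with
  | zero => intro n hn; omega
  | @step n' k' g' m' h0 hm ih =>
    intro n hn
    obtain rfl : n' = n := by omega
    rcases n' with _ | n''
    · cases h0
      exact ⟨m', hm, 1, .zero _, by group⟩
    · obtain ⟨m, hm1, g'', hr, e⟩ := ih n'' rfl
      exact ⟨m, hm1, g'' * m', hr.step hm, by rw [e, mul_assoc]⟩

omit hp in
theorem Reach.lmul {k i : Bool} {n : ℕ} {x m₀ : G} (h : ∃ m ∈ M i, Reach M k n i (x * m))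
    (hm₀ : m₀ ∈ M k) : ∃ m ∈ M i, Reach M k n i (m₀ * x * m) := by
  obtain ⟨m, hm, h⟩ := h
  rcases n with _ | n
  · generalize hy : x * m = y at h
    cases h
    refine ⟨m * m₀⁻¹, mul_mem hm (inv_mem hm₀), ?_⟩
    rw [show m₀ * x * (m * m₀⁻¹) = m₀ * (x * m) * m₀⁻¹ by group, hy, mul_one, mul_inv_cancel]
    exact .zero _
  · obtain ⟨m1, hm1, g', hr, e⟩ := h.first n rfl
    exact ⟨m, hm, by rw [mul_assoc, e, ← mul_assoc]; exact Reach.cons (mul_mem hm₀ hm1) hr⟩

omit hp in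
theorem Reach.rev {i k : Bool} {n : ℕ} {g : G} (h : Reach M i n k g) :
    ∃ m ∈ M i, Reach M k n i (g⁻¹ * m) := by
  induction h with
  | zero => exact ⟨1, one_mem _, by simpa using Reach.zero i⟩
  | @step n k g m _ hm ih =>
    obtain ⟨m1, hm1, hr⟩ := Reach.lmul ih (inv_mem hm)
    refine ⟨m1, hm1, ?_⟩
    have := Reach.cons (M := M) (i := !k) (one_mem _) (by rw [Bool.not_not]; exact hr)
    simpa [mul_assoc] using this

/-- The closure of the neighbouring `W`. -/
def V (j : Bool) : Subgroup G :=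
  Subgroup.closure {x : G | ∃ m ∈ M j, ∃ w ∈ W p M (!j), x = m * w * m⁻¹}

theorem V_le_Q (j : Bool) : V (p := p) (M := M) j ≤ Q p M j := by
  rw [V, Subgroup.closure_le]
  rintro _ ⟨m, hm, w, hw, rfl⟩
  exact Q_conj hp hm (W_le_Q' hp j hw)

theorem V_comm (j : Bool) : ∀ x ∈ V (p := p) (M := M) j, ∀ y ∈ V (p := p) (M := M) j, Commute x y := by
  have key : ∀ x ∈ {x : G | ∃ m ∈ M j, ∃ w ∈ W p M (!j), x = m * w * m⁻¹},
      ∀ y ∈ {x : G | ∃ m ∈ M j, ∃ w ∈ W p M (!j), x = m * w * m⁻¹}, x * y = y * x := by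
    rintro _ ⟨m, hm, w, hw, rfl⟩ _ ⟨m', hm', w', hw', rfl⟩
    have hle : ∀ g ∈ M j, ∀ u ∈ W p M (!j), g * u * g⁻¹ ∈ M (!j) := fun g hg u hu =>
      hp.le j (Q_conj hp hg (W_le_Q' hp j hu))
    have hc := commute_of_mutual hp (i := !j) (j := !j) (g := m⁻¹ * m')
      (hle _ (mul_mem (inv_mem hm) hm'))
      (fun v hv => by simpa using hle _ (inv_mem (mul_mem (inv_mem hm) hm')) v hv) w hw w' hw'
    have := (hc.map (MulAut.conj m).toMonoidHom).eq
    simpa [mul_assoc] using this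
  intro x hx y hy
  haveI := Subgroup.isMulCommutative_closure key
  exact congrArg Subtype.val (IsMulCommutative.is_comm.comm (⟨x, hx⟩ : Subgroup.closure _) ⟨y, hy⟩)

theorem V_conj {j : Bool} {m : G} (hm : m ∈ M j) {x : G} (hx : x ∈ V (p := p) (M := M) j) :
    m * x * m⁻¹ ∈ V (p := p) (M := M) j := by
  have : V (p := p) (M := M) j ≤ (V (p := p) (M := M) j).comap (MulAut.conj m).toMonoidHom := by
    conv_lhs => rw [V]
    rw [Subgroup.closure_le]
    rintro _ ⟨m', hm', w, hw, rfl⟩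
    refine Subgroup.subset_closure ⟨m * m', mul_mem hm hm', w, hw, ?_⟩
    simp [mul_assoc]
  exact this hx

/-- The main step. -/
theorem mem_Q_of_quadratic {i : Bool} {U : Subgroup G} (hUc : ∀ a ∈ U, ∀ b ∈ U, Commute a b)
    (hUM : U ≤ M i) (hVU : V (p := p) (M := M) i ≤ Subgroup.normalizer (U : Set G)) {x : G}
    (hx : x ∈ U) (hxQ : x ∈ Q p M (!i)) : x ∈ Q p M i := by
  set Y := ↥(M i)
  set P := Cfsg.pCore p ↥(M i) with hP
  haveI hPn : P.Normal := Fitting.pCore_normal p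
  have hPp : IsPGroup p P := Fitting.pCore_isPGroup p
  let V' : Subgroup ↥(M i) := (V (p := p) (M := M) i).subgroupOf (M i)
  haveI hVn : V'.Normal := ⟨fun a ha g => V_conj hp g.2 ha⟩
  have hVp : IsPGroup p V' := hPp.to_le fun a ha => by
    obtain ⟨b, hb, e⟩ := V_le_Q hp i ha
    exact (Subtype.ext e : b = a) ▸ hb
  set C := Subgroup.centralizer (V' : Set ↥(M i)) with hC
  have hx0 : (⟨x, hUM hx⟩ : ↥(M i)) ∈ ZJ.opMod p V' :=
    ZJ.mem_opMod.2 (hp.stable i V' hVp _ (ZJ.quadratic_of_normalizes (A := U.subgroupOf (M i))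
      (fun a ha b hb => Subtype.ext (hUc a ha b hb).eq)
      (fun v hv => Subgroup.mem_normalizer_iff.mpr fun z =>
        Subgroup.mem_normalizer_iff.mp (hVU hv) (z : G)) hx))
  have hC1 : ∀ c ∈ C, (c : G) ∈ M (!i) := by
    intro c hc
    have hA : W p M (!i) ≤ M (!i) ⊓ M (!(!i)) :=
      le_inf (W_le hp _) ((W_le_Q hp _).trans (hp.le (!i)))
    refine hp.prim (!i) _ (W_ne_bot hp _) hA
      (fun g hg => Subgroup.mem_normalizer_fintype fun z hz => W_conj hp hg hz) ⟨?_, ?_⟩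
    · simpa using c.2
    · refine Subgroup.centralizer_le_normalizer _ (Subgroup.mem_centralizer_iff.mpr fun w hw => ?_)
      have hwV : w ∈ V (p := p) (M := M) i :=
        Subgroup.subset_closure ⟨1, one_mem _, w, hw, by group⟩
      have hwM : w ∈ M i := Subgroup.map_subtype_le _ (V_le_Q hp i hwV)
      exact congrArg Subtype.val (Subgroup.mem_centralizer_iff.mp hc ⟨w, hwM⟩ hwV)
  let J : Subgroup ↥(M i) := C ⊓ (Q p M (!i)).comap (M i).subtype
  have hJp : IsPGroup p J :=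
    (((Fitting.pCore_isPGroup (G := ↥(M (!i))) p).map (M (!i)).subtype).comap_of_injective
      (M i).subtype (M i).subtype_injective).to_le inf_le_right
  have hJP : J ≤ P := by
    haveI hJn : (J.subgroupOf C).Normal := ⟨fun a ha g => by
      rw [Subgroup.mem_subgroupOf] at ha ⊢
      exact Subgroup.mem_inf.mpr ⟨mul_mem (mul_mem g.2 ha.1) (inv_mem g.2), Q_conj hp (hC1 g g.2) ha.2⟩⟩
    haveI : (Cfsg.pCore p C).Characteristic := by
      refine Subgroup.characteristic_iff_map_le.mpr fun φ => ?_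
      exact Fitting.le_pCore ((Fitting.pCore_normal p).map _ φ.surjective)
        ((Fitting.pCore_isPGroup p).map _)
    have h1 : J.subgroupOf C ≤ Cfsg.pCore p C :=
      Fitting.le_pCore hJn (hJp.comap_of_injective C.subtype C.subtype_injective)
    have h2 : (Cfsg.pCore p C).map C.subtype ≤ P :=
      Fitting.le_pCore (PSolvable.normal_map_of_characteristic C _)
        ((Fitting.pCore_isPGroup p).map _)
    exact fun z hz => h2 ⟨⟨z, hz.1⟩, h1 hz, rfl⟩
  set π := QuotientGroup.mk' P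
  have hπ : Function.Surjective π := QuotientGroup.mk'_surjective P
  have hbot : Cfsg.pCore p (↥(M i) ⧸ P) = ⊥ := by
    rw [eq_bot_iff]
    intro z hz
    obtain ⟨y, rfl⟩ := hπ z
    have h1 : (Cfsg.pCore p (↥(M i) ⧸ P)).comap π ≤ P :=
      Fitting.le_pCore ((Fitting.pCore_normal p).comap π)
        ((Fitting.pCore_isPGroup p).comap_of_ker_isPGroup π (by rwa [QuotientGroup.ker_mk']))
    exact Subgroup.mem_bot.mpr ((QuotientGroup.eq_one_iff y).mpr (h1 hz))
  haveI := ZJ.opMod_normal p V'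
  haveI : ((ZJ.opMod p V').map π).Normal := Subgroup.Normal.map inferInstance π hπ
  haveI : (C.map π).Normal := Subgroup.Normal.map inferInstance π hπ
  obtain ⟨j, hj⟩ : ∃ j, (⟨x, hUM hx⟩ : ↥(M i)) ^ p ^ j = 1 := by
    obtain ⟨y, hy, e⟩ := hxQ
    obtain ⟨j, hj⟩ := Fitting.pCore_isPGroup p ⟨y, hy⟩
    refine ⟨j, Subtype.ext ?_⟩
    simp only [SubgroupClass.coe_pow, OneMemClass.coe_one]
    rw [← e, ← map_pow, show y ^ p ^ j = 1 from congrArg Subtype.val hj, map_one]
  have hxc : π ⟨x, hUM hx⟩ ∈ Subgroup.centralizer ((C.map π : Subgroup _) : Set (↥(M i) ⧸ P)) := by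
    rw [Subgroup.mem_centralizer_iff]
    rintro _ ⟨c, hc, rfl⟩
    rw [← commutatorElement_eq_one_iff_mul_comm, ← map_commutatorElement, QuotientGroup.mk'_apply,
      QuotientGroup.eq_one_iff]
    refine hJP (Subgroup.mem_inf.mpr ⟨?_, ?_⟩)
    · rw [commutatorElement_def, mul_assoc, mul_assoc, ← mul_assoc (⟨x, hUM hx⟩ : ↥(M i))]
      exact mul_mem hc ((inferInstance : C.Normal).conj_mem _ (inv_mem hc) _)
    · show (c : G) * x * (c : G)⁻¹ * x⁻¹ ∈ Q p M (!i)
      exact mul_mem (Q_conj hp (hC1 c hc) hxQ) (inv_mem hxQ)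
  have h1 := mem_of_ext hbot (O := (ZJ.opMod p V').map π) (C := C.map π) ?_
    ⟨_, hx0, rfl⟩ hxc (j := j) (by rw [← map_pow, hj, map_one])
  · exact ⟨⟨x, hUM hx⟩, (QuotientGroup.eq_one_iff _).mp h1, rfl⟩
  rintro _ ⟨o, ho, rfl⟩
  obtain ⟨k, hk⟩ := ZJ.exists_pow_mem_centralizer V' ho
  exact ⟨k, _, hk, map_pow π o _⟩

theorem W_reach_le : ∀ (n : ℕ) (i k : Bool) (g : G), Reach M i n k g →
    ∀ w ∈ W p M k, g * w * g⁻¹ ∈ Q p M i := by
  intro n
  induction n with
  | zero => intro i k g h w hw; cases h; simpa using W_le_Q hp i hw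
  | succ n IH =>
    intro i k g hreach w hw
    obtain ⟨m, hm, g', hr, rfl⟩ := hreach.first n rfl
    suffices hs : g' * w * g'⁻¹ ∈ Q p M i by
      have := Q_conj hp hm hs
      simpa [mul_assoc] using this
    have hx1 : g' * w * g'⁻¹ ∈ Q p M (!i) := IH _ _ _ hr w hw
    cases hr with
    | zero => simpa using W_le_Q' hp i hw
    | @step n' j h m2 hh hm2 =>
      let U : Subgroup G := (V (p := p) (M := M) j).map (MulAut.conj h).toMonoidHom
      have hUM : U ≤ M i := by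
        rw [Subgroup.map_le_iff_le_comap, V, Subgroup.closure_le]
        rintro _ ⟨m', hm', w', hw', rfl⟩
        have := hp.le (!i) (IH _ _ _ (hh.step hm') w' hw')
        simpa [mul_assoc] using this
      have hV : ∀ v ∈ V (p := p) (M := M) i, h⁻¹ * v * h ∈ M j := by
        intro v hv
        have hle : V (p := p) (M := M) i ≤ (M j).comap (MulAut.conj h⁻¹).toMonoidHom := by
          rw [V, Subgroup.closure_le]
          rintro _ ⟨m', hm', w', hw', rfl⟩
          obtain ⟨m0, hm0, hrev⟩ := hh.rev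
          have h2 : Reach M j (n' + 1) i h⁻¹ := by
            have := hrev.step (inv_mem hm0)
            simpa [mul_assoc] using this
          obtain ⟨m4, hm4, g5, hr5, e⟩ := (h2.step hm').first _ rfl
          have := mul_mem (mul_mem hm4 (by
            simpa using hp.le (!j) (IH _ _ _ hr5 w' hw'))) (inv_mem hm4)
          show MulAut.conj h⁻¹ (m' * w' * m'⁻¹) ∈ M j
          rw [MulAut.conj_apply, show h⁻¹ * (m' * w' * m'⁻¹) * (h⁻¹)⁻¹ =
            (h⁻¹ * m') * w' * (h⁻¹ * m')⁻¹ by group, e]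
          simpa [mul_assoc] using this
        simpa using hle hv
      refine mem_Q_of_quadratic hp (U := U) ?_ hUM (fun v hv => ?_) ?_ hx1
      · rintro _ ⟨a, ha, rfl⟩ _ ⟨b, hb, rfl⟩
        exact (V_comm hp j a ha b hb).map _
      · refine Subgroup.mem_normalizer_fintype ?_
        rintro _ ⟨z, hz, rfl⟩
        exact ⟨_, V_conj hp (hV v hv) hz, by simp [mul_assoc]⟩
      · refine ⟨m2 * w * m2⁻¹, Subgroup.subset_closure ⟨m2, hm2, w, hw, rfl⟩, ?_⟩
        simp [mul_assoc]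

theorem absurd_pair : False := by
  let X : Subgroup G := Subgroup.closure
    {x : G | ∃ (i k : Bool) (n : ℕ) (g : G), Reach M i n k g ∧ ∃ w ∈ W p M k,
      i = false ∧ x = g * w * g⁻¹}
  have hX0 : X ≤ Q p M false := by
    rw [Subgroup.closure_le]
    rintro _ ⟨i, k, n, g, hr, w, hw, rfl, rfl⟩
    exact W_reach_le hp n _ k g hr w hw
  have hN : ∀ m : G, (m ∈ M false ∨ m ∈ M true) → m ∈ Subgroup.normalizer (X : Set G) := by
    intro m hm
    refine Subgroup.mem_normalizer_fintype fun z hz => ?_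
    have hle : X ≤ X.comap (MulAut.conj m).toMonoidHom := by
      conv_lhs => simp only [X]
      rw [Subgroup.closure_le]
      rintro _ ⟨i, k, n, g, hr, w, hw, rfl, rfl⟩
      refine Subgroup.subset_closure ⟨false, k, n + 2, m * g, ?_, w, hw, rfl, by simp [mul_assoc]⟩
      rcases hm with hm | hm
      · have := Reach.cons hm (Reach.cons (i := true) (one_mem _) hr)
        simpa using this
      · have := Reach.cons (i := false) (one_mem _) (Reach.cons (i := true) hm hr)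
        simpa using this
    exact hle hz
  have hW : W p M false ≤ X := fun w hw =>
    Subgroup.subset_closure ⟨false, false, 0, 1, .zero _, w, hw, rfl, by group⟩
  refine hp.ne true fun x hx => ?_
  exact hp.prim false X (fun h => W_ne_bot hp false (le_bot_iff.mp (h ▸ hW)))
    (hX0.trans (le_inf (Subgroup.map_subtype_le _) (hp.le false)))
    (fun m hm => hN m (.inl hm)) ⟨by simpa using hx, hN x (.inr hx)⟩

end Pair

/-- Two distinct subgroups M₁, M₂ of G form a primitive pair when, for {i, j} = {1, 2}, every non-trivial normal subgroup A of M_i contained in M₁ ∩ M₂ satisfies N_{M_j}(A) = M₁ ∩ M₂; the pair has characteristic p when moreover C_{M_i}(O_p(M_i)) ≤ O_p(M_i) for both i and O_p(M₁)O_p(M₂) ≤ M₁ ∩ M₂. If the finite group G has a primitive pair (M₁, M₂) of characteristic p for some prime p, then M₁ or M₂ has non-abelian Sylow 2-subgroups. In particular no group of odd order has a primitive pair of characteristic p. -/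
theorem result {G : Type*} [Group G] [Finite G] {p : ℕ} [Fact p.Prime] (M₁ M₂ : Subgroup G) (hne : M₁ ≠ M₂) (hP : ∀ A : Subgroup G, A ≠ ⊥ → A ≤ M₁ ⊓ M₂ → (M₁ ≤ Subgroup.normalizer (A : Set G) → M₂ ⊓ Subgroup.normalizer (A : Set G) = M₁ ⊓ M₂) ∧ (M₂ ≤ Subgroup.normalizer (A : Set G) → M₁ ⊓ Subgroup.normalizer (A : Set G) = M₁ ⊓ M₂)) (hc₁ : Subgroup.centralizer (Cfsg.pCore p ↥M₁ : Set ↥M₁) ≤ Cfsg.pCore p ↥M₁) (hc₂ : Subgroup.centralizer (Cfsg.pCore p ↥M₂ : Set ↥M₂) ≤ Cfsg.pCore p ↥M₂) (hO : (Cfsg.pCore p ↥M₁).map M₁.subtype ⊔ (Cfsg.pCore p ↥M₂).map M₂.subtype ≤ M₁ ⊓ M₂) : (∃ S : Sylow 2 ↥M₁, ¬ IsMulCommutative (S : Subgroup ↥M₁)) ∨ (∃ S : Sylow 2 ↥M₂, ¬ IsMulCommutative (S : Subgroup ↥M₂)) := by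
  by_contra hab
  rw [not_or, not_exists, not_exists] at hab
  obtain ⟨hab₁, hab₂⟩ := hab
  simp only [not_not] at hab₁ hab₂
  let M : Bool → Subgroup G := fun b => cond b M₂ M₁
  have hinf : ∀ i, M i ⊓ M (!i) = M₁ ⊓ M₂ := by
    intro i; cases i
    · rfl
    · exact inf_comm _ _
  have hA2 : ∀ i, AbTwo ↥(M i) := fun i T a ha b hb => by
    cases i
    · exact congrArg Subtype.val ((hab₁ T).is_comm.comm ⟨a, ha⟩ ⟨b, hb⟩)
    · exact congrArg Subtype.val ((hab₂ T).is_comm.comm ⟨a, ha⟩ ⟨b, hb⟩)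
  have hprim : ∀ (i : Bool) (A : Subgroup G), A ≠ ⊥ → A ≤ M i ⊓ M (!i) →
      M i ≤ Subgroup.normalizer (A : Set G) → M (!i) ⊓ Subgroup.normalizer (A : Set G) ≤ M i := by
    intro i A hA hle hN
    rw [hinf] at hle
    cases i
    · exact ((hP A hA hle).1 hN).le.trans inf_le_left
    · exact ((hP A hA hle).2 hN).le.trans inf_le_right
  have hcons : ∀ i, Subgroup.centralizer (Cfsg.pCore p ↥(M i) : Set ↥(M i)) ≤ Cfsg.pCore p ↥(M i) := by
    intro i; cases i
    exacts [hc₁, hc₂]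
  have hle : ∀ i, (Cfsg.pCore p ↥(M i)).map (M i).subtype ≤ M (!i) := by
    intro i; cases i
    · exact (le_sup_left.trans hO).trans inf_le_right
    · exact (le_sup_right.trans hO).trans inf_le_left
  have hne' : ∀ i, M i ≠ M (!i) := by
    intro i; cases i
    exacts [hne, fun e => hne e.symm]
  have hQne : ∀ i, (Cfsg.pCore p ↥(M i)).map (M i).subtype = ⊥ → M i = ⊥ := by
    intro i hi
    rw [Subgroup.map_eq_bot_iff_of_injective _ (M i).subtype_injective] at hi
    have h1 := hcons i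
    rw [hi] at h1
    rw [Subgroup.eq_bot_iff_forall]
    intro x hx
    exact congrArg Subtype.val (Subgroup.mem_bot.mp (h1 (x := ⟨x, hx⟩)
      (Subgroup.mem_centralizer_iff.mpr fun z hz => by
        rw [Subgroup.coe_bot, Set.mem_singleton_iff] at hz
        subst hz; simp)))
  have hnle : ∀ i, ¬ M i ≤ M (!i) := by
    intro i hi
    rcases eq_or_ne ((Cfsg.pCore p ↥(M (!i))).map (M (!i)).subtype) ⊥ with h0 | h0
    · exact hne' i (le_antisymm hi (by rw [hQne _ h0]; exact bot_le))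
    set A := (Cfsg.pCore p ↥(M (!i))).map (M (!i)).subtype
    have hAn : M (!i) ≤ Subgroup.normalizer (A : Set G) := fun g hg =>
      Subgroup.mem_normalizer_fintype fun z ⟨y, hy, e⟩ =>
        ⟨⟨g, hg⟩ * y * ⟨g, hg⟩⁻¹, (Fitting.pCore_normal p).conj_mem y hy _, by rw [← e]; rfl⟩
    have hAle : A ≤ M i ⊓ M (!i) :=
      le_inf (by simpa using hle (!i)) (Subgroup.map_subtype_le _)
    exact hne' i (le_antisymm hi
      ((le_inf le_rfl hAn).trans (hprim i A h0 hAle (hi.trans hAn))))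
  by_cases hp2 : p = 2
  · subst hp2
    set A : Bool → Subgroup G := fun i => (Cfsg.pCore 2 ↥(M i)).map (M i).subtype with hA
    have hmax : ∀ i (U : Subgroup G), U ≤ M i → IsPGroup 2 U → U ≤ A i := by
      intro i U hU hUp u hu
      haveI := Fitting.pCore_normal (G := ↥(M i)) 2
      obtain ⟨T, hT⟩ := (hUp.comap_of_injective (M i).subtype (M i).subtype_injective).exists_le_sylow
      refine ⟨⟨u, hU hu⟩, hcons i (Subgroup.mem_centralizer_iff.mpr fun z hz => ?_), rfl⟩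
      exact hA2 i T z (IsPGroup.le_sylow_of_normal (Fitting.pCore_isPGroup 2) T hz) _ (hT hu)
    have heq : A true = A false := le_antisymm
      (hmax false _ (hle true) ((Fitting.pCore_isPGroup 2).map _))
      (hmax true _ (hle false) ((Fitting.pCore_isPGroup 2).map _))
    have hAn : ∀ i, M i ≤ Subgroup.normalizer (A i : Set G) := fun i g hg =>
      Subgroup.mem_normalizer_fintype fun z ⟨y, hy, e⟩ =>
        ⟨⟨g, hg⟩ * y * ⟨g, hg⟩⁻¹, (Fitting.pCore_normal 2).conj_mem y hy _, by rw [← e]; rfl⟩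
    have h0 : A false ≠ ⊥ := fun h => hnle false (by rw [hQne _ h]; exact bot_le)
    refine hnle true fun x hx => hprim false (A false) h0
      (le_inf (Subgroup.map_subtype_le _) (hle false)) (hAn false) ⟨hx, ?_⟩
    rw [← heq]
    exact hAn true hx
  · exact absurd_pair (p := p) (M := M)
      ⟨hprim, hcons, hle, fun i P _ hP => stable_of_abTwo hp2 (hA2 i) P hP, hnle⟩

end Cfsg.Agent.S3753
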