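import Cfsg.Statements.S3756
import Cfsg.Agent.Lib.PushUp.Main

set_option autoImplicit false
set_option linter.style.haveILetI false
open Cfsg

namespace Cfsg.Agent.S3756

open CfsgLib.PushUp
open Cfsg.Agent.S4022 (cj cj_mul card_cj cj_mono)
open Cfsg.Agent.S4270 (cj_cancel mem_normalizer_of_cj cj_of_mem_normalizer cj_self cj_one)

variable {G : Type*} [Group G]

/-- The Thompson subgroup of elementary abelian subgroups of largest order. -/
def J (S : Subgroup G) : Subgroup G := sSup {A | MaxEl S A}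

/-- The elements of order at most two of the centre of `S`. -/
def Z (S : Subgroup G) : Subgroup G :=
  sqSub (Subgroup.centralizer (S : Set G) ⊓ S)
    (inf_le_left.trans (centralizer_mono inf_le_right))

theorem mem_Z {S : Subgroup G} {z : G} :
    z ∈ Z S ↔ z ∈ Subgroup.centralizer (S : Set G) ⊓ S ∧ z * z = 1 := Iff.rfl

theorem Z_le (S : Subgroup G) : Z S ≤ S := fun _ hz => hz.1.2

theorem Z_le_centralizer (S : Subgroup G) : Z S ≤ Subgroup.centralizer (S : Set G) :=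
  fun _ hz => hz.1.1

theorem J_le (S : Subgroup G) : J S ≤ S := sSup_le fun _ hA => hA.le

variable [Finite G]

theorem mem_normalizer_J {S : Subgroup G} {g : G} (h : ∀ A, MaxEl S A → cj g A ≤ S) :
    g ∈ Subgroup.normalizer (J S : Set G) := by
  refine mem_normalizer_of_cj (Subgroup.eq_of_le_of_card_ge ?_ (card_cj _ _).ge)
  rw [J, cj, Subgroup.map_le_iff_le_comap]
  refine sSup_le fun A hA => ?_
  rw [← Subgroup.map_le_iff_le_comap]
  refine le_sSup (show MaxEl S (cj g A) from ⟨h A hA, ?_, fun B h1 h2 => ?_⟩)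
  · rintro _ ⟨a, ha, rfl⟩; rw [← map_mul, hA.sq a ha, map_one]
  · rw [card_cj]; exact hA.max B h1 h2

theorem normalizer_le_normalizer_J (S : Subgroup G) :
    Subgroup.normalizer (S : Set G) ≤ Subgroup.normalizer (J S : Set G) :=
  fun g hg => mem_normalizer_J fun A hA => (cj_mono g hA.le).trans (cj_of_mem_normalizer hg).le

theorem normalizer_le_normalizer_Z (S : Subgroup G) :
    Subgroup.normalizer (S : Set G) ≤ Subgroup.normalizer (Z S : Set G) := fun g hg => by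
  refine mem_normalizer_of_cj (Subgroup.eq_of_le_of_card_ge ?_ (card_cj _ _).ge)
  rintro _ ⟨z, ⟨⟨hzc, hzS⟩, hz2⟩, rfl⟩
  refine ⟨⟨mem_centralizer_iff_conj.mpr fun s hs => ?_,
    (Subgroup.mem_normalizer_iff.mp hg z).mp hzS⟩, by rw [← map_mul, hz2, map_one]⟩
  have hs' : g⁻¹ * s * g ∈ S := (Subgroup.mem_normalizer_iff''.mp hg s).mp hs
  show g * z * g⁻¹ * s * (g * z * g⁻¹)⁻¹ = s
  calc g * z * g⁻¹ * s * (g * z * g⁻¹)⁻¹ = g * (z * (g⁻¹ * s * g) * z⁻¹) * g⁻¹ := by group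
    _ = s := by rw [mem_centralizer_iff_conj.mp hzc _ hs']; group

theorem Z_ne_bot {S : Subgroup G} (hS : IsPGroup 2 S) (hne : S ≠ ⊥) : Z S ≠ ⊥ := by
  haveI : Fact (Nat.Prime 2) := ⟨Nat.prime_two⟩
  haveI : Nontrivial S := (Subgroup.nontrivial_iff_ne_bot S).mpr hne
  haveI := hS.center_nontrivial
  obtain ⟨k, hk0, hk⟩ := (hS.to_subgroup (Subgroup.center S)).nontrivial_iff_card.mp inferInstance
  obtain ⟨z, hz⟩ := exists_prime_orderOf_dvd_card' 2 (hk ▸ dvd_pow_self 2 hk0.ne' : 2 ∣ Nat.card (Subgroup.center S))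
  intro h
  have hz1 : ((z : S) : G) ∈ Z S := by
    refine ⟨⟨Subgroup.mem_centralizer_iff.mpr fun s hs => ?_, (z : S).2⟩, ?_⟩
    · exact congrArg Subtype.val (Subgroup.mem_center_iff.mp z.2 ⟨s, hs⟩)
    · have : z * z = 1 := by rw [← pow_two, ← hz, pow_orderOf_eq_one]
      exact congrArg (fun t : Subgroup.center S => ((t : S) : G)) this
  rw [h, Subgroup.mem_bot] at hz1
  have : z = 1 := Subtype.ext (Subtype.ext hz1)
  rw [this, orderOf_one] at hz
  norm_num at hz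

theorem J_ne_bot {S : Subgroup G} (hS : IsPGroup 2 S) (hne : S ≠ ⊥) : J S ≠ ⊥ := by
  obtain ⟨A, hA⟩ := exists_maxEl S
  intro h
  have h1 : A ≤ ⊥ := h ▸ le_sSup hA
  have h2 := hA.max (Z S) (Z_le S) fun z hz => hz.2
  rw [le_bot_iff.mp h1, Subgroup.card_bot] at h2
  exact Z_ne_bot hS hne (Subgroup.eq_bot_of_card_le _ h2)

theorem exists_gt_normalizer {R T : Subgroup G} (hT : IsPGroup 2 T) (hRT : R < T) :
    ∃ R₁ : Subgroup G, R < R₁ ∧ R₁ ≤ T ∧ R₁ ≤ Subgroup.normalizer (R : Set G) := by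
  haveI : Fact (Nat.Prime 2) := ⟨Nat.prime_two⟩
  haveI := hT.isNilpotent
  refine ⟨T ⊓ Subgroup.normalizer (R : Set G), ?_, inf_le_left, inf_le_right⟩
  refine lt_of_le_of_ne (le_inf hRT.le Subgroup.le_normalizer) fun e => ?_
  have hlt : R.subgroupOf T < ⊤ := lt_top_iff_ne_top.mpr fun h =>
    hRT.not_ge (Subgroup.subgroupOf_eq_top.mp h)
  refine (Group.normalizerCondition_of_isNilpotent _ hlt).not_ge fun x hx => ?_
  have : (x : G) ∈ R := e ▸ Subgroup.mem_inf.mpr ⟨x.2, by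
    rw [Subgroup.mem_normalizer_iff]
    intro r
    refine ⟨fun hr => (Subgroup.mem_normalizer_iff.mp hx ⟨r, hRT.le hr⟩).mp hr, fun hr => ?_⟩
    have hrT : r ∈ T := by
      have := mul_mem (mul_mem (inv_mem x.2) (hRT.le hr)) x.2
      simpa [mul_assoc] using this
    exact (Subgroup.mem_normalizer_iff.mp hx ⟨r, hrT⟩).mpr hr⟩
  exact this

variable (hloc : ∀ M : Subgroup G, Cfsg.IsTwoLocal M →
  Group.IsSolvable M ∧ Cfsg.IsOfCharacteristicTwo ↥M ∧ ¬ Cfsg.Involves (Equiv.Perm (Fin 4)) ↥M)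

theorem exists_max {T : Subgroup G} (hT : IsPGroup 2 T) (hne : T ≠ ⊥) :
    ∃ L, IsMaximalTwoLocal L ∧ Subgroup.normalizer (T : Set G) ≤ L := by
  obtain ⟨L, hle, hL⟩ := Finite.exists_le_maximal (p := fun L : Subgroup G => IsTwoLocal L)
    (a := Subgroup.normalizer (T : Set G)) ⟨T, hT, hne, rfl⟩
  exact ⟨L, ⟨hL.prop, fun N hN hLN => le_antisymm (hL.le_of_ge hN hLN) hLN⟩, hle⟩

include hloc in
/-- The Thompson factorization in a 2-local subgroup `M` with Sylow `2`-subgroup `R`. -/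
theorem factor {M : Subgroup G} (hM : IsTwoLocal M) {R : Subgroup G} (hRM : R ≤ M)
    (hR : IsPGroup 2 R) (hidx : ¬ 2 ∣ R.relIndex M) :
    M ≤ Subgroup.centralizer (Z R : Set G) ⊔ (M ⊓ Subgroup.normalizer (J R : Set G)) := by
  haveI : Fact (Nat.Prime 2) := ⟨Nat.prime_two⟩
  obtain ⟨hsol, hchar, hS4⟩ := hloc M hM
  haveI := hsol
  let S : Sylow 2 M := (hR.comap_of_injective M.subtype M.subtype_injective).toSylow hidx
  have hS : (S : Subgroup M) = R.subgroupOf M := rfl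
  obtain ⟨V, hV, hZV, hVe, hVS, hred⟩ := reduced_closure hchar S
    (Z := (Z R).subgroupOf M) (Subgroup.comap_mono (Z_le R))
    (fun z hz => Subgroup.mem_centralizer_iff.mpr fun s hs =>
      Subtype.ext (Subgroup.mem_centralizer_iff.mp (Z_le_centralizer R hz) _ hs))
    (fun z hz => Subtype.ext hz.2)
  haveI := hV
  have hVp : IsPGroup 2 V := S.2.to_le hVS
  set C := Subgroup.centralizer (V : Set M) with hC
  -- `J(R)` centralizes `V`
  have hA : ∀ A, MaxEl R A → A.subgroupOf M ≤ C := by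
    intro A hA
    have hA' : MaxEl (S : Subgroup M) (A.subgroupOf M) := by
      refine ⟨Subgroup.comap_mono hA.le, fun a ha => Subtype.ext (hA.sq _ ha), fun B h1 h2 => ?_⟩
      rw [Nat.card_congr (Subgroup.subgroupOfEquivOfLe (hA.le.trans hRM)).toEquiv]
      refine le_of_eq_of_le (Subgroup.card_map_of_injective M.subtype_injective).symm (hA.max _ ?_ ?_)
      · rintro _ ⟨b, hb, rfl⟩; exact h1 hb
      · rintro _ ⟨b, hb, rfl⟩; rw [← map_mul, h2 b hb, map_one]
    have h1 := hA'.offender hVS hVe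
    have h2 : cd (A.subgroupOf M) V ^ 2 ≤ cd V (A.subgroupOf M) :=
      sq_of_reduced hS4 hVp (comm_of_sq hVe) hred _
        ⟨S.2.to_le hA'.le, Subgroup.le_normalizer_of_normal, fun b hb => by
          rw [hA'.sq b hb]; exact one_mem _⟩
    have h3 := cd_pos (A.subgroupOf M) V
    exact cd_eq_one_iff.mp (by nlinarith)
  set P := (S : Subgroup M) ⊓ C with hP
  let T : Sylow 2 C := ((S.2.to_le inf_le_left : IsPGroup 2 P).comap_of_injective C.subtype
    C.subtype_injective).toSylow (by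
      show ¬ 2 ∣ P.relIndex C
      rw [hP, Subgroup.inf_relIndex_right]
      exact not_two_dvd_relIndex S C)
  have hF := Sylow.normalizer_sup_eq_top T
  rw [show (T : Subgroup C).map C.subtype = P from Subgroup.map_subgroupOf_eq_of_le inf_le_right] at hF
  intro g hg
  have h1 : (⟨g, hg⟩ : M) ∈ Subgroup.normalizer (P : Set M) ⊔ C := hF.ge (Subgroup.mem_top _)
  have key : Subgroup.normalizer (P : Set M) ⊔ C ≤
      (Subgroup.centralizer (Z R : Set G) ⊔ (M ⊓ Subgroup.normalizer (J R : Set G))).comap M.subtype := by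
    refine sup_le (fun m hm => Subgroup.mem_sup_right ⟨m.2, mem_normalizer_J fun A hA' => ?_⟩)
      (fun m hm => Subgroup.mem_sup_left (mem_centralizer_iff_conj.mpr fun z hz =>
        congrArg Subtype.val (mem_centralizer_iff_conj.mp hm ⟨z, hRM (Z_le R hz)⟩ (hZV hz))))
    rintro _ ⟨a, ha, rfl⟩
    have hP' : (⟨a, hRM (hA'.le ha)⟩ : M) ∈ P := ⟨hA'.le ha, hA A hA' ha⟩
    exact ((Subgroup.mem_normalizer_iff.mp hm _).mp hP').1
  exact key h1

include hloc in
/-- A Sylow `2`-subgroup of `G` lies in a unique maximal 2-local subgroup. -/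
theorem le_of_sylow (S : Sylow 2 G) {L L₁ : Subgroup G} (hL : IsTwoLocal L)
    (hL₁ : IsMaximalTwoLocal L₁) (hSL : (S : Subgroup G) ≤ L) (hSne : (S : Subgroup G) ≠ ⊥)
    (hJ : Subgroup.normalizer (J (S : Subgroup G) : Set G) ≤ L₁) : L ≤ L₁ := by
  classical
  haveI : Fact (Nat.Prime 2) := ⟨Nat.prime_two⟩
  have hSJ : (S : Subgroup G) ≤ Subgroup.normalizer (J (S : Subgroup G) : Set G) :=
    Subgroup.le_normalizer.trans (normalizer_le_normalizer_J _)
  have hS1 : (S : Subgroup G) ≤ L₁ := hSJ.trans hJ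
  obtain ⟨hsol1, hchar1, hS41⟩ := hloc L₁ hL₁.1
  haveI := hsol1
  obtain ⟨V, hV, hZV, hVe, hVS, hred⟩ := reduced_closure hchar1 (S.subtype hS1)
    (Z := (Z (S : Subgroup G)).subgroupOf L₁) (Subgroup.comap_mono (Z_le _))
    (fun z hz => Subgroup.mem_centralizer_iff.mpr fun s hs =>
      Subtype.ext (Subgroup.mem_centralizer_iff.mp (Z_le_centralizer _ hz) _ hs))
    (fun z hz => Subtype.ext hz.2)
  haveI := hV
  set U := V.map L₁.subtype with hU
  have hUS : U ≤ (S : Subgroup G) := by rintro _ ⟨v, hv, rfl⟩; exact hVS hv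
  have hUe : ∀ u ∈ U, u * u = 1 := by rintro _ ⟨v, hv, rfl⟩; rw [← map_mul, hVe v hv, map_one]
  have hL₁U : L₁ ≤ Subgroup.normalizer (U : Set G) := fun g hg =>
    mem_normalizer_of_cj (Subgroup.eq_of_le_of_card_ge (by
      rintro _ ⟨_, ⟨v, hv, rfl⟩, rfl⟩
      exact ⟨⟨g, hg⟩ * v * ⟨g, hg⟩⁻¹, hV.conj_mem v hv _, rfl⟩) (card_cj _ _).ge)
  have hU1 : U ≠ ⊥ := fun h => by
    rw [hU, Subgroup.map_eq_bot_iff_of_injective _ L₁.subtype_injective] at h
    refine Z_ne_bot S.2 hSne ?_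
    rw [eq_bot_iff]
    intro z hz
    have := hZV (show (⟨z, hS1 (Z_le _ hz)⟩ : L₁) ∈ _ from hz)
    rw [h, Subgroup.mem_bot] at this
    exact Subgroup.mem_bot.mpr (congrArg Subtype.val this)
  have hNU : Subgroup.normalizer (U : Set G) = L₁ :=
    hL₁.2 _ ⟨U, S.2.to_le hUS, hU1, rfl⟩ hL₁U
  have hSU : (S : Subgroup G) ≤ Subgroup.normalizer (U : Set G) := hNU ▸ hS1
  have hsqU : ∀ B ≤ (S : Subgroup G), EImg B U → Sq B U := by
    intro B hB hE
    have hB1 : B ≤ L₁ := hB.trans hS1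
    have e : (B.subgroupOf L₁).map L₁.subtype = B := Subgroup.map_subgroupOf_eq_of_le hB1
    have hE' : EImg (B.subgroupOf L₁) V := ⟨hE.isPGroup.comap_of_injective _ L₁.subtype_injective,
      Subgroup.le_normalizer_of_normal, fun b hb => by
        rw [← centralizer_map L₁.subtype L₁.subtype_injective]
        exact hE.sq_mem (b : G) hb⟩
    have h : Sq (B.subgroupOf L₁) V :=
      sq_of_reduced hS41 ((S.subtype hS1).2.to_le hVS) (comm_of_sq hVe) hred _ hE'
    rw [Sq, ← cd_map L₁.subtype L₁.subtype_injective, ← cd_map L₁.subtype L₁.subtype_injective,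
      e, ← hU] at h
    exact h
  -- a minimal counterexample
  by_contra hne
  obtain ⟨K, hK⟩ := (Set.toFinite {K : Subgroup G | (S : Subgroup G) ≤ K ∧ K ≤ L ∧ ¬ K ≤ L₁}).exists_minimal
    ⟨L, hSL, le_rfl, hne⟩
  obtain ⟨hSK, hKL, hKne⟩ := hK.prop
  obtain ⟨hsolL, hcharL, hS4L⟩ := hloc L hL
  haveI := hsolL
  haveI : Group.IsSolvable K :=
    solvable_of_solvable_injective (f := Subgroup.inclusion hKL) (Subgroup.inclusion_injective hKL)
  have hS4K : ¬ Cfsg.Involves (Equiv.Perm (Fin 4)) K := fun h =>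
    hS4L (CfsgLib.Offender.involves_of_injective _ (Subgroup.inclusion_injective hKL) h)
  set SK := S.subtype hSK with hSKdef
  have hcharK : Subgroup.centralizer (Cfsg.pCore 2 K : Set K) ≤ Cfsg.pCore 2 K := by
    haveI := CfsgLib.Fitting.pCore_normal (G := L) 2
    set Q := (Cfsg.pCore 2 L).map L.subtype with hQ
    have hQS : Q ≤ (S : Subgroup G) := by
      rintro _ ⟨q, hq, rfl⟩
      exact le_sylow_of_normal (CfsgLib.Fitting.pCore_isPGroup 2) (S.subtype hSL) hq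
    have hQn : ∀ g ∈ L, ∀ q ∈ Q, g * q * g⁻¹ ∈ Q := by
      rintro g hg _ ⟨q, hq, rfl⟩
      exact ⟨⟨g, hg⟩ * q * ⟨g, hg⟩⁻¹, Subgroup.Normal.conj_mem inferInstance q hq _, rfl⟩
    have hQK : Q.subgroupOf K ≤ Cfsg.pCore 2 K :=
      CfsgLib.Fitting.le_pCore ⟨fun q hq g => hQn g (hKL g.2) q hq⟩
        ((S.2.to_le hQS).comap_of_injective _ K.subtype_injective)
    intro x hx
    refine hQK (?_ : (x : G) ∈ Q)
    have hxL : (⟨(x : G), hKL x.2⟩ : L) ∈ Cfsg.pCore 2 L := hcharL (mem_centralizer_iff_conj.mpr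
      fun q hq => Subtype.ext (by
        have h := congrArg Subtype.val (mem_centralizer_iff_conj.mp hx
          ⟨q, hSK (hQS ⟨q, hq, rfl⟩)⟩ (hQK ⟨q, hq, rfl⟩))
        simpa using h))
    exact ⟨_, hxL, rfl⟩
  set U' := U.subgroupOf K with hU'
  have hUK : U ≤ K := hUS.trans hSK
  have hU'map : U'.map K.subtype = U := Subgroup.map_subgroupOf_eq_of_le hUK
  have hnorm : ∀ g : K, (g : G) ∈ Subgroup.normalizer (U : Set G) ↔
      g ∈ Subgroup.normalizer (U' : Set K) := fun g => by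
    rw [Subgroup.mem_normalizer_iff, Subgroup.mem_normalizer_iff]
    refine ⟨fun h u => h u, fun h u => ⟨fun hu => (h ⟨u, hUK hu⟩).mp hu, fun hu => ?_⟩⟩
    have hu' : u ∈ K := by
      have := mul_mem (mul_mem (inv_mem g.2) (hUK hu)) g.2
      simpa [mul_assoc] using this
    exact (h ⟨u, hu'⟩).mpr hu
  have hU'S : U' ≤ (SK : Subgroup K) := Subgroup.comap_mono hUS
  have hSU' : (SK : Subgroup K) ≤ Subgroup.normalizer (U' : Set K) := fun s hs =>
    (hnorm s).mp (hSU hs)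
  have hU'e : ∀ u ∈ U', u * u = 1 := fun u hu => Subtype.ext (hUe _ hu)
  have hsq' : ∀ B ≤ (SK : Subgroup K), EImg B U' → Sq B U' := fun B hB hE => by
    refine Sq.of_map K.subtype_injective ?_
    rw [hU'map]
    refine hsqU _ (by rintro _ ⟨b, hb, rfl⟩; exact hB hb) ?_
    have := EImg.comap K.subtype_injective hE
    rwa [hU'map] at this
  have hn := normal_of_minimal hS4K SK hU'S hSU' hU'e
    (conj_le_centralizer hS4K hcharK SK hU'S hSU' hU'e (comm_of_sq hU'e) hsq') hsq'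
    (fun K' hSK' hK' x hx => by
      refine (hnorm x).mp (hNU.ge ?_)
      have hle : (S : Subgroup G) ≤ K'.map K.subtype := fun s hs =>
        ⟨⟨s, hSK hs⟩, hSK' hs, rfl⟩
      have hK'K : K'.map K.subtype ≤ K := Subgroup.map_subtype_le K'
      by_contra hx'
      have h := hK.le_of_le ⟨hle, hK'K.trans hKL, fun h => hx' (h ⟨x, hx, rfl⟩)⟩ hK'K
      refine hK' (eq_top_iff.mpr fun y _ => ?_)
      obtain ⟨y', hy', e⟩ := h y.2
      exact Subtype.ext e ▸ hy')
    (fun g P hPS hAP hg => by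
      refine (hnorm g).mp (hNU.ge (hJ (mem_normalizer_J fun A hA => ?_)))
      have hA' : MaxEl (SK : Subgroup K) (A.subgroupOf K) := by
        refine ⟨Subgroup.comap_mono hA.le, fun a ha => Subtype.ext (hA.sq _ ha), fun B h1 h2 => ?_⟩
        rw [Nat.card_congr (Subgroup.subgroupOfEquivOfLe (hA.le.trans hSK)).toEquiv]
        refine le_of_eq_of_le (Subgroup.card_map_of_injective K.subtype_injective).symm (hA.max _ ?_ ?_)
        · rintro _ ⟨b, hb, rfl⟩; exact h1 hb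
        · rintro _ ⟨b, hb, rfl⟩; rw [← map_mul, h2 b hb, map_one]
      rintro _ ⟨a, ha, rfl⟩
      exact hPS ((Subgroup.mem_normalizer_iff.mp hg _).mp
        (hAP _ hA' (show (⟨a, hSK (hA.le ha)⟩ : K) ∈ A.subgroupOf K from ha))))
  refine hKne fun x hx => hNU.le ((hnorm ⟨x, hx⟩).mpr ?_)
  rw [Subgroup.normalizer_eq_top_iff.mpr hn]
  exact Subgroup.mem_top _

include hloc in
/-- Distinct maximal 2-local subgroups meet in a group of odd order. -/
theorem eq_of_common {M M' R : Subgroup G} (hM : IsMaximalTwoLocal M) (hM' : IsMaximalTwoLocal M')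
    (hR : IsPGroup 2 R) (hR1 : R ≠ ⊥) (hRM : R ≤ M) (hRM' : R ≤ M') : M = M' := by
  haveI : Fact (Nat.Prime 2) := ⟨Nat.prime_two⟩
  by_contra hne
  obtain ⟨R₀, hR₀⟩ := (Set.toFinite {X : Subgroup G | IsPGroup 2 X ∧ X ≠ ⊥ ∧
      ∃ M M', IsMaximalTwoLocal M ∧ IsMaximalTwoLocal M' ∧ X ≤ M ∧ X ≤ M' ∧ M ≠ M'}).exists_maximal
    ⟨R, hR, hR1, M, M', hM, hM', hRM, hRM', hne⟩
  obtain ⟨hp, h1, A, A', hA, hA', hRA, hRA', hAA⟩ := hR₀.prop
  have hbig : ∀ {X L L' : Subgroup G}, R₀ < X → IsPGroup 2 X → IsMaximalTwoLocal L →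
      IsMaximalTwoLocal L' → X ≤ L → X ≤ L' → L = L' := by
    intro X L L' hlt hX hL hL' hXL hXL'
    by_contra hLL
    have hX1 : X ≠ ⊥ := fun e => (not_lt_bot (e ▸ hlt)).elim
    exact hlt.not_ge (hR₀.le_of_ge ⟨hX, hX1, L, L', hL, hL', hXL, hXL', hLL⟩ hlt.le)
  obtain ⟨S, hS⟩ := hp.exists_le_sylow
  by_cases hRS : R₀ = (S : Subgroup G)
  · obtain ⟨L₁, hL₁, hJ⟩ := exists_max (S.2.to_le (J_le _)) (J_ne_bot S.2 (hRS ▸ h1))
    have e : ∀ {L}, IsMaximalTwoLocal L → R₀ ≤ L → L₁ = L := fun {L} hL hRL =>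
      hL.2 L₁ hL₁.1 (le_of_sylow hloc S hL.1 hL₁ (hRS ▸ hRL) (hRS ▸ h1) hJ)
    exact hAA ((e hA hRA).symm.trans (e hA' hRA'))
  obtain ⟨L, hL, hNL⟩ := exists_max hp h1
  obtain ⟨R₁, hlt₁, hR₁S, hR₁N⟩ := exists_gt_normalizer S.2 (lt_of_le_of_ne hS hRS)
  have hR₁p : IsPGroup 2 R₁ := S.2.to_le hR₁S
  have e : ∀ {B}, IsMaximalTwoLocal B → R₀ ≤ B → B = L := by
    intro B hB hRB
    by_cases hidx : 2 ∣ R₀.relIndex B
    · obtain ⟨T, hT⟩ := (hp.comap_of_injective B.subtype B.subtype_injective).exists_le_sylow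
      have hle : R₀ ≤ (T : Subgroup B).map B.subtype := fun r hr => ⟨⟨r, hRB hr⟩, hT hr, rfl⟩
      have hlt : R₀ < (T : Subgroup B).map B.subtype := lt_of_le_of_ne hle fun e => by
        refine T.not_dvd_index ?_
        rw [e, Subgroup.relIndex, Subgroup.subgroupOf,
          Subgroup.comap_map_eq_self_of_injective B.subtype_injective] at hidx
        exact hidx
      obtain ⟨R₂, h2, h2T, h2N⟩ := exists_gt_normalizer (T.2.map _) hlt
      exact hbig h2 ((T.2.map _).to_le h2T) hB hL (h2T.trans (Subgroup.map_subtype_le _))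
        (h2N.trans hNL)
    · have hZle : Subgroup.normalizer (Z R₀ : Set G) ≤ L := by
        obtain ⟨L', hL', hN'⟩ := exists_max (hp.to_le (Z_le R₀)) (Z_ne_bot hp h1)
        have := hbig hlt₁ hR₁p hL' hL
          ((hR₁N.trans (normalizer_le_normalizer_Z R₀)).trans hN') (hR₁N.trans hNL)
        exact this ▸ hN'
      have hJle : Subgroup.normalizer (J R₀ : Set G) ≤ L := by
        obtain ⟨L', hL', hN'⟩ := exists_max (hp.to_le (J_le R₀)) (J_ne_bot hp h1)
        have := hbig hlt₁ hR₁p hL' hL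
          ((hR₁N.trans (normalizer_le_normalizer_J R₀)).trans hN') (hR₁N.trans hNL)
        exact this ▸ hN'
      refine (hB.2 L hL.1 ((factor hloc hB.1 hRB hp hidx).trans (sup_le ?_ ?_))).symm
      · exact (Subgroup.centralizer_le_normalizer _).trans hZle
      · exact inf_le_right.trans hJle
  exact hAA ((e hA hRA).trans (e hA' hRA').symm)

/-- Let G be a finite group of even order with O₂(G) = 1 such that every 2-local subgroup of G is solvable, of characteristic 2, and has no section isomorphic to the symmetric group of degree 4. Then every maximal 2-local subgroup of G is strongly embedded in G. -/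
theorem result {G : Type*} [Group G] [Finite G] (heven : Even (Nat.card G)) (hO : Cfsg.pCore 2 G = ⊥) (hloc : ∀ M : Subgroup G, Cfsg.IsTwoLocal M → Group.IsSolvable M ∧ Cfsg.IsOfCharacteristicTwo ↥M ∧ ¬ Cfsg.Involves (Equiv.Perm (Fin 4)) ↥M) (M : Subgroup G) (hM : Cfsg.IsMaximalTwoLocal M) : Cfsg.IsStronglyEmbedded M := by
  classical
  haveI : Fact (Nat.Prime 2) := ⟨Nat.prime_two⟩
  obtain ⟨T, hT, hT1, rfl⟩ := hM.1
  set M := Subgroup.normalizer (T : Set G) with hMdef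
  refine ⟨fun h => hT1 ?_, ?_, ?_⟩
  · exact le_bot_iff.mp ((CfsgLib.Fitting.le_pCore (Subgroup.normalizer_eq_top_iff.mp h) hT).trans
      hO.le)
  · obtain ⟨k, hk⟩ := IsPGroup.iff_card.mp hT
    have hk0 : k ≠ 0 := fun e => hT1 (Subgroup.card_eq_one.mp (by rw [hk, e, pow_zero]))
    exact even_iff_two_dvd.mpr ((hk ▸ dvd_pow_self 2 hk0).trans
      (Subgroup.card_dvd_of_le Subgroup.le_normalizer))
  intro g hg
  rw [← Nat.not_even_iff_odd, even_iff_two_dvd]
  intro h2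
  obtain ⟨i, hi⟩ := exists_prime_orderOf_dvd_card' 2 h2
  have hi' : orderOf (i : G) = 2 := (orderOf_submonoid i).trans hi
  have hN : ∀ h : G, Subgroup.normalizer (cj h T : Set G) = cj h M := by
    intro h
    refine le_antisymm (fun x hx => ?_) (Subgroup.le_normalizer_map _)
    refine ⟨h⁻¹ * x * h, mem_normalizer_of_cj ?_, by simp [mul_assoc]⟩
    rw [cj_mul, cj_mul, cj_of_mem_normalizer hx, cj_cancel]
  have hMg : IsMaximalTwoLocal (cj g M) := by
    refine ⟨⟨cj g T, hT.map _, fun e => hT1 ?_, (hN g).symm⟩, fun N hN' hle => ?_⟩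
    · exact Subgroup.card_eq_one.mp (by rw [← card_cj g T, e, Subgroup.card_bot])
    · obtain ⟨T', hT', hT'1, rfl⟩ := hN'
      have h1 : IsTwoLocal (cj g⁻¹ (Subgroup.normalizer (T' : Set G))) := by
        refine ⟨cj g⁻¹ T', hT'.map _, fun e => hT'1 ?_, ?_⟩
        · exact Subgroup.card_eq_one.mp (by rw [← card_cj g⁻¹ T', e, Subgroup.card_bot])
        · refine le_antisymm (Subgroup.le_normalizer_map _) fun x hx => ?_
          refine ⟨g * x * g⁻¹, mem_normalizer_of_cj ?_, by simp [mul_assoc]⟩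
          rw [cj_mul, cj_mul, cj_of_mem_normalizer hx, ← cj_mul, mul_inv_cancel, cj_one]
      have h2 := hM.2 _ h1 ((cj_cancel g M).ge.trans (cj_mono g⁻¹ hle))
      rw [← h2, ← cj_mul, mul_inv_cancel, cj_one]
  have heq : M = cj g M := eq_of_common hloc hM hMg (R := Subgroup.zpowers (i : G))
    (IsPGroup.of_card (n := 1) (by rw [Nat.card_zpowers, hi', pow_one]))
    (fun e => by
      rw [Subgroup.zpowers_eq_bot] at e
      rw [e, orderOf_one] at hi'
      norm_num at hi')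
    (Subgroup.zpowers_le.mpr i.2.1) (Subgroup.zpowers_le.mpr i.2.2)
  -- `M` is self-normalizing
  refine hg ?_
  obtain ⟨hsol, hchar, -⟩ := hloc M hM.1
  haveI := CfsgLib.Fitting.pCore_normal (G := M) 2
  set Q := (Cfsg.pCore 2 M).map M.subtype with hQ
  have hQp : IsPGroup 2 Q := (CfsgLib.Fitting.pCore_isPGroup 2).map _
  have hTQ : T ≤ Q := fun t ht => ⟨⟨t, Subgroup.le_normalizer ht⟩,
    CfsgLib.Fitting.le_pCore (Subgroup.normal_in_normalizer) (hT.comap_of_injective _ M.subtype_injective) ht, rfl⟩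
  have hQM : Q ≤ M := Subgroup.map_subtype_le _
  have hMQ : ∀ m ∈ M, ∀ q ∈ Q, m * q * m⁻¹ ∈ Q := by
    rintro m hm _ ⟨q, hq, rfl⟩
    exact ⟨⟨m, hm⟩ * q * ⟨m, hm⟩⁻¹, Subgroup.Normal.conj_mem inferInstance q hq _, rfl⟩
  have hgQ : cj g Q ≤ Q := by
    have hgM : cj g Q ≤ M := (cj_mono g hQM).trans heq.ge
    have hn : ((cj g Q).subgroupOf M).Normal := ⟨by
      rintro ⟨x, hxM⟩ ⟨q, hq, rfl⟩ ⟨m, hm⟩
      obtain ⟨m', hm', rfl⟩ := heq.le hm
      exact ⟨m' * q * m'⁻¹, hMQ m' hm' q hq, by simp [mul_assoc]⟩⟩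
    intro x hx
    exact ⟨⟨x, hgM hx⟩, CfsgLib.Fitting.le_pCore hn
      ((hQp.map _).comap_of_injective _ M.subtype_injective) hx, rfl⟩
  have hNQ : M = Subgroup.normalizer (Q : Set G) :=
    (hM.2 _ ⟨Q, hQp, fun e => hT1 (le_bot_iff.mp (hTQ.trans e.le)), rfl⟩ fun m hm =>
      mem_normalizer_of_cj (Subgroup.eq_of_le_of_card_ge (by
        rintro _ ⟨q, hq, rfl⟩; exact hMQ m hm q hq) (card_cj _ _).ge)).symm
  rw [hNQ]
  exact mem_normalizer_of_cj (Subgroup.eq_of_le_of_card_ge hgQ (card_cj _ _).ge)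

end Cfsg.Agent.S3756
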