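import Cfsg.Statements.S3760
import Mathlib
import Cfsg.Agent.Lib.Coprime.SchurZassenhaus

set_option autoImplicit false
set_option linter.style.haveILetI false
open Cfsg

namespace Cfsg.Agent.S3760

/-- Let the group G act transitively on a set X, let x ∈ X with stabilizer H = G_x, and let K ≤ H. Then N_G(K) acts transitively on the set of fixed points of K if and only if every G-conjugate of K contained in H is already an H-conjugate of K. -/
theorem result {G : Type*} [Group G] {X : Type*} [MulAction G X] (htrans : ∀ a b : X, ∃ g : G, g • a = b) (x : X) (K : Subgroup G) (hK : K ≤ MulAction.stabilizer G x) : (∀ a b : X, (∀ k ∈ K, k • a = a) → (∀ k ∈ K, k • b = b) → ∃ g ∈ Subgroup.normalizer (K : Set G), g • a = b) ↔ ∀ g : G, K.map (MulAut.conj g).toMonoidHom ≤ MulAction.stabilizer G x → ∃ h ∈ MulAction.stabilizer G x, K.map (MulAut.conj g).toMonoidHom = K.map (MulAut.conj h).toMonoidHom := by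
  have hconj : ∀ (g : G) (y : X), K.map (MulAut.conj g).toMonoidHom ≤ MulAction.stabilizer G y ↔
      ∀ k ∈ K, k • (g⁻¹ • y) = g⁻¹ • y := by
    intro g y
    constructor
    · intro h k hk
      have h1 : (g * k * g⁻¹) • y = y := h ⟨k, hk, rfl⟩
      rw [mul_smul, mul_smul] at h1
      exact (eq_inv_smul_iff.mpr h1)
    · rintro h _ ⟨k, hk, rfl⟩
      show (g * k * g⁻¹) • y = y
      rw [mul_smul, mul_smul, h k hk, smul_inv_smul]
  have hnorm : ∀ {n : G}, n ∈ Subgroup.normalizer (K : Set G) →
      K.map (MulAut.conj n).toMonoidHom = K := by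
    intro n hn
    ext z
    constructor
    · rintro ⟨k, hk, rfl⟩
      exact (Subgroup.mem_normalizer_iff.mp hn k).mp hk
    · intro hz
      refine ⟨n⁻¹ * z * n, (Subgroup.mem_normalizer_iff''.mp hn z).mp hz, ?_⟩
      show n * (n⁻¹ * z * n) * n⁻¹ = z
      group
  constructor
  · intro h g hg
    obtain ⟨n, hn, hnx⟩ := h x (g⁻¹ • x) (fun k hk => hK hk) ((hconj g x).mp hg)
    refine ⟨g * n, ?_, ?_⟩
    · rw [MulAction.mem_stabilizer_iff, mul_smul, hnx, smul_inv_smul]
    · conv_lhs => rw [← hnorm hn]
      rw [Subgroup.map_map]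
      congr 1
      ext z
      show g * (n * z * n⁻¹) * g⁻¹ = g * n * z * (g * n)⁻¹
      group
  · intro h a b ha hb
    have key : ∀ c : X, (∀ k ∈ K, k • c = c) → ∃ n ∈ Subgroup.normalizer (K : Set G), n • x = c := by
      intro c hc
      obtain ⟨g, rfl⟩ := htrans x c
      obtain ⟨s, hs, hse⟩ := h g⁻¹ ((hconj g⁻¹ x).mpr (by rw [inv_inv]; exact hc))
      refine ⟨g * s, ?_, by rw [mul_smul, MulAction.mem_stabilizer_iff.mp hs]⟩
      rw [CfsgLib.Coprime.mem_normalizer_iff_conj_smul, CfsgLib.Coprime.conj_smul_eq_map]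
      calc K.map (MulAut.conj (g * s)).toMonoidHom
          = (K.map (MulAut.conj s).toMonoidHom).map (MulAut.conj g).toMonoidHom := by
            rw [Subgroup.map_map]
            congr 1
            ext z
            show g * s * z * (g * s)⁻¹ = g * (s * z * s⁻¹) * g⁻¹
            group
        _ = (K.map (MulAut.conj g⁻¹).toMonoidHom).map (MulAut.conj g).toMonoidHom := by rw [hse]
        _ = K := by
            rw [Subgroup.map_map]
            convert Subgroup.map_id K using 2
            ext z
            show g * (g⁻¹ * z * g⁻¹⁻¹) * g⁻¹ = z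
            group
    obtain ⟨n1, hn1, rfl⟩ := key a ha
    obtain ⟨n2, hn2, rfl⟩ := key b hb
    exact ⟨n2 * n1⁻¹, mul_mem hn2 ((Subgroup.normalizer (K : Set G)).inv_mem hn1),
      by rw [mul_smul, inv_smul_smul]⟩

end Cfsg.Agent.S3760
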