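import Cfsg.Statements.S3761
import Cfsg.Agent.Lib.PGroup.SuzukiMaximalClass
import Cfsg.Agent.Lib.PGroup.CyclicMax

set_option autoImplicit false
set_option linter.style.haveILetI false
open Cfsg

namespace Cfsg.Agent.S3761

/-- Let G be a finite non-abelian p-group with a cyclic normal subgroup U of order p^n such that C_G(U) = U. Then either p = 2 and G is dihedral, generalized quaternion or semidihedral of order 2^(n+1); or, writing U₁ for the subgroup generated by the p-th powers of elements of U and M = C_G(U₁), the subgroup U has index p in M and the subgroup Ω₁(M) generated by the elements of M of order dividing p is elementary abelian of order p² and characteristic in G. -/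
theorem result {G : Type*} [Group G] [Finite G] {p : ℕ} [Fact p.Prime] (hG : IsPGroup p G) (hna : ¬ IsMulCommutative G) (U : Subgroup G) [U.Normal] (hU : IsCyclic U) (n : ℕ) (hUn : Nat.card U = p ^ n) (hC : Subgroup.centralizer (U : Set G) = U) : (p = 2 ∧ Nat.card G = 2 ^ (n + 1) ∧ ((∃ m : ℕ, Nonempty (G ≃* DihedralGroup m)) ∨ (∃ m : ℕ, Nonempty (G ≃* QuaternionGroup m)) ∨ Cfsg.IsQuasiDihedral G)) ∨ (U.relIndex (Subgroup.centralizer (Cfsg.powerClosure p 1 U : Set G)) = p ∧ Cfsg.IsElementaryAbelian p (Cfsg.omegaOne p (Subgroup.centralizer (Cfsg.powerClosure p 1 U : Set G))) ∧ Nat.card ↥(Cfsg.omegaOne p (Subgroup.centralizer (Cfsg.powerClosure p 1 U : Set G))) = p ^ 2 ∧ (Cfsg.omegaOne p (Subgroup.centralizer (Cfsg.powerClosure p 1 U : Set G))).Characteristic) := by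
  classical
  have hp : p.Prime := Fact.out
  haveI := hU
  obtain ⟨⟨a, haU⟩, hgen⟩ := IsCyclic.exists_generator (α := U)
  have hUa : U = Subgroup.zpowers a := by
    refine le_antisymm (fun x hx => ?_) (Subgroup.zpowers_le.mpr haU)
    obtain ⟨j, hj⟩ := hgen ⟨x, hx⟩
    exact ⟨j, congrArg Subtype.val hj⟩
  have ha : orderOf a = p ^ n := by rw [← hUn, hUa, Nat.card_zpowers]
  have hzm : ∀ i : ℤ, a ^ i = 1 ↔ (p : ℤ) ^ n ∣ i := fun i => by
    rw [← orderOf_dvd_iff_zpow_eq_one, ha]; push_cast; rfl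
  have heq : ∀ i j : ℤ, a ^ i = a ^ j ↔ (p : ℤ) ^ n ∣ i - j := fun i j => by
    rw [← hzm, zpow_sub, mul_inv_eq_one]
  have hact : ∀ g : G, ∃ i : ℤ, a ^ i = g * a * g⁻¹ := fun g =>
    Subgroup.mem_zpowers_iff.mp (hUa.le (‹U.Normal›.conj_mem a haU g))
  choose r hr using hact
  have hcent : ∀ g : G, g * a * g⁻¹ = a → g ∈ U := by
    intro g hg
    rw [← hC, Subgroup.mem_centralizer_iff]
    intro u hu
    obtain ⟨i, rfl⟩ := hUa.le hu
    exact (Commute.zpow_right (mul_inv_eq_iff_eq_mul.mp hg) i).eq.symm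
  have hcU : ∀ u ∈ U, ∀ i : ℤ, u * a ^ i = a ^ i * u := by
    intro u hu i
    obtain ⟨j, rfl⟩ := hUa.le hu
    exact ((Commute.refl a).zpow_zpow j i).eq
  have hrU : ∀ g, (p : ℤ) ^ n ∣ r g - 1 ↔ g ∈ U := fun g => by
    rw [← heq, hr, zpow_one]
    refine ⟨hcent g, fun hg => ?_⟩
    have := hcU g hg 1
    rw [zpow_one] at this
    rw [this, mul_inv_cancel_right]
  have hconj : ∀ (g : G) (i : ℤ), g * a ^ i * g⁻¹ = a ^ (r g * i) := fun g i => by
    rw [← conj_zpow, ← hr, zpow_mul]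
  have hrmul : ∀ g h : G, (p : ℤ) ^ n ∣ r (g * h) - r g * r h := fun g h => by
    rw [← heq, hr, ← hconj, hr]; group
  have hrpow : ∀ (g : G) (k : ℕ), (p : ℤ) ^ n ∣ r (g ^ k) - r g ^ k := by
    intro g k
    induction k with
    | zero => rw [pow_zero, pow_zero, ← heq, hr, zpow_one]; simp
    | succ k ih =>
      have h := dvd_add (hrmul (g ^ k) g) (ih.mul_right (r g))
      rw [pow_succ, pow_succ]
      convert h using 1
      all_goals first | rfl | ring
  have hn0 : n ≠ 0 := by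
    rintro rfl
    refine hna ⟨⟨fun x y => ?_⟩⟩
    have hb : U = ⊥ := U.eq_bot_of_card_eq (by rw [hUn, pow_zero])
    have ht : (⊤ : Subgroup G) ≤ ⊥ := hb ▸ (show (⊤ : Subgroup G) ≤ U by
      rw [← hC, hb]
      intro w _
      exact Subgroup.mem_centralizer_iff.mpr fun v hv => by
        rw [Subgroup.mem_bot.mp hv, one_mul, mul_one])
    rw [Subgroup.mem_bot.mp (ht (Subgroup.mem_top x)), Subgroup.mem_bot.mp (ht (Subgroup.mem_top y))]
  have hr1 : ∀ g, (p : ℤ) ∣ r g - 1 := by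
    intro g
    obtain ⟨k, hk⟩ := hG g
    have h1 : (p : ℤ) ∣ r g ^ p ^ k - 1 := by
      have h2 : (p : ℤ) ^ n ∣ r (g ^ p ^ k) - 1 := (hrU _).mpr (by rw [hk]; exact U.one_mem)
      have h3 := dvd_sub h2 (hrpow g (p ^ k))
      rw [show r (g ^ p ^ k) - 1 - (r (g ^ p ^ k) - r g ^ p ^ k) = r g ^ p ^ k - 1 by ring] at h3
      exact (dvd_pow_self _ hn0).trans h3
    rw [← ZMod.intCast_zmod_eq_zero_iff_dvd] at h1 ⊢
    push_cast at h1 ⊢
    rwa [ZMod.pow_card_pow] at h1
  have hn2 : 2 ≤ n := by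
    by_contra hlt
    obtain rfl : n = 1 := by omega
    refine hna ⟨⟨fun x y => ?_⟩⟩
    have hall : ∀ g, g ∈ U := fun g => (hrU g).mp (by rw [pow_one]; exact hr1 g)
    obtain ⟨i, rfl⟩ := hUa.le (hall x)
    exact (hcU y (hall y) i).symm
  obtain ⟨m, rfl⟩ : ∃ m, n = m + 2 := ⟨n - 2, by omega⟩
  have hpc : Cfsg.powerClosure p 1 U = Subgroup.zpowers (a ^ p) := by
    refine le_antisymm ((Subgroup.closure_le _).mpr ?_) (Subgroup.zpowers_le.mpr
      (Subgroup.subset_closure ⟨a, haU, by rw [pow_one]⟩))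
    rintro _ ⟨x, hx, rfl⟩
    obtain ⟨j, rfl⟩ := hUa.le hx
    refine ⟨j, ?_⟩
    show (a ^ p) ^ j = (a ^ j) ^ p ^ 1
    rw [pow_one, ← zpow_natCast, ← zpow_natCast, ← zpow_mul, ← zpow_mul, mul_comm]
  haveI hPn : (Cfsg.powerClosure p 1 U).Normal := by
    rw [hpc]
    refine ⟨fun x hx g => ?_⟩
    obtain ⟨j, rfl⟩ := hx
    refine ⟨r g * j, ?_⟩
    show (a ^ p) ^ (r g * j) = g * (a ^ p) ^ j * g⁻¹
    rw [← zpow_natCast, ← zpow_mul, ← zpow_mul, hconj]
    congr 1; ring
  set K := Subgroup.centralizer (Cfsg.powerClosure p 1 U : Set G) with hKdef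
  have hK : ∀ g, g ∈ K ↔ (p : ℤ) ^ (m + 1) ∣ r g - 1 := by
    intro g
    have hiff : g ∈ K ↔ g * a ^ (p : ℤ) * g⁻¹ = a ^ (p : ℤ) := by
      rw [hKdef, hpc, Subgroup.mem_centralizer_iff, mul_inv_eq_iff_eq_mul, zpow_natCast]
      refine ⟨fun h => (h _ (Subgroup.mem_zpowers _)).symm, fun h v hv => ?_⟩
      obtain ⟨j, rfl⟩ := hv
      exact (Commute.zpow_right h j).eq.symm
    rw [hiff, hconj, heq, show r g * (p : ℤ) - p = (p : ℤ) * (r g - 1) by ring, pow_succ' (p : ℤ) (m + 1)]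
    exact ⟨Int.dvd_of_mul_dvd_mul_left (by exact_mod_cast hp.ne_zero), mul_dvd_mul_left _⟩
  have hUK : U ≤ K := fun u hu => (hK u).mpr ((pow_dvd_pow _ (Nat.le_succ _)).trans ((hrU u).mpr hu))
  -- maximal class criterion for `p = 2`
  have hfirst : ∀ (t : G), p = 2 → Nat.card G = p ^ (m + 3) → (¬ (4 : ℤ) ∣ r t - 1 ∨ m = 0) →
      (∃ k : ℕ, Nonempty (G ≃* DihedralGroup k)) ∨ (∃ k : ℕ, Nonempty (G ≃* QuaternionGroup k)) ∨
        Cfsg.IsQuasiDihedral G := by
    intro t hp2 hcard ht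
    subst hp2
    have hlow : 2 ^ (m + 1) ≤ Nat.card (commutator G) := by
      rcases ht with ht | rfl
      · have hmem : a ^ (r t - 1) ∈ commutator G := by
          rw [zpow_sub, zpow_one, hr]
          exact Subgroup.commutator_mem_commutator (Subgroup.mem_top t) (Subgroup.mem_top a)
        refine le_trans ?_ (Subgroup.card_le_of_le (Subgroup.zpowers_le.mpr hmem))
        rw [Nat.card_zpowers]
        by_contra hlt
        obtain ⟨i, hi, hio⟩ := (Nat.dvd_prime_pow Nat.prime_two).mp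
          (ha ▸ orderOf_dvd_of_mem_zpowers ⟨r t - 1, rfl⟩ : orderOf (a ^ (r t - 1)) ∣ 2 ^ (m + 2))
        rw [hio, not_le] at hlt
        have him : i ≤ m := by
          have := (Nat.pow_lt_pow_iff_right (le_refl 2)).mp hlt
          omega
        have h1 : (a ^ (r t - 1)) ^ (2 ^ m) = 1 :=
          orderOf_dvd_iff_pow_eq_one.mp (hio ▸ pow_dvd_pow 2 him)
        rw [← zpow_natCast, ← zpow_mul, hzm] at h1
        push_cast at h1
        rw [pow_add, mul_comm (r t - 1)] at h1
        exact ht ((show (4 : ℤ) = 2 ^ 2 by norm_num) ▸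
          Int.dvd_of_mul_dvd_mul_left (pow_ne_zero _ two_ne_zero) h1)
      · by_contra hlt
        have h1 : Nat.card (commutator G) = 1 := by
          have := Nat.card_pos (α := commutator G)
          norm_num at hlt
          omega
        exact hna ⟨⟨CfsgLib.MaxClass.comm_eq_of_commutator_eq_bot ((commutator G).eq_bot_of_card_eq h1)⟩⟩
    have hup := CfsgLib.MaxClass.card_lcs_succ_le hcard 0
    rw [zero_add, Subgroup.top_lowerCentralSeries_one, Nat.sub_zero, show m + 3 - 2 = m + 1 by omega] at hup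
    rcases CfsgLib.MaxClass.classify (n := m + 3) (by omega) hcard
        (by rw [show m + 3 - 2 = m + 1 by omega]; exact le_antisymm hup hlow) with h | h | ⟨h4, x, y, hx, hy, hxy⟩
    · exact Or.inl ⟨_, h⟩
    · exact Or.inr (Or.inl ⟨_, h⟩)
    · refine Or.inr (Or.inr ⟨m + 2, by omega, hcard, x, y, hx, hy, ?_⟩)
      exact hxy
  by_cases hx : ∃ x ∈ K, x ∉ U
  · obtain ⟨x, hxK, hxU⟩ := hx
    set z := a ^ ((p : ℤ) ^ (m + 1)) with hz
    have hzU : z ∈ U := U.zpow_mem haU _
    have hzp : z ^ p = 1 := by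
      rw [hz, ← zpow_natCast, ← zpow_mul, hzm, pow_succ]
    have hz1 : z ≠ 1 := by
      intro e
      rw [hz, hzm] at e
      exact absurd (Int.natCast_dvd_natCast.mp (by exact_mod_cast e))
        (Nat.not_dvd_of_pos_of_lt (pow_pos hp.pos _) (Nat.pow_lt_pow_right hp.one_lt (Nat.lt_succ_self (m + 1))))
    have hzo : orderOf z = p := orderOf_eq_prime hzp hz1
    have hzc : ∀ g ∈ K, ∀ i : ℤ, g * a ^ ((p : ℤ) * i) * g⁻¹ = a ^ ((p : ℤ) * i) := by
      intro g hg i
      rw [hconj, heq, show r g * ((p : ℤ) * i) - p * i = p * (r g - 1) * i by ring,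
        pow_succ' (p : ℤ) (m + 1)]
      exact (mul_dvd_mul_left _ ((hK g).mp hg)).mul_right i
    have hrz : ∀ g ∈ K, a ^ (r g - 1) ∈ Subgroup.zpowers z := by
      intro g hg
      obtain ⟨l, hl⟩ := (hK g).mp hg
      exact ⟨l, by show z ^ l = _; rw [hz, ← zpow_mul, hl]⟩
    let φ : K →* G := MonoidHom.mk' (fun g => a ^ (r g - 1)) (by
      rintro ⟨g, hg⟩ ⟨h, hh⟩
      show a ^ (r (g * h) - 1) = a ^ (r g - 1) * a ^ (r h - 1)
      rw [← zpow_add, heq]
      obtain ⟨l, hl⟩ := (hK g).mp hg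
      obtain ⟨l', hl'⟩ := (hK h).mp hh
      have h2 : (p : ℤ) ^ (m + 2) ∣ (r g - 1) * (r h - 1) := by
        rw [hl, hl']
        refine ⟨(p : ℤ) ^ m * (l * l'), ?_⟩
        ring
      convert dvd_add (hrmul g h) h2 using 1
      all_goals first | rfl | ring)
    have hker : φ.ker = U.subgroupOf K := by
      ext g
      rw [MonoidHom.mem_ker, Subgroup.mem_subgroupOf]
      show a ^ (r g - 1) = 1 ↔ _
      rw [hzm, hrU]
    have hrangele : φ.range ≤ Subgroup.zpowers z := by
      rintro _ ⟨g, rfl⟩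
      exact hrz g g.2
    have hφx : φ ⟨x, hxK⟩ ≠ 1 := fun e => hxU (by
      have : (⟨x, hxK⟩ : K) ∈ U.subgroupOf K := hker ▸ e
      exact this)
    have hrange : φ.range = Subgroup.zpowers z := by
      refine Subgroup.eq_of_le_of_card_ge hrangele ?_
      rw [Nat.card_zpowers, hzo]
      have hd := Subgroup.card_dvd_of_le hrangele
      rw [Nat.card_zpowers, hzo, Nat.dvd_prime hp] at hd
      refine (hd.resolve_left fun h1 => hφx ?_).ge
      exact Subgroup.mem_bot.mp (φ.range.eq_bot_of_card_eq h1 ▸ ⟨_, rfl⟩)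
    have hrel : U.relIndex K = p := by
      rw [Subgroup.relIndex, ← hker, Subgroup.index_ker, hrange, Nat.card_zpowers, hzo]
    by_cases h22 : p = 2 ∧ m = 0
    · obtain ⟨rfl, rfl⟩ := h22
      have hKtop : K = ⊤ := (Subgroup.eq_top_iff' _).mpr fun g => (hK g).mpr (by
        rw [zero_add, pow_one]; exact hr1 g)
      have hcard : Nat.card G = 2 ^ (0 + 3) := by
        rw [← U.card_mul_index, hUn, ← Subgroup.relIndex_top_right, ← hKtop, hrel]
        norm_num
      exact Or.inl ⟨rfl, by simpa using hcard, hfirst 1 rfl hcard (Or.inr rfl)⟩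
    -- `p`th powers in the coset of `g`
    have hpow : ∀ g ∈ K, ∃ e : ℤ, ¬ (p : ℤ) ∣ e ∧ ∀ i : ℤ, (g * a ^ i) ^ p = g ^ p * a ^ ((p : ℤ) * e * i) := by
      intro g hg
      set s := r g⁻¹ with hs
      have hsK := (hK _).mp (K.inv_mem hg)
      rw [← hs] at hsK
      have hgs : ∀ i : ℤ, a ^ i * g = g * a ^ (s * i) := by
        intro i
        have := hconj g⁻¹ i
        rw [inv_inv, ← hs] at this
        rw [← this]; group
      have hform : ∀ (k : ℕ) (i : ℤ), (g * a ^ i) ^ k = g ^ k * a ^ (i * ∑ j ∈ Finset.range k, s ^ j) := by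
        intro k i
        induction k with
        | zero => simp
        | succ k ih =>
          rw [pow_succ, ih, ← mul_assoc, mul_assoc (g ^ k), hgs, ← mul_assoc, ← pow_succ, mul_assoc,
            ← zpow_add, geom_sum_succ]
          congr 2
          ring
      have hsq : (p : ℤ) ^ (m + 2) ∣ (s - 1) * (s - 1) :=
        (show (p : ℤ) ^ (m + 2) ∣ (p : ℤ) ^ (m + 1) * (p : ℤ) ^ (m + 1) by
          rw [← pow_add]; exact pow_dvd_pow _ (by omega)).trans (mul_dvd_mul hsK hsK)
      have hsum : ∀ k : ℕ, (p : ℤ) ^ (m + 2) ∣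
          2 * (∑ j ∈ Finset.range k, s ^ j) - 2 * k - (s - 1) * ((k : ℤ) * ((k : ℤ) - 1)) := by
        intro k
        induction k with
        | zero => simp
        | succ k ih =>
          rw [geom_sum_succ]
          have h := dvd_add (ih.mul_right s) (hsq.mul_right ((k : ℤ) * ((k : ℤ) - 1)))
          convert h using 1
          all_goals first | rfl | (push_cast; ring)
      rcases eq_or_ne p 2 with rfl | hp2
      · obtain ⟨l, hl⟩ := hsK
        push_cast at hl
        refine ⟨1 + 2 ^ m * l, ?_, fun i => ?_⟩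
        · rintro ⟨c, hc⟩
          push_cast at hc
          obtain ⟨m', rfl⟩ : ∃ m', m = m' + 1 := ⟨m - 1, by omega⟩
          rw [pow_succ] at hc
          have : (2 : ℤ) ∣ 1 := ⟨c - 2 ^ m' * l, by linarith⟩
          omega
        · rw [hform]
          congr 2
          rw [Finset.sum_range_succ, Finset.sum_range_one, pow_zero, pow_one, show s = 1 + 2 ^ (m + 1) * l by linarith]
          push_cast
          ring
      · refine ⟨1, fun h => hp.not_dvd_one (Int.natCast_dvd_natCast.mp h), fun i => ?_⟩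
        rw [hform]
        congr 1
        rw [heq]
        have h1 : (p : ℤ) ^ (m + 2) ∣ (s - 1) * ((p : ℤ) * ((p : ℤ) - 1)) := by
          rw [pow_succ, ← mul_assoc]
          exact (mul_dvd_mul hsK dvd_rfl).mul_right _
        have h2 := dvd_add (hsum p) h1
        rw [sub_add_cancel, ← mul_sub] at h2
        have hcop : IsCoprime ((p : ℤ) ^ (m + 2)) 2 := by
          refine IsCoprime.pow_left ((Nat.prime_iff_prime_int.mp hp).coprime_iff_not_dvd.mpr ?_)
          intro h
          exact hp2 ((Nat.prime_dvd_prime_iff_eq hp Nat.prime_two).mp (Int.natCast_dvd_natCast.mp h))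
        rw [show i * (∑ j ∈ Finset.range p, s ^ j) - (p : ℤ) * 1 * i = ((∑ j ∈ Finset.range p, s ^ j) - p) * i by ring]
        exact (hcop.dvd_of_dvd_mul_left h2).mul_right i
    -- an element of order `p` outside `U`
    obtain ⟨y, hyK, hyU, hyp⟩ : ∃ y ∈ K, y ∉ U ∧ y ^ p = 1 := by
      have hxp : x ^ p ∈ U := by
        have h : φ (⟨x, hxK⟩ ^ p) = 1 := by
          rw [map_pow]
          obtain ⟨l, hl⟩ := hrangele ⟨_, rfl⟩
          rw [← hl]
          show (z ^ l) ^ p = 1
          rw [← zpow_natCast, zpow_comm, zpow_natCast, hzp, one_zpow]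
        have : (⟨x, hxK⟩ : K) ^ p ∈ U.subgroupOf K := hker ▸ h
        exact this
      obtain ⟨s, hs⟩ := hUa.le hxp
      have hs' : a ^ s = x ^ p := hs
      obtain ⟨j, rfl⟩ : (p : ℤ) ∣ s := by
        have h := hconj x s
        rw [hs', show x * x ^ p * x⁻¹ = x ^ p by group, ← hs', heq] at h
        obtain ⟨l, hl⟩ := (hK x).mp hxK
        have hlp : ¬ (p : ℤ) ∣ l := by
          rintro ⟨c, rfl⟩
          exact hxU ((hrU x).mp ⟨c, by rw [hl]; ring⟩)
        rw [show s - r x * s = (p : ℤ) ^ (m + 1) * (-l * s) by linear_combination (-s) * hl,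
          pow_succ (p : ℤ) (m + 1)] at h
        have h' := Int.dvd_of_mul_dvd_mul_left (pow_ne_zero _ (by exact_mod_cast hp.ne_zero)) h
        exact ((Nat.prime_iff_prime_int.mp hp).dvd_or_dvd h').resolve_left fun hd => hlp (dvd_neg.mp hd)
      obtain ⟨e, he, hpe⟩ := hpow x hxK
      obtain ⟨u, v, huv⟩ : IsCoprime e ((p : ℤ) ^ (m + 1)) :=
        ((Nat.prime_iff_prime_int.mp hp).coprime_iff_not_dvd.mpr he).symm.pow_right
      refine ⟨x * a ^ (-(j * u)), K.mul_mem hxK (hUK (U.zpow_mem haU _)),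
        fun h => hxU ((U.mul_mem_cancel_right (U.zpow_mem haU _)).mp h), ?_⟩
      rw [hpe, ← hs', ← zpow_add, hzm]
      exact ⟨j * v, by linear_combination (-((p : ℤ) * j)) * huv⟩
    have hyo : orderOf y = p := orderOf_eq_prime hyp fun e => hyU (e ▸ U.one_mem)
    have hcyz : Commute y z := by
      have h := hzc y hyK ((p : ℤ) ^ m)
      rw [← pow_succ', ← hz] at h
      exact mul_inv_eq_iff_eq_mul.mp h
    have hzK : z ∈ K := hUK hzU
    have hcomm : ∀ (u : Subgroup.zpowers y) (v : Subgroup.zpowers z),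
        Commute ((Subgroup.zpowers y).subtype u) ((Subgroup.zpowers z).subtype v) := by
      rintro ⟨u, i, rfl⟩ ⟨v, j, rfl⟩
      exact hcyz.zpow_zpow i j
    have hdisj : Disjoint (Subgroup.zpowers y) (Subgroup.zpowers z) := by
      rw [disjoint_iff]
      have hd := Subgroup.card_dvd_of_le (inf_le_left : Subgroup.zpowers y ⊓ Subgroup.zpowers z ≤ _)
      rw [Nat.card_zpowers, hyo, Nat.dvd_prime hp] at hd
      rcases hd with h | h
      · exact Subgroup.eq_bot_of_card_eq _ h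
      · have := Subgroup.eq_of_le_of_card_ge (inf_le_left : Subgroup.zpowers y ⊓ Subgroup.zpowers z ≤ _)
          (by rw [h, Nat.card_zpowers, hyo])
        exact absurd (Subgroup.zpowers_le.mpr hzU (this.ge (Subgroup.mem_zpowers y)).2) hyU
    set ψ := MonoidHom.noncommCoprod (Subgroup.zpowers y).subtype (Subgroup.zpowers z).subtype hcomm
    have hψr : ψ.range = Subgroup.zpowers y ⊔ Subgroup.zpowers z := by
      rw [MonoidHom.noncommCoprod_range, Subgroup.range_subtype, Subgroup.range_subtype]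
    have hψi : Function.Injective ψ := (MonoidHom.noncommCoprod_injective _ _ _).mpr
      ⟨Subtype.val_injective, Subtype.val_injective, by rwa [Subgroup.range_subtype, Subgroup.range_subtype]⟩
    set E := Cfsg.omegaOne p K with hE
    have hmemE : ∀ w ∈ K, w ^ p = 1 → w ∈ Subgroup.zpowers y ⊔ Subgroup.zpowers z := by
      intro w hwK hwp
      have hφy : φ ⟨y, hyK⟩ ≠ 1 := fun e => hyU (by
        have : (⟨y, hyK⟩ : K) ∈ U.subgroupOf K := hker ▸ e
        exact this)
      obtain ⟨i, hi⟩ : φ ⟨w, hwK⟩ ∈ Subgroup.zpowers (φ ⟨y, hyK⟩) := by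
        haveI : Fact (Nat.card (Subgroup.zpowers z)).Prime := ⟨by rw [Nat.card_zpowers, hzo]; exact hp⟩
        have h := zpowers_eq_top_of_prime_card (G := Subgroup.zpowers z) rfl
          (g := ⟨_, hrangele ⟨⟨y, hyK⟩, rfl⟩⟩) (fun e => hφy (congrArg Subtype.val e))
        obtain ⟨i, hi⟩ := h.ge (Subgroup.mem_top ⟨φ ⟨w, hwK⟩, hrangele ⟨_, rfl⟩⟩)
        exact ⟨i, congrArg Subtype.val hi⟩
      have hq : y ^ (-i) * w ∈ U := by
        have : (⟨y, hyK⟩ : K) ^ (-i) * ⟨w, hwK⟩ ∈ φ.ker := by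
          rw [MonoidHom.mem_ker, map_mul, map_zpow, ← hi, zpow_neg]
          exact inv_mul_cancel _
        rw [hker] at this
        exact this
      obtain ⟨q, hq'⟩ := hUa.le hq
      have hw : w = y ^ i * a ^ q := by
        rw [show a ^ q = y ^ (-i) * w from hq', zpow_neg, mul_inv_cancel_left]
      obtain ⟨e, he, hpe⟩ := hpow (y ^ i) (K.zpow_mem hyK i)
      rw [hw, hpe, ← zpow_natCast, zpow_comm, zpow_natCast, hyp, one_zpow, one_mul, hzm, mul_assoc,
        pow_succ' (p : ℤ) (m + 1)] at hwp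
      have hd := Int.dvd_of_mul_dvd_mul_left (by exact_mod_cast hp.ne_zero) hwp
      obtain ⟨c, rfl⟩ := (((Nat.prime_iff_prime_int.mp hp).coprime_iff_not_dvd.mpr he).pow_left).dvd_of_dvd_mul_left hd
      rw [hw]
      exact Subgroup.mul_mem_sup ⟨i, rfl⟩ ⟨c, by show z ^ c = _; rw [hz, ← zpow_mul]⟩
    have hEeq : E = Subgroup.zpowers y ⊔ Subgroup.zpowers z := by
      refine le_antisymm ((Subgroup.closure_le _).mpr fun w hw => hmemE w hw.1 hw.2) (sup_le ?_ ?_)
      · exact Subgroup.zpowers_le.mpr (Subgroup.subset_closure ⟨hyK, hyp⟩)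
      · exact Subgroup.zpowers_le.mpr (Subgroup.subset_closure ⟨hzK, hzp⟩)
    have hEexp : ∀ w ∈ E, w ^ p = 1 := by
      intro w hw
      obtain ⟨⟨⟨u, i, rfl⟩, ⟨v, j, rfl⟩⟩, rfl⟩ := (hψr.trans hEeq.symm).ge hw
      show (y ^ i * z ^ j) ^ p = 1
      rw [(hcyz.zpow_zpow i j).mul_pow, ← zpow_natCast, ← zpow_natCast, zpow_comm, zpow_natCast, hyp, one_zpow,
        one_mul, zpow_comm, zpow_natCast, hzp, one_zpow]
    haveI hEn : E.Normal := by
      refine ⟨fun w hw g => ?_⟩
      have hKn : K.Normal := inferInstance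
      refine Subgroup.subset_closure ⟨hKn.conj_mem w ((Subgroup.closure_le _).mpr (fun v hv => hv.1) hw) g, ?_⟩
      rw [conj_pow, hEexp w hw, mul_one, mul_inv_cancel]
    refine Or.inr ⟨hrel, ⟨⟨⟨?_⟩⟩, hEexp⟩, ?_, ?_⟩
    · rintro ⟨w, hw⟩ ⟨w', hw'⟩
      obtain ⟨⟨u, v⟩, rfl⟩ := (hψr.trans hEeq.symm).ge hw
      obtain ⟨⟨u', v'⟩, rfl⟩ := (hψr.trans hEeq.symm).ge hw'
      apply Subtype.ext
      show ψ (u, v) * ψ (u', v') = ψ (u', v') * ψ (u, v)
      rw [← map_mul, ← map_mul]
      exact congrArg ψ (Prod.ext (mul_comm' u u') (mul_comm' v v'))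
    · rw [hEeq, ← hψr, ← Nat.card_congr (MonoidHom.ofInjective hψi).toEquiv, Nat.card_prod, Nat.card_zpowers,
        Nat.card_zpowers, hyo, hzo, pow_two]
    · rw [Subgroup.characteristic_iff_map_le]
      intro σ
      haveI : (E.map σ.toMonoidHom).Normal := hEn.map _ σ.surjective
      rintro w hw
      have hwp : w ^ p = 1 := by
        obtain ⟨v, hv, rfl⟩ := hw
        rw [← map_pow, hEexp v hv, map_one]
      refine Subgroup.subset_closure ⟨(hK w).mpr ?_, hwp⟩
      have h1 : a ^ (r w - 1) ∈ E.map σ.toMonoidHom := by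
        rw [zpow_sub, zpow_one, hr, show w * a * w⁻¹ * a⁻¹ = w * (a * w⁻¹ * a⁻¹) by group]
        exact mul_mem hw (Subgroup.Normal.conj_mem this _ (inv_mem hw) a)
      obtain ⟨v, hv, hv'⟩ := h1
      have h2 : (a ^ (r w - 1)) ^ p = 1 := by rw [← hv', ← map_pow, hEexp v hv, map_one]
      rw [← zpow_natCast, ← zpow_mul, hzm, pow_succ (p : ℤ) (m + 1)] at h2
      exact Int.dvd_of_mul_dvd_mul_right (by exact_mod_cast hp.ne_zero) h2
  · push Not at hx
    obtain ⟨t, ht, htp⟩ : ∃ t, t ∉ U ∧ t ^ p ∈ U := by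
      have hne : U ≠ ⊤ := fun h => hna ⟨⟨fun u v => by
        obtain ⟨i, rfl⟩ := hUa.le (h.ge (Subgroup.mem_top u))
        exact (hcU v (h.ge (Subgroup.mem_top v)) i).symm⟩⟩
      obtain ⟨w, hw⟩ : ∃ w, w ∉ U := by
        by_contra h
        push Not at h
        exact hne ((Subgroup.eq_top_iff' _).mpr h)
      obtain ⟨k, hk⟩ := hG w
      have hex : ∃ i, w ^ p ^ i ∈ U := ⟨k, hk ▸ U.one_mem⟩
      have h0 : Nat.find hex ≠ 0 := fun h => hw (by
        have := Nat.find_spec hex; rwa [h, pow_zero, pow_one] at this)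
      refine ⟨w ^ p ^ (Nat.find hex - 1), Nat.find_min hex (by omega), ?_⟩
      rw [← pow_mul, ← pow_succ, show Nat.find hex - 1 + 1 = Nat.find hex by omega]
      exact Nat.find_spec hex
    have hp2 : p = 2 := by
      by_contra hne
      refine ht (hx t ((hK t).mpr ?_))
      have h3 := dvd_sub ((hrU _).mpr htp) (hrpow t p)
      rw [show r (t ^ p) - 1 - (r (t ^ p) - r t ^ p) = r t ^ p - 1 by ring] at h3
      have h4 := CfsgLib.CyclicMax.int_dvd_sub_one_mul_of_dvd_pow_sub_one (i := r t) (m := m + 2) hp hne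
        (by exact_mod_cast h3)
      push_cast at h4
      rw [pow_succ (p : ℤ) (m + 1)] at h4
      exact Int.dvd_of_mul_dvd_mul_right (by exact_mod_cast hp.ne_zero) h4
    subst hp2
    push_cast at *
    have hm : m ≠ 0 := by
      rintro rfl
      exact ht (hx t ((hK t).mpr (by rw [zero_add, pow_one]; exact hr1 t)))
    have hkey : ∀ g, g ∉ U → g ^ 2 ∈ U → (2 : ℤ) ^ (m + 1) ∣ r g + 1 := by
      intro g hg hg2
      have h3 := dvd_sub ((hrU _).mpr hg2) (hrpow g 2)
      rw [show r (g ^ 2) - 1 - (r (g ^ 2) - r g ^ 2) = r g ^ 2 - 1 by ring] at h3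
      obtain ⟨u, hu⟩ := hr1 g
      rw [show r g ^ 2 - 1 = 2 * (u * (r g + 1)) by linear_combination (r g + 1) * hu, pow_succ'] at h3
      have h5 := Int.dvd_of_mul_dvd_mul_left two_ne_zero h3
      rcases Int.even_or_odd' u with ⟨c, rfl | rfl⟩
      · exfalso
        have hc : IsCoprime ((2 : ℤ) ^ m) (2 * c + 1) :=
          IsCoprime.pow_left (Int.prime_two.coprime_iff_not_dvd.mpr (by omega))
        rw [show 2 * c * (r g + 1) = 2 * (2 * (c * (2 * c + 1))) by linear_combination (2 * c) * hu,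
          pow_succ'] at h5
        have h6 := Int.dvd_of_mul_dvd_mul_left two_ne_zero h5
        obtain ⟨m', rfl⟩ : ∃ m', m = m' + 1 := ⟨m - 1, by omega⟩
        rw [pow_succ'] at h6
        have h7 := Int.dvd_of_mul_dvd_mul_left two_ne_zero h6
        have hc' : IsCoprime ((2 : ℤ) ^ m') (2 * c + 1) :=
          IsCoprime.pow_left (Int.prime_two.coprime_iff_not_dvd.mpr (by omega))
        refine hg (hx g ((hK g).mpr ?_))
        obtain ⟨d, hd⟩ := hc'.dvd_of_dvd_mul_right h7
        exact ⟨d, by rw [hd] at hu; linear_combination hu⟩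
      · exact (IsCoprime.pow_left (Int.prime_two.coprime_iff_not_dvd.mpr (by omega))).dvd_of_dvd_mul_left h5
    have h4t : ¬ (4 : ℤ) ∣ r t - 1 := by
      intro h
      have := (show (4 : ℤ) ∣ 2 ^ (m + 1) by
        rw [show (4 : ℤ) = 2 ^ 2 by norm_num]; exact pow_dvd_pow 2 (by omega)).trans (hkey t ht htp)
      omega
    have hsq : ∀ g, g ^ 2 ∈ U := by
      intro g
      by_contra hg
      obtain ⟨k, hk⟩ := hG g
      have hex : ∃ i, g ^ 2 ^ i ∈ U := ⟨k, hk ▸ U.one_mem⟩
      have h2 : 2 ≤ Nat.find hex := by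
        by_contra hlt
        have := Nat.find_spec hex
        obtain h | h : Nat.find hex = 0 ∨ Nat.find hex = 1 := by omega
        · rw [h, pow_zero, pow_one] at this; exact hg (U.pow_mem this 2)
        · rw [h, pow_one] at this; exact hg this
      set i := Nat.find hex - 2
      have hn' : g ^ 2 ^ (i + 1) ∉ U := Nat.find_min hex (by omega)
      have hy' : g ^ 2 ^ (i + 1) = (g ^ 2 ^ i) ^ 2 := by rw [← pow_mul, ← pow_succ]
      have h1 := hkey _ hn' (by
        rw [← pow_mul, ← pow_succ, show i + 1 + 1 = Nat.find hex by omega]; exact Nat.find_spec hex)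
      have h2' := dvd_sub h1 ((pow_dvd_pow (2 : ℤ) (show m + 1 ≤ m + 2 by omega)).trans (hy' ▸ hrpow (g ^ 2 ^ i) 2))
      rw [show r (g ^ 2 ^ (i + 1)) + 1 - (r (g ^ 2 ^ (i + 1)) - r (g ^ 2 ^ i) ^ 2) = r (g ^ 2 ^ i) ^ 2 + 1 by ring] at h2'
      have h4 : (4 : ℤ) ∣ r (g ^ 2 ^ i) ^ 2 + 1 := (show (4 : ℤ) ∣ 2 ^ (m + 1) by
        rw [show (4 : ℤ) = 2 ^ 2 by norm_num]; exact pow_dvd_pow 2 (by omega)).trans h2'
      obtain ⟨u, hu⟩ := hr1 (g ^ 2 ^ i)
      rw [show r (g ^ 2 ^ i) ^ 2 + 1 = 4 * (u * u + u) + 2 by linear_combination (r (g ^ 2 ^ i) + 1 + 2 * u) * hu] at h4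
      omega
    have hidx : U.index = 2 := by
      rw [Subgroup.index_eq_two_iff]
      refine ⟨t, fun g => ?_⟩
      by_cases hg : g ∈ U
      · exact Or.inr ⟨hg, fun h => ht ((U.mul_mem_cancel_left hg).mp h)⟩
      · refine Or.inl ⟨hx _ ((hK _).mpr ?_), hg⟩
        have h1 := hkey g hg (hsq g)
        have h2 := hkey t ht htp
        have h3 := ((pow_dvd_pow (2 : ℤ) (show m + 1 ≤ m + 2 by omega)).trans (hrmul g t))
        have h4 := dvd_add (dvd_add h3 (h1.mul_right (r t))) (h2.mul_left (-1))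
        convert h4 using 1
        all_goals first | rfl | ring
    have hcard : Nat.card G = 2 ^ (m + 3) := by rw [← U.card_mul_index, hUn, hidx, ← pow_succ]
    exact Or.inl ⟨trivial, hcard, hfirst t trivial hcard (Or.inl h4t)⟩

end Cfsg.Agent.S3761
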