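import Cfsg.Statements.S3762
import Cfsg.Agent.S3761
import Cfsg.Agent.Lib.PGroup.SymplecticType
import Cfsg.Agent.Lib.Extraspecial.Setting

set_option autoImplicit false
set_option linter.style.haveILetI false
open Cfsg

namespace Cfsg.Agent.S3762

open scoped commutatorElement

/-- The powers of a cyclic subgroup. -/
theorem powerClosure_eq {X : Type*} [Group X] {p : ℕ} (U : Subgroup X) (a : X) (hU : U = Subgroup.zpowers a) :
    Cfsg.powerClosure p 1 U = Subgroup.zpowers (a ^ p) := by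
  subst hU
  refine le_antisymm ((Subgroup.closure_le _).mpr ?_) (Subgroup.zpowers_le.mpr
    (Subgroup.subset_closure ⟨a, Subgroup.mem_zpowers a, by rw [pow_one]⟩))
  rintro _ ⟨x, ⟨j, rfl⟩, rfl⟩
  refine ⟨j, ?_⟩
  show (a ^ p) ^ j = (a ^ j) ^ p ^ 1
  rw [pow_one, ← zpow_natCast, ← zpow_natCast, ← zpow_mul, ← zpow_mul, mul_comm]

/-- A central product of two factors of class two has class two. -/
theorem glue {X : Type*} [Group X] {p : ℕ} (M E S : Subgroup X) (hdec : ∀ g ∈ M, ∃ e ∈ E, ∃ s ∈ S, g = e * s)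
    (hES : ∀ e ∈ E, ∀ s ∈ S, e * s = s * e)
    (hE : ∀ e ∈ E, ∀ e' ∈ E, ∀ g : X, g * ⁅e, e'⁆ = ⁅e, e'⁆ * g ∧ g * e ^ p = e ^ p * g)
    (hS : ∀ r ∈ S, ∀ s ∈ S, ∀ t ∈ S, t * ⁅r, s⁆ = ⁅r, s⁆ * t)
    (hSp : ∀ r ∈ S, ∀ t ∈ S, t * r ^ p = r ^ p * t) :
    (∀ u ∈ M, ∀ v ∈ M, ∀ w ∈ M, w * ⁅u, v⁆ = ⁅u, v⁆ * w) ∧ ∀ u ∈ M, ∀ w ∈ M, w * u ^ p = u ^ p * w := by
  have hS' : ∀ c ∈ S, (∀ t ∈ S, t * c = c * t) → ∀ w ∈ M, w * c = c * w := by
    intro c hc h w hw
    obtain ⟨e, he, s, hs, rfl⟩ := hdec w hw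
    rw [mul_assoc, h s hs, ← mul_assoc, hES e he c hc, mul_assoc]
  refine ⟨fun u hu v hv w hw => ?_, fun u hu w hw => ?_⟩
  · obtain ⟨e, he, s, hs, rfl⟩ := hdec u hu
    obtain ⟨e', he', s', hs', rfl⟩ := hdec v hv
    have hsplit : ⁅e * s, e' * s'⁆ = ⁅e, e'⁆ * ⁅s, s'⁆ := by
      have c1 : Commute s e' := (hES e' he' s hs).symm
      have c2 : Commute s' e := (hES e he s' hs').symm
      have c3 : Commute ⁅e, e'⁆ ⁅s, s'⁆ := ((hE e he e' he' ⁅s, s'⁆).1).symm
      calc ⁅e * s, e' * s'⁆ = e * (s * e') * (s' * s⁻¹) * (e⁻¹ * s'⁻¹) * e'⁻¹ := by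
            simp only [commutatorElement_def]; group
        _ = e * (e' * s) * (s' * s⁻¹) * (s'⁻¹ * e⁻¹) * e'⁻¹ := by
            rw [c1.eq, (c2.inv_inv).eq.symm]
        _ = e * e' * ⁅s, s'⁆ * (e⁻¹ * e'⁻¹) := by simp only [commutatorElement_def]; group
        _ = e * e' * ((e⁻¹ * e'⁻¹) * ⁅s, s'⁆) := by
            rw [mul_assoc (e * e'), hES (e⁻¹ * e'⁻¹) (mul_mem (inv_mem he) (inv_mem he')) ⁅s, s'⁆ (by
              rw [commutatorElement_def]
              exact mul_mem (mul_mem (mul_mem hs hs') (inv_mem hs)) (inv_mem hs'))]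
        _ = _ := by simp only [commutatorElement_def]; group
    rw [hsplit, ← mul_assoc, (hE e he e' he' w).1, mul_assoc, hS' _ (by
      rw [commutatorElement_def]
      exact mul_mem (mul_mem (mul_mem hs hs') (inv_mem hs)) (inv_mem hs')) (fun t ht => hS s hs s' hs' t ht) w hw,
      ← mul_assoc]
  · obtain ⟨e, he, s, hs, rfl⟩ := hdec u hu
    rw [(show Commute e s from hES e he s hs).mul_pow, ← mul_assoc, (hE e he e he w).2, mul_assoc,
      hS' _ (pow_mem hs p) (hSp s hs) w hw, ← mul_assoc]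

/-- Let G be a finite p-group of symplectic type: every characteristic abelian subgroup of G is cyclic. Then G = E ∗ R is a central product of subgroups E and R (they commute elementwise and generate G) where E is extraspecial or trivial, and R is cyclic, or p = 2 and R is dihedral, semidihedral or generalized quaternion of order at least 16. -/
theorem result {G : Type*} [Group G] [Finite G] {p : ℕ} [Fact p.Prime] (hG : IsPGroup p G) (hsymp : ∀ A : Subgroup G, A.Characteristic → IsMulCommutative A → IsCyclic A) : ∃ E R : Subgroup G, (∀ e ∈ E, ∀ r ∈ R, e * r = r * e) ∧ E ⊔ R = ⊤ ∧ (E = ⊥ ∨ Cfsg.IsExtraspecial p ↥E) ∧ (IsCyclic R ∨ (p = 2 ∧ 16 ≤ Nat.card R ∧ ((∃ m : ℕ, Nonempty (↥R ≃* DihedralGroup m)) ∨ (∃ m : ℕ, Nonempty (↥R ≃* QuaternionGroup m)) ∨ Cfsg.IsQuasiDihedral ↥R))) := by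
  classical
  have hp : p.Prime := Fact.out
  by_cases hab : IsMulCommutative G
  · exact ⟨⊥, ⊤, fun e he r _ => by rw [Subgroup.mem_bot.mp he, one_mul, mul_one], sup_top_eq ⊥,
      Or.inl rfl, Or.inl (hsymp ⊤ inferInstance inferInstance)⟩
  by_cases hc2 : (∀ a b : G, ⁅a, b⁆ ∈ Subgroup.center G) ∧ ∀ a : G, a ^ p ∈ Subgroup.center G
  · obtain ⟨E, hE, hsup⟩ := CfsgLib.SympType.classTwo_structure hG hsymp hc2.1 hc2.2 (by
      by_contra h
      push Not at h
      exact hab ⟨⟨fun x y => commutatorElement_eq_one_iff_mul_comm.mp (h x y)⟩⟩)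
    exact ⟨E, Subgroup.center G, fun e _ r hr => Subgroup.mem_center_iff.mp hr e, hsup, Or.inr hE,
      Or.inl (hsymp _ inferInstance inferInstance)⟩
  haveI : Group.IsNilpotent G := hG.isNilpotent
  obtain ⟨C, hCchar, hCp, hCc, hCC⟩ := CfsgLib.Critical.exists_isCrit hG
  haveI := hCchar
  set Zc := C ⊓ Subgroup.centralizer (C : Set G) with hZcdef
  haveI hZchar : Zc.Characteristic := by rw [hZcdef]; infer_instance
  haveI hZcyc : IsCyclic Zc := hsymp Zc hZchar ⟨⟨fun u v => Subtype.ext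
    (Subgroup.mem_centralizer_iff.mp v.2.2 u u.2.1)⟩⟩
  have hZcC : ∀ w ∈ Zc, ∀ c ∈ C, c * w = w * c := fun w hw c hc => Subgroup.mem_centralizer_iff.mp hw.2 c hc
  have hmemZc : ∀ g, (∀ c ∈ C, c * g = g * c) → g ∈ Zc := fun g hg =>
    ⟨hCC (Subgroup.mem_centralizer_iff.mpr hg), Subgroup.mem_centralizer_iff.mpr hg⟩
  -- the central element of order `p`
  haveI : Nontrivial G := by
    by_contra h
    haveI := not_nontrivial_iff_subsingleton.mp h
    exact hab ⟨⟨fun _ _ => Subsingleton.elim _ _⟩⟩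
  haveI := hG.center_nontrivial
  obtain ⟨⟨z, hzc⟩, hzo⟩ : ∃ z : Subgroup.center G, orderOf z = p := by
    refine exists_prime_orderOf_dvd_card' p ?_
    obtain ⟨k, hk⟩ := IsPGroup.iff_card.mp (hG.to_subgroup (Subgroup.center G))
    rw [hk]
    refine dvd_pow_self p fun h0 => ?_
    rw [h0, pow_zero] at hk
    exact absurd hk (ne_of_gt Finite.one_lt_card)
  rw [Subgroup.orderOf_mk] at hzo
  have hzZ : z ∈ Zc := hmemZc z fun c _ => Subgroup.mem_center_iff.mp hzc c
  have hsmall : ∀ c ∈ Zc, c ^ p = 1 → c ∈ Subgroup.zpowers z := fun c hc h =>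
    CfsgLib.SympType.mem_zpowers_of_cyclic Zc hzZ hzo hc h
  have hzcen : Subgroup.zpowers z ≤ Subgroup.center G := Subgroup.zpowers_le.mpr hzc
  -- the extraspecial factor
  obtain ⟨E, hEalt, hEC, hCle, hEcen⟩ : ∃ E : Subgroup G, (E = ⊥ ∨ Cfsg.IsExtraspecial p E) ∧ E ≤ C ∧
      (∀ c ∈ C, ∃ e ∈ E, ∃ w ∈ Zc, c = e * w) ∧
      ∀ e ∈ E, (∀ e' ∈ E, e' * e = e * e') → e ∈ Subgroup.zpowers z := by
    by_cases hCab : ∃ u v : C, ⁅u, v⁆ ≠ 1
    · have hcen : ∀ w : G, ∀ hw : w ∈ C, w ∈ Zc → (⟨w, hw⟩ : C) ∈ Subgroup.center C := fun w hw h =>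
        Subgroup.mem_center_iff.mpr fun c => Subtype.ext (hZcC w h c c.2)
      obtain ⟨E₀, hE₀, hsup⟩ := CfsgLib.SympType.classTwo_structure (p := p) (hG.to_subgroup C)
        (CfsgLib.SympType.of_characteristic hsymp C)
        (fun u v => hcen (⁅u, v⁆ : C).1 (⁅u, v⁆ : C).2 (hCc (Subgroup.commutator_mem_commutator u.2 (Subgroup.mem_top (v : G)))))
        (fun u => hcen ((u ^ p : C) : G) (u ^ p : C).2 (hCp u u.2)) hCab
      refine ⟨E₀.map C.subtype, Or.inr (CfsgLib.Extraspecial.isExtraspecial_congr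
        (E₀.equivMapOfInjective _ C.subtype_injective) hE₀), Subgroup.map_subtype_le _, fun c hc => ?_, ?_⟩
      · obtain ⟨e, he, w, hw, hew⟩ := Subgroup.mem_sup_of_normal_right.mp (hsup.ge (Subgroup.mem_top (⟨c, hc⟩ : C)))
        refine ⟨e, ⟨e, he, rfl⟩, w, hmemZc _ fun d hd => congrArg Subtype.val
          (Subgroup.mem_center_iff.mp hw ⟨d, hd⟩), ?_⟩
        exact (congrArg Subtype.val hew).symm
      · rintro _ ⟨e, he, rfl⟩ hcomm
        have hec : (⟨e, he⟩ : E₀) ∈ Subgroup.center E₀ := Subgroup.mem_center_iff.mpr fun u =>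
          Subtype.ext (Subtype.ext (hcomm _ ⟨u, u.2, rfl⟩))
        have heC : e ∈ Subgroup.center C := Subgroup.mem_center_iff.mpr fun c => by
          obtain ⟨u, hu, w, hw, rfl⟩ := Subgroup.mem_sup_of_normal_right.mp (hsup.ge (Subgroup.mem_top c))
          rw [mul_assoc, ← Subgroup.mem_center_iff.mp hw e, ← mul_assoc,
            show u * e = e * u from congrArg Subtype.val (Subgroup.mem_center_iff.mp hec ⟨u, hu⟩), mul_assoc]
        refine hsmall _ (hmemZc _ fun c hc => congrArg Subtype.val (Subgroup.mem_center_iff.mp heC ⟨c, hc⟩)) ?_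
        have h := pow_card_eq_one' (x := (⟨⟨e, he⟩, hec⟩ : Subgroup.center E₀))
        rw [hE₀.2] at h
        have := congrArg (fun t : Subgroup.center E₀ => (((t : E₀) : C) : G)) h
        simpa using this
    · push Not at hCab
      refine ⟨⊥, Or.inl rfl, bot_le, fun c hc => ⟨1, one_mem _, c, hmemZc c fun d hd => ?_, (one_mul c).symm⟩,
        fun e he _ => by rw [Subgroup.mem_bot.mp he]; exact one_mem _⟩
      exact congrArg Subtype.val (commutatorElement_eq_one_iff_mul_comm.mp (hCab ⟨d, hd⟩ ⟨c, hc⟩))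
  have hEder : ∀ e ∈ E, ∀ e' ∈ E, ⁅e, e'⁆ ∈ Subgroup.zpowers z ∧ e ^ p ∈ Subgroup.zpowers z := by
    intro e he e' he'
    rcases hEalt with rfl | hES
    · rw [Subgroup.mem_bot.mp he, one_pow, commutatorElement_one_left]
      exact ⟨one_mem _, one_mem _⟩
    · refine ⟨?_, ?_⟩
      · refine hEcen _ (⁅(⟨e, he⟩ : E), ⟨e', he'⟩⁆ : E).2 fun u hu => congrArg Subtype.val
          (Subgroup.mem_center_iff.mp (CfsgLib.Extraspecial.comm_mem hES ⟨e, he⟩ ⟨e', he'⟩) ⟨u, hu⟩)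
      · exact hEcen _ (E.pow_mem he p) fun u hu => congrArg Subtype.val
          (Subgroup.mem_center_iff.mp (CfsgLib.Extraspecial.pow_mem_center hES ⟨e, he⟩) ⟨u, hu⟩)
  set R := Subgroup.centralizer (E : Set G) with hRdef
  have hER : ∀ e ∈ E, ∀ r ∈ R, e * r = r * e := fun e he r hr => Subgroup.mem_centralizer_iff.mp hr e he
  have hZR : Zc ≤ R := fun w hw => Subgroup.mem_centralizer_iff.mpr fun e he => hZcC w hw e (hEC he)
  have hRcent : ∀ r ∈ R, (∀ w ∈ Zc, w * r = r * w) → r ∈ Zc := by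
    intro r hr h
    refine hmemZc r fun c hc => ?_
    obtain ⟨e, he, w, hw, rfl⟩ := hCle c hc
    rw [mul_assoc, h w hw, ← mul_assoc, hER e he r hr, mul_assoc]
  have hdec : ∀ g : G, ∃ e ∈ E, ∃ r ∈ R, g = e * r := by
    intro g
    rcases hEalt with rfl | hES
    · exact ⟨1, one_mem _, g, Subgroup.mem_centralizer_iff.mpr fun e he => by
        rw [Subgroup.mem_bot.mp he, one_mul, mul_one], (one_mul g).symm⟩
    obtain ⟨⟨w, hwE⟩, hwc, hw1⟩ := CfsgLib.Extraspecial.exists_center_ne hES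
    have hzE : z ∈ E := by
      have hwz := hEcen w hwE fun u hu => congrArg Subtype.val (Subgroup.mem_center_iff.mp hwc ⟨u, hu⟩)
      haveI : Fact (Nat.card (Subgroup.zpowers z)).Prime := ⟨by rw [Nat.card_zpowers, hzo]; exact hp⟩
      obtain ⟨i, hi⟩ := (zpowers_eq_top_of_prime_card (G := Subgroup.zpowers z) rfl (g := ⟨w, hwz⟩)
        (fun e => hw1 (Subtype.ext (congrArg Subtype.val e :)))).ge (Subgroup.mem_top ⟨z, Subgroup.mem_zpowers z⟩)
      have hi' : w ^ i = z := congrArg Subtype.val hi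
      exact hi' ▸ E.zpow_mem hwE i
    have hval : ∀ u ∈ E, ⁅g, u⁆ ∈ Subgroup.zpowers z := by
      intro u hu
      have hcZ : ⁅g, u⁆ ∈ Zc := by
        rw [← commutatorElement_inv]
        exact Zc.inv_mem (hCc (Subgroup.commutator_mem_commutator (hEC hu) (Subgroup.mem_top g)))
      refine hsmall _ hcZ ?_
      have h1 : (⁅g, u⁆ * u) ^ p = ⁅g, u⁆ ^ p * u ^ p :=
        (show Commute ⁅g, u⁆ u from (hZcC _ hcZ u (hEC hu)).symm).mul_pow p
      rw [show ⁅g, u⁆ * u = g * u * g⁻¹ by simp [commutatorElement_def], conj_pow,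
        Subgroup.mem_center_iff.mp (hzcen (hEder u hu u hu).2) g, mul_inv_cancel_right] at h1
      exact right_eq_mul.mp h1
    let χ : E →* E := MonoidHom.mk' (fun u => (⟨⁅g, (u : G)⁆, Subgroup.zpowers_le.mpr hzE (hval u u.2)⟩ : E))
      (fun u v => Subtype.ext (by
        show ⁅g, (u : G) * v⁆ = ⁅g, (u : G)⁆ * ⁅g, (v : G)⁆
        calc ⁅g, (u : G) * v⁆ = ⁅g, (u : G)⁆ * ((u : G) * ⁅g, (v : G)⁆ * (u : G)⁻¹) := by
              simp only [commutatorElement_def]; group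
          _ = _ := by rw [Subgroup.mem_center_iff.mp (hzcen (hval v v.2)) u, mul_inv_cancel_right]))
    obtain ⟨e, he⟩ := CfsgLib.Extraspecial.exists_comm_eq_hom _ E hES rfl χ
      (fun u => Subgroup.mem_center_iff.mpr fun v => Subtype.ext
        (Subgroup.mem_center_iff.mp (hzcen (hval u u.2)) v))
      (fun c hc => Subtype.ext (commutatorElement_eq_one_iff_mul_comm.mpr (Subgroup.mem_center_iff.mp
        (hzcen (hEcen c c.2 fun u hu => congrArg Subtype.val (Subgroup.mem_center_iff.mp hc ⟨u, hu⟩))) g)))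
    refine ⟨e, e.2, (e : G)⁻¹ * g, Subgroup.mem_centralizer_iff.mpr fun u hu => ?_, (mul_inv_cancel_left _ _).symm⟩
    have h1 : g * u * g⁻¹ = e * u * (e : G)⁻¹ := by
      have h : ⁅g, u⁆ = ⁅(e : G), u⁆ := congrArg Subtype.val (he ⟨u, hu⟩)
      simp only [commutatorElement_def] at h
      exact mul_right_cancel h
    calc u * ((e : G)⁻¹ * g) = (e : G)⁻¹ * (e * u * (e : G)⁻¹) * g := by group
      _ = (e : G)⁻¹ * (g * u * g⁻¹) * g := by rw [h1]
      _ = (e : G)⁻¹ * g * u := by group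
  have hsupER : E ⊔ R = ⊤ := (Subgroup.eq_top_iff' _).mpr fun g => by
    obtain ⟨e, he, r, hr, rfl⟩ := hdec g
    exact Subgroup.mul_mem_sup he hr
  -- the generator
  obtain ⟨⟨a, haZ⟩, hgen⟩ := IsCyclic.exists_generator (α := Zc)
  have hZa : Zc = Subgroup.zpowers a := by
    refine le_antisymm (fun x hx => ?_) (Subgroup.zpowers_le.mpr haZ)
    obtain ⟨j, hj⟩ := hgen ⟨x, hx⟩
    exact ⟨j, congrArg Subtype.val hj⟩
  obtain ⟨n, hn⟩ := IsPGroup.iff_card.mp (hG.to_subgroup Zc)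
  have ha : orderOf a = p ^ n := by rw [← hn, hZa, Nat.card_zpowers]
  have hEcent : ∀ e ∈ E, ∀ e' ∈ E, ∀ g : G, g * ⁅e, e'⁆ = ⁅e, e'⁆ * g ∧ g * e ^ p = e ^ p * g :=
    fun e he e' he' g => ⟨Subgroup.mem_center_iff.mp (hzcen (hEder e he e' he').1) g,
      Subgroup.mem_center_iff.mp (hzcen (hEder e he e' he').2) g⟩
  have hnotR : ¬ ((∀ r s : R, ⁅r, s⁆ ∈ Subgroup.center R) ∧ ∀ r : R, r ^ p ∈ Subgroup.center R) := by
    rintro ⟨h1, h2⟩
    obtain ⟨h3, h4⟩ := glue ⊤ E R (fun g _ => hdec g) hER hEcent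
      (fun r hr s hs t ht => congrArg Subtype.val (Subgroup.mem_center_iff.mp (h1 ⟨r, hr⟩ ⟨s, hs⟩) ⟨t, ht⟩))
      (fun r hr t ht => congrArg Subtype.val (Subgroup.mem_center_iff.mp (h2 ⟨r, hr⟩) ⟨t, ht⟩))
    exact hc2 ⟨fun u v => Subgroup.mem_center_iff.mpr fun w => h3 u trivial v trivial w trivial,
      fun u => Subgroup.mem_center_iff.mpr fun w => h4 u trivial w trivial⟩
  have hRna : ¬ IsMulCommutative R := fun h => hnotR
    ⟨fun r s => Subgroup.mem_center_iff.mpr fun t => h.1.comm t _,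
      fun r => Subgroup.mem_center_iff.mpr fun t => h.1.comm t _⟩
  set Zs := Zc.subgroupOf R with hZs
  haveI hZsn : Zs.Normal := Subgroup.normal_subgroupOf
  haveI : IsCyclic Zs := isCyclic_of_surjective (Subgroup.subgroupOfEquivOfLe hZR).symm (MulEquiv.surjective _)
  have hZscard : Nat.card Zs = p ^ n := by
    rw [← hn, hZs, Nat.card_congr (Subgroup.subgroupOfEquivOfLe hZR).toEquiv]
  have hZsc : Subgroup.centralizer (Zs : Set R) = Zs := by
    ext r
    rw [Subgroup.mem_centralizer_iff, hZs, Subgroup.mem_subgroupOf]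
    refine ⟨fun h => hRcent r r.2 fun w hw => congrArg Subtype.val (h ⟨w, hZR hw⟩ hw), fun h w hw => Subtype.ext ?_⟩
    show (w : G) * r = r * w
    exact hZcC _ h _ (show (w : G) ∈ Zc from hw).1
  have hZsa : Zs = Subgroup.zpowers (⟨a, hZR haZ⟩ : R) := by
    ext r
    rw [hZs, Subgroup.mem_subgroupOf, hZa]
    constructor
    · rintro ⟨i, hi⟩; exact ⟨i, Subtype.ext hi⟩
    · rintro ⟨i, rfl⟩; exact ⟨i, rfl⟩
  have hKmem : ∀ r : R, r ∈ Subgroup.centralizer (Cfsg.powerClosure p 1 Zs : Set R) ↔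
      (r : G) ∈ Subgroup.centralizer ({a ^ p} : Set G) := by
    intro r
    rw [powerClosure_eq Zs _ hZsa, Subgroup.mem_centralizer_singleton_iff, Subgroup.mem_centralizer_iff]
    refine ⟨fun h => (congrArg Subtype.val (h _ (Subgroup.mem_zpowers _))).symm, fun h v hv => ?_⟩
    obtain ⟨j, rfl⟩ := hv
    refine Subtype.ext ?_
    show (a ^ p) ^ j * (r : G) = r * (a ^ p) ^ j
    exact ((show Commute (r : G) (a ^ p) from h).zpow_right j).eq.symm
  set K := Subgroup.centralizer (Cfsg.powerClosure p 1 Zs : Set R) with hKdef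
  have hcardK : Zs.relIndex K = p → Nat.card K = p ^ n * p := fun h => by
    have hle : Zs ≤ K := fun r hr => (hKmem r).mpr (Subgroup.mem_centralizer_singleton_iff.mpr (by
      have h1 : (r : G) ∈ Zc := hr
      exact hZcC _ (Zc.pow_mem haZ p) _ h1.1))
    have h1 := Subgroup.relIndex_mul_relIndex ⊥ Zs K bot_le hle
    rw [Subgroup.relIndex_bot_left, Subgroup.relIndex_bot_left, hZscard, h] at h1
    exact h1.symm
  have hn3 : 3 ≤ n := by
    by_contra hlt
    have hap : a ^ p ∈ Subgroup.center G := hzcen (hsmall _ (Zc.pow_mem haZ p) (by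
      rw [← pow_mul, ← pow_two]
      exact orderOf_dvd_iff_pow_eq_one.mp (ha ▸ pow_dvd_pow p (by omega))))
    refine hnotR (CfsgLib.SympType.classTwo_of_central (hG.to_subgroup R)
      (Subgroup.zpowers (⟨z, hZR hzZ⟩ : R)) (Subgroup.zpowers_le.mpr (Subgroup.mem_center_iff.mpr fun t =>
        Subtype.ext (Subgroup.mem_center_iff.mp hzc t))) ?_)
    rw [Nat.card_zpowers, Subgroup.orderOf_mk, hzo]
    rcases Cfsg.Agent.S3761.result (hG.to_subgroup R) hRna Zs inferInstance n hZscard hZsc with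
      ⟨hp2, hcard, -⟩ | ⟨hrel, -⟩
    · rw [hcard, ← pow_succ, hp2]
      exact pow_dvd_pow 2 (by omega)
    · have hKtop : K = ⊤ := (Subgroup.eq_top_iff' _).mpr fun r => (hKmem r).mpr
        (Subgroup.mem_centralizer_singleton_iff.mpr (Subgroup.mem_center_iff.mp hap r))
      have h := hcardK hrel
      rw [hKtop, Subgroup.card_top] at h
      rw [h, ← pow_succ, ← pow_succ]
      exact pow_dvd_pow p (by omega)
  rcases Cfsg.Agent.S3761.result (hG.to_subgroup R) hRna Zs inferInstance n hZscard hZsc with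
    ⟨hp2, hcard, hshape⟩ | ⟨hrel, -⟩
  · refine ⟨E, R, hER, hsupER, hEalt, Or.inr ⟨hp2, ?_, hshape⟩⟩
    rw [hcard, show (16 : ℕ) = 2 ^ 4 by norm_num]
    exact Nat.pow_le_pow_right two_pos (by omega)
  exfalso
  set M := Subgroup.centralizer ({a ^ p} : Set G) with hMdef
  haveI hMchar : M.Characteristic := by
    rw [Subgroup.characteristic_iff_map_le]
    rintro φ _ ⟨m, hm, rfl⟩
    obtain ⟨i, hi⟩ : φ.symm a ∈ Subgroup.zpowers a :=
      hZa.le (Subgroup.characteristic_iff_map_le.mp hZchar φ.symm ⟨a, haZ, rfl⟩)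
    have hi' : a ^ i = φ.symm a := hi
    have h : Commute m (φ.symm (a ^ p)) := by
      rw [map_pow, ← hi', ← zpow_natCast, zpow_comm, zpow_natCast]
      exact Commute.zpow_right (Subgroup.mem_centralizer_singleton_iff.mp hm) i
    refine Subgroup.mem_centralizer_singleton_iff.mpr ?_
    have h2 := congrArg φ h.eq
    rw [map_mul, map_mul, φ.apply_symm_apply] at h2
    exact h2
  have hCM : C ≤ M := fun c hc => Subgroup.mem_centralizer_singleton_iff.mpr (hZcC _ (Zc.pow_mem haZ p) c hc)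
  set S := R ⊓ M with hSdef
  have hKS : K.map R.subtype = S := by
    ext g
    constructor
    · rintro ⟨r, hr, rfl⟩; exact ⟨r.2, (hKmem r).mp hr⟩
    · rintro ⟨h1, h2⟩; exact ⟨⟨g, h1⟩, (hKmem ⟨g, h1⟩).mpr h2, rfl⟩
  have hcardS : Nat.card S = p ^ n * p := by
    rw [← hKS, Subgroup.card_map_of_injective R.subtype_injective, hcardK hrel]
  have hapS : a ^ p ∈ S := ⟨R.pow_mem (hZR haZ) p, hCM (C.pow_mem haZ.1 p)⟩
  obtain ⟨hS1, hS2⟩ := CfsgLib.SympType.classTwo_of_central (hG.to_subgroup S)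
    (Subgroup.zpowers (⟨a ^ p, hapS⟩ : S)) (Subgroup.zpowers_le.mpr (Subgroup.mem_center_iff.mpr fun t =>
      Subtype.ext (Subgroup.mem_centralizer_singleton_iff.mp t.2.2))) (by
    rw [hcardS, Nat.card_zpowers, Subgroup.orderOf_mk, orderOf_pow_of_dvd hp.ne_zero (ha ▸ dvd_pow_self p (by omega)),
      ha, (Nat.div_eq_of_eq_mul_left hp.pos (by rw [← pow_succ, show n - 1 + 1 = n by omega]) :
        p ^ n / p = p ^ (n - 1)), ← pow_succ, ← pow_add]
    exact pow_dvd_pow p (by omega))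
  obtain ⟨hM1, hM2⟩ := glue M E S (fun g hg => by
      obtain ⟨e, he, r, hr, rfl⟩ := hdec g
      exact ⟨e, he, r, ⟨hr, (M.mul_mem_cancel_left (hCM (hEC he))).mp hg⟩, rfl⟩)
    (fun e he r hr => hER e he r hr.1) hEcent
    (fun r hr s hs t ht => congrArg Subtype.val (Subgroup.mem_center_iff.mp (hS1 ⟨r, hr⟩ ⟨s, hs⟩) ⟨t, ht⟩))
    (fun r hr t ht => congrArg Subtype.val (Subgroup.mem_center_iff.mp (hS2 ⟨r, hr⟩) ⟨t, ht⟩))
  have hSa : ¬ ∀ s ∈ S, a * s = s * a := by
    intro h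
    have hle : K ≤ Zs := fun r hr => hRcent r r.2 fun w hw => by
      obtain ⟨i, rfl⟩ := hZa.le hw
      exact (Commute.zpow_left (h r ⟨r.2, (hKmem r).mp hr⟩ : Commute a (r : G)) i).eq
    rw [Subgroup.relIndex_eq_one.mpr hle] at hrel
    exact hp.ne_one hrel.symm
  have haM : a ∈ M := hCM haZ.1
  obtain ⟨E', hE', hsup'⟩ := CfsgLib.SympType.classTwo_structure (p := p) (hG.to_subgroup M)
    (CfsgLib.SympType.of_characteristic hsymp M)
    (fun u v => Subgroup.mem_center_iff.mpr fun t => Subtype.ext (hM1 u u.2 v v.2 t t.2))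
    (fun u => Subgroup.mem_center_iff.mpr fun t => Subtype.ext (hM2 u u.2 t t.2)) (by
      by_contra h
      push Not at h
      exact hSa fun s hs => congrArg Subtype.val
        (commutatorElement_eq_one_iff_mul_comm.mp (h ⟨a, haM⟩ ⟨s, hs.2⟩)))
  obtain ⟨e, he, w, hw, hew⟩ := Subgroup.mem_sup_of_normal_right.mp (hsup'.ge (Subgroup.mem_top (⟨a, haM⟩ : M)))
  have hep : e ^ (p * p) = 1 := by
    have h := pow_card_eq_one' (x := (⟨_, CfsgLib.Extraspecial.pow_mem_center hE' ⟨e, he⟩⟩ : Subgroup.center E'))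
    rw [hE'.2] at h
    rw [pow_mul]
    exact congrArg (fun t : Subgroup.center E' => ((t : E') : M)) h
  obtain ⟨i, hi⟩ : (w : G) ∈ Subgroup.zpowers a := hZa.le (hmemZc _ fun c hc =>
    congrArg Subtype.val (Subgroup.mem_center_iff.mp hw ⟨c, hCM hc⟩))
  have hi' : a ^ i = (w : G) := hi
  have h1 : a ^ ((p * p : ℕ) : ℤ) = a ^ (i * ((p * p : ℕ) : ℤ)) := by
    have h := congrArg (fun t : M => ((t : G)) ^ (p * p)) hew
    have hcw : Commute (e : G) (w : G) := congrArg Subtype.val (Subgroup.mem_center_iff.mp hw e)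
    simp only [Subgroup.coe_mul] at h
    rw [hcw.mul_pow, show (e : G) ^ (p * p) = 1 from congrArg Subtype.val hep, one_mul, ← hi'] at h
    rw [zpow_mul, zpow_natCast, zpow_natCast]
    exact h.symm
  have h2 : (p : ℤ) ∣ 1 - i := by
    have h : a ^ (((p * p : ℕ) : ℤ) * (1 - i)) = 1 := by
      rw [mul_sub, mul_one, zpow_sub, mul_inv_eq_one, mul_comm _ i]
      exact h1
    rw [← orderOf_dvd_iff_zpow_eq_one, ha] at h
    obtain ⟨m, rfl⟩ : ∃ m, n = m + 3 := ⟨n - 3, by omega⟩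
    push_cast at h
    rw [show (p : ℤ) ^ (m + 3) = (p * p) * (p * p ^ m) by ring] at h
    exact (dvd_mul_right _ _).trans (Int.dvd_of_mul_dvd_mul_left (by exact_mod_cast mul_ne_zero hp.ne_zero hp.ne_zero) h)
  obtain ⟨u, v, huv⟩ : IsCoprime i ((p : ℤ) ^ n) := by
    refine IsCoprime.pow_right ((Nat.prime_iff_prime_int.mp hp).coprime_iff_not_dvd.mpr fun h => ?_).symm
    exact hp.not_dvd_one (Int.natCast_dvd_natCast.mp (by simpa using dvd_add h2 h))
  have hawu : a = (w : G) ^ u := by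
    rw [← hi', ← zpow_mul]
    conv_lhs => rw [← zpow_one a]
    rw [show (1 : ℤ) = i * u + (p : ℤ) ^ n * v by linarith, zpow_add, zpow_mul a ((p : ℤ) ^ n) v,
      show a ^ ((p : ℤ) ^ n) = 1 by rw [← orderOf_dvd_iff_zpow_eq_one, ha]; push_cast; rfl, one_zpow, mul_one]
  refine hSa fun s hs => ?_
  have hs' : Commute s (w : G) := congrArg Subtype.val (Subgroup.mem_center_iff.mp hw ⟨s, hs.2⟩)
  rw [hawu]
  exact (hs'.zpow_right u).symm.eq

end Cfsg.Agent.S3762
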