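import Cfsg.Statements.S3763
import Cfsg.Agent.Lib.Extraspecial.TwoTypes

set_option autoImplicit false
open Cfsg

namespace Cfsg.Agent.S3763

/-- Let E be an extraspecial 2-group of order 2^(2n+1). Then the largest elementary abelian subgroups of E have order 2^n or 2^(n+1); and two extraspecial 2-groups of the same order whose largest elementary abelian subgroups have the same order are isomorphic. -/
theorem result {E : Type*} [Group E] [Finite E] (hE : Cfsg.IsExtraspecial 2 E) (n : ℕ) (hn : Nat.card E = 2 ^ (2 * n + 1)) : ((Cfsg.PRankLE 2 n E ∧ ¬ Cfsg.PRankLE 2 (n - 1) E) ∨ (Cfsg.PRankLE 2 (n + 1) E ∧ ¬ Cfsg.PRankLE 2 n E)) ∧ ∀ (E' : Type*) [Group E'] [Finite E'], Cfsg.IsExtraspecial 2 E' → Nat.card E' = Nat.card E → (∀ k : ℕ, Cfsg.PRankLE 2 k E ↔ Cfsg.PRankLE 2 k E') → Nonempty (E ≃* E') := by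
  obtain ⟨m, hm, hcard, hcases⟩ := CfsgLib.Extraspecial.invariants _ E hE rfl
  have hmn : m = n := by
    have := Nat.pow_right_injective le_rfl (hcard.symm.trans hn : 2 ^ (2 * m + 1) = 2 ^ (2 * n + 1))
    omega
  subst hmn
  have hle : ∀ (F : Type _) [Group F] (r : ℕ), CfsgLib.Extraspecial.TwoRankIs F r →
      ∀ k, Cfsg.PRankLE 2 k F ↔ r ≤ k := by
    intro F _ r hr k
    refine ⟨fun h => ?_, fun h A hAc hAe => ?_⟩
    · obtain ⟨A, hA, hAcard⟩ := hr.2
      have := h A hA.1 hA.2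
      rw [hAcard] at this
      exact (Nat.pow_le_pow_iff_right one_lt_two).mp this
    · exact (hr.1 A ⟨hAc, hAe⟩).trans (Nat.pow_le_pow_right two_pos h)
  refine ⟨?_, fun E' _ _ hE' hc hk => ?_⟩
  · rcases hcases with ⟨-, hr⟩ | ⟨-, hr⟩
    · refine Or.inr ⟨(hle _ _ hr _).mpr le_rfl, fun h => ?_⟩
      have := (hle _ _ hr _).mp h; omega
    · refine Or.inl ⟨(hle _ _ hr _).mpr le_rfl, fun h => ?_⟩
      have := (hle _ _ hr _).mp h; omega
  · obtain ⟨m', hm', hcard', hcases'⟩ := CfsgLib.Extraspecial.invariants _ E' hE' rfl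
    have hmm : m' = m := by
      have := Nat.pow_right_injective le_rfl
        (hcard'.symm.trans (hc.trans hcard) : 2 ^ (2 * m' + 1) = 2 ^ (2 * m + 1))
      omega
    subst hmm
    have key : ∀ r s, CfsgLib.Extraspecial.TwoRankIs E r → CfsgLib.Extraspecial.TwoRankIs E' s → r = s := by
      intro r s hr hs
      have h1 : s ≤ r := by
        obtain ⟨A, hA, hAcard⟩ := hs.2
        have h2 := (hk r).mp (fun B hBc hBe => hr.1 B ⟨hBc, hBe⟩) A hA.1 hA.2
        rw [hAcard] at h2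
        exact (Nat.pow_le_pow_iff_right one_lt_two).mp h2
      have h2 : r ≤ s := by
        obtain ⟨A, hA, hAcard⟩ := hr.2
        have h2 := (hk s).mpr (fun B hBc hBe => hs.1 B ⟨hBc, hBe⟩) A hA.1 hA.2
        rw [hAcard] at h2
        exact (Nat.pow_le_pow_iff_right one_lt_two).mp h2
      omega
    refine CfsgLib.Extraspecial.iso_of_sqOne _ E E' hE hE' rfl hc ?_
    rcases hcases with ⟨h1, r1⟩ | ⟨h1, r1⟩ <;> rcases hcases' with ⟨h2, r2⟩ | ⟨h2, r2⟩
    · rw [h1, h2]
    · have := key _ _ r1 r2; omega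
    · have := key _ _ r1 r2; omega
    · rw [h1, h2]

end Cfsg.Agent.S3763
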