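import Cfsg.Statements.S3764
import Cfsg.Agent.Lib.BG.FixedLine.Groups
set_option autoImplicit false
open scoped commutatorElement
open Cfsg

namespace Cfsg.Agent.S3764

open CfsgLib.BG.FixedLine

/-- Let p, q, r be distinct primes and let X, Q, V be subgroups of a finite group with X of order r, Q an extraspecial q-group normalized by X with C_Q(X) = Z(Q), and V an elementary abelian p-group normalized by X and Q on which XQ acts faithfully ((X ⊔ Q) ∩ C(V) = 1). If C_V(X) = 1, then q = 2, r = 2^n + 1 for some n, and Q has order 2^(2n+1). -/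
theorem result {G : Type*} [Group G] [Finite G] {p q r : ℕ} (hp : p.Prime) (hq : q.Prime) (hr : r.Prime) (hpq : p ≠ q) (hpr : p ≠ r) (hqr : q ≠ r) (X Q V : Subgroup G) (hX : Nat.card X = r) (hQ : Cfsg.IsExtraspecial q ↥Q) (hXQ : X ≤ Subgroup.normalizer (Q : Set G)) (hCQ : Q ⊓ Subgroup.centralizer (X : Set G) = (Subgroup.center ↥Q).map Q.subtype) (hV : Cfsg.IsElementaryAbelian p V) (hXV : X ≤ Subgroup.normalizer (V : Set G)) (hQV : Q ≤ Subgroup.normalizer (V : Set G)) (hfaith : (X ⊔ Q) ⊓ Subgroup.centralizer (V : Set G) = ⊥) (hCV : V ⊓ Subgroup.centralizer (X : Set G) = ⊥) : q = 2 ∧ ∃ n : ℕ, r = 2 ^ n + 1 ∧ Nat.card Q = 2 ^ (2 * n + 1) := by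
  haveI := Fact.mk hp
  haveI := Fact.mk hq
  haveI := Fact.mk hr
  obtain ⟨⟨hQp, -, hcom⟩, hZc⟩ := id hQ
  obtain ⟨a₀, b₀, hne₀⟩ : ∃ a b : Q, a * b ≠ b * a := by
    by_contra hh
    push Not at hh
    have h1 : Subgroup.center ↥Q = ⊤ := eq_top_iff.2 fun a _ => Subgroup.mem_center_iff.2 fun b => hh b a
    have h2 : commutator ↥Q = ⊥ := by
      rw [eq_bot_iff, commutator_def]
      exact Subgroup.commutator_le.2 fun a _ b _ =>
        Subgroup.mem_bot.2 (commutatorElement_eq_one_iff_mul_comm.2 (hh a b))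
    rw [hcom] at h2
    rw [h2, Subgroup.card_bot] at hZc
    exact hq.one_lt.ne hZc
  haveI hXc : IsCyclic X := isCyclic_of_prime_card (p := r) hX
  obtain ⟨g, hg⟩ := hXc.exists_generator
  have hgr : (g : G) ^ r = 1 := by
    have := congrArg Subtype.val (pow_card_eq_one' (x := g))
    rw [hX] at this
    simpa using this
  have hgen : ∀ w ∈ X, ∃ i : ℤ, (g : G) ^ i = w := fun w hw => by
    obtain ⟨i, hi⟩ := Subgroup.mem_zpowers_iff.1 (hg ⟨w, hw⟩)
    exact ⟨i, congrArg Subtype.val hi⟩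
  have hC : V ⊓ Subgroup.centralizer ({(g : G)} : Set G) = ⊥ := by
    rw [eq_bot_iff, ← hCV]
    refine fun v hv => ⟨hv.1, fun w hw => ?_⟩
    obtain ⟨i, rfl⟩ := hgen w hw
    exact ((show Commute (g : G) v from hv.2 g rfl).zpow_left i).eq
  set Z := (Subgroup.center ↥Q).map Q.subtype with hZ
  have hfixQ : ∀ u ∈ Q, (g : G) * u = u * g → u ∈ Z := fun u hu he => by
    rw [← hCQ]
    refine ⟨hu, fun w hw => ?_⟩
    obtain ⟨i, rfl⟩ := hgen w hw
    exact ((show Commute (g : G) u from he).zpow_left i).eq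
  have hZg : ∀ z ∈ Z, (g : G) * z = z * g := fun z hz => by
    rw [← hCQ] at hz
    exact hz.2 g g.2
  have hZQ : Z ≤ Q := Subgroup.map_subtype_le _
  have hZcen : ∀ z ∈ Z, ∀ u ∈ Q, z * u = u * z := by
    rintro _ ⟨z, hz, rfl⟩ u hu
    exact (congrArg Subtype.val (Subgroup.mem_center_iff.1 hz ⟨u, hu⟩)).symm
  have hZq : Nat.card Z = q := by rw [hZ, Subgroup.card_subtype, hZc]
  have hDZ : ∀ u ∈ Q, ∀ v ∈ Q, ⁅u, v⁆ ∈ Z := fun u hu v hv =>
    ⟨⁅(⟨u, hu⟩ : Q), ⟨v, hv⟩⁆, hcom ▸ Subgroup.commutator_mem_commutator (Subgroup.mem_top _) (Subgroup.mem_top _), rfl⟩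
  set H := Q ⊔ Subgroup.zpowers (g : G) with hH
  have hHX : H ≤ X ⊔ Q := sup_le le_sup_right ((Subgroup.zpowers_le.2 g.2).trans le_sup_left)
  have hHV : H ≤ Subgroup.normalizer (V : Set G) := hHX.trans (sup_le hXV hQV)
  haveI := finiteDimensional_dual p (V := V)
  have hgH : (g : G) ∈ H := Subgroup.mem_sup_right (Subgroup.mem_zpowers _)
  have hcop : (orderOf (g : G)).Coprime p :=
    Nat.Coprime.coprime_dvd_left (orderOf_dvd_of_pow_eq_one hgr) ((Nat.coprime_primes hr hp).2 hpr.symm)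
  have hne : ∀ {n : ℕ}, n.Prime → p ≠ n → (n : AlgebraicClosure (ZMod p)) ≠ 0 := fun hn hpn =>
    natCast_ne_zero_dual p fun h => hpn ((Nat.prime_dvd_prime_iff_eq hp hn).1 h)
  set ρ := dualRep p hHV with hρdef
  set z0 : H := ⁅(⟨(a₀ : G), Subgroup.mem_sup_left a₀.2⟩ : H), ⟨(b₀ : G), Subgroup.mem_sup_left b₀.2⟩⁆
  have hz0 : (z0 : G) = ⁅(a₀ : G), (b₀ : G)⁆ := rfl
  have hz0ne : (z0 : G) ≠ 1 := fun e => hne₀ (Subtype.ext (commutatorElement_eq_one_iff_mul_comm.1 (hz0 ▸ e)))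
  have hz0Z : z0 ∈ Z.subgroupOf H := hDZ _ a₀.2 _ b₀.2
  have hρz : ρ z0 ≠ 1 := fun e => hz0ne (by
    have : (z0 : G) ∈ (X ⊔ Q) ⊓ Subgroup.centralizer (V : Set G) :=
      ⟨hHX z0.2, (dualRep_eq_one_iff p hV hHV z0).1 e⟩
    rwa [hfaith, Subgroup.mem_bot] at this)
  have hord : (orderOf z0 : AlgebraicClosure (ZMod p)) ≠ 0 := by
    rw [← Subgroup.orderOf_coe]
    refine natCast_ne_zero_dual p fun h => ?_
    have h1 := h.trans (Subgroup.orderOf_dvd_natCard Z hz0Z)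
    rw [hZq, Nat.prime_dvd_prime_iff_eq hp hq] at h1
    exact hpq h1
  obtain ⟨S, lam, hS0, hSU, hSZ, hSx, hlam, hlam1⟩ := exists_scalar_piece ρ (Q.subgroupOf H)
    (Z.subgroupOf H) ⟨(g : G), hgH⟩
    (fun z hz u hu => Subtype.ext (hZcen _ hz _ hu)) (fun z hz => Subtype.ext (hZg _ hz))
    (fun z hz z' hz' => Subtype.ext (hZcen _ hz _ (hZQ hz'))) hz0Z hρz hord
  haveI : Nontrivial S := (Submodule.nontrivial_iff_ne_bot).2 hS0
  set U' := (Q.subgroupOf H).subgroupOf (stab ρ S)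
  set Z' := (Z.subgroupOf H).subgroupOf (stab ρ S)
  have hQcard : Nat.card U' = Nat.card Q := by
    rw [Nat.card_congr (Subgroup.subgroupOfEquivOfLe hSU).toEquiv,
      Nat.card_congr (Subgroup.subgroupOfEquivOfLe le_sup_left).toEquiv]
  have hZcard : Nat.card Z' = q := by
    rw [Nat.card_congr (Subgroup.subgroupOfEquivOfLe hSZ).toEquiv,
      Nat.card_congr (Subgroup.subgroupOfEquivOfLe (hZQ.trans le_sup_left)).toEquiv, hZq]
  have hcen : Central (W := ↥S) (res ρ S) U' Z' (⟨⟨(g : G), hgH⟩, hSx⟩ : stab ρ S) r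
      (fun w => lam (w : H)) := by
    refine ⟨hr, Subtype.ext (Subtype.ext hgr), fun u hu => conj_mem_of_le_normalizer (hXQ g.2) _ hu,
      fun u hu => hZQ hu, fun z hz => Subtype.ext (Subtype.ext (hZg _ hz)),
      fun z hz u hu => Subtype.ext (Subtype.ext (hZcen _ hz _ hu)), fun u hu v hv => hDZ _ hu _ hv,
      fun z hz => LinearMap.ext fun v => Subtype.ext (hlam _ hz v v.2), ?_, ?_, ?_⟩
    · intro u hu hall
      by_contra huZ
      obtain ⟨v, hv, hv1⟩ : ∃ v ∈ Q, ⁅((u : H) : G), v⁆ ≠ 1 := by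
        by_contra hh
        push Not at hh
        exact huZ ⟨⟨_, hu⟩, Subgroup.mem_center_iff.2 fun w => Subtype.ext
          (commutatorElement_eq_one_iff_mul_comm.1 (hh w w.2)).symm, rfl⟩
      have hvH : v ∈ H := Subgroup.mem_sup_left hv
      set w : H := ⁅(u : H), ⟨v, hvH⟩⁆ with hw
      have hwZ : w ∈ Z.subgroupOf H := hDZ _ hu _ hv
      have hwlam : lam w = 1 := hall ⟨⟨v, hvH⟩, hSU (show (⟨v, hvH⟩ : H) ∈ Q.subgroupOf H from hv)⟩ hv
      have hgenZ : z0 ∈ Subgroup.zpowers w := by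
        have h1 : Subgroup.zpowers (w : G) = Z := by
          refine Subgroup.eq_of_le_of_card_ge (Subgroup.zpowers_le.2 hwZ) (le_of_eq ?_)
          rw [hZq, Nat.card_zpowers]
          refine (hq.eq_one_or_self_of_dvd _ (hZq ▸ Subgroup.orderOf_dvd_natCard Z hwZ)).resolve_left ?_ |>.symm
          exact fun h => hv1 (orderOf_eq_one_iff.1 h)
        obtain ⟨i, hi⟩ := Subgroup.mem_zpowers_iff.1 (h1.ge (show (z0 : G) ∈ Z from hz0Z))
        exact ⟨i, Subtype.ext (by simpa using hi)⟩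
      have hfixw : ∀ v ∈ S, ρ w v = v := fun v hv => by rw [hlam w hwZ v hv, hwlam, one_smul]
      let F : Subgroup H :=
        { carrier := {y | ∀ v ∈ S, ρ y v = v}
          one_mem' := fun v _ => by simp
          mul_mem' := fun {s t} hs ht v hv => by rw [rho_mul, ht v hv, hs v hv]
          inv_mem' := fun {s} hs v hv => by
            conv_lhs => rw [← hs v hv]
            exact rho_inv_apply ρ s v }
      obtain ⟨v0, hv0, hv00⟩ := Submodule.exists_mem_ne_zero_of_ne_bot hS0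
      have h2 : ρ z0 v0 = v0 := (Subgroup.zpowers_le.2 (show w ∈ F from hfixw)) hgenZ v0 hv0
      rw [hlam z0 hz0Z v0 hv0] at h2
      exact hlam1 (smul_left_injective _ hv00 (h2.trans (one_smul _ v0).symm))
    · intro u hu hz
      have hcz : (g : G) * ((u : H) : G) * (g : G)⁻¹ * ((u : H) : G)⁻¹ ∈ Z := hz
      set c := (g : G) * ((u : H) : G) * (g : G)⁻¹ * ((u : H) : G)⁻¹ with hc
      have h1 := CfsgLib.Coprime.pow_conj_eq (show (g : G) * ((u : H) : G) * (g : G)⁻¹ = c * ((u : H) : G) by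
        rw [hc]; group) (hZg c hcz) r
      rw [hgr, one_mul, inv_one, mul_one] at h1
      have h2 : orderOf c ∣ r := orderOf_dvd_of_pow_eq_one (right_eq_mul.1 h1)
      have h3 : orderOf c ∣ q := hZq ▸ Subgroup.orderOf_dvd_natCard Z hcz
      have h4 : c = 1 := orderOf_eq_one_iff.1
        (Nat.eq_one_of_dvd_coprimes ((Nat.coprime_primes hr hq).2 hqr.symm) h2 h3)
      refine hfixQ _ hu ?_
      rw [hc] at h4
      calc (g : G) * ((u : H) : G) = (g : G) * ((u : H) : G) * (g : G)⁻¹ * ((u : H) : G)⁻¹ * (((u : H) : G) * g) := by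
            group
        _ = _ := by rw [h4, one_mul]; rfl
    · rw [hQcard]
      exact natCast_ne_zero_of_isPGroup hQp (hne hq hpq)
  have hfix : fix (K := AlgebraicClosure (ZMod p)) (W := ↥S) (res ρ S) (⟨⟨(g : G), hgH⟩, hSx⟩ : stab ρ S) = ⊥ := by
    rw [Submodule.eq_bot_iff]
    intro v hv
    have h0 := fix_dualRep_eq_bot p hV hHV ⟨(g : G), hgH⟩ hcop hC
    have : (v : Dual p V) ∈ fix ρ ⟨(g : G), hgH⟩ := congrArg Subtype.val hv
    rw [h0, Submodule.mem_bot] at this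
    exact Subtype.ext this
  have hUp : IsPGroup q U' :=
    (hQp.of_equiv (Subgroup.subgroupOfEquivOfLe le_sup_left).symm).of_equiv
      (Subgroup.subgroupOfEquivOfLe hSU).symm
  have hnle : ¬ U' ≤ Z' := fun e => hne₀ (Subtype.ext (hZcen _
    (e (show (⟨⟨(a₀ : G), Subgroup.mem_sup_left a₀.2⟩, hSU a₀.2⟩ : stab ρ S) ∈ U' from a₀.2)) _ b₀.2))
  obtain ⟨h2, n, hn, hidx⟩ := hcen.of_fix_eq_bot (hne hr hpr) hq hUp hnle hfix
  refine ⟨h2, n, hn, ?_⟩
  have := Subgroup.card_mul_index (Z'.subgroupOf U')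
  rw [Nat.card_congr (Subgroup.subgroupOfEquivOfLe (fun u hu => hZQ hu : Z' ≤ U')).toEquiv, hZcard,
    show (Z'.subgroupOf U').index = Z'.relIndex U' from rfl, hidx, hQcard, h2] at this
  rw [← this, pow_succ]
  ring

end Cfsg.Agent.S3764
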