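import Cfsg.Statements.S3765
import Cfsg.Agent.Lib.BG.FixedLine.Groups
set_option autoImplicit false
open scoped commutatorElement
open Cfsg

namespace Cfsg.Agent.S3765

/-- Let p, q, r be distinct primes and let X, Q, V be subgroups of a finite group with X of order r normalizing the q-group Q and acting faithfully on it (X ∩ C(Q) = 1), and V a nontrivial elementary abelian p-group normalized by X and Q on which XQ acts faithfully. If q = 2 and r has the form 2^n + 1, assume in addition that Q is abelian. Then C_V(X) ≠ 1. -/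
theorem result {G : Type*} [Group G] [Finite G] {p q r : ℕ} (hp : p.Prime) (hq : q.Prime) (hr : r.Prime) (hpq : p ≠ q) (hpr : p ≠ r) (hqr : q ≠ r) (X Q V : Subgroup G) (hX : Nat.card X = r) (hQ : IsPGroup q Q) (hXQ : X ≤ Subgroup.normalizer (Q : Set G)) (hXfaith : X ⊓ Subgroup.centralizer (Q : Set G) = ⊥) (hV : Cfsg.IsElementaryAbelian p V) (hV1 : V ≠ ⊥) (hXV : X ≤ Subgroup.normalizer (V : Set G)) (hQV : Q ≤ Subgroup.normalizer (V : Set G)) (hfaith : (X ⊔ Q) ⊓ Subgroup.centralizer (V : Set G) = ⊥) (hexc : q = 2 → (∃ n : ℕ, r = 2 ^ n + 1) → IsMulCommutative Q) : V ⊓ Subgroup.centralizer (X : Set G) ≠ ⊥ := by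
  haveI := Fact.mk hr
  intro hC0
  haveI hXc : IsCyclic X := isCyclic_of_prime_card (p := r) hX
  obtain ⟨g, hg⟩ := hXc.exists_generator
  have hgr : (g : G) ^ r = 1 := by
    have := congrArg Subtype.val (pow_card_eq_one' (x := g))
    rw [hX] at this
    simpa using this
  have hgen : ∀ w ∈ X, ∃ i : ℤ, (g : G) ^ i = w := fun w hw => by
    obtain ⟨i, hi⟩ := Subgroup.mem_zpowers_iff.1 (hg ⟨w, hw⟩)
    exact ⟨i, congrArg Subtype.val hi⟩
  have hC : V ⊓ Subgroup.centralizer ({(g : G)} : Set G) = ⊥ := by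
    rw [eq_bot_iff, ← hC0]
    refine fun v hv => ⟨hv.1, fun w hw => ?_⟩
    obtain ⟨i, rfl⟩ := hgen w hw
    exact ((show Commute (g : G) v from hv.2 g rfl).zpow_left i).eq
  rcases CfsgLib.BG.FixedLine.fpf_groups hp hq hr hpq hpr hqr hV hQ hgr (hXQ g.2) (hXV g.2) hQV hC with h | h
  · have hcomm : ∀ u ∈ Q, (g : G) * u = u * g := by
      intro u hu
      have : ⁅(g : G), u⁆ ∈ (X ⊔ Q) ⊓ Subgroup.centralizer (V : Set G) := by
        refine ⟨?_, h u hu⟩
        rw [commutatorElement_def]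
        have h1 : (g : G) ∈ X ⊔ Q := Subgroup.mem_sup_left g.2
        have h2 : u ∈ X ⊔ Q := Subgroup.mem_sup_right hu
        exact (X ⊔ Q).mul_mem ((X ⊔ Q).mul_mem ((X ⊔ Q).mul_mem h1 h2) ((X ⊔ Q).inv_mem h1)) ((X ⊔ Q).inv_mem h2)
      rw [hfaith, Subgroup.mem_bot] at this
      exact commutatorElement_eq_one_iff_mul_comm.1 this
    have hgX : (g : G) ∈ X ⊓ Subgroup.centralizer (Q : Set G) :=
      ⟨g.2, fun u hu => (hcomm u hu).symm⟩
    rw [hXfaith, Subgroup.mem_bot] at hgX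
    have hbot : X = ⊥ := (Subgroup.eq_bot_iff_forall X).2 fun w hw => by
      obtain ⟨i, rfl⟩ := hgen w hw
      rw [hgX, one_zpow]
    rw [hbot, Subgroup.card_bot] at hX
    exact hr.one_lt.ne hX
  · obtain ⟨⟨h2, hn⟩, a, ha, b, hb, hab⟩ := h
    haveI := hexc h2 hn
    exact hab (congrArg Subtype.val (mul_comm' (⟨a, ha⟩ : Q) ⟨b, hb⟩))

end Cfsg.Agent.S3765
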