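import Cfsg.Statements.S3766
import Cfsg.Agent.Lib.Fitting.Basic
import Cfsg.Agent.Lib.PSolvable.Core

set_option autoImplicit false
set_option linter.style.haveILetI false
open Cfsg

namespace Cfsg.Agent.S3766

open scoped commutatorElement

variable {G : Type*} [Group G] [Finite G]

theorem forward (R : Subgroup G) [R.Normal] (hR : Group.IsNilpotent R) (U V : Subgroup G)
    [U.Normal] [V.Normal] (hVU : V < U)
    (hchief : ∀ W : Subgroup G, W.Normal → V ≤ W → W ≤ U → W = V ∨ W = U) : ⁅U, R⁆ ≤ V := by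
  rcases hchief (⁅U, R⁆ ⊔ V) inferInstance le_sup_right
    (sup_le (Subgroup.commutator_le_left U R) hVU.le) with h | h
  · exact le_sup_left.trans h.le
  exfalso
  have key : ∀ i, U ≤ R.lowerCentralSeries i ⊔ V := by
    intro i
    induction i with
    | zero => exact h.ge.trans (sup_le (le_sup_of_le_left (Subgroup.commutator_le_right U R)) le_sup_right)
    | succ i ih =>
      haveI hn : (R.lowerCentralSeries i).Normal := by
        clear ih
        induction i with
        | zero => assumption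
        | succ i ih => rw [Subgroup.lowerCentralSeries_succ]; infer_instance
      haveI hn' : (R.lowerCentralSeries (i + 1)).Normal := by
        rw [Subgroup.lowerCentralSeries_succ]; infer_instance
      refine h.ge.trans (sup_le ?_ le_sup_right)
      refine (Subgroup.commutator_mono ih le_rfl).trans (Subgroup.commutator_le.mpr fun x hx r hr => ?_)
      obtain ⟨a, ha, v, hv, rfl⟩ := Subgroup.mem_sup_of_normal_right.mp hx
      rw [show ⁅a * v, r⁆ = a * ⁅v, r⁆ * a⁻¹ * ⁅a, r⁆ by simp only [commutatorElement_def]; group]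
      refine mul_mem (Subgroup.mem_sup_right (Subgroup.Normal.conj_mem inferInstance _
        (Subgroup.commutator_le_left V R (Subgroup.commutator_mem_commutator hv hr)) a)) (Subgroup.mem_sup_left ?_)
      rw [Subgroup.lowerCentralSeries_succ]
      exact Subgroup.commutator_mem_commutator ha hr
  obtain ⟨c, hc⟩ := (Subgroup.isNilpotent_iff_lowerCentralSeries R).mp hR
  have := key c
  rw [hc, bot_sup_eq] at this
  exact hVU.not_ge this

theorem backward (hG : Group.IsSolvable G) (N : Subgroup G) [N.Normal] (R : Subgroup G) [R.Normal]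
    (hR : ∀ M : Subgroup G, M.Normal → M ≤ N → Group.IsNilpotent M → M ≤ R) (g : G) (hgN : g ∈ N)
    (hgc : ∀ U V : Subgroup G, (U.Normal ∧ V.Normal ∧ V < U ∧ ∀ W : Subgroup G, W.Normal → V ≤ W → W ≤ U → W = V ∨ W = U) →
      U ≤ R → ∀ u ∈ U, u * g * u⁻¹ * g⁻¹ ∈ V) : g ∈ R := by
  classical
  haveI := hG
  set S := {h : G | h ∈ N ∧ ∀ U V : Subgroup G, (U.Normal ∧ V.Normal ∧ V < U ∧ ∀ W : Subgroup G, W.Normal → V ≤ W → W ≤ U → W = V ∨ W = U) → U ≤ R → ∀ u ∈ U, ⁅u, h⁆ ∈ V}
  have hgS : g ∈ S := ⟨hgN, fun U V h hU u hu => by rw [commutatorElement_def]; exact hgc U V h hU u hu⟩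
  set H := Subgroup.normalClosure S with hH
  have hHN : H ≤ N := Subgroup.normalClosure_le_normal fun h hh => hh.1
  have hHV : ∀ U V : Subgroup G, (U.Normal ∧ V.Normal ∧ V < U ∧ ∀ W : Subgroup G, W.Normal → V ≤ W → W ≤ U → W = V ∨ W = U) →
      U ≤ R → ⁅U, H⁆ ≤ V := by
    rintro U V ⟨hUn, hVn, hlt, hch⟩ hUR
    haveI := hUn; haveI := hVn
    let π := QuotientGroup.mk' V
    let K := (Subgroup.centralizer ((U.map π : Subgroup (G ⧸ V)) : Set (G ⧸ V))).comap π
    haveI : (U.map π).Normal := hUn.map π (QuotientGroup.mk'_surjective V)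
    have hmem : ∀ h, h ∈ K ↔ ∀ u ∈ U, ⁅u, h⁆ ∈ V := by
      intro h
      constructor
      · intro hk u hu
        refine (QuotientGroup.eq_one_iff _).mp ?_
        show π _ = 1
        rw [map_commutatorElement, commutatorElement_eq_one_iff_commute]
        exact hk _ ⟨u, hu, rfl⟩
      · rintro hk _ ⟨u, hu, rfl⟩
        have h1 : π ⁅u, h⁆ = 1 := (QuotientGroup.eq_one_iff _).mpr (hk u hu)
        rw [map_commutatorElement, commutatorElement_eq_one_iff_commute] at h1
        exact h1
    have hle : H ≤ K := Subgroup.normalClosure_le_normal fun h hh =>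
      (hmem h).mpr (hh.2 U V ⟨hUn, hVn, hlt, hch⟩ hUR)
    exact Subgroup.commutator_le.mpr fun u hu h hh => (hmem h).mp (hle hh) u hu
  -- derived series of `H`
  let D : ℕ → Subgroup G := fun j => (derivedSeries H j).map H.subtype
  have hDn : ∀ j, (D j).Normal := fun j => by
    haveI : (derivedSeries H j).Characteristic := derivedSeries_characteristic _ j
    exact CfsgLib.PSolvable.normal_map_of_characteristic H _
  have hDH : ∀ j, D j ≤ H := fun j => Subgroup.map_subtype_le _
  obtain ⟨k, hk⟩ := (inferInstance : Group.IsSolvable H).solvable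
  have hex : ∃ j, D j ≤ R := ⟨k, by show (derivedSeries H k).map H.subtype ≤ R; rw [hk, Subgroup.map_bot]; exact bot_le⟩
  rcases Nat.eq_zero_or_pos (Nat.find hex) with h0 | h0
  · have h1 := Nat.find_spec hex
    rw [h0] at h1
    refine h1 ⟨⟨g, Subgroup.subset_normalClosure hgS⟩, ?_, rfl⟩
    rw [derivedSeries_zero]; exact Subgroup.mem_top _
  exfalso
  obtain ⟨i, hi⟩ : ∃ i, Nat.find hex = i + 1 := ⟨Nat.find hex - 1, by omega⟩
  refine Nat.find_min hex (show i < Nat.find hex by omega) ?_
  set M := D i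
  haveI : M.Normal := hDn i
  have hM' : ⁅M, M⁆ ≤ R := by
    have h1 := Nat.find_spec hex
    rw [hi] at h1
    refine le_trans (le_of_eq ?_) h1
    show ⁅(derivedSeries H i).map H.subtype, (derivedSeries H i).map H.subtype⁆ = _
    rw [← Subgroup.map_commutator, ← derivedSeries_succ]
  refine hR M (hDn i) ((hDH i).trans hHN) ?_
  have descend : ∀ U : Subgroup G, U.Normal → U ≤ R → ∀ j, M.lowerCentralSeries j ≤ U →
      ∃ c, M.lowerCentralSeries c = ⊥ := by
    intro U
    induction U using WellFoundedLT.induction with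
    | ind U IH =>
    intro hUn hUR j hj
    rcases eq_or_ne U ⊥ with rfl | hne
    · exact ⟨j, le_bot_iff.mp hj⟩
    obtain ⟨V, ⟨hVn, hVU⟩, hmax⟩ := (Set.toFinite {W : Subgroup G | W.Normal ∧ W < U}).exists_maximal
      ⟨⊥, inferInstance, bot_lt_iff_ne_bot.mpr hne⟩
    refine IH V hVU hVn (hVU.le.trans hUR) (j + 1) ?_
    rw [Subgroup.lowerCentralSeries_succ]
    refine (Subgroup.commutator_mono hj (hDH i)).trans (hHV U V ⟨hUn, hVn, hVU, fun W hW h1 h2 => ?_⟩ hUR)
    rcases eq_or_lt_of_le h2 with e | hlt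
    · exact Or.inr e
    · exact Or.inl (le_antisymm (hmax ⟨hW, hlt⟩ h1) h1)
  obtain ⟨c, hc⟩ := descend R inferInstance le_rfl 1 (by
    rw [Subgroup.lowerCentralSeries_succ, Subgroup.lowerCentralSeries_zero]; exact hM')
  exact (Subgroup.isNilpotent_iff_lowerCentralSeries M).mpr ⟨c, hc⟩

/-- Let G be a finite solvable group and N a normal subgroup of G. Call a pair V < U of normal subgroups of G a chief factor of G when no normal subgroup of G lies strictly between them; an element g centralizes the chief factor U/V when u g u⁻¹ g⁻¹ ∈ V for all u ∈ U. Then an element of G lies in the Fitting subgroup F(N) if and only if it lies in N and centralizes every chief factor of G; and also if and only if it lies in N and centralizes every chief factor U/V of G with U ≤ F(N). -/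
theorem result {G : Type*} [Group G] [Finite G] (hG : Group.IsSolvable G) (N : Subgroup G) [N.Normal] (g : G) : (g ∈ (Cfsg.fittingSubgroup ↥N).map N.subtype ↔ g ∈ N ∧ ∀ U V : Subgroup G, (U.Normal ∧ V.Normal ∧ V < U ∧ ∀ W : Subgroup G, W.Normal → V ≤ W → W ≤ U → W = V ∨ W = U) → ∀ u ∈ U, u * g * u⁻¹ * g⁻¹ ∈ V) ∧ (g ∈ (Cfsg.fittingSubgroup ↥N).map N.subtype ↔ g ∈ N ∧ ∀ U V : Subgroup G, (U.Normal ∧ V.Normal ∧ V < U ∧ ∀ W : Subgroup G, W.Normal → V ≤ W → W ≤ U → W = V ∨ W = U) → U ≤ (Cfsg.fittingSubgroup ↥N).map N.subtype → ∀ u ∈ U, u * g * u⁻¹ * g⁻¹ ∈ V) := by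
  set R := (Cfsg.fittingSubgroup ↥N).map N.subtype with hR
  haveI := CfsgLib.Fitting.fittingSubgroup_normal (G := N)
  haveI : R.Normal := by
    haveI : (Cfsg.fittingSubgroup ↥N).Characteristic := by
      refine Subgroup.characteristic_iff_map_le.mpr fun φ => ?_
      refine CfsgLib.Fitting.le_fittingSubgroup (Subgroup.Normal.map inferInstance _ φ.surjective) ?_
      haveI := CfsgLib.Fitting.fittingSubgroup_isNilpotent (G := N)
      exact Group.nilpotent_of_surjective (φ.toMonoidHom.subgroupMap (Cfsg.fittingSubgroup N))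
        (φ.toMonoidHom.subgroupMap_surjective _)
    exact CfsgLib.PSolvable.normal_map_of_characteristic N _
  have hRnil : Group.IsNilpotent R := by
    haveI := CfsgLib.Fitting.fittingSubgroup_isNilpotent (G := N)
    exact Group.nilpotent_of_surjective (N.subtype.subgroupMap (Cfsg.fittingSubgroup N))
      (N.subtype.subgroupMap_surjective _)
  have hmaxR : ∀ M : Subgroup G, M.Normal → M ≤ N → Group.IsNilpotent M → M ≤ R := by
    intro M hMn hMN hM m hm
    haveI := hM
    haveI := hMn
    refine ⟨⟨m, hMN hm⟩, CfsgLib.Fitting.le_fittingSubgroup (N := M.subgroupOf N)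
      (Subgroup.Normal.subgroupOf inferInstance N) ?_ hm, rfl⟩
    exact Group.nilpotent_of_surjective (Subgroup.subgroupOfEquivOfLe hMN).symm.toMonoidHom
      (Subgroup.subgroupOfEquivOfLe hMN).symm.surjective
  have hfwd : g ∈ R → g ∈ N ∧ ∀ U V : Subgroup G, (U.Normal ∧ V.Normal ∧ V < U ∧ ∀ W : Subgroup G, W.Normal → V ≤ W → W ≤ U → W = V ∨ W = U) → ∀ u ∈ U, u * g * u⁻¹ * g⁻¹ ∈ V := by
    intro hg
    refine ⟨Subgroup.map_subtype_le _ hg, fun U V ⟨hUn, hVn, hlt, hch⟩ u hu => ?_⟩
    haveI := hUn; haveI := hVn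
    exact forward R hRnil U V hlt hch (Subgroup.commutator_mem_commutator hu hg)
  refine ⟨⟨hfwd, fun h => ?_⟩, ⟨fun hg => ⟨(hfwd hg).1, fun U V h _ => (hfwd hg).2 U V h⟩, fun h => ?_⟩⟩
  · exact backward hG N R hmaxR g h.1 fun U V hc _ => h.2 U V hc
  · exact backward hG N R hmaxR g h.1 h.2
end Cfsg.Agent.S3766
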