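import Cfsg.Statements.S3767
import Cfsg.Agent.Lib.SemiregSymp.Main
import Cfsg.Agent.Lib.Extraspecial.Basics

set_option autoImplicit false
open Cfsg

namespace Cfsg.Agent.S3767

set_option linter.style.haveILetI false
open scoped commutatorElement


/-- Let P be an extraspecial p-group of order p^(2n+1) and H a cyclic group of order h prime to p acting on P (inside a common finite group: H normalizes P) so that C_P(x) = Z(P) for every non-identity x ∈ H. Then h divides p^n + 1 or h divides p^n − 1. -/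
theorem result {G : Type*} [Group G] [Finite G] {p : ℕ} [Fact p.Prime] (P H : Subgroup G) (hP : Cfsg.IsExtraspecial p ↥P) (n : ℕ) (hn : Nat.card P = p ^ (2 * n + 1)) (hH : IsCyclic H) (hcop : (Nat.card H).Coprime p) (hHP : H ≤ Subgroup.normalizer (P : Set G)) (hfix : ∀ x ∈ H, x ≠ 1 → P ⊓ Subgroup.centralizer {x} = (Subgroup.center ↥P).map P.subtype) : Nat.card H ∣ p ^ n + 1 ∨ Nat.card H ∣ p ^ n - 1 := by
  classical
  by_cases hH1 : H = ⊥
  · left
    rw [hH1, Subgroup.card_bot]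
    exact one_dvd _
  set Z := Subgroup.center ↥P with hZ
  haveI : Z.Normal := inferInstance
  -- the elements of `H` centralize the centre
  have hHZ : ∀ x ∈ H, ∀ z ∈ Z, x * (z : G) * x⁻¹ = z := by
    intro x hx z hz
    by_cases hx1 : x = 1
    · simp [hx1]
    have hzc : (z : G) ∈ P ⊓ Subgroup.centralizer {x} := by
      rw [hfix x hx hx1]
      exact ⟨z, hz, rfl⟩
    rw [← Subgroup.mem_centralizer_singleton_iff.mp hzc.2, mul_inv_cancel_right]
  -- the conjugation action on `P`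
  let φ : ↥H → (↥P ≃* ↥P) := fun x =>
    { toFun := fun a => ⟨x * a * (x : G)⁻¹, (Subgroup.mem_normalizer_iff.mp (hHP x.2) a).mp a.2⟩
      invFun := fun a => ⟨(x : G)⁻¹ * a * x, by
        simpa using (Subgroup.mem_normalizer_iff.mp (inv_mem (hHP x.2)) a).mp a.2⟩
      left_inv := fun a => Subtype.ext (by simp [mul_assoc])
      right_inv := fun a => Subtype.ext (by simp [mul_assoc])
      map_mul' := fun a b => Subtype.ext (by simp [mul_assoc]) }
  have hφv : ∀ x a, ((φ x a : ↥P) : G) = x * a * (x : G)⁻¹ := fun _ _ => rfl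
  have hφZ : ∀ x, Z ≤ Z.comap (φ x).toMonoidHom := fun x z hz => by
    rw [Subgroup.mem_comap]
    show φ x z ∈ Z
    rw [show φ x z = z from Subtype.ext ((hφv x z).trans (hHZ x x.2 z hz))]
    exact hz
  -- the quotient as an elementary abelian group
  letI : CommGroup (↥P ⧸ Z) :=
    { (inferInstance : Group (↥P ⧸ Z)) with
      mul_comm := fun a b => by
        obtain ⟨a, rfl⟩ := QuotientGroup.mk_surjective a
        obtain ⟨b, rfl⟩ := QuotientGroup.mk_surjective b
        rw [← QuotientGroup.mk_mul, ← QuotientGroup.mk_mul, QuotientGroup.eq]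
        have h := CfsgLib.Extraspecial.comm_mem hP b⁻¹ a⁻¹
        rwa [commutatorElement_def, inv_inv, inv_inv, ← mul_inv_rev, mul_assoc] at h }
  have hexp : ∀ q : ↥P ⧸ Z, q ^ p = 1 := fun q => by
    obtain ⟨a, rfl⟩ := QuotientGroup.mk_surjective q
    rw [← QuotientGroup.mk_pow]
    exact (QuotientGroup.eq_one_iff _).mpr (CfsgLib.Extraspecial.pow_mem_center hP a)
  let ψ : ↥H → (↥P ⧸ Z →* ↥P ⧸ Z) := fun x => QuotientGroup.map Z Z (φ x).toMonoidHom (hφZ x)
  -- the commutator form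
  have hZcyc : IsCyclic ↥Z := isCyclic_of_prime_card hP.2
  let eZ : Multiplicative (ZMod p) ≃* ↥Z := by
    have h := zmodCyclicMulEquiv hZcyc
    rw [show Nat.card ↥Z = p from hP.2] at h
    exact h
  let f : ↥P → (↥P →* Multiplicative (ZMod p)) := fun a => MonoidHom.mk'
    (fun b => eZ.symm ⟨⁅a, b⁆, CfsgLib.Extraspecial.comm_mem hP a b⟩) fun b c => by
      rw [← map_mul]
      congr 1
      refine Subtype.ext ?_
      show ⁅a, b * c⁆ = ⁅a, b⁆ * ⁅a, c⁆
      rw [show ⁅a, b * c⁆ = ⁅a, b⁆ * (b * ⁅a, c⁆ * b⁻¹) by simp only [commutatorElement_def]; group,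
        ← (CfsgLib.Extraspecial.comm_central hP a c b).eq, mul_inv_cancel_right]
  have hfv : ∀ a b, eZ (f a b) = ⟨⁅a, b⁆, CfsgLib.Extraspecial.comm_mem hP a b⟩ := fun a b => by
    show eZ (eZ.symm _) = _
    rw [MulEquiv.apply_symm_apply]
  have hf1 : ∀ a b, f a b = 1 ↔ a * b = b * a := fun a b => by
    rw [← eZ.injective.eq_iff, map_one, hfv, ← commutatorElement_eq_one_iff_mul_comm]
    exact ⟨fun h => congrArg Subtype.val h, fun h => Subtype.ext h⟩
  let f₁ : ↥P → (↥P ⧸ Z →* Multiplicative (ZMod p)) := fun a => QuotientGroup.lift Z (f a) fun b hb =>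
    MonoidHom.mem_ker.mpr ((hf1 a b).mpr (Subgroup.mem_center_iff.mp hb a))
  let F : ↥P →* (↥P ⧸ Z →* Multiplicative (ZMod p)) := MonoidHom.mk' f₁ fun a b => by
    refine MonoidHom.ext fun q => ?_
    obtain ⟨c, rfl⟩ := QuotientGroup.mk_surjective q
    show f (a * b) c = f a c * f b c
    apply eZ.injective
    rw [map_mul, hfv, hfv, hfv]
    exact Subtype.ext (CfsgLib.Extraspecial.comm_mul_left hP a b c)
  let F₁ : ↥P ⧸ Z →* (↥P ⧸ Z →* Multiplicative (ZMod p)) := QuotientGroup.lift Z F fun a ha => by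
    rw [MonoidHom.mem_ker]
    refine MonoidHom.ext fun q => ?_
    obtain ⟨c, rfl⟩ := QuotientGroup.mk_surjective q
    exact (hf1 a c).mpr (Subgroup.mem_center_iff.mp ha c).symm
  have hfree : ∀ x : ↥H, x ≠ 1 → ∀ q, ψ x q = q → q = 1 := by
    intro x hx q hv
    obtain ⟨a, rfl⟩ := QuotientGroup.mk_surjective q
    have hc : a⁻¹ * φ x a ∈ Z := QuotientGroup.eq.mp (Eq.symm hv)
    obtain ⟨c, hcdef⟩ : ∃ c, c = a⁻¹ * φ x a := ⟨_, rfl⟩
    rw [← hcdef] at hc
    have h1 : (x : G) * a * (x : G)⁻¹ = a * c := by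
      rw [← hφv, hcdef]
      simp
    have hk : ∀ k : ℕ, (x : G) ^ k * a * ((x : G) ^ k)⁻¹ = a * (c : G) ^ k := by
      intro k
      induction k with
      | zero => simp
      | succ k ih =>
        rw [pow_succ', show (x : G) * (x : G) ^ k * a * ((x : G) * (x : G) ^ k)⁻¹ =
          (x : G) * ((x : G) ^ k * a * ((x : G) ^ k)⁻¹) * (x : G)⁻¹ by group, ih,
          show (x : G) * (a * (c : G) ^ k) * (x : G)⁻¹ =
            ((x : G) * a * (x : G)⁻¹) * ((x : G) * (c : G) * (x : G)⁻¹) ^ k by rw [conj_pow]; group,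
          h1, hHZ x x.2 c hc, pow_succ', mul_assoc]
    have hc1 : (c : G) = 1 := by
      have e1 := hk (Nat.card H)
      rw [← Subgroup.coe_pow, pow_card_eq_one', Subgroup.coe_one, one_mul, inv_one, mul_one,
        left_eq_mul] at e1
      have e2 : (c : G) ^ p = 1 := by
        have := pow_card_eq_one' (x := (⟨c, hc⟩ : ↥Z))
        rw [show Nat.card ↥Z = p from hP.2] at this
        exact congrArg (fun z : ↥Z => ((z : ↥P) : G)) this
      exact orderOf_eq_one_iff.mp (Nat.eq_one_of_dvd_coprimes hcop (orderOf_dvd_of_pow_eq_one e1)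
        (orderOf_dvd_of_pow_eq_one e2))
    rw [hc1, mul_one, mul_inv_eq_iff_eq_mul] at h1
    have hmem : (a : G) ∈ P ⊓ Subgroup.centralizer {(x : G)} :=
      ⟨a.2, Subgroup.mem_centralizer_singleton_iff.mpr h1.symm⟩
    rw [hfix x x.2 (fun e => hx (Subtype.ext e))] at hmem
    obtain ⟨z, hz, hza⟩ := hmem
    exact (QuotientGroup.eq_one_iff a).mpr (Subtype.ext hza ▸ hz)
  refine CfsgLib.SemiregSymp.dvd_of_pairing (p := p) hH hcop hexp ψ ?_ ?_ hfree F₁ ?_ ?_ ?_ ?_
  · intro q
    obtain ⟨a, rfl⟩ := QuotientGroup.mk_surjective q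
    show ((φ 1 a : ↥P) : ↥P ⧸ Z) = _
    rw [show φ 1 a = a from Subtype.ext (by rw [hφv]; simp)]
  · intro x y q
    obtain ⟨a, rfl⟩ := QuotientGroup.mk_surjective q
    show ((φ (x * y) a : ↥P) : ↥P ⧸ Z) = ((φ x (φ y a) : ↥P) : ↥P ⧸ Z)
    rw [show φ (x * y) a = φ x (φ y a) from Subtype.ext (by simp [hφv, mul_assoc])]
  · intro q
    obtain ⟨a, rfl⟩ := QuotientGroup.mk_surjective q
    exact (hf1 a a).mpr rfl
  · intro x u v
    obtain ⟨a, rfl⟩ := QuotientGroup.mk_surjective u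
    obtain ⟨b, rfl⟩ := QuotientGroup.mk_surjective v
    show f (φ x a) (φ x b) = f a b
    apply eZ.injective
    rw [hfv, hfv]
    refine Subtype.ext ?_
    show ⁅φ x a, φ x b⁆ = ⁅a, b⁆
    rw [show ⁅φ x a, φ x b⁆ = φ x ⁅a, b⁆ from (map_commutatorElement (φ x).toMonoidHom a b).symm]
    exact Subtype.ext ((hφv x _).trans (hHZ x x.2 _ (CfsgLib.Extraspecial.comm_mem hP a b)))
  · intro u h
    obtain ⟨a, rfl⟩ := QuotientGroup.mk_surjective u
    exact (QuotientGroup.eq_one_iff a).mpr (Subgroup.mem_center_iff.mpr fun b =>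
      ((hf1 a b).mp (h (b : ↥P ⧸ Z))).symm)
  · have h1 := Subgroup.card_eq_card_quotient_mul_card_subgroup Z
    rw [hn, show Nat.card ↥Z = p from hP.2, pow_succ] at h1
    exact (Nat.eq_of_mul_eq_mul_right (Fact.out : p.Prime).pos h1).symm

end Cfsg.Agent.S3767
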