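import Cfsg.Statements.S3768
import Mathlib
import Cfsg.Agent.Lib.FrobCompl.Fpf

set_option autoImplicit false
set_option linter.style.haveILetI false
open Cfsg

namespace Cfsg.Agent.S3768

/-- Let G be a finite Frobenius group with Frobenius complement R and Frobenius kernel K (the identity together with the elements in no conjugate of R), and let N be a normal subgroup of G not containing K. Then G/N is a Frobenius group with Frobenius complement RN/N whose Frobenius kernel is the image of K. -/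
theorem result {G : Type*} [Group G] [Finite G] (R : Subgroup G) (hR : Cfsg.IsFrobeniusComplement R) (N : Subgroup G) [N.Normal] (hKN : ¬ Cfsg.frobeniusKernel R ⊆ N) : Cfsg.IsFrobeniusComplement (R.map (QuotientGroup.mk' N)) ∧ Cfsg.frobeniusKernel (R.map (QuotientGroup.mk' N)) = QuotientGroup.mk' N '' Cfsg.frobeniusKernel R := by
  obtain ⟨K, hK, hKn, hc⟩ := CfsgLib.FrobCompl.exists_kernel_complement hR
  haveI := hKn
  rw [← hK] at hKN ⊢
  have hfpf : ∀ h ∈ R, h ≠ 1 → ∀ k ∈ K, k * h = h * k → k = 1 := by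
    intro h hh h1 k hk hcomm
    have : k ∈ K ⊓ R := ⟨hk, CfsgLib.FrobCompl.mem_of_commute hR hh h1 hcomm⟩
    rwa [hc.disjoint.eq_bot, Subgroup.mem_bot] at this
  have hconjK : ∀ {h k : G}, k ∈ K → h * k * h⁻¹ ∈ K := fun {h k} hk => hKn.conj_mem k hk h
  -- commutation with a nonidentity complement element permutes the kernel
  have hsurj : ∀ h ∈ R, h ≠ 1 → ∀ k ∈ K, ∃ u ∈ K, u * (h * u⁻¹ * h⁻¹) = k := by
    intro h hh h1 k hk
    let f : K → K := fun u => ⟨(u : G) * (h * (u : G)⁻¹ * h⁻¹), K.mul_mem u.2 (hconjK (K.inv_mem u.2))⟩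
    have hinj : Function.Injective f := by
      intro u v e
      have e' : (u : G) * (h * (u : G)⁻¹ * h⁻¹) = (v : G) * (h * (v : G)⁻¹ * h⁻¹) :=
        congrArg Subtype.val e
      have e'' : (u : G) * h * (u : G)⁻¹ = (v : G) * h * (v : G)⁻¹ :=
        mul_right_cancel (b := h⁻¹) (by simpa [mul_assoc] using e')
      have h2 := hfpf h hh h1 ((v : G)⁻¹ * u) (K.mul_mem (K.inv_mem v.2) u.2) (by
        calc (v : G)⁻¹ * u * h = (v : G)⁻¹ * ((u : G) * h * (u : G)⁻¹) * u := by group
          _ = h * ((v : G)⁻¹ * u) := by rw [e'']; group)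
      exact Subtype.ext (inv_mul_eq_one.mp h2).symm
    obtain ⟨u, hu⟩ := Finite.surjective_of_injective hinj ⟨k, hk⟩
    exact ⟨u, u.2, congrArg Subtype.val hu⟩
  have hNK : N ≤ K := by
    intro x hx
    by_contra hxK
    have hx' : x ∉ Cfsg.frobeniusKernel R := hK ▸ hxK
    simp only [Cfsg.frobeniusKernel, Set.mem_ofPred_eq, not_or, not_forall, not_not] at hx'
    obtain ⟨hx1, c, hxc⟩ := hx'
    rw [CfsgLib.FrobCompl.mem_conj_smul] at hxc
    refine hKN fun k hk => ?_
    have hhN : c⁻¹ * x * c ∈ N := by simpa using (inferInstance : N.Normal).conj_mem x hx c⁻¹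
    obtain ⟨u, -, hu⟩ := hsurj _ hxc (fun e => hx1 (CfsgLib.FrobCompl.eq_one_of_conj e)) k hk
    rw [← hu, show ∀ h : G, u * (h * u⁻¹ * h⁻¹) = (u * h * u⁻¹) * h⁻¹ from fun h => by group]
    exact N.mul_mem ((inferInstance : N.Normal).conj_mem _ hhN u) (N.inv_mem hhN)
  set f := QuotientGroup.mk' N
  have hf : Function.Surjective f := QuotientGroup.mk'_surjective N
  haveI : (K.map f).Normal := hKn.map f hf
  have hcb : Subgroup.IsComplement' (K.map f) (R.map f) := by
    refine Subgroup.isComplement'_of_disjoint_and_mul_eq_univ ?_ ?_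
    · rw [disjoint_iff, eq_bot_iff]
      rintro _ ⟨⟨k, hk, rfl⟩, r, hr, hrk⟩
      have hrK : r ∈ K := by
        have h1 : k⁻¹ * r ∈ N := QuotientGroup.eq.mp hrk.symm
        simpa using K.mul_mem hk (hNK h1)
      have : r ∈ K ⊓ R := ⟨hrK, hr⟩
      rw [hc.disjoint.eq_bot, Subgroup.mem_bot] at this
      rw [Subgroup.mem_bot, ← hrk, this, map_one]
    · refine Set.eq_univ_of_forall fun y => ?_
      obtain ⟨g, rfl⟩ := hf y
      obtain ⟨k, hk, r, hr, rfl⟩ := CfsgLib.FrobCompl.exists_kernel_mul hc g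
      exact ⟨f k, Subgroup.mem_map_of_mem f hk, f r, Subgroup.mem_map_of_mem f hr, (map_mul f k r).symm⟩
  have hF : Cfsg.IsFrobeniusComplement (R.map f) := by
    refine CfsgLib.FrobCompl.isFrobeniusComplement_of_fpf hcb ?_ ?_ ?_
    · rw [Ne, Subgroup.map_eq_bot_iff, QuotientGroup.ker_mk']
      exact fun h => hKN h
    · intro h
      rw [Subgroup.map_eq_bot_iff, QuotientGroup.ker_mk'] at h
      refine hR.1 (le_bot_iff.mp ?_)
      rw [← hc.disjoint.eq_bot]
      exact le_inf (h.trans hNK) le_rfl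
    · rintro _ ⟨h, hh, rfl⟩ h1 _ ⟨k, hk, rfl⟩ hcomm
      have hh1 : h ≠ 1 := fun e => h1 (by rw [e, map_one])
      set d := k * (h * k⁻¹ * h⁻¹) with hd
      have hdN : d ∈ N := by
        rw [← QuotientGroup.eq_one_iff]
        show f d = 1
        rw [hd, map_mul, map_mul, map_mul, map_inv, map_inv,
          show f k * (f h * (f k)⁻¹ * (f h)⁻¹) = f k * f h * (f k)⁻¹ * (f h)⁻¹ by group, hcomm]
        group
      -- the same commutation permutes `N`
      let g : N → N := fun u => ⟨(u : G) * (h * (u : G)⁻¹ * h⁻¹),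
        N.mul_mem u.2 ((inferInstance : N.Normal).conj_mem _ (N.inv_mem u.2) h)⟩
      have key : ∀ u v : G, u ∈ K → v ∈ K →
          u * (h * u⁻¹ * h⁻¹) = v * (h * v⁻¹ * h⁻¹) → u = v := by
        intro u v hu hv e'
        have e'' : u * h * u⁻¹ = v * h * v⁻¹ :=
          mul_right_cancel (b := h⁻¹) (by simpa [mul_assoc] using e')
        have h2 := hfpf h hh hh1 (v⁻¹ * u) (K.mul_mem (K.inv_mem hv) hu) (by
          calc v⁻¹ * u * h = v⁻¹ * (u * h * u⁻¹) * u := by group
            _ = h * (v⁻¹ * u) := by rw [e'']; group)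
        exact (inv_mul_eq_one.mp h2).symm
      have hginj : Function.Injective g := fun u v e =>
        Subtype.ext (key _ _ (hNK u.2) (hNK v.2) (congrArg Subtype.val e))
      obtain ⟨u, hu⟩ := Finite.surjective_of_injective hginj ⟨d, hdN⟩
      rw [← key _ _ (hNK u.2) hk (congrArg Subtype.val hu)]
      exact (QuotientGroup.eq_one_iff (u : G)).mpr u.2
  exact ⟨hF, CfsgLib.FrobCompl.frobeniusKernel_eq_of_complement hF hcb⟩

end Cfsg.Agent.S3768
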