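import Cfsg.Statements.S3769
import Cfsg.Agent.Lib.BG.FixedLine.Groups
set_option autoImplicit false
open scoped commutatorElement
open Cfsg

namespace Cfsg.Agent.S3769

/-- Let G and V be subgroups of a finite group with G solvable of odd order normalizing V, V an elementary abelian ℓ-group for a prime ℓ not dividing the order of G, and suppose G has a normal Hall subgroup K with a complement R of prime order. If C_V(R) = 1, then [R, K] centralizes V. -/
theorem result {X : Type*} [Group X] [Finite X] (G : Subgroup X) (hsolv : Group.IsSolvable G) (hodd : Odd (Nat.card G)) (V : Subgroup X) {ℓ : ℕ} (hℓ : ℓ.Prime) (hV : Cfsg.IsElementaryAbelian ℓ V) (hℓG : ¬ ℓ ∣ Nat.card G) (hGV : G ≤ Subgroup.normalizer (V : Set X)) (K R : Subgroup X) (hKG : K ≤ G) (hKn : G ≤ Subgroup.normalizer (K : Set X)) (hHall : (Nat.card K).Coprime (K.relIndex G)) (hRG : R ≤ G) (hR : (Nat.card R).Prime) (hKR : K ⊓ R = ⊥) (hKRG : K ⊔ R = G) (hCV : V ⊓ Subgroup.centralizer (R : Set X) = ⊥) : ⁅R, K⁆ ≤ Subgroup.centralizer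 (V : Set X) := by
  haveI := Fact.mk hR
  haveI hRc : IsCyclic R := isCyclic_of_prime_card (p := Nat.card R) rfl
  obtain ⟨g, hg⟩ := hRc.exists_generator
  set x : X := (g : X) with hx
  have hRx : R = Subgroup.zpowers x := by
    refine le_antisymm (fun y hy => ?_) (Subgroup.zpowers_le.2 g.2)
    obtain ⟨i, hi⟩ := Subgroup.mem_zpowers_iff.1 (hg ⟨y, hy⟩)
    exact ⟨i, congrArg Subtype.val hi⟩
  have hxr : x ^ Nat.card R = 1 := by
    exact congrArg Subtype.val (pow_card_eq_one' (x := g))
  have hRK : R ≤ Subgroup.normalizer (K : Set X) := hRG.trans hKn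
  have hrel : K.relIndex G = Nat.card R := by
    have h := CfsgLib.Coprime.relIndex_mul_card_inf K R
    rw [hKR, Subgroup.card_bot, mul_one] at h
    rw [← h, ← hKRG, CfsgLib.Coprime.relIndex_sup_of_le_normalizer hRK]
  have hrK : ¬ Nat.card R ∣ Nat.card K := fun h =>
    hR.ne_one (Nat.eq_one_of_dvd_coprimes (hrel ▸ hHall) h dvd_rfl)
  have hsK : Group.IsSolvable K := by
    haveI := hsolv
    exact solvable_of_solvable_injective (Subgroup.inclusion_injective hKG)
  have hKodd : Odd (Nat.card K) := hodd.of_dvd_nat (Subgroup.card_dvd_of_le hKG)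
  have hC : V ⊓ Subgroup.centralizer ({x} : Set X) = ⊥ := by
    rw [eq_bot_iff, ← hCV]
    refine fun v hv => ⟨hv.1, fun w hw => ?_⟩
    rw [SetLike.mem_coe, hRx] at hw
    obtain ⟨i, rfl⟩ := Subgroup.mem_zpowers_iff.1 hw
    exact ((show Commute x v from hv.2 x rfl).zpow_left i).eq
  rw [Subgroup.commutator_comm, hRx]
  exact CfsgLib.BG.FixedLine.commutator_le_centralizer_of_fpf hℓ hR hV hKodd
    (fun h => hℓG (h.trans (Subgroup.card_dvd_of_le hKG))) hrK
    (fun h => hℓG (h ▸ Subgroup.card_dvd_of_le hRG)) hsK hxr (hRK g.2) ((hRG.trans hGV) g.2)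
    (hKG.trans hGV) hC

end Cfsg.Agent.S3769
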