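import Cfsg.Statements.S3770
import Cfsg.Agent.Lib.FrobCompl.Fpf
import Cfsg.Agent.Lib.FrobCompl.Kernel
import Cfsg.Agent.Lib.FrobCompl.Conjugate
import Mathlib.RepresentationTheory.Maschke

set_option autoImplicit false
set_option linter.style.haveILetI false
open Cfsg
open scoped commutatorElement

namespace Cfsg.Agent.S3770

section Core

set_option linter.unusedSectionVars false

variable {k V G : Type*} [Field k] [AddCommGroup V] [Module k V] [Group G] [Finite G]
  (ρ : G →* Module.End k V)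

theorem rho_mul (a b : G) (v : V) : ρ (a * b) v = ρ a (ρ b v) := by rw [map_mul, Module.End.mul_apply]

theorem rho_inv_cancel (a : G) (v : V) : ρ a⁻¹ (ρ a v) = v := by
  rw [← rho_mul, inv_mul_cancel, map_one, Module.End.one_apply]

theorem card_ne_zero (hk : (Nat.card G : k) ≠ 0) (H : Subgroup G) : (Nat.card H : k) ≠ 0 := by
  intro h
  obtain ⟨c, hc⟩ := H.card_subgroup_dvd_card
  exact hk (by rw [hc, Nat.cast_mul, h, zero_mul])

/-- A Frobenius group without fixed points of kernel and complement on a module: the module vanishes. -/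
theorem frob_zero (hk : (Nat.card G : k) ≠ 0) (B : Subgroup G) (z : G) (r : ℕ) (hr : 0 < r)
    (hz : z ^ r = 1) (hn : ∀ b ∈ B, z * b * z⁻¹ ∈ B)
    (hfpf : ∀ b ∈ B, ∀ i, 0 < i → i < r → Commute b (z ^ i) → b = 1) (S : Submodule k V)
    (hSB : ∀ b ∈ B, ∀ v ∈ S, ρ b v ∈ S) (hSz : ∀ v ∈ S, ρ z v ∈ S)
    (h0B : ∀ v ∈ S, (∀ b ∈ B, ρ b v = v) → v = 0) (h0z : ∀ v ∈ S, ρ z v = v → v = 0) : S = ⊥ := by
  classical
  haveI := Fintype.ofFinite B
  have hpi : ∀ i : ℕ, ∀ b ∈ B, z ^ i * b * (z ^ i)⁻¹ ∈ B := by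
    intro i
    induction i with
    | zero => intro b hb; simpa using hb
    | succ i ih =>
      intro b hb
      have := hn _ (ih b hb)
      rw [pow_succ']; simpa [mul_assoc] using this
  have hSzi : ∀ i : ℕ, ∀ v ∈ S, ρ (z ^ i) v ∈ S := by
    intro i
    induction i with
    | zero => intro v hv; simpa using hv
    | succ i ih => intro v hv; rw [pow_succ', rho_mul]; exact hSz _ (ih v hv)
  have hB0 : ∀ v ∈ S, (∑ b : B, ρ (b : G) v) = 0 := fun v hv =>
    h0B _ (S.sum_mem fun b _ => hSB _ b.2 v hv) fun c hc => by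
      rw [map_sum]
      exact Fintype.sum_equiv (Equiv.mulLeft (⟨c, hc⟩ : B)) _ _ fun b => by
        simp
  have hR0 : ∀ v ∈ S, (∑ i ∈ Finset.range r, ρ (z ^ i) v) = 0 := fun v hv =>
    h0z _ (S.sum_mem fun i _ => hSzi i v hv) (by
      rw [map_sum]
      simp only [← rho_mul, ← pow_succ']
      have h1 := Finset.sum_range_succ' (fun i => ρ (z ^ i) v) r
      have h2 := Finset.sum_range_succ (fun i => ρ (z ^ i) v) r
      simp only [pow_zero, hz] at h1 h2
      exact add_right_cancel (h1.symm.trans h2))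
  rw [eq_bot_iff]
  intro v hv
  rw [Submodule.mem_bot]
  have hT : (∑ b : B, ∑ i ∈ Finset.range r, ρ ((b : G) * z ^ i * (b : G)⁻¹) v) = 0 := by
    refine Finset.sum_eq_zero fun b _ => ?_
    have h := hR0 _ (hSB _ (B.inv_mem b.2) v hv)
    simp only [rho_mul, ← map_sum, h, map_zero]
  rw [Finset.sum_comm, Finset.sum_eq_single 0] at hT
  · simp only [pow_zero, mul_one, mul_inv_cancel, map_one, Module.End.one_apply, Finset.sum_const,
      Finset.card_univ, ← Nat.card_eq_fintype_card] at hT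
    rw [← Nat.cast_smul_eq_nsmul k] at hT
    exact (smul_eq_zero.1 hT).resolve_left (card_ne_zero hk B)
  · intro i hi hi0
    rw [Finset.mem_range] at hi
    let g : B → B := fun b =>
      ⟨(b : G) * (z ^ i * (b : G)⁻¹ * (z ^ i)⁻¹), B.mul_mem b.2 (hpi i _ (B.inv_mem b.2))⟩
    have hg : Function.Injective g := by
      intro a b e
      have e1 : (a : G) * z ^ i * (a : G)⁻¹ = (b : G) * z ^ i * (b : G)⁻¹ := by
        have := congrArg (fun x : B => (x : G) * z ^ i) e
        simpa [g, mul_assoc] using this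
      have hc : Commute ((b : G)⁻¹ * (a : G)) (z ^ i) := by
        show (b : G)⁻¹ * (a : G) * z ^ i = z ^ i * ((b : G)⁻¹ * (a : G))
        calc (b : G)⁻¹ * (a : G) * z ^ i = (b : G)⁻¹ * ((a : G) * z ^ i * (a : G)⁻¹) * (a : G) := by group
          _ = _ := by rw [e1]; group
      have := hfpf _ (B.mul_mem (B.inv_mem b.2) a.2) i (Nat.pos_of_ne_zero hi0) hi hc
      exact Subtype.ext (inv_mul_eq_one.1 this).symm
    have he : ∀ b : B, ρ ((b : G) * z ^ i * (b : G)⁻¹) v = ρ (g b : G) (ρ (z ^ i) v) := fun b => by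
      rw [← rho_mul]; simp [g, mul_assoc]
    simp only [he]
    rw [Fintype.sum_bijective g (Finite.injective_iff_bijective.1 hg) _
      (fun c : B => ρ (c : G) (ρ (z ^ i) v)) (fun _ => rfl)]
    exact hB0 _ (hSzi i v hv)
  · intro h; exact absurd (Finset.mem_range.2 hr) h

/-- Kernel of a Frobenius group with complement fixing a line acts as an abelian group. -/
theorem kernel_commutes (hk : (Nat.card G : k) ≠ 0) (F : Subgroup G) [Group.IsNilpotent F] (z : G) (r : ℕ)
    (hr : 0 < r) (hz : z ^ r = 1) (hn : ∀ b ∈ F, z * b * z⁻¹ ∈ F)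
    (hfpf : ∀ b ∈ F, ∀ i, 0 < i → i < r → Commute b (z ^ i) → b = 1)
    (l : V) (hl : ρ z l = l) (hline : ∀ v, ρ z v = v → ∃ c : k, v = c • l) :
    ∀ f ∈ F, ∀ g ∈ F, ρ f * ρ g = ρ g * ρ f := by
  classical
  by_cases htriv : ∀ f ∈ F, ρ f = 1
  · intro f hf g hg; rw [htriv f hf, htriv g hg]
  let ρu : G →* (Module.End k V)ˣ := ρ.toHomUnits
  haveI hnil : Group.IsNilpotent (F.map ρu) :=
    Group.nilpotent_of_surjective (ρu.subgroupMap F) (ρu.subgroupMap_surjective F)
  haveI : Nontrivial (F.map ρu) := by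
    rw [Subgroup.nontrivial_iff_ne_bot, Ne, Subgroup.map_eq_bot_iff]
    intro h
    exact htriv fun f hf => congrArg Units.val (MonoidHom.mem_ker.1 (h hf))
  haveI : Nontrivial (Subgroup.center (F.map ρu)) :=
    (Subgroup.nontrivial_iff_ne_bot _).2 (Group.IsNilpotent.center_ne_bot _)
  obtain ⟨⟨c, hcm⟩, hcne⟩ := exists_ne (1 : Subgroup.center (F.map ρu))
  obtain ⟨a0, ha0, ha0c⟩ := c.2
  let A : Subgroup G :=
    { carrier := {a | a ∈ F ∧ ∀ f ∈ F, ρ a * ρ f = ρ f * ρ a}
      one_mem' := ⟨F.one_mem, fun f _ => by simp⟩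
      mul_mem' := fun {a b} ha hb => ⟨F.mul_mem ha.1 hb.1, fun f hf => by
        rw [map_mul, mul_assoc, hb.2 f hf, ← mul_assoc, ha.2 f hf, mul_assoc]⟩
      inv_mem' := fun {a} ha => ⟨F.inv_mem ha.1, fun f hf => by
        have h := ha.2 f hf
        have h1 : ρ a⁻¹ * ρ a = 1 := by rw [← map_mul, inv_mul_cancel, map_one]
        have h2 : ρ a * ρ a⁻¹ = 1 := by rw [← map_mul, mul_inv_cancel, map_one]
        calc ρ a⁻¹ * ρ f = ρ a⁻¹ * (ρ f * ρ a) * ρ a⁻¹ := by
              rw [mul_assoc (ρ a⁻¹), mul_assoc (ρ f), h2, mul_one]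
          _ = ρ f * ρ a⁻¹ := by
              rw [← h, ← mul_assoc, h1, one_mul]⟩ }
  have hA0 : a0 ∈ A := ⟨ha0, fun f hf => by
    have h := congrArg (fun x : F.map ρu => ((x : (Module.End k V)ˣ) : Module.End k V))
      (Subgroup.mem_center_iff.1 hcm ⟨ρu f, f, hf, rfl⟩)
    simp only [Subgroup.coe_mul, Units.val_mul, ← ha0c] at h
    exact h.symm⟩
  have hA0ne : ρ a0 ≠ 1 := fun h => hcne (Subtype.ext (Subtype.ext (Units.ext (by
    rw [← ha0c]; exact h))))
  have hAz : ∀ a ∈ A, z * a * z⁻¹ ∈ A := by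
    intro a ha
    refine ⟨hn a ha.1, fun f hf => ?_⟩
    have hf' : z⁻¹ * f * z ∈ F := by
      have hpi : ∀ i : ℕ, ∀ b ∈ F, z ^ i * b * (z ^ i)⁻¹ ∈ F := by
        intro i
        induction i with
        | zero => intro b hb; simpa using hb
        | succ i ih =>
          intro b hb
          have := hn _ (ih b hb)
          rw [pow_succ']; simpa [mul_assoc] using this
      have hzr : z ^ (r - 1) = z⁻¹ := eq_inv_of_mul_eq_one_left (by
        rw [← pow_succ, Nat.sub_add_cancel hr, hz])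
      have := hpi (r - 1) f hf
      rwa [hzr, inv_inv] at this
    have h := congrArg (fun T => ρ z * T * ρ z⁻¹) (ha.2 _ hf')
    simp only [← map_mul] at h ⊢
    simpa [mul_assoc] using h
  have hcomm : ∀ a ∈ A, ∀ f ∈ F, ∀ v, ρ a (ρ f v) = ρ f (ρ a v) := fun a ha f hf v => by
    rw [← Module.End.mul_apply, ha.2 f hf, Module.End.mul_apply]
  haveI := Fintype.ofFinite A
  let e : Module.End k V := ∑ a : A, ρ (a : G)
  have he : ∀ v, e v = ∑ a : A, ρ (a : G) v := fun v => by simp [e, LinearMap.sum_apply]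
  have heA : ∀ a ∈ A, ∀ v, ρ a (e v) = e v := fun a ha v => by
    rw [he, map_sum]
    exact Fintype.sum_equiv (Equiv.mulLeft (⟨a, ha⟩ : A)) _ _ fun b => by simp
  have heF : ∀ f ∈ F, ∀ v, e (ρ f v) = ρ f (e v) := fun f hf v => by
    rw [he, he, map_sum]; exact Finset.sum_congr rfl fun a _ => hcomm a a.2 f hf v
  have hez : ∀ v, e (ρ z v) = ρ z (e v) := by
    intro v
    let m : A → A := fun a => ⟨z * (a : G) * z⁻¹, hAz a a.2⟩
    have hm : Function.Injective m := fun a b h => Subtype.ext (by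
      simpa [m] using congrArg Subtype.val h)
    rw [he, he, map_sum]
    refine (Fintype.sum_bijective m (Finite.injective_iff_bijective.1 hm) _ _ fun a => ?_).symm
    rw [← rho_mul, ← rho_mul]; simp [m, mul_assoc, -map_mul]
  have hnA : (Nat.card A : k) ≠ 0 := card_ne_zero hk A
  have hee : ∀ v, (∀ a ∈ A, ρ a v = v) → e v = (Nat.card A : k) • v := fun v hv => by
    rw [he, Finset.sum_congr rfl (fun (a : A) _ => hv a a.2), Finset.sum_const, Finset.card_univ,
      ← Nat.card_eq_fintype_card, Nat.cast_smul_eq_nsmul]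
  let U : Submodule k V := LinearMap.ker e
  have hUF : ∀ f ∈ F, ∀ v ∈ U, ρ f v ∈ U := fun f hf v hv => by
    rw [LinearMap.mem_ker] at hv ⊢; rw [heF f hf, hv, map_zero]
  have hUz : ∀ v ∈ U, ρ z v ∈ U := fun v hv => by
    rw [LinearMap.mem_ker] at hv ⊢; rw [hez, hv, map_zero]
  have hUA : ∀ v ∈ U, (∀ a ∈ A, ρ a v = v) → v = 0 := fun v hv hf => by
    rw [LinearMap.mem_ker, hee v hf] at hv
    exact (smul_eq_zero.1 hv).resolve_left hnA
  have hsplit : ∀ v, v - (Nat.card A : k)⁻¹ • e v ∈ U := fun v => by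
    rw [LinearMap.mem_ker, map_sub, map_smul, hee (e v) (fun a ha => heA a ha v), smul_smul,
      inv_mul_cancel₀ hnA, one_smul, sub_self]
  have hAfpf : ∀ b ∈ A, ∀ i, 0 < i → i < r → Commute b (z ^ i) → b = 1 := fun b hb => hfpf b hb.1
  -- the fixed line lies in U
  have hel : e l = 0 := by
    by_contra hne
    obtain ⟨c, hc⟩ := hline (e l) (by rw [← hez, hl])
    have hc0 : c ≠ 0 := fun h => hne (by rw [hc, h, zero_smul])
    have hlA : ∀ a ∈ A, ρ a l = l := fun a ha => by
      have h := heA a ha l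
      rw [hc, map_smul] at h
      exact smul_right_injective V hc0 h
    have hU : U = ⊥ := frob_zero ρ hk A z r hr hz hAz hAfpf U (fun b hb => hUF b hb.1) hUz hUA
      fun v hv hfix => by
        obtain ⟨d, rfl⟩ := hline v hfix
        exact hUA _ hv fun a ha => by rw [map_smul, hlA a ha]
    refine hA0ne (LinearMap.ext fun v => ?_)
    have hv := hsplit v
    rw [hU, Submodule.mem_bot, sub_eq_zero] at hv
    rw [Module.End.one_apply, hv, map_smul, heA a0 hA0]
  -- the kernel fixes the fixed space of A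
  have hV0 : ∀ f ∈ F, ∀ v, (∀ a ∈ A, ρ a v = v) → ρ f v = v := by
    haveI := Fintype.ofFinite F
    let eF : Module.End k V := ∑ b : F, ρ (b : G)
    have heF' : ∀ v, eF v = ∑ b : F, ρ (b : G) v := fun v => by simp [eF, LinearMap.sum_apply]
    let S : Submodule k V := LinearMap.ker eF ⊓ ⨅ a : A, LinearMap.eqLocus (ρ (a : G)) 1
    have hmemS : ∀ v, v ∈ S ↔ eF v = 0 ∧ ∀ a ∈ A, ρ a v = v := fun v => by
      simp [S, Submodule.mem_iInf, LinearMap.mem_eqLocus]
    have heFl : ∀ f ∈ F, ∀ v, ρ f (eF v) = eF v := fun f hf v => by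
      rw [heF', map_sum]
      exact Fintype.sum_equiv (Equiv.mulLeft (⟨f, hf⟩ : F)) _ _ fun b => by simp
    have heFr : ∀ f ∈ F, ∀ v, eF (ρ f v) = eF v := fun f hf v => by
      rw [heF', heF']
      exact Fintype.sum_equiv (Equiv.mulRight (⟨f, hf⟩ : F)) _ _ fun b => by simp
    have heFz : ∀ v, eF (ρ z v) = ρ z (eF v) := by
      intro v
      let m : F → F := fun a => ⟨z * (a : G) * z⁻¹, hn a a.2⟩
      have hm : Function.Injective m := fun a b h => Subtype.ext (by
        simpa [m] using congrArg Subtype.val h)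
      rw [heF', heF', map_sum]
      refine (Fintype.sum_bijective m (Finite.injective_iff_bijective.1 hm) _ _ fun a => ?_).symm
      rw [← rho_mul, ← rho_mul]; simp [m, mul_assoc, -map_mul]
    have hzA : ∀ a ∈ A, ∃ a' ∈ A, a * z = z * a' := by
      intro a ha
      let m : A → A := fun a => ⟨z * (a : G) * z⁻¹, hAz a a.2⟩
      have hm : Function.Injective m := fun a b h => Subtype.ext (by
        simpa [m] using congrArg Subtype.val h)
      obtain ⟨b, hb⟩ := (Finite.injective_iff_bijective.1 hm).2 ⟨a, ha⟩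
      refine ⟨b, b.2, ?_⟩
      have : z * (b : G) * z⁻¹ = a := congrArg Subtype.val hb
      rw [← this]; group
    have hnF : (Nat.card F : k) ≠ 0 := card_ne_zero hk F
    have hSbot : S = ⊥ := by
      refine frob_zero ρ hk F z r hr hz hn hfpf S ?_ ?_ ?_ ?_
      · intro f hf v hv
        rw [hmemS] at hv ⊢
        exact ⟨by rw [heFr f hf, hv.1], fun a ha => by rw [hcomm a ha f hf, hv.2 a ha]⟩
      · intro v hv
        rw [hmemS] at hv ⊢
        refine ⟨by rw [heFz, hv.1, map_zero], fun a ha => ?_⟩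
        obtain ⟨a', ha', hh⟩ := hzA a ha
        rw [← rho_mul, hh, rho_mul, hv.2 a' ha']
      · intro v hv hf
        rw [hmemS] at hv
        have h := hv.1
        rw [heF', Finset.sum_congr rfl (fun (a : F) _ => hf a a.2), Finset.sum_const,
          Finset.card_univ, ← Nat.card_eq_fintype_card, ← Nat.cast_smul_eq_nsmul k] at h
        exact (smul_eq_zero.1 h).resolve_left hnF
      · intro v hv hfix
        rw [hmemS] at hv
        obtain ⟨d, rfl⟩ := hline v hfix
        have h := hee _ hv.2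
        rw [map_smul, hel, smul_zero] at h
        exact (smul_eq_zero.1 h.symm).resolve_left hnA
    intro f hf v hv
    have hmem : v - (Nat.card F : k)⁻¹ • eF v ∈ S := by
      rw [hmemS]
      refine ⟨?_, fun a ha => ?_⟩
      · have : eF (eF v) = (Nat.card F : k) • eF v := by
          rw [heF' (eF v), Finset.sum_congr rfl (fun (a : F) _ => heFl a a.2 v), Finset.sum_const,
            Finset.card_univ, ← Nat.card_eq_fintype_card, Nat.cast_smul_eq_nsmul]
        rw [map_sub, map_smul, this, smul_smul, inv_mul_cancel₀ hnF, one_smul, sub_self]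
      · rw [map_sub, map_smul, hv a ha, heFl a ha.1]
    rw [hSbot, Submodule.mem_bot, sub_eq_zero] at hmem
    rw [hmem, map_smul, heFl f hf]
  -- the orbit of the line spans U
  let M : Submodule k V := Submodule.span k (Set.range fun a : A => ρ (a : G) l)
  have hlU : l ∈ U := LinearMap.mem_ker.2 hel
  have hlM : l ∈ M := Submodule.subset_span ⟨1, by simp⟩
  let H : Subgroup G :=
    { carrier := {h | (∀ v ∈ M, ρ h v ∈ M) ∧ (∀ v ∈ M, ρ h⁻¹ v ∈ M)}
      one_mem' := ⟨fun v hv => by simpa using hv, fun v hv => by simpa using hv⟩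
      mul_mem' := fun {a b} ha hb => ⟨fun v hv => by rw [rho_mul]; exact ha.1 _ (hb.1 v hv),
        fun v hv => by rw [mul_inv_rev, rho_mul]; exact hb.2 _ (ha.2 v hv)⟩
      inv_mem' := fun {a} ha => ⟨ha.2, by simpa using ha.1⟩ }
  have hinvM : ∀ h : G, (∀ v ∈ M, ρ h v ∈ M) → h ∈ H := by
    intro h hh
    refine ⟨hh, ?_⟩
    have hp : ∀ n : ℕ, ∀ v ∈ M, ρ (h ^ n) v ∈ M := by
      intro n
      induction n with
      | zero => intro v hv; simpa using hv
      | succ n ih => intro v hv; rw [pow_succ', rho_mul]; exact hh _ (ih v hv)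
    have : h⁻¹ = h ^ (orderOf h - 1) := (eq_inv_of_mul_eq_one_left (by
      rw [← pow_succ, Nat.sub_add_cancel (orderOf_pos h), pow_orderOf_eq_one])).symm
    rw [this]; exact hp _
  have hAH : ∀ a ∈ A, a ∈ H := fun a ha => hinvM a fun v hv => by
    induction hv using Submodule.span_induction with
    | mem x hx =>
      obtain ⟨b, rfl⟩ := hx
      exact Submodule.subset_span ⟨⟨a, ha⟩ * b, by simp⟩
    | zero => simp
    | add x y _ _ hx hy => rw [map_add]; exact M.add_mem hx hy
    | smul c x _ hx => rw [map_smul]; exact M.smul_mem c hx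
  have hzH : z ∈ H := hinvM z fun v hv => by
    induction hv using Submodule.span_induction with
    | mem x hx =>
      obtain ⟨b, rfl⟩ := hx
      exact Submodule.subset_span ⟨⟨z * (b : G) * z⁻¹, hAz b b.2⟩, by
        show ρ (z * (b : G) * z⁻¹) l = ρ z (ρ (b : G) l)
        conv_lhs => rw [← hl]
        rw [← rho_mul, ← rho_mul]; simp [mul_assoc]⟩
    | zero => simp
    | add x y _ _ hx hy => rw [map_add]; exact M.add_mem hx hy
    | smul c x _ hx => rw [map_smul]; exact M.smul_mem c hx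
  obtain ⟨Q, hQ⟩ := Submodule.exists_isCompl M
  let π : Module.End k V := M.subtype ∘ₗ M.projectionOnto Q hQ
  haveI := Fintype.ofFinite H
  let P : Module.End k V := (Nat.card H : k)⁻¹ • ∑ h : H, ρ (h : G) * π * ρ (h : G)⁻¹
  have hP : ∀ v, P v = (Nat.card H : k)⁻¹ • ∑ h : H, ρ (h : G) (π (ρ (h : G)⁻¹ v)) := fun v => by
    simp [P, LinearMap.sum_apply, LinearMap.smul_apply]
  have hPH : ∀ g ∈ H, ∀ v, P (ρ g v) = ρ g (P v) := fun g hg v => by
    rw [hP, hP, map_smul, map_sum]
    congr 1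
    exact (Fintype.sum_equiv (Equiv.mulLeft (⟨g, hg⟩ : H)) _ _ fun h => by
      rw [← rho_mul, ← rho_mul]; simp [mul_assoc, -map_mul]).symm
  have hPM : ∀ v, P v ∈ M := fun v => by
    rw [hP]
    exact M.smul_mem _ (M.sum_mem fun h _ => h.2.1 _ (Submodule.coe_mem _))
  have hPid : ∀ v ∈ M, P v = v := fun v hv => by
    have : ∀ h : H, ρ (h : G) (π (ρ (h : G)⁻¹ v)) = v := fun h => by
      have h1 : π (ρ (h : G)⁻¹ v) = ρ (h : G)⁻¹ v := by
        exact congrArg Subtype.val (Submodule.projectionOnto_apply_left hQ ⟨_, h.2.2 v hv⟩)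
      rw [h1, ← rho_mul, mul_inv_cancel, map_one, Module.End.one_apply]
    rw [hP, Finset.sum_congr rfl (fun h _ => this h), Finset.sum_const, Finset.card_univ,
      ← Nat.card_eq_fintype_card, ← Nat.cast_smul_eq_nsmul k, smul_smul,
      inv_mul_cancel₀ (card_ne_zero hk H), one_smul]
  have hMU : M ≤ U := Submodule.span_le.2 (by rintro _ ⟨a, rfl⟩; exact hUF _ a.2.1 _ hlU)
  have hUM : U ≤ M := by
    have hS : U ⊓ LinearMap.ker P = ⊥ := by
      refine frob_zero ρ hk A z r hr hz hAz hAfpf _ ?_ ?_ ?_ ?_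
      · intro a ha v hv
        exact ⟨hUF a ha.1 v hv.1, by
          show P (ρ a v) = 0
          rw [hPH a (hAH a ha), LinearMap.mem_ker.1 hv.2, map_zero]⟩
      · intro v hv
        exact ⟨hUz v hv.1, by
          show P (ρ z v) = 0
          rw [hPH z hzH, LinearMap.mem_ker.1 hv.2, map_zero]⟩
      · exact fun v hv => hUA v hv.1
      · intro v hv hfix
        obtain ⟨d, rfl⟩ := hline v hfix
        have h := LinearMap.mem_ker.1 hv.2
        rwa [hPid _ (M.smul_mem d hlM)] at h
    intro u hu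
    have hm : u - P u ∈ U ⊓ LinearMap.ker P :=
      ⟨U.sub_mem hu (hMU (hPM u)), by
        show P (u - P u) = 0
        rw [map_sub, hPid _ (hPM u), sub_self]⟩
    rw [hS, Submodule.mem_bot, sub_eq_zero] at hm
    rw [hm]; exact hPM u
  -- each kernel element agrees with an element of the centralizer algebra
  have hE : ∀ v ∈ M, ∃ E : Module.End k V, E l = v ∧ ∀ f ∈ F, E * ρ f = ρ f * E := by
    intro v hv
    induction hv using Submodule.span_induction with
    | mem x hx => obtain ⟨a, rfl⟩ := hx; exact ⟨ρ (a : G), rfl, a.2.2⟩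
    | zero => exact ⟨0, rfl, fun f _ => by simp⟩
    | add x y _ _ hx hy =>
      obtain ⟨E, hE, hE'⟩ := hx; obtain ⟨E₂, hE₂, hE₂'⟩ := hy
      exact ⟨E + E₂, by simp [hE, hE₂], fun f hf => by rw [add_mul, mul_add, hE' f hf, hE₂' f hf]⟩
    | smul c x _ hx =>
      obtain ⟨E, hE, hE'⟩ := hx
      exact ⟨c • E, by simp [hE], fun f hf => by rw [smul_mul_assoc, mul_smul_comm, hE' f hf]⟩
  intro f hf g hg
  obtain ⟨E, hEl, hEc⟩ := hE (ρ f l) (hUM (hUF f hf l hlU))
  have hagree : ∀ u ∈ M, ρ f u = E u := by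
    intro u hu
    induction hu using Submodule.span_induction with
    | mem x hx =>
      obtain ⟨a, rfl⟩ := hx
      have h1 := LinearMap.congr_fun (hEc a a.2.1) l
      rw [Module.End.mul_apply, Module.End.mul_apply, hEl] at h1
      rw [← hcomm a a.2 f hf l, ← h1]
    | zero => simp
    | add x y _ _ hx hy => rw [map_add, map_add, hx, hy]
    | smul c x _ hx => rw [map_smul, map_smul, hx]
  refine LinearMap.ext fun v => ?_
  rw [Module.End.mul_apply, Module.End.mul_apply]
  obtain ⟨u, hu, w, hw, rfl⟩ : ∃ u ∈ U, ∃ w, (∀ a ∈ A, ρ a w = w) ∧ v = u + w :=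
    ⟨_, hsplit v, _, fun a ha => by rw [map_smul, heA a ha], (sub_add_cancel v ((Nat.card A : k)⁻¹ • e v)).symm⟩
  have hu' : ρ f (ρ g u) = ρ g (ρ f u) := by
    have h1 := LinearMap.congr_fun (hEc g hg) u
    rw [Module.End.mul_apply, Module.End.mul_apply] at h1
    rw [hagree _ (hUM (hUF g hg u hu)), hagree _ (hUM hu), h1]
  have hw' : ρ f (ρ g w) = ρ g (ρ f w) := by
    rw [hV0 g hg w hw, hV0 f hf w hw, hV0 g hg w hw]
  simp only [map_add, hu', hw']

end Core

/-- The linear representation of an action by automorphisms on an exponent `n` abelian group. -/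
def linRep (n : ℕ) {H W : Type*} [Group H] [CommGroup W] [Module (ZMod n) (Additive W)]
    (φ : H →* MulAut W) : H →* Module.End (ZMod n) (Additive W) where
  toFun g := AddMonoidHom.toZModLinearMap n (MonoidHom.toAdditive (φ g).toMonoidHom)
  map_one' := LinearMap.ext fun v => by simp
  map_mul' a b := LinearMap.ext fun v => by simp

theorem linRep_apply (n : ℕ) {H W : Type*} [Group H] [CommGroup W] [Module (ZMod n) (Additive W)]
    (φ : H →* MulAut W) (g : H) (v : Additive W) :
    Additive.toMul (linRep n φ g v) = φ g (Additive.toMul v) := rfl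


theorem kernel_commutes_mul {ℓ : ℕ} [Fact ℓ.Prime] {H W : Type*} [Group H] [Finite H] [CommGroup W]
    (hexp : ∀ w : W, w ^ ℓ = 1) (φ : H →* MulAut W) (hH : ¬ ℓ ∣ Nat.card H) (F : Subgroup H)
    [Group.IsNilpotent F] (z : H) (r : ℕ) (hr : 0 < r) (hz : z ^ r = 1) (hn : ∀ b ∈ F, z * b * z⁻¹ ∈ F)
    (hfpf : ∀ b ∈ F, ∀ i, 0 < i → i < r → Commute b (z ^ i) → b = 1) (l : W) (hl : φ z l = l)
    (hline : ∀ v, φ z v = v → ∃ n : ℤ, v = l ^ n) :
    ∀ f ∈ F, ∀ g ∈ F, ∀ v, φ f (φ g v) = φ g (φ f v) := by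
  letI : Module (ZMod ℓ) (Additive W) :=
    AddCommGroup.zmodModule (fun x => Additive.toMul.injective (by simpa using hexp (Additive.toMul x)))
  intro f hf g hg v
  have hk : (Nat.card H : ZMod ℓ) ≠ 0 := by rw [Ne, ZMod.natCast_eq_zero_iff]; exact hH
  have h := kernel_commutes (linRep ℓ φ) hk F z r hr hz hn hfpf (Additive.ofMul l)
    (Additive.toMul.injective (by rw [linRep_apply]; exact hl)) (fun w hw => by
      have hw' : φ z (Additive.toMul w) = Additive.toMul w := by
        rw [← linRep_apply ℓ φ z w, hw]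
      obtain ⟨n, hn⟩ := hline _ hw'
      refine ⟨(n : ZMod ℓ), Additive.toMul.injective ?_⟩
      rw [Int.cast_smul_eq_zsmul, toMul_zsmul, toMul_ofMul, hn]) f hf g hg
  have := congrArg Additive.toMul (LinearMap.congr_fun h (Additive.ofMul v))
  simpa [linRep_apply] using this

/-- Let G and V be subgroups of a finite group with G a Frobenius group with complement R of prime order and kernel K, G normalizing V, and V an elementary abelian ℓ-group for a prime ℓ not dividing the order of G. If C_V(R) has order ℓ, then the derived subgroup of K centralizes V. -/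
theorem result {X : Type*} [Group X] [Finite X] (G : Subgroup X) (V : Subgroup X) {ℓ : ℕ} (hℓ : ℓ.Prime) (hV : Cfsg.IsElementaryAbelian ℓ V) (hℓG : ¬ ℓ ∣ Nat.card G) (hGV : G ≤ Subgroup.normalizer (V : Set X)) (R : Subgroup ↥G) (hR : Cfsg.IsFrobeniusComplement R) (hRp : (Nat.card R).Prime) (hCV : Nat.card ↥(V ⊓ Subgroup.centralizer ((R.map G.subtype : Subgroup X) : Set X)) = ℓ) : ⁅Subgroup.closure (Subtype.val '' Cfsg.frobeniusKernel R), Subgroup.closure (Subtype.val '' Cfsg.frobeniusKernel R)⁆ ≤ Subgroup.centralizer (V : Set X) := by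
  classical
  haveI := Fact.mk hℓ
  haveI := Fact.mk hRp
  obtain ⟨N, hNset, hNn, hc⟩ := CfsgLib.FrobCompl.exists_kernel_complement hR
  haveI := hNn
  haveI := CfsgLib.FrobCompl.kernel_isNilpotent hR hNn hc
  obtain ⟨hVc, hVe⟩ := hV
  letI : CommGroup V := { (inferInstance : Group V) with mul_comm := hVc.is_comm.comm }
  let φ : ↥G →* MulAut V :=
    { toFun := fun g =>
        { toFun := fun v => ⟨(g : X) * v * (g : X)⁻¹, (Subgroup.mem_normalizer_iff.1 (hGV g.2) v).1 v.2⟩
          invFun := fun v => ⟨(g : X)⁻¹ * v * (g : X),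
            (Subgroup.mem_normalizer_iff.1 (hGV g.2) _).2 (by simpa [mul_assoc] using v.2)⟩
          left_inv := fun v => Subtype.ext (by simp [mul_assoc])
          right_inv := fun v => Subtype.ext (by simp [mul_assoc])
          map_mul' := fun a b => Subtype.ext (by simp [mul_assoc]) }
      map_one' := MulEquiv.ext fun v => Subtype.ext (by simp)
      map_mul' := fun a b => MulEquiv.ext fun v => Subtype.ext (by simp [mul_assoc]) }
  have hρ : ∀ (g : ↥G) (v : V), ((φ g v : V) : X) = (g : X) * (v : X) * (g : X)⁻¹ := fun g v => rfl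
  obtain ⟨z0, hz0⟩ := exists_prime_orderOf_dvd_card' (Nat.card R) (G := R) dvd_rfl
  set z : ↥G := (z0 : ↥G) with hzdef
  have hord : orderOf z = Nat.card R := by rw [hzdef, Subgroup.orderOf_coe, hz0]
  have hz1 : z0 ≠ 1 := fun h => hRp.ne_one (by rw [← hz0, h, orderOf_one])
  set W : Subgroup X := V ⊓ Subgroup.centralizer ((R.map G.subtype : Subgroup X) : Set X) with hW
  have hWz : ∀ v : V, (v : X) ∈ W ↔ φ z v = v := by
    intro v
    constructor
    · intro hv
      apply Subtype.ext
      rw [hρ]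
      have h := (Subgroup.mem_centralizer_iff.1 hv.2) (z : X) ⟨z, z0.2, rfl⟩
      rw [h]; group
    · intro hv
      refine Subgroup.mem_inf.2 ⟨v.2, ?_⟩
      rw [Subgroup.mem_centralizer_iff]
      rintro _ ⟨x, hx, rfl⟩
      obtain ⟨n, hn⟩ := Subgroup.mem_zpowers_iff.1
        (mem_zpowers_of_prime_card (p := Nat.card R) rfl hz1 (g' := (⟨x, hx⟩ : R)))
      have hxz : x = z ^ n := by
        have := congrArg Subtype.val hn
        simpa using this.symm
      have hcm : Commute (z : X) (v : X) := by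
        have h := congrArg (fun w : V => (w : X)) hv
        simp only [hρ] at h
        exact mul_inv_eq_iff_eq_mul.1 h
      show (G.subtype x) * v = v * (G.subtype x)
      rw [hxz, map_zpow]
      exact (hcm.zpow_left n).eq
  obtain ⟨w, hw⟩ := exists_prime_orderOf_dvd_card' ℓ (G := W) (by rw [hCV])
  have hw1 : w ≠ 1 := fun h => hℓ.ne_one (by rw [← hw, h, orderOf_one])
  let l : V := ⟨w, w.2.1⟩
  have hline : ∀ v, φ z v = v → ∃ n : ℤ, v = l ^ n := by
    intro v hv
    obtain ⟨n, hn⟩ := Subgroup.mem_zpowers_iff.1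
      (mem_zpowers_of_prime_card hCV hw1 (g' := (⟨_, (hWz _).2 hv⟩ : W)))
    refine ⟨n, Subtype.ext ?_⟩
    have := congrArg Subtype.val hn
    simp only [SubgroupClass.coe_zpow] at this ⊢
    exact this.symm
  have hkey := kernel_commutes_mul (ℓ := ℓ) (fun w => Subtype.ext (by simpa using hVe _ w.2)) φ hℓG N z
    (Nat.card R) hRp.pos (by rw [← hord, pow_orderOf_eq_one])
    (fun b hb => hNn.conj_mem b hb z) (fun b hb i hi0 hir hcm => by
      have hzi : z ^ i ≠ 1 := fun h => by
        have := Nat.le_of_dvd hi0 (orderOf_dvd_of_pow_eq_one h)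
        omega
      have hbR : b ∈ R := CfsgLib.FrobCompl.mem_of_commute hR (R.pow_mem z0.2 i) hzi hcm.eq
      have : b ∈ N ⊓ R := ⟨hb, hbR⟩
      rwa [hc.disjoint.eq_bot, Subgroup.mem_bot] at this)
    l ((hWz l).1 w.2) hline
  have hclosure : Subgroup.closure (Subtype.val '' frobeniusKernel R) = N.map G.subtype := by
    rw [← hNset, ← Subgroup.coe_subtype, ← Subgroup.coe_map, Subgroup.closure_eq]
  rw [hclosure, Subgroup.commutator_le]
  rintro _ ⟨a, ha, rfl⟩ _ ⟨b, hb, rfl⟩
  rw [← map_commutatorElement, Subgroup.mem_centralizer_iff]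
  intro v hv
  have h1 : φ ⁅a, b⁆ = 1 := by
    have hab : φ a * φ b = φ b * φ a := MulEquiv.ext fun v => hkey a ha b hb v
    rw [commutatorElement_def, map_mul, map_mul, map_mul, map_inv, map_inv, hab]
    group
  have h := congrArg (fun T : MulAut V => ((T ⟨v, hv⟩ : V) : X)) h1
  simp only [hρ, MulAut.one_apply] at h
  exact (mul_inv_eq_iff_eq_mul.1 h).symm

end Cfsg.Agent.S3770
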