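import Cfsg.Statements.S3772
import Cfsg.Agent.Lib.OddOmega.Basic
import Cfsg.Agent.Lib.Critical.Basic

set_option autoImplicit false
set_option linter.style.haveILetI false
open Cfsg

namespace Cfsg.Agent.S3772

open scoped commutatorElement

/-- Let G be a finite 2-group whose Frattini subgroup Φ(G) has order 2, with |G : Φ(G)| = 2^d, and let j be the number of elements x of G with x² = 1. Then j = 2^d, or j = 2^d + 2^(d−r) or j = 2^d − 2^(d−r) for some positive integer r with 2r ≤ d. Moreover if d = 2r and j is 2^d + 2^r or 2^d − 2^r, then G is extraspecial. -/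
theorem result {G : Type*} [Group G] [Finite G] (hG : IsPGroup 2 G) (hΦ : Nat.card (frattini G) = 2) (d : ℕ) (hd : (frattini G).index = 2 ^ d) : (Nat.card {x : G // x ^ 2 = 1} = 2 ^ d ∨ ∃ r : ℕ, 1 ≤ r ∧ 2 * r ≤ d ∧ (Nat.card {x : G // x ^ 2 = 1} = 2 ^ d + 2 ^ (d - r) ∨ Nat.card {x : G // x ^ 2 = 1} + 2 ^ (d - r) = 2 ^ d)) ∧ (∀ r : ℕ, d = 2 * r → (Nat.card {x : G // x ^ 2 = 1} = 2 ^ d + 2 ^ r ∨ Nat.card {x : G // x ^ 2 = 1} + 2 ^ r = 2 ^ d) → Cfsg.IsExtraspecial 2 G) := by
  classical
  haveI := Fintype.ofFinite G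
  haveI : Fact (Nat.Prime 2) := ⟨Nat.prime_two⟩
  set F := frattini G with hF
  obtain ⟨z, hz, hzF⟩ : ∃ z : G, z ≠ 1 ∧ ∀ u, u ∈ F → u = 1 ∨ u = z := by
    obtain ⟨x, y, hxy, huniv⟩ := Nat.card_eq_two_iff.mp hΦ
    have hall : ∀ u : F, u = x ∨ u = y := fun u => by
      have : u ∈ ({x, y} : Set F) := huniv ▸ Set.mem_univ u
      simpa using this
    by_cases hx : (x : G) = 1
    · refine ⟨y, fun e => hxy (Subtype.ext (hx.trans e.symm)), fun u hu => ?_⟩
      rcases hall ⟨u, hu⟩ with e | e
      · exact Or.inl ((congrArg Subtype.val e).trans hx)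
      · exact Or.inr (congrArg Subtype.val e)
    · refine ⟨x, hx, fun u hu => ?_⟩
      rcases hall ⟨u, hu⟩ with e | e
      · exact Or.inr (congrArg Subtype.val e)
      · rcases hall ⟨1, F.one_mem⟩ with e' | e'
        · exact absurd (congrArg Subtype.val e').symm hx
        · exact Or.inl ((congrArg Subtype.val e).trans (congrArg Subtype.val e').symm)
  haveI : F.Normal := inferInstance
  have hsq : ∀ x : G, x * x ∈ F := fun x => by
    have := CfsgLib.OddOmega.pow_mem_frattini hG x
    rwa [pow_two] at this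
  have hcen : ∀ u ∈ F, ∀ x : G, x * u = u * x := fun u hu x => by
    rcases hzF u hu with rfl | rfl
    · simp
    rcases hzF _ (Subgroup.Normal.conj_mem inferInstance u hu x) with h | h
    · exact absurd (conj_eq_one_iff.mp h) hz
    · exact mul_inv_eq_iff_eq_mul.mp h
  let c : G → G → G := fun x g => x⁻¹ * g * x * g⁻¹
  have hc : ∀ x g, c x g ∈ F := fun x g => by
    rw [← QuotientGroup.eq_one_iff]
    have h2 : ∀ w : G ⧸ F, w * w = 1 := fun w => by
      obtain ⟨w, rfl⟩ := QuotientGroup.mk_surjective w
      rw [← QuotientGroup.mk_mul, QuotientGroup.eq_one_iff]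
      exact hsq w
    have hinv : ∀ w : G ⧸ F, w⁻¹ = w := fun w => inv_eq_of_mul_eq_one_right (h2 w)
    have hcomm : ∀ a b : G ⧸ F, a * b = b * a := fun a b => by
      rw [← hinv (a * b), mul_inv_rev, hinv, hinv]
    simp only [c, QuotientGroup.mk_mul, QuotientGroup.mk_inv]
    rw [mul_assoc ((x : G ⧸ F))⁻¹, hcomm (g : G ⧸ F) x, inv_mul_cancel_left, mul_inv_cancel]
  let σ : G → ℤ := fun u => if u = 1 then 1 else -1
  have hσ : ∀ u ∈ F, ∀ v ∈ F, σ (u * v) = σ u * σ v := fun u hu v hv => by
    have hzz : ∀ w : G, w ∈ F → w = z → z * z = 1 := fun w hw e => by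
      rcases hzF _ (F.mul_mem (e ▸ hw) (e ▸ hw)) with h | h
      · exact h
      · exact absurd (mul_eq_left.mp h) hz
    rcases hzF u hu with rfl | rfl <;> rcases hzF v hv with rfl | rfl
    · simp [σ]
    · simp [σ, hz]
    · simp [σ, hz]
    · simp [σ, hz, hzz _ hu rfl]
  let s : G → ℤ := fun x => σ (x * x)
  have hs1 : ∀ x, s x * s x = 1 := fun x => by simp only [s, σ]; split_ifs <;> rfl
  have hmul : ∀ x g, s x * s (x * g) = σ (c x g) * s g := by
    intro x g
    have e : x * g * (x * g) = x * x * (c x g * (g * g)) := by simp only [c]; group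
    simp only [s]
    rw [e, hσ _ (hsq x) _ (F.mul_mem (hc x g) (hsq g)), hσ _ (hc x g) _ (hsq g), ← mul_assoc]
    rw [show σ (x * x) * σ (x * x) = 1 from hs1 x, one_mul]
  have hchar : ∀ g, (∑ x : G, σ (c x g)) = if g ∈ Subgroup.center G then (Nat.card G : ℤ) else 0 := by
    intro g
    split_ifs with hg
    · have : ∀ x, c x g = 1 := fun x => by
        simp only [c]; rw [mul_assoc x⁻¹, ← Subgroup.mem_center_iff.mp hg x]; group
      simp [this, σ, Nat.card_eq_fintype_card]
    · obtain ⟨a, ha⟩ : ∃ a, c a g ≠ 1 := by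
        by_contra hcon
        push Not at hcon
        refine hg (Subgroup.mem_center_iff.mpr fun a => ?_)
        have := hcon a
        calc a * g = a * (c a g) * g := by rw [this, mul_one]
          _ = g * a := by simp only [c]; group
      have hadd : ∀ x, σ (c (a * x) g) = - σ (c x g) := fun x => by
        have e : c (a * x) g = c a g * c x g := by
          calc c (a * x) g = x⁻¹ * (c a g * g) * x * g⁻¹ := by simp only [c]; group
            _ = c a g * (x⁻¹ * g * x * g⁻¹) := by
              rw [← mul_assoc x⁻¹, hcen _ (hc a g) x⁻¹]; group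
        rw [e, hσ _ (hc a g) _ (hc x g), show σ (c a g) = -1 by simp [σ, ha]]
        ring
      have h2 : (∑ x : G, σ (c x g)) = - ∑ x : G, σ (c x g) := by
        conv_lhs => rw [← Equiv.sum_comp (Equiv.mulLeft a) (fun x => σ (c x g))]
        simp [hadd, Finset.sum_neg_distrib]
      omega
  set T : ℤ := ∑ x : G, s x with hT
  have hT2 : T * T = (Nat.card G : ℤ) * ∑ g ∈ Finset.univ.filter (· ∈ Subgroup.center G), s g := by
    calc T * T = ∑ x : G, s x * ∑ y : G, s y := by rw [hT, Finset.sum_mul]
      _ = ∑ x : G, ∑ g : G, s x * s (x * g) := Finset.sum_congr rfl fun x _ => by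
          rw [← Equiv.sum_comp (Equiv.mulLeft x) s, Finset.mul_sum]; rfl
      _ = ∑ g : G, s g * ∑ x : G, σ (c x g) := by
          rw [Finset.sum_comm]
          exact Finset.sum_congr rfl fun g _ => by
            rw [Finset.mul_sum]; exact Finset.sum_congr rfl fun x _ => by rw [hmul, mul_comm]
      _ = _ := by
          rw [Finset.mul_sum, Finset.sum_filter]
          exact Finset.sum_congr rfl fun g _ => by
            rw [hchar]; split_ifs <;> ring
  -- the sum over the centre
  have hZ : (∑ g ∈ Finset.univ.filter (· ∈ Subgroup.center G), s g) = 0 ∨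
      (∑ g ∈ Finset.univ.filter (· ∈ Subgroup.center G), s g) = (Nat.card (Subgroup.center G) : ℤ) := by
    have hcard : (Finset.univ.filter (· ∈ Subgroup.center G)).card = Nat.card (Subgroup.center G) := by
      rw [Nat.card_eq_fintype_card, Fintype.card_subtype]
    by_cases hall : ∀ g ∈ Subgroup.center G, s g = 1
    · right
      rw [Finset.sum_congr rfl (g := fun _ => (1 : ℤ)) (fun g hg => hall g (Finset.mem_filter.mp hg).2)]
      simp [hcard]
    · left
      push Not at hall
      obtain ⟨a, ha, ha1⟩ := hall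
      have hma : ∀ g, s (a * g) = - s g := fun g => by
        have h0 := hmul a g
        have : c a g = 1 := by
          simp only [c]; rw [mul_assoc a⁻¹, Subgroup.mem_center_iff.mp ha g]; group
        rw [this, show σ 1 = 1 by simp [σ], one_mul] at h0
        have hsa : s a = -1 := by
          have := hs1 a
          rcases Int.mul_eq_one_iff_eq_one_or_neg_one.mp this with h | h
          · exact absurd h.1 ha1
          · exact h.1
        rw [hsa] at h0
        omega
      have h2 : (∑ g ∈ Finset.univ.filter (· ∈ Subgroup.center G), s g) =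
          - ∑ g ∈ Finset.univ.filter (· ∈ Subgroup.center G), s g := by
        conv_lhs => rw [← Finset.sum_equiv (s := Finset.univ.filter (· ∈ Subgroup.center G)) (Equiv.mulLeft a) (fun g => by
          simp [Subgroup.mul_mem_cancel_left _ ha]) (fun g _ => rfl) (f := fun g => s (a * g)) (g := s)]
        simp [hma, Finset.sum_neg_distrib]
      omega
  have hN : T = 2 * (Nat.card {x : G // x ^ 2 = 1} : ℤ) - (Nat.card G : ℤ) := by
    rw [hT, Nat.card_eq_fintype_card, Fintype.card_subtype, Nat.card_eq_fintype_card]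
    have e : ∀ x : G, s x = 2 * (if x ^ 2 = 1 then (1 : ℤ) else 0) - 1 := fun x => by
      simp only [s, σ, pow_two]; split_ifs <;> rfl
    simp [e, Finset.sum_sub_distrib, Finset.sum_ite, mul_comm]
  have hG2 : Nat.card G = 2 ^ (d + 1) := by
    rw [← F.index_mul_card, hd, hΦ, pow_succ]
  obtain ⟨k, hk⟩ := IsPGroup.iff_card.mp (hG.to_subgroup (Subgroup.center G))
  set N := Nat.card {x : G // x ^ 2 = 1} with hNdef
  have main : N = 2 ^ d ∨ ∃ j, 2 * j = d + 1 + k ∧ (T = 2 ^ j ∨ T = -(2 ^ j)) := by
    rcases hZ with h0 | h0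
    · left
      rw [h0, mul_zero] at hT2
      rw [mul_self_eq_zero.mp hT2, hG2, pow_succ] at hN
      push_cast at hN
      have : ((N : ℤ)) = ((2 ^ d : ℕ) : ℤ) := by push_cast; omega
      exact_mod_cast this
    · right
      rw [h0, hG2, hk] at hT2
      have habs : T.natAbs * T.natAbs = 2 ^ (d + 1 + k) := by
        rw [← Int.natAbs_mul, hT2]; push_cast
        rw [← pow_add]; simp [Int.natAbs_pow]
      obtain ⟨j, -, hj⟩ := (Nat.dvd_prime_pow Nat.prime_two).mp (Dvd.intro _ habs)
      rw [hj, ← pow_add] at habs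
      refine ⟨j, by have := Nat.pow_right_injective le_rfl habs; omega, ?_⟩
      rcases Int.natAbs_eq T with e | e
      · left; rw [e, hj]; push_cast; rfl
      · right; rw [e, hj]; push_cast; rfl
  have hk1 : 1 ≤ k := by
    rcases Nat.eq_zero_or_pos k with rfl | h
    · exfalso
      haveI : Nontrivial G := ⟨z, 1, hz⟩
      have := hG.center_nontrivial
      rw [pow_zero] at hk
      exact absurd hk (Finite.one_lt_card_iff_nontrivial.mpr this).ne'
    · exact h
  have hkd : k ≤ d + 1 := (Nat.pow_le_pow_iff_right one_lt_two).mp (hk ▸ hG2 ▸ Subgroup.card_le_card_group _)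
  have hsz : ∃ x : G, x * x ≠ 1 ∨ ∃ g, c x g ≠ 1 := by
    by_contra hcon
    push Not at hcon
    -- otherwise the group is elementary abelian and its Frattini subgroup trivial
    have h1 : ∀ x : G, x * x = 1 := fun x => (hcon x).1
    have : F = ⊥ := by
      refine le_bot_iff.mp (CfsgLib.Critical.frattini_le_of_elementary (p := 2) ⊥ ?_ (fun x => by
        rw [pow_two]; exact Subgroup.mem_bot.mpr (h1 x)))
      rw [commutator_eq_closure, Subgroup.closure_le]
      rintro _ ⟨a, b, rfl⟩
      have hinv : ∀ w : G, w⁻¹ = w := fun w => inv_eq_of_mul_eq_one_right (h1 w)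
      show ⁅a, b⁆ = 1
      rw [commutatorElement_def, hinv, hinv, mul_assoc, h1]
    rw [this, Subgroup.card_bot] at hΦ
    omega
  constructor
  · rcases main with h | ⟨j, hj, hTj⟩
    · exact Or.inl h
    right
    have hkd1 : k ≤ d := by
      by_contra hcon
      obtain ⟨x, hx⟩ := hsz
      have hZt : Subgroup.center G = ⊤ := Subgroup.eq_top_of_card_eq _ (by rw [hk, hG2]; congr 1; omega)
      rcases hx with hx | ⟨g, hg⟩
      · rw [show j = d + 1 by omega] at hTj
        have hlt : N < 2 ^ (d + 1) := by
          rw [← hG2, hNdef, Nat.card_eq_fintype_card, Nat.card_eq_fintype_card]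
          exact Fintype.card_subtype_lt (x := x) (by rwa [pow_two])
        have hpos : 0 < N := by
          rw [hNdef]; haveI : Nonempty {x : G // x ^ 2 = 1} := ⟨⟨1, one_pow 2⟩⟩
          exact Nat.card_pos
        rw [hG2] at hN
        push_cast at hN
        have hlt' : (N : ℤ) < 2 ^ (d + 1) := by exact_mod_cast hlt
        have hpos' : (0 : ℤ) < N := by exact_mod_cast hpos
        rcases hTj with e | e <;> rw [e] at hN <;> omega
      · apply hg
        have hgc : g ∈ Subgroup.center G := hZt ▸ Subgroup.mem_top g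
        simp only [c]; rw [mul_assoc x⁻¹, ← Subgroup.mem_center_iff.mp hgc x]; group
    refine ⟨d + 1 - j, by omega, by omega, ?_⟩
    rw [show d - (d + 1 - j) = j - 1 by omega]
    have e2 : (2 : ℤ) ^ j = 2 * 2 ^ (j - 1) := by rw [← pow_succ']; congr 1; omega
    rw [hG2, pow_succ] at hN
    push_cast at hN
    rcases hTj with e | e <;> rw [e, e2] at hN
    · left; have : (N : ℤ) = 2 ^ d + 2 ^ (j - 1) := by omega
      exact_mod_cast this
    · right; have : (N : ℤ) + 2 ^ (j - 1) = 2 ^ d := by omega
      exact_mod_cast this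
  · intro r hr hcase
    have hT' : T = 2 ^ (r + 1) ∨ T = -(2 ^ (r + 1)) := by
      rw [hG2, pow_succ] at hN
      push_cast at hN
      rcases hcase with h | h <;> have h' := congrArg (fun n : ℕ => (n : ℤ)) h <;> push_cast at h'
      · left; rw [pow_succ']; omega
      · right; rw [pow_succ']; omega
    rcases main with h | ⟨j, hj, hTj⟩
    · exfalso
      have := Nat.two_pow_pos r
      omega
    have hjr : j = r + 1 := by
      have hp1 : (0 : ℤ) < 2 ^ j := by positivity
      have hp2 : (0 : ℤ) < 2 ^ (r + 1) := by positivity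
      have : ((2 ^ j : ℕ) : ℤ) = ((2 ^ (r + 1) : ℕ) : ℤ) := by
        push_cast
        rcases hT' with a | a <;> rcases hTj with b | b <;> omega
      exact Nat.pow_right_injective le_rfl (by exact_mod_cast this)
    have hk' : k = 1 := by omega
    rw [hk', pow_one] at hk
    have hFZ : F ≤ Subgroup.center G := fun u hu => Subgroup.mem_center_iff.mpr (hcen u hu)
    have hFeq : F = Subgroup.center G := Subgroup.eq_of_le_of_card_ge hFZ (by rw [hk, hΦ])
    refine ⟨⟨hG, hFeq, ?_⟩, hk⟩
    have hle : commutator G ≤ F := by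
      rw [commutator_eq_closure, Subgroup.closure_le]
      rintro _ ⟨a, b, rfl⟩
      rw [commutatorElement_def, show a * b * a⁻¹ * b⁻¹ = c a⁻¹ b by simp only [c]; group]
      exact hc _ _
    obtain ⟨x, g, hxg⟩ : ∃ x g, c x g ≠ 1 := by
      by_contra hcon
      push Not at hcon
      have hZt : Subgroup.center G = ⊤ := (Subgroup.eq_top_iff' _).mpr fun g => Subgroup.mem_center_iff.mpr fun x => by
        calc x * g = x * (c x g) * g := by rw [hcon, mul_one]
          _ = g * x := by simp only [c]; group
      rw [hZt, Subgroup.card_top, hG2, pow_succ] at hk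
      have hd0 : 2 ^ d = 1 := by omega
      have : d = 0 := by simpa using hd0
      subst this
      have h2 : ∀ x : G, x ^ 2 = 1 := fun x => by
        have h := pow_card_eq_one' (x := x)
        rwa [hG2] at h
      have hb : F = ⊥ := le_bot_iff.mp (CfsgLib.Critical.frattini_le_of_elementary (p := 2) ⊥ (by
          rw [commutator_eq_closure, Subgroup.closure_le]
          rintro _ ⟨a, b, rfl⟩
          show ⁅a, b⁆ = 1
          rw [commutatorElement_eq_one_iff_mul_comm]
          exact Subgroup.mem_center_iff.mp (hZt ▸ Subgroup.mem_top b) a) (fun x => Subgroup.mem_bot.mpr (h2 x)))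
      rw [hb, Subgroup.card_bot] at hΦ
      omega
    refine le_antisymm (hle.trans hFeq.le) ?_
    intro u hu
    rw [← hFeq] at hu
    rcases hzF u hu with rfl | rfl
    · exact (commutator G).one_mem
    · have : c x g ∈ commutator G := by
        rw [commutator_eq_closure]
        exact Subgroup.subset_closure ⟨x⁻¹, g, by rw [commutatorElement_def]; simp only [c]; group⟩
      rwa [(hzF _ (hc x g)).resolve_left hxg] at this

end Cfsg.Agent.S3772
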