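import Cfsg.Statements.S3773
import Mathlib
import Cfsg.Agent.Lib.Critical.Basic
import Cfsg.Agent.Lib.HSub.Fusion
-- import your own Cfsg.Agent.* helpers here

set_option autoImplicit false
open Cfsg

namespace Cfsg.Agent.S3773

open Module
open scoped commutatorElement

/-- A function over `F₂` is quadratic when it vanishes at zero and its polar is biadditive. -/
def IsQuad {U : Type*} [AddCommGroup U] (f : U → ZMod 2) : Prop :=
  f 0 = 0 ∧ ∀ u v w, f (u + (v + w)) - f u - f (v + w) =
    (f (u + v) - f u - f v) + (f (u + w) - f u - f w)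

theorem z2 : ∀ z : ZMod 2, z = 0 ∨ z = 1 := by decide

open MvPolynomial in
theorem exists_poly_two {U : Type*} [AddCommGroup U] [Module (ZMod 2) U] {κ : Type*} [DecidableEq κ]
    (b : κ → U) (f : U → ZMod 2) (hf : IsQuad f) (s : Finset κ) :
    ∃ P : MvPolynomial κ (ZMod 2), P.totalDegree ≤ 2 ∧
      ∀ c : κ → ZMod 2, eval c P = f (∑ i ∈ s, c i • b i) := by
  obtain ⟨h0, hbil⟩ := hf
  induction s using Finset.induction_on with
  | empty => exact ⟨0, by simp, fun c => by simp [h0]⟩
  | insert a s has ih =>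
    obtain ⟨P, hP, hPe⟩ := ih
    let β : U → U → ZMod 2 := fun u v => f (u + v) - f u - f v
    have hβ0 : ∀ u, β u 0 = 0 := fun u => by simp [β, h0]
    let βh : U → U →+ ZMod 2 := fun u => AddMonoidHom.mk' (β u) (hbil u)
    refine ⟨P + MvPolynomial.C (f (b a)) * MvPolynomial.X a +
      ∑ j ∈ s, MvPolynomial.C (β (b a) (b j)) * (MvPolynomial.X a * MvPolynomial.X j), ?_, ?_⟩
    · refine (totalDegree_add _ _).trans (max_le ((totalDegree_add _ _).trans (max_le hP ?_)) ?_)
      · refine (totalDegree_mul _ _).trans ?_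
        rw [totalDegree_C, totalDegree_X]
        norm_num
      · refine totalDegree_finsetSum_le fun j _ => ?_
        refine (totalDegree_mul _ _).trans ?_
        rw [totalDegree_C, zero_add]
        refine (totalDegree_mul _ _).trans ?_
        rw [totalDegree_X, totalDegree_X]
    · intro c
      simp only [map_add, map_mul, eval_C, eval_X, hPe, map_sum, Finset.sum_insert has]
      have hsplit : ∀ u v, f (u + v) = f u + f v + β u v := fun u v => by simp [β]
      rcases z2 (c a) with h | h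
      · simp [h]
      · rw [h, one_smul, hsplit]
        have : β (b a) (∑ j ∈ s, c j • b j) = ∑ j ∈ s, β (b a) (b j) * (1 * c j) := by
          show βh (b a) _ = _
          rw [map_sum]
          refine Finset.sum_congr rfl fun j _ => ?_
          rcases z2 (c j) with h' | h'
          · simp [h']
          · simp [h', βh]
        rw [this]
        ring

open MvPolynomial in
/-- Chevalley–Warning for linear and quadratic functions. -/
theorem exists_zero {U : Type*} [AddCommGroup U] [Module (ZMod 2) U] [Finite U] {ι : Type*} [Fintype ι]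
    (f : ι → U → ZMod 2) (d : ι → ℕ)
    (hf : ∀ i, (d i = 2 ∧ IsQuad (f i)) ∨ (d i = 1 ∧ ∀ u v, f i (u + v) = f i u + f i v))
    (h : ∑ i, d i < finrank (ZMod 2) U) : ∃ u : U, u ≠ 0 ∧ ∀ i, f i u = 0 := by
  classical
  haveI : Module.Finite (ZMod 2) U := Module.Finite.of_finite
  let b := Module.finBasis (ZMod 2) U
  have hpoly : ∀ i, ∃ P : MvPolynomial (Fin (finrank (ZMod 2) U)) (ZMod 2), P.totalDegree ≤ d i ∧
      ∀ c, eval c P = f i (b.equivFun.symm c) := by
    intro i
    rcases hf i with ⟨hd, hq⟩ | ⟨hd, hl⟩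
    · obtain ⟨P, hP, hPe⟩ := exists_poly_two (⇑b) (f i) hq Finset.univ
      exact ⟨P, hd.symm ▸ hP, fun c => by rw [hPe, b.equivFun_symm_apply]⟩
    · refine ⟨∑ j, C (f i (b j)) * X j, totalDegree_finsetSum_le fun j _ => ?_, fun c => ?_⟩
      · refine (totalDegree_mul _ _).trans ?_
        rw [totalDegree_C, totalDegree_X, hd]
      · rw [b.equivFun_symm_apply, map_sum]
        show _ = AddMonoidHom.mk' (f i) hl _
        rw [map_sum]
        refine Finset.sum_congr rfl fun j _ => ?_
        rcases z2 (c j) with h' | h'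
        · simpa [h'] using ((AddMonoidHom.mk' (f i) hl).map_zero).symm
        · simp [h']
  choose P hP hPe using hpoly
  have hdvd := char_dvd_card_solutions_of_fintype_sum_lt 2 (f := P)
    (lt_of_le_of_lt (Finset.sum_le_sum fun i _ => hP i) (by rwa [Fintype.card_fin]))
  have h0 : ∀ i, f i 0 = 0 := fun i => by
    rcases hf i with ⟨-, hq⟩ | ⟨-, hl⟩
    · exact hq.1
    · exact (AddMonoidHom.mk' (f i) hl).map_zero
  have hpos : 0 < Fintype.card {c : Fin (finrank (ZMod 2) U) → ZMod 2 // ∀ i, eval c (P i) = 0} :=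
    Fintype.card_pos_iff.mpr ⟨⟨0, fun i => by rw [hPe, map_zero, h0]⟩⟩
  obtain ⟨⟨c, hc⟩, hne⟩ := Fintype.exists_ne_of_one_lt_card
    (by have := Nat.le_of_dvd hpos hdvd; omega : 1 < Fintype.card
      {c : Fin (finrank (ZMod 2) U) → ZMod 2 // ∀ i, eval c (P i) = 0})
    ⟨0, fun i => by rw [hPe, map_zero, h0]⟩
  refine ⟨b.equivFun.symm c, fun e => hne (Subtype.ext ?_), fun i => (hPe i c) ▸ hc i⟩
  show c = 0
  exact b.equivFun.symm.injective (e.trans (map_zero _).symm)


/-- A zero on the line through a vector outside a hyperplane. -/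
theorem exists_zero_shift {V W : Type*} [AddCommGroup V] [Module (ZMod 2) V] [AddCommGroup W]
    [Module (ZMod 2) W] (H : Submodule (ZMod 2) V) (v0 : V) (hv0 : v0 ≠ 0)
    (hH : IsCompl (Submodule.span (ZMod 2) {v0}) H) (q : V → W)
    (hadd : ∀ v, q (v + v0) = q v + q v0)
    (hz : ∃ h : H, h ≠ 0 ∧ (q h = 0 ∨ q h = q v0)) : ∃ v : V, v ≠ 0 ∧ q v = 0 := by
  obtain ⟨h, h0, hh | hh⟩ := hz
  · exact ⟨h, fun e => h0 (Subtype.ext e), hh⟩
  · refine ⟨h + v0, fun e => hv0 ?_, ?_⟩
    · refine Submodule.disjoint_def.mp hH.disjoint v0 (Submodule.mem_span_singleton_self v0) ?_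
      rw [eq_neg_of_add_eq_zero_right e]
      exact H.neg_mem h.2
    · rw [hadd, hh, ← two_smul (ZMod 2), show (2 : ZMod 2) = 0 from rfl, zero_smul]

/-- A vector whose value lies on a given line. -/
theorem exists_line_zero {V W : Type*} [AddCommGroup V] [Module (ZMod 2) V] [Finite V] [AddCommGroup W]
    [Module (ZMod 2) W] [Finite W] (H : Submodule (ZMod 2) V) (c : W) (φ : W →ₗ[ZMod 2] ZMod 2)
    (hφ : φ c = 1) (q : V → W)
    (hzero : ∀ {ι : Type} [Fintype ι] (ψ : ι → W →+ ZMod 2), 2 * Fintype.card ι < finrank (ZMod 2) H →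
      ∃ h : H, h ≠ 0 ∧ ∀ i, ψ i (q h) = 0)
    (hd : 2 * (finrank (ZMod 2) W - 1) < finrank (ZMod 2) H) :
    ∃ h : H, h ≠ 0 ∧ (q h = 0 ∨ q h = c) := by
  haveI : Module.Finite (ZMod 2) W := Module.Finite.of_finite
  let π : W →ₗ[ZMod 2] LinearMap.ker φ :=
    (LinearMap.id - φ.smulRight c).codRestrict _ fun w => by simp [hφ]
  let bk := Module.finBasis (ZMod 2) (LinearMap.ker φ)
  have hr : finrank (ZMod 2) (LinearMap.ker φ) + 1 = finrank (ZMod 2) W := by
    have := LinearMap.finrank_range_add_finrank_ker φ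
    rw [LinearMap.range_eq_top.mpr (fun z => ⟨z • c, by simp [hφ]⟩), finrank_top,
      Module.finrank_self] at this
    omega
  obtain ⟨h, h0, hz⟩ := hzero (fun i => ((bk.coord i).comp π).toAddMonoidHom)
    (by rw [Fintype.card_fin]; omega)
  have h1 : π (q h) = 0 := bk.forall_coord_eq_zero_iff.mp hz
  have h2 : q h = φ (q h) • c := by
    have h3 : q h - φ (q h) • c = 0 := congrArg Subtype.val h1
    exact sub_eq_zero.mp h3
  refine ⟨h, h0, ?_⟩
  rcases z2 (φ (q h)) with e | e
  · left; rw [h2, e, zero_smul]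
  · right; rw [h2, e, one_smul]

/-- Let G be a finite 2-group of nilpotency class at most 2 and exponent dividing 4 in which the elements x with x² = 1 form a subgroup N. Then |G| ≤ |N|³, and |G| < |N|³ unless G is special. -/
theorem result {G : Type*} [Group G] [Finite G] (hG : IsPGroup 2 G) (hcl : (⊤ : Subgroup G).lowerCentralSeries 2 = ⊥) (hexp : ∀ x : G, x ^ 4 = 1) (hN : ∀ x y : G, x ^ 2 = 1 → y ^ 2 = 1 → (x * y) ^ 2 = 1) : Nat.card G ≤ Nat.card {x : G // x ^ 2 = 1} ^ 3 ∧ (¬ Cfsg.IsSpecial 2 G → Nat.card G < Nat.card {x : G // x ^ 2 = 1} ^ 3) := by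
  classical
  haveI : Fact (Nat.Prime 2) := ⟨Nat.prime_two⟩
  have hcent : ∀ x y : G, ⁅x, y⁆ ∈ Subgroup.center G := by
    intro x y
    rw [Subgroup.mem_center_iff]
    intro g
    have h1 : ⁅⁅x, y⁆, g⁆ ∈ (⊤ : Subgroup G).lowerCentralSeries 2 :=
      Subgroup.commutator_mem_commutator (Subgroup.commutator_mem_commutator
        (Subgroup.mem_top x) (Subgroup.mem_top y)) (Subgroup.mem_top g)
    rw [hcl, Subgroup.mem_bot] at h1
    exact (commutatorElement_eq_one_iff_mul_comm.mp h1).symm
  have hcc : ∀ x y g : G, ⁅x, y⁆ * g = g * ⁅x, y⁆ := fun x y g =>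
    (Subgroup.mem_center_iff.mp (hcent x y) g).symm
  have hyx : ∀ x y : G, y * x = x * y * ⁅y⁻¹, x⁻¹⁆ := fun x y => by
    simp [commutatorElement_def]; group
  -- `(x y)^2 = x^2 y^2 c`
  have hsqmul : ∀ x y : G, (x * y) ^ 2 = x ^ 2 * y ^ 2 * ⁅y⁻¹, x⁻¹⁆ := by
    intro x y
    calc (x * y) ^ 2 = x * (y * x) * y := by rw [pow_two]; simp only [mul_assoc]
      _ = x * (x * y * ⁅y⁻¹, x⁻¹⁆) * y := by rw [hyx x y]
      _ = x * x * y * (⁅y⁻¹, x⁻¹⁆ * y) := by simp only [mul_assoc]
      _ = x ^ 2 * y ^ 2 * ⁅y⁻¹, x⁻¹⁆ := by rw [hcc, pow_two, pow_two]; simp only [mul_assoc]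
  have hmulL : ∀ x x' y : G, ⁅x * x', y⁆ = ⁅x, y⁆ * ⁅x', y⁆ := by
    intro x x' y
    have : ⁅x * x', y⁆ = x * ⁅x', y⁆ * x⁻¹ * ⁅x, y⁆ := by simp [commutatorElement_def]; group
    rw [this, ← hcc x' y x, mul_inv_cancel_right, hcc]
  have hmulR : ∀ x y y' : G, ⁅x, y * y'⁆ = ⁅x, y⁆ * ⁅x, y'⁆ := by
    intro x y y'
    rw [← commutatorElement_inv, hmulL, mul_inv_rev, commutatorElement_inv, commutatorElement_inv, hcc]
  have hinv : ∀ x y : G, ⁅x⁻¹, y⁻¹⁆ = ⁅x, y⁆ := by
    intro x y
    have h1 : ⁅x⁻¹, y⁻¹⁆ * ⁅x, y⁻¹⁆ = 1 := by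
      rw [← hmulL, inv_mul_cancel, commutatorElement_one_left]
    have h2 : ⁅x, y⁻¹⁆ * ⁅x, y⁆ = 1 := by rw [← hmulR, inv_mul_cancel, commutatorElement_one_right]
    rw [eq_inv_of_mul_eq_one_left h1, inv_eq_of_mul_eq_one_right h2]
  have hc2 : ∀ x y : G, ⁅x, y⁆ * ⁅x, y⁆ = 1 := by
    intro x y
    set c := ⁅x, y⁆ with hc
    have h1 : (y * x) ^ 2 = y ^ 2 * x ^ 2 * c := by rw [hsqmul, hinv]
    have h2 := hexp (y * x)
    rw [show (4 : ℕ) = 2 * 2 from rfl, pow_mul, h1, hsqmul, hinv] at h2
    have hc4 : ⁅x ^ 2, y ^ 2⁆ = 1 := by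
      have : ⁅x ^ 2, y ^ 2⁆ = c ^ 4 := by
        rw [hc]
        simp only [pow_succ, pow_zero, one_mul, hmulL, hmulR, mul_assoc]
      rw [this, hexp]
    have hcomm : x ^ 2 * y ^ 2 = y ^ 2 * x ^ 2 := commutatorElement_eq_one_iff_mul_comm.mp hc4
    have h3 : (y ^ 2 * x ^ 2) ^ 2 = 1 := by
      rw [(show Commute (y ^ 2) (x ^ 2) from hcomm.symm).mul_pow, ← pow_mul, ← pow_mul, hexp, hexp, mul_one]
    have hc' : ⁅c, y ^ 2 * x ^ 2⁆ = 1 := commutatorElement_eq_one_iff_mul_comm.mpr (hc ▸ hcc x y _)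
    rw [hc', h3, one_mul, mul_one, pow_two] at h2
    exact h2
  have hsqc : ∀ x : G, x ^ 2 ∈ Subgroup.center G := fun x => by
    rw [Subgroup.mem_center_iff]
    intro g
    exact (commutatorElement_eq_one_iff_mul_comm.mp (by rw [pow_two, hmulL, hc2])).symm
  let Z0 : Subgroup G :=
    { carrier := {x | x ∈ Subgroup.center G ∧ x ^ 2 = 1}
      one_mem' := ⟨Subgroup.one_mem _, one_pow 2⟩
      mul_mem' := fun {a b} ha hb => ⟨Subgroup.mul_mem _ ha.1 hb.1, by
        rw [(show Commute a b from Subgroup.mem_center_iff.mp hb.1 a).mul_pow, ha.2, hb.2, one_mul]⟩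
      inv_mem' := fun {a} ha => ⟨Subgroup.inv_mem _ ha.1, by rw [inv_pow, ha.2, inv_one]⟩ }
  haveI hZn : Z0.Normal := ⟨fun a ha g => by
    rw [Subgroup.mem_center_iff.mp ha.1 g, mul_inv_cancel_right]; exact ha⟩
  have hcZ : ∀ x y : G, ⁅x, y⁆ ∈ Z0 := fun x y => ⟨hcent x y, by rw [pow_two, hc2]⟩
  have hsZ : ∀ x : G, x ^ 2 ∈ Z0 := fun x => ⟨hsqc x, by rw [← pow_mul]; exact hexp x⟩
  have hQcomm : ∀ a b : G ⧸ Z0, a * b = b * a := by
    intro a b
    induction a using QuotientGroup.induction_on with | _ x =>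
    induction b using QuotientGroup.induction_on with | _ y =>
    rw [← QuotientGroup.mk_mul, ← QuotientGroup.mk_mul, QuotientGroup.eq]
    have : (x * y)⁻¹ * (y * x) = ⁅y⁻¹, x⁻¹⁆ := by rw [hyx x y, inv_mul_cancel_left]
    rw [this]; exact hcZ _ _
  letI : CommGroup (G ⧸ Z0) := { (inferInstance : Group (G ⧸ Z0)) with mul_comm := hQcomm }
  letI : CommGroup Z0 := { (inferInstance : Group Z0) with
    mul_comm := fun a b => Subtype.ext (Subgroup.mem_center_iff.mp b.2.1 a) }
  letI : Module (ZMod 2) (Additive (G ⧸ Z0)) := AddCommGroup.zmodModule fun v => by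
    show Additive.ofMul (v.toMul ^ 2) = 0
    induction v.toMul using QuotientGroup.induction_on with | _ x =>
    rw [← QuotientGroup.mk_pow, (QuotientGroup.eq_one_iff _).mpr (hsZ x)]
    rfl
  letI : Module (ZMod 2) (Additive Z0) := AddCommGroup.zmodModule fun v => by
    show Additive.ofMul (v.toMul ^ 2) = 0
    have h : v.toMul ^ 2 = 1 := Subtype.ext (by rw [SubmonoidClass.coe_pow, v.toMul.2.2]; rfl)
    rw [h]; rfl
  haveI : Module.Finite (ZMod 2) (Additive (G ⧸ Z0)) := Module.Finite.of_finite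
  haveI : Module.Finite (ZMod 2) (Additive Z0) := Module.Finite.of_finite
  -- the squaring map
  let sq : G ⧸ Z0 → Z0 := Quotient.lift (fun x : G => (⟨x ^ 2, hsZ x⟩ : Z0)) (by
    intro a b hab
    have hab' : a⁻¹ * b ∈ Z0 := QuotientGroup.leftRel_apply.mp hab
    apply Subtype.ext
    show a ^ 2 = b ^ 2
    conv_rhs => rw [← mul_inv_cancel_left a b]
    rw [(show Commute a (a⁻¹ * b) from Subgroup.mem_center_iff.mp hab'.1 a).mul_pow, hab'.2, mul_one])
  let q : Additive (G ⧸ Z0) → Additive Z0 := fun v => Additive.ofMul (sq v.toMul)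
  let κ : G → G → Additive Z0 := fun x y => Additive.ofMul ⟨⁅y⁻¹, x⁻¹⁆, hcZ _ _⟩
  have hq : ∀ x y : G, q (Additive.ofMul (x : G ⧸ Z0) + Additive.ofMul (y : G ⧸ Z0)) =
      q (Additive.ofMul (x : G ⧸ Z0)) + q (Additive.ofMul (y : G ⧸ Z0)) + κ x y := fun x y =>
    congrArg Additive.ofMul (Subtype.ext (hsqmul x y))
  have hκ : ∀ x y z : G, κ x (y * z) = κ x y + κ x z := fun x y z => by
    refine congrArg Additive.ofMul (Subtype.ext ?_)
    show ⁅(y * z)⁻¹, x⁻¹⁆ = ⁅y⁻¹, x⁻¹⁆ * ⁅z⁻¹, x⁻¹⁆
    rw [mul_inv_rev, hmulL, hcc]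
  have hrep : ∀ v : Additive (G ⧸ Z0), ∃ x : G, v = Additive.ofMul (x : G ⧸ Z0) := fun v =>
    ⟨v.toMul.out, by rw [QuotientGroup.out_eq', ofMul_toMul]⟩
  have hq0 : q 0 = 0 := congrArg Additive.ofMul (Subtype.ext (one_pow 2))
  have hquad : ∀ u v w, q (u + (v + w)) - q u - q (v + w) =
      (q (u + v) - q u - q v) + (q (u + w) - q u - q w) := by
    intro u v w
    obtain ⟨x, rfl⟩ := hrep u
    obtain ⟨y, rfl⟩ := hrep v
    obtain ⟨z, rfl⟩ := hrep w
    rw [show Additive.ofMul (y : G ⧸ Z0) + Additive.ofMul (z : G ⧸ Z0) = Additive.ofMul ((y * z : G) : G ⧸ Z0) from rfl]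
    rw [hq x (y * z), hq x y, hq x z, hκ]
    abel
  have hcomp : ∀ {U : Type _} [AddCommGroup U] (ι : U →+ Additive (G ⧸ Z0)) (φ : Additive Z0 →+ ZMod 2),
      IsQuad (fun u => φ (q (ι u))) := by
    intro U _ ι φ
    refine ⟨by simp [hq0], fun u v w => ?_⟩
    simp only [map_add]
    rw [← map_sub, ← map_sub, hquad, map_add, map_sub, map_sub, map_sub, map_sub]
  let bw := Module.finBasis (ZMod 2) (Additive Z0)
  -- more variables than twice the equations gives a zero
  have hcw : ∀ U : Submodule (ZMod 2) (Additive (G ⧸ Z0)),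
      2 * finrank (ZMod 2) (Additive Z0) < finrank (ZMod 2) U →
      ∃ u : U, u ≠ 0 ∧ q u = 0 := by
    intro U hU
    obtain ⟨u, hu, hz⟩ := exists_zero (U := U) (ι := Fin (finrank (ZMod 2) (Additive Z0)))
      (fun i u => (bw.coord i).toAddMonoidHom (q (U.subtype.toAddMonoidHom u))) (fun _ => 2)
      (fun i => Or.inl ⟨rfl, hcomp _ _⟩) (by simpa [mul_comm] using hU)
    exact ⟨u, hu, bw.forall_coord_eq_zero_iff.mp hz⟩
  -- the zero set
  let Nb : Submodule (ZMod 2) (Additive (G ⧸ Z0)) :=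
    { carrier := {v | q v = 0}
      zero_mem' := hq0
      add_mem' := by
        intro u v hu hv
        obtain ⟨x, rfl⟩ := hrep u
        obtain ⟨y, rfl⟩ := hrep v
        exact congrArg Additive.ofMul (Subtype.ext (hN x y
          (congrArg Subtype.val (Additive.ofMul.injective hu))
          (congrArg Subtype.val (Additive.ofMul.injective hv))))
      smul_mem' := by
        intro c v hv
        rcases z2 c with h | h
        · simpa [h] using hq0
        · simpa [h] using hv }
  have hmemN : ∀ x : G, Additive.ofMul (x : G ⧸ Z0) ∈ Nb ↔ x ^ 2 = 1 := fun x =>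
    ⟨fun h => congrArg Subtype.val (Additive.ofMul.injective h),
      fun h => congrArg Additive.ofMul (Subtype.ext h)⟩
  obtain ⟨U, hU⟩ := Submodule.exists_isCompl Nb
  set k := finrank (ZMod 2) U with hk
  set m := finrank (ZMod 2) Nb with hm
  set r := finrank (ZMod 2) (Additive Z0) with hr
  have hk2 : k ≤ 2 * r := by
    by_contra hc
    obtain ⟨u, hu, hz⟩ := hcw U (by omega)
    have hbot := Submodule.disjoint_def.mp hU.disjoint u hz u.2
    exact hu (Subtype.ext hbot)
  have hZ0c : Nat.card Z0 = 2 ^ r := by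
    rw [hr, ← Nat.card_congr (Additive.ofMul : Z0 ≃ Additive Z0).symm,
      Module.natCard_eq_pow_finrank (K := ZMod 2), Nat.card_zmod]
  have hdim : finrank (ZMod 2) (Additive (G ⧸ Z0)) = m + k :=
    (Submodule.finrank_add_eq_of_isCompl hU).symm
  have hGc : Nat.card G = 2 ^ (m + k + r) := by
    rw [Subgroup.card_eq_card_quotient_mul_card_subgroup Z0, hZ0c, pow_add, ← hdim,
      ← Nat.card_congr (Additive.ofMul : (G ⧸ Z0) ≃ Additive (G ⧸ Z0)).symm,
      Module.natCard_eq_pow_finrank (K := ZMod 2) (V := Additive (G ⧸ Z0)), Nat.card_zmod]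
  have hNc : Nat.card {x : G // x ^ 2 = 1} = 2 ^ (m + r) := by
    let N : Subgroup G :=
      { carrier := {x | x ^ 2 = 1}
        one_mem' := one_pow 2
        mul_mem' := fun {a b} => hN a b
        inv_mem' := fun {a} ha => by
          show a⁻¹ ^ 2 = 1
          rw [inv_pow, (show a ^ 2 = 1 from ha), inv_one] }
    have hle : Z0 ≤ N := fun x hx => hx.2
    have h1 : Nat.card (N.map (QuotientGroup.mk' Z0)) = 2 ^ m := by
      have e : Nb ≃ N.map (QuotientGroup.mk' Z0) :=
        { toFun := fun v => ⟨Additive.toMul (v : Additive (G ⧸ Z0)), by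
            obtain ⟨x, hx⟩ := hrep (v : Additive (G ⧸ Z0))
            refine ⟨x, (hmemN x).mp (hx ▸ v.2), ?_⟩
            rw [hx]; rfl⟩
          invFun := fun v => ⟨Additive.ofMul (v : G ⧸ Z0), by
            obtain ⟨x, hx, hxv⟩ := v.2
            rw [← hxv]
            exact (hmemN x).mpr hx⟩
          left_inv := fun v => rfl
          right_inv := fun v => rfl }
      rw [← Nat.card_congr e, Module.natCard_eq_pow_finrank (K := ZMod 2), Nat.card_zmod]
    have h2 := Subgroup.relIndex_ker (K := N) (QuotientGroup.mk' Z0)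
    rw [QuotientGroup.ker_mk', h1] at h2
    have h3 := Subgroup.relIndex_mul_relIndex ⊥ Z0 N bot_le hle
    rw [Subgroup.relIndex_bot_left, Subgroup.relIndex_bot_left, hZ0c, h2, ← pow_add, add_comm] at h3
    exact h3.symm
  refine ⟨?_, fun hns => ?_⟩
  · rw [hGc, hNc, ← pow_mul]
    exact Nat.pow_le_pow_right (by norm_num) (by omega)
  · rw [hGc, hNc, ← pow_mul]
    refine Nat.pow_lt_pow_right (by norm_num) ?_
    by_contra hcon
    have hm0 : m = 0 := by omega
    have hkr : k = 2 * r := by omega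
    have hNbot : Nb = ⊥ := Submodule.finrank_eq_zero.mp hm0
    have hzero : ∀ v, q v = 0 → v = 0 := fun v hv => by
      have : v ∈ Nb := hv
      rwa [hNbot, Submodule.mem_bot] at this
    -- one linear condition is too cheap
    have hlin : ∀ (H : Submodule (ZMod 2) (Additive (G ⧸ Z0))) (φ : Additive Z0 →ₗ[ZMod 2] ZMod 2),
        φ ≠ 0 → ∃ c : Additive Z0, φ c = 1 ∧
          (2 * r - 2 < finrank (ZMod 2) H → ∃ h : H, h ≠ 0 ∧ q h = φ (q h) • c) ∧
          ((∀ u v : H, φ (q ((u : Additive (G ⧸ Z0)) + v)) = φ (q u) + φ (q v)) →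
            2 * r - 1 < finrank (ZMod 2) H → ∃ h : H, h ≠ 0 ∧ q h = 0) := by
      intro H φ hφ
      obtain ⟨c, hc⟩ : ∃ c, φ c = 1 := by
        by_contra h
        push Not at h
        exact hφ (LinearMap.ext fun w => (z2 (φ w)).resolve_right (h w))
      refine ⟨c, hc, ?_⟩
      let π : Additive Z0 →ₗ[ZMod 2] LinearMap.ker φ :=
        (LinearMap.id - φ.smulRight c).codRestrict _ fun w => by simp [hc]
      let bk := Module.finBasis (ZMod 2) (LinearMap.ker φ)
      have hr1 : finrank (ZMod 2) (LinearMap.ker φ) + 1 = r := by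
        have := LinearMap.finrank_range_add_finrank_ker φ
        rw [LinearMap.range_eq_top.mpr (fun z => ⟨z • c, by simp [hc]⟩), finrank_top,
          Module.finrank_self] at this
        omega
      have hπ0 : ∀ w, π w = 0 → w = φ w • c := fun w hw => by
        have h3 : w - φ w • c = 0 := congrArg Subtype.val hw
        exact sub_eq_zero.mp h3
      constructor
      · intro hdim'
        obtain ⟨u, hu, hz⟩ := exists_zero (U := H) (ι := Fin (finrank (ZMod 2) (LinearMap.ker φ)))
          (fun i u => ((bk.coord i).comp π).toAddMonoidHom (q (H.subtype.toAddMonoidHom u))) (fun _ => 2)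
          (fun i => Or.inl ⟨rfl, hcomp _ _⟩) (by simp; omega)
        exact ⟨u, hu, hπ0 _ (bk.forall_coord_eq_zero_iff.mp hz)⟩
      · intro hadd hdim'
        obtain ⟨u, hu, hz⟩ := exists_zero (U := H) (ι := Option (Fin (finrank (ZMod 2) (LinearMap.ker φ))))
          (fun i u => i.elim (φ (q (u : Additive (G ⧸ Z0))))
            fun i => ((bk.coord i).comp π).toAddMonoidHom (q (H.subtype.toAddMonoidHom u)))
          (fun i => i.elim 1 fun _ => 2)
          (fun i => by
            cases i with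
            | none => exact Or.inr ⟨rfl, fun u v => hadd u v⟩
            | some i => exact Or.inl ⟨rfl, hcomp _ _⟩)
          (by simp [Fintype.sum_option]; omega)
        have h1 := hπ0 _ (bk.forall_coord_eq_zero_iff.mp fun i => hz (some i))
        have h2 : φ (q u) = 0 := hz none
        refine ⟨u, hu, ?_⟩
        have h1' : q (u : Additive (G ⧸ Z0)) = φ (q (u : Additive (G ⧸ Z0))) • c := h1
        rw [h1', h2, zero_smul]
    have hder : Z0 ≤ commutator G := by
      let D : Submodule (ZMod 2) (Additive Z0) :=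
        { carrier := {w | ((w.toMul : Z0) : G) ∈ commutator G}
          zero_mem' := (commutator G).one_mem
          add_mem' := fun {a b} ha hb => (commutator G).mul_mem ha hb
          smul_mem' := fun c w hw => by
            rcases z2 c with h | h
            · rw [h, zero_smul]; exact (commutator G).one_mem
            · rw [h, one_smul]; exact hw }
      intro z hz
      by_contra hzD
      obtain ⟨φ, hφ0, hφD⟩ := Submodule.exists_dual_map_eq_bot_of_notMem
        (show Additive.ofMul (⟨z, hz⟩ : Z0) ∉ D from hzD) inferInstance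
      have hφD' : ∀ w ∈ D, φ w = 0 := fun w hw =>
        (Submodule.mem_bot (R := ZMod 2)).mp (hφD ▸ Submodule.mem_map_of_mem hw)
      obtain ⟨c, -, -, h2⟩ := hlin ⊤ φ (fun h => hφ0 (by rw [h]; rfl))
      obtain ⟨u, hu, hz0⟩ := h2 (fun u v => by
        obtain ⟨x, hx⟩ := hrep (u : Additive (G ⧸ Z0))
        obtain ⟨y, hy⟩ := hrep (v : Additive (G ⧸ Z0))
        have : φ (κ x y) = 0 :=
          hφD' (κ x y) (Subgroup.commutator_mem_commutator (Subgroup.mem_top _) (Subgroup.mem_top _))
        rw [hx, hy, hq, map_add, map_add, this, add_zero])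
        (by
          rw [finrank_top, hdim]
          by_contra hh
          have : r = 0 := by omega
          have h1 : Nat.card Z0 = 1 := by rw [hZ0c, this, pow_zero]
          haveI := (Nat.card_eq_one_iff_unique.mp h1).1
          exact hzD (by
            have : (⟨z, hz⟩ : Z0) = 1 := Subsingleton.elim _ _
            rw [show z = 1 from congrArg Subtype.val this]; exact Subgroup.one_mem _))
      exact hu (Subtype.ext (hzero _ hz0))
    have hcen : Subgroup.center G ≤ Z0 := by
      intro z hz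
      refine ⟨hz, ?_⟩
      by_contra hz2
      set v0 := Additive.ofMul (z : G ⧸ Z0) with hv0
      have hv00 : v0 ≠ 0 := fun h => hz2 ((hmemN z).mp (by
        rw [← hv0, h]; exact Nb.zero_mem))
      set c0 := q v0 with hc0
      have hc00 : c0 ≠ 0 := fun h => hv00 (hzero _ h)
      obtain ⟨φ, hφ0, -⟩ := Submodule.exists_dual_map_eq_bot_of_notMem
        (show c0 ∉ (⊥ : Submodule (ZMod 2) (Additive Z0)) by simpa using hc00) inferInstance
      obtain ⟨H, hH⟩ := Submodule.exists_isCompl (Submodule.span (ZMod 2) {v0})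
      have hHd : 1 + finrank (ZMod 2) H = m + k := by
        rw [← hdim, ← Submodule.finrank_add_eq_of_isCompl hH, finrank_span_singleton hv00]
      -- choose the functional with value one at `c0`
      have hφ1 : φ c0 = 1 := (z2 (φ c0)).resolve_left hφ0
      obtain ⟨c, hc, h1, -⟩ := hlin H φ (fun h => hφ0 (by rw [h]; rfl))
      obtain ⟨h, hh0, hh⟩ := exists_zero_shift H v0 hv00 hH q
        (fun v => by
          obtain ⟨x, rfl⟩ := hrep v
          rw [hv0, hq]
          have hxz : κ x z = 0 := by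
            refine congrArg Additive.ofMul (Subtype.ext ?_)
            show ⁅z⁻¹, x⁻¹⁆ = 1
            rw [hinv]
            exact commutatorElement_eq_one_iff_mul_comm.mpr (Subgroup.mem_center_iff.mp hz x).symm
          rw [hxz, add_zero])
        (by
          refine exists_line_zero H c0 φ hφ1 q (fun {ι} _ ψ hd => ?_) ?_
          · exact exists_zero (U := H) (fun i u => ψ i (q (H.subtype.toAddMonoidHom u))) (fun _ => 2)
              (fun i => Or.inl ⟨rfl, hcomp _ _⟩) (by simpa [mul_comm] using hd)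
          · have := hr
            omega)
      exact hh0 (hzero h hh)
    refine hns ⟨hG, ?_, ?_⟩
    · refine le_antisymm ?_ ?_
      · exact (CfsgLib.Critical.frattini_le_of_elementary (p := 2) Z0
          (Subgroup.commutator_le.mpr fun a _ b _ => hcZ a b) hsZ).trans fun x hx => hx.1
      · exact hcen.trans (hder.trans (CfsgLib.HSub.commutator_le_frattini hG))
    · exact le_antisymm (Subgroup.commutator_le.mpr fun a _ b _ => hcent a b) (hcen.trans hder)

end Cfsg.Agent.S3773
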