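import Cfsg.Statements.S3774
import Mathlib

set_option autoImplicit false
set_option linter.style.haveILetI false
open Cfsg

namespace Cfsg.Agent.S3774

/-- Let G be a nontrivial finite 2-group whose automorphism group permutes the involutions of G transitively. Then every involution of G is central, so that the involutions together with 1 form the subgroup Ω₁(Z(G)), and if this subgroup has order q then |G| is a power of q. -/
theorem result {G : Type*} [Group G] [Finite G] [Nontrivial G] (hG : IsPGroup 2 G) (htrans : ∀ x y : G, x ≠ 1 → x ^ 2 = 1 → y ≠ 1 → y ^ 2 = 1 → ∃ a : MulAut G, a x = y) : (∀ x : G, x ^ 2 = 1 → x ∈ Subgroup.center G) ∧ ∃ m : ℕ, Nat.card G = Nat.card {z : G // z ^ 2 = 1} ^ m := by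
  classical
  haveI : Fact (Nat.Prime 2) := ⟨Nat.prime_two⟩
  haveI : Fintype G := Fintype.ofFinite G
  haveI := hG.center_nontrivial
  obtain ⟨i, hi0, hi⟩ := (hG.to_subgroup (Subgroup.center G)).nontrivial_iff_card.mp inferInstance
  obtain ⟨c, hc⟩ := exists_prime_orderOf_dvd_card' (G := Subgroup.center G) 2 (hi ▸ dvd_pow_self 2 hi0.ne')
  have hc2 : (c : G) ^ 2 = 1 := by
    have := pow_orderOf_eq_one c
    rw [hc] at this
    exact congrArg Subtype.val this
  have hc1 : (c : G) ≠ 1 := fun h => by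
    rw [show c = 1 from Subtype.ext h, orderOf_one] at hc; omega
  have hcen : ∀ x : G, x ^ 2 = 1 → x ∈ Subgroup.center G := by
    intro x hx
    by_cases h1 : x = 1
    · rw [h1]; exact Subgroup.one_mem _
    obtain ⟨a, ha⟩ := htrans c x hc1 hc2 h1 hx
    rw [← ha, Subgroup.mem_center_iff]
    intro g
    have := congrArg a (Subgroup.mem_center_iff.mp c.2 (a.symm g))
    simpa [map_mul] using this
  refine ⟨hcen, ?_⟩
  let W : Subgroup G :=
    { carrier := {z | z ^ 2 = 1}
      one_mem' := one_pow 2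
      mul_mem' := fun {a b} (ha : a ^ 2 = 1) (hb : b ^ 2 = 1) => by
        show (a * b) ^ 2 = 1
        rw [(show Commute a b from Subgroup.mem_center_iff.mp (hcen b hb) a).mul_pow, ha, hb, one_mul]
      inv_mem' := fun {a} (ha : a ^ 2 = 1) => by show a⁻¹ ^ 2 = 1; rw [inv_pow, ha, inv_one] }
  obtain ⟨n, hn⟩ := IsPGroup.iff_card.mp (hG.to_subgroup W)
  obtain ⟨M, hM⟩ := IsPGroup.iff_card.mp hG
  -- the involution in the cyclic subgroup of an element
  let w : {x : G // x ≠ 1} → {v : W // v ≠ 1} := fun x =>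
    ⟨⟨x.1 ^ (orderOf x.1 / 2), by
      show (x.1 ^ (orderOf x.1 / 2)) ^ 2 = 1
      rw [← pow_mul, Nat.div_mul_cancel ?_, pow_orderOf_eq_one]
      obtain ⟨k, hk⟩ := hG x.1
      obtain ⟨l, -, hl⟩ := (Nat.dvd_prime_pow Nat.prime_two).mp (orderOf_dvd_of_pow_eq_one hk)
      rcases l with _ | l
      · exact absurd (orderOf_eq_one_iff.mp hl) x.2
      · rw [hl]; exact dvd_pow_self 2 (by omega)⟩, fun h => by
      have h' : x.1 ^ (orderOf x.1 / 2) = 1 := congrArg Subtype.val h
      have hpos := orderOf_pos x.1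
      have h1 : orderOf x.1 ≠ 1 := fun e => x.2 (orderOf_eq_one_iff.mp e)
      exact pow_ne_one_of_lt_orderOf (Nat.div_ne_zero_iff.mpr ⟨by norm_num, by omega⟩)
        (Nat.div_lt_self hpos (by norm_num)) h'⟩
  let c₀ : {v : W // v ≠ 1} := ⟨⟨c, hc2⟩, fun h => hc1 (congrArg Subtype.val h)⟩
  have hfib : ∀ v, Nat.card {x // w x = v} = Nat.card {x // w x = c₀} := by
    intro v
    obtain ⟨a, ha⟩ := htrans c (v.1 : G) hc1 hc2 (fun h => v.2 (Subtype.ext h)) v.1.2
    have hwa : ∀ (b : MulAut G) (x : {x : G // x ≠ 1}) (hx : b x.1 ≠ 1),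
        ((w ⟨b x.1, hx⟩).1 : G) = b ((w x).1 : G) := fun b x hx => by
      show (b x.1) ^ (orderOf (b x.1) / 2) = b (x.1 ^ (orderOf x.1 / 2))
      rw [MulEquiv.orderOf_eq, map_pow]
    have hne : ∀ (b : MulAut G) (x : {x : G // x ≠ 1}), b x.1 ≠ 1 := fun b x h =>
      x.2 (b.injective (h.trans (map_one b).symm))
    have hto : ∀ x : {x // w x = c₀}, w ⟨a x.1.1, hne a x.1⟩ = v := fun x =>
      Subtype.ext (Subtype.ext (by rw [hwa a x.1, x.2]; exact ha))
    have hfrom : ∀ x : {x // w x = v}, w ⟨a⁻¹ x.1.1, hne a⁻¹ x.1⟩ = c₀ := fun x =>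
      Subtype.ext (Subtype.ext (by
        rw [hwa a⁻¹ x.1, x.2, ← ha]
        show a⁻¹ (a (c : G)) = c
        simp))
    let e : {x // w x = c₀} ≃ {x // w x = v} :=
      { toFun := fun x => ⟨⟨a x.1.1, hne a x.1⟩, hto x⟩
        invFun := fun x => ⟨⟨a⁻¹ x.1.1, hne a⁻¹ x.1⟩, hfrom x⟩
        left_inv := fun x => Subtype.ext (Subtype.ext (by simp))
        right_inv := fun x => Subtype.ext (Subtype.ext (by simp)) }
    exact (Nat.card_congr e).symm
  have hsum : Nat.card {x : G // x ≠ 1} = Nat.card {v : W // v ≠ 1} * Nat.card {x // w x = c₀} := by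
    rw [← Nat.card_prod, ← Nat.card_congr (Equiv.sigmaFiberEquiv w)]
    rw [Nat.card_sigma, Finset.sum_congr rfl (fun v _ => hfib v), Finset.sum_const, Finset.card_univ,
      Nat.card_prod, Nat.card_eq_fintype_card (α := {v : W // v ≠ 1}), smul_eq_mul]
  rw [Nat.card_eq_fintype_card (α := {x : G // x ≠ 1}), Nat.card_eq_fintype_card (α := {v : W // v ≠ 1}),
    Fintype.card_subtype_compl, Fintype.card_subtype_eq, Fintype.card_subtype_compl,
    Fintype.card_subtype_eq, ← Nat.card_eq_fintype_card, ← Nat.card_eq_fintype_card, hn, hM] at hsum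
  have hdvd : 2 ^ n - 1 ∣ 2 ^ M - 1 := ⟨_, hsum⟩
  have hn0 : n ≠ 0 := by
    intro h0
    haveI : Subsingleton W := (Nat.card_eq_one_iff_unique.mp (by rw [hn, h0, pow_zero])).1
    exact c₀.2 (Subsingleton.elim _ _)
  have hnM : n ∣ M := by
    have h1 : Nat.gcd (2 ^ n - 1) (2 ^ M - 1) = 2 ^ n - 1 := Nat.gcd_eq_left hdvd
    rw [Nat.pow_sub_one_gcd_pow_sub_one] at h1
    have h2 : Nat.gcd n M = n := Nat.pow_right_injective le_rfl (show 2 ^ Nat.gcd n M = 2 ^ n by
      have := Nat.one_le_two_pow (n := Nat.gcd n M)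
      have := Nat.one_le_two_pow (n := n)
      omega)
    exact h2 ▸ Nat.gcd_dvd_right n M
  obtain ⟨m, hm⟩ := hnM
  refine ⟨m, ?_⟩
  rw [show Nat.card {z : G // z ^ 2 = 1} = Nat.card W from rfl, hn, hM, hm, pow_mul]

end Cfsg.Agent.S3774
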