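import Cfsg.Statements.S3775


set_option autoImplicit false
set_option linter.style.haveILetI false
open Cfsg

namespace Cfsg.Agent.S3775


variable {A : Type*} [CommGroup A] [Finite A] {p : ℕ}

/-- `B` is invariant under `X`. -/
def Inv' (X : Subgroup (MulAut A)) (B : Subgroup A) : Prop := ∀ x ∈ X, ∀ b ∈ B, x b ∈ B

theorem inv'_iff (X : Subgroup (MulAut A)) (B : Subgroup A) :
    Inv' X B ↔ ∀ x ∈ X, B.map x.toMonoidHom = B := by
  constructor
  · intro h x hx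
    refine le_antisymm ?_ fun b hb => ⟨x⁻¹ b, h _ (inv_mem hx) b hb, x.apply_symm_apply b⟩
    rintro _ ⟨b, hb, rfl⟩
    exact h x hx b hb
  · intro h x hx b hb
    exact (SetLike.ext_iff.mp (h x hx) _).mp ⟨b, hb, rfl⟩

/-- Averaging: an invariant subgroup with a complement has an invariant complement. -/
theorem exists_inv_complement [Fact p.Prime] (hA : IsPGroup p A) {X : Subgroup (MulAut A)}
    (hX : (Nat.card X).Coprime p) {V U W : Subgroup A} (hV : Inv' X V) (hU : Inv' X U) (hUV : U ≤ V)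
    (hWV : W ≤ V) (hinf : U ⊓ W = ⊥) (hsup : V ≤ U ⊔ W) :
    ∃ W' : Subgroup A, Inv' X W' ∧ W' ≤ V ∧ U ⊓ W' = ⊥ ∧ V ≤ U ⊔ W' ∧
      ∀ N : Subgroup A, Inv' X N → N ≤ W → N ≤ W' := by
  classical
  haveI : Fintype X := Fintype.ofFinite _
  have hdec : ∀ v : V, ∃ u ∈ U, ∃ w ∈ W, u * w = (v : A) := fun v => Subgroup.mem_sup.mp (hsup v.2)
  choose pr hpr wr hwr hpw using hdec
  have huniq : ∀ u ∈ U, ∀ w ∈ W, ∀ v : V, u * w = v → pr v = u := by
    intro u hu w hw v huw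
    have h1 : u⁻¹ * pr v ∈ U ⊓ W := by
      refine Subgroup.mem_inf.mpr ⟨mul_mem (inv_mem hu) (hpr v), ?_⟩
      have : u⁻¹ * pr v = w * (wr v)⁻¹ := by
        rw [inv_mul_eq_iff_eq_mul, ← mul_assoc, huw, ← hpw v, mul_inv_cancel_right]
      rw [this]; exact mul_mem hw (inv_mem (hwr v))
    rw [hinf, Subgroup.mem_bot, inv_mul_eq_one] at h1
    exact h1.symm
  let π : V →* A := MonoidHom.mk' pr fun a b => huniq _ (mul_mem (hpr a) (hpr b)) (wr a * wr b)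
    (mul_mem (hwr a) (hwr b)) (a * b) (by rw [mul_mul_mul_comm, hpw, hpw]; rfl)
  let f : V →* A := ∏ x : X, ((x : MulAut A) : A →* A).comp
    (π.comp ((((x⁻¹ : X) : MulAut A) : A →* A).comp V.subtype |>.codRestrict V
      (fun v => hV _ (x⁻¹).2 _ v.2)))
  have hf : ∀ v : V, f v = ∏ x : X, (x : MulAut A) (pr ⟨((x⁻¹ : X) : MulAut A) v, hV _ (x⁻¹).2 _ v.2⟩) :=
    fun v => MonoidHom.finsetProd_apply _ _ _
  have hfU : ∀ v, f v ∈ U := fun v => by
    rw [hf]; exact Subgroup.prod_mem U fun x _ => hU _ x.2 _ (hpr _)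
  set n := Nat.card X
  have hfix : ∀ v : V, (v : A) ∈ U → f v = (v : A) ^ n := by
    intro v hv
    rw [hf, Finset.prod_congr rfl (g := fun _ => (v : A)) fun x _ => ?_, Finset.prod_const,
      Finset.card_univ, ← Nat.card_eq_fintype_card]
    rw [huniq _ (hU _ (x⁻¹).2 _ hv) 1 (one_mem W) ⟨((x⁻¹ : X) : MulAut A) v, hV _ (x⁻¹).2 _ v.2⟩ (mul_one _)]
    simp
  have hequiv : ∀ y : X, ∀ v : V, f ⟨(y : MulAut A) v, hV _ y.2 _ v.2⟩ = (y : MulAut A) (f v) := by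
    intro y v
    rw [hf, hf, map_prod]
    refine Fintype.prod_equiv (Equiv.mulLeft y⁻¹) _ _ fun x => ?_
    show (x : MulAut A) (pr _) = (y : MulAut A) (((y⁻¹ * x : X) : MulAut A) (pr _))
    simp [MulAut.mul_apply]
  obtain ⟨k, hk⟩ := IsPGroup.iff_card.mp (hA.to_subgroup U)
  have hcop : (Nat.card U).Coprime n := by rw [hk]; exact (hX.symm).pow_left k
  refine ⟨f.ker.map V.subtype, fun x hx => ?_, Subgroup.map_subtype_le _, ?_, fun a ha => ?_,
    fun N hN hNW a ha => ⟨⟨a, hWV (hNW ha)⟩, ?_, rfl⟩⟩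
  · rintro _ ⟨v, hv, rfl⟩
    refine ⟨⟨x v, hV x hx _ v.2⟩, ?_, rfl⟩
    rw [SetLike.mem_coe, MonoidHom.mem_ker] at hv ⊢
    rw [hequiv ⟨x, hx⟩ v, hv, map_one]
  · rw [eq_bot_iff]
    rintro _ ⟨hu, v, hv, rfl⟩
    rw [SetLike.mem_coe, MonoidHom.mem_ker, hfix v hu] at hv
    have h1 : orderOf (v : A) ∣ n := orderOf_dvd_of_pow_eq_one hv
    have h2 : orderOf (v : A) ∣ Nat.card U := Subgroup.orderOf_dvd_natCard U hu
    exact orderOf_eq_one_iff.mp (Nat.eq_one_of_dvd_coprimes hcop h2 h1)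
  · obtain ⟨u, hu⟩ := (powCoprime hcop).surjective ⟨f ⟨a, ha⟩, hfU _⟩
    have hu' : (u : A) ^ n = f ⟨a, ha⟩ := congrArg Subtype.val hu
    have h3 : (⟨a, ha⟩ : V) * (⟨u, hUV u.2⟩ : V)⁻¹ ∈ f.ker := by
      rw [MonoidHom.mem_ker, map_mul, map_inv, hfix ⟨u, hUV u.2⟩ u.2, hu', mul_inv_cancel]
    have := mul_mem (Subgroup.mem_sup_left (T := f.ker.map V.subtype) u.2)
      (Subgroup.mem_sup_right (S := U) ⟨_, h3, rfl⟩)
    simpa using this
  · rw [SetLike.mem_coe, MonoidHom.mem_ker, hf]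
    exact Finset.prod_eq_one fun x _ => by
      rw [huniq 1 (one_mem U) _ (hNW (hN _ (x⁻¹).2 a ha)) _ (one_mul _), map_one]

/-- A subgroup of a group of exponent `p` has a complement. -/
theorem exists_complement [hp : Fact p.Prime] {V U : Subgroup A} (hUV : U ≤ V)
    (hexp : ∀ v ∈ V, v ^ p = 1) : ∃ W, W ≤ V ∧ U ⊓ W = ⊥ ∧ V ≤ U ⊔ W := by
  obtain ⟨W, -, hW⟩ := Finite.exists_le_maximal (p := fun W : Subgroup A => W ≤ V ∧ U ⊓ W = ⊥)
    (a := ⊥) ⟨bot_le, inf_bot_eq U⟩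
  refine ⟨W, hW.prop.1, hW.prop.2, fun v hv => ?_⟩
  by_contra hvn
  have h1 : U ⊓ (W ⊔ Subgroup.zpowers v) = ⊥ := by
    rw [eq_bot_iff]
    rintro u ⟨hu, hu'⟩
    obtain ⟨w, hw, z, hz, rfl⟩ := Subgroup.mem_sup.mp hu'
    obtain ⟨i, rfl⟩ := Subgroup.mem_zpowers_iff.mp hz
    have h2 : v ^ i ∈ U ⊔ W := by
      have := mul_mem (Subgroup.mem_sup_right (S := U) (inv_mem hw)) (Subgroup.mem_sup_left (T := W) hu)
      rwa [inv_mul_cancel_left] at this
    have h3 : v ^ i = 1 := by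
      by_contra hne
      apply hvn
      have hd : ¬ (p : ℤ) ∣ i := fun ⟨c, hc⟩ => hne (by rw [hc, zpow_mul, zpow_natCast, hexp v hv, one_zpow])
      obtain ⟨s, t, hst⟩ := ((Nat.prime_iff_prime_int.mp hp.out).irreducible.coprime_iff_not_dvd).mpr hd
      have h4 : v = (v ^ i) ^ t * (v ^ (p : ℤ)) ^ s := by
        rw [← zpow_mul, ← zpow_mul, ← zpow_add, show i * t + (p : ℤ) * s = 1 by linarith [hst], zpow_one]
      rw [h4, zpow_natCast, hexp v hv, one_zpow, mul_one]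
      exact zpow_mem h2 t
    rw [h3, mul_one] at hu ⊢
    exact hW.prop.2 ▸ Subgroup.mem_inf.mpr ⟨hu, hw⟩
  have h5 := hW.2 ⟨sup_le hW.prop.1 (Subgroup.zpowers_le.mpr hv), h1⟩ le_sup_left
  exact hvn (Subgroup.mem_sup_right (h5 (Subgroup.mem_sup_right (Subgroup.mem_zpowers v))))

/-- Decomposition from a proper invariant part of the socle inside the last power. -/
theorem decomp [hp : Fact p.Prime] (hA : IsPGroup p A) {X : Subgroup (MulAut A)}
    (hX : (Nat.card X).Coprime p) {e : ℕ} (he : ∀ a : A, a ^ p ^ e = 1) (he1 : 1 ≤ e)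
    {I : Subgroup A} (hI : Inv' X I) (hI1 : I ≠ ⊥) (hIexp : ∀ a ∈ I, a ^ p = 1)
    (hIpow : ∀ a ∈ I, ∃ b : A, b ^ p ^ (e - 1) = a) {a0 : A} (ha0 : a0 ^ p = 1) (ha0I : a0 ∉ I) :
    ∃ B C : Subgroup A, B ≠ ⊥ ∧ C ≠ ⊥ ∧ Inv' X B ∧ Inv' X C ∧ B ⊓ C = ⊥ ∧ B ⊔ C = ⊤ := by
  classical
  let Om : Subgroup A := (powMonoidHom p : A →* A).ker
  have hOm : ∀ a, a ∈ Om ↔ a ^ p = 1 := fun a => Iff.rfl
  have hOmI : Inv' X Om := fun x _ a ha => by
    rw [hOm] at ha ⊢; rw [← map_pow, ha, map_one]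
  obtain ⟨U, -, hU⟩ := Finite.exists_le_maximal (p := fun U : Subgroup A => Inv' X U ∧ I ⊓ U = ⊥)
    (a := ⊥) ⟨fun x _ b hb => by rw [Subgroup.mem_bot] at hb ⊢; rw [hb, map_one], inf_bot_eq I⟩
  -- the socle of `A ⧸ U` is the image of `I`
  let V : Subgroup A := U.comap (powMonoidHom p : A →* A)
  have hVmem : ∀ a, a ∈ V ↔ a ^ p ∈ U := fun a => Iff.rfl
  have hVI : Inv' X V := fun x hx a ha => by
    rw [hVmem] at ha ⊢; rw [← map_pow]; exact hU.prop.1 x hx _ ha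
  have hVle : V ≤ U ⊔ I := by
    let q := QuotientGroup.mk' U
    let Vb := V.map q
    let Ib := I.map q
    have hVbexp : ∀ v ∈ Vb, v ^ p = 1 := by
      rintro _ ⟨v, hv, rfl⟩
      rw [← map_pow]; exact (QuotientGroup.eq_one_iff _).mpr hv
    obtain ⟨Wb, hWV, hWinf, hWsup⟩ := exists_complement (U := Ib) (V := Vb)
      (Subgroup.map_mono fun a ha => by rw [hVmem, hIexp a ha]; exact one_mem U) hVbexp
    set W := Wb.comap q with hW
    have hqU : ∀ a ∈ U, q a = 1 := fun a ha => (QuotientGroup.eq_one_iff a).mpr ha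
    have hWinf' : I ⊓ W = ⊥ := by
      rw [eq_bot_iff]
      rintro a ⟨haI, haW⟩
      have : q a ∈ Ib ⊓ Wb := ⟨⟨a, haI, rfl⟩, haW⟩
      rw [hWinf, Subgroup.mem_bot] at this
      exact hU.prop.2 ▸ (⟨haI, (QuotientGroup.eq_one_iff a).mp this⟩ : a ∈ I ⊓ U)
    have hWle : W ≤ V := fun a ha => by
      obtain ⟨v, hv, hva⟩ := hWV ha
      have h7 : v⁻¹ * a ∈ U := QuotientGroup.eq.mp hva
      have h8 : v⁻¹ * a ∈ V := pow_mem h7 p
      simpa using mul_mem hv h8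
    have hUW : U ≤ W := fun a ha => by rw [hW, Subgroup.mem_comap, hqU a ha]; exact one_mem Wb
    have hsup' : V ≤ I ⊔ W := fun a ha => by
      obtain ⟨z, hz, w, hw, hzw⟩ := Subgroup.mem_sup.mp (hWsup ⟨a, ha, rfl⟩)
      obtain ⟨i, hi, rfl⟩ := hz
      refine Subgroup.mem_sup.mpr ⟨i, hi, i⁻¹ * a, ?_, mul_inv_cancel_left _ _⟩
      show q (i⁻¹ * a) ∈ Wb
      rwa [map_mul, map_inv, ← hzw, inv_mul_cancel_left]
    obtain ⟨W', h1, -, h3, h4, h5⟩ := exists_inv_complement hA hX hVI hI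
      (fun a ha => by rw [hVmem, hIexp a ha]; exact one_mem U) hWle hWinf' hsup'
    exact h4.trans (sup_le le_sup_right ((hU.2 ⟨h1, h3⟩ (h5 U hU.prop.1 hUW)).trans le_sup_left))
  -- a minimal subgroup whose last power is `I`
  let φ : A →* A := powMonoidHom (p ^ (e - 1))
  have hφ : ∀ a, φ a = a ^ p ^ (e - 1) := fun a => rfl
  obtain ⟨W, -, hW⟩ := Finite.exists_le_minimal (p := fun W : Subgroup A => W.map φ = I)
    (a := I.comap φ) (Subgroup.map_comap_eq_self fun a ha => hIpow a ha)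
  have hker : ∀ w ∈ W, φ w = 1 → ∃ y ∈ W, y ^ p = w := by
    intro y hy hy1
    by_contra hno
    set Wp := W.map (powMonoidHom p : A →* A)
    have hyp : y ∉ Wp := fun ⟨z, hz, hzy⟩ => hno ⟨z, hz, hzy⟩
    obtain ⟨W0, -, hW0⟩ := Finite.exists_le_maximal
      (p := fun W0 : Subgroup A => Wp ≤ W0 ∧ W0 ≤ W ∧ y ∉ W0) (a := Wp)
      ⟨le_rfl, by rintro _ ⟨z, hz, rfl⟩; exact pow_mem hz p, hyp⟩
    obtain ⟨hWp0, hW0W, hy0⟩ := hW0.prop
    have hgen : ∀ w ∈ W, w ∈ W0 ⊔ Subgroup.zpowers y := by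
      intro w hw
      by_cases hw0 : w ∈ W0
      · exact Subgroup.mem_sup_left hw0
      have h6 : y ∈ W0 ⊔ Subgroup.zpowers w := by
        by_contra h
        exact hw0 (hW0.2 ⟨hWp0.trans le_sup_left, sup_le hW0W (Subgroup.zpowers_le.mpr hw), h⟩
          le_sup_left (Subgroup.mem_sup_right (Subgroup.mem_zpowers w)))
      obtain ⟨w0, hw0', z, hz, hzy⟩ := Subgroup.mem_sup.mp h6
      obtain ⟨i, rfl⟩ := Subgroup.mem_zpowers_iff.mp hz
      have hwp : ∀ c : ℤ, (w ^ (p : ℤ)) ^ c ∈ W0 := fun c =>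
        zpow_mem (hWp0 ⟨w, hw, (zpow_natCast w p).symm⟩) c
      have hd : ¬ (p : ℤ) ∣ i := fun ⟨c, hc⟩ => hy0 (by
        rw [← hzy, hc, zpow_mul]
        exact mul_mem hw0' (hwp c))
      obtain ⟨s, t, hst⟩ := ((Nat.prime_iff_prime_int.mp hp.out).irreducible.coprime_iff_not_dvd).mpr hd
      have h4 : w = (w ^ i) ^ t * (w ^ (p : ℤ)) ^ s := by
        rw [← zpow_mul, ← zpow_mul, ← zpow_add, show i * t + (p : ℤ) * s = 1 by linarith [hst], zpow_one]
      have h5 : w ^ i ∈ W0 ⊔ Subgroup.zpowers y := by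
        rw [show w ^ i = w0⁻¹ * y by rw [← hzy, inv_mul_cancel_left]]
        exact mul_mem (Subgroup.mem_sup_left (inv_mem hw0')) (Subgroup.mem_sup_right (Subgroup.mem_zpowers y))
      rw [h4]
      exact mul_mem (zpow_mem h5 t) (Subgroup.mem_sup_left (hwp s))
    have hmap : W0.map φ = I := by
      refine le_antisymm ((Subgroup.map_mono hW0W).trans hW.prop.le) fun i hi => ?_
      obtain ⟨w, hw, rfl⟩ := hW.prop.ge hi
      obtain ⟨a, ha, b, hb, hab⟩ := Subgroup.mem_sup.mp (hgen w hw)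
      obtain ⟨j, rfl⟩ := Subgroup.mem_zpowers_iff.mp hb
      exact ⟨a, ha, by rw [← hab, map_mul, map_zpow, hy1, one_zpow, mul_one]⟩
    exact hy0 (hW.2 hmap hW0W hy)
  have hinf : U ⊓ W = ⊥ := by
    rw [eq_bot_iff]
    rintro x ⟨hxU, hxW⟩
    have hall : ∀ j ≤ e, ∃ y ∈ W, y ^ p ^ j = x := by
      intro j
      induction j with
      | zero => exact fun _ => ⟨x, hxW, by rw [pow_zero, pow_one]⟩
      | succ j ih =>
        intro hj
        obtain ⟨y, hy, hyx⟩ := ih (by omega)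
        have h1 : φ y = 1 := by
          have h2 : φ y ∈ U := by
            rw [hφ, show p ^ (e - 1) = p ^ j * p ^ (e - 1 - j) by rw [← pow_add]; congr 1; omega,
              pow_mul, hyx]
            exact pow_mem hxU _
          have h3 : φ y ∈ I ⊓ U := ⟨hW.prop.le ⟨y, hy, rfl⟩, h2⟩
          rwa [hU.prop.2, Subgroup.mem_bot] at h3
        obtain ⟨z, hz, hzy⟩ := hker y hy h1
        exact ⟨z, hz, by rw [pow_succ', pow_mul, hzy, hyx]⟩
    obtain ⟨y, -, hyx⟩ := hall e le_rfl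
    exact Subgroup.mem_bot.mpr (hyx ▸ he y)
  have hgen : ∀ k ≤ e, ∀ a : A, a ^ p ^ k ∈ U → a ∈ U ⊔ W := by
    intro k
    induction k with
    | zero => intro _ a ha; rw [pow_zero, pow_one] at ha; exact Subgroup.mem_sup_left ha
    | succ k ih =>
      intro hk a ha
      have hav : a ^ p ^ k ∈ V := by rw [hVmem, ← pow_mul, ← pow_succ]; exact ha
      obtain ⟨u, hu, i, hi, hui⟩ := Subgroup.mem_sup.mp (hVle hav)
      obtain ⟨w, hw, hwi⟩ := hW.prop.ge hi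
      set c := w ^ p ^ (e - 1 - k)
      have h1 : (a * c⁻¹) ^ p ^ k = u := by
        rw [mul_pow, inv_pow, ← hui, ← pow_mul,
          show p ^ (e - 1 - k) * p ^ k = p ^ (e - 1) by rw [← pow_add]; congr 1; omega,
          ← hφ, hwi, mul_inv_cancel_right]
      have := mul_mem (ih (by omega) _ (h1.symm ▸ hu)) (Subgroup.mem_sup_right (pow_mem hw _ : c ∈ W))
      rwa [inv_mul_cancel_right] at this
  obtain ⟨C, hC, -, hCinf, hCsup, -⟩ := exists_inv_complement hA hX (V := ⊤) (U := U) (W := W)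
    (fun _ _ _ _ => Subgroup.mem_top _) hU.prop.1 le_top le_top hinf
    (fun a _ => hgen e le_rfl a (by rw [he]; exact one_mem U))
  refine ⟨U, C, fun h => ha0I ?_, fun h => hI1 ?_, hU.prop.1, hC, hCinf, top_le_iff.mp hCsup⟩
  · have h1 : a0 ∈ U ⊔ I := hVle (by rw [hVmem, ha0]; exact one_mem U)
    rwa [h, bot_sup_eq] at h1
  · rw [h, sup_bot_eq, top_le_iff] at hCsup
    have h2 := hU.prop.2
    rwa [hCsup, inf_top_eq] at h2

theorem result {A : Type*} [CommGroup A] [Finite A] {p : ℕ} [Fact p.Prime] (hA : IsPGroup p A) (X : Subgroup (MulAut A)) (hX : (Nat.card X).Coprime p) : ((¬ ∃ B C : Subgroup A, B ≠ ⊥ ∧ C ≠ ⊥ ∧ (∀ x ∈ X, B.map x.toMonoidHom = B) ∧ (∀ x ∈ X, C.map x.toMonoidHom = C) ∧ B ⊓ C = ⊥ ∧ B ⊔ C = ⊤) ↔ (∀ B : Subgroup A, (∀ x ∈ X, B.map x.toMonoidHom = B) → ∃ i : ℕ, ∀ a : A, a ∈ B ↔ a ^ p ^ i = 1)) ∧ ((∀ B : Subgroup A, (∀ x ∈ X, B.map x.toMonoidHom = B) → ∃ i : ℕ, ∀ a : A, a ∈ B ↔ a ^ p ^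 i = 1) ↔ (∀ B : Subgroup A, (∀ x ∈ X, B.map x.toMonoidHom = B) → (∀ b ∈ B, b ^ p = 1) → B = ⊥ ∨ ∀ a : A, a ∈ B ↔ a ^ p = 1)) := by
  classical
  have hp : p.Prime := Fact.out
  simp only [← inv'_iff]
  let Om : Subgroup A := (powMonoidHom p : A →* A).ker
  have hIII : (∀ B : Subgroup A, Inv' X B → (∀ b ∈ B, b ^ p = 1) → B = ⊥ ∨ ∀ a : A, a ∈ B ↔ a ^ p = 1) →
      ∀ B : Subgroup A, Inv' X B → ∃ i : ℕ, ∀ a : A, a ∈ B ↔ a ^ p ^ i = 1 := by
    intro h B hB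
    obtain ⟨n, hn⟩ := IsPGroup.iff_card.mp hA
    have hex : ∃ i, ∀ b ∈ B, b ^ p ^ i = 1 := ⟨n, fun b _ => by rw [← hn]; exact pow_card_eq_one'⟩
    refine ⟨Nat.find hex, fun a => ⟨Nat.find_spec hex a, ?_⟩⟩
    set i := Nat.find hex with hi
    have key : ∀ k ≤ i, ∀ a : A, a ^ p ^ k = 1 → a ∈ B := by
      intro k
      induction k with
      | zero => intro _ a ha; rw [pow_zero, pow_one] at ha; exact ha ▸ one_mem B
      | succ k ih =>
        intro hk a ha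
        have hne : B.map (powMonoidHom (p ^ (i - 1)) : A →* A) ≠ ⊥ := fun e =>
          Nat.find_min hex (show i - 1 < i by omega) fun b hb => Subgroup.mem_bot.mp (e ▸ ⟨b, hb, rfl⟩)
        rcases h (B.map (powMonoidHom (p ^ (i - 1)) : A →* A)) (fun x hx c hc => by
            obtain ⟨b, hb, rfl⟩ := hc
            exact ⟨x b, hB x hx b hb, (map_pow x b _).symm⟩) (by
            rintro _ ⟨b, hb, rfl⟩
            show (b ^ p ^ (i - 1)) ^ p = 1
            rw [← pow_mul, ← pow_succ, show i - 1 + 1 = i by omega]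
            exact Nat.find_spec hex b hb) with e | e
        · exact absurd e hne
        obtain ⟨b, hb, hbe⟩ := (e (a ^ p ^ k)).mpr (by rw [← pow_mul, ← pow_succ]; exact ha)
        have hbe' : b ^ p ^ (i - 1) = a ^ p ^ k := hbe
        set c := b ^ p ^ (i - 1 - k)
        have h1 : (a * c⁻¹) ^ p ^ k = 1 := by
          rw [mul_pow, inv_pow, ← pow_mul,
            show p ^ (i - 1 - k) * p ^ k = p ^ (i - 1) by rw [← pow_add]; congr 1; omega,
            hbe', mul_inv_cancel]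
        have := mul_mem (ih (by omega) _ h1) (pow_mem hb _ : c ∈ B)
        rwa [inv_mul_cancel_right] at this
    exact key i le_rfl a
  have hII : (∀ B : Subgroup A, Inv' X B → ∃ i : ℕ, ∀ a : A, a ∈ B ↔ a ^ p ^ i = 1) →
      ∀ B : Subgroup A, Inv' X B → (∀ b ∈ B, b ^ p = 1) → B = ⊥ ∨ ∀ a : A, a ∈ B ↔ a ^ p = 1 := by
    intro h B hB hexp
    obtain ⟨i, hi⟩ := h B hB
    rcases i with _ | i
    · left; rw [eq_bot_iff]; intro b hb
      simpa using (hi b).mp hb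
    · refine Or.inr fun a => ⟨hexp a, fun ha => (hi a).mpr ?_⟩
      rw [pow_succ', pow_mul, ha, one_pow]
  refine ⟨⟨fun hI => hIII fun B hB hexp => ?_, fun h => ?_⟩, ⟨hII, hIII⟩⟩
  · by_contra hne
    push Not at hne
    obtain ⟨hB1, a1, ha1⟩ := hne
    have ha1' : a1 ∉ B ∧ a1 ^ p = 1 := by
      rcases ha1 with ⟨h1, h2⟩ | ⟨h1, h2⟩
      · exact absurd (hexp a1 h1) h2
      · exact ⟨h1, h2⟩
    obtain ⟨n, hn⟩ := IsPGroup.iff_card.mp hA
    have hex : ∃ i, ∀ a : A, a ^ p ^ i = 1 := ⟨n, fun a => by rw [← hn]; exact pow_card_eq_one'⟩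
    set e := Nat.find hex with he
    have he1 : 1 ≤ e := by
      by_contra h0
      have := Nat.find_spec hex a1
      rw [← he, show e = 0 by omega, pow_zero, pow_one] at this
      exact ha1'.1 (this ▸ one_mem B)
    let I0 := (powMonoidHom (p ^ (e - 1)) : A →* A).range
    have hI0 : Inv' X I0 := fun x _ c hc => by
      obtain ⟨b, rfl⟩ := hc; exact ⟨x b, (map_pow x b _).symm⟩
    have hI0exp : ∀ a ∈ I0, a ^ p = 1 := by
      rintro _ ⟨b, rfl⟩
      show (b ^ p ^ (e - 1)) ^ p = 1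
      rw [← pow_mul, ← pow_succ, show e - 1 + 1 = e by omega]; exact Nat.find_spec hex b
    have hI01 : I0 ≠ ⊥ := fun h0 => Nat.find_min hex (show e - 1 < e by omega) fun b =>
      Subgroup.mem_bot.mp (h0 ▸ ⟨b, rfl⟩)
    apply hI
    by_cases hall : ∀ a : A, a ^ p = 1 → a ∈ I0
    · exact decomp hA hX (Nat.find_spec hex) he1 hB hB1 hexp
        (fun a ha => hall a (hexp a ha)) ha1'.2 ha1'.1
    · push Not at hall
      obtain ⟨a0, ha0, ha0'⟩ := hall
      exact decomp hA hX (Nat.find_spec hex) he1 hI0 hI01 hI0exp (fun a ha => ha) ha0 ha0'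
  · rintro ⟨B, C, hB1, hC1, hB, hC, hBC, -⟩
    have hBo : Inv' X (B ⊓ Om) := fun x hx b hb => ⟨hB x hx b hb.1, by
      show x b ^ p = 1
      rw [← map_pow, show b ^ p = 1 from hb.2, map_one]⟩
    have horder : ∀ D : Subgroup A, D ≠ ⊥ → ∃ d ∈ D, d ≠ 1 ∧ d ^ p = 1 := by
      intro D hD
      haveI : Nontrivial D := (Subgroup.nontrivial_iff_ne_bot D).mpr hD
      obtain ⟨k, hk⟩ := IsPGroup.iff_card.mp (hA.to_subgroup D)
      have hdvd : p ∣ Nat.card D := by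
        rcases k with _ | k
        · have := Finite.one_lt_card (α := D); rw [hk] at this; simp at this
        · exact hk ▸ dvd_pow_self p k.succ_ne_zero
      obtain ⟨d, hd⟩ := exists_prime_orderOf_dvd_card' p hdvd
      rw [← Subgroup.orderOf_coe] at hd
      exact ⟨d, d.2, fun e => by rw [e, orderOf_one] at hd; exact hp.ne_one hd.symm,
        hd ▸ pow_orderOf_eq_one (d : A)⟩
    obtain ⟨b, hb, hb1, hbp⟩ := horder B hB1
    obtain ⟨c, hc, hc1, hcp⟩ := horder C hC1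
    rcases hII h _ hBo (fun z hz => hz.2) with e | e
    · have hmem : b ∈ B ⊓ Om := ⟨hb, hbp⟩
      rw [e, Subgroup.mem_bot] at hmem; exact hb1 hmem
    · have hcB : c ∈ B ⊓ C := ⟨((e c).mpr hcp).1, hc⟩
      rw [hBC, Subgroup.mem_bot] at hcB
      exact hc1 hcB
end Cfsg.Agent.S3775
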