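import Cfsg.Statements.S3776
import Cfsg.Agent.Lib.PGroup.SolvTrans.Main

set_option autoImplicit false
open Cfsg

namespace Cfsg.Agent.S3776

/-- Let G be a finite non-abelian 2-group with more than one involution admitting a solvable group of automorphisms that permutes its involutions transitively. Then the derived subgroup, the Frattini subgroup and the centre of G coincide and consist exactly of the elements x with x² = 1. -/
theorem result {G : Type*} [Group G] [Finite G] (hG : IsPGroup 2 G) (hna : ¬ IsMulCommutative G) (htwo : ∃ x y : G, x ≠ y ∧ x ≠ 1 ∧ x ^ 2 = 1 ∧ y ≠ 1 ∧ y ^ 2 = 1) (hY : ∃ Y : Subgroup (MulAut G), Group.IsSolvable Y ∧ ∀ x y : G, x ≠ 1 → x ^ 2 = 1 → y ≠ 1 → y ^ 2 = 1 → ∃ a ∈ Y, a x = y) : commutator G = frattini G ∧ frattini G = Subgroup.center G ∧ ∀ x : G, x ∈ Subgroup.center G ↔ x ^ 2 = 1 := by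
  obtain ⟨Y, hYs, hYt⟩ := hY
  obtain ⟨x, y, hxy, hx, hx2, hy, hy2⟩ := htwo
  simp only [pow_two] at hx2 hy2 hYt
  refine CfsgLib.SolvTrans.special hG ?_ ⟨x, y, hxy, hx, hx2, hy, hy2⟩ Y hYs hYt
  by_contra h
  push Not at h
  exact hna ⟨⟨h⟩⟩

end Cfsg.Agent.S3776
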